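import Groth.Statements.S1386
import Groth.Agent.FibFlat.Local
import Groth.Agent.ConsPropLib.PointwiseProps
import Groth.Agent.AlgSpPts.Sep

set_option autoImplicit false
universe u
open FlatMor

namespace Groth.Agent.S1386

open AlgebraicGeometry CategoryTheory CategoryTheory.Limits IsLocalRing Groth.Agent.FibFlat

theorem bijective_sm {X Y : Scheme.{u}} (j : X ⟶ Y) [IsOpenImmersion j] (x : X) (y : Y) (h : j x = y) :
    Function.Bijective (sm j x y h) := by
  subst h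
  rw [sm_self]
  exact ConcreteCategory.bijective_of_isIso (j.stalkMap x)

theorem ker_le_of_bijective {A B : Type u} [CommRing A] [CommRing B] (a : A →+* B) (ha : Function.Bijective a)
    (I : Ideal A) : RingHom.ker a ≤ I := fun z hz => by
  rw [show z = 0 from ha.1 ((RingHom.mem_ker.1 hz).trans (map_zero a).symm)]
  exact zero_mem _

theorem flat_transfer {X Y X' Y' : Scheme.{u}} {f : X ⟶ Y} {f' : X' ⟶ Y'} (jX : X' ⟶ X) (jY : Y' ⟶ Y)
    [IsOpenImmersion jX] [IsOpenImmersion jY] (e : f' ≫ jY = jX ≫ f) (z : X') :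
    (f'.stalkMap z).hom.Flat ↔ (f.stalkMap (jX z)).hom.Flat := by
  have hy : f (jX z) = jY (f' z) := by rw [← Scheme.Hom.comp_apply, ← e, Scheme.Hom.comp_apply]
  rw [← sm_flat_iff f' z (f' z) rfl, ← sm_flat_iff f (jX z) _ hy]
  refine (flat_iff_of_bijective_square (sm f (jX z) (jY (f' z)) hy) (sm f' z (f' z) rfl)
    (sm jY (f' z) (jY (f' z)) rfl) (sm jX z (jX z) rfl) (bijective_sm _ _ _ _) (bijective_sm _ _ _ _) ?_).symm
  exact (sm_comp f' jY z (f' z) _ rfl rfl).symm.trans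
    (sm_factor jX f (f' ≫ jY) e z (jX z) _ rfl hy (Scheme.Hom.comp_apply _ _ _))

theorem ff_transfer {X Y S X' Y' S' : Scheme.{u}} {f : X ⟶ Y} {g : Y ⟶ S} {f' : X' ⟶ Y'} {g' : Y' ⟶ S'}
    (jX : X' ⟶ X) (jY : Y' ⟶ Y) (jS : S' ⟶ S) [IsOpenImmersion jX] [IsOpenImmersion jY] [IsOpenImmersion jS]
    (ef : f' ≫ jY = jX ≫ f) (eg : g' ≫ jS = jY ≫ g) (z : X') :
    FF f g (jX z) ↔ FF f' g' z := by
  have hy : f (jX z) = jY (f' z) := by rw [← Scheme.Hom.comp_apply, ← ef, Scheme.Hom.comp_apply]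
  have hs : g (jY (f' z)) = jS (g' (f' z)) := by rw [← Scheme.Hom.comp_apply, ← eg, Scheme.Hom.comp_apply]
  rw [ff_iff f g (jX z) _ _ hy hs, ff_iff f' g' z _ _ rfl rfl]
  refine ffl_congr (sm jS (g' (f' z)) _ rfl) (sm jY (f' z) _ rfl) (sm jX z _ rfl)
    (bijective_sm _ _ _ _).2 (bijective_sm _ _ _ _).2 (bijective_sm _ _ _ _).2 ?_ ?_
    (ker_le_of_bijective _ (bijective_sm _ _ _ _) _) (ker_le_of_bijective _ (bijective_sm _ _ _ _) _)
  · exact (sm_comp g' jS (f' z) _ _ rfl rfl).symm.trans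
      (sm_factor jY g (g' ≫ jS) eg (f' z) _ _ rfl hs (Scheme.Hom.comp_apply _ _ _))
  · exact (sm_comp f' jY z _ _ rfl rfl).symm.trans
      (sm_factor jX f (f' ≫ jY) ef z _ _ rfl hy (Scheme.Hom.comp_apply _ _ _))

theorem ff_of_flat {X Y S : Scheme.{u}} (f : X ⟶ Y) (g : Y ⟶ S) [LocallyOfFinitePresentation f] (x : X)
    (hf : (f.stalkMap x).hom.Flat) : FF f g x := by
  rw [← fiberMap_flat_iff]
  refine flat_stalk_of_isPullback (ConsPropLib.isPullback_fiberMap f g _) _ ?_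
  rw [show (f ≫ g).fiberι (g (f x)) ((f ≫ g).asFiber x) = x from (f ≫ g).fiberι_asFiber x]
  exact hf

theorem flat_of_point_eq {Y S : Scheme.{u}} (g : Y ⟶ S) {a b : Y} (e : a = b) (h : (g.stalkMap a).hom.Flat) :
    (g.stalkMap b).hom.Flat := by
  subst e
  exact h

theorem exists_nhd {X Y S : Scheme.{u}} (f : X ⟶ Y) (g : Y ⟶ S) [LocallyOfFinitePresentation (f ≫ g)]
    [LocallyOfFiniteType g] (x : X) (hflat : ((f ≫ g).stalkMap x).hom.Flat) (hFF : FF f g x) :
    ∃ W : Set X, IsOpen W ∧ x ∈ W ∧ ∀ z ∈ W, (g.stalkMap (f z)).hom.Flat ∧ (f.stalkMap z).hom.Flat := by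
  obtain ⟨V, hV, hsV, -⟩ := exists_isAffineOpen_mem_and_subset (U := (⊤ : S.Opens)) (x := g (f x)) trivial
  obtain ⟨U, hU, hyU, hUV⟩ := exists_isAffineOpen_mem_and_subset (U := g ⁻¹ᵁ V) (x := f x) hsV
  obtain ⟨U', hU', hxU', hsub⟩ := exists_isAffineOpen_mem_and_subset
    (U := f ⁻¹ᵁ U ⊓ (⟨_, FlatLocus.isOpen_flat_locus (f ≫ g)⟩ : X.Opens)) (x := x) ⟨hyU, hflat⟩
  have hU'U : U' ≤ f ⁻¹ᵁ U := fun z hz => (hsub hz).1
  have hU'V : U' ≤ (f ≫ g) ⁻¹ᵁ V := fun z hz => hUV (hU'U hz)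
  let φ := f.appLE U U' hU'U
  let ψ := g.appLE V U hUV
  let := ψ.hom.toAlgebra
  let := (φ.hom.comp ψ.hom).toAlgebra
  let φA : Γ(Y, U) →ₐ[Γ(S, V)] Γ(X, U') := ⟨φ.hom, fun _ => rfl⟩
  have ef : Spec.map φ ≫ hU.fromSpec = hU'.fromSpec ≫ f := hU.SpecMap_appLE_fromSpec f hU' hU'U
  have eg : Spec.map ψ ≫ hV.fromSpec = hU.fromSpec ≫ g := hV.SpecMap_appLE_fromSpec g hU hUV
  have he : φ.hom.comp ψ.hom = ((f ≫ g).appLE V U' hU'V).hom := by
    rw [← CommRingCat.hom_comp]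
    exact congrArg CommRingCat.Hom.hom (Scheme.Hom.appLE_comp_appLE f g V U U' hUV hU'U)
  have : Algebra.FiniteType Γ(S, V) Γ(Y, U) := g.finiteType_appLE hV hU hUV
  have : Algebra.FinitePresentation Γ(S, V) Γ(X, U') := by
    have h : (φ.hom.comp ψ.hom).FinitePresentation := he ▸ (f ≫ g).finitePresentation_appLE hV hU' hU'V
    exact h
  have efg : Spec.map (ψ ≫ φ) ≫ hV.fromSpec = hU'.fromSpec ≫ f ≫ g := by
    rw [Spec.map_comp, Category.assoc, eg, reassoc_of% ef]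
  have hfl : (ψ ≫ φ).hom.Flat := by
    rw [← Flat.SpecMap_iff]
    refine Flat.of_stalkMap _ fun z => (flat_transfer hU'.fromSpec hV.fromSpec efg z).2 ?_
    have : hU'.fromSpec z ∈ U' := by
      have := Set.mem_range_self (f := hU'.fromSpec) z
      rwa [hU'.range_fromSpec] at this
    exact (hsub this).2
  have : Module.Flat Γ(S, V) Γ(X, U') := hfl
  obtain ⟨z₀, rfl⟩ : x ∈ Set.range hU'.fromSpec := by rw [hU'.range_fromSpec]; exact hxU'
  obtain ⟨W, hW, hz₀, hgood⟩ := affine_main φA z₀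
    ((ff_transfer (f' := Spec.map φ) (g' := Spec.map ψ) hU'.fromSpec hU.fromSpec hV.fromSpec ef eg z₀).1 hFF)
  refine ⟨hU'.fromSpec '' W, hU'.fromSpec.isOpenEmbedding.isOpenMap W hW, ⟨z₀, hz₀, rfl⟩, ?_⟩
  rintro _ ⟨z, hz, rfl⟩
  obtain ⟨h1, h2⟩ := hgood z hz
  refine ⟨?_, (flat_transfer hU'.fromSpec hU.fromSpec ef z).1 h2⟩
  have h3 := (flat_transfer hU.fromSpec hV.fromSpec eg (Spec.map φ z)).1 h1
  have e : hU.fromSpec (Spec.map φ z) = f (hU'.fromSpec z) := by
    rw [← Scheme.Hom.comp_apply, ef, Scheme.Hom.comp_apply]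
  exact flat_of_point_eq g e h3

open AlgebraicGeometry CategoryTheory Limits in
/-- Fibrewise flatness criterion (critère de platitude par fibres), for the structure sheaf: let f : X →
Y and g : Y → S be morphisms of schemes with X locally of finite presentation over S (via g ∘ f) and
Y locally of finite type over S. For a point x of X with images y = f(x) and s = g(y) the following
are equivalent: (1) X → S is flat at x and the induced morphism of fibres X_s → Y_s is flat at x;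
(2) Y → S is flat at y and f is flat at x. Moreover the set of points x at which (2) holds is open
in X. The published statement treats a finitely presented quasi-coherent O_X-module; here the module
is O_X. -/
theorem result {X Y S : Scheme.{u}} (f : X ⟶ Y) (g : Y ⟶ S) [LocallyOfFinitePresentation (f ≫ g)] [LocallyOfFiniteType g] :
    (∀ x : X, ((f ≫ g).stalkMap x).hom.Flat ∧ ((MoreMor.fiberMap f g (g (f x))).stalkMap ((f ≫ g).asFiber x)).hom.Flat ↔
        (g.stalkMap (f x)).hom.Flat ∧ (f.stalkMap x).hom.Flat) ∧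
      IsOpen {x : ↑X | (g.stalkMap (f x)).hom.Flat ∧ (f.stalkMap x).hom.Flat} := by
  have : LocallyOfFinitePresentation f := AlgSpPts.locallyOfFinitePresentation_of_comp f g
  have hcomp : ∀ x, (g.stalkMap (f x)).hom.Flat → (f.stalkMap x).hom.Flat → ((f ≫ g).stalkMap x).hom.Flat :=
    fun x h1 h2 => by rw [Scheme.Hom.stalkMap_comp]; exact h1.comp h2
  refine ⟨fun x => ⟨fun h => ?_, fun h => ⟨hcomp x h.1 h.2, (fiberMap_flat_iff f g x).2 (ff_of_flat f g x h.2)⟩⟩, ?_⟩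
  · obtain ⟨W, -, hxW, hW⟩ := exists_nhd f g x h.1 ((fiberMap_flat_iff f g x).1 h.2)
    exact hW x hxW
  · rw [isOpen_iff_forall_mem_open]
    intro x hx
    obtain ⟨W, hWo, hxW, hW⟩ := exists_nhd f g x (hcomp x hx.1 hx.2) (ff_of_flat f g x hx.2)
    exact ⟨W, hW, hWo, hxW⟩

end Groth.Agent.S1386
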