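import Groth.Statements.S2156
import Groth.Agent.MorLib.SmoothLocus

set_option autoImplicit false
universe u
open CategoryTheory AlgebraicGeometry
open Mor

namespace Groth.Agent.S2156

open Groth.Agent.MorLib in
theorem flat_of_mem {X S : Scheme.{u}} (f : X ⟶ S) [LocallyOfFinitePresentation f] (x : X)
    (hx : x ∈ f.smoothLocus) : (f.stalkMap x).hom.Flat := by
  haveI : Smooth (f.smoothLocus.ι ≫ f) := by
    rw [← Scheme.Hom.smoothLocus_eq_top_iff, ← Scheme.Hom.preimage_smoothLocus_eq]
    exact Scheme.Opens.ι_preimage_self f.smoothLocus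
  let w : (f.smoothLocus : Scheme.{u}) := ⟨x, hx⟩
  have h := Flat.stalkMap (f.smoothLocus.ι ≫ f) w
  rw [Scheme.Hom.stalkMap_comp] at h
  exact (RingHom.Flat.respectsIso.cancel_right_isIso _ (f.smoothLocus.ι.stalkMap w)).mp h


/-- Let `f : X → S` be locally of finite presentation and `x ∈ X` with image `s`. Then `f` is smooth at
`x` if and only if `O_{S,s} → O_{X,x}` is flat and the fibre `X_s → Spec κ(s)` is smooth at the
point corresponding to `x`. -/
theorem result {X S : Scheme.{u}} (f : X ⟶ S) [LocallyOfFinitePresentation f] (x : X)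
    [LocallyOfFinitePresentation (f.fiberToSpecResidueField (f.base x))] :
    x ∈ f.smoothLocus ↔
      (f.stalkMap x).hom.Flat ∧ f.asFiber x ∈ (f.fiberToSpecResidueField (f.base x)).smoothLocus := by
  have hc : IsPullback (f.fiberι (f.base x)) (f.fiberToSpecResidueField (f.base x)) f
      (S.fromSpecResidueField (f.base x)) := IsPullback.of_hasPullback _ _
  have hx : f.fiberι (f.base x) (f.asFiber x) = x := f.fiberι_asFiber x
  constructor
  · intro h
    refine ⟨flat_of_mem f x h, Groth.Agent.MorLib.SmoothLoc.preimage_le f _ _ _ hc ?_⟩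
    show f.fiberι (f.base x) (f.asFiber x) ∈ f.smoothLocus
    rw [hx]; exact h
  · rintro ⟨h1, h2⟩
    have := Groth.Agent.MorLib.SmoothLoc.sm_of_fiber f (K := S.residueField (f.base x))
      (S.fromSpecResidueField (f.base x)) (f.fiberToSpecResidueField (f.base x))
      (f.fiberι (f.base x)) hc (f.asFiber x) (by rw [hx]; exact h1) h2
    exact hx ▸ this

end Groth.Agent.S2156
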