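import Groth.Statements.S2155
import Groth.Agent.S2156
import Groth.Agent.MorLib.SmoothLocus

set_option autoImplicit false
universe u
open CategoryTheory AlgebraicGeometry
open Mor

namespace Groth.Agent.S2155

/-- Consider a cartesian square with `f : X → S` locally of finite presentation, base change `g : S' →
S`, and `f' : X' → S'`, `g' : X' → X` the projections. If `f` is flat, or if `g` is flat, then the
open set of points where `f'` is smooth is the preimage under `g'` of the open set of points where
`f` is smooth. -/
theorem result {X S X' S' : Scheme.{u}} (f : X ⟶ S) (g : S' ⟶ S) (f' : X' ⟶ S') (g' : X' ⟶ X)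
    (h : IsPullback g' f' f g) [LocallyOfFinitePresentation f] [LocallyOfFinitePresentation f'] (hflat : Flat f ∨ Flat g) :
    f'.smoothLocus = g' ⁻¹ᵁ f.smoothLocus := by
  refine le_antisymm (fun y hy => ?_) (Groth.Agent.MorLib.SmoothLoc.preimage_le f g f' g' h)
  rcases hflat with hf | hg
  · let s' := f' y
    let t : Spec (S'.residueField s') ⟶ S := S'.fromSpecResidueField s' ≫ g
    haveI : LocallyOfFinitePresentation (f'.fiberToSpecResidueField s') :=
      MorphismProperty.pullback_snd _ _ inferInstance
    haveI : LocallyOfFinitePresentation (f'.fiberToSpecResidueField (f' y)) := ‹_›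
    have hc : IsPullback (f'.fiberι s' ≫ g') (f'.fiberToSpecResidueField s') f t :=
      (IsPullback.of_hasPullback f' (S'.fromSpecResidueField s')).paste_horiz h
    have h1 : f'.asFiber y ∈ (f'.fiberToSpecResidueField s').smoothLocus :=
      ((Groth.Agent.S2156.result f' y).mp hy).2
    have hpt : (f'.fiberι s' ≫ g') (f'.asFiber y) = g' y := by
      rw [Scheme.Hom.comp_apply, f'.fiberι_asFiber y]
    have := Groth.Agent.MorLib.SmoothLoc.sm_of_fiber f (K := S'.residueField s') t
      (f'.fiberToSpecResidueField s') (f'.fiberι s' ≫ g') hc (f'.asFiber y)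
      (Flat.stalkMap f _) h1
    rw [hpt] at this
    exact this
  · exact Groth.Agent.MorLib.SmoothLoc.sm_descend f g f' g' h y hy

end Groth.Agent.S2155
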