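import Groth.Statements.S9389
import Mathlib
import Groth.Agent.FBaseLib.Basic

set_option autoImplicit false
universe u
open QFin

namespace Groth.Agent.S9389

open AlgebraicGeometry CategoryTheory Limits

set_option backward.isDefEq.respectTransparency false
set_option backward.isDefEq.respectTransparency.types false

theorem singleton_eq {X S : Scheme.{u}} (f : X ⟶ S) (x : X) :
    ({f.asFiber x} : Set ↑(f.fiber (f.base x))) = {z | f.fiberι _ z = x} := by
  ext z
  exact ⟨fun h => h ▸ f.fiberι_asFiber x, fun h => (f.fiberι _).isEmbedding.injective (h.trans (f.fiberι_asFiber x).symm)⟩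

theorem qf_of_isOpen {X S : Scheme.{u}} (f : X ⟶ S) [LocallyOfFiniteType f] (x : X) {s : S}
    (hs : f.base x = s) (h : IsOpen {z : ↑(f.fiber s) | f.fiberι s z = x}) : f.QuasiFiniteAt x := by
  subst hs
  rw [Scheme.Hom.quasiFiniteAt_iff_isOpen_singleton_asFiber, singleton_eq]
  exact h


open AlgebraicGeometry CategoryTheory in
/-- For f : X → S locally of finite type and a cartesian square with base change f' : X' → S', g' : X' →
X, the quasi-finite locus of f' is the inverse image under g' of the quasi-finite locus of f. -/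
theorem result {X S X' S' : Scheme.{u}} (f : X ⟶ S) [LocallyOfFiniteType f] (g : S' ⟶ S)
    (g' : X' ⟶ X) (f' : X' ⟶ S') (hsq : IsPullback g' f' f g) :
    {x' : ↑X' | f'.QuasiFiniteAt x'} = g'.base ⁻¹' {x : ↑X | f.QuasiFiniteAt x} := by
  have hf' : LocallyOfFiniteType f' := MorphismProperty.of_isPullback (P := @LocallyOfFiniteType) hsq ‹_›
  refine Set.ext fun x' => ⟨fun hx' => ?_, fun hx' => ?_⟩
  · let s' := f'.base x'
    let φ : f'.fiber s' ⟶ f.fiber (g.base s') :=
      pullback.map _ _ _ _ g' (Spec.map (g.residueFieldMap s')) g hsq.w.symm (by simp)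
    have hP : IsPullback φ (f'.fiberToSpecResidueField s') (f.fiberToSpecResidueField (g.base s'))
        (Spec.map (g.residueFieldMap s')) := isPullback_fiberToSpecResidueField_of_isPullback hsq s'
    have : UniversallyOpen (Spec.map (g.residueFieldMap s')) :=
      FBaseLib.universallyOpen_spec_map_field (g.residueFieldMap s').hom
    have hφo : UniversallyOpen φ := MorphismProperty.of_isPullback (P := @UniversallyOpen) hP.flip ‹_›
    have hφι : φ ≫ f.fiberι (g.base s') = f'.fiberι s' ≫ g' := pullback.lift_fst _ _ _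
    have hs : f.base (g'.base x') = g.base s' := by
      rw [← Scheme.Hom.comp_apply, hsq.w]; rfl
    refine qf_of_isOpen f _ hs ?_
    have key : φ '' {f'.asFiber x'} = {z | f.fiberι (g.base s') z = g'.base x'} := by
      rw [Set.image_singleton]
      have h0 : f.fiberι (g.base s') (φ (f'.asFiber x')) = g'.base x' := by
        rw [← Scheme.Hom.comp_apply, hφι, Scheme.Hom.comp_apply, f'.fiberι_asFiber]
      ext z
      exact ⟨fun h => h ▸ h0, fun h => (f.fiberι _).isEmbedding.injective (h.trans h0.symm)⟩
    rw [← key]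
    exact φ.isOpenMap _ (Scheme.Hom.quasiFiniteAt_iff_isOpen_singleton_asFiber.1 hx')
  · let U := f.quasiFiniteLocus
    have h2 : IsPullback (g' ∣_ U) ((g' ⁻¹ᵁ U).ι ≫ f') (U.ι ≫ f) g :=
      (isPullback_morphismRestrict g' U).paste_vert hsq
    have : LocallyQuasiFinite ((g' ⁻¹ᵁ U).ι ≫ f') := MorphismProperty.of_isPullback h2 inferInstance
    exact Scheme.Hom.quasiFiniteAt_comp_iff_of_isOpenImmersion.1
      (((g' ⁻¹ᵁ U).ι ≫ f').quasiFiniteAt ⟨x', hx'⟩)

end Groth.Agent.S9389
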