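import Groth.Statements.S1562
import Groth.Agent.SmoothReg.Scheme
import Groth.Agent.MorLib.SmoothLocus
import Groth.Agent.GeomField.Fibre
import Groth.Agent.GrpSchLib.GeomIrr

set_option autoImplicit false
universe u
open CategoryTheory CategoryTheory.Limits AlgebraicGeometry
open Variety

namespace Groth.Agent.S1562


open CategoryTheory AlgebraicGeometry

attribute [local instance] Curv2.resAlgebra

/-- The residue field of a rational point is the base field. -/
theorem surjective_of_section {K : Type u} [Field K] {Z : Scheme.{u}} (g : Z ⟶ Spec (CommRingCat.of K))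
    (s : Spec (CommRingCat.of K) ⟶ Z) (hs : s ≫ g = 𝟙 _) (pt : Spec (CommRingCat.of K)) :
    Function.Surjective fun c => Z.residue (s pt) (Z.presheaf.germ ⊤ (s pt) trivial (Coh.toGlobal g c)) := by
  have hinj : Function.Injective (s.residueFieldMap pt) := (s.residueFieldMap pt).hom.injective
  intro z
  have hbij : Function.Surjective ((Spec (CommRingCat.of K)).presheaf.germ ⊤ pt trivial) := by
    letI := (Spec (CommRingCat.of K)).presheaf.algebra_section_stalk (U := ⊤) ⟨pt, trivial⟩
    haveI := (isAffineOpen_top (Spec (CommRingCat.of K))).isLocalization_stalk ⟨pt, trivial⟩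
    exact (IsField.localization_map_bijective
      (M := ((isAffineOpen_top (Spec (CommRingCat.of K))).primeIdealOf ⟨pt, trivial⟩).asIdeal.primeCompl)
      (fun h => h (zero_mem _))
      ((Scheme.ΓSpecIso (CommRingCat.of K)).commRingCatIsoToRingEquiv.toMulEquiv.isField
        (Field.toIsField K))).2
  obtain ⟨y, hy⟩ := IsLocalRing.residue_surjective (s.residueFieldMap pt z)
  obtain ⟨c, rfl⟩ := hbij y
  refine ⟨(Scheme.ΓSpecIso (CommRingCat.of K)).hom c, hinj ?_⟩
  rw [← hy]
  show s.residueFieldMap pt (Z.Γevaluation (s pt) (Coh.toGlobal g _)) = _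
  refine (Scheme.Γevaluation_naturality_apply s pt _).trans ?_
  have h1 : s.appTop (g.appTop c) = c := by
    rw [← CommRingCat.comp_apply, ← Scheme.Hom.comp_appTop, hs]
    rfl
  have h2 : Coh.toGlobal g ((Scheme.ΓSpecIso (CommRingCat.of K)).hom c) = g.appTop c := by
    show g.appTop ((Scheme.ΓSpecIso (CommRingCat.of K)).inv ((Scheme.ΓSpecIso (CommRingCat.of K)).hom c)) = _
    exact congrArg g.appTop
      ((Scheme.ΓSpecIso (CommRingCat.of K)).commRingCatIsoToRingEquiv.symm_apply_apply c)
  rw [h2, h1]
  rfl


/-- Let X be locally of finite type over a field k and x a point of X. Then X is geometrically regular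
at x (regular local rings at all points over x after every finitely generated field extension) if
and only if x lies in the smooth locus of X → Spec k. -/
theorem result (k : Type u) [Field k] (X : Scheme.{u}) [X.Over (Spec (CommRingCat.of k))] [LocallyOfFinitePresentation (X ↘ (Spec (CommRingCat.of k)))] (x : X) :
    Curv2.IsGeomRegularAt k X x ↔ x ∈ (X ↘ (Spec (CommRingCat.of k))).smoothLocus := by
  constructor
  · intro H
    let L : Type u := ↑(X.residueField x)
    letI : Algebra k L := Curv2.resAlgebra k X x
    haveI : LocallyOfFiniteType (X ↘ Spec (CommRingCat.of k)) := inferInstance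
    haveI : Algebra.EssFiniteType k L := by
      obtain ⟨V, hV, hx⟩ := Groth.Agent.SmoothReg.exists_chart x
      letI := (Groth.Agent.SmoothReg.affMap (X ↘ Spec (CommRingCat.of k)) V).toAlgebra
      haveI : Algebra.FiniteType k Γ(X, V) := Groth.Agent.SmoothReg.finiteType_affMap _ hV
      haveI : Algebra.EssFiniteType k (hV.primeIdealOf ⟨x, hx⟩).asIdeal.ResidueField :=
        Algebra.EssFiniteType.comp k Γ(X, V) _
      exact Algebra.EssFiniteType.iff_of_algEquiv
        (Groth.Agent.SmoothReg.residueEquiv (X ↘ Spec (CommRingCat.of k)) hV hx (fun c => rfl)) |>.1 ‹_›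
    let s : Spec (CommRingCat.of L) ⟶ Curv2.bc k X L :=
      pullback.lift (X.fromSpecResidueField x) (𝟙 _)
        (by rw [Category.id_comp]; exact Groth.Agent.GeomField.fromSpecResidueField_over x)
    let pt : Spec (CommRingCat.of L) := IsLocalRing.closedPoint L
    let g : Curv2.bc k X L ⟶ Spec (CommRingCat.of L) := pullback.snd _ _
    have hsg : s ≫ g = 𝟙 _ := pullback.lift_snd _ _ _
    have hx' : Curv2.bcFst k X L (s pt) = x := by
      rw [← Scheme.Hom.comp_apply, pullback.lift_fst]
      exact Scheme.fromSpecResidueField_apply _ _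
    letI : Algebra L ((Curv2.bc k X L).residueField (s pt)) :=
      (((Curv2.bc k X L).residue (s pt)).hom.comp
        (((Curv2.bc k X L).presheaf.germ ⊤ (s pt) trivial).hom.comp (Coh.toGlobal g))).toAlgebra
    haveI : Algebra.IsSeparable L ((Curv2.bc k X L).residueField (s pt)) :=
      Algebra.IsSeparable.of_algHom L L (AlgEquiv.ofBijective (Algebra.ofId L _)
        ⟨(algebraMap L _).injective, surjective_of_section g s hsg pt⟩).symm.toAlgHom
    have h1 := Groth.Agent.SmoothReg.mem_smoothLocus_of_isSeparable g (s pt) (fun c => rfl)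
      (H L (IntermediateField.fg_top_iff.2 inferInstance) (s pt) hx')
    haveI : Flat (Spec.map (CommRingCat.ofHom (algebraMap k L))) :=
      Groth.Agent.GrpSchLib.flat_spec_map_field _
    have h2 := Groth.Agent.MorLib.SmoothLoc.sm_descend (X ↘ Spec (CommRingCat.of k)) _ g
      (Curv2.bcFst k X L) (IsPullback.of_hasPullback _ _) (s pt) h1
    rw [hx'] at h2
    exact h2
  · intro h k' _ _ _ x' hx'
    refine Groth.Agent.SmoothReg.isRegularLocalRing_stalk_of_mem_smoothLocus
      (pullback.snd (X ↘ Spec (CommRingCat.of k)) (Spec.map (CommRingCat.ofHom (algebraMap k k')))) ?_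
    refine Groth.Agent.MorLib.SmoothLoc.preimage_le (X ↘ Spec (CommRingCat.of k)) _ _ _
      (IsPullback.of_hasPullback _ _) ?_
    exact Set.mem_preimage.2 (hx'.symm ▸ h :)

end Groth.Agent.S1562
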