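import Groth.Statements.S1563
import Groth.Agent.SmoothReg.GeomRegularAt

set_option autoImplicit false
universe u
open CategoryTheory CategoryTheory.Limits AlgebraicGeometry
open Variety

namespace Groth.Agent.S1563


open CategoryTheory AlgebraicGeometry TensorProduct

set_option backward.isDefEq.respectTransparency false
set_option backward.isDefEq.respectTransparency.types false

theorem isNoetherianRing_tensor_essFiniteType (k A K : Type u) [Field k] [CommRing A] [Algebra k A]
    [IsNoetherianRing A] [Field K] [Algebra k K] [Algebra.EssFiniteType k K] :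
    IsNoetherianRing (A ⊗[k] K) := by
  let S := Algebra.EssFiniteType.subalgebra k K
  haveI : IsNoetherianRing (A ⊗[k] S) := Algebra.FiniteType.isNoetherianRing A _
  haveI : IsNoetherianRing (S ⊗[k] A) :=
    isNoetherianRing_of_ringEquiv _ (Algebra.TensorProduct.comm k A S).toRingEquiv
  haveI : IsNoetherianRing (K ⊗[S] (S ⊗[k] A)) := by
    letI : Algebra (S ⊗[k] A) (K ⊗[S] (S ⊗[k] A)) := Algebra.TensorProduct.rightAlgebra
    exact IsLocalization.isNoetherianRing (Algebra.algebraMapSubmonoid (S ⊗[k] A)
      (Algebra.EssFiniteType.submonoid k K)) (K ⊗[S] (S ⊗[k] A)) inferInstance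
  haveI := isNoetherianRing_of_ringEquiv _ (Algebra.TensorProduct.cancelBaseChange k S S K A).toRingEquiv
  exact isNoetherianRing_of_ringEquiv _ (Algebra.TensorProduct.comm k K A).toRingEquiv

theorem isRegularRing_tensor_descend (k A B K : Type u) [Field k] [CommRing A] [CommRing B] [Algebra k A]
    [Algebra k B] [Algebra A B] [IsScalarTower k A B] [IsNoetherianRing A] [Module.FaithfullyFlat A B]
    [Field K] [Algebra k K] [Algebra.EssFiniteType k K] [IsRegularRing (B ⊗[k] K)] :
    IsRegularRing (A ⊗[k] K) := by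
  haveI := isNoetherianRing_tensor_essFiniteType k A K
  haveI : IsRegularRing (B ⊗[A] (A ⊗[k] K)) :=
    IsRegularRing.of_ringEquiv (Algebra.TensorProduct.cancelBaseChange k A A B K).symm.toRingEquiv
  haveI : IsRegularRing ((A ⊗[k] K) ⊗[A] B) :=
    IsRegularRing.of_ringEquiv (Algebra.TensorProduct.comm A B (A ⊗[k] K)).toRingEquiv
  exact Groth.Agent.SmoothReg.isRegularRing_of_faithfullyFlat _ ((A ⊗[k] K) ⊗[A] B)

/-- Geometric regularity descends along a morphism f of locally Noetherian k-schemes which is flat at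
the point x (the map of local rings at x is flat): if X has it at x then Y has it at f(x). -/
theorem result (k : Type u) [Field k] (X Y : Scheme.{u}) [X.Over (Spec (CommRingCat.of k))] [Y.Over (Spec (CommRingCat.of k))]
    [IsLocallyNoetherian X] [IsLocallyNoetherian Y] (f : X ⟶ Y) (hf : f ≫ (Y ↘ (Spec (CommRingCat.of k))) = X ↘ (Spec (CommRingCat.of k)))
    (x : X) (hflat : (f.stalkMap x).hom.Flat) (hx : Curv2.IsGeomRegularAt k X x) :
    Curv2.IsGeomRegularAt k Y (f.base x) := by
  intro K _ _ hfg y' hy'
  haveI : Algebra.EssFiniteType k K := IntermediateField.fg_top_iff.1 hfg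
  letI := Curv2.stalkAlgebra k X x
  letI := Curv2.stalkAlgebra k Y (f.base x)
  haveI := Groth.Agent.SmoothReg.isRegularRing_tensor_stalk_of_purelyInseparable (k := k) x
    (fun k' _ _ _ _ x' hx' => hx k' (IntermediateField.fg_top_iff.2 inferInstance) x' hx') K
  letI : Algebra (Y.presheaf.stalk (f.base x)) (X.presheaf.stalk x) := (f.stalkMap x).hom.toAlgebra
  haveI : IsScalarTower k (Y.presheaf.stalk (f.base x)) (X.presheaf.stalk x) := .of_algebraMap_eq fun c => by
    show Curv2.stalkMap k X x c = f.stalkMap x (Curv2.stalkMap k Y (f.base x) c)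
    show X.presheaf.germ ⊤ x trivial (Coh.toGlobal (X ↘ Spec (CommRingCat.of k)) c) =
      f.stalkMap x (Y.presheaf.germ ⊤ (f.base x) trivial (Coh.toGlobal (Y ↘ Spec (CommRingCat.of k)) c))
    rw [Scheme.Hom.germ_stalkMap_apply, ← hf]
    show X.presheaf.germ ⊤ x trivial ((f ≫ (Y ↘ Spec (CommRingCat.of k))).appTop _) = _
    rw [Scheme.Hom.comp_appTop]
    rfl
  haveI : Module.FaithfullyFlat (Y.presheaf.stalk (f.base x)) (X.presheaf.stalk x) :=
    @Module.FaithfullyFlat.of_flat_of_isLocalHom _ _ _ _ _ _ _ hflat (f.toLRSHom.prop x)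
  haveI := isRegularRing_tensor_descend k (Y.presheaf.stalk (f.base x)) (X.presheaf.stalk x) K
  exact Groth.Agent.SmoothReg.isRegularLocalRing_of_isRegularRing_tensor_stalk (f.base x) K y' hy'

end Groth.Agent.S1563
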