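import Groth.Statements.S3030
import Groth.Agent.AlgSpGrp.Artin
-- import your own Groth.Agent.* helpers here

set_option autoImplicit false
universe u
open CategoryTheory MonoidalCategory CartesianMonoidalCategory MonObj GrpObj AlgebraicGeometry TensorProduct
open SGA3

namespace Groth.Agent.S3030

/-- Let A be a local artinian ring, F and G group schemes flat and locally of finite type over A, and u
: F → G a homomorphism which is a quasi-compact monomorphism with F normal in G. Then there are a
group scheme Q over A and a homomorphism p : G → Q which is faithfully flat and locally of finite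
presentation, with kernel F (the square u, p, unit is cartesian); Q is separated and flat over A,
and smooth over A when G is. -/
theorem result (A : Type u) [CommRing A] [IsArtinianRing A] [IsLocalRing A]
    (F G : Over (Spec (CommRingCat.of A))) [GrpObj F] [GrpObj G] [Flat F.hom] [LocallyOfFiniteType F.hom]
    [Flat G.hom] [LocallyOfFiniteType G.hom] (u : F ⟶ G) [IsMonHom u] [Mono u] [QuasiCompact u.left]
    (hN : AlgGrp.IsNormalHom u) :
    ∃ (Q : Over (Spec (CommRingCat.of A))) (_ : GrpObj Q) (p : G ⟶ Q), IsMonHom p ∧
      Flat p.left ∧ Surjective p.left ∧ LocallyOfFinitePresentation p.left ∧ AlgGrp.IsKernel u p ∧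
      IsSeparated Q.hom ∧ Flat Q.hom ∧ (Smooth G.hom → Smooth Q.hom) := by
  haveI := AlgSpGrp.isClosedImmersion_of_mono u
  obtain ⟨Q, iQ, q, hq, hs, hf, hl, hsep, hk, hquot⟩ := AlgSpGrp.exists_quot_artinian u hN
  obtain ⟨h1, h2⟩ := AlgSpGrp.flat_smooth_of_isQuotient u q hquot
  exact ⟨Q, iQ, q, hq, hf, hs, hl, hk, hsep, h1 ‹_›, h2⟩
end Groth.Agent.S3030
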