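import Groth.Statements.S0458
import Groth.Agent.SiteBase.Vanishing.Reduce
import Groth.Agent.SiteBase.Vanishing.Noetherian

set_option autoImplicit false
universe u
open CategoryTheory
open CohTop

namespace Groth.Agent.S0458

/-- Let X be a Noetherian topological space whose Krull dimension (of the specialization order on
irreducible closed subsets) is at most d. Then H^p(X, F) = 0 for every abelian sheaf F and every p >
d. -/
theorem result {X : TopCat.{u}} [TopologicalSpace.NoetherianSpace X] (d : ℕ)
    (hd : topologicalKrullDim X ≤ d) (F : CohTop.Ab X) (p : ℕ) (hp : d < p) :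
    Subsingleton (CohTop.H F p) := by
  refine Vanishing.vanishAbove_all (fun U _ => ?_) F p hp
  let C : TopologicalSpace.Closeds X := ⟨(U : Set X)ᶜ, U.isOpen.isClosed_compl⟩
  refine (Vanishing.vanishAbove_QY ⊤ d (Vanishing.dimLE_top hd) C le_top).of_iso ?_
  have e1 : Vanishing.oc (⊤ : TopologicalSpace.Closeds X) = ⊥ := TopologicalSpace.Opens.ext Set.compl_univ
  have e2 : Vanishing.oc C = U := TopologicalSpace.Opens.ext (compl_compl (U : Set X))
  have h0 : Limits.IsZero (Vanishing.sh (Vanishing.ind (Vanishing.oc (⊤ : TopologicalSpace.Closeds X)) ⊤)) := by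
    rw [e1, Vanishing.ind_bot_open]
    rw [Limits.IsZero.iff_id_eq_zero]
    refine Sheaf.hom_ext (NatTrans.ext (funext fun W => ConcreteCategory.hom_ext _ _ fun t => ?_))
    exact Subtype.ext (funext fun x => ULift.ext _ _ (AddSubgroup.mem_bot.1 (t.2.2 x)))
  let h := Vanishing.ind_le_ind (Vanishing.oc_anti (le_top : C ≤ ⊤)) (le_refl (⊤ : AddSubgroup ℤ))
  haveI : Mono (Vanishing.prQ h) := (Vanishing.shortExact_Q h).exact.mono_g (h0.eq_of_src _ _)
  haveI : IsIso (Vanishing.prQ h) := isIso_of_mono_of_epi _
  exact (asIso (Vanishing.prQ h)).symm ≪≫ eqToIso (by rw [e2])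


end Groth.Agent.S0458
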