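import Groth.Statements.S9407
import Mathlib
import Groth.Agent.Hensel.EtaleReduced

set_option autoImplicit false
universe u
open CAlg

namespace Groth.Agent.S9407

/-- Reducedness ascends along smooth ring maps: if R is reduced and S is smooth over R then S is
reduced. -/
theorem result (R : Type u) [CommRing R] (S : Type u) [CommRing S]
    [Algebra R S] [Algebra.Smooth R S] [IsReduced R] : IsReduced S := by
  obtain ⟨s, hs, hstd⟩ := Algebra.Smooth.exists_span_eq_top_isStandardSmooth R S
  have hred : ∀ g ∈ s, IsReduced (Localization.Away g) := by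
    intro g hg
    have h1 : (algebraMap R (Localization.Away g)).IsStandardSmooth :=
      RingHom.isStandardSmooth_algebraMap.2 (hstd g hg)
    obtain ⟨n, φ, -, hφ⟩ := h1.exists_etale_mvPolynomial
    algebraize [φ]
    exact Hensel.isReduced_of_etale (MvPolynomial (Fin n) R) _
  refine ⟨fun x hx => ?_⟩
  by_contra hne
  let J : Ideal S := (Ideal.span ({x} : Set S)).annihilator
  have hJ : J ≠ ⊤ := fun h => hne (by
    have h1 : (1 : S) ∈ J := h ▸ Submodule.mem_top
    simpa [J, Submodule.mem_annihilator_span_singleton] using h1)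
  refine hJ (Ideal.radical_eq_top.1 (eq_top_iff.2 (hs ▸ Ideal.span_le.2 fun g hg => ?_)))
  have := hred g hg
  obtain ⟨⟨_, n, rfl⟩, h0⟩ := (IsLocalization.map_eq_zero_iff (Submonoid.powers g) _ x).1
    ((hx.map (algebraMap S (Localization.Away g))).eq_zero)
  exact ⟨n, by simpa [J, Submodule.mem_annihilator_span_singleton] using h0⟩


end Groth.Agent.S9407
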