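import Groth.Statements.S15942
import Groth.Agent.AlgSpLib.DescendLocally

set_option autoImplicit false
universe u
open Neron

namespace Groth.Agent.S15942

open CategoryTheory CategoryTheory.Limits AlgebraicGeometry in
/-- every point of a locally noetherian scheme has a neighbourhood in which each point shares a
generalisation with it -/
lemma exists_nhd_common_gen {Y : Scheme.{u}} [IsLocallyNoetherian Y] (y : Y) (U : Y.Opens)
    (hy : y ∈ U) :
    ∃ W : Y.Opens, y ∈ W ∧ W ≤ U ∧ ∀ w ∈ W, ∃ z : Y, z ⤳ w ∧ z ⤳ y := by
  obtain ⟨V, hV, hyV, hVU⟩ := exists_isAffineOpen_mem_and_subset (U := U) hy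
  haveI : CompactSpace V.toScheme := isCompact_iff_compactSpace.mp hV.isCompact
  haveI : IsNoetherian V.toScheme := { }
  let y' : V.toScheme := ⟨y, hyV⟩
  let 𝒞 : Set (Set V.toScheme) := {C ∈ irreducibleComponents V.toScheme | y' ∉ C}
  have hfin : 𝒞.Finite :=
    (TopologicalSpace.NoetherianSpace.finite_irreducibleComponents (α := V.toScheme)).subset
      (Set.sep_subset _ _)
  have hcl : IsClosed (⋃ C ∈ 𝒞, C) :=
    hfin.isClosed_biUnion fun C hC => isClosed_of_mem_irreducibleComponents C hC.1
  refine ⟨V.ι ''ᵁ ⟨_, hcl.isOpen_compl⟩, ⟨y', ?_, rfl⟩, ?_, ?_⟩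
  · simp only [TopologicalSpace.Opens.coe_mk, Set.mem_compl_iff, Set.mem_iUnion, not_exists]
    exact fun C hC h => hC.2 h
  · rintro _ ⟨w, -, rfl⟩
    exact hVU w.2
  · rintro _ ⟨w, hw, rfl⟩
    have hirr : IsIrreducible (irreducibleComponent w) := isIrreducible_irreducibleComponent
    have hyC : y' ∈ irreducibleComponent w := by
      by_contra hn
      exact hw (Set.mem_biUnion (x := irreducibleComponent w)
        ⟨irreducibleComponent_mem_irreducibleComponents w, hn⟩ mem_irreducibleComponent)
    have hgen : IsGenericPoint hirr.genericPoint (irreducibleComponent w) :=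
      hirr.isGenericPoint_genericPoint isClosed_irreducibleComponent
    exact ⟨V.ι hirr.genericPoint, (hgen.specializes mem_irreducibleComponent).map V.ι.continuous,
      (hgen.specializes hyC).map V.ι.continuous⟩

open CategoryTheory CategoryTheory.Limits AlgebraicGeometry in
/-- the inclusion of the generic fibre of a flat scheme over an irreducible base stays dominant
after base change to an open -/
lemma isDominant_snd_generic {S Y T : Scheme.{u}} [IrreducibleSpace S] (f : Y ⟶ S)
    [Flat f] [LocallyOfFinitePresentation f] (t : T ⟶ Y) [IsOpenImmersion t] :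
    IsDominant (pullback.snd (pullback.fst f (S.fromSpecStalk (genericPoint S))) t) := by
  refine ⟨?_⟩
  rw [DenseRange, Scheme.Pullback.range_snd, Scheme.Pullback.range_fst, Scheme.range_fromSpecStalk]
  refine Dense.preimage (Dense.preimage ?_ f.isOpenMap) t.isOpenEmbedding.isOpenMap
  have h : Dense ({genericPoint S} : Set S) := by
    rw [dense_iff_closure_eq]
    exact genericPoint_closure S
  exact h.mono (Set.singleton_subset_iff.mpr specializes_rfl)

open CategoryTheory CategoryTheory.Limits AlgebraicGeometry in
lemma ext_of_generic {S Y X T : Scheme.{u}} [IrreducibleSpace S] [IsReduced S] (f : Y ⟶ S)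
    [Smooth f] (g : X ⟶ S) [IsSeparated g] (t : T ⟶ Y) [IsOpenImmersion t] (a b : T ⟶ X)
    (hab : a ≫ g = b ≫ g)
    (h : pullback.snd (pullback.fst f (S.fromSpecStalk (genericPoint S))) t ≫ a =
      pullback.snd (pullback.fst f (S.fromSpecStalk (genericPoint S))) t ≫ b) : a = b := by
  haveI : IsReduced Y := Groth.Agent.AlgSpLib.isReduced_of_smooth f
  haveI : IsReduced T := isReduced_of_isOpenImmersion t
  haveI := isDominant_snd_generic f t
  exact ext_of_isDominant_of_isSeparated g hab _ h

open CategoryTheory CategoryTheory.Limits AlgebraicGeometry in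
/-- the extension exists near each point -/
lemma exists_local_ext {S : Scheme.{u}} [IsIntegral S] [IsNoetherian S]
    {Y X : Scheme.{u}} (f : Y ⟶ S) [Smooth f] (g : X ⟶ S) [IsSeparated g] [LocallyOfFiniteType g]
    (h0 : pullback f (S.fromSpecStalk (genericPoint S)) ⟶ X)
    (hh0 : h0 ≫ g = pullback.fst _ _ ≫ f)
    (y : Y) {p : S} (hp : f y ⤳ p) (φ : pullback f (S.fromSpecStalk p) ⟶ X)
    (hφg : φ ≫ g = pullback.snd _ _ ≫ S.fromSpecStalk p)
    (hφ : ∀ {C : Scheme.{u}} (a : C ⟶ pullback f (S.fromSpecStalk (genericPoint S)))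
      (b : C ⟶ pullback f (S.fromSpecStalk p)),
      a ≫ pullback.fst _ _ = b ≫ pullback.fst _ _ →
      a ≫ pullback.snd _ _ ≫ Spec.map (S.presheaf.stalkSpecializes (genericPoint_specializes p)) =
        b ≫ pullback.snd _ _ →
      a ≫ h0 = b ≫ φ) :
    ∃ (W : Y.Opens) (v : W.toScheme ⟶ X), y ∈ W ∧ v ≫ g = W.ι ≫ f ∧
      ∀ {P : Scheme.{u}} (a : P ⟶ pullback f (S.fromSpecStalk (genericPoint S)))
        (b : P ⟶ W.toScheme), a ≫ pullback.fst _ _ = b ≫ W.ι → a ≫ h0 = b ≫ v := by
  haveI : IsLocallyNoetherian Y := LocallyOfFiniteType.isLocallyNoetherian f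
  let s : Spec (Y.presheaf.stalk y) ⟶ pullback f (S.fromSpecStalk p) :=
    pullback.lift (Y.fromSpecStalk y)
      (Spec.map (f.stalkMap y) ≫ Spec.map (S.presheaf.stalkSpecializes hp)) (by
        rw [Category.assoc, Scheme.SpecMap_stalkSpecializes_fromSpecStalk,
          Scheme.SpecMap_stalkMap_fromSpecStalk])
  have hs : (s ≫ φ) ≫ g = Y.fromSpecStalk y ≫ f := by
    rw [Category.assoc, hφg, pullback.lift_snd_assoc, Category.assoc,
      Scheme.SpecMap_stalkSpecializes_fromSpecStalk, Scheme.SpecMap_stalkMap_fromSpecStalk]
  obtain ⟨U, hyU, u, hu, hug⟩ := spread_out_of_isGermInjective' f g (s ≫ φ) hs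
  obtain ⟨W, hyW, hWU, hW⟩ := exists_nhd_common_gen y U hyU
  let v : W.toScheme ⟶ X := Y.homOfLE hWU ≫ u
  have hvg : v ≫ g = W.ι ≫ f := by
    rw [Category.assoc, hug, ← Category.assoc, Scheme.homOfLE_ι]
  refine ⟨W, v, hyW, hvg, ?_⟩
  let π : pullback f (S.fromSpecStalk (genericPoint S)) ⟶ Y := pullback.fst _ _
  suffices hD : pullback.fst π W.ι ≫ h0 = pullback.snd π W.ι ≫ v by
    intro P a b hab
    rw [← pullback.lift_fst (f := π) (g := W.ι) a b hab, Category.assoc, hD,
      pullback.lift_snd_assoc]
  let j : Spec (S.presheaf.stalk (genericPoint S)) ⟶ S := S.fromSpecStalk (genericPoint S)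
  haveI : IsReduced (pullback f j) := by
    have : _root_.IsReduced (S.presheaf.stalk (genericPoint S)) := inferInstance
    exact Groth.Agent.AlgSpLib.isReduced_of_smooth (pullback.snd f j)
  haveI : IsReduced (pullback π W.ι) := isReduced_of_isOpenImmersion (pullback.fst π W.ι)
  let c := pullback.fst (pullback.snd π W.ι ≫ W.ι) (Y.fromSpecStalk y)
  haveI : IsDominant c := by
    refine ⟨?_⟩
    rw [DenseRange, Scheme.Pullback.range_fst, Scheme.range_fromSpecStalk,
      dense_iff_closure_eq, Set.eq_univ_iff_forall]
    intro q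
    obtain ⟨z, hzq, hzy⟩ := hW ((pullback.snd π W.ι ≫ W.ι) q) (pullback.snd π W.ι q).2
    obtain ⟨z', hz', hfz⟩ := Flat.generalizingMap f (genericPoint_specializes (f z))
    have hz'r : z' ∈ Set.range (pullback.snd π W.ι ≫ W.ι) := by
      rw [← pullback.condition, Scheme.Pullback.range_fst_comp]
      refine ⟨?_, ?_⟩
      · change z' ∈ Set.range (pullback.fst f (S.fromSpecStalk (genericPoint S)))
        rw [Scheme.Pullback.range_fst, Scheme.range_fromSpecStalk]
        change f z' ⤳ _
        rw [hfz]
      · rw [Scheme.Opens.range_ι]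
        exact (hz'.trans hzq).mem_open W.2 (pullback.snd π W.ι q).2
    obtain ⟨q', rfl⟩ := hz'r
    refine (?_ : q' ⤳ q).mem_closed isClosed_closure (subset_closure (hz'.trans hzy))
    refine ((pullback.snd π W.ι ≫ W.ι).isEmbedding.isInducing.specializes_iff).mp ?_
    exact hz'.trans hzq
  refine ext_of_isDominant_of_isSeparated g ?_ c ?_
  · rw [Category.assoc, hh0, Category.assoc, hvg, pullback.condition_assoc]
  · let t : pullback (pullback.snd π W.ι ≫ W.ι) (Y.fromSpecStalk y) ⟶
        Spec (Y.presheaf.stalk y) := pullback.snd _ _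
    have hct : (c ≫ pullback.fst π W.ι) ≫ π = t ≫ Y.fromSpecStalk y := by
      rw [Category.assoc, pullback.condition]
      exact pullback.condition
    have h1 : (c ≫ pullback.fst π W.ι) ≫ h0 = (t ≫ s) ≫ φ := by
      apply hφ
      · rw [Category.assoc t, pullback.lift_fst]
        exact hct
      · rw [← cancel_mono (S.fromSpecStalk p)]
        simp only [Category.assoc, Scheme.SpecMap_stalkSpecializes_fromSpecStalk, ← pullback.condition]
        simp only [s, pullback.lift_fst_assoc]
        exact congrArg (· ≫ f) ((Category.assoc _ _ _).symm.trans hct) |>.trans (Category.assoc _ _ _) |> fun e => by simpa [π] using e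
    rw [← Category.assoc, h1, Category.assoc, hu, ← Category.assoc, ← Category.assoc c]
    show _ = (c ≫ pullback.snd π W.ι) ≫ Y.homOfLE hWU ≫ u
    rw [← Category.assoc _ (Y.homOfLE hWU) u]
    congr 1
    rw [← cancel_mono U.ι]
    simp only [Category.assoc, Scheme.Opens.fromSpecStalkOfMem_ι, Scheme.homOfLE_ι]
    exact (pullback.condition).symm

open CategoryTheory CategoryTheory.Limits AlgebraicGeometry in
lemma bijective_of_local {S : Scheme.{u}} [IsIntegral S] [IsNoetherian S]
    (G : Over S) [Smooth G.hom] [IsSeparated G.hom]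
    (hloc : ∀ p : S, IsClosed ({p} : Set S) →
      ∀ Y : Over (Spec (S.presheaf.stalk p)), Smooth Y.hom →
        Function.Bijective (fun g : Y ⟶ (Over.pullback (S.fromSpecStalk p)).obj G =>
          (Over.pullback (Spec.map (S.presheaf.stalkSpecializes (genericPoint_specializes p)))).map g))
    (Y : Over S) [Smooth Y.hom] :
    Function.Bijective
      (fun g : Y ⟶ G => (Over.pullback (S.fromSpecStalk (genericPoint S))).map g) := by
  constructor
  · intro g1 g2 h
    have h' := congrArg (fun k => Over.Hom.left k ≫ pullback.fst _ _) h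
    replace h' := (pullback.lift_fst _ _ _).symm.trans (h'.trans (pullback.lift_fst _ _ _))
    apply Over.OverMorphism.ext
    refine ext_of_generic Y.hom G.hom (𝟙 _) g1.left g2.left (by simp) ?_
    have e : pullback.snd (pullback.fst Y.hom (S.fromSpecStalk (genericPoint S))) (𝟙 Y.left) =
        pullback.fst _ _ ≫ pullback.fst Y.hom (S.fromSpecStalk (genericPoint S)) := by
      rw [pullback.condition, Category.comp_id]
    rw [e, Category.assoc, Category.assoc, h']
  · intro h
    let h0 : pullback Y.hom (S.fromSpecStalk (genericPoint S)) ⟶ G.left :=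
      h.left ≫ pullback.fst _ _
    have hw : h.left ≫ pullback.snd _ _ = pullback.snd _ _ := Over.w h
    have hh0 : h0 ≫ G.hom = pullback.fst _ _ ≫ Y.hom := by
      simp only [h0, Category.assoc, pullback.condition]
      rw [reassoc_of% hw]
    have key : ∀ y : Y.left, ∃ (W : Y.left.Opens) (v : W.toScheme ⟶ G.left), y ∈ W ∧
        v ≫ G.hom = W.ι ≫ Y.hom ∧
        ∀ {P : Scheme.{u}} (a : P ⟶ pullback Y.hom (S.fromSpecStalk (genericPoint S)))
          (b : P ⟶ W.toScheme), a ≫ pullback.fst _ _ = b ≫ W.ι → a ≫ h0 = b ≫ v := by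
      intro y
      obtain ⟨p, hpc, hp⟩ :=
        (isClosed_closure (s := ({Y.hom y} : Set S))).exists_closed_singleton
          ⟨_, subset_closure rfl⟩
      have hyp : Y.hom y ⤳ p := specializes_iff_mem_closure.mpr hpc
      let Yp : Over (Spec (S.presheaf.stalk p)) := (Over.pullback (S.fromSpecStalk p)).obj Y
      haveI : Smooth Yp.hom := inferInstanceAs (Smooth (pullback.snd Y.hom (S.fromSpecStalk p)))
      let j := Spec.map (S.presheaf.stalkSpecializes (genericPoint_specializes p))
      have hj : j ≫ S.fromSpecStalk p = S.fromSpecStalk (genericPoint S) :=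
        Scheme.SpecMap_stalkSpecializes_fromSpecStalk _
      let a0 : pullback Yp.hom j ⟶ pullback Y.hom (S.fromSpecStalk (genericPoint S)) :=
        pullback.lift (pullback.fst Yp.hom j ≫ pullback.fst Y.hom (S.fromSpecStalk p))
          (pullback.snd Yp.hom j) (by
            rw [← hj, Category.assoc, pullback.condition]
            exact congrArg (· ≫ S.fromSpecStalk p) pullback.condition |> fun e => by
              simpa [Yp, Over.pullback] using e)
      let tgt : (Over.pullback j).obj Yp ⟶
          (Over.pullback j).obj ((Over.pullback (S.fromSpecStalk p)).obj G) :=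
        Over.homMk (pullback.lift (pullback.lift (a0 ≫ h0) (pullback.snd Yp.hom j ≫ j) (by
          rw [Category.assoc, hh0, pullback.condition, ← Category.assoc a0, pullback.lift_snd,
            Category.assoc, hj]))
          (pullback.snd Yp.hom j) (pullback.lift_snd _ _ _)) (pullback.lift_snd _ _ _)
      obtain ⟨gp, hgp⟩ := (hloc p hp Yp inferInstance).2 tgt
      have hgp' := congrArg (fun k => Over.Hom.left k ≫ pullback.fst _ _ ≫ pullback.fst _ _) hgp
      have hgp'' : pullback.fst Yp.hom j ≫ gp.left ≫ pullback.fst G.hom (S.fromSpecStalk p) =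
          a0 ≫ h0 := by
        exact (Category.assoc _ _ _).symm.trans ((pullback.lift_fst_assoc _ _ _ _).symm.trans
          (hgp'.trans ((pullback.lift_fst_assoc _ _ _ _).trans (pullback.lift_fst _ _ _))))
      refine exists_local_ext Y.hom G.hom h0 hh0 y hyp
        (gp.left ≫ pullback.fst G.hom (S.fromSpecStalk p)) ?_ ?_
      · have := Over.w gp
        rw [Category.assoc, pullback.condition, ← Category.assoc]
        exact congrArg (· ≫ S.fromSpecStalk p) this
      · intro C a b h1 h2
        let e : C ⟶ pullback Yp.hom j := pullback.lift b (a ≫ pullback.snd _ _) (by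
          rw [Category.assoc]; exact h2.symm)
        have ea : e ≫ a0 = a := by
          apply pullback.hom_ext
          · rw [Category.assoc, pullback.lift_fst, pullback.lift_fst_assoc, h1]
          · rw [Category.assoc, pullback.lift_snd, pullback.lift_snd]
        rw [← ea, Category.assoc, ← hgp'', pullback.lift_fst_assoc]
    choose W v hyW hvg hv using key
    let 𝒰 : Y.left.OpenCover := Y.left.openCoverOfIsOpenCover W
      (eq_top_iff.mpr fun y _ => TopologicalSpace.Opens.mem_iSup.mpr ⟨y, hyW y⟩)
    have hglue : ∀ a b, pullback.fst (𝒰.f a) (𝒰.f b) ≫ v a = pullback.snd _ _ ≫ v b := by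
      intro (a : Y.left) (b : Y.left)
      change pullback.fst (W a).ι (W b).ι ≫ v a = pullback.snd (W a).ι (W b).ι ≫ v b
      refine ext_of_generic Y.hom G.hom (pullback.fst (W a).ι (W b).ι ≫ (W a).ι) _ _ ?_ ?_
      · rw [Category.assoc, hvg, Category.assoc, hvg, pullback.condition_assoc]
      · rw [← Category.assoc, ← Category.assoc, ← hv a (pullback.fst _ _) _ (by
          rw [Category.assoc]; exact pullback.condition), ← hv b (pullback.fst _ _) _ (by
          rw [Category.assoc, ← pullback.condition (f := (W a).ι)]; exact pullback.condition)]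
    let gl : Y.left ⟶ G.left := 𝒰.glueMorphisms (fun a => v a) hglue
    have hgl : ∀ a : Y.left, (W a).ι ≫ gl = v a := fun a => 𝒰.ι_glueMorphisms _ hglue a
    have hglw : gl ≫ G.hom = Y.hom := by
      refine Scheme.Cover.hom_ext 𝒰 _ _ fun (a : Y.left) => ?_
      change (W a).ι ≫ gl ≫ G.hom = (W a).ι ≫ Y.hom
      rw [reassoc_of% (hgl a), hvg]
    refine ⟨Over.homMk gl hglw, ?_⟩
    apply Over.OverMorphism.ext
    apply pullback.hom_ext
    · have goal : pullback.fst Y.hom (S.fromSpecStalk (genericPoint S)) ≫ gl = h0 := by
        refine Scheme.Cover.hom_ext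
          (𝒰.pullback₁ (pullback.fst Y.hom (S.fromSpecStalk (genericPoint S)))) _ _ fun (a : Y.left) => ?_
        change pullback.fst (pullback.fst Y.hom _) (W a).ι ≫ _ ≫ gl =
          pullback.fst (pullback.fst Y.hom _) (W a).ι ≫ h0
        rw [pullback.condition_assoc, hgl, hv a _ _ pullback.condition]
      exact (pullback.lift_fst _ _ _).trans goal
    · exact (pullback.lift_snd _ _ _).trans hw.symm


open CategoryTheory AlgebraicGeometry in
/-- Let S be a Dedekind scheme (integral, Noetherian, separated, of dimension one, with regular local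
rings), K its function field with generic point η : Spec K → S, and G → S a smooth separated
S-scheme. Suppose that for every closed point p of S the base change G_p = G ×_S Spec O_{S,p} is a
Néron lft-model of its generic fibre over Spec O_{S,p}: for every smooth scheme Y over Spec O_{S,p},
restricting to generic fibres is a bijection from morphisms Y → G_p over Spec O_{S,p} onto morphisms
of generic fibres over K. Then G is a Néron lft-model of its generic fibre over S: for every smooth
S-scheme Y, restriction along η is a bijection from S-morphisms Y → G onto K-morphisms Y_η → G_η.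
(The published statement is for a smooth separated group scheme; the group structure plays no part
in the property or in its proof and is not assumed here.) -/
theorem result
    {S : Scheme.{u}} [IsIntegral S] [IsNoetherian S] [S.IsSeparated]
    (hreg : ∀ s : S, IsRegularLocalRing (S.presheaf.stalk s)) (hdim : topologicalKrullDim S = 1)
    (G : Over S) [Smooth G.hom] [IsSeparated G.hom]
    (hloc : ∀ p : S, IsClosed ({p} : Set S) →
      ∀ Y : Over (Spec (S.presheaf.stalk p)), Smooth Y.hom →
        Function.Bijective (fun g : Y ⟶ (Over.pullback (S.fromSpecStalk p)).obj G =>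
          (Over.pullback (Spec.map (S.presheaf.stalkSpecializes (genericPoint_specializes p)))).map g)) :
    ∀ Y : Over S, Smooth Y.hom →
      Function.Bijective (fun g : Y ⟶ G => (Over.pullback (S.fromSpecStalk (genericPoint S))).map g) := by
  intro Y hY
  haveI : Smooth Y.hom := hY
  exact bijective_of_local G hloc Y

end Groth.Agent.S15942
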