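import Groth.Statements.S14584
import Groth.Agent.AVTors.VarProd
import Groth.Agent.H23.MaxAbelian
import Groth.Agent.GrpSchLib.IsogenyFibre
-- import your own Groth.Agent.* helpers here

set_option autoImplicit false
universe u
open CategoryTheory MonoidalCategory CartesianMonoidalCategory MonObj GrpObj AlgebraicGeometry CategoryTheory.Limits
open AlgGrp

namespace Groth.Agent.S14584

set_option linter.style.haveILetI false
set_option backward.isDefEq.respectTransparency false
set_option backward.isDefEq.respectTransparency.types false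
set_option maxHeartbeats 1000000

/-- Let k be a field, X and Y varieties over k (separated, geometrically integral k-schemes of finite
type) with rational points x₀ and y₀, A an abelian variety (a proper, smooth, connected k-group
scheme) and f : X × Y → A a k-morphism. Then, in the group of morphisms X × Y → A, f(x, y) = f(x₀,
y₀)⁻¹ · f(x₀, y) · f(x, y₀) identically; additively, f(x, y) − f(x₀, y) − f(x, y₀) + f(x₀, y₀) = 0.
Neither smoothness nor properness of X, Y is assumed. -/
theorem result (k : Type u) [Field k]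
    (X Y A : Over (Spec (CommRingCat.of k)))
    [LocallyOfFiniteType X.hom] [QuasiCompact X.hom] [IsSeparated X.hom] [GeometricallyIntegral X.hom]
    [LocallyOfFiniteType Y.hom] [QuasiCompact Y.hom] [IsSeparated Y.hom] [GeometricallyIntegral Y.hom]
    [GrpObj A] [IsProper A.hom] [Smooth A.hom] [ConnectedSpace ↥A.left]
    (x₀ : 𝟙_ (Over (Spec (CommRingCat.of k))) ⟶ X) (y₀ : 𝟙_ (Over (Spec (CommRingCat.of k))) ⟶ Y) (f : X ⊗ Y ⟶ A) :
    f = (toUnit (X ⊗ Y) ≫ lift x₀ y₀ ≫ f)⁻¹ * (snd X Y ≫ lift (toUnit Y ≫ x₀) (𝟙 Y) ≫ f) *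
      (fst X Y ≫ lift (𝟙 X) (toUnit X ≫ y₀) ≫ f) := by
  haveI : GeometricallyReduced A.hom := Groth.Agent.GrpSchLib.IsogenyFibre.geometricallyReduced_of_smooth' A.hom
  haveI : GeometricallyIntegral A.hom := Groth.Agent.H23.MaxAbelian.geometricallyIntegral_of_connected A
  haveI : IsCommMonObj A := isCommMonObj_of_isProper_of_geometricallyIntegral A
  set R := (toUnit (X ⊗ Y) ≫ lift x₀ y₀ ≫ f)⁻¹ * (snd X Y ≫ lift (toUnit Y ≫ x₀) (𝟙 Y) ≫ f) *
      (fst X Y ≫ lift (𝟙 X) (toUnit X ≫ y₀) ≫ f) with hR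
  suffices hone : f * R⁻¹ = 1 from mul_inv_eq_one.1 hone
  have hsX : lift (𝟙 X) (toUnit X ≫ y₀) ≫ (f * R⁻¹) = 1 := by
    rw [MonObj.comp_mul, GrpObj.comp_inv, mul_inv_eq_one, hR, MonObj.comp_mul, MonObj.comp_mul, GrpObj.comp_inv]
    have e1 : lift (𝟙 X) (toUnit X ≫ y₀) ≫ toUnit (X ⊗ Y) ≫ lift x₀ y₀ ≫ f = toUnit X ≫ lift x₀ y₀ ≫ f := by
      rw [← Category.assoc, comp_toUnit]
    have e2 : lift (𝟙 X) (toUnit X ≫ y₀) ≫ snd X Y ≫ lift (toUnit Y ≫ x₀) (𝟙 Y) ≫ f = toUnit X ≫ lift x₀ y₀ ≫ f := by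
      rw [lift_snd_assoc, Category.assoc]
      congr 1
      rw [← Category.assoc]
      congr 1
      ext1
      · simp [toUnit_unique (toUnit (𝟙_ (Over (Spec (CommRingCat.of k))))) (𝟙 _)]
      · simp
    rw [e1, e2, lift_fst_assoc, Category.id_comp, inv_mul_cancel, _root_.one_mul]
  have hsY : lift (toUnit Y ≫ x₀) (𝟙 Y) ≫ (f * R⁻¹) = 1 := by
    rw [MonObj.comp_mul, GrpObj.comp_inv, mul_inv_eq_one, hR, MonObj.comp_mul, MonObj.comp_mul, GrpObj.comp_inv]
    have e1 : lift (toUnit Y ≫ x₀) (𝟙 Y) ≫ toUnit (X ⊗ Y) ≫ lift x₀ y₀ ≫ f = toUnit Y ≫ lift x₀ y₀ ≫ f := by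
      rw [← Category.assoc, comp_toUnit]
    have e3 : lift (toUnit Y ≫ x₀) (𝟙 Y) ≫ fst X Y ≫ lift (𝟙 X) (toUnit X ≫ y₀) ≫ f = toUnit Y ≫ lift x₀ y₀ ≫ f := by
      rw [lift_fst_assoc, Category.assoc]
      congr 1
      rw [← Category.assoc]
      congr 1
      ext1
      · simp
      · simp [toUnit_unique (toUnit (𝟙_ (Over (Spec (CommRingCat.of k))))) (𝟙 _)]
    rw [e1, e3, lift_snd_assoc, Category.id_comp, mul_right_comm, inv_mul_cancel, _root_.one_mul]
  -- pass to an algebraic closure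
  generalize f * R⁻¹ = φ at hsX hsY ⊢
  let K := AlgebraicClosure k
  let v := Spec.map (CommRingCat.ofHom (algebraMap k K))
  let F := Over.pullback v
  letI : GrpObj (F.obj A) := Functor.grpObjObj
  haveI : IsProper (F.obj A).hom := inferInstanceAs (IsProper (pullback.snd A.hom v))
  haveI : LocallyOfFiniteType (F.obj X).hom := inferInstanceAs (LocallyOfFiniteType (pullback.snd X.hom v))
  haveI : LocallyOfFiniteType (F.obj Y).hom := inferInstanceAs (LocallyOfFiniteType (pullback.snd Y.hom v))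
  haveI : IsSeparated (F.obj X).hom := inferInstanceAs (IsSeparated (pullback.snd X.hom v))
  haveI : IsSeparated (F.obj Y).hom := inferInstanceAs (IsSeparated (pullback.snd Y.hom v))
  haveI : GeometricallyIntegral (F.obj X).hom := inferInstanceAs (GeometricallyIntegral (pullback.snd X.hom v))
  haveI : GeometricallyIntegral (F.obj Y).hom := inferInstanceAs (GeometricallyIntegral (pullback.snd Y.hom v))
  haveI : IsIntegral (F.obj X).left := Groth.Agent.H23.MaxAbelian.isIntegral_of_geometricallyIntegral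
  haveI : IsIntegral (F.obj Y).left := Groth.Agent.H23.MaxAbelian.isIntegral_of_geometricallyIntegral
  haveI : IsIso (toUnit (F.obj (𝟙_ (Over (Spec (CommRingCat.of k)))))) := by
    haveI : IsIso ((Over.forget _).map (toUnit (F.obj (𝟙_ (Over (Spec (CommRingCat.of k))))))) :=
      (inferInstance : IsIso (pullback.snd (𝟙 (Spec (CommRingCat.of k))) v))
    exact isIso_of_reflects_iso _ (Over.forget _)
  let t := inv (toUnit (F.obj (𝟙_ (Over (Spec (CommRingCat.of k))))))
  have ht : ∀ Z : Over (Spec (CommRingCat.of k)), F.map (toUnit Z) = toUnit (F.obj Z) ≫ t := fun Z => by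
    rw [IsIso.eq_comp_inv]; exact toUnit_unique _ _
  let m := CartesianMonoidalCategory.prodComparison F X Y
  let ψ := inv m ≫ F.map φ
  have hone : ∀ Z : Over (Spec (CommRingCat.of k)), F.map (1 : Z ⟶ A) = 1 := fun Z => map_one (F.homMonoidHom)
  have hψ : ψ = 1 := by
    refine Groth.Agent.AVTors.VarProd.eq_one_of_slices ψ (t ≫ F.map x₀) (t ≫ F.map y₀) ?_ ?_
    · have e : lift (𝟙 (F.obj X)) (toUnit (F.obj X) ≫ t ≫ F.map y₀) ≫ inv m = F.map (lift (𝟙 X) (toUnit X ≫ y₀)) := by
        rw [IsIso.comp_inv_eq]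
        ext1
        · rw [Category.assoc, CartesianMonoidalCategory.prodComparison_fst, ← F.map_comp, lift_fst, lift_fst, F.map_id]
        · rw [Category.assoc, CartesianMonoidalCategory.prodComparison_snd, ← F.map_comp, lift_snd, lift_snd, F.map_comp, ht, Category.assoc]
      rw [← Category.assoc, e, ← F.map_comp, hsX, hone]
    · have e : lift (toUnit (F.obj Y) ≫ t ≫ F.map x₀) (𝟙 (F.obj Y)) ≫ inv m = F.map (lift (toUnit Y ≫ x₀) (𝟙 Y)) := by
        rw [IsIso.comp_inv_eq]
        ext1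
        · rw [Category.assoc, CartesianMonoidalCategory.prodComparison_fst, ← F.map_comp, lift_fst, lift_fst, F.map_comp, ht, Category.assoc]
        · rw [Category.assoc, CartesianMonoidalCategory.prodComparison_snd, ← F.map_comp, lift_snd, lift_snd, F.map_id]
      rw [← Category.assoc, e, ← F.map_comp, hsY, hone]
  have hFφ : F.map φ = F.map (1 : X ⊗ Y ⟶ A) := by
    rw [hone, ← IsIso.hom_inv_id_assoc m (F.map φ)]
    show m ≫ ψ = 1
    rw [hψ, MonObj.comp_one]
  have hfst : ∀ g : X ⊗ Y ⟶ A, (F.map g).left ≫ pullback.fst A.hom v = pullback.fst (X ⊗ Y).hom v ≫ g.left := by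
    intro g
    simp [F]
  haveI : Surjective v := ⟨fun p => ⟨IsLocalRing.closedPoint K, @Subsingleton.elim (PrimeSpectrum k) _ _ _⟩⟩
  haveI : Flat v := by
    rw [HasRingHomProperty.Spec_iff (P := @Flat)]
    show (algebraMap k K).Flat
    rw [RingHom.flat_algebraMap_iff]
    infer_instance
  haveI : Surjective (pullback.fst (X ⊗ Y).hom v) := MorphismProperty.pullback_fst (P := @Surjective) _ _ inferInstance
  haveI : Flat (pullback.fst (X ⊗ Y).hom v) := MorphismProperty.pullback_fst (P := @Flat) _ _ inferInstance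
  haveI : Epi (pullback.fst (X ⊗ Y).hom v) := Flat.epi_of_flat_of_surjective _
  refine Over.OverMorphism.ext ((cancel_epi (pullback.fst (X ⊗ Y).hom v)).1 ?_)
  rw [← hfst, ← hfst, hFφ]

end Groth.Agent.S14584
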