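import Groth.Statements.S5341
import Groth.Agent.GrpSchLib.FieldDim

set_option autoImplicit false
universe u
open CategoryTheory CategoryTheory.Limits MonoidalCategory CartesianMonoidalCategory MonObj GrpObj AlgebraicGeometry
open SGA3

namespace Groth.Agent.S5341

/-- Let G be a group scheme locally of finite type over a field k. Then (i) every irreducible component
of G has the same dimension as G; (ii) for every point g of G the local dimension of G at g (the
infimum of the dimensions of the open neighbourhoods of g) equals dim G. -/
theorem result (k : Type u) [Field k] (G : Over (Spec (CommRingCat.of k))) [GrpObj G]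
    [LocallyOfFiniteType G.hom] :
    (∀ Z ∈ irreducibleComponents ↥G.left, topologicalKrullDim ↥Z = topologicalKrullDim ↥G.left) ∧
    (∀ g : G.left, FlatMor.localDim ↥G.left g = topologicalKrullDim ↥G.left) := by
  refine ⟨fun Z hZ => ?_, fun g => le_antisymm ?_ ?_⟩
  · have hcl := isClosed_of_mem_irreducibleComponents Z hZ
    have hgen := hZ.1.isGenericPoint_genericPoint hcl
    have hmax : Groth.Agent.GrpSchLib.IsMaxPt hZ.1.genericPoint := by
      intro d hd
      have hsub : Z ⊆ closure {d} := fun z hz => (hd.trans (hgen.specializes hz)).mem_closure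
      have hd' : d ∈ Z := hZ.2 isIrreducible_singleton.closure hsub (subset_closure rfl)
      exact (hd.antisymm (hgen.specializes hd')).eq
    rw [Groth.Agent.GrpSchLib.topologicalKrullDim_eq_deg hmax,
      ← Groth.Agent.VarDim.topologicalKrullDim_closure_singleton G.hom]
    rw [hgen.def]
  · exact iInf_le_of_le ⟨⊤, trivial⟩ (topologicalKrullDim_subspace_le _ _)
  · refine le_iInf fun U => ?_
    obtain ⟨c, hc, hcg⟩ := Groth.Agent.GrpSchLib.exists_isMaxPt g
    rw [Groth.Agent.GrpSchLib.topologicalKrullDim_eq_deg hc,
      Groth.Agent.VarDim.topologicalKrullDim_opens_eq_iSup_deg G.hom U.1]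
    exact le_iSup_of_le ⟨c, hcg.mem_open U.1.2 U.2⟩ le_rfl

end Groth.Agent.S5341
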