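import Groth.Statements.S9435
import Mathlib

set_option autoImplicit false
universe u
open CAlg

namespace Groth.Agent.S9435
open Polynomial in
theorem exists_scaled_minpoly {R : Type u} [CommRing R] (p : Ideal R) [p.IsPrime] (L : Type u) [Field L]
    [Algebra p.ResidueField L] [Algebra R L] [IsScalarTower R p.ResidueField L] [Module.Finite p.ResidueField L]
    [Algebra.IsSeparable p.ResidueField L] :
    ∃ (F : R[X]) (β : L), F.Monic ∧ aeval β F = 0 ∧ aeval β (derivative F) ≠ 0 ∧
      IntermediateField.adjoin p.ResidueField {β} = ⊤ := by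
  classical
  let K := p.ResidueField
  obtain ⟨α, hα⟩ := Field.exists_primitive_element K L
  have hi : IsIntegral K α := Algebra.IsIntegral.isIntegral α
  let m := minpoly K α
  obtain ⟨⟨c, hc⟩, hcm⟩ := IsLocalization.exist_integer_multiples (nonZeroDivisors (R ⧸ p))
    (Finset.range m.natDegree) fun i => m.coeff i
  have hc0 : algebraMap (R ⧸ p) K c ≠ 0 :=
    (map_ne_zero_iff _ (IsFractionRing.injective (R ⧸ p) K)).2 (nonZeroDivisors.ne_zero hc)
  set c' := algebraMap (R ⧸ p) K c
  let f0 := m.scaleRoots c'
  have hmon : f0.Monic := (monic_scaleRoots_iff c').2 (minpoly.monic hi)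
  have hlift : f0 ∈ lifts (algebraMap R K) := by
    rw [lifts_iff_coeff_lifts]
    intro i
    have hR : ∀ x : R ⧸ p, algebraMap (R ⧸ p) K x ∈ Set.range (algebraMap R K) := fun x => by
      obtain ⟨x, rfl⟩ := Ideal.Quotient.mk_surjective x
      exact ⟨x, IsScalarTower.algebraMap_apply R (R ⧸ p) K x⟩
    rw [coeff_scaleRoots]
    rcases lt_trichotomy i m.natDegree with h | h | h
    · obtain ⟨a, ha⟩ := hcm i (Finset.mem_range.2 h)
      obtain ⟨k, hk⟩ := Nat.exists_eq_add_of_lt h
      have hk' : m.natDegree - i = k + 1 := by omega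
      rw [hk', pow_succ']
      have he : m.coeff i * (c' * c' ^ k) = algebraMap (R ⧸ p) K (a * c ^ k) := by
        rw [map_mul, map_pow, ha, Algebra.smul_def]; ring
      rw [he]; exact hR _
    · subst h
      rw [Nat.sub_self, pow_zero, mul_one, (minpoly.monic hi).coeff_natDegree]
      exact ⟨1, map_one _⟩
    · rw [coeff_eq_zero_of_natDegree_lt h, zero_mul]
      exact ⟨0, map_zero _⟩
  obtain ⟨F, hF, -, hFm⟩ := lifts_and_degree_eq_and_monic hlift hmon
  let β := algebraMap K L c' * α
  have hroot : aeval β f0 = 0 := scaleRoots_aeval_eq_zero (minpoly.aeval K α)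
  have hadj : IntermediateField.adjoin K {β} = ⊤ := by
    rw [eq_top_iff, ← hα, IntermediateField.adjoin_le_iff, Set.singleton_subset_iff]
    have h1 : β ∈ IntermediateField.adjoin K {β} := IntermediateField.subset_adjoin K _ rfl
    have h2 := mul_mem ((IntermediateField.adjoin K {β}).inv_mem
      ((IntermediateField.adjoin K {β}).algebraMap_mem c')) h1
    rwa [← mul_assoc, inv_mul_cancel₀ ((_root_.map_ne_zero (algebraMap K L)).2 hc0), one_mul] at h2
  have hbi : IsIntegral K β := Algebra.IsIntegral.isIntegral β
  have hf0 : f0 = minpoly K β := by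
    refine (eq_of_monic_of_dvd_of_natDegree_le (minpoly.monic hbi) hmon (minpoly.dvd K β hroot) (le_of_eq ?_)).symm.symm
    rw [natDegree_scaleRoots, (Field.primitive_element_iff_minpoly_natDegree_eq K α).1 hα,
      (Field.primitive_element_iff_minpoly_natDegree_eq K β).1 hadj]
  refine ⟨F, β, hFm, ?_, ?_, hadj⟩
  · rw [← aeval_map_algebraMap K, hF, hroot]
  · rw [← aeval_map_algebraMap K, ← derivative_map, hF, hf0]
    exact (Algebra.IsSeparable.isSeparable K β).aeval_derivative_ne_zero (minpoly.aeval K β)



/-- Given a prime p of a ring R and a finite separable extension L of κ(p), there is an étale R-algebra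
R' with a prime p' over p whose residue field is κ(p)-isomorphic to L. Stated through an R-algebra
map ψ : R' → L whose image generates the field L: its kernel is such a prime p' and the induced
κ(p') → L is then an isomorphism over κ(p). -/
theorem result (R : Type u) [CommRing R]
    (p : Ideal R) [p.IsPrime] (L : Type u) [Field L] [Algebra p.ResidueField L] [Algebra R L]
    [IsScalarTower R p.ResidueField L] [Module.Finite p.ResidueField L]
    [Algebra.IsSeparable p.ResidueField L] :
    ∃ (R' : Type u) (_ : CommRing R') (_ : Algebra R R') (_ : Algebra.Etale R R') (ψ : R' →ₐ[R] L),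
      Subfield.closure (Set.range ψ) = ⊤ := by
  classical
  obtain ⟨F, β, hFm, hF0, hF', hadj⟩ := exists_scaled_minpoly p L
  let P : StandardEtalePair R :=
    { f := F, monic_f := hFm, g := Polynomial.derivative F, cond := ⟨1, 0, 1, by simp⟩ }
  have hmap : P.HasMap β := ⟨hF0, IsUnit.mk0 _ hF'⟩
  refine ⟨P.Ring, inferInstance, inferInstance, inferInstance, P.lift β hmap, ?_⟩
  rw [eq_top_iff]
  rintro x -
  let S := Subfield.closure (Set.range (P.lift β hmap))
  have hK : ∀ z : p.ResidueField, algebraMap p.ResidueField L z ∈ S := by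
    intro z
    obtain ⟨a, b, -, rfl⟩ := IsFractionRing.div_surjective (A := R ⧸ p) z
    obtain ⟨a, rfl⟩ := Ideal.Quotient.mk_surjective a
    obtain ⟨b, rfl⟩ := Ideal.Quotient.mk_surjective b
    have hm : ∀ r : R, algebraMap p.ResidueField L (algebraMap (R ⧸ p) p.ResidueField (Ideal.Quotient.mk p r)) ∈ S := by
      intro r
      rw [← Ideal.Quotient.algebraMap_eq, ← IsScalarTower.algebraMap_apply R (R ⧸ p) p.ResidueField,
        ← IsScalarTower.algebraMap_apply R p.ResidueField L]
      exact Subfield.subset_closure ⟨algebraMap R P.Ring r, AlgHom.commutes _ r⟩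
    rw [map_div₀]
    exact div_mem (hm a) (hm b)
  let E : IntermediateField p.ResidueField L := S.toIntermediateField hK
  have hle : IntermediateField.adjoin p.ResidueField {β} ≤ E := by
    rw [IntermediateField.adjoin_le_iff, Set.singleton_subset_iff]
    exact Subfield.subset_closure ⟨P.X, P.lift_X β hmap⟩
  exact hle (hadj ▸ IntermediateField.mem_top)


end Groth.Agent.S9435
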