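import Groth.Statements.S10180
import Groth.Agent.AlgSpPts.Misc
-- import your own Groth.Agent.* helpers here

set_option autoImplicit false
universe u
open CategoryTheory CategoryTheory.Limits AlgebraicGeometry Topology TopologicalSpace
open AlgSp

namespace Groth.Agent.S10180

set_option backward.isDefEq.respectTransparency false
set_option backward.isDefEq.respectTransparency.types false

open AlgSp Groth.Agent.AlgSpLib Groth.Agent.AlgSpPts

/-- An algebraic space X over a scheme S is quasi-compact if and only if there exist an affine scheme U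
over S and a representable etale, representable surjective map h_U ⟶ X. -/
theorem result {S : Scheme.{u}} (X : AlgSp.Space S) :
    AlgSp.IsQuasiCompactSp X.obj ↔
      ∃ (U : Over S) (p : (AlgSp.yon S).obj U ⟶ X.obj),
        IsAffine U.left ∧ AlgSp.RepWith @Etale p ∧ AlgSp.RepWith @Surjective p :=  by
  constructor
  · rintro ⟨U, p, he, hs, (hU : CompactSpace ↥U.left)⟩
    let 𝒰 := U.left.affineCover.finiteSubcover
    let d : (∐ 𝒰.X) ⟶ U.left := Sigma.desc 𝒰.f
    have : ∀ i, IsAffine (𝒰.X i) := fun i => inferInstanceAs (IsAffine (U.left.affineCover.X _))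
    have hd : Etale d := IsZariskiLocalAtSource.sigmaDesc (fun i => inferInstance)
    have hd' : Surjective d := Surjective.sigmaDesc_of_union_range_eq_univ 𝒰.iUnion_range
    let δ : Over.mk (d ≫ U.hom) ⟶ U := Over.homMk d rfl
    exact ⟨_, (yon S).map δ ≫ p, inferInstanceAs (IsAffine (∐ 𝒰.X)),
      repWith_comp ((repWith_yon_map_iff _ δ).2 hd) he, repWith_comp ((repWith_yon_map_iff _ δ).2 hd') hs⟩
  · rintro ⟨U, p, hU, he, hs⟩
    exact ⟨U, p, he, hs, inferInstanceAs (CompactSpace ↥U.left)⟩


end Groth.Agent.S10180
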