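import Groth.Statements.S9876
import Groth.Agent.AlgSpPts.RepByDiag
import Groth.Agent.AlgSpPts.Misc
-- import your own Groth.Agent.* helpers here

set_option autoImplicit false
universe u
open CategoryTheory CategoryTheory.Limits AlgebraicGeometry
open AlgSp

namespace Groth.Agent.S9876

set_option backward.isDefEq.respectTransparency false
set_option backward.isDefEq.respectTransparency.types false

open AlgSp Groth.Agent.AlgSpLib Groth.Agent.AlgSpPts

/-- Let `X` be an algebraic space over `S` and `G` a presheaf of sets on schemes over `S` with a map `a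
: G ⟶ X` of presheaves which is representable by schemes. Then `G` is an fppf sheaf and an algebraic
space over `S`. -/
theorem result (S : Scheme.{u}) (X : AlgSp.Space S)
    (G : AlgSp.PSp S) (a : G ⟶ X.obj.obj) (ha : (AlgSp.pyon S).relativelyRepresentable a) :
    AlgSp.IsAlgSpaceP G :=  by
  refine isAlgSpaceP_of_repBySp a (fun U ξ F' fst snd sq => ?_) ((isAlgSpaceP_obj_iff X.obj).2 X.property)
  exact (isAlgSpaceP_pyon (ha.pullback ξ)).of_iso ((ha.isPullback ξ).isoIsPullback _ _ sq)


end Groth.Agent.S9876
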