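import Groth.Statements.S5255
import Groth.Agent.GrpSchLib.HomUnitLocus
import Groth.Agent.GrpSchLib.MultTypeBC
import Groth.Agent.GrpSchLib.MultTypeComm
import Groth.Agent.TransLib.MultEssFree
-- import your own Groth.Agent.* helpers here

set_option autoImplicit false
open CategoryTheory MonoidalCategory CartesianMonoidalCategory MonObj GrpObj AlgebraicGeometry
universe u
open SGA3x

namespace Groth.Agent.S5255

/-- Let K be an S-group locally of finite type over S whose fibres are connected, and i : H ⟶ K a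
subgroup scheme of multiplicative type and of finite type which is normal in K. Then H is central in
K: for every S-scheme X, every X-point of K commutes with (the image of) every X-point of H. -/
theorem result {S : Scheme.{u}} (K H : Over S) [GrpObj K] [GrpObj H]
    [LocallyOfFiniteType K.hom] (hconn : ∀ s : S, ConnectedSpace ↥(Limits.pullback K.hom (S.fromSpecResidueField s)))
    (i : H ⟶ K) [IsMonHom i] [Mono i] (hH : SGA3x.IsMultTypeFT H) (hn : AlgGrp.IsNormalHom i) :
    ∀ (X : Over S) (k : X ⟶ K) (h : X ⟶ H), k * (h ≫ i) = (h ≫ i) * k := by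
  classical
  have hcm : ∀ {Y : Over S} (a b : Y ⟶ H), a * b = b * a :=
    fun a b => Groth.Agent.GrpSchLib.MultTypeComm.points_comm hH a b
  obtain ⟨c, hc⟩ := hn (H ⊗ K) (snd H K) (fst H K)
  let d : H ⊗ K ⟶ H := c * (fst H K)⁻¹
  have hci : ∀ {Y : Over S} (h : Y ⟶ H) (k : Y ⟶ K), k * (h ≫ i) * k⁻¹ = (lift h k ≫ c) ≫ i := by
    intro Y h k
    rw [Category.assoc, ← hc, MonObj.comp_mul, MonObj.comp_mul, GrpObj.comp_inv, lift_fst_assoc, lift_snd]
  have hd : ∀ {Y : Over S} (h : Y ⟶ H) (k : Y ⟶ K), lift h k ≫ d = (lift h k ≫ c) * h⁻¹ := by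
    intro Y h k
    rw [show d = c * (fst H K)⁻¹ from rfl, MonObj.comp_mul, GrpObj.comp_inv, lift_fst]
  have hdmul : ∀ {Y : Over S} (h h' : Y ⟶ H) (k : Y ⟶ K),
      lift (h * h') k ≫ d = (lift h k ≫ d) * (lift h' k ≫ d) := by
    intro Y h h' k
    have e1 : lift (h * h') k ≫ c = (lift h k ≫ c) * (lift h' k ≫ c) := by
      rw [← cancel_mono i, MonObj.mul_comp, ← hci, ← hci, ← hci, MonObj.mul_comp]
      group
    rw [hd, hd, hd, e1, _root_.mul_inv_rev, _root_.mul_assoc, _root_.mul_assoc]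
    congr 1
    rw [hcm h'⁻¹ h⁻¹, ← _root_.mul_assoc, hcm (lift h' k ≫ c) h⁻¹, _root_.mul_assoc]
  have hd1 : ∀ {Y : Over S} (h : Y ⟶ H), lift h (1 : Y ⟶ K) ≫ d = 1 := by
    intro Y h
    have e1 : lift h (1 : Y ⟶ K) ≫ c = h := by
      rw [← cancel_mono i, ← hci, _root_.one_mul, inv_one, _root_.mul_one]
    rw [hd, e1, mul_inv_cancel]
  -- the endomorphism of H over K
  have hHk : SGA3x.IsMultTypeFT (Red.bc K.hom H) := Groth.Agent.GrpSchLib.MultTypeBC.isMultTypeFT_bc K.hom hH
  haveI : IsAffineHom (Red.bc K.hom H).hom := (Groth.Agent.TransLib.multTypeFT_essFree hHk).1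
  haveI : LocallyOfFiniteType (Red.bc K.hom H).hom := Groth.Agent.GrpSchLib.MultTypeLft.lft hHk
  let kp : ∀ (Y : Over K.left), (Over.map K.hom).obj Y ⟶ K := fun Y => Over.homMk Y.hom rfl
  obtain ⟨w, hw⟩ := (Groth.Agent.DSPtsLib.theta_bijective (H := H) (Y := Red.bc K.hom H) K.hom).2
    (lift (Groth.Agent.DSPtsLib.theta K.hom (𝟙 _)) (kp _) ≫ d)
  have hwp : ∀ {Y : Over K.left} (a : Y ⟶ Red.bc K.hom H), Groth.Agent.DSPtsLib.theta K.hom (a ≫ w) =
      lift (Groth.Agent.DSPtsLib.theta K.hom a) (kp Y) ≫ d := by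
    intro Y a
    have e1 : (Over.map K.hom).map a ≫ Groth.Agent.DSPtsLib.theta (H := H) K.hom (𝟙 _) =
        Groth.Agent.DSPtsLib.theta K.hom a := by
      rw [← Groth.Agent.DSPtsLib.theta_comp, Category.comp_id]
    have e2 : (Over.map K.hom).map a ≫ kp (Red.bc K.hom H) = kp Y :=
      Over.OverMorphism.ext (Over.w a)
    rw [Groth.Agent.DSPtsLib.theta_comp, hw, comp_lift_assoc, e1, e2]
  have hwm : ∀ {Y : Over K.left} (a b : Y ⟶ Red.bc K.hom H), (a * b) ≫ w = (a ≫ w) * (b ≫ w) := by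
    intro Y a b
    refine (Groth.Agent.DSPtsLib.theta_bijective K.hom).1 ?_
    rw [hwp, Groth.Agent.DSPtsLib.theta_mul, Groth.Agent.DSPtsLib.theta_mul, hdmul, hwp, hwp]
  haveI : IsMonHom w := by
    constructor
    · have h := hwm (1 : 𝟙_ _ ⟶ Red.bc K.hom H) 1
      rw [_root_.one_mul, left_eq_mul] at h
      rwa [Hom.one_def, toUnit_unique (toUnit _) (𝟙 _), Category.id_comp] at h
    · have h := hwm (fst (Red.bc K.hom H) (Red.bc K.hom H)) (snd _ _)
      rw [Hom.mul_def, Hom.mul_def, lift_fst_snd, Category.id_comp] at h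
      rw [h, ← lift_map, lift_fst_snd, Category.id_comp]
  obtain ⟨U, hU, hmem, htriv⟩ := Groth.Agent.GrpSchLib.HomUnitLocus.main (u := w) hHk (Or.inr inferInstance)
  let e : S ⟶ K.left := η[K].left
  have he : e ≫ K.hom = 𝟙 S := Over.w η[K]
  have hte : Groth.Agent.GrpSchLib.HomUnitLocus.Triv w e := by
    intro Y q a
    refine (Groth.Agent.DSPtsLib.theta_bijective K.hom).1 ?_
    rw [hwp, Groth.Agent.GrpSchLib.HomUnitLocus.theta_one]
    have hk : kp Y = 1 := by
      rw [Hom.one_def]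
      refine Over.OverMorphism.ext ?_
      show Y.hom = (toUnit ((Over.map K.hom).obj Y)).left ≫ e
      rw [← Over.w q, Over.toUnit_left]
      show q.left ≫ e = (Y.hom ≫ K.hom) ≫ e
      rw [← Over.w q]
      show q.left ≫ e = ((q.left ≫ e) ≫ K.hom) ≫ e
      rw [Category.assoc q.left, he]
      exact congrArg (· ≫ e) (Category.comp_id q.left).symm
    rw [hk, hd1]
  have hunit : ∀ s : S, e s ∈ U := by
    intro s
    have hb : (S.fromSpecResidueField s ≫ e) (IsLocalRing.closedPoint (S.residueField s)) = e s := by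
      rw [Scheme.Hom.comp_apply]
      exact congrArg (fun x => e x) (Scheme.fromSpecResidueField_apply s _)
    have h1 : Groth.Agent.GrpSchLib.HomUnitLocus.Triv w (S.fromSpecResidueField s ≫ e) := hte.comp _
    rw [hmem, ← hb]
    exact (Groth.Agent.GrpSchLib.HomUnitLocus.triv_iff_of_field _).mp h1
  have hall : ∀ z : K.left, z ∈ U := by
    intro z
    let s := K.hom z
    let fs := Limits.pullback.fst K.hom (S.fromSpecResidueField s)
    haveI := hconn s
    have hrange : Set.range fs = K.hom ⁻¹' {s} := by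
      rw [Scheme.Pullback.range_fst, Scheme.range_fromSpecResidueField]
    have hcl : IsClopen (fs ⁻¹' (U : Set K.left)) := (show IsClopen (U : Set K.left) from ⟨hU, U.2⟩).preimage fs.continuous
    obtain ⟨y₀, hy₀⟩ : e s ∈ Set.range fs := by
      rw [hrange]
      show K.hom (e s) = s
      rw [← Scheme.Hom.comp_apply, he]
      rfl
    obtain ⟨y, hy⟩ : z ∈ Set.range fs := by rw [hrange]; rfl
    have h2 := hcl.eq_univ ⟨y₀, show fs y₀ ∈ U by rw [hy₀]; exact hunit s⟩
    rw [← hy]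
    exact Set.eq_univ_iff_forall.mp h2 y
  have hid : Groth.Agent.GrpSchLib.HomUnitLocus.Triv w (𝟙 K.left) := by
    have hr : Set.range (𝟙 K.left : K.left ⟶ K.left) ⊆ Set.range U.ι := by
      rw [Scheme.Opens.range_ι]
      exact fun x _ => hall x
    have h := htriv.comp (IsOpenImmersion.lift U.ι (𝟙 K.left) hr)
    rwa [IsOpenImmersion.lift_fac] at h
  intro X k h
  let Y : Over K.left := Over.mk k.left
  let j : X ⟶ (Over.map K.hom).obj Y := Over.homMk (𝟙 _) (by
    show 𝟙 _ ≫ k.left ≫ K.hom = X.hom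
    rw [Category.id_comp]; exact Over.w k)
  let j' : (Over.map K.hom).obj Y ⟶ X := Over.homMk (𝟙 _) (by
    show 𝟙 _ ≫ X.hom = k.left ≫ K.hom
    rw [Category.id_comp]; exact (Over.w k).symm)
  have hjj : j ≫ j' = 𝟙 _ := Over.OverMorphism.ext (Category.id_comp _)
  obtain ⟨a, ha⟩ := (Groth.Agent.DSPtsLib.theta_bijective (H := H) (Y := Y) K.hom).2 (j' ≫ h)
  have h1 := hid Y (Over.homMk k.left (Category.comp_id _)) a
  have h2 := congrArg (fun m => j ≫ Groth.Agent.DSPtsLib.theta (H := H) K.hom m) h1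
  simp only [hwp, Groth.Agent.GrpSchLib.HomUnitLocus.theta_one, MonObj.comp_one, comp_lift_assoc, ha] at h2
  have hk : j ≫ kp Y = k := Over.OverMorphism.ext (Category.id_comp _)
  rw [hk, reassoc_of% hjj, hd, mul_inv_eq_one] at h2
  have h3 := hci h k
  rw [h2, mul_inv_eq_iff_eq_mul] at h3
  exact h3

end Groth.Agent.S5255
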