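import Groth.Statements.S17451
import Groth.Agent.AGFLib.QuasiComp.Semiab
-- import your own Groth.Agent.* helpers here

set_option autoImplicit false
set_option backward.isDefEq.respectTransparency false
set_option backward.isDefEq.respectTransparency.types false
set_option linter.style.haveILetI false
universe u
open CategoryTheory MonoidalCategory CartesianMonoidalCategory MonObj GrpObj AlgebraicGeometry CategoryTheory.Limits
open AlgGrp

namespace Groth.Agent.S17451

/-- Let k be a field with algebraic closure K and G a smooth connected k-group scheme of finite type,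
not assumed commutative, whose base change G_K has a torus as a subgroup with an abelian variety as
the quotient: there are a closed subgroup scheme T of G_K which is a torus and a flat surjective
homomorphism from G_K onto a proper smooth connected K-group scheme with kernel T. Then G is
commutative. (The published result also asserts that G then has, over k itself, a unique torus
subgroup with abelian-variety quotient of this kind; only commutativity is stated here.) -/
theorem result (k : Type u) [Field k]
    (G : Over (Spec (CommRingCat.of k))) [GrpObj G] [Smooth G.hom] [QuasiCompact G.hom] [ConnectedSpace ↥G.left]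
    (hK : (∃ (T : Over (Spec (CommRingCat.of (AlgebraicClosure k)))) (_ : GrpObj T) (i : T ⟶ Red.bc (Spec.map (CommRingCat.ofHom (algebraMap k (AlgebraicClosure k)))) G) (A : Over (Spec (CommRingCat.of (AlgebraicClosure k)))) (_ : GrpObj A) (q : Red.bc (Spec.map (CommRingCat.ofHom (algebraMap k (AlgebraicClosure k)))) G ⟶ A),
        IsMonHom i ∧ IsClosedImmersion i.left ∧ Red.IsTorus T ∧ IsMonHom q ∧ Surjective q.left ∧ Flat q.left ∧
        AlgGrp.IsKernel i q ∧ IsProper A.hom ∧ Smooth A.hom ∧ ConnectedSpace ↥A.left)) :
    IsCommMonObj G := by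
  obtain ⟨T, _, i, A, _, q, hi, hic, hT, hq, hqs, hqf, hk, hAp, hAs, hAc⟩ := hK
  haveI := hi; haveI := hic; haveI := hq; haveI := hqs; haveI := hqf; haveI := hAp; haveI := hAs; haveI := hAc
  let σ := Spec.map (CommRingCat.ofHom (algebraMap k (AlgebraicClosure k)))
  haveI : Smooth (Red.bc σ G).hom := inferInstanceAs (Smooth (pullback.snd G.hom σ))
  haveI : QuasiCompact (Red.bc σ G).hom := inferInstanceAs (QuasiCompact (pullback.snd G.hom σ))
  haveI : ConnectedSpace (Red.bc σ G).left :=
    GrpSchLib.AntiAffine.connectedSpace_bc G (algebraMap k (AlgebraicClosure k))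
  haveI : IsCommMonObj (Red.bc σ G) := AGFLib.QuasiComp.comm_of_semiabelian i hT q hk
  haveI := GrpSchLib.AntiAffine.isSeparated_grp G
  refine ⟨?_⟩
  rw [MonObj.mul_eq_mul G, MonObj.comp_mul, CartesianMonoidalCategory.braiding_hom_fst,
    CartesianMonoidalCategory.braiding_hom_snd]
  let F := Over.pullback σ
  have h : F.map (snd G G * fst G G) = F.map (fst G G * snd G G) :=
    ((map_mul (F.homMonoidHom (X := G ⊗ G) (M := G)) _ _).trans (mul_comm (G := F.obj (G ⊗ G) ⟶ Red.bc σ G) _ _)).trans
      (map_mul (F.homMonoidHom (X := G ⊗ G) (M := G)) _ _).symm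
  refine Over.OverMorphism.ext ((cancel_epi (pullback.fst (G ⊗ G).hom σ)).1 ?_)
  have h1 : ∀ f : G ⊗ G ⟶ G, (F.map f).left ≫ pullback.fst G.hom σ = pullback.fst (G ⊗ G).hom σ ≫ f.left :=
    fun f => pullback.lift_fst _ _ _
  rw [← h1, ← h1, h]

end Groth.Agent.S17451
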