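import Groth.Statements.S3036
import Groth.Agent.GrpSchLib.HomFinite

set_option autoImplicit false
universe u
open CategoryTheory MonoidalCategory CartesianMonoidalCategory MonObj GrpObj AlgebraicGeometry TensorProduct
open SGA3

namespace Groth.Agent.S3036

/-- Let A be a local artinian ring and u : G → H a homomorphism between group schemes locally of finite
type over A which is a quasi-compact monomorphism. Then u is a closed immersion. -/
theorem result (A : Type u) [CommRing A] [IsArtinianRing A] [IsLocalRing A]
    (G H : Over (Spec (CommRingCat.of A))) [GrpObj G] [GrpObj H] [LocallyOfFiniteType G.hom] [LocallyOfFiniteType H.hom]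
    (u : G ⟶ H) [IsMonHom u] [Mono u] [QuasiCompact u.left] : IsClosedImmersion u.left := by
  haveI : IsSeparated u.left := by
    have := Groth.Agent.GrpSchLib.HomFinite.isSeparated G
    have : IsSeparated (u.left ≫ H.hom) := by rwa [Over.w u]
    exact IsSeparated.of_comp u.left H.hom
  haveI : LocallyOfFiniteType u.left := by
    have : LocallyOfFiniteType (u.left ≫ H.hom) := by rw [Over.w u]; infer_instance
    exact locallyOfFiniteType_of_comp u.left H.hom
  haveI : Mono u.left := (Over.forget _).map_mono u
  haveI := Groth.Agent.GrpSchLib.HomFinite.isFinite u
  exact (IsClosedImmersion.iff_isFinite_and_mono u.left).mpr ⟨inferInstance, inferInstance⟩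

end Groth.Agent.S3036
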