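import Groth.Statements.S6270
import Mathlib
import Groth.Agent.CAlgOdd.NilProj

set_option autoImplicit false
universe u
open scoped TensorProduct
open CAlg

namespace Groth.Agent.S6270

/-- Let R be a ring, I ⊆ R a nilpotent ideal and M an R-module. If M is flat over R and M/IM (that is,
R/I ⊗ M) is a projective R/I-module, then M is a projective R-module. -/
theorem result {R : Type u} [CommRing R] (I : Ideal R) (hI : IsNilpotent I) (M : Type u) [AddCommGroup M] [Module R M] [Module.Flat R M] (hproj : Module.Projective (R ⧸ I) ((R ⧸ I) ⊗[R] M)) : Module.Projective R M := by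
  let π : (M →₀ R) →ₗ[R] M := Finsupp.linearCombination R id
  have hπ : Function.Surjective π := Finsupp.linearCombination_id_surjective R M
  obtain ⟨t, ht⟩ := Groth.Agent.CAlgOdd.exists_section_of_flat_of_nilpotent (K := ↥(LinearMap.ker π)) I hI π hπ
    (LinearMap.ker π).subtype Subtype.val_injective (LinearMap.exact_subtype_ker_map π) hproj
  exact Module.Projective.of_split t π ht

end Groth.Agent.S6270
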