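import Groth.Statements.S5356
import Groth.Agent.QuotMapLib.Basic
import Groth.Agent.S6270
import Mathlib.AlgebraicGeometry.Morphisms.Affine
import Mathlib.RingTheory.SimpleModule.Basic

set_option autoImplicit false
universe u
open CategoryTheory CategoryTheory.Limits MonoidalCategory CartesianMonoidalCategory MonObj GrpObj AlgebraicGeometry
open SGA3

namespace Groth.Agent.S5356

open scoped TensorProduct in
/-- A flat module over an artinian ring is projective. -/
theorem projective_of_artinian {A : Type u} [CommRing A] [IsArtinianRing A] (M : Type u) [AddCommGroup M] [Module A M]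
    [Module.Flat A M] : Module.Projective A M := by
  haveI : IsReduced (A ⧸ nilradical A) := (Ideal.isRadical_iff_quotient_reduced _).mp (Ideal.radical_isRadical _)
  haveI : IsArtinianRing (A ⧸ nilradical A) := inferInstance
  haveI : IsSemisimpleRing (A ⧸ nilradical A) := IsArtinianRing.isSemisimpleRing_of_isReduced _
  exact Groth.Agent.S6270.result (nilradical A) IsArtinianRing.isNilpotent_nilradical M
    (Module.projective_of_isSemisimpleRing _ _)

/-- Artinian charts. -/
theorem essFree_of_artinian (A : Type u) [CommRing A] [IsArtinianRing A] (X : Scheme.{u})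
    (f : X ⟶ Spec (CommRingCat.of A)) (hf : Flat f) : SGA3x.IsEssentiallyFree f := by
  intro s
  let U : (Spec (CommRingCat.of A)).Opens := ⊤
  haveI : IsAffine (U : Scheme.{u}) := isAffineOpen_top _
  refine ⟨U, trivial, isAffineOpen_top _, U, inferInstance, 𝟙 _, inferInstance, inferInstance, fun x => ?_⟩
  let P := pullback f (𝟙 (U : Scheme.{u}) ≫ U.ι)
  obtain ⟨V, hV, hxV, -⟩ := exists_isAffineOpen_mem_and_subset (show x ∈ (⊤ : P.Opens) from trivial)
  haveI : IsAffine (V : Scheme.{u}) := hV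
  refine ⟨V, hxV, hV, ?_⟩
  let φ := (V.ι ≫ pullback.snd f (𝟙 (U : Scheme.{u}) ≫ U.ι)).appTop
  letI := φ.hom.toAlgebra
  haveI : IsArtinianRing Γ((U : Scheme.{u}), ⊤) :=
    (U.topIso ≪≫ Scheme.ΓSpecIso (CommRingCat.of A)).symm.commRingCatIsoToRingEquiv.surjective.isArtinianRing
  haveI : Module.Flat Γ((U : Scheme.{u}), ⊤) Γ((V : Scheme.{u}), ⊤) :=
    (V.ι ≫ pullback.snd f (𝟙 (U : Scheme.{u}) ≫ U.ι)).flat_appTop
  exact projective_of_artinian _

/-- b), c) (first assertion of c)): (a) an essentially free morphism f : X → S is flat, and conversely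
if S is the spectrum of an artinian ring every flat S-scheme is essentially free over S; (b) every
scheme over a field is essentially free over it; (c) if X is essentially free over S then X ×_S S'
is essentially free over S' for every S' → S. -/
theorem result :
    (∀ (X S : Scheme.{u}) (f : X ⟶ S), SGA3x.IsEssentiallyFree f → Flat f) ∧
    (∀ (A : Type u) [CommRing A] [IsArtinianRing A] (X : Scheme.{u}) (f : X ⟶ Spec (CommRingCat.of A)),
      Flat f → SGA3x.IsEssentiallyFree f) ∧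
    (∀ (k : Type u) [Field k] (X : Scheme.{u}) (f : X ⟶ Spec (CommRingCat.of k)), SGA3x.IsEssentiallyFree f) ∧
    (∀ (X S S' : Scheme.{u}) (f : X ⟶ S) (g : S' ⟶ S), SGA3x.IsEssentiallyFree f →
      SGA3x.IsEssentiallyFree (pullback.snd f g)) := by
  refine ⟨fun X S f h => ?_, essFree_of_artinian, fun k _ X f => ?_, fun X S S' f g h => ?_⟩
  · refine IsZariskiLocalAtTarget.of_forall_exists_morphismRestrict fun s => ?_
    obtain ⟨U, hsU, hU, T, _, q, _, _, hV⟩ := h s
    refine ⟨U, hsU, ?_⟩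
    haveI : Flat (pullback.snd f (q ≫ U.ι)) := by
      choose V hxV hVa hproj using hV
      rw [IsZariskiLocalAtSource.iff_of_iSup_eq_top (P := @Flat) V
        (eq_top_iff.mpr fun x _ => TopologicalSpace.Opens.mem_iSup.mpr ⟨x, hxV x⟩)]
      intro x
      haveI : IsAffine (V x : Scheme.{u}) := hVa x
      rw [HasRingHomProperty.iff_of_isAffine (P := @Flat)]
      letI := ((V x).ι ≫ pullback.snd f (q ≫ U.ι)).appTop.hom.toAlgebra
      haveI := hproj x
      exact inferInstanceAs (Module.Flat Γ(T, ⊤) Γ((V x : Scheme.{u}), ⊤))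
    haveI : Flat (𝟙 T ≫ q) := by rwa [Category.id_comp]
    haveI : Surjective (𝟙 T ≫ q) := by rwa [Category.id_comp]
    let P := pullback f (q ≫ U.ι)
    have H : IsPullback (pullback.snd f (q ≫ U.ι))
        ((isPullback_morphismRestrict f U).flip.lift (pullback.fst f (q ≫ U.ι)) (pullback.snd f (q ≫ U.ι) ≫ q)
          (by rw [pullback.condition, Category.assoc])) q (f ∣_ U) := by
      refine (IsPullback.of_right (h₁₂ := (f ⁻¹ᵁ U).ι) (h₂₂ := U.ι) (v₁₃ := f) ?_ ?_
        (isPullback_morphismRestrict f U).flip).flip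
      · rw [IsPullback.lift_fst]
        exact IsPullback.of_hasPullback f (q ≫ U.ι)
      · rw [IsPullback.lift_snd]
    exact Groth.Agent.QuotMapLib.flat_of_isPullback q (𝟙 T) (f ∣_ U) (pullback.snd f (q ≫ U.ι)) _ H
  · exact essFree_of_artinian k X f inferInstance
  · intro s'
    obtain ⟨U, hsU, hU, T, hT, q, hq1, hq2, hV⟩ := h (g s')
    obtain ⟨U', hU', hs', hle⟩ := exists_isAffineOpen_mem_and_subset (show s' ∈ g ⁻¹ᵁ U from hsU)
    haveI : IsAffine (U : Scheme.{u}) := hU
    haveI : IsAffine (U' : Scheme.{u}) := hU'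
    let r := g.resLE U U' hle
    let T' := pullback q r
    let q' : T' ⟶ (U' : Scheme.{u}) := pullback.snd q r
    let p₁ : T' ⟶ T := pullback.fst q r
    refine ⟨U', hs', hU', T', inferInstance, q', inferInstance, inferInstance, fun x => ?_⟩
    let sn := pullback.snd (pullback.snd f g) (q' ≫ U'.ι)
    let fs := pullback.fst (pullback.snd f g) (q' ≫ U'.ι)
    have hc : p₁ ≫ q ≫ U.ι = (q' ≫ U'.ι) ≫ g := by
      simp only [p₁, q', Category.assoc, pullback.condition_assoc]
      rw [Scheme.Hom.resLE_comp_ι]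
    let π := pullback.lift (f := f) (g := q ≫ U.ι) (fs ≫ pullback.fst f g) (sn ≫ p₁) (by
      rw [Category.assoc, pullback.condition, ← Category.assoc, pullback.condition]
      simp only [sn, Category.assoc]
      rw [hc, Category.assoc])
    have H : IsPullback π sn (pullback.snd f (q ≫ U.ι)) p₁ := by
      refine IsPullback.of_right (h₁₂ := pullback.fst f (q ≫ U.ι)) (h₂₂ := q ≫ U.ι) (v₁₃ := f) ?_ (pullback.lift_snd _ _ _)
        (IsPullback.of_hasPullback f (q ≫ U.ι))
      rw [pullback.lift_fst, hc]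
      exact (IsPullback.of_hasPullback (pullback.snd f g) (q' ≫ U'.ι)).paste_horiz (IsPullback.of_hasPullback f g)
    obtain ⟨V, hxV, hVa, hproj⟩ := hV (π x)
    haveI : IsAffine (V : Scheme.{u}) := hVa
    have HV : IsPullback (π ∣_ V) ((π ⁻¹ᵁ V).ι ≫ sn) (V.ι ≫ pullback.snd f (q ≫ U.ι)) p₁ :=
      (isPullback_morphismRestrict π V).paste_vert H
    haveI : IsAffine (π ⁻¹ᵁ V : Scheme.{u}) := IsAffine.of_isPullback HV
    refine ⟨π ⁻¹ᵁ V, hxV, (inferInstance : IsAffine (π ⁻¹ᵁ V : Scheme.{u})), ?_⟩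
    letI := ((π ⁻¹ᵁ V).ι ≫ sn).appTop.hom.toAlgebra
    letI := (V.ι ≫ pullback.snd f (q ≫ U.ι)).appTop.hom.toAlgebra
    letI := p₁.appTop.hom.toAlgebra
    letI := (π ∣_ V).appTop.hom.toAlgebra
    letI : Algebra Γ(T, ⊤) Γ((π ⁻¹ᵁ V : Scheme.{u}), ⊤) :=
      (((π ⁻¹ᵁ V).ι ≫ sn).appTop.hom.comp p₁.appTop.hom).toAlgebra
    haveI : IsScalarTower Γ(T, ⊤) Γ(T', ⊤) Γ((π ⁻¹ᵁ V : Scheme.{u}), ⊤) := IsScalarTower.of_algebraMap_eq' rfl
    have hcomm : (V.ι ≫ pullback.snd f (q ≫ U.ι)).appTop ≫ (π ∣_ V).appTop = p₁.appTop ≫ ((π ⁻¹ᵁ V).ι ≫ sn).appTop :=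
      (isPushout_appTop_of_isPullback HV).w
    haveI : IsScalarTower Γ(T, ⊤) Γ((V : Scheme.{u}), ⊤) Γ((π ⁻¹ᵁ V : Scheme.{u}), ⊤) :=
      IsScalarTower.of_algebraMap_eq' (congrArg CommRingCat.Hom.hom hcomm).symm
    have hpush : IsPushout (CommRingCat.ofHom (algebraMap Γ(T, ⊤) Γ(T', ⊤)))
        (CommRingCat.ofHom (algebraMap Γ(T, ⊤) Γ((V : Scheme.{u}), ⊤)))
        (CommRingCat.ofHom (algebraMap Γ(T', ⊤) Γ((π ⁻¹ᵁ V : Scheme.{u}), ⊤)))
        (CommRingCat.ofHom (algebraMap Γ((V : Scheme.{u}), ⊤) Γ((π ⁻¹ᵁ V : Scheme.{u}), ⊤))) :=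
      (isPushout_appTop_of_isPullback HV).flip
    have hAlg : Algebra.IsPushout Γ(T, ⊤) Γ(T', ⊤) Γ((V : Scheme.{u}), ⊤) Γ((π ⁻¹ᵁ V : Scheme.{u}), ⊤) :=
      CommRingCat.isPushout_iff_isPushout.mp hpush
    haveI := hproj
    exact Module.Projective.of_equiv hAlg.out.equiv

end Groth.Agent.S5356
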