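import Groth.Statements.S5247
import Groth.Agent.MultTypeLib.TransporterSmooth
-- import your own Groth.Agent.* helpers here

set_option autoImplicit false
open CategoryTheory MonoidalCategory CartesianMonoidalCategory MonObj GrpObj AlgebraicGeometry
universe u
open SGA3x

namespace Groth.Agent.S5247

/-- Let H be an S-group of multiplicative type and of finite type, G an S-group smooth and affine over S
and u : H ⟶ G a homomorphism of S-groups. Then the centralizer of u (the subfunctor of G of points g
with int(g) ∘ u = u after every base change) is representable by a closed subgroup scheme of G which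
is smooth over S. -/
theorem result {S : Scheme.{u}} (H G : Over S) [GrpObj H] [GrpObj G]
    (hH : SGA3x.IsMultTypeFT H) (hG : Smooth G.hom) (hGa : IsAffineHom G.hom) (u : H ⟶ G) [IsMonHom u] :
    ∃ (Z : Over S) (_ : GrpObj Z) (j : Z ⟶ G), Red.IsCentralizerOf u j ∧ IsClosedImmersion j.left ∧ Smooth Z.hom := by
  exact MultTypeLib.TransporterSmooth.exists_centralizer hH u

end Groth.Agent.S5247
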