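import Groth.Statements.S18811
import Mathlib.AlgebraicGeometry.Morphisms.Flat
import Mathlib.RingTheory.RingHom.Flat
import Mathlib.RingTheory.Flat.Basic

set_option autoImplicit false
universe u
open CategoryTheory CategoryTheory.Limits AlgebraicGeometry
open Variety

namespace Groth.Agent.S18811

/-- Let k be a field and X, Y quasi-compact k-schemes whose diagonal morphisms over k are affine
(semi-separated; for instance X and Y separated over k). Then the canonical map Γ(X, O_X) ⊗_k Γ(Y,
O_Y) → Γ(X ×_k Y, O) is an isomorphism: the commutative square of rings of global sections formed by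
Spec k, X, Y and X ×_k Y with the pullback maps along the structure morphisms and the two
projections is a pushout square of commutative rings. -/
theorem result (k : Type u) [Field k]
    (X : Scheme.{u}) [X.Over (Spec (CommRingCat.of k))] [CompactSpace ↥X]
    [IsAffineHom (pullback.diagonal (X ↘ (Spec (CommRingCat.of k))))]
    (Y : Scheme.{u}) [Y.Over (Spec (CommRingCat.of k))] [CompactSpace ↥Y]
    [IsAffineHom (pullback.diagonal (Y ↘ (Spec (CommRingCat.of k))))] :
    IsPushout (X ↘ (Spec (CommRingCat.of k))).appTop (Y ↘ (Spec (CommRingCat.of k))).appTop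
      (pullback.fst (X ↘ (Spec (CommRingCat.of k))) (Y ↘ (Spec (CommRingCat.of k)))).appTop
      (pullback.snd (X ↘ (Spec (CommRingCat.of k))) (Y ↘ (Spec (CommRingCat.of k)))).appTop := by
  set fX := X ↘ (Spec (CommRingCat.of k))
  set fY := Y ↘ (Spec (CommRingCat.of k))
  haveI : QuasiSeparated fX := ⟨inferInstance⟩
  haveI : QuasiSeparated fY := ⟨inferInstance⟩
  haveI : QuasiSeparatedSpace X := quasiSeparatedSpace_of_quasiSeparated fX
  haveI : QuasiSeparatedSpace Y := quasiSeparatedSpace_of_quasiSeparated fY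
  have hflat : ∀ {Z : Scheme.{u}} (h : Z ⟶ Spec (CommRingCat.of k)) (U : Z.Opens) (e : U ≤ h ⁻¹ᵁ ⊤),
      (h.appLE ⊤ U e).hom.Flat := by
    intro Z h U e
    have hF : IsField Γ(Spec (CommRingCat.of k), ⊤) :=
      MulEquiv.isField (Field.toIsField k) (Scheme.ΓSpecIso (CommRingCat.of k)).commRingCatIsoToRingEquiv.toMulEquiv
    letI := hF.toField
    letI := (h.appLE ⊤ U e).hom.toAlgebra
    exact (inferInstance : Module.Flat Γ(Spec (CommRingCat.of k), ⊤) Γ(Z, U))
  haveI : Flat fY := inferInstance
  have hiso := isIso_pushoutSection_of_isCompact_of_flat_right_of_ringHomFlat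
    (IsPullback.of_hasPullback fX fY) (US := ⊤) (UT := ⊤) (UX := ⊤) (UY := ⊤)
    le_top le_top (by simp) (isAffineOpen_top _) isCompact_univ isQuasiSeparated_univ isCompact_univ
    isQuasiSeparated_univ (hflat fX ⊤ le_top)
  have h := (isIso_pushoutSection_iff (IsPullback.of_hasPullback fX fY) (US := ⊤) (UT := ⊤) (UX := ⊤) (UY := ⊤)
    le_top le_top (by simp)).mp hiso
  have e : ∀ {A B : Scheme.{u}} (h : A ⟶ B) (p : (⊤ : A.Opens) ≤ h ⁻¹ᵁ ⊤), h.appLE ⊤ ⊤ p = h.appTop :=
    fun h _ => (Scheme.Hom.app_eq_appLE h (U := ⊤)).symm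
  simp only [e] at h
  convert h using 1 <;> exact (e _ _).symm

end Groth.Agent.S18811
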