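import Groth.Statements.S5375
import Groth.Agent.SubcomodGenLib.Basic
import Groth.Agent.ComodLib.Coalg
import Groth.Agent.ComodLib.Antipode
import Groth.Prelude.Def_ComodSub
-- import your own Groth.Agent.* helpers here

set_option autoImplicit false
universe u
open CategoryTheory CategoryTheory.Limits MonoidalCategory CartesianMonoidalCategory MonObj GrpObj AlgebraicGeometry
open SGA3

namespace Groth.Agent.S5375

open scoped TensorProduct

/-- Let A be a commutative Hopf algebra over a field k (an affine k-group, not necessarily of finite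
type) and x an element of A. Then there is a subalgebra B of A of finite type over k containing x
which is a sub-Hopf-algebra: the comultiplication sends B into B ⊗ B and the antipode preserves B. -/
theorem result (k : Type u) [Field k] (A : Type u) [CommRing A] [HopfAlgebra k A] (x : A) :
    ∃ B : Subalgebra k A, x ∈ B ∧ B.FG ∧ SGA3.IsHopfSubalgebra k A B := by
  classical
  -- a finite-dimensional subcoalgebra containing `x`
  obtain ⟨W, hW, hxW, hWfin⟩ : ∃ W : Submodule k A, HopfRep.IsSubcomod (k := k) (A := A) W ∧ x ∈ W ∧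
      W.FG := by
    have : Module.Projective k (k ⊗[k] A) := Module.Projective.of_free
    exact ⟨_, Groth.Agent.SubcomodGenLib.isSubcomod_gen k (Submodule.span k {x}),
      Groth.Agent.SubcomodGenLib.le_gen k _ (Submodule.mem_span_singleton_self x),
      Groth.Agent.SubcomodGenLib.fg_gen k _ ⟨{x}, by simp⟩⟩
  let cW := ComodSub.Comod.restr (HopfRep.Comod.regular k A) W hW
  have : Module.Finite k W := Module.Finite.iff_fg.mpr hWfin
  let D : Submodule k A := @Groth.Agent.ComodLib.coeffSpace k _ A _ _ _ W _ _ cW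
  have hD : Groth.Agent.ComodLib.IsSubcoalg k A D :=
    @Groth.Agent.ComodLib.isSubcoalg_coeffSpace k _ A _ _ _ W _ _ cW
  have hDfin : Module.Finite k D :=
    @Groth.Agent.ComodLib.finite_coeffSpace k _ A _ _ _ W _ _ cW _
  have hxD : x ∈ D :=
    @Groth.Agent.ComodLib.range_le_coeffSpace k _ A _ _ _ W _ _ cW W.subtype
      (ComodSub.isComodHom_subtype _ W hW) x ⟨⟨x, hxW⟩, rfl⟩
  let S : A →ₐ[k] A := HopfAlgebra.antipodeAlgHom k A
  let B : Subalgebra k A := Algebra.adjoin k ((D : Set A) ∪ S '' (D : Set A))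
  have hB1 : ∀ d ∈ D, d ∈ B := fun d hd => Algebra.subset_adjoin (Or.inl hd)
  have hB2 : ∀ d ∈ D, S d ∈ B := fun d hd => Algebra.subset_adjoin (Or.inr ⟨d, hd, rfl⟩)
  refine ⟨B, hB1 x hxD, ?_, ?_, ?_⟩
  · obtain ⟨T, hT⟩ := Module.Finite.iff_fg.mp hDfin
    refine ⟨T ∪ T.image S, le_antisymm (Algebra.adjoin_le ?_) (Algebra.adjoin_le ?_)⟩
    · rw [Finset.coe_union, Finset.coe_image]
      rintro a (ha | ⟨b, hb, rfl⟩)
      · exact hB1 a (hT ▸ Submodule.subset_span ha)
      · exact hB2 b (hT ▸ Submodule.subset_span hb)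
    · set B₀ := Algebra.adjoin k ((T ∪ T.image S : Finset A) : Set A) with hB₀
      have h1 : D ≤ Subalgebra.toSubmodule B₀ := by
        rw [← hT, Submodule.span_le]
        exact fun a ha => Algebra.subset_adjoin (Finset.mem_coe.mpr (Finset.mem_union_left _ ha))
      have h2 : D.map S.toLinearMap ≤ Subalgebra.toSubmodule B₀ := by
        rw [← hT, Submodule.map_span, Submodule.span_le]
        rintro _ ⟨a, ha, rfl⟩
        exact Algebra.subset_adjoin (Finset.mem_coe.mpr (Finset.mem_union_right _ (Finset.mem_image_of_mem _ ha)))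
      rintro a (ha | ⟨b, hb, rfl⟩)
      · exact h1 ha
      · exact h2 ⟨b, hb, rfl⟩
  · intro b hb
    let R := (Algebra.TensorProduct.map B.val B.val).range
    suffices h : B ≤ R.comap (Bialgebra.comulAlgHom k A) by
      obtain ⟨t, ht⟩ := h hb
      exact ⟨t, ht⟩
    refine Algebra.adjoin_le ?_
    have hmem : ∀ (f g : A →ₗ[k] A), (∀ d ∈ D, f d ∈ B) → (∀ d ∈ D, g d ∈ B) →
        ∀ t : D ⊗[k] D, TensorProduct.map f g (TensorProduct.map D.subtype D.subtype t) ∈ R := by
      intro f g hf hg t
      induction t using TensorProduct.induction_on with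
      | zero => rw [map_zero, map_zero]; exact R.zero_mem
      | tmul p q => exact ⟨⟨f p, hf p p.2⟩ ⊗ₜ ⟨g q, hg q q.2⟩, rfl⟩
      | add p q hp hq => rw [map_add, map_add]; exact R.add_mem hp hq
    rintro a (ha | ⟨d, hd, rfl⟩)
    · obtain ⟨t, ht⟩ := hD a ha
      show CoalgebraStruct.comul a ∈ R
      rw [← ht]
      simpa using hmem LinearMap.id LinearMap.id hB1 hB1 t
    · obtain ⟨t, ht⟩ := hD d hd
      show CoalgebraStruct.comul (HopfAlgebra.antipode k d) ∈ R
      rw [Groth.Agent.ComodLib.comul_antipode, ← ht]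
      have h' := hmem (HopfAlgebra.antipode k) (HopfAlgebra.antipode k) hB2 hB2 (TensorProduct.comm k D D t)
      rw [TensorProduct.map_comm] at h'
      exact h'
  · intro b hb
    suffices h : B ≤ B.comap S from h hb
    refine Algebra.adjoin_le ?_
    rintro a (ha | ⟨d, hd, rfl⟩)
    · exact hB2 a ha
    · show S (S d) ∈ B
      rw [show S (S d) = d from Groth.Agent.ComodLib.antipode_antipode_apply d]
      exact hB1 d hd


end Groth.Agent.S5375
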