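import Groth.Statements.S5423
import Groth.Agent.ComodLib.Trig
import Groth.Agent.ComodLib.MatrixComod
import Groth.Agent.SepIdemLib.Basic
import Mathlib.RepresentationTheory.AlgebraRepresentation.Basic
-- import your own Groth.Agent.* helpers here

set_option autoImplicit false
universe u
open TensorProduct
open SGA3t2b
open scoped Groth.Agent.ComodLib

namespace Groth.Agent.S5423

/-- Let k be an algebraically closed field and A a reduced finitely generated commutative Hopf algebra
over k (a smooth affine algebraic k-group G). Then G is unipotent (every non-zero finite-dimensional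
representation has a non-zero fixed vector) if and only if every element of G(k) is unipotent, i.e.
every k-point g : A → k acts on every finite-dimensional comodule V by an endomorphism g_V with g_V
− 1 nilpotent. -/
theorem result (k : Type u) [Field k] [IsAlgClosed k] (A : Type u) [CommRing A] [HopfAlgebra k A] [Algebra.FiniteType k A]
    [IsReduced A] :
    HopfRep.IsUnipotent k A ↔
      ∀ (g : A →ₐ[k] k) (V : Type u) [AddCommGroup V] [Module k V] [HopfRep.Comod k A V],
        Module.Finite k V → IsNilpotent (HopfRep.Comod.act k A V g - LinearMap.id) := by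
  classical
  refine ⟨fun hU g V _ _ _ _ => ComodLib.isNilpotent_act_sub_one hU g V, fun h V _ _ _ _ hne => ?_⟩
  obtain ⟨S, -, hSf, hS, hS0, hmin⟩ := ComodLib.exists_simple_le (k := k) (C := A) (V := V)
    (U := ⊤) (fun v _ => ⟨(Submodule.topEquiv.symm.toLinearMap.rTensor A) (HopfRep.Comod.coact (k := k) (A := A) v), by
      rw [← LinearMap.comp_apply, ← LinearMap.rTensor_comp,
        show (⊤ : Submodule k V).subtype ∘ₗ Submodule.topEquiv.symm.toLinearMap = LinearMap.id from rfl,
        LinearMap.rTensor_id, LinearMap.id_apply]⟩)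
    (by exact top_ne_bot)
  letI cS : HopfRep.Comod k A S := ComodSub.Comod.restr ‹HopfRep.Comod k A V› S hS
  haveI := hSf
  have hsimple : HopfRep.IsSimpleComod k A S := ComodLib.isSimpleComod_restr hS hS0 hmin
  haveI : IsSimpleModule (WithConv (A →ₗ[k] k)) S := ComodLib.isSimpleComod_iff_isSimpleModule.mp hsimple
  let b := Module.finBasis k S
  let M := ComodLib.matrixOf (A := A) b
  have hM : ComodLib.IsComodMatrix k M := ComodLib.isComodMatrix_matrixOf b
  have hact : ∀ (d : A →ₗ[k] k) j, ComodLib.actF d (b j) = ∑ i, d (M i j) • b i := by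
    intro d j
    rw [ComodLib.actF_apply, ComodLib.coact_matrixOf b, map_sum]
    simp [ComodLib.slice, M]
  -- density
  have hdens : ∀ p q, ∃ d : A →ₗ[k] k, ∀ i j, d (M i j) = if i = p ∧ j = q then 1 else 0 := by
    intro p q
    let f₀ : S →ₗ[k] S := b.constr k fun j => if j = q then b p else 0
    let f : Module.End (Module.End (WithConv (A →ₗ[k] k)) S) S :=
      { toFun := f₀
        map_add' := map_add f₀
        map_smul' := fun φ x => by
          obtain ⟨c, rfl⟩ := (IsSimpleModule.algebraMap_end_bijective_of_isAlgClosed k (A := WithConv (A →ₗ[k] k)) (V := S)).2 φ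
          show f₀ (c • x) = c • f₀ x
          exact map_smul f₀ c x }
    obtain ⟨r, hr⟩ := jacobson_density f (Finset.univ.image b)
    refine ⟨r.ofConv, fun i j => ?_⟩
    have e : f₀ (b j) = ComodLib.actF r.ofConv (b j) := hr (b j) (Finset.mem_image_of_mem b (Finset.mem_univ j))
    rw [hact, Module.Basis.constr_basis] at e
    have := congrArg (fun x => b.repr x i) e
    simp only [map_sum, map_smul, Finsupp.coe_finsetSum, Finset.sum_apply, Finsupp.smul_apply,
      Module.Basis.repr_self, smul_eq_mul] at this
    rw [Finset.sum_eq_single i (fun l _ hl => by simp [hl]) (by simp)] at this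
    rw [Finsupp.single_eq_same, mul_one] at this
    rw [← this]
    by_cases hj : j = q
    · subst hj; simp [Finsupp.single_apply, eq_comm]
    · simp [hj]
  -- traces of unipotent points
  have htrace : ∀ g : A →ₐ[k] k, ∑ j, g (M j j) = (Fintype.card (Fin (Module.finrank k S)) : k) := by
    intro g
    have hn := (LinearMap.isNilpotent_trace_of_isNilpotent (h g S inferInstance)).eq_zero
    rw [map_sub, sub_eq_zero, LinearMap.trace_id, LinearMap.trace_eq_matrix_trace k b, Matrix.trace] at hn
    rw [Fintype.card_fin, ← hn]
    refine Finset.sum_congr rfl fun j _ => ?_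
    have e : HopfRep.Comod.act k A S g (b j) = ∑ i, g (M i j) • b i := hact g.toLinearMap j
    rw [Matrix.diag_apply, LinearMap.toMatrix_apply, e, map_sum, Finsupp.coe_finsetSum, Finset.sum_apply,
      Finset.sum_eq_single j (fun l _ hl => by simp [hl]) (by simp)]
    simp
  have hone : ∀ (g : A →ₐ[k] k) i j, g (M i j) = if i = j then 1 else 0 := by
    intro g p q
    let a := ∑ i, ∑ j, (g (M j i) - if j = i then 1 else 0) • M i j
    have ha : a = 0 := by
      refine SepIdemLib.eq_zero_of_points (k := k) a fun χ => ?_
      have hmul : ∀ j, (WithConv.toConv g * WithConv.toConv χ).ofConv (M j j) = ∑ l, g (M j l) * χ (M l j) := by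
        intro j
        show LinearMap.mul' k k (TensorProduct.map g.toLinearMap χ.toLinearMap (Coalgebra.comul (R := k) (M j j))) = _
        rw [hM.comul, map_sum, map_sum]
        simp
      have h1 := htrace (WithConv.toConv g * WithConv.toConv χ).ofConv
      simp only [hmul] at h1
      rw [← htrace χ, Finset.sum_comm] at h1
      simp only [a, map_sum, map_smul, smul_eq_mul, sub_mul, Finset.sum_sub_distrib, ite_mul, one_mul, zero_mul,
        Finset.sum_ite_eq', Finset.mem_univ, if_true, h1, sub_self]
    obtain ⟨d, hd⟩ := hdens q p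
    have h2 := congrArg d ha
    simp only [a, map_sum, map_smul, map_zero, hd, smul_eq_mul, mul_ite, mul_one, mul_zero, ite_and,
      Finset.sum_ite_eq', Finset.mem_univ, if_true, Finset.sum_ite_irrel, Finset.sum_const_zero] at h2
    exact sub_eq_zero.mp h2
  have hMone : ∀ i j, M i j = if i = j then (1 : A) else 0 := fun i j => sub_eq_zero.mp <|
    SepIdemLib.eq_zero_of_points (k := k) _ fun χ => by
      rw [map_sub, hone χ i j]; split_ifs <;> simp
  obtain ⟨v, hvS, hv0⟩ := Submodule.exists_mem_ne_zero_of_ne_bot hS0
  have hfix : HopfRep.Comod.coact (k := k) (A := A) (⟨v, hvS⟩ : S) = (⟨v, hvS⟩ : S) ⊗ₜ[k] (1 : A) := by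
    have : (HopfRep.Comod.coact (k := k) (A := A) : S →ₗ[k] S ⊗[k] A) = (TensorProduct.mk k S A).flip 1 := by
      refine b.ext fun j => ?_
      rw [ComodLib.coact_matrixOf b, Finset.sum_eq_single j (fun i _ hi => by
        show b i ⊗ₜ[k] M i j = 0
        rw [hMone, if_neg hi, TensorProduct.tmul_zero]) (by simp)]
      show b j ⊗ₜ[k] M j j = b j ⊗ₜ[k] (1 : A)
      rw [hMone, if_pos rfl]
    rw [this]; rfl
  intro hbot
  refine hv0 ((Submodule.mem_bot k).mp (hbot ▸ ?_))
  show HopfRep.Comod.coact (k := k) (A := A) v = v ⊗ₜ[k] (1 : A)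
  have := congrArg (S.subtype.rTensor A) hfix
  rw [show (HopfRep.Comod.coact (k := k) (A := A) (⟨v, hvS⟩ : S)) =
    (ComodSub.Comod.restr ‹HopfRep.Comod k A V› S hS).coact ⟨v, hvS⟩ from rfl, ComodSub.restr_coact_coe] at this
  exact this

end Groth.Agent.S5423
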