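import Groth.Statements.S5422
import Groth.Agent.ComodLib.Trig
import Groth.Agent.ComodLib.Coalg
import Groth.Agent.ComodLib.HopfSubInv

set_option autoImplicit false
universe u
open TensorProduct
open SGA3t2b

namespace Groth.Agent.S5422

open Groth.Agent.ComodLib

/-- It suffices to find a fixed vector in each simple comodule. -/
theorem isUnipotent_of_simple {k : Type u} [Field k] {A : Type u} [CommRing A] [Bialgebra k A]
    (h : ∀ (V : Type u) [AddCommGroup V] [Module k V] [HopfRep.Comod k A V], Module.Finite k V →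
      HopfRep.IsSimpleComod k A V → HopfRep.fixedPts k A V ≠ ⊥) : HopfRep.IsUnipotent k A := by
  intro V _ _ c hf hnt
  obtain ⟨S, -, hSf, hS, hS0, hmin⟩ := exists_simple_le (isSubcomod_top (k := k) (C := A) (V := V)) top_ne_bot
  letI := ComodSub.Comod.restr c S hS
  obtain ⟨y, hy, hy0⟩ := Submodule.exists_mem_ne_zero_of_ne_bot
    (h S hSf (isSimpleComod_restr hS hS0 hmin))
  refine (Submodule.ne_bot_iff _).mpr ⟨y.1, ?_, fun e => hy0 (Subtype.ext e)⟩
  have h1 : (c.coact y.1 : V ⊗[k] A) = S.subtype.rTensor A (y ⊗ₜ[k] (1 : A)) :=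
    (ComodSub.restr_coact_coe c S hS y).symm.trans (congrArg _ hy)
  exact h1.trans (by simp)

/-- A subgroup of a unipotent group is unipotent. -/
theorem of_surjective {k : Type u} [Field k] {A B : Type u} [CommRing A] [Bialgebra k A] [CommRing B]
    [Bialgebra k B] (π : A →ₐc[k] B) (hπ : Function.Surjective π)
    (hU : HopfRep.IsUnipotent k A) : HopfRep.IsUnipotent k B := by
  classical
  refine isUnipotent_of_simple ?_
  intro V _ _ c _ hsimple
  haveI : Nontrivial V := hsimple.1
  obtain ⟨v₀, hv₀⟩ := exists_ne (0 : V)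
  obtain ⟨f, hf⟩ := Module.Projective.exists_dual_ne_zero k hv₀
  -- the matrix coefficient embedding
  obtain ⟨j, hj, hj0⟩ : ∃ j : V →ₗ[k] B, Hoch.IsComodHom B j ∧ Coalgebra.counit (R := k) (j v₀) = f v₀ := by
    exact ⟨coefFun (C := B) f, isComodHom_coefFun f, counit_coefFun f v₀⟩
  have hinj : Function.Injective j := by
    rcases hsimple.2 _ (isSubcomod_ker hj) with h | h
    · exact LinearMap.ker_eq_bot.mp h
    · exact absurd (by rw [LinearMap.ker_eq_top.mp h] at hj0; simpa using hj0.symm) hf
  let b := Module.finBasis k V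
  choose a ha using fun i => hπ (j (b i))
  obtain ⟨U, hUf, haU, hUs⟩ := exists_finite_subcomod_le (k := k) (C := A) (V := A) (Set.finite_range a)
  let cU : HopfRep.Comod k A U := ComodSub.Comod.restr (HopfRep.Comod.regular k A) U hUs
  letI := cU
  obtain ⟨n, F, hmono, hF0, htop, hsub, hstep⟩ := isUnipotent_iff_filtration.mp hU U hUf
  letI cB : HopfRep.Comod k B U := pushComod (π : A →ₗc[k] B) cU
  let π' : U →ₗ[k] B := (π : A →ₗ[k] B) ∘ₗ U.subtype
  have hπ' : Hoch.IsComodHom B π' := by
    refine LinearMap.ext fun u => ?_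
    show Coalgebra.comul (R := k) (π u.1) = π'.rTensor B ((π : A →ₗ[k] B).lTensor U (cU.coact u))
    have h := ComodSub.restr_coact_coe (HopfRep.Comod.regular k A) U hUs u
    change _ = Coalgebra.comul (R := k) (u : A) at h
    rw [← CoalgHomClass.map_comp_comul_apply π (u : A), ← h, ← LinearMap.comp_apply (π'.rTensor B),
      LinearMap.rTensor_comp_lTensor, ← LinearMap.comp_apply (TensorProduct.map _ _), LinearMap.map_comp_rTensor]
  let G : ℕ → Submodule k V := fun i => Submodule.comap j (Submodule.map π' (F i))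
  have hGsub : ∀ i, HopfRep.IsSubcomod (k := k) (A := B) (G i) := fun i =>
    isSubcomod_comap hj (isSubcomod_map (C := B) hπ' (isSubcomod_push (π : A →ₗc[k] B) cU (hsub i)))
  have hG0 : G 0 = ⊥ := by
    simp only [G, hF0, Submodule.map_bot]
    exact LinearMap.ker_eq_bot.mpr hinj
  have hGn : G n = ⊤ := by
    simp only [G, htop, Submodule.map_top, eq_top_iff]
    rw [← b.span_eq, Submodule.span_le]
    rintro _ ⟨i, rfl⟩
    exact ⟨⟨a i, haU ⟨i, rfl⟩⟩, ha i⟩
  have hex : ∃ i, G i = ⊤ := ⟨n, hGn⟩
  obtain ⟨i, hi⟩ := Nat.exists_eq_succ_of_ne_zero (n := Nat.find hex) fun h => by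
    have := Nat.find_spec hex
    rw [h, hG0] at this
    exact bot_ne_top this
  have hi0 : G i = ⊥ := (hsimple.2 _ (hGsub i)).resolve_right (Nat.find_min hex (by omega))
  have hi1 : G (i + 1) = ⊤ := by
    rw [← Nat.succ_eq_add_one, ← hi]
    exact Nat.find_spec hex
  let X : Submodule k B := Submodule.map π' (F i)
  have hq : Function.Injective (X.mkQ ∘ₗ j) := by
    refine (injective_iff_map_eq_zero _).mpr fun v hv => ?_
    have : v ∈ G i := (Submodule.Quotient.mk_eq_zero X).mp hv
    rwa [hi0, Submodule.mem_bot] at this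
  refine (Submodule.ne_bot_iff _).mpr ⟨v₀, ?_, hv₀⟩
  show c.coact v₀ = v₀ ⊗ₜ[k] (1 : B)
  apply Module.Flat.rTensor_preserves_injective_linearMap (M := B) _ hq
  obtain ⟨x, hx, hxj⟩ : j v₀ ∈ Submodule.map π' (F (i + 1)) := (hi1 ▸ Submodule.mem_top : v₀ ∈ G (i + 1))
  obtain ⟨z, hz⟩ := hstep i x hx
  have hz' : Coalgebra.comul (R := k) (π x.1) - π x.1 ⊗ₜ[k] (1 : B) =
      (π'.rTensor B ∘ₗ (π : A →ₗ[k] B).lTensor U) ((F i).subtype.rTensor A z) := by
    rw [hz, map_sub]
    congr 1
    · exact LinearMap.congr_fun hπ' x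
    · simp [π']
  have hzero : X.mkQ.rTensor B (Coalgebra.comul (R := k) (π x.1) - π x.1 ⊗ₜ[k] (1 : B)) = 0 := by
    rw [hz']
    clear hz hz'
    induction z using TensorProduct.induction_on with
    | zero => simp
    | tmul p q =>
      simp only [LinearMap.comp_apply, LinearMap.rTensor_tmul, LinearMap.lTensor_tmul, Submodule.mkQ_apply]
      rw [(Submodule.Quotient.mk_eq_zero X).mpr (show π' ((F i).subtype p) ∈ X from ⟨p, p.2, rfl⟩), TensorProduct.zero_tmul]
    | add p q hp hq => simp only [map_add, hp, hq, add_zero]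
  rw [show π x.1 = j v₀ from hxj, map_sub, sub_eq_zero] at hzero
  rw [LinearMap.rTensor_comp, LinearMap.comp_apply, ← LinearMap.comp_apply (j.rTensor B),
    ← show Coalgebra.comul (R := k) (j v₀) = (j.rTensor B ∘ₗ c.coact) v₀ from LinearMap.congr_fun hj v₀, hzero]
  simp

/-- A quotient of a unipotent group is unipotent. -/
theorem of_injective {k : Type u} [Field k] {A C : Type u} [CommRing A] [Bialgebra k A] [CommRing C]
    [Bialgebra k C] (ψ : C →ₐc[k] A) (hψ : Function.Injective ψ)
    (hU : HopfRep.IsUnipotent k A) : HopfRep.IsUnipotent k C := by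
  intro V _ _ c hf hnt
  letI cA : HopfRep.Comod k A V := pushComod (ψ : C →ₗc[k] A) c
  obtain ⟨v, hv, hv0⟩ := Submodule.exists_mem_ne_zero_of_ne_bot (hU V hf hnt)
  refine (Submodule.ne_bot_iff _).mpr ⟨v, ?_, hv0⟩
  show c.coact v = v ⊗ₜ[k] (1 : C)
  apply Module.Flat.lTensor_preserves_injective_linearMap (M := V) (ψ : C →ₗ[k] A) hψ
  refine Eq.trans (hv : cA.coact v = v ⊗ₜ[k] (1 : A)) ?_
  simp

/-- Parts (ii), (iii) and (iv) (Hopf-algebra form; 'unipotent' in the fixed-vector form: every non-zero
finite-dimensional representation has a non-zero fixed vector, which is equivalent to the published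
definition for affine algebraic groups): let k be a field and A the coordinate Hopf algebra of an
affine algebraic k-group E. (ii) If E is unipotent, so is every closed subgroup Spec B (B a Hopf
quotient of A, φ : A → B a surjective bialgebra map). (iii) If E is unipotent, so is every quotient
group Spec C (ψ : C → A an injective bialgebra map). (iv) If ψ : C → A is an injective bialgebra map
(quotient U = Spec C), J the Hopf ideal of A generated by the image of the augmentation ideal of C
(kernel N = Spec (A/J)), and both U and N are unipotent, then E is unipotent. -/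
theorem result (k : Type u) [Field k] (A : Type u) [CommRing A] [HopfAlgebra k A] [Algebra.FiniteType k A] :
    (∀ (B : Type u) [CommRing B] [HopfAlgebra k B] [Algebra.FiniteType k B] (φ : A →ₐc[k] B),
      Function.Surjective φ → HopfRep.IsUnipotent k A → HopfRep.IsUnipotent k B) ∧
    (∀ (C : Type u) [CommRing C] [HopfAlgebra k C] [Algebra.FiniteType k C] (ψ : C →ₐc[k] A),
      Function.Injective ψ → HopfRep.IsUnipotent k A → HopfRep.IsUnipotent k C) ∧
    (∀ (C : Type u) [CommRing C] [HopfAlgebra k C] [Algebra.FiniteType k C] (ψ : C →ₐc[k] A)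
      (J : Ideal A) [J.IsHopfIdeal k],
      Function.Injective ψ → J = Ideal.map (ψ : C →+* A) (RingHom.ker (Bialgebra.counitAlgHom k C)) →
      HopfRep.IsUnipotent k C → HopfRep.IsUnipotent k (A ⧸ J) → HopfRep.IsUnipotent k A) := by
  refine ⟨fun B _ _ _ φ hφ h => of_surjective φ hφ h, fun C _ _ _ ψ hψ h => of_injective ψ hψ h, ?_⟩
  intro C _ _ _ ψ J _ hψ hJ hC hN
  intro V _ _ c hf hnt
  classical
  let q : A →ₗ[k] A ⧸ J := (J.restrictScalars k).mkQ
  have hqex : Function.Exact ((J.restrictScalars k).subtype.lTensor A) (q.lTensor A) :=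
    lTensor_exact A (LinearMap.exact_subtype_mkQ (J.restrictScalars k)) (Submodule.mkQ_surjective _)
  let π : A →ₐc[k] A ⧸ J := BialgHom.ofAlgHom (Ideal.Quotient.mkₐ k J)
    (AlgHom.ext fun a => rfl)
    (AlgHom.ext fun a => rfl)
  letI cN : HopfRep.Comod k (A ⧸ J) V := pushComod (π : A →ₗc[k] (A ⧸ J)) c
  let W : Submodule k V := HopfRep.fixedPts k (A ⧸ J) V
  have hW : W ≠ ⊥ := hN V hf hnt
  have hψ' : Function.Injective ((ψ : C →ₗ[k] A).lTensor V) :=
    Module.Flat.lTensor_preserves_injective_linearMap _ hψ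
  -- the coaction of a vector fixed by the kernel has coefficients in `C`
  have hC' : ∀ v ∈ W, c.coact v ∈ LinearMap.range ((ψ : C →ₗ[k] A).lTensor V) := fun v hv => by
    have hinv : ∀ f : V →ₗ[k] k, coefFun (C := A) f v ∈ LinearMap.range (ψ : C →ₗ[k] A) := fun f => by
      obtain ⟨x, hx⟩ := mem_range_of_comul_sub_mem ψ hψ (coefFun (C := A) f v) (by
        rw [← hJ]
        refine (hqex _).mp ?_
        rw [map_sub, sub_eq_zero, LinearMap.lTensor_tmul]
        calc q.lTensor A (Coalgebra.comul (R := k) (coefFun (C := A) f v))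
            = q.lTensor A ((coefFun (C := A) f).rTensor A (c.coact v)) :=
              congrArg _ (LinearMap.congr_fun (isComodHom_coefFun f) v)
          _ = (coefFun (C := A) f).rTensor (A ⧸ J) (q.lTensor V (c.coact v)) := by
              rw [← LinearMap.comp_apply (q.lTensor A), LinearMap.lTensor_comp_rTensor,
                ← LinearMap.rTensor_comp_lTensor, LinearMap.comp_apply]
          _ = _ := by
              refine (congrArg _ (show q.lTensor V (c.coact v) = v ⊗ₜ[k] (1 : A ⧸ J) from hv)).trans ?_
              rfl)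
      exact ⟨x, hx⟩
    obtain ⟨z, hz⟩ := (mem_range_lTensor_subtype_iff (LinearMap.range (ψ : C →ₗ[k] A)) (c.coact v)).mpr hinv
    obtain ⟨w, rfl⟩ := LinearMap.lTensor_surjective V (ψ : C →ₗ[k] A).surjective_rangeRestrict z
    refine ⟨w, hz ▸ ?_⟩
    rw [← LinearMap.comp_apply, ← LinearMap.lTensor_comp]
    rfl
  let Φ : W ⊗[k] C →ₗ[k] V ⊗[k] A := TensorProduct.map W.subtype (ψ : C →ₗ[k] A)
  have hΦ : Function.Injective Φ := by
    have : Φ = (ψ : C →ₗ[k] A).lTensor V ∘ₗ W.subtype.rTensor C := (LinearMap.lTensor_comp_rTensor _ _ _).symm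
    rw [this]
    exact hψ'.comp (Module.Flat.rTensor_preserves_injective_linearMap _ W.injective_subtype)
  -- the fixed vectors of the kernel form a comodule over `C`
  have hW' : ∀ v : W, c.coact v.1 ∈ LinearMap.range Φ := fun v => by
    obtain ⟨w, hw⟩ := hC' v.1 v.2
    let ι₁ : V →ₗ[k] V ⊗[k] (A ⧸ J) := (TensorProduct.mk k V (A ⧸ J)).flip 1
    let g : V →ₗ[k] V ⊗[k] (A ⧸ J) := q.lTensor V ∘ₗ c.coact
    have hgw : g.rTensor C w = ι₁.rTensor C w := by
      apply Module.Flat.lTensor_preserves_injective_linearMap (M := V ⊗[k] (A ⧸ J)) (ψ : C →ₗ[k] A) hψ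
      have hswap : ∀ f : V →ₗ[k] V ⊗[k] (A ⧸ J), (ψ : C →ₗ[k] A).lTensor (V ⊗[k] (A ⧸ J)) (f.rTensor C w) =
          f.rTensor A (c.coact v.1) := fun f => by
        rw [← hw]
        simp only [← LinearMap.comp_apply, LinearMap.lTensor_comp_rTensor, LinearMap.rTensor_comp_lTensor]
      rw [hswap, hswap, LinearMap.rTensor_comp, LinearMap.comp_apply]
      have hco : c.coact.rTensor A (c.coact v.1) =
          (TensorProduct.assoc k V A A).symm (Coalgebra.comul.lTensor V (c.coact v.1)) :=
        (LinearEquiv.eq_symm_apply _).mpr (LinearMap.congr_fun c.coassoc v.1)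
      rw [hco]
      refine (congrArg (fun z => (q.lTensor V).rTensor A ((TensorProduct.assoc k V A A).symm
        (Coalgebra.comul.lTensor V z))) hw.symm).trans (Eq.trans ?_ (congrArg (ι₁.rTensor A) hw))
      clear hw hswap hco
      induction w using TensorProduct.induction_on with
      | zero => simp
      | add p q hp hq => simp only [map_add, hp, hq]
      | tmul x y =>
        simp only [LinearMap.lTensor_tmul, LinearMap.rTensor_tmul, ι₁, LinearMap.flip_apply, TensorProduct.mk_apply]
        show (q.lTensor V).rTensor A ((TensorProduct.assoc k V A A).symm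
          (x ⊗ₜ[k] Coalgebra.comul (R := k) (ψ y))) = (x ⊗ₜ[k] (1 : A ⧸ J)) ⊗ₜ[k] ψ y
        have e1 : ∀ t : A ⊗[k] A, (q.lTensor V).rTensor A ((TensorProduct.assoc k V A A).symm (x ⊗ₜ[k] t)) =
            (TensorProduct.assoc k V (A ⧸ J) A).symm (x ⊗ₜ[k] q.rTensor A t) := fun t => by
          induction t using TensorProduct.induction_on with
          | zero => simp
          | tmul a b => simp
          | add p q hp hq => simp only [TensorProduct.tmul_add, map_add, hp, hq]
        rw [e1, ← CoalgHomClass.map_comp_comul_apply ψ y, ← LinearMap.comp_apply (q.rTensor A),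
          LinearMap.rTensor_comp_map]
        have e2 : q ∘ₗ (ψ : C →ₗ[k] A) = Algebra.linearMap k (A ⧸ J) ∘ₗ Coalgebra.counit := LinearMap.ext fun t => by
          show Ideal.Quotient.mk J (ψ t) = algebraMap k (A ⧸ J) (Coalgebra.counit (R := k) t)
          rw [IsScalarTower.algebraMap_apply k A (A ⧸ J), Ideal.Quotient.algebraMap_eq, Ideal.Quotient.eq, hJ,
            show algebraMap k A (Coalgebra.counit (R := k) t) = ψ (algebraMap k C (Coalgebra.counit (R := k) t)) from
              ((ψ : C →ₐ[k] A).commutes _).symm, ← map_sub ψ]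
          exact Ideal.mem_map_of_mem _ (RingHom.mem_ker.mpr (by simp))
        have hψy := Coalgebra.rTensor_counit_comul (R := k) y
        rw [e2, ← LinearMap.map_comp_rTensor, LinearMap.comp_apply, hψy]
        simp
    have hmem : w ∈ LinearMap.range (W.subtype.rTensor C) := (mem_range_rTensor_subtype_iff W w).mpr fun φ => by
      show q.lTensor V (c.coact (slice φ w)) = slice φ w ⊗ₜ[k] (1 : A ⧸ J)
      exact (slice_rTensor φ g w).symm.trans ((congrArg (slice φ) hgw).trans (slice_rTensor φ ι₁ w))
    obtain ⟨w', rfl⟩ := hmem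
    exact ⟨w', (LinearMap.congr_fun (LinearMap.lTensor_comp_rTensor (f := W.subtype) (g := (ψ : C →ₗ[k] A))) w').symm.trans hw⟩
  let e : W →ₗ[k] W ⊗[k] C :=
    (LinearEquiv.ofInjective Φ hΦ).symm.toLinearMap ∘ₗ (c.coact ∘ₗ W.subtype).codRestrict (LinearMap.range Φ) hW'
  have he : ∀ v : W, Φ (e v) = c.coact v.1 := fun v =>
    congrArg Subtype.val ((LinearEquiv.ofInjective Φ hΦ).apply_symm_apply _)
  let cW : HopfRep.Comod k C W :=
    { coact := e
      coassoc := LinearMap.ext fun v => by
        let Ψ : W ⊗[k] (C ⊗[k] C) →ₗ[k] V ⊗[k] (A ⊗[k] A) :=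
          TensorProduct.map W.subtype (TensorProduct.map (ψ : C →ₗ[k] A) (ψ : C →ₗ[k] A))
        have hΨ : Function.Injective Ψ := TensorProduct.map_injective_of_flat_flat _ _ W.injective_subtype
          (TensorProduct.map_injective_of_flat_flat _ _ hψ hψ)
        apply hΨ
        have hl : ∀ z : W ⊗[k] C, Ψ (TensorProduct.assoc k W C C (e.rTensor C z)) =
            TensorProduct.assoc k V A A (c.coact.rTensor A (Φ z)) := fun z => by
          induction z using TensorProduct.induction_on with
          | zero => simp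
          | add p q hp hq => simp only [map_add, hp, hq]
          | tmul x y =>
            simp only [LinearMap.rTensor_tmul, Φ, TensorProduct.map_tmul]
            show _ = TensorProduct.assoc k V A A (c.coact x.1 ⊗ₜ[k] ψ y)
            rw [← he x]
            induction e x using TensorProduct.induction_on with
            | zero => simp
            | add p q hp hq => simp only [TensorProduct.add_tmul, map_add, hp, hq]
            | tmul x' y' => simp [Ψ, Φ]
        have hr : ∀ z : W ⊗[k] C, Ψ (Coalgebra.comul.lTensor W z) = Coalgebra.comul.lTensor V (Φ z) := fun z => by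
          induction z using TensorProduct.induction_on with
          | zero => simp
          | add p q hp hq => simp only [map_add, hp, hq]
          | tmul x y =>
            simp only [LinearMap.lTensor_tmul, Φ, Ψ, TensorProduct.map_tmul]
            exact congrArg (x.1 ⊗ₜ[k] ·) (CoalgHomClass.map_comp_comul_apply ψ y)
        simp only [LinearMap.comp_apply, LinearEquiv.coe_coe]
        rw [hl, hr, he]
        exact LinearMap.congr_fun c.coassoc v.1
      counit_comp := LinearMap.ext fun v => by
        apply Module.Flat.rTensor_preserves_injective_linearMap (M := k) W.subtype W.injective_subtype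
        have hh : ∀ z : W ⊗[k] C, W.subtype.rTensor k (Coalgebra.counit.lTensor W z) =
            Coalgebra.counit.lTensor V (Φ z) := fun z => by
          induction z using TensorProduct.induction_on with
          | zero => simp
          | add p q hp hq => simp only [map_add, hp, hq]
          | tmul x y => simp [Φ]
        simp only [LinearMap.comp_apply]
        rw [hh, he]
        exact LinearMap.congr_fun c.counit_comp v.1 }
  haveI : Nontrivial W := Submodule.nontrivial_iff_ne_bot.mpr hW
  obtain ⟨v, hv, hv0⟩ := Submodule.exists_mem_ne_zero_of_ne_bot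
    (@hC W _ _ cW (Module.Finite.of_injective W.subtype W.injective_subtype) inferInstance)
  refine (Submodule.ne_bot_iff _).mpr ⟨v.1, ?_, fun h => hv0 (Subtype.ext h)⟩
  show c.coact v.1 = v.1 ⊗ₜ[k] (1 : A)
  rw [← he v, show e v = v ⊗ₜ[k] (1 : C) from hv]
  simp [Φ]

end Groth.Agent.S5422
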