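import Groth.Statements.S11397
import Groth.Agent.AGFLib.Rosen.Reduce

set_option autoImplicit false
universe u
open CategoryTheory MonoidalCategory CartesianMonoidalCategory MonObj GrpObj AlgebraicGeometry CategoryTheory.Limits
open AlgGrp

namespace Groth.Agent.S11397

/-- Over an algebraically closed field k, let G be an algebraic group (a smooth k-group scheme of finite
type) which is not proper over k. Then G has a smooth closed subgroup scheme which is affine and of
positive dimension. -/
theorem result (k : Type u) [Field k] [IsAlgClosed k]
    (G : Over (Spec (CommRingCat.of k))) [GrpObj G] [Smooth G.hom] [QuasiCompact G.hom] (hG : ¬ IsProper G.hom) :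
    ∃ (H : Over (Spec (CommRingCat.of k))) (_ : GrpObj H) (j : H ⟶ G), IsMonHom j ∧ IsClosedImmersion j.left ∧
      Smooth H.hom ∧ IsAffine H.left ∧ 0 < topologicalKrullDim ↥H.left := by
  exact AGFLib.Rosen.exists_affine_subgroup' hG

end Groth.Agent.S11397
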