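import Groth.Statements.S4103
import Groth.Agent.GrpSchLib.ProPoints
import Groth.Agent.GrpSchLib.HopfFlat
import Mathlib.RingTheory.Flat.EquationalCriterion
import Mathlib.RingTheory.Flat.FaithfullyFlat.Basic


set_option autoImplicit false
universe u
open CategoryTheory MonoidalCategory CartesianMonoidalCategory MonObj GrpObj AlgebraicGeometry CategoryTheory.Limits
open SGA3

namespace Groth.Agent.S4103

open GrpSchLib in
theorem pair {k : Type u} [Field k] {A : Type u} [CommRing A] [HopfAlgebra k A] (B : Subalgebra k A)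
    (hB : SGA3.IsHopfSubalgebra k A B) (s : Finset B) (t : Finset A) :
    ∃ (B₀ A₀ : Subalgebra k A) (hle : B₀ ≤ A₀), B₀ ≤ B ∧ (∀ b ∈ s, (b : A) ∈ B₀) ∧ (∀ a ∈ t, a ∈ A₀) ∧
      (Subalgebra.inclusion hle).toRingHom.FaithfullyFlat := by
  classical
  letI := SubHopf.hopf B hB
  obtain ⟨C, hsC, hCf, hC⟩ := ProPoints.exists_fg_hopf_of_finset (k := k) (A := B) s
  have hB₀ : SGA3.IsHopfSubalgebra k A (C.map B.val) := by
    refine ⟨?_, ?_⟩
    · rintro _ ⟨c, hc, rfl⟩
      obtain ⟨w, hw⟩ := hC.1 c hc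
      let p := (B.val.comp C.val).codRestrict (C.map B.val) fun b => ⟨b.1, b.2, rfl⟩
      refine ⟨TensorProduct.map p.toLinearMap p.toLinearMap w, ?_⟩
      refine Eq.trans ?_ (SubHopf.map_comulRes B hB c)
      show _ = Algebra.TensorProduct.map B.val B.val (Coalgebra.comul (R := k) c)
      rw [← hw, ← LinearMap.comp_apply, ← TensorProduct.map_comp]
      generalize w = z
      induction z using TensorProduct.induction_on with
      | zero => simp
      | tmul x y => rfl
      | add x y hx hy => simp only [map_add, hx, hy]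
    · rintro _ ⟨c, hc, rfl⟩
      exact ⟨_, hC.2 c hc, rfl⟩
  obtain ⟨D, htD, hDf, hD⟩ := ProPoints.exists_fg_hopf_of_finset (k := k) t
  have hA₀ := ProPoints.isHopfSubalgebra_sup hB₀ hD
  have hle : C.map B.val ≤ C.map B.val ⊔ D := le_sup_left
  refine ⟨C.map B.val, C.map B.val ⊔ D, hle, fun x hx => ?_, fun b hb => ⟨b, hsC hb, rfl⟩,
    fun a ha => le_sup_right (a := C.map B.val) (htD ha), ?_⟩
  · obtain ⟨c, -, rfl⟩ := hx
    exact c.2
  letI := SubHopf.hopf _ hB₀
  letI := SubHopf.hopf _ hA₀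
  haveI : Algebra.FiniteType k (C.map B.val) := ⟨(Subalgebra.fg_top _).mpr (hCf.map _)⟩
  haveI : Algebra.FiniteType k (C.map B.val ⊔ D : Subalgebra k A) := ⟨(Subalgebra.fg_top _).mpr ((hCf.map _).sup hDf)⟩
  exact HopfFlat.faithfullyFlat (SubHopf.incl hB₀ hA₀ hle) (Subalgebra.inclusion_injective hle)


/-- Let A be a commutative Hopf algebra over a field k and B a sub-Hopf-algebra of A (a subalgebra
stable under comultiplication and antipode). Then A is faithfully flat as a B-module. -/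
theorem result (k : Type u) [Field k] (A : Type u) [CommRing A] [HopfAlgebra k A]
    (B : Subalgebra k A) (hB : SGA3.IsHopfSubalgebra k A B) : Module.FaithfullyFlat ↥B A := by
  classical
  haveI : Module.Flat B A := by
    rw [Module.Flat.iff_forall_isTrivialRelation]
    intro l f x h
    obtain ⟨B₀, A₀, hle, hB₀, hf, hx, hFF⟩ := pair B hB (Finset.univ.image f) (Finset.univ.image x)
    letI : Algebra B₀ A₀ := (Subalgebra.inclusion hle).toRingHom.toAlgebra
    haveI : Module.Flat B₀ A₀ := hFF.flat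
    let f₀ : Fin l → B₀ := fun i => ⟨f i, hf _ (Finset.mem_image_of_mem _ (Finset.mem_univ i))⟩
    let x₀ : Fin l → A₀ := fun i => ⟨x i, hx _ (Finset.mem_image_of_mem _ (Finset.mem_univ i))⟩
    have h₀ : ∑ i, f₀ i • x₀ i = 0 := by
      apply Subtype.val_injective
      refine Eq.trans ?_ h
      rw [AddSubmonoidClass.coe_finsetSum]
      rfl
    obtain ⟨m, a, y, ha, hy⟩ := Module.Flat.isTrivialRelation_of_sum_smul_eq_zero h₀
    refine ⟨m, fun i j => ⟨(a i j).1, hB₀ (a i j).2⟩, fun j => (y j).1, fun i => ?_, fun j => ?_⟩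
    · refine (congrArg Subtype.val (ha i)).trans ?_
      rw [AddSubmonoidClass.coe_finsetSum]
      rfl
    · apply Subtype.val_injective
      have := congrArg Subtype.val (hy j)
      simp only [AddSubmonoidClass.coe_finsetSum, MulMemClass.coe_mul, ZeroMemClass.coe_zero] at this ⊢
      exact this
  rw [Module.FaithfullyFlat.iff_flat_and_proper_ideal]
  refine ⟨this, fun I hI htop => ?_⟩
  have h1 : (1 : A) ∈ I • (⊤ : Submodule B A) := by rw [htop]; trivial
  obtain ⟨n, c, hn⟩ : ∃ (n : ℕ) (c : Fin n → I × A), ∑ i, ((c i).1 : B) • (c i).2 = 1 := by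
    refine Submodule.smul_induction_on h1 (fun r hr a _ => ⟨1, fun _ => (⟨r, hr⟩, a), by simp⟩) ?_
    rintro x y ⟨n, c, rfl⟩ ⟨m, d, rfl⟩
    exact ⟨n + m, Fin.append c d, by rw [Fin.sum_univ_add]; simp⟩
  obtain ⟨B₀, A₀, hle, hB₀, hf, hx, hFF⟩ := pair B hB (Finset.univ.image fun i => ((c i).1 : B)) (Finset.univ.image fun i => (c i).2)
  letI : Algebra B₀ A₀ := (Subalgebra.inclusion hle).toRingHom.toAlgebra
  haveI : Module.FaithfullyFlat B₀ A₀ := hFF
  let J : Ideal B₀ := I.comap (Subalgebra.inclusion hB₀).toRingHom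
  have hJ : J ≠ ⊤ := Ideal.comap_ne_top _ hI
  apply (Module.FaithfullyFlat.iff_flat_and_proper_ideal B₀ A₀).mp inferInstance |>.2 J hJ
  refine Submodule.eq_top_iff'.mpr fun z => ?_
  let f₀ : Fin n → B₀ := fun i => ⟨(c i).1.1.1, hf _ (Finset.mem_image_of_mem _ (Finset.mem_univ i))⟩
  let x₀ : Fin n → A₀ := fun i => ⟨(c i).2, hx _ (Finset.mem_image_of_mem _ (Finset.mem_univ i))⟩
  have h2 : ∑ i, f₀ i • (x₀ i * z) = z := by
    apply Subtype.val_injective
    rw [AddSubmonoidClass.coe_finsetSum]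
    calc ∑ i, ((f₀ i • (x₀ i * z) : A₀) : A) = (∑ i, ((c i).1 : B) • (c i).2) * (z : A) := by
          rw [Finset.sum_mul]
          exact Finset.sum_congr rfl fun i _ => (_root_.mul_assoc _ _ _).symm
      _ = z := by rw [hn, _root_.one_mul]
  rw [← h2]
  exact Submodule.sum_mem _ fun i _ => Submodule.smul_mem_smul (show f₀ i ∈ J from (c i).1.2) trivial


end Groth.Agent.S4103
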