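import Groth.Statements.S0021
import Groth.Agent.ChevAffine.Main
-- import your own Groth.Agent.* helpers here

set_option autoImplicit false
universe u
open Coherent

namespace Groth.Agent.S0021

open AlgebraicGeometry in
/-- Let f : Y → X be finite and surjective with Y affine and X Noetherian. Then X is affine. -/
theorem result {Y X : Scheme.{u}} (f : Y ⟶ X) [IsFinite f]
    [Surjective f] [IsAffine Y] [IsNoetherian X] : IsAffine X := by
  exact ChevAffine.isAffine_of_finite_surjective f

end Groth.Agent.S0021
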