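import Groth.Statements.S0593
import Groth.Agent.Approx.AffineImage

set_option autoImplicit false
set_option backward.isDefEq.respectTransparency false
set_option backward.isDefEq.respectTransparency.types false
universe u
open CategoryTheory AlgebraicGeometry
open Lim

namespace Groth.Agent.S0593

/-- If `f : X → S` is surjective and universally closed with `X` affine, then `S` is affine. -/
theorem result (X S : Scheme.{u}) (f : X ⟶ S)
    [IsAffine X] [Surjective f] [UniversallyClosed f] : IsAffine S := by
  haveI : CompactSpace S := ⟨by
    have h := isCompact_range f.continuous
    rwa [f.surjective.range_eq] at h⟩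
  have hu : UniversallyClosed (Limits.pullback.map (Limits.terminal.from X) (Limits.terminal.from X)
      (Limits.terminal.from S) (Limits.terminal.from S) f f (𝟙 _) (by simp) (by simp)) :=
    MorphismProperty.pullbackMap (P := @UniversallyClosed) inferInstance inferInstance (by simp) (by simp)
  let m := Limits.pullback.map (Limits.terminal.from X) (Limits.terminal.from X)
      (Limits.terminal.from S) (Limits.terminal.from S) f f (𝟙 _) (by simp) (by simp)
  have hΔ : f ≫ Limits.pullback.diagonal (Limits.terminal.from S) =
      Limits.pullback.diagonal (Limits.terminal.from X) ≫ m := by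
    apply Limits.pullback.hom_ext <;> simp [m]
  have hclosed : IsClosed (Set.range (Limits.pullback.diagonal (Limits.terminal.from S))) := by
    have h1 : Set.range (f ≫ Limits.pullback.diagonal (Limits.terminal.from S)) =
        Set.range (Limits.pullback.diagonal (Limits.terminal.from S)) := by
      rw [Scheme.Hom.comp_base, TopCat.coe_comp, Set.range_comp, f.surjective.range_eq, Set.image_univ]
    rw [← h1, hΔ, Scheme.Hom.comp_base, TopCat.coe_comp, Set.range_comp]
    haveI : UniversallyClosed m := hu
    exact m.isClosedMap _ (Limits.pullback.diagonal (Limits.terminal.from X)).isClosedEmbedding.isClosed_range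
  haveI : S.IsSeparated := ⟨⟨IsClosedImmersion.of_isPreimmersion _ hclosed⟩⟩
  haveI : IsAffineHom f := by
    haveI : IsAffineHom (f ≫ Limits.terminal.from S) := inferInstance
    exact IsAffineHom.of_comp f (Limits.terminal.from S)
  haveI : IsIntegralHom f := IsIntegralHom.iff_universallyClosed_and_isAffineHom.2 ⟨inferInstance, inferInstance⟩
  exact Groth.Agent.Approx.isAffine_of_isIntegralHom f

end Groth.Agent.S0593
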