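import Groth.Statements.S11191
import Groth.Agent.AGFLib.Coact
-- import your own Groth.Agent.* helpers here

set_option autoImplicit false
universe u
open CategoryTheory MonoidalCategory CartesianMonoidalCategory MonObj GrpObj AlgebraicGeometry
open scoped TensorProduct
open AGF

namespace Groth.Agent.S11191

set_option backward.isDefEq.respectTransparency false
set_option backward.isDefEq.respectTransparency.types false

open Groth.Agent.GrpSchLib Groth.Agent.GrpSchLib.Kunneth Groth.Agent.AGFLib

/-- Let k be an algebraically closed field, G a linear algebraic group over k (an affine smooth group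
scheme over k) and H a closed subgroup of G (a smooth closed subgroup scheme, i : H → G), and let M
be a rational G-module. Then every H-invariant element of M is fixed by the observable hull of H: if
a rational point g of G fixes under right translation every right-H-invariant global function on G,
then g fixes every H-invariant element of M. (The published statement is for a commutative algebra
with a rational action by automorphisms; the multiplication plays no role and the row is stated for
modules.) -/
theorem result (k : Type u) [Field k] [IsAlgClosed k]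
    (G : Over (Spec (CommRingCat.of k))) [GrpObj G] [IsAffine G.left] [Smooth G.hom]
    (H : Over (Spec (CommRingCat.of k))) [GrpObj H] [Smooth H.hom] (i : H ⟶ G) [IsMonHom i]
    [IsClosedImmersion i.left]
    (M : Type u) [AddCommGroup M] [Module k M] (ρ : VecGrp.GMod G M)
    (g : VecGrp.pt k k ⟶ G) (hg : ∀ f : Γ(G.left, ⊤), AGF.IsRTransInv i f → AGF.IsRTransInv g f)
    (a : M) (ha : a ∈ ρ.fixedUnder i) :
    ρ.ρ k g ((1 : k) ⊗ₜ[k] a) = (1 : k) ⊗ₜ[k] a := by
  haveI : IsAffine H.left := isAffine_of_isAffineHom i.left
  haveI : IsAffine (G ⊗ H).left := inferInstanceAs (IsAffine (Limits.pullback G.hom H.hom))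
  have hl : ∀ l : M →ₗ[k] k, AGF.IsRTransInv i (matCoeff ρ a l) := fun l => by
    show ev ((G ◁ i) ≫ μ[G]) (matCoeff ρ a l) = ev (fst G H) (matCoeff ρ a l)
    rw [← pullFn_univ (ev ((G ◁ i) ≫ μ[G]) (matCoeff ρ a l)), ← pullFn_univ (ev (fst G H) (matCoeff ρ a l)),
      ← pullFn_comp, ← pullFn_comp, pullFn_matCoeff, pullFn_matCoeff, comp_translate, map_mul]
    rw [LinearEquiv.mul_apply, ← Category.assoc (univ (G ⊗ H)) (snd G H) i, ha _ (univ (G ⊗ H) ≫ snd G H)]
  have h1 : ∀ l : M →ₗ[k] k, formB l k (ρ.ρ k g ((1 : k) ⊗ₜ[k] a)) = l a := fun l => by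
    have h2 : pullFn g (matCoeff ρ a l) = pullFn (1 : VecGrp.pt k k ⟶ G) (matCoeff ρ a l) :=
      congrArg _ (ev_eq_ev_one (hg _ (hl l)))
    rw [pullFn_matCoeff, pullFn_matCoeff, map_one] at h2
    rw [h2, LinearEquiv.coe_one, id_eq, formB_tmul, smul_eq_mul, _root_.mul_one]
  generalize hz : ρ.ρ k g ((1 : k) ⊗ₜ[k] a) = z at h1
  have hz' : z = (1 : k) ⊗ₜ[k] TensorProduct.lid k M z := by
    rw [← TensorProduct.lid_symm_apply, LinearEquiv.symm_apply_apply]
  have h3 : TensorProduct.lid k M z = a := by
    refine sub_eq_zero.mp ((Module.forall_dual_apply_eq_zero_iff k _).mp fun l => ?_)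
    have := h1 l
    rw [hz', formB_tmul, smul_eq_mul, _root_.mul_one] at this
    rw [map_sub, this, sub_self]
  rw [hz', h3]

end Groth.Agent.S11191
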