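import Groth.Statements.S11188
import Groth.Agent.AGFLib.Stab
import Groth.Agent.GrpSchLib.SmoothReduced
import Groth.Agent.S11191
-- import your own Groth.Agent.* helpers here

set_option autoImplicit false
universe u
open CategoryTheory MonoidalCategory CartesianMonoidalCategory MonObj GrpObj AlgebraicGeometry
open scoped TensorProduct
open AGF

namespace Groth.Agent.S11188

set_option backward.isDefEq.respectTransparency false
set_option backward.isDefEq.respectTransparency.types false

open Groth.Agent.GrpSchLib Groth.Agent.GrpSchLib.Kunneth Groth.Agent.AGFLib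

/-- (1) ⇔ (2) ⇔ (3): let k be an algebraically closed field, G a linear algebraic group over k (an
affine smooth group scheme over k) and H a closed subgroup of G (a smooth closed subgroup scheme, i
: H → G). The following are equivalent: (i) H is observable in G, i.e. a rational point of G whose
right translation fixes every right-H-invariant global function on G lies in H; (ii) there are a
finite-dimensional rational G-module V and a vector v in V whose stabiliser, on rational points, is
H; (iii) there are finitely many right-H-invariant global functions on G which separate the cosets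
gH: two rational points of G at which they all take the same values differ by right multiplication
by a rational point of H. -/
theorem result (k : Type u) [Field k] [IsAlgClosed k]
    (G : Over (Spec (CommRingCat.of k))) [GrpObj G] [IsAffine G.left] [Smooth G.hom]
    (H : Over (Spec (CommRingCat.of k))) [GrpObj H] [Smooth H.hom] (i : H ⟶ G) [IsMonHom i]
    [IsClosedImmersion i.left] :
    List.TFAE [
      AGF.IsObservableIn k i,
      ∃ (V : Type u) (_ : AddCommGroup V) (_ : Module k V) (_ : Module.Finite k V) (ρ : VecGrp.GMod G V) (v : V),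
        AGF.IsStabOnPts k i ρ v,
      ∃ s : Finset Γ(G.left, ⊤), (∀ f ∈ s, AGF.IsRTransInv i f) ∧
        ∀ g g' : VecGrp.pt k k ⟶ G, (∀ f ∈ s, g.left.appTop f = g'.left.appTop f) →
          ∃ h : VecGrp.pt k k ⟶ H, g' = g * (h ≫ i)] := by
  haveI : IsAffine H.left := isAffine_of_isAffineHom i.left
  haveI : IsReduced G.left := isReduced_of_smooth_field G.hom
  haveI : IsReduced H.left := isReduced_of_smooth_field H.hom
  obtain ⟨s, hs, hull⟩ := exists_finset_hull i
  tfae_have 1 → 2 := fun hobs => by
    obtain ⟨V, _, _, _, ρ, v, hv⟩ := exists_stab_vec s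
    refine ⟨V, inferInstance, inferInstance, inferInstance, ρ, v, fun g => ⟨fun h => ?_, ?_⟩⟩
    · exact hobs g (hull _ g ((hv g).1 h))
    · rintro ⟨x, rfl⟩
      exact (hv _).2 fun f hf => isRTransInv_comp x (hs f hf)
  tfae_have 2 → 1 := by
    rintro ⟨V, _, _, _, ρ, v, hv⟩ g hg
    refine (hv g).1 (S11191.result k G H i V ρ g hg v ?_)
    exact mem_fixedUnder_of_pts i ρ fun x => (hv _).2 ⟨x, rfl⟩
  tfae_have 1 → 3 := fun hobs => by
    obtain ⟨t, ht, htrans⟩ := exists_translates i s hs
    refine ⟨t, ht, fun g g' hgg => ?_⟩
    obtain ⟨x, hx⟩ := hobs (g⁻¹ * g') (hull _ _ fun f hf => (isRTransInv_pt_iff _ f).2 (eq_of_pts fun y => by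
      rw [ev_ev, MonObj.comp_mul, ← Category.assoc, hom_pt_ext (y ≫ toPt G), ← hom_pt_ext (𝟙 _), Category.id_comp,
        Category.comp_id]
      have := htrans g g' hgg f hf (y * g⁻¹)
      rw [_root_.mul_assoc, _root_.mul_assoc, inv_mul_cancel, _root_.mul_one] at this
      exact this.symm))
    exact ⟨x, by rw [hx, mul_inv_cancel_left]⟩
  tfae_have 3 → 1 := by
    rintro ⟨t, ht, hsep⟩ g hg
    obtain ⟨x, hx⟩ := hsep 1 g fun f hf => (ev_eq_ev_one (hg f (ht f hf))).symm
    exact ⟨x, by rw [hx, _root_.one_mul]⟩
  tfae_finish

end Groth.Agent.S11188
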