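import Groth.Statements.S11195
import Groth.Agent.AGFLib.ExtendCor

set_option autoImplicit false
universe u
open CategoryTheory MonoidalCategory CartesianMonoidalCategory MonObj GrpObj AlgebraicGeometry
open scoped TensorProduct
open AGF

namespace Groth.Agent.S11195

set_option backward.isDefEq.respectTransparency false
set_option backward.isDefEq.respectTransparency.types false

open Groth.Agent.GrpSchLib Groth.Agent.GrpSchLib.Kunneth Groth.Agent.GrpSchLib.LineGroups Groth.Agent.GrpSchLib.LineVec Groth.Agent.AGFLib

/-- Let k be an algebraically closed field, G a linear algebraic group over k, K a closed subgroup of G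
and H a closed subgroup of K (j : K → G, i : H → K smooth closed subgroup schemes). When H is
observable in K, and K in G, H is also observable in G. -/
theorem result (k : Type u) [Field k] [IsAlgClosed k]
    (G : Over (Spec (CommRingCat.of k))) [GrpObj G] [IsAffine G.left] [Smooth G.hom]
    (K : Over (Spec (CommRingCat.of k))) [GrpObj K] [Smooth K.hom] (j : K ⟶ G) [IsMonHom j] [IsClosedImmersion j.left]
    (H : Over (Spec (CommRingCat.of k))) [GrpObj H] [Smooth H.hom] (i : H ⟶ K) [IsMonHom i] [IsClosedImmersion i.left]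
    (hH : AGF.IsObservableIn k i) (hK : AGF.IsObservableIn k j) :
    AGF.IsObservableIn k (i ≫ j) := by
  haveI : IsAffine K.left := isAffine_of_isAffineHom j.left
  haveI : IsAffine H.left := isAffine_of_isAffineHom i.left
  obtain ⟨V, _, _, _, ρ, v, hv⟩ := ((S11188.result k G K j).out 0 1).1 hK
  obtain ⟨W, _, _, _, σ, w, hw⟩ := ((S11188.result k K H i).out 0 1).1 hH
  obtain ⟨U, _, _, _, τ, φ, hφ, hequiv⟩ := extendsAlong_of_observable j hK σ
  have hact : ∀ (y : VecGrp.pt k k ⟶ K) (a : W), act τ (y ≫ j) (φ a) = φ (act σ y a) := fun y a => by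
    have h1 := hequiv k y ((1 : k) ⊗ₜ[k] a)
    rw [LinearMap.baseChange_tmul, act_spec, LinearMap.baseChange_tmul, act_spec] at h1
    exact ((TensorProduct.lid k U).symm.injective h1).symm
  intro g hg
  have hgv : act ρ g v = v := act_eq_of_inv (i ≫ j) ρ v (fun x => by
    have := (hv ((x ≫ i) ≫ j)).mpr ⟨x ≫ i, rfl⟩
    rw [act_spec] at this
    rw [← Category.assoc]
    exact (TensorProduct.lid k V).symm.injective this) g hg
  obtain ⟨y, rfl⟩ := (hv g).mp (by rw [act_spec, hgv])
  have hgw : act τ (y ≫ j) (φ w) = φ w := act_eq_of_inv (i ≫ j) τ (φ w) (fun x => by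
    rw [← Category.assoc, hact]
    congr 1
    have := (hw (x ≫ i)).mpr ⟨x, rfl⟩
    rw [act_spec] at this
    exact (TensorProduct.lid k W).symm.injective this) _ hg
  rw [hact] at hgw
  obtain ⟨x, rfl⟩ := (hw y).mp (by rw [act_spec, hφ hgw])
  exact ⟨x, (Category.assoc x i j).symm⟩

end Groth.Agent.S11195
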