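import Groth.Statements.S11220
import Groth.Agent.AGFLib.Semi
-- import your own Groth.Agent.* helpers here

set_option autoImplicit false
universe u
open CategoryTheory MonoidalCategory CartesianMonoidalCategory MonObj GrpObj AlgebraicGeometry
open scoped TensorProduct
open AGF

namespace Groth.Agent.S11220

set_option backward.isDefEq.respectTransparency false
set_option backward.isDefEq.respectTransparency.types false

open Groth.Agent.GrpSchLib Groth.Agent.GrpSchLib.Kunneth Groth.Agent.GrpSchLib.LineVec Groth.Agent.AGFLib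

/-- Let k be an algebraically closed field, G a linear algebraic group over k (an affine smooth group
scheme over k) and H a closed subgroup of G (a smooth closed subgroup scheme, i : H → G). Then H is
observable in G if and only if, for every character χ of H which occurs on a nonzero
H-semi-invariant vector of some finite-dimensional rational G-module (h·v = χ(h)v), the inverse
character χ⁻¹ also occurs on a nonzero H-semi-invariant vector of some finite-dimensional rational
G-module (every one-dimensional H-module found inside a finite-dimensional G-module has its dual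
inside one too). -/
theorem result (k : Type u) [Field k] [IsAlgClosed k]
    (G : Over (Spec (CommRingCat.of k))) [GrpObj G] [IsAffine G.left] [Smooth G.hom]
    (H : Over (Spec (CommRingCat.of k))) [GrpObj H] [Smooth H.hom] (i : H ⟶ G) [IsMonHom i]
    [IsClosedImmersion i.left] :
    AGF.IsObservableIn k i ↔
      ∀ (χ : H ⟶ Red.Gm (Spec (CommRingCat.of k))), IsMonHom χ →
        (∃ (V : Type u) (_ : AddCommGroup V) (_ : Module k V) (_ : Module.Finite k V) (ρ : VecGrp.GMod G V) (v : V), v ≠ 0 ∧
          ∀ (B : Type u) [CommRing B] [Algebra k B] (h : VecGrp.pt k B ⟶ H),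
            ρ.ρ B (h ≫ i) ((1 : B) ⊗ₜ[k] v) = VecGrp.chiVal χ h • ((1 : B) ⊗ₜ[k] v)) →
        (∃ (V : Type u) (_ : AddCommGroup V) (_ : Module k V) (_ : Module.Finite k V) (ρ : VecGrp.GMod G V) (v : V), v ≠ 0 ∧
          ∀ (B : Type u) [CommRing B] [Algebra k B] (h : VecGrp.pt k B ⟶ H),
            ρ.ρ B (h ≫ i) ((1 : B) ⊗ₜ[k] v) = VecGrp.chiVal χ⁻¹ h • ((1 : B) ⊗ₜ[k] v)) := by
  haveI : IsAffine H.left := isAffine_of_isAffineHom i.left
  haveI : IsReduced G.left := isReduced_of_smooth_field G.hom
  haveI : IsReduced H.left := isReduced_of_smooth_field H.hom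
  constructor
  · intro hobs χ _ hχV
    obtain ⟨V, _, _, _, ρ, v, hv0, hv⟩ := hχV
    obtain ⟨l, hl⟩ : ∃ l : V →ₗ[k] k, l v ≠ 0 := by
      by_contra h
      push Not at h
      exact hv0 ((Module.forall_dual_apply_eq_zero_iff k v).mp h)
    let f := matCoeff ρ v l
    have hf0 : f ≠ 0 := fun h0 => hl (by
      have := val_matCoeff ρ v l 1
      rw [show matCoeff ρ v l = 0 from h0, val, map_zero, map_one, LinearEquiv.coe_one, id_eq, formB_tmul,
        smul_eq_mul, _root_.mul_one] at this
      exact this.symm)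
    let d := Red.gmFn χ
    have hf : ∀ x, rT (x ≫ i) f = val x d • f := rT_matCoeff i χ ρ v (hv k) l
    obtain ⟨F, hFmem, hFreg⟩ := exists_regular f hf0
    have hF : ∀ x, rT (x ≫ i) F = val x d • F := fun x => by
      clear hFreg
      induction hFmem using Submodule.span_induction with
      | mem a ha => obtain ⟨y, rfl⟩ := ha; rw [rT_lT, hf, map_smul]
      | zero => simp
      | add a b _ _ ha hb => rw [map_add, ha, hb, smul_add]
      | smul r a _ ha => rw [map_smul, ha, smul_comm]
    obtain ⟨P, hP, hPmem, hP0⟩ := exists_inv_mem i hobs (Ideal.span {F}) (fun x c hc => by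
      obtain ⟨q, rfl⟩ := Ideal.mem_span_singleton'.mp hc
      rw [map_mul, hF, mul_smul_comm]
      exact Submodule.smul_of_tower_mem _ _ (Ideal.mul_mem_left _ _ (Ideal.mem_span_singleton_self F)))
      F (Ideal.mem_span_singleton_self F) hFreg
    obtain ⟨c, rfl⟩ := Ideal.mem_span_singleton'.mp hPmem
    have hd : ∀ x : VecGrp.pt k k ⟶ H, val x d * val x (Red.gmFn χ⁻¹) = 1 := fun x => by
      rw [_root_.mul_comm, val, val, ← map_mul, GmPts.gmFn_inv, map_one]
    have hc : ∀ x, rT (x ≫ i) c = val x (Red.gmFn χ⁻¹) • c := fun x => by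
      have h1 := rT_of_isRTransInv hP x
      rw [map_mul, hF, mul_smul_comm, ← smul_mul_assoc, mul_cancel_right_mem_nonZeroDivisors hFreg] at h1
      conv_rhs => rw [← h1, smul_smul, _root_.mul_comm, hd, one_smul]
    obtain ⟨W, _, _, _, σ, w, hw0, hw⟩ := exists_semi_vec i (Red.gmFn χ⁻¹) c (left_ne_zero_of_mul hP0) hc
    exact ⟨W, inferInstance, inferInstance, inferInstance, σ, w, hw0, fun B _ _ h => by rw [hw, chiVal_eq]⟩
  · intro hchar g hg
    obtain ⟨A, _, _, ⟨eG⟩⟩ := AffineHopf.exists_hopf G
    obtain ⟨B, _, _, ⟨eN⟩⟩ := AffineHopf.exists_hopf H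
    let a : AffineHopf.sp k A ≅ G := (Grp.forget _).mapIso eG
    let b : AffineHopf.sp k B ≅ H := (Grp.forget _).mapIso eN
    haveI : IsMonHom a.hom := eG.hom.hom.isMonHom_hom
    haveI : IsMonHom a.inv := eG.inv.hom.isMonHom_hom
    haveI : IsMonHom b.hom := eN.hom.hom.isMonHom_hom
    haveI : IsMonHom b.inv := eN.inv.hom.isMonHom_hom
    haveI : IsIso a.hom.left := ((Over.forget _).mapIso a).isIso_hom
    haveI : IsIso a.inv.left := ((Over.forget _).mapIso a).isIso_inv
    haveI : IsIso b.hom.left := ((Over.forget _).mapIso b).isIso_hom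
    haveI : Algebra.FiniteType k A := RingHom.finiteType_algebraMap.mp
      ((HasRingHomProperty.Spec_iff (P := @LocallyOfFiniteType)).mp (by
        show LocallyOfFiniteType (AffineHopf.sp k A).hom
        rw [← Over.w a.hom]; infer_instance))
    obtain ⟨π, hπ⟩ := AffineHopf.exists_bialgHom (b.hom ≫ i ≫ a.inv)
    have hsurj : Function.Surjective π := AffineHopf.surjective_of_isClosedImmersion (π : A →ₐ[k] B) (by
      rw [← hπ, Over.comp_left, Over.comp_left]; infer_instance)
    obtain ⟨n, y, j₀, c, hcu, hcmul, hj₀, hsemi, hstab⟩ := exists_char_vec π hsurj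
    let z : Fin n → Fn G := fun j => ev a.inv (toFn (k := k) (A := A) (y j))
    have hz : ∀ (T : Over (Spec (CommRingCat.of k))) (q : T ⟶ G) j, ev q (z j) = fn (q ≫ a.inv) (y j) := fun T q j => rfl
    obtain ⟨u, hu⟩ := (hcu.map (toFn (k := k) (A := B))).map (ev b.inv)
    have hcv : ∀ (T : Over (Spec (CommRingCat.of k))) (h : T ⟶ H), ev h (u : Fn H) = fn (h ≫ b.inv) c := fun T h => by
      rw [hu]; rfl
    let χ : H ⟶ Red.Gm (Spec (CommRingCat.of k)) := GmPts.ptOfUnit u
    have hχhom : IsMonHom χ := isMonHom_ptOfUnit u fun T h h' => by rw [hcv, hcv, hcv, MonObj.mul_comp, hcmul]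
    have hgm : Red.gmFn χ = (u : Fn H) := GmPts.gmFn_ptOfUnit u
    have hsemi' : ∀ (x : VecGrp.pt k k ⟶ H) j, rT (x ≫ i) (z j) = val x (u : Fn H) • z j := fun x j => by
      refine eq_of_pts fun p => ?_
      rw [ev_rT, ← hom_pt_ext (𝟙 _), Category.id_comp, map_smul, hz, hz, Algebra.smul_def, ← ev_eq_algebraMap, hcv,
        MonObj.mul_comp, show (x ≫ i) ≫ a.inv = (x ≫ b.inv) ≫ AffineHopf.spMap (π : A →ₐ[k] B) by rw [← hπ]; simp,
        hsemi, _root_.mul_comm]
    have hz1 : val (1 : VecGrp.pt k k ⟶ G) (z j₀) = 1 := by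
      have h1 := ev_eq_algebraMap (1 : VecGrp.pt k k ⟶ G) (z j₀)
      rw [hz, MonObj.one_comp, hj₀, ← map_one (algebraMap k (Fn (VecGrp.pt k k)))] at h1
      exact ((LineGroups.spEquiv (k := k) k).injective
        (((LineGroups.spEquiv (k := k) k).commutes _).trans (h1.trans ((LineGroups.spEquiv (k := k) k).commutes _).symm))).symm
    obtain ⟨V, _, _, _, ρ, v, hv0, hv⟩ := exists_semi_vec i (u : Fn H) (z j₀) (fun h => by
      rw [h, val, map_zero] at hz1
      exact zero_ne_one hz1) fun x => hsemi' x j₀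
    obtain ⟨W, _, _, _, σ, w, hw0, hw⟩ := hchar χ hχhom
      ⟨V, inferInstance, inferInstance, inferInstance, ρ, v, hv0, fun C _ _ h => by rw [hv, chiVal_eq, hgm]⟩
    obtain ⟨l, hl⟩ : ∃ l : W →ₗ[k] k, l w ≠ 0 := by
      by_contra h
      push Not at h
      exact hw0 ((Module.forall_dual_apply_eq_zero_iff k w).mp h)
    let f := matCoeff σ w l
    have hf1 : val (1 : VecGrp.pt k k ⟶ G) f = l w := by
      rw [val_matCoeff, map_one, LinearEquiv.coe_one, id_eq, formB_tmul, smul_eq_mul, _root_.mul_one]
    have hf := rT_matCoeff i χ⁻¹ σ w (hw k) l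
    have hinv : ∀ j, AGF.IsRTransInv i (z j * f) := fun j => isRTransInv_of_pts i _ fun x => by
      rw [map_mul, hsemi', hf, smul_mul_smul_comm, _root_.mul_comm (val x _), val, val, ← map_mul, ← hgm,
        GmPts.gmFn_inv, map_one, one_smul]
    have hval : ∀ j, val g (z j) * val g f = val (1 : VecGrp.pt k k ⟶ G) (z j) * l w := fun j => by
      rw [← hf1, val, val, val, val, ← map_mul, ← map_mul, pullFn_apply, pullFn_apply, ev_eq_ev_one (hg _ (hinv j))]
    have hne : val g f ≠ 0 := fun h0 => hl (by simpa [hz1, h0, eq_comm] using hval j₀)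
    obtain ⟨h, hh⟩ := hstab _ (g ≫ a.inv) (algebraMap k _ (l w / val g f))
      ((Ne.isUnit (div_ne_zero hl hne)).map _) fun j => by
        have h1 : val g (z j) = val (1 : VecGrp.pt k k ⟶ G) (z j) * (l w / val g f) := by
          rw [mul_div_assoc', eq_div_iff hne]
          exact hval j
        rw [← hz, ← MonObj.one_comp a.inv, ← hz, ev_eq_algebraMap, ev_eq_algebraMap, ← map_mul, h1]
    refine ⟨h ≫ b.hom, ?_⟩
    rw [← hπ] at hh
    have := congrArg (fun m => m ≫ a.hom) hh
    simpa using this

end Groth.Agent.S11220
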