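import Groth.Statements.S11196
import Groth.Agent.AGFLib.LieKolchin
import Groth.Agent.AGFLib.FiniteIndex
import Groth.Agent.GrpSchLib.IdentityComp
import Groth.Agent.S11220
import Mathlib.AlgebraicGeometry.Morphisms.FlatMono

set_option autoImplicit false
universe u
open CategoryTheory MonoidalCategory CartesianMonoidalCategory MonObj GrpObj AlgebraicGeometry
open scoped TensorProduct
open AGF

namespace Groth.Agent.S11196

set_option backward.isDefEq.respectTransparency false
set_option backward.isDefEq.respectTransparency.types false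

open Groth.Agent.GrpSchLib Groth.Agent.GrpSchLib.Kunneth Groth.Agent.GrpSchLib.LineGroups Groth.Agent.GrpSchLib.LineVec Groth.Agent.AGFLib

/-- Let k be an algebraically closed field, G a linear algebraic group over k (an affine smooth group
scheme over k) and H a closed subgroup of G (a smooth closed subgroup scheme, i : H → G), with G
solvable. Then H is observable in G. -/
theorem result (k : Type u) [Field k] [IsAlgClosed k]
    (G : Over (Spec (CommRingCat.of k))) [GrpObj G] [IsAffine G.left] [Smooth G.hom]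
    (H : Over (Spec (CommRingCat.of k))) [GrpObj H] [Smooth H.hom] (i : H ⟶ G) [IsMonHom i]
    [IsClosedImmersion i.left]
    (hs : Red.IsSolvableGrp G) :
    AGF.IsObservableIn k i := by
  obtain ⟨G₀, _, jG, _, hGc, hGf, hGr, hGgi, hGq⟩ := exists_identityComponent (G := G)
  haveI := hGc
  haveI := hGf
  haveI := hGgi
  haveI : IsLocallyNoetherian G.left := LocallyOfFiniteType.isLocallyNoetherian G.hom
  haveI : IsOpenImmersion jG.left := IsOpenImmersion.of_flat_of_mono jG.left
  haveI : IsAffine G₀.left := isAffine_of_isAffineHom jG.left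
  haveI : Smooth G₀.hom := by rw [← Over.w jG]; infer_instance
  haveI : IrreducibleSpace G₀.left := GeometricallyIrreducible.irreducibleSpace_of_subsingleton (f := G₀.hom)
  haveI : IsReduced G₀.left := isReduced_of_smooth_field G₀.hom
  haveI : IsIntegral G₀.left := isIntegral_of_irreducibleSpace_of_isReduced _
  haveI : IsDomain (Fn G₀) := inferInstance
  haveI : IsAffine H.left := isAffine_of_isAffineHom i.left
  haveI : IsLocallyNoetherian H.left := LocallyOfFiniteType.isLocallyNoetherian H.hom
  obtain ⟨H₀, _, jH, _, hHc, hHf, hHr, hHgi, hHq⟩ := exists_identityComponent (G := H)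
  haveI := hHc
  haveI := hHf
  haveI : IsOpenImmersion jH.left := IsOpenImmersion.of_flat_of_mono jH.left
  haveI : IsAffine H₀.left := isAffine_of_isAffineHom jH.left
  haveI : Smooth H₀.hom := by rw [← Over.w jH]; infer_instance
  have hrange : Set.range (jH ≫ i).left ⊆ Set.range jG.left := by
    rw [Over.comp_left, Scheme.Hom.comp_base, TopCat.coe_comp, Set.range_comp, hHr, hGr]
    exact i.left.continuous.image_connectedComponent_subset _ |>.trans_eq
      (congrArg connectedComponent (congrArg (fun m : 𝟙_ (Over (Spec (CommRingCat.of k))) ⟶ G => m.left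
        (IsLocalRing.closedPoint k)) (IsMonHom.one_hom i)))
  let i₀ : H₀ ⟶ G₀ := Over.homMk (IsOpenImmersion.lift jG.left (jH ≫ i).left hrange)
    (by rw [← Over.w jG, IsOpenImmersion.lift_fac_assoc]; exact Over.w _)
  have hc : i₀ ≫ jG = jH ≫ i := Over.OverMorphism.ext (IsOpenImmersion.lift_fac _ _ _)
  haveI : Mono jG := Over.mono_of_mono_left _
  haveI : IsMonHom i₀ := isMonHom_of_mul _ fun T g g' => by
    rw [← cancel_mono jG]
    simp only [MonObj.mul_comp, Category.assoc, hc]
  haveI : IsClosedImmersion (i₀.left ≫ jG.left) := by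
    rw [show i₀.left ≫ jG.left = jH.left ≫ i.left from congrArg (·.left) hc]; infer_instance
  haveI : IsClosedImmersion i₀.left := IsClosedImmersion.of_comp i₀.left jG.left
  rw [isObservableIn_iff_open i jH, ← hc, ← isObservableIn_iff_comp jG i₀]
  obtain ⟨n, hn⟩ := hs
  let F : (VecGrp.pt k k ⟶ G₀) →* (VecGrp.pt k k ⟶ G) :=
    MonoidHom.mk' (fun g => g ≫ jG) fun g h => MonObj.mul_comp g h jG
  have hF : Function.Injective F := fun g h e => (cancel_mono jG).mp e
  have hn₀ : derivedSeries (VecGrp.pt k k ⟶ G₀) n = ⊥ := by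
    rw [← (Subgroup.map_eq_bot_iff_of_injective _ hF)]
    exact le_bot_iff.mp ((map_derivedSeries_le_derivedSeries F n).trans_eq (hn _))
  refine (S11220.result k G₀ H₀ i₀).mpr fun χ _ hχV => ?_
  obtain ⟨V, _, _, _, ρ, v, hv0, hv⟩ := hχV
  obtain ⟨P, hP0, hP⟩ := exists_semi_inv_of_solvable i₀ n hn₀ χ ρ v hv0 fun x => by
    show TensorProduct.lid k V (ρ.ρ k (x ≫ i₀) ((1 : k) ⊗ₜ[k] v)) = _
    rw [hv, map_smul, TensorProduct.lid_tmul, one_smul, chiVal_eq]
    rfl
  obtain ⟨W, _, _, _, σ, w, hw0, hw⟩ := exists_semi_vec i₀ (Red.gmFn χ⁻¹) P hP0 hP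
  exact ⟨W, inferInstance, inferInstance, inferInstance, σ, w, hw0, fun B _ _ h => by rw [hw, chiVal_eq]⟩

end Groth.Agent.S11196
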