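import Groth.Statements.S18510
import Groth.Agent.EtFound.Descent
import Groth.Agent.SmallFlat.Misc
import Groth.Agent.GITQuot.BaseChange
-- import your own Groth.Agent.* helpers here

set_option autoImplicit false
universe u
open CategoryTheory MonoidalCategory CartesianMonoidalCategory MonObj GrpObj AlgebraicGeometry Topology
open EqInt

namespace Groth.Agent.S18510

theorem flat_of_comp {P Q R : Scheme.{u}} (p : P ⟶ Q) (q : Q ⟶ R) [Flat p] [Surjective p] [Flat (p ≫ q)] :
    Flat q := by
  refine Flat.of_stalkMap q fun y => ?_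
  obtain ⟨x, rfl⟩ := p.surjective y
  have h1 := Flat.stalkMap (p ≫ q) x
  rw [Scheme.Hom.stalkMap_comp] at h1
  have h2 := Flat.stalkMap p x
  have h3 : IsLocalHom (p.stalkMap x).hom := inferInstance
  algebraize [(p.stalkMap x).hom, (q.stalkMap (p.base x)).hom, (p.stalkMap x).hom.comp (q.stalkMap (p.base x)).hom]
  haveI : Module.Flat (R.presheaf.stalk (q.base (p.base x))) (P.presheaf.stalk x) := h1
  haveI : IsLocalHom (algebraMap (Q.presheaf.stalk (p.base x)) (P.presheaf.stalk x)) := h3
  haveI : Module.FaithfullyFlat (Q.presheaf.stalk (p.base x)) (P.presheaf.stalk x) :=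
    Module.FaithfullyFlat.of_flat_of_isLocalHom
  exact SmallFlat.flat_of_faithfullyFlat_tower (R.presheaf.stalk (q.base (p.base x))) (Q.presheaf.stalk (p.base x))
    (P.presheaf.stalk x)

/-- Over a field k, let an affine group scheme G of finite type act on X, on Y and on U (quasi-separated
schemes of finite type over k), let f : X → Y be G-equivariant, and let q_X : X × U → X_G and q_Y :
Y × U → Y_G be principal bundle quotients for the diagonal actions (each is invariant, flat and
surjective, and (σ, p₂) into the fibre square over the quotient is an isomorphism), X_G and Y_G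
being quasi-separated of finite type over k. Let f_G : X_G → Y_G satisfy f_G ∘ q_X = q_Y ∘ (f ×
id_U) as maps X × U → Y_G. If f is proper, resp. flat, resp. smooth, then so is f_G. (Stated for
schemes; the source allows algebraic spaces and also treats regular embeddings and local complete
intersection morphisms, which are not stated here.) -/
theorem result (k : Type u) [Field k]
    (G X Y U XG YG : Over (Spec (CommRingCat.of k))) [GrpObj G] [IsAffine G.left] [LocallyOfFiniteType G.hom]
    [LocallyOfFiniteType X.hom] [QuasiCompact X.hom] [QuasiSeparated X.hom]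
    [LocallyOfFiniteType Y.hom] [QuasiCompact Y.hom] [QuasiSeparated Y.hom]
    [LocallyOfFiniteType U.hom] [QuasiCompact U.hom] [QuasiSeparated U.hom]
    [LocallyOfFiniteType XG.hom] [QuasiCompact XG.hom] [QuasiSeparated XG.hom]
    [LocallyOfFiniteType YG.hom] [QuasiCompact YG.hom] [QuasiSeparated YG.hom]
    (a : AlgGrp.Action G X) (aY : AlgGrp.Action G Y) (b : AlgGrp.Action G U)
    (f : X ⟶ Y) (hf : AlgGrp.Action.IsEquivariant a aY f)
    (qX : X ⊗ U ⟶ XG) (hqX : GIT.IsInvariant (a.prod b) qX) [Flat qX.left] [Surjective qX.left]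
    (hcX : IsIso (GIT.PsiY (a.prod b) qX hqX))
    (qY : Y ⊗ U ⟶ YG) (hqY : GIT.IsInvariant (aY.prod b) qY) [Flat qY.left] [Surjective qY.left]
    (hcY : IsIso (GIT.PsiY (aY.prod b) qY hqY))
    (fG : XG ⟶ YG) (hfG : qX ≫ fG = (f ▷ U) ≫ qY) :
    (IsProper f.left → IsProper fG.left) ∧ (Flat f.left → Flat fG.left) ∧
      (Smooth f.left → Smooth fG.left) := by
  set F := f ▷ U with hF
  haveI : QuasiCompact (X ⊗ U).hom := inferInstanceAs (QuasiCompact (Limits.pullback.fst X.hom U.hom ≫ X.hom))
  haveI : QuasiCompact (Y ⊗ U).hom := inferInstanceAs (QuasiCompact (Limits.pullback.fst Y.hom U.hom ≫ Y.hom))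
  haveI : QuasiCompact (qY.left ≫ YG.hom) := by rw [Over.w]; infer_instance
  haveI : QuasiCompact qY.left := QuasiCompact.of_comp qY.left YG.hom
  haveI : QuasiCompact (qX.left ≫ XG.hom) := by rw [Over.w]; infer_instance
  haveI : QuasiCompact qX.left := QuasiCompact.of_comp qX.left XG.hom
  -- the two free quotients as cartesian squares
  have hA : IsPullback (a.prod b).act.left (snd G (X ⊗ U)).left qX.left qX.left := by
    haveI := hcX
    exact IsPullback.of_iso_pullback ⟨hqX.left⟩ (asIso (GIT.PsiY (a.prod b) qX hqX))
      (Limits.pullback.lift_fst _ _ _) (Limits.pullback.lift_snd _ _ _)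
  have hB : IsPullback (aY.prod b).act.left (snd G (Y ⊗ U)).left qY.left qY.left := by
    haveI := hcY
    exact IsPullback.of_iso_pullback ⟨hqY.left⟩ (asIso (GIT.PsiY (aY.prod b) qY hqY))
      (Limits.pullback.lift_fst _ _ _) (Limits.pullback.lift_snd _ _ _)
  have heq : (a.prod b).act ≫ F = (G ◁ F) ≫ (aY.prod b).act := by
    have hf' : a.act ≫ f = (G ◁ f) ≫ aY.act := hf
    apply CartesianMonoidalCategory.hom_ext
    · simp only [hF, AlgGrp.Action.prod, Category.assoc, whiskerRight_fst, lift_fst, lift_fst_assoc]
      rw [hf', ← Category.assoc, ← MonoidalCategory.whiskerLeft_comp, ← Category.assoc,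
        ← MonoidalCategory.whiskerLeft_comp, whiskerRight_fst]
    · simp only [hF, AlgGrp.Action.prod, Category.assoc, whiskerRight_snd, lift_snd]
      rw [← Category.assoc, ← MonoidalCategory.whiskerLeft_comp, whiskerRight_snd]
  have hw : F.left ≫ qY.left = qX.left ≫ fG.left := by rw [← Over.comp_left, ← Over.comp_left, hfG]
  have hC : IsPullback ((G ◁ F).left ≫ (aY.prod b).act.left) (snd G (X ⊗ U)).left qY.left (qX.left ≫ fG.left) := by
    rw [← hw]
    exact (GITQuot.isPullback_left (GITQuot.isPullback_tensorLeft F)).paste_horiz hB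
  let c : (X ⊗ U).left ⟶ Limits.pullback qY.left fG.left := Limits.pullback.lift F.left qX.left hw
  let κ : (G ⊗ (X ⊗ U)).left ⟶ Limits.pullback qY.left fG.left := Limits.pullback.lift
    ((G ◁ F).left ≫ (aY.prod b).act.left) ((snd G (X ⊗ U)).left ≫ qX.left) (by rw [hC.w, Category.assoc])
  have hκ : IsPullback κ (snd G (X ⊗ U)).left (Limits.pullback.snd qY.left fG.left) qX.left := by
    refine IsPullback.of_right ?_ (Limits.pullback.lift_snd _ _ _) (IsPullback.of_hasPullback qY.left fG.left)
    rw [Limits.pullback.lift_fst]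
    exact hC
  have hcκ : (a.prod b).act.left ≫ c = κ := by
    apply Limits.pullback.hom_ext
    · rw [Category.assoc, Limits.pullback.lift_fst, Limits.pullback.lift_fst, ← Over.comp_left, heq, Over.comp_left]
    · rw [Category.assoc, Limits.pullback.lift_snd, Limits.pullback.lift_snd, hA.w]
  have htop : IsPullback (a.prod b).act.left (𝟙 _) c κ := by
    refine IsPullback.of_bot ?_ (by rw [hcκ, Category.id_comp]) hκ
    rw [Category.id_comp, Limits.pullback.lift_snd]
    exact hA
  haveI : Surjective κ := MorphismProperty.of_isPullback hκ.flip (by infer_instance : Surjective qX.left)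
  haveI : Flat κ := MorphismProperty.of_isPullback hκ.flip (by infer_instance : Flat qX.left)
  haveI : QuasiCompact κ := MorphismProperty.of_isPullback hκ.flip (by infer_instance : QuasiCompact qX.left)
  haveI : IsIso c := MorphismProperty.of_isPullback_of_descendsAlong
    (P := MorphismProperty.isomorphisms Scheme.{u}) (Q := @Surjective ⊓ @Flat ⊓ @QuasiCompact) htop.flip
    ⟨⟨inferInstance, inferInstance⟩, inferInstance⟩ (inferInstanceAs (IsIso (𝟙 _)))
  have hsq : IsPullback F.left qX.left qY.left fG.left :=
    IsPullback.of_iso_pullback ⟨hw⟩ (asIso c) (Limits.pullback.lift_fst _ _ _) (Limits.pullback.lift_snd _ _ _)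
  have hbc : IsPullback (fst X U).left F.left f.left (fst Y U).left := GITQuot.isPullback_whiskerRight
  refine ⟨fun h => ?_, fun h => ?_, fun h => ?_⟩
  · haveI := EtFound.fpqc_isProper.{u}
    haveI := h
    exact MorphismProperty.of_isPullback_of_descendsAlong (P := @IsProper) (Q := @Surjective ⊓ @Flat ⊓ @QuasiCompact)
      hsq ⟨⟨inferInstance, inferInstance⟩, inferInstance⟩ (MorphismProperty.of_isPullback hbc h)
  · haveI : Flat F.left := MorphismProperty.of_isPullback hbc h
    haveI : Flat (qX.left ≫ fG.left) := by rw [← hw]; infer_instance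
    exact flat_of_comp qX.left fG.left
  · haveI := h
    exact MorphismProperty.of_isPullback_of_descendsAlong (P := @Smooth) (Q := @Surjective ⊓ @Flat ⊓ @QuasiCompact)
      hsq ⟨⟨inferInstance, inferInstance⟩, inferInstance⟩ (MorphismProperty.of_isPullback hbc h)

end Groth.Agent.S18510
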