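import Groth.Statements.S18825
import Groth.Agent.GrpSchLib.Homogeneous
import Groth.Agent.GrpSchLib.FieldSubgroup
import Groth.Agent.AssLib.FlatField


set_option autoImplicit false
universe u
open CategoryTheory MonoidalCategory CartesianMonoidalCategory MonObj AlgebraicGeometry
open AlgGrp

namespace Groth.Agent.S18825

theorem isClosed_range {k : Type u} [Field k] {H G : Over (Spec (CommRingCat.of k))} [GrpObj H] [GrpObj G]
    [LocallyOfFiniteType H.hom] [LocallyOfFiniteType G.hom] (f : H ⟶ G) [IsMonHom f] [QuasiCompact f.left] :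
    IsClosed (Set.range f.left) := by
  let a : AlgGrp.Action H G :=
    { act := (f ▷ G) ≫ μ[G]
      one_act := by
        rw [← Category.assoc, ← MonoidalCategory.comp_whiskerRight, IsMonHom.one_hom]
        exact MonObj.one_mul G
      mul_act := by
        apply (cancel_epi (α_ H H G).inv).mp
        simp only [Iso.inv_hom_id_assoc]
        have h : ∀ {T : Over (Spec (CommRingCat.of k))} (x : T ⟶ H) (y : T ⟶ G), lift x y ≫ (f ▷ G) ≫ μ[G] = (x ≫ f) * y := by
          intro T x y
          rw [← Category.assoc, lift_whiskerRight, Hom.mul_def]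
        have hw : (α_ H H G).inv = lift (lift (fst H (H ⊗ G)) (snd H (H ⊗ G) ≫ fst H G)) (snd H (H ⊗ G) ≫ snd H G) := by
          apply CartesianMonoidalCategory.hom_ext
          · apply CartesianMonoidalCategory.hom_ext <;> simp
          · simp
        rw [hw, ← Category.assoc, lift_whiskerRight, ← Hom.mul_def]
        rw [show (H ◁ ((f ▷ G) ≫ μ[G])) = lift (fst H (H ⊗ G)) (snd H (H ⊗ G) ≫ (f ▷ G) ≫ μ[G]) by
          apply CartesianMonoidalCategory.hom_ext <;> simp, h, h]
        rw [show snd H (H ⊗ G) ≫ (f ▷ G) ≫ μ[G] = (snd H (H ⊗ G) ≫ fst H G ≫ f) * (snd H (H ⊗ G) ≫ snd H G) by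
          rw [Hom.mul_def, ← Category.assoc (snd H (H ⊗ G)) (fst H G), ← lift_whiskerRight_assoc, ← comp_lift, lift_fst_snd, Category.comp_id]]
        rw [MonObj.mul_comp]
        simp [_root_.mul_assoc] }
  have ha : a.orbitMap η[G] = f := by
    show lift (𝟙 H) (toUnit H ≫ η[G]) ≫ (f ▷ G) ≫ μ[G] = f
    rw [← Category.assoc, lift_whiskerRight, Category.id_comp, ← Hom.mul_def]
    exact _root_.mul_one _
  haveI : Nonempty H.left := ⟨(η[H] : 𝟙_ _ ⟶ H).left (IsLocalRing.closedPoint k)⟩
  refine GrpSchLib.isClosed_range_of_isLocallyClosed f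
    (GrpSchLib.isLocallyClosed_range_of_homogeneous (k := k) (K := AlgebraicClosure k) f fun w w' => ?_)
  obtain ⟨S, T, h1, -, h3⟩ := GrpSchLib.orbitMap_homogeneous a η[G] w w'
  rw [ha] at h1
  exact ⟨S, T, h1, h3⟩


/-- Let k be a field and f : H → G a homomorphism of locally algebraic groups over k (group k-schemes
locally of finite type) which is of finite type (equivalently quasi-compact). Let H → K → G be the
factorization of f through its scheme-theoretic image: i : K → G a closed immersion and g : H → K
with g followed by i equal to f and O_K → g_*O_H injective. Then (1) K is a closed subgroup scheme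
of G: the unit section of G factors through i and, for every k-scheme T and T-valued points k₁, k₂
of K, the T-valued point (i k₁)⁻¹ · (i k₂) of G factors through i; and (2) g : H → K is surjective.
(The source also records that g is a homomorphism for the group structure induced on K; this row
does not state it.) -/
theorem result (k : Type u) [Field k]
    (H G K : Over (Spec (CommRingCat.of k))) [GrpObj H] [GrpObj G]
    [LocallyOfFiniteType H.hom] [LocallyOfFiniteType G.hom]
    (f : H ⟶ G) [IsMonHom f] [QuasiCompact f.left]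
    (i : K ⟶ G) [IsClosedImmersion i.left] (g : H ⟶ K) (hgi : g ≫ i = f)
    [IsSchemeTheoreticallyDominant g.left] :
    ((∃ e : 𝟙_ (Over (Spec (CommRingCat.of k))) ⟶ K, e ≫ i = η[G]) ∧
      ∀ (T : Over (Spec (CommRingCat.of k))) (k₁ k₂ : T ⟶ K),
        ∃ k₃ : T ⟶ K, k₃ ≫ i = (k₁ ≫ i)⁻¹ * (k₂ ≫ i)) ∧
    Surjective g.left := by
  haveI : QuasiCompact g.left := by
    have : QuasiCompact (g.left ≫ i.left) := by rw [← Over.comp_left, hgi]; infer_instance
    exact QuasiCompact.of_comp g.left i.left
  refine ⟨⟨⟨η[H] ≫ g, by rw [Category.assoc, hgi]; exact IsMonHom.one_hom f⟩, ?_⟩, ?_⟩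
  · -- the product of scheme-theoretically dominant maps
    let gg : H ⊗ H ⟶ K ⊗ K := (g ▷ H) ≫ (K ◁ g)
    have hgg : gg.left.ker = ⊥ := by
      have hl : ∀ A : Over (Spec (CommRingCat.of k)), IsSchemeTheoreticallyDominant (g ▷ A).left := fun A => by
        haveI : Flat A.hom := AssLib.flat_over_field A.hom
        haveI : Flat (fst K A).left := inferInstanceAs (Flat (Limits.pullback.fst K.hom A.hom))
        exact IsSchemeTheoreticallyDominant.of_isPullback (f := g.left) (g := (fst K A).left)
          (GrpSchLib.isPullback_whiskerRight g A).flip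
      haveI := hl H
      haveI : IsSchemeTheoreticallyDominant (K ◁ g).left := by
        haveI := hl K
        have e : K ◁ g = (β_ K H).hom ≫ (g ▷ K) ≫ (β_ K K).hom := by
          apply CartesianMonoidalCategory.hom_ext <;> simp
        haveI : IsIso (β_ K H).hom.left := ((Over.forget _).mapIso (β_ K H)).isIso_hom
        haveI : IsIso (β_ K K).hom.left := ((Over.forget _).mapIso (β_ K K)).isIso_hom
        rw [e, Over.comp_left, Over.comp_left]
        infer_instance
      haveI : IsSchemeTheoreticallyDominant gg.left := by simp only [gg, Over.comp_left]; infer_instance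
      exact gg.left.ker_eq_bot
    let d : K ⊗ K ⟶ G := (fst K K ≫ i)⁻¹ * (snd K K ≫ i)
    have hd : gg ≫ d = ((fst H H)⁻¹ * snd H H) ≫ f := by
      rw [MonObj.mul_comp, GrpObj.inv_comp, MonObj.comp_mul, GrpObj.comp_inv]
      simp [gg, hgi]
    have hker : i.left.ker ≤ d.left.ker := by
      have h1 : f.left.ker = i.left.ker := by
        rw [← hgi, Over.comp_left, Scheme.Hom.ker_comp, g.left.ker_eq_bot, Scheme.IdealSheafData.map_bot]
      have h2 : (gg ≫ d).left.ker = d.left.ker := by
        rw [Over.comp_left, Scheme.Hom.ker_comp, hgg, Scheme.IdealSheafData.map_bot]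
      rw [← h1, ← h2, hd, Over.comp_left]
      exact Scheme.Hom.le_ker_comp _ _
    intro T k₁ k₂
    let m : K ⊗ K ⟶ K := Over.homMk (IsClosedImmersion.lift i.left d.left hker)
      (by rw [← Over.w i, ← Category.assoc, IsClosedImmersion.lift_fac]; exact Over.w d)
    have hm : m ≫ i = d := Over.OverMorphism.ext (IsClosedImmersion.lift_fac _ _ _)
    refine ⟨lift k₁ k₂ ≫ m, ?_⟩
    rw [Category.assoc, hm, MonObj.comp_mul, GrpObj.comp_inv, lift_fst_assoc, lift_snd_assoc]
  · haveI : IsDominant g.left := inferInstance
    have hr : Set.range g.left = i.left ⁻¹' Set.range f.left := by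
      ext x
      constructor
      · rintro ⟨y, rfl⟩
        exact ⟨y, by rw [← hgi]; rfl⟩
      · rintro ⟨y, hy⟩
        refine ⟨y, i.left.injective ?_⟩
        rw [← hy, ← hgi]; rfl
    have hc : IsClosed (Set.range g.left) := hr ▸ (isClosed_range f).preimage i.left.continuous
    exact ⟨fun x => hc.closure_eq.subset (g.left.denseRange x)⟩


end Groth.Agent.S18825
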