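import Groth.Statements.S5223
import Groth.Agent.FDescent.FlatCancel

set_option backward.isDefEq.respectTransparency false
set_option backward.isDefEq.respectTransparency.types false
-- import your own Groth.Agent.* helpers here

set_option autoImplicit false
open CategoryTheory CategoryTheory.Limits AlgebraicGeometry
universe u
open GrpQ

namespace Groth.Agent.S5223

/-- In a cartesian square of schemes `F₂ = F₁ ×_{X₀} X₁` whose bottom map `u : X₁ ⟶ X₀` is flat, the
base-changed map `d' : F₂ ⟶ X₁` is flat at a point `x` if and only if `d : F₁ ⟶ X₀` is flat at the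
image of `x` in `F₁`. -/
theorem result {F₂ F₁ X₁ X₀ : Scheme.{u}}
    {v : F₂ ⟶ F₁} {d' : F₂ ⟶ X₁} {d : F₁ ⟶ X₀} {u : X₁ ⟶ X₀}
    (h : IsPullback v d' d u) [Flat u] (x : F₂) :
    (d'.stalkMap x).hom.Flat ↔ (d.stalkMap (v.base x)).hom.Flat := by
  have cancel : ∀ {A B C : Scheme.{u}} (f : A ⟶ B) (g : B ⟶ C) (a : A), (f.stalkMap a).hom.Flat →
      ((f ≫ g).stalkMap a).hom.Flat → (g.stalkMap (f a)).hom.Flat := by
    intro A B C f g a h1 h2
    rw [Scheme.Hom.stalkMap_comp, CommRingCat.hom_comp] at h2
    let R : Type u := C.presheaf.stalk ((f ≫ g) a)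
    let M : Type u := B.presheaf.stalk (f a)
    let N : Type u := A.presheaf.stalk a
    let φ : R →+* M := (g.stalkMap (f a)).hom
    let ψ : M →+* N := (f.stalkMap a).hom
    algebraize [φ, ψ, ψ.comp φ]
    have : Module.Flat M N := h1
    have : Module.Flat R N := h2
    have : IsLocalHom (algebraMap M N) := f.toLRSHom.prop a
    have : Module.FaithfullyFlat M N := Module.FaithfullyFlat.of_flat_of_isLocalHom
    exact Groth.Agent.FDescent.flat_cancel R M N
  have hfs : ∀ {X : Scheme.{u}} (a : X), Flat (X.fromSpecStalk a) := by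
    intro X a
    obtain ⟨U, hU, haU, -⟩ := exists_isAffineOpen_mem_and_subset (show a ∈ (⊤ : X.Opens) from trivial)
    rw [← hU.fromSpecStalk_eq_fromSpecStalk haU, IsAffineOpen.fromSpecStalk]
    have : Flat (Spec.map (X.presheaf.germ U a haU)) := by
      rw [HasRingHomProperty.Spec_iff (P := @Flat)]
      let : Algebra Γ(X, U) (X.presheaf.stalk a) := (X.presheaf.germ U a haU).hom.toAlgebra
      have := hU.isLocalization_stalk ⟨a, haU⟩
      exact IsLocalization.flat (X.presheaf.stalk a) (hU.primeIdealOf ⟨a, haU⟩).asIdeal.primeCompl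
    infer_instance
  have hv : Flat v := MorphismProperty.of_isPullback (P := @Flat) h.flip ‹_›
  constructor
  · intro hx
    refine cancel v d x (Flat.stalkMap v x) ?_
    have e : ((d' ≫ u).stalkMap x).hom.Flat := by
      rw [Scheme.Hom.stalkMap_comp, CommRingCat.hom_comp]
      exact RingHom.Flat.comp (Flat.stalkMap u (d' x)) hx
    rwa [← h.w] at e
  · intro hy
    let y : F₁ := v x
    let k := F₁.fromSpecStalk y
    let P := pullback k v
    let π₁ : P ⟶ Spec (F₁.presheaf.stalk y) := pullback.fst k v
    let π₂ : P ⟶ F₂ := pullback.snd k v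
    have hP : IsPullback π₁ (π₂ ≫ d') (k ≫ d) u := (IsPullback.of_hasPullback k v).paste_vert h |>.flip.flip
    have hkd : Flat (k ≫ d) := by
      rw [show k ≫ d = Spec.map (d.stalkMap y) ≫ X₀.fromSpecStalk (d y) from
        (Scheme.SpecMap_stalkMap_fromSpecStalk d).symm]
      have : Flat (Spec.map (d.stalkMap y)) := (HasRingHomProperty.Spec_iff (P := @Flat)).2 hy
      have := hfs (d y)
      infer_instance
    have hfl : Flat (π₂ ≫ d') := MorphismProperty.of_isPullback (P := @Flat) hP hkd
    obtain ⟨z, -, hz⟩ := Scheme.Pullback.exists_preimage_pullback (f := k) (g := v)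
      (IsLocalRing.closedPoint (F₁.presheaf.stalk y)) x (by rw [Scheme.fromSpecStalk_closedPoint])
    have hk : Flat π₂ :=
      MorphismProperty.of_isPullback (P := @Flat) (IsPullback.of_hasPullback k v) (hfs y)
    have := cancel π₂ d' z (Flat.stalkMap π₂ z) (Flat.stalkMap (π₂ ≫ d') z)
    rw [show π₂ z = x from hz] at this
    exact this
end Groth.Agent.S5223
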