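import Groth.Statements.S5336
import Groth.Agent.GrpSchLib.Loci
-- import your own Groth.Agent.* helpers here

set_option autoImplicit false
universe u
open CategoryTheory CategoryTheory.Limits MonoidalCategory CartesianMonoidalCategory MonObj GrpObj AlgebraicGeometry
open SGA3

namespace Groth.Agent.S5336

/-- Let A be a local artinian ring, G an A-group scheme which is flat and locally of finite type over A,
and u : G → H a homomorphism of A-group schemes. If u is flat at some point x of G (the local ring
of G at x is flat over the local ring of H at u(x)), then u is flat. -/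
theorem result (A : Type u) [CommRing A] [IsArtinianRing A] [IsLocalRing A] (G H : Over (Spec (CommRingCat.of A))) [GrpObj G] [GrpObj H]
    [Flat G.hom] [LocallyOfFiniteType G.hom] (u : G ⟶ H) [IsMonHom u]
    (h : ∃ x : G.left, (u.left.stalkMap x).hom.Flat) : Flat u.left := by
  obtain ⟨x, hx⟩ := h
  have hpt : Subsingleton ↥(Spec (CommRingCat.of A)) :=
    ⟨fun a b => PrimeSpectrum.ext ((IsLocalRing.eq_maximalIdeal ((IsArtinianRing.isMaximal_of_isPrime a.asIdeal))).trans
      (IsLocalRing.eq_maximalIdeal ((IsArtinianRing.isMaximal_of_isPrime b.asIdeal))).symm)⟩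
  refine Flat.of_stalkMap u.left fun y => ?_
  exact Agent.GrpSchLib.Saturate.saturated (Agent.GrpSchLib.Saturate.homAction u) u
    (Agent.GrpSchLib.Saturate.equivariant_hom u) Agent.GrpSchLib.Loci.compat_flatLocus
    ‹Flat G.hom› hx (Subsingleton.elim (α := ↥(Spec (CommRingCat.of A))) _ _)

end Groth.Agent.S5336
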