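import Groth.Statements.S5150
import Mathlib

set_option autoImplicit false
universe u
open CategoryTheory
open LocCoh

namespace Groth.Agent.S5150

/-- Let A be a commutative ring, I an ideal, M and N A-modules, and f_1, …, f_r a weakly M-regular
sequence of elements of I. If N is killed by a power of I then Ext^i_A(N, M) vanishes for all i < r.
(No Noetherian or finiteness hypothesis on A, M or N.) -/
theorem result (A : Type u) [CommRing A] (I : Ideal A) (M N : Type u) [AddCommGroup M] [Module A M] [AddCommGroup N] [Module A N] (rs : List A) (hreg : RingTheory.Sequence.IsWeaklyRegular M rs) (hI : ∀ r ∈ rs, r ∈ I) (k : ℕ) (hN : (I ^ k) • (⊤ : Submodule A N) = ⊥) (i : ℕ) (hi : i < rs.length) : Subsingleton (Abelian.Ext (ModuleCat.of A N) (ModuleCat.of A M) i) := by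
  induction rs generalizing M i with
  | nil => simp at hi
  | cons r rs ih =>
    rw [RingTheory.Sequence.isWeaklyRegular_cons_iff] at hreg
    simp only [List.mem_cons, forall_eq_or_imp] at hI
    have hann : r ^ k ∈ Module.annihilator A N := by
      rw [Module.mem_annihilator]
      intro y
      have : r ^ k • y ∈ (I ^ k) • (⊤ : Submodule A N) :=
        Submodule.smul_mem_smul (Ideal.pow_mem_pow hI.1 k) trivial
      rwa [hN, Submodule.mem_bot] at this
    match i with
    | 0 =>
      have : Subsingleton (N →ₗ[A] M) := subsingleton_of_forall_eq 0 fun φ => LinearMap.ext fun y => by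
        refine (hreg.1.pow k) ?_
        show r ^ k • φ y = r ^ k • (0 : M)
        rw [smul_zero, ← map_smul, Module.mem_annihilator.1 hann, map_zero]
      exact (Abelian.Ext.addEquiv₀.trans ModuleCat.homAddEquiv).subsingleton
    | j + 1 =>
      rw [List.length_cons] at hi
      let Mc := ModuleCat.of A M
      let Nc := ModuleCat.of A N
      let g := AddCommGrpCat.ofHom ((Abelian.Ext.mk₀ (Mc.smulShortComplex r).f).postcomp Nc
        (add_zero (j + 1)))
      have hreg1 : IsSMulRegular Mc r := hreg.1
      have hmono : Mono g := by
        apply (Abelian.Ext.covariant_sequence_exact₁' Nc hreg1.smulShortComplex_shortExact j (j + 1)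
          rfl).mono_g ((AddCommGrpCat.isZero_of_iff_subsingleton.mpr ?_).eq_zero_of_src _)
        exact ih _ hreg.2 hI.2 j (by omega)
      let gk := AddCommGrpCat.ofHom ((Abelian.Ext.mk₀ (Mc.smulShortComplex (r ^ k)).f).postcomp Nc
        (add_zero (j + 1)))
      have hmonok : Mono gk := by
        simp only [ModuleCat.smulShortComplex_f_eq_smul_id, g, gk] at hmono ⊢
        exact (Abelian.Ext.postcomp_smul_id_mono_iff (r ^ k) (j + 1)).mpr <|
          ((Abelian.Ext.postcomp_smul_id_mono_iff r (j + 1)).mp hmono).pow k
      have zero_gk : gk = 0 := Abelian.Ext.postcomp_smul_id_eq_zero_of_mem_annihilator hann (j + 1)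
      exact AddCommGrpCat.subsingleton_of_isZero (Limits.IsZero.of_mono_eq_zero _ zero_gk)

end Groth.Agent.S5150
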