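import Groth.Statements.S5163
import Mathlib
open TensorProduct

set_option autoImplicit false
universe u
open LocCoh

namespace Groth.Agent.S5163

/-- For modules over a Noetherian ring. Let P be a finite A-module and H any A-module with Supp H ⊆ Supp
P. If Hom_A(P, H) = 0 then H = 0. (The published lemma is stated over an arbitrary prescheme; its
proof uses that a nonzero module has an associated prime, so the ring is taken Noetherian here.) -/
theorem result (A : Type u) [CommRing A] [IsNoetherianRing A] (P H : Type u) [AddCommGroup P] [Module A P] [Module.Finite A P] [AddCommGroup H] [Module A H] (hsupp : Module.support A H ⊆ Module.support A P) (hhom : Subsingleton (P →ₗ[A] H)) : Subsingleton H := by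
  classical
  by_contra hH
  rw [not_subsingleton_iff_nontrivial] at hH
  obtain ⟨p, hp⟩ := associatedPrimes.nonempty A H
  have hpp : p.IsPrime := hp.isPrime
  obtain ⟨-, y, hy⟩ := (isAssociatedPrime_iff_exists_injective_linearMap p H).1 hp
  have hsP : (⟨p, hpp⟩ : PrimeSpectrum A) ∈ Module.support A P := by
    refine hsupp (Module.mem_support_iff'.2 ⟨y (Ideal.Quotient.mk p 1), fun r hr h0 => hr ?_⟩)
    rw [← map_smul, ← map_zero y] at h0
    have h1 := hy h0
    rw [Algebra.smul_def, Ideal.Quotient.algebraMap_eq, ← map_mul, mul_one] at h1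
    exact Ideal.Quotient.eq_zero_iff_mem.1 h1
  have := (Module.mem_support_iff_nontrivial_residueField_tensorProduct (⟨p, hpp⟩ : PrimeSpectrum A)).1 hsP
  set K := p.ResidueField
  obtain ⟨z, hz⟩ := exists_ne (0 : K ⊗[A] P)
  obtain ⟨φ, hφ⟩ : ∃ φ : Module.Dual K (K ⊗[A] P), φ z ≠ 0 := by
    by_contra hcon
    push Not at hcon
    exact hz ((Module.forall_dual_apply_eq_zero_iff K z).1 hcon)
  let g : P →ₗ[A] K := (φ.restrictScalars A).comp (TensorProduct.mk A K P 1)
  have hg : ∃ x, g x ≠ 0 := by
    by_contra hcon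
    push Not at hcon
    apply hφ
    clear hφ hz
    induction z with
    | zero => simp
    | add a b ha hb => simp [ha, hb]
    | tmul k x =>
      have : k ⊗ₜ[A] x = k • ((1 : K) ⊗ₜ[A] x) := by
        rw [TensorProduct.smul_tmul', smul_eq_mul, mul_one]
      rw [this, map_smul, show φ ((1 : K) ⊗ₜ[A] x) = g x from rfl, hcon x, smul_zero]
  obtain ⟨s, hs⟩ := (Module.Finite.fg_top : (⊤ : Submodule A P).FG)
  obtain ⟨b, hb⟩ := IsLocalization.exist_integer_multiples (nonZeroDivisors (A ⧸ p)) s g
  let ι : (A ⧸ p) →ₗ[A] K := (IsScalarTower.toAlgHom A (A ⧸ p) K).toLinearMap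
  have hι : Function.Injective ι := IsFractionRing.injective (A ⧸ p) K
  let bg : P →ₗ[A] K := (LinearMap.mulLeft A (algebraMap (A ⧸ p) K b)).comp g
  have hrange : ∀ x, bg x ∈ LinearMap.range ι := by
    suffices ⊤ ≤ (LinearMap.range ι).comap bg from fun x => this trivial
    rw [← hs, Submodule.span_le]
    intro x hx
    obtain ⟨q, hq⟩ := hb x hx
    exact ⟨q, by rw [show ι q = algebraMap (A ⧸ p) K q from rfl, hq, Algebra.smul_def]; rfl⟩
  let h : P →ₗ[A] (A ⧸ p) :=
    (LinearEquiv.ofInjective ι hι).symm.toLinearMap.comp (bg.codRestrict _ hrange)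
  obtain ⟨x, hx⟩ := hg
  have hbg : bg x = 0 := by
    have h1 : y.comp h = 0 := Subsingleton.elim _ _
    have h2 : h x = 0 := hy (by rw [map_zero]; exact LinearMap.congr_fun h1 x)
    have h3 := congrArg (fun v => (LinearEquiv.ofInjective ι hι v : K)) h2
    simpa [h] using h3
  rcases mul_eq_zero.1 hbg with h0 | h0
  · exact nonZeroDivisors.ne_zero b.2 (hι (h0.trans (map_zero ι).symm))
  · exact hx h0

end Groth.Agent.S5163
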