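import Groth.Statements.S7038
-- import your own Groth.Agent.* helpers here

set_option autoImplicit false
universe u
open LocCoh

namespace Groth.Agent.S7038

/-- For an ideal I of a commutative ring R and an R-module M, if every element of M is killed by a power
of I then the support of M is contained in the closed set V(I); conversely, when I is finitely
generated and the support of M is contained in V(I), every element of M is killed by a power of I.
(Finite generation is used only for the converse.) -/
theorem result {R : Type u} [CommRing R] (I : Ideal R)
    (M : Type u) [AddCommGroup M] [Module R M] :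
    (LocCoh.IsPowerTorsion I M → Module.support R M ⊆ PrimeSpectrum.zeroLocus (I : Set R)) ∧
    (I.FG → Module.support R M ⊆ PrimeSpectrum.zeroLocus (I : Set R) → LocCoh.IsPowerTorsion I M) := by
  refine ⟨fun h p hp => ?_, fun hI h m => ?_⟩
  · obtain ⟨m, hm⟩ := Module.mem_support_iff'.1 hp
    obtain ⟨n, hn⟩ := h m
    intro a ha
    by_contra hap
    exact hm (a ^ n) (fun h' => hap (p.2.mem_of_pow_mem n h')) (hn _ (Ideal.pow_mem_pow ha n))
  · have hle : I ≤ ((R ∙ m).annihilator).radical := by
      rw [Ideal.radical_eq_sInf, le_sInf_iff]
      rintro J ⟨hJ, hJp⟩ a ha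
      refine h (show (⟨J, hJp⟩ : PrimeSpectrum R) ∈ Module.support R M from
        Module.mem_support_iff'.2 ⟨m, fun r hr hrm => hr (hJ ?_)⟩) ha
      rw [Submodule.mem_annihilator_span_singleton]
      exact hrm
    obtain ⟨n, hn⟩ := Ideal.exists_pow_le_of_le_radical_of_fg hle hI
    exact ⟨n, fun a ha => Submodule.mem_annihilator_span_singleton m a |>.1 (hn ha)⟩

end Groth.Agent.S7038
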