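import Groth.Statements.S14545
import Groth.Agent.RedQuot.Basic
import Groth.Agent.H23.AMonExt
import Groth.Agent.GrpSchLib.Cartier
import Groth.Agent.GrpSchLib.ImageFlat
import Groth.Agent.EtFound.Descent
-- import your own Groth.Agent.* helpers here

set_option autoImplicit false
set_option linter.style.haveILetI false
set_option backward.isDefEq.respectTransparency.types false
set_option maxHeartbeats 1000000
universe u
open CategoryTheory MonoidalCategory CartesianMonoidalCategory MonObj GrpObj AlgebraicGeometry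
open PrincBund

open CategoryTheory.Limits

namespace Groth.Agent.S14545

/-- Let k be a field of characteristic 0 and G an affine group scheme of finite type over k; let G' be a
closed subgroup of G and G₀ a closed normal subgroup of G with quotient q₁ : G → G₁ (so G₁ = G/G₀),
let G₀' = G₀ ∩ G' and let G₁' be the image of G' in G₁, a closed subgroup of G₁ through which G' →
G₁ factors by a surjective morphism. Suppose that the quotients G₀/G₀' and G₁/G₁' (fppf quotient
sheaves represented by schemes) are affine. Then every scheme Q representing the quotient G/G' is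
affine. -/
theorem result (k : Type u) [Field k] [CharZero k]
    (G : Over (Spec (CommRingCat.of k))) [GrpObj G] [IsAffine G.left] [LocallyOfFiniteType G.hom]
    (G' : Over (Spec (CommRingCat.of k))) [GrpObj G'] (i' : G' ⟶ G) [IsMonHom i'] (hi' : IsClosedImmersion i'.left)
    (G₀ : Over (Spec (CommRingCat.of k))) [GrpObj G₀] (i₀ : G₀ ⟶ G) [IsMonHom i₀] (hi₀ : IsClosedImmersion i₀.left)
    (hn : AlgGrp.IsNormalHom i₀)
    (G₁ : Over (Spec (CommRingCat.of k))) [GrpObj G₁] (q₁ : G ⟶ G₁) [IsMonHom q₁] (hq₁ : RedSub.IsQuotient i₀ q₁)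
    (G₀' : Over (Spec (CommRingCat.of k))) [GrpObj G₀'] (j : G₀' ⟶ G₀) [IsMonHom j] (j' : G₀' ⟶ G')
    (hj : IsPullback j j' i₀ i')
    (G₁' : Over (Spec (CommRingCat.of k))) [GrpObj G₁'] (i₁' : G₁' ⟶ G₁) [IsMonHom i₁'] (hi₁' : IsClosedImmersion i₁'.left)
    (p : G' ⟶ G₁') (hp : p ≫ i₁' = i' ≫ q₁) (hps : Surjective p.left)
    (Qa : Over (Spec (CommRingCat.of k))) (qa : G₀ ⟶ Qa) (hqa : RedSub.IsQuotient j qa) (ha : IsAffine Qa.left)
    (Qb : Over (Spec (CommRingCat.of k))) (qb : G₁ ⟶ Qb) (hqb : RedSub.IsQuotient i₁' qb) (hb : IsAffine Qb.left)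
    (Q : Over (Spec (CommRingCat.of k))) (q : G ⟶ Q) (hq : RedSub.IsQuotient i' q) :
    IsAffine Q.left := by
  haveI := hi'; haveI := hi₀; haveI := hi₁'; haveI := ha; haveI := hb
  haveI : Mono i₀ := H23.AMonExt.mono_of_isClosedImmersion i₀
  haveI : Mono i' := H23.AMonExt.mono_of_isClosedImmersion i'
  obtain ⟨hqs, hqf, hqp, -⟩ := id hq
  obtain ⟨hq₁s, hq₁f, hq₁p, -⟩ := id hq₁
  obtain ⟨hqbs, hqbf, hqbp, -⟩ := id hqb
  obtain ⟨hqas, hqaf, hqap, -⟩ := id hqa
  haveI := hqs; haveI := hqf; haveI := hqp; haveI := hqas; haveI := hqaf; haveI := hqap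
  haveI := hq₁s; haveI := hq₁f; haveI := hq₁p; haveI := hqbs; haveI := hqbf; haveI := hps
  haveI : LocallyOfFinitePresentation G.hom := inferInstance
  haveI : LocallyOfFiniteType G₁.hom := by
    haveI : LocallyOfFinitePresentation (q₁.left ≫ G₁.hom) := by rw [Over.w q₁]; infer_instance
    haveI := SrcDescent.locallyOfFinitePresentation_of_fppf_comp q₁.left G₁.hom
    infer_instance
  haveI : LocallyOfFiniteType Q.hom := by
    haveI : LocallyOfFinitePresentation (q.left ≫ Q.hom) := by rw [Over.w q]; infer_instance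
    haveI := SrcDescent.locallyOfFinitePresentation_of_fppf_comp q.left Q.hom
    infer_instance
  haveI : QuasiCompact G.hom := inferInstance
  haveI : QuasiCompact G₁.hom := by
    haveI : CompactSpace G₁.left := q₁.left.surjective.compactSpace q₁.left.continuous
    exact (quasiCompact_iff_compactSpace _).2 inferInstance
  -- the map `p` is a covering
  haveI hG'l : LocallyOfFiniteType G'.hom := by rw [← Over.w i']; infer_instance
  haveI hG'q : QuasiCompact G'.hom := by rw [← Over.w i']; infer_instance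
  haveI : LocallyOfFiniteType G₁'.hom := by rw [← Over.w i₁']; infer_instance
  haveI : QuasiCompact G₁'.hom := by rw [← Over.w i₁']; infer_instance
  haveI : Mono i₁' := H23.AMonExt.mono_of_isClosedImmersion i₁'
  haveI : IsMonHom p := by
    constructor <;> simp [← cancel_mono i₁', hp]
  haveI : IsReduced G₁'.left := by
    haveI := GrpSchLib.smooth_of_charZero G₁'
    exact GrpSchLib.isReduced_of_smooth_field G₁'.hom
  haveI : IsSchemeTheoreticallyDominant p.left := IsSchemeTheoreticallyDominant.of_isDominant p.left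
  obtain ⟨hpf, -⟩ := GrpSchLib.ImageFlat.flat_surjective_of_dominant p
  haveI := hpf
  haveI : IsSeparated G₁'.hom := GrpSchLib.AntiAffine.isSeparated_grp G₁'
  haveI : QuasiCompact p.left := by
    haveI : QuasiCompact (p.left ≫ G₁'.hom) := by rw [Over.w p]; infer_instance
    exact QuasiCompact.of_comp p.left G₁'.hom
  haveI : IsLocallyNoetherian G.left := LocallyOfFiniteType.isLocallyNoetherian G.hom
  haveI : AlgebraicGeometry.IsNoetherian G.left := ⟨⟩
  haveI : IsLocallyNoetherian Q.left := LocallyOfFiniteType.isLocallyNoetherian Q.hom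
  haveI : QuasiCompact q.left := inferInstance
  -- the projection to `Qb`
  have hker : ∀ {T : Over (Spec (CommRingCat.of k))} (n : T ⟶ G₀), n ≫ i₀ ≫ q₁ = 1 := fun n => by
    have := RedQuot.mul_comp hq₁ 1 n
    rwa [MonObj.one_comp, _root_.one_mul, Category.assoc] at this
  obtain ⟨f, hf, -⟩ := RedQuot.desc hq (q₁ ≫ qb) fun T a h => by
    rw [← Category.assoc, MonObj.mul_comp, Category.assoc h, ← hp, ← Category.assoc h, RedQuot.mul_comp hqb,
      Category.assoc]
  -- the comparison
  let W : Over (Spec (CommRingCat.of k)) := pullback f (q₁ ≫ qb)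
  let σ : G ⊗ G₀ ⟶ G := fst G G₀ * (snd G G₀ ≫ i₀)
  have hσ : σ ≫ q₁ = fst G G₀ ≫ q₁ := by
    rw [MonObj.mul_comp, Category.assoc, hker, _root_.mul_one]
  let Φ : G ⊗ G₀ ⟶ W := pullback.lift (σ ≫ q) (fst G G₀) (by
    rw [Category.assoc, hf, ← Category.assoc, hσ, Category.assoc])
  have hcov : FpqcDescLib.Covers (G ◁ qa).left := by
    refine (RedQuot.covers hqa).over_pullback (snd G Qa) _ (snd G G₀) ?_
    refine ⟨⟨by simp⟩, ⟨PullbackCone.IsLimit.mk _ (fun c => lift (c.fst ≫ fst G Qa) c.snd) (fun c => ?_)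
      (fun c => lift_snd _ _) (fun c m h₁ h₂ => ?_)⟩⟩
    · refine CartesianMonoidalCategory.hom_ext _ _ ?_ ?_
      · rw [Category.assoc, whiskerLeft_fst, lift_fst]
      · rw [Category.assoc, whiskerLeft_snd, lift_snd_assoc]; exact c.condition.symm
    · refine CartesianMonoidalCategory.hom_ext _ _ ?_ (h₂.trans (lift_snd _ _).symm)
      rw [lift_fst, ← h₁, Category.assoc, whiskerLeft_fst]
  have hinv : ∀ (T : Over (Spec (CommRingCat.of k))) (a b : T ⟶ G ⊗ G₀), a ≫ (G ◁ qa) = b ≫ (G ◁ qa) →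
      a ≫ Φ = b ≫ Φ := fun T a b hab => by
    have h1 : a ≫ fst G G₀ = b ≫ fst G G₀ := by
      have := congrArg (· ≫ fst G Qa) hab; simpa using this
    have h2 : (a ≫ snd G G₀) ≫ qa = (b ≫ snd G G₀) ≫ qa := by
      have := congrArg (· ≫ snd G Qa) hab; simpa using this
    obtain ⟨x, hx⟩ := RedQuot.exists_mul_eq hqa h2
    refine pullback.hom_ext ?_ ?_
    · simp only [Φ, Category.assoc, pullback.lift_fst]
      rw [← Category.assoc a σ, ← Category.assoc b σ]
      simp only [σ, MonObj.comp_mul, ← Category.assoc _ (snd G G₀) i₀, ← hx, MonObj.mul_comp, h1]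
      rw [← _root_.mul_assoc, show (x ≫ j) ≫ i₀ = (x ≫ j') ≫ i' by rw [Category.assoc, hj.w, ← Category.assoc],
        RedQuot.mul_comp hq]
    · simp only [Φ, Category.assoc, pullback.lift_snd, h1]
  obtain ⟨ψ, hψ, -⟩ := hcov.over_desc Φ hinv
  have hψsnd : ψ ≫ pullback.snd f (q₁ ≫ qb) = fst G Qa := by
    haveI := hcov.over_epi
    rw [← cancel_epi (G ◁ qa), reassoc_of% hψ, whiskerLeft_fst]
    exact pullback.lift_snd _ _ _
  -- it is a monomorphism
  haveI : Mono ψ := ⟨fun {T} u w huw => by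
    obtain ⟨T₁, c₁, x, hc₁, hx⟩ := RedQuot.exists_lift hqa (u ≫ snd G Qa)
    obtain ⟨T₂, c₂, x', hc₂, hx'⟩ := RedQuot.exists_lift hqa (c₁ ≫ w ≫ snd G Qa)
    haveI := hc₁.over_epi; haveI := hc₂.over_epi
    rw [← cancel_epi c₁, ← cancel_epi c₂]
    have hu : lift ((c₂ ≫ c₁ ≫ u) ≫ fst G Qa) (c₂ ≫ x) ≫ (G ◁ qa) = c₂ ≫ c₁ ≫ u := by
      rw [lift_whiskerLeft]
      refine CartesianMonoidalCategory.hom_ext _ _ (lift_fst _ _) ?_
      rw [lift_snd, Category.assoc, hx]; simp
    have hw : lift ((c₂ ≫ c₁ ≫ w) ≫ fst G Qa) x' ≫ (G ◁ qa) = c₂ ≫ c₁ ≫ w := by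
      rw [lift_whiskerLeft]
      refine CartesianMonoidalCategory.hom_ext _ _ (lift_fst _ _) ?_
      rw [lift_snd, hx']; simp
    set a := lift ((c₂ ≫ c₁ ≫ u) ≫ fst G Qa) (c₂ ≫ x) with ha'
    set b := lift ((c₂ ≫ c₁ ≫ w) ≫ fst G Qa) x' with hb'
    have hab : a ≫ Φ = b ≫ Φ := by
      rw [← hψ, ← Category.assoc, ← Category.assoc b, hu, hw]
      simp only [Category.assoc, huw]
    have hg : a ≫ fst G G₀ = b ≫ fst G G₀ := by
      have := congrArg (· ≫ pullback.snd f (q₁ ≫ qb)) hab
      simpa only [Φ, Category.assoc, pullback.lift_snd] using this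
    have hs : (a ≫ σ) ≫ q = (b ≫ σ) ≫ q := by
      have := congrArg (· ≫ pullback.fst f (q₁ ≫ qb)) hab
      simpa only [Φ, Category.assoc, pullback.lift_fst] using this
    obtain ⟨h, hh⟩ := RedQuot.exists_mul_eq hq hs
    simp only [σ, MonObj.comp_mul, ← Category.assoc _ (snd G G₀) i₀, hg, _root_.mul_assoc] at hh
    have hh' : h ≫ i' = ((a ≫ snd G G₀)⁻¹ * (b ≫ snd G G₀)) ≫ i₀ := by
      rw [MonObj.mul_comp, GrpObj.inv_comp, eq_inv_mul_iff_mul_eq]
      exact mul_left_cancel hh
    have hqq : (a ≫ snd G G₀) ≫ qa = (b ≫ snd G G₀) ≫ qa := by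
      have := RedQuot.mul_comp hqa (a ≫ snd G G₀) (hj.lift _ _ hh'.symm)
      rw [hj.lift_fst, mul_inv_cancel_left] at this
      exact this.symm
    rw [← hu, ← hw]
    refine CartesianMonoidalCategory.hom_ext _ _ ?_ ?_
    · simp only [Category.assoc, whiskerLeft_fst]; exact hg
    · simp only [Category.assoc, whiskerLeft_snd]
      rw [← Category.assoc, ← Category.assoc, hqq]⟩
  -- it has a section after a covering
  let W₁ : Over (Spec (CommRingCat.of k)) := pullback (pullback.fst f (q₁ ≫ qb)) q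
  let c₁ : W₁ ⟶ W := pullback.fst _ _
  let g' : W₁ ⟶ G := pullback.snd _ _
  let g : W₁ ⟶ G := c₁ ≫ pullback.snd f (q₁ ≫ qb)
  have hgg : (g ≫ q₁) ≫ qb = (g' ≫ q₁) ≫ qb := by
    have e : c₁ ≫ pullback.fst f (q₁ ≫ qb) = g' ≫ q := pullback.condition
    have e' := congrArg (c₁ ≫ ·) (pullback.condition (f := f) (g := q₁ ≫ qb))
    simp only [g, Category.assoc] at e' ⊢
    rw [← e', ← Category.assoc c₁, e, Category.assoc, hf]
  obtain ⟨x, hx⟩ := RedQuot.exists_mul_eq hqb hgg
  let W₂ : Over (Spec (CommRingCat.of k)) := pullback x p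
  let c₂ : W₂ ⟶ W₁ := pullback.fst _ _
  let h : W₂ ⟶ G' := pullback.snd _ _
  have hcx : c₂ ≫ x = h ≫ p := pullback.condition
  let t : W₂ ⟶ G := (c₂ ≫ g)⁻¹ * (c₂ ≫ g') * (h ≫ i')⁻¹
  have ht : t ≫ q₁ = 1 := by
    have e : h ≫ i' ≫ q₁ = c₂ ≫ x ≫ i₁' := by rw [← hp, ← Category.assoc c₂, hcx, Category.assoc]
    simp only [t, MonObj.mul_comp, GrpObj.inv_comp, Category.assoc]
    rw [e, ← hx, MonObj.comp_mul, inv_mul_cancel_left, mul_inv_cancel]
  obtain ⟨y, hy⟩ := RedQuot.exists_mul_eq hq₁ (a := 1) (b := t) (by rw [MonObj.one_comp, ht])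
  rw [_root_.one_mul] at hy
  let a : W₂ ⟶ G ⊗ Qa := lift (c₂ ≫ g) y ≫ (G ◁ qa)
  have haψ : a ≫ ψ = c₂ ≫ c₁ := by
    simp only [a, Category.assoc, hψ]
    refine pullback.hom_ext ?_ ?_
    · simp only [Φ, Category.assoc, pullback.lift_fst]
      rw [← Category.assoc (lift (c₂ ≫ g) y) σ]
      simp only [σ, MonObj.comp_mul, lift_fst, lift_snd_assoc, hy, t]
      rw [← _root_.mul_assoc, mul_inv_cancel_left, ← GrpObj.inv_comp, RedQuot.mul_comp hq, Category.assoc,
        show g' ≫ q = c₁ ≫ pullback.fst f (q₁ ≫ qb) from pullback.condition.symm]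
    · simp only [Φ, Category.assoc, pullback.lift_snd, lift_fst]; rfl
  haveI : Surjective c₁.left := MorphismProperty.of_isPullback
    ((IsPullback.of_hasPullback (pullback.fst f (q₁ ≫ qb)) q).map (Over.forget _)).flip hqs
  haveI : Flat c₁.left := MorphismProperty.of_isPullback
    ((IsPullback.of_hasPullback (pullback.fst f (q₁ ≫ qb)) q).map (Over.forget _)).flip hqf
  haveI : QuasiCompact c₁.left := MorphismProperty.of_isPullback
    ((IsPullback.of_hasPullback (pullback.fst f (q₁ ≫ qb)) q).map (Over.forget _)).flip ‹QuasiCompact q.left›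
  haveI : Surjective c₂.left := MorphismProperty.of_isPullback
    ((IsPullback.of_hasPullback x p).map (Over.forget _)).flip hps
  haveI : Flat c₂.left := MorphismProperty.of_isPullback
    ((IsPullback.of_hasPullback x p).map (Over.forget _)).flip hpf
  haveI : QuasiCompact c₂.left := MorphismProperty.of_isPullback
    ((IsPullback.of_hasPullback x p).map (Over.forget _)).flip ‹QuasiCompact p.left›
  have hψc : FpqcDescLib.Covers ψ.left := ⟨W₂.left, a.left, by
    rw [← Over.comp_left, haψ, Over.comp_left]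
    exact FpqcDescLib.isCovering_of_quasiCompact _⟩
  haveI : IsIso ψ := by
    obtain ⟨r, hr, -⟩ := hψc.over_desc (𝟙 _) fun T u w huw => by rw [(cancel_mono ψ).1 huw]
    haveI := hψc.over_epi
    exact ⟨r, hr, by rw [← cancel_epi ψ, ← Category.assoc, hr, Category.id_comp, Category.comp_id]⟩
  haveI : IsAffineHom Qa.hom := inferInstance
  haveI : IsIso ψ.left := inferInstanceAs (IsIso ((Over.forget _).map ψ))
  haveI : IsAffineHom (fst G Qa).left := inferInstanceAs (IsAffineHom (Limits.pullback.fst G.hom Qa.hom))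
  have hsnd : IsAffineHom (pullback.snd f (q₁ ≫ qb)).left := by
    rw [← MorphismProperty.cancel_left_of_respectsIso @IsAffineHom ψ.left, ← Over.comp_left, hψsnd]
    infer_instance
  haveI : QuasiCompact (q₁.left ≫ qb.left) := by
    haveI : QuasiCompact ((q₁.left ≫ qb.left) ≫ Qb.hom) := by rw [Category.assoc, Over.w qb, Over.w q₁]; infer_instance
    exact QuasiCompact.of_comp _ Qb.hom
  haveI : IsAffineHom f.left := by
    haveI := EtFound.fpqc_isAffineHom.{u}
    exact MorphismProperty.of_isPullback_of_descendsAlong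
      (Q := (@Surjective ⊓ @Flat ⊓ @QuasiCompact : MorphismProperty Scheme.{u}))
      ((IsPullback.of_hasPullback f (q₁ ≫ qb)).map (Over.forget _)).flip
      ⟨⟨inferInstanceAs (Surjective (q₁.left ≫ qb.left)), inferInstanceAs (Flat (q₁.left ≫ qb.left))⟩,
        inferInstanceAs (QuasiCompact (q₁.left ≫ qb.left))⟩ hsnd
  exact isAffine_of_isAffineHom f.left

end Groth.Agent.S14545
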