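import Groth.Statements.S4440
import Groth.Agent.CodimExt16.Basic
-- import your own Groth.Agent.* helpers here

set_option autoImplicit false
universe u
open CategoryTheory CategoryTheory.Limits AlgebraicGeometry
open EGA2

namespace Groth.Agent.S4440
open Groth.Agent

/-- Let S be a locally Noetherian scheme, X proper over S, and Y a reduced S-scheme whose non-regular
locus has codimension at least two (the local ring at every point with local ring of dimension at
most one is regular). Then the locus where an S-rational map from Y to X is not defined has
codimension at least two: an S-morphism given on a dense open V of Y extends to an S-morphism on an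
open containing V and every point whose local ring has dimension at most one. (The published
statement does not ask Y to be locally Noetherian; this row does, which is the setting in which
regularity of local rings is defined.) -/
theorem result {S X Y : Scheme.{u}} [IsLocallyNoetherian S]
    (p : X ⟶ S) [IsProper p] (q : Y ⟶ S) [IsLocallyNoetherian Y] [IsReduced Y]
    (hreg : ∀ y : Y, ringKrullDim (Y.presheaf.stalk y) ≤ 1 → IsRegularLocalRing (Y.presheaf.stalk y))
    (V : Y.Opens) (hV : Dense (V : Set Y)) (g : (V : Scheme.{u}) ⟶ X) (hg : g ≫ p = V.ι ≫ q) :
    ∃ (U : Y.Opens) (hVU : V ≤ U) (g' : (U : Scheme.{u}) ⟶ X), g' ≫ p = U.ι ≫ q ∧ Y.homOfLE hVU ≫ g' = g ∧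
      ∀ y : Y, ringKrullDim (Y.presheaf.stalk y) ≤ 1 → y ∈ U := by
  obtain ⟨U, hVU, s', hs', hc, hU⟩ := CodimExt16.exists_extension hreg (pullback.snd p q)
    (pullback.snd p q).isClosedMap V hV (pullback.lift g V.ι hg) (pullback.lift_snd _ _ _)
  refine ⟨U, hVU, s' ≫ pullback.fst p q, ?_, ?_, hU⟩
  · rw [Category.assoc, pullback.condition, reassoc_of% hs']
  · rw [← Category.assoc, hc, pullback.lift_fst]

end Groth.Agent.S4440
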