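import Groth.Statements.S10197
import Groth.Agent.AlgSpDec.OpenGlue
import Groth.Agent.AlgSpPts.OpenSub
import Groth.Agent.AlgSpLib.LargestOpen
import Groth.Agent.AlgSpPts.Imm
import Groth.Agent.AlgSpLib.OpenMor
import Groth.Agent.AlgSpLib.EtLocalInst

set_option autoImplicit false
universe u
open CategoryTheory CategoryTheory.Limits AlgebraicGeometry Topology TopologicalSpace
open AlgSp
open Groth.Agent

namespace Groth.Agent.S10197

set_option backward.isDefEq.respectTransparency false
set_option backward.isDefEq.respectTransparency.types false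

/-- An algebraic space X over a scheme S has a largest open subspace which is a scheme: there is an open
subspace X' ⟶ X whose underlying sheaf is representable by a scheme over S, through which every open
subspace of X with representable underlying sheaf factors. -/
theorem result {S : Scheme.{u}} (X : AlgSp.Space S) :
    ∃ (X' : AlgSp.Space S) (j : X' ⟶ X), AlgSp.RepWith @IsOpenImmersion j.hom ∧ X'.obj.obj.IsRepresentable ∧
      ∀ (X'' : AlgSp.Space S) (j'' : X'' ⟶ X), AlgSp.RepWith @IsOpenImmersion j''.hom →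
        X''.obj.obj.IsRepresentable → ∃ k : X'' ⟶ X', k ≫ j = j'' := by
  classical
  let Good : AlgSp.Points X.obj → Prop := fun x => ∃ (T : Over S) (j : (AlgSp.yon S).obj T ⟶ X.obj),
    AlgSp.RepWith @IsOpenImmersion j ∧ x ∈ Set.range (AlgSp.Points.map j)
  have hGood : IsOpen {x | Good x} := isOpen_iff_forall_mem_open.2 fun x ⟨T, j, hj, hx⟩ =>
    ⟨Set.range (AlgSp.Points.map j), fun y hy => ⟨T, j, hj, hy⟩,
      (AlgSpLib.isOpenMap_map_of_fppf (AlgSp.IsAlgSpace.yon_obj T) X.property j
        (AlgSpLib.locP_of_repWith (AlgSpLib.repWith_mono (P := @IsOpenImmersion) (Q := @Flat)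
          (fun _ _ g (_ : IsOpenImmersion g) => inferInstanceAs (Flat g)) _ hj))
        (AlgSpLib.locP_of_repWith (AlgSpLib.repWith_mono (P := @IsOpenImmersion) (Q := @LocallyOfFinitePresentation)
          (fun _ _ g (_ : IsOpenImmersion g) => inferInstanceAs (LocallyOfFinitePresentation g)) _ hj))).isOpen_range, hx⟩
  obtain ⟨W, j, hW, hj, hrange⟩ := AlgSpPts.exists_open_subspace X.property hGood
  obtain ⟨U, a, -, ha'⟩ := X.property.atlas
  let ι := {u : U.left // Good (AlgSp.Points.ofPt a u)}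
  choose T t ht hmem using fun i : ι => i.2
  have hl : ∀ i, ∃ k : (AlgSp.yon S).obj (T i) ⟶ W, k ≫ j = t i := fun i =>
    AlgSpLib.exists_lift_openImmersion (AlgSp.IsAlgSpace.yon_obj _) hW X.property hj _ (by
      rw [hrange]; rintro _ ⟨z, rfl⟩; exact ⟨T i, t i, ht i, z, rfl⟩)
  choose k hk using hl
  have := AlgSpDec.mono_of_openImmersion hj
  have hkI : ∀ i, AlgSp.RepWith @IsOpenImmersion (k i) := fun i => by
    have sq : IsPullback (k i) (𝟙 _) j (t i) :=
      ⟨⟨by rw [hk i, Category.id_comp]⟩, ⟨PullbackCone.IsLimit.mk _ (fun c => c.snd)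
        (fun c => by rw [← cancel_mono j, Category.assoc, hk i]; exact c.condition.symm)
        (fun c => Category.comp_id _)
        (fun c m _ hm => (Category.comp_id m).symm.trans hm)⟩⟩
    exact AlgSpLib.repWith_of_isPullback sq.flip (ht i)
  obtain ⟨Q, ⟨e⟩, -⟩ := AlgSpDec.exists_iso_of_open_cover T k hkI fun x => by
    have hx : Good (AlgSp.Points.map j x) := hrange.subset ⟨x, rfl⟩
    obtain ⟨u, hu⟩ := AlgSpLib.surjective_ofPt ha' (AlgSp.Points.map j x)
    rw [← hu] at hx
    obtain ⟨z, hz⟩ := hmem ⟨u, hx⟩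
    have hz' : AlgSp.Points.map j (AlgSp.Points.map (k ⟨u, hx⟩) z) = AlgSp.Points.map j x := by
      rw [← AlgSp.Points.map_comp, hk, hz]; exact hu
    obtain ⟨v, rfl⟩ := (AlgSp.Points.schemeHomeo _).surjective z
    exact ⟨⟨u, hx⟩, v, (AlgSp.Points.ofPt_eq_map_ofScheme _ v).trans
      ((AlgSpPts.isEmbedding_map X.property (AlgSpLib.repWith_mono (P := @IsOpenImmersion) (Q := @IsImmersion)
        (fun _ _ g (_ : IsOpenImmersion g) => inferInstanceAs (IsImmersion g)) _ hj)).injective hz')⟩
  refine ⟨⟨W, hW⟩, ObjectProperty.homMk j, hj, AlgSpDec.isRepresentable_of_iso e, fun X'' j'' hj'' hr => ?_⟩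
  obtain ⟨T'', ⟨r⟩⟩ := hr.has_representation
  let e'' : (AlgSp.yon S).obj T'' ≅ X''.obj := (AlgSp.isoOfRepresentableBy r)
  obtain ⟨l, hl⟩ := AlgSpLib.exists_lift_openImmersion X''.property hW X.property hj j''.hom (by
    rw [hrange]; rintro _ ⟨z, rfl⟩
    refine ⟨T'', e''.hom ≫ j''.hom, AlgSpLib.repWith_comp (AlgSpLib.repWith_of_isIso _ e''.hom) hj'',
      AlgSp.Points.map e''.inv z, ?_⟩
    rw [← AlgSp.Points.map_comp, e''.inv_hom_id_assoc])
  exact ⟨ObjectProperty.homMk l, ObjectProperty.hom_ext _ hl⟩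

end Groth.Agent.S10197
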