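import Groth.Statements.S10200
import Groth.Agent.AlgSpDec.QsDense

set_option autoImplicit false
universe u
open CategoryTheory CategoryTheory.Limits AlgebraicGeometry Topology TopologicalSpace
open AlgSp

namespace Groth.Agent.S10200

/-- Let X be an algebraic space over a scheme S that is Zariski locally quasi-separated over S (for
example quasi-separated over S). Then there is a dense open subspace of X which is a scheme; more
precisely there is an open subspace X' ⟶ X with representable underlying sheaf such that |X'| is
dense in |X| and contains every codimension 0 point of X (every point under which some etale chart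
has a zero-dimensional local ring). -/
theorem result {S : Scheme.{u}} (X : AlgSp.Space S)
    (hX : ∃ (ι : Type u) (Xi : ι → AlgSp.Space S) (j : ∀ i, Xi i ⟶ X),
        AlgSp.IsZarCover (fun i => (Xi i).obj) (fun i => (j i).hom) ∧ ∀ i, AlgSp.IsQuasiSeparatedSp (Xi i).obj) :
    ∃ (X' : AlgSp.Space S) (j : X' ⟶ X), AlgSp.RepWith @IsOpenImmersion j.hom ∧ X'.obj.obj.IsRepresentable ∧
      Dense (Set.range (AlgSp.Points.map j.hom)) ∧
      ∀ x : AlgSp.Points X.obj, AlgSp.HasAt (fun U u => ringKrullDim ↥(U.presheaf.stalk u) = 0) X.obj x →
        x ∈ Set.range (AlgSp.Points.map j.hom) := by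
  exact Groth.Agent.AlgSpDec.exists_dense_open_subscheme_of_zarQs X hX

end Groth.Agent.S10200
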