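import Groth.Statements.S9798
import Groth.Agent.SchTop.Closed
set_option autoImplicit false
universe u
open CategoryTheory AlgebraicGeometry TopologicalSpace
open Props

namespace Groth.Agent.S9798

/-- A point of a locally Noetherian scheme has local dimension zero exactly when it is isolated. -/
theorem result (X : Scheme.{u}) [IsLocallyNoetherian X] (x : X) :
    FlatMor.localDim X x = 0 ↔ IsOpen ({x} : Set X) := by
  refine ⟨fun h => ?_, fun h => le_antisymm (iInf_le_of_le ⟨⟨{x}, h⟩, rfl⟩ ?_) (le_iInf fun U => ?_)⟩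
  · have : Nonempty {U : TopologicalSpace.Opens X // x ∈ U} := ⟨⟨⊤, trivial⟩⟩
    obtain ⟨U, hU⟩ := ciInf_mem fun U : {U : TopologicalSpace.Opens X // x ∈ U} =>
      topologicalKrullDim (U.1 : Set X)
    obtain ⟨_, ⟨W, hW, rfl⟩, hxW, hWU⟩ :=
      X.isBasis_affineOpens.exists_subset_of_mem_open U.2 U.1.isOpen
    have : IsNoetherianRing Γ(X, W) := IsLocallyNoetherian.component_noetherian ⟨W, hW⟩
    have : TopologicalSpace.NoetherianSpace (W : Set X) := noetherianSpace_of_isAffineOpen W hW
    have : QuasiSober (W : Set X) := (IsOpen.isOpenEmbedding_subtypeVal W.isOpen).quasiSober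
    have hd : topologicalKrullDim (W : Set X) ≤ 0 :=
      (Topology.IsInducing.topologicalKrullDim_le
        (Topology.IsEmbedding.inclusion (s := (W : Set X)) (t := (U.1 : Set X)) hWU).isInducing).trans (hU.trans_le h.le)
    have := (IsOpen.isOpenEmbedding_subtypeVal W.isOpen).isOpenMap _
      (Groth.Agent.SchTop.isOpen_singleton_of_dim_le_zero hd (⟨x, hxW⟩ : (W : Set X)))
    rwa [Set.image_singleton] at this
  · exact topologicalKrullDim_zero_of_discreteTopology ({x} : Set X)
  · exact Order.krullDim_nonneg_iff.2 ⟨⟨closure {(⟨x, U.2⟩ : (U.1 : Set X))},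
      isIrreducible_singleton.closure, isClosed_closure⟩⟩

end Groth.Agent.S9798
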