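import Groth.Statements.S10249
import Groth.Agent.AlgSpPts.Dim
import Groth.Agent.AlgSpDec.LqfPiece
import Groth.Agent.AlgSpLib.LocalSourceInst

set_option autoImplicit false
universe u
open CategoryTheory CategoryTheory.Limits AlgebraicGeometry
open AlgSp

namespace Groth.Agent.S10249

open AlgSp Groth.Agent.AlgSpLib Groth.Agent.AlgSpPts
open Order (coheight)

noncomputable local instance instSpecOrder (X : Scheme.{u}) : PartialOrder ↥X := specializationOrder _

theorem dim_le {X Y : Scheme.{u}} (g : X ⟶ Y) [Etale g] :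
    topologicalKrullDim ↥X ≤ topologicalKrullDim ↥Y := by
  rw [topologicalKrullDim_eq_krullDim, topologicalKrullDim_eq_krullDim,
    Order.krullDim_eq_iSup_coheight, Order.krullDim_eq_iSup_coheight]
  exact iSup_le fun x => (le_of_eq (by rw [coheight_eq_of_etale g x])).trans (le_iSup (fun y : ↥Y => ((coheight y : ℕ∞) : WithBot ℕ∞)) (g x))

theorem dim_eq {X Y : Scheme.{u}} (g : X ⟶ Y) [Etale g] [Surjective g] :
    topologicalKrullDim ↥X = topologicalKrullDim ↥Y := by
  refine le_antisymm (dim_le g) ?_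
  rw [topologicalKrullDim_eq_krullDim, topologicalKrullDim_eq_krullDim,
    Order.krullDim_eq_iSup_coheight, Order.krullDim_eq_iSup_coheight]
  refine iSup_le fun y => ?_
  obtain ⟨x, rfl⟩ := g.surjective y
  exact (le_of_eq (by rw [coheight_eq_of_etale g x])).trans (le_iSup (fun x' : ↥X => ((coheight x' : ℕ∞) : WithBot ℕ∞)) x)

theorem localDim_eq {X Y : Scheme.{u}} (g : X ⟶ Y) [Etale g] (x : ↥X) :
    FlatMor.localDim ↥X x = FlatMor.localDim ↥Y (g x) := by
  refine le_antisymm (le_iInf fun W => ?_) (le_iInf fun O => ?_)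
  · exact iInf_le_of_le ⟨g ⁻¹ᵁ W.1, W.2⟩ (dim_le (g ∣_ W.1))
  · let W : Y.Opens := ⟨g '' (O.1 : Set ↥X), g.isOpenMap _ O.1.isOpen⟩
    have hle : O.1 ≤ g ⁻¹ᵁ W := fun z hz => ⟨z, hz, rfl⟩
    have : Surjective (g.resLE W O.1 hle) := ⟨by
      rintro ⟨_, z, hz, rfl⟩
      refine ⟨⟨z, hz⟩, Subtype.ext ?_⟩
      exact ((Scheme.Hom.comp_apply (g.resLE W O.1 hle) W.ι (⟨z, hz⟩ : O.1)).symm.trans ((congrArg (fun k : Scheme.Opens.toScheme O.1 ⟶ Y => k (⟨z, hz⟩ : O.1)) (g.resLE_comp_ι hle)).trans (Scheme.Hom.comp_apply (Scheme.Opens.ι O.1) g (⟨z, hz⟩ : O.1))) :)⟩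
    exact iInf_le_of_le ⟨W, x, O.2, rfl⟩ (le_of_eq (dim_eq (g.resLE W O.1 hle)).symm)

variable {S : Scheme.{u}}

set_option backward.isDefEq.respectTransparency false
set_option backward.isDefEq.respectTransparency.types false

theorem localDim_eq_of_charts {F : Sp S} {U U' : Over S} {a : (yon S).obj U ⟶ F} {a' : (yon S).obj U' ⟶ F}
    (ha : RepWith @Etale a) (ha' : RepWith @Etale a') {u : ↥U.left} {u' : ↥U'.left}
    (h : Points.ofPt a u = Points.ofPt a' u') :
    FlatMor.localDim ↥U.left u = FlatMor.localDim ↥U'.left u' := by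
  obtain ⟨w, h1, h2⟩ := exists_ofPt_of_eq (ha.rep.isPullback' a') h
  have : Etale (ha.rep.snd a').left := ha.property_snd a'
  have : Etale (ha.rep.fst' a').left := ha'.property a _ _ (ha.rep.isPullback' a').flip
  rw [← h1, ← h2, ← localDim_eq, ← localDim_eq]

/-- Let X and Y be algebraic spaces over a scheme S, f : X ⟶ Y an etale morphism and x ∈ |X| with image
y ∈ |Y|. Then (1) X at x and Y at y have the same dimension: for every d, some etale chart h_U ⟶ X
from a scheme U and some point u of U over x have local dimension d (of the topological space U at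
u) if and only if the same holds for Y at y; and (2) the local rings of X at x and of Y at y have
the same Krull dimension, in the same some-chart sense with the Krull dimension of the local ring of
U at u. -/
theorem result {S : Scheme.{u}} {X Y : AlgSp.Space S} (f : X ⟶ Y)
    (hf : AlgSp.IsEtaleMor f.hom) (x : AlgSp.Points X.obj) :
    (∀ d : WithBot ℕ∞,
        AlgSp.HasAt (fun U u => FlatMor.localDim ↥U u = d) X.obj x ↔
          AlgSp.HasAt (fun U u => FlatMor.localDim ↥U u = d) Y.obj (AlgSp.Points.map f.hom x)) ∧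
    (∀ d : WithBot ℕ∞,
        AlgSp.HasAt (fun U u => ringKrullDim ↥(U.presheaf.stalk u) = d) X.obj x ↔
          AlgSp.HasAt (fun U u => ringKrullDim ↥(U.presheaf.stalk u) = d) Y.obj (AlgSp.Points.map f.hom x)) := by
  obtain ⟨U, V, a, b, h, u, ha, hb, hu, hv, he⟩ := exists_chart_at (P := @Etale) X.property Y.property (locP_etale_of_isEtaleMor hf) x
  have : Etale h.left := he
  refine ⟨fun d => ⟨?_, ?_⟩, fun d => ⟨?_, ?_⟩⟩
  · rintro ⟨U', a', u', ha', hu', hd⟩
    refine ⟨V, b, h.left u, hb, hv, ?_⟩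
    show FlatMor.localDim _ _ = d
    exact (by rw [← localDim_eq h.left, localDim_eq_of_charts ha ha' (hu.trans hu'.symm), hd])
  · rintro ⟨V', b', v', hb', hv', hd⟩
    refine ⟨U, a, u, ha, hu, ?_⟩
    show FlatMor.localDim _ _ = d
    exact (by rw [localDim_eq h.left, localDim_eq_of_charts hb hb' (hv.trans hv'.symm), hd])
  · rintro ⟨U', a', u', ha', hu', hd⟩
    refine ⟨V, b, h.left u, hb, hv, ?_⟩
    simp only [ringKrullDim_stalk_eq_coheight] at hd ⊢
    rw [← coheight_eq_of_etale, coheight_eq_of_charts ha ha' (hu.trans hu'.symm), hd]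
  · rintro ⟨V', b', v', hb', hv', hd⟩
    refine ⟨U, a, u, ha, hu, ?_⟩
    simp only [ringKrullDim_stalk_eq_coheight] at hd ⊢
    rw [coheight_eq_of_etale h.left, coheight_eq_of_charts hb hb' (hv.trans hv'.symm), hd]

end Groth.Agent.S10249
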