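import Groth.Statements.S14586
import Groth.Agent.GrpSchLib.Homogeneous
import Groth.Agent.GrpSchLib.Action
-- import your own Groth.Agent.* helpers here

set_option autoImplicit false
universe u
open CategoryTheory MonoidalCategory CartesianMonoidalCategory MonObj GrpObj AlgebraicGeometry CategoryTheory.Limits
open AlgGrp

namespace Groth.Agent.S14586

/-- Let k be an algebraically closed field, G a smooth k-group scheme of finite type and X a non-empty
separated k-scheme of finite type with an action of G. Then there is a rational point x of X whose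
orbit, the image of the orbit map g ↦ g · x, is closed in X. -/
theorem result (k : Type u) [Field k] [IsAlgClosed k]
    (G X : Over (Spec (CommRingCat.of k))) [GrpObj G] [Smooth G.hom] [QuasiCompact G.hom]
    [LocallyOfFiniteType X.hom] [QuasiCompact X.hom] [IsSeparated X.hom] [Nonempty ↥X.left]
    (a : AlgGrp.Action G X) :
    ∃ x : 𝟙_ (Over (Spec (CommRingCat.of k))) ⟶ X, IsClosed (Set.range ⇑(a.orbitMap x).left.base) := by
  classical
  have : Nonempty G.left := ⟨(η[G] : 𝟙_ _ ⟶ G).left (IsLocalRing.closedPoint k)⟩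
  have : IsLocallyNoetherian X.left := LocallyOfFiniteType.isLocallyNoetherian X.hom
  have : CompactSpace X.left := QuasiCompact.compactSpace_of_compactSpace X.hom
  have : IsNoetherian X.left := {}
  have : JacobsonSpace X.left := LocallyOfFiniteType.jacobsonSpace X.hom
  have : JacobsonSpace G.left := LocallyOfFiniteType.jacobsonSpace G.hom
  let pt : ∀ {Z : Over (Spec (CommRingCat.of k))} [LocallyOfFiniteType Z.hom] (z : Z.left), IsClosed {z} →
      (𝟙_ _ ⟶ Z) := fun {Z} _ z hz => Over.homMk _ ((pointEquivClosedPoint Z.hom).symm ⟨z, hz⟩).2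
  have hpt : ∀ {Z : Over (Spec (CommRingCat.of k))} [LocallyOfFiniteType Z.hom] (z : Z.left) (hz : IsClosed {z}),
      (pt z hz).left (IsLocalRing.closedPoint k) = z := fun {Z} _ z hz =>
    congrArg Subtype.val ((pointEquivClosedPoint Z.hom).apply_symm_apply ⟨z, hz⟩)
  let R : (𝟙_ _ ⟶ X) → Set X.left := fun x => Set.range (a.orbitMap x).left
  let 𝒮 : Set (TopologicalSpace.Closeds X.left) := Set.range fun x => ⟨closure (R x), isClosed_closure⟩
  obtain ⟨x₀, hx₀⟩ := nonempty_inter_closedPoints (Z := (Set.univ : Set X.left)) Set.univ_nonempty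
    isClosed_univ.isLocallyClosed
  obtain ⟨_, ⟨x, rfl⟩, hmin⟩ := (wellFounded_lt (α := TopologicalSpace.Closeds X.left)).has_min 𝒮
    ⟨_, pt x₀ hx₀.2, rfl⟩
  refine ⟨x, ?_⟩
  show IsClosed (R x)
  -- rational translations preserve the orbit
  have htrans : ∀ g : 𝟙_ _ ⟶ G, ∃ T : X ≅ X, (∀ y : 𝟙_ _ ⟶ X, lift g y ≫ a.act = y ≫ T.hom) ∧
      T.hom.left ⁻¹' R x = R x := by
    intro g
    let T : X ≅ X :=
      { hom := lift (toUnit X ≫ g) (𝟙 X) ≫ a.act
        inv := lift (toUnit X ≫ g)⁻¹ (𝟙 X) ≫ a.act
        hom_inv_id := by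
          rw [← Category.assoc, comp_lift, Category.comp_id, GrpObj.comp_inv, ← Category.assoc (lift _ _ ≫ _),
            comp_toUnit, GrpSchLib.act_mul, inv_mul_cancel, GrpSchLib.act_one]
        inv_hom_id := by
          rw [← Category.assoc, comp_lift, Category.comp_id, ← Category.assoc (lift _ _ ≫ _),
            comp_toUnit, GrpSchLib.act_mul, mul_inv_cancel, GrpSchLib.act_one] }
    let M : G ≅ G :=
      { hom := (toUnit G ≫ g) * 𝟙 G
        inv := (toUnit G ≫ g)⁻¹ * 𝟙 G
        hom_inv_id := by
          simp only [MonObj.comp_mul, GrpObj.comp_inv, ← Category.assoc, comp_toUnit, Category.comp_id]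
          group
        inv_hom_id := by
          simp only [MonObj.comp_mul, ← Category.assoc, comp_toUnit, Category.comp_id]
          group }
    have hcomm : M.hom ≫ a.orbitMap x = a.orbitMap x ≫ T.hom := by
      simp only [M, T, AlgGrp.Action.orbitMap, ← Category.assoc, comp_lift, Category.comp_id, comp_toUnit]
      rw [GrpSchLib.act_mul]
    have : IsIso T.hom.left := ((Over.forget _).mapIso T).isIso_hom
    have : IsIso M.hom.left := ((Over.forget _).mapIso M).isIso_hom
    refine ⟨T, fun y => ?_, ?_⟩
    · simp only [T, ← Category.assoc, comp_lift, Category.comp_id, comp_toUnit, toUnit_unit, Category.id_comp]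
    · have hz : ∀ z, T.hom.left ((a.orbitMap x).left z) = (a.orbitMap x).left (M.hom.left z) := fun z =>
        (congrArg (fun e : G ⟶ X => e.left z) hcomm).symm
      ext p
      constructor
      · rintro ⟨z, hz'⟩
        obtain ⟨z', rfl⟩ := M.hom.left.surjective z
        exact ⟨z', T.hom.left.injective ((hz z').trans hz')⟩
      · rintro ⟨z, rfl⟩
        exact ⟨_, (hz z).symm⟩
  have hlc : IsLocallyClosed (R x) := by
    have : QuasiSeparated X.hom := inferInstance
    have : QuasiCompact (a.orbitMap x).left := by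
      have : QuasiCompact ((a.orbitMap x).left ≫ X.hom) := by rw [Over.w (a.orbitMap x)]; infer_instance
      exact QuasiCompact.of_comp (a.orbitMap x).left X.hom
    refine GrpSchLib.isLocallyClosed_range_of_homogeneous (K := k) (a.orbitMap x) fun w w' => ?_
    obtain ⟨S, T, h1, -, h3⟩ := GrpSchLib.orbitMap_homogeneous a x w w'
    exact ⟨S, T, h1, h3⟩
  let B : Set X.left := closure (R x) \ R x
  have hB : IsClosed B := ⟨hlc.isOpen_coborder⟩
  by_contra hnc
  obtain ⟨y₀, hy₀, hyc⟩ := nonempty_inter_closedPoints (Z := B) (by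
    rw [Set.nonempty_iff_ne_empty]
    intro h
    exact hnc (closure_subset_iff_isClosed.mp (Set.sdiff_eq_empty.mp h))) hB.isLocallyClosed
  let y := pt y₀ hyc
  have hR : R y ⊆ B := by
    rintro _ ⟨z, rfl⟩
    by_contra hz
    obtain ⟨c, hc1, hc⟩ := nonempty_inter_closedPoints (Z := ((a.orbitMap y).left ⁻¹' B)ᶜ) ⟨z, hz⟩
      (hB.preimage (a.orbitMap y).left.continuous).isOpen_compl.isLocallyClosed
    refine hc1 ?_
    obtain ⟨T, hTy, hTR⟩ := htrans (pt c hc)
    have : IsIso T.hom.left := ((Over.forget _).mapIso T).isIso_hom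
    have hTcl : T.hom.left ⁻¹' closure (R x) = closure (R x) := by
      rw [T.hom.left.isOpenMap.preimage_closure_eq_closure_preimage T.hom.left.continuous, hTR]
    have e : (a.orbitMap y).left c = T.hom.left y₀ := by
      have h1 : pt c hc ≫ a.orbitMap y = y ≫ T.hom := by
        rw [← hTy y, AlgGrp.Action.orbitMap, ← Category.assoc, comp_lift, Category.comp_id, ← Category.assoc,
          comp_toUnit, toUnit_unit, Category.id_comp]
      have h2 := congrArg (fun e : 𝟙_ _ ⟶ X => e.left (IsLocalRing.closedPoint k)) h1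
      exact ((congrArg (a.orbitMap y).left (hpt c hc)).symm.trans h2).trans (congrArg T.hom.left (hpt y₀ hyc))
    show (a.orbitMap y).left c ∈ B
    rw [e]
    refine ⟨?_, fun h => hy₀.2 ?_⟩
    · show y₀ ∈ T.hom.left ⁻¹' closure (R x)
      rw [hTcl]
      exact hy₀.1
    · rw [← hTR]
      exact h
  refine hmin ⟨closure (R y), isClosed_closure⟩ ⟨y, rfl⟩ (lt_of_le_of_ne ?_ ?_)
  · exact (closure_minimal hR hB).trans Set.sdiff_subset
  · intro h
    have hxR : x.left (IsLocalRing.closedPoint k) ∈ R x := by
      refine ⟨(η[G] : 𝟙_ _ ⟶ G).left (IsLocalRing.closedPoint k), ?_⟩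
      have : (η[G] : 𝟙_ _ ⟶ G) ≫ a.orbitMap x = x := by
        rw [AlgGrp.Action.orbitMap, ← Category.assoc, comp_lift, Category.comp_id, ← Category.assoc,
          comp_toUnit, toUnit_unit, Category.id_comp]
        have := GrpSchLib.act_one a x
        simpa [MonObj.one_eq_one] using this
      exact congrArg (fun e : 𝟙_ _ ⟶ X => e.left (IsLocalRing.closedPoint k)) this
    have : x.left (IsLocalRing.closedPoint k) ∈ closure (R y) :=
      (congrArg SetLike.coe h).ge (subset_closure hxR)
    exact (closure_minimal hR hB this).2 hxR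

end Groth.Agent.S14586
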