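import Groth.Statements.S7621
import Groth.Agent.GeomField.Connected

set_option autoImplicit false
universe u
open CategoryTheory CategoryTheory.Limits AlgebraicGeometry
open Variety

namespace Groth.Agent.S7621

/-- Let K be a (possibly infinite) Galois extension of a field k, X a scheme over k and V a
quasi-compact open subset of X_K. Then there is a subextension k'/k of K, finite over k, such that
every k-automorphism of K fixing k' pointwise maps V onto itself under its action on X_K (an open
subgroup of the Galois group stabilises V). -/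
theorem result (k : Type u) [Field k] (K : Type u) [Field K] [Algebra k K] [IsGalois k K]
    (X : Scheme.{u}) [X.Over (Spec (CommRingCat.of k))] (V : Set ↥(Curv2.bc k X K)) (hV : IsOpen V) (hVc : IsCompact V) :
    ∃ E : IntermediateField k K, FiniteDimensional k ↥E ∧
      ∀ σ : K ≃ₐ[k] K, (∀ a : K, a ∈ E → σ a = a) → (Curv2.galAct k X K σ).base '' V = V := by
  classical
  choose F hF hFd using fun v : V => GeomField.exists_open_descend (k := k) hV v.2
  choose V' hV' hmem hsub using fun v : V => hFd v (F v) le_rfl
  obtain ⟨s, hs⟩ := hVc.elim_finite_subcover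
    (fun v : V => FBaseLib.bcMap (X ↘ Spec (CommRingCat.of k)) (F v) K ⁻¹' V' v)
    (fun v => (hV' v).preimage (FBaseLib.bcMap (X ↘ Spec (CommRingCat.of k)) (F v) K).continuous)
    (fun v hv => Set.mem_iUnion.2 ⟨⟨v, hv⟩, hmem ⟨v, hv⟩⟩)
  refine ⟨s.sup F, ?_, fun σ hσ => ?_⟩
  · refine Finset.sup_induction (p := fun E : IntermediateField k K => FiniteDimensional k E) inferInstance (fun a ha b hb => ?_) (fun v _ => hF v)
    have := ha; have := hb
    infer_instance
  have key : ∀ τ : K ≃ₐ[k] K, (∀ a : K, a ∈ s.sup F → τ a = a) →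
      ∀ v ∈ V, Curv2.galAct k X K τ v ∈ V := by
    intro τ hτ v hv
    obtain ⟨w, hw, hvw⟩ := Set.mem_iUnion₂.1 (hs hv)
    refine hsub w ?_
    show FBaseLib.bcMap (X ↘ Spec (CommRingCat.of k)) (F w) K (Curv2.galAct k X K τ v) ∈ V' w
    rw [GeomField.galAct_bcMap (F w) τ (fun r => hτ r ((Finset.le_sup (f := F) hw : F w ≤ s.sup F) r.2)) v]
    exact hvw
  refine subset_antisymm (Set.image_subset_iff.2 fun v hv => key σ hσ v hv) fun v hv => ?_
  refine ⟨Curv2.galAct k X K σ.symm v, key σ.symm
    (fun a ha => σ.symm_apply_eq.2 (hσ a ha).symm) v hv, ?_⟩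
  have h : Curv2.galAct k X K σ.symm ≫ Curv2.galAct k X K σ = 𝟙 _ := by
    apply pullback.hom_ext
    · simp only [Curv2.galAct, Category.assoc, pullback.lift_fst, Category.comp_id, Category.id_comp,
        pullback.lift_fst_assoc]
    · simp only [Curv2.galAct, Category.assoc, pullback.lift_snd, Category.id_comp, pullback.lift_snd_assoc,
        ← Spec.map_comp]
      rw [show CommRingCat.ofHom (σ : K →ₐ[k] K).toRingHom ≫ CommRingCat.ofHom (σ.symm : K →ₐ[k] K).toRingHom
          = 𝟙 _ from by ext a; exact σ.symm_apply_apply a, Spec.map_id, Category.comp_id]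
  exact congr($(h).base v)

end Groth.Agent.S7621
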