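import Groth.Agent.H23.CocycleMod
import Groth.Agent.InvX.Tensor
import Groth.Agent.InvX.Pullback
import Groth.Prelude.Def_MoreMor
import Mathlib.RingTheory.Polynomial.Nilpotent
import Mathlib.Dynamics.Newton

/-!
Torsion invertible modules lift along thickenings.
-/

set_option autoImplicit false
set_option backward.isDefEq.respectTransparency false
set_option backward.isDefEq.respectTransparency.types false
set_option linter.style.haveILetI false

universe u

open CategoryTheory AlgebraicGeometry TopologicalSpace Opposite Polynomial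
open Groth.Agent.AModX Groth.Agent.InvX

namespace Groth.Agent.PicTorsThick

theorem isUnit_of_map {A B : Type u} [CommRing A] [CommRing B] (φ : A →+* B) (hs : Function.Surjective φ)
    (hnil : ∀ a, φ a = 0 → IsNilpotent a) {a : A} (ha : IsUnit (φ a)) : IsUnit a := by
  obtain ⟨c, hc⟩ := ha.exists_left_inv
  obtain ⟨b, rfl⟩ := hs c
  have h : IsNilpotent (1 - b * a) := hnil _ (by rw [map_sub, map_mul, hc, map_one, sub_self])
  have h2 := h.isUnit_one_sub
  rw [sub_sub_cancel] at h2
  exact isUnit_of_mul_isUnit_right h2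

theorem root_unique {A : Type u} [CommRing A] {n : ℕ} (hn : IsUnit (n : A)) {w w' : A} (hw : IsUnit w)
    (h : w ^ n = w' ^ n) (hd : IsNilpotent (w - w')) : w = w' := by
  let P : A[X] := Polynomial.X ^ n - Polynomial.C (w ^ n)
  have h0 : aeval w P = 0 := by simp [P]
  obtain ⟨r, -, hr⟩ := existsUnique_nilpotent_sub_and_aeval_eq_zero (P := P) (x := w) (h0 ▸ .zero)
    (by
      rw [derivative_sub, derivative_X_pow, derivative_C, sub_zero, map_mul, aeval_C, map_pow, aeval_X, Algebra.algebraMap_self, RingHom.id_apply]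
      exact hn.mul (hw.pow _))
  exact (hr w ⟨by rw [sub_self]; exact .zero, h0⟩).trans (hr w' ⟨hd, by simp [P, h]⟩).symm

theorem existsUnique_root_ring {A B : Type u} [CommRing A] [CommRing B] (φ : A →+* B)
    (hs : Function.Surjective φ) (hnil : ∀ a, φ a = 0 → IsNilpotent a) {n : ℕ} (hn0 : 0 < n)
    (hn : IsUnit (n : B)) (u : A) (hu : IsUnit u) (v : B) (hv : v ^ n = φ u) :
    ∃! w, φ w = v ∧ w ^ n = u := by
  have hvu : IsUnit v := (isUnit_pow_iff hn0.ne').1 (hv ▸ hu.map φ)
  have hnA : IsUnit (n : A) := isUnit_of_map φ hs hnil (by rwa [map_natCast])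
  obtain ⟨x, rfl⟩ := hs v
  have hxu : IsUnit x := isUnit_of_map φ hs hnil hvu
  let P : A[X] := Polynomial.X ^ n - Polynomial.C u
  have hev : IsNilpotent (aeval x P) := hnil _ (by simp [P, hv])
  obtain ⟨r, ⟨hr1, hr2⟩, -⟩ := existsUnique_nilpotent_sub_and_aeval_eq_zero (P := P) (x := x) hev
    (by
      rw [derivative_sub, derivative_X_pow, derivative_C, sub_zero, map_mul, aeval_C, map_pow, aeval_X, Algebra.algebraMap_self, RingHom.id_apply]
      exact hnA.mul (hxu.pow _))
  have hrn : r ^ n = u := by simpa [P, sub_eq_zero] using hr2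
  have hrx : φ r = φ x := by
    have hd := hr1.map φ
    rw [map_sub] at hd
    refine (root_unique hn hvu ?_ hd).symm
    rw [hv, ← hrn, map_pow]
  refine ⟨r, ⟨hrx, hrn⟩, fun w ⟨hw1, hw2⟩ => ?_⟩
  refine (root_unique hnA (isUnit_of_map φ hs hnil (hrx ▸ hvu)) (hrn.trans hw2.symm) (hnil _ ?_)).symm
  rw [map_sub, hrx, hw1, sub_self]

variable {X X' : Scheme.{u}} (i : X ⟶ X')

theorem app_resR {V W : X'.Opens} (h : W ≤ V) (a : Γ(X', V)) :
    i.app W (resR h a) = resR (i.preimage_mono h) (i.app V a) :=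
  ConcreteCategory.congr_hom (i.naturality (homOfLE h).op) a

variable (hi : MoreMor.IsThickening i)

include hi

theorem surjective_app {W : X'.Opens} (hW : IsAffineOpen W) : Function.Surjective (i.app W) :=
  haveI := hi.1
  i.app_surjective W hW

theorem nil_of_app {W : X'.Opens} (hW : IsAffineOpen W) (a : Γ(X', W)) (ha : i.app W a = 0) :
    IsNilpotent a := by
  refine (Scheme.isNilpotent_iff_basicOpen_eq_bot_of_isCompact hW.isCompact a).2 (eq_bot_iff.2 fun x hx => ?_)
  obtain ⟨y, rfl⟩ := hi.2.surj x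
  have h : y ∈ i ⁻¹ᵁ X'.basicOpen a := hx
  rw [Scheme.preimage_basicOpen, ha, Scheme.basicOpen_zero] at h
  exact h.elim

variable {n : ℕ} (hn0 : 0 < n) (hn : IsUnit (n : Γ(X, ⊤)))

omit hi in
include hn in
theorem isUnit_natCast (U : X.Opens) : IsUnit (n : Γ(X, U)) := by
  have := hn.map (resR (le_top : U ≤ ⊤))
  rwa [map_natCast] at this

include hn0 hn in
theorem existsUnique_root (W : X'.Opens) (u : Γ(X', W)) (hu : IsUnit u) (v : Γ(X, i ⁻¹ᵁ W))
    (hv : v ^ n = i.app W u) : ∃! w, i.app W w = v ∧ w ^ n = u := by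
  have haff : ∀ (V : X'.Opens), IsAffineOpen V → ∀ h : V ≤ W,
      ∃! w, i.app V w = resR (i.preimage_mono h) v ∧ w ^ n = resR h u := fun V hV h =>
    existsUnique_root_ring (i.app V).hom (surjective_app i hi hV) (nil_of_app i hi hV) hn0
      (isUnit_natCast hn _) _ (hu.map _) _ (by rw [← map_pow, hv]; exact (app_resR i h u).symm)
  let ι := {V : X'.Opens // IsAffineOpen V ∧ V ≤ W}
  choose r hr hru using fun a : ι => haff a.1 a.2.1 a.2.2
  have hloc : ∀ (a : ι) (C : X'.Opens) (hC : IsAffineOpen C) (h : C ≤ a.1),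
      i.app C (resR h (r a)) = resR (i.preimage_mono (h.trans a.2.2)) v ∧
        (resR h (r a)) ^ n = resR (h.trans a.2.2) u := fun a C hC h => by
    refine ⟨?_, ?_⟩
    · rw [app_resR, (hr a).1, resR_resR]
    · rw [← map_pow, (hr a).2, resR_resR]
  have hcover : ∀ p ∈ W, ∃ a : ι, p ∈ a.1 := fun p hp => by
    obtain ⟨_, ⟨V, hV, rfl⟩, hpV, hVW⟩ := X'.isBasis_affineOpens.exists_subset_of_mem_open hp W.2
    exact ⟨⟨V, hV, hVW⟩, hpV⟩
  obtain ⟨w, hw, hwu⟩ := existsUnique_glue (M := Coh.structureModule X') (fun a : ι => a.1)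
    (fun a => a.2.2) hcover r fun a b => by
      refine eq_of_locally (M := Coh.structureModule X') _ _ fun p hp => ?_
      obtain ⟨_, ⟨C, hC, rfl⟩, hpC, hCW⟩ := X'.isBasis_affineOpens.exists_subset_of_mem_open hp (a.1 ⊓ b.1).2
      refine ⟨C, hCW, hpC, ?_⟩
      show resR hCW (resR inf_le_left (r a)) = resR hCW (resR inf_le_right (r b))
      rw [resR_resR, resR_resR]
      exact (haff C hC ((show C ≤ _ from hCW).trans (inf_le_left.trans a.2.2))).unique
        (hloc a C hC _) (hloc b C hC _)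
  have hw' : ∀ a : ι, resR a.2.2 (show Γ(X', W) from w) = r a := hw
  refine ⟨w, ⟨?_, ?_⟩, fun w' hw'' => hwu w' fun a => hru a _ ⟨?_, ?_⟩⟩
  · refine eq_of_locally (M := Coh.structureModule X) _ _ fun p hp => ?_
    obtain ⟨a, ha⟩ := hcover _ hp
    refine ⟨i ⁻¹ᵁ a.1, i.preimage_mono a.2.2, ha, ?_⟩
    show resR _ (i.app W w) = resR _ v
    rw [← app_resR i a.2.2, hw', (hr a).1]
  · refine eq_of_locally (M := Coh.structureModule X') _ _ fun p hp => ?_
    obtain ⟨a, ha⟩ := hcover p hp
    refine ⟨a.1, a.2.2, ha, ?_⟩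
    show resR _ ((show Γ(X', W) from w) ^ n) = resR _ u
    rw [map_pow, hw', (hr a).2]
  · show i.app a.1 (resR a.2.2 (show Γ(X', W) from w')) = _
    rw [app_resR, hw''.1]
  · show (resR a.2.2 (show Γ(X', W) from w')) ^ n = _
    rw [← map_pow, hw''.2]

omit hi

/-- The powers of a section. -/
noncomputable def powElt {L : X.Modules} {U : X.Opens} (e : Γ(L, U)) :
    ∀ m : ℕ, Γ(CohB1.tensorPow L m, U)
  | 0 => (1 : Γ(X, U))
  | m + 1 => tmul (powElt e m) e

theorem isFrame_powElt {L : X.Modules} {U : X.Opens} {e : Γ(L, U)} (he : IsFrame e) :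
    ∀ m, IsFrame (powElt e m)
  | 0 => isFrame_one U
  | m + 1 => isFrame_tmul (isFrame_powElt he m) he

theorem res_powElt {L : X.Modules} {U V : X.Opens} (h : V ≤ U) (e : Γ(L, U)) :
    ∀ m, res (CohB1.tensorPow L m) h (powElt e m) = powElt (res L h e) m
  | 0 => show resR h (1 : Γ(X, U)) = 1 from map_one _
  | m + 1 => (res_tmul h _ _).trans (congrArg (tmul · _) (res_powElt h e m))

theorem powElt_smul {L : X.Modules} {U : X.Opens} (g : Γ(X, U)) (e : Γ(L, U)) :
    ∀ m, powElt (g • e) m = g ^ m • powElt e m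
  | 0 => by rw [pow_zero, one_smul]; rfl
  | m + 1 => by
    show tmul (powElt (g • e) m) (g • e) = _
    rw [powElt_smul g e m, tmul_smul_left, tmul_smul_right, ← mul_smul, ← pow_succ]
    rfl

/-- Two families of frames with the same transition functions. -/
theorem nonempty_iso_of_transition {M N : X.Modules} {ι : Type u} (U : ι → X.Opens)
    (hcov : ∀ x, ∃ a, x ∈ U a) (e : ∀ a, Γ(M, U a)) (he : ∀ a, IsFrame (e a))
    (f : ∀ a, Γ(N, U a)) (hf : ∀ a, IsFrame (f a))
    (h : ∀ a b, ∃ g : Γ(X, U a ⊓ U b),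
      res M (inf_le_left : U a ⊓ U b ≤ U a) (e a) = g • res M (inf_le_right : U a ⊓ U b ≤ U b) (e b) ∧
      res N (inf_le_left : U a ⊓ U b ≤ U a) (f a) = g • res N (inf_le_right : U a ⊓ U b ≤ U b) (f b)) :
    Nonempty (M ≅ N) := by
  have key : ∀ (a b : ι) (W : X.Opens) (ha : W ≤ U a) (hb : W ≤ U b), ∃ g : Γ(X, W),
      res M hb (e b) = g • res M ha (e a) ∧ res N hb (f b) = g • res N ha (f a) := fun a b W ha hb => by
    obtain ⟨g, h1, h2⟩ := h b a
    have hW : W ≤ U b ⊓ U a := le_inf hb ha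
    refine ⟨resR hW g, ?_, ?_⟩
    · have := congrArg (res M hW) h1
      rwa [res_res, res_smul, res_res] at this
    · have := congrArg (res N hW) h2
      rwa [res_res, res_smul, res_res] at this
  have hc : ∀ (a b : ι) (W : X.Opens) (ha : W ≤ U a) (hb : W ≤ U b) (g : Γ(X, W)),
      res M hb (e b) = g • res M ha (e a) → res N hb (f b) = g • res N ha (f a) := fun a b W ha hb g hg => by
    obtain ⟨g', h1, h2⟩ := key a b W ha hb
    rwa [(he a).coord_unique ha (h1.symm.trans hg)] at h2
  have hc' : ∀ (a b : ι) (W : X.Opens) (ha : W ≤ U a) (hb : W ≤ U b) (g : Γ(X, W)),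
      res N hb (f b) = g • res N ha (f a) → res M hb (e b) = g • res M ha (e a) := fun a b W ha hb g hg => by
    obtain ⟨g', h1, h2⟩ := key a b W ha hb
    rwa [(hf a).coord_unique ha (h2.symm.trans hg)] at h1
  refine ⟨⟨ofFrames hcov he hc, ofFrames hcov hf hc', hom_ext_of_frames U hcov e he fun a => ?_,
    hom_ext_of_frames U hcov f hf fun a => ?_⟩⟩
  · show (ofFrames hcov hf hc').app (U a) ((ofFrames hcov he hc).app (U a) (e a)) = e a
    rw [ofFrames_app, ofFrames_app]
  · show (ofFrames hcov he hc).app (U a) ((ofFrames hcov hf hc').app (U a) (f a)) = f a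
    rw [ofFrames_app, ofFrames_app]

include hi hn0 hn in
/-- The main statement. -/
theorem exists_lift (L : X.Modules) (hL : PicF.IsInvertible L)
    (φ : CohB1.tensorPow L n ≅ Coh.structureModule X) :
    ∃ L' : X'.Modules, PicF.IsInvertible L' ∧ Nonempty (CohB1.tensorPow L' n ≅ Coh.structureModule X') ∧
      Nonempty ((Scheme.Modules.pullback i).obj L' ≅ L) := by
  haveI := hi.1
  have hex : ∀ x : X, ∃ (W : X'.Opens), IsAffineOpen W ∧ i x ∈ W ∧ ∃ e : Γ(L, i ⁻¹ᵁ W), IsFrame e := fun x => by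
    obtain ⟨U, hx, e, he⟩ := InvX.exists_frame hL x
    obtain ⟨V, hV, hVU⟩ := i.isClosedEmbedding.isInducing.isOpen_iff.1 U.2
    have hx' : i x ∈ V := by
      have : x ∈ i ⁻¹' V := by rw [hVU]; exact hx
      exact this
    obtain ⟨_, ⟨W, hW, rfl⟩, hxW, hWV⟩ := X'.isBasis_affineOpens.exists_subset_of_mem_open hx' hV
    have hle : i ⁻¹ᵁ W ≤ U := fun y hy => by
      have : y ∈ i ⁻¹' V := hWV hy
      rw [hVU] at this
      exact this
    exact ⟨W, hW, hxW, _, he.res hle⟩
  choose W hW hxW e he using hex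
  let U : X → X.Opens := fun a => i ⁻¹ᵁ W a
  have hcov : ∀ x, ∃ a, x ∈ U a := fun x => ⟨x, hxW x⟩
  have hcov' : iSup W = ⊤ := eq_top_iff.2 fun y _ => by
    obtain ⟨x, rfl⟩ := hi.2.surj y
    exact Opens.mem_iSup.2 ⟨x, hxW x⟩
  -- transition functions
  have hg : ∀ a b : X, ∃ g : Γ(X, i ⁻¹ᵁ (W a ⊓ W b)),
      res L (i.preimage_mono inf_le_left) (e a) = g • res L (i.preimage_mono inf_le_right) (e b) := fun a b =>
    ((he b).exists_coord (i.preimage_mono inf_le_right) _)
  choose g hg using hg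
  let v : ∀ a, Γ(X, U a) := fun a => φ.hom.app (U a) (powElt (e a) n)
  have hvu : ∀ a, IsUnit (v a) := fun a => by
    obtain ⟨c, hc⟩ := (isFrame_powElt (he a) n).exists_coord le_rfl (φ.inv.app (U a) (1 : Γ(X, U a)))
    rw [res_self] at hc
    have h1 : φ.hom.app (U a) (φ.inv.app (U a) (1 : Γ(X, U a))) = (1 : Γ(X, U a)) := by
      rw [← ConcreteCategory.comp_apply, ← Scheme.Modules.Hom.comp_app, φ.inv_hom_id]
      rfl
    rw [hc, Scheme.Modules.Hom.app_smul] at h1
    exact IsUnit.of_mul_eq_one c ((mul_comm (v a) c).trans h1)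
  have hv : ∀ a b, resR (i.preimage_mono inf_le_left) (v a) =
      g a b ^ n * resR (i.preimage_mono inf_le_right) (v b) := fun a b => by
    have h1 : res _ (i.preimage_mono (inf_le_left : W a ⊓ W b ≤ W a)) (powElt (e a) n) =
        g a b ^ n • res _ (i.preimage_mono (inf_le_right : W a ⊓ W b ≤ W b)) (powElt (e b) n) := by
      rw [res_powElt, hg, powElt_smul, res_powElt]
    have h2 := congrArg (φ.hom.app _) h1
    rw [Scheme.Modules.Hom.app_smul, app_res, app_res] at h2
    exact h2
  have hu : ∀ a, ∃ u : Γ(X', W a), i.app (W a) u = v a := fun a => surjective_app i hi (hW a) _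
  choose u hu using hu
  have huu : ∀ a, IsUnit (u a) := fun a =>
    isUnit_of_map (i.app (W a)).hom (surjective_app i hi (hW a)) (nil_of_app i hi (hW a)) ((hu a).symm ▸ hvu a)
  let ub : ∀ a, Γ(X', W a)ˣ := fun a => (huu a).unit
  -- the ratio on an open below two members
  let q : ∀ (a b : X) (V : X'.Opens), V ≤ W a → V ≤ W b → Γ(X', V) := fun a b V ha hb =>
    resR ha (u a) * resR hb ((ub b)⁻¹ : Γ(X', W b)ˣ).1
  have hinv : ∀ (b : X) (V : X'.Opens) (hb : V ≤ W b),
      resR hb ((ub b)⁻¹ : Γ(X', W b)ˣ).1 * resR hb (u b) = 1 := fun b V hb => by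
    rw [← map_mul, show u b = (ub b : Γ(X', W b)) from (huu b).unit_spec.symm, Units.inv_mul, map_one]
  have hqu : ∀ a b V ha hb, IsUnit (q a b V ha hb) := fun a b V ha hb =>
    ((huu a).map _).mul ((ub b)⁻¹.isUnit.map _)
  have hq : ∀ a b, g a b ^ n = i.app (W a ⊓ W b) (q a b _ inf_le_left inf_le_right) := fun a b => by
    have h1 := hv a b
    rw [← hu a, ← hu b, ← app_resR, ← app_resR] at h1
    refine ((((huu b).map (resR (inf_le_right : W a ⊓ W b ≤ W b))).map (i.app (W a ⊓ W b)).hom)).mul_right_cancel ?_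
    refine h1.symm.trans ?_
    rw [← map_mul]
    refine congrArg _ ?_
    simp only [q]
    rw [mul_assoc, hinv, mul_one]
  choose G hG hGu using fun a b => existsUnique_root i hi hn0 hn (W a ⊓ W b)
    (q a b _ inf_le_left inf_le_right) (hqu _ _ _ _ _) (g a b) (hq a b)
  have hGunit : ∀ a b, IsUnit (G a b) := fun a b =>
    (isUnit_pow_iff hn0.ne').1 ((hG a b).2 ▸ hqu _ _ _ _ _)
  -- with `G a b` the transition `e a = g • e b`, the cocycle value is at `(a, b)`
  let t : H23.CocycleMod.Cocycle W := {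
    g := fun a b => (hGunit a b).unit
    trans := fun a b c V ha hb hc => by
      rw [IsUnit.unit_spec, IsUnit.unit_spec, IsUnit.unit_spec]
      have hroot : ∀ (a b : X) (ha : V ≤ W a) (hb : V ≤ W b),
          i.app V (resR (le_inf ha hb) (G a b)) = resR (i.preimage_mono (le_inf ha hb)) (g a b) ∧
          (resR (le_inf ha hb) (G a b)) ^ n = q a b V ha hb := fun a b ha hb => by
        refine ⟨by rw [app_resR, (hG a b).1], ?_⟩
        rw [← map_pow, (hG a b).2]
        simp only [q, map_mul, resR_resR]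
      have hgt : resR (i.preimage_mono (le_inf ha hc)) (g a c) =
          resR (i.preimage_mono (le_inf hb hc)) (g b c) * resR (i.preimage_mono (le_inf ha hb)) (g a b) := by
        refine (he c).coord_unique (i.preimage_mono hc) ?_
        have e1 := congrArg (res L (i.preimage_mono (le_inf ha hc))) (hg a c)
        have e2 := congrArg (res L (i.preimage_mono (le_inf ha hb))) (hg a b)
        have e3 := congrArg (res L (i.preimage_mono (le_inf hb hc))) (hg b c)
        simp only [res_smul, res_res] at e1 e2 e3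
        rw [← e1, e2, e3, mul_comm, mul_smul]
      have hq3 : q a c V ha hc = q b c V hb hc * q a b V ha hb := by
        simp only [q]
        calc resR ha (u a) * resR hc ((ub c)⁻¹ : Γ(X', W c)ˣ).1
            = resR ha (u a) * resR hc ((ub c)⁻¹ : Γ(X', W c)ˣ).1 *
                (resR hb ((ub b)⁻¹ : Γ(X', W b)ˣ).1 * resR hb (u b)) := by rw [hinv, mul_one]
          _ = _ := by ring
      refine (existsUnique_root i hi hn0 hn V (q a c V ha hc) (hqu _ _ _ _ _)
        (resR (i.preimage_mono (le_inf ha hc)) (g a c)) ?_).unique (hroot a c ha hc) ⟨?_, ?_⟩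
      · rw [← (hroot a c ha hc).1, ← map_pow, (hroot a c ha hc).2]
      · rw [map_mul, (hroot b c hb hc).1, (hroot a b ha hb).1, ← hgt]
      · rw [mul_pow, (hroot b c hb hc).2, (hroot a b ha hb).2, ← hq3] }
  let L' := H23.CocycleMod.mod t
  let f : ∀ a, Γ(L', W a) := H23.CocycleMod.frame t
  have hf : ∀ a, IsFrame (f a) := H23.CocycleMod.isFrame_frame t
  have hfr : ∀ a b, res L' (inf_le_left : W a ⊓ W b ≤ W a) (f a) =
      G a b • res L' (inf_le_right : W a ⊓ W b ≤ W b) (f b) := fun a b =>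
    (H23.CocycleMod.res_frame t a b).trans (by rw [IsUnit.unit_spec])
  refine ⟨L', H23.CocycleMod.isInvertible t hcov', ?_, ?_⟩
  · refine nonempty_iso_of_transition W (fun x => Opens.mem_iSup.1 (by rw [hcov']; trivial))
      (fun a => powElt (f a) n) (fun a => isFrame_powElt (hf a) n)
      (fun a => u a • (show Γ(Coh.structureModule X', W a) from (1 : Γ(X', W a))))
      (fun a => (isFrame_one (W a)).isUnit_smul (huu a)) fun a b => ⟨G a b ^ n, ?_, ?_⟩
    · rw [res_powElt, hfr, powElt_smul, res_powElt]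
    · show resR inf_le_left (u a * (1 : Γ(X', W a))) = G a b ^ n * resR inf_le_right (u b * (1 : Γ(X', W b)))
      rw [mul_one, mul_one, (hG a b).2]
      simp only [q]
      rw [mul_assoc, hinv, mul_one]
  · refine nonempty_iso_of_transition U hcov (fun a => pullElt i (f a)) (fun a => isFrame_pullElt i (hf a))
      e he fun a b => ⟨g a b, ?_, hg a b⟩
    let η : L' ⟶ (Scheme.Modules.pushforward i).obj ((Scheme.Modules.pullback i).obj L') :=
      (Scheme.Modules.pullbackPushforwardAdjunction i).unit.app L'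
    have h1 := congrArg (η.app (W a ⊓ W b)) (hfr a b)
    rw [Scheme.Modules.Hom.app_smul, app_res, app_res] at h1
    rw [← (hG a b).1]
    exact h1

end Groth.Agent.PicTorsThick
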