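import Groth.Statements.S14638
import Groth.Agent.GrpSchLib.Action
import Groth.Agent.H23.QCCrit
import Groth.Agent.H23.EqvUnr
import Groth.Agent.MorLib.GeomFibre
import Mathlib.AlgebraicGeometry.Geometrically.Integral
-- import your own Groth.Agent.* helpers here

set_option autoImplicit false
universe u
open CategoryTheory MonoidalCategory CartesianMonoidalCategory MonObj GrpObj AlgebraicGeometry CategoryTheory.Limits
open AlgGrp

namespace Groth.Agent.S14638

open Limits in
/-- Every point is the image of a geometric point, seen over the base. -/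
theorem exists_pt {S : Scheme.{u}} {Z : Over S} (z : Z.left) :
    ∃ (Ω : Type u) (_ : Field Ω) (_ : IsAlgClosed Ω) (σ : Spec (CommRingCat.of Ω) ⟶ S) (p : Over.mk σ ⟶ Z),
      p.left (IsLocalRing.closedPoint Ω) = z := by
  obtain ⟨Ω, _, _, y, hy⟩ := Groth.Agent.MorLib.GF.exists_geomPoint z
  exact ⟨Ω, inferInstance, inferInstance, y ≫ Z.hom, Over.homMk y rfl, hy⟩

open Limits in
/-- A geometric point in the image lifts. -/
theorem exists_lift_pt {S : Scheme.{u}} {Y Z : Over S} {Ω : Type u} [Field Ω] [IsAlgClosed Ω]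
    {σ : Spec (CommRingCat.of Ω) ⟶ S} (f : Y ⟶ Z) [LocallyOfFiniteType f.left] (p : Over.mk σ ⟶ Z)
    (h : p.left (IsLocalRing.closedPoint Ω) ∈ Set.range f.left) :
    ∃ q : Over.mk σ ⟶ Y, q ≫ f = p := by
  obtain ⟨y, hy⟩ := h
  haveI : Surjective (pullback.snd f.left p.left) := ⟨fun x => by
    obtain ⟨w, -, hw⟩ := Scheme.Pullback.exists_preimage_pullback (f := f.left) (g := p.left) y
      (IsLocalRing.closedPoint Ω) hy
    exact ⟨w, hw.trans (@Subsingleton.elim (Spec (CommRingCat.of Ω)) inferInstance _ _)⟩⟩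
  obtain ⟨w, hw⟩ := Groth.Agent.H23.QCCrit.exists_geomPoint_lift (pullback.snd f.left p.left) Ω (𝟙 _)
  refine ⟨Over.homMk (w ≫ pullback.fst f.left p.left) ?_, Over.OverMorphism.ext ?_⟩
  · rw [← Over.w f, Category.assoc, pullback.condition_assoc, reassoc_of% hw, Over.w p]
  · show (w ≫ pullback.fst f.left p.left) ≫ f.left = p.left
    rw [Category.assoc, pullback.condition, reassoc_of% hw]

/-- In an irreducible space a dense constructible set contains a nonempty open set. -/
theorem exists_open_of_constructible {T : Type u} [TopologicalSpace T] [IrreducibleSpace T] {s : Set T}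
    (hs : Topology.IsConstructible s) (hd : Dense s) : ∃ O : Set T, IsOpen O ∧ O.Nonempty ∧ O ⊆ s := by
  have key : (∃ O : Set T, IsOpen O ∧ O.Nonempty ∧ O ⊆ s) ∨ (∃ O : Set T, IsOpen O ∧ O.Nonempty ∧ O ⊆ sᶜ) := by
    clear hd
    induction hs using Topology.IsConstructible.empty_union_induction with
    | open_retrocompact U hU _ =>
      rcases U.eq_empty_or_nonempty with rfl | h
      · exact Or.inr ⟨Set.univ, isOpen_univ, Set.univ_nonempty, by simp⟩
      · exact Or.inl ⟨U, hU, h, subset_rfl⟩
    | union s _ t _ hs ht =>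
      rcases hs with ⟨O, h1, h2, h3⟩ | ⟨O, h1, h2, h3⟩
      · exact Or.inl ⟨O, h1, h2, h3.trans Set.subset_union_left⟩
      rcases ht with ⟨O', h1', h2', h3'⟩ | ⟨O', h1', h2', h3'⟩
      · exact Or.inl ⟨O', h1', h2', h3'.trans Set.subset_union_right⟩
      · exact Or.inr ⟨O ∩ O', h1.inter h1', nonempty_preirreducible_inter h1 h1' h2 h2',
          fun x hx h => h.elim (h3 hx.1) (h3' hx.2)⟩
    | compl s _ hs =>
      rw [compl_compl]
      exact hs.symm
  rcases key with h | ⟨O, h1, h2, h3⟩
  · exact h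
  · obtain ⟨x, hx, hx'⟩ := hd.inter_open_nonempty O h1 h2
    exact absurd hx' (h3 hx)

/-- Over a field k, let G be a smooth k-group scheme of finite type acting on a variety X (a separated,
geometrically integral k-scheme of finite type). Then X is almost homogeneous, i.e. the graph
morphism G × X → X × X, (g, x) ↦ (x, g·x), is dominant, if and only if there is a nonempty open
subscheme U of X which is G-stable (the action restricts to an action on U) and homogeneous (the
graph morphism G × U → U × U is surjective). Moreover there is at most one such open subscheme U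
(the open orbit). -/
theorem result (k : Type u) [Field k]
    (G X : Over (Spec (CommRingCat.of k))) [GrpObj G] [Smooth G.hom] [QuasiCompact G.hom]
    [IsSeparated X.hom] [LocallyOfFiniteType X.hom] [QuasiCompact X.hom] [GeometricallyIntegral X.hom]
    (a : AlgGrp.Action G X) :
    (IsDominant (CartesianMonoidalCategory.lift (CartesianMonoidalCategory.snd G X) a.act).left ↔
      ∃ U : X.left.Opens, (U : Set ↥X.left).Nonempty ∧
        ∃ b : AlgGrp.Action G (Over.mk (U.ι ≫ X.hom)),
          (G ◁ (Over.homMk U.ι rfl : Over.mk (U.ι ≫ X.hom) ⟶ X)) ≫ a.act = b.act ≫ Over.homMk U.ι rfl ∧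
          Surjective (CartesianMonoidalCategory.lift (CartesianMonoidalCategory.snd G (Over.mk (U.ι ≫ X.hom))) b.act).left) ∧
    ∀ U U' : X.left.Opens,
      ((U : Set ↥X.left).Nonempty ∧ ∃ b : AlgGrp.Action G (Over.mk (U.ι ≫ X.hom)),
          (G ◁ (Over.homMk U.ι rfl : Over.mk (U.ι ≫ X.hom) ⟶ X)) ≫ a.act = b.act ≫ Over.homMk U.ι rfl ∧
          Surjective (CartesianMonoidalCategory.lift (CartesianMonoidalCategory.snd G (Over.mk (U.ι ≫ X.hom))) b.act).left) →
      ((U' : Set ↥X.left).Nonempty ∧ ∃ b' : AlgGrp.Action G (Over.mk (U'.ι ≫ X.hom)),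
          (G ◁ (Over.homMk U'.ι rfl : Over.mk (U'.ι ≫ X.hom) ⟶ X)) ≫ a.act = b'.act ≫ Over.homMk U'.ι rfl ∧
          Surjective (CartesianMonoidalCategory.lift (CartesianMonoidalCategory.snd G (Over.mk (U'.ι ≫ X.hom))) b'.act).left) →
      U = U' := by
  classical
  haveI : IrreducibleSpace ↥X.left := GeometricallyIrreducible.irreducibleSpace_of_subsingleton (f := X.hom)
  haveI : IrreducibleSpace ↥(X ⊗ X).left := inferInstanceAs (IrreducibleSpace ↥(pullback X.hom X.hom))
  set gr : G ⊗ X ⟶ X ⊗ X := lift (snd G X) a.act with hgr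
  have hopenFst : IsOpenMap (fst X X).left := (pullback.fst X.hom X.hom).isOpenMap
  have hopenSnd : IsOpenMap (snd X X).left := (pullback.snd X.hom X.hom).isOpenMap
  constructor
  · constructor
    · intro hdom
      haveI := hdom
      haveI : LocallyOfFiniteType (G ⊗ X).hom := by
        rw [← Over.w (fst G X)]
        haveI : LocallyOfFiniteType (fst G X).left := inferInstanceAs (LocallyOfFiniteType (pullback.fst G.hom X.hom))
        infer_instance
      haveI : LocallyOfFiniteType (X ⊗ X).hom := by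
        rw [← Over.w (fst X X)]
        haveI : LocallyOfFiniteType (fst X X).left := inferInstanceAs (LocallyOfFiniteType (pullback.fst X.hom X.hom))
        infer_instance
      haveI : QuasiCompact (G ⊗ X).hom := by
        rw [← Over.w (fst G X)]
        haveI : QuasiCompact (fst G X).left := inferInstanceAs (QuasiCompact (pullback.fst G.hom X.hom))
        infer_instance
      haveI : IsSeparated (X ⊗ X).hom := by
        rw [← Over.w (fst X X)]
        haveI : IsSeparated (fst X X).left := inferInstanceAs (IsSeparated (pullback.fst X.hom X.hom))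
        infer_instance
      haveI : LocallyOfFiniteType (gr.left ≫ (X ⊗ X).hom) := by rw [Over.w]; infer_instance
      haveI : LocallyOfFiniteType gr.left := locallyOfFiniteType_of_comp gr.left (X ⊗ X).hom
      haveI : QuasiCompact (gr.left ≫ (X ⊗ X).hom) := by rw [Over.w]; infer_instance
      haveI : QuasiCompact gr.left := QuasiCompact.of_comp gr.left (X ⊗ X).hom
      haveI : IsLocallyNoetherian (X ⊗ X).left := LocallyOfFiniteType.isLocallyNoetherian (X ⊗ X).hom
      haveI : LocallyOfFinitePresentation gr.left := inferInstance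
      -- an open subset of the image
      obtain ⟨O, hOne, hOsub⟩ : ∃ O : (X ⊗ X).left.Opens, (O : Set ↥(X ⊗ X).left).Nonempty ∧
          (O : Set ↥(X ⊗ X).left) ⊆ Set.range gr.left := by
        have hc : Topology.IsLocallyConstructible (Set.range gr.left) := by
          rw [← Set.image_univ]
          exact gr.left.isLocallyConstructible_image Topology.IsConstructible.univ.isLocallyConstructible
        haveI : CompactSpace ↥(X ⊗ X).left := by
          haveI : QuasiCompact (X ⊗ X).hom := by
            rw [← Over.w (fst X X)]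
            haveI : QuasiCompact (fst X X).left := inferInstanceAs (QuasiCompact (pullback.fst X.hom X.hom))
            infer_instance
          exact (quasiCompact_iff_compactSpace (X ⊗ X).hom).mp inferInstance
        haveI : QuasiSeparatedSpace ↥(X ⊗ X).left := inferInstance
        obtain ⟨O, hO, hOne, hOsub⟩ := exists_open_of_constructible hc.isConstructible gr.left.denseRange
        exact ⟨⟨O, hO⟩, hOne, hOsub⟩
      let V : X.left.Opens := ⟨(snd X X).left '' O, hopenSnd _ O.2⟩
      let Vo : Over (Spec (CommRingCat.of k)) := Over.mk (V.ι ≫ X.hom)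
      let iV : Vo ⟶ X := Over.homMk V.ι rfl
      haveI : IsOpenImmersion iV.left := inferInstanceAs (IsOpenImmersion V.ι)
      haveI hGiV : IsOpenImmersion (G ◁ iV).left :=
        MorphismProperty.of_isPullback (P := @IsOpenImmersion) (Groth.Agent.H23.EqvUnr.isPullback_whiskerLeft G iV).flip ‹_›
      have hact : IsOpenMap a.act.left := by
        have e : a.act = (Groth.Agent.GrpSchLib.actShear a).hom ≫ snd G X := by
          simp [Groth.Agent.GrpSchLib.actShear]
        haveI : IsIso (Groth.Agent.GrpSchLib.actShear a).hom.left :=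
          inferInstanceAs (IsIso ((Over.forget _).map (Groth.Agent.GrpSchLib.actShear a).hom))
        rw [e, Over.comp_left, Scheme.Hom.comp_base, TopCat.coe_comp]
        exact (pullback.snd G.hom X.hom).isOpenMap.comp (Groth.Agent.GrpSchLib.actShear a).hom.left.homeomorph.isOpenMap
      let m : G ⊗ Vo ⟶ X := (G ◁ iV) ≫ a.act
      let U : X.left.Opens := ⟨Set.range m.left, by
        rw [show m.left = (G ◁ iV).left ≫ a.act.left from rfl, Scheme.Hom.comp_base, TopCat.coe_comp,
          Set.range_comp]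
        exact hact _ (G ◁ iV).left.isOpenEmbedding.isOpen_range⟩
      haveI : LocallyOfFiniteType Vo.hom := inferInstanceAs (LocallyOfFiniteType (V.ι ≫ X.hom))
      haveI : LocallyOfFiniteType (G ⊗ Vo).hom := by
        rw [← Over.w (fst G Vo)]
        haveI : LocallyOfFiniteType (fst G Vo).left := inferInstanceAs (LocallyOfFiniteType (pullback.fst G.hom Vo.hom))
        infer_instance
      haveI : LocallyOfFiniteType (m.left ≫ X.hom) := by rw [Over.w]; infer_instance
      haveI : LocallyOfFiniteType m.left := locallyOfFiniteType_of_comp m.left X.hom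
      -- points of U are translates of points of V
      have hU : ∀ {Ω : Type u} [Field Ω] [IsAlgClosed Ω] {σ : Spec (CommRingCat.of Ω) ⟶ Spec (CommRingCat.of k)}
          (x : Over.mk σ ⟶ X), x.left (IsLocalRing.closedPoint Ω) ∈ U →
          ∃ (g : Over.mk σ ⟶ G) (v : Over.mk σ ⟶ Vo), lift g (v ≫ iV) ≫ a.act = x := by
        intro Ω _ _ σ x hx
        obtain ⟨q, hq⟩ := exists_lift_pt m x hx
        refine ⟨q ≫ fst G Vo, q ≫ snd G Vo, ?_⟩
        rw [← hq]
        have e : lift (q ≫ fst G Vo) ((q ≫ snd G Vo) ≫ iV) = q ≫ (G ◁ iV) := by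
          apply CartesianMonoidalCategory.hom_ext <;> simp
        rw [e, Category.assoc]
      -- points of V have large orbits
      have hV : ∀ {Ω : Type u} [Field Ω] [IsAlgClosed Ω] {σ : Spec (CommRingCat.of Ω) ⟶ Spec (CommRingCat.of k)}
          (v w : Over.mk σ ⟶ Vo), ∃ g : Over.mk σ ⟶ G, lift g (v ≫ iV) ≫ a.act = w ≫ iV := by
        intro Ω _ _ σ v w
        let XK := pullback X.hom σ
        let ev : (v' : Over.mk σ ⟶ Vo) → (Over.mk (pullback.fst X.hom σ ≫ X.hom) ⟶ X ⊗ X) := fun v' =>
          lift (Over.homMk (pullback.fst X.hom σ) rfl)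
            ((Over.homMk (pullback.snd X.hom σ) pullback.condition.symm : Over.mk (pullback.fst X.hom σ ≫ X.hom) ⟶ Over.mk σ) ≫ v' ≫ iV)
        have hne : ∀ v' : Over.mk σ ⟶ Vo, ((ev v').left ⁻¹' (O : Set ↥(X ⊗ X).left)).Nonempty := by
          intro v'
          obtain ⟨o, ho, hov⟩ := (v'.left (IsLocalRing.closedPoint Ω)).2
          haveI : IsLocallyNoetherian X.left := LocallyOfFiniteType.isLocallyNoetherian X.hom
          obtain ⟨z, hz, -⟩ := Scheme.Pullback.exists_preimage_pullback (f := (snd X X).left) (g := (v' ≫ iV).left)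
            o (IsLocalRing.closedPoint Ω) hov
          let T : Over (Spec (CommRingCat.of k)) := Over.mk (pullback.fst (snd X X).left (v' ≫ iV).left ≫ (X ⊗ X).hom)
          let t : T ⟶ X ⊗ X := Over.homMk (pullback.fst (snd X X).left (v' ≫ iV).left) rfl
          have hT : pullback.snd (snd X X).left (v' ≫ iV).left ≫ σ = T.hom := by
            show _ = pullback.fst _ _ ≫ (X ⊗ X).hom
            rw [← Over.w (snd X X), pullback.condition_assoc, Over.w (v' ≫ iV)]
            rfl
          let t₂ : T ⟶ Over.mk σ := Over.homMk (pullback.snd (snd X X).left (v' ≫ iV).left) hT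
          have ht : t ≫ snd X X = t₂ ≫ v' ≫ iV := Over.OverMorphism.ext pullback.condition
          let l : T ⟶ Over.mk (pullback.fst X.hom σ ≫ X.hom) :=
            Over.homMk (pullback.lift (t ≫ fst X X).left t₂.left
              ((Over.w (t ≫ fst X X)).trans (Over.w t₂).symm)) (by
                show pullback.lift _ _ _ ≫ pullback.fst _ _ ≫ X.hom = _
                rw [pullback.lift_fst_assoc]
                exact Over.w (t ≫ fst X X))
          have hl : l ≫ ev v' = t := by
            apply CartesianMonoidalCategory.hom_ext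
            · rw [Category.assoc, lift_fst]
              exact Over.OverMorphism.ext (pullback.lift_fst _ _ _)
            · rw [Category.assoc, lift_snd, ht, ← Category.assoc]
              congr 1
              exact Over.OverMorphism.ext (pullback.lift_snd _ _ _)
          refine ⟨l.left z, ?_⟩
          show (ev v').left (l.left z) ∈ (O : Set ↥(X ⊗ X).left)
          rw [← Scheme.Hom.comp_apply, ← Over.comp_left, hl]
          show pullback.fst (snd X X).left (v' ≫ iV).left z ∈ O
          rw [hz]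
          exact ho
        haveI : IrreducibleSpace ↥XK :=
          GeometricallyIrreducible.irreducibleSpace_of_subsingleton (f := pullback.snd X.hom σ)
        haveI : IrreducibleSpace ↥(Over.mk (pullback.fst X.hom σ ≫ X.hom)).left := ‹IrreducibleSpace ↥XK›
        obtain ⟨z₀, hz₀⟩ := nonempty_preirreducible_inter
          (((ev v).left ⁻¹ᵁ O).2) (((ev w).left ⁻¹ᵁ O).2) (hne v) (hne w)
        haveI : JacobsonSpace ↥XK := LocallyOfFiniteType.jacobsonSpace (pullback.snd X.hom σ)
        haveI : JacobsonSpace ↥(Over.mk (pullback.fst X.hom σ ≫ X.hom)).left := ‹JacobsonSpace ↥XK›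
        obtain ⟨z, hz, hzc⟩ := nonempty_inter_closedPoints (Z := (ev v).left ⁻¹' (O : Set ↥(X ⊗ X).left) ∩ (ev w).left ⁻¹' O)
          ⟨z₀, hz₀⟩ ((((ev v).left ⁻¹ᵁ O).2.inter ((ev w).left ⁻¹ᵁ O).2)).isLocallyClosed
        let sp := (pointEquivClosedPoint (pullback.snd X.hom σ)).symm ⟨z, hzc⟩
        have hsp : sp.1 (IsLocalRing.closedPoint Ω) = z :=
          congrArg Subtype.val ((pointEquivClosedPoint (pullback.snd X.hom σ)).apply_symm_apply ⟨z, hzc⟩)
        let pt : Over.mk σ ⟶ Over.mk (pullback.fst X.hom σ ≫ X.hom) := Over.homMk sp.1 (by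
          show sp.1 ≫ pullback.fst X.hom σ ≫ X.hom = σ
          rw [pullback.condition, reassoc_of% sp.2])
        have hpt : pt ≫ (Over.homMk (pullback.snd X.hom σ) pullback.condition.symm : Over.mk (pullback.fst X.hom σ ≫ X.hom) ⟶ Over.mk σ) = 𝟙 (Over.mk σ) :=
          Over.OverMorphism.ext sp.2
        have hg : ∀ v' : Over.mk σ ⟶ Vo, z ∈ (ev v').left ⁻¹' (O : Set ↥(X ⊗ X).left) →
            ∃ g : Over.mk σ ⟶ G, lift g (pt ≫ Over.homMk (pullback.fst X.hom σ) rfl) ≫ a.act = v' ≫ iV := by
          intro v' hv'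
          obtain ⟨q, hq⟩ := exists_lift_pt gr (pt ≫ ev v') (by
            show (ev v').left (sp.1 (IsLocalRing.closedPoint Ω)) ∈ _
            rw [hsp]
            exact hOsub hv')
          have h1 := congrArg (· ≫ fst X X) hq
          have h2 := congrArg (· ≫ snd X X) hq
          simp only [hgr, ev, Category.assoc, lift_fst, lift_snd] at h1 h2
          rw [reassoc_of% hpt] at h2
          refine ⟨q ≫ fst G X, ?_⟩
          rw [← h1, ← h2, show lift (q ≫ fst G X) (q ≫ snd G X) = q from by
            apply CartesianMonoidalCategory.hom_ext <;> simp]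
        obtain ⟨g₁, hg₁⟩ := hg v hz.1
        obtain ⟨g₂, hg₂⟩ := hg w hz.2
        refine ⟨g₂ * g₁⁻¹, ?_⟩
        rw [← hg₁, Groth.Agent.GrpSchLib.act_mul, inv_mul_cancel_right, hg₂]
      let Uo : Over (Spec (CommRingCat.of k)) := Over.mk (U.ι ≫ X.hom)
      let iU : Uo ⟶ X := Over.homMk U.ι rfl
      haveI : Mono iU := (Over.forget _).mono_of_mono_map (inferInstanceAs (Mono U.ι))
      have hstab : Set.range ((G ◁ iU) ≫ a.act).left ⊆ Set.range U.ι := by
        rintro _ ⟨z, rfl⟩
        obtain ⟨Ω, _, _, σ, p, hp⟩ := exists_pt z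
        obtain ⟨g, v, hgv⟩ := hU (p ≫ snd G Uo ≫ iU) (by
          show _ ∈ U
          exact ((p ≫ snd G Uo).left (IsLocalRing.closedPoint Ω)).2)
        refine ⟨⟨_, ?_⟩, rfl⟩
        show ((G ◁ iU) ≫ a.act).left z ∈ Set.range m.left
        refine ⟨(lift ((p ≫ fst G Uo) * g) v).left (IsLocalRing.closedPoint Ω), ?_⟩
        refine Eq.trans ?_ (congrArg ((G ◁ iU) ≫ a.act).left hp)
        refine congrArg (fun φ : Over.mk σ ⟶ X => φ.left (IsLocalRing.closedPoint Ω))
          (?_ : lift ((p ≫ fst G Uo) * g) v ≫ m = p ≫ (G ◁ iU) ≫ a.act)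
        rw [reassoc_of% (show p ≫ (G ◁ iU) = lift (p ≫ fst G Uo) (p ≫ snd G Uo ≫ iU) from by
            apply CartesianMonoidalCategory.hom_ext <;> simp), ← hgv, Groth.Agent.GrpSchLib.act_mul]
        show lift _ v ≫ (G ◁ iV) ≫ a.act = _
        rw [lift_whiskerLeft_assoc]
      let bact : G ⊗ Uo ⟶ Uo := Over.homMk (IsOpenImmersion.lift U.ι ((G ◁ iU) ≫ a.act).left hstab) (by
        show _ ≫ U.ι ≫ X.hom = _
        rw [IsOpenImmersion.lift_fac_assoc, Over.w])
      have hbact : bact ≫ iU = (G ◁ iU) ≫ a.act := Over.OverMorphism.ext (IsOpenImmersion.lift_fac _ _ _)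
      let b : AlgGrp.Action G Uo :=
        { act := bact
          one_act := by
            rw [← cancel_mono iU, Category.assoc, hbact, ← whisker_exchange_assoc, a.one_act]
            simp
          mul_act := by
            rw [← cancel_mono iU]
            simp only [Category.assoc, hbact]
            rw [← whisker_exchange_assoc, a.mul_act, ← whiskerLeft_comp_assoc, hbact]
            simp }
      refine ⟨U, ?_, b, hbact.symm, ⟨fun w => ?_⟩⟩
      · obtain ⟨o, ho⟩ := hOne
        obtain ⟨z, -, hz⟩ := Scheme.Pullback.exists_preimage_pullback (f := G.hom) (g := Vo.hom)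
          (η[G].left (IsLocalRing.closedPoint k)) ⟨(snd X X).left o, ⟨o, ho, rfl⟩⟩
          (@Subsingleton.elim ↥(Spec (CommRingCat.of k)) inferInstance _ _)
        exact ⟨m.left z, z, rfl⟩
      · obtain ⟨Ω, _, _, σ, p, hp⟩ := exists_pt w
        obtain ⟨g, v, hgv⟩ := hU (p ≫ fst Uo Uo ≫ iU) ((p ≫ fst Uo Uo).left (IsLocalRing.closedPoint Ω)).2
        obtain ⟨h, u, hhu⟩ := hU (p ≫ snd Uo Uo ≫ iU) ((p ≫ snd Uo Uo).left (IsLocalRing.closedPoint Ω)).2
        obtain ⟨c, hc⟩ := hV v u
        refine ⟨(lift (h * c * g⁻¹) (p ≫ fst Uo Uo)).left (IsLocalRing.closedPoint Ω), ?_⟩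
        refine Eq.trans ?_ hp
        refine congrArg (fun φ : Over.mk σ ⟶ Uo ⊗ Uo => φ.left (IsLocalRing.closedPoint Ω))
          (?_ : lift (h * c * g⁻¹) (p ≫ fst Uo Uo) ≫ lift (snd G Uo) b.act = p)
        apply CartesianMonoidalCategory.hom_ext
        · simp
        · rw [Category.assoc, lift_snd, ← cancel_mono iU, Category.assoc, hbact, lift_whiskerLeft_assoc,
            Category.assoc, Category.assoc, ← hhu, ← hc, Groth.Agent.GrpSchLib.act_mul, ← hgv,
            Groth.Agent.GrpSchLib.act_mul, inv_mul_cancel_right]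
    · rintro ⟨U, hUne, b, hb, hsurj⟩
      let Uo : Over (Spec (CommRingCat.of k)) := Over.mk (U.ι ≫ X.hom)
      let iU : Uo ⟶ X := Over.homMk U.ι rfl
      haveI : IsOpenImmersion iU.left := inferInstanceAs (IsOpenImmersion U.ι)
      refine ⟨?_⟩
      let W : (X ⊗ X).left.Opens := (fst X X).left ⁻¹ᵁ U ⊓ (snd X X).left ⁻¹ᵁ U
      have hWsub : (W : Set ↥(X ⊗ X).left) ⊆ Set.range gr.left := by
        rintro z ⟨h1, h2⟩
        obtain ⟨Ω, _, _, σ, p, hp⟩ := exists_pt z
        obtain ⟨q₁, hq₁⟩ := exists_lift_pt iU (p ≫ fst X X) ⟨⟨_, h1⟩, by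
          show _ = (fst X X).left (p.left (IsLocalRing.closedPoint Ω))
          rw [hp]
          rfl⟩
        obtain ⟨q₂, hq₂⟩ := exists_lift_pt iU (p ≫ snd X X) ⟨⟨_, h2⟩, by
          show _ = (snd X X).left (p.left (IsLocalRing.closedPoint Ω))
          rw [hp]
          rfl⟩
        obtain ⟨r, hr⟩ := hsurj.surj ((lift q₁ q₂).left (IsLocalRing.closedPoint Ω))
        refine ⟨(G ◁ iU).left r, ?_⟩
        have e : (G ◁ iU) ≫ gr = lift (snd G Uo) b.act ≫ (iU ⊗ₘ iU) := by
          apply CartesianMonoidalCategory.hom_ext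
          · simp [hgr]
          · simpa [hgr] using hb
        refine (congrArg (fun φ : G ⊗ Uo ⟶ X ⊗ X => φ.left r) e).trans ?_
        show (iU ⊗ₘ iU).left ((lift (snd G Uo) b.act).left r) = z
        rw [hr]
        refine Eq.trans ?_ hp
        refine congrArg (fun φ : Over.mk σ ⟶ X ⊗ X => φ.left (IsLocalRing.closedPoint Ω))
          (?_ : lift q₁ q₂ ≫ (iU ⊗ₘ iU) = p)
        apply CartesianMonoidalCategory.hom_ext <;> simp [hq₁, hq₂]
      obtain ⟨u, hu⟩ := hUne
      obtain ⟨z, hz1, hz2⟩ := Scheme.Pullback.exists_preimage_pullback (f := X.hom) (g := X.hom) u u rfl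
      exact (W.2.dense ⟨z, show (fst X X).left z ∈ U from (show (pullback.fst X.hom X.hom) z = u from hz1) ▸ hu,
        show (snd X X).left z ∈ U from (show (pullback.snd X.hom X.hom) z = u from hz2) ▸ hu⟩).mono hWsub
  · rintro U U' ⟨hUne, b, hb, hbs⟩ ⟨hU'ne, b', hb', hb's⟩
    have key : ∀ (U U' : X.left.Opens) (_ : (U : Set ↥X.left).Nonempty) (b : AlgGrp.Action G (Over.mk (U.ι ≫ X.hom)))
        (_ : (G ◁ (Over.homMk U.ι rfl : Over.mk (U.ι ≫ X.hom) ⟶ X)) ≫ a.act = b.act ≫ Over.homMk U.ι rfl)
        (_ : Surjective (lift (snd G (Over.mk (U.ι ≫ X.hom))) b.act).left)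
        (b' : AlgGrp.Action G (Over.mk (U'.ι ≫ X.hom)))
        (_ : (G ◁ (Over.homMk U'.ι rfl : Over.mk (U'.ι ≫ X.hom) ⟶ X)) ≫ a.act = b'.act ≫ Over.homMk U'.ι rfl)
        (_ : (U' : Set ↥X.left).Nonempty), U ≤ U' := by
      intro U U' hne b hb hs b' hb' hne' u hu
      obtain ⟨w, hwU, hwU'⟩ := nonempty_preirreducible_inter U.2 U'.2 hne hne'
      let Uo : Over (Spec (CommRingCat.of k)) := Over.mk (U.ι ≫ X.hom)
      let iU : Uo ⟶ X := Over.homMk U.ι rfl
      obtain ⟨z, hz1, hz2⟩ := Scheme.Pullback.exists_preimage_pullback (f := Uo.hom) (g := Uo.hom)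
        (⟨w, hwU⟩ : U.toScheme) (⟨u, hu⟩ : U.toScheme) (@Subsingleton.elim ↥(Spec (CommRingCat.of k)) inferInstance _ _)
      obtain ⟨r, hr⟩ := hs.surj z
      obtain ⟨Ω, _, _, σ, p, hp⟩ := exists_pt r
      let x₁ : Over.mk σ ⟶ X := p ≫ snd G Uo ≫ iU
      have hx₁ : x₁.left (IsLocalRing.closedPoint Ω) = w := by
        show U.ι ((snd G Uo).left (p.left (IsLocalRing.closedPoint Ω))) = w
        rw [hp, show (snd G Uo).left r = (fst Uo Uo).left z from by
          rw [← hr, ← Scheme.Hom.comp_apply, ← Over.comp_left, lift_fst]]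
        exact congrArg U.ι hz1
      let iU' : Over.mk (U'.ι ≫ X.hom) ⟶ X := Over.homMk U'.ι rfl
      haveI : IsOpenImmersion iU'.left := inferInstanceAs (IsOpenImmersion U'.ι)
      obtain ⟨y, hy⟩ := exists_lift_pt iU' x₁ ⟨⟨w, hwU'⟩, hx₁.symm⟩
      have e : (lift (p ≫ fst G Uo) y ≫ b'.act) ≫ iU' = p ≫ b.act ≫ iU := by
        rw [Category.assoc, ← hb', lift_whiskerLeft_assoc, hy, ← hb, ← Category.assoc]
        congr 1
        apply CartesianMonoidalCategory.hom_ext <;> simp [x₁, Uo, iU]
      have h3 : (p ≫ b.act ≫ iU).left (IsLocalRing.closedPoint Ω) = u := by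
        show U.ι (b.act.left (p.left (IsLocalRing.closedPoint Ω))) = u
        rw [hp, show b.act.left r = (snd Uo Uo).left z from by
          rw [← hr, ← Scheme.Hom.comp_apply, ← Over.comp_left, lift_snd]]
        exact congrArg U.ι hz2
      rw [← h3, ← e]
      exact ((lift (p ≫ fst G Uo) y ≫ b'.act).left (IsLocalRing.closedPoint Ω)).2
    exact le_antisymm (key U U' hUne b hb hbs b' hb' hU'ne) (key U' U hU'ne b' hb' hb's b hb hUne)

end Groth.Agent.S14638
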