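import Groth.Statements.S11398
import Groth.Agent.AGFLib.LargestNormal
import Groth.Agent.GrpSchLib.AffineKer
-- import your own Groth.Agent.* helpers here

set_option autoImplicit false
set_option backward.isDefEq.respectTransparency false
set_option backward.isDefEq.respectTransparency.types false
universe u
open CategoryTheory MonoidalCategory CartesianMonoidalCategory MonObj GrpObj AlgebraicGeometry CategoryTheory.Limits
open AlgGrp

namespace Groth.Agent.S11398

/-- Over an algebraically closed field k, every algebraic group G (a smooth k-group scheme of finite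
type) has a largest connected affine normal algebraic subgroup G_aff: a homomorphism and closed
immersion i : N → G from a smooth, connected, affine k-group scheme, normal in G, through which
every other such subgroup factors. Moreover the quotient G/G_aff has trivial G_aff: for every flat
surjective homomorphism q : G → Q of k-group schemes of finite type with kernel i, every smooth
connected affine normal closed subgroup of Q is the trivial group. -/
theorem result (k : Type u) [Field k] [IsAlgClosed k]
    (G : Over (Spec (CommRingCat.of k))) [GrpObj G] [Smooth G.hom] [QuasiCompact G.hom] :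
    ∃ (N : Over (Spec (CommRingCat.of k))) (_ : GrpObj N) (i : N ⟶ G), (IsMonHom i ∧ IsClosedImmersion i.left ∧ Smooth N.hom ∧
      ConnectedSpace ↥N.left ∧ IsAffine N.left ∧ AlgGrp.IsNormalHom i) ∧
      (∀ (N' : Over (Spec (CommRingCat.of k))) [GrpObj N'] (i' : N' ⟶ G) [IsMonHom i'] [IsClosedImmersion i'.left]
        [Smooth N'.hom] [ConnectedSpace ↥N'.left] [IsAffine N'.left], AlgGrp.IsNormalHom i' → ∃ f : N' ⟶ N, f ≫ i = i') ∧
      (∀ (Q : Over (Spec (CommRingCat.of k))) [GrpObj Q] [LocallyOfFiniteType Q.hom] [QuasiCompact Q.hom] (q : G ⟶ Q) [IsMonHom q]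
        [Surjective q.left] [Flat q.left], AlgGrp.IsKernel i q →
        ∀ (N'' : Over (Spec (CommRingCat.of k))) [GrpObj N''] (i'' : N'' ⟶ Q) [IsMonHom i''] [IsClosedImmersion i''.left]
          [Smooth N''.hom] [ConnectedSpace ↥N''.left] [IsAffine N''.left], AlgGrp.IsNormalHom i'' → IsIso N''.hom) := by
  let P : ∀ (E : Over (Spec (CommRingCat.of k))) [GrpObj E], Prop := fun E _ => IsAffine E.left
  have hPa : ∀ (N E Q : Over (Spec (CommRingCat.of k))) [GrpObj N] [GrpObj E] [GrpObj Q]
      [LocallyOfFiniteType N.hom] [QuasiCompact N.hom] [LocallyOfFiniteType E.hom] [QuasiCompact E.hom]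
      [LocallyOfFiniteType Q.hom] [QuasiCompact Q.hom]
      (i : N ⟶ E) (q : E ⟶ Q) [IsMonHom i] [IsMonHom q] [Flat q.left] [Surjective q.left],
      AlgGrp.IsKernel i q → P N → P Q → P E := by
    intro N E Q _ _ _ _ _ _ _ _ _ i q _ _ _ _ hk hN hQ
    haveI : IsAffine N.left := hN
    haveI : IsAffine Q.left := hQ
    haveI : IsAffineHom N.hom := isAffineHom_of_isAffine N.hom
    haveI : IsSeparated Q.hom := GrpSchLib.AntiAffine.isSeparated_grp Q
    haveI : QuasiCompact q.left := by
      haveI : QuasiCompact (q.left ≫ Q.hom) := by rw [Over.w q]; infer_instance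
      exact QuasiCompact.of_comp q.left Q.hom
    have sq := GrpSchLib.HomKer.kernel_square (u := q) i hk
    haveI : IsAffineHom q.left := GrpSchLib.AffineKer.isAffineHom_of_kernel q (by
      rw [← sq.isoPullback_inv_snd]; infer_instance)
    exact isAffine_of_isAffineHom q.left
  have hPb : ∀ (E Q : Over (Spec (CommRingCat.of k))) [GrpObj E] [GrpObj Q] [LocallyOfFiniteType E.hom]
      [QuasiCompact E.hom] [LocallyOfFiniteType Q.hom] [QuasiCompact Q.hom]
      (q : E ⟶ Q) [IsMonHom q] [Flat q.left] [Surjective q.left], P E → P Q := by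
    intro E Q _ _ _ _ _ _ q _ _ _ hE
    haveI : IsAffine E.left := hE
    exact GrpSchLib.isAffine_of_quotient q
  haveI := GrpSchLib.AntiAffine.isSeparated_grp G
  obtain ⟨N, _, i, h1, h2, h3, h4, h5, h6, hmax⟩ := AGFLib.LargestNormal.exists_largest P hPa hPb (G := G)
    ⟨𝟙_ _, inferInstance, η[G], by
      refine ⟨⟨?_, ?_⟩, ?_, inferInstanceAs (Smooth (𝟙 _)), inferInstanceAs (ConnectedSpace ↥(Spec (CommRingCat.of k))),
        fun T g n => ⟨n, ?_⟩, inferInstanceAs (IsAffine (Spec (CommRingCat.of k)))⟩
      · simp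
      · simp [MonObj.one_eq_one, MonObj.one_mul, toUnit_unique μ[𝟙_ (Over (Spec (CommRingCat.of k)))] (toUnit _)]
        rw [show ((1 : 𝟙_ (Over (Spec (CommRingCat.of k))) ⟶ G) ⊗ₘ (1 : 𝟙_ (Over (Spec (CommRingCat.of k))) ⟶ G)) = lift 1 1 by
          apply CartesianMonoidalCategory.hom_ext <;> simp, ← Hom.mul_def, _root_.mul_one]
      · exact inferInstanceAs (IsClosedImmersion η[G].left)
      · rw [MonObj.one_eq_one, MonObj.comp_one]; group⟩
  refine ⟨N, inferInstance, i, ⟨h1, h2, h3, h4, h6, h5⟩, fun N' _ i' _ _ _ _ _ hn => hmax N' i' inferInstance inferInstance inferInstance hn ‹_›, ?_⟩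
  intro Q _ _ _ q _ _ _ hker N'' _ i'' _ _ _ _ _ hn
  haveI := h1
  haveI := h2
  haveI := h3
  haveI := h4
  haveI : IsIso η[N''] := AGFLib.LargestNormal.trivial_of_quot P hPa i h6 hmax q hker i'' hn ‹_›
  haveI : IsIso η[N''].left := ((Over.forget _).mapIso (asIso η[N''])).isIso_hom
  have hw : η[N''].left ≫ N''.hom = 𝟙 _ := Over.w η[N'']
  exact ⟨η[N''].left, by rw [← cancel_epi η[N''].left, reassoc_of% hw, Category.comp_id], hw⟩

end Groth.Agent.S11398
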