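import Groth.Statements.S14744
import Groth.Agent.AGFLib.QuasiComp.Chevalley
import Groth.Agent.GrpSchLib.ImageFactor
import Groth.Agent.S11398
-- import your own Groth.Agent.* helpers here

set_option autoImplicit false
set_option backward.isDefEq.respectTransparency false
set_option backward.isDefEq.respectTransparency.types false
set_option linter.style.haveILetI false
universe u
open CategoryTheory MonoidalCategory CartesianMonoidalCategory MonObj GrpObj AlgebraicGeometry
open AlgGrp

open Groth.Agent Groth.Agent.AGFLib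

namespace Groth.Agent.S14744

/-- Over an algebraically closed field k, a smooth connected k-group scheme of finite type M whose only
global functions are the constants (an anti-affine group variety; the largest anti-affine subgroup
of any group variety is of this kind) is divisible: for every n ≥ 1 the n-th power map M → M is
surjective. -/
theorem result (k : Type u) [Field k] [IsAlgClosed k]
    (M : Over (Spec (CommRingCat.of k))) [GrpObj M] [Smooth M.hom] [QuasiCompact M.hom] [ConnectedSpace ↥M.left]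
    (hM : Function.Bijective ((Scheme.ΓSpecIso (CommRingCat.of k)).inv ≫ M.hom.appTop).hom)
    (n : ℕ) (hn : 0 < n) :
    Surjective ((𝟙 M) ^ n).left := by
  haveI := GrpSchLib.AntiAffine.isSeparated_grp M
  have hM' : Function.Bijective M.hom.appTop := by
    have h := hM.comp (Scheme.ΓSpecIso (CommRingCat.of k)).commRingCatIsoToRingEquiv.bijective
    convert h using 1
    funext x
    show M.hom.appTop x = M.hom.appTop ((Scheme.ΓSpecIso (CommRingCat.of k)).inv ((Scheme.ΓSpecIso (CommRingCat.of k)).hom x))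
    exact (congrArg M.hom.appTop ((Scheme.ΓSpecIso (CommRingCat.of k)).hom_inv_id_apply x)).symm
  haveI : IsCommMonObj M := ⟨by
    have e := GrpSchLib.AntiAffine.commute hM' (𝟙 M) (by rw [Category.comp_id]; exact MonObj.one_eq_one (M := M))
      (snd M M) (fst M M)
    rw [Category.comp_id] at e
    rw [MonObj.mul_eq_mul M, MonObj.comp_mul, CartesianMonoidalCategory.braiding_hom_fst,
      CartesianMonoidalCategory.braiding_hom_snd, e]⟩
  let pw : M ⟶ M := (𝟙 M) ^ n
  have hpt : ∀ {T : Over (Spec (CommRingCat.of k))} (b : T ⟶ M), b ≫ pw = b ^ n := fun b => by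
    rw [MonObj.comp_pow, Category.comp_id]
  haveI : IsMonHom pw := by
    refine ⟨?_, ?_⟩
    · rw [hpt, MonObj.one_eq_one, one_pow]
    · rw [hpt, ← CartesianMonoidalCategory.lift_fst_comp_snd_comp, ← Hom.mul_def, hpt, hpt, ← mul_pow,
        ← MonObj.mul_eq_mul]
  obtain ⟨J, _, pJ, m, hpJ, hm, hpm, hmc, hpf, hps, hJl, hJq⟩ := GrpSchLib.ImageFactor.exists_image pw
  obtain ⟨W, _, w, hw, hws, hwf, hwl, hWl, hWq, hWsep, hwker, -⟩ := GrpSchLib.GenQuot.exists_quot m
    (fun T a x => ⟨x, by rw [mul_comm a, mul_inv_cancel_right]⟩)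
  haveI : Smooth (w.left ≫ W.hom) := by rw [Over.w w]; infer_instance
  haveI : Smooth W.hom := GrpSchLib.smooth_of_flat_surjective w.left W.hom
  haveI : ConnectedSpace W.left := w.left.surjective.connectedSpace w.left.continuous
  have hkill : ∀ x : 𝟙_ (Over (Spec (CommRingCat.of k))) ⟶ W, x ^ n = 1 := fun x => by
    obtain ⟨g, rfl⟩ := Gen.exists_of_mem_range w x (Set.mem_range.2 (hws.surj _))
    let φ : (𝟙_ (Over (Spec (CommRingCat.of k))) ⟶ M) →* (𝟙_ (Over (Spec (CommRingCat.of k))) ⟶ W) :=
      { toFun := fun y => y ≫ w, map_one' := MonObj.one_comp w, map_mul' := fun y z => MonObj.mul_comp y z w }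
    show (φ g) ^ n = 1
    rw [← map_pow, ← hpt, ← hpm]
    show (g ≫ pJ ≫ m) ≫ w = 1
    rw [Category.assoc, Category.assoc, hwker.w, ← Category.assoc pJ, comp_toUnit, ← Category.assoc, comp_toUnit]
    rfl
  obtain ⟨N, _, i, ⟨hi, hic, hNs, hNc, hNa, hNn⟩, hNmax, -⟩ := S11398.result k W
  obtain ⟨A, _, β, hβ, hAp, hAs, hAc, hβs, hβf, hβker⟩ := QuasiComp.exists_abelian_quot i hNn hNmax
  haveI : IrreducibleSpace A.left := Rosen.irreducibleSpace_of_connected
  haveI : IsReduced A.left := GrpSchLib.isReduced_of_smooth_field A.hom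
  haveI : IsIntegral A.left := isIntegral_of_irreducibleSpace_of_isReduced A.left
  haveI : GeometricallyIntegral A.hom := H23.EquidimFibres.geometricallyIntegral_of_isAlgClosed
  haveI := AVMulN.surjective_pow (A := A) n hn
  have hA1 : ∀ a : 𝟙_ (Over (Spec (CommRingCat.of k))) ⟶ A, a = 1 := fun a => by
    obtain ⟨b, rfl⟩ := Gen.exists_of_mem_range ((𝟙 A) ^ n) a
      (Set.mem_range.2 (((𝟙 A) ^ n : A ⟶ A).left.surjective _))
    obtain ⟨x, rfl⟩ := Gen.exists_of_mem_range β b (Set.mem_range.2 (hβs.surj _))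
    let φ : (𝟙_ (Over (Spec (CommRingCat.of k))) ⟶ W) →* (𝟙_ (Over (Spec (CommRingCat.of k))) ⟶ A) :=
      { toFun := fun y => y ≫ β, map_one' := MonObj.one_comp β, map_mul' := fun y z => MonObj.mul_comp y z β }
    rw [MonObj.comp_pow, Category.comp_id]
    show (φ x) ^ n = 1
    rw [← map_pow, hkill, map_one]
  haveI : Surjective i.left := ⟨fun y => by
    refine (Gen.eq_univ_of_forall_cp i.left.isClosedEmbedding.isClosed_range fun g => ?_).ge (Set.mem_univ y)
    refine ⟨Gen.cp (hβker.lift g (toUnit _) ((hA1 (g ≫ β)).trans rfl)), ?_⟩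
    rw [← Gen.cp_comp, hβker.lift_fst]⟩
  haveI : IsReduced W.left := GrpSchLib.isReduced_of_smooth_field W.hom
  haveI : IsIso i.left := isIso_of_isClosedImmersion_of_surjective i.left
  haveI : IsAffine W.left := IsAffine.of_isIso (inv i.left)
  have hw1 : w = 1 := by
    rw [GrpSchLib.AntiAffine.eq_const_of_isAffine hM' w η[M], IsMonHom.one_hom]
    rfl
  haveI : QuasiCompact pw.left := by
    haveI : QuasiCompact (pw.left ≫ M.hom) := by rw [Over.w pw]; infer_instance
    exact QuasiCompact.of_comp pw.left M.hom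
  haveI := GrpSchLib.AntiAffine.isSeparated_grp J
  have hall := Gen.eq_univ_of_forall_cp (GrpSchLib.HomClosedRange.isClosed_range pw) fun g => by
    let a := hwker.lift g (toUnit _) (by rw [hw1, MonObj.comp_one]; rfl)
    obtain ⟨b, hb⟩ := Gen.exists_of_mem_range pJ a (Set.mem_range.2 (hps.surj _))
    refine ⟨Gen.cp b, ?_⟩
    rw [← Gen.cp_comp, ← hpm, ← Category.assoc, hb]
    exact congrArg Gen.cp (hwker.lift_fst _ _ _)
  exact ⟨fun y => hall.ge (Set.mem_univ y)⟩

end Groth.Agent.S14744
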