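import Groth.Statements.S19702
import Groth.Agent.GrpSchLib.AntiAffineBC


set_option autoImplicit false
universe u
open CategoryTheory MonoidalCategory CartesianMonoidalCategory MonObj GrpObj AlgebraicGeometry CategoryTheory.Limits
open AlgGrp

namespace Groth.Agent.S19702

open Limits Groth.Agent.GrpSchLib

/-- Let k be a field, K a field extension of k and G a k-group scheme of finite type. Then G is
anti-affine, i.e. O(G) = k, if and only if the base change G_K is anti-affine, i.e. O(G_K) = K. -/
theorem result (k : Type u) [Field k] (K : Type u) [Field K] [Algebra k K]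
    (G : Over (Spec (CommRingCat.of k))) [GrpObj G] [LocallyOfFiniteType G.hom] [QuasiCompact G.hom] :
    Function.Bijective ((Scheme.ΓSpecIso (CommRingCat.of k)).inv ≫ G.hom.appTop).hom ↔
      Function.Bijective ((Scheme.ΓSpecIso (CommRingCat.of K)).inv ≫ (Red.bc (Spec.map (CommRingCat.ofHom (algebraMap k K))) G).hom.appTop).hom := by
  rw [AntiAffine.bijective_appTop_iff, AntiAffine.bijective_appTop_iff]
  haveI := AntiAffine.isSeparated_grp G
  exact AntiAffine.bijective_appTop_iff_snd G.hom (algebraMap k K)

end Groth.Agent.S19702
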