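import Groth.Statements.S18067
import Groth.Agent.GrpSchLib.EndoFinite
import Groth.Agent.S14744
import Groth.Agent.S19702
import Groth.Agent.S3293
-- import your own Groth.Agent.* helpers here

set_option autoImplicit false
set_option backward.isDefEq.respectTransparency false
set_option backward.isDefEq.respectTransparency.types false
set_option linter.style.haveILetI false
universe u
open CategoryTheory MonoidalCategory CartesianMonoidalCategory MonObj GrpObj AlgebraicGeometry CategoryTheory.Limits
open AlgGrp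

namespace Groth.Agent.S18067

open CategoryTheory.Limits

/-- Surjectivity of the positive powers gives that of all non-zero powers. -/
theorem surjective_zpow {S : Scheme.{u}} {Y : Over S} [GrpObj Y]
    (h : ∀ m : ℕ, 0 < m → Surjective ((𝟙 Y) ^ m).left) (n : ℤ) (hn : n ≠ 0) : Surjective ((𝟙 Y) ^ n).left := by
  obtain ⟨m, rfl | rfl⟩ := n.eq_nat_or_neg
  · rw [zpow_natCast]
    exact h m (by omega)
  · haveI := h m (by omega)
    have e : ((𝟙 Y) ^ (-(m : ℤ))) = ((𝟙 Y) ^ m) ≫ ι[Y] := by
      rw [zpow_neg, zpow_natCast, ← Hom.inv_def]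
    haveI : IsIso ι[Y] := ⟨ι[Y], by rw [← Hom.inv_def, GrpObj.inv_eq_inv, _root_.inv_inv],
      by rw [← Hom.inv_def, GrpObj.inv_eq_inv, _root_.inv_inv]⟩
    haveI : IsIso (ι[Y] : Y ⟶ Y).left := ((Over.forget _).mapIso (asIso ι[Y])).isIso_hom
    rw [e, Over.comp_left]
    infer_instance


/-- Let k be a field and G an anti-affine algebraic group over k, i.e. a smooth k-group scheme of finite
type with O(G) = k (hence connected and commutative). Then for every non-zero integer n the n-th
power map G → G, x ↦ x^n, is an isogeny: surjective and finite. -/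
theorem result (k : Type u) [Field k]
    (G : Over (Spec (CommRingCat.of k))) [GrpObj G] [Smooth G.hom] [QuasiCompact G.hom]
    (hG : Function.Bijective ((Scheme.ΓSpecIso (CommRingCat.of k)).inv ≫ G.hom.appTop).hom) (n : ℤ) (hn : n ≠ 0) :
    Surjective ((𝟙 G) ^ n).left ∧ IsFinite ((𝟙 G) ^ n).left := by
  obtain ⟨hc, hcomm⟩ := S3293.result k G hG
  haveI := hc; haveI := hcomm
  let K := AlgebraicClosure k
  let σ := Spec.map (CommRingCat.ofHom (algebraMap k K))
  let F := Over.pullback σ
  haveI : Smooth (Red.bc σ G).hom := inferInstanceAs (Smooth (pullback.snd G.hom σ))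
  haveI : QuasiCompact (Red.bc σ G).hom := inferInstanceAs (QuasiCompact (pullback.snd G.hom σ))
  haveI : ConnectedSpace (Red.bc σ G).left := GrpSchLib.AntiAffine.connectedSpace_bc G (algebraMap k K)
  have hK := (S19702.result k K G).1 hG
  haveI hP : ∀ m : ℕ, 0 < m → Surjective ((𝟙 (Red.bc σ G)) ^ m).left := fun m hm =>
    S14744.result K (Red.bc σ G) hK m hm
  haveI : IsMonHom ((𝟙 G) ^ n) := by
    have hpt : ∀ {T : Over (Spec (CommRingCat.of k))} (b : T ⟶ G), b ≫ ((𝟙 G) ^ n) = b ^ n := fun b => by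
      rw [GrpObj.comp_zpow, Category.comp_id]
    refine ⟨?_, ?_⟩
    · rw [hpt, MonObj.one_eq_one, one_zpow]
    · rw [hpt, ← CartesianMonoidalCategory.lift_fst_comp_snd_comp, ← Hom.mul_def, hpt, hpt, ← mul_zpow,
        ← MonObj.mul_eq_mul]
  have hF : F.map ((𝟙 G) ^ n) = ((𝟙 (Red.bc σ G)) ^ n : Red.bc σ G ⟶ Red.bc σ G) := by
    have := map_zpow (F.homMonoidHom (X := G) (M := G)) (𝟙 G) n
    exact this.trans (congrArg (fun x : Red.bc σ G ⟶ Red.bc σ G => x ^ n) (F.map_id G))
  haveI : Surjective (F.map ((𝟙 G) ^ n)).left := by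
    rw [hF]
    exact surjective_zpow hP n hn
  haveI : Surjective σ := ⟨fun x => ⟨(IsLocalRing.closedPoint K : Spec (CommRingCat.of K)), Subsingleton.elim _ _⟩⟩
  haveI : Surjective ((𝟙 G) ^ n).left := by
    haveI : Surjective ((F.map ((𝟙 G) ^ n)).left ≫ pullback.fst G.hom σ) := inferInstance
    have e : (F.map ((𝟙 G) ^ n)).left ≫ pullback.fst G.hom σ = pullback.fst G.hom σ ≫ ((𝟙 G) ^ n).left :=
      pullback.lift_fst _ _ _
    rw [e] at this
    exact Surjective.of_comp (pullback.fst G.hom σ) _
  exact ⟨inferInstance, GrpSchLib.isFinite_of_surjective_endo _⟩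

end Groth.Agent.S18067
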