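import Groth.Statements.S5337
import Groth.Agent.GrpSchLib.Loci
-- import your own Groth.Agent.* helpers here

set_option autoImplicit false
universe u
open CategoryTheory CategoryTheory.Limits MonoidalCategory CartesianMonoidalCategory MonObj GrpObj AlgebraicGeometry
open SGA3

namespace Groth.Agent.S5337

/-- Quasi-finite, unramified, smooth and etale cases: let A be a local artinian ring, G an A-group
scheme which is flat and locally of finite type over A, and u : G → H a homomorphism of A-group
schemes. If u is locally quasi-finite (resp. unramified, that is formally unramified and locally of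
finite presentation, resp. smooth, resp. etale) on some nonempty open subscheme of G, then u is
locally quasi-finite (resp. unramified, resp. smooth, resp. etale). (Here u is automatically locally
of finite type.) -/
theorem result (A : Type u) [CommRing A] [IsArtinianRing A] [IsLocalRing A] (G H : Over (Spec (CommRingCat.of A))) [GrpObj G] [GrpObj H]
    [Flat G.hom] [LocallyOfFiniteType G.hom] (u : G ⟶ H) [IsMonHom u] (W : G.left.Opens) (hW : (W : Set G.left).Nonempty) :
    (LocallyQuasiFinite (W.ι ≫ u.left) → LocallyQuasiFinite u.left) ∧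
    (FormallyUnramified (W.ι ≫ u.left) → LocallyOfFinitePresentation (W.ι ≫ u.left) →
      FormallyUnramified u.left ∧ LocallyOfFinitePresentation u.left) ∧
    (Smooth (W.ι ≫ u.left) → Smooth u.left) ∧ (Etale (W.ι ≫ u.left) → Etale u.left) := by
  obtain ⟨x, hx⟩ := hW
  have hpt : Subsingleton ↥(Spec (CommRingCat.of A)) :=
    ⟨fun a b => PrimeSpectrum.ext ((IsLocalRing.eq_maximalIdeal (IsArtinianRing.isMaximal_of_isPrime a.asIdeal)).trans
      (IsLocalRing.eq_maximalIdeal (IsArtinianRing.isMaximal_of_isPrime b.asIdeal)).symm)⟩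
  haveI : IsNoetherianRing (CommRingCat.of A) := inferInstanceAs (IsNoetherianRing A)
  haveI : LocallyOfFinitePresentation G.hom := inferInstance
  haveI : LocallyOfFiniteType (u.left ≫ H.hom) := by rw [Over.w u]; infer_instance
  haveI : LocallyOfFiniteType u.left := locallyOfFiniteType_of_comp u.left H.hom
  have all : ∀ (P : MorphismProperty Scheme.{u}), Agent.GrpSchLib.Saturate.IsCompat (Agent.GrpSchLib.Loci.loc P)
      Agent.GrpSchLib.Loci.FL → P (W.ι ≫ u.left) → ∀ y, y ∈ Agent.GrpSchLib.Loci.loc P u.left :=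
    fun P hP hPW y => Agent.GrpSchLib.Saturate.saturated (Agent.GrpSchLib.Saturate.homAction u) u
      (Agent.GrpSchLib.Saturate.equivariant_hom u) hP ⟨‹Flat G.hom›, ‹_›⟩ ⟨W, hx, hPW⟩
      (Subsingleton.elim (α := ↥(Spec (CommRingCat.of A))) _ _)
  refine ⟨fun h => ?_, fun h h' => ?_, fun h => ?_, fun h => ?_⟩
  · refine Agent.GrpSchLib.Loci.of_forall_mem @LocallyQuasiFinite _ fun y => ?_
    obtain ⟨U, hy, hU, -⟩ := all _ Agent.GrpSchLib.Loci.compat_LQ ⟨h, inferInstance⟩ y
    exact ⟨U, hy, hU⟩
  · constructor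
    · refine Agent.GrpSchLib.Loci.of_forall_mem @FormallyUnramified _ fun y => ?_
      obtain ⟨U, hy, hU, -⟩ := all _ Agent.GrpSchLib.Loci.compat_UR ⟨h, h'⟩ y
      exact ⟨U, hy, hU⟩
    · refine Agent.GrpSchLib.Loci.of_forall_mem @LocallyOfFinitePresentation _ fun y => ?_
      obtain ⟨U, hy, -, hU⟩ := all _ Agent.GrpSchLib.Loci.compat_UR ⟨h, h'⟩ y
      exact ⟨U, hy, hU⟩
  · exact Agent.GrpSchLib.Loci.of_forall_mem @Smooth _ (all _ Agent.GrpSchLib.Loci.compat_smooth h)
  · exact Agent.GrpSchLib.Loci.of_forall_mem @Etale _ (all _ Agent.GrpSchLib.Loci.compat_etale h)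

end Groth.Agent.S5337
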