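import Groth.Statements.S4112
import Groth.Agent.GrpSchLib.PowEtale
import Groth.Agent.S5337
-- import your own Groth.Agent.* helpers here

set_option autoImplicit false
universe u
open CategoryTheory MonoidalCategory CartesianMonoidalCategory MonObj GrpObj AlgebraicGeometry CategoryTheory.Limits
open SGA3

namespace Groth.Agent.S4112

/-- Let G be a commutative algebraic group over a field k and n a natural number invertible in k. Then
the n-th power morphism G → G is etale. -/
theorem result (k : Type u) [Field k] (G : Over (Spec (CommRingCat.of k))) [GrpObj G]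
    [IsCommMonObj G] [LocallyOfFiniteType G.hom] [QuasiCompact G.hom] (n : ℕ) (hn : (n : k) ≠ 0) :
    Etale ((𝟙 G : G ⟶ G) ^ n).left := by
  obtain ⟨U, hU, hE⟩ := Agent.GrpSchLib.PowEtale.loc_etale (X := G) n hn
  haveI : IsMonHom ((𝟙 G : G ⟶ G) ^ n) :=
    { one_hom := by
        rw [MonObj.comp_pow, Category.comp_id]
        have : η[G] = 1 := by rw [Hom.one_def, toUnit_unique (toUnit (𝟙_ _)) (𝟙 _), Category.id_comp]
        rw [this, _root_.one_pow]
      mul_hom := by
        have h : μ[G] = fst G G * snd G G := by rw [Hom.mul_def, lift_fst_snd, Category.id_comp]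
        rw [h, MonObj.comp_pow, Category.comp_id, _root_.mul_pow, MonObj.comp_mul,
          tensorHom_fst, tensorHom_snd, MonObj.comp_pow, MonObj.comp_pow, Category.comp_id, Category.comp_id] }
  exact (S5337.result k G G ((𝟙 G : G ⟶ G) ^ n) U ⟨_, hU⟩).2.2.2 hE

end Groth.Agent.S4112
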