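import Groth.Statements.S14580
import Mathlib.AlgebraicGeometry.Morphisms.Proper
import Mathlib.AlgebraicGeometry.PullbackCarrier
import Mathlib.AlgebraicGeometry.Noetherian
import Mathlib.RingTheory.Polynomial.Basic
import Mathlib.FieldTheory.Minpoly.Field


set_option autoImplicit false
universe u
open CategoryTheory MonoidalCategory CartesianMonoidalCategory MonObj GrpObj AlgebraicGeometry CategoryTheory.Limits
open AlgGrp

namespace Groth.Agent.S14580

/-- Let k be a field, G a proper k-group scheme of finite type and N ⊆ G the kernel of the affinization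
morphism G → Spec O(G), i.e. the fibre over the image of the unit section (the largest anti-affine
subgroup scheme of G). Then the image of N in G is the connected component of the identity: as N is
smooth, N is the reduced neutral component G⁰_red, which is therefore a smooth connected algebraic
group. -/
theorem result (k : Type u) [Field k]
    (G : Over (Spec (CommRingCat.of k))) [GrpObj G] [IsProper G.hom] (t : ↥((𝟙_ (Over (Spec (CommRingCat.of k)))).left)) :
    Set.range ⇑(pullback.fst G.left.toSpecΓ (η[G].left ≫ G.left.toSpecΓ)).base = connectedComponent ((η[G]).left.base t) := by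
  classical
  set X := G.left
  let p₀ := (η[G]).left t
  haveI : IsLocallyNoetherian X := LocallyOfFiniteType.isLocallyNoetherian G.hom
  haveI : CompactSpace X := (quasiCompact_iff_compactSpace G.hom).mp inferInstance
  haveI : IsNoetherian X := ⟨⟩
  haveI : Subsingleton ↥((𝟙_ (Over (Spec (CommRingCat.of k)))).left) :=
    inferInstanceAs (Subsingleton (PrimeSpectrum k))
  have hC : IsClopen (connectedComponent p₀) := by
    refine ⟨isClosed_connectedComponent, ?_⟩
    have hfin := TopologicalSpace.NoetherianSpace.finite_irreducibleComponents (α := X)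
    have : (connectedComponent p₀)ᶜ = ⋃ Z ∈ irreducibleComponents X \ {Z | Z ⊆ connectedComponent p₀}, Z := by
      ext y
      simp only [Set.mem_compl_iff, Set.mem_iUnion, Set.mem_diff, Set.mem_ofPred_eq, exists_prop]
      refine ⟨fun hy => ⟨irreducibleComponent y, ⟨irreducibleComponent_mem_irreducibleComponents y,
        fun h => hy (h mem_irreducibleComponent)⟩, mem_irreducibleComponent⟩, ?_⟩
      rintro ⟨Z, ⟨hZ, hne⟩, hyZ⟩ hy
      exact hne ((connectedComponent_eq hy).symm ▸ hZ.1.isPreirreducible.isPreconnected.subset_connectedComponent hyZ)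
    rw [← isClosed_compl_iff, this]
    exact (hfin.subset Set.diff_subset).isClosed_biUnion fun Z hZ => isClosed_of_mem_irreducibleComponents Z hZ.1
  rw [Scheme.Pullback.range_fst]
  have hrange : Set.range (η[G].left ≫ X.toSpecΓ) = {X.toSpecΓ p₀} := by
    ext q
    refine ⟨?_, fun h => ⟨t, h.symm⟩⟩
    rintro ⟨s, rfl⟩
    rw [Subsingleton.elim s t]
    rfl
  rw [hrange]
  have hb : ∀ (f : Γ(X, ⊤)) (x : X), x ∈ X.basicOpen f ↔ f ∉ (X.toSpecΓ x).asIdeal := fun f x => by
    rw [← X.toSpecΓ_preimage_basicOpen f]; rfl
  ext y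
  simp only [Set.mem_preimage, Set.mem_singleton_iff]
  constructor
  · intro hy
    by_contra hyC
    let U : Bool → X.Opens := fun b => if b then ⟨_, hC.isOpen⟩ else ⟨_, hC.compl.isOpen⟩
    let sf : ∀ b, Γ(X, U b) := fun b => if b then 1 else 0
    have hcov : (⊤ : X.Opens) ≤ iSup U := fun x _ => TopologicalSpace.Opens.mem_iSup.mpr
      (if hx : x ∈ connectedComponent p₀ then ⟨true, hx⟩ else ⟨false, hx⟩)
    obtain ⟨e, he, -⟩ := X.sheaf.existsUnique_gluing' U ⊤ (fun b => homOfLE le_top) hcov sf (fun i j => by
      by_cases hij : i = j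
      · subst hij; rfl
      · have : U i ⊓ U j = ⊥ := by
          ext x
          cases i <;> cases j <;> simp_all [U]
        have : Subsingleton Γ(X, U i ⊓ U j) := by rw [this]; infer_instance
        exact Subsingleton.elim (α := Γ(X, U i ⊓ U j)) _ _)
    have h1 : p₀ ∈ X.basicOpen e := by
      rw [Scheme.mem_basicOpen_top, ← X.presheaf.germ_res_apply (homOfLE le_top : U true ⟶ ⊤) p₀ mem_connectedComponent e]
      rw [show X.presheaf.map (homOfLE le_top : U true ⟶ ⊤).op e = 1 from he true, map_one]
      exact isUnit_one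
    have h2 : y ∉ X.basicOpen e := by
      rw [Scheme.mem_basicOpen_top, ← X.presheaf.germ_res_apply (homOfLE le_top : U false ⟶ ⊤) y hyC e]
      intro h
      have he0 : X.presheaf.map (homOfLE le_top : U false ⟶ ⊤).op e = 0 := he false
      rw [he0, map_zero] at h
      exact not_isUnit_zero h
    rw [hb] at h1 h2
    rw [hy] at h2
    exact h2 h1
  · intro hy
    apply PrimeSpectrum.ext
    ext f
    let φ := ((Scheme.ΓSpecIso (CommRingCat.of k)).inv ≫ G.hom.appTop).hom
    have hφ : φ.IsIntegral := RingHom.IsIntegral.trans _ _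
      (RingHom.isIntegral_of_surjective _ (ConcreteCategory.bijective_of_isIso (Scheme.ΓSpecIso (CommRingCat.of k)).inv).2)
      (isIntegral_appTop_of_universallyClosed G.hom)
    obtain ⟨m, hm, hm0⟩ := hφ f
    obtain ⟨g, hg, hg0⟩ := m.exists_eq_pow_rootMultiplicity_mul_and_not_dvd hm.ne_zero 0
    set c := g.eval₂ φ f
    have hne : g.coeff 0 ≠ 0 := by
      intro h0
      exact hg0 (by simpa using Polynomial.X_dvd_iff.2 h0)
    have hfc : f ^ m.rootMultiplicity 0 * c = 0 := by
      rw [hg] at hm0
      simpa [c] using hm0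
    have hdis : ∀ x : X, x ∈ X.basicOpen f → x ∉ X.basicOpen c := by
      intro x h1 h2
      rw [hb] at h1 h2
      rcases (X.toSpecΓ x).isPrime.mem_or_mem (hfc ▸ (X.toSpecΓ x).asIdeal.zero_mem) with h | h
      · exact h1 ((X.toSpecΓ x).isPrime.mem_of_pow_mem _ h)
      · exact h2 h
    have hcovfc : ∀ x : X, x ∈ X.basicOpen f ∨ x ∈ X.basicOpen c := by
      intro x
      by_contra h
      push Not at h
      rw [hb, hb] at h
      have hf' : f ∈ (X.toSpecΓ x).asIdeal := not_not.1 h.1
      have hc' : c ∈ (X.toSpecΓ x).asIdeal := not_not.1 h.2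
      have hc2 : c = f * g.divX.eval₂ φ f + φ (g.coeff 0) := by
        have := congrArg (Polynomial.eval₂ φ f) g.X_mul_divX_add
        rw [Polynomial.eval₂_add, Polynomial.eval₂_mul, Polynomial.eval₂_X, Polynomial.eval₂_C] at this
        exact this.symm
      rw [hc2, Ideal.add_mem_iff_right _ (Ideal.mul_mem_right _ _ hf')] at hc'
      exact (X.toSpecΓ x).isPrime.ne_top (Ideal.eq_top_of_isUnit_mem _ hc' ((IsUnit.mk0 _ hne).map φ))
    have hclopen : IsClopen (X.basicOpen f : Set X) := by
      refine ⟨?_, (X.basicOpen f).isOpen⟩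
      have : (X.basicOpen f : Set X) = (X.basicOpen c : Set X)ᶜ := by
        ext x
        exact ⟨hdis x, fun h => (hcovfc x).resolve_right h⟩
      rw [this]
      exact (X.basicOpen c).isOpen.isClosed_compl
    have key : p₀ ∈ X.basicOpen f ↔ y ∈ X.basicOpen f := by
      constructor
      · exact fun h => hclopen.connectedComponent_subset h hy
      · exact fun h => hclopen.connectedComponent_subset h ((connectedComponent_eq hy).symm ▸ mem_connectedComponent)
    rw [hb, hb] at key
    exact not_iff_not.1 key.symm

end Groth.Agent.S14580
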