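import Groth.Statements.S11412
import Groth.Agent.GrpSchLib.AntiAffineSmoothAny
import Groth.Agent.GrpSchLib.AntiAffineBC


set_option autoImplicit false
universe u
open CategoryTheory MonoidalCategory CartesianMonoidalCategory MonObj GrpObj AlgebraicGeometry CategoryTheory.Limits
open AlgGrp

namespace Groth.Agent.S11412

/-- Over an algebraically closed field k, let G be a k-group scheme of finite type whose only global
functions are the constants. Then G is reduced, i.e. smooth over k, and for every closed subgroup
scheme H of G and every quotient G/H (a k-scheme X of locally finite type with a G-action and a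
rational point o whose orbit map is flat and surjective and identifies G × H with G ×_X G), the only
global functions on X are the constants. (The published statement also records that G is connected
and commutative.) -/
theorem result (k : Type u) [Field k] [IsAlgClosed k]
    (G : Over (Spec (CommRingCat.of k))) [GrpObj G] [LocallyOfFiniteType G.hom] [QuasiCompact G.hom]
    (hG : Function.Bijective ((Scheme.ΓSpecIso (CommRingCat.of k)).inv ≫ G.hom.appTop).hom) :
    Smooth G.hom ∧
      ∀ (H : Over (Spec (CommRingCat.of k))) [GrpObj H] (h : H ⟶ G) [IsMonHom h] [IsClosedImmersion h.left]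
        (X : Over (Spec (CommRingCat.of k))) (a : AlgGrp.Action G X) (o : 𝟙_ (Over (Spec (CommRingCat.of k))) ⟶ X), AGF.IsQuotient h X a o →
        Function.Bijective ((Scheme.ΓSpecIso (CommRingCat.of k)).inv ≫ X.hom.appTop).hom := by
  have hG' := (Groth.Agent.GrpSchLib.AntiAffine.bijective_appTop_iff G.hom).mp hG
  refine ⟨Groth.Agent.GrpSchLib.AntiAffineSmooth.smooth hG', ?_⟩
  intro H _ h _ _ X a o hq
  obtain ⟨-, hf, hs, -⟩ := hq
  haveI := hf
  haveI := hs
  rw [Groth.Agent.GrpSchLib.AntiAffine.bijective_appTop_iff]
  haveI : Epi (a.orbitMap o).left := Flat.epi_of_flat_of_surjective _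
  have hinj : Function.Injective (a.orbitMap o).left.appTop := Groth.Agent.GrpSchLib.AntiAffine.appTop_injective_of_epi _
  have hcomp : ∀ c, (a.orbitMap o).left.appTop (X.hom.appTop c) = G.hom.appTop c := fun c => by
    rw [← CommRingCat.comp_apply, ← Scheme.Hom.comp_appTop, Over.w (a.orbitMap o)]
  refine ⟨fun x y hxy => hG'.1 ?_, fun y => ?_⟩
  · rw [← hcomp, ← hcomp, hxy]
  · obtain ⟨c, hc⟩ := hG'.2 ((a.orbitMap o).left.appTop y)
    exact ⟨c, hinj ((hcomp c).trans hc)⟩

end Groth.Agent.S11412
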