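import Groth.Statements.S14600
import Groth.Agent.GrpSchLib.SemiabDescent
import Groth.Agent.GrpSchLib.CharPUnip
import Groth.Agent.GrpSchLib.AntiAffineHom
import Groth.Agent.S11412
-- import your own Groth.Agent.* helpers here

set_option autoImplicit false
set_option backward.isDefEq.respectTransparency.types false
set_option maxHeartbeats 1000000
universe u
open CategoryTheory MonoidalCategory CartesianMonoidalCategory MonObj GrpObj AlgebraicGeometry CategoryTheory.Limits
open AlgGrp

namespace Groth.Agent.S14600

/-- Let k be a field of characteristic p > 0 and G an anti-affine k-group scheme of finite type (O(G) =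
k). Then G is a semi-abelian variety: there are a closed subgroup scheme i : T → G with T a torus
and a flat surjective homomorphism q : G → A with kernel T onto a proper smooth connected k-group
scheme A. -/
theorem result (k : Type u) [Field k] (p : ℕ) [Fact p.Prime] [CharP k p]
    (G : Over (Spec (CommRingCat.of k))) [GrpObj G] [LocallyOfFiniteType G.hom] [QuasiCompact G.hom]
    (hG : Function.Bijective ((Scheme.ΓSpecIso (CommRingCat.of k)).inv ≫ G.hom.appTop).hom) :
    (∃ (T : Over (Spec (CommRingCat.of k))) (_ : GrpObj T) (i : T ⟶ G) (A : Over (Spec (CommRingCat.of k))) (_ : GrpObj A) (q : G ⟶ A),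
        IsMonHom i ∧ IsClosedImmersion i.left ∧ Red.IsTorus T ∧ IsMonHom q ∧ Surjective q.left ∧ Flat q.left ∧
        AlgGrp.IsKernel i q ∧ IsProper A.hom ∧ Smooth A.hom ∧ ConnectedSpace ↥A.left) := by
  let K := AlgebraicClosure k
  let σ := Spec.map (CommRingCat.ofHom (algebraMap k K))
  have hG' : Function.Bijective G.hom.appTop := by
    have h := hG
    rw [CommRingCat.hom_comp, RingHom.coe_comp] at h
    exact (Function.Bijective.of_comp_iff _ (ConcreteCategory.bijective_of_isIso (Scheme.ΓSpecIso (CommRingCat.of k)).inv)).mp h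
  obtain ⟨hl, hqc, hb⟩ := GrpSchLib.AntiAffine.bc_hyp hG' σ
  haveI := hl
  haveI := hqc
  have hbK : Function.Bijective ((Scheme.ΓSpecIso (CommRingCat.of K)).inv ≫ (Red.bc σ G).hom.appTop).hom := by
    rw [CommRingCat.hom_comp, RingHom.coe_comp]
    exact hb.comp (ConcreteCategory.bijective_of_isIso _)
  haveI : Smooth (Red.bc σ G).hom := (S11412.result K (Red.bc σ G) hbK).1
  haveI : CharP K p := charP_of_injective_algebraMap (algebraMap k K).injective p
  haveI : ConnectedSpace (Red.bc σ G).left := GrpSchLib.AntiAffine.connectedSpace_of_bijective hb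
  obtain ⟨T, _, i, A, _, q, hi, hic, hT, hq, hqs, hqf, hk, hA, hAs, hAc⟩ := GrpSchLib.CharPUnip.semiab p hbK
  haveI := hi; haveI := hic; haveI := hq; haveI := hqs; haveI := hqf; haveI := hA; haveI := hAs; haveI := hAc
  exact GrpSchLib.SemiabDescent.exists_semiab G i hT q hk

end Groth.Agent.S14600
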