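import Groth.Statements.S12442


set_option autoImplicit false
universe u
open Mor

namespace Groth.Agent.S12442

open AlgebraicGeometry CategoryTheory in
theorem locallyOfFinitePresentation_of_comp {X Y Z : Scheme.{u}} (f : X ⟶ Y) (g : Y ⟶ Z)
    [h : LocallyOfFinitePresentation (f ≫ g)] [hg : LocallyOfFiniteType g] :
    LocallyOfFinitePresentation f := by
  wlog hZ : IsAffine Z generalizing X Y Z
  · rw [IsZariskiLocalAtTarget.iff_of_iSup_eq_top (P := @LocallyOfFinitePresentation) _
      (g.iSup_preimage_eq_top (iSup_affineOpens_eq_top Z))]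
    intro U
    have H : LocallyOfFinitePresentation ((f ≫ g) ∣_ U.1) :=
      IsZariskiLocalAtTarget.restrict h U.1
    rw [morphismRestrict_comp] at H
    exact this (h := H) (hg := IsZariskiLocalAtTarget.restrict hg U.1) _ _ U.2
  wlog hY : IsAffine Y generalizing X Y
  · rw [IsZariskiLocalAtTarget.iff_of_iSup_eq_top (P := @LocallyOfFinitePresentation) _
      (iSup_affineOpens_eq_top Y)]
    intro U
    have H : LocallyOfFinitePresentation ((f ⁻¹ᵁ U.1).ι ≫ f ≫ g) :=
      HasRingHomProperty.comp_of_isOpenImmersion (P := @LocallyOfFinitePresentation) _ _ h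
    rw [← morphismRestrict_ι_assoc] at H
    exact this (h := H) (hg := HasRingHomProperty.comp_of_isOpenImmersion (P := @LocallyOfFiniteType) _ _ hg) _ _ U.2
  wlog hX : IsAffine X generalizing X
  · rw [IsZariskiLocalAtSource.iff_of_iSup_eq_top (P := @LocallyOfFinitePresentation) _
      (iSup_affineOpens_eq_top X)]
    intro U
    have H : LocallyOfFinitePresentation ((U.1.ι ≫ f) ≫ g) := by
      rw [Category.assoc]
      exact HasRingHomProperty.comp_of_isOpenImmersion (P := @LocallyOfFinitePresentation) _ _ h
    exact this (h := H) _ U.2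
  rw [HasRingHomProperty.iff_of_isAffine (P := @LocallyOfFinitePresentation)] at h ⊢
  rw [Scheme.Hom.comp_appTop, CommRingCat.hom_comp] at h
  exact RingHom.FinitePresentation.of_comp_finiteType _ h (HasRingHomProperty.appTop (P := @LocallyOfFiniteType) _ hg)

open AlgebraicGeometry CategoryTheory in
/-- Let f : X → Y and g : Y → S be morphisms of schemes. If the composite X → S is locally of finite
presentation and g is locally of finite type, then f is locally of finite presentation. -/
theorem result {X Y S : Scheme.{u}} (f : X ⟶ Y) (g : Y ⟶ S)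
    [LocallyOfFinitePresentation (f ≫ g)] [LocallyOfFiniteType g] :
    LocallyOfFinitePresentation f := by
  exact locallyOfFinitePresentation_of_comp f g

end Groth.Agent.S12442
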