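import Groth.Statements.S1842
import Groth.Agent.AVDegLib.MulN
-- import your own Groth.Agent.* helpers here

set_option autoImplicit false
universe u v
open CategoryTheory MonoidalCategory CartesianMonoidalCategory MonObj GrpObj AlgebraicGeometry
open GrpSch

namespace Groth.Agent.S1842

/-- Let A be an abelian variety of dimension g over a field (a proper, geometrically integral group
scheme) and d a nonzero integer. Multiplication by d (the d-th power of the identity in the group
Hom(A, A)) is finite and flat, and its rank function is constant with value d^(2g). (The source
writes no hypothesis on d; d = 0 is excluded here since the constant map is not finite in positive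
dimension.) -/
theorem result (K : Type u) [Field K] (A : Over (Spec (CommRingCat.of K))) [GrpObj A] [IsProper A.hom] [GeometricallyIntegral A.hom] (g : ℕ) (hg : topologicalKrullDim A.left = g) (d : ℤ) (hd : d ≠ 0) : IsFinite (𝟙 A ^ d).left ∧ Flat (𝟙 A ^ d).left ∧ ∀ a : A.left, Scheme.Hom.finrank (𝟙 A ^ d).left a = d.natAbs ^ (2 * g) := by
  exact ⟨(AVDegLib.zpow_props (A := A) d hd).1, (AVDegLib.zpow_props (A := A) d hd).2.1,
    fun a => AVDegLib.finrank_zpow hg d hd a⟩

end Groth.Agent.S1842
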