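import Groth.Statements.S8392
import Groth.Agent.DSPtsLib.Basic
import Groth.Agent.FpqcDescLib.Basic

set_option autoImplicit false
universe u
open CategoryTheory MonoidalCategory CartesianMonoidalCategory MonObj GrpObj AlgebraicGeometry
open SGA3x

namespace Groth.Agent.S8392

/-- Let H be an S-group scheme of multiplicative type. Then every homomorphism of S-groups H → 𝔾_a is
trivial. (Stated for H of multiplicative type and of finite type, the class of multiplicative groups
available here; the published statement allows any group of multiplicative type.) -/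
theorem result (S : Scheme.{u}) (H : Over S) [GrpObj H] (hH : SGA3x.IsMultTypeFT H)
    (u : H ⟶ Red.Ga S) [IsMonHom u] : u = 1 := by
  obtain ⟨S', f, hflat, hsurj, hqc, hloc⟩ := hH
  choose U hUmem M hM _ hiso using hloc
  have hcov : FpqcDescLib.Covers f :=
    FpqcDescLib.covers_of_hcov f ⟨S', f, 𝟙 _, Category.id_comp _, hsurj, hflat, hqc⟩
  have hp : FpqcDescLib.Covers (Limits.pullback.fst H.hom f) :=
    hcov.pullback H.hom _ (Limits.pullback.snd H.hom f) (IsPullback.of_hasPullback H.hom f)
  have := hp.epi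
  let 𝒰 : S'.OpenCover := Scheme.openCoverOfIsOpenCover S' U
    (TopologicalSpace.Opens.ext (Set.eq_univ_of_forall fun s => by
      simp only [TopologicalSpace.Opens.coe_iSup, Set.mem_iUnion]
      exact ⟨s, hUmem s⟩))
  refine Over.OverMorphism.ext ((cancel_epi (Limits.pullback.fst H.hom f)).mp
    (Scheme.Cover.hom_ext (Scheme.Pullback.openCoverOfRight 𝒰 H.hom f) _ _ fun (s : S') => ?_))
  have hfst : (Scheme.Pullback.openCoverOfRight 𝒰 H.hom f).f s ≫ Limits.pullback.fst H.hom f =
      (DSPtsLib.theta ((U s).ι ≫ f) (𝟙 (Red.bc ((U s).ι ≫ f) H))).left := by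
    rw [DSPtsLib.theta_left, Over.id_left]
    exact (Limits.pullback.lift_fst _ _ _).trans rfl
  rw [reassoc_of% hfst, reassoc_of% hfst]
  obtain ⟨e⟩ := hiso s
  have key : DSPtsLib.theta ((U s).ι ≫ f) e.inv.hom.hom ≫ u = 1 := by
    refine DSPtsLib.eq_one_of_additive _ fun Y a b => ?_
    rw [← Category.assoc, ← DSPtsLib.theta_comp, MonObj.mul_comp, DSPtsLib.theta_mul]
    refine (MonObj.mul_comp _ _ u).trans ?_
    rw [DSPtsLib.theta_comp, DSPtsLib.theta_comp, Category.assoc, Category.assoc]
  have h1 : DSPtsLib.theta ((U s).ι ≫ f) (𝟙 (Red.bc ((U s).ι ≫ f) H)) ≫ u =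
      DSPtsLib.theta ((U s).ι ≫ f) (𝟙 (Red.bc ((U s).ι ≫ f) H)) ≫ 1 := by
    rw [← show e.hom.hom.hom ≫ e.inv.hom.hom = 𝟙 (Red.bc ((U s).ι ≫ f) H) from
      congrArg (fun h => h.hom.hom) e.hom_inv_id, DSPtsLib.theta_comp, Category.assoc, key,
      MonObj.comp_one, MonObj.comp_one]
  exact congrArg CommaMorphism.left h1

end Groth.Agent.S8392
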