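import Groth.Statements.S5332

set_option autoImplicit false
universe u
open CategoryTheory CategoryTheory.Limits MonoidalCategory CartesianMonoidalCategory MonObj GrpObj AlgebraicGeometry
open SGA3

namespace Groth.Agent.S5332

variable {S : Scheme.{u}} {G X : Over S}

lemma one_point_act [GrpObj G] (a : AlgGrp.Action G X) {T : Over S} (x : T ⟶ X) :
    lift (1 : T ⟶ G) x ≫ a.act = x := by
  have h : lift (1 : T ⟶ G) x = lift (toUnit T) x ≫ (η[G] ▷ X) := by
    rw [lift_whiskerRight, Hom.one_def]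
  rw [h, Category.assoc, a.one_act, lift_leftUnitor_hom]

lemma mul_point_act [GrpObj G] (a : AlgGrp.Action G X) {T : Over S} (g g' : T ⟶ G) (x : T ⟶ X) :
    lift (g * g') x ≫ a.act = lift g (lift g' x ≫ a.act) ≫ a.act := by
  have h : lift (g * g') x = lift (lift g g') x ≫ (μ[G] ▷ X) := by
    rw [lift_whiskerRight, Hom.mul_def]
  rw [h, Category.assoc, a.mul_act]
  simp [lift_lift_associator_hom_assoc, lift_whiskerLeft_assoc]

lemma inv_point_act [GrpObj G] (a : AlgGrp.Action G X) {T : Over S} (g : T ⟶ G) (x : T ⟶ X) :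
    lift g⁻¹ (lift g x ≫ a.act) ≫ a.act = x := by
  rw [← mul_point_act, inv_mul_cancel, one_point_act]

/-- A point with values in a field lying on the diagonal has equal coordinates. -/
lemma eq_of_mem_range_diag {K : Type u} [Field K] {t : Spec (CommRingCat.of K) ⟶ S}
    (P : Over.mk t ⟶ X ⊗ X) (w : ↥(Spec (CommRingCat.of K)))
    (h : P.left w ∈ Set.range (lift (𝟙 X) (𝟙 X)).left) :
    P ≫ fst X X = P ≫ snd X X := by
  obtain ⟨b, hb⟩ := h
  set Δ : X.left ⟶ (X ⊗ X).left := (lift (𝟙 X) (𝟙 X)).left with hΔ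
  have : IsPreimmersion Δ := by
    have : IsPreimmersion (pullback.diagonal X.hom) := inferInstance
    exact this
  have hP : ∃ r : Spec (CommRingCat.of K) ⟶ X.left, r ≫ Δ = P.left := by
    obtain ⟨⟨p, φ⟩, hp⟩ := (Scheme.SpecToEquivOfField K (X ⊗ X).left).symm.surjective P.left
    simp only [Scheme.SpecToEquivOfField, Equiv.coe_fn_symm_mk] at hp
    have hpb : p = Δ b := by
      rw [hb, ← hp]
      simp [Scheme.fromSpecResidueField_apply]
    subst hpb
    have : IsIso (Δ.residueFieldMap b) := by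
      rw [ConcreteCategory.isIso_iff_bijective]
      refine ⟨RingHom.injective (Δ.residueFieldMap b).hom, ?_⟩
      have h : Function.Surjective (Δ.stalkMap b ≫ X.left.residue b).hom := by
        rw [CommRingCat.hom_comp, RingHom.coe_comp]
        exact (X.left.residue_surjective b).comp (Δ.stalkMap_surjective b)
      rw [← Scheme.residue_residueFieldMap, CommRingCat.hom_comp, RingHom.coe_comp] at h
      exact Function.Surjective.of_comp h
    refine ⟨Spec.map φ ≫ inv (Spec.map (Δ.residueFieldMap b)) ≫ X.left.fromSpecResidueField b, ?_⟩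
    rw [← hp]
    simp only [Category.assoc]
    rw [← Scheme.Hom.SpecMap_residueFieldMap_fromSpecResidueField, IsIso.inv_hom_id_assoc]
  obtain ⟨r, hr⟩ := hP
  refine Over.OverMorphism.ext ?_
  rw [Over.comp_left, Over.comp_left, ← hr, Category.assoc, Category.assoc, hΔ, ← Over.comp_left,
    ← Over.comp_left, lift_fst, lift_snd]

lemma fibre_field {X₀ S₀ : Scheme.{u}} (f : X₀ ⟶ S₀) (s : S₀) {K : Type u} [Field K]
    (φ : Spec (CommRingCat.of K) ⟶ Spec (S₀.residueField s))
    [LocallyOfFiniteType (f.fiberToSpecResidueField s)] (U : X₀.Opens)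
    (hU : f ⁻¹' {s} ⊆ closure ((U : Set X₀) ∩ f ⁻¹' {s})) :
    LocallyOfFiniteType (pullback.snd f (φ ≫ S₀.fromSpecResidueField s)) ∧
      Dense ((pullback.fst f (φ ≫ S₀.fromSpecResidueField s)) ⁻¹' (U : Set X₀)) := by
  let e := pullbackLeftPullbackSndIso f (S₀.fromSpecResidueField s) φ
  have hsnd : pullback.snd f (φ ≫ S₀.fromSpecResidueField s) =
      e.inv ≫ pullback.snd (f.fiberToSpecResidueField s) φ := by
    rw [Iso.eq_inv_comp]
    exact pullbackLeftPullbackSndIso_hom_snd _ _ _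
  have hfst : pullback.fst f (φ ≫ S₀.fromSpecResidueField s) =
      e.inv ≫ pullback.fst (f.fiberToSpecResidueField s) φ ≫ f.fiberι s := by
    rw [Iso.eq_inv_comp]
    exact pullbackLeftPullbackSndIso_hom_fst _ _ _
  refine ⟨?_, ?_⟩
  · rw [hsnd]
    haveI : LocallyOfFiniteType (pullback.snd (f.fiberToSpecResidueField s) φ) := inferInstance
    exact MorphismProperty.comp_mem _ _ _ inferInstance this
  · have h1 : Dense ((f.fiberι s) ⁻¹' (U : Set X₀)) := by
      intro y
      rw [(f.fiberι s).isEmbedding.isInducing.closure_eq_preimage_closure_image,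
        Set.mem_preimage, Set.image_preimage_eq_inter_range, Scheme.Hom.range_fiberι]
      apply hU
      rw [← Scheme.Hom.range_fiberι]
      exact ⟨y, rfl⟩
    have h2 := h1.preimage (pullback.fst (f.fiberToSpecResidueField s) φ).isOpenMap
    have h3 := h2.preimage e.inv.homeomorph.isOpenMap
    rw [hfst]
    exact h3

/-- Translations act transitively enough: the translates into a dense open form a dense open. -/
lemma dense_orbit_preimage [GrpObj G] [LocallyOfFinitePresentation G.hom] (a : AlgGrp.Action G X)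
    (hΦ : Surjective (lift a.act (snd G X)).left) {K : Type u} [Field K] [IsAlgClosed K]
    {t : Spec (CommRingCat.of K) ⟶ S} (hX : LocallyOfFiniteType (snd X (Over.mk t)).left)
    (x : Over.mk t ⟶ X) {U : X.left.Opens}
    (hU : Dense ((fst X (Over.mk t)).left ⁻¹' (U : Set X.left))) :
    Dense ((lift (fst G (Over.mk t)) (snd G (Over.mk t) ≫ x) ≫ a.act).left ⁻¹' (U : Set X.left)) := by
  let T : Over S := Over.mk t
  let F : G ⊗ T ⟶ X ⊗ T := lift (lift (fst G T) (snd G T ≫ x) ≫ a.act) (snd G T)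
  have hpb : IsPullback (G ◁ x) F (lift a.act (snd G X)) (X ◁ x) := by
    refine IsPullback.of_isLimit' ⟨?_⟩ ?_
    · refine CartesianMonoidalCategory.hom_ext _ _ ?_ ?_
      · simp only [F, T, Category.assoc, lift_fst, whiskerLeft_fst]
        congr 1
      · simp [F, T]
    · refine PullbackCone.IsLimit.mk _
        (fun c => lift (c.fst ≫ fst G X) (c.snd ≫ snd X T)) ?_ ?_ ?_
      · intro c
        refine CartesianMonoidalCategory.hom_ext _ _ ?_ ?_
        · simp
        · simpa using (congrArg (· ≫ snd X X) c.condition).symm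
      · intro c
        have h1 := congrArg (· ≫ fst X X) c.condition
        have h2 := congrArg (· ≫ snd X X) c.condition
        simp only [Category.assoc, lift_fst, lift_snd, whiskerLeft_fst, whiskerLeft_snd] at h1 h2
        refine CartesianMonoidalCategory.hom_ext _ _ ?_ ?_
        · simp only [F, Category.assoc, lift_fst, comp_lift_assoc, lift_fst, lift_snd_assoc]
          rw [← h1]
          congr 1
          refine CartesianMonoidalCategory.hom_ext _ _ ?_ ?_ <;> simp [h2, T]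
        · simp [F, T]
      · intro c m hm1 hm2
        refine CartesianMonoidalCategory.hom_ext _ _ ?_ ?_
        · rw [lift_fst, ← hm1]; simp
        · rw [lift_snd, ← hm2]; simp [F, T]
  have hF : Surjective F.left :=
    MorphismProperty.of_isPullback (P := @Surjective) (hpb.map (Over.forget S)) hΦ
  let pG : (G ⊗ T).left ⟶ Spec (CommRingCat.of K) := (snd G T).left
  let pX : (X ⊗ T).left ⟶ Spec (CommRingCat.of K) := (snd X T).left
  haveI : LocallyOfFiniteType pX := hX
  haveI : LocallyOfFiniteType pG := by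
    change LocallyOfFiniteType (pullback.snd G.hom t)
    infer_instance
  haveI : IsLocallyNoetherian (X ⊗ T).left := LocallyOfFiniteType.isLocallyNoetherian pX
  haveI : JacobsonSpace ↥(G ⊗ T).left := LocallyOfFiniteType.jacobsonSpace pG
  -- closed points of `G ⊗ T` are points of `G`
  have pt : ∀ q ∈ closedPoints ↥(G ⊗ T).left, ∃ g : T ⟶ G, ∀ w : ↥(Spec (CommRingCat.of K)),
      (lift g (𝟙 T)).left w = q := by
    intro q hq
    let σ : T ⟶ G ⊗ T := Over.homMk (pointOfClosedPoint pG q hq) (by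
      rw [← Over.w (snd G T)]
      exact (Category.assoc _ _ _).symm.trans
        ((congrArg (· ≫ t) (pointOfClosedPoint_comp pG q hq)).trans (Category.id_comp _)))
    refine ⟨σ ≫ fst G T, fun w => ?_⟩
    have hσ : lift (σ ≫ fst G T) (𝟙 T) = σ := by
      have h2 : σ ≫ snd G T = 𝟙 T := Over.OverMorphism.ext (pointOfClosedPoint_comp pG q hq)
      conv_lhs => rw [← h2]
      rw [← comp_lift, lift_fst_snd, Category.comp_id]
    rw [hσ]
    exact pointOfClosedPoint_apply pG q hq w
  let w₀ : ↥(Spec (CommRingCat.of K)) := IsLocalRing.closedPoint K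
  -- an irreducible open of `X ⊗ T` and its generic point
  obtain ⟨η₀, W₀, hW₀o, hW₀ne, hη₀⟩ : ∃ η₀ : ↥(X ⊗ T).left, ∃ W₀ : Set ↥(X ⊗ T).left,
      IsOpen W₀ ∧ W₀.Nonempty ∧ ∀ O : Set ↥(X ⊗ T).left, IsOpen O → (O ∩ W₀).Nonempty → η₀ ∈ O := by
    let p₀ : ↥(X ⊗ T).left := (lift x (𝟙 T)).left w₀
    obtain ⟨V, hV, hpV, -⟩ :=
      (X ⊗ T).left.isBasis_affineOpens.exists_subset_of_mem_open (Set.mem_univ p₀) isOpen_univ
    obtain ⟨V, hVaff, rfl⟩ := hV
    haveI : IsNoetherianRing Γ((X ⊗ T).left, V) :=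
      IsLocallyNoetherian.component_noetherian ⟨V, hVaff⟩
    haveI : TopologicalSpace.NoetherianSpace (V : Set ↥(X ⊗ T).left) := by
      have e := hVaff.isoSpec.inv.homeomorph
      exact (noetherianSpace_of_isAffineOpen V hVaff)
    let Z : Set (V : Set ↥(X ⊗ T).left) := irreducibleComponent (⟨p₀, hpV⟩ : (V : Set ↥(X ⊗ T).left))
    obtain ⟨o, ho, hone, hoZ⟩ :=
      TopologicalSpace.NoetherianSpace.exists_isOpen_nonempty_subset_irreducibleComponent Z
        (irreducibleComponent_mem_irreducibleComponents _)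
    let v : ((V : Set ↥(X ⊗ T).left) : Type u) → ↥(X ⊗ T).left := fun y => y.1
    have hZ : IsIrreducible (v '' Z) :=
      isIrreducible_irreducibleComponent.image _ continuous_subtype_val.continuousOn
    refine ⟨hZ.genericPoint, Subtype.val '' o, V.isOpen.isOpenMap_subtype_val o ho,
      hone.image _, fun O hO hOo => ?_⟩
    refine (IsGenericPoint.mem_open_set_iff hZ.isGenericPoint_genericPoint_closure hO).mpr ?_
    obtain ⟨z, hz1, hz2⟩ := hOo
    exact ⟨z, subset_closure (Set.image_mono hoZ hz2), hz1⟩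
  change Dense ((lift (fst G T) (snd G T ≫ x) ≫ a.act).left ⁻¹' (U : Set X.left))
  rw [dense_iff_inter_open]
  intro Ω hΩ hΩne
  obtain ⟨v, hv⟩ := hF.surj η₀
  obtain ⟨q, hqv, hq⟩ := nonempty_inter_closedPoints (Z := closure {v})
    ⟨v, subset_closure rfl⟩ isClosed_closure.isLocallyClosed
  obtain ⟨p, hpΩ, hp⟩ := nonempty_inter_closedPoints hΩne hΩ.isLocallyClosed
  obtain ⟨gq, hgq⟩ := pt q hq
  obtain ⟨gp, hgp⟩ := pt p hp
  let h : T ⟶ G := gq * gp⁻¹
  let L : (T ⟶ G) → (G ⊗ T ⟶ G ⊗ T) := fun k => lift ((snd G T ≫ k) * fst G T) (snd G T)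
  let A : (T ⟶ G) → (X ⊗ T ⟶ X ⊗ T) := fun k =>
    lift (lift (snd X T ≫ k) (fst X T) ≫ a.act) (snd X T)
  have hLL : ∀ k : T ⟶ G, L k ≫ L k⁻¹ = 𝟙 _ := by
    intro k
    refine CartesianMonoidalCategory.hom_ext _ _ ?_ ?_
    · simp only [L, Category.assoc, lift_fst, lift_snd, lift_snd_assoc, MonObj.comp_mul,
        GrpObj.comp_inv, inv_mul_cancel_left, Category.id_comp]
    · simp [L]
  have hAA : ∀ k : T ⟶ G, A k ≫ A k⁻¹ = 𝟙 _ := by
    intro k
    refine CartesianMonoidalCategory.hom_ext _ _ ?_ ?_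
    · simp only [A, Category.assoc, lift_fst, Category.id_comp, comp_lift_assoc, lift_snd_assoc,
        GrpObj.comp_inv]
      exact inv_point_act a _ _
    · simp [A]
  have hLA : ∀ k : T ⟶ G, L k ≫ F = F ≫ A k := by
    intro k
    refine CartesianMonoidalCategory.hom_ext _ _ ?_ ?_
    · simp only [L, A, F, Category.assoc, lift_fst, comp_lift_assoc, lift_snd_assoc, lift_snd]
      exact mul_point_act a _ _ _
    · simp [L, A, F]
  let eL : (G ⊗ T).left ≅ (G ⊗ T).left :=
    (Over.forget S).mapIso ⟨L h, L h⁻¹, hLL h, by simpa using hLL h⁻¹⟩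
  let eA : (X ⊗ T).left ≅ (X ⊗ T).left :=
    (Over.forget S).mapIso ⟨A h, A h⁻¹, hAA h, by simpa using hAA h⁻¹⟩
  have hpq : eL.hom p = q := by
    have h1 : lift gp (𝟙 T) ≫ L h = lift gq (𝟙 T) := by
      refine CartesianMonoidalCategory.hom_ext _ _ ?_ ?_
      · simp [L, h, MonObj.comp_mul, GrpObj.comp_inv]
      · simp [L]
    rw [← hgp w₀, ← hgq w₀, ← h1]
    rfl
  have hvΩ : v ∈ eL.hom '' Ω := by
    have ho : IsOpen (eL.hom '' Ω) := eL.hom.isOpenMap _ hΩ
    obtain ⟨v', hv'1, hv'2⟩ := mem_closure_iff.mp hqv _ ho ⟨p, hpΩ, hpq⟩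
    rwa [Set.mem_singleton_iff.mp hv'2] at hv'1
  obtain ⟨v', hv'Ω, hv'⟩ := hvΩ
  refine ⟨v', hv'Ω, ?_⟩
  let UT : Set ↥(X ⊗ T).left := (fst X T).left ⁻¹' (U : Set X.left)
  have hUTo : IsOpen UT := U.isOpen.preimage (fst X T).left.continuous
  have hη : η₀ ∈ eA.hom '' UT := by
    refine hη₀ _ (eA.hom.isOpenMap _ hUTo) ?_
    obtain ⟨z, hz⟩ := hW₀ne
    obtain ⟨z', hz'⟩ : ∃ z', eA.hom z' = z := ⟨eA.inv z, by
      rw [← Scheme.Hom.comp_apply, Iso.inv_hom_id]; rfl⟩
    obtain ⟨u', hu'1, hu'2⟩ := (dense_iff_inter_open.mp hU) _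
      (hW₀o.preimage eA.hom.continuous) ⟨z', by simpa [Set.mem_preimage, hz'] using hz⟩
    exact ⟨eA.hom u', ⟨u', hu'2, rfl⟩, hu'1⟩
  obtain ⟨u₁, hu₁, hu₁'⟩ := hη
  have hv2 : eA.hom (F.left v') = η₀ := by
    rw [← hv, ← hv']
    change (F ≫ A h).left v' = (L h ≫ F).left v'
    rw [hLA h]
  have : F.left v' = u₁ := eA.hom.homeomorph.injective (by
    change eA.hom (F.left v') = eA.hom u₁
    rw [hv2, hu₁'])
  change (lift (fst G T) (snd G T ≫ x) ≫ a.act).left v' ∈ U
  have hF1 : lift (fst G T) (snd G T ≫ x) ≫ a.act = F ≫ fst X T := by simp [F]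
  rw [hF1, Over.comp_left, Scheme.Hom.comp_apply, this]
  exact hu₁


/-- Let G be an S-group scheme locally of finite presentation over S and universally open over S on some
open containing the unit section, acting on an S-scheme X so that the morphism G ×_S X → X ×_S X,
(g, x) ↦ (gx, x), is surjective. Suppose that for every point s of S the fibre X_s is locally of
finite type over κ(s) and there is an open subscheme U of X, separated over S, whose fibre U_s is
dense in X_s. Then X is separated over S. -/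
theorem result (S : Scheme.{u}) (G X : Over S) [GrpObj G] [LocallyOfFinitePresentation G.hom]
    (hGo : ∃ W : G.left.Opens, (∀ p : ↥(𝟙_ (Over S)).left, η[G].left.base p ∈ W) ∧ UniversallyOpen (W.ι ≫ G.hom))
    (a : AlgGrp.Action G X) (hΦ : Surjective (lift a.act (snd G X)).left)
    (hft : ∀ s : S, LocallyOfFiniteType (X.hom.fiberToSpecResidueField s))
    (hU : ∀ s : S, ∃ U : X.left.Opens, IsSeparated (U.ι ≫ X.hom) ∧
      X.hom.base ⁻¹' {s} ⊆ closure ((U : Set X.left) ∩ X.hom.base ⁻¹' {s})) :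
    IsSeparated X.hom := by
  rw [isSeparated_iff]
  haveI : IsPreimmersion (pullback.diagonal X.hom) := inferInstance
  refine IsClosedImmersion.of_isPreimmersion _ ?_
  change IsClosed (Set.range (lift (𝟙 X) (𝟙 X)).left)
  rw [← closure_subset_iff_isClosed]
  intro z hz
  let K : Type u := AlgebraicClosure ((X ⊗ X).left.residueField z)
  let t₀ : Spec (CommRingCat.of K) ⟶ (X ⊗ X).left :=
    Spec.map (CommRingCat.ofHom (algebraMap ((X ⊗ X).left.residueField z) K)) ≫
      (X ⊗ X).left.fromSpecResidueField z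
  let w₀ : ↥(Spec (CommRingCat.of K)) := IsLocalRing.closedPoint K
  let t : Spec (CommRingCat.of K) ⟶ S := t₀ ≫ (X ⊗ X).hom
  let T : Over S := Over.mk t
  let P : T ⟶ X ⊗ X := Over.homMk t₀ rfl
  have hP : P.left w₀ = z := by
    change t₀ w₀ = z
    simp only [t₀, Scheme.Hom.comp_apply]
    exact Scheme.fromSpecResidueField_apply _ _
  suffices hxy : P ≫ fst X X = P ≫ snd X X by
    refine ⟨(P ≫ fst X X).left w₀, ?_⟩
    have : P = (P ≫ fst X X) ≫ lift (𝟙 X) (𝟙 X) := by
      refine CartesianMonoidalCategory.hom_ext _ _ ?_ ?_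
      · simp
      · simpa using hxy.symm
    rw [← hP]
    exact congrArg (fun Q : T ⟶ X ⊗ X => Q.left w₀) this.symm
  obtain ⟨W, hW, hWo⟩ := hGo
  obtain ⟨⟨s, φ⟩, hφ⟩ := (Scheme.SpecToEquivOfField K S).symm.surjective t
  simp only [Scheme.SpecToEquivOfField, Equiv.coe_fn_symm_mk] at hφ
  obtain ⟨U, hUsep, hUd⟩ := hU s
  haveI := hft s
  have hfib := fibre_field X.hom s (Spec.map φ) U hUd
  rw [hφ] at hfib
  have hXT : LocallyOfFiniteType (snd X T).left := hfib.1
  have hUT : Dense ((fst X T).left ⁻¹' (U : Set X.left)) := hfib.2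
  -- choose the translation
  let O : (T ⟶ X) → Set ↥(G ⊗ T).left := fun x =>
    (lift (fst G T) (snd G T ≫ x) ≫ a.act).left ⁻¹' (U : Set X.left)
  have hOd : ∀ x, Dense (O x) := fun x => dense_orbit_preimage a hΦ hXT x hUT
  have hOo : ∀ x, IsOpen (O x) := fun x =>
    U.isOpen.preimage (lift (fst G T) (snd G T ≫ x) ≫ a.act).left.continuous
  let pG : (G ⊗ T).left ⟶ Spec (CommRingCat.of K) := (snd G T).left
  haveI : LocallyOfFiniteType pG := by
    change LocallyOfFiniteType (pullback.snd G.hom t)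
    infer_instance
  haveI : JacobsonSpace ↥(G ⊗ T).left := LocallyOfFiniteType.jacobsonSpace pG
  let WT : Set ↥(G ⊗ T).left := (fst G T).left ⁻¹' (W : Set G.left)
  have hWTo : IsOpen WT := W.isOpen.preimage (fst G T).left.continuous
  have hWTne : WT.Nonempty := by
    refine ⟨(lift (toUnit T ≫ η[G]) (𝟙 T)).left w₀, ?_⟩
    change (fst G T).left ((lift (toUnit T ≫ η[G]) (𝟙 T)).left w₀) ∈ W
    rw [← Scheme.Hom.comp_apply, ← Over.comp_left, lift_fst, Over.comp_left, Scheme.Hom.comp_apply]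
    exact hW _
  have h2d : Dense (O (P ≫ fst X X) ∩ O (P ≫ snd X X)) :=
    (hOd _).inter_of_isOpen_left (hOd _) (hOo _)
  have hne : (WT ∩ (O (P ≫ fst X X) ∩ O (P ≫ snd X X))).Nonempty :=
    dense_iff_inter_open.mp h2d _ hWTo hWTne
  obtain ⟨q, ⟨hqW, hq1, hq2⟩, hq⟩ := nonempty_inter_closedPoints hne
    (hWTo.inter ((hOo _).inter (hOo _))).isLocallyClosed
  let σ : T ⟶ G ⊗ T := Over.homMk (pointOfClosedPoint pG q hq) (by
    rw [← Over.w (snd G T)]
    exact (Category.assoc _ _ _).symm.trans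
      ((congrArg (· ≫ t) (pointOfClosedPoint_comp pG q hq)).trans (Category.id_comp _)))
  have hσ2 : σ ≫ snd G T = 𝟙 T := Over.OverMorphism.ext (pointOfClosedPoint_comp pG q hq)
  have hσ : σ.left w₀ = q := pointOfClosedPoint_apply pG q hq w₀
  let GW : Over S := Over.mk (W.ι ≫ G.hom)
  let j : GW ⟶ G := Over.homMk W.ι rfl
  have hrange : Set.range (σ ≫ fst G T).left ⊆ Set.range W.ι := by
    rintro _ ⟨w, rfl⟩
    rw [Scheme.Opens.range_ι]
    obtain rfl : w = w₀ := @Subsingleton.elim ↥(Spec (CommRingCat.of K)) inferInstance _ _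
    rw [Over.comp_left, Scheme.Hom.comp_apply, hσ]
    exact hqW
  let gW : T ⟶ GW := Over.homMk (IsOpenImmersion.lift W.ι (σ ≫ fst G T).left hrange) (by
    change _ ≫ W.ι ≫ G.hom = T.hom
    rw [IsOpenImmersion.lift_fac_assoc]
    exact Over.w _)
  have hgW : gW ≫ j = σ ≫ fst G T :=
    Over.OverMorphism.ext (IsOpenImmersion.lift_fac _ _ _)
  let p : GW ⊗ (X ⊗ X) ⟶ X ⊗ X := snd _ _
  let qm : GW ⊗ (X ⊗ X) ⟶ X ⊗ X :=
    lift (lift (fst _ _ ≫ j) (snd _ _ ≫ fst X X) ≫ a.act)
      (lift (fst _ _ ≫ j) (snd _ _ ≫ snd X X) ≫ a.act)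
  let Q₀ : T ⟶ GW ⊗ (X ⊗ X) := lift gW P
  let RΔ : Set ↥(X ⊗ X).left := Set.range (lift (𝟙 X) (𝟙 X)).left
  haveI : UniversallyOpen p.left := by
    change UniversallyOpen (pullback.snd (W.ι ≫ G.hom) (X ⊗ X).hom)
    infer_instance
  have hsub : p.left ⁻¹' RΔ ⊆ qm.left ⁻¹' RΔ := by
    intro y hy
    let ty := (GW ⊗ (X ⊗ X)).left.fromSpecResidueField y
    let Ty : Over S := Over.mk (ty ≫ (GW ⊗ (X ⊗ X)).hom)
    let Y : Ty ⟶ GW ⊗ (X ⊗ X) := Over.homMk ty rfl
    let wy : ↥Ty.left := IsLocalRing.closedPoint ((GW ⊗ (X ⊗ X)).left.residueField y)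
    have hY : Y.left wy = y := Scheme.fromSpecResidueField_apply _ _
    have hm : (Y ≫ p).left wy ∈ RΔ := by
      rw [Over.comp_left, Scheme.Hom.comp_apply, hY]
      exact hy
    have he := eq_of_mem_range_diag (Y ≫ p) wy hm
    refine ⟨(Y ≫ qm ≫ fst X X).left wy, ?_⟩
    have he' : Y ≫ qm = (Y ≫ qm ≫ fst X X) ≫ lift (𝟙 X) (𝟙 X) := by
      refine CartesianMonoidalCategory.hom_ext _ _ ?_ ?_
      · simp
      · simp only [Category.assoc, lift_snd, Category.comp_id, qm, lift_fst, comp_lift_assoc]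
        simp only [p, Category.assoc] at he
        exact congrArg (fun r => lift (Y ≫ fst GW (X ⊗ X) ≫ j) r ≫ a.act) he.symm
    rw [← hY]
    exact (congrArg (fun Q : Ty ⟶ X ⊗ X => Q.left wy) he'.symm)
  have h1 : qm.left (Q₀.left w₀) ∈ closure RΔ := by
    have : Q₀.left w₀ ∈ closure (p.left ⁻¹' RΔ) := by
      rw [← p.left.isOpenMap.preimage_closure_eq_closure_preimage p.left.continuous]
      change p.left (Q₀.left w₀) ∈ closure RΔ
      rw [← Scheme.Hom.comp_apply, ← Over.comp_left, lift_snd, hP]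
      exact hz
    exact map_mem_closure qm.left.continuous this fun y hy => hsub hy
  have hx : ∀ x : T ⟶ X, σ.left w₀ ∈ O x → (lift (σ ≫ fst G T) x ≫ a.act).left w₀ ∈ U := by
    intro x hx
    have : lift (σ ≫ fst G T) x ≫ a.act = σ ≫ lift (fst G T) (snd G T ≫ x) ≫ a.act := by
      rw [comp_lift_assoc, reassoc_of% hσ2]
    rw [this, Over.comp_left, Scheme.Hom.comp_apply]
    exact hx
  have hq1' := hx _ (hσ.symm ▸ hq1)
  have hq2' := hx _ (hσ.symm ▸ hq2)
  have hQq : Q₀ ≫ qm = lift (lift (σ ≫ fst G T) (P ≫ fst X X) ≫ a.act)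
      (lift (σ ≫ fst G T) (P ≫ snd X X) ≫ a.act) := by
    simp [Q₀, qm, comp_lift_assoc, hgW]
  -- `U` is separated
  let UU : Over S := Over.mk (U.ι ≫ X.hom)
  let jU : UU ⟶ X := Over.homMk U.ι rfl
  let m : (UU ⊗ UU).left ⟶ (X ⊗ X).left :=
    pullback.map (U.ι ≫ X.hom) (U.ι ≫ X.hom) X.hom X.hom U.ι U.ι (𝟙 S) (by simp) (by simp)
  haveI : IsOpenImmersion m := by dsimp [m]; infer_instance
  have hm1 : m ≫ (fst X X).left = (fst UU UU).left ≫ U.ι := pullback.lift_fst _ _ _
  have hm2 : m ≫ (snd X X).left = (snd UU UU).left ≫ U.ι := pullback.lift_snd _ _ _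
  have hmr : Set.range m =
      (fst X X).left ⁻¹' (U : Set X.left) ∩ (snd X X).left ⁻¹' (U : Set X.left) := by
    simp only [m]
    rw [Scheme.Pullback.range_map, Scheme.Opens.range_ι]
    rfl
  have hmem : qm.left (Q₀.left w₀) ∈ Set.range m := by
    rw [hmr, ← Scheme.Hom.comp_apply, ← Over.comp_left, hQq]
    refine ⟨?_, ?_⟩
    · change (fst X X).left _ ∈ U
      rw [← Scheme.Hom.comp_apply, ← Over.comp_left, lift_fst]
      exact hq1'
    · change (snd X X).left _ ∈ U
      rw [← Scheme.Hom.comp_apply, ← Over.comp_left, lift_snd]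
      exact hq2'
  obtain ⟨u, hu⟩ := hmem
  rw [← hu] at h1
  have hucl : u ∈ closure (m ⁻¹' RΔ) := by
    rw [← m.isOpenMap.preimage_closure_eq_closure_preimage m.continuous]
    exact h1
  have hΔU : m ⁻¹' RΔ ⊆ Set.range (pullback.diagonal (U.ι ≫ X.hom)) := by
    rintro y ⟨b, hb⟩
    have hbU : b ∈ U := by
      have h : (lift (𝟙 X) (𝟙 X)).left b ∈ Set.range m := ⟨y, hb.symm⟩
      rw [hmr] at h
      have h' := h.1
      rw [Set.mem_preimage, ← Scheme.Hom.comp_apply, ← Over.comp_left, lift_fst] at h'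
      exact h'
    refine ⟨⟨b, hbU⟩, m.isOpenEmbedding.injective ?_⟩
    rw [← hb, ← Scheme.Hom.comp_apply]
    have hd : pullback.diagonal (U.ι ≫ X.hom) ≫ m = U.ι ≫ (lift (𝟙 X) (𝟙 X)).left := by
      refine pullback.hom_ext ?_ ?_
      · change _ ≫ (fst X X).left = _ ≫ (fst X X).left
        rw [Category.assoc, hm1, Category.assoc, ← Over.comp_left, lift_fst]
        exact (pullback.diagonal_fst_assoc _ _).trans (Category.comp_id _).symm
      · change _ ≫ (snd X X).left = _ ≫ (snd X X).left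
        rw [Category.assoc, hm2, Category.assoc, ← Over.comp_left, lift_snd]
        exact (pullback.diagonal_snd_assoc _ _).trans (Category.comp_id _).symm
    rw [hd]
    rfl
  have hcl : IsClosed (Set.range (pullback.diagonal (U.ι ≫ X.hom))) := by
    haveI := hUsep
    exact (pullback.diagonal (U.ι ≫ X.hom)).isClosedEmbedding.isClosed_range
  obtain ⟨b, hb⟩ := hcl.closure_subset_iff.mpr hΔU hucl
  have hfin : (Q₀ ≫ qm).left w₀ ∈ RΔ := by
    rw [Over.comp_left, Scheme.Hom.comp_apply, ← hu, ← hb]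
    refine ⟨U.ι b, ?_⟩
    rw [← Scheme.Hom.comp_apply, ← Scheme.Hom.comp_apply]
    refine congrArg (fun f : (U : Scheme) ⟶ (X ⊗ X).left => f b) ?_
    refine (pullback.hom_ext ?_ ?_)
    · change _ ≫ (fst X X).left = _ ≫ (fst X X).left
      rw [Category.assoc, ← Over.comp_left, lift_fst, Category.assoc, hm1]
      exact (Category.comp_id _).trans (pullback.diagonal_fst_assoc _ _).symm
    · change _ ≫ (snd X X).left = _ ≫ (snd X X).left
      rw [Category.assoc, ← Over.comp_left, lift_snd, Category.assoc, hm2]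
      exact (Category.comp_id _).trans (pullback.diagonal_snd_assoc _ _).symm
  have heq := eq_of_mem_range_diag (Q₀ ≫ qm) w₀ hfin
  rw [hQq] at heq
  simp only [lift_fst, lift_snd] at heq
  have := congrArg (fun x => lift (σ ≫ fst G T)⁻¹ x ≫ a.act) heq
  simpa [inv_point_act] using this

end Groth.Agent.S5332
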