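import Groth.Statements.S4100
import Groth.Agent.GrpSchLib.FibreIrr
import Groth.Agent.S5332

set_option autoImplicit false
universe u
open CategoryTheory MonoidalCategory CartesianMonoidalCategory MonObj GrpObj AlgebraicGeometry CategoryTheory.Limits
open SGA3

namespace Groth.Agent.S4100

/-- Let G be an S-group scheme locally of finite presentation and universally open over S with connected
fibres, acting on an S-scheme X locally of finite presentation over S in such a way that the
morphism G ×_S X → X ×_S X, (g, x) ↦ (g·x, x), is surjective. Then X is separated over S. -/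
theorem result (S : Scheme.{u}) (G X : Over S) [GrpObj G]
    [LocallyOfFinitePresentation G.hom] [UniversallyOpen G.hom]
    (hconn : ∀ s : S, _root_.IsConnected (G.hom.base ⁻¹' {s}))
    [LocallyOfFinitePresentation X.hom] (a : AlgGrp.Action G X)
    (hΦ : Surjective (lift a.act (snd G X)).left) : IsSeparated X.hom := by
  refine Groth.Agent.S5332.result S G X ⟨⊤, fun _ => trivial, inferInstance⟩ a hΦ
    (fun s => MorphismProperty.pullback_snd (P := @LocallyOfFiniteType) _ _ inferInstance) fun s => ?_
  rcases Set.eq_empty_or_nonempty (X.hom.base ⁻¹' {s}) with he | ⟨p, hp⟩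
  · haveI : IsAffine (⊥ : X.left.Opens).toScheme := isAffineOpen_bot X.left
    haveI : IsSeparated (((⊥ : X.left.Opens).ι ≫ X.hom) ≫ terminal.from S) := by
      rw [terminal.hom_ext (((⊥ : X.left.Opens).ι ≫ X.hom) ≫ terminal.from S) (terminal.from _)]
      infer_instance
    exact ⟨⊥, IsSeparated.of_comp _ (terminal.from S), by rw [he]; simp⟩
  · obtain ⟨U, hU, hpU, -⟩ :=
      exists_isAffineOpen_mem_and_subset (show p ∈ (⊤ : X.left.Opens) from trivial)
    haveI : IsAffine U.toScheme := hU
    haveI : IsSeparated ((U.ι ≫ X.hom) ≫ terminal.from S) := by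
      rw [terminal.hom_ext ((U.ι ≫ X.hom) ≫ terminal.from S) (terminal.from _)]
      infer_instance
    refine ⟨U, IsSeparated.of_comp _ (terminal.from S), ?_⟩
    have hirr := Groth.Agent.GrpSchLib.FibreIrr.isPreirreducible_fibre hconn a hΦ s
    have h := subset_closure_inter_of_isPreirreducible_of_isOpen hirr U.isOpen ⟨p, hp, hpU⟩
    rwa [Set.inter_comm] at h

end Groth.Agent.S4100
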