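import Groth.Statements.S3025
import Groth.Agent.GrpSchLib.FibreIrr
import Groth.Agent.S4100

set_option autoImplicit false
universe u
open CategoryTheory MonoidalCategory CartesianMonoidalCategory MonObj GrpObj AlgebraicGeometry TensorProduct
open SGA3

namespace Groth.Agent.S3025

open CategoryTheory.Limits

open Groth.Agent.GrpSchLib in
open scoped CategoryTheory.Obj in
/-- In a connected fibre every point is a product of two points of a neighbourhood of the unit. -/
theorem exists_mul {S : Scheme.{u}} {G : Over S} [GrpObj G] [LocallyOfFiniteType G.hom] (W : G.left.Opens)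
    (x : G.left) (hc : _root_.IsConnected (G.hom ⁻¹' {G.hom x}))
    (he : ∀ q : ↥(𝟙_ (Over S)).left, (𝟙_ (Over S)).hom q = G.hom x → η[G].left q ∈ W) :
    ∃ p : (G ⊗ G).left, (fst G G).left p ∈ W ∧ (snd G G).left p ∈ W ∧ μ[G].left p = x := by
  obtain ⟨-, hirr⟩ := FibreIrr.geometricallyIrreducible_fib G (G.hom x) hc
  let f := S.fromSpecResidueField (G.hom x)
  let F := Over.pullback f
  let π := pullback.fst G.hom f
  obtain ⟨y, hy⟩ : x ∈ Set.range π := by rw [FibreIrr.range_fst]; exact rfl
  let V : Set (FibreIrr.fib G (G.hom x)).left := π ⁻¹' (W : Set G.left)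
  have hmap : ∀ {A B : Over S} (g : A ⟶ B) (z : (F.obj A).left),
      pullback.fst B.hom f ((F.map g).left z) = g.left (pullback.fst A.hom f z) := fun {A B} g z =>
    congrArg (fun m : (F.obj A).left ⟶ B.left => m z) (pullback.lift_fst _ _ _)
  have heV : η[FibreIrr.fib G (G.hom x)].left (IsLocalRing.closedPoint (S.residueField (G.hom x))) ∈ V := by
    show π _ ∈ W
    have h : η[FibreIrr.fib G (G.hom x)] = Functor.LaxMonoidal.ε F ≫ F.map η[G] := rfl
    rw [h, left_comp_apply, hmap]
    refine he _ ?_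
    rw [← Scheme.Hom.comp_apply, pullback.condition, Scheme.Hom.comp_apply]
    exact Scheme.fromSpecResidueField_apply _ _
  have hV : IsOpen V := W.isOpen.preimage π.continuous
  obtain ⟨c, hc1, hc2⟩ : ∃ c, c ∈ V ∧ c ⤳ y := by
    have hgen := hirr.isIrreducible_univ.isGenericPoint_genericPoint isClosed_univ
    exact ⟨_, (hgen.specializes trivial).mem_open hV heV, hgen.specializes trivial⟩
  obtain ⟨p, ⟨hp1, hp2⟩, hp⟩ := exists_mul_eq_of_specializes hc2 hV heV hc1
  refine ⟨pullback.fst (G ⊗ G).hom f ((Functor.LaxMonoidal.μ F G G).left p), ?_, ?_, ?_⟩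
  · rw [← hmap, ← left_comp_apply, Functor.Monoidal.μ_fst]
    exact hp1
  · rw [← hmap, ← left_comp_apply, Functor.Monoidal.μ_snd]
    exact hp2
  · rw [← hmap, ← left_comp_apply]
    have h : μ[F.obj G] = Functor.LaxMonoidal.μ F G G ≫ F.map μ[G] := rfl
    rw [← h]
    exact (congrArg π hp).trans hy

/-- The translation action. -/
noncomputable def translation {S : Scheme.{u}} (G : Over S) [GrpObj G] : AlgGrp.Action G G where
  act := μ[G]
  one_act := MonObj.one_mul G
  mul_act := MonObj.mul_assoc G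


/-- Let S be a scheme and G a group scheme over S which is locally of finite presentation and
universally open over S and whose fibres are connected. Then G is separated and quasi-compact (hence
of finite presentation) over S. -/
theorem result (S : Scheme.{u}) (G : Over S) [GrpObj G]
    [LocallyOfFinitePresentation G.hom] [UniversallyOpen G.hom]
    (hconn : ∀ s : S, _root_.IsConnected (G.hom.base ⁻¹' {s})) :
    IsSeparated G.hom ∧ QuasiCompact G.hom := by
  have hsep : IsSeparated G.hom := by
    refine Groth.Agent.S4100.result S G G hconn (translation G) ?_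
    haveI : IsIso (lift μ[G] (snd G G)) := by
      refine ⟨lift (fst G G * (snd G G)⁻¹) (snd G G), ?_, ?_⟩
      · refine CartesianMonoidalCategory.hom_ext _ _ ?_ ?_
        · rw [show μ[G] = fst G G * snd G G by rw [Hom.mul_def, lift_fst_snd, Category.id_comp]]
          simp [MonObj.comp_mul, GrpObj.comp_inv]
        · simp
      · refine CartesianMonoidalCategory.hom_ext _ _ ?_ ?_
        · simp [← Hom.mul_def, comp_lift_assoc]
        · simp
    haveI : IsIso (lift μ[G] (snd G G)).left :=
      inferInstanceAs (IsIso ((Over.forget S).map (lift μ[G] (snd G G))))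
    show Surjective (lift μ[G] (snd G G)).left
    infer_instance
  refine ⟨hsep, ?_⟩
  have key : ∀ s : S, ∃ V : S.Opens, s ∈ V ∧ IsAffineOpen V ∧
      IsCompact ((G.hom ⁻¹ᵁ V : G.left.Opens) : Set G.left) := by
    intro s
    let e : S ⟶ G.left := (η[G]).left
    obtain ⟨S₁, hS₁, hs₁, -⟩ := exists_isAffineOpen_mem_and_subset (show s ∈ (⊤ : S.Opens) from trivial)
    have hes : G.hom (e s) = s := congrArg (fun f : S ⟶ S => f s) (Over.w η[G])
    obtain ⟨U, hU, heU, hUS⟩ := exists_isAffineOpen_mem_and_subset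
      (show e s ∈ G.hom ⁻¹ᵁ S₁ by show G.hom (e s) ∈ S₁; rwa [hes])
    obtain ⟨V, hV, hsV, hVU⟩ := exists_isAffineOpen_mem_and_subset (show s ∈ S₁ ⊓ e ⁻¹ᵁ U from ⟨hs₁, heU⟩)
    refine ⟨V, hsV, hV, ?_⟩
    let W : G.left.Opens := U ⊓ G.hom ⁻¹ᵁ V
    have hWV : W ≤ G.hom ⁻¹ᵁ V := inf_le_right
    haveI : IsAffine (S₁ : Scheme.{u}) := hS₁
    haveI : IsAffine (U : Scheme.{u}) := hU
    haveI : IsAffine (V : Scheme.{u}) := hV
    have hW : IsAffineOpen W := by
      have hU' : U ≤ G.hom ⁻¹ᵁ S₁ := hUS
      have h1 : (G.hom.resLE S₁ U hU') ⁻¹ᵁ (S₁.ι ⁻¹ᵁ V) = U.ι ⁻¹ᵁ (G.hom ⁻¹ᵁ V) := by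
        rw [← Scheme.Hom.comp_preimage, Scheme.Hom.resLE_comp_ι, Scheme.Hom.comp_preimage]
      have h2 : IsAffineOpen (S₁.ι ⁻¹ᵁ V) := hV.preimage_of_isOpenImmersion S₁.ι (by
        rw [Scheme.Opens.opensRange_ι]; exact fun z hz => (hVU hz).1)
      haveI : IsAffineHom (G.hom.resLE S₁ U hU') := isAffineHom_of_isAffine _
      have h3 := h2.preimage (G.hom.resLE S₁ U hU')
      rw [h1] at h3
      have h4 := h3.image_of_isOpenImmersion U.ι
      rwa [Scheme.Hom.image_preimage_eq_opensRange_inf, Scheme.Opens.opensRange_ι] at h4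
    haveI : IsAffine (W : Scheme.{u}) := hW
    let a := G.hom.resLE V W hWV
    haveI : IsAffineHom a := isAffineHom_of_isAffine _
    haveI : CompactSpace ↥(pullback a a) := inferInstance
    let m : pullback a a ⟶ (G ⊗ G).left :=
      pullback.map a a G.hom G.hom W.ι W.ι V.ι (Scheme.Hom.resLE_comp_ι _ _)
        (Scheme.Hom.resLE_comp_ι _ _)
    have hc : (G.hom ⁻¹ᵁ V : Set G.left) = Set.range (m ≫ μ[G].left) := by
      refine subset_antisymm (fun x hx => ?_) ?_
      · obtain ⟨p, hp1, hp2, hp⟩ := exists_mul (G := G) W x (hconn _) (fun q hq => by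
          have hq' : q = G.hom x := hq
          subst hq'
          refine ⟨(hVU hx).2, ?_⟩
          show G.hom (e (G.hom x)) ∈ V
          rw [show G.hom (e (G.hom x)) = G.hom x from congrArg (fun f : S ⟶ S => f (G.hom x)) (Over.w η[G])]
          exact hx)
        obtain ⟨q, hq1, hq2⟩ : ∃ q, m q = p ∧ True := by
          have : p ∈ Set.range m := by
            have hr : Set.range m = (fst G G).left ⁻¹' Set.range W.ι ∩ (snd G G).left ⁻¹' Set.range W.ι :=
              Scheme.Pullback.range_map _ _ _ _ _ _ _ _ _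
            rw [hr, Scheme.Opens.range_ι]
            exact ⟨hp1, hp2⟩
          obtain ⟨q, hq⟩ := this
          exact ⟨q, hq, trivial⟩
        exact ⟨q, by rw [Scheme.Hom.comp_apply, hq1]; exact hp⟩
      · rintro _ ⟨q, rfl⟩
        show G.hom ((m ≫ μ[G].left) q) ∈ V
        have h : (m ≫ μ[G].left) ≫ G.hom = (pullback.fst a a ≫ a) ≫ V.ι := by
          rw [Category.assoc, Over.w μ[G], show (G ⊗ G).hom = pullback.fst G.hom G.hom ≫ G.hom from rfl,
            Category.assoc, Scheme.Hom.resLE_comp_ι]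
          exact pullback.lift_fst_assoc _ _ _ _
        rw [← Scheme.Hom.comp_apply, h, Scheme.Hom.comp_apply]
        exact ((pullback.fst a a ≫ a) q).2
    rw [hc]
    exact isCompact_range (m ≫ μ[G].left).continuous
  choose V hsV hV hVc using key
  refine IsZariskiLocalAtTarget.of_iSup_eq_top (P := @QuasiCompact) V
    (eq_top_iff.mpr fun s _ => TopologicalSpace.Opens.mem_iSup.mpr ⟨s, hsV s⟩) fun s => ?_
  haveI : IsAffine (V s : Scheme.{u}) := hV s
  exact (HasAffineProperty.iff_of_isAffine (P := @QuasiCompact) (f := G.hom ∣_ V s)).mpr (isCompact_iff_compactSpace.mp (hVc s))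

end Groth.Agent.S3025
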