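import Groth.Statements.S10839
import Mathlib.AlgebraicGeometry.Morphisms.ClosedImmersion
import Mathlib.Topology.KrullDimension
import Mathlib.AlgebraicGeometry.Properties

set_option autoImplicit false
universe u
open CategoryTheory AlgebraicGeometry Topology
open Variety

namespace Groth.Agent.S10839


theorem surjective_of_dim_eq {T S : Type*} [TopologicalSpace T] [TopologicalSpace S] [IrreducibleSpace T]
    {f : S → T} (hf : Topology.IsClosedEmbedding f) (hfin : topologicalKrullDim T ≠ ⊤)
    (h : topologicalKrullDim T = topologicalKrullDim S) : Function.Surjective f := by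
  classical
  by_contra hs
  have hne : Set.range f ≠ Set.univ := fun e => hs (Set.range_eq_univ.1 e)
  let top : TopologicalSpace.IrreducibleCloseds T :=
    ⟨Set.univ, IrreducibleSpace.isIrreducible_univ T, isClosed_univ⟩
  by_cases hS : IsEmpty S
  · have h0 : topologicalKrullDim S = ⊥ := by
      rw [topologicalKrullDim, Order.krullDim_eq_bot_iff]
      exact ⟨fun Z => hS.false Z.2.nonempty.some⟩
    rw [h0, topologicalKrullDim, Order.krullDim_eq_bot_iff] at h
    exact h.false top
  · rw [not_isEmpty_iff] at hS
    let g : TopologicalSpace.IrreducibleCloseds S → TopologicalSpace.IrreducibleCloseds T := fun Z =>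
      ⟨f '' Z, Z.2.image f hf.continuous.continuousOn, hf.isClosedMap _ Z.3⟩
    have hg : StrictMono g := fun Z W hZW =>
      SetLike.coe_ssubset_coe.1 (hf.injective.image_strictMono (SetLike.coe_ssubset_coe.2 hZW))
    haveI : Nonempty (TopologicalSpace.IrreducibleCloseds S) :=
      ⟨⟨closure {hS.some}, isIrreducible_singleton.closure, isClosed_closure⟩⟩
    have hle : topologicalKrullDim S + 1 ≤ topologicalKrullDim T := by
      haveI : Nonempty (TopologicalSpace.IrreducibleCloseds T) := ⟨top⟩
      unfold topologicalKrullDim
      rw [Order.krullDim_eq_iSup_length, ← WithBot.coe_one, ← WithBot.coe_add, ENat.iSup_add,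
        Order.krullDim_eq_iSup_length, WithBot.coe_le_coe]
      refine iSup_le fun c => ?_
      refine le_iSup_of_le ((c.map g hg).snoc top ?_) (by simp; rfl)
      change (c.map g hg).last < top
      rw [LTSeries.last_map]
      refine SetLike.coe_ssubset_coe.1 ⟨Set.subset_univ _, fun hsub => hne ?_⟩
      exact Set.univ_subset_iff.1 (hsub.trans (Set.image_subset_range _ _))
    rw [← h] at hle
    generalize topologicalKrullDim T = d at hle hfin h
    induction d using WithBot.recBotCoe with
    | bot =>
      exfalso
      rw [eq_comm, topologicalKrullDim, Order.krullDim_eq_bot_iff] at h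
      exact h.false ⟨closure {hS.some}, isIrreducible_singleton.closure, isClosed_closure⟩
    | coe m =>
      rw [← WithBot.coe_one, ← WithBot.coe_add, WithBot.coe_le_coe] at hle
      exact absurd hle (not_le.2 (ENat.lt_add_one_iff (fun e => hfin (by rw [e]; rfl)) |>.2 le_rfl))

/-- A closed immersion i : Y → X into an integral scheme X with dim X = dim Y < ∞ is an isomorphism. -/
theorem result {X Y : Scheme.{u}} (i : Y ⟶ X)
    [IsClosedImmersion i] [IsIntegral X] (hfin : topologicalKrullDim ↥X ≠ ⊤)
    (hdim : topologicalKrullDim ↥X = topologicalKrullDim ↥Y) : IsIso i := by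
  haveI : Surjective i := ⟨surjective_of_dim_eq i.isClosedEmbedding hfin hdim⟩
  exact isIso_of_isClosedImmersion_of_surjective i

end Groth.Agent.S10839
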