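import Groth.Statements.S15608
import Groth.Agent.GrpSchLib.DenseRed
import Groth.Agent.H23.RedSub
import Groth.Agent.GrpSchLib.MonoSubgroup
import Groth.Agent.GrpSchLib.Cartier


set_option autoImplicit false
universe u
open CategoryTheory MonoidalCategory CartesianMonoidalCategory MonObj GrpObj AlgebraicGeometry
open AlgGrp

namespace Groth.Agent.S15608

/-- Let k be a field, G a smooth k-group scheme of finite type and Σ a subgroup of the abstract group
G(k) of k-rational points. Then the Zariski closure of Σ in G, with its reduced structure, is a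
smooth closed k-subgroup: there are a smooth k-group scheme H and a homomorphism H ⟶ G which is a
closed immersion whose image is the closure of the set of points of G underlying the elements of Σ.
(The published statement also asserts that forming this closure commutes with extension of the
ground field; that clause is not stated here, its affine form being stated separately.) -/
theorem result (k : Type u) [Field k]
    (G : Over (Spec (CommRingCat.of k))) [GrpObj G] [Smooth G.hom] [QuasiCompact G.hom]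
    (S : Subgroup (𝟙_ (Over (Spec (CommRingCat.of k))) ⟶ G)) :
    ∃ (H : Over (Spec (CommRingCat.of k))) (_ : GrpObj H) (i : H ⟶ G), IsMonHom i ∧ IsClosedImmersion i.left ∧ Smooth H.hom ∧
      Set.range i.left.base =
        closure ((fun s : (𝟙_ (Over (Spec (CommRingCat.of k))) ⟶ G) => s.left.base (IsLocalRing.closedPoint k)) '' (S : Set _)) := by
  open Groth.Agent.GrpSchLib in
  let pts : Set G.left := (fun s : (𝟙_ (Over (Spec (CommRingCat.of k))) ⟶ G) => s.left.base (IsLocalRing.closedPoint k)) '' (S : Set _)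
  -- properties of the reduced closure
  have hdense : ∀ (T : Over (Spec (CommRingCat.of k))) (j : T ⟶ G), IsClosedImmersion j.left → AlgebraicGeometry.IsReduced T.left →
      Set.range j.left = closure pts →
      DenseRed.Dense' T.hom {s : Spec (CommRingCat.of k) ⟶ T.left | ∃ σ ∈ S, s ≫ j.left = σ.left} := by
    intro T j _ _ hj
    refine ⟨fun s ⟨σ, _, hσ⟩ => ?_, fun U ⟨y, hy⟩ => ?_⟩
    · rw [← Over.w j, ← Category.assoc, hσ]
      exact Over.w σ
    obtain ⟨O, hO, hOU⟩ := j.left.isClosedEmbedding.isInducing.isOpen_iff.mp U.2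
    have hyO : j.left y ∈ O := by
      have : y ∈ j.left ⁻¹' O := hOU.symm ▸ hy
      exact this
    obtain ⟨_, hO', σ, hσS, rfl⟩ := mem_closure_iff.mp (hj ▸ Set.mem_range_self y) O hO hyO
    have hr : Set.range σ.left ⊆ Set.range j.left := by
      rintro _ ⟨p, rfl⟩
      rw [hj, show p = IsLocalRing.closedPoint k from @Subsingleton.elim (Spec (CommRingCat.of k)) inferInstance _ _]
      exact subset_closure ⟨σ, hσS, rfl⟩
    haveI : AlgebraicGeometry.IsReduced (Spec (CommRingCat.of k)) := inferInstance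
    obtain ⟨s, hs⟩ := Groth.Agent.H23.RedSub.exists_lift_closed (X := Spec (CommRingCat.of k)) σ.left j.left hr
    refine ⟨s, ⟨σ, hσS, hs⟩, ?_⟩
    have : s (IsLocalRing.closedPoint k) ∈ j.left ⁻¹' O := by
      show j.left (s (IsLocalRing.closedPoint k)) ∈ O
      rw [← Scheme.Hom.comp_apply, hs]
      exact hO'
    rw [hOU] at this
    exact this
  let I := Scheme.IdealSheafData.vanishingIdeal ⟨closure pts, isClosed_closure⟩
  let H₀ : Over (Spec (CommRingCat.of k)) := Over.mk (I.subschemeι ≫ G.hom)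
  let j : H₀ ⟶ G := Over.homMk I.subschemeι rfl
  haveI hjc : IsClosedImmersion j.left := inferInstanceAs (IsClosedImmersion I.subschemeι)
  haveI hred : AlgebraicGeometry.IsReduced H₀.left := Groth.Agent.H23.RedSub.isReduced_vanishingIdeal _
  have hj : Set.range j.left = closure pts := Groth.Agent.H23.RedSub.range_vanishingIdeal _
  haveI : Mono j := Over.mono_of_mono_left j
  have hfac : ∀ {T : Over (Spec (CommRingCat.of k))} [AlgebraicGeometry.IsReduced T.left] (f : T ⟶ G),
      Set.range f.left ⊆ closure pts → ∃ l : T ⟶ H₀, l ≫ j = f := by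
    intro T _ f hf
    obtain ⟨l, hl⟩ := Groth.Agent.H23.RedSub.exists_lift_closed f.left j.left (hj ▸ hf)
    exact ⟨Over.homMk l (by rw [← Over.w j, ← Category.assoc, hl, Over.w f]), Over.OverMorphism.ext hl⟩
  have hone : ∃ e : 𝟙_ (Over (Spec (CommRingCat.of k))) ⟶ H₀, e ≫ j = η[G] := by
    haveI : AlgebraicGeometry.IsReduced (𝟙_ (Over (Spec (CommRingCat.of k)))).left :=
      inferInstanceAs (AlgebraicGeometry.IsReduced (Spec (CommRingCat.of k)))
    refine hfac η[G] ?_
    rintro _ ⟨p, rfl⟩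
    rw [show p = IsLocalRing.closedPoint k from @Subsingleton.elim (Spec (CommRingCat.of k)) inferInstance _ _]
    refine subset_closure ⟨1, S.one_mem, ?_⟩
    show (1 : 𝟙_ (Over (Spec (CommRingCat.of k))) ⟶ G).left (IsLocalRing.closedPoint k) = _
    rw [Hom.one_def, toUnit_unique (toUnit (𝟙_ (Over (Spec (CommRingCat.of k))))) (𝟙 _), Category.id_comp]
  have hmul : ∃ m : H₀ ⊗ H₀ ⟶ H₀, m ≫ j = (fst H₀ H₀ ≫ j) * (snd H₀ H₀ ≫ j) := by
    haveI : AlgebraicGeometry.IsReduced (H₀ ⊗ H₀).left :=
      DenseRed.isReduced_pullback (f := H₀.hom) (g := H₀.hom) (hdense H₀ j hjc hred hj)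
    refine hfac _ (Set.range_subset_iff.mpr (Set.eq_univ_iff_forall.mp
      (DenseRed.eq_top_of_forall_mem (f := H₀.hom) (g := H₀.hom) (hdense H₀ j hjc hred hj) (hdense H₀ j hjc hred hj)
        (((fst H₀ H₀ ≫ j) * (snd H₀ H₀ ≫ j)).left ⁻¹' closure pts) (isClosed_closure.preimage (Scheme.Hom.continuous _)) ?_)))
    intro s ⟨σ, hσS, hσ⟩ t ⟨τ, hτS, hτ⟩ c hc1 hc2
    let c' : 𝟙_ (Over (Spec (CommRingCat.of k))) ⟶ H₀ ⊗ H₀ := Over.homMk c (by
      show c ≫ Limits.pullback.fst H₀.hom H₀.hom ≫ H₀.hom = 𝟙 _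
      rw [← Category.assoc, hc1, ← Over.w j, ← Category.assoc, hσ]
      exact Over.w σ)
    have h1 : c' ≫ fst H₀ H₀ ≫ j = σ := Over.OverMorphism.ext (by
      show c ≫ Limits.pullback.fst H₀.hom H₀.hom ≫ j.left = σ.left
      rw [← Category.assoc, hc1, hσ])
    have h2 : c' ≫ snd H₀ H₀ ≫ j = τ := Over.OverMorphism.ext (by
      show c ≫ Limits.pullback.snd H₀.hom H₀.hom ≫ j.left = τ.left
      rw [← Category.assoc, hc2, hτ])
    refine subset_closure ⟨σ * τ, S.mul_mem hσS hτS, ?_⟩
    have h3 : c' ≫ ((fst H₀ H₀ ≫ j) * (snd H₀ H₀ ≫ j)) = σ * τ := by rw [MonObj.comp_mul, h1, h2]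
    exact congrArg (fun q : 𝟙_ (Over (Spec (CommRingCat.of k))) ⟶ G => q.left (IsLocalRing.closedPoint k)) h3.symm
  have hinv : ∃ v : H₀ ⟶ H₀, v ≫ j = j⁻¹ := by
    refine hfac _ ?_
    rintro _ ⟨p, rfl⟩
    have hp : j.left p ∈ closure pts := hj ▸ Set.mem_range_self p
    rw [Hom.inv_def]
    refine map_mem_closure (f := fun x => (GrpObj.inv (X := G)).left x) (Scheme.Hom.continuous _) hp ?_
    rintro _ ⟨σ, hσS, rfl⟩
    refine ⟨σ⁻¹, S.inv_mem hσS, ?_⟩
    rw [Hom.inv_def]
    rfl
  obtain ⟨e, he⟩ := hone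
  obtain ⟨m, hm⟩ := hmul
  obtain ⟨v, hv⟩ := hinv
  obtain ⟨str, hstr⟩ := exists_grpObj_of_mono j e he m hm v hv
  letI := str
  haveI : LocallyOfFiniteType H₀.hom := inferInstanceAs (LocallyOfFiniteType (I.subschemeι ≫ G.hom))
  refine ⟨H₀, str, j, hstr, hjc, ?_, hj⟩
  exact smooth_of_isReduced_baseChange _ (DenseRed.isReduced_pullback (hdense H₀ j hjc hred hj))


end Groth.Agent.S15608
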