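import Groth.Statements.S4109
import Groth.Agent.GrpHull.AffineGeneric

set_option backward.isDefEq.respectTransparency false
set_option backward.isDefEq.respectTransparency.types false

set_option autoImplicit false
universe u
open CategoryTheory MonoidalCategory CartesianMonoidalCategory MonObj GrpObj AlgebraicGeometry CategoryTheory.Limits
open SGA3

namespace Groth.Agent.S4109

/-- For S the spectrum of a Dedekind domain R with fraction field K: let G be an R-group scheme which is
flat, quasi-compact and separated over R and whose generic fibre G_K is affine. Then G is affine (so
the kernel of G → Spec O(G) is trivial). -/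
theorem result (R : Type u) [CommRing R] [IsDedekindDomain R]
    (K : Type u) [Field K] [Algebra R K] [IsFractionRing R K]
    (G : Over (Spec (CommRingCat.of R))) [GrpObj G] [Flat G.hom] [IsSeparated G.hom] [QuasiCompact G.hom]
    (hgen : IsAffine (pullback G.hom (Spec.map (CommRingCat.ofHom (algebraMap R K))))) :
    IsAffine G.left := by
  exact GrpHull.isAffine_of_affine_generic R K G hgen

end Groth.Agent.S4109
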