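import Groth.Statements.S18082
import Groth.Agent.GrpSchLib.WordSeries
import Groth.Agent.DSPtsLib.Basic
import Groth.Agent.Approx.Basic
-- import your own Groth.Agent.* helpers here

set_option autoImplicit false
set_option backward.isDefEq.respectTransparency false
set_option backward.isDefEq.respectTransparency.types false
universe u
open CategoryTheory MonoidalCategory CartesianMonoidalCategory MonObj GrpObj AlgebraicGeometry CategoryTheory.Limits
open AlgGrp

namespace Groth.Agent.S18082

open Groth.Agent Groth.Agent.GrpSchLib.WordSeries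

variable {S U : Scheme.{u}} {G : Over S} [GrpObj G]

/-- The group of points of a base change, read over the old base. -/
noncomputable def thetaEquiv (g : U ⟶ S) (Y : Over U) : (Y ⟶ Red.bc g G) ≃* ((Over.map g).obj Y ⟶ G) :=
  MulEquiv.ofBijective (MonoidHom.mk' (DSPtsLib.theta g) (DSPtsLib.theta_mul g)) (DSPtsLib.theta_bijective g)

theorem flat_derSrc [Flat G.hom] : ∀ n : ℕ, Flat (derSrc G n).hom
  | 0 => ‹Flat G.hom›
  | n + 1 => by
    haveI := flat_derSrc n
    exact inferInstanceAs (Flat (pullback.fst (derSrc G n).hom (derSrc G n).hom ≫ (derSrc G n).hom))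

theorem flat_lowSrc [Flat G.hom] : ∀ n : ℕ, Flat (lowSrc G n).hom
  | 0 => ‹Flat G.hom›
  | n + 1 => by
    haveI := flat_lowSrc n
    exact inferInstanceAs (Flat (pullback.fst (lowSrc G n).hom G.hom ≫ (lowSrc G n).hom))

/-- A word trivial on the generic fibre is trivial. -/
theorem eq_one_of_generic [IsSeparated G.hom] (g : U ⟶ S) [IsSchemeTheoreticallyDominant g] [QuasiCompact g]
    (W : Over S) [Flat W.hom] (w : W ⟶ G)
    (h : ∀ (Y : Over U) (x : (Over.map g).obj Y ⟶ W), x ≫ w = 1) : w = 1 := by
  let x : (Over.map g).obj (Red.bc g W) ⟶ W := DSPtsLib.theta g (𝟙 _)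
  have hx : x.left = pullback.fst W.hom g := Category.id_comp _
  refine Over.OverMorphism.ext (Approx.ext_of_schDom (pullback.fst W.hom g) G.hom _ _ ?_ ?_)
  · rw [Over.w, Over.w]
  · rw [← hx, ← Over.comp_left, h, ← MonObj.comp_one x, Over.comp_left]

/-- A is a discrete valuation ring, with K denoting its field of fractions and k its residue field, and
G is an A-group scheme that is flat, separated and of finite presentation. If the generic fibre G_K
is nilpotent then the special fibre G_k is nilpotent; if G_K is solvable then G_k is solvable. (The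
published statement does not require G separated over A; gluing copies of Spec A indexed by a finite
non-nilpotent, resp. non-solvable, group along their common generic point gives a flat group scheme
of finite presentation with trivial generic fibre and that constant group as special fibre, so G is
taken separated here, the case covered by the density argument of the published proof.) -/
theorem result (A : Type u) [CommRing A] [IsDomain A] [IsDiscreteValuationRing A]
    (K : Type u) [Field K] [Algebra A K] [IsFractionRing A K]
    (G : Over (Spec (CommRingCat.of A))) [GrpObj G] [Flat G.hom] [LocallyOfFinitePresentation G.hom] [QuasiCompact G.hom]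
    [IsSeparated G.hom] :
    (AGF.IsNilpotentGrp (Red.bc (Spec.map (CommRingCat.ofHom (algebraMap A K))) G) → AGF.IsNilpotentGrp (Red.bc (Spec.map (CommRingCat.ofHom (algebraMap A (IsLocalRing.ResidueField A)))) G)) ∧
    (Red.IsSolvableGrp (Red.bc (Spec.map (CommRingCat.ofHom (algebraMap A K))) G) → Red.IsSolvableGrp (Red.bc (Spec.map (CommRingCat.ofHom (algebraMap A (IsLocalRing.ResidueField A)))) G)) := by
  let σ : Spec (CommRingCat.of K) ⟶ Spec (CommRingCat.of A) := Spec.map (CommRingCat.ofHom (algebraMap A K))
  let τ := Spec.map (CommRingCat.ofHom (algebraMap A (IsLocalRing.ResidueField A)))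
  haveI : IsDominant σ := ⟨by
    refine (PrimeSpectrum.denseRange_comap_iff_ker_le_nilRadical _).2 ?_
    simp only [CommRingCat.hom_ofHom]
    rw [(RingHom.injective_iff_ker_eq_bot _).1 (IsFractionRing.injective A K)]
    exact bot_le⟩
  haveI : IsSchemeTheoreticallyDominant σ := IsSchemeTheoreticallyDominant.of_isDominant σ
  refine ⟨fun ⟨n, hn⟩ => ⟨n, fun X => ?_⟩, fun ⟨n, hn⟩ => ⟨n, fun X => ?_⟩⟩
  · have hw : lowHom G n = 1 := by
      haveI := flat_lowSrc (G := G) n
      refine eq_one_of_generic σ _ _ fun Y x => ?_
      have h1 := Subgroup.lowerCentralSeries_eq_bot_iff_upperCentralSeries_eq_top.2 (hn Y)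
      have h2 : Subgroup.lowerCentralSeries (⊤ : Subgroup ((Over.map σ).obj Y ⟶ G)) n = ⊥ := by
        rw [← Subgroup.map_top_of_surjective (thetaEquiv σ Y).toMonoidHom (thetaEquiv σ Y).surjective, ← Subgroup.map_lowerCentralSeries, h1,
          Subgroup.map_bot]
      rw [lowerCentralSeries_eq, closure_eq_bot_iff _ (low_eq_range _ n)] at h2
      exact h2 x
    apply Subgroup.lowerCentralSeries_eq_bot_iff_upperCentralSeries_eq_top.1
    rw [← Subgroup.map_top_of_surjective (thetaEquiv τ X).symm.toMonoidHom (thetaEquiv τ X).symm.surjective, ← Subgroup.map_lowerCentralSeries,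
      lowerCentralSeries_eq, (closure_eq_bot_iff _ (low_eq_range _ n)).2 (fun x => by rw [hw, MonObj.comp_one]),
      Subgroup.map_bot]
  · have hw : derHom G n = 1 := by
      haveI := flat_derSrc (G := G) n
      refine eq_one_of_generic σ _ _ fun Y x => ?_
      have h2 : derivedSeries ((Over.map σ).obj Y ⟶ G) n = ⊥ := by
        rw [← map_derivedSeries_eq (f := (thetaEquiv σ Y).toMonoidHom) (thetaEquiv σ Y).surjective n, hn Y, Subgroup.map_bot]
      rw [derivedSeries_eq, closure_eq_bot_iff _ (der_eq_range _ n)] at h2
      exact h2 x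
    rw [← map_derivedSeries_eq (f := (thetaEquiv τ X).symm.toMonoidHom) (thetaEquiv τ X).symm.surjective n,
      derivedSeries_eq, (closure_eq_bot_iff _ (der_eq_range _ n)).2 (fun x => by rw [hw, MonObj.comp_one]),
      Subgroup.map_bot]

end Groth.Agent.S18082
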