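import Groth.Statements.S18071
import Groth.Agent.SolvGrp.GrothTorus
import Groth.Agent.SolvGrp.UnipBC
import Groth.Agent.SolvGrp.GrothMax
-- import your own Groth.Agent.* helpers here

set_option autoImplicit false
set_option linter.style.haveILetI false
set_option backward.isDefEq.respectTransparency.types false
set_option maxHeartbeats 1000000
universe u
open CategoryTheory MonoidalCategory CartesianMonoidalCategory MonObj GrpObj AlgebraicGeometry CategoryTheory.Limits
open AlgGrp

namespace Groth.Agent.S18071

/-- Let F be a field with algebraic closure F̄ and M an affine smooth connected F-group. Then all F-tori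
of M are trivial if and only if all F̄-tori of M_{F̄} are trivial; for such M this condition is
equivalent to M being unipotent. -/
theorem result (F : Type u) [Field F]
    (M : Over (Spec (CommRingCat.of F))) [GrpObj M] [Smooth M.hom] [QuasiCompact M.hom] [IsAffine M.left] [ConnectedSpace ↥M.left] :
    Red.HasNoSubtorus F M ↔ Red.HasNoSubtorus (AlgebraicClosure F) (Red.bc (Spec.map (CommRingCat.ofHom (algebraMap F (AlgebraicClosure F)))) M) := by
  let σ := Spec.map (CommRingCat.ofHom (algebraMap F (AlgebraicClosure F)))
  open CartesianMonoidalCategory MonObj GrpObj Groth.Agent.SolvGrp in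
  constructor
  · intro h
    let s₀ := AGFLib.GeomBC.pt F
    obtain ⟨φ₀, hφ₀⟩ := Spec.map_surjective (Red.geomPt s₀)
    have hc : ConnectedSpace (Red.geomFibre s₀ M).left := by
      show ConnectedSpace (Red.bc (Red.geomPt s₀) M).left
      rw [← hφ₀]
      exact GrpSchLib.AntiAffine.connectedSpace_bc M φ₀.hom
    refine UnipBC.bc_algClosed_props s₀ hc ?_ σ
    obtain ⟨T, _, i, -, hi, himono, hT, hmax⟩ := Groth.exists_isMaximalTorus M
    haveI := hi
    haveI := himono
    haveI : IsIso T.hom := h T i hT
    intro T' _ j _ _ hT'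
    haveI : IsIso (Red.geomFibre s₀ T).hom :=
      inferInstanceAs (IsIso (Limits.pullback.snd T.hom (Red.geomPt s₀)))
    let f : Red.geomFibre s₀ T ⟶ T' := toUnit _ ≫ η[T']
    have hu : ∀ {Z : Over (Spec (CommRingCat.of (AlgebraicClosure ((Spec (CommRingCat.of F)).residueField s₀))))} (a b : Z ⟶ Red.geomFibre s₀ T), a = b :=
      fun a b => Over.OverMorphism.ext ((cancel_mono (Red.geomFibre s₀ T).hom).1 ((Over.w a).trans (Over.w b).symm))
    haveI : IsMonHom ((Over.pullback (Red.geomPt s₀)).map i) := inferInstance
    have hf : f ≫ j = (Over.pullback (Red.geomPt s₀)).map i := by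
      rw [Category.assoc, IsMonHom.one_hom j, ← IsMonHom.one_hom ((Over.pullback (Red.geomPt s₀)).map i), ← Category.assoc,
        hu (toUnit (Red.geomFibre s₀ T) ≫ η[Red.geomFibre s₀ T]) (𝟙 _)]
      exact Category.id_comp _
    haveI := hmax s₀ T' j f hT' hf
    haveI : IsIso f.left := inferInstanceAs (IsIso ((Over.forget _).map f))
    show IsIso T'.hom
    rw [show T'.hom = inv f.left ≫ (Red.geomFibre s₀ T).hom by rw [← Over.w f, IsIso.inv_hom_id_assoc]]
    infer_instance
  · intro h T _ j _ _ hT
    haveI : (Over.pullback σ).IsRightAdjoint := (Over.mapPullbackAdj σ).isRightAdjoint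
    haveI : Mono ((Over.pullback σ).map j) := inferInstance
    haveI : IsIso (Red.bc σ T).hom := h (Red.bc σ T) ((Over.pullback σ).map j) (isTorus_bc σ hT)
    haveI : IsIso (toUnit T) := Groth.isIso_of_fieldExt (toUnit T) (algebraMap F (AlgebraicClosure F)) (by
      haveI : IsIso ((Over.pullback σ).map (toUnit T)).left := by
        haveI : IsIso ((Over.pullback σ).obj (𝟙_ (Over (Spec (CommRingCat.of F))))).hom :=
          inferInstanceAs (IsIso (Limits.pullback.snd (𝟙 (Spec (CommRingCat.of F))) σ))
        haveI : IsIso (((Over.pullback σ).map (toUnit T)).left ≫ ((Over.pullback σ).obj (𝟙_ (Over (Spec (CommRingCat.of F))))).hom) := by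
          rw [Over.w]; infer_instance
        exact IsIso.of_isIso_comp_right _ ((Over.pullback σ).obj (𝟙_ (Over (Spec (CommRingCat.of F))))).hom
      haveI : IsIso ((Over.forget _).map ((Over.pullback σ).map (toUnit T))) := ‹_›
      exact isIso_of_reflects_iso _ (Over.forget _))
    haveI : IsIso (toUnit T).left := inferInstanceAs (IsIso ((Over.forget _).map (toUnit T)))
    show IsIso T.hom
    rw [← Over.w (toUnit T)]
    exact inferInstanceAs (IsIso ((toUnit T).left ≫ 𝟙 _))

end Groth.Agent.S18071
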