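import Groth.Statements.S2080
import Groth.Agent.MorLib.GenFinite

set_option autoImplicit false
universe u
open CategoryTheory AlgebraicGeometry
open Mor

namespace Groth.Agent.S2080

/-- Let `f : X → Y` be locally of finite type, quasi-compact and quasi-separated, and `η` a generic
point of an irreducible component of `Y`. Then `f⁻¹{η}` is finite if and only if there is an affine
open `V ∋ η` such that `f⁻¹(V) → V` is finite. -/
theorem result {X Y : Scheme.{u}} (f : X ⟶ Y) [LocallyOfFiniteType f]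
    [QuasiCompact f] [QuasiSeparated f] (η : Y) (hη : closure {η} ∈ irreducibleComponents (Y : Type u)) :
    (f.base ⁻¹' {η}).Finite ↔ ∃ V : Y.Opens, IsAffineOpen V ∧ η ∈ V ∧ IsFinite (f ∣_ V) := by
  constructor
  · intro hfin
    obtain ⟨V, hV, hηV, -, hf⟩ := Groth.Agent.MorLib.GenFinite.exists_isFinite f hη hfin
      (Groth.Agent.MorLib.GenFinite.exists_open_of_finite_fibre f hfin)
      (fun V₀ hV₀ hη₀ U₁ U₂ h₁ h₂ e₁ e₂ h =>
        Groth.Agent.MorLib.GenFinite.exists_avoid_inf f hη hV₀ hη₀ h₁ h₂ e₁ e₂ h) ⊤ trivial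
    exact ⟨V, hV, hηV, hf⟩
  · rintro ⟨V, -, hηV, hf⟩
    refine (((f ∣_ V).finite_preimage_singleton ⟨η, hηV⟩).image (f ⁻¹ᵁ V).ι).subset fun z hz => ?_
    have hz' : f z = η := hz
    refine ⟨⟨z, show f z ∈ V from hz' ▸ hηV⟩, V.ι.isOpenEmbedding.injective ?_, rfl⟩
    rw [← Scheme.Hom.comp_apply, morphismRestrict_ι, Scheme.Hom.comp_apply]
    exact hz'

end Groth.Agent.S2080
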