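import Groth.Statements.S19862
import Groth.Agent.AVTors.FactorPts
import Groth.Agent.AVTors.TateFree
-- import your own Groth.Agent.* helpers here

set_option autoImplicit false
universe u
open CategoryTheory MonoidalCategory CartesianMonoidalCategory MonObj GrpObj AlgebraicGeometry
open AbVar

namespace Groth.Agent.S19862

set_option linter.style.haveILetI false
set_option backward.isDefEq.respectTransparency false
set_option backward.isDefEq.respectTransparency.types false
set_option maxHeartbeats 1000000

/-- Let k be a field, K an algebraically closed extension field of k, l a prime invertible in k, A and B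
abelian varieties over k (proper, geometrically integral, commutative group schemes over k), φ : A →
B a homomorphism over k and n a natural number. If the map induced by φ on the l-adic Tate modules
of K-valued points, T_l A(K) → T_l B(K), equals l^n · u for some ℤ_l-linear u, then φ is divisible
by l^n among homomorphisms over k: φ = φ′ ∘ (l^n)_A for some homomorphism φ′ : A → B, (l^n)_A being
the l^n-th power of the identity in the group Hom(A, A). (The source uses Tate modules of points
over an algebraic closure of k; any algebraically closed extension field gives the same statement.) -/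
theorem result (k : Type u) [Field k]
    (K : Type u) [Field K] [Algebra k K] [IsAlgClosed K] (l : ℕ) [Fact l.Prime] (hl : (l : k) ≠ 0)
    (A B : Over (Spec (CommRingCat.of k)))
    [GrpObj A] [IsCommMonObj A] [IsProper A.hom] [GeometricallyIntegral A.hom]
    [GrpObj B] [IsCommMonObj B] [IsProper B.hom] [GeometricallyIntegral B.hom]
    (φ : A ⟶ B) [IsMonHom φ] (n : ℕ)
    (u : AbDual.TateMod A l (Over.mk (Spec.map (CommRingCat.ofHom (algebraMap k K)))) →ₗ[ℤ_[l]]
      AbDual.TateMod B l (Over.mk (Spec.map (CommRingCat.ofHom (algebraMap k K)))))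
    (hu : AbDual.tateMapₗ (l := l) (T := Over.mk (Spec.map (CommRingCat.ofHom (algebraMap k K)))) φ =
      ((l : ℤ_[l]) ^ n) • u) :
    ∃ φ' : A ⟶ B, IsMonHom φ' ∧ φ = (𝟙 A ^ (l ^ n)) ≫ φ' := by
  have hpos : 0 < l ^ n := pow_pos (Fact.out : l.Prime).pos n
  obtain ⟨h1, -, h3⟩ := AVDegLib.zpow_props (A := A) ((l ^ n : ℕ) : ℤ) (by exact_mod_cast hpos.ne')
  rw [zpow_natCast] at h1 h3
  haveI : GeometricallyConnected A.hom := H23.CubeAb.geometricallyConnected_of_integral A.hom
  haveI : GeometricallyReduced A.hom := inferInstance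
  letI : GrpObj (Over.mk A.hom) := inferInstanceAs (GrpObj A)
  haveI : Smooth A.hom := smooth_of_grpObj A.hom
  haveI : Etale (𝟙 A ^ (l ^ n) : A ⟶ A).left := by
    have hne : ((l ^ n : ℕ) : k) ≠ 0 := by rw [Nat.cast_pow]; exact pow_ne_zero _ hl
    have hu : IsUnit (((l ^ n : ℕ) : ℤ) : Γ(Spec (CommRingCat.of k), ⊤)) := by
      have h := (isUnit_iff_ne_zero.2 hne).map (Scheme.ΓSpecIso (CommRingCat.of k)).inv.hom
      rw [map_natCast] at h
      simpa using h
    have := H23.MulEtale.etale_zpow (X := A) ((l ^ n : ℕ) : ℤ) hu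
    rwa [zpow_natCast] at this
  haveI : IsMonHom (𝟙 A ^ (l ^ n) : A ⟶ A) := AVDegLib.isMonHom_pow _
  haveI := h1
  haveI := h3
  obtain ⟨ρ, hρm, hρ⟩ := AVTors.exists_factor_pt K (𝟙 A ^ (l ^ n) : A ⟶ A) φ fun P hP => by
    rw [MonObj.comp_pow, Category.comp_id] at hP
    obtain ⟨x, hx⟩ := AVTors.exists_cpt_eq (fun b => AVTors.exists_root_pt K A l (Fact.out : l.Prime).pos b) n P hP
    have h2 := congrArg (fun f => AVTors.cpt n (f x)) hu
    have h4 : AVTors.cpt n (AbDual.tateMapₗ (l := l) φ x) = Additive.ofMul (P ≫ φ) :=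
      congrArg (fun a => Additive.ofMul (Additive.toMul a ≫ φ)) hx
    have h5 : AVTors.cpt n ((((l : ℤ_[l]) ^ n) • u) x) = 0 := by
      rw [LinearMap.smul_apply, ← Nat.cast_pow, AVTors.natCast_smul_eq, AVTors.cpt_nsmul]
      exact AbDual.TateMod.torsion (u x) n
    exact congrArg Additive.toMul ((h4.symm.trans h2).trans h5)
  exact ⟨ρ, hρm, hρ.symm⟩

end Groth.Agent.S19862
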