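import Groth.Statements.S2162
import Mathlib
import Groth.Agent.EGA41Lib.FieldFS

set_option autoImplicit false
universe u
open CAlg

namespace Groth.Agent.S2162

/-- Let `R → S` be an injective ring map of finite type between domains, with fraction fields `K ⊆ L`.
Then `R → S` is smooth at the zero ideal of `S` if and only if `L` is geometrically reduced over `K`
(the published statement phrases the condition as `L/K` being separable; here separability is
expressed as geometric reducedness). -/
theorem result {R S K L : Type u} [CommRing R] [IsDomain R] [CommRing S]
    [IsDomain S] [Algebra R S] [FaithfulSMul R S] [Algebra.FiniteType R S] [Field K] [Field L] [Algebra R K] [IsFractionRing R K]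
    [Algebra S L] [IsFractionRing S L] [Algebra K L] [Algebra R L] [IsScalarTower R S L] [IsScalarTower R K L] :
    Algebra.IsSmoothAt R (⊥ : Ideal S) ↔ Algebra.IsGeometricallyReduced K L := by
  haveI : Algebra.FormallyEtale R K := Algebra.FormallyEtale.of_isLocalization (nonZeroDivisors R)
  haveI : IsLocalization.AtPrime L (⊥ : Ideal S) := by
    have : (⊥ : Ideal S).primeCompl = nonZeroDivisors S := by
      ext x; simp [Ideal.primeCompl]
    show IsLocalization (⊥ : Ideal S).primeCompl L
    rw [this]; infer_instance
  let e : Localization.AtPrime (⊥ : Ideal S) ≃ₐ[R] L :=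
    (IsLocalization.algEquiv (⊥ : Ideal S).primeCompl (Localization.AtPrime (⊥ : Ideal S)) L).restrictScalars R
  show Algebra.FormallySmooth R (Localization.AtPrime (⊥ : Ideal S)) ↔ _
  rw [Algebra.FormallySmooth.iff_of_equiv e]
  constructor
  · intro h
    haveI : Algebra.FormallySmooth K L := Algebra.FormallySmooth.of_restrictScalars R K L
    exact Groth.Agent.EGA41Lib.FieldFS.isGeometricallyReduced_of_formallySmooth K L
  · intro h
    haveI := Groth.Agent.EGA41Lib.FieldFS.formallySmooth_of_isGeometricallyReduced K L
    exact Algebra.FormallySmooth.comp R K L

end Groth.Agent.S2162
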