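import Groth.Statements.S9821
import Groth.Agent.SchTop.Closed
set_option autoImplicit false
universe u
open CategoryTheory CategoryTheory.Limits AlgebraicGeometry TopologicalSpace Opposite
open Props

namespace Groth.Agent.S9821

/-- An integral scheme is normal if and only if the coordinate ring of every nonempty affine open is an
integrally closed domain. -/
theorem result (X : Scheme.{u}) [IsIntegral X] :
    Pi1.IsNormalScheme X ↔ ∀ (U : X.Opens) [Nonempty U], IsAffineOpen U → IsIntegrallyClosed Γ(X, U) := by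
  refine ⟨fun h U _ hU => ?_, fun h x => ?_⟩
  · refine IsIntegrallyClosed.of_localization_maximal fun p _ _ => ?_
    have hx : hU.fromSpec ⟨p, inferInstance⟩ ∈ U := hU.range_fromSpec.subset (Set.mem_range_self _)
    obtain ⟨e⟩ := Groth.Agent.SchTop.nonempty_stalk_equiv hU hx
    rw [show hU.primeIdealOf ⟨_, hx⟩ = ⟨p, inferInstance⟩ from
      hU.fromSpec.isOpenEmbedding.injective (hU.fromSpec_primeIdealOf _)] at e
    have := (h (hU.fromSpec ⟨p, inferInstance⟩)).2
    exact IsIntegrallyClosed.of_equiv e
  · obtain ⟨_, ⟨U, hU, rfl⟩, hxU, -⟩ :=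
      X.isBasis_affineOpens.exists_subset_of_mem_open (Set.mem_univ x) isOpen_univ
    have : Nonempty U := ⟨⟨x, hxU⟩⟩
    have := h U hU
    obtain ⟨e⟩ := Groth.Agent.SchTop.nonempty_stalk_equiv hU hxU
    refine ⟨inferInstance, ?_⟩
    have := isIntegrallyClosed_of_isLocalization
      (Localization.AtPrime (hU.primeIdealOf ⟨x, hxU⟩).asIdeal)
      (hU.primeIdealOf ⟨x, hxU⟩).asIdeal.primeCompl
      (Ideal.primeCompl_le_nonZeroDivisors _)
    exact IsIntegrallyClosed.of_equiv e.symm

end Groth.Agent.S9821
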