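import Groth.Statements.S4809
import Groth.Agent.Triage.ZMTBir
import Groth.Agent.SchLocX.Dominant
import Mathlib.AlgebraicGeometry.Morphisms.LocalIso

set_option autoImplicit false
universe u
open CategoryTheory AlgebraicGeometry
open Lim8

namespace Groth.Agent.S4809

/-- Let Y be an integral normal scheme (every local ring integrally closed), X an integral scheme, and f
: X ⟶ Y a locally quasi-finite morphism (locally of finite type with discrete fibres) which is
birational: f maps the generic point of X to that of Y and its stalk map at the generic point of X,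
the induced homomorphism of function fields, is an isomorphism. Then f is a local isomorphism, and f
is an open immersion as soon as it is separated. -/
theorem result {X Y : Scheme.{u}} [IsIntegral X] [IsIntegral Y]
    (hN : ∀ y : Y, IsIntegrallyClosed (Y.presheaf.stalk y)) (f : X ⟶ Y) [LocallyQuasiFinite f]
    [LocallyOfFiniteType f] (hgen : f (genericPoint X) = genericPoint Y)
    (hbir : IsIso (f.stalkMap (genericPoint X))) :
    IsLocalIso f ∧ (IsSeparated f → IsOpenImmersion f) := by
  have hloc : ∀ x : X, ∃ U : X.Opens, x ∈ U ∧ IsOpenImmersion (U.ι ≫ f) := by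
    intro x
    obtain ⟨V, hV, hxV, -⟩ := exists_isAffineOpen_mem_and_subset (x := f x) (U := ⊤) trivial
    obtain ⟨U, hU, hxU, hUV⟩ := exists_isAffineOpen_mem_and_subset (x := x) (U := f ⁻¹ᵁ V) hxV
    replace hUV : U ≤ f ⁻¹ᵁ V := hUV
    refine ⟨U, hxU, ?_⟩
    haveI : Nonempty U := ⟨⟨x, hxU⟩⟩
    haveI : IsAffine U.toScheme := hU
    haveI : IsAffine V.toScheme := hV
    haveI : Nonempty V := ⟨⟨f x, hxV⟩⟩
    haveI : LocallyQuasiFinite (f.resLE V U hUV) := by
      have : LocallyQuasiFinite (f.resLE V U hUV ≫ V.ι) := by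
        rw [Scheme.Hom.resLE_comp_ι]; infer_instance
      exact LocallyQuasiFinite.of_comp _ V.ι
    haveI : LocallyOfFiniteType (f.resLE V U hUV) := by
      have : LocallyOfFiniteType (f.resLE V U hUV ≫ V.ι) := by
        rw [Scheme.Hom.resLE_comp_ι]; infer_instance
      exact locallyOfFiniteType_of_comp _ V.ι
    have hU' : U.ι (genericPoint U.toScheme) = genericPoint X := genericPoint_eq_of_isOpenImmersion U.ι
    have hV' : V.ι (genericPoint V.toScheme) = genericPoint Y := genericPoint_eq_of_isOpenImmersion V.ι
    have h1 : f.resLE V U hUV (genericPoint U.toScheme) = genericPoint V.toScheme := by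
      apply V.ι.isOpenEmbedding.injective
      rw [hV', ← Scheme.Hom.comp_apply, Scheme.Hom.resLE_comp_ι, Scheme.Hom.comp_apply, hU', hgen]
    have h2 : IsIso ((f.resLE V U hUV).stalkMap (genericPoint U.toScheme)) := by
      have key : ∀ z : U.toScheme, U.ι z = genericPoint X → IsIso ((f.resLE V U hUV ≫ V.ι).stalkMap z) := by
        intro z hz
        rw [Scheme.Hom.stalkMap_congr_hom _ (U.ι ≫ f) (Scheme.Hom.resLE_comp_ι f hUV), Scheme.Hom.stalkMap_comp]
        have : IsIso (f.stalkMap (U.ι z)) := by rw [hz]; exact hbir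
        have : IsIso (U.ι.stalkMap z) := inferInstance
        exact @IsIso.comp_isIso _ _ _ _ _ _ _ inferInstance (@IsIso.comp_isIso _ _ _ _ _ _ _ ‹_› ‹_›)
      have h3 := key _ hU'
      rw [Scheme.Hom.stalkMap_comp] at h3
      exact @IsIso.of_isIso_comp_left _ _ _ _ _ _ _
        ((IsOpenImmersion.iff_isIso_stalkMap.mp (inferInstance : IsOpenImmersion V.ι)).2 _) h3
    have : IsOpenImmersion (f.resLE V U hUV) := Groth.Agent.Triage.ZMTBir.isOpenImmersion_of_birational
      (fun v => IsIntegrallyClosed.of_equiv (V.stalkIso v).commRingCatIsoToRingEquiv.symm (h := hN _))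
      _ h1 h2
    rw [← Scheme.Hom.resLE_comp_ι f hUV]
    infer_instance
  refine ⟨⟨hloc⟩, fun _ => ?_⟩
  exact Groth.Agent.SchLocX.isOpenImmersion_of_isLocalIso f hloc

end Groth.Agent.S4809
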