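import Groth.Statements.S9256
import Mathlib
import Groth.Agent.RegLoc6.Serre

set_option autoImplicit false
universe u
open CAlg

namespace Groth.Agent.S9256
open TensorProduct in
theorem regular_of_reduced_artinian (T : Type u) [CommRing T] [IsArtinianRing T] [IsReduced T] :
    IsRegularRing T := by
  rw [isRegularRing_iff]
  intro P _
  have : IsReduced (Localization.AtPrime P) :=
    isReduced_localizationPreserves P.primeCompl (Localization.AtPrime P) inferInstance
  have hf : IsField (Localization.AtPrime P) := IsArtinianRing.isField_of_isReduced_of_isLocalRing _
  let := hf.toField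
  exact inferInstance

open TensorProduct in
theorem fibre_iff (k K : Type u) [Field k] [Field K] [Algebra k K] :
    CAlg.IsGeometricallyRegular k K ↔ Algebra.IsGeometricallyReduced k K := by
  constructor
  · intro h
    rw [Algebra.isGeometricallyReduced_field_iff]
    have : IsReduced (K ⊗[k] AlgebraicClosure k) := by
      refine IsReduced.tensorProduct_of_flat_of_forall_fg ?_
      intro B hB
      have : Algebra.FiniteType k B := (Subalgebra.fg_iff_finiteType B).mp hB
      have : Algebra.IsIntegral k B := Algebra.IsIntegral.of_injective B.val Subtype.val_injective
      have hfin : Module.Finite k B := Algebra.IsIntegral.finite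
      let B' : Type u := B
      let : Field B' := (isField_of_isIntegral_of_isField' (R := k) (S := B)
        (Field.toIsField k)).toField
      have hreg : IsRegularRing (B ⊗[k] K) := h B' hfin
      have : IsReduced (B ⊗[k] K) := by
        have : IsArtinianRing (K ⊗[k] B) := IsArtinianRing.of_finite K _
        have : IsArtinianRing (B ⊗[k] K) :=
          Function.Surjective.isArtinianRing
            (f := (Algebra.TensorProduct.comm k B K).toRingEquiv.symm.toRingHom)
            (RingEquiv.surjective _)
        refine isReduced_ofLocalizationMaximal _ fun m hm => ?_
        have := hm.isPrime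
        have : IsRegularLocalRing (Localization.AtPrime m) :=
          IsRegularRing.isRegularLocalRing_localization m
        have : IsDomain (Localization.AtPrime m) :=
          Groth.Agent.RegLoc6.isDomain_of_isRegularLocalRing (Localization.AtPrime m)
        infer_instance
      exact isReduced_of_injective (Algebra.TensorProduct.comm k K B) (AlgEquiv.injective _)
    exact isReduced_of_injective
      (Algebra.TensorProduct.comm k (AlgebraicClosure k) K) (AlgEquiv.injective _)
  · intro h k' _ _ hk'
    have : Algebra.IsAlgebraic k k' := Algebra.IsAlgebraic.of_finite k k'
    have : IsReduced (k' ⊗[k] K) := inferInstance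
    have : IsArtinianRing (K ⊗[k] k') := IsArtinianRing.of_finite K _
    have : IsArtinianRing (k' ⊗[k] K) :=
      Function.Surjective.isArtinianRing
        (f := (Algebra.TensorProduct.comm k k' K).toRingEquiv.symm.toRingHom)
        (RingEquiv.surjective _)
    exact regular_of_reduced_artinian _


/-- For a field extension K of k, the ring map k → K is regular exactly when K is separable over k, that
is, geometrically reduced over k. -/
theorem result (k K : Type u) [Field k] [Field K]
    [Algebra k K] : CAlg.IsRegularHom k K ↔ Algebra.IsGeometricallyReduced k K := by
  open TensorProduct in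
  constructor
  · rintro ⟨-, hf⟩
    rw [← fibre_iff]
    intro k' _ _ hk'
    have hp : (⊥ : Ideal k).IsPrime := Ideal.isPrime_bot
    let e := (⊥ : Ideal k).algEquivResidueFieldOfField
    let : Algebra (⊥ : Ideal k).ResidueField k' := ((algebraMap k k').comp e.symm.toRingEquiv.toRingHom).toAlgebra
    have : IsScalarTower k (⊥ : Ideal k).ResidueField k' :=
      IsScalarTower.of_algebraMap_eq fun x => by
        show algebraMap k k' x = algebraMap k k' (e.symm (algebraMap k _ x))
        rw [AlgEquiv.commutes]
        rfl
    have hfin : Module.Finite (⊥ : Ideal k).ResidueField k' := Module.Finite.of_restrictScalars_finite k _ _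
    have := (hf ⊥).2 k' hfin
    exact IsRegularRing.of_ringEquiv
      (Algebra.TensorProduct.cancelBaseChange k (⊥ : Ideal k).ResidueField k' k' K).toRingEquiv
  · intro h
    refine ⟨inferInstance, fun p hp => ?_⟩
    have hb : p = ⊥ := (Ideal.eq_bot_or_top p).resolve_right hp.ne_top
    let e := p.algEquivResidueFieldOfField
    have : Module.Finite k p.ResidueField := Module.Finite.equiv e.toLinearEquiv
    have : IsNoetherianRing (K ⊗[k] p.ResidueField) := IsNoetherianRing.of_finite K _
    refine ⟨isNoetherianRing_of_ringEquiv (K ⊗[k] p.ResidueField)
        (Algebra.TensorProduct.comm k K p.ResidueField).toRingEquiv, ?_⟩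
    intro k' _ _ hk'
    let : Algebra k k' := ((algebraMap p.ResidueField k').comp (algebraMap k p.ResidueField)).toAlgebra
    have : IsScalarTower k p.ResidueField k' := IsScalarTower.of_algebraMap_eq' rfl
    have hfin : Module.Finite k k' := Module.Finite.trans p.ResidueField k'
    have := ((fibre_iff k K).mpr h) k' hfin
    exact IsRegularRing.of_ringEquiv
      (Algebra.TensorProduct.cancelBaseChange k p.ResidueField k' k' K).symm.toRingEquiv


end Groth.Agent.S9256
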