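import Groth.Statements.S1182
import Groth.Agent.S2670
import Groth.Agent.GeomReg.Basic
import Groth.Agent.FlatLoc6.NormalFibre
import Groth.Agent.FlatLoc6.GeomComp
import Groth.Agent.Hensel.HenselizationNormal
import Mathlib.RingTheory.Smooth.NoetherianDescent
import Mathlib.RingTheory.RingHom.Flat
import Mathlib.RingTheory.Flat.FaithfullyFlat.Algebra
import Mathlib.RingTheory.Spectrum.Prime.RingHom

set_option autoImplicit false
set_option backward.isDefEq.respectTransparency false
set_option backward.isDefEq.respectTransparency.types false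
universe u
open Desc

namespace Groth.Agent.S1182

/-- Let A → B be a smooth ring map. If A is a normal ring (all local rings integrally closed domains)
then so is B; and if moreover A → B is faithfully flat and B is normal, then A is normal. So
normality can be checked smooth-locally. -/
theorem result (A B : Type u) [CommRing A] [CommRing B] [Algebra A B] [Algebra.Smooth A B] :
    (EGA4.IsNormalRing A → EGA4.IsNormalRing B) ∧
    (Module.FaithfullyFlat A B → EGA4.IsNormalRing B → EGA4.IsNormalRing A) := by
  refine ⟨fun hA => ?_, fun hff hB => ?_⟩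
  · obtain ⟨A₀, B₀, _, _, hfg, hsm, ⟨e⟩⟩ := Algebra.Smooth.exists_subalgebra_fg ℤ (A := A) (B := B)
    haveI : Algebra.FiniteType ℤ A₀ := A₀.fg_iff_finiteType.1 hfg
    haveI : IsNoetherianRing A₀ := Algebra.FiniteType.isNoetherianRing ℤ A₀
    haveI : IsNoetherianRing B₀ := Algebra.FiniteType.isNoetherianRing A₀ B₀
    have hreg : CAlg.IsRegularHom A₀ B₀ := ⟨inferInstance, fun p _ =>
      ⟨Algebra.FiniteType.isNoetherianRing p.ResidueField _, fun L _ _ _ =>
        Groth.Agent.GeomReg.isRegularRing_of_smooth L _⟩⟩
    have h := Groth.Agent.S2670.result A₀ B₀ (Groth.Agent.FlatLoc6.isNormalHom_of_isRegularHom _ _ hreg) A hA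
    exact Groth.Agent.FlatLoc6.isNormalRing_of_ringEquiv
      ((Algebra.TensorProduct.comm A₀ B₀ A).toRingEquiv.trans e.symm.toRingEquiv) h
  · intro p _
    obtain ⟨Q, hQ⟩ := PrimeSpectrum.comap_surjective_of_faithfullyFlat (A := A) (B := B) ⟨p, ‹_›⟩
    have hp : p = Q.asIdeal.comap (algebraMap A B) := (congrArg PrimeSpectrum.asIdeal hQ).symm
    let f := Localization.localRingHom p Q.asIdeal (algebraMap A B) hp
    letI := f.toAlgebra
    haveI : Module.Flat (Localization.AtPrime p) (Localization.AtPrime Q.asIdeal) :=
      RingHom.flat_algebraMap_iff.1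
        (RingHom.Flat.localRingHom (RingHom.flat_algebraMap_iff.2 inferInstance) Q.asIdeal p hp)
    haveI : IsLocalHom (algebraMap (Localization.AtPrime p) (Localization.AtPrime Q.asIdeal)) :=
      Localization.isLocalHom_localRingHom p Q.asIdeal (algebraMap A B) hp
    haveI := Module.FaithfullyFlat.of_flat_of_isLocalHom (A := Localization.AtPrime p)
      (B := Localization.AtPrime Q.asIdeal)
    obtain ⟨_, _⟩ := hB Q.asIdeal
    exact Groth.Agent.Hensel.isIntegrallyClosed_of_faithfullyFlat (Localization.AtPrime p)
      (Localization.AtPrime Q.asIdeal)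

end Groth.Agent.S1182
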