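import Groth.Statements.S4989
import Groth.Agent.S1182
import Groth.Agent.S9407
import Groth.Agent.FlatLoc6.FiberSelf
import Mathlib

set_option autoImplicit false
universe u
open CategoryTheory CategoryTheory.Limits AlgebraicGeometry TopologicalSpace
open Unram17

namespace Groth.Agent.S4989

theorem ring_main {A B : Type u} [CommRing A] [CommRing B] [Algebra A B] [Algebra.Smooth A B]
    (q : Ideal B) [q.IsPrime] {RX RY : Type u} [CommRing RX] [CommRing RY]
    (ex : Localization.AtPrime q ≃+* RX) (ey : Localization.AtPrime (q.under A) ≃+* RY) :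
    (IsReduced RX ↔ IsReduced RY) ∧
    ((IsDomain RX ∧ IsIntegrallyClosed RX) ↔ (IsDomain RY ∧ IsIntegrallyClosed RY)) := by
  let p := q.under A
  let Ap := Localization.AtPrime p
  let T := Localization (Algebra.algebraMapSubmonoid B p.primeCompl)
  let Bq := Localization.AtPrime q
  have hle : Algebra.algebraMapSubmonoid B p.primeCompl ≤ q.primeCompl := by
    rintro _ ⟨a, ha, rfl⟩
    exact ha
  have : Algebra.IsPushout A Ap B T :=
    .symm <| Algebra.isPushout_of_isLocalization p.primeCompl _ _ _
  have : Algebra.Smooth Ap T := Algebra.Smooth.of_equiv (Algebra.IsPushout.equiv A Ap B T)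
  let _ : Algebra T Bq := IsLocalization.localizationAlgebraOfSubmonoidLe T Bq _ q.primeCompl hle
  have : IsScalarTower B T Bq := IsLocalization.localization_isScalarTower_of_submonoid_le T Bq _ q.primeCompl hle
  have hloc : IsLocalization (q.primeCompl.map (algebraMap B T)) Bq :=
    IsLocalization.isLocalization_of_submonoid_le T Bq _ q.primeCompl hle
  let f := Localization.localRingHom p q (algebraMap A B) rfl
  let _ := f.toAlgebra
  have : Module.Flat Ap Bq :=
    RingHom.flat_algebraMap_iff.1
      (RingHom.Flat.localRingHom (RingHom.flat_algebraMap_iff.2 inferInstance) q p rfl)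
  have : IsLocalHom (algebraMap Ap Bq) := Localization.isLocalHom_localRingHom p q (algebraMap A B) rfl
  have := Module.FaithfullyFlat.of_flat_of_isLocalHom (A := Ap) (B := Bq)
  have hinj : Function.Injective (algebraMap Ap Bq) := FaithfulSMul.algebraMap_injective Ap Bq
  constructor
  · constructor
    · intro h
      have : IsReduced Bq := isReduced_of_injective ex ex.injective
      have : IsReduced Ap := isReduced_of_injective (algebraMap Ap Bq) hinj
      exact isReduced_of_injective ey.symm ey.symm.injective
    · intro h
      have : IsReduced Ap := isReduced_of_injective ey ey.injective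
      have : IsReduced T := Groth.Agent.S9407.result Ap T
      have : IsReduced Bq := isReduced_localizationPreserves (q.primeCompl.map (algebraMap B T)) Bq ‹_›
      exact isReduced_of_injective ex.symm ex.symm.injective
  · constructor
    · rintro ⟨h1, h2⟩
      have : IsDomain Bq := ex.toMulEquiv.isDomain RX
      have : IsIntegrallyClosed Bq := IsIntegrallyClosed.of_equiv ex.symm
      have : IsDomain Ap := hinj.isDomain
      have : IsIntegrallyClosed Ap := (Groth.Agent.Hensel.isIntegrallyClosed_of_faithfullyFlat Ap Bq).2
      exact ⟨ey.symm.toMulEquiv.isDomain Ap, IsIntegrallyClosed.of_equiv ey⟩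
    · rintro ⟨h1, h2⟩
      have : IsDomain Ap := ey.toMulEquiv.isDomain RY
      have : IsIntegrallyClosed Ap := IsIntegrallyClosed.of_equiv ey.symm
      have hnA : EGA4.IsNormalRing Ap := by
        intro P _
        have hP : P.primeCompl ≤ nonZeroDivisors Ap :=
          fun a ha => mem_nonZeroDivisors_of_ne_zero fun h => ha (h ▸ P.zero_mem)
        exact ⟨IsLocalization.isDomain_localization hP,
          isIntegrallyClosed_of_isLocalization (Localization.AtPrime P) P.primeCompl hP⟩
      have hnT := (Groth.Agent.S1182.result Ap T).1 hnA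
      let Q : Ideal T := (IsLocalRing.maximalIdeal Bq).comap (algebraMap T Bq)
      have hQq : Q.comap (algebraMap B T) = q := by
        rw [Ideal.comap_comap, ← IsScalarTower.algebraMap_eq]
        exact IsLocalization.AtPrime.under_maximalIdeal Bq q
      have : IsLocalization.AtPrime (Localization.AtPrime Q) (Q.comap (algebraMap B T)) :=
        IsLocalization.isLocalization_isLocalization_atPrime_isLocalization
          (Algebra.algebraMapSubmonoid B p.primeCompl) (Localization.AtPrime Q) Q
      have : IsLocalization q.primeCompl (Localization.AtPrime Q) := by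
        convert! (this : IsLocalization (Q.comap (algebraMap B T)).primeCompl _) using 2
        exact hQq.symm
      let eq' : Localization.AtPrime Q ≃+* Bq :=
        (IsLocalization.algEquiv q.primeCompl (Localization.AtPrime Q) Bq).toRingEquiv
      obtain ⟨_, _⟩ := hnT Q
      exact ⟨(eq'.trans ex).symm.toMulEquiv.isDomain _, IsIntegrallyClosed.of_equiv (eq'.trans ex)⟩

/-- Let f : X ⟶ Y be locally of finite presentation and smooth at a point x with image y. Then the local
ring of X at x is reduced if and only if the local ring of Y at y is reduced, and it is an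
integrally closed domain if and only if the local ring of Y at y is one. (The published statement
also covers geometrically unibranch local rings; this row states only the reduced and the integrally
closed cases.) -/
theorem result {X Y : Scheme.{u}} (f : X ⟶ Y)
    [LocallyOfFinitePresentation f] (x : ↥X) (hx : x ∈ f.smoothLocus) :
    (IsReduced ↑(X.presheaf.stalk x) ↔ IsReduced ↑(Y.presheaf.stalk (f.base x))) ∧
    ((IsDomain ↑(X.presheaf.stalk x) ∧ IsIntegrallyClosed ↑(X.presheaf.stalk x)) ↔
      (IsDomain ↑(Y.presheaf.stalk (f.base x)) ∧ IsIntegrallyClosed ↑(Y.presheaf.stalk (f.base x)))) := by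
  
  let U₀ := f.smoothLocus
  have hsm : Smooth (U₀.ι ≫ f) := by
    rw [← Scheme.Hom.smoothLocus_eq_top_iff, ← Scheme.Hom.preimage_smoothLocus_eq]
    exact U₀.ι_preimage_self
  let g := U₀.ι ≫ f
  let y : (U₀ : Scheme.{u}) := ⟨x, hx⟩
  obtain ⟨U, hU, V, hV, hy, e, hf⟩ := Smooth.exists_isStandardSmooth g y
  let _ : Algebra Γ(Y, U) Γ(U₀, V) := (g.appLE U V e).hom.toAlgebra
  have : Algebra.IsStandardSmooth Γ(Y, U) Γ(U₀, V) := hf
  let q := (hV.primeIdealOf ⟨y, hy⟩).asIdeal
  let p := q.under Γ(Y, U)
  have hp : p = (hU.primeIdealOf ⟨g y, e hy⟩).asIdeal :=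
    congr($(IsAffineOpen.comap_primeIdealOf_appLE U hU V hV e hy).1)
  let _ := Y.presheaf.algebra_section_stalk ⟨g y, e hy⟩
  let _ := (U₀ : Scheme.{u}).presheaf.algebra_section_stalk ⟨y, hy⟩
  have := hV.isLocalization_stalk ⟨y, hy⟩
  let ex : Localization.AtPrime q ≃+* X.presheaf.stalk x :=
    (IsLocalization.algEquiv q.primeCompl (Localization.AtPrime q)
      ((U₀ : Scheme.{u}).presheaf.stalk y)).toRingEquiv.trans
      (U₀.stalkIso y).commRingCatIsoToRingEquiv
  have : IsLocalization.AtPrime (Y.presheaf.stalk (g y)) p := by
    rw [IsLocalization.AtPrime]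
    convert hU.isLocalization_stalk ⟨g y, e hy⟩ using 2
  let ey : Localization.AtPrime p ≃+* Y.presheaf.stalk (f.base x) :=
    (IsLocalization.algEquiv p.primeCompl (Localization.AtPrime p) (Y.presheaf.stalk (g y))).toRingEquiv
  refine ring_main (A := Γ(Y, U)) (B := Γ(U₀, V)) q ex ey

end Groth.Agent.S4989
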