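import Groth.Statements.S16121
import Groth.Agent.AGFLib.Rational
-- import your own Groth.Agent.* helpers here

set_option autoImplicit false
set_option backward.isDefEq.respectTransparency.types false
set_option maxHeartbeats 1000000
set_option linter.style.haveILetI false
universe u
open CategoryTheory MonoidalCategory CartesianMonoidalCategory MonObj GrpObj AlgebraicGeometry CategoryTheory.Limits
open AlgGrp

namespace Groth.Agent.S16121

/-- Over an algebraically closed field k, a connected linear algebraic group G (an affine, smooth,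
connected k-group scheme) is a rational variety: there are a nonempty open subscheme U of G, an n,
an open subscheme V of the affine space 𝔸ⁿ_k and an isomorphism U ≅ V compatible with the structure
morphisms to Spec k. -/
theorem result (k : Type u) [Field k] [IsAlgClosed k]
    (G : Over (Spec (CommRingCat.of k))) [GrpObj G] [IsAffine G.left] [Smooth G.hom] [ConnectedSpace ↥G.left] :
    ∃ (U : G.left.Opens) (n : ℕ) (V : (𝔸(ULift.{u} (Fin n); Spec (CommRingCat.of k))).Opens)
      (e : (U : Scheme.{u}) ≅ (V : Scheme.{u})), (U : Set ↥G.left).Nonempty ∧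
        e.hom ≫ V.ι ≫ (𝔸(ULift.{u} (Fin n); Spec (CommRingCat.of k)) ↘ Spec (CommRingCat.of k)) = U.ι ≫ G.hom := by
  obtain ⟨n, C, _, _, ψ, j, hC, hψ, hj⟩ := AGFLib.Rational.exists_rational G
  haveI := hC
  haveI : IsOpenImmersion j.left := hj
  let e₀ : MvPolynomial (ULift.{u} (Fin n)) k ≃ₐ[k] MvPolynomial (Fin n) k := MvPolynomial.renameEquiv k Equiv.ulift
  haveI : IsOpenImmersion (Spec.map (CommRingCat.ofHom ψ.toRingHom)) := hψ
  haveI : IsOpenImmersion (Spec.map (CommRingCat.ofHom e₀.toAlgHom.toRingHom)) := AGFLib.RatOpen.isOpenHom_equiv e₀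
  let a : Spec (CommRingCat.of C) ⟶ 𝔸(ULift.{u} (Fin n); Spec (CommRingCat.of k)) :=
    Spec.map (CommRingCat.ofHom ψ.toRingHom) ≫ Spec.map (CommRingCat.ofHom e₀.toAlgHom.toRingHom) ≫
      (AffineSpace.SpecIso (ULift.{u} (Fin n)) (CommRingCat.of k)).inv
  haveI : IsOpenImmersion a := inferInstance
  let b : Spec (CommRingCat.of C) ⟶ G.left := j.left
  haveI : IsOpenImmersion b := hj
  have hb : b ≫ G.hom = Spec.map (CommRingCat.ofHom (algebraMap k C)) := Over.w j
  refine ⟨b.opensRange, n, a.opensRange, b.isoOpensRange.symm ≪≫ a.isoOpensRange, ?_, ?_⟩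
  · exact Set.range_nonempty b
  · simp only [Iso.trans_hom, Iso.symm_hom, Category.assoc]
    rw [Scheme.Hom.isoOpensRange_hom_ι_assoc, Iso.inv_comp_eq, Scheme.Hom.isoOpensRange_hom_ι_assoc, hb]
    simp only [a, Category.assoc]
    rw [AffineSpace.SpecIso_inv_over, ← Spec.map_comp, ← Spec.map_comp, ← CommRingCat.ofHom_comp, ← CommRingCat.ofHom_comp]
    exact congrArg (fun f => Spec.map (CommRingCat.ofHom f)) (RingHom.ext fun c => by
      show ψ (e₀ (MvPolynomial.C c)) = algebraMap k C c
      rw [show MvPolynomial.C c = algebraMap k (MvPolynomial (ULift.{u} (Fin n)) k) c from rfl, AlgEquiv.commutes,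
        AlgHom.commutes])

end Groth.Agent.S16121
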