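import Groth.Statements.S3572
import Groth.Agent.ProjUPX.Make
import Groth.Agent.SegreX.Coord

set_option autoImplicit false
universe u
open CategoryTheory CategoryTheory.Limits AlgebraicGeometry
open EGA2

namespace Groth.Agent.S3572

/-- Existence part of the universal property of projective n-space over an affine base Spec R (the
published statement is for P(E) with E an arbitrary quasi-coherent module; here E is the free module
of rank n+1, so that P(E) is projective n-space over R): let X be a scheme over R, L an invertible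
O_X-module and s_0, …, s_n global sections of L generating L. Then there is an R-morphism r from X
to projective n-space over R and an isomorphism r^*O(1) ≅ L carrying the inverse image of the
coordinate T_i to s_i for every i. -/
theorem result {R : Type u} [CommRing R] (n : ℕ) {X : Scheme.{u}}
    (q : X ⟶ Spec (CommRingCat.of R)) (L : X.Modules) (hL : PicF.IsInvertible L)
    (s : Fin (n + 1) → ProjUP.Γm L) (hs : ProjUP.GeneratedBy L s) :
    ∃ (r : X ⟶ CohB1.ProjSpace n R) (_ : r ≫ CohB1.ProjSpace.toSpec n R = q)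
      (τ : (Scheme.Modules.pullback r).obj (Twist.twistProjSpace n R 1) ≅ L),
      ∀ i, τ.hom.app ⊤ (ProjUP.pullSec r (Twist.twistProjSpace n R 1) (ProjUP.coord n R i)) = s i := by
  let κ := ULift.{u} (Fin (n + 1))
  let T : κ → MvPolynomial (Fin (n + 1)) R := fun i => MvPolynomial.X i.down
  have hrange : Set.range T = Set.range MvPolynomial.X := by
    ext a
    exact ⟨fun ⟨i, h⟩ => ⟨i.down, h⟩, fun ⟨i, h⟩ => ⟨⟨i⟩, h⟩⟩
  obtain ⟨r, hr, τ, hτ⟩ := ProjUPX.exists_map (CohB1.polyGrading n R) q hL κ T
    (fun i => ProjPt.X_mem i.down) (by rw [hrange]; exact MvPolynomial.adjoin_range_X)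
    (fun y => by
      have h := (Proj.iSup_basicOpen_eq_top (CohB1.polyGrading n R) _
        (SegreX.irrelevant_le_span n R)).ge (Set.mem_univ y)
      obtain ⟨i, hi⟩ := TopologicalSpace.Opens.mem_iSup.mp h
      exact ⟨⟨i⟩, hi⟩)
    (fun i => s i.down)
    (fun x => by
      rw [← hs x]
      congr 1
      ext a
      exact ⟨fun ⟨i, h⟩ => ⟨i.down, h⟩, fun ⟨i, h⟩ => ⟨⟨i⟩, h⟩⟩)
    (fun V v k _ _ => ⟨MvPolynomial.eval₂Hom ((AModX.resR (le_top : V ≤ ⊤)).comp (ProjUP.toGlobal q))
      (fun i => v ⟨i⟩), fun l => MvPolynomial.eval₂Hom_X' _ _ l.down, fun x => by simp⟩)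
  exact ⟨r, hr, τ, fun i => hτ ⟨i⟩⟩

end Groth.Agent.S3572
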