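import Groth.Statements.S8914
import Groth.Agent.InvX.Tensor
import Groth.Agent.OmegaLib.IdealMod
import Groth.Agent.MeroX.Basic

set_option autoImplicit false
universe u
open CategoryTheory CategoryTheory.Limits AlgebraicGeometry TopologicalSpace
open SDiv

namespace Groth.Agent.S8914

/-- Let S be a scheme and D ⊆ S a closed subscheme with quasi-coherent ideal sheaf 𝓘. Then the ideal
sheaf of D is an invertible O_S-module (that is, D is an effective Cartier divisor) if and only if
every point has an affine open neighbourhood Spec A in S with D ∩ Spec A = Spec A/(f) for a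
nonzerodivisor f ∈ A. -/
theorem result {S : Scheme.{u}} (𝓘 : S.IdealSheafData) :
    PicF.IsInvertible (ClSub.idealMod 𝓘) ↔ BlowUp.IsEffCartierIdeal 𝓘 := by
  constructor
  · intro h x
    obtain ⟨U, hx, e, he⟩ := InvX.exists_frame h x
    obtain ⟨V, hV, hxV, hVU⟩ := exists_isAffineOpen_mem_and_subset hx
    let e' := AModX.res _ hVU e
    have he' : InvX.IsFrame e' := he.res _
    refine ⟨⟨V, hV⟩, hxV, OmegaSh.idealSect 𝓘 V e', ?_, le_antisymm (fun g hg => ?_) ?_⟩
    · rw [mem_nonZeroDivisors_iff_right]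
      intro r hr
      rw [← OmegaLib.idealSect_smul] at hr
      have h0 : r • e' = 0 := OmegaLib.idealSect_injective 𝓘 V (hr.trans (map_zero _).symm)
      have := (he' V le_rfl).1 (a₁ := r) (a₂ := 0)
      simp only [AModX.res_self, zero_smul] at this
      exact this h0
    · obtain ⟨k, hk⟩ := OmegaLib.exists_of_mem 𝓘 ⟨V, hV⟩ g hg
      obtain ⟨r, hr⟩ := he'.exists_coord le_rfl k
      rw [AModX.res_self] at hr
      rw [← hk, hr, OmegaLib.idealSect_smul]
      exact Ideal.mul_mem_left _ r (Ideal.mem_span_singleton_self _)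
    · rw [Ideal.span_singleton_le_iff_mem]
      exact OmegaLib.idealSect_mem 𝓘 ⟨V, hV⟩ e'
  · intro h
    refine InvX.isInvertible_of_frames fun x => ?_
    obtain ⟨U, hx, f, hf, hU⟩ := h x
    obtain ⟨e, he⟩ := OmegaLib.exists_of_mem 𝓘 U f (hU ▸ Ideal.mem_span_singleton_self f)
    refine ⟨U.1, hx, e, fun V hV => ?_⟩
    have hinj : ∀ (W : S.Opens) (hW : W ≤ U.1) (r r' : Γ(S, W)),
        r • AModX.res _ hW e = r' • AModX.res _ hW e → r = r' := by
      intro W hW r r' hr
      have h1 := congrArg (OmegaSh.idealSect 𝓘 W) hr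
      have h2 : OmegaSh.idealSect 𝓘 W (AModX.res _ hW e) = AModX.resR hW f := by
        rw [← he]
        exact OmegaLib.idealSect_map 𝓘 hW e
      rw [OmegaLib.idealSect_smul, OmegaLib.idealSect_smul, h2] at h1
      refine TopCat.Presheaf.section_ext S.sheaf W r r' fun y hy => ?_
      have h3 : S.presheaf.germ W y hy r * S.presheaf.germ W y hy (AModX.resR hW f) =
          S.presheaf.germ W y hy r' * S.presheaf.germ W y hy (AModX.resR hW f) := by
        rw [← map_mul, ← map_mul, h1]
      rw [InvX.germ_resR' hW hy f] at h3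
      exact (mul_cancel_right_mem_nonZeroDivisors (MeroX.germ_mem_nonZeroDivisors U.2 hf y (hW hy))).1 h3
    refine ⟨fun r r' hr => hinj V hV r r' hr, fun z => ?_⟩
    have hloc : ∀ p : V, ∃ (W : S.Opens) (hW : W ≤ V) (_ : p.1 ∈ W) (r : Γ(S, W)),
        AModX.res _ hW z = r • AModX.res _ (hW.trans hV) e := fun p => by
      obtain ⟨W, hW, hpW, hWV⟩ := exists_isAffineOpen_mem_and_subset p.2
      have hmem := OmegaLib.idealSect_mem 𝓘 ⟨W, hW⟩ (AModX.res _ hWV z)
      rw [← 𝓘.map_ideal (U := ⟨W, hW⟩) (V := U) (show W ≤ U.1 from le_trans hWV hV), hU, Ideal.map_span,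
        Set.image_singleton, Ideal.mem_span_singleton'] at hmem
      obtain ⟨r, hr⟩ := hmem
      refine ⟨W, hWV, hpW, r, OmegaLib.idealSect_injective 𝓘 W ?_⟩
      rw [OmegaLib.idealSect_smul, show OmegaSh.idealSect 𝓘 W (AModX.res _ (le_trans hWV hV) e) = _ from
        OmegaLib.idealSect_map 𝓘 _ e, he]
      exact hr.symm
    choose W hW hpW r hr using hloc
    obtain ⟨R, hR, -⟩ := TopCat.Sheaf.existsUnique_gluing' S.sheaf W V (fun p => homOfLE (hW p))
      (fun p hp => TopologicalSpace.Opens.mem_iSup.2 ⟨⟨p, hp⟩, hpW ⟨p, hp⟩⟩) r fun p q => by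
        apply hinj _ (inf_le_left.trans ((hW p).trans hV))
        have h1 := congrArg (AModX.res _ (inf_le_left : W p ⊓ W q ≤ W p)) (hr p)
        have h2 := congrArg (AModX.res _ (inf_le_right : W p ⊓ W q ≤ W q)) (hr q)
        rw [AModX.res_res, AModX.res_smul, AModX.res_res] at h1 h2
        exact h1.symm.trans h2
    refine ⟨R, AModX.eq_of_locally _ _ fun p hp => ⟨W ⟨p, hp⟩, hW _, hpW _, ?_⟩⟩
    rw [AModX.res_smul, AModX.res_res, hr]
    exact congrArg (· • _) (hR ⟨p, hp⟩)

end Groth.Agent.S8914
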