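import Groth.Statements.S9455
import Groth.Agent.CoeffField.Smooth

set_option autoImplicit false
universe u
open CAlg

namespace Groth.Agent.S9455
open TensorProduct in
lemma flat_zmod (p : ℕ) (hp : p.Prime) (m : ℕ) (M : Type*) [AddCommGroup M] [Module (ZMod (p ^ m)) M]
    (h : ∀ j, j ≤ m → ∀ x : M, ((p ^ j : ℕ) : ZMod (p ^ m)) • x = 0 →
      ∃ y : M, x = ((p ^ (m - j) : ℕ) : ZMod (p ^ m)) • y) : Module.Flat (ZMod (p ^ m)) M := by
  refine Module.Flat.iff_rTensor_injective'.2 fun I => ?_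
  let I₀ := I.comap (Int.castRingHom (ZMod (p ^ m)))
  obtain ⟨d, hd⟩ := (IsPrincipalIdealRing.principal I₀).principal
  have hI : I = Ideal.span {((d.natAbs : ℕ) : ZMod (p ^ m))} := by
    have hsurj : Function.Surjective (Int.castRingHom (ZMod (p ^ m))) := fun z => ZMod.intCast_surjective z
    rw [← Ideal.map_comap_of_surjective _ hsurj I]
    show I₀.map _ = _
    rw [hd]
    change (Ideal.span {d}).map _ = _
    rw [show Ideal.span {d} = Ideal.span {(d.natAbs : ℤ)} from
      Ideal.span_singleton_eq_span_singleton.2 (Int.associated_natAbs d), Ideal.map_span,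
      Set.image_singleton]
    simp
  obtain ⟨j, hj, hdj⟩ : ∃ j, j ≤ m ∧ d.natAbs = p ^ j := by
    refine (Nat.dvd_prime_pow hp).1 ?_
    have hmem : ((p ^ m : ℕ) : ℤ) ∈ I₀ := by
      show Int.castRingHom (ZMod (p ^ m)) _ ∈ I
      rw [map_natCast, ZMod.natCast_self]
      exact zero_mem _
    rw [hd] at hmem
    obtain ⟨c, hc⟩ := Submodule.mem_span_singleton.1 hmem
    exact Int.natCast_dvd_natCast.1 (Int.natAbs_dvd.2 ⟨c, by rw [← hc, smul_eq_mul, mul_comm]⟩)
  rw [hdj] at hI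
  let a : I := ⟨((p ^ j : ℕ) : ZMod (p ^ m)), hI ▸ Ideal.mem_span_singleton_self _⟩
  have hgen : ∀ t : I ⊗[ZMod (p ^ m)] M, ∃ x, t = a ⊗ₜ x := by
    intro t
    induction t with
    | zero => exact ⟨0, (tmul_zero _ _).symm⟩
    | tmul i x =>
      obtain ⟨c, hc⟩ := Ideal.mem_span_singleton'.1 ((le_of_eq hI) i.2)
      refine ⟨c • x, ?_⟩
      rw [← smul_tmul]
      congr 1
      exact Subtype.ext hc.symm
    | add u v hu hv =>
      obtain ⟨x, rfl⟩ := hu
      obtain ⟨y, rfl⟩ := hv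
      exact ⟨x + y, (tmul_add _ _ _).symm⟩
  rw [injective_iff_map_eq_zero]
  intro t ht
  obtain ⟨x, rfl⟩ := hgen t
  have h0 : ((p ^ j : ℕ) : ZMod (p ^ m)) • x = 0 := by
    simpa [a] using congrArg (TensorProduct.lid (ZMod (p ^ m)) M) ht
  obtain ⟨y, rfl⟩ := h j hj x h0
  rw [← smul_tmul]
  have : ((p ^ (m - j) : ℕ) : ZMod (p ^ m)) • a = 0 := Subtype.ext (by
    show ((p ^ (m - j) : ℕ) : ZMod (p ^ m)) * ((p ^ j : ℕ) : ZMod (p ^ m)) = 0
    rw [← Nat.cast_mul, ← pow_add, Nat.sub_add_cancel hj, ZMod.natCast_self])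
  rw [this, zero_tmul]



/-- If Λ is a Cohen ring (a complete discrete valuation ring with maximal ideal generated by a prime
number p) then Λ/p^nΛ is formally smooth over ℤ/p^nℤ for every n ≥ 1; the ℤ/p^nℤ-algebra structure
on Λ/p^nΛ is the unique one and is taken as a hypothesis. -/
theorem result (Λ : Type u) [CommRing Λ] [IsDomain Λ]
    [IsDiscreteValuationRing Λ] [IsAdicComplete (IsLocalRing.maximalIdeal Λ) Λ] (p : ℕ)
    (hp : p.Prime) (hm : IsLocalRing.maximalIdeal Λ = Ideal.span {(p : Λ)}) (n : ℕ) (hn : 1 ≤ n)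
    [Algebra (ZMod (p ^ n)) (Λ ⧸ Ideal.span {((p : Λ) ^ n)})] :
    Algebra.FormallySmooth (ZMod (p ^ n)) (Λ ⧸ Ideal.span {((p : Λ) ^ n)}) := by
  suffices key : ∀ (m : ℕ), 1 ≤ m → ∀ f : ZMod (p ^ m) →+* Λ ⧸ Ideal.span {((p : Λ) ^ m)}, f.FormallySmooth by
    have := key n hn (algebraMap _ _)
    rwa [RingHom.formallySmooth_algebraMap] at this
  have hp0 : (p : Λ) ≠ 0 := fun h0 => IsDiscreteValuationRing.not_a_field Λ (by
    rw [hm, h0, Ideal.span_singleton_eq_bot.2 rfl])
  intro m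
  induction m with
  | zero => omega
  | succ m ih =>
    intro _ f
    rcases Nat.eq_zero_or_pos m with rfl | hm0
    · have : (Ideal.span {((p : Λ) ^ (0 + 1))}).IsMaximal := by
        rw [zero_add, pow_one, ← hm]; exact IsLocalRing.maximalIdeal.isMaximal Λ
      let := Ideal.Quotient.field (Ideal.span {((p : Λ) ^ (0 + 1))})
      have : Fact (p ^ (0 + 1)).Prime := ⟨by rwa [zero_add, pow_one]⟩
      let := f.toAlgebra
      rw [show f = algebraMap _ _ from rfl, RingHom.formallySmooth_algebraMap]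
      exact CoeffField.formallySmooth_of_perfectField _ _
    have hle : Ideal.span {((p : Λ) ^ (m + 1))} ≤ Ideal.span {((p : Λ) ^ m)} :=
      Ideal.span_singleton_le_span_singleton.2 (pow_dvd_pow _ (Nat.le_succ m))
    let qR : ZMod (p ^ (m + 1)) →+* ZMod (p ^ m) := ZMod.castHom (pow_dvd_pow p (Nat.le_succ m)) _
    let qS := Ideal.Quotient.factor hle
    have hchar : ringChar (Λ ⧸ Ideal.span {((p : Λ) ^ m)}) ∣ p ^ m := ringChar.dvd (by
      rw [← map_natCast (Ideal.Quotient.mk _), Nat.cast_pow, Ideal.Quotient.eq_zero_iff_mem]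
      exact Ideal.mem_span_singleton_self _)
    let g : ZMod (p ^ m) →+* Λ ⧸ Ideal.span {((p : Λ) ^ m)} := ZMod.castHom hchar _
    have hkerR : RingHom.ker qR = Ideal.span {((p ^ m : ℕ) : ZMod (p ^ (m + 1)))} := by
      ext x
      obtain ⟨k, rfl⟩ := ZMod.intCast_surjective x
      rw [RingHom.mem_ker, map_intCast, ZMod.intCast_zmod_eq_zero_iff_dvd, Ideal.mem_span_singleton]
      constructor
      · rintro ⟨c, rfl⟩
        exact ⟨c, by push_cast; rfl⟩
      · rintro ⟨c, hc⟩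
        obtain ⟨c, rfl⟩ := ZMod.intCast_surjective c
        have h1 : ((k - (p ^ m : ℕ) * c : ℤ) : ZMod (p ^ (m + 1))) = 0 := by
          push_cast
          rw [hc]; push_cast; ring
        rw [ZMod.intCast_zmod_eq_zero_iff_dvd] at h1
        have h2 : ((p ^ m : ℕ) : ℤ) ∣ k - (p ^ m : ℕ) * c :=
          (Int.natCast_dvd_natCast.2 (pow_dvd_pow p (Nat.le_succ m))).trans h1
        simpa using dvd_add h2 (dvd_mul_right _ c)
    refine RingHom.FormallySmooth.of_flat_of_ker_eq_map_of_square_zero f ?_ qR qS g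
      (ZMod.castHom_surjective _) (Ideal.Quotient.factor_surjective hle) (Subsingleton.elim _ _) ?_ ?_ (ih hm0 g)
    · let := f.toAlgebra
      show Module.Flat (ZMod (p ^ (m + 1))) (Λ ⧸ Ideal.span {((p : Λ) ^ (m + 1))})
      refine flat_zmod p hp (m + 1) _ fun j hj x hx => ?_
      obtain ⟨l, rfl⟩ := Ideal.Quotient.mk_surjective x
      rw [Algebra.smul_def, map_natCast, ← map_natCast (Ideal.Quotient.mk _), ← map_mul,
        Ideal.Quotient.eq_zero_iff_mem, Ideal.mem_span_singleton, Nat.cast_pow,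
        ← pow_mul_pow_sub (p : Λ) hj, mul_dvd_mul_iff_left (pow_ne_zero _ hp0)] at hx
      obtain ⟨c, rfl⟩ := hx
      refine ⟨Ideal.Quotient.mk _ c, ?_⟩
      rw [Algebra.smul_def, map_natCast, ← map_natCast (Ideal.Quotient.mk _), ← map_mul, Nat.cast_pow]
    · rw [hkerR, Ideal.span_singleton_pow, Ideal.span_singleton_eq_bot, ← Nat.cast_pow, ← pow_mul,
        ZMod.natCast_eq_zero_iff]
      exact pow_dvd_pow p (by omega)
    · rw [hkerR, Ideal.map_span, Set.image_singleton, map_natCast, Ideal.Quotient.factor_ker,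
        Ideal.map_span, Set.image_singleton]
      simp


end Groth.Agent.S9455
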