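import Groth.Statements.S5765
import Mathlib.RingTheory.KrullDimension.Module
import Mathlib.RingTheory.Localization.Finiteness
import Mathlib.RingTheory.Localization.AtPrime.Basic

set_option autoImplicit false
universe u
open EGA41

namespace Groth.Agent.S5765

/-- Let A be a ring, M a finitely generated A-module and p a prime ideal of A. Then dim_{A_p}(M_p) +
dim_A(M/pM) ≤ dim_A(M). -/
theorem result (A : Type u) [CommRing A] (M : Type u)
    [AddCommGroup M] [Module A M] [Module.Finite A M] (p : Ideal A) [p.IsPrime] :
    Module.supportDim (Localization.AtPrime p) (LocalizedModule p.primeCompl M) +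
        Module.supportDim A (M ⧸ (p • (⊤ : Submodule A M))) ≤ Module.supportDim A M := by
  by_cases hp : (⟨p, ‹_›⟩ : PrimeSpectrum A) ∈ Module.support A M
  swap
  · haveI : Subsingleton (LocalizedModule p.primeCompl M) := Module.notMem_support_iff.mp hp
    rw [Module.supportDim_eq_bot_of_subsingleton, WithBot.bot_add]
    exact bot_le
  let x : ↥(Module.support A M) := ⟨⟨p, ‹_›⟩, hp⟩
  haveI : Nonempty ↥(Module.support A M) := ⟨x⟩
  have hann : ∀ y : PrimeSpectrum A, y ∈ Module.support A M ↔ Module.annihilator A M ≤ y.asIdeal := fun y => by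
    rw [Module.support_eq_zeroLocus]
    rfl
  haveI : Module.Finite (Localization.AtPrime p) (LocalizedModule p.primeCompl M) :=
    Module.Finite.of_isLocalizedModule p.primeCompl (LocalizedModule.mkLinearMap p.primeCompl M)
  have hloc : ∀ q ∈ Module.support (Localization.AtPrime p) (LocalizedModule p.primeCompl M),
      PrimeSpectrum.comap (algebraMap A (Localization.AtPrime p)) q ∈ Module.support A M := by
    intro q hq
    rw [Module.support_eq_zeroLocus] at hq
    rw [hann]
    intro a ha
    refine hq (Module.mem_annihilator.mpr fun z => ?_)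
    induction z using LocalizedModule.induction_on with
    | _ m s =>
      rw [algebraMap_smul, LocalizedModule.smul'_mk, Module.mem_annihilator.mp ha m, LocalizedModule.zero_mk]
  have hle : ∀ q : PrimeSpectrum (Localization.AtPrime p),
      (PrimeSpectrum.comap (algebraMap A (Localization.AtPrime p)) q).asIdeal ≤ p := by
    intro q
    have h1 := IsLocalRing.le_maximalIdeal q.isPrime.ne_top
    have h2 := Ideal.comap_mono (f := algebraMap A (Localization.AtPrime p)) h1
    exact h2.trans (IsLocalization.AtPrime.under_maximalIdeal (Localization.AtPrime p) p).le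
  have h1 : Module.supportDim (Localization.AtPrime p) (LocalizedModule p.primeCompl M) ≤ (Order.height x : WithBot ℕ∞) := by
    rw [Order.height_eq_krullDim_Iic]
    refine Order.krullDim_le_of_strictMono
      (fun q => (⟨⟨PrimeSpectrum.comap (algebraMap A (Localization.AtPrime p)) q.1, hloc _ q.2⟩, hle q.1⟩ : Set.Iic x)) ?_
    intro q q' hqq
    have he := (IsLocalization.orderEmbedding p.primeCompl (Localization.AtPrime p)).strictMono
      (PrimeSpectrum.asIdeal_lt_asIdeal q.1 q'.1 |>.mpr hqq)
    exact (PrimeSpectrum.asIdeal_lt_asIdeal _ _).mp he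
  have hq : ∀ q ∈ Module.support A (M ⧸ (p • (⊤ : Submodule A M))), q ∈ Module.support A M ∧ p ≤ q.asIdeal := by
    intro q hq
    rw [Module.support_eq_zeroLocus] at hq
    have h0 : ∀ a : A, (∀ m : M, a • m ∈ (p • ⊤ : Submodule A M)) → a ∈ q.asIdeal := fun a ha =>
      hq (Module.mem_annihilator.mpr fun z => by
        obtain ⟨m, rfl⟩ := Submodule.Quotient.mk_surjective _ z
        rw [← Submodule.Quotient.mk_smul, Submodule.Quotient.mk_eq_zero]
        exact ha m)
    refine ⟨(hann q).mpr fun a ha => h0 a fun m => ?_, fun a ha => h0 a fun m => Submodule.smul_mem_smul ha trivial⟩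
    rw [Module.mem_annihilator.mp ha m]
    exact zero_mem _
  have h2 : Module.supportDim A (M ⧸ (p • (⊤ : Submodule A M))) ≤ (Order.coheight x : WithBot ℕ∞) := by
    rw [Order.coheight_eq_krullDim_Ici]
    exact Order.krullDim_le_of_strictMono
      (fun q => (⟨⟨q.1, (hq _ q.2).1⟩, (hq _ q.2).2⟩ : Set.Ici x)) (fun _ _ h => h)
  refine (add_le_add h1 h2).trans ?_
  rw [Module.supportDim, Order.krullDim_eq_iSup_height_add_coheight_of_nonempty, ← WithBot.coe_add,
    WithBot.coe_le_coe]
  exact le_iSup (fun a : ↥(Module.support A M) => Order.height a + Order.coheight a) x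

end Groth.Agent.S5765
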