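import Groth.Statements.S0047
import Groth.Agent.QCoh.DevissageP
import Groth.Agent.QCoh.GodCx
import Groth.Agent.QCoh.Ab.MV

set_option autoImplicit false
universe u
open Coherent

namespace Groth.Agent.S0047

open AlgebraicGeometry in
/-- On a locally Noetherian scheme, a coherent module whose support consists of closed points (i.e. has
dimension ≤ 0) satisfies H^i(X, F) = 0 for all i > 0. (Global generation is not stated.) -/
theorem result (X : Scheme.{u}) [IsLocallyNoetherian X]
    (M : X.Modules) (hM : Coh.IsCoh M) (h0 : ∀ x ∈ CohB1.support M, IsClosed ({x} : Set X))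
    (i : ℕ) (hi : 0 < i) : Subsingleton (Coh.HH X M i) := by
  classical
  obtain ⟨n, rfl⟩ : ∃ n, i = n + 1 := ⟨i - 1, by omega⟩
  set S := CohB1.support M with hSdef
  have hclosed : IsClosed S := Groth.Agent.QCoh.isClosed_support_of_isFT hM.1 hM.2
  have hfin : ∀ U : X.affineOpens, (S ∩ (U.1 : Set X)).Finite := fun U => by
    haveI := Groth.Agent.QCoh.noetherian_sections (X := X) U
    haveI : TopologicalSpace.NoetherianSpace (U.1 : Set X) := noetherianSpace_of_isAffineOpen U.1 U.2
    haveI : QuasiSober (U.1 : Set X) := U.1.2.isOpenEmbedding_subtypeVal.quasiSober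
    obtain ⟨Fs, hFs, hcl, hirr, hU⟩ := TopologicalSpace.NoetherianSpace.exists_finite_set_isClosed_irreducible (α := (U.1 : Set X))
      (hclosed.preimage (continuous_subtype_val : Continuous (Subtype.val : U.1 → X)))
    have hsing : ∀ t ∈ Fs, Set.Subsingleton t := fun t ht => by
      obtain ⟨g, hg⟩ := QuasiSober.sober (α := (U.1 : Set X)) (hirr t ht) (hcl t ht)
      have hgS : g.1 ∈ S := (hU.ge ⟨t, ht, hg.mem⟩ : _)
      have hgc : IsClosed ({g} : Set (U.1 : Set X)) := by
        have := (h0 g.1 hgS).preimage (continuous_subtype_val : Continuous (Subtype.val : U.1 → X))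
        have he : (Subtype.val : (U.1 : Set X) → X) ⁻¹' {g.1} = {g} :=
          Set.ext fun z => ⟨fun h => Subtype.ext h, fun h => congrArg Subtype.val h⟩
        exact he ▸ this
      have ht' : t = {g} := hg.def.symm.trans hgc.closure_eq
      exact ht' ▸ Set.subsingleton_singleton
    have hf : ((Subtype.val : U.1 → X) ⁻¹' S).Finite := hU ▸ hFs.sUnion (fun t ht => (hsing t ht).finite)
    exact (hf.image Subtype.val).subset fun x hx => ⟨⟨x, hx.2⟩, hx.1, rfl⟩
  have hT : ∀ T : Set X, T ⊆ S → IsClosed T := fun T hT => by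
    rw [← isOpen_compl_iff, isOpen_iff_forall_mem_open]
    intro x hx
    obtain ⟨U, hU, hxU⟩ := Groth.Agent.QCoh.exists_affine_mem x
    have hc : IsClosed (T ∩ (U : Set X)) := by
      have := Set.Finite.isClosed_biUnion (s := T ∩ (U : Set X)) (f := fun y => ({y} : Set X))
        ((hfin ⟨U, hU⟩).subset (Set.inter_subset_inter_left _ hT)) fun y hy => h0 y (hT hy.1)
      rwa [Set.biUnion_of_singleton] at this
    exact ⟨(U : Set X) ∩ (T ∩ (U : Set X))ᶜ, fun z hz hzT => hz.2 ⟨hzT, hz.1⟩,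
      U.2.inter hc.isOpen_compl, hxU, fun h => hx h.1⟩
  have hzero : ∀ (W : X.Opens), (∀ x ∈ W, x ∉ S) → ∀ s : Γ(M, W), s = 0 := fun W hW s => by
    refine Groth.Agent.QCoh.eq_zero_of_locally W s fun x hx => ?_
    haveI : Subsingleton (M.presheaf.stalk x) := not_not.1 (hW x hx)
    obtain ⟨V, hxV, i, j, h⟩ := M.presheaf.germ_eq x hx hx s 0 (Subsingleton.elim _ _)
    exact ⟨V, i, hxV, h.trans (map_zero _)⟩
  have hfl : TopCat.Sheaf.IsFlasque (X := X.toPresheafedSpace.carrier) ⟨M.presheaf, M.isSheaf⟩ := ⟨fun {A B} f => by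
    refine (AddCommGrpCat.epi_iff_surjective _).2 fun s => ?_
    let W : X.Opens := ⟨(A.unop : Set X) ∩ (S ∩ (B.unop : Set X))ᶜ,
      A.unop.2.inter (hT _ Set.inter_subset_left).isOpen_compl⟩
    let V : Bool → X.Opens := fun b => cond b B.unop W
    let hV : ∀ b, V b ⟶ A.unop := fun b => CategoryTheory.homOfLE (by cases b; exacts [fun z hz => hz.1, f.unop.le])
    let sec : ∀ b, Γ(M, V b) := fun b => Bool.rec (motive := fun b => Γ(M, V b)) 0 s b
    obtain ⟨t, ht, -⟩ := TopCat.Sheaf.existsUnique_gluing' ⟨M.presheaf, M.isSheaf⟩ V A.unop hV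
      (fun z hz => by
        by_cases hzB : z ∈ B.unop
        · exact TopologicalSpace.Opens.mem_iSup.2 ⟨true, hzB⟩
        · exact TopologicalSpace.Opens.mem_iSup.2 ⟨false, hz, fun h => hzB h.2⟩) sec
      (fun a b => by
        cases a <;> cases b
        · rfl
        · exact ((hzero (W ⊓ B.unop) (fun z hz hzS => hz.1.2 ⟨hzS, hz.2⟩) _).trans
            (hzero (W ⊓ B.unop) (fun z hz hzS => hz.1.2 ⟨hzS, hz.2⟩) _).symm)
        · exact ((hzero (B.unop ⊓ W) (fun z hz hzS => hz.2.2 ⟨hzS, hz.1⟩) _).trans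
            (hzero (B.unop ⊓ W) (fun z hz hzS => hz.2.2 ⟨hzS, hz.1⟩) _).symm)
        · rfl)
    exact ⟨t, ht true⟩⟩
  exact Groth.Agent.QCoh.Ab.subsingleton_H_of_HU_top (X := X.toPresheafedSpace.carrier) (Coh.toAb M) (n + 1)
    (@Groth.Agent.SiteBase.subsingleton_HU_of_isFlasque _ (Coh.toAb M) hfl ⊤ n)

end Groth.Agent.S0047
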