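import Groth.Statements.S11200
import Groth.Agent.AGFLib.Obs
-- import your own Groth.Agent.* helpers here

set_option autoImplicit false
universe u
open CategoryTheory MonoidalCategory CartesianMonoidalCategory MonObj GrpObj AlgebraicGeometry
open scoped TensorProduct
open AGF

namespace Groth.Agent.S11200

set_option backward.isDefEq.respectTransparency false
set_option backward.isDefEq.respectTransparency.types false

open Groth.Agent.GrpSchLib Groth.Agent.GrpSchLib.Kunneth Groth.Agent.GrpSchLib.LineVec

/-- Let k be an algebraically closed field, G a linear algebraic group over k (an affine smooth group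
scheme over k) and H a closed subgroup of G (a smooth closed subgroup scheme, i : H → G). If H has
no non-trivial character (every homomorphism from H to the multiplicative group is trivial), then H
is observable in G. -/
theorem result (k : Type u) [Field k] [IsAlgClosed k]
    (G : Over (Spec (CommRingCat.of k))) [GrpObj G] [IsAffine G.left] [Smooth G.hom]
    (H : Over (Spec (CommRingCat.of k))) [GrpObj H] [Smooth H.hom] (i : H ⟶ G) [IsMonHom i]
    [IsClosedImmersion i.left]
    (hχ : ∀ (χ : H ⟶ Red.Gm (Spec (CommRingCat.of k))), IsMonHom χ → χ = 1) :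
    AGF.IsObservableIn k i := by
  haveI : IsAffine H.left := isAffine_of_isAffineHom i.left
  obtain ⟨A, _, _, ⟨eG⟩⟩ := AffineHopf.exists_hopf G
  obtain ⟨B, _, _, ⟨eN⟩⟩ := AffineHopf.exists_hopf H
  let a : AffineHopf.sp k A ≅ G := (Grp.forget _).mapIso eG
  let b : AffineHopf.sp k B ≅ H := (Grp.forget _).mapIso eN
  haveI : IsMonHom a.hom := eG.hom.hom.isMonHom_hom
  haveI : IsMonHom a.inv := eG.inv.hom.isMonHom_hom
  haveI : IsMonHom b.hom := eN.hom.hom.isMonHom_hom
  haveI : IsMonHom b.inv := eN.inv.hom.isMonHom_hom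
  haveI : IsIso a.hom.left := ((Over.forget _).mapIso a).isIso_hom
  haveI : IsIso a.inv.left := ((Over.forget _).mapIso a).isIso_inv
  haveI : IsIso b.hom.left := ((Over.forget _).mapIso b).isIso_hom
  haveI : Algebra.FiniteType k A := RingHom.finiteType_algebraMap.mp
    ((HasRingHomProperty.Spec_iff (P := @LocallyOfFiniteType)).mp (by
      show LocallyOfFiniteType (AffineHopf.sp k A).hom
      rw [← Over.w a.hom]; infer_instance))
  obtain ⟨π, hπ⟩ := AffineHopf.exists_bialgHom (b.hom ≫ i ≫ a.inv)
  have hsurj : Function.Surjective π := AffineHopf.surjective_of_isClosedImmersion (π : A →ₐ[k] B) (by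
    rw [← hπ, Over.comp_left, Over.comp_left]; infer_instance)
  have hg : ∀ x : B, IsGroupLikeElem k x → x = 1 := fun x hx => AGFLib.eq_one_of_isGroupLike
    (fun χ _ => by
      rw [← Category.id_comp χ, ← b.hom_inv_id, Category.assoc, hχ (b.inv ≫ χ) inferInstance, MonObj.comp_one]) hx
  obtain ⟨X, _, y, hinv, hfix⟩ := AGFLib.exists_inv_vec π hsurj hg
  intro g hgf
  have hy : ∀ x, AGF.IsRTransInv i (ev a.inv (toFn (k := k) (A := A) (y x))) := fun x => by
    refine (AGFLib.isRTransInv_iff i _).2 fun T g' h => ?_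
    rw [ev_ev, ev_ev]
    have h1 := hinv T (g' ≫ a.inv) (h ≫ b.inv) x
    have e : (g' * (h ≫ i)) ≫ a.inv = (g' ≫ a.inv) * ((h ≫ b.inv) ≫ AffineHopf.spMap (π : A →ₐ[k] B)) := by
      rw [MonObj.mul_comp, ← hπ]
      simp
    rw [e]
    exact h1
  obtain ⟨h, hh⟩ := hfix _ (g ≫ a.inv) fun x => by
    have h1 := AGFLib.ev_eq_ev_one (hgf _ (hy x))
    rw [ev_ev, ev_ev, MonObj.one_comp] at h1
    exact h1
  refine ⟨h ≫ b.hom, ?_⟩
  rw [← hπ] at hh
  have := congrArg (fun m => m ≫ a.hom) hh
  simpa using this

end Groth.Agent.S11200
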