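import Groth.Statements.S0346
import Groth.Agent.GrpSchLib.Shear

set_option autoImplicit false
universe u v
open CategoryTheory MonoidalCategory CartesianMonoidalCategory MonObj GrpObj AlgebraicGeometry
open GrpSch

namespace Groth.Agent.S0346

/-- A group scheme over any base scheme is separated over the base exactly when its unit section is a
closed immersion, and quasi-separated exactly when the unit section is quasi-compact. -/
theorem result (S : Scheme.{u}) (G : Over S) [GrpObj G] : (IsSeparated G.hom ↔ IsClosedImmersion η[G].left) ∧ (QuasiSeparated G.hom ↔ QuasiCompact η[G].left) := by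
  refine ⟨?_, ?_⟩
  · rw [isSeparated_iff]
    exact Groth.Agent.GrpSchLib.diagonal_iff_unit @IsClosedImmersion
  · rw [quasiSeparated_iff]
    exact Groth.Agent.GrpSchLib.diagonal_iff_unit @QuasiCompact

end Groth.Agent.S0346
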