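import Groth.Statements.S5331
import Groth.Agent.S0346
import Mathlib.AlgebraicGeometry.Morphisms.ClosedImmersion
-- import your own Groth.Agent.* helpers here

set_option autoImplicit false
universe u
open CategoryTheory CategoryTheory.Limits MonoidalCategory CartesianMonoidalCategory MonObj GrpObj AlgebraicGeometry
open SGA3

namespace Groth.Agent.S5331

open MonObj

/-- Let S be a scheme whose underlying topological space is discrete. Then every S-group scheme is
separated over S. -/
theorem result (S : Scheme.{u}) [DiscreteTopology S] (G : Over S) [GrpObj G] :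
    IsSeparated G.hom := by
  have hw : η[G].left ≫ G.hom = 𝟙 S := Over.w η[G]
  have : IsIso (η[G].left ≫ G.hom) := by rw [hw]; exact IsIso.id S
  refine (Groth.Agent.S0346.result S G).1.mpr ?_
  let U : S → G.left.Opens := fun s => G.hom ⁻¹ᵁ ⟨{s}, isOpen_discrete _⟩
  have hU : iSup U = ⊤ := by
    refine TopologicalSpace.Opens.ext (Set.eq_univ_of_forall fun x => ?_)
    exact TopologicalSpace.Opens.mem_iSup.mpr ⟨G.hom.base x, rfl⟩
  rw [IsZariskiLocalAtTarget.iff_of_iSup_eq_top (P := @IsClosedImmersion) U hU]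
  intro s
  have : Subsingleton (η[G].left ⁻¹ᵁ U s).toScheme := by
    refine ⟨fun a b => Subtype.ext ?_⟩
    have h : ∀ x : (η[G].left ⁻¹ᵁ U s).toScheme, x.1 = s := by
      intro x
      have h1 : G.hom.base (η[G].left.base x.1) = s := x.2
      have h2 : G.hom.base (η[G].left.base x.1) = x.1 := by
        rw [← Scheme.Hom.comp_apply, hw]; rfl
      exact h2.symm.trans h1
    rw [h a, h b]
  have : Subsingleton ((η[G].left ≫ G.hom) ⁻¹ᵁ ⟨{s}, isOpen_discrete _⟩).toScheme :=
    inferInstanceAs (Subsingleton (η[G].left ⁻¹ᵁ U s).toScheme)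
  have : IsIso ((η[G].left ≫ G.hom) ∣_ ⟨{s}, isOpen_discrete _⟩) := inferInstance
  refine isClosedImmersion_of_comp_eq_id
    (G.hom ∣_ ⟨{s}, isOpen_discrete _⟩ ≫ inv ((η[G].left ≫ G.hom) ∣_ ⟨{s}, isOpen_discrete _⟩))
    (η[G].left ∣_ U s) ?_
  rw [← Category.assoc]
  erw [← morphismRestrict_comp]
  exact IsIso.hom_inv_id _


end Groth.Agent.S5331
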