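import Groth.Statements.S4717
import Groth.Agent.DimLift.Basic
import Groth.Agent.GrpSchLib.FieldDim

set_option autoImplicit false
universe u
open EGA4

namespace Groth.Agent.S4717

open AlgebraicGeometry CategoryTheory in
/-- Let f : X → Y be a finite morphism of locally Noetherian schemes. Then dim X equals the dimension of
the image f(X); in particular if f is surjective then dim X = dim Y. -/
theorem result {X Y : Scheme.{u}} (f : X ⟶ Y) [IsLocallyNoetherian X] [IsLocallyNoetherian Y]
    [IsFinite f] :
    topologicalKrullDim X = topologicalKrullDim (Set.range f.base) ∧
      (Function.Surjective f.base → topologicalKrullDim X = topologicalKrullDim Y) := by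
  have hcl : IsClosed (Set.range f.base) := f.isClosedMap.isClosed_range
  haveI : QuasiSober (Set.range f.base) := hcl.isClosedEmbedding_subtypeVal.quasiSober
  have hinc : ∀ x x' : X, x ⤳ x' → f.base x = f.base x' → x = x' := fun x x' h e =>
    GrpSchLib.eq_of_specializes_of_isIntegralHom f h e
  have h1 : topologicalKrullDim X = topologicalKrullDim (Set.range f.base) := by
    refine le_antisymm ?_ ?_
    · exact DimLift.le_of_incomparable (Set.rangeFactorization f.base)
        (f.continuous.subtype_mk _) fun x x' h e => hinc x x' h (congrArg Subtype.val e)
    · refine DimLift.le_of_specializing (Set.rangeFactorization f.base) Set.rangeFactorization_surjective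
        (IsClosedMap.specializingMap ?_)
      exact fun C hC => by
        have : IsClosed (f.base '' C) := f.isClosedMap C hC
        convert this.preimage continuous_subtype_val using 1
        ext ⟨z, hz⟩
        simp [Set.rangeFactorization, Subtype.ext_iff]
  refine ⟨h1, fun hs => le_antisymm (DimLift.le_of_incomparable f.base f.continuous hinc)
    (DimLift.le_of_specializing f.base hs (IsClosedMap.specializingMap f.isClosedMap))⟩

end Groth.Agent.S4717
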