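import Groth.Statements.S15602
import Groth.Agent.GrpSchLib.LineGroups
import Groth.Agent.GrpSchLib.AffineHopf
import Mathlib.LinearAlgebra.SymmetricAlgebra.Basis


set_option autoImplicit false
universe u
open CategoryTheory MonoidalCategory CartesianMonoidalCategory MonObj GrpObj AlgebraicGeometry
open AlgGrp

namespace Groth.Agent.S15602

theorem aux (R k : Type u) [CommRing R] [Field k] [Algebra R k] :
    IsAffine (GrpSchLib.AffineHopf.sp k (TensorProduct R k (SymmetricAlgebra R R))).left ∧
    Nonempty (Polynomial k ≃ₐ[k] GrpSchLib.Kunneth.Fn (GrpSchLib.AffineHopf.sp k (TensorProduct R k (SymmetricAlgebra R R)))) :=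
  ⟨isAffine_Spec _, ⟨((polyEquivTensor' R k).trans
      (Algebra.TensorProduct.congr (AlgEquiv.refl : k ≃ₐ[k] k)
        (((SymmetricAlgebra.equivMvPolynomial (Module.Basis.singleton PUnit.{1} R)).trans (MvPolynomial.uniqueAlgEquiv R PUnit.{1})).symm))).trans
      (GrpSchLib.LineGroups.spEquiv (k := k) (TensorProduct R k (SymmetricAlgebra R R)))⟩⟩


/-- Additive case. Let k be a field and consider the affine line over k, taken here as the underlying
k-scheme of the additive group. Any two structures of k-group scheme on it with the same unit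
section have the same multiplication; in particular a group law on the affine line whose identity is
the origin is the usual addition. -/
theorem result (k : Type u) [Field k]
    (h₁ h₂ : GrpObj (Red.Ga (Spec (CommRingCat.of k)))) (e : h₁.one = h₂.one) : h₁.mul = h₂.mul := by
  let R := ULift.{u} ℤ
  let : Algebra R k := ((algebraMap ℤ k).comp (ULift.ringEquiv.toRingHom)).toAlgebra
  obtain ⟨e1⟩ := GrpSchLib.AffineHopf.nonempty_bc_iso (Limits.IsTerminal.from specULiftZIsTerminal (Spec (CommRingCat.of k)))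
    (Spec.map (CommRingCat.ofHom (algebraMap R k))) (specULiftZIsTerminal.hom_ext _ _) Red.GaZ
  obtain ⟨e2⟩ := GrpSchLib.AffineHopf.nonempty_bc_sp (R := R) k (SymmetricAlgebra R R)
  let j : Red.Ga (Spec (CommRingCat.of k)) ≅ _ := (Grp.forget _).mapIso (e1.trans e2)
  obtain ⟨hA, ⟨ψ⟩⟩ := aux R k
  haveI : IsAffine (Red.Ga (Spec (CommRingCat.of k))).left := @IsAffine.of_isIso _ _ ((Over.forget _).mapIso j).hom (Iso.isIso_hom _) hA
  let φ₀ : Polynomial k ≃ₐ[k] GrpSchLib.Kunneth.Fn (Red.Ga (Spec (CommRingCat.of k))) :=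
    ψ.trans (GrpSchLib.LineGroups.fnEquiv j)
  let c := GrpSchLib.Kunneth.evPt h₁.one (φ₀ Polynomial.X)
  let φ := (Polynomial.algEquivAevalXAddC (-c)).trans φ₀
  have h0 : GrpSchLib.Kunneth.evPt h₁.one (φ Polynomial.X) = 0 := by
    show GrpSchLib.Kunneth.evPt h₁.one (φ₀ (Polynomial.aeval _ Polynomial.X)) = 0
    rw [Polynomial.aeval_X, map_add, map_add]
    show c + GrpSchLib.Kunneth.evPt h₁.one (φ₀ (algebraMap k _ (-c))) = 0
    rw [AlgEquiv.commutes, AlgHom.commutes]
    exact add_neg_cancel c
  have k1 := @GrpSchLib.LineGroups.mul_coord_Ga k _ (Red.Ga (Spec (CommRingCat.of k))) h₁ _ φ h0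
  have k2 := @GrpSchLib.LineGroups.mul_coord_Ga k _ (Red.Ga (Spec (CommRingCat.of k))) h₂ _ φ (e ▸ h0)
  exact GrpSchLib.LineGroups.ext_coord_Ga φ (k1.trans k2.symm)


end Groth.Agent.S15602
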