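import Groth.Statements.S15606
import Groth.Agent.S15602
import Groth.Agent.GrpSchLib.HomFlat
import Groth.Agent.GrpSchLib.SmoothReduced
import Mathlib.RingTheory.Flat.FaithfullyFlat.Algebra
-- import your own Groth.Agent.* helpers here

set_option autoImplicit false
universe u
open CategoryTheory MonoidalCategory CartesianMonoidalCategory MonObj GrpObj AlgebraicGeometry
open AlgGrp

namespace Groth.Agent.S15606

open CategoryTheory MonoidalCategory CartesianMonoidalCategory MonObj GrpObj AlgebraicGeometry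
open Groth.Agent.GrpSchLib Groth.Agent.GrpSchLib.Kunneth Groth.Agent.GrpSchLib.LineGroups
open scoped TensorProduct Polynomial

set_option maxHeartbeats 1000000

/-- Faithfully flat descent for elements. -/
lemma mem_range_of_tmul_eq {A B : Type u} [CommRing A] [CommRing B] [Algebra A B]
    [Module.FaithfullyFlat A B] (b : B) (h : b ⊗ₜ[A] (1 : B) = (1 : B) ⊗ₜ[A] b) :
    ∃ a, algebraMap A B a = b := by
  let N := LinearMap.range (Algebra.linearMap A B)
  have h0 : (1 : B) ⊗ₜ[A] N.mkQ b = 0 := by
    rw [← LinearMap.lTensor_tmul, ← h, LinearMap.lTensor_tmul,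
      show N.mkQ (1 : B) = 0 from (Submodule.Quotient.mk_eq_zero _).mpr ⟨1, (algebraMap A B).map_one⟩,
      TensorProduct.tmul_zero]
  have hz : N.mkQ b = 0 :=
    Module.FaithfullyFlat.tensorProduct_mk_injective (A := A) (B := B) _ (h0.trans (map_zero _).symm)
  exact (Submodule.Quotient.mk_eq_zero _).mp hz

variable {k : Type u} [Field k]

/-- A group which is finite flat quotient of a line group has a coordinate. -/
theorem exists_coord {G H : Over (Spec (CommRingCat.of k))} [GrpObj G] [GrpObj H] [IsAffine G.left]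
    [IsAffine H.left] (φ : k[X] ≃ₐ[k] Fn G) (h0 : evPt η[G] (φ Polynomial.X) = 0) (f : G ⟶ H) [IsMonHom f]
    (hff : (ev f).toRingHom.FaithfullyFlat) (hfin : (ev f).toRingHom.Finite) :
    ∃ ψ : k[X] ≃ₐ[k] Fn H, evPt η[H] (ψ Polynomial.X) = 0 := by
  classical
  let t := φ Polynomial.X
  let α : Fn H →ₐ[k] k[X] := φ.symm.toAlgHom.comp (ev f)
  let ε : Fn H →ₐ[k] k := evPt η[H]
  have hφα : ∀ b, φ (α b) = ev f b := fun b => φ.apply_symm_apply _
  have hadd : ∀ {T : Over (Spec (CommRingCat.of k))} (g h : T ⟶ G), ev (g * h) t = ev g t + ev h t := by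
    intro T g h
    rw [Hom.mul_def, ← ev_ev]
    show ev (lift g h) (ev μ[G] (φ Polynomial.X)) = _
    rw [mul_coord_Ga G φ h0, map_add, ev_ev, ev_ev, lift_fst, lift_snd]
  have h1 : ∀ (T : Over (Spec (CommRingCat.of k))), ev (1 : T ⟶ G) t = 0 := fun T => by
    rw [Hom.one_def, one_fn_const, h0, map_zero]
  have hinv : ∀ {T : Over (Spec (CommRingCat.of k))} (g : T ⟶ G), ev g⁻¹ t = - ev g t := fun g => by
    rw [eq_neg_iff_add_eq_zero, ← hadd, inv_mul_cancel, h1]
  have hα : ∀ {T : Over (Spec (CommRingCat.of k))} (g : T ⟶ G) b,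
      ev (g ≫ f) b = Polynomial.aeval (ev g t) (α b) := fun g b => by
    rw [← ev_ev, ← hφα, ev_aeval]
  have h1H : ∀ (T : Over (Spec (CommRingCat.of k))) b, ev (1 : T ⟶ H) b = algebraMap k (Fn T) (ε b) :=
    fun T b => by rw [Hom.one_def, one_fn_const]
  haveI : Nontrivial (Fn G) := φ.toEquiv.symm.nontrivial
  have heval : ∀ b, (α b).eval 0 = ε b := by
    intro b
    refine (algebraMap k (Fn G)).injective ?_
    rw [← h1H, ← MonObj.one_comp f, hα, h1, ← map_zero (algebraMap k (Fn G)),
      Polynomial.aeval_algebraMap_apply_eq_algebraMap_eval]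
  -- the equation of the kernel
  let J : Ideal k[X] := Ideal.span (Set.range fun b => α b - Polynomial.C (ε b))
  have hJ0 : ∀ p ∈ J, p.eval 0 = 0 := by
    intro p hp
    refine (Ideal.span_le.mpr ?_ : J ≤ RingHom.ker (Polynomial.evalRingHom (0 : k))) hp
    rintro _ ⟨b, rfl⟩
    simp [RingHom.mem_ker, heval]
  obtain ⟨q₀, hq₀⟩ := (IsPrincipalIdealRing.principal J).principal
  have hq₀0 : q₀ ≠ 0 := by
    rintro rfl
    have hconst : ∀ b, α b = Polynomial.C (ε b) := by
      intro b
      have hm : α b - Polynomial.C (ε b) ∈ J := Ideal.subset_span ⟨b, rfl⟩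
      rw [hq₀, Submodule.span_zero_singleton, Submodule.mem_bot, sub_eq_zero] at hm
      exact hm
    have hfin' : α.toRingHom.Finite := (RingHom.Finite.of_surjective _ φ.symm.surjective).comp hfin
    rw [show α.toRingHom = (Polynomial.C : k →+* k[X]).comp ε.toRingHom from RingHom.ext hconst] at hfin'
    have : RingHom.Finite (algebraMap k k[X]) := RingHom.Finite.of_comp_finite hfin'
    exact Polynomial.not_finite (RingHom.finite_algebraMap.mp this)
  obtain ⟨q, hqdef⟩ : ∃ q, q = q₀ * Polynomial.C q₀.leadingCoeff⁻¹ := ⟨_, rfl⟩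
  have hqm : q.Monic := hqdef ▸ Polynomial.monic_mul_leadingCoeff_inv hq₀0
  have hJq : ∀ p, p ∈ J ↔ q ∣ p := fun p => by
    have : Associated q q₀ := hqdef ▸ associated_mul_unit_left _ _
      (Polynomial.isUnit_C.mpr (isUnit_iff_ne_zero.mpr (inv_ne_zero (Polynomial.leadingCoeff_ne_zero.mpr hq₀0))))
    rw [this.dvd_iff_dvd_left, hq₀, ← Ideal.mem_span_singleton]
  have hqJ : q ∈ J := (hJq q).mpr dvd_rfl
  have hq0 : q.eval 0 = 0 := hJ0 q hqJ
  have hd : 0 < q.natDegree := by
    by_contra h
    have hq1 := hqm.natDegree_eq_zero.mp (by omega)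
    rw [hq1, Polynomial.eval_one] at hq0
    exact one_ne_zero hq0
  have hker : ∀ {T : Over (Spec (CommRingCat.of k))} (g : T ⟶ G),
      g ≫ f = 1 ↔ Polynomial.aeval (ev g t) q = 0 := by
    intro T g
    constructor
    · intro hg
      have hle : J ≤ RingHom.ker (Polynomial.aeval (ev g t)).toRingHom := by
        refine Ideal.span_le.mpr ?_
        rintro _ ⟨b, rfl⟩
        show Polynomial.aeval (ev g t) (α b - Polynomial.C (ε b)) = 0
        rw [map_sub, ← hα, hg, h1H, Polynomial.aeval_C, sub_self]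
      exact hle hqJ
    · intro hg
      refine ext_ev (AlgHom.ext fun b => ?_)
      obtain ⟨r, hr⟩ := (hJq _).mp (Ideal.subset_span ⟨b, rfl⟩ : α b - Polynomial.C (ε b) ∈ J)
      rw [hα, h1H, sub_eq_iff_eq_add.mp hr, map_add, map_mul, hg, zero_mul, zero_add, Polynomial.aeval_C]
  have hpt : ∀ (C : Type u) [CommRing C] [Algebra k C] (a : C),
      ∃ g : Over.mk (Spec.map (CommRingCat.ofHom (algebraMap k C))) ⟶ G, ev g t = spEquiv C a := by
    intro C _ _ a
    obtain ⟨g, hg⟩ := exists_hom_ev (X := G) ((Polynomial.aeval (spEquiv C a)).comp φ.symm.toAlgHom)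
    exact ⟨g, by rw [hg]; simp [t]⟩
  have hsp : ∀ (C : Type u) [CommRing C] [Algebra k C] (a : C) (p : k[X]),
      Polynomial.aeval (spEquiv C a) p = spEquiv C (Polynomial.aeval a p) :=
    fun C _ _ a p => Polynomial.aeval_algHom_apply (spEquiv (k := k) C).toAlgHom a p
  -- translation by the kernel
  have htr : ∀ (C : Type u) [CommRing C] [Algebra k C] (a n : C), Polynomial.aeval n q = 0 →
      ∀ b, Polynomial.aeval (a + n) (α b) = Polynomial.aeval a (α b) := by
    intro C _ _ a n hn b
    obtain ⟨g, hg⟩ := hpt C a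
    obtain ⟨h, hh⟩ := hpt C n
    have hh1 : h ≫ f = 1 := (hker h).mpr (by rw [hh, hsp, hn, map_zero])
    have : ev ((g * h) ≫ f) b = ev (g ≫ f) b := by rw [MonObj.mul_comp, hh1, _root_.mul_one]
    rw [hα, hα, hadd, hg, hh, ← map_add, hsp, hsp] at this
    exact (spEquiv C).injective this
  have hclosed : ∀ (C : Type u) [CommRing C] [Algebra k C] (m n : C), Polynomial.aeval m q = 0 →
      Polynomial.aeval n q = 0 → Polynomial.aeval (m + n) q = 0 := by
    intro C _ _ m n hm hn
    obtain ⟨g, hg⟩ := hpt C m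
    obtain ⟨h, hh⟩ := hpt C n
    have hg1 : g ≫ f = 1 := (hker g).mpr (by rw [hg, hsp, hm, map_zero])
    have hh1 : h ≫ f = 1 := (hker h).mpr (by rw [hh, hsp, hn, map_zero])
    have := (hker (g * h)).mp (by rw [MonObj.mul_comp, hg1, hh1, _root_.mul_one])
    rw [hadd, hg, hh, ← map_add, hsp] at this
    exact (map_eq_zero_iff _ (spEquiv C).injective).mp this
  let L := AdjoinRoot q
  let ρ : L := AdjoinRoot.root q
  have hρ : Polynomial.aeval ρ q = 0 := by rw [AdjoinRoot.aeval_eq, AdjoinRoot.mk_self]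
  haveI : Nontrivial L := AdjoinRoot.nontrivial q (fun h => hd.ne' (Polynomial.natDegree_eq_zero_iff_degree_le_zero.mpr h.le))
  let Tr : k[X] →ₐ[k] L[X] := Polynomial.aeval (Polynomial.X + Polynomial.C ρ)
  let em : k[X] →ₐ[k] L[X] := Polynomial.aeval Polynomial.X
  have hem : ∀ p, em p = p.map (algebraMap k L) := fun p => by
    simp only [em, Polynomial.aeval_X_left_eq_map]
  have hTr : ∀ p, Tr p = (p.map (algebraMap k L)).comp (Polynomial.X + Polynomial.C ρ) := fun p => by
    simp only [Tr, Polynomial.comp, Polynomial.eval₂_map, Polynomial.aeval_def]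
    rfl
  have hqL : (em q).Monic := by rw [hem]; exact hqm.map _
  have hqLd : (em q).natDegree = q.natDegree := by rw [hem]; exact hqm.natDegree_map _
  have hTq : Tr q = em q := by
    let D := AdjoinRoot (em q)
    let r : D := AdjoinRoot.root (em q)
    have hr : Polynomial.aeval r q = 0 := by
      rw [← Polynomial.aeval_map_algebraMap L, ← hem, AdjoinRoot.aeval_eq, AdjoinRoot.mk_self]
    have hn : Polynomial.aeval (algebraMap L D ρ) q = 0 := by
      rw [Polynomial.aeval_algebraMap_apply, hρ, map_zero]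
    have h2 := hclosed D r (algebraMap L D ρ) hr hn
    have hdvd : em q ∣ Tr q := by
      rw [← AdjoinRoot.mk_eq_zero, ← AdjoinRoot.aeval_eq, hTr, Polynomial.aeval_comp, map_add,
        Polynomial.aeval_X, Polynomial.aeval_C, Polynomial.aeval_map_algebraMap]
      exact h2
    have hdeg : (Tr q).natDegree ≤ (em q).natDegree := by
      rw [hTr, ← hem]
      refine Polynomial.natDegree_comp_le.trans ?_
      rw [Polynomial.natDegree_X_add_C, _root_.mul_one]
    have hlead : (Tr q).leadingCoeff = 1 := by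
      rw [hTr]
      exact ((hqm.map _).comp (Polynomial.monic_X_add_C ρ) (by rw [Polynomial.natDegree_X_add_C]; exact one_ne_zero))
    rw [Polynomial.eq_leadingCoeff_mul_of_monic_of_dvd_of_natDegree_le hqL hdvd hdeg, hlead, map_one,
      _root_.one_mul]
  have hqinv : ∀ (C : Type u) [CommRing C] [Algebra k C] (a n : C), Polynomial.aeval n q = 0 →
      Polynomial.aeval (a + n) q = Polynomial.aeval a q := by
    intro C _ _ a n hn
    let χ : L →ₐ[k] C := AdjoinRoot.liftAlgHom q (Algebra.ofId k C) n (by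
      rw [← hn]; rfl)
    letI : Algebra L C := χ.toRingHom.toAlgebra
    haveI : IsScalarTower k L C := IsScalarTower.of_algHom χ
    have hχ : algebraMap L C ρ = n := by
      show χ ρ = n
      rw [AdjoinRoot.coe_liftAlgHom]
      exact AdjoinRoot.lift_root _
    have := congrArg (Polynomial.aeval (R := L) a) hTq
    rw [hTr, hem, Polynomial.aeval_comp, map_add, Polynomial.aeval_X, Polynomial.aeval_C, hχ,
      Polynomial.aeval_map_algebraMap, Polynomial.aeval_map_algebraMap] at this
    exact this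
  -- invariant polynomials are polynomials in `q`
  have hsub : ∀ b, ∃ s : k[X], α b = Polynomial.aeval q s := by
    suffices ∀ (N : ℕ) (P : k[X]), P.natDegree ≤ N → Tr P = em P → ∃ s, P = Polynomial.aeval q s by
      intro b
      refine this _ _ le_rfl ?_
      show Polynomial.aeval (Polynomial.X + Polynomial.C ρ) (α b) = Polynomial.aeval Polynomial.X (α b)
      refine htr L[X] Polynomial.X (Polynomial.C ρ) ?_ b
      rw [← Polynomial.algebraMap_eq, Polynomial.aeval_algebraMap_apply, hρ, map_zero]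
    intro N
    induction N using Nat.strong_induction_on with
    | _ N ih =>
    intro P hP hinvP
    let c := P %ₘ q
    let P' := P /ₘ q
    have hPdec : c + q * P' = P := P.modByMonic_add_div q
    have hcd : c.natDegree < q.natDegree := Polynomial.natDegree_modByMonic_lt P hqm (by
      intro h; rw [h, Polynomial.natDegree_one] at hd; exact lt_irrefl _ hd)
    have heq : Tr c - em c = em q * (em P' - Tr P') := by
      rw [← hPdec, map_add, map_add, map_mul, map_mul, hTq] at hinvP
      linear_combination hinvP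
    have hlt : (Tr c - em c).natDegree < (em q).natDegree := by
      rw [hqLd]
      refine lt_of_le_of_lt (Polynomial.natDegree_sub_le _ _) (max_lt ?_ ?_)
      · rw [hTr]
        refine lt_of_le_of_lt Polynomial.natDegree_comp_le ?_
        rw [Polynomial.natDegree_X_add_C, _root_.mul_one]
        exact lt_of_le_of_lt Polynomial.natDegree_map_le hcd
      · rw [hem]
        exact lt_of_le_of_lt Polynomial.natDegree_map_le hcd
    have hc0 : Tr c - em c = 0 := by
      by_contra hne
      exact hqL.not_dvd_of_natDegree_lt hne hlt ⟨_, heq⟩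
    have hP'inv : Tr P' = em P' := by
      rw [hc0] at heq
      exact (sub_eq_zero.mp (hqL.isRegular.left (show em q * (em P' - Tr P') = em q * 0 by
        rw [mul_zero]; exact heq.symm))).symm
    have hcC : c = Polynomial.C (c.eval 0) := by
      have h2 := congrArg (Polynomial.aeval (R := L) (0 : L)) (sub_eq_zero.mp hc0)
      rw [hTr, hem, Polynomial.aeval_comp, map_add, Polynomial.aeval_X, Polynomial.aeval_C,
        Algebra.algebraMap_self, RingHom.id_apply, zero_add, Polynomial.aeval_map_algebraMap,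
        Polynomial.aeval_map_algebraMap, ← map_zero (algebraMap k L),
        Polynomial.aeval_algebraMap_apply_eq_algebraMap_eval] at h2
      have hdvd : q ∣ c - Polynomial.C (c.eval 0) := by
        rw [← AdjoinRoot.mk_eq_zero, ← AdjoinRoot.aeval_eq, map_sub, Polynomial.aeval_C]
        exact sub_eq_zero.mpr h2
      refine sub_eq_zero.mp (Polynomial.eq_zero_of_dvd_of_natDegree_lt hdvd ?_)
      rw [Polynomial.natDegree_sub_C]; exact hcd
    by_cases hP' : P' = 0
    · exact ⟨Polynomial.C (c.eval 0), by rw [Polynomial.aeval_C, Polynomial.algebraMap_eq, ← hcC, ← hPdec, hP', mul_zero, add_zero]⟩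
    · have hdeg : P'.natDegree < N := by
        have h3 : P'.natDegree = P.natDegree - q.natDegree := Polynomial.natDegree_divByMonic P hqm
        have h4 : q.natDegree ≤ P.natDegree := by
          by_contra h4
          exact hP' ((Polynomial.divByMonic_eq_zero_iff hqm).mpr (Polynomial.degree_lt_degree (by omega)))
        omega
      obtain ⟨s, hs⟩ := ih _ hdeg P' le_rfl hP'inv
      refine ⟨Polynomial.C (c.eval 0) + Polynomial.X * s, ?_⟩
      rw [map_add, map_mul, Polynomial.aeval_C, Polynomial.aeval_X, Polynomial.algebraMap_eq, ← hcC, ← hs, hPdec]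
  have hdiff : ∀ (C : Type u) [CommRing C] [Algebra k C] (a m : C),
      (∀ b, Polynomial.aeval a (α b) = Polynomial.aeval m (α b)) → Polynomial.aeval (a - m) q = 0 := by
    intro C _ _ a m hab
    obtain ⟨g, hg⟩ := hpt C a
    obtain ⟨h, hh⟩ := hpt C m
    have hgh : g ≫ f = h ≫ f := ext_ev (AlgHom.ext fun b => by
      rw [hα, hα, hg, hh, hsp, hsp, hab])
    have := (hker (h⁻¹ * g)).mp (by rw [MonObj.mul_comp, GrpObj.inv_comp, hgh, inv_mul_cancel])
    rw [hadd, hinv, hg, hh, ← map_neg, ← map_add, hsp, neg_add_eq_sub] at this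
    exact (map_eq_zero_iff _ (spEquiv C).injective).mp this
  -- descent of `q`
  letI : Algebra (Fn H) (Fn G) := (ev f).toRingHom.toAlgebra
  haveI : IsScalarTower k (Fn H) (Fn G) := IsScalarTower.of_algHom (ev f)
  haveI : Module.FaithfullyFlat (Fn H) (Fn G) := hff
  let B := Fn G
  let C := B ⊗[Fn H] B
  let iL : B →ₐ[k] C := (Algebra.TensorProduct.includeLeft : B →ₐ[k] C)
  let iR : B →ₐ[k] C := (Algebra.TensorProduct.includeRight : B →ₐ[Fn H] C).restrictScalars k
  have haev : ∀ p : k[X], Polynomial.aeval t p = φ p := fun p => by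
    rw [show t = φ.toAlgHom Polynomial.X from rfl, Polynomial.aeval_algHom_apply, Polynomial.aeval_X_left]
    rfl
  have hxy : ∀ b, Polynomial.aeval (iL t) (α b) = Polynomial.aeval (iR t) (α b) := by
    intro b
    rw [Polynomial.aeval_algHom_apply iL t, Polynomial.aeval_algHom_apply iR t, haev, hφα]
    exact (Algebra.TensorProduct.tmul_one_eq_one_tmul b)
  have hsub0 : Polynomial.aeval (iL t - iR t) q = 0 := hdiff C (iL t) (iR t) hxy
  have hqeq : (φ q : B) ⊗ₜ[Fn H] (1 : B) = (1 : B) ⊗ₜ[Fn H] φ q := by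
    have := hqinv C (iR t) (iL t - iR t) hsub0
    rw [add_sub_cancel, Polynomial.aeval_algHom_apply iL t, Polynomial.aeval_algHom_apply iR t, haev] at this
    exact this
  obtain ⟨qH, hqH⟩ := mem_range_of_tmul_eq (φ q) hqeq
  have hαinj : Function.Injective α :=
    φ.symm.injective.comp (FaithfulSMul.algebraMap_injective (Fn H) (Fn G))
  have hαq : α qH = q := by
    show φ.symm (ev f qH) = q
    rw [show ev f qH = φ q from hqH, AlgEquiv.symm_apply_apply]
  have hαaeval : ∀ s, α (Polynomial.aeval qH s) = Polynomial.aeval q s := fun s => by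
    rw [← Polynomial.aeval_algHom_apply, hαq]
  have hbij : Function.Bijective (Polynomial.aeval qH : k[X] →ₐ[k] Fn H) := by
    refine ⟨(injective_iff_map_eq_zero _).mpr fun s hs => ?_, fun b => ?_⟩
    · have h2 : s.comp q = 0 := by
        rw [Polynomial.comp_eq_aeval, ← hαaeval, hs, map_zero]
      rcases Polynomial.comp_eq_zero_iff.mp h2 with h3 | ⟨-, h3⟩
      · exact h3
      · rw [h3, Polynomial.natDegree_C] at hd; exact absurd hd (lt_irrefl _)
    · obtain ⟨s, hs⟩ := hsub b
      exact ⟨s, hαinj ((hαaeval s).trans hs.symm)⟩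
  refine ⟨AlgEquiv.ofBijective _ hbij, ?_⟩
  rw [show (AlgEquiv.ofBijective _ hbij) Polynomial.X = qH from Polynomial.aeval_X qH,
    show evPt η[H] qH = ε qH from rfl, ← heval, hαq, hq0]

theorem ev_point {Z : Over (Spec (CommRingCat.of k))} (z : 𝟙_ (Over (Spec (CommRingCat.of k))) ⟶ Z) (b : Fn Z) :
    ev z b = algebraMap k _ (evPt z b) := by
  rw [← one_fn_const, toUnit_unit, Category.id_comp]

/-- Coordinates on a line group give an isomorphism. -/
theorem nonempty_iso {G H : Over (Spec (CommRingCat.of k))} [GrpObj G] [GrpObj H] [IsAffine G.left]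
    [IsAffine H.left] (φ : k[X] ≃ₐ[k] Fn G) (h0 : evPt η[G] (φ Polynomial.X) = 0)
    (ψ : k[X] ≃ₐ[k] Fn H) (h0' : evPt η[H] (ψ Polynomial.X) = 0) : Nonempty (Grp.mk H ≅ Grp.mk G) := by
  obtain ⟨g, hg⟩ := exists_hom_ev (X := G) (T := H) (φ.symm.trans ψ).toAlgHom
  obtain ⟨g', hg'⟩ := exists_hom_ev (X := H) (T := G) (ψ.symm.trans φ).toAlgHom
  have e1 : ev g (φ Polynomial.X) = ψ Polynomial.X := by rw [hg]; simp
  let j : H ≅ G := ⟨g, g', ext_ev (AlgHom.ext fun b => by rw [← ev_ev, ev_id, hg, hg']; simp),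
    ext_ev (AlgHom.ext fun b => by rw [← ev_ev, ev_id, hg, hg']; simp)⟩
  haveI : IsMonHom j.hom := by
    refine ⟨ext_coord_Ga φ ?_, ext_coord_Ga φ ?_⟩
    · rw [← ev_ev, e1, ev_point, ev_point, h0', h0]
    · rw [← ev_ev, e1, mul_coord_Ga H ψ h0', ← ev_ev, mul_coord_Ga G φ h0, map_add, ev_ev, ev_ev,
        tensorHom_fst, tensorHom_snd, ← ev_ev, ← ev_ev, e1]
  exact ⟨Grp.mkIso' j⟩

/-- A coordinate on the additive group. -/
theorem exists_gaCoord (k : Type u) [Field k] : IsAffine (Red.Ga (Spec (CommRingCat.of k))).left ∧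
    ∃ φ : k[X] ≃ₐ[k] Fn (Red.Ga (Spec (CommRingCat.of k))),
      evPt η[Red.Ga (Spec (CommRingCat.of k))] (φ Polynomial.X) = 0 := by
  let R := ULift.{u} ℤ
  let : Algebra R k := ((algebraMap ℤ k).comp (ULift.ringEquiv.toRingHom)).toAlgebra
  obtain ⟨e1⟩ := GrpSchLib.AffineHopf.nonempty_bc_iso (Limits.IsTerminal.from specULiftZIsTerminal (Spec (CommRingCat.of k)))
    (Spec.map (CommRingCat.ofHom (algebraMap R k))) (specULiftZIsTerminal.hom_ext _ _) Red.GaZ
  obtain ⟨e2⟩ := GrpSchLib.AffineHopf.nonempty_bc_sp (R := R) k (SymmetricAlgebra R R)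
  let j : Red.Ga (Spec (CommRingCat.of k)) ≅ _ := (Grp.forget _).mapIso (e1.trans e2)
  obtain ⟨hA, ⟨ψ⟩⟩ := Groth.Agent.S15602.aux R k
  haveI hA' : IsAffine (Red.Ga (Spec (CommRingCat.of k))).left := @IsAffine.of_isIso _ _ ((Over.forget _).mapIso j).hom (Iso.isIso_hom _) hA
  let φ₀ : k[X] ≃ₐ[k] Fn (Red.Ga (Spec (CommRingCat.of k))) := ψ.trans (fnEquiv j)
  let c := evPt η[Red.Ga (Spec (CommRingCat.of k))] (φ₀ Polynomial.X)
  refine ⟨hA', (Polynomial.algEquivAevalXAddC (-c)).trans φ₀, ?_⟩
  show evPt η[Red.Ga (Spec (CommRingCat.of k))] (φ₀ (Polynomial.aeval _ Polynomial.X)) = 0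
  rw [Polynomial.aeval_X, map_add, map_add]
  show c + evPt η[Red.Ga (Spec (CommRingCat.of k))] (φ₀ (algebraMap k _ (-c))) = 0
  rw [AlgEquiv.commutes, AlgHom.commutes]
  exact add_neg_cancel c


/-- Additive case. Let k be a field, H an affine smooth connected k-group scheme, and f a homomorphism
from the additive group over k to H which is finite and surjective (an isogeny onto H). Then H is
isomorphic, as a k-group scheme, to the additive group. In particular every quotient of the additive
group by a finite k-subgroup scheme is isomorphic to the additive group over k itself, for any field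
k. -/
theorem result (k : Type u) [Field k]
    (H : Over (Spec (CommRingCat.of k))) [GrpObj H] [IsAffine H.left] [Smooth H.hom] [ConnectedSpace ↥H.left]
    (f : Red.Ga (Spec (CommRingCat.of k)) ⟶ H) [IsMonHom f] [IsFinite f.left] [Surjective f.left] :
    Nonempty (Grp.mk H ≅ Grp.mk (Red.Ga (Spec (CommRingCat.of k)))) := by
  obtain ⟨hA, φ, h0⟩ := exists_gaCoord k
  haveI := hA
  haveI : AlgebraicGeometry.IsReduced H.left := GrpSchLib.isReduced_of_smooth_field H.hom
  haveI : LocallyOfFiniteType (Red.Ga (Spec (CommRingCat.of k))).hom := by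
    rw [← Over.w f]; infer_instance
  haveI : Flat f.left := GrpSchLib.flat_of_surjective_hom f
  have hff : (ev f).toRingHom.FaithfullyFlat :=
    (Flat.flat_and_surjective_iff_faithfullyFlat_of_isAffine (f := f.left)).mp ⟨inferInstance, inferInstance⟩
  have hfin : (ev f).toRingHom.Finite := Scheme.Hom.finite_appTop f.left
  obtain ⟨ψ, h0'⟩ := exists_coord φ h0 f hff hfin
  exact nonempty_iso φ h0 ψ h0'

end Groth.Agent.S15606
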