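import Groth.Statements.S5427
import Mathlib.RingTheory.Int.Basic
import Mathlib.RingTheory.Ideal.Int
import Mathlib.Data.ZMod.QuotientRing
import Mathlib.RingTheory.SimpleModule.Basic

set_option autoImplicit false
universe u
open CategoryTheory MonoidalCategory CartesianMonoidalCategory MonObj GrpObj AlgebraicGeometry CategoryTheory.Limits
open Red

namespace Groth.Agent.S5427

theorem isMonHom_diagMap {M N : Type} [AddCommGroup M] [AddCommGroup N] (R : Type u) [CommRing R] (φ : M →+ N) :
    IsMonHom (Red.diagMap R φ) :=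
  ((hopfSpec (CommRingCat.of R)).map (CommHopfAlgCat.ofHom (X := MonoidAlgebra R (Multiplicative M))
    (Y := MonoidAlgebra R (Multiplicative N))
    (MonoidAlgebra.mapDomainBialgHom R (AddMonoidHom.toMultiplicative φ))).op).hom.isMonHom_hom

theorem isMonHom_DSmap {M N : Type} [AddCommGroup M] [AddCommGroup N] (S : Scheme.{u}) (φ : M →+ N) :
    IsMonHom (Red.DSmap S φ) := by
  have := isMonHom_diagMap (ULift.{u} ℤ) φ
  exact inferInstanceAs (IsMonHom ((Over.pullback _).map (Red.diagMap (ULift.{u} ℤ) φ)))

theorem isClosedImmersion_DSmap {M N : Type} [AddCommGroup M] [AddCommGroup N] (S : Scheme.{u}) (φ : M →+ N)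
    (hφ : Function.Surjective φ) : IsClosedImmersion (Red.DSmap S φ).left := by
  have h : IsClosedImmersion (Red.diagMap (ULift.{u} ℤ) φ).left :=
    IsClosedImmersion.spec_of_surjective _ fun x => by
      induction x using MonoidAlgebra.induction_linear with
      | zero => exact ⟨0, map_zero _⟩
      | add a b ha hb =>
        obtain ⟨a, rfl⟩ := ha
        obtain ⟨b, rfl⟩ := hb
        exact ⟨a + b, map_add _ _ _⟩
      | single n c =>
        obtain ⟨m, hm⟩ := hφ (Multiplicative.toAdd n)
        exact ⟨MonoidAlgebra.single (Multiplicative.ofAdd m) c, by simp [hm]⟩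
  exact MorphismProperty.baseChange_map (P := @IsClosedImmersion) _ _ h

/-- Let S be a scheme and G = D_S(M) a diagonalizable S-group of finite type, M a non-trivial finitely
generated commutative group. Then there are a prime number r and a closed subgroup of G isomorphic
to (μ_r)_S: a homomorphism of S-groups D_S(ℤ/r) → D_S(M) which is a closed immersion. -/
theorem result (S : Scheme.{u}) (M : Type) [AddCommGroup M] [AddGroup.FG M] [Nontrivial M] :
    ∃ (r : ℕ) (_ : r.Prime) (j : Red.DS S (ZMod r) ⟶ Red.DS S M), IsMonHom j ∧ IsClosedImmersion j.left := by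
  have : Module.Finite ℤ M := Module.Finite.iff_addGroup_fg.mpr ‹_›
  obtain ⟨N, hN, -⟩ := (IsCoatomic.eq_top_or_exists_le_coatom (⊥ : Submodule ℤ M)).resolve_left bot_ne_top
  have : IsSimpleModule ℤ (M ⧸ N) := isSimpleModule_iff_isCoatom.mpr hN
  obtain ⟨I, hI, ⟨e⟩⟩ := isSimpleModule_iff_quot_maximal.mp this
  obtain ⟨a, rfl⟩ := (IsPrincipalIdealRing.principal I).principal
  have ha : a ≠ 0 := fun h => by
    subst h
    have h2 : (ℤ ∙ (0 : ℤ)) < (Ideal.span {(2 : ℤ)} : Ideal ℤ) := by simp [bot_lt_iff_ne_bot]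
    have := hI.1.2 _ h2
    rw [Ideal.span_singleton_eq_top] at this
    exact absurd (Int.isUnit_iff.mp this) (by omega)
  refine ⟨a.natAbs, Int.prime_iff_natAbs_prime.mp ((Ideal.span_singleton_prime ha).mp hI.isPrime),
    Red.DSmap S (((Int.quotientSpanEquivZMod a).toAddEquiv.toAddMonoidHom.comp e.toAddEquiv.toAddMonoidHom).comp
      N.mkQ.toAddMonoidHom), isMonHom_DSmap S _, isClosedImmersion_DSmap S _ ?_⟩
  exact ((Int.quotientSpanEquivZMod a).surjective.comp e.surjective).comp N.mkQ_surjective

end Groth.Agent.S5427
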