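import Groth.Statements.S5264
import Groth.Agent.MultTypeLib.TorsionCrit
import Groth.Agent.MultTypeLib.LocalToGlobal

set_option autoImplicit false
universe u
open TensorProduct SGA3b
open SGA3b

namespace Groth.Agent.S5264

/-- Let H = Spec C be a commutative affine R-group (C cocommutative) with C flat and of finite
presentation over R, such that for every prime p of R the fibre Spec (κ(p) ⊗ C) is a κ(p)-group of
multiplicative type, and such that for every n > 0 the kernel ₙH = Spec (C/Jₙ) of the n-th power map
is finite over R (Jₙ the ideal generated by the image of the augmentation ideal under the n-th power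
endomorphism). Then H is of multiplicative type. (Affine group schemes over an affine base are taken
in Hopf-algebra form; base change is the tensor product; a homomorphism of groups Spec A ⟶ Spec C is
a bialgebra map C → A.) -/
theorem result (R : Type u) [CommRing R] (C : Type u) [CommRing C] [HopfAlgebra R C]
    [Coalgebra.IsCocomm R C] [Module.Flat R C] (hfp : Algebra.FinitePresentation R C)
    (hfib : ∀ (p : Ideal R) [p.IsPrime], IsMultType p.ResidueField (p.ResidueField ⊗[R] C))
    (hfin : ∀ n : ℕ, 0 < n → Module.Finite R (C ⧸ torsionIdeal R C n)) :
    IsMultType R C := by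
  have := hfp
  refine Groth.Agent.MultTypeLib.isMultType_of_local fun p hp => ?_
  let Rp := Localization.AtPrime p
  have : Module.Flat Rp (Rp ⊗[R] C) := inferInstance
  refine Groth.Agent.MultTypeLib.isMultType_local_of_torsion (fun q _ _ => Module.Flat.trans Rp (Rp ⊗[R] C) _)
    (Groth.Agent.MultTypeLib.isMultType_congr
      (Groth.Agent.MultTypeLib.baseChangeTrans (R := R) Rp p.ResidueField C) (hfib p)) fun n hn => ?_
  have := hfin n hn
  exact Groth.Agent.MultTypeLib.finite_torsion_baseChange (R := R) Rp n

end Groth.Agent.S5264
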