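import Groth.Statements.S3581
import Groth.Agent.PnCoh.Sections
import Groth.Agent.S0024

set_option autoImplicit false
universe u
open CategoryTheory CategoryTheory.Limits AlgebraicGeometry
open EGA2

namespace Groth.Agent.S3581

/-- Over an affine base Spec A, Proj of the graded polynomial algebra A[T] (T of degree one) is
identified with Spec A by its structure morphism: the structure morphism from projective 0-space
over A to Spec A is an isomorphism. -/
theorem result (A : Type u) [CommRing A] :
    IsIso (CohB1.ProjSpace.toSpec 0 A) := by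
  have h1 : (Proj.basicOpen (CohB1.polyGrading 0 A) (MvPolynomial.monomial (Finsupp.single (0 : Fin 1) 1) (1 : A))) = ⊤ := by
    have h := PnCoh.iSup_mOpen_single (ι := Fin 1) (R := A)
    rw [iSup_unique] at h
    exact h
  have haff : IsAffineOpen (X := CohB1.ProjSpace 0 A)
      (Proj.basicOpen (CohB1.polyGrading 0 A) (MvPolynomial.monomial (Finsupp.single (0 : Fin 1) 1) (1 : A))) :=
    Proj.isAffineOpen_basicOpen (CohB1.polyGrading 0 A) _
      (MvPolynomial.isHomogeneous_monomial (1 : A) (by simp [Finsupp.degree_single] : (Finsupp.single (0 : Fin 1) 1).degree = 1))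
      one_pos
  rw [h1] at haff
  haveI : IsAffine (⊤ : (CohB1.ProjSpace 0 A).Opens).toScheme := haff
  haveI : IsAffine (CohB1.ProjSpace 0 A) := IsAffine.of_isIso (CohB1.ProjSpace 0 A).topIso.inv
  haveI := S0024.result 0 A
  haveI : IsIso (Spec.map (CohB1.ProjSpace.toSpec 0 A).appTop) := inferInstance
  refine IsIso.of_isIso_fac_left (f := (CohB1.ProjSpace 0 A).isoSpec.inv)
    (h := Spec.map (CohB1.ProjSpace.toSpec 0 A).appTop ≫ (Spec (CommRingCat.of A)).isoSpec.inv) ?_
  exact (Scheme.isoSpec_inv_naturality (CohB1.ProjSpace.toSpec 0 A)).symm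

end Groth.Agent.S3581
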