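import Groth.Statements.S0843
import Groth.Agent.PnCoh.TwistH0

set_option autoImplicit false
universe u
open Coherent

namespace Groth.Agent.S0843

open CategoryTheory AlgebraicGeometry in
/-- The case q = 0 and d ≥ 0: for a ring R and n, d ≥ 0, the R-module H^0(P^n_R, O(d)) is isomorphic to
the module of homogeneous polynomials of degree d in T_0, …, T_n over R. (The existing degree-zero
row is the case d = 0.) -/
theorem result (R : Type u) [CommRing R] (n d : ℕ) :
    Nonempty (Coh.HH (CohB1.ProjSpace n R) (Twist.twistProjSpace n R (d : ℤ)) 0 ≃ₗ[R]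
      ↥(MvPolynomial.homogeneousSubmodule (Fin (n + 1)) R d)) := by
  letI := MvPolynomial.gradedAlgebra (σ := Fin (n + 1)) (R := R)
  let g : ↥(MvPolynomial.homogeneousSubmodule (Fin (n + 1)) R d) ≃+
      Groth.Agent.PnCoh.TwTop (Fin (n + 1)) R (d : ℤ) :=
    { Groth.Agent.PnCoh.globalOfEquiv with map_add' := Groth.Agent.PnCoh.globalOf_add }
  let e0 : Coh.HH (CohB1.ProjSpace n R) (Twist.twistProjSpace n R (d : ℤ)) 0 ≃+
      Groth.Agent.PnCoh.TwTop (Fin (n + 1)) R (d : ℤ) :=
    CategoryTheory.Sheaf.H.equiv₀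
      (Coh.toAb (Twist.twist (MvPolynomial.homogeneousSubmodule (Fin (n + 1)) R) (d : ℤ)))
      Limits.isTerminalTop
  refine ⟨{ e0.trans g.symm with map_smul' := fun r x => ?_ }⟩
  show g.symm (e0 (r • x)) = r • g.symm (e0 x)
  apply g.injective
  rw [AddEquiv.apply_symm_apply]
  refine Eq.trans ?_ (Groth.Agent.PnCoh.globalOf_smul r (g.symm (e0 x))).symm
  refine (CategoryTheory.Sheaf.H.equiv₀_naturality Limits.isTerminalTop
    (Coh.smulAb (Twist.twist (MvPolynomial.homogeneousSubmodule (Fin (n + 1)) R) (d : ℤ))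
      (Groth.Agent.PnCoh.constTop (Fin (n + 1)) r)) x).symm.trans ?_
  exact congrArg _ (g.apply_symm_apply (e0 x)).symm

end Groth.Agent.S0843
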