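import Groth.Statements.S0844
import Groth.Agent.PnCoh.TwistCech

set_option autoImplicit false
universe u
open Coherent

namespace Groth.Agent.S0844

open CategoryTheory AlgebraicGeometry in
/-- For a ring R, n ≥ 0, d ∈ ℤ and q ≥ 0, the group H^q(P^n_R, O(d)) is zero unless q = 0 and d ≥ 0, or
q = n and d ≤ -n-1. -/
theorem result (R : Type u) [CommRing R] (n : ℕ) (d : ℤ) (q : ℕ)
    (h₀ : ¬ (q = 0 ∧ 0 ≤ d)) (hn : ¬ (q = n ∧ d ≤ -((n : ℤ) + 1))) :
    Subsingleton (Coh.HH (CohB1.ProjSpace n R) (Twist.twistProjSpace n R d) q) := by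
  letI := MvPolynomial.gradedAlgebra (σ := Fin (n + 1)) (R := R)
  rcases Nat.lt_or_ge n q with hq | hq
  · exact Groth.Agent.QCoh.HH_subsingleton_of_cover
      (X := Proj (MvPolynomial.homogeneousSubmodule (Fin (n + 1)) R)) (n + 1)
      (fun i => Groth.Agent.PnCoh.mOpen R (Finsupp.single i 1))
      (fun i => Groth.Agent.PnCoh.isAffineOpen_mOpen (Finsupp.single_ne_zero.2 one_ne_zero))
      Groth.Agent.PnCoh.iSup_mOpen_single
      (fun V W hV hW => IsAffineOpen.inf hV hW)
      (Groth.Agent.PnCoh.isQCoh_twist_mvPolynomial _ R d) q hq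
  cases q with
  | zero =>
    have hd : d < 0 := by
      by_contra h
      exact h₀ ⟨rfl, not_lt.1 h⟩
    have hn' : 1 < Fintype.card (Fin (n + 1)) := by
      rw [Fintype.card_fin]
      by_contra h
      exact hn ⟨by omega, by omega⟩
    exact (CategoryTheory.Sheaf.H.equiv₀
      (Coh.toAb (Twist.twist (MvPolynomial.homogeneousSubmodule (Fin (n + 1)) R) d))
      Limits.isTerminalTop).toEquiv.subsingleton_congr.2
      (Groth.Agent.PnCoh.subsingleton_global hn' hd)
  | succ p =>
    refine Groth.Agent.PnCoh.subsingleton_HH_pos (ι := Fin (n + 1)) (R := R) (d := d) ?_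
    rw [Fintype.card_fin]
    by_contra h
    push Not at h
    exact hn ⟨by omega, by push_cast at h; omega⟩

end Groth.Agent.S0844
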