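import Groth.Statements.S0845
import Groth.Agent.PnCoh.TwistTop

set_option autoImplicit false
universe u
open Coherent

namespace Groth.Agent.S0845

open CategoryTheory AlgebraicGeometry in
/-- Top cohomology of negative twists on projective space: for a ring R and natural numbers n, k, the
R-module H^n(P^n_R, O(-(n+1+k))) is R-linearly isomorphic to the module of homogeneous polynomials
of degree k in n+1 variables over R. The published statement is a canonical identification of
H^n(P^n_R, O(d)), d < 0, with the degree-d part of (T_0⋯T_n)^(-1) R[1/T_0, …, 1/T_n], a free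
R-module on the Laurent monomials with all exponents ≤ -1 and total degree d; only the existence of
an abstract R-linear isomorphism is asserted here. -/
theorem result (R : Type u) [CommRing R] (n k : ℕ) :
    Nonempty (Coh.HH (CohB1.ProjSpace n R) (Twist.twistProjSpace n R (-((n : ℤ) + 1 + k))) n ≃ₗ[R]
      ↥(MvPolynomial.homogeneousSubmodule (Fin (n + 1)) R k)) := by
  letI := MvPolynomial.gradedAlgebra (σ := Fin (n + 1)) (R := R)
  obtain ⟨e1, h1⟩ := Groth.Agent.PnCoh.exists_homology_equiv (R := R) (m := n) (k := k)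
  obtain ⟨e2, h2⟩ := Groth.Agent.PnCoh.natCx_H_equiv_natural
    (U := Groth.Agent.PnCoh.stdU (Fin (n + 1)) R) Groth.Agent.PnCoh.iSup_stdU
    (Groth.Agent.QCoh.stdCovers_sectionClass Groth.Agent.PnCoh.isAffineOpen_tuple)
    (Groth.Agent.QCoh.abSheaf
      (Twist.twist (MvPolynomial.homogeneousSubmodule (Fin (n + 1)) R) (-((n : ℤ) + 1 + k))))
    (Groth.Agent.QCoh.stdCovers_acyclic
      (Groth.Agent.PnCoh.isQCoh_twist_mvPolynomial (Fin (n + 1)) R (-((n : ℤ) + 1 + k)))) n
  let E : Coh.HH (CohB1.ProjSpace n R) (Twist.twistProjSpace n R (-((n : ℤ) + 1 + k))) n ≃+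
      ↥(MvPolynomial.homogeneousSubmodule (Fin (n + 1)) R k) := e2.symm.trans e1
  refine ⟨{ E with map_smul' := fun r x => ?_ }⟩
  show e1 (e2.symm (r • x)) = r • e1 (e2.symm x)
  rw [← Groth.Agent.PnCoh.homology_equiv_smul e1 h1 r (e2.symm x)]
  refine congrArg e1 (e2.symm_apply_eq.2 ?_)
  refine Eq.trans ?_ (h2 (Coh.smulAb (Twist.twist
    (MvPolynomial.homogeneousSubmodule (Fin (n + 1)) R) (-((n : ℤ) + 1 + k)))
      (Groth.Agent.PnCoh.constTop (Fin (n + 1)) r)) (e2.symm x)).symm
  exact congrArg _ (e2.apply_symm_apply x).symm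

end Groth.Agent.S0845
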