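import Groth.Statements.S10829
import Groth.Agent.VarDim.Proj

set_option autoImplicit false
universe u
open AlgebraicGeometry
open Variety

namespace Groth.Agent.S10829


open Groth.Agent.VarDim Groth.Agent.VarDim.ProjN Order MvPolynomial

/-- For a field k and a natural number n, projective n-space over k (Proj of the polynomial ring in n +
1 variables graded by degree) has Krull dimension n as a topological space. (The published statement
also gives affine n-space dimension n; that half is the Krull dimension of a polynomial ring and is
not restated here.) -/
theorem result (k : Type u) [Field k] (n : ℕ) :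
    topologicalKrullDim ↥(CohB1.ProjSpace n k) = (n : WithBot ℕ∞) := by
  show topologicalKrullDim (ProjectiveSpectrum (CohB1.polyGrading n k)) = _
  rw [topologicalKrullDim_eq_iSup_height]
  obtain ⟨x, hx⟩ := exists_bot_point (k := k) (n := n)
  refine le_antisymm (iSup_le fun z => ?_) (le_iSup_of_le x ?_)
  · rw [height_specialization]
    exact WithBot.coe_le_coe.2 (Nat.cast_le.2 (pdim_le z))
  · rw [height_specialization, pdim_eq_of_eq_bot hx]
    rfl

end Groth.Agent.S10829
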