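import Groth.Statements.S0045
import Groth.Agent.QCoh.Support

set_option autoImplicit false
universe u
open Coherent

namespace Groth.Agent.S0045

open CategoryTheory.Limits in
open AlgebraicGeometry CategoryTheory in
/-- On a Noetherian scheme, any increasing sequence of quasi-coherent submodules of a coherent module is
eventually constant. -/
theorem result (X : Scheme.{u}) [IsNoetherian X] (M : X.Modules)
    (hM : Coh.IsCoh M) (F : ℕ →o Subobject M) (hF : ∀ n, Coh.IsQCoh ((F n : Subobject M) : X.Modules)) :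
    ∃ n : ℕ, ∀ m : ℕ, n ≤ m → F m = F n := by
  classical
  have hspec : ∀ x : X, ∃ U : X.affineOpens, x ∈ U.1 := fun x => by
    obtain ⟨_, ⟨U, hU, rfl⟩, hxU, -⟩ :=
      X.isBasis_affineOpens.exists_subset_of_mem_open (Set.mem_univ x) isOpen_univ
    exact ⟨⟨U, hU⟩, hxU⟩
  choose U hxU using hspec
  obtain ⟨t, ht⟩ := isCompact_univ.elim_finite_subcover (fun x : X => ((U x).1 : Set X))
    (fun x => (U x).1.2) (fun x _ => Set.mem_iUnion.2 ⟨x, hxU x⟩)
  let ℓ : ∀ (x : X) (n : ℕ), Γ(((F n : Subobject M) : X.Modules), (U x).1) →ₗ[Γ(X, (U x).1)] Γ(M, (U x).1) := fun x n =>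
    { toFun := (F n).arrow.app (U x).1
      map_add' := map_add ((F n).arrow.app (U x).1).hom
      map_smul' := fun r a => (F n).arrow.app_smul r a }
  let L : ∀ x : X, ℕ →o Submodule Γ(X, (U x).1) Γ(M, (U x).1) := fun x =>
    { toFun := fun n => LinearMap.range (ℓ x n)
      monotone' := fun n m h => by
        rintro _ ⟨a, rfl⟩
        refine ⟨(Subobject.ofLE _ _ (F.monotone h)).app (U x).1 a, ?_⟩
        exact congrArg (fun φ : ((F n : Subobject M) : X.Modules) ⟶ M => φ.app (U x).1 a)
          (Subobject.ofLE_arrow (F.monotone h)) }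
  have hN : ∀ x, ∃ n, ∀ m, n ≤ m → L x n = L x m := fun x => by
    have := Groth.Agent.QCoh.noetherian_sections (U x)
    have := Groth.Agent.QCoh.finite_sections hM (U x).2
    exact monotone_stabilizes_iff_noetherian.2 (inferInstance : IsNoetherian Γ(X, (U x).1) Γ(M, (U x).1)) (L x)
  choose N hN using hN
  refine ⟨t.sup N, fun m hm => le_antisymm ?_ (F.monotone hm)⟩
  let j := Subobject.ofLE _ _ (F.monotone hm)
  have hj : ∀ x ∈ t, Function.Surjective (j.app (U x).1) := fun x hx b => by
    have h1 : (F m).arrow.app (U x).1 b ∈ L x m := ⟨b, rfl⟩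
    rw [← hN x m ((Finset.le_sup hx).trans hm), hN x _ (Finset.le_sup hx)] at h1
    obtain ⟨a, ha⟩ := h1
    refine ⟨a, Groth.Agent.QCoh.app_injective (F m).arrow _ (Eq.trans ?_ ha)⟩
    exact congrArg (fun φ : ((F (t.sup N) : Subobject M) : X.Modules) ⟶ M => φ.app (U x).1 a)
      (Subobject.ofLE_arrow (F.monotone hm))
  have hC : CategoryTheory.Limits.IsZero (cokernel j) := by
    refine Groth.Agent.QCoh.isZero_of_cover (Groth.Agent.QCoh.isQCoh_cokernel (hF _) (hF _) j)
      (fun x : t => (U x.1).1) (fun x => (U x.1).2) (fun x => ?_) (fun x => ?_)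
    · obtain ⟨y, hy, hxy⟩ := Set.mem_iUnion₂.1 (ht (Set.mem_univ x))
      exact ⟨⟨y, hy⟩, hxy⟩
    · refine subsingleton_of_forall_eq 0 fun c => ?_
      obtain ⟨b, rfl⟩ := Groth.Agent.QCoh.app_surjective_of_epi (hF _)
        (Groth.Agent.QCoh.isQCoh_cokernel (hF _) (hF _) j) (cokernel.π j) (U x.1).2 c
      obtain ⟨a, rfl⟩ := hj x.1 x.2 b
      exact congrArg (fun φ : ((F (t.sup N) : Subobject M) : X.Modules) ⟶ cokernel j => φ.app (U x.1).1 a)
        (cokernel.condition j)
  haveI : Epi j := Preadditive.epi_of_isZero_cokernel j hC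
  haveI : IsIso j := isIso_of_mono_of_epi j
  exact Subobject.le_of_comm (inv j) ((IsIso.inv_comp_eq j).2 (Subobject.ofLE_arrow _).symm)

end Groth.Agent.S0045
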