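import Groth.Statements.S9370
import Groth.Agent.Synt29.OmegaMaps
import Groth.Agent.Synt29.StalkFormal
import Mathlib

set_option autoImplicit false
universe u
open OmegaSh

namespace Groth.Agent.S9370

open AlgebraicGeometry CategoryTheory in
/-- For a commutative square h : X' → X over S' → S, with d : O_X → Ω the universal derivation of X/S
and d' : O_{X'} → Ω' the universal derivation of X'/S', there is a unique O_{X'}-linear c : h^*Ω →
Ω' with c(h^* d s) = d'(h♯ s) for all local functions s on X. -/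
theorem result {X S X' S' : Scheme.{u}} (f : X ⟶ S) (f' : X' ⟶ S') (h : X' ⟶ X) (b : S' ⟶ S)
    (hsq : f' ≫ b = h ≫ f) (Ω : X.Modules) (d : OmegaSh.Der f Ω) (hd : OmegaSh.IsUniversal d)
    (Ω' : X'.Modules) (d' : OmegaSh.Der f' Ω') (hd' : OmegaSh.IsUniversal d') :
    ∃! c : (Scheme.Modules.pullback h).obj Ω ⟶ Ω', OmegaSh.IsDiffCompat h d d' c := by
  
  have hbase : ∀ (W : S.Opens) (a : Γ(S, W)),
      d'.app (h ⁻¹ᵁ (f ⁻¹ᵁ W)) (h.app (f ⁻¹ᵁ W) (f.app W a)) = 0 := by
    intro W a
    refine (congrArg (d'.app _) (congr($(Scheme.Hom.congr_app hsq.symm W) a))).trans ?_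
    refine (Groth.Agent.Synt29.OmegaStalk.app_res Ω' d'
      (eqToHom (congrArg (fun t : X' ⟶ S => t ⁻¹ᵁ W) hsq.symm)) _).trans ?_
    refine Eq.trans (congrArg _ ?_) (map_zero _)
    exact Groth.Agent.Synt29.OmegaStalk.app_base Ω' d' (b ⁻¹ᵁ W) (b.app W a)
  let D : OmegaSh.Der f ((Scheme.Modules.pushforward h).obj Ω') :=
    { d := fun {U} =>
        { toFun := fun s => d'.app (h ⁻¹ᵁ U.unop) (h.app U.unop s)
          map_zero' := by
            show d'.app (h ⁻¹ᵁ U.unop) (h.app U.unop 0) = 0
            rw [map_zero, map_zero]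
          map_add' := fun s t => by
            show d'.app (h ⁻¹ᵁ U.unop) (h.app U.unop (s + t)) = _
            rw [map_add, map_add]
            rfl }
      d_mul := fun {U} s t => by
        show d'.app (h ⁻¹ᵁ U.unop) (h.app U.unop (s * t)) =
          h.app U.unop s • d'.app (h ⁻¹ᵁ U.unop) (h.app U.unop t) +
            h.app U.unop t • d'.app (h ⁻¹ᵁ U.unop) (h.app U.unop s)
        rw [map_mul, Groth.Agent.Synt29.OmegaStalk.app_mul]
      d_map := fun {U V} i s => by
        show d'.app (h ⁻¹ᵁ V.unop) (h.app V.unop (X.presheaf.map i s)) =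
          Ω'.presheaf.map ((TopologicalSpace.Opens.map h.base).map i.unop).op
            (d'.app (h ⁻¹ᵁ U.unop) (h.app U.unop s))
        rw [← Groth.Agent.Synt29.OmegaStalk.app_res]
        exact congrArg _ (congr($(h.naturality i) s))
      d_app := fun {W} a => hbase W.unop a }
  let adj := Scheme.Modules.pullbackPushforwardAdjunction h
  have key : ∀ c : (Scheme.Modules.pullback h).obj Ω ⟶ Ω', OmegaSh.IsDiffCompat h d d' c ↔
      d.postcomp ((adj.homEquiv Ω Ω') c).val = D := by
    intro c
    have hcomp : ∀ (U : X.Opens) (s : Γ(X, U)),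
        ((adj.homEquiv Ω Ω') c).app U (d.app U s) =
          c.app (h ⁻¹ᵁ U) (OmegaSh.pullSect h Ω U (d.app U s)) := by
      intro U s
      rw [Adjunction.homEquiv_unit]
      rfl
    constructor
    · intro hcc
      refine PresheafOfModules.Derivation.ext ?_
      funext U
      exact AddMonoidHom.ext fun s => (hcomp U.unop s).trans (hcc U.unop s)
    · intro hcc U s
      exact (hcomp U s).symm.trans (PresheafOfModules.Derivation.congr_d hcc s)
  obtain ⟨α, hα, huniq⟩ := hd _ D
  refine ⟨(adj.homEquiv Ω Ω').symm α, ?_, fun c hc => ?_⟩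
  · show OmegaSh.IsDiffCompat h d d' _
    rw [key, Equiv.apply_symm_apply]
    exact hα
  · rw [Equiv.eq_symm_apply]
    exact huniq _ ((key c).mp hc)

end Groth.Agent.S9370
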