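import Groth.Statements.S9325
import Mathlib

set_option autoImplicit false
universe u
open CAlg

namespace Groth.Agent.S9325

/-- The statement for a single ring, with a lifted generating sequence. -/
theorem inf_sq_le {T U : Type u} [CommRing T] [CommRing U] (φ : T →+* U) (hφ : Function.Surjective φ)
    {I J : Ideal T} (hI : RingHom.ker φ = I) (hIJ : I ≤ J) {c : ℕ} (f : Fin c → U)
    (hH : CAlgX.IsH1Regular f) (hJ : Ideal.span (Set.range f) = J.map φ) : I ⊓ J ^ 2 ≤ I * J := by
  have hJc : J = (J.map φ).comap φ := by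
    rw [Ideal.comap_map_of_surjective φ hφ, ← RingHom.ker_eq_comap_bot, hI, sup_eq_left.2 hIJ]
  choose F hF using fun i => hφ (f i)
  have hFJ : ∀ i, F i ∈ J := fun i => by
    rw [hJc, Ideal.mem_comap, hF, ← hJ]; exact Ideal.subset_span ⟨i, rfl⟩
  have hJ' : J = I ⊔ Ideal.span (Set.range F) := by
    refine le_antisymm (fun x hx => ?_) (sup_le hIJ (Ideal.span_le.2 (Set.range_subset_iff.2 hFJ)))
    obtain ⟨a, ha⟩ := Ideal.mem_span_range_iff_exists_fun.1 (hJ.ge (Ideal.mem_map_of_mem φ hx))
    choose b hb using fun i => hφ (a i)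
    refine Submodule.mem_sup.2 ⟨x - ∑ i, b i * F i, ?_, ∑ i, b i * F i, ?_, sub_add_cancel _ _⟩
    · rw [← hI, RingHom.mem_ker, map_sub, map_sum]; simp [hb, hF, ha]
    · exact Ideal.sum_mem _ fun i _ => Ideal.mul_mem_left _ _ (Ideal.subset_span ⟨i, rfl⟩)
  rintro x ⟨hxI, hxJ⟩
  have hsq : J ^ 2 ≤ I * J ⊔ J * Ideal.span (Set.range F) := by
    rw [pow_two]
    conv_lhs => arg 2; rw [hJ']
    rw [Ideal.mul_sup, mul_comm J I]
  obtain ⟨u, hu, w, hw, rfl⟩ := Submodule.mem_sup.1 (hsq hxJ)
  obtain ⟨a, haJ, rfl⟩ : ∃ a : Fin c → T, (∀ i, a i ∈ J) ∧ ∑ i, a i * F i = w := by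
    refine Submodule.mul_induction_on hw (fun m hm n hn => ?_) fun y z hy hz => ?_
    · obtain ⟨b, hb⟩ := Ideal.mem_span_range_iff_exists_fun.1 hn
      refine ⟨fun i => m * b i, fun i => J.mul_mem_right _ hm, ?_⟩
      rw [← hb, Finset.mul_sum]
      exact Finset.sum_congr rfl fun i _ => mul_assoc _ _ _
    · obtain ⟨a, ha, rfl⟩ := hy
      obtain ⟨b, hb, rfl⟩ := hz
      exact ⟨a + b, fun i => add_mem (ha i) (hb i), by simp [add_mul, Finset.sum_add_distrib]⟩
  refine add_mem hu ?_
  have hw0 : φ (∑ i, a i * F i) = 0 := by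
    rw [← RingHom.mem_ker, hI]
    have := sub_mem hxI (Ideal.mul_le_left hu)
    simpa using this
  simp only [map_sum, map_mul, hF] at hw0
  have hspan := hH (fun i => φ (a i)) hw0
  suffices key : ∀ v ∈ Submodule.span U {v : Fin c → U | ∃ i j : Fin c, v = Pi.single i (f j) - Pi.single j (f i)},
      ∀ b : Fin c → T, (∀ i, φ (b i) = v i) → ∑ i, b i * F i ∈ I * J from key _ hspan a fun _ => rfl
  have hzero : ∀ b : Fin c → T, (∀ i, b i ∈ I) → ∑ i, b i * F i ∈ I * J := fun b hb =>
    Ideal.sum_mem _ fun i _ => Ideal.mul_mem_mul (hb i) (hFJ i)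
  intro v hv
  induction hv using Submodule.span_induction with
  | mem v hv =>
    obtain ⟨i, j, rfl⟩ := hv
    intro b hb
    have h1 : ∀ k, φ ((Pi.single i (F j) - Pi.single j (F i) : Fin c → T) k) =
        (Pi.single i (f j) - Pi.single j (f i) : Fin c → U) k := fun k => by
      simp only [Pi.sub_apply, map_sub, Pi.single_apply, apply_ite φ, map_zero, hF]
    have h2 := hzero (fun k => b k - (Pi.single i (F j) - Pi.single j (F i) : Fin c → T) k) fun k => by
      rw [← hI, RingHom.mem_ker, map_sub, hb, h1, sub_self]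
    simpa [sub_mul, Finset.sum_sub_distrib, Pi.single_apply, mul_comm (F j) (F i)] using h2
  | zero =>
    intro b hb
    exact hzero b fun k => by rw [← hI, RingHom.mem_ker, hb]; rfl
  | add v v' _ _ ih ih' =>
    intro b hb
    choose b₁ hb₁ using fun k => hφ (v k)
    have := add_mem (ih b₁ hb₁) (ih' (fun k => b k - b₁ k) fun k => by rw [map_sub, hb, hb₁]; simp)
    simpa [sub_mul, Finset.sum_sub_distrib] using this
  | smul r v _ ih =>
    intro b hb
    obtain ⟨s, rfl⟩ := hφ r
    choose b₁ hb₁ using fun k => hφ (v k)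
    have := add_mem ((I * J).mul_mem_left s (ih b₁ hb₁))
      (hzero (fun k => b k - s * b₁ k) fun k => by rw [← hI, RingHom.mem_ker, map_sub, map_mul, hb, hb₁]; simp)
    simpa [sub_mul, Finset.sum_sub_distrib, Finset.mul_sum, mul_assoc] using this


/-- Let `A` be a ring and `I ⊆ J` ideals of `A` such that the ideal `J/I` of `A/I` is `H_1`-regular: for
every prime `𝔮` of `A/I` containing `J/I` there is `g ∉ 𝔮` such that the extension of `J/I` to
`(A/I)_g` is generated by an `H_1`-regular sequence (a finite sequence all of whose linear relations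
are combinations of the trivial ones). Then `I ∩ J² = I J`. -/
theorem result {A : Type u} [CommRing A] (I J : Ideal A)
    (hIJ : I ≤ J)
    (h : ∀ (𝔮 : Ideal (A ⧸ I)) [𝔮.IsPrime], J.map (Ideal.Quotient.mk I) ≤ 𝔮 →
      ∃ g : A ⧸ I, g ∉ 𝔮 ∧ ∃ (c : ℕ) (f : Fin c → Localization.Away g),
        CAlgX.IsH1Regular f ∧
          Ideal.span (Set.range f) =
            (J.map (Ideal.Quotient.mk I)).map (algebraMap (A ⧸ I) (Localization.Away g))) :
    I ⊓ J ^ 2 = I * J := by
  refine le_antisymm (fun x hx => ?_) (le_inf Ideal.mul_le_left (by rw [pow_two]; exact Ideal.mul_mono_left hIJ))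
  by_contra hxn
  let C : Ideal A := Submodule.comap (LinearMap.toSpanSingleton A A x) (I * J)
  have hC : C ≠ ⊤ := fun hC => hxn (by
    have : (1 : A) ∈ C := hC ▸ Submodule.mem_top
    simpa [C] using this)
  obtain ⟨Q, hQ, hCQ⟩ := Ideal.exists_le_maximal C hC
  by_cases hJQ : J ≤ Q
  · haveI hq : (Q.map (Ideal.Quotient.mk I)).IsPrime :=
      Ideal.map_isPrime_of_surjective Ideal.Quotient.mk_surjective (by rw [Ideal.mk_ker]; exact hIJ.trans hJQ)
    obtain ⟨g, hg, c, f, hH, hspan⟩ := h _ (Ideal.map_mono hJQ)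
    obtain ⟨G, rfl⟩ := Ideal.Quotient.mk_surjective g
    let T := Localization.Away G
    let U := Localization.Away (Ideal.Quotient.mk I G)
    have hM : Submonoid.map (Ideal.Quotient.mk I) (Submonoid.powers G) = Submonoid.powers (Ideal.Quotient.mk I G) := by
      rw [Submonoid.map_powers]
    let φ : T →+* U := IsLocalization.map U (Ideal.Quotient.mk I) (Submonoid.map_le_iff_le_comap.1 hM.le)
    have hφ : Function.Surjective φ := by
      haveI : IsLocalization (Submonoid.map (Ideal.Quotient.mk I) (Submonoid.powers G)) U := by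
        rw [hM]; infer_instance
      exact IsLocalization.map_surjective_of_surjective (Submonoid.powers G) T U Ideal.Quotient.mk_surjective
    have hker : RingHom.ker φ = I.map (algebraMap A T) := by
      rw [IsLocalization.ker_map (M := Submonoid.powers G) U _ hM, Ideal.mk_ker]
    have hJU : Ideal.span (Set.range f) = (J.map (algebraMap A T)).map φ := by
      rw [hspan, Ideal.map_map, Ideal.map_map, IsLocalization.map_comp]
    have hxT : algebraMap A T x ∈ (I * J).map (algebraMap A T) := by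
      rw [Ideal.map_mul]
      refine inf_sq_le φ hφ hker (Ideal.map_mono hIJ) f hH hJU ⟨Ideal.mem_map_of_mem _ hx.1, ?_⟩
      rw [← Ideal.map_pow]
      exact Ideal.mem_map_of_mem _ hx.2
    obtain ⟨⟨⟨y, hy⟩, ⟨s, hs⟩⟩, hys⟩ := (IsLocalization.mem_map_algebraMap_iff (Submonoid.powers G) T).1 hxT
    rw [← map_mul] at hys
    obtain ⟨⟨t, ht⟩, hts⟩ := (IsLocalization.eq_iff_exists (Submonoid.powers G) T).1 hys
    have hmem : t * s ∈ C := by
      show (t * s) • x ∈ I * J
      rw [smul_eq_mul, show t * s * x = t * (x * s) by ring, show t * (x * s) = t * y from hts]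
      exact (I * J).mul_mem_left t hy
    obtain ⟨n, hn⟩ := (Submonoid.powers G).mul_mem ht hs
    exact hg (Ideal.mem_map_of_mem _ (hQ.isPrime.mem_of_pow_mem n (hCQ (by rwa [show G ^ n = t * s from hn]))))
  · obtain ⟨j, hj, hjQ⟩ := SetLike.not_le_iff_exists.1 hJQ
    refine hjQ (hCQ ?_)
    show j • x ∈ I * J
    rw [smul_eq_mul, mul_comm j]
    exact Ideal.mul_mem_mul hx.1 hj


end Groth.Agent.S9325
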