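import Groth.Statements.S5626
import Groth.Agent.QCoh.LocFree
import Groth.Agent.QCoh.Support

set_option autoImplicit false
universe u
open CategoryTheory CategoryTheory.Limits AlgebraicGeometry
open FlatMod

namespace Groth.Agent.S5626
open AlgebraicGeometry CategoryTheory Limits in
theorem flf_of_retract {X : Scheme.{u}} {M F : X.Modules} (i : M ⟶ F) (p : F ⟶ M) (hip : i ≫ p = 𝟙 M)
    (hF : FlatMod.IsFinLocFree F) : FlatMod.IsFinLocFree M := by
  have hFq := Groth.Agent.QCoh.isQCoh_of_isFinLocFree hF
  have hMq : Coh.IsQCoh M := by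
    refine (Groth.Agent.QCoh.isQCoh_iff_iso ?_).1
      (Groth.Agent.QCoh.isQCoh_cokernel hFq hFq (p ≫ i - 𝟙 F))
    refine { hom := cokernel.desc _ p (by simp [Preadditive.sub_comp, hip]), inv := i ≫ cokernel.π _,
             hom_inv_id := ?_, inv_hom_id := by simp [hip] }
    apply coequalizer.hom_ext
    have h := cokernel.condition (p ≫ i - 𝟙 F)
    rw [Preadditive.sub_comp, Category.id_comp, sub_eq_zero, Category.assoc] at h
    simpa using h
  have hproj : ∀ U : X.affineOpens, Module.Flat Γ(X, U.1) Γ(M, U.1) ∧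
      Module.FinitePresentation Γ(X, U.1) Γ(M, U.1) := by
    intro U
    let iU : Γ(M, U.1) →ₗ[Γ(X, U.1)] Γ(F, U.1) :=
      { toFun := i.app U.1, map_add' := map_add (i.app U.1).hom, map_smul' := fun r x => i.app_smul r x }
    let pU : Γ(F, U.1) →ₗ[Γ(X, U.1)] Γ(M, U.1) :=
      { toFun := p.app U.1, map_add' := map_add (p.app U.1).hom, map_smul' := fun r x => p.app_smul r x }
    have hid : pU ∘ₗ iU = LinearMap.id := by
      ext x
      show (p.app U.1) ((i.app U.1) x) = x
      have h : (i ≫ p).app U.1 = Scheme.Modules.Hom.app (𝟙 M) U.1 := by rw [hip]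
      simpa using congrArg (fun f => f.hom x) h
    have hflat := ((Groth.Agent.QCoh.isFlat_iff hFq).1 ((Groth.Agent.QCoh.isFlat_and_isFP_iff).2 hF).1) U
    have hfp := (Groth.Agent.QCoh.isFP_iff hFq).1 ((Groth.Agent.QCoh.isFlat_and_isFP_iff).2 hF).2 U
    haveI : Module.Flat Γ(X, U.1) Γ(M, U.1) := Module.Flat.of_retract iU pU hid
    refine ⟨inferInstance, ?_⟩
    have hsurj : Function.Surjective pU := fun x => ⟨iU x, LinearMap.congr_fun hid x⟩
    refine Module.finitePresentation_of_surjective pU hsurj ?_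
    have : LinearMap.ker pU = LinearMap.range (LinearMap.id - iU ∘ₗ pU) := by
      ext x
      constructor
      · intro hx
        exact ⟨x, by simp [LinearMap.mem_ker.1 hx]⟩
      · rintro ⟨y, rfl⟩
        have := LinearMap.congr_fun hid (pU y)
        simp at this
        simp [this]
    rw [this]
    haveI : Module.Finite Γ(X, U.1) Γ(F, U.1) := inferInstance
    rw [LinearMap.range_eq_map]
    exact (Module.Finite.fg_top (R := Γ(X, U.1)) (M := Γ(F, U.1))).map _
  exact (Groth.Agent.QCoh.isFlat_and_isFP_iff).1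
    ⟨(Groth.Agent.QCoh.isFlat_iff hMq).2 fun U => (hproj U).1,
     (Groth.Agent.QCoh.isFP_iff hMq).2 fun U => (hproj U).2⟩

open AlgebraicGeometry CategoryTheory Limits in
theorem flf_free (X : Scheme.{u}) (n : ℕ) : FlatMod.IsFinLocFree (FlatMod.freeMod X n) := fun x =>
  ⟨⊤, n, trivial, ⟨Groth.Agent.QCoh.freeModRestrict _ n⟩⟩


/-- For the Zariski topos of a scheme (a special case of both hypotheses (i) and (ii) there): on a
scheme X, a direct summand of a finite free O_X-module is finite locally free. Here M is a direct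
summand of O_X^n in the sense that M ⊞ N ≅ O_X^n for some module N. -/
theorem result {X : Scheme.{u}} (M N : X.Modules) [HasBinaryBiproduct M N] (n : ℕ)
    (e : M ⊞ N ≅ FlatMod.freeMod X n) :
    FlatMod.IsFinLocFree M := by
  exact flf_of_retract (biprod.inl ≫ e.hom) (e.inv ≫ biprod.fst) (by simp) (flf_free X n)


end Groth.Agent.S5626
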