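import Groth.Statements.S9716
import Groth.Agent.QCoh.LocFree
import Groth.Agent.QCoh.Qcqs
import Groth.Agent.QCoh.OpenSub

set_option autoImplicit false
universe u
open CategoryTheory AlgebraicGeometry
open Mor

namespace Groth.Agent.S9716

open AlgebraicGeometry CategoryTheory in
theorem ringHom_local {X S : Scheme.{u}} (f : X ⟶ S) [IsAffineHom f] {P : MorphismProperty Scheme.{u}}
    {Q : ∀ {R A : Type u} [CommRing R] [CommRing A], (R →+* A) → Prop} [HasRingHomProperty P Q]
    (h : ∀ U : S.affineOpens, Q (f.app U.1).hom) : P f := by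
  rw [IsZariskiLocalAtTarget.iff_of_iSup_eq_top (P := P) _ (iSup_affineOpens_eq_top S)]
  intro U
  haveI : IsAffine (U.1 : Scheme.{u}) := U.2
  haveI : IsAffine (f ⁻¹ᵁ U.1 : Scheme.{u}) := U.2.preimage f
  rw [HasRingHomProperty.iff_of_isAffine (P := P), morphismRestrict_appTop]
  have h1 : U.1.ι ''ᵁ ⊤ = U.1 := Scheme.Opens.ι_image_top _
  refine ((HasRingHomProperty.isLocal_ringHomProperty P).respectsIso.cancel_right_isIso _ _).mpr ?_
  exact h ⟨U.1.ι ''ᵁ ⊤, by rw [h1]; exact U.2⟩

open AlgebraicGeometry CategoryTheory in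
theorem sections_iff {X S : Scheme.{u}} (f : X ⟶ S) (U : S.Opens) :
    letI := (f.app U).hom.toAlgebra
    (Module.FinitePresentation Γ(S, U) Γ((Scheme.Modules.pushforward f).obj (Coh.structureModule X), U) ∧
      Module.Flat Γ(S, U) Γ((Scheme.Modules.pushforward f).obj (Coh.structureModule X), U)) ↔
    (Module.FinitePresentation Γ(S, U) Γ(X, f ⁻¹ᵁ U) ∧ Module.Flat Γ(S, U) Γ(X, f ⁻¹ᵁ U)) := by
  letI := (f.app U).hom.toAlgebra
  let e : Γ(X, f ⁻¹ᵁ U) ≃ₗ[Γ(S, U)] Γ((Scheme.Modules.pushforward f).obj (Coh.structureModule X), U) :=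
    { toFun := fun x => x
      invFun := fun x => x
      left_inv := fun _ => rfl
      right_inv := fun _ => rfl
      map_add' := fun _ _ => rfl
      map_smul' := fun _ _ => rfl }
  exact ⟨fun h => by haveI := h.1; haveI := h.2; exact ⟨.of_equiv e.symm, .of_linearEquiv e⟩,
    fun h => by haveI := h.1; haveI := h.2; exact ⟨.of_equiv e, .of_linearEquiv e.symm⟩⟩


/-- (1) ⇔ (2): a morphism f : X ⟶ S is affine with direct image f_*O_X a finite locally free O_S-module
(locally on S isomorphic to a finite direct sum of copies of the structure sheaf, of possibly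
varying rank) if and only if f is finite, flat and locally of finite presentation. -/
theorem result {X S : Scheme.{u}} (f : X ⟶ S) :
    (IsAffineHom f ∧ FlatMod.IsFinLocFree ((Scheme.Modules.pushforward f).obj (Coh.structureModule X))) ↔
      Mor2.IsFinLocFree f := by
  have crit : ∀ [IsAffineHom f],
      FlatMod.IsFinLocFree ((Scheme.Modules.pushforward f).obj (Coh.structureModule X)) ↔
      ∀ U : S.affineOpens, letI := (f.app U.1).hom.toAlgebra
        Module.FinitePresentation Γ(S, U.1) Γ(X, f ⁻¹ᵁ U.1) ∧ Module.Flat Γ(S, U.1) Γ(X, f ⁻¹ᵁ U.1) := by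
    intro _
    have hM := Groth.Agent.QCoh.isQCoh_pushforward f (Groth.Agent.QCoh.isQCoh_structureModule (X := X))
    rw [← Groth.Agent.QCoh.isFlat_and_isFP_iff, Groth.Agent.QCoh.isFlat_iff hM, Groth.Agent.QCoh.isFP_iff hM,
      ← forall_and]
    exact forall_congr' fun U => and_comm.trans (sections_iff f U.1)
  constructor
  · rintro ⟨hf, hP⟩
    have h := (crit).mp hP
    haveI hfin : IsFinite f := ⟨fun U hU => by
      letI := (f.app U).hom.toAlgebra
      haveI := (h ⟨U, hU⟩).1
      exact (inferInstance : Module.Finite Γ(S, U) Γ(X, f ⁻¹ᵁ U))⟩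
    refine ⟨hfin, ringHom_local f (P := @Flat) fun U => ?_, ringHom_local f (P := @LocallyOfFinitePresentation) fun U => ?_⟩
    · exact (h U).2
    · letI := (f.app U.1).hom.toAlgebra
      haveI := (h U).1
      exact Algebra.FinitePresentation.of_finitePresentation Γ(S, U.1) Γ(X, f ⁻¹ᵁ U.1)
  · rintro ⟨hfin, hflat, hlfp⟩
    refine ⟨inferInstance, (crit).mpr fun U => ?_⟩
    letI := (f.app U.1).hom.toAlgebra
    have h1 := f.finitePresentation_appLE U.2 (U.2.preimage f) le_rfl
    have h2 := f.flat_appLE U.2 (U.2.preimage f) le_rfl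
    rw [← Scheme.Hom.app_eq_appLE] at h1 h2
    haveI : Algebra.FinitePresentation Γ(S, U.1) Γ(X, f ⁻¹ᵁ U.1) := h1
    haveI : Module.Finite Γ(S, U.1) Γ(X, f ⁻¹ᵁ U.1) := IsFinite.finite_app f U.1 U.2
    exact ⟨Module.FinitePresentation.of_finite_of_finitePresentation _ _, h2⟩

end Groth.Agent.S9716
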