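import Groth.Statements.S3590
import Groth.Agent.ProjUPX.Sections

set_option autoImplicit false
universe u
open CategoryTheory CategoryTheory.Limits AlgebraicGeometry
open EGA2

namespace Groth.Agent.S3590

/-- For E = O_Y^{n+1} over an affine base Y = Spec R (image of the correspondence): a submodule F of
R^{n+1} is the module of relations among the pulled-back coordinates of some section of projective
n-space over R if and only if the quotient R^{n+1}/F is an invertible R-module (projective, of rank
one at every prime). -/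
theorem result {R : Type u} [CommRing R] (n : ℕ)
    (F : Submodule R (Fin (n + 1) → R)) :
    (∃ s : Spec (CommRingCat.of R) ⟶ CohB1.ProjSpace n R,
        s ≫ CohB1.ProjSpace.toSpec n R = 𝟙 _ ∧ ProjUP.secKernel n R s = F) ↔
      (Module.Projective R ((Fin (n + 1) → R) ⧸ F) ∧
        ∀ p : PrimeSpectrum R, Module.finrank (Localization.AtPrime p.asIdeal)
          (LocalizedModule p.asIdeal.primeCompl ((Fin (n + 1) → R) ⧸ F)) = 1) := by
  classical
  constructor
  · rintro ⟨s, -, rfl⟩
    let L := (Scheme.Modules.pullback s).obj (Twist.twistProjSpace n R 1)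
    letI := ProjUPX.specModule L
    have hL : PicF.IsInvertible L := ProjUPX.isInvertible_secPull s
    let e : ((Fin (n + 1) → R) ⧸ ProjUP.secKernel n R s) ≃ₗ[R] Γ(L, ⊤) :=
      LinearMap.quotKerEquivOfSurjective _ (ProjUPX.linearCombination_secPull_surjective s)
    have hfr : ∀ p : PrimeSpectrum R, Module.rankAtStalk (R := R) Γ(L, ⊤) p = 1 := fun p =>
      (ProjUPX.rankAtStalk_specModule (ProjUPX.isQCoh_of_isInvertible hL) p).trans
        (ProjUPX.finrank_stalk_of_isInvertible hL p)
    haveI : IsIso (Scheme.Modules.fromTildeΓ (R := CommRingCat.of R) L) :=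
      (isQuasicoherent_iff_isIso_fromTildeΓ L).1 (ProjUPX.isQCoh_of_isInvertible hL)
    have hlf : FlatMod.IsFinLocFree (tilde ((moduleSpecΓFunctor (R := CommRingCat.of R)).obj L)) := fun x => by
      obtain ⟨U, m, hx, ⟨f⟩⟩ := H23.PullPush.isFinLocFree_of_isInvertible hL x
      exact ⟨U, m, hx, ⟨(Scheme.Modules.restrictFunctor U.ι).mapIso
        (@asIso _ _ _ _ (Scheme.Modules.fromTildeΓ (R := CommRingCat.of R) L) this) ≪≫ f⟩⟩
    obtain ⟨-, hproj⟩ := (QCoh.isFinLocFree_tilde_iff _).1 hlf
    haveI hproj' : Module.Projective R Γ(L, ⊤) := hproj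
    refine ⟨Module.Projective.of_equiv e.symm, fun p => ?_⟩
    show Module.rankAtStalk (R := R) _ p = 1
    rw [Module.rankAtStalk_eq_of_equiv e]
    exact hfr p
  · rintro ⟨hproj, hrk⟩
    let M := ModuleCat.of (CommRingCat.of R) ((Fin (n + 1) → R) ⧸ F)
    let L : (Spec (CommRingCat.of R)).Modules := tilde M
    letI := ProjUPX.specModule L
    let e0 : ((Fin (n + 1) → R) ⧸ F) ≃ₗ[R] Γ(L, ⊤) :=
      let c := ((tilde.toTildeΓNatIso (R := CommRingCat.of R)).app M).toLinearEquiv
      { toFun := fun m => (show Γ(L, ⊤) from c m)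
        invFun := fun z => c.symm z
        left_inv := c.symm_apply_apply
        right_inv := c.apply_symm_apply
        map_add' := map_add c
        map_smul' := fun a m => map_smul c a m }
    have hlf : FlatMod.IsFinLocFree L := (QCoh.isFinLocFree_tilde_iff M).2
      ⟨Module.Finite.quotient R F, hproj⟩
    have hq : Coh.IsQCoh L := QCoh.isQCoh_of_isFinLocFree hlf
    have hL : PicF.IsInvertible L := ProjUPX.isInvertible_of_isFinLocFree hlf fun p => by
      rw [← ProjUPX.rankAtStalk_specModule hq p, ← Module.rankAtStalk_eq_of_equiv e0]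
      exact hrk p
    let g : (Fin (n + 1) → R) →ₗ[R] Γ(L, ⊤) := e0.toLinearMap ∘ₗ F.mkQ
    let t : ULift.{u} (Fin (n + 1)) → Γ(L, ⊤) := fun i => g (Pi.single i.down 1)
    have hg : g = Fintype.linearCombination R (fun i => g (Pi.single i 1)) := by
      refine LinearMap.pi_ext' fun i => ?_
      ext
      simp [Fintype.linearCombination_apply_single]
    have hgen : ProjUP.GeneratedBy L t := by
      refine ProjUPX.generatedBy_of_span hq t (ProjUPX.span_top_of_specModule L _ ?_)
      rw [show Set.range t = Set.range (fun i => g (Pi.single i 1)) from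
        ULift.down_surjective.range_comp (fun i => g (Pi.single i 1)),
        ← Fintype.range_linearCombination, ← hg, LinearMap.range_eq_top]
      exact e0.surjective.comp F.mkQ_surjective
    obtain ⟨r, hr, τ, hτ⟩ := ProjUPX.exists_map (CohB1.polyGrading n R) (𝟙 _) hL (ULift.{u} (Fin (n + 1)))
      (fun i => (MvPolynomial.X i.down : MvPolynomial (Fin (n + 1)) R)) (fun i => ProjPt.X_mem i.down)
      (by rw [show Set.range (fun i : ULift.{u} (Fin (n + 1)) => (MvPolynomial.X i.down : MvPolynomial (Fin (n + 1)) R)) =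
            Set.range (fun i : Fin (n + 1) => (MvPolynomial.X i : MvPolynomial (Fin (n + 1)) R)) from
              ULift.down_surjective.range_comp (fun i : Fin (n + 1) => (MvPolynomial.X i : MvPolynomial (Fin (n + 1)) R))]
          exact ProjUPX.adjoin_X)
      (fun y => let ⟨i, hi⟩ := ProjUPX.cov_X y; ⟨⟨i⟩, hi⟩) t hgen
      (fun V v k _ _ => ⟨MvPolynomial.eval₂Hom ((AModX.resR (le_top : V ≤ ⊤)).comp
          (ProjUP.toGlobal (𝟙 (Spec (CommRingCat.of R))))) (fun i => v ⟨i⟩),
        fun l => MvPolynomial.eval₂Hom_X' _ _ _, fun x => MvPolynomial.eval₂Hom_C _ _ _⟩)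
    refine ⟨r, hr, ?_⟩
    let L' := (Scheme.Modules.pullback r).obj (Twist.twistProjSpace n R 1)
    letI := ProjUPX.specModule L'
    let T : Γ(L', ⊤) →ₗ[R] Γ(L, ⊤) :=
      { toFun := τ.hom.app ⊤
        map_add' := map_add (τ.hom.app ⊤).hom
        map_smul' := fun a m => Scheme.Modules.Hom.app_smul (φ := τ.hom) _ m }
    have hT : Function.Injective T :=
      (ConcreteCategory.bijective_of_isIso (τ.hom.app ⊤)).1
    have hcomp : T ∘ₗ Fintype.linearCombination R (fun i => (ProjUP.pullSec r (Twist.twistProjSpace n R 1)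
        (ProjUP.coord n R i) : Γ(L', ⊤))) = g := by
      rw [hg]
      refine LinearMap.pi_ext' fun i => ?_
      ext
      simp only [LinearMap.comp_apply, LinearMap.coe_single, Fintype.linearCombination_apply_single, one_smul]
      exact hτ ⟨i⟩
    refine ((ProjUPX.secKernel_eq r).trans
      (LinearMap.ker_comp_of_ker_eq_bot _ (LinearMap.ker_eq_bot.2 hT)).symm).trans ?_
    refine (congrArg LinearMap.ker hcomp).trans ?_
    rw [LinearMap.ker_comp_of_ker_eq_bot _ (LinearMap.ker_eq_bot.2 e0.injective), Submodule.ker_mkQ]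

end Groth.Agent.S3590
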