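import Groth.Statements.S14199
import Groth.Agent.ASB24.SBCor
-- import your own Groth.Agent.* helpers here

set_option autoImplicit false
set_option backward.isDefEq.respectTransparency false
set_option backward.isDefEq.respectTransparency.types false
set_option linter.style.haveILetI false
universe u
open CategoryTheory CategoryTheory.Limits AlgebraicGeometry
open ASBun

open Groth.Agent CategoryTheory

namespace Groth.Agent.S14199

/-- Let A be a central simple algebra of degree n ≥ 1 over a field k (of dimension n² over k), X a
proper k-scheme which is the Severi–Brauer scheme of A (for every commutative k-algebra R its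
R-points over k are, naturally in R, the left ideals of R ⊗_k A with projective quotient of rank n²
− n), K an algebraic closure of k and e a K-isomorphism X_K ≅ P^{n−1}_K, along which O_e(j) denotes
the pullback of the twisting sheaf O(j); let p be the period of A (the least p ≥ 1 for which the
p-fold tensor power of A is a full matrix algebra over k), a an integer, and W an indecomposable
finite locally free O_X-module (nonzero, and in any decomposition as a direct sum one summand is
zero) with W_K ≅ O_e(ap)^{⊕r}, r ≥ 1. Then W is an invertible O_X-module and r = 1: the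
indecomposable module of type O(ap) is the descent of O(ap) to X. -/
theorem result (k : Type u) [Field k] (A : Type u) [Ring A] [Algebra k A]
    [Algebra.IsCentral k A] [IsSimpleRing A] (n : ℕ) (hn : 0 < n)
    (hA : Module.finrank k A = n * n) {X : Scheme.{u}} (f : X ⟶ Spec (CommRingCat.of k))
    [IsProper f] (hX : BrSev.IsSBOf k A (n * n - n) f)
    (K : Type u) [Field K] [Algebra k K] [IsAlgClosure k K] (e : BrSev.Splitting f K (n - 1))
    (p : ℕ) (hp : CSAGal.IsPeriod k A p) (a : ℤ)
    (W : X.Modules) (hW : FlatMod.IsFinLocFree W)
    (hWi : (¬ IsZero W ∧ ∀ M₁ M₂ : X.Modules, Nonempty (W ≅ M₁ ⊞ M₂) → IsZero M₁ ∨ IsZero M₂))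
    (r : ℕ) (hr : 0 < r) (hWt : BrSev.IsTwPow e (a * (p : ℤ)) r W) :
    PicF.IsInvertible W ∧ r = 1 := by
  haveI : Module.Finite k A := Module.finite_of_finrank_pos (by rw [hA]; positivity)
  have hix := ASB24.isIndex_of_sb hn hA f hX e hW hWi hr hWt
  obtain ⟨_, _, _⟩ := CSALib.centralSimple_pow k A (a * (p : ℤ)).natAbs
  obtain rfl := ASB24.index_eq_one_of_similar hix ((CSALib.isPeriod_iff hp _).2 (by rw [Int.natAbs_mul, Int.natAbs_natCast]; exact dvd_mul_left p _))
  exact ⟨ASB24.isInvertible_of_twPow e hW hWt, rfl⟩

end Groth.Agent.S14199
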