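import Groth.Statements.S6284
import Mathlib

set_option autoImplicit false
universe u
open scoped TensorProduct
open CAlg

namespace Groth.Agent.S6284

/-- Let R → R' be a ring map and M a finite R-module. Then the support of R' ⊗_R M is the inverse image
of the support of M under Spec(R') → Spec(R). -/
theorem result {R R' : Type u} [CommRing R] [CommRing R'] [Algebra R R'] (M : Type u) [AddCommGroup M] [Module R M] [Module.Finite R M] : Module.support R' (R' ⊗[R] M) = PrimeSpectrum.comap (algebraMap R R') ⁻¹' Module.support R M := by
  classical
  ext P
  let p := PrimeSpectrum.comap (algebraMap R R') P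
  show _ ↔ p ∈ Module.support R M
  rw [Module.mem_support_iff_nontrivial_residueField_tensorProduct,
    Module.mem_support_iff_nontrivial_residueField_tensorProduct]
  let K := p.asIdeal.ResidueField
  let L := P.asIdeal.ResidueField
  let φ : K →+* L := Ideal.ResidueField.map p.asIdeal P.asIdeal (algebraMap R R') rfl
  letI : Algebra K L := φ.toAlgebra
  haveI : IsScalarTower R K L := IsScalarTower.of_algebraMap_eq fun r => by
    rw [RingHom.algebraMap_toAlgebra, IsScalarTower.algebraMap_apply R R' L]
    exact (Ideal.ResidueField.map_algebraMap p.asIdeal P.asIdeal (algebraMap R R') rfl r).symm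
  rw [(TensorProduct.AlgebraTensorModule.cancelBaseChange R R' L L M).nontrivial_congr,
    ← (TensorProduct.AlgebraTensorModule.cancelBaseChange R K L L M).nontrivial_congr]
  exact Module.FaithfullyFlat.nontrivial_tensorProduct_iff_right K L

end Groth.Agent.S6284
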