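import Groth.Statements.S6285
import Mathlib
import Groth.Agent.S6284

set_option autoImplicit false
universe u
open CAlg

namespace Groth.Agent.S6285

/-- For a ring R and an R-module M of finite presentation, the support Supp(M) is closed in Spec(R), and
its complement in Spec(R) is quasi-compact. -/
theorem result (R : Type u) [CommRing R] (M : Type u) [AddCommGroup M] [Module R M] [Module.FinitePresentation R M] : IsClosed (Module.support R M) ∧ IsCompact (Module.support R M)ᶜ := by
  classical
  refine ⟨Module.isClosed_support, ?_⟩
  obtain ⟨n, g, hg⟩ := Module.Finite.exists_fin (R := R) (M := M)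
  let π : (Fin n → R) →ₗ[R] M := Fintype.linearCombination R g
  have hπ : Function.Surjective π := by
    rw [← LinearMap.range_eq_top, Fintype.range_linearCombination, hg]
  obtain ⟨m, v, hv⟩ := Submodule.fg_iff_exists_fin_generating_family.mp
    (Module.FinitePresentation.fg_ker π hπ)
  let P := MvPolynomial (Fin n × Fin m) R
  let rel : Fin n × Fin n → P := fun p => (∑ j, MvPolynomial.X (p.1, j) * MvPolynomial.C (v j p.2)) -
    MvPolynomial.C (if p.1 = p.2 then 1 else 0)
  let C := P ⧸ Ideal.span (Set.range rel)
  suffices (Module.support R M)ᶜ = Set.range (PrimeSpectrum.comap (algebraMap R C)) by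
    rw [this]
    exact isCompact_range (PrimeSpectrum.continuous_comap _)
  have hker : ∀ j, ∑ l, v j l • g l = 0 := fun j => by
    have h : v j ∈ LinearMap.ker π := hv ▸ Submodule.subset_span (Set.mem_range_self j)
    simpa [π, Fintype.linearCombination_apply] using h
  have hzero : ∀ i, (1 : C) ⊗ₜ[R] g i = 0 := by
    intro i
    have hrel : ∀ l, ∑ j, Ideal.Quotient.mk (Ideal.span (Set.range rel)) (MvPolynomial.X (i, j)) *
        algebraMap R C (v j l) = algebraMap R C (if i = l then 1 else 0) := by
      intro l
      have h : Ideal.Quotient.mk (Ideal.span (Set.range rel)) (rel (i, l)) = 0 :=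
        Ideal.Quotient.eq_zero_iff_mem.mpr (Ideal.subset_span ⟨_, rfl⟩)
      simp only [rel, map_sub, map_sum, map_mul, sub_eq_zero] at h
      exact h
    set X' : Fin m → C := fun j => Ideal.Quotient.mk _ (MvPolynomial.X (i, j)) with hX
    calc (1 : C) ⊗ₜ[R] g i = ∑ l, algebraMap R C (if i = l then 1 else 0) ⊗ₜ[R] g l := by
          rw [Finset.sum_eq_single i]
          · simp
          · intro l _ hl; simp [Ne.symm hl]
          · simp
      _ = ∑ l, ∑ j, (X' j * algebraMap R C (v j l)) ⊗ₜ[R] g l := by
          simp only [← hrel, TensorProduct.sum_tmul, hX]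
      _ = ∑ j, X' j ⊗ₜ[R] ∑ l, v j l • g l := by
          rw [Finset.sum_comm]
          refine Finset.sum_congr rfl fun j _ => ?_
          rw [TensorProduct.tmul_sum]
          refine Finset.sum_congr rfl fun l _ => ?_
          rw [← TensorProduct.smul_tmul]
          congr 1
          rw [mul_comm]
          exact (Algebra.smul_def _ _).symm
      _ = 0 := by simp [hker]
  haveI : Subsingleton (TensorProduct R C M) := by
    refine subsingleton_of_forall_eq 0 fun z => ?_
    induction z using TensorProduct.induction_on with
    | zero => rfl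
    | add a b ha hb => rw [ha, hb, add_zero]
    | tmul c x =>
      obtain ⟨w, rfl⟩ := hπ x
      rw [show π w = ∑ l, w l • g l from Fintype.linearCombination_apply _ _ _,
        TensorProduct.tmul_sum]
      refine Finset.sum_eq_zero fun l _ => ?_
      rw [← TensorProduct.smul_tmul]
      have := congrArg (fun z : TensorProduct R C M => (w l • c) • z) (hzero l)
      simpa [TensorProduct.smul_tmul', smul_eq_mul] using this
  ext p
  constructor
  · intro hp
    rw [Set.mem_compl_iff, Module.notMem_support_iff'] at hp
    have hex : ∀ i, ∃ r ∉ p.asIdeal, r • g i = 0 := fun i => hp (g i)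
    choose r hr hr0 using hex
    let f := ∏ i, r i
    have hf : f ∉ p.asIdeal := by
      rw [p.isPrime.prod_mem_iff]
      rintro ⟨i, -, hi⟩
      exact hr i hi
    have hfg : ∀ i, f • g i = 0 := by
      intro i
      obtain ⟨c, hc⟩ := Finset.dvd_prod_of_mem r (Finset.mem_univ i)
      rw [show f = r i * c from hc, mul_comm, mul_smul, hr0, smul_zero]
    have hc : ∀ i, ∃ c : Fin m → R, ∑ j, c j • v j = f • (Pi.single i (1 : R) : Fin n → R) := by
      intro i
      have hmem : f • (Pi.single i (1 : R) : Fin n → R) ∈ Submodule.span R (Set.range v) := by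
        rw [hv, LinearMap.mem_ker, map_smul]
        simpa [π, Fintype.linearCombination_apply_single] using hfg i
      exact (Submodule.mem_span_range_iff_exists_fun R).mp hmem
    choose c hc using hc
    let K := p.asIdeal.ResidueField
    have hfK : algebraMap R K f ≠ 0 := by
      rwa [ne_eq, Ideal.algebraMap_residueField_eq_zero]
    let φ : P →ₐ[R] K := MvPolynomial.aeval fun x => (algebraMap R K f)⁻¹ * algebraMap R K (c x.1 x.2)
    have hφ : ∀ q ∈ Ideal.span (Set.range rel), φ q = 0 := by
      intro q hq
      induction hq using Submodule.span_induction with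
      | mem y hy =>
        obtain ⟨⟨i, l⟩, rfl⟩ := hy
        have h := congrArg (algebraMap R K) (congrFun (hc i) l)
        simp only [Finset.sum_apply, Pi.smul_apply, smul_eq_mul, map_sum, map_mul] at h
        simp only [rel, φ, map_sub, map_sum, map_mul]
        have e : ∀ x : Fin n × Fin m, (MvPolynomial.aeval fun x : Fin n × Fin m =>
            (algebraMap R K f)⁻¹ * algebraMap R K (c x.1 x.2)) (MvPolynomial.X x : P) =
            (algebraMap R K f)⁻¹ * algebraMap R K (c x.1 x.2) := fun x => MvPolynomial.aeval_X _ x
        have e' : ∀ a : R, (MvPolynomial.aeval fun x : Fin n × Fin m =>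
            (algebraMap R K f)⁻¹ * algebraMap R K (c x.1 x.2)) (MvPolynomial.C a : P) = algebraMap R K a :=
          fun a => MvPolynomial.aeval_C _ a
        simp only [e, e', mul_assoc]
        rw [← Finset.mul_sum, h, inv_mul_cancel_left₀ hfK, sub_eq_zero]
        simp [Pi.single_apply, eq_comm]
      | zero => simp
      | add a b _ _ ha hb => rw [map_add, ha, hb, add_zero]
      | smul a b _ hb => rw [smul_eq_mul, map_mul, hb, mul_zero]
    let ψ : C →ₐ[R] K := Ideal.Quotient.liftₐ _ φ hφ
    refine ⟨⟨RingHom.ker ψ.toRingHom, RingHom.ker_isPrime _⟩, ?_⟩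
    apply PrimeSpectrum.ext
    ext x
    simp only [PrimeSpectrum.comap_asIdeal, Ideal.mem_comap, RingHom.mem_ker,
      AlgHom.toRingHom_eq_coe, RingHom.coe_coe, AlgHom.commutes]
    exact Ideal.algebraMap_residueField_eq_zero
  · rintro ⟨q, rfl⟩ hp
    have h : q ∈ Module.support C (TensorProduct R C M) := by
      rw [Groth.Agent.S6284.result]
      exact hp
    rw [Module.support_eq_empty] at h
    exact h

end Groth.Agent.S6285
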