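import Groth.Statements.S11410
import Groth.Agent.GrpSchLib.FixedAffinePts
import Groth.Agent.GrpSchLib.DiagActionRigid

set_option autoImplicit false
set_option backward.isDefEq.respectTransparency false
set_option backward.isDefEq.respectTransparency.types false
set_option linter.style.haveILetI false
universe u
open CategoryTheory MonoidalCategory CartesianMonoidalCategory MonObj GrpObj AlgebraicGeometry CategoryTheory.Limits
open AlgGrp

namespace Groth.Agent.S11410

/-- Over an algebraically closed field k, let G be an algebraic group (a smooth k-group scheme of finite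
type) acting on a variety X (an integral, separated k-scheme of finite type), faithfully in the
sense that every rational point of G acting as the identity of X is the identity element. Then for
every rational point x of X, the isotropy subgroup scheme of x (a closed subgroup scheme of G whose
points are exactly the points of G fixing x) is affine. -/
theorem result (k : Type u) [Field k] [IsAlgClosed k]
    (G X : Over (Spec (CommRingCat.of k))) [GrpObj G] [Smooth G.hom] [QuasiCompact G.hom]
    [LocallyOfFiniteType X.hom] [QuasiCompact X.hom] [IsSeparated X.hom] [IsIntegral X.left]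
    (a : AlgGrp.Action G X)
    (hfaith : ∀ g : 𝟙_ (Over (Spec (CommRingCat.of k))) ⟶ G, lift (toUnit X ≫ g) (𝟙 X) ≫ a.act = 𝟙 X → g = η[G])
    (x : 𝟙_ (Over (Spec (CommRingCat.of k))) ⟶ X) (St : Over (Spec (CommRingCat.of k))) [GrpObj St] (s : St ⟶ G) [IsMonHom s] [IsClosedImmersion s.left]
    (hs : ∀ (T : Over (Spec (CommRingCat.of k))) (g : T ⟶ G), (∃ t : T ⟶ St, t ≫ s = g) ↔ lift g (toUnit T ≫ x) ≫ a.act = toUnit T ≫ x) :
    IsAffine St.left := by
  haveI : Mono s.left := inferInstance
  haveI : Mono s := (Over.forget _).mono_of_mono_map (f := s) ‹Mono s.left›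
  haveI : LocallyOfFiniteType St.hom := by rw [← Over.w s]; infer_instance
  haveI : QuasiCompact St.hom := by rw [← Over.w s]; infer_instance
  haveI : IsLocallyNoetherian X.left := LocallyOfFiniteType.isLocallyNoetherian X.hom
  let b : AlgGrp.Action St X :=
    { act := (s ▷ X) ≫ a.act
      one_act := by rw [← Category.assoc, ← MonoidalCategory.comp_whiskerRight, IsMonHom.one_hom s, a.one_act]
      mul_act := by
        have hpt : ∀ {T : Over (Spec (CommRingCat.of k))} (g : T ⟶ St) (y : T ⟶ X),
            lift g y ≫ (s ▷ X) ≫ a.act = lift (g ≫ s) y ≫ a.act := fun g y => by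
          rw [← Category.assoc, lift_whiskerRight]
        have e1 : μ[St] ▷ X = lift (fst (St ⊗ St) X ≫ μ[St]) (snd (St ⊗ St) X) :=
          CartesianMonoidalCategory.hom_ext _ _ (by simp) (by simp)
        have e2 : (α_ St St X).hom ≫ (St ◁ ((s ▷ X) ≫ a.act)) =
            lift (fst (St ⊗ St) X ≫ fst St St)
              (lift (fst (St ⊗ St) X ≫ snd St St) (snd (St ⊗ St) X) ≫ (s ▷ X) ≫ a.act) := by
          apply CartesianMonoidalCategory.hom_ext
          · simp
          · rw [Category.assoc, whiskerLeft_snd, lift_snd, ← Category.assoc (α_ St St X).hom]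
            rw [show (α_ St St X).hom ≫ snd St (St ⊗ X) = lift (fst (St ⊗ St) X ≫ snd St St) (snd (St ⊗ St) X) from
              CartesianMonoidalCategory.hom_ext _ _ (by simp) (by simp)]
        rw [e1, hpt, ← Category.assoc (α_ St St X).hom, e2, hpt, hpt, ← GrpSchLib.DiagActionRigid.act_mul a]
        congr 2
        rw [Category.assoc, IsMonHom.mul_hom s, Category.assoc, Category.assoc, ← MonObj.comp_mul, Hom.mul_def, lift_fst_comp_snd_comp] }
  refine GrpSchLib.FixedAffinePts.isAffine_of_faithful_points b x (fun T g => ?_) (fun g hg => ?_)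
  · show lift g (toUnit T ≫ x) ≫ (s ▷ X) ≫ a.act = _
    rw [← Category.assoc, lift_whiskerRight]
    exact (hs T (g ≫ s)).mp ⟨g, rfl⟩
  · have h : g ≫ s = η[G] := hfaith _ (by
      rw [← Category.assoc (toUnit X) g s, ← lift_whiskerRight, Category.assoc]
      exact hg)
    rw [← cancel_mono s, h, MonObj.one_comp, MonObj.one_eq_one]

end Groth.Agent.S11410
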