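import Groth.Statements.S1843
import Groth.Agent.AVDegLib.MulN
import Groth.Agent.AVDegLib.PCount
import Groth.Agent.AVDegLib.Tangent
-- import your own Groth.Agent.* helpers here

set_option autoImplicit false
set_option linter.style.haveILetI false
set_option backward.isDefEq.respectTransparency false
set_option backward.isDefEq.respectTransparency.types false
set_option maxHeartbeats 1000000
universe u v
open CategoryTheory MonoidalCategory CartesianMonoidalCategory MonObj GrpObj AlgebraicGeometry
open GrpSch

namespace Groth.Agent.S1843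

/-- Let A be an abelian variety of dimension g over a field of characteristic p > 0. The set of points
of A mapped to the identity point by multiplication by p has at most p^g elements. -/
theorem result (K : Type u) [Field K] (p : ℕ) [Fact p.Prime] [CharP K p] (A : Over (Spec (CommRingCat.of K))) [GrpObj A] [IsProper A.hom] [GeometricallyIntegral A.hom] (g : ℕ) (hg : topologicalKrullDim A.left = g) : Set.encard {a : A.left | (𝟙 A ^ p).left a = η[A].left (IsLocalRing.closedPoint K)} ≤ (p ^ g : ℕ) := by
  classical
  open Groth.Agent.AVDegLib in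
  open TopologicalSpace in
  let φ : A ⟶ A := 𝟙 A ^ p
  haveI : IsIntegral A.left := GeometricallyIntegral.isIntegral_of_subsingleton A.hom
  have hp1 : 1 ≤ p := (Fact.out : p.Prime).one_le
  haveI : IsFinite φ.left := AVMulN.isFinite_pow (A := A) p hp1
  haveI : Surjective φ.left := AVMulN.surjective_pow (A := A) p hp1
  haveI : Flat φ.left := AVDegLib.flat_pow (A := A) p hp1
  haveI : LocallyOfFinitePresentation φ.left := AVDegLib.lfp_endo φ
  haveI : IsCommMonObj A := isCommMonObj_of_isProper_of_geometricallyIntegral A
  let L := A.left.functionField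
  haveI : CharP L p := charP_of_injective_algebraMap (algebraMap K L).injective p
  letI := AVDegLib.ffExt φ
  haveI := AVDegLib.finiteDimensional_ff φ
  let e : A.left := η[A].left (IsLocalRing.closedPoint K)
  have he : IsClosed ({e} : Set A.left) := by
    haveI : IsClosedImmersion η[A].left := by
      have h : η[A].left ≫ A.hom = 𝟙 _ := Over.w η[A]
      haveI : IsClosedImmersion (η[A].left ≫ A.hom) := by rw [h]; infer_instance
      exact IsClosedImmersion.of_comp η[A].left A.hom
    have h := η[A].left.isClosedEmbedding.isClosed_range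
    convert h using 1
    ext y
    exact ⟨fun hy => ⟨_, hy.symm⟩, fun ⟨z, hz⟩ => by
      rw [← hz]; exact congrArg _ (Subsingleton.elim (α := PrimeSpectrum K) z _)⟩
  obtain ⟨U, hU, heU, -⟩ := exists_isAffineOpen_mem_and_subset (x := e) (U := ⊤) trivial
  let V := φ.left ⁻¹ᵁ U
  have hV : IsAffineOpen V := hU.preimage φ.left
  have hηU : genericPoint A.left ∈ U := AVDegLib.eta_mem A heU
  have hηV : genericPoint A.left ∈ V := AVDegLib.eta_preimage φ hηU
  haveI : Nonempty U := ⟨⟨_, hηU⟩⟩
  haveI : Nonempty V := ⟨⟨_, hηV⟩⟩
  haveI := functionField_isFractionRing_of_isAffineOpen A.left U hU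
  haveI := functionField_isFractionRing_of_isAffineOpen A.left V hV
  letI : Algebra Γ(A.left, U) Γ(A.left, V) := (φ.left.app U).hom.toAlgebra
  -- the two copies of the function field are kept apart
  let L' := A.left.functionField
  letI : Algebra Γ(A.left, U) L' :=
    ((algebraMap Γ(A.left, V) L').comp (algebraMap Γ(A.left, U) Γ(A.left, V)))|>.toAlgebra
  set P := (hU.primeIdealOf ⟨e, heU⟩).asIdeal with hP
  haveI : P.IsMaximal := hU.primeIdealOf_isMaximal_of_isClosed ⟨e, heU⟩ he
  let S := {a : A.left | φ.left a = e}
  have hS : S.Finite := IsFinite.finite_preimage_singleton φ.left e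
  have hSV : ∀ a ∈ S, a ∈ V := fun a ha => show φ.left a ∈ U by rw [show φ.left a = e from ha]; exact heU
  let q : S → Ideal Γ(A.left, V) := fun a => (hV.primeIdealOf ⟨a, hSV a a.2⟩).asIdeal
  have hq : Function.Injective q := fun a b h => Subtype.ext (by
    have := congrArg hV.fromSpec (PrimeSpectrum.ext h)
    rwa [hV.fromSpec_primeIdealOf, hV.fromSpec_primeIdealOf] at this)
  have hqP : ∀ a : S, (q a).comap (algebraMap Γ(A.left, U) Γ(A.left, V)) = P := fun a => by
    have h := IsAffineOpen.comap_primeIdealOf_appLE (f := φ.left) (x := (a : A.left)) U hU V hV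
      le_rfl (hSV a a.2)
    rw [Scheme.Hom.appLE_eq_app] at h
    refine (congrArg PrimeSpectrum.asIdeal h).trans ?_
    simp only [hP, show φ.left (a : A.left) = e from a.2]
  haveI : Fintype S := hS.fintype
  haveI : Module.Flat Γ(A.left, U) Γ(A.left, V) := by
    have := φ.left.flat_appLE hU hV le_rfl
    rwa [Scheme.Hom.appLE_eq_app] at this
  haveI : Module.Finite Γ(A.left, U) Γ(A.left, V) := φ.left.finite_app _ hU
  haveI : IsScalarTower Γ(A.left, U) Γ(A.left, V) L' := IsScalarTower.of_algebraMap_eq fun _ => rfl
  have key := @AVDegLib.card_mul_pow_le K L' _ _ _ Γ(A.left, U) Γ(A.left, V) L _ _ _ _ _ _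
    (A.left.germToFunctionField U).hom.toAlgebra inferInstance _ (AVDegLib.ffExt φ) _ inferInstance
    (@IsScalarTower.of_algebraMap_eq Γ(A.left, U) L L' _ _ _ (A.left.germToFunctionField U).hom.toAlgebra
      (AVDegLib.ffExt φ) _ fun c => (AVDegLib.ffMap_gm φ hηU c).symm)
    inferInstance inferInstance (AVDegLib.finiteDimensional_ff φ) (IsFractionRing.injective _ _) P inferInstance
    (fun x => AVDegLib.D_ffMap_pow (A := A) p x) p inferInstance inferInstance g
    (AVDegLib.finrank_omega hg).ge S _ q hq fun a => ⟨(hV.primeIdealOf ⟨a, hSV a a.2⟩).isPrime, hqP a⟩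
  rw [← AVDegLib.finrank_eq φ e, show φ.left.finrank e = p ^ (2 * g) by
    simpa using AVDegLib.finrank_zpow (A := A) hg (p : ℤ) (Int.natCast_ne_zero.2 (Nat.one_le_iff_ne_zero.1 hp1)) e, two_mul, pow_add] at key
  have hle : Fintype.card S ≤ p ^ g := Nat.le_of_mul_le_mul_right key (pow_pos (Fact.out : p.Prime).pos g)
  show S.encard ≤ _
  rw [Set.encard_eq_coe_toFinset_card, Set.toFinset_card]
  exact_mod_cast hle

end Groth.Agent.S1843
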