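import Groth.Statements.S15656
import Groth.Agent.Lib.AVMulN

set_option autoImplicit false
set_option backward.isDefEq.respectTransparency false
set_option backward.isDefEq.respectTransparency.types false
set_option linter.style.haveILetI false
set_option linter.unusedSectionVars false
set_option maxHeartbeats 400000
universe u
open CategoryTheory MonoidalCategory CartesianMonoidalCategory MonObj GrpObj AlgebraicGeometry
open AbVar

namespace Groth.Agent.S15656


open CategoryTheory.Limits

theorem pow_comp' {C : Type*} [Category C] [CartesianMonoidalCategory C] {A B : C} [GrpObj A] [GrpObj B]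
    (f : A ⟶ B) [IsMonHom f] : ∀ n : ℕ, (𝟙 A ^ n : A ⟶ A) ≫ f = f ^ n
  | 0 => by rw [pow_zero, pow_zero, MonObj.one_comp]
  | n + 1 => by rw [pow_succ, pow_succ, MonObj.mul_comp, pow_comp' f n, Category.id_comp]

/-- Remark preceding it: let A and B be abelian varieties over a field k (proper, geometrically integral
commutative group schemes over k). Then the additive group Hom_k(A, B) of homomorphisms A → B
defined over k (sum = pointwise product in the group law of B) is torsion-free: if n·f = 0 for an
integer n ≠ 0 then f = 0. -/
theorem result (k : Type u) [Field k]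
    (A B : Over (Spec (CommRingCat.of k)))
    [GrpObj A] [IsCommMonObj A] [IsProper A.hom] [GeometricallyIntegral A.hom]
    [GrpObj B] [IsCommMonObj B] [IsProper B.hom] [GeometricallyIntegral B.hom] :
    NoZeroSMulDivisors ℤ (EndAV.Hom A B) := by
  refine ⟨fun {n f} h => or_iff_not_imp_left.2 fun hn => ?_⟩
  have hm : (n.natAbs : ℤ) • f = 0 := by
    rcases Int.natAbs_eq n with e | e <;> rw [e] at h
    · exact h
    · rwa [neg_smul, neg_eq_zero] at h
  rw [natCast_zsmul] at hm
  have h1 : f.toHom ^ n.natAbs = 1 := by rw [← EndAV.Hom.toHom_nsmul, hm]; rfl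
  haveI := GeometricallyIntegral.isIntegral_of_subsingleton A.hom
  haveI := AVMulN.surjective_pow (A := A) n.natAbs (Int.natAbs_pos.2 hn)
  haveI : IsDominant (𝟙 A ^ n.natAbs : A ⟶ A).left := inferInstance
  refine EndAV.Hom.ext (Over.OverMorphism.ext (ext_of_isDominant_of_isSeparated B.hom
    ((Over.w _).trans (Over.w _).symm) (𝟙 A ^ n.natAbs : A ⟶ A).left ?_))
  rw [← Over.comp_left, ← Over.comp_left, pow_comp', h1, EndAV.Hom.toHom_zero, MonObj.comp_one]

end Groth.Agent.S15656
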