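import Groth.Statements.S4643
import Groth.Agent.FibDim.BaseField

set_option autoImplicit false
open CategoryTheory AlgebraicGeometry
universe u
open FBase

namespace Groth.Agent.S4643

open CategoryTheory.Limits in
/-- Let X and Y be schemes locally of finite type over a field k. Then the dimension of X ×_k Y is the
sum of the dimensions of X and Y (Krull dimensions of the underlying spaces, valued in WithBot ℕ∞,
the empty scheme having dimension ⊥). -/
theorem result {k : Type u} [Field k] {X Y : Scheme.{u}}
    (f : X ⟶ Spec (CommRingCat.of k)) (g : Y ⟶ Spec (CommRingCat.of k)) [LocallyOfFiniteType f] [LocallyOfFiniteType g] :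
    topologicalKrullDim ↥(pullback f g) = topologicalKrullDim ↥X + topologicalKrullDim ↥Y := by
  haveI := FibDim.subsingleton_spec_field k
  exact FibDim.topologicalKrullDim_pullback

end Groth.Agent.S4643
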