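import Groth.Statements.S0051
import Groth.Agent.AmpleVan.Criterion
import Groth.Agent.AmpleVan.Uniform
import Groth.Agent.QCoh.DevissageP

set_option autoImplicit false
universe u
open Coherent

namespace Groth.Agent.S0051

open AlgebraicGeometry CategoryTheory in
/-- Let R be Noetherian, X → Spec R proper and L invertible on X. Then L is ample if and only if for
every coherent F there is n₀ with H^p(X, F ⊗ L^{⊗n}) = 0 for all n ≥ n₀ and p > 0. -/
theorem result (R : Type u) [CommRing R] [IsNoetherianRing R]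
    (X : Scheme.{u}) (f : X ⟶ Spec (CommRingCat.of R)) [IsProper f] (L : X.Modules)
    (hL : PicF.IsInvertible L) :
    CohB1.IsAmple L ↔ ∀ (M : X.Modules), Coh.IsCoh M → ∃ n₀ : ℕ, ∀ n : ℕ, n₀ ≤ n → ∀ p : ℕ, 0 < p →
      Subsingleton (Coh.HH X (CohB1.tensorMod M (CohB1.tensorPow L n)) p) := by
  letI : X.Over (Spec (CommRingCat.of R)) := ⟨f⟩
  haveI : IsProper (X ↘ Spec (CommRingCat.of R)) := (inferInstance : IsProper f)
  haveI : IsLocallyNoetherian X := LocallyOfFiniteType.isLocallyNoetherian f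
  haveI : CompactSpace X := Groth.Agent.AmpleVan.compactSpace_of_proper (A := R)
  refine ⟨fun h M hM => ?_, fun h => ?_⟩
  · obtain ⟨d₀, hd⟩ := Groth.Agent.AmpleVan.exists_vanishing (A := R) h hM
    refine ⟨d₀, fun n hn p hp => ?_⟩
    obtain ⟨q, rfl⟩ := Nat.exists_eq_add_of_le' hp
    exact hd n hn q
  · refine Groth.Agent.AmpleVan.isAmple_of_HH_one hL fun Z _ => ?_
    obtain ⟨n₀, hn⟩ := h _ (Groth.Agent.QCoh.isCoh_of_mono (Groth.Agent.QCoh.vanIdeal Z).ι
      Groth.Agent.QCoh.isCoh_structureModule' (Groth.Agent.QCoh.isQCoh_vanIdeal Z))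
    exact ⟨n₀, hn (n₀ + 1) (Nat.le_succ _) 1 one_pos⟩

end Groth.Agent.S0051
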