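import Groth.Statements.S1844
import Groth.Agent.H23.CubeAb


set_option autoImplicit false
universe u v
open CategoryTheory MonoidalCategory CartesianMonoidalCategory MonObj GrpObj AlgebraicGeometry
open GrpSch

namespace Groth.Agent.S1844

/-- Let A be an abelian variety over a field, L an invertible O_A-module and n ≥ 1. Then [n]^*L is
isomorphic to L^{⊗ n(n+1)/2} ⊗ ([-1]^*L)^{⊗ n(n-1)/2}, where [n] is multiplication by n and [-1] the
inversion of A. -/
theorem result (K : Type u) [Field K] (A : Over (Spec (CommRingCat.of K))) [GrpObj A] [IsProper A.hom] [GeometricallyIntegral A.hom] (L : A.left.Modules) (hL : PicF.IsInvertible L) (n : ℕ) (hn : 1 ≤ n) : Nonempty ((Scheme.Modules.pullback (𝟙 A ^ n).left).obj L ≅ CohB1.tensorMod (CohB1.tensorPow L (n * (n + 1) / 2)) (CohB1.tensorPow ((Scheme.Modules.pullback ((𝟙 A)⁻¹).left).obj L) (n * (n - 1) / 2))) := by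
  classical
  open Groth.Agent.H23.PicMul in
  open Groth.Agent.H23 in
  have key : PicF.cl ((Scheme.Modules.pullback (𝟙 A ^ n).left).obj L) =
      PicF.cl (CohB1.tensorPow L (n * (n + 1) / 2)) *
        PicF.cl (CohB1.tensorPow ((Scheme.Modules.pullback ((𝟙 A)⁻¹).left).obj L) (n * (n - 1) / 2)) := by
    rw [PicMul.cl_tensorPow, PicMul.cl_tensorPow]
    let c := PicF.cl L
    have hc : PicF.IsInvertibleCl c := ⟨L, rfl, hL⟩
    let d := CubeAb.F c (𝟙 A)⁻¹
    show CubeAb.F c (𝟙 A ^ n) = c ^ (n * (n + 1) / 2) * d ^ (n * (n - 1) / 2)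
    have h1 : CubeAb.F c (𝟙 A) = c := PicClLib.pullCl_id c
    have e1 : ∀ m : ℕ, m * (m + 1) / 2 = (m + 1).choose 2 := fun m => by
      rw [Nat.choose_two_right, Nat.add_sub_cancel, mul_comm]
    have e2 : n * (n - 1) / 2 = n.choose 2 := (Nat.choose_two_right n).symm
    rw [e1, e2]
    clear hn e2
    suffices H : ∀ m : ℕ, CubeAb.F c (𝟙 A ^ m) = c ^ (m + 1).choose 2 * d ^ m.choose 2 ∧
        CubeAb.F c (𝟙 A ^ (m + 1)) = c ^ (m + 2).choose 2 * d ^ (m + 1).choose 2 from (H n).1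
    intro m
    induction m with
    | zero => simp [CubeAb.F_one hc, h1]
    | succ m ih =>
      refine ⟨ih.2, ?_⟩
      have h := CubeAb.cube hc (𝟙 A ^ (m + 1)) (𝟙 A) (𝟙 A)⁻¹
      rw [mul_inv_cancel_right, ← pow_succ, mul_inv_cancel, CubeAb.F_one hc, _root_.mul_one, h1,
        show (𝟙 A ^ (m + 1)) * (𝟙 A)⁻¹ = 𝟙 A ^ m by rw [pow_succ, mul_inv_cancel_right]] at h
      refine (CubeAb.isUnit_F hc (𝟙 A ^ m)).mul_right_cancel ?_
      rw [← h, ih.1, ih.2, show CubeAb.F c (𝟙 A)⁻¹ = d from rfl]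
      have r1 : ∀ j : ℕ, (j + 1).choose 2 = j.choose 2 + j := fun j => by
        rw [Nat.choose_succ_succ, Nat.choose_one_right, add_comm]
      rw [r1 (m + 2), r1 (m + 1), r1 m]
      simp only [pow_add, pow_one, pow_two]
      ac_rfl
  exact H23.PicMul.cl_eq_iff.1 (key.trans (H23.PicMul.cl_tensor _ _).symm)

end Groth.Agent.S1844
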