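import Groth.Statements.S1937
import Groth.Agent.GrpOmega.Section
import Groth.Agent.GrpOmega.Shear
import Groth.Agent.GrpOmega.Free
import Groth.Agent.Synt29.OmegaAffine

set_option autoImplicit false
universe u v
open CategoryTheory MonoidalCategory CartesianMonoidalCategory MonObj GrpObj AlgebraicGeometry
open GrpSch

namespace Groth.Agent.S1937

/-- Let G be a group scheme over S with structure morphism f and unit section e : S → G. Then Ω_{G/S} ≅
f^* C_{S/G}, the pullback of the conormal sheaf of the immersion e; and when S is the spectrum of a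
field, Ω_{G/S} is a free O_G-module (a coproduct of copies of O_G). Stated for G → S
quasi-separated, where the shared prelude's Ω (conormal sheaf of the diagonal through Mathlib's
kernel ideal sheaf) and conormal sheaf of e are the usual ones. -/
theorem result (S : Scheme.{u}) (G : Over S) [GrpObj G] [QuasiSeparated G.hom] : Nonempty (Omega.sheaf G.hom ≅ (Scheme.Modules.pullback G.hom).obj (Omega.conormal η[G].left)) ∧ ∀ (K : Type u) [Field K], Nonempty (S ≅ Spec (CommRingCat.of K)) → ∃ I : Type u, Nonempty (Omega.sheaf G.hom ≅ ∐ fun _ : I => Coh.structureModule G.left) := by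
  have he : η[G].left ≫ G.hom = 𝟙 S := Over.w η[G]
  let e : S ⟶ G.left := η[G].left
  haveI : IsImmersion (e ≫ G.hom) := by rw [he]; infer_instance
  haveI : IsImmersion e := IsImmersion.of_comp e G.hom
  haveI : QuasiCompact (e ≫ G.hom) := by rw [he]; infer_instance
  haveI : QuasiCompact e := QuasiCompact.of_comp e G.hom
  obtain ⟨a⟩ := GrpOmega.nonempty_conormalIso G.hom e (𝟙 S)
    (by rw [he, Category.comp_id]) (by rw [he, Category.comp_id])
  obtain ⟨b⟩ := GrpOmega.nonempty_omega_iso G
  refine ⟨⟨b.symm ≪≫ (Scheme.Modules.pullback G.hom).mapIso a.symm⟩, ?_⟩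
  rintro K _ ⟨ε⟩
  obtain ⟨I, ⟨c⟩⟩ := GrpOmega.exists_free_pullback G.hom (QCoh.isQCoh_pullback e
    (Synt29.OmegaStalk.isQCoh_of_isUniversal (OmegaUniv.isUniversal_dOmega G.hom))) K ε
  exact ⟨I, ⟨b.symm ≪≫ c⟩⟩

end Groth.Agent.S1937
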