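import Groth.Statements.S5342
import Groth.Agent.GeomField.Connected
import Groth.Agent.VarGeom.OpenMap
-- import your own Groth.Agent.* helpers here

set_option autoImplicit false
universe u
open CategoryTheory CategoryTheory.Limits MonoidalCategory CartesianMonoidalCategory MonObj GrpObj AlgebraicGeometry
open SGA3

namespace Groth.Agent.S5342

open CategoryTheory CategoryTheory.Limits AlgebraicGeometry

theorem eq_toSpecΓ_comp {R : CommRingCat.{u}} {X : Scheme.{u}} (f : X ⟶ Spec R) :
    f = X.toSpecΓ ≫ Spec.map ((Scheme.ΓSpecIso R).inv ≫ f.appTop) := by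
  rw [Spec.map_comp, ← Category.assoc, ← Scheme.toSpecΓ_naturality, Category.assoc,
    toSpecΓ_SpecMap_ΓSpecIso_inv, Category.comp_id]

/-- Let X and Y be connected schemes over a field k such that X has a k-rational point (a section of X →
Spec k). Then X ×_k Y is connected. -/
theorem result (k : Type u) [Field k] (X Y : Scheme.{u})
    (f : X ⟶ Spec (CommRingCat.of k)) (g : Y ⟶ Spec (CommRingCat.of k)) [ConnectedSpace X] [ConnectedSpace Y]
    (x : Spec (CommRingCat.of k) ⟶ X) (hx : x ≫ f = 𝟙 _) : ConnectedSpace ↥(pullback f g) := by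
  let : X.Over (Spec (CommRingCat.of k)) := ⟨f⟩
  let x₀ : X := x.base (IsLocalRing.closedPoint k)
  have hres : Function.Surjective (Curv2.resMap k X x₀) := by
    let φ : X.residueField x₀ ⟶ CommRingCat.of k := (Scheme.SpecToEquivOfField k X x).2
    have hφ : Spec.map φ ≫ X.fromSpecResidueField x₀ = x :=
      (Scheme.SpecToEquivOfField k X).symm_apply_apply x
    have hf : X.fromSpecResidueField x₀ ≫ f = Spec.map (CommRingCat.ofHom (Curv2.resMap k X x₀)) := by
      have h1 : f = X.toSpecΓ ≫ Spec.map (CommRingCat.ofHom (Coh.toGlobal f)) :=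
        eq_toSpecΓ_comp f
      rw [Scheme.fromSpecResidueField, Category.assoc]
      conv_lhs => rw [h1]
      rw [Scheme.fromSpecStalk_toSpecΓ_assoc, ← Spec.map_comp, ← Spec.map_comp]
      rfl
    have hid : CommRingCat.ofHom (Curv2.resMap k X x₀) ≫ φ = 𝟙 (CommRingCat.of k) := by
      apply Spec.map_injective
      rw [Spec.map_comp, Spec.map_id, ← hf, ← Category.assoc, hφ, hx]
    intro a
    refine ⟨φ.hom a, φ.hom.injective ?_⟩
    exact congrArg (fun m => m.hom (φ.hom a)) hid
  have : GeometricallyConnected f :=
    Groth.Agent.GeomField.geometricallyConnected_of_point (X := X) x₀ fun a _ => hres a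
  have : UniversallyOpen f := Groth.Agent.VarGeom.universallyOpen_of_field f
  infer_instance


end Groth.Agent.S5342
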