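import Groth.Statements.S9799
import Groth.Agent.SchTop.Closed
set_option autoImplicit false
universe u
open CategoryTheory AlgebraicGeometry TopologicalSpace
open Props

namespace Groth.Agent.S9799

/-- Let X be a normal scheme (all local rings are integrally closed domains) such that every
quasi-compact open subset has finitely many irreducible components. Then the irreducible components
of X are open and pairwise disjoint; hence X is the disjoint union of its irreducible components,
each an open subscheme which is normal and integral. -/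
theorem result (X : Scheme.{u})
    (hfin : ∀ U : X.Opens, IsCompact (U : Set X) → (irreducibleComponents ↥U).Finite)
    (hN : Pi1.IsNormalScheme X) :
    (∀ Z ∈ irreducibleComponents X, IsOpen Z) ∧
      ∀ Z ∈ irreducibleComponents X, ∀ Z' ∈ irreducibleComponents X, Z ≠ Z' → Disjoint Z Z' := by
  have hdis : ∀ Z ∈ irreducibleComponents X, ∀ Z' ∈ irreducibleComponents X, ∀ x ∈ Z, x ∈ Z' → Z = Z' :=
    fun Z hZ Z' hZ' x hx hx' =>
      have := (hN x).1
      Groth.Agent.SchTop.irreducibleComponents_eq x hZ hZ' hx hx'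
  refine ⟨fun Z hZ => isOpen_iff_forall_mem_open.2 fun x hx => ?_, fun Z hZ Z' hZ' hne =>
    Set.disjoint_left.2 fun x hx hx' => hne (hdis Z hZ Z' hZ' x hx hx')⟩
  obtain ⟨_, ⟨U, hU, rfl⟩, hxU, -⟩ :=
    X.isBasis_affineOpens.exists_subset_of_mem_open (Set.mem_univ x) isOpen_univ
  have hdom : ∀ y : ↑U, IsDomain ((U : Scheme.{u}).presheaf.stalk y) := fun y =>
    have := (hN y.1).1
    MulEquiv.isDomain _ (Scheme.Opens.stalkIso U y).commRingCatIsoToRingEquiv.toMulEquiv
  obtain ⟨W, hW, hxW⟩ := Set.mem_sUnion.1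
    ((sUnion_irreducibleComponents (X := (U : Scheme.{u}))).ge (Set.mem_univ ⟨x, hxU⟩))
  have hWo := Groth.Agent.SchTop.isOpen_component_of_finite (X := (U : Scheme.{u}))
    (hfin U hU.isCompact) hdom hW
  refine ⟨Subtype.val '' W, ?_, (IsOpen.isOpenEmbedding_subtypeVal U.isOpen).isOpenMap _ hWo,
    ⟨⟨x, hxU⟩, hxW, rfl⟩⟩
  obtain ⟨Z', hZ', hsub⟩ := exists_preirreducible (Subtype.val '' W)
    (hW.1.image Subtype.val continuous_subtype_val.continuousOn).isPreirreducible |>
      fun ⟨t, ht, hst, hmax⟩ => (⟨t, ⟨⟨⟨x, hst ⟨⟨x, hxU⟩, hxW, rfl⟩⟩, ht⟩, fun u hu htu =>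
        (hmax u hu.2 htu).le⟩, hst⟩ : ∃ t ∈ irreducibleComponents X, Subtype.val '' W ⊆ t)
  rw [hdis Z hZ Z' hZ' x hx (hsub ⟨⟨x, hxU⟩, hxW, rfl⟩)]
  exact hsub

end Groth.Agent.S9799
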