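import Groth.Statements.S3683
import Groth.Agent.Pi1Ext.GDesc.Dom
-- import your own Groth.Agent.* helpers here

set_option autoImplicit false
set_option backward.isDefEq.respectTransparency false
set_option backward.isDefEq.respectTransparency.types false
set_option linter.style.haveILetI false
universe u
open Pi1

namespace Groth.Agent.S3683

open AlgebraicGeometry CategoryTheory CategoryTheory.Limits in
/-- The part saying that the homomorphism from the fundamental group of X x_k Y to the product of the
fundamental groups is injective, in terms of covers (so that, with the surjectivity part, it is an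
isomorphism). Let k be algebraically closed, X proper and connected over k, Y locally Noetherian and
connected over k. Then every connected finite etale cover W of the product of X and Y admits, for
some finite etale cover X' of X and some finite etale cover Y' of Y, a surjective morphism over the
product from the product of X' and Y'. -/
theorem result (k : Type u) [Field k] [IsAlgClosed k] {X Y : Scheme.{u}}
    (pX : X ⟶ Spec (CommRingCat.of k)) (pY : Y ⟶ Spec (CommRingCat.of k)) [IsProper pX] [ConnectedSpace X]
    [IsLocallyNoetherian Y] [ConnectedSpace Y]
    (W : FEt.Cat (pullback pX pY)) [ConnectedSpace W.left] :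
    ∃ (X' : FEt.Cat X) (Y' : FEt.Cat Y) (φ : pullback (X'.hom ≫ pX) (Y'.hom ≫ pY) ⟶ W.left),
      φ ≫ W.hom = pullback.map (X'.hom ≫ pX) (Y'.hom ≫ pY) pX pY X'.hom Y'.hom (𝟙 _)
        (Category.comp_id _) (Category.comp_id _) ∧ Surjective φ := by
  exact Groth.Agent.Pi1Ext.GDesc.Dom.exists_product_cover pX pY W

end Groth.Agent.S3683
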