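import Groth.Statements.S4629
import Groth.Agent.FBaseLib.Product

set_option autoImplicit false
open CategoryTheory AlgebraicGeometry
universe u
open FBase

namespace Groth.Agent.S4629

open Groth.Agent CategoryTheory.Limits

open CategoryTheory.Limits in
/-- If X and Y are schemes over a field k which are both geometrically reduced over k, then X ×_k Y is
geometrically reduced over k. -/
theorem result {k : Type u} [Field k] {X Y : Scheme.{u}}
    (f : X ⟶ Spec (CommRingCat.of k)) (g : Y ⟶ Spec (CommRingCat.of k)) [GeometricallyReduced f]
    [GeometricallyReduced g] : GeometricallyReduced (pullback.fst f g ≫ f) := by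
  refine ⟨geometrically_iff_of_isClosedUnderIsomorphisms.mpr fun K _ y => ?_⟩
  haveI : AlgebraicGeometry.IsReduced (pullback g y) :=
    pullback_of_geometrically (GeometricallyReduced.geometrically_isReduced (f := g)) K y
  haveI : AlgebraicGeometry.IsReduced (pullback y g) := isReduced_of_isOpenImmersion (pullbackSymmetry y g).hom
  haveI : AlgebraicGeometry.IsReduced (pullback (pullback.snd f y) (pullback.fst y g)) :=
    FBaseLib.isReduced_pullback (k := K) (pullback.snd f y) (pullback.fst y g)
  let e : pullback (pullback.snd f y) (pullback.fst y g) ≅ pullback (pullback.fst f g ≫ f) y :=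
    pullbackRightPullbackFstIso y g (pullback.snd f y) ≪≫
      pullback.congrHom pullback.condition.symm rfl ≪≫
      (pullbackRightPullbackFstIso f g (pullback.fst f y)).symm ≪≫
      pullbackSymmetry _ _ ≪≫ pullbackRightPullbackFstIso f y (pullback.fst f g)
  exact isReduced_of_isOpenImmersion e.inv

end Groth.Agent.S4629
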