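import Groth.Statements.S12131
import Groth.Agent.QCoh.ClosedPush
import Groth.Agent.QCoh.PullbackBC
import Groth.Agent.QCoh.Qcqs
import Groth.Agent.RingPO.Props2

set_option autoImplicit false
universe u
open EGA2

namespace Groth.Agent.S12131

open AlgebraicGeometry CategoryTheory Scheme.Modules in
/-- Let f : X → S be an affine morphism, g : S' → S a morphism, X' = X ×_S S' with projections g' : X' →
X and f' : X' → S', and F a quasi-coherent O_X-module. Let ρ : F → g'_* g'^* F be the unit of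
adjunction and v = f_*(ρ) : f_* F → f_* g'_* g'^* F = g_* f'_* g'^* F; then the map u : g^*(f_* F) →
f'_*(g'^* F) adjoint to v is an isomorphism. -/
theorem result {X S X' S' : Scheme.{u}} (f : X ⟶ S) (g : S' ⟶ S)
    (g' : X' ⟶ X) (f' : X' ⟶ S') (h : IsPullback g' f' f g) [IsAffineHom f]
    (F : X.Modules) [Coh.IsQCoh F] :
    IsIso (((pullbackPushforwardAdjunction g).homEquiv ((pushforward f).obj F)
        ((pushforward f').obj ((pullback g').obj F))).symm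
      ((pushforward f).map ((pullbackPushforwardAdjunction g').unit.app F) ≫
        (pushforwardComp g' f).hom.app ((pullback g').obj F) ≫
        (pushforwardCongr h.w).hom.app ((pullback g').obj F) ≫
        (pushforwardComp f' g).inv.app ((pullback g').obj F))) := by
  haveI : IsAffineHom f' := MorphismProperty.of_isPullback h inferInstance
  have hF' : Coh.IsQCoh ((pullback g').obj F) := Groth.Agent.QCoh.isQCoh_pullback g' ‹_›
  set α := (pushforward f).map ((pullbackPushforwardAdjunction g').unit.app F) ≫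
      (pushforwardComp g' f).hom.app ((pullback g').obj F) ≫
      (pushforwardCongr h.w).hom.app ((pullback g').obj F) ≫
      (pushforwardComp f' g).inv.app ((pullback g').obj F) with hα
  let β : (pullback g).obj ((pushforward f).obj F) ⟶ (pushforward f').obj ((pullback g').obj F) :=
    ((pullbackPushforwardAdjunction g).homEquiv _ _).symm α
  have hβ : ∀ (U : S.Opens) (W : S'.Opens) (hle : W ≤ g ⁻¹ᵁ U) (hle' : f' ⁻¹ᵁ W ≤ g' ⁻¹ᵁ (f ⁻¹ᵁ U))
      (m : Γ((pushforward f).obj F, U)),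
      β.app W (Groth.Agent.QCoh.pullSec g ((pushforward f).obj F) hle m) =
        (show Γ((pushforward f').obj ((pullback g').obj F), W) from
          Groth.Agent.QCoh.pullSec g' F hle' (show Γ(F, f ⁻¹ᵁ U) from m)) := by
    intro U W hle hle' m
    have h1 : (pullbackPushforwardAdjunction g).unit.app _ ≫ (pushforward g).map β = α :=
      ((pullbackPushforwardAdjunction g).homEquiv_unit _ _ β).symm.trans (Equiv.apply_symm_apply _ α)
    have h2 : β.app (g ⁻¹ᵁ U) (((pullbackPushforwardAdjunction g).unit.app ((pushforward f).obj F)).app U m) =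
        α.app U m := congrArg (fun t => t.app U m) h1
    refine (Groth.Agent.QCoh.map_app_comm β (homOfLE hle) _).trans ?_
    refine (congrArg _ h2).trans ?_
    let z : Γ((pullback g').obj F, g' ⁻¹ᵁ (f ⁻¹ᵁ U)) :=
      ((pullbackPushforwardAdjunction g').unit.app F).app (f ⁻¹ᵁ U) (show Γ(F, f ⁻¹ᵁ U) from m)
    have e : g' ⁻¹ᵁ (f ⁻¹ᵁ U) = f' ⁻¹ᵁ (g ⁻¹ᵁ U) := by
      rw [← Scheme.Hom.comp_preimage, ← Scheme.Hom.comp_preimage, h.w]
    show ((pullback g').obj F).presheaf.map (homOfLE (f'.preimage_mono hle)).op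
      (((pullback g').obj F).presheaf.map (eqToHom e.symm).op z) =
      ((pullback g').obj F).presheaf.map (homOfLE hle').op z
    exact Groth.Agent.QCoh.map_map (homOfLE (f'.preimage_mono hle)) (eqToHom e.symm) z
  show IsIso β
  refine Groth.Agent.QCoh.isIso_of_isBasis β
    (B := {W | IsAffineOpen W ∧ ∃ U : S.Opens, IsAffineOpen U ∧ W ≤ g ⁻¹ᵁ U}) ?_ ?_
  · refine TopologicalSpace.Opens.isBasis_iff_nbhd.2 fun {V} x hx => ?_
    obtain ⟨_, ⟨U, hU, rfl⟩, hxU, -⟩ :=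
      S.isBasis_affineOpens.exists_subset_of_mem_open (Set.mem_univ (g x)) isOpen_univ
    obtain ⟨_, ⟨W, hW, rfl⟩, hxW, hWle⟩ := S'.isBasis_affineOpens.exists_subset_of_mem_open
      (show x ∈ V ⊓ g ⁻¹ᵁ U from ⟨hx, hxU⟩) (V ⊓ g ⁻¹ᵁ U).isOpen
    exact ⟨W, ⟨hW, U, hU, fun y hy => (hWle hy).2⟩, hxW, fun y hy => (hWle hy).1⟩
  rintro W ⟨hW, U, hU, hle⟩
  have hle' : f' ⁻¹ᵁ W ≤ g' ⁻¹ᵁ (f ⁻¹ᵁ U) := by
    rw [← Scheme.Hom.comp_preimage, h.w, Scheme.Hom.comp_preimage]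
    exact f'.preimage_mono hle
  let gR := g.appLE U W hle
  let fR := f.app U
  let f'R := f'.app W
  let g'R := g'.appLE (f ⁻¹ᵁ U) (f' ⁻¹ᵁ W) hle'
  have hpo := RingPO.isPushout_appLE_of_isPullback h.flip hU hW hle (hU.preimage f) rfl (hW.preimage f') rfl hle'
  letI : Algebra Γ(S, U) Γ(S', W) := gR.hom.toAlgebra
  letI : Algebra Γ(S, U) Γ(X, f ⁻¹ᵁ U) := fR.hom.toAlgebra
  letI : Algebra Γ(S', W) Γ(X', f' ⁻¹ᵁ W) := f'R.hom.toAlgebra
  letI : Algebra Γ(X, f ⁻¹ᵁ U) Γ(X', f' ⁻¹ᵁ W) := g'R.hom.toAlgebra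
  letI : Algebra Γ(S, U) Γ(X', f' ⁻¹ᵁ W) := (gR ≫ f'R).hom.toAlgebra
  have hcomm : gR ≫ f'R = fR ≫ g'R := by
    have := hpo.w
    simpa only [Scheme.Hom.appLE_eq_app, gR, fR, f'R, g'R] using this
  haveI : IsScalarTower Γ(S, U) Γ(S', W) Γ(X', f' ⁻¹ᵁ W) := .of_algebraMap_eq fun _ => rfl
  haveI : IsScalarTower Γ(S, U) Γ(X, f ⁻¹ᵁ U) Γ(X', f' ⁻¹ᵁ W) := .of_algebraMap_eq fun r =>
    congr($hcomm r)
  haveI : Algebra.IsPushout Γ(S, U) Γ(S', W) Γ(X, f ⁻¹ᵁ U) Γ(X', f' ⁻¹ᵁ W) := by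
    refine (CommRingCat.isPushout_iff_isPushout).1 ?_
    simp only [Scheme.Hom.appLE_eq_app] at hpo
    exact hpo
  letI : Module Γ(X, f ⁻¹ᵁ U) Γ((pushforward f).obj F, U) :=
    (inferInstance : Module Γ(X, f ⁻¹ᵁ U) Γ(F, f ⁻¹ᵁ U))
  haveI : IsScalarTower Γ(S, U) Γ(X, f ⁻¹ᵁ U) Γ((pushforward f).obj F, U) :=
    .of_algebraMap_smul fun _ _ => rfl
  let P := (pullback g').obj F
  letI : Module Γ(X', f' ⁻¹ᵁ W) Γ((pushforward f').obj P, W) :=
    (inferInstance : Module Γ(X', f' ⁻¹ᵁ W) Γ(P, f' ⁻¹ᵁ W))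
  haveI : IsScalarTower Γ(S', W) Γ(X', f' ⁻¹ᵁ W) Γ((pushforward f').obj P, W) :=
    .of_algebraMap_smul fun _ _ => rfl
  letI : Module Γ(S, U) Γ((pullback g).obj ((pushforward f).obj F), W) := Module.compHom _ gR.hom
  haveI : IsScalarTower Γ(S, U) Γ(S', W) Γ((pullback g).obj ((pushforward f).obj F), W) :=
    .of_algebraMap_smul fun _ _ => rfl
  letI : Module Γ(S, U) Γ((pushforward f').obj P, W) := Module.compHom _ gR.hom
  haveI : IsScalarTower Γ(S, U) Γ(S', W) Γ((pushforward f').obj P, W) :=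
    .of_algebraMap_smul fun _ _ => rfl
  letI : Module Γ(X, f ⁻¹ᵁ U) Γ((pushforward f').obj P, W) := Module.compHom _ g'R.hom
  haveI : IsScalarTower Γ(X, f ⁻¹ᵁ U) Γ(X', f' ⁻¹ᵁ W) Γ((pushforward f').obj P, W) :=
    .of_algebraMap_smul fun _ _ => rfl
  letI : Module Γ(X, f ⁻¹ᵁ U) Γ(P, f' ⁻¹ᵁ W) := Module.compHom _ g'R.hom
  haveI : IsScalarTower Γ(X, f ⁻¹ᵁ U) Γ(X', f' ⁻¹ᵁ W) Γ(P, f' ⁻¹ᵁ W) :=
    .of_algebraMap_smul fun _ _ => rfl
  let l₁ : Γ((pushforward f).obj F, U) →ₗ[Γ(S, U)] Γ((pullback g).obj ((pushforward f).obj F), W) :=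
    { toFun := Groth.Agent.QCoh.pullSec g _ hle
      map_add' := Groth.Agent.QCoh.pullSec_add g _ hle
      map_smul' := fun r x => Groth.Agent.QCoh.pullSec_smul g _ hle r x }
  let l₂ : Γ(F, f ⁻¹ᵁ U) →ₗ[Γ(X, f ⁻¹ᵁ U)] Γ(P, f' ⁻¹ᵁ W) :=
    { toFun := Groth.Agent.QCoh.pullSec g' F hle'
      map_add' := Groth.Agent.QCoh.pullSec_add g' F hle'
      map_smul' := fun r x => Groth.Agent.QCoh.pullSec_smul g' F hle' r x }
  have hb₁ : IsBaseChange Γ(S', W) l₁ := Groth.Agent.QCoh.isBaseChange_pullback hU g hW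
    (Groth.Agent.QCoh.isQCoh_pushforward f ‹_›) hle (fun _ => rfl) l₁ fun _ => rfl
  have hb₂ : IsBaseChange Γ(X', f' ⁻¹ᵁ W) l₂ := Groth.Agent.QCoh.isBaseChange_pullback (hU.preimage f) g'
    (hW.preimage f') ‹_› hle' (fun _ => rfl) l₂ fun _ => rfl
  let e₂ : TensorProduct Γ(S, U) Γ(S', W) Γ((pushforward f).obj F, U) ≃ₗ[Γ(S', W)] Γ((pushforward f').obj P, W) :=
    (Algebra.IsPushout.cancelBaseChange Γ(S, U) Γ(S', W) Γ(X, f ⁻¹ᵁ U) Γ(X', f' ⁻¹ᵁ W)
      Γ((pushforward f).obj F, U)).symm.trans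
      ((show TensorProduct Γ(X, f ⁻¹ᵁ U) Γ(X', f' ⁻¹ᵁ W) Γ((pushforward f).obj F, U)
        ≃ₗ[Γ(X', f' ⁻¹ᵁ W)] Γ((pushforward f').obj P, W) from hb₂.equiv).restrictScalars Γ(S', W))
  have he : ∀ m, β.app W (l₁ m) = e₂ (1 ⊗ₜ m) := fun m => by
    rw [LinearEquiv.trans_apply, Algebra.IsPushout.cancelBaseChange_symm_tmul, map_one]
    refine (hβ U W hle hle' m).trans ?_
    exact ((hb₂.equiv_tmul 1 _).trans (one_smul _ _)).symm
  let ψ : Γ((pullback g).obj ((pushforward f).obj F), W) →ₗ[Γ(S', W)] Γ((pushforward f').obj P, W) :=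
    { toFun := β.app W
      map_add' := fun a b => map_add (β.app W).hom a b
      map_smul' := fun r x => Scheme.Modules.Hom.app_smul β r x }
  have hψ : ψ = (hb₁.equiv.symm.trans e₂).toLinearMap := hb₁.algHom_ext _ _ fun m => by
    show β.app W (l₁ m) = e₂ (hb₁.equiv.symm (l₁ m))
    rw [hb₁.equiv_symm_apply, he]
  have : Function.Bijective ψ := by rw [hψ]; exact (hb₁.equiv.symm.trans e₂).bijective
  exact this

end Groth.Agent.S12131
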