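import Groth.Statements.S16836
import Mathlib.FieldTheory.Perfect
import Mathlib.RingTheory.Polynomial.UniqueFactorization

set_option autoImplicit false
universe u v
open scoped Classical
open AbVar

namespace Groth.Agent.S16836

open Polynomial UniqueFactorizationMonoid in
/-- Let K ⊆ L be a field extension and f₁, f₂ non-zero polynomials in K[t]. For a field F and
polynomials g₁, g₂ over F put r_F(g₁, g₂) = Σ_P mult_P(g₁) · mult_P(g₂) · deg P, the sum running
over the monic irreducible polynomials P in F[t] (mult_P the multiplicity of P as an irreducible
factor). Assume K is perfect. Then r_K(f₁, f₂) = r_L(f₁, f₂): the number does not depend on the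
field over which the factorisations are taken. (Perfectness of K cannot be dropped: for K = F_p(s),
L = K(s^{1/p}) and f₁ = f₂ = t^p − s the number is p over K and p² over L, since the irreducible t^p
− s becomes a p-th power over L; the published statement has no restriction on K, and its proof
requires the relevant K[t]-modules to remain semisimple after base change, which holds when every
irreducible factor stays squarefree over L, in particular for K perfect.) -/
theorem result (K : Type u) (L : Type v) [Field K] [PerfectField K] [Field L] [Algebra K L]
    (f₁ f₂ : K[X]) (h₁ : f₁ ≠ 0) (h₂ : f₂ ≠ 0) :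
    ∑ P ∈ (normalizedFactors (f₁.map (algebraMap K L))).toFinset,
        (normalizedFactors (f₁.map (algebraMap K L))).count P *
          (normalizedFactors (f₂.map (algebraMap K L))).count P * P.natDegree =
      ∑ P ∈ (normalizedFactors f₁).toFinset,
        (normalizedFactors f₁).count P * (normalizedFactors f₂).count P * P.natDegree := by
  classical
  set φ := algebraMap K L
  let Φ : K[X] → Multiset L[X] := fun P => normalizedFactors (P.map φ)
  have hmap : ∀ f : K[X], f ≠ 0 →
      normalizedFactors (f.map φ) = (normalizedFactors f).bind Φ := by
    intro f hf
    have h0 : ∀ s : Multiset K[X], (0 : K[X]) ∉ s →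
        normalizedFactors (s.prod.map φ) = s.bind Φ := by
      intro s
      induction s using Multiset.induction_on with
      | empty => intro _; simp
      | cons a s ih =>
        intro h0
        rw [Multiset.mem_cons, not_or] at h0
        rw [Multiset.prod_cons, Polynomial.map_mul, normalizedFactors_mul
          (Polynomial.map_ne_zero (Ne.symm h0.1)) (Polynomial.map_ne_zero (Multiset.prod_ne_zero h0.2)),
          ih h0.2, Multiset.cons_bind]
    rw [← h0 _ (zero_notMem_normalizedFactors f)]
    have hass := (prod_normalizedFactors hf).map (Polynomial.mapRingHom φ)
    exact ((associated_iff_normalizedFactors_eq_normalizedFactors (Polynomial.map_ne_zero hf)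
      (fun h => Polynomial.map_ne_zero (Multiset.prod_ne_zero (zero_notMem_normalizedFactors f)) h)).mp hass.symm)
  have hsum : ∀ (s t : Multiset L[X]),
      ∑ P ∈ s.toFinset, s.count P * t.count P * P.natDegree = (s.map fun P => t.count P * P.natDegree).sum := by
    intro s t
    rw [Finset.sum_multiset_map_count]
    exact Finset.sum_congr rfl fun P _ => by rw [smul_eq_mul, mul_assoc]
  have hsum' : ∀ (s t : Multiset K[X]),
      ∑ P ∈ s.toFinset, s.count P * t.count P * P.natDegree = (s.map fun P => t.count P * P.natDegree).sum := by
    intro s t
    rw [Finset.sum_multiset_map_count]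
    exact Finset.sum_congr rfl fun P _ => by rw [smul_eq_mul, mul_assoc]
  rw [hsum, hsum', hmap f₁ h₁, hmap f₂ h₂, Multiset.map_bind, Multiset.sum_bind]
  refine congrArg Multiset.sum (Multiset.map_congr rfl fun P hP => ?_)
  have hPi := irreducible_of_normalized_factor P hP
  have hcount : ∀ p ∈ Φ P, ((normalizedFactors f₂).bind Φ).count p = (normalizedFactors f₂).count P := by
    intro p hp
    have hpdvd : p ∣ P.map φ := dvd_of_mem_normalizedFactors hp
    have hpi : Irreducible p := irreducible_of_normalized_factor p hp
    have hsq : Squarefree (P.map φ) :=
      (Polynomial.Separable.map (PerfectField.separable_of_irreducible hPi)).squarefree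
    have hnd : (Φ P).Nodup :=
      (squarefree_iff_nodup_normalizedFactors (Polynomial.map_ne_zero hPi.ne_zero)).mp hsq
    rw [Multiset.count_bind]
    have hval : ∀ Q ∈ normalizedFactors f₂, (Φ Q).count p = if P = Q then 1 else 0 := by
      intro Q hQ
      split_ifs with he
      · subst he; exact Multiset.count_eq_one_of_mem hnd hp
      · rw [Multiset.count_eq_zero]
        intro hpQ
        have hQi := irreducible_of_normalized_factor Q hQ
        have hco : IsCoprime P Q := hPi.coprime_iff_not_dvd.mpr fun hdvd => he (by
          have := hPi.associated_of_dvd hQi hdvd
          rw [← normalize_normalized_factor P hP, ← normalize_normalized_factor Q hQ]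
          exact normalize_eq_normalize_iff_associated.mpr this)
        exact hpi.not_isUnit ((hco.map (Polynomial.mapRingHom φ)).isUnit_of_dvd' hpdvd (dvd_of_mem_normalizedFactors hpQ))
    rw [Multiset.map_congr rfl hval]
    induction normalizedFactors f₂ using Multiset.induction_on with
    | empty => simp
    | cons a s ih => rw [Multiset.map_cons, Multiset.sum_cons, ih, Multiset.count_cons, add_comm]
  rw [Multiset.map_congr rfl (fun p hp => by rw [hcount p hp]), Multiset.sum_map_mul_left]
  congr 1
  have hassoc := prod_normalizedFactors (a := P.map φ) (Polynomial.map_ne_zero hPi.ne_zero)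
  rw [← Polynomial.natDegree_multiset_prod _ (zero_notMem_normalizedFactors _),
    Polynomial.natDegree_eq_natDegree (Polynomial.degree_eq_degree_of_associated hassoc), Polynomial.natDegree_map]


end Groth.Agent.S16836
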