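import Groth.Statements.S16837
import Mathlib.LinearAlgebra.Charpoly.ToMatrix
import Mathlib.RingTheory.SimpleModule.Basic
import Mathlib.Algebra.Polynomial.Module.AEval
import Mathlib.LinearAlgebra.Semisimple
import Mathlib.RingTheory.AdjoinRoot
import Mathlib.RingTheory.Polynomial.UniqueFactorization

set_option autoImplicit false
universe u v w
open scoped Classical
open AbVar

namespace Groth.Agent.S16837

open Polynomial

variable {K : Type u} [Field K]

/-- the endomorphism by which the variable acts -/
noncomputable def actX (M : Type v) [AddCommGroup M] [Module K M] [Module K[X] M] [IsScalarTower K K[X] M] :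
    Module.End K M := Algebra.lsmul K K M (X : K[X])

lemma charpoly_piMap : ∀ (n : ℕ) (M : Fin n → Type v) [∀ i, AddCommGroup (M i)] [∀ i, Module K (M i)]
    [∀ i, FiniteDimensional K (M i)] (f : ∀ i, Module.End K (M i)),
    LinearMap.charpoly (LinearMap.pi fun i => (f i).comp (LinearMap.proj i)) = ∏ i, (f i).charpoly := by
  intro n
  induction n with
  | zero =>
    intro M _ _ _ f
    simp only [Finset.univ_eq_empty, Finset.prod_empty]
    exact eq_one_of_monic_natDegree_zero (LinearMap.charpoly_monic _) (by rw [LinearMap.charpoly_natDegree]; exact Module.finrank_zero_of_subsingleton)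
  | succ n ih =>
    intro M _ _ _ f
    rw [Fin.prod_univ_succ, ← ih (fun i => M i.succ) (fun i => f i.succ), ← LinearMap.charpoly_prodMap,
      ← LinearEquiv.charpoly_conj (Fin.consLinearEquiv K M).symm]
    congr 1

/-- a simple `K[X]`-module, finite over `K`, has the form `K[X]/(P)` and `P` is its characteristic polynomial -/
lemma simple_iso (M : Type v) [AddCommGroup M] [Module K M] [Module K[X] M] [IsScalarTower K K[X] M]
    [FiniteDimensional K M] [IsSimpleModule K[X] M] :
    Irreducible (actX (K := K) M).charpoly ∧ Nonempty (M ≃ₗ[K[X]] K[X] ⧸ Ideal.span {(actX (K := K) M).charpoly}) := by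
  obtain ⟨I, hI, ⟨e⟩⟩ := isSimpleModule_iff_quot_maximal.mp (inferInstance : IsSimpleModule K[X] M)
  obtain ⟨p, rfl⟩ := (IsPrincipalIdealRing.principal I).principal
  have hp0 : p ≠ 0 := by
    rintro rfl
    have : FiniteDimensional K (K[X] ⧸ Ideal.span {(0 : K[X])}) := (e.restrictScalars K).finiteDimensional
    have : FiniteDimensional K K[X] :=
      ((Submodule.quotEquivOfEqBot (Ideal.span {(0 : K[X])}) (by simp)).restrictScalars K).finiteDimensional
    exact Polynomial.not_finite this
  have hpi : Irreducible p := by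
    have hp := hI.isPrime
    exact ((Ideal.span_singleton_prime hp0).mp hp).irreducible
  let q := normalize p
  have hqm : q.Monic := Polynomial.monic_normalize hp0
  have hass : Associated p q := (normalize_associated p).symm
  have hspan : Ideal.span {p} = Ideal.span {q} := Ideal.span_singleton_eq_span_singleton.mpr hass
  let e' : M ≃ₗ[K[X]] K[X] ⧸ Ideal.span {q} := e ≪≫ₗ Submodule.quotEquivOfEq _ _ hspan
  have hdim : Module.finrank K M = q.natDegree :=
    (e'.restrictScalars K).finrank_eq.trans
      (finrank_quotient_span_eq_natDegree (f := q))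
  have hann : aeval (actX (K := K) M) q = 0 := by
    refine LinearMap.ext fun m => e'.injective ?_
    have : aeval (actX (K := K) M) q = Algebra.lsmul K K M q := by
      rw [actX, aeval_algHom_apply, aeval_X_left_apply]
    rw [this, Algebra.lsmul_apply, map_smul, LinearMap.zero_apply, map_zero]
    obtain ⟨z, hz⟩ := Ideal.Quotient.mk_surjective (e' m)
    rw [← hz]
    change Ideal.Quotient.mk _ (q * z) = 0
    exact Ideal.Quotient.eq_zero_iff_mem.mpr (Ideal.mul_mem_right _ _ (Ideal.mem_span_singleton_self q))
  have : Nontrivial M := IsSimpleModule.nontrivial K[X] M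
  have hmin : minpoly K (actX (K := K) M) = q :=
    (minpoly.eq_of_irreducible_of_monic (hass.irreducible hpi) hann hqm).symm
  have hcq : (actX (K := K) M).charpoly = q := by
    refine eq_of_monic_of_dvd_of_natDegree_le hqm (LinearMap.charpoly_monic _) ?_ ?_
    · rw [← hmin]; exact LinearMap.minpoly_dvd_charpoly _
    · rw [LinearMap.charpoly_natDegree, hdim]
  rw [hcq]
  exact ⟨hass.irreducible hpi, ⟨e'⟩⟩

lemma finrank_hom_simple (M : Type v) (N : Type w) [AddCommGroup M] [Module K M] [Module K[X] M]
    [IsScalarTower K K[X] M] [FiniteDimensional K M] [IsSimpleModule K[X] M]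
    [AddCommGroup N] [Module K N] [Module K[X] N]
    [IsScalarTower K K[X] N] [FiniteDimensional K N] [IsSimpleModule K[X] N] :
    Module.finrank K (M →ₗ[K[X]] N) =
      if (actX (K := K) M).charpoly = (actX (K := K) N).charpoly then (actX (K := K) M).charpoly.natDegree else 0 := by
  obtain ⟨hP, ⟨eM⟩⟩ := simple_iso (K := K) M
  obtain ⟨hQ, ⟨eN⟩⟩ := simple_iso (K := K) N
  by_cases h : (actX (K := K) M).charpoly = (actX (K := K) N).charpoly
  · rw [if_pos h]
    generalize hPd : (actX (K := K) M).charpoly = P at *
    have hd : Module.finrank K N = P.natDegree := by rw [h, LinearMap.charpoly_natDegree]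
    subst h
    refine Eq.trans (LinearEquiv.finrank_eq (LinearEquiv.ofBijective
      ({ toFun := fun f => f (eM.symm 1), map_add' := fun _ _ => rfl, map_smul' := fun _ _ => rfl } :
        (M →ₗ[K[X]] N) →ₗ[K] N) ⟨fun f g hfg => ?_, fun n => ?_⟩)) hd
    · refine LinearMap.ext fun m => ?_
      obtain ⟨c, hc⟩ := Ideal.Quotient.mk_surjective (eM m)
      have : m = c • eM.symm 1 := by
        apply eM.injective
        rw [map_smul, eM.apply_symm_apply, ← hc]
        exact (congrArg (Ideal.Quotient.mk _) (mul_one c)).symm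
      rw [this, map_smul, map_smul]
      exact congrArg (c • ·) hfg
    · obtain ⟨c, hc⟩ := Ideal.Quotient.mk_surjective (eN n)
      refine ⟨c • (eM ≪≫ₗ eN.symm).toLinearMap, ?_⟩
      change c • eN.symm (eM (eM.symm 1)) = n
      apply eN.injective
      rw [map_smul, eN.apply_symm_apply, eM.apply_symm_apply, ← hc]
      exact congrArg (Ideal.Quotient.mk _) (mul_one c)
  · rw [if_neg h]
    have : Subsingleton (M →ₗ[K[X]] N) := by
      refine subsingleton_of_forall_eq 0 fun f => ?_
      refine f.bijective_or_eq_zero.resolve_left fun hf => h ?_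
      rw [← LinearEquiv.charpoly_conj ((LinearEquiv.ofBijective f hf).restrictScalars K) (actX M)]
      congr 1
      ext n
      obtain ⟨m, rfl⟩ := hf.2 n
      rw [LinearEquiv.conj_apply_apply]
      change f ((X : K[X]) • ((LinearEquiv.ofBijective f hf).symm (f m))) = (X : K[X]) • f m
      rw [show f m = LinearEquiv.ofBijective f hf m from rfl, LinearEquiv.symm_apply_apply, map_smul]
      rfl
    exact Module.finrank_zero_of_subsingleton

open UniqueFactorizationMonoid in
lemma finrank_hom (M : Type v) (N : Type w) [AddCommGroup M] [Module K M] [Module K[X] M]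
    [IsScalarTower K K[X] M] [FiniteDimensional K M] [IsSemisimpleModule K[X] M]
    [AddCommGroup N] [Module K N] [Module K[X] N]
    [IsScalarTower K K[X] N] [FiniteDimensional K N] [IsSemisimpleModule K[X] N] :
    Module.finrank K (M →ₗ[K[X]] N) =
      ∑ P ∈ (normalizedFactors (actX (K := K) M).charpoly).toFinset,
        (normalizedFactors (actX (K := K) M).charpoly).count P *
          (normalizedFactors (actX (K := K) N).charpoly).count P * P.natDegree := by
  have : Module.Finite K[X] M := Module.Finite.of_restrictScalars_finite K K[X] M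
  have : Module.Finite K[X] N := Module.Finite.of_restrictScalars_finite K K[X] N
  obtain ⟨a, S, eS, hS⟩ := IsSemisimpleModule.exists_linearEquiv_fin_dfinsupp K[X] M
  obtain ⟨b, T, eT, hT⟩ := IsSemisimpleModule.exists_linearEquiv_fin_dfinsupp K[X] N
  have : ∀ i, FiniteDimensional K (S i) := fun i =>
    FiniteDimensional.of_injective ((S i).subtype.restrictScalars K) Subtype.val_injective
  have : ∀ i, FiniteDimensional K (T i) := fun i =>
    FiniteDimensional.of_injective ((T i).subtype.restrictScalars K) Subtype.val_injective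
  let eS' : M ≃ₗ[K[X]] (∀ i, S i) := eS ≪≫ₗ DFinsupp.linearEquivFunOnFintype
  let eT' : N ≃ₗ[K[X]] (∀ i, T i) := eT ≪≫ₗ DFinsupp.linearEquivFunOnFintype
  have hcS : (actX (K := K) M).charpoly = ∏ i, (actX (K := K) (S i)).charpoly := by
    rw [← charpoly_piMap, ← LinearEquiv.charpoly_conj (eS'.restrictScalars K) (actX M)]
    congr 1
    refine LinearMap.ext fun x => ?_
    change eS' ((X : K[X]) • eS'.symm x) = _
    rw [map_smul, eS'.apply_symm_apply]
    rfl
  have hcT : (actX (K := K) N).charpoly = ∏ i, (actX (K := K) (T i)).charpoly := by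
    rw [← charpoly_piMap, ← LinearEquiv.charpoly_conj (eT'.restrictScalars K) (actX N)]
    congr 1
    refine LinearMap.ext fun x => ?_
    change eT' ((X : K[X]) • eT'.symm x) = _
    rw [map_smul, eT'.apply_symm_apply]
    rfl
  have hnf : ∀ {m : ℕ} (p : Fin m → K[X]), (∀ i, Irreducible (p i) ∧ (p i).Monic) →
      normalizedFactors (∏ i, p i) = Finset.univ.val.map p := by
    intro m p hp
    rw [Finset.prod_eq_multiset_prod]
    generalize (Finset.univ : Finset (Fin m)).val = s
    induction s using Multiset.induction_on with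
    | empty => simp
    | cons i s ih =>
      rw [Multiset.map_cons, Multiset.prod_cons, normalizedFactors_mul (hp i).1.ne_zero
        (Multiset.prod_ne_zero (by simpa using fun i _ => (hp i).1.ne_zero)), ih,
        normalizedFactors_irreducible (hp i).1, (hp i).2.normalize_eq_self, Multiset.singleton_add]
  rw [hcS, hcT, hnf _ fun i => ⟨(@simple_iso K _ (S i) _ _ _ _ _ (hS i)).1, LinearMap.charpoly_monic _⟩,
    hnf _ fun i => ⟨(@simple_iso K _ (T i) _ _ _ _ _ (hT i)).1, LinearMap.charpoly_monic _⟩]
  let E₁ : (M →ₗ[K[X]] N) ≃ₗ[K] ((∀ i, S i) →ₗ[K[X]] (∀ j, T j)) :=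
    { toFun := fun f => eT'.toLinearMap ∘ₗ f ∘ₗ eS'.symm.toLinearMap
      map_add' := fun f g => by ext; simp
      map_smul' := fun c f => LinearMap.ext fun x => (eT'.toLinearMap).map_smul_of_tower c _
      invFun := fun f => eT'.symm.toLinearMap ∘ₗ f ∘ₗ eS'.toLinearMap
      left_inv := fun f => by ext; simp
      right_inv := fun f => by ext; simp }
  let E₂ : (∀ i, S i →ₗ[K[X]] ∀ j, T j) ≃ₗ[K] (∀ i, ∀ j, S i →ₗ[K[X]] T j) :=
    LinearEquiv.piCongrRight fun i =>
    { toFun := fun f j => (LinearMap.proj j).comp f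
      map_add' := fun f g => rfl
      map_smul' := fun c f => rfl
      invFun := fun f => LinearMap.pi f
      left_inv := fun f => rfl
      right_inv := fun f => rfl }
  have : ∀ i j, FiniteDimensional K (S i →ₗ[K[X]] T j) := fun i j =>
    FiniteDimensional.of_injective (LinearMap.restrictScalarsₗ K K[X] (S i) (T j) K)
      (LinearMap.restrictScalars_injective K)
  rw [(E₁ ≪≫ₗ (LinearMap.lsum K[X] (fun i => S i) K).symm ≪≫ₗ E₂).finrank_eq, Module.finrank_pi_fintype]
  simp only [Module.finrank_pi_fintype]
  rw [Finset.sum_congr rfl fun i _ => Finset.sum_congr rfl fun j _ =>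
    @finrank_hom_simple K _ (S i) (T j) _ _ _ _ _ (hS i) _ _ _ _ _ (hT j)]
  rw [Finset.sum_congr rfl fun P _ => mul_assoc _ _ _]
  simp only [← smul_eq_mul (α := ℕ)]
  rw [← Finset.sum_multiset_map_count, Multiset.map_map]
  refine Finset.sum_congr rfl fun i _ => ?_
  simp only [Function.comp, smul_eq_mul, Multiset.count_map]
  rw [Finset.sum_ite, Finset.sum_const_zero, add_zero, Finset.sum_const, smul_eq_mul]
  rfl


open UniqueFactorizationMonoid in
/-- Let K be any field, V₁ and V₂ finite-dimensional K-vector spaces and π₁, π₂ semisimple endomorphisms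
of V₁, V₂ with characteristic polynomials f₁, f₂. Make V_i a K[t]-module by letting t act as π_i.
Then the space Hom_{K[t]}(V₁, V₂) of K-linear maps h with π₂ ∘ h = h ∘ π₁ has K-dimension r(f₁, f₂)
= Σ_P mult_P(f₁) · mult_P(f₂) · deg P, the sum over the monic irreducible polynomials P in K[t]. (No
restriction on the characteristic of K.) -/
theorem result (K : Type u) [Field K]
    (V₁ : Type v) (V₂ : Type w) [AddCommGroup V₁] [Module K V₁] [FiniteDimensional K V₁]
    [AddCommGroup V₂] [Module K V₂] [FiniteDimensional K V₂]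
    (π₁ : Module.End K V₁) (π₂ : Module.End K V₂) (h₁ : π₁.IsSemisimple) (h₂ : π₂.IsSemisimple) :
    Module.finrank K (LinearMap.ker (LinearMap.lcomp K V₂ π₁ - LinearMap.llcomp K V₁ V₂ V₂ π₂ :
        (V₁ →ₗ[K] V₂) →ₗ[K] (V₁ →ₗ[K] V₂))) =
      ∑ P ∈ (normalizedFactors π₁.charpoly).toFinset,
        (normalizedFactors π₁.charpoly).count P * (normalizedFactors π₂.charpoly).count P * P.natDegree := by
  let M := Module.AEval' π₁
  let N := Module.AEval' π₂
  have : FiniteDimensional K M := (Module.AEval'.of π₁).finiteDimensional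
  have : FiniteDimensional K N := (Module.AEval'.of π₂).finiteDimensional
  have : IsSemisimpleModule (Polynomial K) M := h₁
  have : IsSemisimpleModule (Polynomial K) N := h₂
  have e₁ : (actX (K := K) M).charpoly = π₁.charpoly := by
    rw [← LinearEquiv.charpoly_conj (Module.AEval'.of π₁) π₁]
    congr 1
    refine LinearMap.ext fun m => ?_
    obtain ⟨x, rfl⟩ := (Module.AEval'.of π₁).surjective m
    rw [LinearEquiv.conj_apply_apply, LinearEquiv.symm_apply_apply]
    exact Module.AEval'.X_smul_of π₁ x
  have e₂ : (actX (K := K) N).charpoly = π₂.charpoly := by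
    rw [← LinearEquiv.charpoly_conj (Module.AEval'.of π₂) π₂]
    congr 1
    refine LinearMap.ext fun m => ?_
    obtain ⟨x, rfl⟩ := (Module.AEval'.of π₂).surjective m
    rw [LinearEquiv.conj_apply_apply, LinearEquiv.symm_apply_apply]
    exact Module.AEval'.X_smul_of π₂ x
  rw [← e₁, ← e₂, ← finrank_hom M N]
  have hker : ∀ h : V₁ →ₗ[K] V₂, h ∈ LinearMap.ker (LinearMap.lcomp K V₂ π₁ - LinearMap.llcomp K V₁ V₂ V₂ π₂ :
      (V₁ →ₗ[K] V₂) →ₗ[K] (V₁ →ₗ[K] V₂)) ↔ ∀ x, h (π₁ x) = π₂ (h x) := fun h => by
    rw [LinearMap.mem_ker, LinearMap.sub_apply, sub_eq_zero, LinearMap.ext_iff]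
    rfl
  refine LinearEquiv.finrank_eq
    { toFun := fun h => LinearMap.ofAEval π₁ ((Module.AEval'.of π₂).toLinearMap.comp h.1) fun x => ?_
      map_add' := fun h h' => ?_
      map_smul' := fun c h => ?_
      invFun := fun f => ⟨(Module.AEval'.of π₂).symm.toLinearMap.comp ((f.restrictScalars K).comp
        (Module.AEval'.of π₁).toLinearMap), (hker _).mpr fun x => ?_⟩
      left_inv := fun h => ?_
      right_inv := fun f => ?_ }
  · change (Module.AEval'.of π₂) (h.1 (π₁ x)) = _
    rw [(hker h.1).mp h.2, ← Module.AEval'.X_smul_of]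
    rfl
  · exact LinearMap.ext fun m => map_add (Module.AEval'.of π₂) _ _
  · exact LinearMap.ext fun m => map_smul (Module.AEval'.of π₂) _ _
  · change (Module.AEval'.of π₂).symm (f (Module.AEval'.of π₁ (π₁ x))) = π₂ ((Module.AEval'.of π₂).symm (f (Module.AEval'.of π₁ x)))
    rw [← Module.AEval'.X_smul_of, map_smul, Module.AEval'.of_symm_X_smul]
  · exact Subtype.ext (LinearMap.ext fun x => (Module.AEval'.of π₂).symm_apply_apply _)
  · refine LinearMap.ext fun m => ?_
    obtain ⟨x, rfl⟩ := (Module.AEval'.of π₁).surjective m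
    exact (Module.AEval'.of π₂).apply_symm_apply _

end Groth.Agent.S16837
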