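import Groth.Statements.S14944
import Groth.Agent.Lib.AVWeilCount
import Groth.Agent.Lib.AVSemisimple
import Groth.Agent.S16836
import Groth.Agent.S16837

set_option autoImplicit false
set_option backward.isDefEq.respectTransparency false
set_option backward.isDefEq.respectTransparency.types false
set_option linter.style.haveILetI false
set_option linter.unusedSectionVars false
set_option maxHeartbeats 400000
universe u
open CategoryTheory MonoidalCategory CartesianMonoidalCategory MonObj GrpObj AlgebraicGeometry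
open scoped TensorProduct
open AbVar

namespace Groth.Agent.S14944


set_option synthInstance.maxHeartbeats 400000

open scoped Classical in
open Polynomial UniqueFactorizationMonoid in
/-- The dimension of the algebra commuting with a semisimple endomorphism, from its characteristic polynomial. -/
noncomputable def rsum (K : Type) [Field K] (f : K[X]) : ℕ :=
  ∑ Q ∈ (normalizedFactors f).toFinset, (normalizedFactors f).count Q * (normalizedFactors f).count Q * Q.natDegree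

open scoped Classical in
open Polynomial UniqueFactorizationMonoid in
theorem finrank_centralizer {k Ω : Type u} [Field k] [Field Ω] [Algebra k Ω] [IsAlgClosed Ω]
    {A : Over (Spec (CommRingCat.of k))}
    [GrpObj A] [IsCommMonObj A] [IsProper A.hom] [GeometricallyIntegral A.hom] (π : EndAV.End A)
    (hc : ∀ φ : EndAV.End A, φ * π = π * φ) (P : ℤ[X]) (hPm : P.Monic)
    (l : ℕ) [Fact l.Prime] (hl : (l : k) ≠ 0) [Module.Free ℤ_[l] (AbDual.TateMod A l (SGA7.pt Ω))]
    [Module.Finite ℤ_[l] (AbDual.TateMod A l (SGA7.pt Ω))]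
    (hP : (EndAV.End.tateRep l (SGA7.pt Ω) π).charpoly = P.map (Int.castRingHom ℤ_[l])) :
    Module.finrank ℚ_[l] (LinearMap.ker (LinearMap.lcomp ℚ_[l] _ ((EndAV.End.tateRep l (SGA7.pt Ω) π).baseChange ℚ_[l]) -
          LinearMap.llcomp ℚ_[l] _ _ _ ((EndAV.End.tateRep l (SGA7.pt Ω) π).baseChange ℚ_[l]) :
        Module.End ℚ_[l] (ℚ_[l] ⊗[ℤ_[l]] AbDual.TateMod A l (SGA7.pt Ω)) →ₗ[ℚ_[l]]
          Module.End ℚ_[l] (ℚ_[l] ⊗[ℤ_[l]] AbDual.TateMod A l (SGA7.pt Ω)))) =
      rsum ℚ (P.map (Int.castRingHom ℚ)) := by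
  obtain ⟨m, hm, hmμ, hm0⟩ := AVEnd0.exists_int_minpoly (A := A) Ω π
  set T := (EndAV.End.tateRep l (SGA7.pt Ω) π).baseChange ℚ_[l] with hT
  have hf : T.charpoly = (P.map (Int.castRingHom ℚ)).map (algebraMap ℚ ℚ_[l]) := by
    rw [hT, LinearMap.charpoly_baseChange, hP, Polynomial.map_map, Polynomial.map_map,
      RingHom.ext_int ((algebraMap ℤ_[l] ℚ_[l]).comp (Int.castRingHom ℤ_[l])) ((algebraMap ℚ ℚ_[l]).comp (Int.castRingHom ℚ))]
  have hss : Module.End.IsSemisimple T := by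
    refine Module.End.isSemisimple_of_squarefree_aeval_eq_zero
      (p := (m.map (Int.castRingHom ℚ)).map (algebraMap ℚ ℚ_[l])) ?_ ?_
    · have hsq : Squarefree (m.map (Int.castRingHom ℚ)) := hmμ ▸ AVSemisimple.squarefree_minpoly π hc
      exact (Polynomial.Separable.map (PerfectField.separable_iff_squarefree.2 hsq)).squarefree
    · have h0 : Polynomial.aeval (EndAV.End.tateRep l (SGA7.pt Ω) π) (m.map (Int.castRingHom ℤ_[l])) = 0 := by
        rw [← AVEnd0.aeval_tateRep, hm0, map_zero]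
      rw [Polynomial.map_map,
        RingHom.ext_int ((algebraMap ℚ ℚ_[l]).comp (Int.castRingHom ℚ)) ((algebraMap ℤ_[l] ℚ_[l]).comp (Int.castRingHom ℤ_[l])),
        ← Polynomial.map_map, Polynomial.aeval_map_algebraMap, hT,
        show (EndAV.End.tateRep l (SGA7.pt Ω) π).baseChange ℚ_[l] =
          Module.End.baseChangeHom ℤ_[l] ℚ_[l] _ (EndAV.End.tateRep l (SGA7.pt Ω) π) from rfl,
        Polynomial.aeval_algHom_apply, h0, map_zero]
  rw [S16837.result ℚ_[l] _ _ T T hss hss, hf,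
    S16836.result ℚ ℚ_[l] (P.map (Int.castRingHom ℚ)) (P.map (Int.castRingHom ℚ)) (hPm.map _).ne_zero (hPm.map _).ne_zero]
  rfl

/-- Let A be an abelian variety over a finite field k with q elements (a proper, geometrically integral
commutative group scheme over k), π_A its q-Frobenius endomorphism (the identity on points and the
q-th power map on sections; a homomorphism), Ω an algebraic closure of k, and l₁, l₂ primes
invertible in k; assume (as is the case) that the l_i-adic Tate modules of Ω-points are free of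
finite rank. Then the dimension over ℚ_l of the space of ℚ_l-linear endomorphisms of V_l(A) = ℚ_l
⊗_{ℤ_l} T_l(A) commuting with V_l(π_A) — the endomorphisms commuting with the Galois action — does
not depend on l: it is the same number for l₁ and l₂. -/
theorem result (k Ω : Type u) [Field k] [Finite k] [Field Ω] [Algebra k Ω] [IsAlgClosure k Ω]
    (A : Over (Spec (CommRingCat.of k)))
    [GrpObj A] [IsCommMonObj A] [IsProper A.hom] [GeometricallyIntegral A.hom]
    (πA : A ⟶ A) [IsMonHom πA] (hπAb : πA.left.base = 𝟙 _)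
    (hπAle : ∀ U : A.left.Opens, U ≤ πA.left ⁻¹ᵁ U)
    (hπAapp : ∀ (U : A.left.Opens) (s : Γ(A.left, U)), (πA.left.appLE U U (hπAle U)).hom s = s ^ Nat.card k)
    (l₁ l₂ : ℕ) [Fact l₁.Prime] [Fact l₂.Prime] (h₁ : (l₁ : k) ≠ 0) (h₂ : (l₂ : k) ≠ 0)
    [Module.Free ℤ_[l₁] (AbDual.TateMod A l₁ (SGA7.pt Ω))] [Module.Finite ℤ_[l₁] (AbDual.TateMod A l₁ (SGA7.pt Ω))]
    [Module.Free ℤ_[l₂] (AbDual.TateMod A l₂ (SGA7.pt Ω))] [Module.Finite ℤ_[l₂] (AbDual.TateMod A l₂ (SGA7.pt Ω))] :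
    Module.finrank ℚ_[l₁] (LinearMap.ker (LinearMap.lcomp ℚ_[l₁] _ ((AbDual.tateMapₗ (l := l₁) (T := SGA7.pt Ω) πA).baseChange ℚ_[l₁]) -
          LinearMap.llcomp ℚ_[l₁] _ _ _ ((AbDual.tateMapₗ (l := l₁) (T := SGA7.pt Ω) πA).baseChange ℚ_[l₁]) :
        Module.End ℚ_[l₁] (ℚ_[l₁] ⊗[ℤ_[l₁]] AbDual.TateMod A l₁ (SGA7.pt Ω)) →ₗ[ℚ_[l₁]]
          Module.End ℚ_[l₁] (ℚ_[l₁] ⊗[ℤ_[l₁]] AbDual.TateMod A l₁ (SGA7.pt Ω)))) =
      Module.finrank ℚ_[l₂] (LinearMap.ker (LinearMap.lcomp ℚ_[l₂] _ ((AbDual.tateMapₗ (l := l₂) (T := SGA7.pt Ω) πA).baseChange ℚ_[l₂]) -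
          LinearMap.llcomp ℚ_[l₂] _ _ _ ((AbDual.tateMapₗ (l := l₂) (T := SGA7.pt Ω) πA).baseChange ℚ_[l₂]) :
        Module.End ℚ_[l₂] (ℚ_[l₂] ⊗[ℤ_[l₂]] AbDual.TateMod A l₂ (SGA7.pt Ω)) →ₗ[ℚ_[l₂]]
          Module.End ℚ_[l₂] (ℚ_[l₂] ⊗[ℤ_[l₂]] AbDual.TateMod A l₂ (SGA7.pt Ω)))) := by
  haveI : IsAlgClosed Ω := IsAlgClosure.isAlgClosed k
  haveI := Fintype.ofFinite k
  obtain ⟨p, hp⟩ := CharP.exists k
  haveI := hp
  obtain ⟨r, hpp, hr⟩ := FiniteField.card k p
  haveI : Fact p.Prime := ⟨hpp⟩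
  have hcentral : ∀ φ : EndAV.End A, φ * EndAV.End.of πA = EndAV.End.of πA * φ := fun φ => EndAV.End.ext (by
    rw [EndAV.End.toHom_mul, EndAV.End.toHom_mul]
    exact AVSemisimple.frob_natural φ.toHom πA πA (Nat.card k) p r (by rw [Nat.card_eq_fintype_card]; exact hr)
      hπAle hπAapp hπAle hπAapp)
  obtain ⟨g, hg⟩ := AVTors.exists_dimNat A
  obtain ⟨P, hPm, -, -, hT⟩ := AVTateBC.exists_charpoly Ω A hg (EndAV.End.of πA)
  exact (finrank_centralizer (EndAV.End.of πA) hcentral P hPm l₁ h₁ (hT l₁ h₁)).trans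
    (finrank_centralizer (EndAV.End.of πA) hcentral P hPm l₂ h₂ (hT l₂ h₂)).symm

end Groth.Agent.S14944
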