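import Groth.Statements.S6518
import Groth.Agent.KFlatLib.Perfect.Top
-- import your own Groth.Agent.* helpers here

set_option autoImplicit false
universe u
open CategoryTheory
attribute [local instance] HasDerivedCategory.standard
open DCoh

namespace Groth.Agent.S6518

open AlgebraicGeometry in
/-- Let X be a scheme and F an O_X-module, viewed as an object of D(O_X) placed in degree 0. Then (1)
finite type of the O_X-module F is equivalent to F being 0-pseudo-coherent, and (2) F admits a
finite presentation as an O_X-module exactly when it is (−1)-pseudo-coherent. (The published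
statement is for ringed spaces; this row is for schemes.) -/
theorem result {X : Scheme.{u}} (F : X.Modules) :
    (DCoh.IsPseudoCoherentD 0 (DCoh.inD X F) ↔ CohB1.IsFT F) ∧
    (DCoh.IsPseudoCoherentD (-1) (DCoh.inD X F) ↔ CohB1.IsFP F) := by
  simp only [Groth.Agent.KFlatLib.isPseudoCoherentD_iff]
  refine ⟨⟨fun h => ?_, Groth.Agent.KFlatLib.locPC_of_isFT F⟩, ⟨fun h => ?_, Groth.Agent.KFlatLib.locPC_of_isFP F⟩⟩
  · refine Groth.Agent.KFlatLib.isFT_of_epi_free fun x => ?_
    obtain ⟨W, n, p, hx, hp⟩ := Groth.Agent.KFlatLib.exists_epi_free_of_isFT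
      (Groth.Agent.KFlatLib.isFT_top h fun i hi => Groth.Agent.KFlatLib.hd_single_isZero F i (by omega)) x
    exact ⟨W, n, p ≫ ((Scheme.Modules.restrictFunctor W.ι).mapIso (Groth.Agent.KFlatLib.hdSingleIso F)).hom, hx,
      CategoryTheory.epi_comp' hp inferInstance⟩
  · refine Groth.Agent.KFlatLib.isFP_of_free fun x => ?_
    obtain ⟨W, a, b, d, hx, ⟨e⟩⟩ := Groth.Agent.KFlatLib.exists_free_cokernel_of_isFP
      (Groth.Agent.KFlatLib.isFP_top h fun i hi => Groth.Agent.KFlatLib.hd_single_isZero F i (by omega)) x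
    exact ⟨W, a, b, d, hx, ⟨e ≪≫ (Scheme.Modules.restrictFunctor W.ι).mapIso (Groth.Agent.KFlatLib.hdSingleIso F)⟩⟩

end Groth.Agent.S6518
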