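import Groth.Statements.S6942
import Groth.Agent.H9Misc.DRingPCModule

set_option autoImplicit false
universe u
open CategoryTheory CategoryTheory.Limits
attribute [local instance] HasDerivedCategory.standard
open DRing

namespace Groth.Agent.S6942

/-- Let R be a Noetherian commutative ring and m an integer. An object K of D(R) is m-pseudo-coherent
exactly when H^i(K) = 0 for all large i and H^i(K) is a finitely generated R-module for each i ≥ m.
Every finitely generated R-module M is pseudo-coherent, and conversely. -/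
theorem result (R : Type u) [CommRing R]
    [IsNoetherianRing R] (m : ℤ) (K : Dual.D R) (M : Type u) [AddCommGroup M] [Module R M] :
    (DRing.IsPseudoCoherent R m K ↔
      (∃ b : ℤ, ∀ i : ℤ, b < i → Subsingleton (Dual.HD R K i)) ∧ ∀ i : ℤ, m ≤ i → Module.Finite R (Dual.HD R K i)) ∧
      (DRing.IsPseudoCoherentModule' R M ↔ Module.Finite R M) := by
  refine ⟨⟨fun h => ⟨?_, Groth.Agent.H9Misc.DRingPC.finite_HD h⟩, fun ⟨⟨b, hb⟩, hf⟩ => ?_⟩, fun h => ?_, fun h => ?_⟩
  · obtain ⟨b, hb⟩ := Groth.Agent.H9Misc.DRingPC.exists_bound h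
    exact ⟨b, fun i hi => ModuleCat.subsingleton_of_isZero (hb i hi)⟩
  · refine Groth.Agent.H9Misc.DRingPC.of_homology K b hb fun i hi => ?_
    haveI := hf i hi
    exact (Groth.Agent.H9Misc.DRingPC.pc'_iff _).1 (Triage.NoethPC.pc' (A := R) _) (m - i)
  · exact Groth.Agent.H9Misc.DRingPC.finite_of_pc ((Groth.Agent.H9Misc.DRingPC.pc'_iff _).1 h 0)
  · haveI := h
    exact Triage.NoethPC.pc' (A := R) M

end Groth.Agent.S6942
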