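import Groth.Statements.S18369
import Groth.Agent.Lib.AVMulN
import Groth.Agent.Lib.AVDual
import Groth.Agent.Lib.AVSeesaw
import Groth.Agent.VAmpleX.Eventually
import Groth.Agent.VAmpleX.Ample
import Groth.Agent.AmpleX.Basis
import Groth.Agent.AmpleVan.Components
import Groth.Agent.AmpleVan.FiniteSurj

set_option autoImplicit false
set_option backward.isDefEq.respectTransparency false
set_option backward.isDefEq.respectTransparency.types false
set_option linter.style.haveILetI false
set_option linter.unusedSectionVars false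
set_option maxHeartbeats 400000
universe u
open CategoryTheory CategoryTheory.Limits MonoidalCategory CartesianMonoidalCategory MonObj GrpObj AlgebraicGeometry
open AbVar

namespace Groth.Agent.S18369


set_option backward.isDefEq.respectTransparency false
set_option backward.isDefEq.respectTransparency.types false
set_option linter.style.haveILetI false
set_option linter.unusedSectionVars false
set_option maxHeartbeats 1000000
open CategoryTheory.Limits TopologicalSpace Groth.Agent Groth.Agent.H23 Groth.Agent.AVCube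
open scoped Groth.Agent.H23.PicMul

variable {k : Type u} [Field k] {A : Over (Spec (CommRingCat.of k))} [GrpObj A] [IsProper A.hom]
  [GeometricallyIntegral A.hom] {L : A.left.Modules} (hL : PicF.IsInvertible L)

/-- Pullback along the powers of the identity. -/
theorem pc_pow' : ∀ n : ℕ,
    pc hL (𝟙 A ^ n) = pc hL (𝟙 A) ^ n * (pc hL (𝟙 A) * pc hL ((𝟙 A)⁻¹ : A ⟶ A)) ^ n.choose 2
  | 0 => by rw [pow_zero, pc_one]; simp
  | 1 => by simp
  | n + 2 => by
    have h1 := pc_pow' (n + 1)
    have h0 := pc_pow' n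
    have h := cube_rel hL (𝟙 A ^ (n + 1)) (𝟙 A) ((𝟙 A)⁻¹)
    rw [mul_inv_cancel_right, mul_inv_cancel, pc_one, ← pow_succ, show 𝟙 A ^ (n + 1) * (𝟙 A)⁻¹ = 𝟙 A ^ n by
      rw [pow_succ, mul_inv_cancel_right], _root_.mul_one] at h
    rw [show pc hL (𝟙 A ^ (n + 2)) = pc hL (𝟙 A ^ (n + 1 + 1)) from rfl]
    refine mul_right_cancel (b := pc hL (𝟙 A ^ n)) ?_
    rw [← h, h1, h0]
    have e1 : (n + 1).choose 2 = n.choose 2 + n := by
      rw [Nat.choose_succ_succ' n 1, Nat.choose_one_right, add_comm]
    have e2 : (n + 2).choose 2 = n.choose 2 + n + (n + 1) := by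
      rw [Nat.choose_succ_succ' (n + 1) 1, Nat.choose_one_right, e1, add_comm]
    rw [e1, e2]
    simp only [pow_add, pow_succ, mul_pow, pow_one]
    ac_rfl

/-- Let k be a field, A an abelian variety over k (a proper smooth k-group scheme with geometrically
connected fibres) with group law m : A × A → A and projections p₁, p₂, L an ample invertible
O_A-module, and N an invertible O_A-module whose class lies in the dual abelian variety, expressed
as m^*N ≅ p₁^*N ⊗ p₂^*N. Then L ⊗ N is again ample; so ampleness of an invertible module on A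
depends only on its class modulo Pic⁰. -/
theorem result (k : Type u) [Field k]
    (A : Over (Spec (CommRingCat.of k))) [GrpObj A] [IsProper A.hom] [Smooth A.hom] [GeometricallyConnected A.hom]
    (L N : A.left.Modules) (hL : CohB1.IsAmple L) (hN : PicF.IsInvertible N)
    (hN0 : Nonempty ((Scheme.Modules.pullback μ[A].left).obj N ≅
      CohB1.tensorMod ((Scheme.Modules.pullback (fst A A).left).obj N) ((Scheme.Modules.pullback (snd A A).left).obj N))) :
    CohB1.IsAmple (CohB1.tensorMod L N) := by
  haveI := AVDual.geometricallyIntegral_of_smooth A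
  obtain ⟨e⟩ := hN0
  haveI : IsAffineHom ((𝟙 A)⁻¹ : A ⟶ A).left := by
    haveI : IsIso ((𝟙 A)⁻¹ : A ⟶ A) := ⟨(𝟙 A)⁻¹, by rw [GrpObj.comp_inv, Category.comp_id, _root_.inv_inv],
      by rw [GrpObj.comp_inv, Category.comp_id, _root_.inv_inv]⟩
    haveI : IsIso ((𝟙 A)⁻¹ : A ⟶ A).left := inferInstanceAs (IsIso ((Over.forget _).map _))
    infer_instance
  haveI : CompactSpace A.left := QuasiCompact.compactSpace_of_compactSpace A.hom
  let L' := (Scheme.Modules.pullback ((𝟙 A)⁻¹ : A ⟶ A).left).obj L
  have hL'a : CohB1.IsAmple L' := AmpleVan.FiniteSurj.isAmple_pullback_of_isAffineHom _ hL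
  let S := CohB1.tensorMod L L'
  have hS : CohB1.IsAmple S := AmpleX.isAmple_tensor hL hL'a.1 fun x => by
    obtain ⟨-, -, hx⟩ := AmpleX.isAmple_iff.1 hL'a
    obtain ⟨m, hm, s, hxs, -⟩ := hx x
    obtain ⟨j, rfl⟩ := Nat.exists_eq_add_of_le' hm
    exact ⟨j, s, hxs⟩
  let P := CohB1.tensorMod L N
  have hP : PicF.IsInvertible P := PicMul.isInvertible_tensor hL.1 hN
  obtain ⟨m₀, hm₀⟩ := VAmpleX.eventually_veryAmple A.hom hS hP
  let M := CohB1.tensorMod (CohB1.tensorPow S m₀) P
  have hM : CohB1.IsAmple M := VAmpleX.isAmple_of_isRelVeryAmplePn A.hom (hm₀ m₀ le_rfl)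
  let n := 2 * m₀ + 1
  let ν : A ⟶ A := 𝟙 A ^ n
  haveI : IsFinite ν.left := AVMulN.isFinite_pow n (by omega)
  haveI : Surjective ν.left := AVMulN.surjective_pow n (by omega)
  letI : A.left.Over (Spec (CommRingCat.of k)) := ⟨A.hom⟩
  haveI : IsProper (A.left ↘ Spec (CommRingCat.of k)) := inferInstanceAs (IsProper A.hom)
  refine AmpleVan.FiniteSurj.isAmple_of_finite_surjective (A := k) ν.left hP ?_
  have hadd : ∀ f g : A ⟶ A, pc hN (f * g) = pc hN f * pc hN g := fun f g => by
    have h0 : pc hN μ[A] = pc hN (fst A A) * pc hN (snd A A) := Units.ext (by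
      rw [Units.val_mul, val_pc, val_pc, val_pc, ← PicMul.cl_tensor]
      exact (PicGrp.cl_eq_cl_iff _ _).2 ⟨e⟩)
    have h1 := congrArg (Units.map (PicMul.pullHom (lift f g).left : PicF.Cl (A ⊗ A).left →* PicF.Cl A.left)) h0
    rw [map_mul, pull_pc, pull_pc, pull_pc, lift_fst, lift_snd] at h1
    exact h1
  have hNn : ∀ j : ℕ, pc hN (𝟙 A ^ j) = pc hN (𝟙 A) ^ j := fun j => by
    induction j with
    | zero => rw [pow_zero, pow_zero, pc_one]
    | succ j ih => rw [pow_succ, pow_succ, hadd, ih]
  have hch : n.choose 2 = n * m₀ := by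
    rw [Nat.choose_two_right]
    refine Nat.div_eq_of_eq_mul_left two_pos ?_
    simp only [n, Nat.add_sub_cancel]
    ring
  refine AmpleX.isAmple_of_iso ((PicGrp.cl_eq_cl_iff _ _).1 ?_).some (AmpleX.isAmple_tensorPow hM (n := n) (by omega))
  symm
  calc PicF.cl ((Scheme.Modules.pullback ν.left).obj P)
      = (pc hL.1 ν * pc hN ν : (PicF.Cl A.left)ˣ).val := by
        rw [Units.val_mul, val_pc', val_pc']
        show PicF.pullCl ν.left (PicF.cl P) = _
        exact (congrArg (PicF.pullCl ν.left) (PicMul.cl_tensor L N)).trans (map_mul (PicMul.pullHom ν.left) (PicF.cl L) (PicF.cl N))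
    _ = PicF.cl (CohB1.tensorPow M n) := by
        simp only [ν, pc_pow', hNn, Units.val_mul, Units.val_pow_eq_pow_val, val_pc_id]
        simp only [val_pc, hch, M, P, S, L',
          PicMul.cl_tensorPow, PicMul.cl_tensor, mul_pow, ← pow_mul]
        rw [mul_comm m₀ n]
        ac_rfl

end Groth.Agent.S18369
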