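import Groth.Statements.S16685
import Groth.Agent.ComodLib.GradedAug
-- import your own Groth.Agent.* helpers here

set_option autoImplicit false
universe u
open HopfRep

namespace Groth.Agent.S16685

open Groth.Agent.ComodLib MvPolynomial

section
variable {k : Type u} [Field k] (p : ℕ) [Fact p.Prime] [CharP k p] {A : Type u} [CommRing A] [HopfAlgebra k A]
  [FiniteDimensional k A]

/-- The ideal of `p`-th powers of the augmentation ideal. -/
abbrev powIdeal : Ideal A :=
  Ideal.span ((fun a : A => a ^ p) '' (RingHom.ker (Bialgebra.counitAlgHom k A).toRingHom : Set A))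

theorem powIdeal_le : powIdeal (k := k) (A := A) p ≤ Cartier0.aug k A := by
  rw [Ideal.span_le]
  rintro _ ⟨a, ha, rfl⟩
  exact Ideal.pow_mem_of_mem _ ha _ (Nat.Prime.pos Fact.out)

theorem lieOp_pow_char (L : Cartier0.Tan k A) (a : A) : ∀ n : ℕ,
    Cartier0.lieOp L (a ^ (n + 1)) = (n + 1 : A) * a ^ n * Cartier0.lieOp L a := by
  intro n
  induction n with
  | zero => simp
  | succ m ih => rw [pow_succ, Cartier0.lieOp_mul, ih]; push_cast; ring

theorem lieOp_powIdeal (L : Cartier0.Tan k A) {u : A} (hu : u ∈ powIdeal (k := k) (A := A) p) :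
    Cartier0.lieOp L u ∈ powIdeal (k := k) (A := A) p := by
  induction hu using Submodule.span_induction with
  | mem u hu =>
    obtain ⟨a, ha, rfl⟩ := hu
    obtain ⟨m, hm⟩ : ∃ m, p = m + 1 := ⟨p - 1, by have := Nat.Prime.pos (Fact.out : p.Prime); omega⟩
    have hp0 : ((m + 1 : ℕ) : A) = 0 := by
      rw [← hm, ← map_natCast (algebraMap k A), CharP.cast_eq_zero, map_zero]
    show Cartier0.lieOp L (a ^ p) ∈ _
    rw [hm, lieOp_pow_char, show (m + 1 : A) = ((m + 1 : ℕ) : A) by push_cast; rfl, hp0, zero_mul, zero_mul]
    exact zero_mem _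
  | zero => simp
  | add a b _ _ ha hb => rw [map_add]; exact add_mem ha hb
  | smul r a ha0 ha =>
    rw [smul_eq_mul, Cartier0.lieOp_mul]
    exact add_mem (Ideal.mul_mem_left _ _ ha) (Ideal.mul_mem_right _ _ ha0)

variable {p} {d : ℕ} {x : Fin d → A} {L : Fin d → Cartier0.Tan k A} (hx : ∀ i, x i ∈ Cartier0.aug k A)
  (hdual : ∀ i j, (L i).1 (x j) = if i = j then 1 else 0)
  (hexp : ∀ y ∈ Cartier0.aug k A, y - ∑ i, (L i).1 y • x i ∈ Cartier0.aug k A ^ 2)

variable (p) in
include hx hdual in
theorem eq_zero_of_reduced_homogeneous (n : ℕ) : ∀ f : MvPolynomial (Fin d) k, f.IsHomogeneous n →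
    (∀ e ∈ f.support, ∀ i, e i < p) →
    aeval x f ∈ powIdeal (k := k) (A := A) p ⊔ Cartier0.aug k A ^ (n + 1) → f = 0 := by
  induction n with
  | zero =>
    intro f hf _ hmem
    rw [← totalDegree_zero_iff_isHomogeneous, totalDegree_eq_zero_iff_eq_C] at hf
    have hle : powIdeal (k := k) (A := A) p ⊔ Cartier0.aug k A ^ (0 + 1) ≤ Cartier0.aug k A :=
      sup_le (powIdeal_le p) (pow_one (Cartier0.aug k A)).le
    have h1 : aeval x f ∈ Cartier0.aug k A := hle hmem
    rw [hf, aeval_C, RingHom.mem_ker, AlgHom.commutes, Algebra.algebraMap_self_apply] at h1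
    rw [hf, h1, map_zero]
  | succ n ih =>
    intro f hf hred hmem
    have hder : ∀ i, pderiv i f = 0 := by
      intro i
      refine ih _ hf.pderiv (fun e he j => ?_) ?_
      · rw [mem_support_iff, coeff_pderiv] at he
        have h1 := hred _ (mem_support_iff.mpr (left_ne_zero_of_mul he)) j
        simp only [Finsupp.add_apply] at h1
        omega
      · obtain ⟨a, ha, b, hb, hab⟩ := Submodule.mem_sup.mp hmem
        have h1 : Cartier0.lieOp (L i) (aeval x f) ∈ powIdeal (k := k) (A := A) p ⊔ Cartier0.aug k A ^ (n + 1) := by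
          rw [← hab, map_add]
          exact Submodule.add_mem_sup (lieOp_powIdeal p (L i) ha) (GradedAug.lieOp_mem_pow (L i) (n + 1) _ hb)
        rw [GradedAug.lieOp_aeval] at h1
        have h2 : ∑ l, aeval x (pderiv l f) * (Cartier0.lieOp (L i) (x l) - if i = l then 1 else 0) ∈
            Cartier0.aug k A ^ (n + 1) := by
          refine Ideal.sum_mem _ fun l _ => ?_
          rw [pow_succ]
          refine Ideal.mul_mem_mul (GradedAug.aeval_mem_of_isHomogeneous hx hf.pderiv) ?_
          rw [RingHom.mem_ker, map_sub, GradedAug.counit_lieOp, hdual]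
          split <;> simp
        have h3 := Ideal.sub_mem _ h1 (Ideal.mem_sup_right h2)
        simpa [mul_sub, Finset.sum_sub_distrib] using h3
    ext e
    rw [coeff_zero]
    by_contra he
    have hdeg : e.degree = n + 1 := by
      by_contra hne
      exact he (hf.coeff_eq_zero hne)
    obtain ⟨i, hi⟩ : ∃ i, e i ≠ 0 := by
      by_contra hall
      push Not at hall
      rw [show e = 0 from Finsupp.ext hall] at hdeg
      simp at hdeg
    have h1 := congrArg (coeff (e - Finsupp.single i 1)) (hder i)
    rw [coeff_pderiv, coeff_zero, tsub_add_cancel_of_le (Finsupp.single_le_iff.mpr (Nat.one_le_iff_ne_zero.mpr hi))] at h1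
    have h2 : ((e i : ℕ) : k) = 0 := by
      have h3 : ((((e - Finsupp.single i 1 : Fin d →₀ ℕ)) i : ℕ) : k) + 1 = 0 := (mul_eq_zero.mp h1).resolve_left he
      rw [Finsupp.tsub_apply, Finsupp.single_eq_same, ← Nat.cast_add_one, Nat.sub_add_cancel (Nat.one_le_iff_ne_zero.mpr hi)] at h3
      exact h3
    have h4 : p ∣ e i := (CharP.cast_eq_zero_iff k p _).mp h2
    exact absurd (Nat.le_of_dvd (Nat.pos_of_ne_zero hi) h4) (by have := hred e (mem_support_iff.mpr he) i; omega)

include hx hdual in
theorem mem_span_of_aeval_mem {f : MvPolynomial (Fin d) k} (hred : ∀ e ∈ f.support, ∀ i, e i < p)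
    (hmem : aeval x f ∈ powIdeal (k := k) (A := A) p) : f = 0 := by
  have key : ∀ j, homogeneousComponent j f = 0 := by
    intro j
    induction j using Nat.strong_induction_on with
    | _ j ih =>
      refine eq_zero_of_reduced_homogeneous p hx hdual j _ (homogeneousComponent_isHomogeneous j f) (fun e he i => ?_) ?_
      · rw [mem_support_iff, coeff_homogeneousComponent] at he
        split at he
        · exact hred e (mem_support_iff.mpr he) i
        · exact absurd rfl he
      · have hsplit : f - homogeneousComponent j f =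
            ∑ l ∈ (Finset.range (f.totalDegree + 1)).erase j, homogeneousComponent l f := by
          by_cases hj : j ∈ Finset.range (f.totalDegree + 1)
          · have := Finset.add_sum_erase _ (fun l => homogeneousComponent l f) hj
            rw [sum_homogeneousComponent] at this
            rw [sub_eq_iff_eq_add', this]
          · rw [Finset.erase_eq_of_notMem hj, sum_homogeneousComponent,
              homogeneousComponent_eq_zero _ _ (by rw [Finset.mem_range] at hj; omega), sub_zero]
        have h1 : aeval x (f - homogeneousComponent j f) ∈ Cartier0.aug k A ^ (j + 1) := by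
          rw [hsplit, map_sum]
          refine Ideal.sum_mem _ fun l hl => ?_
          rcases Nat.lt_or_ge l (j + 1) with h | h
          · rw [ih l (by have := (Finset.mem_erase.mp hl).1; omega), map_zero]
            exact zero_mem _
          · exact Ideal.pow_le_pow_right h (GradedAug.aeval_mem_of_isHomogeneous hx (homogeneousComponent_isHomogeneous l f))
        have h2 := Ideal.sub_mem _ (Ideal.mem_sup_left hmem) (Ideal.mem_sup_right h1)
        rwa [map_sub, sub_sub_cancel] at h2
  rw [← sum_homogeneousComponent f]
  exact Finset.sum_eq_zero fun j _ => key j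

variable (p) in
include hx hdual hexp in
theorem frobKernelEquiv [IsLocalRing A] :
    Nonempty ((A ⧸ powIdeal (k := k) (A := A) p) ≃ₐ[k]
      (MvPolynomial (Fin d) k ⧸ Ideal.span (Set.range fun i : Fin d => (X i : MvPolynomial (Fin d) k) ^ p))) := by
  classical
  haveI : IsArtinianRing A := IsArtinianRing.of_finite k A
  let K := Ideal.span (Set.range fun i : Fin d => (X i : MvPolynomial (Fin d) k) ^ p)
  let π : (MvPolynomial (Fin d) k ⧸ K) →ₐ[k] A ⧸ powIdeal (k := k) (A := A) p :=
    Ideal.Quotient.liftₐ K ((Ideal.Quotient.mkₐ k _).comp (aeval x)) (by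
      intro a ha
      have h1 : K ≤ Ideal.comap (aeval x) (powIdeal (k := k) (A := A) p) := by
        rw [Ideal.span_le]
        rintro _ ⟨i, rfl⟩
        show aeval x ((X i : MvPolynomial (Fin d) k) ^ p) ∈ powIdeal (k := k) (A := A) p
        rw [map_pow, aeval_X]
        exact Ideal.subset_span ⟨x i, hx i, rfl⟩
      exact Ideal.Quotient.eq_zero_iff_mem.mpr (h1 ha))
  have hsurj : Function.Surjective π := by
    intro z
    obtain ⟨a, rfl⟩ := Ideal.Quotient.mk_surjective z
    obtain ⟨N, hN⟩ := IsArtinianRing.isNilpotent_jacobson_bot (R := A)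
    have hm : Cartier0.aug k A ≤ Ideal.jacobson ⊥ := by
      rw [IsLocalRing.jacobson_eq_maximalIdeal ⊥ bot_ne_top]
      exact IsLocalRing.le_maximalIdeal (RingHom.ker_ne_top _)
    obtain ⟨f, hf⟩ := RedSm.exists_poly (Bialgebra.counitAlgHom k A) x hx
      (fun y hy => ⟨fun i => (L i).1 y, hexp y hy⟩) N a
    refine ⟨Ideal.Quotient.mk K f, ?_⟩
    have h0 : a - aeval x f = 0 := by
      have := Ideal.pow_right_mono hm N hf
      rw [hN] at this
      exact this
    exact congrArg (Ideal.Quotient.mk _) (sub_eq_zero.mp h0).symm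
  have hinj : Function.Injective π := by
    rw [injective_iff_map_eq_zero]
    intro z hz
    obtain ⟨f, rfl⟩ := Ideal.Quotient.mk_surjective z
    let fr : MvPolynomial (Fin d) k := ∑ e ∈ f.support with ∀ i, e i < p, monomial e (coeff e f)
    have hfr : f - fr ∈ K := by
      rw [show f - fr = ∑ e ∈ f.support with ¬ ∀ i, e i < p, monomial e (coeff e f) by
        rw [sub_eq_iff_eq_add', Finset.sum_filter_add_sum_filter_not, ← as_sum]]
      refine Ideal.sum_mem _ fun e he => ?_
      obtain ⟨i, hi⟩ := not_forall.mp (Finset.mem_filter.mp he).2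
      rw [show e = Finsupp.single i p + (e - Finsupp.single i p) from
        (add_tsub_cancel_of_le (Finsupp.single_le_iff.mpr (by omega))).symm,
        ← one_mul (coeff _ f), ← monomial_mul]
      refine Ideal.mul_mem_right _ _ (Ideal.subset_span ⟨i, ?_⟩)
      show (X i : MvPolynomial (Fin d) k) ^ p = _
      rw [X_pow_eq_monomial]
    have hmem : aeval x fr ∈ powIdeal (k := k) (A := A) p := by
      refine Ideal.Quotient.eq_zero_iff_mem.mp ?_
      show π (Ideal.Quotient.mk K fr) = 0
      rw [show Ideal.Quotient.mk K fr = Ideal.Quotient.mk K f from (Ideal.Quotient.eq.mpr hfr).symm, hz]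
    have hred : ∀ e ∈ fr.support, ∀ i, e i < p := by
      intro e he
      rw [mem_support_iff, coeff_sum] at he
      obtain ⟨e', he', hne⟩ := Finset.exists_ne_zero_of_sum_ne_zero he
      rw [coeff_monomial] at hne
      split at hne
      · next h => exact h ▸ (Finset.mem_filter.mp he').2
      · exact absurd rfl hne
    have h0 := mem_span_of_aeval_mem hx hdual hred hmem
    rw [h0, sub_zero] at hfr
    exact Ideal.Quotient.eq_zero_iff_mem.mpr hfr
  exact ⟨(AlgEquiv.ofBijective π ⟨hinj, hsurj⟩).symm⟩

end

/-- The description of the kernel of Frobenius established in the course of the proof. Let k be a field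
of characteristic p > 0 and A a finite-dimensional commutative Hopf algebra over k which is a local
ring, the coordinate ring of a connected finite k-group scheme G; let I be the augmentation ideal
(the kernel of the counit), d = dim_k I/I² the dimension of the tangent space at the identity, and J
⊆ A the ideal generated by the p-th powers of the elements of I, so that A/J is the coordinate ring
of the kernel G[F] of the relative Frobenius. Then A/J is isomorphic as a k-algebra to k[X_1, …,
X_d]/(X_1^p, …, X_d^p) (existence of an isomorphism; it depends on the choice of elements of I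
lifting a basis of I/I²); in particular G[F] has rank p^d. -/
theorem result (k : Type u) [Field k] (p : ℕ) [Fact p.Prime] [CharP k p]
    (A : Type u) [CommRing A] [HopfAlgebra k A] [FiniteDimensional k A] [IsLocalRing A]
    (d : ℕ) (hd : Module.finrank k (RingHom.ker (Bialgebra.counitAlgHom k A).toRingHom).Cotangent = d) :
    Nonempty ((A ⧸ Ideal.span ((fun a : A => a ^ p) '' (RingHom.ker (Bialgebra.counitAlgHom k A).toRingHom : Set A))) ≃ₐ[k]
      (MvPolynomial (Fin d) k ⧸ Ideal.span (Set.range fun i : Fin d => (MvPolynomial.X i : MvPolynomial (Fin d) k) ^ p))) := by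
  obtain ⟨d', x, L, hx, hdual, hexp⟩ := GradedAug.exists_dual_coords (k := k) (A := A)
  have hd' : d' = d := by
    rw [← GradedAug.finrank_cotangent hx hdual hexp]
    exact hd
  subst hd'
  exact frobKernelEquiv p hx hdual hexp

end Groth.Agent.S16685
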