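import Groth.Statements.S4110
import Groth.Agent.S16685
import Mathlib.RingTheory.LocalRing.Module
import Mathlib.RingTheory.HopfAlgebra.TensorProduct

set_option autoImplicit false
universe u
open CategoryTheory MonoidalCategory CartesianMonoidalCategory MonObj GrpObj AlgebraicGeometry CategoryTheory.Limits
open SGA3

namespace Groth.Agent.S4110

open MvPolynomial TensorProduct Groth.Agent.ComodLib

section
variable (p : ℕ) {d : ℕ}

/-- A reduced exponent vector. -/
noncomputable def redExp (e : Fin d → Fin p) : Fin d →₀ ℕ :=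
  Finsupp.equivFunOnFinite.symm fun i => (e i : ℕ)

lemma redExp_injective : Function.Injective (redExp p (d := d)) := by
  intro a b h
  funext i
  exact Fin.ext (by simpa [redExp] using DFunLike.congr_fun h i)

variable (R : Type u) [CommRing R] {B : Type u} [CommRing B] [Algebra R B]

/-- The reduced polynomial with given coefficients. -/
noncomputable def redPoly : ((Fin d → Fin p) →₀ R) →ₗ[R] MvPolynomial (Fin d) R :=
  Finsupp.linearCombination R fun e => monomial (redExp p e) 1

variable {R}

lemma aeval_redPoly (x : Fin d → B) (l : (Fin d → Fin p) →₀ R) :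
    aeval x (redPoly p R l) = Finsupp.linearCombination R (fun e => ∏ i, x i ^ (e i : ℕ)) l := by
  induction l using Finsupp.induction_linear with
  | zero => simp
  | add a b ha hb => simp only [map_add, ha, hb]
  | single e c =>
    simp [redPoly, Finsupp.linearCombination_single, aeval_monomial, Algebra.smul_def, redExp,
      Finsupp.prod_fintype]

lemma redPoly_support (l : (Fin d → Fin p) →₀ R) :
    ∀ e ∈ (redPoly p R l).support, ∀ i, e i < p := by
  classical
  intro e he i
  rw [mem_support_iff, redPoly, Finsupp.linearCombination_apply, Finsupp.sum, coeff_sum] at he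
  obtain ⟨e', -, hne⟩ := Finset.exists_ne_zero_of_sum_ne_zero he
  rw [coeff_smul, coeff_monomial] at hne
  split at hne
  · next h => rw [← h]; simp [redExp]
  · simp at hne

lemma redPoly_injective : Function.Injective (redPoly p R (d := d)) := by
  classical
  rw [injective_iff_map_eq_zero]
  intro l hl
  ext e
  have h := congrArg (coeff (redExp p e)) hl
  rw [redPoly, Finsupp.linearCombination_apply, Finsupp.sum, coeff_sum, coeff_zero] at h
  simp only [coeff_smul, coeff_monomial, (redExp_injective p).eq_iff, smul_eq_mul, mul_ite,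
    mul_one, mul_zero, Finset.sum_ite_eq'] at h
  simpa using h

lemma exists_redPoly (f : MvPolynomial (Fin d) R) : ∃ l, f - redPoly p R l ∈
    Ideal.span (Set.range fun i : Fin d => (X i : MvPolynomial (Fin d) R) ^ p) := by
  classical
  induction f using MvPolynomial.induction_on' with
  | monomial e c =>
    by_cases he : ∀ i, e i < p
    · refine ⟨Finsupp.single (fun i => ⟨e i, he i⟩) c, ?_⟩
      have : redExp p (fun i => (⟨e i, he i⟩ : Fin p)) = e := by ext i; simp [redExp]
      simp [redPoly, Finsupp.linearCombination_single, this, smul_monomial]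
    · refine ⟨0, ?_⟩
      obtain ⟨i, hi⟩ := not_forall.mp he
      rw [map_zero, sub_zero,
        show e = Finsupp.single i p + (e - Finsupp.single i p) from
          (add_tsub_cancel_of_le (Finsupp.single_le_iff.mpr (by omega))).symm,
        ← one_mul c, ← monomial_mul]
      refine Ideal.mul_mem_right _ _ (Ideal.subset_span ⟨i, ?_⟩)
      show (X i : MvPolynomial (Fin d) R) ^ p = _
      rw [X_pow_eq_monomial]
  | add f g hf hg =>
    obtain ⟨a, ha⟩ := hf
    obtain ⟨b, hb⟩ := hg
    refine ⟨a + b, ?_⟩
    rw [map_add, add_sub_add_comm]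
    exact add_mem ha hb

lemma aeval_mem_span_eq_zero {x : Fin d → B} (hx : ∀ i, x i ^ p = 0)
    {f : MvPolynomial (Fin d) R}
    (hf : f ∈ Ideal.span (Set.range fun i : Fin d => (X i : MvPolynomial (Fin d) R) ^ p)) :
    aeval x f = 0 := by
  have h : Ideal.span (Set.range fun i : Fin d => (X i : MvPolynomial (Fin d) R) ^ p) ≤
      RingHom.ker (aeval (R := R) x) := by
    rw [Ideal.span_le]
    rintro _ ⟨i, rfl⟩
    simp [hx i]
  exact h hf

end


/-- (iv) ⟹ (ii), over a local base: let R be a local ring of prime characteristic p and A a commutative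
Hopf algebra over R which is of finite presentation and flat over R (an R-group G locally of finite
presentation and flat; finiteness is then a consequence) and of height ≤ 1: every element a of the
augmentation ideal satisfies a^p = 0 (the Frobenius of G is trivial). Then A is isomorphic as an
R-algebra to R[X₁, …, Xₙ]/(X₁^p, …, Xₙ^p) for some n (n is the rank of the conormal module ω_G,
which is free). -/
theorem result (p : ℕ) [Fact p.Prime] (R : Type u) [CommRing R]
    [IsLocalRing R] [CharP R p] (A : Type u) [CommRing A] [HopfAlgebra R A] [Algebra.FinitePresentation R A] [Module.Flat R A]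
    (h1 : ∀ a : A, Bialgebra.counitAlgHom R A a = 0 → a ^ p = 0) :
    ∃ n : ℕ, Nonempty (A ≃ₐ[R] (MvPolynomial (Fin n) R ⧸
      Ideal.span (Set.range fun i : Fin n => (MvPolynomial.X i : MvPolynomial (Fin n) R) ^ p))) := by
  classical
  have hp : p.Prime := Fact.out
  let ε : A →ₐ[R] R := Bialgebra.counitAlgHom R A
  haveI : Module.Finite R A := by
    haveI : Algebra.FiniteType R A := Algebra.FiniteType.of_finitePresentation
    haveI : Algebra.IsIntegral R A := ⟨fun a => by
      have h0 : IsIntegral R (a - algebraMap R A (ε a)) := by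
        refine ⟨Polynomial.X ^ p, Polynomial.monic_X_pow p, ?_⟩
        simp only [Polynomial.eval₂_X_pow]
        exact h1 _ (by simp [ε])
      simpa using h0.add (isIntegral_algebraMap (x := ε a))⟩
    exact Algebra.IsIntegral.finite
  let k := IsLocalRing.ResidueField R
  haveI : CharP k p := by
    refine (CharP.charP_iff_prime_eq_zero hp).mpr ?_
    rw [← map_natCast (IsLocalRing.residue R), CharP.cast_eq_zero, map_zero]
  let εk : k ⊗[R] A →ₐ[k] k := Bialgebra.counitAlgHom k (k ⊗[R] A)
  have hεinj : Function.Injective (algebraMap k (k ⊗[R] A)) := by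
    intro a b h
    have h' := congrArg εk h
    rwa [AlgHom.commutes, AlgHom.commutes] at h'
  haveI : CharP (k ⊗[R] A) p := charP_of_injective_algebraMap hεinj p
  haveI : ExpChar (k ⊗[R] A) p := ExpChar.prime hp
  have hεt : ∀ (c : k) (a : A), εk (c ⊗ₜ[R] a) = c * algebraMap R k (ε a) := by
    intro c a
    simp [εk, ε, Algebra.smul_def, mul_comm]
  have hpow : ∀ z : k ⊗[R] A, (z - algebraMap k (k ⊗[R] A) (εk z)) ^ p = 0 := by
    intro z
    induction z using TensorProduct.induction_on with
    | zero => simp [hp.ne_zero]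
    | add a b ha hb => rw [map_add, map_add, add_sub_add_comm, add_pow_char, ha, hb, add_zero]
    | tmul c a =>
      have h0 : (c ⊗ₜ[R] a : k ⊗[R] A) - algebraMap k (k ⊗[R] A) (εk (c ⊗ₜ[R] a)) =
          c ⊗ₜ[R] (a - algebraMap R A (ε a)) := by
        rw [hεt, TensorProduct.tmul_sub, Algebra.algebraMap_eq_smul_one (R := R) (A := A),
          ← TensorProduct.smul_tmul, Algebra.TensorProduct.algebraMap_apply, Algebra.smul_def,
          Algebra.algebraMap_self_apply, mul_comm]
      rw [h0, Algebra.TensorProduct.tmul_pow, h1 _ (by simp [ε]), TensorProduct.tmul_zero]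
  haveI : Nontrivial (k ⊗[R] A) := hεinj.nontrivial
  have haug : ∀ z ∈ Cartier0.aug k (k ⊗[R] A), z ^ p = 0 := by
    intro z hz
    have h : εk z = 0 := hz
    simpa [h] using hpow z
  haveI : IsLocalRing (k ⊗[R] A) := by
    refine IsLocalRing.of_isUnit_or_isUnit_one_sub_self fun z => ?_
    have hnil : IsNilpotent (z - algebraMap k (k ⊗[R] A) (εk z)) := ⟨p, hpow z⟩
    by_cases hz : εk z = 0
    · refine Or.inr (IsNilpotent.isUnit_one_sub ⟨p, haug z hz⟩)
    · refine Or.inl ?_
      have h := hnil.isUnit_add_left_of_commute ((isUnit_iff_ne_zero.mpr hz).map (algebraMap k (k ⊗[R] A))) (Commute.all _ _)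
      simpa using h
  haveI : IsArtinianRing (k ⊗[R] A) := IsArtinianRing.of_finite k _
  haveI : Algebra.FiniteType k (k ⊗[R] A) := inferInstance
  obtain ⟨d, xk, L, hxk, hdual, hexp⟩ := GradedAug.exists_dual_coords (k := k) (A := k ⊗[R] A)
  have hlift : ∀ i, ∃ a : A, (1 : k) ⊗ₜ[R] a = xk i ∧ ε a = 0 := by
    intro i
    obtain ⟨a, ha⟩ := TensorProduct.mk_surjective R A k Ideal.Quotient.mk_surjective (xk i)
    refine ⟨a - algebraMap R A (ε a), ?_, by simp [ε]⟩
    have h : εk (xk i) = 0 := hxk i
    change (1 : k) ⊗ₜ[R] a = xk i at ha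
    rw [← ha, hεt, _root_.one_mul] at h
    rw [TensorProduct.tmul_sub, ha, Algebra.algebraMap_eq_smul_one, TensorProduct.tmul_smul,
      TensorProduct.smul_tmul', ← Algebra.algebraMap_eq_smul_one, h, TensorProduct.zero_tmul,
      sub_zero]
  choose x hx1 hx0 using hlift
  have hxp : ∀ i, x i ^ p = 0 := fun i => h1 _ (hx0 i)
  have hxkp : ∀ i, xk i ^ p = 0 := fun i => haug _ (hxk i)
  let v : (Fin d → Fin p) → A := fun e => ∏ i, x i ^ (e i : ℕ)
  let vk : (Fin d → Fin p) → k ⊗[R] A := fun e => ∏ i, xk i ^ (e i : ℕ)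
  have hv : TensorProduct.mk R k A 1 ∘ v = vk := by
    funext e
    change (Algebra.TensorProduct.includeRight : A →ₐ[R] k ⊗[R] A) (∏ i, x i ^ (e i : ℕ)) = _
    simp [vk, map_prod, map_pow, hx1]
  have hbij : Function.Bijective (Finsupp.linearCombination k vk) := by
    refine ⟨(injective_iff_map_eq_zero _).mpr fun l hl => ?_, fun z => ?_⟩
    · refine redPoly_injective p ?_
      rw [map_zero]
      refine S16685.mem_span_of_aeval_mem hxk hdual (redPoly_support p l) ?_
      rw [aeval_redPoly, hl]
      exact zero_mem _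
    · obtain ⟨N, hN⟩ := IsArtinianRing.isNilpotent_jacobson_bot (R := k ⊗[R] A)
      have hm : Cartier0.aug k (k ⊗[R] A) ≤ Ideal.jacobson ⊥ := by
        rw [IsLocalRing.jacobson_eq_maximalIdeal ⊥ bot_ne_top]
        exact IsLocalRing.le_maximalIdeal (RingHom.ker_ne_top _)
      obtain ⟨f, hf⟩ := RedSm.exists_poly (Bialgebra.counitAlgHom k (k ⊗[R] A)) xk hxk
        (fun y hy => ⟨fun i => (L i).1 y, hexp y hy⟩) N z
      have h0 : z - aeval xk f = 0 := by
        have := Ideal.pow_right_mono hm N hf
        rw [hN] at this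
        exact this
      obtain ⟨l, hl⟩ := exists_redPoly p f
      refine ⟨l, ?_⟩
      rw [← aeval_redPoly, sub_eq_zero.mp h0, eq_comm, ← sub_eq_zero, ← map_sub]
      exact aeval_mem_span_eq_zero p hxkp hl
  have hbR : Function.Bijective (Finsupp.linearCombination R v) :=
    Module.IsLocalRing.linearCombination_bijective_of_flat v (by rw [hv]; exact hbij)
  let K : Ideal (MvPolynomial (Fin d) R) :=
    Ideal.span (Set.range fun i : Fin d => (MvPolynomial.X i : MvPolynomial (Fin d) R) ^ p)
  let π : (MvPolynomial (Fin d) R ⧸ K) →ₐ[R] A :=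
    Ideal.Quotient.liftₐ K (aeval x) fun a ha => aeval_mem_span_eq_zero p hxp ha
  have hπ : ∀ l, π (Ideal.Quotient.mk K (redPoly p R l)) = Finsupp.linearCombination R v l :=
    fun l => aeval_redPoly p x l
  have hred : ∀ q, ∃ l, Ideal.Quotient.mk K (redPoly p R l) = q := by
    intro q
    obtain ⟨f, rfl⟩ := Ideal.Quotient.mk_surjective q
    obtain ⟨l, hl⟩ := exists_redPoly p f
    exact ⟨l, (Ideal.Quotient.eq.mpr hl).symm⟩
  refine ⟨d, ⟨(AlgEquiv.ofBijective π ⟨?_, ?_⟩).symm⟩⟩
  · intro q q' h
    obtain ⟨l, rfl⟩ := hred q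
    obtain ⟨l', rfl⟩ := hred q'
    rw [hπ, hπ] at h
    rw [hbR.1 h]
  · intro a
    obtain ⟨l, hl⟩ := hbR.2 a
    exact ⟨_, (hπ l).trans hl⟩

end Groth.Agent.S4110
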