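import Groth.Statements.S16386
import Groth.Agent.AVTors.AntiEquiv

set_option autoImplicit false
set_option linter.style.haveILetI false
set_option backward.isDefEq.respectTransparency false
set_option backward.isDefEq.respectTransparency.types false
set_option maxHeartbeats 2000000
set_option synthInstance.maxHeartbeats 200000
universe u
open CategoryTheory MonoidalCategory CartesianMonoidalCategory MonObj GrpObj AlgebraicGeometry
open AbVar

namespace Groth.Agent.S16386

/-- (c₁) ⇒ (a₁): let k be a finite field with q elements and fix a polynomial P with integer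
coefficients. Work with abelian varieties over k (proper, geometrically integral commutative group
schemes over k) together with their q-Frobenius endomorphism π (the identity on points and the q-th
power map on sections; a homomorphism) such that P(π) = 0 in the endomorphism ring; for P the
product of the minimal polynomials of a finite set w of Weil q-numbers these are exactly the abelian
varieties with Weil support in w. Let A be such an abelian variety and suppose that every such Z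
admits finitely many homomorphisms ψ_1, …, ψ_n : Z → A which are jointly monomorphic (two T-valued
points of Z over k with the same image under every ψ_i are equal; equivalently (ψ_i) : Z → A^n is an
injective homomorphism). Then the functor X ↦ Hom(X, A), with values in left End(A)-modules (End(A)
acting by postcomposition), is fully faithful on these abelian varieties: for such X and Y, two
homomorphisms f, g : X → Y inducing the same map Hom(Y, A) → Hom(X, A) are equal, and every additive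
End(A)-linear map Hom(Y, A) → Hom(X, A) is precomposition with some homomorphism X → Y. -/
theorem result (k : Type u) [Field k] [Finite k]
    (P : Polynomial ℤ) (A : Over (Spec (CommRingCat.of k))) [GrpObj A] [IsCommMonObj A] [IsProper A.hom] [GeometricallyIntegral A.hom]
    (πA : A ⟶ A) [IsMonHom πA] (hπAb : πA.left.base = 𝟙 _)
    (hπAle : ∀ U : A.left.Opens, U ≤ πA.left ⁻¹ᵁ U)
    (hπAapp : ∀ (U : A.left.Opens) (s : Γ(A.left, U)), (πA.left.appLE U U (hπAle U)).hom s = s ^ Nat.card k)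
    (hPA : Polynomial.eval₂ (Int.castRingHom (EndAV.End A)) (EndAV.End.of πA) P = 0)
    (hcog : ∀ (Z : Over (Spec (CommRingCat.of k))) [GrpObj Z] [IsCommMonObj Z] [IsProper Z.hom] [GeometricallyIntegral Z.hom]
      (πZ : Z ⟶ Z) [IsMonHom πZ] (hπZb : πZ.left.base = 𝟙 _) (hπZle : ∀ U : Z.left.Opens, U ≤ πZ.left ⁻¹ᵁ U)
      (hπZapp : ∀ (U : Z.left.Opens) (s : Γ(Z.left, U)), (πZ.left.appLE U U (hπZle U)).hom s = s ^ Nat.card k)
      (hPZ : Polynomial.eval₂ (Int.castRingHom (EndAV.End Z)) (EndAV.End.of πZ) P = 0),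
      ∃ (n : ℕ) (ψ : Fin n → EndAV.Hom Z A), ∀ (T : Over (Spec (CommRingCat.of k))) (x y : T ⟶ Z),
        (∀ i, x ≫ (ψ i).toHom = y ≫ (ψ i).toHom) → x = y)
    (X Y : Over (Spec (CommRingCat.of k))) [GrpObj X] [IsCommMonObj X] [IsProper X.hom] [GeometricallyIntegral X.hom]
    [GrpObj Y] [IsCommMonObj Y] [IsProper Y.hom] [GeometricallyIntegral Y.hom]
    (πX : X ⟶ X) [IsMonHom πX] (hπXb : πX.left.base = 𝟙 _)
    (hπXle : ∀ U : X.left.Opens, U ≤ πX.left ⁻¹ᵁ U)
    (hπXapp : ∀ (U : X.left.Opens) (s : Γ(X.left, U)), (πX.left.appLE U U (hπXle U)).hom s = s ^ Nat.card k)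
    (hPX : Polynomial.eval₂ (Int.castRingHom (EndAV.End X)) (EndAV.End.of πX) P = 0)
    (πY : Y ⟶ Y) [IsMonHom πY] (hπYb : πY.left.base = 𝟙 _)
    (hπYle : ∀ U : Y.left.Opens, U ≤ πY.left ⁻¹ᵁ U)
    (hπYapp : ∀ (U : Y.left.Opens) (s : Γ(Y.left, U)), (πY.left.appLE U U (hπYle U)).hom s = s ^ Nat.card k)
    (hPY : Polynomial.eval₂ (Int.castRingHom (EndAV.End Y)) (EndAV.End.of πY) P = 0) :
    (∀ f g : EndAV.Hom X Y, (∀ φ : EndAV.Hom Y A, f ≫ φ = g ≫ φ) → f = g) ∧
      (∀ g : EndAV.Hom Y A →+ EndAV.Hom X A,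
        (∀ (φ : EndAV.Hom Y A) (s : EndAV.Hom A A), g (φ ≫ s) = g φ ≫ s) →
          ∃ f : EndAV.Hom X Y, ∀ φ : EndAV.Hom Y A, g φ = f ≫ φ) := by
  obtain ⟨n, ψ, hψ⟩ := hcog Y πY hπYb hπYle hπYapp hPY
  refine ⟨fun f g h => EndAV.Hom.ext (hψ X f.toHom g.toHom fun j => ?_), fun g hg => ?_⟩
  · exact congrArg EndAV.Hom.toHom (h (ψ j))
  obtain ⟨gx, hgx⟩ := Groth.Agent.AVTors.exists_dimNat X
  obtain ⟨ga, hga⟩ := Groth.Agent.AVTors.exists_dimNat A
  haveI : Module.Free ℤ (EndAV.Hom X A) := (Groth.Agent.AVHomLattice.free_finite (A := X) (B := A) hgx hga).1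
  obtain ⟨N, z, hN, hz⟩ := Groth.Agent.AVTors.AntiEquiv.exists_sum_eq ψ fun v hv => EndAV.Hom.ext <|
    hψ Y v.toHom 1 fun j => by
      rw [← EndAV.Hom.toHom_comp, hv j, MonObj.one_comp]
      rfl
  let f₀ : EndAV.Hom X Y := ∑ j, g (ψ j) ≫ z j
  have hf₀ : ∀ φ, f₀ ≫ φ = N • g φ := fun φ => by
    show (∑ j, g (ψ j) ≫ z j) ≫ φ = _
    rw [Preadditive.sum_comp]
    have h1 : N • φ = ∑ j, ψ j ≫ (z j ≫ φ) := by
      rw [← Category.id_comp φ, ← Preadditive.nsmul_comp, ← hz, Preadditive.sum_comp]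
      simp only [Category.id_comp, Category.assoc]
    rw [← map_nsmul, h1, map_sum]
    exact Finset.sum_congr rfl fun j _ => by rw [Category.assoc, hg]
  haveI : IsMonHom (𝟙 X ^ N : X ⟶ X) := Groth.Agent.AVDegLib.isMonHom_pow N
  haveI : Surjective (𝟙 X ^ N : X ⟶ X).left := by
    obtain ⟨-, -, h1⟩ := Groth.Agent.AVDegLib.zpow_props (A := X) (N : ℤ) (by exact_mod_cast (by omega : N ≠ 0))
    rwa [zpow_natCast] at h1
  obtain ⟨K', iK', i, him, hic, -, hik⟩ := Groth.Agent.GrpSchLib.exists_kernel (𝟙 X ^ N : X ⟶ X)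
  haveI := him
  have hi0 : i ≫ f₀.toHom = 1 := hψ K' _ _ fun j => by
    rw [Category.assoc, ← EndAV.Hom.toHom_comp, hf₀, EndAV.Hom.toHom_nsmul, MonObj.one_comp,
      show ((g (ψ j)).toHom ^ N) = (𝟙 X ^ N) ≫ (g (ψ j)).toHom by rw [MonObj.pow_comp, Category.id_comp],
      ← Category.assoc, hik.w, ← Hom.one_def, MonObj.one_comp]
  obtain ⟨f, hfm, hf⟩ := Groth.Agent.AVTors.ChowExist.exists_factor (𝟙 X ^ N : X ⟶ X) i hik f₀.toHom hi0
  haveI := hfm
  have hf' : N • EndAV.Hom.of f = f₀ := EndAV.Hom.ext (by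
    rw [EndAV.Hom.toHom_nsmul, EndAV.Hom.toHom_of, ← hf, MonObj.pow_comp, Category.id_comp])
  refine ⟨EndAV.Hom.of f, fun φ => ?_⟩
  refine smul_right_injective _ (show (N : ℤ) ≠ 0 by exact_mod_cast (by omega : N ≠ 0)) ?_
  show (N : ℤ) • g φ = (N : ℤ) • (EndAV.Hom.of f ≫ φ)
  rw [natCast_zsmul, natCast_zsmul, ← Preadditive.nsmul_comp, hf', hf₀]

end Groth.Agent.S16386
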