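import Groth.Statements.S16391
import Groth.Agent.AVTors.AntiEquivProd

set_option linter.style.haveILetI false
set_option backward.isDefEq.respectTransparency false
set_option backward.isDefEq.respectTransparency.types false
set_option maxHeartbeats 2000000
set_option synthInstance.maxHeartbeats 200000

set_option autoImplicit false
universe u
open CategoryTheory MonoidalCategory CartesianMonoidalCategory MonObj GrpObj AlgebraicGeometry
open AbVar

namespace Groth.Agent.S16391

/-- (c) ⇒ (a₂): let k be a finite field with q elements and fix a polynomial P with integer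
coefficients. Work with abelian varieties over k (proper, geometrically integral commutative group
schemes over k) together with their q-Frobenius endomorphism π (the identity on points, the q-th
power map on sections; a homomorphism) such that P(π) = 0 in the endomorphism ring (for suitable P:
the abelian varieties with Weil support in a given finite set of Weil q-numbers); let A be one of
them and S = End(A) (product = composition). Assume that A is an injective cogenerator: (c₁) every
such Z admits finitely many homomorphisms Z → A which are jointly monomorphic on T-valued points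
over k, and (c₂) for such X, Y and every homomorphism X → Y which is a closed immersion, the
restriction map Hom(Y, A) → Hom(X, A) is surjective. Then the functor X ↦ Hom(X, A) is essentially
surjective onto left S-modules that are free of finite rank over ℤ: for every such module M there
are such an abelian variety X (with its Frobenius and P(π_X) = 0) and an additive bijection M ≅
Hom(X, A) carrying the action of s ∈ S to postcomposition with s. -/
theorem result
    (k : Type u) [Field k] [Finite k]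
    (P : Polynomial ℤ) (A : Over (Spec (CommRingCat.of k))) [GrpObj A] [IsCommMonObj A] [IsProper A.hom] [GeometricallyIntegral A.hom]
    (πA : A ⟶ A) [IsMonHom πA] (hπAb : πA.left.base = 𝟙 _)
    (hπAle : ∀ U : A.left.Opens, U ≤ πA.left ⁻¹ᵁ U)
    (hπAapp : ∀ (U : A.left.Opens) (s : Γ(A.left, U)), (πA.left.appLE U U (hπAle U)).hom s = s ^ Nat.card k)
    (hPA : Polynomial.eval₂ (Int.castRingHom (EndAV.End A)) (EndAV.End.of πA) P = 0)
    (hcog : ∀ (Z : Over (Spec (CommRingCat.of k))) [GrpObj Z] [IsCommMonObj Z] [IsProper Z.hom] [GeometricallyIntegral Z.hom]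
      (πZ : Z ⟶ Z) [IsMonHom πZ] (hπZb : πZ.left.base = 𝟙 _) (hπZle : ∀ U : Z.left.Opens, U ≤ πZ.left ⁻¹ᵁ U)
      (hπZapp : ∀ (U : Z.left.Opens) (s : Γ(Z.left, U)), (πZ.left.appLE U U (hπZle U)).hom s = s ^ Nat.card k)
      (hPZ : Polynomial.eval₂ (Int.castRingHom (EndAV.End Z)) (EndAV.End.of πZ) P = 0),
      ∃ (n : ℕ) (ψ : Fin n → EndAV.Hom Z A), ∀ (T : Over (Spec (CommRingCat.of k))) (x y : T ⟶ Z),
        (∀ i, x ≫ (ψ i).toHom = y ≫ (ψ i).toHom) → x = y)
    (hext : ∀ (X Y : Over (Spec (CommRingCat.of k))) [GrpObj X] [IsCommMonObj X] [IsProper X.hom] [GeometricallyIntegral X.hom]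
      [GrpObj Y] [IsCommMonObj Y] [IsProper Y.hom] [GeometricallyIntegral Y.hom]
      (πX : X ⟶ X) [IsMonHom πX] (hπXb : πX.left.base = 𝟙 _) (hπXle : ∀ U : X.left.Opens, U ≤ πX.left ⁻¹ᵁ U)
      (hπXapp : ∀ (U : X.left.Opens) (s : Γ(X.left, U)), (πX.left.appLE U U (hπXle U)).hom s = s ^ Nat.card k)
      (hPX : Polynomial.eval₂ (Int.castRingHom (EndAV.End X)) (EndAV.End.of πX) P = 0)
      (πY : Y ⟶ Y) [IsMonHom πY] (hπYb : πY.left.base = 𝟙 _) (hπYle : ∀ U : Y.left.Opens, U ≤ πY.left ⁻¹ᵁ U)
      (hπYapp : ∀ (U : Y.left.Opens) (s : Γ(Y.left, U)), (πY.left.appLE U U (hπYle U)).hom s = s ^ Nat.card k)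
      (hPY : Polynomial.eval₂ (Int.castRingHom (EndAV.End Y)) (EndAV.End.of πY) P = 0)
      (φ : EndAV.Hom X Y) [IsClosedImmersion φ.toHom.left] (f : EndAV.Hom X A), ∃ g : EndAV.Hom Y A, φ ≫ g = f)
    (M : Type u) [AddCommGroup M] [Module (EndAV.End A) M] [Module.Finite ℤ M] [Module.Free ℤ M] :
    ∃ (X : Over (Spec (CommRingCat.of k))) (_ : GrpObj X) (_ : IsCommMonObj X) (_ : IsProper X.hom)
      (_ : GeometricallyIntegral X.hom) (πX : X ⟶ X) (_ : IsMonHom πX) (_ : πX.left.base = 𝟙 _)
      (hπXle : ∀ U : X.left.Opens, U ≤ πX.left ⁻¹ᵁ U)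
      (_ : ∀ (U : X.left.Opens) (s : Γ(X.left, U)), (πX.left.appLE U U (hπXle U)).hom s = s ^ Nat.card k)
      (_ : Polynomial.eval₂ (Int.castRingHom (EndAV.End X)) (EndAV.End.of πX) P = 0)
      (e : M ≃+ EndAV.Hom X A), ∀ (s : EndAV.End A) (m : M), (e (s • m)).toHom = (e m).toHom ≫ s.toHom := by
  obtain ⟨n, m, hm⟩ : ∃ (n : ℕ) (m : Fin n → M), Submodule.span ℤ (Set.range m) = ⊤ :=
    Module.Finite.exists_fin
  obtain ⟨B, iB, hBc, hBp, hBg, pr, inc, hsum, hd, ho⟩ := Groth.Agent.AVTors.AntiEquiv.exists_power A n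
  letI := iB
  haveI := hBc
  haveI := hBp
  haveI := hBg
  obtain ⟨πB, hπBm, hπBle, hπBb, hπBapp⟩ := Groth.Agent.AVFrobExists.exists_frob B
  haveI := hπBm
  have hPB : Polynomial.eval₂ (Int.castRingHom (EndAV.End B)) (EndAV.End.of πB) P = 0 := by
    show (show EndAV.Hom B B from (Polynomial.eval₂ (Int.castRingHom (EndAV.End B)) (EndAV.End.of πB) P : EndAV.End B)) = 0
    refine (Category.comp_id _).symm.trans ?_
    rw [← hsum, Preadditive.comp_sum]
    refine Finset.sum_eq_zero fun i _ => ?_
    rw [← Category.assoc, Groth.Agent.AVTors.AntiEquiv.frob_eval πB hπBle hπBapp πA hπAle hπAapp (pr i) P, hPA]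
    exact (congrArg (fun z => z ≫ inc i) Limits.comp_zero).trans Limits.zero_comp
  let co : EndAV.Hom B A → Fin n → EndAV.End A := fun g i => inc i ≫ g
  let φ : EndAV.Hom B A →+ M :=
    { toFun := fun g => ∑ i, co g i • m i
      map_zero' := Finset.sum_eq_zero fun i _ => by
        rw [show co 0 i = 0 from Limits.comp_zero, zero_smul]
      map_add' := fun a b => by
        rw [← Finset.sum_add_distrib]
        refine Finset.sum_congr rfl fun i _ => ?_
        rw [show co (a + b) i = co a i + co b i from Preadditive.comp_add _ _ _ _ _ _, add_smul] }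
  have hφs : ∀ (g : EndAV.Hom B A) (s : EndAV.End A), φ (g ≫ s) = s • φ g := by
    intro g s
    show ∑ i, co (g ≫ s) i • m i = s • ∑ i, co g i • m i
    rw [Finset.smul_sum]
    refine Finset.sum_congr rfl fun i _ => ?_
    rw [smul_smul]
    exact congrArg (· • m i) (Category.assoc _ _ _).symm
  have hφc : ∀ j (s : EndAV.End A), φ (pr j ≫ s) = s • m j := by
    intro j s
    show ∑ i, co (pr j ≫ s) i • m i = s • m j
    refine (Finset.sum_eq_single j (fun i _ hij => ?_) (fun h => absurd (Finset.mem_univ j) h)).trans ?_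
    · rw [show co (pr j ≫ s) i = 0 from
        ((Category.assoc _ _ _).symm.trans (congrArg (· ≫ s) (ho i j hij))).trans Limits.zero_comp, zero_smul]
    · exact congrArg (· • m j) (((Category.assoc _ _ _).symm.trans (congrArg (· ≫ s) (hd j))).trans
        (Category.id_comp _))
  have hφsurj : Function.Surjective φ := by
    intro x
    obtain ⟨c, hc⟩ := (Submodule.mem_span_range_iff_exists_fun ℤ).1
      (hm ▸ Submodule.mem_top : x ∈ Submodule.span ℤ (Set.range m))
    refine ⟨∑ j, pr j ≫ (c j : EndAV.End A), ?_⟩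
    rw [map_sum, ← hc]
    refine Finset.sum_congr rfl fun j _ => ?_
    rw [hφc, Int.cast_smul_eq_zsmul]
  obtain ⟨g₁, hg₁⟩ := Groth.Agent.AVTors.exists_dimNat B
  obtain ⟨g₂, hg₂⟩ := Groth.Agent.AVTors.exists_dimNat A
  obtain ⟨-, hfin, -⟩ := Groth.Agent.AVHomLattice.free_finite (A := B) (B := A) hg₁ hg₂
  haveI := hfin
  haveI : IsNoetherian ℤ (EndAV.Hom B A) := inferInstance
  obtain ⟨r, ψ, hψ⟩ : ∃ (r : ℕ) (ψ : Fin r → EndAV.Hom B A),
      Submodule.span ℤ (Set.range ψ) = LinearMap.ker φ.toIntLinearMap :=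
    Submodule.fg_iff_exists_fin_generating_family.1 (IsNoetherian.noetherian _)
  have hψ0 : ∀ i, φ (ψ i) = 0 := fun i =>
    LinearMap.mem_ker.1 (hψ ▸ Submodule.subset_span ⟨i, rfl⟩ : ψ i ∈ LinearMap.ker φ.toIntLinearMap)
  obtain ⟨C, iC, hCc, hCp, hCg, pr', inc', -, hd', ho'⟩ := Groth.Agent.AVTors.AntiEquiv.exists_power A r
  letI := iC
  haveI := hCc
  haveI := hCp
  haveI := hCg
  let α : EndAV.Hom B C := ∑ i, ψ i ≫ inc' i
  obtain ⟨y, N, hN, hy⟩ := Groth.Agent.AVTors.AntiEquiv.exists_reg α
  let e : EndAV.Hom B B := N • 𝟙 (CommGrp.mk B) - α ≫ y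
  have hαpr : ∀ i, α ≫ pr' i = ψ i := by
    intro i
    rw [Preadditive.sum_comp]
    refine (Finset.sum_eq_single i (fun j _ hji => ?_) (fun h => absurd (Finset.mem_univ i) h)).trans ?_
    · rw [Category.assoc, ho' j i hji, Limits.comp_zero]
    · rw [Category.assoc, hd', Category.comp_id]
  have heα : e ≫ α = 0 := by
    rw [Preadditive.sub_comp, Category.assoc, hy, Preadditive.nsmul_comp, Category.id_comp, sub_self]
  obtain ⟨X, iX, hXc, hXp, hXg, j, e', hjc, hes, hej⟩ := Groth.Agent.AVTors.AntiEquiv.exists_hom_image e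
  letI := iX
  haveI := hXc
  haveI := hXp
  haveI := hXg
  haveI := hjc
  haveI := hes
  obtain ⟨πX, hπXm, hπXle, hπXb, hπXapp⟩ := Groth.Agent.AVFrobExists.exists_frob X
  haveI := hπXm
  haveI : Mono j.toHom := Over.mono_of_mono_left j.toHom
  have hPX : Polynomial.eval₂ (Int.castRingHom (EndAV.End X)) (EndAV.End.of πX) P = 0 := by
    have h := Groth.Agent.AVTors.AntiEquiv.frob_eval πX hπXle hπXapp πB hπBle hπBapp j P
    rw [hPB] at h
    apply EndAV.End.ext
    rw [EndAV.End.toHom_zero, ← cancel_mono j.toHom, MonObj.one_comp]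
    exact (congrArg EndAV.Hom.toHom (h.trans Limits.comp_zero)).trans rfl
  let ρ : EndAV.Hom B A →+ EndAV.Hom X A :=
    { toFun := fun g => j ≫ g
      map_zero' := Limits.comp_zero
      map_add' := fun a b => Preadditive.comp_add _ _ _ _ _ _ }
  have hρsurj : Function.Surjective ρ := fun f =>
    hext X B πX hπXb hπXle hπXapp hPX πB hπBb hπBle hπBapp hPB j f
  have hker : ρ.ker = φ.ker := by
    ext g
    show j ≫ g = 0 ↔ φ g = 0
    constructor
    · intro hg
      have h1 : N • g = ∑ i, ψ i ≫ (show EndAV.End A from inc' i ≫ y ≫ g) := by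
        have h2 : e ≫ g = 0 := by rw [← hej, Category.assoc, hg, Limits.comp_zero]
        rw [Preadditive.sub_comp, sub_eq_zero, Preadditive.nsmul_comp, Category.id_comp] at h2
        rw [h2, Category.assoc, Preadditive.sum_comp]
        exact Finset.sum_congr rfl fun i _ => Category.assoc _ _ _
      have h3 := congrArg φ h1
      rw [map_nsmul, map_sum, Finset.sum_eq_zero (fun i _ => by rw [hφs, hψ0, smul_zero]),
        ← natCast_zsmul, smul_eq_zero] at h3
      exact h3.resolve_left (by exact_mod_cast hN.ne')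
    · intro hg
      refine Groth.Agent.AVTors.AntiEquiv.epi_hom e' ?_
      rw [← Category.assoc, hej, Limits.comp_zero]
      have hmem : g ∈ Submodule.span ℤ (Set.range ψ) := hψ ▸ LinearMap.mem_ker.2 hg
      clear hg
      induction hmem using Submodule.span_induction with
      | mem x hx =>
        obtain ⟨i, rfl⟩ := hx
        rw [← hαpr i, ← Category.assoc, heα, Limits.zero_comp]
      | zero => exact Limits.comp_zero
      | add a b _ _ ha hb => rw [Preadditive.comp_add, ha, hb, add_zero]
      | smul c a _ ha => rw [Preadditive.comp_zsmul, ha, smul_zero]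
  let eM : M ≃+ EndAV.Hom X A :=
    (QuotientAddGroup.quotientKerEquivOfSurjective φ hφsurj).symm.trans
      ((QuotientAddGroup.quotientAddEquivOfEq hker.symm).trans (QuotientAddGroup.quotientKerEquivOfSurjective ρ hρsurj))
  have heM : ∀ g, eM (φ g) = ρ g := by
    intro g
    have h : (QuotientAddGroup.quotientKerEquivOfSurjective φ hφsurj).symm (φ g) = (g : EndAV.Hom B A ⧸ φ.ker) :=
      (AddEquiv.symm_apply_eq _).2 rfl
    simp only [eM, AddEquiv.trans_apply, h]
    rfl
  refine ⟨X, iX, hXc, hXp, hXg, πX, hπXm, hπXb, hπXle, hπXapp, hPX, eM, fun s x => ?_⟩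
  obtain ⟨g, rfl⟩ := hφsurj x
  rw [← hφs, heM, heM]
  exact (Category.assoc j.toHom g.toHom s.toHom).symm

end Groth.Agent.S16391
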