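import Groth.Statements.S14444
import Groth.Agent.CohPullX.DegreeZero
import Groth.Agent.KFlatLib.Scheme.RpushQCoh

set_option autoImplicit false
universe u
open Coherent

namespace Groth.Agent.S14444

open AlgebraicGeometry CategoryTheory Scheme.Modules in
/-- Let η : Y → V be a proper morphism of finite presentation and L a quasi-coherent O_Y-module of
finite presentation, flat over V, with H^1(Y_v, L_v) = 0 for every point v of V (cohomology of the
restriction of L to the fibre Y_v). Then η_* L is finite locally free, and for every cartesian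
square with vertex X = U ×_V Y, projections f : X → Y and ζ : X → U, over a morphism φ : U → V, the
base change map φ^* η_* L → ζ_* f^* L — the map adjoint to η_*(ρ) : η_* L → η_* f_* f^* L = φ_* ζ_*
f^* L, where ρ : L → f_* f^* L is the unit — is an isomorphism. -/
theorem result {Y V : Scheme.{u}} (η : Y ⟶ V)
    [IsProper η] [LocallyOfFinitePresentation η] (L : Y.Modules) [Coh.IsQCoh L] (hfp : CohB1.IsFP L)
    (hfl : FlatMod.IsFlatOver η L) (h1 : ∀ v : V, Subsingleton (CohIII.fiberH η L v 1)) :
    FlatMod.IsFinLocFree ((pushforward η).obj L) ∧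
      ∀ ⦃X U : Scheme.{u}⦄ (f : X ⟶ Y) (ζ : X ⟶ U) (φ : U ⟶ V) (h : IsPullback f ζ η φ),
        IsIso (((pullbackPushforwardAdjunction φ).homEquiv ((pushforward η).obj L)
            ((pushforward ζ).obj ((pullback f).obj L))).symm
          ((pushforward η).map ((pullbackPushforwardAdjunction f).unit.app L) ≫
            (pushforwardComp f η).hom.app ((pullback f).obj L) ≫
            (pushforwardCongr h.w).hom.app ((pullback f).obj L) ≫
            (pushforwardComp ζ φ).inv.app ((pullback f).obj L))) := by
  haveI : HasInjectiveResolutions Y.Modules := Groth.Agent.KFlatLib.hasInjectiveResolutions_modules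
  haveI := SpObjSS.enoughInjectives_of_hasInjectiveResolutions (C := Y.Modules)
  haveI := Groth.Agent.QCoh.preservesFiniteLimits_push η
  refine ⟨fun y => ?_, fun X U f ζ φ h => ?_⟩
  · obtain ⟨W, hW, ⟨e⟩⟩ := Groth.Agent.CohPullX.exists_free_of_neighbours hfp hfl y 0 (h1 y)
      (fun j hj => absurd hj (Nat.succ_ne_zero j))
    exact ⟨W, _, hW, ⟨(Scheme.Modules.restrictFunctor W.ι).mapIso
      ((Scheme.Modules.pushforward η).rightDerivedZeroIsoSelf.app L).symm ≪≫ e⟩⟩
  · refine Groth.Agent.CohPullX.isIso_bc0_of_hasKerBC h ‹Coh.IsQCoh L› fun x => ?_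
    exact Groth.Agent.CohPullX.exists_kerBC_nhd_of_H1_zero hfp hfl (φ x) (h1 _)

end Groth.Agent.S14444
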