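import Groth.Statements.S4806
import Mathlib.AlgebraicGeometry.ZariskisMainTheorem
import Mathlib.AlgebraicGeometry.Fiber
import Mathlib.AlgebraicGeometry.Morphisms.ClosedImmersion
import Mathlib.RingTheory.LocalRing.Module

set_option autoImplicit false
universe u
open CategoryTheory AlgebraicGeometry
open Lim8

namespace Groth.Agent.S4806

/-- Let f : X ⟶ Y be a proper morphism of finite presentation. Then f is a closed immersion if and only
if, for every point y of Y, the scheme-theoretic fibre of f at y is empty or its structure morphism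
to Spec κ(y) is an isomorphism. -/
theorem result {X Y : Scheme.{u}} (f : X ⟶ Y) [IsProper f]
    [LocallyOfFinitePresentation f] :
    IsClosedImmersion f ↔ ∀ y : Y, IsEmpty (f.fiber y) ∨ IsIso (f.fiberToSpecResidueField y) := by
  have hcl : ∀ y, (IsEmpty (f.fiber y) ∨ IsIso (f.fiberToSpecResidueField y)) ↔
      IsClosedImmersion (f.fiberToSpecResidueField y) := by
    intro y
    refine ⟨fun h => ?_, fun h => ?_⟩
    · rcases h with h | h <;> infer_instance
    · rcases isEmpty_or_nonempty (f.fiber y) with he | ⟨⟨x⟩⟩
      · exact Or.inl he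
      · haveI : Surjective (f.fiberToSpecResidueField y) := ⟨fun z => ⟨x, Subsingleton.elim (α := PrimeSpectrum _) _ _⟩⟩
        exact Or.inr (isIso_of_isClosedImmersion_of_surjective _)
  simp only [hcl]
  refine ⟨fun h y => haveI := h; inferInstanceAs (IsClosedImmersion (Limits.pullback.snd f (Y.fromSpecResidueField y))), fun h => ?_⟩
  haveI : LocallyQuasiFinite f := LocallyQuasiFinite.of_fiberToSpecResidueField f fun y => haveI := h y; inferInstance
  haveI : IsFinite f := IsFinite.of_isProper_of_locallyQuasiFinite f
  have transfer : ∀ {P Q : Scheme.{u}} (q : P ⟶ Q) (a : P ⟶ X) (b : Q ⟶ Y), IsPullback a q f b →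
      ∀ z, IsClosedImmersion (q.fiberToSpecResidueField z) := fun q a b hP z =>
    MorphismProperty.of_isPullback (isPullback_fiberToSpecResidueField_of_isPullback hP z) (h (b z))
  have affine_case : ∀ {P : Scheme.{u}} [IsAffine P] {R : CommRingCat.{u}} (q : P ⟶ Spec R) [IsFinite q],
      (∀ z, IsClosedImmersion (q.fiberToSpecResidueField z)) → IsClosedImmersion q := by
    intro P _ R q _ hq
    let φ : R ⟶ Γ(P, ⊤) := Spec.preimage (P.isoSpec.inv ≫ q)
    have hφ : Spec.map φ = P.isoSpec.inv ≫ q := Spec.map_preimage _
    algebraize [φ.hom]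
    haveI : IsFinite (Spec.map φ) := by rw [hφ]; infer_instance
    haveI : Module.Finite R Γ(P, ⊤) := (IsFinite.SpecMap_iff φ).1 inferInstance
    have hsurj : Function.Surjective φ := by
      let M := Γ(P, ⊤) ⧸ LinearMap.range (Algebra.linearMap R Γ(P, ⊤))
      have h0 : Module.support R M = ∅ := by
        refine Set.eq_empty_iff_forall_notMem.2 fun p hp => ?_
        rw [Module.mem_support_iff_nontrivial_residueField_tensorProduct] at hp
        have hpull : IsPullback P.isoSpec.inv (Spec.map φ) q (𝟙 _) := IsPullback.of_horiz_isIso ⟨by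
          rw [hφ, Category.comp_id]⟩
        haveI hc : IsClosedImmersion ((Spec.map (CommRingCat.ofHom (algebraMap R Γ(P, ⊤)))).fiberToSpecResidueField p) :=
          MorphismProperty.of_isPullback (isPullback_fiberToSpecResidueField_of_isPullback hpull p) (hq _)
        have hc' : IsClosedImmersion (Spec.map (CommRingCat.ofHom
            (algebraMap p.asIdeal.ResidueField (p.asIdeal.Fiber Γ(P, ⊤))))) :=
          (MorphismProperty.arrow_mk_iso_iff @IsClosedImmersion (Spec.fiberToSpecResidueFieldIso R Γ(P, ⊤) p)).1 hc
        have hs : Function.Surjective (algebraMap p.asIdeal.ResidueField (p.asIdeal.Fiber Γ(P, ⊤))) := by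
          have h2 := (isClosedImmersion_iff_isAffineHom.1 hc').2 ⊤ (isAffineOpen_top _)
          intro b
          obtain ⟨r, hr⟩ := h2 ((Scheme.ΓSpecIso _).inv b)
          refine ⟨(Scheme.ΓSpecIso _).hom r, ?_⟩
          have := congr(($(Scheme.ΓSpecIso_naturality (CommRingCat.ofHom (algebraMap p.asIdeal.ResidueField (p.asIdeal.Fiber Γ(P, ⊤)))))).hom r)
          refine (this : _).symm.trans ?_
          refine (congrArg (Scheme.ΓSpecIso _).hom hr).trans ?_
          exact congr(($(Iso.inv_hom_id (Scheme.ΓSpecIso (CommRingCat.of (p.asIdeal.Fiber Γ(P, ⊤)))))).hom b)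
        refine not_subsingleton_iff_nontrivial.2 hp ⟨fun a b => ?_⟩
        suffices hz : ∀ t : TensorProduct R p.asIdeal.ResidueField M, t = 0 by rw [hz a, hz b]
        intro t
        obtain ⟨s, rfl⟩ := LinearMap.lTensor_surjective p.asIdeal.ResidueField
          (Submodule.mkQ_surjective (LinearMap.range (Algebra.linearMap R Γ(P, ⊤)))) t
        obtain ⟨c, hc⟩ := hs s
        rw [← hc]
        show LinearMap.lTensor _ _ (TensorProduct.tmul R c (1 : Γ(P, ⊤))) = 0
        rw [LinearMap.lTensor_tmul, (Submodule.mkQ_apply _ _), (Submodule.Quotient.mk_eq_zero (LinearMap.range (Algebra.linearMap R Γ(P, ⊤)))).2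
          ⟨1, map_one (algebraMap R Γ(P, ⊤))⟩, TensorProduct.tmul_zero]
      haveI : Subsingleton M := Module.support_eq_empty_iff.1 h0
      intro b
      exact (Submodule.Quotient.mk_eq_zero _).1 (Subsingleton.elim (Submodule.Quotient.mk b : M) 0)
    haveI := IsClosedImmersion.spec_of_surjective φ hsurj
    have : IsClosedImmersion (P.isoSpec.hom ≫ Spec.map φ) := inferInstance
    rwa [hφ, Iso.hom_inv_id_assoc] at this
  rw [IsZariskiLocalAtTarget.iff_of_openCover (P := @IsClosedImmersion) Y.affineCover]
  intro i
  have hfin : IsFinite (Limits.pullback.snd f (Y.affineCover.f i)) := inferInstance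
  haveI := hfin
  haveI : IsAffine (Limits.pullback f (Y.affineCover.f i)) := isAffine_of_isAffineHom (Limits.pullback.snd f (Y.affineCover.f i))
  exact @affine_case _ ‹_› _ (Limits.pullback.snd f (Y.affineCover.f i)) hfin
    (transfer _ _ _ (IsPullback.of_hasPullback f (Y.affineCover.f i)))

end Groth.Agent.S4806
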