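import Groth.Statements.S10867
import Mathlib

set_option autoImplicit false
universe u
open Mor

set_option backward.isDefEq.respectTransparency false
set_option backward.isDefEq.respectTransparency.types false
namespace Groth.Agent.S10867

theorem surjective_of_forall_maximal {A B : Type*} [CommRing A] [CommRing B] [Algebra A B] [Module.Finite A B]
    (h : ∀ m : Ideal A, m.IsMaximal → ∀ b : B, ∃ a, b - algebraMap A B a ∈ m.map (algebraMap A B)) :
    Function.Surjective (algebraMap A B) := by
  let R := LinearMap.range (Algebra.linearMap A B)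
  let N := B ⧸ R
  have hN : ∀ m : Ideal A, m.IsMaximal → (⊤ : Submodule A N) ≤ m • ⊤ := by
    intro m hm z _
    obtain ⟨b, rfl⟩ := R.mkQ_surjective z
    obtain ⟨a, ha⟩ := h m hm b
    have h1 : (b - algebraMap A B a : B) ∈ m • (⊤ : Submodule A B) := by
      rw [Ideal.smul_top_eq_map]; exact ha
    have h2 := Submodule.mem_map_of_mem (f := R.mkQ) h1
    rw [Submodule.map_smul'', Submodule.map_top, Submodule.range_mkQ, map_sub] at h2
    have h3 : R.mkQ (algebraMap A B a) = 0 :=
      (Submodule.Quotient.mk_eq_zero R).2 ⟨a, rfl⟩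
    rwa [h3, sub_zero] at h2
  intro b
  have key : (Module.annihilator A N) = ⊤ := by
    by_contra hne
    obtain ⟨m, hm, hle⟩ := Ideal.exists_le_maximal _ hne
    obtain ⟨r, hr, hr'⟩ := Submodule.exists_sub_one_mem_and_smul_eq_zero_of_fg_of_le_smul m ⊤
      (Module.Finite.fg_top (R := A) (M := N)) (hN m hm)
    have : r ∈ m := hle (Module.mem_annihilator.2 fun n => hr' n trivial)
    exact hm.ne_top ((Ideal.eq_top_iff_one _).2 (by simpa using m.sub_mem this hr))
  have h4 := Module.mem_annihilator.1 (key ▸ (Submodule.mem_top : (1 : A) ∈ ⊤)) (R.mkQ b)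
  rw [one_smul] at h4
  obtain ⟨a, ha⟩ := (Submodule.Quotient.mk_eq_zero R).1 h4
  exact ⟨a, ha⟩

open IsLocalRing in
/-- Locally at a maximal ideal: if `I` together with the square generates it, then `I` does. -/
theorem exists_mul_mem {B O : Type*} [CommRing B] [CommRing O] [IsLocalRing O] [Algebra B O]
    (n : Ideal B) [n.IsPrime] [IsLocalization.AtPrime O n] [IsNoetherianRing O] (I : Ideal B)
    (h : I.map (algebraMap B O) ⊔ maximalIdeal O ^ 2 = maximalIdeal O) {b : B} (hb : b ∈ n) :
    ∃ t ∉ n, b * t ∈ I := by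
  have hle : maximalIdeal O ≤ I.map (algebraMap B O) := by
    refine Submodule.le_of_le_smul_of_le_jacobson_bot (IsNoetherian.noetherian _)
      (maximalIdeal_le_jacobson ⊥) ?_
    rw [smul_eq_mul, ← pow_two, h]
  have hb' : algebraMap B O b ∈ maximalIdeal O := by
    rw [← IsLocalization.AtPrime.map_eq_maximalIdeal n O]; exact Ideal.mem_map_of_mem _ hb
  obtain ⟨⟨z, s⟩, hzs⟩ := (IsLocalization.mem_map_algebraMap_iff n.primeCompl O).1 (hle hb')
  rw [← map_mul] at hzs
  obtain ⟨c, hc⟩ := (IsLocalization.eq_iff_exists n.primeCompl O).1 hzs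
  refine ⟨s * c, n.primeCompl.mul_mem s.2 c.2, ?_⟩
  rw [← mul_assoc, mul_comm _ (c : B), hc]
  exact I.mul_mem_left _ z.2

open CategoryTheory AlgebraicGeometry in
theorem surjective_app (k : Type u) [Field k] [IsAlgClosed k] {X Y : Scheme.{u}} (f : X ⟶ Y) [IsFinite f]
    (q : Y ⟶ Spec (CommRingCat.of k)) [LocallyOfFiniteType q] [LocallyOfFiniteType (f ≫ q)]
    [JacobsonSpace X] [JacobsonSpace Y] (V : Y.Opens) (hV : IsAffineOpen V)
    (hfib : ∀ y : Y, IsClosed ({y} : Set Y) → (f ⁻¹' {y}).Subsingleton)
    (hT : ∀ x : X, IsClosed ({x} : Set X) →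
      Ideal.map (f.stalkMap x).hom (IsLocalRing.maximalIdeal (Y.presheaf.stalk (f.base x))) ⊔
        IsLocalRing.maximalIdeal (X.presheaf.stalk x) ^ 2 = IsLocalRing.maximalIdeal (X.presheaf.stalk x)) :
    Function.Surjective (f.app V).hom := by
  let W := f ⁻¹ᵁ V
  have hW : IsAffineOpen W := hV.preimage f
  let A := Γ(Y, V)
  let B := Γ(X, W)
  letI : Algebra A B := (f.app V).hom.toAlgebra
  haveI : Module.Finite A B := IsFinite.finite_app f V hV
  refine surjective_of_forall_maximal fun m hm b => ?_
  let I := m.map (algebraMap A B)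
  by_cases hI : I = ⊤
  · exact ⟨0, by show b - algebraMap A B 0 ∈ I; rw [hI]; trivial⟩
  obtain ⟨n, hn, hIn⟩ := Ideal.exists_le_maximal _ hI
  have hcomap : n.comap (algebraMap A B) = m :=
    (hm.eq_of_le (Ideal.comap_ne_top _ hn.ne_top) (Ideal.map_le_iff_le_comap.1 hIn)).symm
  have hpt : ∀ (Z : Scheme.{u}) [JacobsonSpace Z] (U : Z.Opens) (hU : IsAffineOpen U)
      (p : PrimeSpectrum Γ(Z, U)), p.asIdeal.IsMaximal → IsClosed ({hU.fromSpec p} : Set Z) := by
    intro Z _ U hU p hp
    refine isClosed_singleton_of_isLocallyClosed_singleton ?_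
    rw [← Set.image_singleton]
    exact ((PrimeSpectrum.isClosed_singleton_iff_isMaximal p).2 hp).isLocallyClosed.image
      hU.fromSpec.isOpenEmbedding.isInducing hU.fromSpec.isOpenEmbedding.isOpen_range.isLocallyClosed
  let x := hW.fromSpec ⟨n, hn.isPrime⟩
  let y := hV.fromSpec ⟨m, hm.isPrime⟩
  have hxW : x ∈ W := hW.range_fromSpec.le ⟨_, rfl⟩
  have hxy : ∀ (n' : Ideal B) (hn' : n'.IsPrime), n'.comap (algebraMap A B) = m →
      f (hW.fromSpec ⟨n', hn'⟩) = y := by
    intro n' hn' h'
    have h1 : Spec.map (f.app V) ≫ hV.fromSpec = hW.fromSpec ≫ f := by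
      rw [Scheme.Hom.app_eq_appLE, IsAffineOpen.SpecMap_appLE_fromSpec]
    rw [← Scheme.Hom.comp_apply, ← h1, Scheme.Hom.comp_apply]
    exact congrArg _ (PrimeSpectrum.ext h')
  have hyc : IsClosed ({y} : Set Y) := hpt Y V hV _ hm
  have hxc : IsClosed ({x} : Set X) := hpt X W hW _ hn
  have huniq : ∀ n' : Ideal B, n'.IsMaximal → I ≤ n' → n' = n := by
    intro n' hn' hI'
    have h' := (hm.eq_of_le (Ideal.comap_ne_top _ hn'.ne_top) (Ideal.map_le_iff_le_comap.1 hI')).symm
    have := hfib y hyc (hxy n' hn'.isPrime h') (hxy n hn.isPrime hcomap)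
    exact congrArg PrimeSpectrum.asIdeal (hW.fromSpec.isOpenEmbedding.injective this)
  -- the residue field at `n` is `k`
  obtain ⟨a, ha⟩ : ∃ a, b - algebraMap A B a ∈ n := by
    let ψ : k →+* B := ((f ≫ q).appLE ⊤ W (by simp)).hom.comp (Scheme.ΓSpecIso (CommRingCat.of k)).inv.hom
    have hψ : ψ.FiniteType := RingHom.FiniteType.comp
      (HasRingHomProperty.appLE @LocallyOfFiniteType (f ≫ q) inferInstance ⟨⊤, isAffineOpen_top _⟩ ⟨W, hW⟩ (by simp))
      (RingHom.FiniteType.of_surjective _
        (Scheme.ΓSpecIso (CommRingCat.of k)).commRingCatIsoToRingEquiv.symm.surjective)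
    let ψA : k →+* A := (q.appLE ⊤ V (by simp)).hom.comp (Scheme.ΓSpecIso (CommRingCat.of k)).inv.hom
    have hψ' : (algebraMap A B).comp ψA = ψ := by
      show ((f.app V).hom).comp ((q.appLE ⊤ V _).hom.comp _) = ((f ≫ q).appLE ⊤ W _).hom.comp _
      rw [← RingHom.comp_assoc, ← CommRingCat.hom_comp, Scheme.Hom.app_eq_appLE, Scheme.Hom.appLE_comp_appLE]
    letI : Algebra k (B ⧸ n) := ((Ideal.Quotient.mk n).comp ψ).toAlgebra
    letI := Ideal.Quotient.field n
    haveI : Algebra.FiniteType k (B ⧸ n) :=
      (RingHom.FiniteType.comp_surjective hψ Ideal.Quotient.mk_surjective : _)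
    haveI : Module.Finite k (B ⧸ n) := finite_of_finite_type_of_isJacobsonRing k (B ⧸ n)
    obtain ⟨c, hc⟩ := (IsAlgClosed.algebraMap_bijective_of_isIntegral (k := k) (K := B ⧸ n)).2 (Ideal.Quotient.mk n b)
    refine ⟨ψA c, Ideal.Quotient.eq.1 ?_⟩
    rw [← hc, ← RingHom.comp_apply _ ψA, hψ']
    rfl
  refine ⟨a, ?_⟩
  -- `I` is `n` near `n`
  letI := X.presheaf.algebra_section_stalk (⟨x, hxW⟩ : W)
  haveI : IsLocalization.AtPrime (X.presheaf.stalk x) n := hW.isLocalization_stalk' ⟨n, hn.isPrime⟩ hxW
  haveI : IsLocallyNoetherian X :=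
    LocallyOfFiniteType.isLocallyNoetherian (f ≫ q)
  have hyV : f x ∈ V := hxW
  have hmap : I.map (algebraMap B (X.presheaf.stalk x)) =
      Ideal.map (f.stalkMap x).hom (IsLocalRing.maximalIdeal (Y.presheaf.stalk (f x))) := by
    have h2 : m.map (Y.presheaf.germ V (f x) hyV).hom = IsLocalRing.maximalIdeal (Y.presheaf.stalk (f x)) := by
      have gen : ∀ (z : Y) (hz : z ∈ V), z = hV.fromSpec ⟨m, hm.isPrime⟩ →
          m.map (Y.presheaf.germ V z hz).hom = IsLocalRing.maximalIdeal (Y.presheaf.stalk z) := by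
        rintro z hz rfl
        letI := Y.presheaf.algebra_section_stalk (⟨_, hz⟩ : V)
        haveI : IsLocalization.AtPrime (Y.presheaf.stalk (hV.fromSpec ⟨m, hm.isPrime⟩)) m :=
          hV.isLocalization_stalk' ⟨m, hm.isPrime⟩ hz
        exact IsLocalization.AtPrime.map_eq_maximalIdeal m _
      exact gen _ hyV (hxy n hn.isPrime hcomap)
    rw [← h2, Ideal.map_map, Ideal.map_map]
    congr 1
    refine RingHom.ext fun r => ?_
    exact (Scheme.Hom.germ_stalkMap_apply f V x hyV r).symm
  obtain ⟨t, ht, htI⟩ := exists_mul_mem n I (O := X.presheaf.stalk x) (by rw [hmap]; exact hT x hxc) ha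
  have htu : I ⊔ Ideal.span {t} = ⊤ := by
    by_contra hne
    obtain ⟨n', hn', hle⟩ := Ideal.exists_le_maximal _ hne
    rw [huniq n' hn' (le_sup_left.trans hle)] at hle
    exact ht (hle (le_sup_right (a := I) (Ideal.mem_span_singleton_self t)))
  obtain ⟨i, hi, j, hj, hij⟩ := Submodule.mem_sup.1 ((Ideal.eq_top_iff_one _).1 htu)
  obtain ⟨c, rfl⟩ := Ideal.mem_span_singleton'.1 hj
  have : b - algebraMap A B a = (b - algebraMap A B a) * i + c * ((b - algebraMap A B a) * t) := by
    rw [show c * ((b - algebraMap A B a) * t) = (b - algebraMap A B a) * (c * t) by ring, ← mul_add, hij, mul_one]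
  rw [this]
  exact I.add_mem (I.mul_mem_left _ hi) (I.mul_mem_left _ htI)

open CategoryTheory AlgebraicGeometry in
/-- In the case of an algebraically closed base field k and K = k: let X, Y be k-schemes of finite type
and f : X → Y a proper k-morphism which is injective on closed points and such that for every closed
point x of X the ideal generated by the image of the maximal ideal of the local ring at f(x),
together with the square of the maximal ideal at x, is the whole maximal ideal at x (the cotangent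
map is surjective, i.e. the tangent map at x is injective). Then f is a closed immersion. (The
published statement allows any field k and tests points and tangent spaces with values in an
algebraically closed extension K of k; this row is the case K = k.) -/
theorem result (k : Type u) [Field k] [IsAlgClosed k]
    {X Y : Scheme.{u}} (f : X ⟶ Y) (q : Y ⟶ Spec (CommRingCat.of k)) [LocallyOfFiniteType q] [QuasiCompact q]
    [LocallyOfFiniteType (f ≫ q)] [IsProper f]
    (hinj : Set.InjOn f.base {x : X | IsClosed ({x} : Set X)})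
    (hT : ∀ x : X, IsClosed ({x} : Set X) →
      Ideal.map (f.stalkMap x).hom (IsLocalRing.maximalIdeal (Y.presheaf.stalk (f.base x))) ⊔
        IsLocalRing.maximalIdeal (X.presheaf.stalk x) ^ 2 = IsLocalRing.maximalIdeal (X.presheaf.stalk x)) :
    IsClosedImmersion f := by
  haveI : IsJacobsonRing (CommRingCat.of k) := inferInstanceAs (IsJacobsonRing k)
  haveI : JacobsonSpace Y := LocallyOfFiniteType.jacobsonSpace q
  haveI : JacobsonSpace X := LocallyOfFiniteType.jacobsonSpace f
  have hfib : ∀ y : Y, IsClosed ({y} : Set Y) → (f ⁻¹' {y}).Subsingleton := fun y hy x hx x' hx' => by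
    have hcl : ∀ z ∈ f ⁻¹' {y}, IsClosed ({z} : Set X) := by
      intro z hz
      by_contra hcon
      obtain ⟨w, hw, hwc⟩ : (closure {z} ∩ closedPoints X).Nonempty :=
        nonempty_inter_closedPoints ⟨z, subset_closure rfl⟩ isClosed_closure.isLocallyClosed
      have hwy : f w = y := by
        have : closure {z} ⊆ f ⁻¹' {y} := closure_minimal (by simpa using hz) (hy.preimage f.continuous)
        exact this hw
      have hsub : closure ({z} : Set X) ∩ closedPoints X ⊆ {w} := fun v ⟨hv, hvc⟩ =>
        hinj hvc hwc ((show f v = y from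
          (closure_minimal (by simpa using hz) (hy.preimage f.continuous) hv : _)).trans hwy.symm)
      have hz' : z ∈ closure (closure ({z} : Set X) ∩ closedPoints X) := by
        rw [closure_inter_closedPoints isClosed_closure]
        exact subset_closure rfl
      have : z ∈ ({w} : Set X) := by
        rw [← (show IsClosed ({w} : Set X) from hwc).closure_eq]; exact closure_mono hsub hz'
      rw [Set.mem_singleton_iff.1 this] at hcon
      exact hcon hwc
    exact hinj (hcl x hx) (hcl x' hx') ((show f x = y from hx).trans (show f x' = y from hx').symm)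
  haveI : IsFinite f := by
    haveI : LocallyQuasiFinite f := by
      rw [← Scheme.Hom.quasiFiniteLocus_eq_top_iff]
      by_contra hne
      obtain ⟨x, hx, hxc⟩ : ((f.quasiFiniteLocus : Set X)ᶜ ∩ closedPoints X).Nonempty := by
        refine nonempty_inter_closedPoints ?_ f.quasiFiniteLocus.isOpen.isClosed_compl.isLocallyClosed
        rw [Set.nonempty_compl]
        exact fun h => hne (TopologicalSpace.Opens.ext h)
      refine hx (Scheme.Hom.quasiFiniteAt_iff_isOpen_singleton_asFiber.2 ?_)
      have hyc : IsClosed ({f x} : Set Y) := by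
        rw [← Set.image_singleton]; exact f.isClosedMap _ hxc
      haveI : Subsingleton (f.fiber (f x)) :=
        haveI := (hfib _ hyc).coe_sort
        (f.fiberHomeo (f x)).toEquiv.subsingleton
      exact isOpen_discrete _
    exact IsFinite.of_isProper_of_locallyQuasiFinite f
  rw [IsZariskiLocalAtTarget.iff_of_iSup_eq_top (P := @IsClosedImmersion) _ (iSup_affineOpens_eq_top Y)]
  intro V
  haveI : IsAffine V.1.toScheme := V.2
  haveI : IsAffine (f ⁻¹ᵁ V.1).toScheme := V.2.preimage f
  rw [HasAffineProperty.iff_of_isAffine (P := @IsClosedImmersion)]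
  refine ⟨inferInstance, ?_⟩
  have e : ((f ∣_ V.1).appTop.hom : _ → _) =
      ((f ⁻¹ᵁ V.1).topIso.inv.hom ∘ (f.app V.1).hom) ∘ V.1.topIso.hom.hom := by
    have : (f ∣_ V.1).appTop = V.1.topIso.hom ≫ f.app V.1 ≫ (f ⁻¹ᵁ V.1).topIso.inv := by
      simp [Scheme.Hom.appTop, Scheme.Hom.app_eq_appLE, morphismRestrict_appLE]
    rw [this]; rfl
  rw [e]
  refine ((ConcreteCategory.bijective_of_isIso (f ⁻¹ᵁ V.1).topIso.inv).2.comp ?_).comp
    (ConcreteCategory.bijective_of_isIso V.1.topIso.hom).2
  exact surjective_app k f q V.1 V.2 hfib hT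

end Groth.Agent.S10867
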