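import Mathlib

universe u

namespace Groth.Agent.S4562Aux

/-- A separable step on top of a finite integral closure, and descent to a subextension. -/
theorem finite_of_separable (A : Type u) [CommRing A] [IsDomain A] [IsNoetherianRing A]
    (K' M L : Type u) [Field K'] [Field M] [Field L] [Algebra A K'] [Algebra K' M] [Algebra A M] [Algebra A L]
    [IsScalarTower A K' M] [FiniteDimensional K' M] [Algebra.IsSeparable K' M]
    [IsFractionRing (integralClosure A K') K'] [IsIntegrallyClosed (integralClosure A K')]
    [Module.Finite A (integralClosure A K')] (j : L →ₐ[A] M) :
    Module.Finite A (integralClosure A L) := by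
  classical
  let A' := integralClosure A K'
  haveI : IsNoetherian A A' := isNoetherian_of_isNoetherianRing_of_finite A A'
  haveI : IsNoetherianRing A' := isNoetherianRing_iff.mpr (isNoetherian_of_tower A ‹IsNoetherian A A'›)
  haveI : IsScalarTower A A' M := IsScalarTower.of_algebraMap_eq fun r => by
    rw [IsScalarTower.algebraMap_apply A K' M r]
    rfl
  let C := integralClosure A' M
  haveI : Module.Finite A' C := IsIntegralClosure.finite A' K' M C
  haveI : Module.Finite A C := Module.Finite.trans A' C
  let f : integralClosure A L →ₗ[A] C :=
    { toFun := fun x => ⟨j x.1, (x.2.map j).tower_top⟩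
      map_add' := fun x y => Subtype.ext (map_add j x.1 y.1)
      map_smul' := fun r x => Subtype.ext (map_smul j r x.1) }
  exact Module.Finite.of_injective f fun x y hxy => Subtype.ext (j.injective (congrArg Subtype.val hxy))

end Groth.Agent.S4562Aux
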