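import Groth.Statements.S4562
import Mathlib
import Groth.Agent.S4562Aux

set_option autoImplicit false
universe u
open CAlg

namespace Groth.Agent.S4562

/-- Let A be a Noetherian domain with fraction field K. If the integral closure of A in every finite
purely inseparable extension of K is a finitely generated A-module, then A is Japanese (N-2). -/
theorem result (A : Type u) [CommRing A] [IsDomain A]
    [IsNoetherianRing A]
    (h : ∀ (K' : Type u) [Field K'] [Algebra A K'] [Algebra (FractionRing A) K']
      [IsScalarTower A (FractionRing A) K'], FiniteDimensional (FractionRing A) K' →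
      IsPurelyInseparable (FractionRing A) K' → Module.Finite A (integralClosure A K')) :
    CAlg.IsN2 A := by
  classical
  intro L _ _ _ _ hfin
  let K := FractionRing A
  let Ω := AlgebraicClosure L
  let M := IntermediateField.normalClosure K L Ω
  let K' : IntermediateField K M := IntermediateField.fixedField (⊤ : Subgroup (M ≃ₐ[K] M))
  haveI hpi : IsPurelyInseparable K K' := by
    refine isPurelyInseparable_iff.mpr fun x => ⟨IsIntegral.of_finite K x, fun hsep => ?_⟩
    have hroot : ∀ y : M, Polynomial.aeval y (minpoly K (x : M)) = 0 → y = (x : M) := fun y hy => by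
      obtain ⟨σ, hσ⟩ := minpoly.exists_algEquiv_of_root (Algebra.IsAlgebraic.isAlgebraic (x : M)) hy
      rw [show y = σ.symm (x : M) by rw [← hσ, σ.symm_apply_apply]]
      exact x.2 ⟨σ.symm, trivial⟩
    change (minpoly K x).Separable at hsep
    rw [← minpoly.algebraMap_eq (A := K) (B := K') (B' := M) (algebraMap K' M).injective x] at hsep
    have hd : (minpoly K (x : M)).natDegree = 1 := by
      have hsplit : ((minpoly K (x : M)).map (algebraMap K M)).Splits := Normal.splits inferInstance _
      refine le_antisymm ?_ (minpoly.natDegree_pos (IsIntegral.of_finite K _))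
      rw [← Polynomial.natDegree_map (algebraMap K M), hsplit.natDegree_eq_card_roots]
      refine (Multiset.card_le_card (t := {(x : M)}) ?_).trans_eq (Multiset.card_singleton _)
      refine (Multiset.le_iff_subset (Polynomial.nodup_roots hsep.map)).mpr fun y hy => ?_
      rw [Multiset.mem_singleton]
      refine hroot y ?_
      rw [Polynomial.aeval_def, ← Polynomial.eval_map]
      exact (Polynomial.mem_roots'.mp hy).2
    obtain ⟨c, hc⟩ := minpoly.natDegree_eq_one_iff.mp hd
    exact ⟨c, Subtype.ext hc⟩
  let A' := integralClosure A K'
  haveI : Module.Finite A A' := h K' inferInstance hpi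
  haveI : IsFractionRing A' K' := integralClosure.isFractionRing_of_finite_extension (A := A) K K'
  haveI : IsIntegrallyClosed A' := integralClosure.isIntegrallyClosedOfFiniteExtension K
  haveI : IsScalarTower A K' M := IsScalarTower.of_algebraMap_eq fun _ => rfl
  haveI : Algebra.IsSeparable K' M :=
    (inferInstanceAs (Algebra.IsSeparable (FixedPoints.subfield (⊤ : Subgroup (M ≃ₐ[K] M)) M) M))
  let j₀ : L →ₐ[K] M := (IsScalarTower.toAlgHom K L Ω).codRestrict M.toSubalgebra fun l =>
    AlgHom.fieldRange_le_normalClosure (IsScalarTower.toAlgHom K L Ω) ⟨l, rfl⟩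
  exact Groth.Agent.S4562Aux.finite_of_separable A K' M L (j₀.restrictScalars A)

end Groth.Agent.S4562
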