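import Groth.Statements.S2345
import Groth.Agent.NormFieldX.Curve
import Mathlib.RingTheory.DedekindDomain.Dvr
import Mathlib.FieldTheory.IntermediateField.Adjoin.Basic
import Groth.Agent.H23.P1Charts

set_option autoImplicit false
universe u
open CategoryTheory CategoryTheory.Limits AlgebraicGeometry
attribute [local instance] Curv2.stalkAlgebra
open EGA2

namespace Groth.Agent.S2345

/-- Let K be a finitely generated field extension of k of transcendence degree one. Then there is an
integral normal algebraic curve X, proper over k, whose function field is isomorphic to K compatibly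
with the maps from k. -/
theorem result (k : Type u) [Field k] (K : Type u) [Field K] [Algebra k K]
    (hfg : (⊤ : IntermediateField k K).FG) (htr : Algebra.trdeg k K = 1) :
    ∃ (X : Scheme.{u}) (_ : X.Over (Spec (CommRingCat.of k))) (_ : IsIntegral X), IsProper (X ↘ (Spec (CommRingCat.of k))) ∧ Pi1.IsNormalScheme X ∧
      (∀ x : X, IsClosed ({x} : Set X) → ringKrullDim (X.presheaf.stalk x) = 1) ∧
      ∃ e : X.presheaf.stalk (genericPoint X) ≃+* K, ∀ c : k, e (algebraMap k (X.presheaf.stalk (genericPoint X)) c) = algebraMap k K c := by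
  classical
  obtain ⟨s, hs⟩ := exists_isTranscendenceBasis k K
  have hcard : Cardinal.mk s = 1 := hs.cardinalMk_eq_trdeg.trans htr
  obtain ⟨⟨t, ht⟩, htu⟩ := Cardinal.eq_one_iff_unique.1 hcard |>.elim fun a b => (⟨b.some, fun y => a.elim _ _⟩ : ∃ x : s, ∀ y, y = x)
  have hs' : s = {t} := Set.eq_singleton_iff_unique_mem.2 ⟨ht, fun y hy => congrArg Subtype.val (htu ⟨y, hy⟩)⟩
  subst hs'
  have htr' : Transcendental k t := by
    exact hs.1.transcendental ⟨t, rfl⟩
  let E : IntermediateField k K := IntermediateField.adjoin k {t}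
  haveI halg : Algebra.IsAlgebraic E K := by
    have := hs.isAlgebraic_field
    rwa [Subtype.range_coe_subtype, Set.setOf_mem_eq] at this
  obtain ⟨S, hS⟩ := hfg
  haveI hfinE : Module.Finite E K := by
    haveI : FiniteDimensional E (IntermediateField.adjoin E (S : Set K)) :=
      IntermediateField.finiteDimensional_adjoin fun x _ => Algebra.IsIntegral.isIntegral x
    have htop : IntermediateField.adjoin E (S : Set K) = ⊤ := by
      apply IntermediateField.restrictScalars_injective k
      rw [IntermediateField.restrictScalars_top, eq_top_iff, ← hS, IntermediateField.adjoin_le_iff]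
      exact fun x hx => IntermediateField.subset_adjoin E _ hx
    rw [htop] at this
    exact Module.Finite.equiv IntermediateField.topEquiv.toLinearEquiv
  let P := CohB1.ProjSpaceOver 1 (Spec (CommRingCat.of k))
  let q : P ⟶ Spec (CommRingCat.of k) := CohB1.ProjSpaceOver.toBase 1 _
  let j : Spec (CommRingCat.of (Polynomial k)) ⟶ P := H23.P1Charts.chart k 0
  let gK : Spec (CommRingCat.of K) ⟶ P :=
    Spec.map (CommRingCat.ofHom (Polynomial.aeval (R := k) t).toRingHom) ≫ j
  have hgKq : gK ≫ q = Spec.map (CommRingCat.ofHom (algebraMap k K)) := by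
    rw [Category.assoc, H23.P1Charts.chart_toBase, ← Spec.map_comp]
    congr 1
    ext c
    exact Polynomial.aeval_C (R := k) t c
  have hpt : gK (IsLocalRing.closedPoint K) = genericPoint P := by
    have h0 : Spec.map (CommRingCat.ofHom (Polynomial.aeval (R := k) t).toRingHom) (IsLocalRing.closedPoint K) =
        genericPoint (Spec (CommRingCat.of (Polynomial k))) := by
      rw [genericPoint_eq_bot_of_affine]
      refine PrimeSpectrum.ext (eq_bot_iff.2 fun p hp => ?_)
      have hp' : Polynomial.aeval t p ∈ IsLocalRing.maximalIdeal K := hp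
      rw [IsLocalRing.maximalIdeal_eq_bot, Ideal.mem_bot] at hp'
      exact transcendental_iff_injective.1 htr' (hp'.trans (map_zero _).symm)
    show (Spec.map (CommRingCat.ofHom (Polynomial.aeval (R := k) t).toRingHom) ≫ j) _ = _
    rw [Scheme.Hom.comp_apply, h0]
    exact genericPoint_eq_of_isOpenImmersion j
  have germK : ∀ (f : Spec (CommRingCat.of K) ⟶ Spec (CommRingCat.of k))
      (_ : f = Spec.map (CommRingCat.ofHom (algebraMap k K))),
      (Spec (CommRingCat.of k)).presheaf.germ ⊤ _ trivial ≫ Scheme.stalkClosedPointTo f =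
        (Scheme.ΓSpecIso (CommRingCat.of k)).hom ≫ CommRingCat.ofHom (algebraMap k K) := by
    rintro _ rfl
    exact Scheme.germ_stalkClosedPointTo_Spec _
  let φ : P.functionField →+* K :=
    (Scheme.stalkClosedPointTo gK).hom.comp (P.presheaf.stalkSpecializes (specializes_of_eq hpt)).hom
  have hφg : Spec.map (CommRingCat.ofHom φ) ≫ P.fromSpecStalk (genericPoint P) = gK := by
    rw [show CommRingCat.ofHom φ = P.presheaf.stalkSpecializes (specializes_of_eq hpt) ≫
      Scheme.stalkClosedPointTo gK from rfl, Spec.map_comp, Category.assoc,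
      Scheme.SpecMap_stalkSpecializes_fromSpecStalk]
    exact Scheme.Spec_stalkClosedPointTo_fromSpecStalk gK
  have hrange : ∀ x ∈ E, x ∈ φ.fieldRange := by
    let Φ : IntermediateField k K := φ.fieldRange.toIntermediateField fun c => ?_
    · intro x hx
      refine (IntermediateField.adjoin_le_iff.2 ?_ : E ≤ Φ) hx
      intro a ha
      rw [Set.mem_singleton_iff] at ha
      subst a
      let V := j.opensRange
      have hV : genericPoint P ∈ V := by
        rw [← genericPoint_eq_of_isOpenImmersion j]; exact ⟨_, rfl⟩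
      let sX : Γ(P, V) := (j.appIso ⊤).inv ((Scheme.ΓSpecIso (CommRingCat.of (Polynomial k))).inv Polynomial.X) |>
        P.presheaf.map (homOfLE (Scheme.Hom.image_top_eq_opensRange j).ge).op
      refine ⟨P.presheaf.germ V (genericPoint P) hV sX, ?_⟩
      have hV' : gK (IsLocalRing.closedPoint K) ∈ V := hpt ▸ hV
      show Scheme.stalkClosedPointTo gK (P.presheaf.stalkSpecializes _ (P.presheaf.germ V _ hV sX)) = t
      rw [TopCat.Presheaf.germ_stalkSpecializes_apply,
        ← CommRingCat.comp_apply (P.presheaf.germ V _ _) (Scheme.stalkClosedPointTo gK)]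
      refine (ConcreteCategory.congr_hom ((congrArg (P.presheaf.germ V _ hV' ≫ ·)
        (Scheme.stalkClosedPointTo_comp (Spec.map (CommRingCat.ofHom (Polynomial.aeval (R := k) t).toRingHom)) j)).trans
          (Scheme.Hom.germ_stalkMap_assoc j V _ _ _)) sX).trans ?_
      rw [CommRingCat.comp_apply]
      have hj : j.app V sX = (Spec (CommRingCat.of (Polynomial k))).presheaf.map
          (homOfLE (le_top : j ⁻¹ᵁ V ≤ ⊤)).op ((Scheme.ΓSpecIso _).inv Polynomial.X) := by
        simp only [sX, Scheme.Hom.app_eq_appLE, ← CommRingCat.comp_apply, Category.assoc]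
        rw [Scheme.Hom.map_appLE, Scheme.Hom.appIso_inv_appLE]
      rw [hj, ← CommRingCat.comp_apply, ← Category.assoc, TopCat.Presheaf.germ_res]
      refine (ConcreteCategory.congr_hom (Scheme.germ_stalkClosedPointTo_Spec _) _).trans ?_
      rw [CommRingCat.comp_apply, ← CommRingCat.comp_apply _ (Scheme.ΓSpecIso _).hom, Iso.inv_hom_id]
      exact Polynomial.aeval_X (R := k) t
    · let s0 : Γ(P, ⊤) := q.appTop ((Scheme.ΓSpecIso (CommRingCat.of k)).inv c)
      refine ⟨P.presheaf.germ ⊤ (genericPoint P) trivial s0, ?_⟩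
      show Scheme.stalkClosedPointTo gK (P.presheaf.stalkSpecializes _ (P.presheaf.germ ⊤ _ trivial s0)) = _
      rw [TopCat.Presheaf.germ_stalkSpecializes_apply]
      exact ConcreteCategory.congr_hom
        ((Scheme.Hom.germ_stalkMap_assoc q ⊤ _ trivial (Scheme.stalkClosedPointTo gK)).symm.trans
          ((congrArg (_ ≫ ·) (Scheme.stalkClosedPointTo_comp gK q).symm).trans
            (germK _ hgKq)))
        ((Scheme.ΓSpecIso (CommRingCat.of k)).inv c) |>.trans (by simp)
  have hφfin : φ.Finite := by
    letI := φ.toAlgebra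
    obtain ⟨b, hb⟩ := hfinE
    refine ⟨⟨b, eq_top_iff.2 fun x hx0 => ?_⟩⟩
    clear hx0
    have hx : x ∈ Submodule.span E (b : Set K) := hb ▸ trivial
    induction hx using Submodule.span_induction with
    | mem y hy => exact Submodule.subset_span hy
    | zero => exact zero_mem _
    | add y z _ _ hy hz => exact add_mem hy hz
    | smul c y _ hy =>
      obtain ⟨f, hf⟩ := hrange c.1 c.2
      rw [show c • y = f • y by rw [Algebra.smul_def, Algebra.smul_def]; exact congrArg (· * y) hf.symm]
      exact Submodule.smul_mem _ f hy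
  haveI hqc : QuasiCompact (NormFieldX.pnt P K φ) := by
    haveI : TopologicalSpace.NoetherianSpace (Spec (CommRingCat.of K)) := inferInstance
    infer_instance
  haveI hqs : QuasiSeparated (NormFieldX.pnt P K φ) := inferInstance
  haveI hfin : IsFinite (NormFieldX.ν P K φ) := NormFieldX.isFinite_ν k q hφfin
  let N := NormFieldX.norm P K φ
  letI : N.Over (Spec (CommRingCat.of k)) := ⟨NormFieldX.ν P K φ ≫ q⟩
  have hX : ∀ x : P, IsClosed ({x} : Set P) → ringKrullDim (P.presheaf.stalk x) = 1 := by
    intro x hx
    obtain ⟨i, y, rfl⟩ := H23.P1Charts.exists_chart k x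
    have hy : IsClosed ({y} : Set (Spec (CommRingCat.of (Polynomial k)))) := by
      have := hx.preimage (H23.P1Charts.chart k i).continuous
      rwa [← Set.image_singleton, Set.preimage_image_eq _ (H23.P1Charts.chart k i).isOpenEmbedding.injective] at this
    rw [ringKrullDim_stalk_eq_coheight, coheight_eq_of_isOpenImmersion, ← idealHeight_eq_coheight]
    haveI hmax : y.asIdeal.IsMaximal := (PrimeSpectrum.isClosed_singleton_iff_isMaximal y).1 hy
    have hne : y.asIdeal ≠ ⊥ := Ring.ne_bot_of_isMaximal_of_not_isField hmax (Polynomial.not_isField k)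
    haveI := IsLocalization.AtPrime.isDiscreteValuationRing_of_dedekind_domain (Polynomial k) hne
      (Localization.AtPrime y.asIdeal)
    rw [← IsLocalization.AtPrime.ringKrullDim_eq_height y.asIdeal (Localization.AtPrime y.asIdeal)]
    exact IsDiscreteValuationRing.ringKrullDim_eq_one _
  obtain ⟨h1, h2⟩ := NormFieldX.range_stalkClosedPointTo P K φ
  have hbij : Function.Bijective (Scheme.stalkClosedPointTo (NormFieldX.pnt P K φ).toNormalization).hom := by
    refine ⟨h1, Set.range_eq_univ.1 (h2.trans (Set.eq_univ_of_forall fun y => ?_))⟩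
    letI := φ.toAlgebra
    haveI : Module.Finite P.functionField K := hφfin
    exact Algebra.IsIntegral.isIntegral (R := P.functionField) y
  have hη := NormFieldX.η_eq P K φ
  let ψ : N.presheaf.stalk (genericPoint N) →+* K :=
    (Scheme.stalkClosedPointTo (NormFieldX.pnt P K φ).toNormalization).hom.comp
      (N.presheaf.stalkSpecializes (specializes_of_eq hη)).hom
  have hψ : Function.Bijective ψ := by
    refine hbij.comp ?_
    have : IsIso (N.presheaf.stalkSpecializes (specializes_of_eq hη)) :=
      inferInstanceAs (IsIso (N.presheaf.stalkCongr (.of_eq hη.symm)).hom)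
    exact (ConcreteCategory.isIso_iff_bijective _).1 this
  haveI : IsProper q := inferInstanceAs (IsProper (CohB1.ProjSpaceOver.toBase 1 _))
  refine ⟨N, inferInstance, (inferInstance : IsIntegral N), ?_, NormFieldX.isNormalScheme_norm,
    fun x' hx' => NormFieldX.dim_stalk_norm hX x' hx', RingEquiv.ofBijective ψ hψ, fun c => ?_⟩
  · show IsProper (NormFieldX.ν P K φ ≫ q)
    infer_instance
  show ψ (N.presheaf.germ ⊤ (genericPoint N) trivial
    ((NormFieldX.ν P K φ ≫ q).appTop ((Scheme.ΓSpecIso (CommRingCat.of k)).inv c))) = _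
  simp only [ψ, RingHom.comp_apply]
  rw [TopCat.Presheaf.germ_stalkSpecializes_apply]
  have hg : (NormFieldX.pnt P K φ).toNormalization ≫ NormFieldX.ν P K φ ≫ q =
      Spec.map (CommRingCat.ofHom (algebraMap k K)) := by
    rw [Scheme.Hom.toNormalization_fromNormalization_assoc, ← hgKq]
    exact congrArg (· ≫ q) hφg
  exact ConcreteCategory.congr_hom
    ((Scheme.Hom.germ_stalkMap_assoc (NormFieldX.ν P K φ ≫ q) ⊤ _ trivial
        (Scheme.stalkClosedPointTo (NormFieldX.pnt P K φ).toNormalization)).symm.trans
      ((congrArg (_ ≫ ·) (Scheme.stalkClosedPointTo_comp _ (NormFieldX.ν P K φ ≫ q)).symm).trans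
        (germK _ hg)))
    ((Scheme.ΓSpecIso (CommRingCat.of k)).inv c) |>.trans (by simp)

end Groth.Agent.S2345
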