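import Groth.Statements.S15941
import Groth.Agent.HTopAwn.Props
import Mathlib.Algebra.Field.ZMod


set_option autoImplicit false
universe u
open HTop

namespace Groth.Agent.S15941

open Groth.Agent.HTopAwn Groth.Agent.MorLib.RUH

/-- An integrally closed integral domain is a seminormal ring, that is, whenever x^3 = y^2 there is
exactly one element a with x = a^2 and y = a^3. (The published statement is for a normal Noetherian
scheme and reduces at once to this affine integral case; the Noetherian hypothesis plays no role.) -/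
theorem result (A : Type u) [CommRing A] [IsDomain A]
    [IsIntegrallyClosed A] : HTop.IsSeminormalRing A := by
  intro x y hxy
  let K := FractionRing A
  let ι := algebraMap A K
  have hι : Function.Injective ι := IsFractionRing.injective A K
  have h : (ι x) ^ 3 = (ι y) ^ 2 := by rw [← map_pow, ← map_pow, hxy]
  have key : ∃ a : K, a ^ 2 = ι x ∧ a ^ 3 = ι y := by
    by_cases h0 : ι x = 0
    · refine ⟨0, ?_, ?_⟩
      · rw [h0, zero_pow two_ne_zero]
      · rw [h0, zero_pow three_ne_zero, eq_comm, pow_eq_zero_iff two_ne_zero] at h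
        rw [h, zero_pow three_ne_zero]
    · refine ⟨ι y / ι x, ?_, ?_⟩
      · rw [div_pow, ← h, pow_succ, mul_div_cancel_left₀ _ (pow_ne_zero _ h0)]
      · rw [div_pow, h, pow_succ, mul_div_cancel_left₀]
        exact h ▸ pow_ne_zero _ h0
  obtain ⟨a, h2, h3⟩ := key
  obtain ⟨a₀, rfl⟩ := IsIntegrallyClosed.exists_algebraMap_eq_of_isIntegral_pow (R := A) (K := K) (x := a)
    two_pos (by rw [h2]; exact isIntegral_algebraMap)
  have e2 : x = a₀ ^ 2 := hι (by rw [map_pow]; exact h2.symm)
  have e3 : y = a₀ ^ 3 := hι (by rw [map_pow]; exact h3.symm)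
  exact ⟨a₀, ⟨e2, e3⟩, fun b hb => eq_of_sq_cube (hb.1.symm.trans e2) (hb.2.symm.trans e3)⟩

end Groth.Agent.S15941
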