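import Groth.Statements.S0249
import Mathlib.RingTheory.Ideal.KrullsHeightTheorem
import Mathlib.RingTheory.Ideal.Height

set_option autoImplicit false
universe u
open Pi1

namespace Groth.Agent.S0249

open AlgebraicGeometry CategoryTheory CategoryTheory.Limits in
/-- Let A be a Noetherian local ring of dimension at least 1 and f an element of its maximal ideal. Then
some prime ideal of height exactly 1 contains f. -/
theorem result (A : Type u) [CommRing A] [IsNoetherianRing A] [IsLocalRing A]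
    (h : (1 : WithBot ℕ∞) ≤ ringKrullDim A) (f : A) (hf : f ∈ IsLocalRing.maximalIdeal A) :
    ∃ p : Ideal A, p.IsPrime ∧ f ∈ p ∧ p.height = 1 := by
  classical
  let S : Set (Ideal A) := {P | P.IsPrime ∧ f ∈ P ∧ P.height ≠ 0}
  have hne : S.Nonempty := by
    refine ⟨IsLocalRing.maximalIdeal A, inferInstance, hf, fun h0 => ?_⟩
    rw [← IsLocalRing.maximalIdeal_height_eq_ringKrullDim, h0] at h
    exact absurd (WithBot.coe_le_coe.mp h) (not_le.mpr (zero_lt_one (α := ℕ∞)))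
  obtain ⟨Q, hQS, hQmin⟩ : ∃ Q ∈ S, ∀ P ∈ S, ¬ P < Q := by
    obtain ⟨n, ⟨Q, hQ, rfl⟩, hmin⟩ := (wellFounded_lt (α := ℕ∞)).has_min (Ideal.height '' S) (hne.image _)
    refine ⟨Q, hQ, fun P hP hlt => hmin _ ⟨P, hP, rfl⟩ ?_⟩
    haveI := hP.1; haveI := hQ.1
    exact Ideal.height_strict_mono_of_isPrime_of_isPrime hlt
  obtain ⟨hQ, hfQ, hQ0⟩ := hQS
  haveI := hQ
  refine ⟨Q, hQ, hfQ, le_antisymm ?_ (Order.one_le_iff_ne_zero.mpr hQ0)⟩
  by_contra hgt
  rw [not_le] at hgt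
  obtain ⟨P₁, hP₁p, hP₁Q, hP₁⟩ : ∃ P₁ : Ideal A, P₁.IsPrime ∧ P₁ < Q ∧ P₁.height ≠ 0 := by
    by_contra! hno
    refine hgt.not_ge ((Ideal.height_le_iff (p := Q) (n := 1)).mpr fun P hP hPQ => ?_)
    rw [hno P hP hPQ]
    exact zero_lt_one
  haveI := hP₁p
  obtain ⟨P₀, hP₀p, hP₀⟩ : ∃ P₀ : Ideal A, P₀.IsPrime ∧ P₀ < P₁ := by
    have : P₁ ∉ minimalPrimes A := fun hm => hP₁ (Ideal.height_eq_zero_iff.mpr hm)
    obtain ⟨P₀, hm, hle⟩ := Ideal.exists_minimalPrimes_le (bot_le : (⊥ : Ideal A) ≤ P₁)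
    exact ⟨P₀, hm.1.1, lt_of_le_of_ne hle fun h => this (h ▸ hm)⟩
  haveI := hP₀p
  by_cases hf0 : f ∈ P₀
  · exact hQmin P₁ ⟨hP₁p, hP₀.le hf0, hP₁⟩ hP₁Q
  let π := Ideal.Quotient.mk P₀
  have hπ : Function.Surjective π := Ideal.Quotient.mk_surjective
  have hker : ∀ P : Ideal A, P₀ ≤ P → RingHom.ker π ≤ P := fun P hP => by rwa [Ideal.mk_ker]
  haveI : (Q.map π).IsPrime := Ideal.map_isPrime_of_surjective hπ (hker Q (hP₀.trans hP₁Q).le)
  haveI : (P₁.map π).IsPrime := Ideal.map_isPrime_of_surjective hπ (hker P₁ hP₀.le)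
  have hcQ : (Q.map π).comap π = Q := Ideal.comap_map_mk (hP₀.trans hP₁Q).le
  have hc1 : (P₁.map π).comap π = P₁ := Ideal.comap_map_mk hP₀.le
  obtain ⟨R, hR, hRQ⟩ := Ideal.exists_minimalPrimes_le (show Ideal.span {π f} ≤ Q.map π by
    rw [Ideal.span_singleton_le_iff_mem]; exact Ideal.mem_map_of_mem _ hfQ)
  haveI := hR.1.1
  have hR1 : R.height ≤ 1 := Ideal.height_le_one_of_isPrincipal_of_mem_minimalPrimes (I := Ideal.span {π f}) R hR
  rcases hRQ.eq_or_lt with hEq | hlt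
  · have h1 : P₁.map π < Q.map π := by
      refine lt_of_le_of_ne (Ideal.map_mono hP₁Q.le) fun hh => hP₁Q.ne ?_
      rw [← hc1, hh, hcQ]
    have h2 : (⊥ : Ideal (A ⧸ P₀)) < P₁.map π := by
      refine bot_lt_iff_ne_bot.mpr fun hh => hP₀.ne ?_
      rw [← hc1, hh, ← RingHom.ker_eq_comap_bot, Ideal.mk_ker]
    have h3 := Ideal.height_strict_mono_of_isPrime_of_isPrime h1
    rw [← hEq] at h3
    have h4 := h3.trans_le hR1
    rw [Order.lt_one_iff, Ideal.height_eq_zero_iff] at h4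
    haveI := Ideal.bot_prime (α := A ⧸ P₀)
    exact h2.not_ge (h4.2 ⟨inferInstance, le_rfl⟩ bot_le)
  · refine hQmin (R.comap π) ⟨inferInstance, hR.1.2 (Ideal.mem_span_singleton_self _), fun h0 => ?_⟩ ?_
    · rw [Ideal.height_eq_zero_iff] at h0
      have hle : P₀ ≤ R.comap π := fun x hx => by
        rw [Ideal.mem_comap, show π x = 0 from Ideal.Quotient.eq_zero_iff_mem.mpr hx]; exact zero_mem _
      exact hf0 (h0.2 ⟨hP₀p, bot_le⟩ hle (hR.1.2 (Ideal.mem_span_singleton_self _)))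
    · refine lt_of_le_of_ne ((Ideal.comap_mono hRQ).trans_eq hcQ) fun hh => hlt.ne ?_
      rw [← Ideal.map_comap_of_surjective π hπ R, hh]

end Groth.Agent.S0249
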