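import Groth.Statements.S1989
import Mathlib
import Groth.Agent.EtRam7.Tower
-- import your own Groth.Agent.* helpers here

set_option autoImplicit false
universe u
open EtAlg

namespace Groth.Agent.S1989

/-- Let K be the fraction field of a discrete valuation ring A, and K ⊂ L ⊂ M finite separable
extensions. If M is tamely ramified, respectively unramified, with respect to A, then so is L. -/
theorem result (A K : Type u) [CommRing A] [IsDomain A] [IsDiscreteValuationRing A] [Field K] [Algebra A K] [IsFractionRing A K] (L M : Type u) [Field L] [Field M]
    [Algebra K L] [Algebra K M] [Algebra L M] [IsScalarTower K L M] [FiniteDimensional K M] [Algebra.IsSeparable K M] :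
    (EtRam.IsTamelyRamified A ((algebraMap K M).comp (algebraMap A K)) →
      EtRam.IsTamelyRamified A ((algebraMap K L).comp (algebraMap A K))) ∧
    (EtRam.IsUnramifiedExt A ((algebraMap K M).comp (algebraMap A K)) →
      EtRam.IsUnramifiedExt A ((algebraMap K L).comp (algebraMap A K))) := by
  have hg : (algebraMap K M).comp (algebraMap A K) = (algebraMap L M).comp ((algebraMap K L).comp (algebraMap A K)) := by
    exact RingHom.ext fun a => IsScalarTower.algebraMap_apply K L M _
  haveI : Algebra.IsSeparable K L := Algebra.isSeparable_tower_bot_of_isSeparable K L M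
  haveI : FiniteDimensional K L := Module.Finite.of_injective (IsScalarTower.toAlgHom K L M).toLinearMap (algebraMap L M).injective
  constructor
  all_goals
    intro hM V hV
    letI : Algebra A V := (((algebraMap K L).comp (algebraMap A K)).codRestrict V hV.1).toAlgebra
    intro hloc
    obtain ⟨W, rfl⟩ := EtRam7.exists_extension (algebraMap L M) V
    have hA : ∀ a, (algebraMap K M).comp (algebraMap A K) a ∈ W := fun a => by
      rw [hg]; exact hV.1 a
    letI : Algebra A W := (((algebraMap K M).comp (algebraMap A K)).codRestrict W hA).toAlgebra
    letI : Algebra (W.comap (algebraMap L M)) W := (EtRam.inclOfComap W (algebraMap L M)).toAlgebra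
    haveI : IsLocalHom (algebraMap (W.comap (algebraMap L M)) W) := EtRam.isLocalHom_inclOfComap W _
    haveI : IsScalarTower A (W.comap (algebraMap L M)) W := IsScalarTower.of_algebraMap_eq fun a =>
      Subtype.ext (RingHom.congr_fun hg a)
    haveI : IsLocalHom (algebraMap A W) := by
      rw [IsScalarTower.algebraMap_eq A (W.comap (algebraMap L M)) W]
      infer_instance
    have hdomW : EtRam.Dominates A ((algebraMap K M).comp (algebraMap A K)) W := by
      refine ⟨hA, fun a ha => ?_⟩
      show W.valuation ((algebraMap A W a : W) : M) < 1
      rw [← ValuationSubring.valuation_lt_one_iff]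
      exact map_nonunit (algebraMap A W) a ha
    haveI : IsScalarTower (IsLocalRing.ResidueField A) (IsLocalRing.ResidueField (W.comap (algebraMap L M)))
        (IsLocalRing.ResidueField W) := IsScalarTower.of_algebraMap_eq fun x => by
      obtain ⟨a, rfl⟩ := IsLocalRing.residue_surjective x
      exact congrArg (IsLocalRing.residue W) (IsScalarTower.algebraMap_apply A (W.comap (algebraMap L M)) W a)
    obtain ⟨h1, h2⟩ := hM W hdomW
  · refine ⟨Algebra.isSeparable_tower_bot_of_isSeparable _ _ (IsLocalRing.ResidueField W), fun p hp hc hdvd => h2 p hp hc ?_⟩
    haveI := EtRam7.isDiscreteValuationRing_of_dominates _ hV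
    haveI := EtRam7.isDiscreteValuationRing_of_dominates _ hdomW
    rw [EtRam7.ramificationIdx'_mul (A := A) (B := W.comap (algebraMap L M)) (C := W)]
    · exact hdvd.mul_right _
    · exact fun a b e => IsFractionRing.injective A K ((algebraMap K L).injective (congrArg Subtype.val e))
    · exact fun a b e => Subtype.ext ((algebraMap L M).injective (congrArg Subtype.val e))
  · exact ⟨EtRam7.map_maximalIdeal_comap_eq (algebraMap L M) W
      (fun a => IsScalarTower.algebraMap_apply A (W.comap (algebraMap L M)) W a) h1,
      Algebra.isSeparable_tower_bot_of_isSeparable _ _ (IsLocalRing.ResidueField W)⟩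

end Groth.Agent.S1989
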