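import Groth.Statements.S0246
import Groth.Agent.Pi1X.NormalCover

set_option autoImplicit false
universe u
open Pi1

namespace Groth.Agent.S0246

open AlgebraicGeometry CategoryTheory CategoryTheory.Limits in
/-- If Y is finite etale over a normal integral scheme X and Y is connected, then Y is an integral
scheme all of whose local rings are integrally closed domains. -/
theorem result {X : Scheme.{u}} [IsIntegral X] (hX : Pi1.IsNormalScheme X) (Y : FEt.Cat X)
    [ConnectedSpace Y.left] : IsIntegral Y.left ∧ Pi1.IsNormalScheme Y.left := by
  exact ⟨Pi1X.isIntegral_of_connected hX Y.hom, Pi1X.isNormalScheme_of_finite_etale hX Y.hom⟩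

end Groth.Agent.S0246
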