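import Groth.Statements.S4329
import Groth.Agent.EtFound.PullStalk
import Groth.Agent.SiteBase.KInjAdj
import Groth.Agent.TriCat.KInjRes
import Groth.Agent.TriCat.DerivedOfAdjunction
-- import your own Groth.Agent.* helpers here

set_option autoImplicit false
set_option backward.isDefEq.respectTransparency false
set_option backward.isDefEq.respectTransparency.types false
universe u
open CategoryTheory CategoryTheory.Limits AlgebraicGeometry Opposite
attribute [local instance] HasDerivedCategory.standard
open EtSix

namespace Groth.Agent.S4329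

namespace Aux

theorem exists_kInj (X : Scheme.{u}) (K : CochainComplex (EtCoh.Ab X) ℤ) :
    ∃ (I : CochainComplex (EtCoh.Ab X) ℤ) (q : K ⟶ I), I.IsKInjective ∧ QuasiIso q := by
  obtain ⟨I, q, h1, h2, -⟩ := Groth.Agent.TriCat.exists_kInjective_resolution'.{u + 1} K
  exact ⟨I, q, h1, h2⟩

theorem isIso_unit {X Y : Scheme.{u}} (f : X ⟶ Y) [DCoh.HasRpushEt X f]
    (I : CochainComplex (EtCoh.Ab X) ℤ) [I.IsKInjective] :
    IsIso (((DCoh.pushEtKh X f).totalRightDerivedUnit DerivedCategory.Qh
      (HomotopyCategory.quasiIso (EtCoh.Ab X) (ComplexShape.up ℤ))).app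
      ((HomotopyCategory.quotient (EtCoh.Ab X) (ComplexShape.up ℤ)).obj I)) := by
  haveI := Groth.Agent.TriCat.qh_isLeftAdjoint_of_exists_resolution (exists_kInj X)
  let adj := Adjunction.ofIsLeftAdjoint (DerivedCategory.Qh (C := EtCoh.Ab X))
  let W := HomotopyCategory.quasiIso (EtCoh.Ab X) (ComplexShape.up ℤ)
  let R := (DerivedCategory.Qh (C := EtCoh.Ab X)).rightAdjoint
  let F := DCoh.pushEtKh X f
  let α : F ⟶ DerivedCategory.Qh ⋙ R ⋙ F := Functor.whiskerRight adj.unit F
  haveI : (R ⋙ F).IsRightDerivedFunctor α W :=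
    Groth.Agent.TriCat.isRightDerivedFunctor_of_adjunction adj W F
  let RF := F.totalRightDerived DerivedCategory.Qh W
  let u' := F.totalRightDerivedUnit DerivedCategory.Qh W
  haveI : IsIso ((R ⋙ F).rightDerivedDesc α W RF u') :=
    (Functor.isRightDerivedFunctor_iff_isIso_rightDerivedDesc (R ⋙ F) α W RF u').1 inferInstance
  have h1 : α.app ((HomotopyCategory.quotient (EtCoh.Ab X) (ComplexShape.up ℤ)).obj I) ≫
      ((R ⋙ F).rightDerivedDesc α W RF u').app (DerivedCategory.Qh.obj _) = u'.app _ :=
    (R ⋙ F).rightDerived_fac_app α W RF u' _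
  haveI : IsIso (α.app ((HomotopyCategory.quotient (EtCoh.Ab X) (ComplexShape.up ℤ)).obj I)) := by
    haveI := Groth.Agent.TriCat.isIso_unit_of_isKInjective adj I
    exact inferInstanceAs (IsIso (F.map (adj.unit.app _)))
  show IsIso (u'.app _)
  rw [← h1]
  infer_instance

theorem isKInjective_push {X Y : Scheme.{u}} (f : X ⟶ Y) (I : CochainComplex (EtCoh.Ab X) ℤ)
    [I.IsKInjective] :
    CochainComplex.IsKInjective (((EtCoh.push f).mapHomologicalComplex (ComplexShape.up ℤ)).obj I) := by
  haveI := Groth.Agent.EtFound.pull_preservesFiniteLimits f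
  haveI : PreservesFiniteColimits (EtCoh.pull f) :=
    haveI : PreservesColimitsOfSize.{0, 0} (EtCoh.pull f) := (EtCoh.pullPushAdj f).leftAdjoint_preservesColimits
    PreservesColimitsOfSize.preservesFiniteColimits _
  haveI : (EtCoh.pull f).Additive := (EtCoh.pullPushAdj f).left_adjoint_additive
  exact Groth.Agent.SiteBase.isKInjective_map (EtCoh.pullPushAdj f) I

end Aux

/-- Composition of derived direct images: for the small etale sites of schemes and abelian sheaves: let
f : X -> Y and g : Y -> Z be morphisms of schemes and assume the unbounded derived direct images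
Rf_*, Rg_* and R(g ∘ f)_* exist (they do; the existence is recorded as instance hypotheses). Then
the canonical morphism R(g ∘ f)_* -> Rg_* ∘ Rf_* of functors D(X_et) -> D(Z_et), induced by (g ∘
f)_* ≅ g_* ∘ f_* through the universal property of R(g ∘ f)_* as a right derived functor, is an
isomorphism. -/
theorem result {X Y Z : Scheme.{u}} (f : X ⟶ Y) (g : Y ⟶ Z)
    [DCoh.HasRpushEt X f] [DCoh.HasRpushEt Y g] [DCoh.HasRpushEt X (f ≫ g)] :
    IsIso (EtSix.compMap f g) := by
  let W := HomotopyCategory.quasiIso (EtCoh.Ab X) (ComplexShape.up ℤ)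
  let α := (DCoh.pushEtKh X (f ≫ g)).totalRightDerivedUnit DerivedCategory.Qh W
  have key : ∀ I : CochainComplex (EtCoh.Ab X) ℤ, I.IsKInjective →
      IsIso ((compMap f g).app (DerivedCategory.Qh.obj
        ((HomotopyCategory.quotient (EtCoh.Ab X) (ComplexShape.up ℤ)).obj I))) := by
    intro I hI
    haveI := Aux.isKInjective_push f I
    haveI h1 := Aux.isIso_unit (f ≫ g) I
    haveI h2 := Aux.isIso_unit f I
    haveI h3 := Aux.isIso_unit g (((EtCoh.push f).mapHomologicalComplex (ComplexShape.up ℤ)).obj I)
    let T := (HomotopyCategory.quotient (EtCoh.Ab X) (ComplexShape.up ℤ)).obj I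
    haveI : IsIso (NatTrans.mapHomotopyCategory (EtCoh.pushComp g f).inv (ComplexShape.up ℤ)) :=
      ⟨NatTrans.mapHomotopyCategory (EtCoh.pushComp g f).hom (ComplexShape.up ℤ),
        by rw [← NatTrans.mapHomotopyCategory_comp, Iso.inv_hom_id, NatTrans.mapHomotopyCategory_id],
        by rw [← NatTrans.mapHomotopyCategory_comp, Iso.hom_inv_id, NatTrans.mapHomotopyCategory_id]⟩
    haveI h3' : IsIso (((DCoh.pushEtKh Y g).totalRightDerivedUnit DerivedCategory.Qh
        (HomotopyCategory.quasiIso (EtCoh.Ab Y) (ComplexShape.up ℤ))).app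
        (((EtCoh.push f).mapHomotopyCategory (ComplexShape.up ℤ)).obj T)) := h3
    haveI : IsIso ((compUnit f g).app T) := by
      unfold compUnit
      simp only [NatTrans.comp_app, Functor.whiskerLeft_app, Functor.whiskerRight_app,
        Functor.associator_hom_app, Functor.associator_inv_app]
      infer_instance
    have h : α.app T ≫ (compMap f g).app (DerivedCategory.Qh.obj T) = (compUnit f g).app T :=
      (DCoh.RpushEt X (f ≫ g)).rightDerived_fac_app α W _ (compUnit f g) T
    haveI : IsIso (α.app T ≫ (compMap f g).app (DerivedCategory.Qh.obj T)) := by rw [h]; infer_instance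
    exact IsIso.of_isIso_comp_left (α.app T) _
  haveI : ∀ D, IsIso ((compMap f g).app D) := by
    intro D
    obtain ⟨I, q, hI, hq⟩ := Aux.exists_kInj X ((DerivedCategory.Q (C := EtCoh.Ab X)).objPreimage D)
    haveI := hq
    refine (NatTrans.isIso_app_iff_of_iso (compMap f g) ?_).1 (key I hI)
    exact (DerivedCategory.quotientCompQhIso _).app I ≪≫ (asIso (DerivedCategory.Q.map q)).symm ≪≫
      (DerivedCategory.Q (C := EtCoh.Ab X)).objObjPreimageIso D
  exact NatIso.isIso_of_isIso_app _

end Groth.Agent.S4329
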