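import Groth.Statements.S0133
import Groth.Agent.EtFound.ExtZeroConstr
import Groth.Agent.EtFound.JContGen
import Groth.Agent.EtFound.ConstStalk
import Groth.Agent.EtFound.NoethACC
import Groth.Prelude.Def_EtCore
import Mathlib.CategoryTheory.Sites.ConstantSheaf
-- import your own Groth.Agent.* helpers here

set_option autoImplicit false
universe u
open CategoryTheory CategoryTheory.Limits AlgebraicGeometry Opposite
open EtPBC

namespace Groth.Agent.S0133

/-- (2): for j : U -> X etale with U and X quasi-compact and quasi-separated and M a finite abelian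
group, j_! M is a constructible abelian sheaf on X_et. -/
theorem result (X : Scheme.{u}) [CompactSpace X] [QuasiSeparatedSpace X]
    (U : X.Etale) [CompactSpace U.left] [QuasiSeparatedSpace U.left]
    (M : Type) [AddCommGroup M] [Finite M] :
    EtPBC.IsConstructible (EtPBC.extZeroConst U M) := by
  haveI : AlgebraicGeometry.Etale U.hom := U.prop
  let g : U.left ⟶ X := U.hom
  haveI : QuasiCompact g := quasiCompact_of_compactSpace g
  haveI : QuasiCompact U.hom := ‹QuasiCompact g›
  haveI : QuasiSeparated g := QuasiSeparated.of_comp g (terminal.from X)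
  haveI : QuasiSeparated U.hom := ‹QuasiSeparated g›
  haveI : EtShriek.JCont U.hom := EtFound.jCont U.hom
  let M' : AddCommGrpCat.{u + 1} := AddCommGrpCat.of (ULift.{u + 1} M)
  haveI : Finite M' := inferInstanceAs (Finite (ULift.{u + 1} M))
  let J := U.left.smallEtaleTopology
  let C : EtCoh.Ab U.left := (constantSheaf J AddCommGrpCat.{u + 1}).obj M'
  have hC : EtCoh.IsFiniteLocallyConstant C := by
    refine (EtFound.isFiniteLocallyConstant_iff C).2 fun x => ⟨EtCoh.top U.left, x, rfl, ?_⟩
    let φ : M' ⟶ C.obj.obj (op (EtCoh.top U.left)) :=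
      (toSheafify J ((Functor.const U.left.Etaleᵒᵖ).obj M')).app (op (EtCoh.top U.left))
    have hφ : EtFound.ConstBy C φ := fun Ω _ _ ξ z =>
      EtFound.toSheafify_const_germ_bijective ξ AddCommGrpCat.{u + 1} M' (EtCoh.top U.left) z
    exact ⟨_, EtFound.finConst_range hφ⟩
  let i : (EtShriek.compEtale U.hom).obj (EtCoh.top U.left) ≅ U :=
    MorphismProperty.Over.isoMk (Iso.refl _) rfl
  let e := Adjunction.leftAdjointUniq
    ((constantSheafAdj (X.smallEtaleTopology.over U) AddCommGrpCat.{u + 1} Over.mkIdTerminal).comp (EtPBC.extZeroAdj U))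
    (((constantSheafAdj J AddCommGrpCat.{u + 1} (EtCore.topIsTerminal U.left)).comp
      (EtShriek.extZeroAdj U.hom)).ofNatIsoRight (NatIso.ofComponents
        (fun G => (G.obj.mapIso i.op).symm) fun {G G'} a => by
          exact (a.hom.naturality i.inv.op).symm))
  exact EtFound.isConstructible_of_iso (e.app M').symm (EtFound.isConstructible_extZero U.hom hC)

end Groth.Agent.S0133
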