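import Groth.Statements.S8525
import Groth.Agent.EtFound.Germ

set_option autoImplicit false
universe u
open CategoryTheory CategoryTheory.Limits AlgebraicGeometry Opposite
open EtAcyc

namespace Groth.Agent.S8525

/-- Let L be a set of primes and F an abelian sheaf on the small etale site of a scheme X. Then F is an
L-torsion sheaf if and only if for every geometric point ξ of X every element of the stalk F_ξ is
killed by a positive integer all of whose prime factors lie in L. -/
theorem result {X : Scheme.{u}} (L : Set ℕ) (F : EtCoh.Ab X) :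
    EtAcyc.IsLTorsion L F ↔
      ∀ (Ω : Type u) [Field Ω] [IsSepClosed Ω] (ξ : Spec (CommRingCat.of Ω) ⟶ X)
        (t : (EtCoh.stalk ξ).obj F), ∃ m : ℕ, EtAcyc.PrimesIn L m ∧ m • t = 0 := by
  constructor
  · intro hF Ω _ _ ξ t
    obtain ⟨U, u, s, rfl⟩ := (Scheme.pointSmallEtale ξ).toPresheafFiber_jointly_surjective t
    obtain ⟨V, g, m, ⟨v, hv⟩, hm, h0⟩ := hF U s _
    obtain ⟨v', rfl, -⟩ := EtFound.exists_lift_point g u v hv
    refine ⟨m, hm, ?_⟩
    erw [← (Scheme.pointSmallEtale ξ).toPresheafFiber_w_apply g v' F.obj s]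
    exact (map_nsmul _ _ _).symm.trans ((congrArg _ h0).trans (map_zero _))
  · intro h U s x
    obtain ⟨Ω, _, _, ξ, u, hu⟩ := EtFound.exists_point_through U x
    obtain ⟨m, hm, h0⟩ := h Ω ξ ((Scheme.pointSmallEtale ξ).toPresheafFiber U u F.obj s)
    have h0' : (Scheme.pointSmallEtale ξ).toPresheafFiber U u F.obj (m • s) =
        (Scheme.pointSmallEtale ξ).toPresheafFiber U u F.obj 0 := by
      rw [map_zero, map_nsmul]; exact h0
    obtain ⟨V, f, v, hv, hf⟩ := ((Scheme.pointSmallEtale ξ).toPresheafFiber_eq_iff' _ _ _ _).1 h0'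
    refine ⟨V, f, m, ⟨(v.left : Spec (CommRingCat.of Ω) ⟶ V.left).base (default : Spec (CommRingCat.of Ω)), ?_⟩,
      hm, ?_⟩
    · subst hv
      exact hu (default : Spec (CommRingCat.of Ω))
    · rw [map_nsmul, map_zero] at hf
      exact hf

end Groth.Agent.S8525
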