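import Groth.Statements.S8560
import Groth.Agent.EtFound.TorsionCoh
import Groth.Agent.TriCat.AcyclicObj
-- import your own Groth.Agent.* helpers here

set_option autoImplicit false
universe u
open CategoryTheory CategoryTheory.Limits AlgebraicGeometry Opposite
open EtAcyc

namespace Groth.Agent.S8560

/-- For the etale sites of schemes and a set of primes L: if f : X ⟶ Y is a quasi-compact and
quasi-separated morphism of schemes and F is an abelian L-torsion sheaf on the small etale site of X
(every section is, etale-locally around each point, killed by a positive integer all of whose prime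
factors lie in L), then each higher direct image R^q f_* F is an L-torsion sheaf on Y. (The
published statement, for topoi, asks only that the morphism be quasi-compact; this row also assumes
f quasi-separated: for the spectrum of a polynomial ring in countably many variables over a
separably closed field glued to a copy of itself along the complement of the origin, and the direct
sum of the skyscraper sheaves ℤ/pⁿ at the points where exactly the n-th variable is 1, the structure
morphism to the field is quasi-compact but H¹ contains a class of infinite order.) -/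
theorem result {X Y : Scheme.{u}} (f : X ⟶ Y) [QuasiCompact f] [QuasiSeparated f]
    [EtCoh.BCCont f] (L : Set ℕ) (F : EtCoh.Ab X) (hF : EtAcyc.IsLTorsion L F) (q : ℕ) :
    EtAcyc.IsLTorsion L ((EtCoh.Rpush f q).obj F) := by
  have hT : EtCoh.IsTorsion F := fun U s x => by
    obtain ⟨V, g, m, hv, hm, hs⟩ := hF U s x
    exact ⟨V, g, hv, isOfFinAddOrder_iff_nsmul_eq_zero.2 ⟨m, hm.1, hs⟩⟩
  -- primes outside `L` act invertibly
  have hiso : ∀ p : ℕ, p.Prime → p ∉ L → IsIso (p • 𝟙 F) := fun p hp hpL => by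
    refine (EtFound.isIso_iff_stalks _).2 fun Ω _ _ ξ => ?_
    have hmap : ∀ c : (EtCoh.stalk ξ).obj F, (EtCoh.stalk ξ).map (p • 𝟙 F) c = p • c := fun c => by
      obtain ⟨W, w, t, rfl⟩ := (Scheme.pointSmallEtale ξ).toPresheafFiber_jointly_surjective c
      refine ((Scheme.pointSmallEtale ξ).toPresheafFiber_naturality_apply (p • 𝟙 F).hom W w t).trans ?_
      refine (congrArg _ (EtFound.nsmul_hom_app (𝟙 F) p W t)).trans ?_
      exact map_nsmul ((Scheme.pointSmallEtale ξ).toPresheafFiber W w F.obj).hom p t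
    have hord : ∀ c : (EtCoh.stalk ξ).obj F, ∃ m : ℕ, Nat.Coprime p m ∧ m • c = 0 := fun c => by
      obtain ⟨W, w, t, rfl⟩ := (Scheme.pointSmallEtale ξ).toPresheafFiber_jointly_surjective c
      obtain ⟨V, f, m, ⟨y, hy⟩, hm, hs⟩ := hF W t (EtFound.ptOf w)
      refine ⟨m, hp.coprime_iff_not_dvd.2 fun h => hpL (hm.2 p hp h), ?_⟩
      obtain ⟨v, -⟩ := Scheme.pointSmallEtaleFiberObjToPreimage_surjective (w.left : Spec (CommRingCat.of Ω) ⟶ W.left) rfl
        (@Scheme.Etale.mk _ _ (f.left : V.left ⟶ W.left) (EtFound.etale_left f)) ⟨y, hy⟩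
      let v₀ : (Scheme.pointSmallEtale ξ).fiber.obj V :=
        CategoryTheory.Over.homMk (v.left : Spec (CommRingCat.of Ω) ⟶ V.left) (by
          refine (congrArg (fun r => (v.left : Spec (CommRingCat.of Ω) ⟶ V.left) ≫ r) (MorphismProperty.Over.w f).symm).trans ?_
          refine (Category.assoc _ _ _).symm.trans ?_
          exact (congrArg (· ≫ W.hom) (CategoryTheory.Over.w v)).trans (CategoryTheory.Over.w w))
      have hv₀ : (Scheme.pointSmallEtale ξ).fiber.map f v₀ = w :=
        CategoryTheory.Over.OverMorphism.ext (CategoryTheory.Over.w v)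
      rw [← hv₀, ← (Scheme.pointSmallEtale ξ).toPresheafFiber_w_apply]
      exact (map_nsmul ((Scheme.pointSmallEtale ξ).toPresheafFiber V v₀ F.obj).hom m _).symm.trans ((congrArg _ hs).trans (map_zero _))
    rw [ConcreteCategory.isIso_iff_bijective]
    refine ⟨(injective_iff_map_eq_zero _).2 fun c hc => ?_, fun c => ?_⟩
    · rw [hmap] at hc
      obtain ⟨m, hm, hmc⟩ := hord c
      exact AddMonoid.addOrderOf_eq_one_iff.1 (Nat.eq_one_of_dvd_coprimes hm
        (addOrderOf_dvd_of_nsmul_eq_zero hc) (addOrderOf_dvd_of_nsmul_eq_zero hmc))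
    · obtain ⟨m, hm, hmc⟩ := hord c
      obtain ⟨x, y, hxy⟩ := Int.isCoprime_iff_nat_coprime.2 (show Nat.Coprime (p : ℤ).natAbs (m : ℤ).natAbs by simpa using hm)
      refine ⟨x • c, (hmap _).trans ?_⟩
      have h1 : (x * (p : ℤ)) • c + (y * (m : ℤ)) • c = c := by rw [← add_zsmul, hxy, one_zsmul]
      rw [mul_zsmul, mul_zsmul, natCast_zsmul, natCast_zsmul, hmc, zsmul_zero, add_zero, smul_comm] at h1
      exact h1
  -- hence every prime outside `L` cancels
  let G := (EtCoh.Rpush f q).obj F
  have hinj : ∀ p : ℕ, p.Prime → p ∉ L → ∀ (V : Y.Etale) (t : G.obj.obj (op V)), p • t = 0 → t = 0 := by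
    intro p hp hpL V t ht
    haveI := hiso p hp hpL
    have e : (EtCoh.Rpush f q).map (p • 𝟙 F) = p • 𝟙 G := by
      rw [Functor.map_nsmul, CategoryTheory.Functor.map_id]
    haveI : IsIso (p • 𝟙 G) := e ▸ inferInstance
    haveI : IsIso ((p • 𝟙 G).hom.app (op V)) := inferInstanceAs
      (IsIso (((sheafToPresheaf _ _) ⋙ (evaluation _ _).obj (op V)).map (p • 𝟙 G)))
    refine ((ConcreteCategory.isIso_iff_bijective _).1 this).1 ?_
    refine ((EtFound.nsmul_hom_app (𝟙 G) p V t).trans ?_).trans (map_zero _).symm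
    exact ht
  intro U s x
  obtain ⟨V, g, hv, hfin⟩ := EtFound.isTorsion_Rpush f hT q U s x
  obtain ⟨n, hn, hns⟩ := isOfFinAddOrder_iff_nsmul_eq_zero.1 hfin
  suffices key : ∀ n : ℕ, 0 < n → ∀ t : G.obj.obj (op V), n • t = 0 → ∃ m, EtAcyc.PrimesIn L m ∧ m • t = 0 by
    obtain ⟨m, hm, hm'⟩ := key n hn _ hns
    exact ⟨V, g, m, hv, hm, hm'⟩
  intro n
  induction n using Nat.strong_induction_on with
  | _ n ih =>
    intro hn t ht
    by_cases h : ∀ p : ℕ, p.Prime → p ∣ n → p ∈ L
    · exact ⟨n, ⟨hn, h⟩, ht⟩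
    push Not at h
    obtain ⟨p, hp, ⟨m, rfl⟩, hpL⟩ := h
    have hm : 0 < m := pos_of_mul_pos_right hn (Nat.zero_le _)
    refine ih m (lt_mul_left hm hp.one_lt) hm t (hinj p hp hpL V _ ?_)
    rw [← mul_nsmul', ht]

end Groth.Agent.S8560
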