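import Groth.Statements.S8536
import Groth.Agent.EtMVLib.HpullApply
import Groth.Agent.EtFound.Basic
import Mathlib.CategoryTheory.Sites.EpiMono
import Mathlib.Algebra.Homology.DerivedCategory.Ext.ExactSequences
-- import your own Groth.Agent.* helpers here

set_option autoImplicit false
universe u
open CategoryTheory CategoryTheory.Limits AlgebraicGeometry Opposite
open EtAcyc

namespace Groth.Agent.S8536

/-- Let h : Y → X be a morphism of quasi-compact quasi-separated schemes, L a set of primes and n a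
natural number, and suppose that for every abelian L-torsion sheaf on X the pullback map on etale
cohomology along h is bijective in degrees ≤ n and injective in degree n + 1. Let u : F → G be a
monomorphism of abelian L-torsion sheaves on X and ξ a class in H^{n+1}(Y, h⁻¹F) whose image in
H^{n+1}(Y, h⁻¹G) comes from H^{n+1}(X, G). Then ξ comes from H^{n+1}(X, F). -/
theorem result {X Y : Scheme.{u}} [CompactSpace X] [QuasiSeparatedSpace X]
    [CompactSpace Y] [QuasiSeparatedSpace Y] (h : Y ⟶ X) (L : Set ℕ) (n : ℕ) (hc : EtAcyc.CompN h L n)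
    [PreservesFiniteLimits (EtCoh.pull h)] {F G : EtCoh.Ab X} (u : F ⟶ G) [Mono u]
    (hF : EtAcyc.IsLTorsion L F) (hG : EtAcyc.IsLTorsion L G)
    (ξ : EtCoh.H Y ((EtCoh.pull h).obj F) (n + 1))
    (hξ : (EtCoh.HF Y (n + 1)).map ((EtCoh.pull h).map u) ξ ∈ Set.range (EtCore.Hpull h G (n + 1))) :
    ξ ∈ Set.range (EtCore.Hpull h F (n + 1)) := by
  let Q := cokernel u
  let S := ShortComplex.mk u (cokernel.π u) (cokernel.condition u)
  have hS : S.ShortExact := { exact := ShortComplex.exact_of_g_is_cokernel _ (cokernelIsCokernel u) }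
  have hQ : EtAcyc.IsLTorsion L S.X₃ := by
    intro U s x
    have hloc : Presheaf.IsLocallySurjective X.smallEtaleTopology (cokernel.π u).hom :=
      (Sheaf.isLocallySurjective_iff_epi' AddCommGrpCat.{u + 1} (cokernel.π u)).2 inferInstance
    obtain ⟨V₁, g₁, v₁, ⟨c₁, hc₁⟩, hv₁⟩ := (EtFound.mem_topology_iff _).1 (hloc.imageSieve_mem (U := U) s) x
    obtain ⟨V, g₂, m, ⟨v, hv⟩, hm, h0⟩ := hG V₁ c₁ v₁
    refine ⟨V, g₂ ≫ g₁, m, ⟨v, ?_⟩, hm, ?_⟩
    · exact (Scheme.Hom.comp_apply g₂.left g₁.left v).trans ((congrArg (fun z => g₁.left.base z) hv).trans hv₁)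
    · rw [op_comp, Functor.map_comp, ConcreteCategory.comp_apply, ← hc₁, ← NatTrans.naturality_apply, ← map_nsmul, h0,
        map_zero]
  obtain ⟨γ, hγ⟩ := hξ
  have hnat : ∀ {A B : EtCoh.Ab X} (a : A ⟶ B) (q : ℕ) (x : EtCoh.H X A q),
      EtCore.Hpull h B q (x.comp (Abelian.Ext.mk₀ a) (add_zero q)) =
        (EtCore.Hpull h A q x).comp (Abelian.Ext.mk₀ ((EtCoh.pull h).map a)) (add_zero q) := by
    intro A B a q x
    rw [EtMVLib.Hpull_apply, EtMVLib.Hpull_apply, Abelian.Ext.mapExactFunctor_comp, Abelian.Ext.mapExactFunctor_mk₀,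
      Abelian.Ext.comp_assoc_of_third_deg_zero]
  have hT := hS.map_of_exact (EtCoh.pull h)
  have hγ' : γ.comp (Abelian.Ext.mk₀ S.g) (add_zero (n + 1)) = 0 := by
    refine (injective_iff_map_eq_zero _).1 ((hc S.X₃ hQ).2) _ ?_
    refine (hnat S.g (n + 1) γ).trans ?_
    rw [hγ]
    show (ξ.comp (Abelian.Ext.mk₀ ((EtCoh.pull h).map u)) (add_zero (n + 1))).comp _ _ = 0
    rw [Abelian.Ext.comp_assoc_of_third_deg_zero, Abelian.Ext.mk₀_comp_mk₀, ← Functor.map_comp]
    erw [S.zero]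
    simp
  obtain ⟨φ, rfl⟩ := Abelian.Ext.covariant_sequence_exact₂ _ hS γ hγ'
  have h0 : (ξ - EtCore.Hpull h F (n + 1) φ).comp (Abelian.Ext.mk₀ ((EtCoh.pull h).map u)) (add_zero (n + 1)) = 0 := by
    rw [sub_eq_add_neg, Abelian.Ext.add_comp, Abelian.Ext.neg_comp, ← hnat u (n + 1) φ, add_neg_eq_zero]
    exact hγ.symm
  obtain ⟨η, hη⟩ := Abelian.Ext.covariant_sequence_exact₁ _ hT _ h0 (rfl : n + 1 = n + 1)
  obtain ⟨η₀, rfl⟩ := ((hc S.X₃ hQ).1 n le_rfl).2 η
  refine ⟨η₀.comp hS.extClass rfl + φ, ?_⟩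
  rw [map_add]
  refine eq_sub_iff_add_eq.1 (Eq.trans ?_ hη)
  change EtCore.Hpull h S.X₁ (n + 1) (η₀.comp hS.extClass rfl) = (EtCore.Hpull h S.X₃ n η₀).comp hT.extClass rfl
  rw [EtMVLib.Hpull_apply, EtMVLib.Hpull_apply, Abelian.Ext.mapExactFunctor_comp, Abelian.Ext.mapExactFunctor_extClass]
  exact (Abelian.Ext.comp_assoc _ _ _ (zero_add n) rfl (by omega)).symm

end Groth.Agent.S8536
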