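import Groth.Statements.S1032
import Groth.Agent.TriCat.DerivedOfAdjunction

set_option autoImplicit false
universe w v v' u u'
open CategoryTheory CategoryTheory.Limits
open CohDer

namespace Groth.Agent.S1032

/-- Let A be an abelian category in which every cochain complex admits a quasi-isomorphism to a
K-injective complex, and let F be an exact functor from the homotopy category K(A) to a
pretriangulated category. Then F has a right derived functor RF with respect to quasi-isomorphisms
(defined on D(A)), and the canonical map F(I) ⟶ RF(I) is an isomorphism for every K-injective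
complex I. -/
theorem result {A : Type u} [Category.{v} A] [Abelian A] [HasDerivedCategory.{w} A]
    (hKinj : ∀ K : CochainComplex A ℤ, ∃ (I : CochainComplex A ℤ) (f : K ⟶ I), I.IsKInjective ∧ QuasiIso f)
    {D' : Type u'} [Category.{v'} D'] [Preadditive D'] [Limits.HasZeroObject D'] [HasShift D' ℤ]
    [∀ n : ℤ, (shiftFunctor D' n).Additive] [Pretriangulated D']
    [IsTriangulated D']
    (F : HomotopyCategory A (ComplexShape.up ℤ) ⥤ D') [F.CommShift ℤ] [F.IsTriangulated] :
    F.HasRightDerivedFunctor (HomotopyCategory.quasiIso A (ComplexShape.up ℤ)) ∧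
    ∀ [F.HasRightDerivedFunctor (HomotopyCategory.quasiIso A (ComplexShape.up ℤ))] (I : CochainComplex A ℤ), I.IsKInjective →
      IsIso ((F.totalRightDerivedUnit DerivedCategory.Qh (HomotopyCategory.quasiIso A (ComplexShape.up ℤ))).app
        ((HomotopyCategory.quotient A (ComplexShape.up ℤ)).obj I)) := by
  open Groth.Agent.TriCat in
  have := qh_isLeftAdjoint_of_exists_resolution hKinj
  let adj := Adjunction.ofIsLeftAdjoint (DerivedCategory.Qh (C := A))
  let W := HomotopyCategory.quasiIso A (ComplexShape.up ℤ)
  have hd := isRightDerivedFunctor_of_adjunction adj W F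
  refine ⟨Functor.HasRightDerivedFunctor.mk' (L := DerivedCategory.Qh)
    (DerivedCategory.Qh.rightAdjoint ⋙ F) (Functor.whiskerRight adj.unit F) (W := W), fun {_} I hI => ?_⟩
  have := isIso_unit_of_isKInjective adj I
  let α := F.totalRightDerivedUnit DerivedCategory.Qh W
  let α' : F ⟶ DerivedCategory.Qh ⋙ DerivedCategory.Qh.rightAdjoint ⋙ F :=
    Functor.whiskerRight adj.unit F
  let e := Functor.rightDerivedUnique _ _ α α' W
  have h : IsIso (α'.app ((HomotopyCategory.quotient A (ComplexShape.up ℤ)).obj I)) :=
    inferInstanceAs (IsIso (F.map _))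
  have hf := Functor.rightDerived_fac_app _ α W _ α' ((HomotopyCategory.quotient A (ComplexShape.up ℤ)).obj I)
  have h2 : IsIso (α.app ((HomotopyCategory.quotient A (ComplexShape.up ℤ)).obj I) ≫
      e.hom.app (DerivedCategory.Qh.obj ((HomotopyCategory.quotient A (ComplexShape.up ℤ)).obj I))) := by
    have : e.hom = Functor.rightDerivedDesc _ α W _ α' := by
      simp [e, Functor.rightDerivedNatTrans]
    rw [this, hf]
    exact h
  exact IsIso.of_isIso_comp_right _ (e.hom.app _)

end Groth.Agent.S1032
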