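import Groth.Statements.S0734
import Groth.Agent.IndEtLib.Sys
import Mathlib.RingTheory.Smooth.NoetherianDescent
import Mathlib.RingTheory.Etale.Basic
import Mathlib.RingTheory.TensorProduct.Maps
import Mathlib.RingTheory.FinitePresentation
-- import your own Groth.Agent.* helpers here

set_option autoImplicit false
open CategoryTheory CategoryTheory.Limits AlgebraicGeometry Opposite Topology
universe u
open ProEtW

namespace Groth.Agent.S0734
open CategoryTheory
open scoped TensorProduct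

/-- finitely presented test algebras mapping into an étale algebra over an ind-étale algebra factor
through an étale algebra -/
theorem factor_etale {A B : Type u} [CommRing A] [CommRing B] [Algebra A B] (hAB : EtPBC.IsIndEtale A B)
    (N : Type u) [CommRing N] [Algebra B N] [Algebra A N] [IsScalarTower A B N] [Algebra.Etale B N]
    (P : Type u) [CommRing P] [Algebra A P] [Algebra.FinitePresentation A P] (φ : P →ₐ[A] N) :
    ∃ (M : Type u) (_ : CommRing M) (_ : Algebra A M) (_ : Algebra.Etale A M)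
      (α : P →ₐ[A] M) (β : M →ₐ[A] N), β.comp α = φ := by
  obtain ⟨S, hS, ⟨e⟩⟩ := IndEtLib.exists_sys hAB
  obtain ⟨A0, N0, _, _, hfg, het, ⟨eN⟩⟩ := Algebra.Etale.exists_subalgebra_fg (R := ℤ) (A := B) (B := N)
  haveI : Algebra.FiniteType ℤ A0 := (Subalgebra.fg_iff_finiteType A0).1 hfg
  haveI : Algebra.FinitePresentation ℤ A0 := Algebra.FinitePresentation.of_finiteType.1 inferInstance
  let χ : A ⊗[ℤ] A0 →ₐ[A] B :=
    Algebra.TensorProduct.lift (Algebra.ofId A B) A0.val (fun _ _ => .all _ _)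
  obtain ⟨i, ψ, hψ⟩ := S.exists_lift (A ⊗[ℤ] A0) (e.symm.toAlgHom.comp χ)
  letI algA0 : Algebra A0 (S.A i) :=
    (ψ.toRingHom.comp (Algebra.TensorProduct.includeRight : A0 →ₐ[ℤ] A ⊗[ℤ] A0).toRingHom).toAlgebra
  letI algB : Algebra (S.A i) B := (e.toRingEquiv.toRingHom.comp (S.ι i).toRingHom).toAlgebra
  haveI : IsScalarTower A (S.A i) B := IsScalarTower.of_algebraMap_eq fun a =>
    (((congrArg e ((S.ι i).commutes a)).trans (e.commutes a))).symm
  haveI : IsScalarTower A0 (S.A i) B := IsScalarTower.of_algebraMap_eq fun a => by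
    change (a : B) = e (S.ι i (ψ ((1 : A) ⊗ₜ[ℤ] a)))
    rw [show S.ι i (ψ ((1 : A) ⊗ₜ[ℤ] a)) = e.symm (χ ((1 : A) ⊗ₜ[ℤ] a)) from AlgHom.congr_fun hψ _,
      e.apply_symm_apply]
    simp [χ]
  let Ni : Type u := (S.A i) ⊗[A0] N0
  haveI : Algebra.Etale (S.A i) Ni := inferInstance
  -- the system `Ni ⊗ B_k`
  let g : CommRingCat.of A ⟶ CommRingCat.of Ni :=
    (S.D.obj i).hom ≫ CommRingCat.ofHom (algebraMap (S.A i) Ni)
  letI algNi : Algebra ((S.D.obj i).right) (CommRingCat.of Ni) := inferInstanceAs (Algebra (S.A i) Ni)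
  let U := ((S.under i).baseChange (CommRingCat.of Ni)).restrict g
  let eB : (S.under i).pt ≃ₐ[S.A i] B := AlgEquiv.ofRingEquiv (f := e.toRingEquiv) fun a => rfl
  letI algN : Algebra (S.A i) N := ((algebraMap B N).comp (algebraMap (S.A i) B)).toAlgebra
  let eU : Ni ⊗[S.A i] (S.under i).pt ≃ₐ[S.A i] N :=
    ((Algebra.TensorProduct.congr AlgEquiv.refl eB : Ni ⊗[S.A i] (S.under i).pt ≃ₐ[S.A i] Ni ⊗[S.A i] B).trans
      (Algebra.TensorProduct.comm (S.A i) Ni B)).trans
      ((Algebra.TensorProduct.cancelBaseChange A0 (S.A i) (S.A i) B N0).trans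
        (AlgEquiv.ofRingEquiv (f := eN.symm.toRingEquiv) fun a => by
            change eN.symm (algebraMap (S.A i) B a ⊗ₜ 1) = algebraMap B N (algebraMap (S.A i) B a)
            exact eN.symm.commutes _))
  let eU' : U.pt ≃ₐ[A] N := AlgEquiv.ofRingEquiv (f := eU.toRingEquiv) fun a => by
    change eU (algebraMap (S.A i) (Ni ⊗[S.A i] (S.under i).pt) (algebraMap A (S.A i) a)) = algebraMap A N a
    rw [eU.commutes, IsScalarTower.algebraMap_apply A B N, IsScalarTower.algebraMap_apply A (S.A i) B]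
    rfl
  obtain ⟨k, α, hα⟩ := U.exists_lift P (eU'.symm.toAlgHom.comp φ)
  have hk : Algebra.Etale A (U.A k) := by
    letI Ak := (S.A k.right)
    letI : Algebra (S.A i) (S.A k.right) := (S.tr k.hom).toRingHom.toAlgebra
    haveI : IsScalarTower A (S.A i) (S.A k.right) :=
      IsScalarTower.of_algebraMap_eq fun a => ((S.tr k.hom).commutes a).symm
    haveI := hS k.right
    haveI : Algebra.Etale A ((S.A k.right) ⊗[S.A i] Ni) :=
      Algebra.Etale.comp A (S.A k.right) _
    refine Algebra.Etale.of_equiv (R := A) (A := (S.A k.right) ⊗[S.A i] Ni) (AlgEquiv.ofRingEquiv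
      (f := (Algebra.TensorProduct.comm (S.A i) (S.A k.right) Ni).toRingEquiv) fun a => ?_)
    change Algebra.TensorProduct.comm (S.A i) (S.A k.right) Ni ((algebraMap A (S.A k.right) a) ⊗ₜ 1) =
      (algebraMap (S.A i) Ni (algebraMap A (S.A i) a)) ⊗ₜ 1
    rw [Algebra.TensorProduct.comm_tmul, IsScalarTower.algebraMap_apply A (S.A i) (S.A k.right),
      Algebra.algebraMap_eq_smul_one, TensorProduct.tmul_smul, TensorProduct.smul_tmul']
    simp only [Algebra.algebraMap_eq_smul_one]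
  refine ⟨U.A k, inferInstance, inferInstance, hk, α, eU'.toAlgHom.comp (U.ι k), ?_⟩
  rw [AlgHom.comp_assoc, hα]
  ext p
  simp


/-- A composite of two ind-etale ring maps is ind-etale. -/
theorem result (A B C : Type u) [CommRing A] [CommRing B] [CommRing C] [Algebra A B]
    [Algebra B C] [Algebra A C] [IsScalarTower A B C] (hAB : EtPBC.IsIndEtale A B)
    (hBC : EtPBC.IsIndEtale B C) : EtPBC.IsIndEtale A C := by
  refine IndEtLib.isIndEtale_of_factor fun P _ _ _ φ => ?_
  obtain ⟨T, hT, ⟨e⟩⟩ := IndEtLib.exists_sys hBC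
  let φ' : B ⊗[A] P →ₐ[B] C := Algebra.TensorProduct.lift (Algebra.ofId B C) φ (fun _ _ => .all _ _)
  obtain ⟨j, ψ, hψ⟩ := T.exists_lift (B ⊗[A] P) (e.symm.toAlgHom.comp φ')
  letI : Algebra A (T.A j) := ((algebraMap B (T.A j)).comp (algebraMap A B)).toAlgebra
  haveI : IsScalarTower A B (T.A j) := IsScalarTower.of_algebraMap_eq fun _ => rfl
  haveI := hT j
  obtain ⟨M, _, _, _, α, β, hαβ⟩ := factor_etale hAB (T.A j) P
    ((ψ.restrictScalars A).comp Algebra.TensorProduct.includeRight)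
  let γ : T.A j →ₐ[A] C := (e.toAlgHom.comp (T.ι j)).restrictScalars A
  refine ⟨M, inferInstance, inferInstance, inferInstance, α, γ.comp β, ?_⟩
  rw [AlgHom.comp_assoc, hαβ]
  ext p
  change e (T.ι j (ψ ((1 : B) ⊗ₜ[A] p))) = φ p
  rw [show T.ι j (ψ ((1 : B) ⊗ₜ[A] p)) = e.symm (φ' ((1 : B) ⊗ₜ[A] p)) from AlgHom.congr_fun hψ _,
    e.apply_symm_apply]
  simp [φ']

end Groth.Agent.S0734
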