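import Groth.Statements.S0733
import Groth.Agent.IndEtLib.Sys
import Mathlib.RingTheory.Etale.Basic
-- import your own Groth.Agent.* helpers here

set_option autoImplicit false
open CategoryTheory CategoryTheory.Limits AlgebraicGeometry Opposite Topology
universe u
open scoped TensorProduct
open ProEtW

namespace Groth.Agent.S0733

/-- If A -> B is ind-etale (a filtered colimit of etale A-algebras) and A -> A' is any ring map, then A'
-> A' (x)_A B is ind-etale. -/
theorem result (A B A' : Type u) [CommRing A] [CommRing B] [CommRing A']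
    [Algebra A B] [Algebra A A'] (h : EtPBC.IsIndEtale A B) :
    EtPBC.IsIndEtale A' (A' ⊗[A] B) := by
  obtain ⟨S, hS, ⟨e⟩⟩ := Groth.Agent.IndEtLib.exists_sys h
  letI : Algebra (CommRingCat.of A) (CommRingCat.of A') := ‹Algebra A A'›
  let T := S.baseChange (CommRingCat.of A')
  refine ⟨T.J, inferInstance, inferInstance, T.D, T.c, T.hc, fun j => ?_, ⟨?_⟩⟩
  · haveI := hS j
    show letI := (algebraMap A' (A' ⊗[A] S.A j)).toAlgebra; Algebra.Etale A' (A' ⊗[A] S.A j)
    rw [toAlgebra_algebraMap]
    infer_instance
  · exact (Algebra.TensorProduct.congr AlgEquiv.refl e :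
      A' ⊗[A] S.pt ≃ₐ[A'] A' ⊗[A] B).toUnder

end Groth.Agent.S0733
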