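import Groth.Statements.S0735
import Groth.Agent.IndEtLib.Sys
import Mathlib.RingTheory.Etale.Basic
import Mathlib.RingTheory.TensorProduct.Maps
-- import your own Groth.Agent.* helpers here

set_option autoImplicit false
open CategoryTheory CategoryTheory.Limits AlgebraicGeometry Opposite Topology
universe u
open ProEtW

namespace Groth.Agent.S0735
open CategoryTheory
open scoped TensorProduct

/-- If A -> B and A -> C are ind-etale and C is a B-algebra compatibly with A, then C is ind-etale over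
B. -/
theorem result (A B C : Type u) [CommRing A] [CommRing B]
    [CommRing C] [Algebra A B] [Algebra B C] [Algebra A C] [IsScalarTower A B C]
    (hB : EtPBC.IsIndEtale A B) (hC : EtPBC.IsIndEtale A C) : EtPBC.IsIndEtale B C := by
  classical
  obtain ⟨S, hS, ⟨eS⟩⟩ := IndEtLib.exists_sys hB
  obtain ⟨T, hT, ⟨eT⟩⟩ := IndEtLib.exists_sys hC
  refine IndEtLib.isIndEtale_of_factor fun P _ _ _ φ => ?_
  obtain ⟨n, π, hπ, hker⟩ := Algebra.FinitePresentation.out (R := B) (A := P)
  obtain ⟨t, ht⟩ := hker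
  -- the coefficients of the relations at a stage of `B`
  obtain ⟨i, b₀, hb₀⟩ := S.exists_lift_finset (t.biUnion fun r => r.support.image r.coeff) fun b => eS.symm b
  let ιB : S.A i →ₐ[A] B := eS.toAlgHom.comp (S.ι i)
  let r₀ : MvPolynomial (Fin n) B → MvPolynomial (Fin n) (S.A i) := fun r =>
    ∑ d ∈ r.support, MvPolynomial.monomial d (b₀ (r.coeff d))
  have hr₀ : ∀ r ∈ t, MvPolynomial.map ιB.toRingHom (r₀ r) = r := fun r hr => by
    conv_rhs => rw [r.as_sum]
    simp only [r₀, map_sum, MvPolynomial.map_monomial]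
    refine Finset.sum_congr rfl fun d hd => ?_
    congr 1
    exact (congrArg eS (hb₀ _ (Finset.mem_biUnion.2 ⟨r, hr, Finset.mem_image_of_mem _ hd⟩))).trans
      (eS.apply_symm_apply _)
  haveI := hS i
  let iBC : B →ₐ[A] C := IsScalarTower.toAlgHom A B C
  obtain ⟨j₁, g₁, hg₁⟩ := T.exists_lift (S.A i) (eT.symm.toAlgHom.comp (iBC.comp ιB))
  obtain ⟨j₂, y₂, hy₂⟩ := T.exists_lift_finset (Finset.univ : Finset (Fin n))
    fun a => eT.symm (φ (π (MvPolynomial.X a)))
  let j := IsFiltered.max j₁ j₂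
  let g : S.A i →ₐ[A] T.A j := (T.tr (IsFiltered.leftToMax j₁ j₂)).comp g₁
  let y : Fin n → T.A j := fun a => T.tr (IsFiltered.rightToMax j₁ j₂) (y₂ a)
  have hy : ∀ a, eT (T.ι j (y a)) = φ (π (MvPolynomial.X a)) := fun a => by
    simp only [y, T.ι_tr_apply, hy₂ a (Finset.mem_univ a), eT.apply_symm_apply]
  have hg : ∀ s, eT (T.ι j (g s)) = algebraMap B C (ιB s) := fun s => by
    rw [show T.ι j (g s) = T.ι j₁ (g₁ s) from T.ι_tr_apply _ _,
      show T.ι j₁ (g₁ s) = eT.symm (iBC (ιB s)) from AlgHom.congr_fun hg₁ s, eT.apply_symm_apply]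
    rfl
  obtain ⟨k, h, hk⟩ := T.exists_eq_finset t (i := j)
    (fun r => MvPolynomial.eval₂ g.toRingHom y (r₀ r)) (fun _ => 0) fun r hr => by
    refine eT.injective ?_
    rw [map_zero, map_zero]
    have h1 : φ (π r) = 0 := by
      rw [show π r = 0 from RingHom.mem_ker.1 (ht.le (Submodule.subset_span hr)), map_zero]
    rw [← h1]
    have h2 : (eT.toAlgHom.comp (T.ι j)).toRingHom.comp (MvPolynomial.eval₂Hom g.toRingHom y) =
        (φ.comp π).toRingHom.comp (MvPolynomial.map ιB.toRingHom) := by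
      refine MvPolynomial.ringHom_ext (fun s => ?_) fun a => ?_
      · simp only [RingHom.comp_apply, MvPolynomial.eval₂Hom_C, MvPolynomial.map_C]
        exact (hg s).trans ((φ.comp π).commutes (ιB s)).symm
      · simp only [RingHom.comp_apply, MvPolynomial.eval₂Hom_X', MvPolynomial.map_X]
        exact hy a
    exact (RingHom.congr_fun h2 (r₀ r)).trans (congrArg (fun z => φ (π z)) (hr₀ r hr))
  let gk : S.A i →ₐ[A] T.A k := (T.tr h).comp g
  letI algT : Algebra (S.A i) (T.A k) := gk.toRingHom.toAlgebra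
  letI algSB : Algebra (S.A i) B := ιB.toRingHom.toAlgebra
  letI algSC : Algebra (S.A i) C := ((algebraMap B C).comp ιB.toRingHom).toAlgebra
  haveI : IsScalarTower (S.A i) B C := IsScalarTower.of_algebraMap_eq fun _ => rfl
  haveI : IsScalarTower A (S.A i) (T.A k) := IsScalarTower.of_algebraMap_eq fun a => (gk.commutes a).symm
  haveI := hT k
  haveI : Algebra.Etale (S.A i) (T.A k) := Algebra.Etale.of_restrictScalars (R := A) _ _
  let β₀ : T.A k →ₐ[S.A i] C :=
    { toRingHom := (eT.toAlgHom.comp (T.ι k)).toRingHom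
      commutes' := fun s => by
        change eT (T.ι k (T.tr h (g s))) = algebraMap B C (ιB s)
        rw [T.ι_tr_apply, hg] }
  let β : B ⊗[S.A i] T.A k →ₐ[B] C :=
    Algebra.TensorProduct.lift (Algebra.ofId B C) β₀ (fun _ _ => .all _ _)
  let yk : Fin n → B ⊗[S.A i] T.A k := fun a => (1 : B) ⊗ₜ T.tr h (y a)
  let χ : MvPolynomial (Fin n) B →ₐ[B] B ⊗[S.A i] T.A k := MvPolynomial.aeval yk
  have hle : RingHom.ker π ≤ RingHom.ker χ := by
    refine ht.ge.trans (Submodule.span_le.2 fun r hr => RingHom.mem_ker.2 ?_)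
    have h3 : χ.toRingHom.comp (MvPolynomial.map ιB.toRingHom) =
        ((Algebra.TensorProduct.includeRight : T.A k →ₐ[S.A i] B ⊗[S.A i] T.A k).toRingHom.comp
          (T.tr h).toRingHom).comp (MvPolynomial.eval₂Hom g.toRingHom y) := by
      refine MvPolynomial.ringHom_ext (fun s => ?_) fun a => ?_
      · simp only [RingHom.comp_apply, MvPolynomial.eval₂Hom_C, MvPolynomial.map_C]
        refine (χ.commutes (ιB s)).trans ?_
        exact ((Algebra.TensorProduct.includeRight : T.A k →ₐ[S.A i] B ⊗[S.A i] T.A k).commutes s).symm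
      · simp [χ, yk]
    have h4 := RingHom.congr_fun h3 (r₀ r)
    simp only [RingHom.comp_apply, AlgHom.toRingHom_eq_coe, RingHom.coe_coe] at h4
    rw [show χ r = χ (MvPolynomial.map ιB.toRingHom (r₀ r)) by rw [hr₀ r hr]]
    refine h4.trans ?_
    rw [show T.tr h (MvPolynomial.eval₂Hom (g : S.A i →+* T.A j) y (r₀ r)) = 0 from (hk r hr).trans (map_zero _),
      map_zero]
  refine ⟨B ⊗[S.A i] T.A k, inferInstance, inferInstance, inferInstance,
    AlgHom.liftOfSurjective π hπ χ hle, β, AlgHom.ext fun p => ?_⟩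
  obtain ⟨q, rfl⟩ := hπ p
  rw [AlgHom.comp_apply]
  refine (congrArg β (AlgHom.liftOfSurjective_apply π hπ χ hle q)).trans ?_
  refine AlgHom.congr_fun (φ₁ := β.comp χ) (φ₂ := φ.comp π) (MvPolynomial.algHom_ext fun a => ?_) q
  simp only [AlgHom.comp_apply, χ, MvPolynomial.aeval_X, yk, β, Algebra.TensorProduct.lift_tmul, map_one, one_mul]
  exact (congrArg eT (T.ι_tr_apply h (y a))).trans (hy a)

end Groth.Agent.S0735
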