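import Groth.Statements.S3510
import Groth.Agent.EtFound.PullExt
import Groth.Agent.EtFound.EdgeVanish
import Mathlib.CategoryTheory.Sites.EpiMono
-- import your own Groth.Agent.* helpers here

set_option autoImplicit false
universe u
open CategoryTheory CategoryTheory.Limits AlgebraicGeometry Opposite
open EtAcyc

namespace Groth.Agent.S3510

/-- (i) ⇔ (ii): let g : X → Y be a morphism of schemes, L a set of primes and n a natural number. Then g
is n-acyclic for L (form (ii): for every etale V → Y with projection g' : X ×_Y V → V and every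
abelian L-torsion sheaf F on V, H^q(V, F) → H^q(X ×_Y V, g'⁻¹F) is bijective for q ≤ n and injective
for q = n + 1) if and only if (form (i)) for every such V and F the unit F → g'_* g'⁻¹ F is an
isomorphism and R^q g'_* (g'⁻¹ F) = 0 for 1 ≤ q ≤ n. -/
theorem result {X Y : Scheme.{u}} (g : X ⟶ Y) (L : Set ℕ) (n : ℕ) :
    EtAcyc.IsAcyclicN g L n ↔
      ∀ (V : Y.Etale) (F : EtCoh.Ab V.left), EtAcyc.IsLTorsion L F →
        IsIso ((EtCoh.pullPushAdj (EtAcyc.prj g V)).unit.app F) ∧
          ∀ q : ℕ, 1 ≤ q → q ≤ n →
            IsZero ((EtCoh.Rpush (EtAcyc.prj g V) q).obj ((EtCoh.pull (EtAcyc.prj g V)).obj F)) := by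
  have hinst : ∀ {A B : Scheme.{u}} (f : A ⟶ B), PreservesFiniteLimits (EtCoh.pull f) :=
    fun f => EtFound.pull_preservesFiniteLimits f
  have htors : ∀ {A B : Scheme.{u}} (j : A ⟶ B) [AlgebraicGeometry.Etale j] {F : EtCoh.Ab B},
      EtAcyc.IsLTorsion L F → EtAcyc.IsLTorsion L ((EtCoh.pull j).obj F) := by
    intro A B j _ F hF U s x
    haveI := EtFound.jCont j
    let R := (EtFound.restrPullIso j).app F
    let s' : F.obj.obj (op ((EtShriek.compEtale j).obj U)) := R.inv.hom.app (op U) s
    obtain ⟨W, w, m, ⟨v, hv⟩, hm, h0⟩ := hF _ s' x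
    haveI : AlgebraicGeometry.Etale w.left := EtFound.etale_left w
    haveI : AlgebraicGeometry.Etale U.hom := U.prop
    let w₀ : W.left ⟶ U.left := w.left
    haveI : AlgebraicGeometry.Etale w₀ := ‹AlgebraicGeometry.Etale w.left›
    let W' : A.Etale := Scheme.Etale.mk (w₀ ≫ U.hom)
    let g' : W' ⟶ U := MorphismProperty.Over.homMk w₀ rfl
    have hw : W'.hom ≫ j = W.hom :=
      (Category.assoc _ _ _).trans (MorphismProperty.Over.w w)
    let i : (EtShriek.compEtale j).obj W' ⟶ W := MorphismProperty.Over.homMk (𝟙 W.left) ((Category.id_comp _).trans hw.symm)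
    have hgi : (EtShriek.compEtale j).map g' = i ≫ w := MorphismProperty.Over.Hom.ext (Category.id_comp _).symm
    refine ⟨W', g', m, ⟨v, hv⟩, hm, ?_⟩
    have hs : ((EtShriek.restrAlong j).obj F).obj.map g'.op s' = R.inv.hom.app (op W') (((EtCoh.pull j).obj F).obj.map g'.op s) :=
      (ConcreteCategory.congr_hom (R.inv.hom.naturality g'.op) s).symm
    have h1 : m • ((EtShriek.restrAlong j).obj F).obj.map g'.op s' = 0 := by
      change m • F.obj.map ((EtShriek.compEtale j).map g').op s' = 0
      rw [hgi, op_comp, Functor.map_comp, ConcreteCategory.comp_apply]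
      rw [← map_nsmul, h0, map_zero]
    rw [hs] at h1
    have h2 := congrArg (R.hom.hom.app (op W')) h1
    rw [map_nsmul, map_zero] at h2
    refine Eq.trans ?_ h2
    refine congrArg (m • ·) ?_
    exact (ConcreteCategory.congr_hom (congrArg (fun r : (EtCoh.pull j).obj F ⟶ _ => r.hom.app (op W')) R.inv_hom_id) _).symm
  constructor
  · intro hA V F hF
    let f := EtAcyc.prj g V
    haveI := hinst f
    let G := (EtCoh.pull f).obj F
    let η := (EtCoh.pullPushAdj f).unit.app F
    have hMb : ∀ (W : V.left.Etale) (q : ℕ), q ≤ n →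
        Function.Bijective (fun x : Abelian.Ext.{u + 1} (EtFound.freeOn W) F q => x.mapExactFunctor (EtCoh.pull f)) := by
      intro W q hq
      haveI : AlgebraicGeometry.Etale W.hom := W.prop
      haveI : AlgebraicGeometry.Etale V.hom := V.prop
      let f' : pullback W.hom f ⟶ W.left := pullback.fst W.hom f
      let j' : pullback W.hom f ⟶ pullback V.hom g := pullback.snd W.hom f
      haveI : AlgebraicGeometry.Etale j' := MorphismProperty.pullback_snd _ _ inferInstance
      haveI := hinst W.hom
      haveI := hinst f'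
      haveI := hinst j'
      let w := f' ≫ W.hom
      haveI := hinst w
      let W₀ : Y.Etale := Scheme.Etale.mk (W.hom ≫ V.hom)
      let e := (pullbackRightPullbackFstIso V.hom g W.hom).hom
      let p := EtAcyc.prj g W₀
      haveI := hinst p
      haveI := hinst e
      have hep : e ≫ p = f' := pullbackRightPullbackFstIso_hom_fst V.hom g W.hom
      let F' := (EtCoh.pull W.hom).obj F
      have hf' : Function.Bijective (EtCore.Hpull f' F' q) := by
        have h1 := ((hA W₀) F' (htors W.hom hF)).1 q hq
        have h2 := EtFound.Hpull_bijective_of_isIso e ((EtCoh.pull p).obj F') q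
        have hfun : (EtCore.Hpull f' F' q : _ → _) = (fun z => z.comp (Abelian.Ext.mk₀
            ((EtFound.θPull e p f' hep).hom.app F')) (add_zero q)) ∘
              EtCore.Hpull e ((EtCoh.pull p).obj F') q ∘ EtCore.Hpull p F' q :=
          funext fun x => EtFound.Hpull_comp e p f' hep F' q x
        rw [hfun]
        haveI := ((EtFound.θPull e p f' hep).app F').isIso_hom
        exact (EtFound.postcomp_bijective ((EtFound.θPull e p f' hep).app F').hom q).comp (h2.comp h1)
      haveI : IsIso (𝟙 W.left) := IsIso.id _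
      have hL : Function.Bijective (EtFound.ptMap W.hom W (𝟙 W.left) (Category.id_comp _) F q) :=
        EtFound.ptMap_bijective W.hom W (𝟙 W.left) (Category.id_comp _) F q
      have hR : Function.Bijective (EtMVLib.hp (EtCoh.pull j') (EtFound.bcGen j' f W (𝟙 ((EtCoh.bc f).obj W).left)
          (Category.id_comp _)) G q) :=
        @EtFound.hp_bcGen_bijective _ _ _ j' f inferInstance inferInstance W (𝟙 ((EtCoh.bc f).obj W).left) (IsIso.id _)
          (Category.id_comp _) G q
      have hw' : j' ≫ f = w := pullback.condition.symm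
      have hfun1 : (EtFound.ptMap w W f' rfl F q : _ → _) = (fun z => z.comp (Abelian.Ext.mk₀
          ((EtFound.θPull f' W.hom w rfl).hom.app F)) (add_zero q)) ∘
            EtCore.Hpull f' F' q ∘ EtFound.ptMap W.hom W (𝟙 W.left) (Category.id_comp _) F q :=
        funext fun x => EtFound.ptMap_Hpull f' W.hom w rfl W (𝟙 W.left) (Category.id_comp _) f'
          (Category.comp_id f').symm rfl F q x
      have hfun2 : (EtFound.ptMap w W f' rfl F q : _ → _) = ((fun z => z.comp (Abelian.Ext.mk₀
          ((EtFound.θPull j' f w hw').hom.app F)) (add_zero q)) ∘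
            EtMVLib.hp (EtCoh.pull j') (EtFound.bcGen j' f W (𝟙 ((EtCoh.bc f).obj W).left) (Category.id_comp _)) G q) ∘
            fun x => x.mapExactFunctor (EtCoh.pull f) :=
        funext fun x => EtFound.ptMap_bc j' f w hw' W (𝟙 ((EtCoh.bc f).obj W).left) (Category.id_comp _) f'
          (Category.id_comp f').symm rfl F q x
      haveI : IsIso ((EtFound.θPull f' W.hom w rfl).hom.app F) := ((EtFound.θPull f' W.hom w rfl).app F).isIso_hom
      haveI : IsIso ((EtFound.θPull j' f w hw').hom.app F) := ((EtFound.θPull j' f w hw').app F).isIso_hom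
      have hb : Function.Bijective (EtFound.ptMap w W f' rfl F q) := by
        rw [hfun1]
        exact (EtFound.postcomp_bijective _ _).comp (hf'.comp hL)
      rw [hfun2] at hb
      exact (Function.Bijective.of_comp_iff' ((EtFound.postcomp_bijective _ _).comp hR) _).1 hb
    have hedge : ∀ (W : V.left.Etale) (q : ℕ) (x : Abelian.Ext.{u + 1} (EtFound.freeOn W) F q),
        EtFound.edge (EtCoh.pullPushAdj f) (EtFound.freeOn W) G q (x.comp (Abelian.Ext.mk₀ η) (add_zero q)) =
          x.mapExactFunctor (EtCoh.pull f) := by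
      intro W q x
      rw [EtFound.edge_apply, Abelian.Ext.mapExactFunctor_comp, Abelian.Ext.mapExactFunctor_mk₀,
        Abelian.Ext.comp_assoc_of_third_deg_zero, Abelian.Ext.mk₀_comp_mk₀]
      erw [Adjunction.left_triangle_components]
      exact Abelian.Ext.comp_mk₀_id _
    have hiso : IsIso η := by
      have hsec : ∀ W : V.left.Etale, Function.Bijective (η.hom.app (op W)) := by
        intro W
        have h0 : Function.Bijective (fun φ : EtFound.freeOn W ⟶ F => φ ≫ η) := by
          have hb := hMb W 0 (Nat.zero_le n)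
          have hc := (EtFound.edge_zero_bijective (EtCoh.pullPushAdj f) (EtFound.freeOn W) G)
          have hfun : (fun x : Abelian.Ext.{u + 1} (EtFound.freeOn W) F 0 => x.mapExactFunctor (EtCoh.pull f)) =
              EtFound.edge (EtCoh.pullPushAdj f) (EtFound.freeOn W) G 0 ∘
                (fun x => x.comp (Abelian.Ext.mk₀ η) (add_zero 0)) := funext fun x => (hedge W 0 x).symm
          rw [hfun] at hb
          have hp := (Function.Bijective.of_comp_iff' hc _).1 hb
          have hfun' : (fun x : Abelian.Ext.{u + 1} (EtFound.freeOn W) F 0 => x.comp (Abelian.Ext.mk₀ η) (add_zero 0)) ∘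
              (fun φ => Abelian.Ext.mk₀ φ) = (fun ψ => Abelian.Ext.mk₀ ψ) ∘ (fun φ : EtFound.freeOn W ⟶ F => φ ≫ η) :=
            funext fun φ => Abelian.Ext.mk₀_comp_mk₀ φ η
          have := hp.comp (Abelian.Ext.mk₀_bijective (EtFound.freeOn W) F)
          rw [hfun'] at this
          exact (Function.Bijective.of_comp_iff' (Abelian.Ext.mk₀_bijective _ _) _).1 this
        have hfun : η.hom.app (op W) ∘ (EtFound.freeVal (W := W) (G := F)) =
            (EtFound.freeVal (W := W) (G := (EtCoh.push f).obj G)) ∘ (fun φ => φ ≫ η) :=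
          funext fun φ => (EtFound.freeVal_comp φ η).symm
        have h2 := (EtFound.freeVal_bijective W ((EtCoh.push f).obj G)).comp h0
        exact (Function.Bijective.of_comp_iff _ (EtFound.freeVal_bijective W F)).1 (by rw [hfun]; exact h2)
      haveI : ∀ W, IsIso (η.hom.app W) := fun W => (ConcreteCategory.isIso_iff_bijective _).2 (hsec W.unop)
      haveI : IsIso η.hom := NatIso.isIso_of_isIso_app _
      haveI : IsIso ((sheafToPresheaf _ _).map η) := ‹IsIso η.hom›
      exact isIso_of_reflects_iso η (sheafToPresheaf _ _)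
    refine ⟨hiso, ?_⟩
    haveI : PreservesLimitsOfSize.{0, 0} (EtCoh.push f) := (EtCoh.pullPushAdj f).rightAdjoint_preservesLimits
    haveI : PreservesFiniteLimits (EtCoh.push f) := PreservesLimitsOfSize.preservesFiniteLimits _
    refine EtFound.vanish_of_edge_bijective (EtCoh.pullPushAdj f) (fun W : V.left.Etale => EtFound.freeOn W)
      (fun {M N} a ha => ?_) n G fun W q hq => ?_
    · refine (Sheaf.isLocallySurjective_iff_epi' AddCommGrpCat.{u + 1} a).1 ⟨fun {U} s => ?_⟩
      obtain ⟨φ, hφ⟩ := EtFound.exists_free_hom (W := U) s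
      obtain ⟨b, hb⟩ := ha U φ
      have : Presheaf.imageSieve a.hom s = ⊤ := Sieve.ext fun Z z => iff_of_true
        ⟨M.obj.map z.op (EtFound.freeVal b), by
          rw [NatTrans.naturality_apply, ← EtFound.freeVal_comp, hb, hφ]⟩ trivial
      rw [this]
      exact GrothendieckTopology.top_mem _ _
    · have hpost : Function.Bijective (fun x : Abelian.Ext.{u + 1} (EtFound.freeOn W) F q =>
          x.comp (Abelian.Ext.mk₀ η) (add_zero q)) :=
        EtFound.postcomp_bijective _ _
      have hfun : (fun x : Abelian.Ext.{u + 1} (EtFound.freeOn W) F q => x.mapExactFunctor (EtCoh.pull f)) =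
          EtFound.edge (EtCoh.pullPushAdj f) (EtFound.freeOn W) G q ∘
            (fun x => x.comp (Abelian.Ext.mk₀ η) (add_zero q)) := funext fun x => (hedge W q x).symm
      have hb := hMb W q hq
      rw [hfun] at hb
      exact (Function.Bijective.of_comp_iff _ hpost).1 hb
  · intro h V F hF hP
    let f := EtAcyc.prj g V
    obtain ⟨hη, hv⟩ := h V F hF
    haveI : PreservesLimitsOfSize.{0, 0} (EtCoh.push f) := (EtCoh.pullPushAdj f).rightAdjoint_preservesLimits
    haveI : PreservesFiniteLimits (EtCoh.push f) := PreservesLimitsOfSize.preservesFiniteLimits _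
    let η := (EtCoh.pullPushAdj f).unit.app F
    haveI : IsIso η := hη
    obtain ⟨hb, hi⟩ := EtFound.edge_bijective_of_vanish (EtCoh.pullPushAdj f) n ((EtCoh.pull f).obj F) hv
      (EtCoh.const V.left ℤ)
    have hfun : ∀ q, (EtCore.Hpull f F q : _ → _) =
        ((fun z => (Abelian.Ext.mk₀ (EtCore.pullConst f ℤ).inv).comp z (zero_add q)) ∘
          EtFound.edge (EtCoh.pullPushAdj f) (EtCoh.const V.left ℤ) ((EtCoh.pull f).obj F) q) ∘
            fun x => x.comp (Abelian.Ext.mk₀ η) (add_zero q) := fun q => funext fun x => by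
      show (Abelian.Ext.mk₀ (EtCore.pullConst f ℤ).inv).comp (x.mapExactFunctor (EtCoh.pull f)) (zero_add q) =
        (Abelian.Ext.mk₀ (EtCore.pullConst f ℤ).inv).comp (EtFound.edge _ _ _ q _) (zero_add q)
      rw [EtFound.edge_apply, Abelian.Ext.mapExactFunctor_comp, Abelian.Ext.mapExactFunctor_mk₀,
        Abelian.Ext.comp_assoc_of_third_deg_zero, Abelian.Ext.mk₀_comp_mk₀]
      erw [Adjunction.left_triangle_components]
      rw [Abelian.Ext.comp_mk₀_id]
    have hpre : ∀ q, Function.Bijective (fun z : Abelian.Ext.{u + 1} ((EtCoh.pull f).obj (EtCoh.const V.left ℤ))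
        ((EtCoh.pull f).obj F) q => (Abelian.Ext.mk₀ (EtCore.pullConst f ℤ).inv).comp z (zero_add q)) :=
      fun q => EtFound.precomp_bijective _ _
    have hpost : ∀ q, Function.Bijective (fun x : EtCoh.H V.left F q => x.comp (Abelian.Ext.mk₀ η) (add_zero q)) :=
      fun q => EtFound.postcomp_bijective _ _
    refine ⟨fun q hq => ?_, ?_⟩
    · rw [hfun q]
      exact ((hpre q).comp (hb q hq)).comp (hpost q)
    · rw [hfun (n + 1)]
      exact ((hpre _).1.comp hi).comp (hpost _).1

end Groth.Agent.S3510
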