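import Groth.Statements.S0655
import Groth.Agent.EtFound.IntegralBaseChange
-- import your own Groth.Agent.* helpers here

set_option autoImplicit false
open CategoryTheory CategoryTheory.Limits AlgebraicGeometry Opposite
universe u
open EtCore

namespace Groth.Agent.S0655

/-- In a cartesian square of schemes X' = X x_Y Y' whose right vertical arrow f is integral, the
degree-zero base change map from the pullback along g of f_* F to f'_* of the pullback of F along g'
is an isomorphism, for every abelian sheaf F on the small etale site of X. -/
theorem result {X Y X' Y' : Scheme.{u}} (f : X ⟶ Y) [IsIntegralHom f] (g : Y' ⟶ Y)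
    (f' : X' ⟶ Y') (g' : X' ⟶ X) (h : IsPullback g' f' f g) (F : EtCoh.Ab X) :
    IsIso (EtCoh.baseChange0 f g f' g' h.w F) := by
  exact EtFound.isIso_baseChange_of_integral h F _ (EtFound.baseChange0_unit f g f' g' h.w F)

end Groth.Agent.S0655
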