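import Groth.Statements.S8534
import Groth.Agent.FibreAcyc.Main
import Groth.Agent.UnitStalk.Fibre
import Groth.Agent.S0073
-- import your own Groth.Agent.* helpers here

set_option autoImplicit false
universe u
open CategoryTheory CategoryTheory.Limits AlgebraicGeometry Opposite
open EtAcyc

namespace Groth.Agent.S8534

/-- Let g : X → Y be quasi-compact and quasi-separated, L a set of primes containing at least one prime,
and n a natural number, and suppose g is n-acyclic for L. Then for every point y of Y and every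
separably closed field Ω algebraic over κ(y), the geometric fibre X ×_Y Spec Ω is an n-acyclic
scheme for L (nonempty, connected, with H^q(-, Z/ℓ) = 0 for ℓ ∈ L and 1 ≤ q ≤ n). (The published
statement allows L empty, for which every morphism is n-acyclic while geometric fibres may be empty;
this row assumes L contains a prime.) -/
theorem result {X Y : Scheme.{u}} (g : X ⟶ Y) [QuasiCompact g] [QuasiSeparated g]
    (L : Set ℕ) (hL : ∃ ℓ ∈ L, ℓ.Prime) (n : ℕ) (hg : EtAcyc.IsAcyclicN g L n) :
    EtAcyc.GeomFibresAcyclicN L n g := by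
  intro y Ω _ _ _ _
  obtain ⟨U, hU, φ, hgp, hint⟩ := FibreAcyc.exists_affine_point y Ω
  let gp := EtAcyc.geomPt Y y Ω
  haveI := EtFound.pull_preservesFiniteLimits (pullback.snd g gp)
  haveI := EtFound.pull_preservesFiniteLimits gp
  have hbij : ∀ ℓ : ℕ, ℓ.Prime → ℓ ∈ L → ∀ q ≤ n, Function.Bijective
      (EtCore.Hpull (pullback.snd g gp) (EtCoh.const (Spec (CommRingCat.of Ω)) (ZMod ℓ)) q) := by
    intro ℓ hℓ hℓL q hq
    let M := EtCoh.const Y (ZMod ℓ)
    have hM : ∀ {Z : Scheme.{u}} (e : Z ⟶ Y), EtAcyc.IsLTorsion L ((EtCoh.pull e).obj M) := fun {Z} e W s x => by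
      refine ⟨W, 𝟙 W, ℓ, ⟨x, rfl⟩, ⟨hℓ.pos, fun p hp hpd => ((Nat.prime_dvd_prime_iff_eq hp hℓ).1 hpd) ▸ hℓL⟩, ?_⟩
      rw [op_id, CategoryTheory.Functor.map_id]
      refine EtBC.killedBy_pull e ?_ W s
      haveI : (constantSheaf Y.smallEtaleTopology AddCommGrpCat.{u + 1}).Additive :=
        (EtCore.constAdj Y).left_adjoint_additive
      rw [EtFound.killedBy_iff_nsmul]
      have h0 : ℓ • 𝟙 (AddCommGrpCat.of (ULift.{u + 1} (ZMod ℓ))) = 0 := by
        ext a
        simp
      show ℓ • 𝟙 ((constantSheaf Y.smallEtaleTopology AddCommGrpCat.{u + 1}).obj _) = 0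
      rw [← CategoryTheory.Functor.map_id, ← Functor.map_nsmul, h0, Functor.map_zero]
    have h1 := FibreAcyc.bijective_point g hg hU φ hint M hM q hq gp hgp
    have h2 : Function.Bijective (EtCore.Hpull (pullback.snd g gp) ((EtCoh.pull gp).obj M) q) := by
      haveI : IsIso (EtLimit.appOf (EtFound.θPull (pullback.snd g gp) gp (pullback.snd g gp ≫ gp) rfl) M) := by
        delta EtLimit.appOf; infer_instance
      exact (Function.Bijective.of_comp_iff' (EtBC.hmap_bijective_of_isIso
        (EtLimit.appOf (EtFound.θPull (pullback.snd g gp) gp (pullback.snd g gp ≫ gp) rfl) M) q) _).1 h1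
    exact UnitStalk.Hpull_bijective_of_iso (pullback.snd g gp) (EtCore.pullConst gp (ZMod ℓ)).inv q h2
  obtain ⟨ℓ, hℓL, hℓ⟩ := hL
  haveI : Fact ℓ.Prime := ⟨hℓ⟩
  obtain ⟨hne, hconn⟩ := FibreAcyc.nonempty_connectedSpace Ω (pullback.snd g gp) (ZMod ℓ)
    (hbij ℓ hℓ hℓL 0 (Nat.zero_le n))
  refine ⟨hne, hconn, fun p hp hpL q hq1 hqn => ?_⟩
  haveI : HenselianLocalRing Ω := inferInstance
  haveI : IsSepClosed (IsLocalRing.ResidueField Ω) := by
    refine IsSepClosed.of_exists_root _ fun f hm hi hs => ?_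
    let e := RingEquiv.ofBijective (IsLocalRing.residue Ω)
      ⟨(IsLocalRing.residue Ω).injective, IsLocalRing.residue_surjective⟩
    obtain ⟨x, hx⟩ := IsSepClosed.exists_root (f.map (e.symm : _ →+* Ω))
      (by rw [Polynomial.degree_map]; exact hi.degree_pos.ne') (hs.map)
    refine ⟨e x, ?_⟩
    have := congrArg e hx
    have h2 := Polynomial.hom_eval₂ f e.symm.toRingHom e.toRingHom x
    rw [Polynomial.eval_map] at this
    rw [show e.toRingHom.comp e.symm.toRingHom = RingHom.id _ from RingHom.ext e.apply_symm_apply] at h2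
    rw [map_zero] at this
    exact h2.symm.trans this
  haveI := S0073.result Ω (EtCoh.const (Spec (CommRingCat.of Ω)) (ZMod p)) q hq1
  haveI := (hbij p hp hpL q hqn).2.subsingleton
  exact (EtBC.hmap_bijective_of_isIso (EtCore.pullConst (pullback.snd g gp) (ZMod p)).hom q).2.subsingleton

end Groth.Agent.S8534
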