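import Groth.Statements.S3471
import Groth.Agent.AcycCover.Local
import Groth.Agent.S8534
-- import your own Groth.Agent.* helpers here

set_option autoImplicit false
universe u
open CategoryTheory CategoryTheory.Limits AlgebraicGeometry Opposite
open EtAcyc

namespace Groth.Agent.S3471

/-- Let g : X → Y be a morphism of schemes, L a set of primes containing at least one prime, n a natural
number. Then g is locally n-acyclic for L if and only if for every point x of X and all strict
henselizations R_Y, R_X of the local rings at g x and x with a compatible local map R_Y → R_X, every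
geometric fibre of Spec R_X → Spec R_Y at a separably closed field algebraic over a residue field of
Spec R_Y is an n-acyclic scheme for L. The source does not require L to contain a prime; with L
empty the left side always holds while the right side asks for connected nonempty fibres, so that
hypothesis is added here. -/
theorem result {X Y : Scheme.{u}} (g : X ⟶ Y)
    (L : Set ℕ) (hL : ∃ ℓ ∈ L, ℓ.Prime) (n : ℕ) :
    EtAcyc.IsLocAcyclicN g L n ↔
      EtAcyc.OnStrictLocalizations g (fun _ _ h => EtAcyc.GeomFibresAcyclicN L n h) := by
  constructor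
  · intro h x RY RX _ _ _ _ _ _ _ _ _ _ _ _ hc
    exact Groth.Agent.S8534.result _ L hL n (h x RY RX hc)
  · intro h
    induction n using Nat.strong_induction_on with
    | _ n ih =>
      intro x RY RX _ _ _ _ _ _ _ _ _ _ _ _ hc
      let f := Spec.map (CommRingCat.ofHom (algebraMap RY RX))
      have hρ := (Groth.Agent.IndEtStrict.isChart_specOf_comp (𝟙 Y) (g.base x) RY).transfers
      have ha := (Groth.Agent.IndEtStrict.isChart_specOf_comp (𝟙 X) x RX).transfers
      have w : (Hens2.specOf X x RX ≫ 𝟙 X) ≫ g = f ≫ Hens2.specOf Y (g.base x) RY ≫ 𝟙 Y := by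
        rw [Category.comp_id, Category.comp_id]
        exact (Groth.Agent.EtBC.specOf_map x RY RX (algebraMap RY RX) hc).symm
      refine Groth.Agent.AcycCover.isAcyclicN_of_fibres f L n (h x RY RX hc)
        (Groth.Agent.AcycCover.onStrictLocalizations_square hρ ha w ?_)
        (fun m hm => Groth.Agent.AcycCover.onStrictLocalizations_square hρ ha w (ih m hm ?_))
      · intro x' RY' RX' _ _ _ _ _ _ _ _ _ _ _ _ hc'
        exact Groth.Agent.AcycCover.surjective_of_geomFibres (h x' RY' RX' hc')
      · intro x' RY' RX' _ _ _ _ _ _ _ _ _ _ _ _ hc' y Ω _ _ _ _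
        obtain ⟨h1, h2, h3⟩ := h x' RY' RX' hc' y Ω
        exact ⟨h1, h2, fun ℓ hℓ hℓL q hq1 hq2 => h3 ℓ hℓ hℓL q hq1 (by omega)⟩

end Groth.Agent.S3471
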