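import Groth.Statements.S2092
import Mathlib
import Groth.Agent.FlatLoc6.RegCM
import Groth.Agent.FlatLoc6.TensorField
import Groth.Agent.FlatLoc6.FiberRing

set_option autoImplicit false
universe u
open CAlg

namespace Groth.Agent.S2092

/-- Case `M = R`: if `R` is a Cohen–Macaulay ring then so is the polynomial ring `R[x_1, …, x_n]`. -/
theorem result {R : Type u} [CommRing R] [LocCoh.IsCohenMacaulayRing R] (n : ℕ) :
    LocCoh.IsCohenMacaulayRing (MvPolynomial (Fin n) R) := by
  let B := MvPolynomial (Fin n) R
  refine { isCohenMacaulayLocalRing_localization := fun q _ => ?_ }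
  haveI : IsNoetherianRing (Localization.AtPrime q) := IsLocalization.isNoetherianRing q.primeCompl _ inferInstance
  refine { supportDim_eq_depth := ?_ }
  let p := q.comap (algebraMap R B)
  haveI : LocCoh.IsCohenMacaulayRing (p.Fiber B) :=
    FlatLoc6.isCM_of_ringEquiv (MvPolynomial.algebraTensorAlgEquiv R p.ResidueField (σ := Fin n)).toRingEquiv.symm
      (FlatLoc6.isCM_of_isRegularRing _)
  have hF : (⟨q, ‹_›⟩ : PrimeSpectrum B) ∈ Module.support B B := by
    rw [Module.mem_support_iff]
    exact (LC.selfLoc q.primeCompl).toEquiv.nontrivial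
  have hp : (⟨p, inferInstance⟩ : PrimeSpectrum R) ∈ Module.support R R := by
    rw [Module.mem_support_iff]
    exact (LC.selfLoc p.primeCompl).toEquiv.nontrivial
  obtain ⟨h1, h2⟩ := FlatLoc6.formulas_atPrime B R p q rfl hF hp
  let e : LocalizedModule q.primeCompl (TensorProduct R B R) ≃ₗ[Localization.AtPrime q] Localization.AtPrime q :=
    (LocalizedModule.equivTensorProduct q.primeCompl _).trans
      ((TensorProduct.AlgebraTensorModule.congr (LinearEquiv.refl (Localization.AtPrime q) (Localization.AtPrime q))
        (TensorProduct.AlgebraTensorModule.rid R B B)).trans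
        (TensorProduct.AlgebraTensorModule.rid B (Localization.AtPrime q) (Localization.AtPrime q)))
  have hR := (LocCoh.IsCohenMacaulayRing.isCohenMacaulayLocalRing_localization (R := R) p).supportDim_eq_depth
  rw [← Module.supportDim_eq_of_equiv (LC.selfLoc p.primeCompl), ← FlatLoc6.depth_congr' (LC.selfLoc p.primeCompl)] at hR
  rw [← Module.supportDim_eq_of_equiv (M := LocalizedModule q.primeCompl (TensorProduct R B R)) (N := Localization.AtPrime q) (by exact e),
    ← FlatLoc6.depth_congr' (M := LocalizedModule q.primeCompl (TensorProduct R B R)) (N := Localization.AtPrime q) (by exact e),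
    h1, h2, hR, FlatLoc6.fib_eq_of_fiber_isCM p q rfl]
  rfl

end Groth.Agent.S2092
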