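import Groth.Statements.S0603
import Mathlib
import Groth.Agent.CAlgOdd.CMCatenary
import Groth.Agent.Cat15.Order
import Groth.Agent.S2092

set_option autoImplicit false
universe u
open CAlg

namespace Groth.Agent.S0603

/-- Every Cohen–Macaulay ring (Noetherian with all local rings Cohen–Macaulay) satisfies the universally
catenary chain condition. -/
theorem result (R : Type u) [CommRing R]
    [LocCoh.IsCohenMacaulayRing R] : CAlg.IsUniversallyCatenary R := by
  refine ⟨inferInstance, fun S _ _ hS => ?_⟩
  obtain ⟨m, π, hπ⟩ := Algebra.FiniteType.iff_quotient_mvPolynomial''.1 hS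
  haveI : LocCoh.IsCohenMacaulayRing (MvPolynomial (Fin m) R) := Groth.Agent.S2092.result m
  have hcat := Groth.Agent.CAlgOdd.CMCatenary.isCatenary_of_isCM (MvPolynomial (Fin m) R)
  rw [Groth.Agent.Cat15.isCatenary_iff] at hcat ⊢
  refine Groth.Agent.Cat15.pcat_of_embedding (OrderEmbedding.ofMapLEIff (PrimeSpectrum.comap π.toRingHom)
    fun a b => Ideal.comap_le_comap_iff_of_surjective π.toRingHom hπ a.asIdeal b.asIdeal) (fun a z h => ?_) hcat
  show z ∈ Set.range (PrimeSpectrum.comap π.toRingHom)
  rw [_root_.range_comap_of_surjective _ _ hπ]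
  exact (Ideal.ker_le_comap π.toRingHom).trans h

end Groth.Agent.S0603
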