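import Groth.Statements.S19474
import Mathlib
import Groth.Agent.LinTop7.Misc
import Groth.Agent.LocalCrit.Complete
import Groth.Agent.RegLoc6.Descent

set_option autoImplicit false
universe u
open CAlg

namespace Groth.Agent.S19474

/-- Let A be a Noetherian local ring and I an ideal of A different from A. Then the I-adic completion of
A has the same Krull dimension as A, and A is a regular local ring if and only if the I-adic
completion of A is a regular local ring (in particular the completion is then local and Noetherian).
The case where I is the maximal ideal is the classical one; here I is any proper ideal. -/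
theorem result (A : Type u) [CommRing A]
    [IsLocalRing A] [IsNoetherianRing A] (I : Ideal A) (hI : I ≠ ⊤) :
    ringKrullDim (AdicCompletion I A) = ringKrullDim A ∧
      (IsRegularLocalRing A ↔ IsRegularLocalRing (AdicCompletion I A)) := by
  let m := IsLocalRing.maximalIdeal A
  let B := AdicCompletion I A
  have hle : I ≤ m := IsLocalRing.le_maximalIdeal hI
  have hfg : I.FG := IsNoetherian.noetherian I
  haveI : IsLocalRing B := Groth.Agent.LinTop7.isLocalRing_adicCompletion I hfg hle
  haveI := AdicCompletion.isAdicComplete_self I hfg
  haveI : IsNoetherianRing (B ⧸ I.map (algebraMap A B)) := by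
    have e : (B ⧸ I.map (algebraMap A B)) ≃+* (A ⧸ I) :=
      (Ideal.quotEquivOfEq (AdicCompletion.ker_evalOneₐ_eq_map I hfg).symm).trans
        (RingHom.quotientKerEquivOfSurjective (f := (AdicCompletion.evalOneₐ I).toRingHom)
          (AdicCompletion.evalOneₐ_surjective I))
    exact isNoetherianRing_of_ringEquiv _ e.symm
  haveI : IsNoetherianRing B :=
    Groth.Agent.LocalCrit.isNoetherianRing_of_isAdicComplete (I.map (algebraMap A B)) (hfg.map _)
  have hmax : IsLocalRing.maximalIdeal B = m.map (algebraMap A B) :=
    (IsLocalRing.eq_maximalIdeal (AdicCompletion.isMaximal_map_of_le I m hle hfg)).symm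
  haveI : IsLocalHom (algebraMap A B) := ((IsLocalRing.local_hom_TFAE _).out 0 2).mpr hmax.ge
  haveI : Module.Flat A B := AdicCompletion.flat_of_isNoetherian I
  haveI : (IsLocalRing.maximalIdeal B).LiesOver m := ⟨(IsLocalRing.maximalIdeal_comap (algebraMap A B)).symm⟩
  have hdim : ringKrullDim B = ringKrullDim A := by
    haveI : Nontrivial (B ⧸ m.map (algebraMap A B)) :=
      Ideal.Quotient.nontrivial_iff.2 (hmax ▸ (IsLocalRing.maximalIdeal.isMaximal B).ne_top)
    have h := Ideal.height_eq_height_add_of_liesOver_of_hasGoingDown m (IsLocalRing.maximalIdeal B)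
    rw [hmax, Ideal.map_quotient_self, Ideal.height_bot, add_zero, ← hmax] at h
    rw [← IsLocalRing.maximalIdeal_height_eq_ringKrullDim, ← IsLocalRing.maximalIdeal_height_eq_ringKrullDim, h]
  refine ⟨hdim, fun _ => ?_, fun _ => Groth.Agent.RegLoc6.isRegularLocalRing_of_flat (B := B)⟩
  refine IsRegularLocalRing.of_spanFinrank_maximalIdeal_le (R := B) ?_
  have h1 : (IsLocalRing.maximalIdeal B).spanFinrank ≤ m.spanFinrank := by
    rw [hmax]
    exact Ideal.spanFinrank_map_le_of_fg (algebraMap A B) (IsNoetherian.noetherian m)
  rw [hdim, ← (isRegularLocalRing_iff A).1 inferInstance]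
  exact_mod_cast h1

end Groth.Agent.S19474
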