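import Groth.Statements.S0546
import Mathlib

set_option autoImplicit false
universe u
open CAlg

namespace Groth.Agent.S0546

/-- If `I ≤ J` are ideals with `I` finitely generated and `M` is `J`-adically complete, then `M` is
`I`-adically complete. -/
theorem result (A : Type u) [CommRing A] (I J : Ideal A) (hIJ : I ≤ J)
    (hI : I.FG) (M : Type u) [AddCommGroup M] [Module A M] [IsAdicComplete J M] :
    IsAdicComplete I M := by
  obtain ⟨r, g, hg⟩ := Submodule.fg_iff_exists_fin_generating_family.mp (hI.pow (n := 0))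
  clear hg g r
  refine { toIsHausdorff := ⟨fun x hx => IsHausdorff.haus (inferInstance : IsHausdorff J M) x fun n =>
      (hx n).mono (Submodule.smul_mono (Ideal.pow_right_mono hIJ n) le_rfl)⟩, toIsPrecomplete := ?_ }
  refine ⟨fun f hf => ?_⟩
  have hmono : ∀ n, I ^ n • (⊤ : Submodule A M) ≤ J ^ n • (⊤ : Submodule A M) := fun n =>
    Submodule.smul_mono (Ideal.pow_right_mono hIJ n) le_rfl
  obtain ⟨x, hx⟩ := IsPrecomplete.prec (inferInstance : IsPrecomplete J M) (f := f)
    (fun {m n} hmn => (hf hmn).mono (hmono m))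
  refine ⟨x, fun m => ?_⟩
  obtain ⟨r, a, ha⟩ := Submodule.fg_iff_exists_fin_generating_family.mp (hI.pow (n := m))
  have hmem : ∀ (N : Submodule A M) (y : M), y ∈ (I ^ m) • N →
      ∃ w : Fin r → M, (∀ j, w j ∈ N) ∧ y = ∑ j, a j • w j := by
    intro N y hy
    refine Submodule.smul_induction_on hy (fun c hc n hn => ?_) ?_
    · rw [← ha] at hc
      obtain ⟨c', hc'⟩ := (Submodule.mem_span_range_iff_exists_fun A).mp hc
      refine ⟨fun j => c' j • n, fun j => N.smul_mem _ hn, ?_⟩
      rw [← hc', Finset.sum_smul]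
      exact Finset.sum_congr rfl fun j _ => by rw [smul_smul, smul_eq_mul, mul_comm]
    · intro y₁ y₂ h₁ h₂
      obtain ⟨w₁, hw₁, rfl⟩ := h₁
      obtain ⟨w₂, hw₂, rfl⟩ := h₂
      exact ⟨w₁ + w₂, fun j => N.add_mem (hw₁ j) (hw₂ j), by
        simp [smul_add, Finset.sum_add_distrib]⟩
  have hstep : ∀ k, ∃ w : Fin r → M, (∀ j, w j ∈ J ^ k • (⊤ : Submodule A M)) ∧
      f (m + k + 1) - f (m + k) = ∑ j, a j • w j := by
    intro k
    apply hmem
    have h1 : f (m + k + 1) - f (m + k) ∈ I ^ (m + k) • (⊤ : Submodule A M) := by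
      rw [← SModEq.sub_mem]
      exact (hf (Nat.le_succ _)).symm
    rw [pow_add, mul_smul] at h1
    exact Submodule.smul_mono le_rfl (hmono k) h1
  choose w hw hwf using hstep
  let P : Fin r → ℕ → M := fun j n => ∑ k ∈ Finset.range n, w k j
  have hP : ∀ j, ∀ {p q : ℕ}, p ≤ q → P j p ≡ P j q [SMOD (J ^ p • ⊤ : Submodule A M)] := by
    intro j p q hpq
    rw [SModEq.comm, SModEq.sub_mem]
    simp only [P]
    rw [← Finset.sum_Ico_eq_sub _ hpq]
    refine Submodule.sum_mem _ fun k hk => ?_
    exact Submodule.smul_mono (Ideal.pow_le_pow_right (Finset.mem_Ico.mp hk).1) le_rfl (hw k j)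
  choose L hL using fun j => IsPrecomplete.prec (inferInstance : IsPrecomplete J M) (hP j)
  have hsum : ∀ n, f (m + n) - f m = ∑ j, a j • P j n := by
    intro n
    induction n with
    | zero => simp [P]
    | succ n ih =>
      have h : f (m + n + 1) - f m = (f (m + n + 1) - f (m + n)) + (f (m + n) - f m) := by abel
      rw [← add_assoc, h, hwf, ih, ← Finset.sum_add_distrib]
      refine Finset.sum_congr rfl fun j _ => ?_
      simp only [P, Finset.sum_range_succ, smul_add]
      abel
  have hlim : x = f m + ∑ j, a j • L j := by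
    rw [← sub_eq_zero]
    refine IsHausdorff.haus (inferInstance : IsHausdorff J M) _ fun n => ?_
    rw [SModEq.sub_mem, sub_zero]
    have e : x - (f m + ∑ j, a j • L j) = (x - f (m + n)) + ∑ j, a j • (P j n - L j) := by
      have := hsum n
      rw [sub_eq_iff_eq_add] at this
      rw [this]
      simp only [smul_sub, Finset.sum_sub_distrib]
      abel
    rw [e]
    refine Submodule.add_mem _ ?_ (Submodule.sum_mem _ fun j _ => Submodule.smul_mem _ _ ?_)
    · refine Submodule.smul_mono (Ideal.pow_le_pow_right (Nat.le_add_left n m)) le_rfl ?_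
      rw [← SModEq.sub_mem]
      exact (hx (m + n)).symm
    · exact SModEq.sub_mem.mp (hL j n)
  rw [SModEq.sub_mem, hlim, sub_add_cancel_left]
  refine Submodule.neg_mem _ (Submodule.sum_mem _ fun j _ => ?_)
  exact Submodule.smul_mem_smul (ha ▸ Submodule.subset_span (Set.mem_range_self j)) Submodule.mem_top

end Groth.Agent.S0546
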