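import Groth.Statements.S9295
import Groth.Agent.FlatLoc6.GeomComp
import Groth.Agent.SmallFlat.Misc

set_option autoImplicit false
universe u
open CAlg TensorProduct

namespace Groth.Agent.S9295

/-- For ring maps A → B → C, if the composite A → C is a regular map and C is flat over B with every
prime of B lying under a prime of C (that is, B → C is faithfully flat), then A → B is a regular
map. -/
theorem result (A B C : Type u) [CommRing A] [CommRing B] [CommRing C]
    [Algebra A B] [Algebra B C] [Algebra A C] [IsScalarTower A B C]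
    (hAC : CAlg.IsRegularHom A C) [Module.Flat B C]
    (hsurj : Function.Surjective (PrimeSpectrum.comap (algebraMap B C))) :
    CAlg.IsRegularHom A B := by
  haveI : Module.FaithfullyFlat B C := Module.FaithfullyFlat.of_comap_surjective hsurj
  haveI := hAC.1
  refine ⟨Groth.Agent.SmallFlat.flat_of_faithfullyFlat_tower A B C, fun p _ => ?_⟩
  haveI := (hAC.2 p).1
  refine ⟨?_, fun L _ _ hL => ?_⟩
  · haveI : IsNoetherianRing ((B ⊗[A] p.ResidueField) ⊗[B] C) :=
      haveI : IsNoetherianRing (p.ResidueField ⊗[p.ResidueField] p.Fiber C) :=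
        isNoetherianRing_of_ringEquiv _ (Algebra.TensorProduct.lid p.ResidueField (p.Fiber C)).toRingEquiv.symm
      isNoetherianRing_of_ringEquiv _ (Groth.Agent.FlatLoc6.compEquiv A B C p p.ResidueField).symm
    haveI := Groth.Agent.FlatLoc6.isNoetherianRing_of_faithfullyFlat (B ⊗[A] p.ResidueField) ((B ⊗[A] p.ResidueField) ⊗[B] C)
    exact isNoetherianRing_of_ringEquiv (B ⊗[A] p.ResidueField) (Algebra.TensorProduct.comm A B p.ResidueField).toRingEquiv
  · exact Groth.Agent.FlatLoc6.permanence_regular.cancel A B C p L ((hAC.2 p).2 L hL)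

end Groth.Agent.S9295
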