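import Groth.Statements.S0642
import Groth.Agent.EtFound.UnivInjPush
import Groth.Agent.SitePullUnit.ExtClass
import Groth.Agent.EtMVLib.HpullApply
-- import your own Groth.Agent.* helpers here

set_option autoImplicit false
open CategoryTheory CategoryTheory.Limits AlgebraicGeometry Opposite
universe u
open EtCore

namespace Groth.Agent.S0642

/-- Let X_0 -> X be integral, universally injective and surjective (a universal homeomorphism). Then for
every abelian sheaf F on the small etale site of X and every q the pullback map from H^q(X, F) to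
H^q(X_0, F|_{X_0}) is bijective. (Exactness of pullback of abelian sheaves, which always holds, is
carried as an instance hypothesis.) -/
theorem result {X₀ X : Scheme.{u}} (i : X₀ ⟶ X) [IsIntegralHom i]
    [UniversallyInjective i] [Surjective i] [PreservesFiniteLimits (EtCoh.pull i)] (F : EtCoh.Ab X) (q : ℕ) :
    Function.Bijective (EtCore.Hpull i F q) := by
  have := EtFound.pull_isEquivalence_of_surjective i
  have : PreservesFiniteColimits (EtCoh.pull i) := inferInstance
  have h := SitePullUnit.mapExactFunctor_bijective (L := EtCoh.pull i)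
    (fun I _ Z n x => by
      have : Injective ((EtCoh.pull i).obj I) :=
        Injective.injective_of_adjoint (EtCoh.pull i).asEquivalence.symm.toAdjunction I
      exact x.eq_zero_of_injective) (EtCoh.const X ℤ) F q
  let e := EtCore.pullConst i ℤ
  refine ⟨fun a b hab => h.1 ?_, fun c => ?_⟩
  · have h2 := congrArg (fun z => (Abelian.Ext.mk₀ e.hom).comp z (zero_add q)) hab
    simp only [EtMVLib.Hpull_apply] at h2
    rw [Abelian.Ext.mk₀_comp_mk₀_assoc, Abelian.Ext.mk₀_comp_mk₀_assoc, Iso.hom_inv_id,
      Abelian.Ext.mk₀_id_comp, Abelian.Ext.mk₀_id_comp] at h2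
    exact h2
  · obtain ⟨a, ha⟩ := h.2 ((Abelian.Ext.mk₀ e.hom).comp c (zero_add q))
    refine ⟨a, ?_⟩
    rw [EtMVLib.Hpull_apply]
    simp only at ha
    rw [ha, Abelian.Ext.mk₀_comp_mk₀_assoc, Iso.inv_hom_id, Abelian.Ext.mk₀_id_comp]

end Groth.Agent.S0642
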