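import Groth.Statements.S9466
import Groth.Agent.Hensel.TensorStrict
-- import your own Groth.Agent.* helpers here

set_option autoImplicit false
universe u
open Hensel

namespace Groth.Agent.S9466

open TensorProduct in
/-- Let A → B and A → C be ring maps, D = B ⊗_A C, and p_D a prime of D with images p_B, p_C, p_A in B,
C, A. Let A^{sh}, B^{sh}, C^{sh}, D^{sh} be strict henselizations of the local rings A_{p_A},
B_{p_B}, C_{p_C}, D_{p_D}, equipped with local homomorphisms A^{sh} → B^{sh} → D^{sh} and A^{sh} →
C^{sh} → D^{sh} forming a commutative square compatible with A → B → D and A → C → D (such maps are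
the ones attached to a compatible choice of residue-field embeddings into one separably closed
field, and are unique given that choice). If A → B is of finite type and quasi-finite at p_B, then
the induced A^{sh}-algebra map B^{sh} ⊗_{A^{sh}} C^{sh} → D^{sh} is bijective. -/
theorem result (A B C : Type u) [CommRing A] [CommRing B]
    [CommRing C] [Algebra A B] [Algebra A C] [Algebra.FiniteType A B]
    (pA : Ideal A) [pA.IsPrime] (pB : Ideal B) [pB.IsPrime] [pB.LiesOver pA]
    (pC : Ideal C) [pC.IsPrime] [pC.LiesOver pA]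
    (pD : Ideal (B ⊗[A] C)) [pD.IsPrime] [pD.LiesOver pB]
    (hDC : pD.comap (Algebra.TensorProduct.includeRight : C →ₐ[A] B ⊗[A] C).toRingHom = pC)
    (Ash : Type u) [CommRing Ash] [IsLocalRing Ash] [Algebra (Localization.AtPrime pA) Ash]
    [IsLocalHom (algebraMap (Localization.AtPrime pA) Ash)]
    [Hensel.IsStrictHenselization (Localization.AtPrime pA) Ash] [Algebra A Ash]
    [IsScalarTower A (Localization.AtPrime pA) Ash]
    (Bsh : Type u) [CommRing Bsh] [IsLocalRing Bsh] [Algebra (Localization.AtPrime pB) Bsh]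
    [IsLocalHom (algebraMap (Localization.AtPrime pB) Bsh)]
    [Hensel.IsStrictHenselization (Localization.AtPrime pB) Bsh] [Algebra B Bsh]
    [IsScalarTower B (Localization.AtPrime pB) Bsh] [Algebra A Bsh] [IsScalarTower A B Bsh]
    [Algebra Ash Bsh] [IsScalarTower A Ash Bsh] [IsLocalHom (algebraMap Ash Bsh)]
    (Csh : Type u) [CommRing Csh] [IsLocalRing Csh] [Algebra (Localization.AtPrime pC) Csh]
    [IsLocalHom (algebraMap (Localization.AtPrime pC) Csh)]
    [Hensel.IsStrictHenselization (Localization.AtPrime pC) Csh] [Algebra C Csh]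
    [IsScalarTower C (Localization.AtPrime pC) Csh] [Algebra A Csh] [IsScalarTower A C Csh]
    [Algebra Ash Csh] [IsScalarTower A Ash Csh] [IsLocalHom (algebraMap Ash Csh)]
    (Dsh : Type u) [CommRing Dsh] [IsLocalRing Dsh] [Algebra (Localization.AtPrime pD) Dsh]
    [IsLocalHom (algebraMap (Localization.AtPrime pD) Dsh)]
    [Hensel.IsStrictHenselization (Localization.AtPrime pD) Dsh] [Algebra (B ⊗[A] C) Dsh]
    [IsScalarTower (B ⊗[A] C) (Localization.AtPrime pD) Dsh]
    [Algebra Bsh Dsh] [IsLocalHom (algebraMap Bsh Dsh)] [Algebra B Dsh] [IsScalarTower B Bsh Dsh]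
    [IsScalarTower B (B ⊗[A] C) Dsh]
    [Algebra Csh Dsh] [IsLocalHom (algebraMap Csh Dsh)]
    (hC : ∀ c : C, algebraMap Csh Dsh (algebraMap C Csh c) = algebraMap (B ⊗[A] C) Dsh (1 ⊗ₜ[A] c))
    [Algebra Ash Dsh] [IsScalarTower Ash Bsh Dsh] [IsScalarTower Ash Csh Dsh]
    [Algebra.QuasiFiniteAt A pB] :
    Function.Bijective (Algebra.TensorProduct.lift (IsScalarTower.toAlgHom Ash Bsh Dsh)
      (IsScalarTower.toAlgHom Ash Csh Dsh) (fun _ _ => Commute.all _ _)) := by
  have : HenselianLocalRing Ash := Hensel.IsStrictHenselization.henselian (R := Localization.AtPrime pA)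
  have : IsSepClosed (IsLocalRing.ResidueField Ash) :=
    (Hensel.IsStrictHenselization.isSepClosure (R := Localization.AtPrime pA) (S := Ash)).sep_closed
  have := Groth.Agent.Hensel.finite_strict A B pA pB Ash Bsh
  have : Algebra.IsIntegral Ash Bsh := inferInstance
  have := Groth.Agent.Hensel.isPurelyInseparable_strict A B pA pB Ash Bsh
  exact Groth.Agent.Hensel.bijective_tensor_strict A B C pB pC pD hDC Ash Bsh Csh Dsh hC

end Groth.Agent.S9466
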