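import Groth.Statements.S7180
import Groth.Agent.WEtLib.Normal
import Groth.Agent.WEtLib.Basic
import Groth.Agent.WEtLib.Stalks

set_option autoImplicit false
set_option backward.isDefEq.respectTransparency false
set_option backward.isDefEq.respectTransparency.types false
universe u
open FlatMor

namespace Groth.Agent.S7180

open AlgebraicGeometry CategoryTheory Limits in
/-- The source of a weakly étale morphism with normal target (all local rings integrally closed domains)
is normal. -/
theorem result {X Y : Scheme.{u}} (f : X ⟶ Y) [WeaklyEtale f] (hY : Pi1.IsNormalScheme Y) :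
    Pi1.IsNormalScheme X := by
  intro x
  letI := (f.stalkMap x).hom.toAlgebra
  let A := Y.presheaf.stalk (f x)
  let B := X.presheaf.stalk x
  haveI hAd : IsDomain A := (hY (f x)).1
  haveI hAc : IsIntegrallyClosed A := (hY (f x)).2
  haveI : Algebra.WeaklyEtale A B := (Groth.Agent.WEtLib.weaklyEtale_iff_stalkMap f).1 ‹_› x
  let K := FractionRing A
  let M := TensorProduct A B K
  have hcl := Groth.Agent.WEtLib.isIntegrallyClosedIn_tensor (A := A) K B
  have hinj : Function.Injective (algebraMap B M) := (isIntegrallyClosedIn_iff.1 hcl).1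
  haveI : Nontrivial M := hinj.nontrivial
  haveI : Algebra.WeaklyEtale K (TensorProduct A K B) := inferInstance
  have hvnr : ∀ a : M, ∃ r, a = a * a * r := fun a => by
    obtain ⟨r, hr⟩ := Groth.Agent.WEtLib.exists_mul_eq (K := K) ((Algebra.TensorProduct.comm A B K) a)
    refine ⟨(Algebra.TensorProduct.comm A B K).symm r, (Algebra.TensorProduct.comm A B K).injective ?_⟩
    rw [map_mul, map_mul, AlgEquiv.apply_symm_apply]
    exact hr
  have hid : ∀ e : M, IsIdempotentElem e → e = 0 ∨ e = 1 := fun e he => by
    obtain ⟨b, rfl⟩ := (isIntegrallyClosedIn_iff.1 hcl).2 (x := e) ⟨Polynomial.X ^ 2 - Polynomial.X,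
      Polynomial.monic_X_pow_sub (by rw [Polynomial.degree_X]; norm_num), by
        rw [Polynomial.eval₂_sub, Polynomial.eval₂_X_pow, Polynomial.eval₂_X, sq, he.eq, sub_self]⟩
    have hb : b * b = b := hinj (by rw [map_mul]; exact he)
    rcases IsLocalRing.isUnit_or_isUnit_one_sub_self b with hu | hu
    · exact Or.inr (by rw [hu.mul_left_cancel (hb.trans (mul_one b).symm), map_one])
    · refine Or.inl ?_
      rw [hu.mul_left_cancel (show (1 - b) * b = (1 - b) * 0 by rw [sub_mul, one_mul, hb, sub_self, mul_zero]),
        map_zero]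
  have hF : IsField M := Groth.Agent.WEtLib.isField_of_forall_exists hvnr hid
  letI := hF.toField
  haveI hBd : IsDomain B := hinj.isDomain (algebraMap B M)
  refine ⟨hBd, ?_⟩
  refine (isIntegrallyClosed_iff (FractionRing B)).2 fun {z} hz => ?_
  let ψ : FractionRing B →ₐ[B] M := IsFractionRing.liftAlgHom (g := Algebra.ofId B M) hinj
  obtain ⟨b, hb⟩ := (isIntegrallyClosedIn_iff.1 hcl).2 (x := ψ z) (hz.map ψ)
  exact ⟨b, ψ.toRingHom.injective ((ψ.commutes b).trans hb)⟩

end Groth.Agent.S7180
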