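import Groth.Statements.S7382
import Groth.Agent.Approx.IntegralLimit

set_option autoImplicit false
universe u
open CategoryTheory AlgebraicGeometry
open Lim

namespace Groth.Agent.S7382

/-- Let `f : X → S` be integral with `S` quasi-compact and quasi-separated. Then, in the category of
schemes over `S`, `X` is the limit of a nonempty directed inverse system of schemes `X_i → S` that
are finite and locally of finite presentation. -/
theorem result {X S : Scheme.{u}} (f : X ⟶ S) [IsIntegralHom f]
    [CompactSpace S] [QuasiSeparatedSpace S] :
    ∃ (I : Type u) (_ : Preorder I) (_ : IsDirected I (fun a b => a ≤ b)) (_ : Nonempty I)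
      (D : Iᵒᵖ ⥤ Over S) (c : Limits.Cone D) (_ : Limits.IsLimit c),
      (∀ i, IsFinite (D.obj i).hom ∧ LocallyOfFinitePresentation (D.obj i).hom) ∧
      Nonempty (c.pt ≅ Over.mk f) := by
  exact Groth.Agent.Approx.exists_isLimit_finite_fp f

end Groth.Agent.S7382
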