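import Groth.Statements.S13504
import Groth.Agent.EtFound.FreeMono
import Groth.Agent.EtFound.CompactObj
-- import your own Groth.Agent.* helpers here

set_option autoImplicit false
universe u
open CategoryTheory CategoryTheory.Limits AlgebraicGeometry
open EtPBC

namespace Groth.Agent.S13504

/-- Let X be a quasi-compact and quasi-separated scheme. For every constructible abelian sheaf F on the
small étale site of X, every q > 0 and every class α in H^q(X, F) there are a constructible abelian
sheaf G and a monomorphism u : F → G such that H^q(u) sends α to 0. -/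
theorem result (X : Scheme.{u}) [CompactSpace X] [QuasiSeparatedSpace X]
    (F : EtCoh.Ab X) (hF : EtPBC.IsConstructible F) (q : ℕ) (hq : 0 < q) (α : EtCoh.H X F q) :
    ∃ (G : EtCoh.Ab X) (u : F ⟶ G), EtPBC.IsConstructible G ∧ Mono u ∧
      (EtCoh.HF X q).map u α = 0 := by
  obtain ⟨n, hn, hFn⟩ := EtFound.exists_killedBy X hF
  obtain ⟨r, rfl⟩ : ∃ r, q = r + 1 := ⟨q - 1, by omega⟩
  let P := (constantSheaf X.smallEtaleTopology AddCommGrpCat.{u + 1}).obj (AddCommGrpCat.of (ULift.{u + 1} ℤ))
  let I := Injective.under F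
  let K := kernel (n • 𝟙 I)
  -- multiplication by `n` on the constant sheaf is injective
  haveI hP : Mono (n • 𝟙 P) := EtFound.mono_nsmul_constZ X hn
  haveI : Epi (n • 𝟙 I) := (EtFound.epi_iff_stalks _).2 fun Ω _ _ ξ c => by
    obtain ⟨W, w, a, rfl⟩ := (Scheme.pointSmallEtale ξ).toPresheafFiber_jointly_surjective c
    obtain ⟨ψ, hψ⟩ := EtFound.exists_free_hom a
    haveI : Mono (n • 𝟙 (EtFound.freeOn W)) := EtFound.mono_nsmul_freeOn W hn
    let φ := Injective.factorThru ψ (n • 𝟙 (EtFound.freeOn W))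
    have hφ : n • φ = ψ := by
      have := Injective.comp_factorThru ψ (n • 𝟙 (EtFound.freeOn W))
      rwa [Preadditive.nsmul_comp, Category.id_comp] at this
    refine ⟨(Scheme.pointSmallEtale ξ).toPresheafFiber W w I.obj (EtFound.freeVal φ), ?_⟩
    refine ((Scheme.pointSmallEtale ξ).toPresheafFiber_naturality_apply (n • 𝟙 I).hom W w _).trans ?_
    refine congrArg _ ((EtFound.nsmul_hom_app (𝟙 I) n W _).trans ?_)
    exact (EtFound.freeVal_nsmul φ n).symm.trans ((congrArg EtFound.freeVal hφ).trans hψ)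
  let S := ShortComplex.mk (kernel.ι (n • 𝟙 I)) (n • 𝟙 I) (kernel.condition _)
  have hS : S.ShortExact := { exact := ShortComplex.exact_of_f_is_kernel _ (kernelIsKernel _) }
  have hK : ∀ x : Abelian.Ext.{u + 1} P K (r + 1), x = 0 := fun x => by
    haveI : Injective S.X₂ := inferInstanceAs (Injective (Injective.under F))
    obtain ⟨z, rfl⟩ := Abelian.Ext.covariant_sequence_exact₁ _ hS x (Abelian.Ext.eq_zero_of_injective _) (rfl : r + 1 = r + 1)
    cases r with
    | zero =>
      obtain ⟨φ, rfl⟩ := (Abelian.Ext.mk₀_bijective _ _).2 z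
      let ψ : P ⟶ I := Injective.factorThru φ (n • 𝟙 P)
      have hψ : ψ ≫ S.g = φ := by
        refine Eq.trans ?_ (Injective.comp_factorThru φ (n • 𝟙 P))
        show ψ ≫ (n • 𝟙 I) = (n • 𝟙 P) ≫ ψ
        rw [Preadditive.comp_nsmul, Preadditive.nsmul_comp, Category.comp_id, Category.id_comp]
      rw [← hψ, ← Abelian.Ext.mk₀_comp_mk₀, Abelian.Ext.comp_assoc_of_second_deg_zero, hS.comp_extClass,
        Abelian.Ext.comp_zero]
    | succ k =>
      haveI : Injective S.X₃ := inferInstanceAs (Injective (Injective.under F))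
      rw [Abelian.Ext.eq_zero_of_injective z, Abelian.Ext.zero_comp]
  -- the torsion target
  let u₀ : F ⟶ K := kernel.lift _ (Injective.ι F) (by
    rw [Preadditive.comp_nsmul, Category.comp_id, ← Category.id_comp (Injective.ι F), ← Preadditive.nsmul_comp, hFn, zero_comp])
  haveI : Mono u₀ := by
    have : Mono (u₀ ≫ kernel.ι (n • 𝟙 I)) := by rw [kernel.lift_ι]; infer_instance
    exact mono_of_mono u₀ (kernel.ι (n • 𝟙 I))
  have hKt : EtCoh.IsTorsion K := fun W s x => by
    refine ⟨W, 𝟙 W, ⟨x, rfl⟩, isOfFinAddOrder_iff_nsmul_eq_zero.2 ⟨n, hn, ?_⟩⟩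
    rw [op_id, CategoryTheory.Functor.map_id]
    refine (EtFound.killedBy_iff_nsmul n K).2 ((cancel_mono (kernel.ι (n • 𝟙 I))).1 ?_) W s
    rw [zero_comp, Preadditive.nsmul_comp, Category.id_comp, ← Category.comp_id (kernel.ι (n • 𝟙 I)),
      ← Preadditive.comp_nsmul, kernel.condition]
  obtain ⟨hc⟩ := EtFound.nonempty_isColimit_stageCocone hKt
  obtain ⟨i, g, hg⟩ := (EtFound.isCpt_of_isConstructible hF).exists_stage hc u₀
  haveI := EtLC12.QcqsAcyclic.preservesColimitsOfShape_HF X (r + 1) (EtFound.TorsStage K)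
  have hz : ((EtFound.stageCocone K).ι.app i |> (EtCoh.HF X (r + 1)).map) ((EtCoh.HF X (r + 1)).map g α) =
      ((EtFound.stageCocone K).ι.app i |> (EtCoh.HF X (r + 1)).map) 0 := by
    rw [map_zero]
    exact hK _
  obtain ⟨j, f, hf⟩ := (Types.FilteredColimit.isColimit_eq_iff'
    (isColimitOfPreserves (EtCoh.HF X (r + 1) ⋙ forget AddCommGrpCat.{u + 1}) hc) _ _).1 hz
  change (EtCoh.HF X (r + 1)).map ((EtFound.stageFunctor K).map f) _ = (EtCoh.HF X (r + 1)).map ((EtFound.stageFunctor K).map f) 0 at hf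
  rw [map_zero, ← ConcreteCategory.comp_apply, ← Functor.map_comp] at hf
  refine ⟨_, g ≫ (EtFound.stageFunctor K).map f, EtFound.isConstructible_stage j, ?_, hf⟩
  have : Mono ((g ≫ (EtFound.stageFunctor K).map f) ≫ (EtFound.stageCocone K).ι.app j) := by
    rw [Category.assoc, (EtFound.stageCocone K).w, hg]
    exact ‹Mono u₀›
  exact mono_of_mono (g ≫ (EtFound.stageFunctor K).map f) ((EtFound.stageCocone K).ι.app j)

end Groth.Agent.S13504
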