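import Groth.Statements.S19228
import Groth.Agent.GrpSchLib.AffineHopf
import Groth.Agent.GrpSchLib.MuPairing
import Groth.Agent.RedCentralExt.Comm

set_option autoImplicit false
set_option backward.isDefEq.respectTransparency false
set_option backward.isDefEq.respectTransparency.types false
universe u
open CategoryTheory MonoidalCategory CartesianMonoidalCategory MonObj GrpObj AlgebraicGeometry
open GrpSch

namespace Groth.Agent.S19228

open GrpSchLib.AffineHopf WithConv

variable {R : Type u} [CommRing R] {n : ℕ}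

/-- The point attached to a root of unity. -/
noncomputable def chi [NeZero n] {A : Type u} [CommRing A] (x : A) (hx : x ^ n = 1) :
    Multiplicative (ZMod n) →* A where
  toFun c := x ^ (Multiplicative.toAdd c).val
  map_one' := by simp
  map_mul' c c' := by
    rw [toAdd_mul, ZMod.val_add, ← pow_add]
    exact (pow_eq_pow_mod _ hx).symm

/-- The point attached to a root of unity. -/
noncomputable def pt [NeZero n] {A : Type u} [CommRing A] [Algebra R A] (x : A) (hx : x ^ n = 1) :
    sp R A ⟶ Red.diag R (ZMod n) :=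
  spMap (MonoidAlgebra.lift R A (Multiplicative (ZMod n)) (chi x hx))

theorem conv_single {M : Type} [AddCommGroup M] {A : Type u} [CommRing A] [Algebra R A]
    (f g : MonoidAlgebra R (Multiplicative M) →ₐ[R] A) (c : Multiplicative M) :
    (toConv f * toConv g).ofConv (MonoidAlgebra.single c 1) =
      f (MonoidAlgebra.single c 1) * g (MonoidAlgebra.single c 1) := by
  refine (AlgHom.convMul_apply _ _ _).trans ?_
  simp [MonoidAlgebra.comul_single]

theorem pt_mul [NeZero n] {A : Type u} [CommRing A] [Algebra R A] (x x' : A) (hx : x ^ n = 1) (hx' : x' ^ n = 1)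
    (h : (x * x') ^ n = 1) : pt (R := R) (x * x') h = pt x hx * pt x' hx' := by
  rw [pt, pt, pt]
  erw [spMap_mul]
  refine congrArg spMap (MonoidAlgebra.algHom_ext (fun c => ?_) (by ext))
  rw [conv_single]
  simp [chi, _root_.mul_pow]

theorem pt_nat [NeZero n] {A B : Type u} [CommRing A] [CommRing B] [Algebra R A] [Algebra R B] (f : A →ₐ[R] B)
    (x : A) (hx : x ^ n = 1) (h : (f x) ^ n = 1) : spMap f ≫ pt x hx = pt (f x) h := by
  rw [pt, pt]
  erw [spMap_comp]
  refine congrArg spMap (MonoidAlgebra.algHom_ext (fun c => ?_) (by ext))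
  simp [chi]

theorem pt_surjective [NeZero n] {A : Type u} [CommRing A] [Algebra R A] (g : sp R A ⟶ Red.diag R (ZMod n)) :
    ∃ x hx, pt x hx = g := by
  obtain ⟨f, rfl⟩ := exists_eq_spMap g
  refine ⟨f (MonoidAlgebra.single (Multiplicative.ofAdd 1) 1), ?_, congrArg spMap ?_⟩
  · rw [← map_pow, MonoidAlgebra.single_pow, one_pow,
      show (Multiplicative.ofAdd (1 : ZMod n)) ^ n = 1 by rw [← ofAdd_nsmul]; simp]
    exact map_one f
  · refine MonoidAlgebra.algHom_ext (fun c => ?_) (by ext)
    rw [MonoidAlgebra.lift_single, one_smul]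
    show f (MonoidAlgebra.single _ 1) ^ (Multiplicative.toAdd c).val = _
    rw [← map_pow, MonoidAlgebra.single_pow, one_pow, ← ofAdd_nsmul, nsmul_one, ZMod.natCast_rightInverse _,
      ofAdd_toAdd]

/-- The value of a point of the multiplicative group. -/
noncomputable def val {A : Type u} [CommRing A] [Algebra R A] (g : sp R A ⟶ Red.diag R ℤ) : A :=
  (exists_eq_spMap g).choose (MonoidAlgebra.single (Multiplicative.ofAdd 1) 1)

theorem val_spMap {A : Type u} [CommRing A] [Algebra R A]
    (f : MonoidAlgebra R (Multiplicative ℤ) →ₐ[R] A) :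
    val (spMap f) = f (MonoidAlgebra.single (Multiplicative.ofAdd 1) 1) := by
  rw [val, ← spMap_injective (exists_eq_spMap (spMap f)).choose_spec]

theorem val_mul {A : Type u} [CommRing A] [Algebra R A] (g g' : sp R A ⟶ Red.diag R ℤ) :
    val (g * g') = val g * val g' := by
  obtain ⟨f, rfl⟩ := exists_eq_spMap g
  obtain ⟨f', rfl⟩ := exists_eq_spMap g'
  erw [spMap_mul]
  rw [val_spMap, conv_single]
  exact congrArg₂ (· * ·) (val_spMap f).symm (val_spMap f').symm

theorem val_nat {A B : Type u} [CommRing A] [CommRing B] [Algebra R A] [Algebra R B] (f : A →ₐ[R] B)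
    (g : sp R A ⟶ Red.diag R ℤ) : val (spMap f ≫ g) = f (val g) := by
  obtain ⟨φ, rfl⟩ := exists_eq_spMap g
  erw [spMap_comp]
  rw [val_spMap]
  exact congrArg f (val_spMap φ).symm

theorem isUnit_val {A : Type u} [CommRing A] [Algebra R A] (g : sp R A ⟶ Red.diag R ℤ) : IsUnit (val g) := by
  obtain ⟨φ, rfl⟩ := exists_eq_spMap g
  rw [val_spMap]
  refine IsUnit.of_mul_eq_one (φ (MonoidAlgebra.single (Multiplicative.ofAdd 1)⁻¹ 1)) ?_
  rw [← map_mul, MonoidAlgebra.single_mul_single, mul_inv_cancel, _root_.one_mul]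
  exact map_one φ

theorem val_injective {A : Type u} [CommRing A] [Algebra R A] {g g' : sp R A ⟶ Red.diag R ℤ}
    (h : val g = val g') : g = g' := by
  obtain ⟨f, rfl⟩ := exists_eq_spMap g
  obtain ⟨f', rfl⟩ := exists_eq_spMap g'
  rw [val_spMap, val_spMap] at h
  refine congrArg spMap (MonoidAlgebra.algHom_ext (fun c => ?_) (by ext))
  exact DFunLike.congr_fun (MonoidHom.ext_mint (f := (f : _ →* A).comp (MonoidAlgebra.of R _))
    (g := (f' : _ →* A).comp (MonoidAlgebra.of R _)) h) c

theorem val_one {A : Type u} [CommRing A] [Algebra R A] : val (1 : sp R A ⟶ Red.diag R ℤ) = 1 :=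
  (IsUnit.mul_eq_left (isUnit_val 1)).mp (by rw [← val_mul, _root_.mul_one])

theorem exists_sp (X : Over (Spec (CommRingCat.of R))) [IsAffine X.left] :
    ∃ (A : Type u) (_ : CommRing A) (_ : Algebra R A), Nonempty (sp R A ≅ X) := by
  let φ := Spec.preimage (X.left.isoSpec.inv ≫ X.hom)
  letI : Algebra R Γ(X.left, ⊤) := φ.hom.toAlgebra
  refine ⟨Γ(X.left, ⊤), inferInstance, inferInstance, ⟨Over.isoMk X.left.isoSpec.symm ?_⟩⟩
  show X.left.isoSpec.inv ≫ X.hom = Spec.map φ
  exact (Spec.map_preimage _).symm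

/-- The commutator pairing of a central extension by a kernel. -/
theorem exists_pairing {S : Scheme.{u}} {Z E Q : Over S} [GrpObj Z] [GrpObj E] [GrpObj Q]
    (i : Z ⟶ E) [IsMonHom i] (q : E ⟶ Q) [IsMonHom q]
    (hker : AlgGrp.IsKernel i q) (hq : Flat q.left ∧ Surjective q.left ∧ LocallyOfFinitePresentation q.left)
    (hcent : ∀ (T : Over S) (g : T ⟶ E) (t : T ⟶ Z), g * (t ≫ i) = (t ≫ i) * g)
    (hqc : ∀ (X : Over S) (a b : X ⟶ Q), a * b = b * a) :
    ∃ l : Q ⊗ Q ⟶ Z, (∀ {X : Over S} (x x' y : X ⟶ Q),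
      lift (x * x') y ≫ l = (lift x' y ≫ l) * (lift x y ≫ l) ∧
      lift y (x * x') ≫ l = (lift y x ≫ l) * (lift y x' ≫ l)) ∧
      (∀ {X : Over S} (x : X ⟶ Q), lift x x ≫ l = 1) ∧
      (l = 1 → ∀ (T : Over S) (g h : T ⟶ E), g * h = h * g) := by
  haveI : Mono i := by
    refine ⟨fun u v huv => hker.hom_ext huv (toUnit_unique _ _)⟩
  have hiq : ∀ (X : Over S) (t : X ⟶ Z), t ≫ i ≫ q = 1 := by
    intro X t
    rw [hker.w, ← Category.assoc, toUnit_unique (t ≫ toUnit _) (toUnit X)]
    exact Hom.one_def.symm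
  have hQ : RedSub.IsQuotient i q := RedQuot.isQuotient_of_points i q hq.2.1 hq.1 hq.2.2
    (fun X a t => by rw [MonObj.mul_comp, Category.assoc, hiq, _root_.mul_one])
    (fun X a b hab => by
      refine ⟨hker.lift (a⁻¹ * b) (toUnit X) ?_, by rw [hker.lift_fst, mul_inv_cancel_left]⟩
      rw [MonObj.mul_comp, GrpObj.inv_comp, hab, inv_mul_cancel]
      exact Hom.one_def)
  obtain ⟨b, hb⟩ := RedCentralExt.exists_descend_com hQ (fun X x g => (hcent X g x).symm) hqc
  have hbl := @RedCentralExt.bilinear _ E _ _ _ _ i q _ hQ (fun X x g => (hcent X g x).symm) hqc b hb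
  haveI := ((RedQuot.covers hQ).over_epi : Epi q)
  have hdiag : lift (𝟙 Q) (𝟙 _) ≫ b = 1 := by
    rw [← cancel_epi q, ← Category.assoc, comp_lift, Category.comp_id, MonObj.comp_one]
    refine Eq.trans ?_ ((hb E (𝟙 E) (𝟙 E)).trans (by simp [RedCentralExt.com]))
    rw [Category.id_comp]
  -- `b` lands in the kernel
  obtain ⟨X₁, c₁, a₁, hc₁, ha₁⟩ := RedQuot.exists_lift hQ (fst Q Q)
  obtain ⟨X₂, c₂, a₂, hc₂, ha₂⟩ := RedQuot.exists_lift hQ (c₁ ≫ snd Q Q)
  have hbq : b ≫ q = 1 := by
    have hcov : FpqcDescLib.Covers (c₂ ≫ c₁).left := by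
      rw [Over.comp_left]
      exact hc₂.comp hc₁
    haveI := hcov.over_epi
    rw [← cancel_epi (c₂ ≫ c₁), MonObj.comp_one, ← Category.assoc]
    have h1 : (c₂ ≫ c₁) = lift ((c₂ ≫ a₁) ≫ q) (a₂ ≫ q) := by
      apply CartesianMonoidalCategory.hom_ext
      · rw [lift_fst, Category.assoc, Category.assoc, ha₁]
      · rw [lift_snd, ha₂, Category.assoc]
    rw [h1, hb, RedCentralExt.com_comp, RedCentralExt.com, hqc _ ((c₂ ≫ a₁) ≫ q), mul_inv_cancel_right, mul_inv_cancel]
  let l := hker.lift b (toUnit _) (hbq.trans Hom.one_def)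
  have hl : l ≫ i = b := hker.lift_fst _ _ _
  have hll : ∀ {X : Over S} (x x' y : X ⟶ Q),
      lift (x * x') y ≫ l = (lift x' y ≫ l) * (lift x y ≫ l) ∧
      lift y (x * x') ≫ l = (lift y x ≫ l) * (lift y x' ≫ l) := by
    intro X x x' y
    refine ⟨?_, ?_⟩ <;> rw [← cancel_mono i, MonObj.mul_comp, Category.assoc, Category.assoc, Category.assoc, hl]
    exacts [(hbl x x' y).1, (hbl x x' y).2]
  have hls : ∀ {X : Over S} (x : X ⟶ Q), lift x x ≫ l = 1 := by
    intro X x
    rw [← cancel_mono i, Category.assoc, hl, MonObj.one_comp,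
      show lift x x = x ≫ lift (𝟙 _) (𝟙 _) by rw [comp_lift, Category.comp_id], Category.assoc, hdiag, MonObj.comp_one]
  refine ⟨l, fun x x' y => hll x x' y, fun x => hls x, fun hl1 T g h => ?_⟩
  refine RedCentralExt.eq_of_com_eq_one ?_
  rw [← hb T g h, ← hl, hl1, MonObj.one_comp, MonObj.comp_one]

set_option maxHeartbeats 800000 in
/-- Let R be a strictly henselian local ring and n ≥ 1, and let E be a group scheme over Spec R which is
an extension of μ_n = D(ℤ/n) by the multiplicative group G_m = D(ℤ): there are homomorphisms i : G_m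
→ E and q : E → μ_n with q flat, surjective and locally of finite presentation (an epimorphism of
fppf sheaves), i a kernel of q, and i(G_m) central in E. Then E is commutative: any two points of E
with values in an R-scheme commute. (The published statement speaks of an extension of abelian fppf
sheaves and also asserts that E is representable; its argument, through the commutator pairing, is
for an extension of sheaves of groups with G_m central, which is what this row assumes, with E a
group scheme from the start, so only commutativity is stated. Centrality of G_m is essential: when 2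
is invertible the orthogonal group O_2 is a non-commutative extension of μ_2 by G_m = SO_2.) -/
theorem result (R : Type u) [CommRing R] [HenselianLocalRing R]
    [IsSepClosed (IsLocalRing.ResidueField R)] (n : ℕ) (hn : 1 ≤ n)
    (E : Over (Spec (CommRingCat.of R))) [GrpObj E]
    (i : Red.diag R ℤ ⟶ E) [IsMonHom i] (q : E ⟶ Red.diag R (ZMod n)) [IsMonHom q]
    (hker : AlgGrp.IsKernel i q) (hq : Flat q.left ∧ Surjective q.left ∧ LocallyOfFinitePresentation q.left)
    (hcent : ∀ (T : Over (Spec (CommRingCat.of R))) (g : T ⟶ E) (t : T ⟶ Red.diag R ℤ), g * (t ≫ i) = (t ≫ i) * g)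
    (T : Over (Spec (CommRingCat.of R))) (g h : T ⟶ E) : g * h = h * g := by
  classical
  haveI : NeZero n := ⟨Nat.one_le_iff_ne_zero.mp hn⟩
  haveI : IsAffine ((Red.diag R (ZMod n)) ⊗ (Red.diag R (ZMod n))).left :=
    haveI : IsAffine (Red.diag R (ZMod n)).left := inferInstanceAs (IsAffine (Spec _))
    inferInstanceAs (IsAffine (Limits.pullback (Red.diag R (ZMod n)).hom (Red.diag R (ZMod n)).hom))
  obtain ⟨A, _, _, ⟨io⟩⟩ := exists_sp ((Red.diag R (ZMod n)) ⊗ (Red.diag R (ZMod n)))
  have hqc0 : fst (Red.diag R (ZMod n)) (Red.diag R (ZMod n)) * snd _ _ = snd _ _ * fst _ _ := by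
    rw [← cancel_epi io.hom, MonObj.comp_mul, MonObj.comp_mul]
    obtain ⟨x, hx, hxe⟩ := pt_surjective (io.hom ≫ fst _ _)
    obtain ⟨y, hy, hye⟩ := pt_surjective (io.hom ≫ snd _ _)
    have h : (x * y) ^ n = 1 := by rw [_root_.mul_pow, hx, hy, _root_.one_mul]
    have h' : (y * x) ^ n = 1 := by rw [_root_.mul_comm]; exact h
    rw [← hxe, ← hye, ← pt_mul x y hx hy h, ← pt_mul y x hy hx h']
    simp only [_root_.mul_comm y x]
  have hqc : ∀ (X : Over (Spec (CommRingCat.of R))) (a b : X ⟶ Red.diag R (ZMod n)), a * b = b * a := by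
    intro X a b
    have := congrArg (lift a b ≫ ·) hqc0
    simpa only [MonObj.comp_mul, lift_fst, lift_snd] using this
  obtain ⟨l, hll, hls, hfin⟩ := exists_pairing i q hker hq hcent hqc
  let P : GrpSchLib.MuPairing.Pairing R n :=
    { e := fun A _ _ x y => if h : x ^ n = 1 ∧ y ^ n = 1 then val (lift (pt x h.1) (pt y h.2) ≫ l) else 1
      nat' := fun {A B} _ _ _ _ f x y hx hy => by
        have hx' : (f x) ^ n = 1 := by rw [← map_pow, hx, map_one]
        have hy' : (f y) ^ n = 1 := by rw [← map_pow, hy, map_one]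
        rw [dif_pos ⟨hx, hy⟩, dif_pos ⟨hx', hy'⟩, ← val_nat, ← Category.assoc, comp_lift, pt_nat, pt_nat]
      isUnit' := fun x y hx hy => by rw [dif_pos ⟨hx, hy⟩]; exact isUnit_val _
      left' := fun x x' y hx hx' hy => by
        have h : (x * x') ^ n = 1 := by rw [_root_.mul_pow, hx, hx', _root_.one_mul]
        rw [dif_pos ⟨h, hy⟩, dif_pos ⟨hx, hy⟩, dif_pos ⟨hx', hy⟩, pt_mul x x' hx hx', (hll _ _ _).1, val_mul,
          _root_.mul_comm]
      right' := fun x y y' hx hy hy' => by
        have h : (y * y') ^ n = 1 := by rw [_root_.mul_pow, hy, hy', _root_.one_mul]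
        rw [dif_pos ⟨hx, h⟩, dif_pos ⟨hx, hy⟩, dif_pos ⟨hx, hy'⟩, pt_mul y y' hy hy', (hll _ _ _).2, val_mul]
      self' := fun x hx => by rw [dif_pos ⟨hx, hx⟩, hls, val_one] }
  have hl1 : l = 1 := by
    rw [← cancel_epi io.hom, MonObj.comp_one]
    apply val_injective
    obtain ⟨x, hx, hxe⟩ := pt_surjective (io.hom ≫ fst _ _)
    obtain ⟨y, hy, hye⟩ := pt_surjective (io.hom ≫ snd _ _)
    have h := P.eq_one (NeZero.ne n) x y hx hy
    simp only [P, dif_pos (And.intro hx hy)] at h
    rw [val_one, ← h]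
    congr 2
    rw [hxe, hye]
    apply CartesianMonoidalCategory.hom_ext <;> simp
  exact hfin hl1 T g h

end Groth.Agent.S19228
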