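import Groth.Statements.S2463
import Groth.Agent.FSLocLib.Crit
import Mathlib

set_option autoImplicit false
universe u
open EGA41

namespace Groth.Agent.S2463

open TensorProduct KaehlerDifferential in
/-- Let B be a formally smooth A-algebra (discrete topologies), B → C a surjection with kernel J such
that J/J² is a finitely generated module (over B, equivalently over C), and p a prime of C. The
following are equivalent: the local ring C_p is formally smooth over A; the map κ(p) ⊗ J/J² → κ(p) ⊗
(C ⊗_B Ω_{B/A}) induced by d is injective (tensor products over B, which agree with those over C =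
B/J); there is f ∈ C outside p with C_f formally smooth over A. -/
theorem result {A B C : Type u} [CommRing A] [CommRing B] [CommRing C] [Algebra A B] [Algebra B C] [Algebra A C]
    [IsScalarTower A B C] [Algebra.FormallySmooth A B] (hsurj : Function.Surjective (algebraMap B C))
    [Module.Finite B (RingHom.ker (algebraMap B C)).Cotangent] (p : Ideal C) [p.IsPrime] :
    [Algebra.FormallySmooth A (Localization.AtPrime p),
     Function.Injective ((kerCotangentToTensor A B C).lTensor p.ResidueField),
     ∃ f : C, f ∉ p ∧ Algebra.FormallySmooth A (Localization.Away f)].TFAE := by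
  set κ := p.ResidueField
  let P : Algebra.Extension.{u} A C :=
    { Ring := B, σ := Function.surjInv hsurj, algebraMap_σ := Function.surjInv_eq hsurj }
  haveI : Algebra.FormallySmooth A P.Ring := inferInstanceAs (Algebra.FormallySmooth A B)
  let f : P.Cotangent ≃ₗ[B] (RingHom.ker (algebraMap B C)).Cotangent :=
    { toFun := fun x => x.val
      invFun := fun x => Algebra.Extension.Cotangent.of x
      left_inv := fun x => rfl
      right_inv := fun x => rfl
      map_add' := fun x y => rfl
      map_smul' := fun r x => Algebra.Extension.Cotangent.val_smul' (r : P.Ring) x }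
  let gB : P.Cotangent →ₗ[B] κ ⊗[B] (RingHom.ker (algebraMap B C)).Cotangent :=
    (TensorProduct.mk B κ _ 1) ∘ₗ f.toLinearMap
  let g : P.Cotangent →ₗ[C] κ ⊗[B] (RingHom.ker (algebraMap B C)).Cotangent := gB.extendScalarsOfSurjective hsurj
  have hg : ∀ m, g m = (1 : κ) ⊗ₜ[B] f m := fun m => rfl
  have hkt : ∀ (k : κ) (x : (RingHom.ker (algebraMap B C)).Cotangent), k ⊗ₜ[B] x = k • g (f.symm x) := fun k x => by
    rw [hg, LinearEquiv.apply_symm_apply, TensorProduct.smul_tmul', smul_eq_mul, mul_one]
  have hcc : ∀ m, P.cotangentComplex m = kerCotangentToTensor A B C (f m) := fun m => rfl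
  tfae_have 1 → 2 := fun h => by
    obtain ⟨L, hL⟩ := Groth.Agent.FSLocLib.exists_extend P p g
    let Lam : κ ⊗[B] (C ⊗[B] Ω[B⁄A]) →ₗ[κ] κ ⊗[B] (RingHom.ker (algebraMap B C)).Cotangent :=
      LinearMap.liftBaseChange κ (L.restrictScalars B)
    refine Function.LeftInverse.injective (g := Lam) fun z => ?_
    induction z with
    | zero => simp
    | add x y hx hy => rw [map_add, map_add, hx, hy]
    | tmul k x =>
      rw [LinearMap.lTensor_tmul]
      show LinearMap.liftBaseChange κ (L.restrictScalars B) (k ⊗ₜ kerCotangentToTensor A B C x) = _
      rw [LinearMap.liftBaseChange_tmul, LinearMap.restrictScalars_apply]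
      conv_lhs => rw [← f.apply_symm_apply x, ← hcc, hL]
      exact (hkt k x).symm
  tfae_have 2 → 3 := fun h => by
    haveI : Module.Finite B P.Cotangent := Module.Finite.equiv f.symm
    haveI : Module.Finite C P.Cotangent := Module.Finite.of_restrictScalars_finite B C _
    haveI : Module.Projective C P.CotangentSpace := inferInstanceAs (Module.Projective C (C ⊗[B] Ω[B⁄A]))
    let hh : P.CotangentSpace →ₗ[C] κ ⊗[B] (C ⊗[B] Ω[B⁄A]) :=
      ((TensorProduct.mk B κ (C ⊗[B] Ω[B⁄A]) 1)).extendScalarsOfSurjective hsurj
    let ψ := LinearMap.baseChange κ (kerCotangentToTensor A B C)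
    obtain ⟨c, hc, l, hl⟩ := Groth.Agent.FSLocLib.exists_left_inverse P p g
      (eq_top_iff.mpr fun z hztop => by
        clear hztop
        induction z with
        | zero => exact Submodule.zero_mem _
        | add x y hx hy => exact Submodule.add_mem _ hx hy
        | tmul k x => rw [hkt]; exact Submodule.smul_mem _ _ (Submodule.subset_span ⟨_, rfl⟩))
      (fun m hm => by
        let T : κ ⊗[B] (RingHom.ker (algebraMap B C)).Cotangent →ₗ[B] κ ⊗[C] P.Cotangent :=
          TensorProduct.lift (LinearMap.mk₂ B (fun k x => k ⊗ₜ[C] f.symm x)
            (fun a b x => TensorProduct.add_tmul a b _)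
            (fun r a x => by rw [TensorProduct.smul_tmul'])
            (fun a x y => by rw [map_add, TensorProduct.tmul_add])
            (fun r a x => by rw [map_smul, TensorProduct.tmul_smul]))
        have h1 : T (g m) = (1 : κ) ⊗ₜ[C] m := by
          rw [hg]; simp only [T, TensorProduct.lift.tmul, LinearMap.mk₂_apply, LinearEquiv.symm_apply_apply]
        rw [← h1, hm, map_zero])
      hh ψ (by rw [LinearMap.baseChange_eq_ltensor]; exact h)
      (fun m => by rw [hg]; rfl)
    exact ⟨c, hc, Groth.Agent.FSLocLib.formallySmooth_away P l hl⟩
  tfae_have 3 → 1 := fun ⟨c, hc, h⟩ => by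
    have hle : Submonoid.powers c ≤ p.primeCompl := Submonoid.powers_le.mpr hc
    letI : Algebra (Localization.Away c) (Localization.AtPrime p) :=
      IsLocalization.localizationAlgebraOfSubmonoidLe (Localization.Away c) (Localization.AtPrime p) _ _ hle
    haveI : IsScalarTower C (Localization.Away c) (Localization.AtPrime p) :=
      IsLocalization.localization_isScalarTower_of_submonoid_le _ _ _ _ hle
    haveI : IsScalarTower A (Localization.Away c) (Localization.AtPrime p) :=
      IsScalarTower.of_algebraMap_eq fun a => by
        rw [IsScalarTower.algebraMap_apply A C (Localization.AtPrime p), IsScalarTower.algebraMap_apply A C (Localization.Away c),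
          ← IsScalarTower.algebraMap_apply C (Localization.Away c) (Localization.AtPrime p)]
    haveI : IsLocalization (p.primeCompl.map (algebraMap C (Localization.Away c))) (Localization.AtPrime p) :=
      IsLocalization.isLocalization_of_submonoid_le (Localization.Away c) (Localization.AtPrime p) _ _ hle
    haveI : Algebra.FormallyEtale (Localization.Away c) (Localization.AtPrime p) :=
      Algebra.FormallyEtale.of_isLocalization (p.primeCompl.map (algebraMap C (Localization.Away c)))
    exact Algebra.FormallySmooth.comp A (Localization.Away c) (Localization.AtPrime p)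
  tfae_finish

end Groth.Agent.S2463
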