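import Groth.Statements.S1661
import Mathlib
-- import your own Groth.Agent.* helpers here

set_option autoImplicit false
universe u
open CategoryTheory CategoryTheory.Limits AlgebraicGeometry
open Divisors

namespace Groth.Agent.S1661

/-- If i : Z → Y and j : Y → X are regular closed immersions then so is their composite Z → X. This is
the closed-immersion case of the published statement. -/
theorem result {Z Y X : Scheme.{u}} (i : Z ⟶ Y) (j : Y ⟶ X)
    (hi : Mor2.IsRegularClosedImmersion i) (hj : Mor2.IsRegularClosedImmersion j) : Mor2.IsRegularClosedImmersion (i ≫ j) := by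
  obtain ⟨hic, hi⟩ := hi
  obtain ⟨hjc, hj⟩ := hj
  refine ⟨inferInstance, fun z => ?_⟩
  obtain ⟨U, hU, hzU, rsi, hrsi, hkeri⟩ := hi z
  obtain ⟨V, hV, hyV, rsj, hrsj, hkerj⟩ := hj (i z)
  obtain ⟨U', hU'open, hU'⟩ := (IsClosedImmersion.base_closed (f := j)).isInducing.isOpen_iff.1 U.2
  obtain ⟨W, hW, hyW, hWle⟩ := TopologicalSpace.Opens.isBasis_iff_nbhd.1 X.isBasis_affineOpens
    (show j (i z) ∈ V ⊓ (⟨U', hU'open⟩ : X.Opens) from
      ⟨hyV, (Set.ext_iff.1 hU' (i z)).2 hzU⟩)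
  have hWV : W ≤ V := hWle.trans inf_le_left
  have hWU : j ⁻¹ᵁ W ≤ U := fun y hy => (Set.ext_iff.1 hU' y).1 ((hWle hy).2)
  have hYW : IsAffineOpen (j ⁻¹ᵁ W) := hW.preimage j
  have flat : ∀ {S : Scheme.{u}} {A B : S.Opens} (hA : IsAffineOpen A) (hB : IsAffineOpen B) (h : B ≤ A),
      (S.presheaf.map (homOfLE h).op).hom.Flat := fun {S A B} hA hB h => by
    have := Scheme.Hom.flat_appLE (f := 𝟙 S) hA hB (show B ≤ (𝟙 S) ⁻¹ᵁ A from h)
    rw [Scheme.Hom.appLE, Scheme.Hom.id_app] at this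
    exact this
  have wr : ∀ {S : Scheme.{u}} {A B : S.Opens} (hA : IsAffineOpen A) (hB : IsAffineOpen B) (h : B ≤ A)
      (rs : List Γ(S, A)), RingTheory.Sequence.IsWeaklyRegular Γ(S, A) rs →
      RingTheory.Sequence.IsWeaklyRegular Γ(S, B) (rs.map (S.presheaf.map (homOfLE h).op).hom) :=
    fun {S A B} hA hB h rs hrs => by
    letI := (S.presheaf.map (homOfLE h).op).hom.toAlgebra
    haveI : Module.Flat Γ(S, A) Γ(S, B) := flat hA hB h
    have h1 := hrs.of_flat (S := Γ(S, B))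
    exact h1
  have hrj := wr hV hW hWV rsj hrsj.toIsWeaklyRegular
  have hri := wr hU hYW hWU rsi hrsi.toIsWeaklyRegular
  have hkj : RingHom.ker (j.app W).hom = Ideal.ofList (rsj.map (X.presheaf.map (homOfLE hWV).op).hom) := by
    rw [← Scheme.Hom.ker_apply j ⟨W, hW⟩, ← j.ker.map_ideal (U := ⟨W, hW⟩) (V := ⟨V, hV⟩) hWV, hkerj,
      Ideal.map_ofList]
    all_goals rfl
  have hki : RingHom.ker (i.app (j ⁻¹ᵁ W)).hom = Ideal.ofList (rsi.map (Y.presheaf.map (homOfLE hWU).op).hom) := by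
    rw [← Scheme.Hom.ker_apply i ⟨_, hYW⟩, ← i.ker.map_ideal (U := ⟨_, hYW⟩) (V := ⟨U, hU⟩) hWU, hkeri,
      Ideal.map_ofList]
    all_goals rfl
  have hsurj : Function.Surjective (j.app W).hom := j.app_surjective W hW
  obtain ⟨rsl, hrsl⟩ := List.map_surjective_iff.2 hsurj (rsi.map (Y.presheaf.map (homOfLE hWU).op).hom)
  generalize hA : rsj.map (X.presheaf.map (homOfLE hWV).op).hom = rsj' at hrj hkj
  generalize hB : rsi.map (Y.presheaf.map (homOfLE hWU).op).hom = rsi' at hri hki hrsl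
  have hker : (i ≫ j).ker.ideal ⟨W, hW⟩ = Ideal.ofList (rsj' ++ rsl) := by
    rw [Scheme.Hom.ker_apply, Ideal.ofList_append]
    show RingHom.ker ((i.app (j ⁻¹ᵁ W)).hom.comp (j.app W).hom) = _
    rw [← RingHom.comap_ker, hki, ← hrsl, ← Ideal.map_ofList, Ideal.comap_map_of_surjective _ hsurj,
      ← RingHom.ker_eq_comap_bot, hkj, sup_comm]
  refine ⟨W, hW, hyW, rsj' ++ rsl, ⟨?_, ?_⟩, hker⟩
  · rw [RingTheory.Sequence.isWeaklyRegular_append_iff]
    refine ⟨hrj, ?_⟩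
    letI : Algebra Γ(X, W) Γ(Y, j ⁻¹ᵁ W) := (j.app W).hom.toAlgebra
    let e : (Γ(X, W) ⧸ (Ideal.ofList rsj' • ⊤ : Submodule Γ(X, W) Γ(X, W))) ≃ₗ[Γ(X, W)] Γ(Y, j ⁻¹ᵁ W) :=
      (Submodule.quotEquivOfEq _ _ (by
        rw [smul_eq_mul, Ideal.mul_top, ← hkj]
        rfl : (Ideal.ofList rsj' • ⊤ : Submodule Γ(X, W) Γ(X, W)) =
          LinearMap.ker (Algebra.linearMap Γ(X, W) Γ(Y, j ⁻¹ᵁ W)))).trans
        (LinearMap.quotKerEquivOfSurjective _ hsurj)
    rw [e.isWeaklyRegular_congr, ← RingTheory.Sequence.isWeaklyRegular_map_algebraMap_iff Γ(Y, j ⁻¹ᵁ W)]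
    rw [← hrsl] at hri
    exact hri
  · rw [smul_eq_mul, Ideal.mul_top, ← hker]
    intro h
    haveI : Nonempty ↥((i ≫ j) ⁻¹ᵁ W) := ⟨⟨z, hyW⟩⟩
    have h1 : (1 : Γ(X, W)) ∈ (i ≫ j).ker.ideal ⟨W, hW⟩ := h ▸ Submodule.mem_top
    rw [Scheme.Hom.ker_apply, RingHom.mem_ker, map_one] at h1
    exact one_ne_zero h1

end Groth.Agent.S1661
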