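import Groth.Statements.S4667
import Mathlib.AlgebraicGeometry.Morphisms.SchemeTheoreticallyDominant

set_option autoImplicit false
open CategoryTheory AlgebraicGeometry
universe u
open FDesc

namespace Groth.Agent.S4667

open CategoryTheory.Limits in
/-- Let f : X → Y be a quasi-compact morphism of schemes and g : Y' → Y a flat morphism, and let f' : X
×_Y Y' → Y' be the base change of f. Then the scheme-theoretic image of f' is the inverse image
under g of the scheme-theoretic image of f: the quasi-coherent ideal sheaf cutting out the former is
the pull-back along g of the one cutting out the latter. (One published statement is phrased for a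
quasi-compact and quasi-separated S-morphism f and a flat base change S′ → S, which reduces to this
case; quasi-compactness of f suffices.) -/
theorem result {X Y Y' : Scheme.{u}} (f : X ⟶ Y) (g : Y' ⟶ Y)
    [QuasiCompact f] [Flat g] :
    (pullback.snd f g).ker = f.ker.comap g := by
  haveI : IsSchemeTheoreticallyDominant f.toImage := by
    refine ⟨Scheme.IdealSheafData.ext (funext fun U => ?_)⟩
    rw [Scheme.IdealSheafData.ideal_bot, Pi.bot_apply, eq_bot_iff]
    refine (f.toImage.ideal_ker_le U).trans fun s hs => ?_
    rw [Ideal.mem_bot]
    refine TopCat.Presheaf.section_ext f.image.sheaf _ _ _ fun w hw => ?_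
    refine Scheme.Hom.stalkFunctor_toImage_injective f w ?_
    erw [TopCat.Presheaf.stalkFunctor_map_germ_apply, TopCat.Presheaf.stalkFunctor_map_germ_apply]
    exact congrArg _ ((RingHom.mem_ker.mp hs).trans (map_zero _).symm)
  open CategoryTheory.Limits in
  have hq : (pullback.snd f.toImage (pullback.fst f.imageι g)).ker = ⊥ := by
    haveI : IsSchemeTheoreticallyDominant (pullback.snd f.toImage (pullback.fst f.imageι g)) := inferInstance
    exact Scheme.Hom.ker_eq_bot _
  open CategoryTheory.Limits in
  calc (pullback.snd f g).ker
      = (pullback.snd (f.toImage ≫ f.imageι) g).ker := by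
        rw [← Scheme.Hom.ker_comp_of_isIso (pullback.congrHom f.toImage_imageι rfl).hom (pullback.snd f g),
          pullback.congrHom_hom]
        erw [pullback.lift_snd]
        rw [Category.comp_id]
    _ = (pullback.snd f.toImage (pullback.fst f.imageι g) ≫ pullback.snd f.imageι g).ker := by
        rw [← pullbackRightPullbackFstIso_hom_snd, Scheme.Hom.ker_comp_of_isIso]
    _ = (pullback.snd f.imageι g).ker := by
        rw [Scheme.Hom.ker_comp, hq, Scheme.IdealSheafData.map_bot]
    _ = f.ker.comap g := by
        rw [← pullbackSymmetry_hom_comp_fst, Scheme.Hom.ker_comp_of_isIso,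
          Scheme.IdealSheafData.ker_fst_of_isClosedImmersion, Scheme.Hom.imageι, Scheme.IdealSheafData.ker_subschemeι]

end Groth.Agent.S4667
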