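import Groth.Statements.S5924
import Groth.Agent.FibDim.GenerizeDim

set_option autoImplicit false
open CategoryTheory AlgebraicGeometry
universe u
open EGA43

namespace Groth.Agent.S5924

/-- Let Y be an irreducible locally Noetherian scheme, f : X ⟶ Y a morphism locally of finite type which
is equidimensional at the point x, and suppose that x is not a maximal point of its fibre f⁻¹(f x),
i.e. some point of the fibre other than x specializes to x. Then there exist an affine open
neighbourhood U of x and a section g of O_X over U such that g vanishes at x (x is not in the basic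
open set of g) while every maximal point of f⁻¹(f x) lying in U is in the basic open set of g. -/
theorem result {X Y : Scheme.{u}} [IrreducibleSpace Y]
    [IsLocallyNoetherian Y] (f : X ⟶ Y) [LocallyOfFiniteType f] (x : X) (hf : EGA43.IsEquidimAt f x)
    (hx : ∃ x' : X, f.base x' = f.base x ∧ x' ≠ x ∧ x ∈ closure ({x'} : Set X)) :
    ∃ U : X.Opens, IsAffineOpen U ∧ x ∈ U ∧ ∃ g : Γ(X, U), x ∉ X.basicOpen g ∧
      ∀ z : X, f.base z = f.base x → (∀ z' : X, f.base z' = f.base x → z ∈ closure ({z'} : Set X) → z' = z) →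
        z ∈ U → z ∈ X.basicOpen g := by
  obtain ⟨x', hx'f, hx'ne, hx'x⟩ := hx
  obtain ⟨V, hV, hxV, -⟩ := exists_isAffineOpen_mem_and_subset (x := f x) (U := ⊤) trivial
  obtain ⟨U, hU, hxU, hUV⟩ := exists_isAffineOpen_mem_and_subset (x := x) (U := f ⁻¹ᵁ V) hxV
  obtain ⟨P, hP, hcov⟩ := FibDim.exists_finite_generic_fibre f hV hU hUV hxV
  obtain ⟨p, rfl⟩ := VarDim.exists_fromSpec_eq hU hxU
  classical
  haveI : Nonempty (PrimeSpectrum Γ(X, U)) := ⟨p⟩
  choose! Q hQ using fun z (hz : z ∈ P) => VarDim.exists_fromSpec_eq hU (hP z hz).1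
  let T : Finset X := P.filter fun z =>
    ∀ z', f z' = f (hU.fromSpec p) → z' ⤳ z → z' = z
  obtain ⟨g, hgp, hgT⟩ : ∃ g ∈ p.asIdeal, ∀ z ∈ T, g ∉ (Q z).asIdeal := by
    by_contra hne
    push Not at hne
    have hsub : (p.asIdeal : Set Γ(X, U)) ⊆ ⋃ z ∈ T, ((Q z).asIdeal : Set Γ(X, U)) := fun g hg => by
      obtain ⟨z, hz, hgz⟩ := hne g hg
      exact Set.mem_iUnion₂.2 ⟨z, hz, hgz⟩
    obtain ⟨z, hz, hle⟩ := (Ideal.subset_union_prime (f := fun z => (Q z).asIdeal) (hU.fromSpec p) (hU.fromSpec p)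
      fun z _ _ _ => (Q z).isPrime).1 (by simpa using hsub)
    obtain ⟨hzP, hzm⟩ := Finset.mem_filter.1 hz
    have hxz : hU.fromSpec p ⤳ z := by
      rw [← hQ z hzP]; exact (VarDim.fromSpec_specializes_iff hU _ _).2 hle
    have hzx := hzm _ rfl hxz
    exact hx'ne ((hzm x' hx'f ((specializes_iff_mem_closure.2 hx'x).trans (specializes_of_eq hzx))).trans hzx.symm)
  refine ⟨U, hU, hxU, g, fun hg => ?_, fun z hz hzm hzU => ?_⟩
  · have : p ∈ PrimeSpectrum.basicOpen g := by rw [← hU.fromSpec_preimage_basicOpen]; exact hg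
    exact this hgp
  · obtain ⟨w, hw, hwz⟩ := hcov z hzU hz
    obtain rfl : w = z := hzm w (hP w hw).2 (specializes_iff_mem_closure.1 hwz)
    have hwT : w ∈ T := Finset.mem_filter.2 ⟨hw, fun z' h1 h2 => hzm z' h1 (specializes_iff_mem_closure.1 h2)⟩
    rw [← hQ w hw]
    show Q w ∈ hU.fromSpec ⁻¹ᵁ X.basicOpen g
    rw [hU.fromSpec_preimage_basicOpen]
    exact hgT w hwT

end Groth.Agent.S5924
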