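import Groth.Statements.S5925
import Groth.Agent.DimFormula.EquidimSub

set_option autoImplicit false
open CategoryTheory AlgebraicGeometry
universe u
open EGA43

namespace Groth.Agent.S5925

/-- Let Y be an irreducible locally Noetherian scheme, f : X ⟶ Y a morphism locally of finite type which
is equidimensional at the point x, y = f x and e = dim_x(f⁻¹(y)). Let g be a global section of O_X
vanishing at x whose zero set X' contains no maximal point of f⁻¹(y). Then X', with its reduced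
closed subscheme structure, is equidimensional over Y at x; dim_x(X' ∩ f⁻¹(y)) = e − 1; and every
irreducible component of X' containing x has codimension 1 in X, i.e. the local ring of X at its
generic point has Krull dimension 1. (Stated for a global section; the published statement takes g
on an affine open neighbourhood of x, to which this applies after restriction, and its codimension
assertion codim(X', X) = 1 is read for the components of X' through x: a component of the zero set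
not passing through x can be a whole irreducible component of X disjoint from the fibre, of
codimension 0.) -/
theorem result {X Y : Scheme.{u}} [IrreducibleSpace Y]
    [IsLocallyNoetherian Y] (f : X ⟶ Y) [LocallyOfFiniteType f] (x : X) (hf : EGA43.IsEquidimAt f x)
    (g : Γ(X, ⊤)) (hgx : x ∈ X.zeroLocus ({g} : Set Γ(X, ⊤)))
    (hmax : ∀ z : X, f.base z = f.base x → (∀ z' : X, f.base z' = f.base x → z ∈ closure ({z'} : Set X) → z' = z) →
      z ∉ X.zeroLocus ({g} : Set Γ(X, ⊤))) :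
    (∀ w : ↥(Scheme.IdealSheafData.vanishingIdeal ⟨X.zeroLocus ({g} : Set Γ(X, ⊤)), X.zeroLocus_isClosed _⟩).subscheme,
        (Scheme.IdealSheafData.vanishingIdeal ⟨X.zeroLocus ({g} : Set Γ(X, ⊤)), X.zeroLocus_isClosed _⟩).subschemeι.base w = x →
        EGA43.IsEquidimAt ((Scheme.IdealSheafData.vanishingIdeal ⟨X.zeroLocus ({g} : Set Γ(X, ⊤)), X.zeroLocus_isClosed _⟩).subschemeι ≫ f) w) ∧
      FlatMor.localDim ↥(X.zeroLocus ({g} : Set Γ(X, ⊤)) ∩ f.base ⁻¹' {f.base x}) ⟨x, ⟨hgx, rfl⟩⟩ + 1 = FlatMor.fibreDimAt f x ∧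
      ∀ Z ∈ irreducibleComponents ↥(X.zeroLocus ({g} : Set Γ(X, ⊤))), (⟨x, hgx⟩ : ↥(X.zeroLocus ({g} : Set Γ(X, ⊤)))) ∈ Z →
        ∀ ξ : ↥(X.zeroLocus ({g} : Set Γ(X, ⊤))), closure ({ξ} : Set ↥(X.zeroLocus ({g} : Set Γ(X, ⊤)))) = Z →
          ringKrullDim (X.presheaf.stalk (ξ : X)) = 1 := by
  haveI := LocallyOfFiniteType.isLocallyNoetherian f
  haveI : IsLocallyNoetherian (Scheme.IdealSheafData.vanishingIdeal ⟨(X.zeroLocus ({g} : Set Γ(X, ⊤))), X.zeroLocus_isClosed _⟩).subscheme := LocallyOfFiniteType.isLocallyNoetherian (Scheme.IdealSheafData.vanishingIdeal ⟨(X.zeroLocus ({g} : Set Γ(X, ⊤))), X.zeroLocus_isClosed _⟩).subschemeι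
  have hjr : Set.range (Scheme.IdealSheafData.vanishingIdeal ⟨(X.zeroLocus ({g} : Set Γ(X, ⊤))), X.zeroLocus_isClosed _⟩).subschemeι = (X.zeroLocus ({g} : Set Γ(X, ⊤))) := DimFormula.range_vanishingIdeal _
  have hclosed : IsClosed (X.zeroLocus ({g} : Set Γ(X, ⊤))) := X.zeroLocus_isClosed _
  -- points of the zero set over `f x` are below maximal points of the fibre
  have hlt : ∀ z ∈ (X.zeroLocus ({g} : Set Γ(X, ⊤))), z ⤳ x → f z = f x → FibDim.rd f z + 1 ≤ FibDim.rd f x + DimFormula.fb f x := by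
    intro z hz hzx hfz
    by_contra hcon
    refine hmax z hfz (fun z' h1 h2 => ?_) hz
    by_contra hne
    have hsp : z' ⤳ z := specializes_iff_mem_closure.2 h2
    have := FibDim.rd_lt f hsp hne (h1.trans hfz.symm)
    have := DimFormula.rd_le_rd_add_fb f (hsp.trans hzx) h1
    omega
  -- components
  have hcomp : ∀ ξ ∈ (X.zeroLocus ({g} : Set Γ(X, ⊤))), ξ ⤳ x → (∀ z, z ⤳ ξ → z ∈ (X.zeroLocus ({g} : Set Γ(X, ⊤))) → z = ξ) →
      DimFormula.codim ξ = 1 ∧ FibDim.rd f ξ + 1 = FibDim.rd f x + DimFormula.fb f x ∧ f ξ = genericPoint Y := by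
    intro ξ hξ hξx hξmax
    obtain ⟨z, hξz, hzx, hfz, hr⟩ := FibDim.exists_rd_ge f hξx
    have hd := hlt z (hξz.mem_closed hclosed hξ) hzx hfz
    obtain ⟨h1, -, h3, h4⟩ := DimFormula.equidim_sub_core f hf hξx (n := 1) (E := FibDim.rd f ξ)
      (DimFormula.codim_le_one_of_maximal_zeroLocus g hξ hξmax) le_rfl (by omega)
    exact ⟨h1, h3, h4⟩
  have hmain : ∀ w, (Scheme.IdealSheafData.vanishingIdeal ⟨(X.zeroLocus ({g} : Set Γ(X, ⊤))), X.zeroLocus_isClosed _⟩).subschemeι w = x →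
      FibDim.rd f x + DimFormula.fb ((Scheme.IdealSheafData.vanishingIdeal ⟨(X.zeroLocus ({g} : Set Γ(X, ⊤))), X.zeroLocus_isClosed _⟩).subschemeι ≫ f) w + 1 = FibDim.rd f x + DimFormula.fb f x := by
    intro w hw
    obtain ⟨η, hη, hηmax⟩ := FibDim.exists_maximal_generization w
    obtain ⟨-, h2, -⟩ := hcomp ((Scheme.IdealSheafData.vanishingIdeal ⟨(X.zeroLocus ({g} : Set Γ(X, ⊤))), X.zeroLocus_isClosed _⟩).subschemeι η) (hjr.le ⟨η, rfl⟩) ((hη.map (Scheme.IdealSheafData.vanishingIdeal ⟨(X.zeroLocus ({g} : Set Γ(X, ⊤))), X.zeroLocus_isClosed _⟩).subschemeι.continuous).trans (specializes_of_eq hw))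
      fun z hz hzZ => DimFormula.maximal_closedSub (Scheme.IdealSheafData.vanishingIdeal ⟨(X.zeroLocus ({g} : Set Γ(X, ⊤))), X.zeroLocus_isClosed _⟩).subschemeι hηmax (hjr.ge hzZ) hz
    have h3 := DimFormula.rd_le_of_specializes' ((Scheme.IdealSheafData.vanishingIdeal ⟨(X.zeroLocus ({g} : Set Γ(X, ⊤))), X.zeroLocus_isClosed _⟩).subschemeι ≫ f) hη
    obtain ⟨z', hz', hfz', -, -, he'⟩ := DimFormula.exists_fibMax_top ((Scheme.IdealSheafData.vanishingIdeal ⟨(X.zeroLocus ({g} : Set Γ(X, ⊤))), X.zeroLocus_isClosed _⟩).subschemeι ≫ f) w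
    have h4 := hlt ((Scheme.IdealSheafData.vanishingIdeal ⟨(X.zeroLocus ({g} : Set Γ(X, ⊤))), X.zeroLocus_isClosed _⟩).subschemeι z') (hjr.le ⟨z', rfl⟩) ((hz'.map (Scheme.IdealSheafData.vanishingIdeal ⟨(X.zeroLocus ({g} : Set Γ(X, ⊤))), X.zeroLocus_isClosed _⟩).subschemeι.continuous).trans (specializes_of_eq hw))
      (hfz'.trans (congrArg f hw))
    simp only [DimFormula.rd_closedSub, hw] at h3 he'
    omega
  obtain ⟨w₀, hw₀⟩ : x ∈ Set.range (Scheme.IdealSheafData.vanishingIdeal ⟨(X.zeroLocus ({g} : Set Γ(X, ⊤))), X.zeroLocus_isClosed _⟩).subschemeι := hjr.ge hgx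
  refine ⟨fun w hw => DimFormula.isEquidimAt_of _ fun η hη hηmax => ?_, ?_, fun Z hZ hxZ ξ hξ => ?_⟩
  · obtain ⟨-, h2, h3⟩ := hcomp ((Scheme.IdealSheafData.vanishingIdeal ⟨(X.zeroLocus ({g} : Set Γ(X, ⊤))), X.zeroLocus_isClosed _⟩).subschemeι η) (hjr.le ⟨η, rfl⟩) ((hη.map (Scheme.IdealSheafData.vanishingIdeal ⟨(X.zeroLocus ({g} : Set Γ(X, ⊤))), X.zeroLocus_isClosed _⟩).subschemeι.continuous).trans (specializes_of_eq hw))
      fun z hz hzZ => DimFormula.maximal_closedSub (Scheme.IdealSheafData.vanishingIdeal ⟨(X.zeroLocus ({g} : Set Γ(X, ⊤))), X.zeroLocus_isClosed _⟩).subschemeι hηmax (hjr.ge hzZ) hz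
    refine ⟨fun y hy => ?_, ?_⟩
    · have hg : ((Scheme.IdealSheafData.vanishingIdeal ⟨(X.zeroLocus ({g} : Set Γ(X, ⊤))), X.zeroLocus_isClosed _⟩).subschemeι ≫ f) η = genericPoint Y := h3
      rw [hg] at hy ⊢
      exact (hy.antisymm ((genericPoint_spec Y).specializes (Set.mem_univ y))).eq
    · have := hmain w hw
      rw [DimFormula.rd_closedSub, DimFormula.rd_closedSub, hw]
      omega
  · rw [DimFormula.localDim_inter_fibre f (Scheme.IdealSheafData.vanishingIdeal ⟨(X.zeroLocus ({g} : Set Γ(X, ⊤))), X.zeroLocus_isClosed _⟩).subschemeι hjr w₀ hw₀ ⟨hgx, rfl⟩, DimFormula.fibreDimAt_eq_add]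
    have := hmain w₀ hw₀
    norm_cast
  · haveI : QuasiSober ↥(X.zeroLocus ({g} : Set Γ(X, ⊤))) := hclosed.isClosedEmbedding_subtypeVal.quasiSober
    subst hξ
    obtain ⟨h1, -⟩ := hcomp ξ.1 ξ.2 ((subtype_specializes_iff ξ ⟨x, hgx⟩).1 (specializes_iff_mem_closure.2 hxZ))
      fun z hz hzZ => congrArg Subtype.val (FDescent.maximal_of_closure_mem_irreducibleComponents hZ
        (y := ⟨z, hzZ⟩) ((subtype_specializes_iff _ _).2 hz))
    rw [DimFormula.ringKrullDim_stalk, h1]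
    rfl

end Groth.Agent.S5925
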