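import Groth.Statements.S4808
import Mathlib
import Groth.Agent.BirNormal.Basic
import Groth.Agent.S9821

set_option autoImplicit false
universe u
open CategoryTheory AlgebraicGeometry
open Lim8

namespace Groth.Agent.S4808

/-- Let Y' and Y be integral schemes, Y normal (every local ring of Y is integrally closed), and u : Y'
⟶ Y a finite morphism which is birational: u maps the generic point of Y' to the generic point of Y
and the stalk map of u at the generic point of Y', which is the induced homomorphism of function
fields, is an isomorphism. Then u is an isomorphism. -/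
theorem result {Y' Y : Scheme.{u}} [IsIntegral Y'] [IsIntegral Y]
    (hN : ∀ y : Y, IsIntegrallyClosed (Y.presheaf.stalk y)) (u : Y' ⟶ Y) [IsFinite u]
    (hgen : u (genericPoint Y') = genericPoint Y)
    (hbir : IsIso (u.stalkMap (genericPoint Y'))) : IsIso u := by
  haveI := hbir
  haveI : IsIso (Y.presheaf.stalkSpecializes (specializes_of_eq hgen)) :=
    Groth.Agent.BirNormal.isIso_stalkSpecializes_of_eq hgen _
  refine Groth.Agent.BirNormal.isIso_of_isIntegralHom u (fun U hne hU => ?_) hgen
    (ConcreteCategory.isIso_iff_bijective _ |>.1 inferInstance)
  exact (Groth.Agent.S9821.result Y).1 (fun y => ⟨inferInstance, hN y⟩) U hU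

end Groth.Agent.S4808
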