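import Groth.Statements.S7616
import Groth.Agent.NagataLib.IntClosure
import Groth.Agent.NagataLib.Scheme

set_option autoImplicit false
set_option linter.style.haveILetI false
universe u
open CategoryTheory CategoryTheory.Limits AlgebraicGeometry
open Variety

namespace Groth.Agent.S7616

/-- Let f : Y → X be a quasi-compact morphism of schemes locally of finite type over a field k, with Y
reduced; f is automatically quasi-separated. Then the normalization of X in Y is finite over X. -/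
theorem result (k : Type u) [Field k] (X : Scheme.{u}) [X.Over (Spec (CommRingCat.of k))] [LocallyOfFiniteType (X ↘ (Spec (CommRingCat.of k)))]
    (Y : Scheme.{u}) [Y.Over (Spec (CommRingCat.of k))] [LocallyOfFiniteType (Y ↘ (Spec (CommRingCat.of k)))] [IsReduced Y]
    (f : Y ⟶ X) [f.IsOver (Spec (CommRingCat.of k))] [QuasiCompact f] [QuasiSeparated f] :
    IsFinite f.fromNormalization := by
  haveI : LocallyOfFiniteType f := by
    haveI : LocallyOfFiniteType (f ≫ (X ↘ (Spec (CommRingCat.of k)))) := by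
      rw [comp_over f (Spec (CommRingCat.of k))]; infer_instance
    exact locallyOfFiniteType_of_comp f (X ↘ (Spec (CommRingCat.of k)))
  refine ⟨fun U hU => ?_⟩
  letI := (f.app U).hom.toAlgebra
  have hA := NagataLib.isNagata_affineOpen (X ↘ (Spec (CommRingCat.of k))) ⟨U, hU⟩
  haveI := hA.1
  suffices h : Module.Finite Γ(X, U) (integralClosure Γ(X, U) Γ(Y, f ⁻¹ᵁ U)) by
    rw [Scheme.Hom.fromNormalization_app f hU, CommRingCat.hom_comp]
    exact RingHom.Finite.comp
      (RingHom.Finite.of_surjective _ (ConcreteCategory.bijective_of_isIso (f.normalizationObjIso hU).inv).2)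
      ((RingHom.finite_algebraMap).mpr h)
  obtain ⟨s, hs, e⟩ := isCompact_iff_finite_and_eq_biUnion_affineOpens.mp (f.isCompact_preimage hU.isCompact)
  haveI := hs.to_subtype
  have hle : ∀ i : s, (i.1.1 : Y.Opens) ≤ f ⁻¹ᵁ U := fun i => by
    rw [e]
    exact le_iSup₂_of_le i.1 i.2 le_rfl
  let res : ∀ i : s, Γ(Y, f ⁻¹ᵁ U) →+* Γ(Y, i.1.1) := fun i =>
    (Y.presheaf.map (homOfLE (hle i)).op).hom
  letI : ∀ i : s, Algebra Γ(X, U) Γ(Y, i.1.1) := fun i => (f.appLE U i.1.1 (hle i)).hom.toAlgebra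
  haveI : ∀ i : s, Algebra.FiniteType Γ(X, U) Γ(Y, i.1.1) := fun i => f.finiteType_appLE hU i.1.2 (hle i)
  haveI : ∀ i : s, Module.Finite Γ(X, U) (integralClosure Γ(X, U) Γ(Y, i.1.1)) := fun i =>
    NagataLib.finite_integralClosure_of_reduced hA Γ(Y, i.1.1)
  haveI : IsNoetherian Γ(X, U) ((i : s) → integralClosure Γ(X, U) Γ(Y, i.1.1)) :=
    isNoetherian_of_isNoetherianRing_of_finite _ _
  let resA : ∀ i : s, Γ(Y, f ⁻¹ᵁ U) →ₐ[Γ(X, U)] Γ(Y, i.1.1) := fun i =>
    { res i with commutes' := fun a => rfl }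
  let L : integralClosure Γ(X, U) Γ(Y, f ⁻¹ᵁ U) →ₗ[Γ(X, U)] ((i : s) → integralClosure Γ(X, U) Γ(Y, i.1.1)) :=
    LinearMap.pi fun i => ((resA i).comp (integralClosure Γ(X, U) Γ(Y, f ⁻¹ᵁ U)).val).toLinearMap.codRestrict
      (integralClosure Γ(X, U) Γ(Y, i.1.1)).toSubmodule fun z => z.2.map (resA i)
  refine Module.Finite.of_injective L fun a b h => Subtype.ext ?_
  refine Y.IsSheaf.section_ext fun y hy => ?_
  rw [e] at hy
  simp only [TopologicalSpace.Opens.mem_iSup] at hy
  obtain ⟨i, hi, hyi⟩ := hy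
  exact ⟨i.1, hle ⟨i, hi⟩, hyi, congrArg Subtype.val (congrFun h ⟨i, hi⟩)⟩

end Groth.Agent.S7616
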