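import Groth.Statements.S1297
import Groth.Agent.S0002
import Groth.Agent.QCoh.DevissageP

set_option autoImplicit false
set_option backward.isDefEq.respectTransparency false
set_option backward.isDefEq.respectTransparency.types false
universe u
open FlatMor

namespace Groth.Agent.S1297

open AlgebraicGeometry CategoryTheory Limits in
/-- Global functions of a proper scheme over a Noetherian ring form a finite module. -/
theorem finite_appTop {X : Scheme.{u}} {A : Type u} [CommRing A] [IsNoetherianRing A]
    (g : X ⟶ Spec (CommRingCat.of A)) [IsProper g] : g.appTop.hom.Finite := by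
  letI : X.Over (Spec (CommRingCat.of A)) := ⟨g⟩
  haveI : IsProper (X ↘ Spec (CommRingCat.of A)) := ‹IsProper g›
  haveI : IsLocallyNoetherian X := LocallyOfFiniteType.isLocallyNoetherian g
  have h2 := Groth.Agent.S0002.result A X (Coh.structureModule X) Groth.Agent.QCoh.isCoh_structureModule' 0
  letI : Algebra A Γ(X, ⊤) :=
    (g.appTop.hom.comp (Scheme.ΓSpecIso (CommRingCat.of A)).inv.hom).toAlgebra
  let e : Coh.HH X (Coh.structureModule X) 0 ≃+ Γ(X, ⊤) :=
    Sheaf.H.equiv₀ (Coh.toAb (Coh.structureModule X)) isTerminalTop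
  have he : ∀ (r : Coh.Γtop X) (x : Coh.HH X (Coh.structureModule X) 0),
      e (r • x) = (show Γ(X, ⊤) from r) * e x := by
    intro r x
    have h := (Sheaf.H.equiv₀_naturality isTerminalTop (Coh.smulAb (Coh.structureModule X) r) x).symm
    refine (show e (r • x) = _ from h).trans ?_
    show (show Γ(X, ⊤) from Coh.resTop X (Opposite.op ⊤) r) * e x = _
    congr 1
    show (X.presheaf.map (homOfLE le_top).op).hom r = r
    rw [show (homOfLE le_top).op = 𝟙 (Opposite.op (⊤ : X.Opens)) from rfl, X.presheaf.map_id]
    rfl
  let eL : Coh.HH X (Coh.structureModule X) 0 ≃ₗ[A] Γ(X, ⊤) :=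
    { e with map_smul' := fun c x => he _ x }
  have h3 : (g.appTop.hom.comp (Scheme.ΓSpecIso (CommRingCat.of A)).inv.hom).Finite :=
    RingHom.finite_algebraMap.2 (Module.Finite.equiv eL)
  exact RingHom.Finite.of_comp_finite h3

open AlgebraicGeometry CategoryTheory Limits in
/-- Sections over the preimage of an affine open form a finite module. -/
theorem finite_app {X S : Scheme.{u}} (f : X ⟶ S) [IsProper f] [IsLocallyNoetherian S]
    {U : S.Opens} (hU : IsAffineOpen U) : (f.app U).hom.Finite := by
  haveI : IsNoetherianRing Γ(S, U) := IsLocallyNoetherian.component_noetherian ⟨U, hU⟩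
  have h : ((f ∣_ U) ≫ hU.isoSpec.hom).appTop.hom.Finite :=
    finite_appTop (A := Γ(S, U)) ((f ∣_ U) ≫ hU.isoSpec.hom)
  rw [Scheme.Hom.comp_appTop] at h
  have h2 : (f ∣_ U).appTop.hom.Finite := RingHom.Finite.of_comp_finite h
  have e : f.app U = U.topIso.inv ≫ (f ∣_ U).appTop ≫ (f ⁻¹ᵁ U).topIso.hom := by
    simp [Scheme.Opens.topIso, Scheme.Hom.app_eq_appLE]
  rw [e, CommRingCat.hom_comp, CommRingCat.hom_comp]
  exact ((RingHom.Finite.of_surjective _ (f ⁻¹ᵁ U).topIso.commRingCatIsoToRingEquiv.surjective).comp h2).comp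
    (RingHom.Finite.of_surjective _ U.topIso.symm.commRingCatIsoToRingEquiv.surjective)

open AlgebraicGeometry CategoryTheory Limits in
/-- Stein factorization, Noetherian case: let f : X → S be a proper morphism with S locally Noetherian.
Then the normalization of S in X is finite over S (so that the Stein factorization of f is a proper
morphism with geometrically connected fibres followed by a finite morphism). -/
theorem result {X S : Scheme.{u}} (f : X ⟶ S) [IsProper f] [IsLocallyNoetherian S] :
    IsFinite f.fromNormalization := by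
  rw [IsZariskiLocalAtTarget.iff_of_iSup_eq_top (P := @IsFinite) _ (iSup_affineOpens_eq_top _)]
  intro U
  let e := IsOpenImmersion.isoOfRangeEq (f.fromNormalization ⁻¹ᵁ U).ι (f.normalizationOpenCover.f U)
      (by simpa using congr($(f.fromNormalization_preimage U).1))
  rw [← MorphismProperty.cancel_left_of_respectsIso @IsFinite e.inv,
    ← MorphismProperty.cancel_right_of_respectsIso @IsFinite _ U.2.isoSpec.hom]
  have : (f.normalizationDiagramMap.app (.op U)).hom.Finite := by
    letI := (f.app U).hom.toAlgebra
    haveI : IsNoetherianRing Γ(S, U) := IsLocallyNoetherian.component_noetherian U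
    haveI : Module.Finite Γ(S, U) Γ(X, f ⁻¹ᵁ U) := finite_app f U.2
    show (algebraMap Γ(S, U) (integralClosure Γ(S, U) Γ(X, f ⁻¹ᵁ U))).Finite
    exact RingHom.finite_algebraMap.2
      (Module.IsNoetherian.finite Γ(S, U) (integralClosure Γ(S, U) Γ(X, f ⁻¹ᵁ U)).toSubmodule)
  convert! (IsFinite.SpecMap_iff _).mpr this
  rw [← cancel_mono U.2.fromSpec]
  simp [IsAffineOpen.isoSpec_hom, e, Scheme.Hom.ι_fromNormalization]

end Groth.Agent.S1297
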