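import Groth.Statements.S7125
import Groth.Agent.ReducedCutAux.Basic

set_option autoImplicit false
universe u
open CAlg

namespace Groth.Agent.S7125
open Groth.Agent in
theorem dvr_atPrime {R : Type u} [CommRing R] [IsDomain R] [IsNoetherianRing R] [IsIntegrallyClosed R]
    (p : Ideal R) [p.IsPrime] (hp : p.height = 1) : IsDiscreteValuationRing (Localization.AtPrime p) := by
  haveI : IsIntegrallyClosed (Localization.AtPrime p) :=
    isIntegrallyClosed_of_isLocalization _ p.primeCompl p.primeCompl_le_nonZeroDivisors
  exact CDiv6.isDVR_of_dim_eq_one _ (by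
    rw [IsLocalization.AtPrime.ringKrullDim_eq_height p, hp]; rfl)

open Groth.Agent in
theorem dvd_of_forall_height_one {R : Type u} [CommRing R] [IsDomain R] [IsNoetherianRing R]
    [IsIntegrallyClosed R] {f y : R} (hf : f ≠ 0)
    (h : ∀ (p : Ideal R) [p.IsPrime], p.height = 1 → f ∈ p →
      algebraMap R (Localization.AtPrime p) f ∣ algebraMap R (Localization.AtPrime p) y) : f ∣ y := by
  by_contra hy
  have hS : LocCoh.HasSk 2 R R := (FlatLoc6.R1_S2_of_normal fun p hp =>
    ⟨inferInstance, isIntegrallyClosed_of_isLocalization _ p.primeCompl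
      p.primeCompl_le_nonZeroDivisors⟩).2
  let yb : QuotSMulTop f R := Submodule.Quotient.mk y
  have hmem : ∀ z : R, (Submodule.Quotient.mk z : QuotSMulTop f R) = 0 ↔ f ∣ z := fun z => by
    rw [Alg6.mem_pointwise_smul_top_iff]
    exact ⟨fun ⟨w, hw⟩ => ⟨w, hw.symm⟩, fun ⟨w, hw⟩ => ⟨w, hw.symm⟩⟩
  obtain ⟨P, hP, hle⟩ := exists_le_isAssociatedPrime_of_isNoetherianRing R yb
    (fun h0 => hy ((hmem y).1 h0))
  haveI := hP.isPrime
  have hcol : ∀ c : R, f ∣ c * y → c ∈ P := fun c hc => hle (Submodule.mem_colon_singleton.2 (by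
    rw [Submodule.mem_bot, ← Submodule.Quotient.mk_smul, hmem, smul_eq_mul]; exact hc))
  have hfP : f ∈ P := hcol f (Dvd.intro y rfl)
  have h1 : P.height = 1 := by
    refine le_antisymm (FlatLoc6.height_le_one_of_mem_ass_quot hS
      (fun u v huv => mul_left_cancel₀ hf huv) hfP hP) (Order.one_le_iff_ne_zero.2 fun h0 => hf ?_)
    rw [Ideal.height_eq_zero_iff_eq_bot] at h0
    exact (Ideal.mem_bot).1 (h0 ▸ hfP)
  obtain ⟨c, hc⟩ := h P h1 hfP
  obtain ⟨⟨r, s⟩, hrs⟩ := IsLocalization.surj P.primeCompl c
  refine s.2 (hcol s ⟨r, IsLocalization.injective (Localization.AtPrime P)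
    P.primeCompl_le_nonZeroDivisors ?_⟩)
  rw [map_mul, map_mul, hc, ← hrs]
  ring



/-- Let A and B be Noetherian local normal domains and A → B a flat homomorphism that is local, and let
f in A, h in B, n > 1 and a unit w of B satisfy f = w·hⁿ in B. Assume that for every height-one
prime p of A there is a height-one prime q of B lying over p such that A_p ⊆ B_q is weakly
unramified, i.e. p generates the maximal ideal of B_q. Then f = u·gⁿ for some g in A and some unit u
of A. -/
theorem result (A B : Type u) [CommRing A] [IsDomain A]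
    [IsNoetherianRing A] [IsLocalRing A] [IsIntegrallyClosed A] [CommRing B] [IsDomain B] [IsNoetherianRing B]
    [IsLocalRing B] [IsIntegrallyClosed B] [Algebra A B] [IsLocalHom (algebraMap A B)] [Module.Flat A B]
    (f : A) (h : B) (n : ℕ) (hn : 1 < n) (w : Bˣ) (hf : algebraMap A B f = (w : B) * h ^ n)
    (hram : ∀ (p : Ideal A) [p.IsPrime], p.height = 1 →
      ∃ (q : Ideal B) (_ : q.IsPrime), q.height = 1 ∧ q.comap (algebraMap A B) = p ∧
        Ideal.map (algebraMap B (Localization.AtPrime q)) (Ideal.map (algebraMap A B) p) =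
          IsLocalRing.maximalIdeal (Localization.AtPrime q)) :
    ∃ (g : A) (u : Aˣ), f = (u : A) * g ^ n := by
  classical
  have hinjA : Function.Injective (algebraMap A B) := by
    haveI : Module.FaithfullyFlat A B := Module.FaithfullyFlat.of_flat_of_isLocalHom
    exact FaithfulSMul.algebraMap_injective A B
  by_cases hf0 : f = 0
  · exact ⟨0, 1, by rw [hf0, zero_pow (by omega), mul_zero]⟩
  let P : Ideal A :=
    { carrier := {x | f ∣ x ^ n}
      add_mem' := fun {x y} hx hy => by
        refine dvd_of_forall_height_one hf0 fun p hp hp1 hfp => ?_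
        haveI := dvr_atPrime p hp1
        have hxy := ValuationRing.dvd_total (algebraMap A (Localization.AtPrime p) x)
          (algebraMap A (Localization.AtPrime p) y)
        rw [map_pow, map_add]
        rcases hxy with h1 | h1
        · refine dvd_trans ?_ (pow_dvd_pow_of_dvd (dvd_add dvd_rfl h1) n)
          rw [← map_pow]; exact map_dvd _ hx
        · refine dvd_trans ?_ (pow_dvd_pow_of_dvd (dvd_add h1 dvd_rfl) n)
          rw [← map_pow]; exact map_dvd _ hy
      zero_mem' := by rw [Set.mem_setOf_eq, zero_pow (by omega)]; exact dvd_zero _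
      smul_mem' := fun r x hx => by
        rw [Set.mem_setOf_eq, smul_eq_mul, mul_pow]; exact Dvd.dvd.mul_left hx _ }
  -- local generators of `P`
  have hloc : ∀ (p : Ideal A) [p.IsPrime], p.height = 1 →
      ∃ x ∈ P, Associated ((algebraMap A (Localization.AtPrime p) x) ^ n)
        (algebraMap A (Localization.AtPrime p) f) := by
    intro p hp hp1
    obtain ⟨q, hq, hq1, hqp, hqm⟩ := hram p hp1
    haveI := hq
    haveI := dvr_atPrime p hp1
    haveI := dvr_atPrime q hq1
    obtain ⟨t, ht⟩ := IsDiscreteValuationRing.exists_irreducible (Localization.AtPrime p)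
    let φ : Localization.AtPrime p →+* Localization.AtPrime q :=
      Localization.localRingHom p q (algebraMap A B) hqp.symm
    have hφ : ∀ a : A, φ (algebraMap A _ a) = algebraMap B _ (algebraMap A B a) := fun a =>
      Localization.localRingHom_to_map _ _ _ _ a
    have hirr : Irreducible (φ t) := by
      rw [IsDiscreteValuationRing.irreducible_iff_uniformizer]
      rw [← hqm, Ideal.map_map, show (algebraMap B (Localization.AtPrime q)).comp (algebraMap A B) =
        φ.comp (algebraMap A (Localization.AtPrime p)) from RingHom.ext fun a => (hφ a).symm,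
        ← Ideal.map_map, Localization.AtPrime.map_eq_maximalIdeal,
        (IsDiscreteValuationRing.irreducible_iff_uniformizer t).1 ht, Ideal.map_span, Set.image_singleton]
    have hfp : algebraMap A (Localization.AtPrime p) f ≠ 0 :=
      (map_ne_zero_iff _ (IsLocalization.injective _ p.primeCompl_le_nonZeroDivisors)).2 hf0
    obtain ⟨d, v, hv⟩ := IsDiscreteValuationRing.eq_unit_mul_pow_irreducible hfp ht
    have hh0 : algebraMap B (Localization.AtPrime q) h ≠ 0 := by
      refine (map_ne_zero_iff _ (IsLocalization.injective _ q.primeCompl_le_nonZeroDivisors)).2 ?_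
      rintro rfl
      rw [zero_pow (by omega), mul_zero] at hf
      exact hf0 ((map_eq_zero_iff _ hinjA).1 hf)
    obtain ⟨k, z, hz⟩ := IsDiscreteValuationRing.eq_unit_mul_pow_irreducible hh0 hirr
    have heq : ((Units.map φ.toMonoidHom v : (Localization.AtPrime q)ˣ) : Localization.AtPrime q) * φ t ^ d =
        ((Units.map (algebraMap B (Localization.AtPrime q)).toMonoidHom w * z ^ n :
          (Localization.AtPrime q)ˣ) : Localization.AtPrime q) * φ t ^ (k * n) := by
      have := congrArg (algebraMap B (Localization.AtPrime q)) hf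
      rw [← hφ, hv, map_mul, map_pow, map_mul, map_pow, hz] at this
      simp only [Units.coe_map, Units.val_mul, Units.val_pow_eq_pow_val, RingHom.toMonoidHom_eq_coe,
        MonoidHom.coe_coe]
      rw [this, mul_pow, ← pow_mul]
      ring
    have hd := IsDiscreteValuationRing.unit_mul_pow_congr_pow hirr hirr _ _ _ _ heq
    obtain ⟨⟨x0, s⟩, hx0⟩ := IsLocalization.surj p.primeCompl (t ^ k)
    have hs : IsUnit (algebraMap A (Localization.AtPrime p) s) := IsLocalization.map_units _ s
    have hass : Associated ((algebraMap A (Localization.AtPrime p) x0) ^ n)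
        (algebraMap A (Localization.AtPrime p) f) := by
      rw [← hx0, mul_pow, ← pow_mul, hv, hd]
      exact (associated_mul_unit_left _ _ (hs.pow n)).trans (associated_unit_mul_right _ _ v.isUnit)
    obtain ⟨c, hc⟩ := hass.symm.dvd
    obtain ⟨⟨r, s'⟩, hr⟩ := IsLocalization.surj p.primeCompl c
    have hmem : f ∣ (s' : A) * x0 ^ n := ⟨r, IsLocalization.injective (Localization.AtPrime p)
      p.primeCompl_le_nonZeroDivisors (by rw [map_mul, map_mul, map_pow, hc, ← hr]; ring)⟩
    refine ⟨s' * x0, ?_, ?_⟩
    · show f ∣ _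
      rw [mul_pow]
      obtain ⟨m, hm⟩ := Nat.exists_eq_succ_of_ne_zero (show n ≠ 0 by omega)
      rw [hm, pow_succ, mul_assoc, ← hm]
      exact Dvd.dvd.mul_left hmem _
    · rw [map_mul, mul_pow]
      exact (associated_unit_mul_left _ _ ((IsLocalization.map_units _ s').pow n)).trans hass
  have hfP : f ∈ P := dvd_pow_self f (by omega)
  let J : Ideal A := (Ideal.span {f}).colon (P : Set A)
  have hJ : ∀ j, j ∈ J ↔ ∀ x ∈ P, f ∣ j * x := fun j => by
    simp [J, Submodule.mem_colon, Ideal.mem_span_singleton]
  have hPJ : ∀ x, (∀ j ∈ J, f ∣ j * x) → x ∈ P := by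
    intro x hx
    refine dvd_of_forall_height_one hf0 fun p hp hp1 hfp => ?_
    haveI := dvr_atPrime p hp1
    obtain ⟨xp, hxp, hass⟩ := hloc p hp1
    let L := Localization.AtPrime p
    have hxp0 : algebraMap A L xp ≠ 0 := by
      intro h0
      rw [h0, zero_pow (by omega)] at hass
      exact (map_ne_zero_iff _ (IsLocalization.injective L p.primeCompl_le_nonZeroDivisors)).2 hf0
        (associated_zero_iff_eq_zero _ |>.1 hass.symm)
    have hdiv : ∀ y ∈ P, algebraMap A L xp ∣ algebraMap A L y := fun y hy => by
      rw [← IsIntegrallyClosed.pow_dvd_pow_iff (show n ≠ 0 by omega)]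
      refine hass.dvd.trans ?_
      rw [← map_pow]; exact map_dvd _ hy
    obtain ⟨G, hG⟩ := IsNoetherian.noetherian P
    have hGP : ∀ y : G, (y : A) ∈ P := fun y => hG ▸ Ideal.subset_span y.2
    choose c hc using fun y : G => hdiv y (hGP y)
    obtain ⟨e, he⟩ := hdiv f hfP
    obtain ⟨⟨e', se⟩, he'⟩ := IsLocalization.surj p.primeCompl e
    obtain ⟨sc, hsc⟩ := IsLocalization.exist_integer_multiples_of_finite p.primeCompl c
    choose c' hc' using hsc
    let j : A := sc * e'
    have hj : j ∈ J := by
      rw [hJ]
      intro y hy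
      have : P ≤ ({ carrier := {y | f ∣ j * y}
                    add_mem' := fun {a b} ha hb => by
                      rw [Set.mem_setOf_eq, mul_add]; exact dvd_add ha hb
                    zero_mem' := by simp
                    smul_mem' := fun r a ha => by
                      rw [Set.mem_setOf_eq, smul_eq_mul, mul_left_comm]; exact Dvd.dvd.mul_left ha r } :
                    Ideal A) := by
        rw [← hG, Ideal.span_le]
        intro y hy
        refine ⟨c' ⟨y, hy⟩ * se, IsLocalization.injective L p.primeCompl_le_nonZeroDivisors ?_⟩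
        have h1 := hc' ⟨y, hy⟩
        rw [Algebra.smul_def] at h1
        simp only [j, map_mul, h1, hc ⟨y, hy⟩, he] at *
        rw [← he']
        ring
      exact this hy
    obtain ⟨d, hd⟩ := hx j hj
    have h2 := congrArg (algebraMap A L) hd
    simp only [j, map_mul, he, ← he'] at h2
    have hu1 : IsUnit (algebraMap A L sc * algebraMap A L se) :=
      (IsLocalization.map_units L sc).mul (IsLocalization.map_units L se)
    have he0 : e ≠ 0 := by
      rintro rfl
      rw [mul_zero] at he
      exact (map_ne_zero_iff _ (IsLocalization.injective L p.primeCompl_le_nonZeroDivisors)).2 hf0 he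
    have h3 : algebraMap A L xp ∣ algebraMap A L x := by
      refine hu1.dvd_mul_right.1 ⟨algebraMap A L d, mul_left_cancel₀ he0 ?_⟩
      linear_combination h2
    rw [map_pow]
    exact hass.symm.dvd.trans (pow_dvd_pow_of_dvd h3 n)
  -- `h` multiplies `J` into `fB`
  haveI : Algebra.HasGoingDown A B := inferInstance
  have hh : ∀ j ∈ J, algebraMap A B f ∣ h * algebraMap A B j := by
    intro j hj
    have hfB : algebraMap A B f ≠ 0 := (map_ne_zero_iff _ hinjA).2 hf0
    refine dvd_of_forall_height_one hfB fun q hq hq1 hfq => ?_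
    haveI := dvr_atPrime q hq1
    let p := q.comap (algebraMap A B)
    haveI : p.IsPrime := Ideal.comap_isPrime _ _
    haveI : q.LiesOver p := ⟨rfl⟩
    have hp1 : p.height = 1 := by
      refine le_antisymm ?_ (Order.one_le_iff_ne_zero.2 fun h0 => hf0 ?_)
      · rw [← hq1, Ideal.height_eq_height_add_of_liesOver_of_hasGoingDown p q]
        exact le_self_add
      · rw [Ideal.height_eq_zero_iff_eq_bot] at h0
        exact Ideal.mem_bot.1 (h0 ▸ (hfq : f ∈ p))
    obtain ⟨x, hx, hass⟩ := hloc p hp1
    let L := Localization.AtPrime q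
    let φ : Localization.AtPrime p →+* L := Localization.localRingHom p q (algebraMap A B) rfl
    have hφ : ∀ a : A, φ (algebraMap A _ a) = algebraMap B L (algebraMap A B a) := fun a =>
      Localization.localRingHom_to_map _ _ _ _ a
    have hass' : Associated (algebraMap B L (algebraMap A B x) ^ n) (algebraMap B L h ^ n) := by
      have h1 := hass.map φ
      rw [map_pow, hφ, hφ, hf, map_mul, map_pow] at h1
      exact h1.trans (associated_unit_mul_left _ _ ((w.isUnit).map (algebraMap B L)))
    have hdvd : algebraMap B L (algebraMap A B x) ∣ algebraMap B L h ∧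
        algebraMap B L h ∣ algebraMap B L (algebraMap A B x) :=
      ⟨(IsIntegrallyClosed.pow_dvd_pow_iff (by omega)).1 hass'.dvd, (IsIntegrallyClosed.pow_dvd_pow_iff (by omega)).1 hass'.symm.dvd⟩
    rw [map_mul]
    refine dvd_trans ?_ (mul_dvd_mul_right hdvd.1 _)
    rw [← map_mul, ← map_mul, mul_comm x j]
    exact map_dvd _ (map_dvd _ ((hJ j).1 hj x hx))
  -- by flatness `h` lies in `P B`
  have hhP : h ∈ P.map (algebraMap A B) := by
    obtain ⟨G, hG⟩ := IsNoetherian.noetherian J
    choose yy hyy using fun j : G => hh j (hG ▸ Ideal.subset_span j.2)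
    let F : (G → A) →ₗ[A] (Option G → A) :=
      { toFun := fun r o => o.elim (∑ j : G, (j : A) * r j) fun j => - (f * r j)
        map_add' := fun r r' => funext fun o => by
          cases o <;> simp [mul_add, Finset.sum_add_distrib, add_comm]
        map_smul' := fun a r => funext fun o => by
          cases o <;> simp [Finset.mul_sum, mul_left_comm] }
    let X : (Option G → A) →ₗ[A] B :=
      { toFun := fun r => algebraMap A B (r none) * h + ∑ j : G, algebraMap A B (r (some j)) * yy j
        map_add' := fun r r' => by simp [add_mul, Finset.sum_add_distrib]; ring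
        map_smul' := fun a r => by
          simp [Algebra.smul_def, mul_add, Finset.mul_sum, mul_assoc] }
    have hXF : X ∘ₗ F = 0 := by
      refine LinearMap.ext fun r => ?_
      show algebraMap A B (∑ j : G, (j : A) * r j) * h +
        ∑ j : G, algebraMap A B (- (f * r j)) * yy j = 0
      rw [map_sum, Finset.sum_mul, ← Finset.sum_add_distrib]
      refine Finset.sum_eq_zero fun j _ => ?_
      rw [map_neg, map_mul, map_mul]
      linear_combination (algebraMap A B (r j)) * hyy j
    obtain ⟨k, a, y, hya, haf⟩ := Module.Flat.exists_factorization_of_comp_eq_zero_of_free hXF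
    have hh' : h = y (a (Pi.single none 1)) := by
      have := LinearMap.congr_fun hya (Pi.single none 1)
      simpa [X] using this
    rw [hh', ← Finsupp.univ_sum_single (a (Pi.single none 1)), map_sum]
    refine Ideal.sum_mem _ fun i _ => ?_
    rw [← Finsupp.smul_single_one, map_smul, Algebra.smul_def]
    refine Ideal.mul_mem_right _ _ (Ideal.mem_map_of_mem _ (hPJ _ fun j hj => ?_))
    have : J ≤ ({ carrier := {j | f ∣ j * a (Pi.single none 1) i}
                  add_mem' := fun {a b} ha hb => by
                    rw [Set.mem_setOf_eq, add_mul]; exact dvd_add ha hb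
                  zero_mem' := by simp
                  smul_mem' := fun r a ha => by
                    rw [Set.mem_setOf_eq, smul_eq_mul, mul_assoc]; exact Dvd.dvd.mul_left ha r } :
                  Ideal A) := by
      rw [← hG, Ideal.span_le]
      intro j hj
      have h1 := congrArg (fun v => v i) (LinearMap.congr_fun haf (Pi.single ⟨j, hj⟩ 1))
      have h2 : F (Pi.single ⟨j, hj⟩ 1) = j • Pi.single none 1 - f • Pi.single (some ⟨j, hj⟩) 1 := by
        funext o
        cases o with
        | none => simp [F, Pi.single_apply]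
        | some o => by_cases ho : o = ⟨j, hj⟩ <;> simp [F, Pi.single_apply, ho]
      simp only [LinearMap.comp_apply, h2, map_sub, map_smul, Finsupp.sub_apply, Finsupp.smul_apply,
        smul_eq_mul, LinearMap.zero_apply, Finsupp.coe_zero, Pi.zero_apply, sub_eq_zero] at h1
      exact ⟨_, h1⟩
    exact this hj
  have hle : ∀ x ∈ P, ∃ c : B, algebraMap A B x = h * c := by
    intro x hx
    obtain ⟨e, he⟩ := map_dvd (algebraMap A B) hx
    rw [map_pow, hf] at he
    exact (IsIntegrallyClosed.pow_dvd_pow_iff (show n ≠ 0 by omega)).1 ⟨(w : B) * e, by rw [he]; ring⟩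
  obtain ⟨x, hx, c, hxc, hcu⟩ : ∃ x ∈ P, ∃ c : B, algebraMap A B x = h * c ∧ IsUnit c := by
    by_contra hcon
    push Not at hcon
    have : P.map (algebraMap A B) ≤ Ideal.span {h} * IsLocalRing.maximalIdeal B := by
      rw [Ideal.map_le_iff_le_comap]
      intro x hx
      obtain ⟨c, hc⟩ := hle x hx
      rw [Ideal.mem_comap, hc]
      exact Ideal.mul_mem_mul (Ideal.mem_span_singleton_self h)
        ((IsLocalRing.mem_maximalIdeal c).2 (hcon x hx c hc))
    obtain ⟨c, hc, hc'⟩ := Ideal.mem_span_singleton_mul.1 (this hhP)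
    have hh0 : h ≠ 0 := by
      rintro rfl
      rw [zero_pow (by omega), mul_zero] at hf
      exact hf0 ((map_eq_zero_iff _ hinjA).1 hf)
    rw [mul_eq_left₀ hh0] at hc'
    exact (IsLocalRing.mem_maximalIdeal c).1 hc (hc' ▸ isUnit_one)
  obtain ⟨v, hv⟩ : f ∣ x ^ n := hx
  have hvu : IsUnit v := by
    refine IsUnit.of_map (algebraMap A B) v ?_
    have h1 := congrArg (algebraMap A B) hv
    rw [map_pow, map_mul, hxc, hf, mul_pow] at h1
    have hh0 : h ^ n ≠ 0 := by
      refine pow_ne_zero _ ?_
      rintro rfl
      rw [zero_pow (by omega), mul_zero] at hf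
      exact hf0 ((map_eq_zero_iff _ hinjA).1 hf)
    have h2 : c ^ n = (w : B) * algebraMap A B v := mul_left_cancel₀ hh0 (by linear_combination h1)
    exact (IsUnit.mul_iff.1 (h2 ▸ hcu.pow n)).2
  exact ⟨x, hvu.unit⁻¹, by
    rw [hv, mul_left_comm, IsUnit.val_inv_mul, mul_one]⟩


end Groth.Agent.S7125
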