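import Groth.Statements.S1604
import Groth.Agent.Lib.CurvePsi
import Groth.Agent.Lib.CurveRR
import Groth.Agent.ParShLib.ResStalk
import Groth.Agent.BlowUpX.Basic

set_option autoImplicit false
set_option linter.style.haveILetI false
universe u
open CategoryTheory CategoryTheory.Limits AlgebraicGeometry
open Variety

namespace Groth.Agent.S1604

/-- Let X be proper of dimension at most one over k and D an effective Cartier divisor with ideal sheaf
I. Then D is finite over k, and for E finite locally free of rank n and any invertible module L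
inverse to I (so L plays the role of O_X(D)) one has deg(E ⊗ L) = n · dim_k H^0(X, O_D) + deg E. -/
theorem result (k : Type u) [Field k] (X : Scheme.{u}) [X.Over (Spec (CommRingCat.of k))] [IsProper (X ↘ (Spec (CommRingCat.of k)))] (hdim : topologicalKrullDim X ≤ 1)
    (D : X.IdealSheafData) (hD : BlowUp.IsEffCartierIdeal D)
    (L : X.Modules) (hL : PicF.IsInvertible L) (hLD : ClSub.IsInverseOf L (ClSub.idealMod D))
    (n : ℕ) (E : X.Modules) (hE : FlatMod.IsFinLocFreeOfRank n E) :
    IsFinite (D.subschemeι ≫ (X ↘ (Spec (CommRingCat.of k)))) ∧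
      Curv2.deg k X (CohB1.tensorMod E L) n = n * Module.finrank k (Coh.HH X (ClSub.quotMod D) 0) + Curv2.deg k X E n := by
  haveI := Groth.Agent.CurveCohLib.isNoetherian_of_proper (k := k) (X := X)
  have hcl : ∀ x ∈ D.support, IsClosed ({x} : Set X) := fun x hx => by
    by_contra hc
    refine Groth.Agent.BlowUpX.notMem_support_of_generic hD x (fun z hz => ?_) hx
    by_contra hne
    exact hc (Groth.Agent.CurvePsi.isClosed_of_dim_le_one hdim hz (fun h => hne h.symm))
  have hfin : (D.support : Set X).Finite :=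
    Groth.Agent.CurveCohLib.finite_of_closedPoints D.support.isClosed hcl
  haveI : Finite D.subscheme :=
    haveI := hfin.to_subtype
    Finite.of_injective (fun z => (⟨D.subschemeι z, D.range_subschemeι ▸ Set.mem_range_self z⟩ : (D.support : Set X)))
      fun a b h => D.subschemeι.isClosedEmbedding.injective (congrArg Subtype.val h)
  haveI : LocallyQuasiFinite (D.subschemeι ≫ (X ↘ (Spec (CommRingCat.of k)))) :=
    LocallyQuasiFinite.of_finite_preimage_singleton _ fun x => Set.toFinite _
  refine ⟨IsFinite.of_isProper_of_locallyQuasiFinite _, ?_⟩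
  have hL1 := Groth.Agent.InvEnd.isFinLocFreeOfRank_one hL
  have hLf : FlatMod.IsFinLocFree L := fun y => let ⟨W, hy, he⟩ := hL1 y; ⟨W, 1, hy, he⟩
  have hQ := Groth.Agent.ParShLib.isCoh_quotMod D
  have hsupp : ∀ x, x ∉ D.support → Subsingleton ((ClSub.quotMod D).presheaf.stalk x) :=
    fun x hx => Groth.Agent.ParShLib.subsingleton_stalk_quotMod D hx
  haveI : Epi (ClSub.toSubscheme D) := by
    refine Preadditive.epi_of_isZero_cokernel _ (Groth.Agent.CurveCohLib.isZero_of_subsingleton_stalks fun x => ?_)
    haveI : Epi ((DerSch.stalkFunctor X x).map (ClSub.toSubscheme D)) := by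
      refine (ModuleCat.epi_iff_surjective _).2 fun q => ?_
      obtain ⟨V, hxV, s, rfl⟩ := (ClSub.quotMod D).presheaf.germ_exist q
      obtain ⟨_, ⟨W, hW, rfl⟩, hxW, hWV⟩ :=
        X.isBasis_affineOpens.exists_subset_of_mem_open (show x ∈ V from hxV) V.2
      have hle : W ≤ V := hWV
      obtain ⟨r, hr⟩ := D.subschemeι_app_surjective ⟨W, hW⟩
        (show Γ(D.subscheme, D.subschemeι ⁻¹ᵁ W) from (ClSub.quotMod D).presheaf.map (homOfLE hle).op s)
      refine ⟨(Coh.structureModule X).presheaf.germ W x hxW r, ?_⟩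
      rw [← (ClSub.quotMod D).presheaf.germ_res_apply (homOfLE hle) x hxW s]
      refine Eq.trans ?_ (congrArg ((ClSub.quotMod D).presheaf.germ W x hxW) hr)
      exact TopCat.Presheaf.stalkFunctor_map_germ_apply W x hxW ((Scheme.Modules.toPresheaf X).map (ClSub.toSubscheme D)) r
    exact ModuleCat.subsingleton_of_isZero ((isZero_cokernel_of_epi
      ((DerSch.stalkFunctor X x).map (ClSub.toSubscheme D))).of_iso
        (PreservesCokernel.iso (DerSch.stalkFunctor X x) (ClSub.toSubscheme D)))
  have hS : (ShortComplex.mk (ClSub.idealModι D) (ClSub.toSubscheme D) (kernel.condition _)).ShortExact :=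
    Groth.Agent.CurveSlope.shortExact_kernel_of_epi _
  have hI : Coh.IsCoh (ClSub.idealMod D) :=
    Groth.Agent.QCoh.isCoh_kernel Groth.Agent.QCoh.isCoh_structureModule' hQ _
  have hadd := Groth.Agent.CurveBundle.euler_add' k _ _ _
    (Groth.Agent.CurveTensor.shortExact_tensor hLf _ _ _ hS)
    (Groth.Agent.CurveTensor.isCoh_tensor hLf hI)
    (Groth.Agent.CurveTensor.isCoh_tensor hLf Groth.Agent.QCoh.isCoh_structureModule')
    (Groth.Agent.CurveTensor.isCoh_tensor hLf hQ)
  obtain ⟨e⟩ := hLD
  rw [Groth.Agent.Euler.euler_congr k (Groth.Agent.KFlatLib.tensorUnitIso L),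
    Groth.Agent.Euler.euler_congr k
      (show (DCoh.tensorBi.obj L).obj (ClSub.idealMod D) ≅ Coh.structureModule X from e),
    Groth.Agent.CurveTensor.euler_tensor_torsion k hL1 hQ
      (fun x hx => hcl x (not_not.1 fun h => hx (hsupp x h))),
    Groth.Agent.Euler.euler_eq_sum k (ClSub.quotMod D) 1 (fun i hi => by
      obtain ⟨m, rfl⟩ := Nat.exists_eq_add_of_le hi
      rw [add_comm]
      exact Groth.Agent.CurveVanish.subsingleton_HH_of_finite hfin hcl hsupp m)] at hadd
  have h := Groth.Agent.CurvePsi.deg_tensor_locFree k hdim hE hL1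
  rw [mul_one] at h
  rw [show CohB1.tensorMod E L = (DCoh.tensorBi.obj E).obj L from rfl, h]
  unfold Curv2.deg
  simp at hadd
  push_cast
  linear_combination (n : ℤ) * hadd

end Groth.Agent.S1604
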