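import Groth.Statements.S8862
import Groth.Agent.BlowUpX.Basic

set_option autoImplicit false
universe u
open CategoryTheory CategoryTheory.Limits AlgebraicGeometry TopologicalSpace
open SDiv

namespace Groth.Agent.S8862

/-- Let f : X ⟶ Y be a morphism of schemes with X reduced and 𝓘 the ideal sheaf of an effective Cartier
divisor D ⊆ Y. If f ξ ∉ D for every generic point ξ of an irreducible component of X (every point of
X with no proper generization), then the inverse image ideal sheaf of 𝓘 on X is the ideal of an
effective Cartier divisor. -/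
theorem result {X Y : Scheme.{u}} [IsReduced X] (f : X ⟶ Y) (𝓘 : Y.IdealSheafData)
    (hD : BlowUp.IsEffCartierIdeal 𝓘)
    (h : ∀ ξ : ↥X, (∀ y : ↥X, y ⤳ ξ → y = ξ) → f ξ ∉ 𝓘.support) :
    BlowUp.IsEffCartierIdeal (𝓘.comap f) := by
  refine BlowUpX.isEffCartier_of_reduced
    ((ModPairLib.isLocPrincipal_of_isEffCartier hD).comap f) fun x hx hmem => h x hx ?_
  rwa [← SetLike.mem_coe, Scheme.IdealSheafData.support_comap] at hmem

end Groth.Agent.S8862
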