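import Groth.Statements.S9683
import Mathlib
import Groth.Agent.GrpSchLib.FieldDim
import Groth.Agent.VarDim.Top

set_option autoImplicit false
universe u
open CategoryTheory CategoryTheory.Limits AlgebraicGeometry
open Mor

namespace Groth.Agent.S9683

/-- For any integral morphism of schemes f : X ⟶ Y, the dimension of X is at most that of Y, and if f is
surjective then dim X = dim Y (dimensions of the underlying topological spaces). -/
theorem result {X Y : Scheme.{u}} (f : X ⟶ Y) [IsIntegralHom f] :
    topologicalKrullDim ↥X ≤ topologicalKrullDim ↥Y ∧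
      (Surjective f → topologicalKrullDim ↥X = topologicalKrullDim ↥Y) := by
  rw [Groth.Agent.VarDim.topologicalKrullDim_eq_iSup_height,
    Groth.Agent.VarDim.topologicalKrullDim_eq_iSup_height]
  have h : ∀ x : X, Order.height x = Order.height (f x) :=
    Groth.Agent.GrpSchLib.height_apply_of_isIntegralHom f
  refine ⟨iSup_le fun x => le_iSup_of_le (f x) (le_of_eq ?_), fun hs =>
    le_antisymm (iSup_le fun x => le_iSup_of_le (f x) (le_of_eq ?_))
      (iSup_le fun y => ?_)⟩
  · exact congrArg _ (h x)
  · exact congrArg _ (h x)
  · obtain ⟨x, rfl⟩ := hs.surj y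
    exact le_iSup_of_le x (le_of_eq (congrArg _ (h x).symm))

end Groth.Agent.S9683
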