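import Groth.Statements.S0204
import Groth.Agent.CurveH2.AffineCurve
-- import your own Groth.Agent.* helpers here

set_option autoImplicit false
universe u
open CategoryTheory CategoryTheory.Limits AlgebraicGeometry
open Curves

namespace Groth.Agent.S0204

/-- An affine finite type scheme of dimension at most one over an algebraically closed field has étale
cohomological dimension at most one for torsion abelian sheaves. -/
theorem result (k : Type u) [Field k] [IsAlgClosed k] (X : Scheme.{u}) [IsAffine X]
    (f : X ⟶ Spec (CommRingCat.of k)) [LocallyOfFiniteType f]
    (hdim : topologicalKrullDim X ≤ 1) : EtCoh.CohDimLE X 1 :=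
  CurveH2.cohDimLE_one_affine f hdim

end Groth.Agent.S0204
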