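import Groth.Statements.S6829
import Mathlib.RingTheory.TensorProduct.MvPolynomial
import Mathlib.LinearAlgebra.TensorProduct.RightExactness
-- import your own Groth.Agent.* helpers here

set_option autoImplicit false
universe u
open Smoothing

namespace Groth.Agent.S6829

open TensorProduct in
/-- Let A be a finitely presented R-algebra, R → R' a ring map and a ∈ A. If a is elementary standard,
resp. strictly standard, in A over R, then a ⊗ 1 is elementary standard, resp. strictly standard, in
A ⊗_R R' over R' (written here as 1 ⊗ a in R' ⊗_R A). -/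
theorem result {R A R' : Type u} [CommRing R] [CommRing A] [Algebra R A]
    [Algebra.FinitePresentation R A] [CommRing R'] [Algebra R R'] (a : A) :
    (Smoothing.IsElementaryStandard R A a →
        Smoothing.IsElementaryStandard R' (R' ⊗[R] A) ((1 : R') ⊗ₜ[R] a)) ∧
      (Smoothing.IsStrictlyStandard R A a →
        Smoothing.IsStrictlyStandard R' (R' ⊗[R] A) ((1 : R') ⊗ₜ[R] a)) := by
    classical
    have key : ∀ P : Smoothing.MarkedPresentation R A, ∃ Q : Smoothing.MarkedPresentation R' (R' ⊗[R] A),
        (Smoothing.KillsTail P a → Smoothing.KillsTail Q ((1 : R') ⊗ₜ[R] a)) ∧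
        ∃ (hn : P.n = Q.n) (hc : P.c = Q.c), ∀ cols : Fin P.c → Fin P.n,
          Q.hom (Smoothing.jacobianMinor Q.rel (Fin.castLE Q.hcm) (Fin.cast hn ∘ cols ∘ Fin.cast hc.symm)) =
            (1 : R') ⊗ₜ[R] P.hom (Smoothing.jacobianMinor P.rel (Fin.castLE P.hcm) cols) := by
      intro P
      let e := MvPolynomial.algebraTensorAlgEquiv (σ := Fin P.n) R R'
      let g := Algebra.TensorProduct.map (AlgHom.id R' R') P.hom
      let μ := MvPolynomial.map (σ := Fin P.n) (algebraMap R R')
      have he : ∀ x, e ((1 : R') ⊗ₜ[R] x) = μ x := fun x => by simp [e, μ]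
      have he' : ∀ x, g (e.symm (μ x)) = (1 : R') ⊗ₜ[R] P.hom x := fun x => by
        rw [← he, AlgEquiv.symm_apply_apply]; rfl
      have hker : RingHom.ker g.toRingHom = (Ideal.span (Set.range P.rel)).map
          (Algebra.TensorProduct.includeRight : MvPolynomial (Fin P.n) R →ₐ[R] R' ⊗[R] MvPolynomial (Fin P.n) R) := by
        rw [← P.ker_eq]
        exact Algebra.TensorProduct.lTensor_ker P.hom P.surj
      let Q : Smoothing.MarkedPresentation R' (R' ⊗[R] A) :=
        { n := P.n, m := P.m, c := P.c, hcn := P.hcn, hcm := P.hcm, rel := μ ∘ P.rel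
          hom := g.comp e.symm.toAlgHom
          surj := (LinearMap.lTensor_surjective R' (g := P.hom.toLinearMap) P.surj : Function.Surjective g).comp e.symm.surjective
          ker_eq := by
            have h1 : Ideal.span (Set.range (μ ∘ P.rel)) =
                ((Ideal.span (Set.range P.rel)).map (Algebra.TensorProduct.includeRight :
                  MvPolynomial (Fin P.n) R →ₐ[R] R' ⊗[R] MvPolynomial (Fin P.n) R)).map e.toAlgHom := by
              rw [Ideal.map_span, Ideal.map_span, ← Set.range_comp, ← Set.range_comp]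
              exact congrArg (fun t => Ideal.span (Set.range t)) (funext fun j => (he _).symm)
            rw [h1, ← hker]
            ext x
            refine ⟨fun hx => ?_, fun hx => ?_⟩
            · rw [← e.apply_symm_apply x]
              exact Ideal.mem_map_of_mem e.toAlgHom hx
            · obtain ⟨y, hy, rfl⟩ := (Ideal.mem_map_iff_of_surjective e.toAlgHom e.surjective).1 hx
              change g (e.symm (e y)) = 0
              rw [e.symm_apply_apply]; exact hy }
      refine ⟨Q, fun hk a₁ ha₁ j hj => ?_, rfl, rfl, fun cols => ?_⟩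
      · obtain ⟨a', ha'⟩ := P.surj a
        have h1 := Ideal.mem_map_of_mem μ (hk a' ha' j hj)
        rw [map_mul, Ideal.map_sup, Ideal.map_pow, Ideal.map_span, Ideal.map_span, ← Set.range_comp, ← Set.image_comp] at h1
        have h2 : a₁ - μ a' ∈ Ideal.span (Set.range Q.rel) := by
          rw [← Q.ker_eq, RingHom.mem_ker]
          change Q.hom (a₁ - μ a') = 0
          rw [map_sub, ha₁, sub_eq_zero]
          exact (by rw [← ha']; exact (he' a').symm)
        rw [show a₁ * Q.rel j = (a₁ - μ a') * Q.rel j + μ a' * μ (P.rel j) by rw [sub_mul]; simp [Q]]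
        refine add_mem (Ideal.mem_sup_right ?_) h1
        rw [pow_two]
        exact Ideal.mul_mem_mul h2 (Ideal.subset_span ⟨j, rfl⟩)
      · change g (e.symm (Smoothing.jacobianMinor (μ ∘ P.rel) (Fin.castLE P.hcm) cols)) = _
        rw [← he']
        congr 2
        rw [Smoothing.jacobianMinor, Smoothing.jacobianMinor, RingHom.map_det]
        congr 1
        ext j k : 2
        simp [μ, MvPolynomial.pderiv_map]
    constructor
    · rintro ⟨P, ⟨a', ha'⟩, hk⟩
      obtain ⟨Q, hQ, hn, hc, hmin⟩ := key P
      refine ⟨Q, ⟨(1 : R') ⊗ₜ[R] a', ?_⟩, hQ hk⟩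
      have h1 := hmin (Fin.castLE P.hcn)
      rw [show (Fin.cast hn ∘ Fin.castLE P.hcn ∘ Fin.cast hc.symm : Fin Q.c → Fin Q.n) = Fin.castLE Q.hcn from
        funext fun i => Fin.ext rfl] at h1
      rw [h1, Algebra.TensorProduct.tmul_mul_tmul, one_mul, ← ha']
    · rintro ⟨P, hmem, hk⟩
      obtain ⟨Q, hQ, hn, hc, hmin⟩ := key P
      refine ⟨Q, ?_, hQ hk⟩
      have h1 := Ideal.mem_map_of_mem (Algebra.TensorProduct.includeRight : A →ₐ[R] R' ⊗[R] A) hmem
      rw [Ideal.map_span, ← Set.range_comp] at h1
      refine Ideal.span_mono ?_ h1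
      rintro _ ⟨cols, rfl⟩
      exact ⟨_, hmin cols⟩

end Groth.Agent.S6829
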