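import Groth.Statements.S4696
import Groth.Agent.FlatLoc6.BaseChangeEss

set_option autoImplicit false
universe u
open EGA4

namespace Groth.Agent.S4696

/-- Case of normal morphisms, affine form: let A → B → C be homomorphisms of Noetherian rings. If A → B
and B → C are normal (flat, with geometrically normal fibres) then the composite A → C is normal. -/
theorem result (A B C : Type u) [CommRing A] [CommRing B] [CommRing C] [IsNoetherianRing A]
    [IsNoetherianRing B] [IsNoetherianRing C] [Algebra A B] [Algebra B C] [Algebra A C] [IsScalarTower A B C]
    (hAB : EGA4.IsNormalHom A B) (hBC : EGA4.IsNormalHom B C) : EGA4.IsNormalHom A C := by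
    haveI := hAB.1
    haveI := hBC.1
    refine ⟨Module.Flat.trans A B C, fun p _ L _ _ hL => ?_⟩
    letI : Algebra A L := ((algebraMap p.ResidueField L).comp (algebraMap A p.ResidueField)).toAlgebra
    haveI : IsScalarTower A p.ResidueField L := IsScalarTower.of_algebraMap_eq' rfl
    haveI : Algebra.EssFiniteType A L := Algebra.EssFiniteType.comp A p.ResidueField L
    haveI := FlatLoc6.isNoetherianRing_fiber (B := B) p
    haveI := hL
    haveI := FlatLoc6.isNoetherianRing_tensor_finite p.ResidueField L (p.Fiber B)
    haveI : IsNoetherianRing (TensorProduct A B L) := Algebra.EssFiniteType.isNoetherianRing B _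
    let e1 : (TensorProduct p.ResidueField L (p.Fiber B)) ≃+* TensorProduct A B L :=
      (Algebra.TensorProduct.cancelBaseChange A p.ResidueField L L B).toRingEquiv.trans
        (Algebra.TensorProduct.comm A L B).toRingEquiv
    have hR : EGA4.IsNormalRing (TensorProduct A B L) := FlatLoc6.isNormalRing_of_ringEquiv e1 (hAB.2 p L hL)
    haveI := FlatLoc6.isNoetherianRing_baseChange_ess B C (TensorProduct A B L)
    have hS := FlatLoc6.normal_of_isNormalHom _ _
      (FlatLoc6.isNormalHom_baseChange_ess B C (TensorProduct A B L) hBC) hR
    refine FlatLoc6.isNormalRing_of_ringEquiv (R := TensorProduct B (TensorProduct A B L) C) ?_ hS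
    exact (((Algebra.TensorProduct.comm B (TensorProduct A B L) C).toRingEquiv.trans
      (Algebra.TensorProduct.cancelBaseChange A B C C L).toRingEquiv).trans
      (Algebra.TensorProduct.comm A C L).toRingEquiv).trans
      (Algebra.TensorProduct.cancelBaseChange A p.ResidueField L L C).symm.toRingEquiv

end Groth.Agent.S4696
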