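import Groth.Statements.S4745
import Groth.Agent.RegFS6.NormalLift
import Groth.Agent.CplFib6.GRing
import Groth.Agent.S4696

set_option autoImplicit false
universe u
open EGA4

namespace Groth.Agent.S4745

/-- The case of the property 'normal': let A → B be a local homomorphism of Noetherian local rings
making B a flat A-module, such that the residue field of B is a finite extension of the residue
field k of A, and such that the formal fibres of A are geometrically normal. If the k-algebra k ⊗_A
B̂, where B̂ is the completion of B, is geometrically normal over k, then every fibre of A → B is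
geometrically normal, that is, A → B is a normal homomorphism. -/
theorem result (A B : Type u) [CommRing A] [CommRing B]
    [IsNoetherianRing A] [IsNoetherianRing B] [IsLocalRing A] [IsLocalRing B] [Algebra A B]
    [IsLocalHom (algebraMap A B)] [Module.Flat A B]
    [Module.Finite (IsLocalRing.ResidueField A) (IsLocalRing.ResidueField B)]
    (hA : EGA4.HasGeomNormalFormalFibres A)
    (h : EGA4.IsGeomNormal (IsLocalRing.maximalIdeal A).ResidueField
      ((IsLocalRing.maximalIdeal A).Fiber (EGA4.Cpl B))) :
    EGA4.IsNormalHom A B := by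
    haveI := FlatLoc6.isLocalRing_cpl A
    haveI := FlatLoc6.isLocalRing_cpl B
    haveI := FlatLoc6.isNoetherianRing_cpl A
    haveI := FlatLoc6.isNoetherianRing_cpl B
    haveI := CplFib6.isAdicComplete_cpl A
    obtain ⟨_, hst, hff⟩ := FlatLoc6.exists_cplHom A B
    haveI := hst
    haveI : Module.Flat A (EGA4.Cpl B) :=
      haveI := FlatLoc6.faithfullyFlat_cpl B
      Module.Flat.trans A B (EGA4.Cpl B)
    have hmax := AdicCompletion.maximalIdeal_eq_map_of_fg (R := A) (IsNoetherian.noetherian (IsLocalRing.maximalIdeal A))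
    haveI : IsLocalHom (algebraMap (EGA4.Cpl A) (EGA4.Cpl B)) := by
      refine ((IsLocalRing.local_hom_TFAE _).out 0 2).mpr ?_
      rw [hmax, Ideal.map_map, ← IsScalarTower.algebraMap_eq, IsScalarTower.algebraMap_eq A B (EGA4.Cpl B), ← Ideal.map_map,
        AdicCompletion.maximalIdeal_eq_map_of_fg (IsNoetherian.noetherian _)]
      exact Ideal.map_mono (((IsLocalRing.local_hom_TFAE (algebraMap A B)).out 0 2).mp ‹IsLocalHom (algebraMap A B)›)
    haveI := FlatLoc6.faithfullyFlat_cpl A
    have h1 : EGA4.IsNormalHom (EGA4.Cpl A) (EGA4.Cpl B) := by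
      refine RegFS6.isNormalHom_of_closed_fibre (CplFib6.isGRing_of_complete (EGA4.Cpl A)) ?_
      haveI : IsLocalHom (algebraMap A (EGA4.Cpl A)) := by
        refine ((IsLocalRing.local_hom_TFAE _).out 0 2).mpr ?_
        exact hmax.ge
      refine RegFS6.geomNormal_closedFibre_change (A := A) hmax (fun x => ?_) h
      obtain ⟨a, ha⟩ := CplFib6.exists_sub_mem_pow A 1 x
      exact ⟨a, by rwa [pow_one, ← hmax] at ha⟩
    have h2 := S4696.result A (EGA4.Cpl A) (EGA4.Cpl B) ⟨inferInstance, hA⟩ h1
    haveI := FlatLoc6.faithfullyFlat_cpl B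
    refine ⟨inferInstance, fun p _ L _ _ hL => ?_⟩
    haveI := FlatLoc6.isNoetherianRing_fiber (B := EGA4.Cpl B) p
    exact (FlatLoc6.permanence_normal.cancel A B (EGA4.Cpl B) p L
      ⟨haveI := hL; FlatLoc6.isNoetherianRing_tensor_finite p.ResidueField L _, h2.2 p L hL⟩).2

end Groth.Agent.S4745
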