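import Groth.Statements.S4086
import Groth.Agent.GrpdLib.GlueProps

set_option backward.isDefEq.respectTransparency false
set_option backward.isDefEq.respectTransparency.types false
-- import your own Groth.Agent.* helpers here

set_option autoImplicit false
universe u
open CategoryTheory MonoidalCategory CartesianMonoidalCategory MonObj GrpObj AlgebraicGeometry CategoryTheory.Limits
open GrpQ

namespace Groth.Agent.S4086

/-- Let (U, R, s, t, c) be a groupoid scheme over S with s finite locally free and every set t(s⁻¹(x))
contained in an affine open of U, and assume that j = (t, s) : R → U ×_S U is a monomorphism. Then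
for every coequalizer p : U → Y of (t, s) in schemes, the square formed by t, s, p, p is cartesian
(R ≅ U ×_Y U) and p is finite locally free. (The source adds that Y is then the quotient sheaf for
the fppf topology and that its formation commutes with base change on Y.) -/
theorem result (S : Scheme.{u}) (G : Grpd.GroupoidScheme S)
    (ha : Mor2.IsFinLocFree G.s)
    (hb : ∀ x : G.U, ∃ V : G.U.Opens, IsAffineOpen V ∧ G.t.base '' (G.s.base ⁻¹' {x}) ⊆ (V : Set G.U))
    [Mono G.j] (Y : Scheme.{u}) (p : G.U ⟶ Y) (w : G.t ≫ p = G.s ≫ p) (hc : IsColimit (Cofork.ofπ p w)) :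
    IsPullback G.t G.s p p ∧ Mor2.IsFinLocFree p := by
  obtain ⟨h₁, h₂, h₃⟩ := ha
  have hcov := Groth.Agent.GrpdLib.exists_invAff hb
  obtain ⟨q, hq⟩ := Groth.Agent.GrpdLib.exists_quotMap G hcov
  have wq := Groth.Agent.GrpdLib.quotMap_w hq hcov
  obtain ⟨hcq⟩ := Groth.Agent.GrpdLib.exists_isColimit_quotMap hq hcov wq
  obtain ⟨k₁, k₂, k₃⟩ := Groth.Agent.GrpdLib.isFinLocFree_quotMap hq hcov
  let e := hcq.coconePointUniqueUpToIso hc
  have he : q ≫ e.hom = p := hcq.comp_coconePointUniqueUpToIso_hom hc WalkingParallelPair.one
  refine ⟨?_, ?_⟩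
  · exact (Groth.Agent.GrpdLib.isPullback_quotMap hq hcov wq).of_iso (Iso.refl _) (Iso.refl _) (Iso.refl _) e
      (by simp) (by simp) (by simp [← he]) (by simp [← he])
  · rw [← he, Mor2.IsFinLocFree, MorphismProperty.cancel_right_of_respectsIso (P := @IsFinite),
      MorphismProperty.cancel_right_of_respectsIso (P := @Flat),
      MorphismProperty.cancel_right_of_respectsIso (P := @LocallyOfFinitePresentation)]
    exact ⟨k₁, k₂, k₃⟩
end Groth.Agent.S4086
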