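import Groth.Statements.S9912
import Groth.Agent.AlgSpPts.Misc
-- import your own Groth.Agent.* helpers here

set_option autoImplicit false
universe u
open CategoryTheory CategoryTheory.Limits AlgebraicGeometry
open AlgSp

namespace Groth.Agent.S9912

set_option backward.isDefEq.respectTransparency false
set_option backward.isDefEq.respectTransparency.types false

open AlgSp Groth.Agent.AlgSpLib Groth.Agent.AlgSpPts

/-- For a morphism of algebraic spaces representable by schemes, representable quasi-compactness agrees
with the condition that base changes to quasi-compact algebraic spaces are quasi-compact. -/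
theorem result {S : Scheme.{u}} {X Y : AlgSp.Space S} (f : X ⟶ Y)
    (hf : AlgSp.Representable f.hom) :
    AlgSp.RepWith @QuasiCompact f.hom ↔ AlgSp.IsQuasiCompactMor f.hom :=  by
  refine ⟨isQuasiCompactMor_of_repWith, fun h => ?_⟩
  have h' : RepWith (MorphismProperty.universally
      (fun V U (_ : V ⟶ U) => CompactSpace ↥U → CompactSpace ↥V)) f.hom := by
    refine ⟨hf, fun U V g fst snd sq => ?_⟩
    refine (repWith_universally_of_univSp
      (Q := fun A B _ => IsQuasiCompactSp B → IsQuasiCompactSp A) (fun V U k hk hU => ?_) hf ?_).2 g fst snd sq
    · exact (isQuasiCompactSp_yon_iff V).1 (hk ((isQuasiCompactSp_yon_iff U).2 hU))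
    · intro Z Z' hZ k fst' snd' sq' hB
      exact h hZ hB k fst' snd' sq'
  refine repWith_mono ?_ _ h'
  intro V U k hk
  rw [quasiCompact_iff_forall_isAffineOpen]
  intro W hW
  have := isCompact_iff_compactSpace.1 hW.isCompact
  exact isCompact_iff_compactSpace.2 (hk _ _ _ (isPullback_morphismRestrict k W) this)


end Groth.Agent.S9912
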