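import Groth.Statements.S10383
import Groth.Agent.AlgSpDec.DecentMor

set_option backward.isDefEq.respectTransparency false
set_option backward.isDefEq.respectTransparency.types false
-- import your own Groth.Agent.* helpers here

set_option autoImplicit false
universe u
open CategoryTheory CategoryTheory.Limits AlgebraicGeometry Topology TopologicalSpace
open AlgSp

namespace Groth.Agent.S10383

/-- If X and Z are decent algebraic spaces over a scheme S with morphisms to an algebraic space Y, then
the fibre product X ×_Y Z is decent. -/
theorem result {S : Scheme.{u}} {X Y Z P : AlgSp.Space S} (f : X ⟶ Y) (g : Z ⟶ Y)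
    (fst : P ⟶ X) (snd : P ⟶ Z) (h : IsPullback fst.hom snd.hom f.hom g.hom)
    (hX : AlgSp.IsDecent X.obj) (hZ : AlgSp.IsDecent Z.obj) : AlgSp.IsDecent P.obj := Groth.Agent.AlgSpDec.isDecent_of_isPullback h X.property Y.property Z.property hX hZ
end Groth.Agent.S10383
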