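import Groth.Statements.S10395
import Groth.Agent.AlgSpDec.Fibres
-- import your own Groth.Agent.* helpers here

set_option autoImplicit false
universe u
open CategoryTheory CategoryTheory.Limits AlgebraicGeometry Topology TopologicalSpace
open AlgSp

namespace Groth.Agent.S10395

/-- (1) ⇔ (2) ⇔ (3): let S be a scheme, X a decent algebraic space over S, and (Y, y) ⟶ (X, x) an etale
morphism of pointed algebraic spaces. Then the point y is a generic point of some irreducible
component of |Y| if and only if the point x is a generic point of some irreducible component of |X|. -/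
theorem result {S : Scheme.{u}} {X Y : AlgSp.Space S}
    (hX : AlgSp.IsDecent X.obj) (f : Y ⟶ X) (hf : AlgSp.IsEtaleMor f.hom) (y : AlgSp.Points Y.obj) :
    (∃ T ∈ irreducibleComponents (AlgSp.Points Y.obj), IsGenericPoint y T) ↔
      (∃ T ∈ irreducibleComponents (AlgSp.Points X.obj), IsGenericPoint (AlgSp.Points.map f.hom y) T) := by
  have hY := Groth.Agent.AlgSpDec.isDecent_of_isEtaleMor Y.property X.property f.hom hf hX
  have := Groth.Agent.AlgSpDec.t0Space_points X.property hX
  have := Groth.Agent.AlgSpDec.quasiSober_points X.property hX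
  have := Groth.Agent.AlgSpDec.t0Space_points Y.property hY
  have := Groth.Agent.AlgSpDec.quasiSober_points Y.property hY
  rw [Groth.Agent.AlgSpDec.isGenericPoint_component_iff, Groth.Agent.AlgSpDec.isGenericPoint_component_iff]
  obtain ⟨U, a, u, -, ha, rfl⟩ := Groth.Agent.AlgSpDec.exists_affine_chart_at Y.property y
  rw [AlgSp.Points.map_ofPt, Groth.Agent.AlgSpDec.coheight_ofPt hY ha,
    Groth.Agent.AlgSpDec.coheight_ofPt hX (hf a ha)]

end Groth.Agent.S10395
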