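import Groth.Statements.S9128
import Mathlib
import Groth.Agent.FlatLoc6.EquidimCat

set_option autoImplicit false
universe u
open CAlg

namespace Groth.Agent.S9128

/-- A Noetherian local ring A is catenary if and only if the assignment sending a prime p to the Krull
dimension of A/p is a dimension function on Spec A, i.e. it decreases strictly along strict
inclusions of primes and drops by exactly one along inclusions with no prime strictly in between. -/
theorem result (A : Type u) [CommRing A] [IsNoetherianRing A]
    [IsLocalRing A] :
    CAlg.IsCatenary A ↔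
      ∀ p q : PrimeSpectrum A, p < q →
        ringKrullDim (A ⧸ q.asIdeal) < ringKrullDim (A ⧸ p.asIdeal) ∧
          (p ⋖ q → ringKrullDim (A ⧸ p.asIdeal) = ringKrullDim (A ⧸ q.asIdeal) + 1) := by
  classical
  have hcd : ∀ p : PrimeSpectrum A, ∃ n : ℕ, Order.coheight p = n ∧ ringKrullDim (A ⧸ p.asIdeal) = n := by
    intro p
    have h1 : (Order.coheight p : WithBot ℕ∞) ≤ ringKrullDim A := Order.coheight_le_krullDim p
    have hne : Order.coheight p ≠ ⊤ := by
      intro h
      rw [h, ← IsLocalRing.maximalIdeal_height_eq_ringKrullDim, WithBot.coe_le_coe, top_le_iff] at h1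
      exact Ideal.height_ne_top (IsLocalRing.maximalIdeal.isMaximal A).ne_top h1
    obtain ⟨n, hn⟩ := ENat.ne_top_iff_exists.1 hne
    exact ⟨n, hn.symm, by rw [← Groth.Agent.VarDim.coheight_eq_ringKrullDim_quotient, ← hn]; rfl⟩
  choose δ hδ hδ' using hcd
  have hlt : ∀ p q : PrimeSpectrum A, p < q → δ q < δ p := fun p q h => by
    have := Order.coheight_add_one_le h
    rw [hδ, hδ] at this
    exact_mod_cast this
  constructor
  · intro hA p q hpq
    refine ⟨?_, fun h => Groth.Agent.FlatLoc6.ringKrullDim_quotient_covBy hA h⟩
    rw [hδ', hδ']
    exact_mod_cast hlt p q hpq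
  · intro h
    have hstep : ∀ p q : PrimeSpectrum A, p ⋖ q → δ p = δ q + 1 := fun p q hpq => by
      have := (h p q hpq.lt).2 hpq
      rw [hδ', hδ'] at this
      exact_mod_cast this
    have hlen : ∀ s : LTSeries (PrimeSpectrum A), (∀ i : Fin s.length, s (Fin.castSucc i) ⋖ s (Fin.succ i)) →
        δ s.head = δ s.last + s.length := by
      intro s hs
      have key : ∀ i : Fin (s.length + 1), δ s.head = δ (s i) + i := by
        intro i
        induction i using Fin.induction with
        | zero => simp [RelSeries.head]
        | succ i ih =>
          rw [ih, hstep _ _ (hs i)]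
          simp [Fin.val_succ]
          omega
      simpa [RelSeries.last] using key (Fin.last _)
    refine ⟨fun p q _ => ⟨δ p, fun s hs _ => ?_⟩, fun s t h1 h2 hs ht => ?_⟩
    · have := Order.length_le_coheight (p := s) hs.ge
      rw [hδ] at this
      exact_mod_cast this
    · have a := hlen s hs
      have b := hlen t ht
      rw [h1, h2] at a
      omega


end Groth.Agent.S9128
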