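import Groth.Statements.S10360
import Groth.Agent.AlgSpDec.Factor
-- import your own Groth.Agent.* helpers here

set_option autoImplicit false
universe u
open CategoryTheory CategoryTheory.Limits AlgebraicGeometry Topology TopologicalSpace
open AlgSp

namespace Groth.Agent.S10360

/-- (1) ⇔ (4): for an algebraic space X over a scheme S and x ∈ |X|, the fibres over x of |U| → |X| and
|U ×_X U| → |X| are finite for every etale h_U ⟶ X with U affine, if and only if x is represented by
a monomorphism Spec k ⟶ X which is representable quasi-compact. -/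
theorem result {S : Scheme.{u}} (X : AlgSp.Space S)
    (x : AlgSp.Points X.obj) :
    (∀ (U : Over S) (φ : (AlgSp.yon S).obj U ⟶ X.obj), IsAffine U.left → AlgSp.RepWith @Etale φ →
        ∀ (R : Over S) (s t : R ⟶ U), IsPullback ((AlgSp.yon S).map t) ((AlgSp.yon S).map s) φ φ →
          (AlgSp.Points.ofPt φ ⁻¹' {x}).Finite ∧ (AlgSp.Points.ofPt ((AlgSp.yon S).map t ≫ φ) ⁻¹' {x}).Finite) ↔
      ∃ p : AlgSp.FieldPt X.obj, AlgSp.Points.mk p = x ∧ Mono p.toHom ∧ AlgSp.RepWith @QuasiCompact p.toHom := by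
  refine ⟨fun h => Groth.Agent.AlgSpDec.exists_rep_of_finite X.property x
    (fun U φ hU hφ R s t sq => (h U φ hU hφ R s t sq).2), ?_⟩
  rintro ⟨p, rfl, -, hq⟩ U φ hU hφ R s t sq
  have hF := Groth.Agent.AlgSpDec.finite_fibre_of_repWith hφ p hq
  refine ⟨hF, ?_⟩
  let i := sq.isoIsPullback _ _ (hφ.rep.isPullback' φ)
  obtain ⟨e, he⟩ := (AlgSp.yon S).map_surjective i.hom
  have : IsIso e := by
    have : IsIso ((AlgSp.yon S).map e) := by rw [he]; infer_instance
    exact isIso_of_fully_faithful (AlgSp.yon S) e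
  have hfst : e ≫ hφ.rep.fst' φ = t := (AlgSp.yon S).map_injective (by
    rw [Functor.map_comp, he]; exact IsPullback.isoIsPullback_hom_fst _ _ _ _)
  have hsnd : e ≫ hφ.rep.snd φ = s := (AlgSp.yon S).map_injective (by
    rw [Functor.map_comp, he]; exact IsPullback.isoIsPullback_hom_snd _ _ _ _)
  have he' : Function.Injective e.left := e.left.injective
  refine ((hF.biUnion fun u (hu : u ∈ _) =>
    Groth.Agent.AlgSpDec.finite_fibre_pullback (a := φ) hφ ⊤ (by simpa using isCompact_univ) u
      (Groth.Agent.AlgSpDec.repWith_quasiCompact_of_rel X.property hq hu)).preimage he'.injOn).subset ?_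
  intro r hr
  simp only [Set.mem_preimage, Set.mem_iUnion₂, Set.mem_inter_iff, Set.mem_singleton_iff]
  refine ⟨s.left r, ?_, ?_, ?_⟩
  · change AlgSp.Points.ofPt φ (s.left r) = _
    rw [← Groth.Agent.AlgSpLib.ofPt_comp, ← sq.w]
    exact hr
  · rw [← hsnd]; rfl
  · trivial

end Groth.Agent.S10360
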