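import Groth.Statements.S9830
import Mathlib.AlgebraicGeometry.Morphisms.Immersion

set_option autoImplicit false
universe u
open CategoryTheory AlgebraicGeometry TopologicalSpace
open Props

namespace Groth.Agent.S9830

set_option backward.defeqAttrib.useBackward true in
set_option backward.isDefEq.respectTransparency false in
/-- A point of `X ×_Y X` with equal projections lies in the diagonal range of a cover. -/
theorem mem_diagonalCoverDiagonalRange {X Y : Scheme.{u}} (f : X ⟶ Y) (𝒰 : Y.OpenCover)
    (𝒱 : ∀ i, (Limits.pullback f (𝒰.f i)).OpenCover) (x : ↥(Limits.pullback f f))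
    (H : Limits.pullback.fst f f x = Limits.pullback.snd f f x) :
    x ∈ Scheme.Pullback.diagonalCoverDiagonalRange f 𝒰 𝒱 := by
  open Limits Scheme Pullback in
  simp only [diagonalCoverDiagonalRange, openCoverOfBase_I₀, openCoverOfBase_X,
    openCoverOfLeftRight_I₀, Opens.iSup_mk, Opens.carrier_eq_coe, Hom.coe_opensRange, Opens.mem_mk,
    Set.mem_iUnion, Set.mem_range, Sigma.exists]
  let i := 𝒰.idx (f (Limits.pullback.fst f f x))
  obtain ⟨y : 𝒰.X i, hy : 𝒰.f i y = f _⟩ := 𝒰.covers (f (Limits.pullback.fst f f x))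
  obtain ⟨z, hz₁, hz₂⟩ := Scheme.Pullback.exists_preimage_pullback _ _ hy.symm
  let j := (𝒱 i).idx z
  obtain ⟨w : (𝒱 i).X j, hy : (𝒱 i).f j w = z⟩ := (𝒱 i).covers z
  refine ⟨i, j, ?_⟩
  open Limits Scheme Pullback in
  simp_rw [diagonalCover_map]
  change x ∈ Set.range _
  open Limits Scheme Pullback in
  simp only [diagonalCover, openCoverOfBase_I₀,
    Precoverage.ZeroHypercover.pullback₁_toPreZeroHypercover, PreZeroHypercover.pullback₁_X,
    Precoverage.ZeroHypercover.bind_toPreZeroHypercover, openCoverOfBase_X,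
    PreZeroHypercover.bind_X, openCoverOfLeftRight_I₀, openCoverOfLeftRight_X]
  open Limits Scheme Pullback in
  rw [range_map]
  simp [← H, ← hz₁, ← hy]


/-- A scheme whose underlying space is Hausdorff is separated. (The published statement assumes X of
dimension zero; a Hausdorff scheme always has dimension at most zero, so this row omits that
hypothesis.) -/
theorem result (X : Scheme.{u}) [T2Space X] : X.IsSeparated := by
  constructor
  let f : X ⟶ Limits.terminal Scheme.{u} := Limits.terminal.from X
  refine ⟨?_⟩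
  let 𝒰 := (Limits.terminal Scheme.{u}).affineCover
  let 𝒱 (i) := (Limits.pullback f (𝒰.f i)).affineCover
  refine IsClosedImmersion.of_isPreimmersion _ ?_
  rw [← closure_subset_iff_isClosed]
  intro x hx
  have heq : Limits.pullback.fst f f x = Limits.pullback.snd f f x := by
    have hc : IsClosed {y : ↥(Limits.pullback f f) | Limits.pullback.fst f f y = Limits.pullback.snd f f y} :=
      isClosed_eq (Limits.pullback.fst f f).continuous (Limits.pullback.snd f f).continuous
    refine closure_minimal ?_ hc hx
    rintro _ ⟨z, rfl⟩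
    show Limits.pullback.fst f f (Limits.pullback.diagonal f z) = Limits.pullback.snd f f (Limits.pullback.diagonal f z)
    rw [← Scheme.Hom.comp_apply, ← Scheme.Hom.comp_apply, Limits.pullback.diagonal_fst, Limits.pullback.diagonal_snd]
  have hW : x ∈ Scheme.Pullback.diagonalCoverDiagonalRange f 𝒰 𝒱 :=
    mem_diagonalCoverDiagonalRange f 𝒰 𝒱 x heq
  set W := Scheme.Pullback.diagonalCoverDiagonalRange f 𝒰 𝒱 with hWdef
  have := isClosedImmersion_diagonal_restrict_diagonalCoverDiagonalRange f 𝒰 𝒱
  have hc := (Limits.pullback.diagonal f ∣_ W).isClosedEmbedding.isClosed_range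
  have hind : Topology.IsInducing W.ι := W.ι.isOpenEmbedding.isInducing
  have hx' : (⟨x, hW⟩ : W.toScheme) ∈ closure (Set.range (Limits.pullback.diagonal f ∣_ W)) := by
    rw [hind.closure_eq_preimage_closure_image]
    refine closure_mono ?_ (W.2.inter_closure ⟨hW, hx⟩)
    rintro y ⟨hyW, ⟨z, rfl⟩⟩
    exact ⟨_, ⟨⟨z, hyW⟩, rfl⟩, by simp only [morphismRestrict_base]; rfl⟩
  rw [hc.closure_eq] at hx'
  obtain ⟨z, hz⟩ := hx'
  exact ⟨z.1, by simpa [morphismRestrict_base] using congrArg Subtype.val hz⟩

end Groth.Agent.S9830
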