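import Groth.Statements.S4366
import Mathlib.AlgebraicGeometry.Morphisms.Flat
import Mathlib.AlgebraicGeometry.Morphisms.Preimmersion

set_option autoImplicit false
universe u
open SchMor

namespace Groth.Agent.S4366

theorem flat_fromSpecStalk {Y : AlgebraicGeometry.Scheme.{u}} (y : Y) :
    AlgebraicGeometry.Flat (Y.fromSpecStalk y) := by
  open AlgebraicGeometry CategoryTheory in
  obtain ⟨_, ⟨U, hU, rfl⟩, hyU, -⟩ :=
    Y.isBasis_affineOpens.exists_subset_of_mem_open (Set.mem_univ y) isOpen_univ
  rw [← hU.fromSpecStalk_eq_fromSpecStalk hyU, IsAffineOpen.fromSpecStalk]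
  have : Flat (Spec.map (Y.presheaf.germ U y hyU)) := by
    rw [HasRingHomProperty.Spec_iff (P := @Flat)]
    letI : Algebra Γ(Y, U) (Y.presheaf.stalk y) := (Y.presheaf.germ U y hyU).hom.toAlgebra
    haveI := hU.isLocalization_stalk ⟨y, hyU⟩
    exact IsLocalization.flat (Y.presheaf.stalk y) (hU.primeIdealOf ⟨y, hyU⟩).asIdeal.primeCompl
  infer_instance


open AlgebraicGeometry in
open CategoryTheory in
open CategoryTheory.Limits in
/-- Let f : X -> Y be a morphism, y a point of Y and Z = Spec O_{Y,y} the local scheme of Y at y with
its canonical morphism to Y. Then the projection p : X x_Y Z -> X induces isomorphisms on all local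
rings: for every point t of X x_Y Z the homomorphism O_{X, p t} -> O_{X x_Y Z, t} is bijective. (The
published statement also asserts that p is a homeomorphism onto the preimage of Z; that part is not
stated here.) -/
theorem result
    {X Y : Scheme.{u}} (f : X ⟶ Y) (y : Y) (t : ↑(pullback f (Y.fromSpecStalk y))) :
    IsIso ((pullback.fst f (Y.fromSpecStalk y)).stalkMap t) := by
  have := flat_fromSpecStalk y
  set g := pullback.fst f (Y.fromSpecStalk y)
  have hflat := Flat.stalkMap g t
  have hs := g.stalkMap_surjective t
  have hinj : Function.Injective (g.stalkMap t).hom := by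
    algebraize [(g.stalkMap t).hom]
    have : IsLocalHom (algebraMap (X.presheaf.stalk (g t)) ((pullback f (Y.fromSpecStalk y)).presheaf.stalk t)) :=
      inferInstanceAs (IsLocalHom (g.stalkMap t).hom)
    have := Module.FaithfullyFlat.of_flat_of_isLocalHom (A := X.presheaf.stalk (g t))
      (B := (pullback f (Y.fromSpecStalk y)).presheaf.stalk t)
    exact FaithfulSMul.algebraMap_injective _ _
  exact (ConcreteCategory.isIso_iff_bijective _).mpr ⟨hinj, hs⟩

end Groth.Agent.S4366
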