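import Groth.Statements.S10313
import Groth.Agent.AlgSpDec.FieldFibre

set_option autoImplicit false
universe u
open CategoryTheory CategoryTheory.Limits AlgebraicGeometry
open AlgSp

namespace Groth.Agent.S10313

set_option backward.isDefEq.respectTransparency false
set_option backward.isDefEq.respectTransparency.types false

open AlgSp Groth.Agent.AlgSpLib Groth.Agent.AlgSpPts Groth.Agent.AlgSpDec

theorem qfAt_iff {S : Scheme.{u}} {F G : Sp S} {f : F ⟶ G} (hf : LocP @LocallyOfFiniteType f) (x : Points F) :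
    HasAtMor (fun U _ h u => ∃ W : U.Opens, u ∈ W ∧ LocallyQuasiFinite (W.ι ≫ h) ∧
        LocallyOfFiniteType (W.ι ≫ h)) f x ↔
      HasAtMor (fun _ _ h u => FlatMor.fibreDimAt h u = 0) f x := by
  constructor
  · rintro ⟨U, V, a, b, h, u, ha, hb, w, hx, W, huW, hq, hl⟩
    refine ⟨U, V, a, b, h, u, ha, hb, w, hx, ?_⟩
    haveI := hf a b h ha hb w
    haveI := hq
    have h1 := fibreDimAt_etale_comp W.ι h.left (⟨u, huW⟩ : W.toScheme)
    rw [fibreDimAt_eq_zero_of_lqf (W.ι ≫ h.left)] at h1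
    exact h1.symm
  · rintro ⟨U, V, a, b, h, u, ha, hb, w, hx, hd⟩
    haveI := hf a b h ha hb w
    let W : U.left.Opens :=
      ⟨{z | FlatMor.fibreDimAt h.left z ≤ ((0 : ℕ) : WithBot ℕ∞)}, Groth.Agent.S0402.result h.left 0⟩
    refine ⟨U, V, a, b, h, u, ha, hb, w, hx, W, le_of_eq hd, (lqf_iff_fibreDimAt (W.ι ≫ h.left)).2 fun z => ?_,
      inferInstance⟩
    rw [fibreDimAt_etale_comp]
    exact FieldFibre.fibreDimAt_eq_zero_of_le h.left _ z.2

theorem le_zero_iff {S : Scheme.{u}} {F G : Sp S} {f : F ⟶ G} (hf : LocP @LocallyOfFiniteType f) (x : Points F) :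
    HasAtMor (fun _ _ h u => FlatMor.fibreDimAt h u ≤ ((0 : ℕ) : WithBot ℕ∞)) f x ↔
      HasAtMor (fun _ _ h u => FlatMor.fibreDimAt h u = 0) f x := by
  constructor
  · rintro ⟨U, V, a, b, h, u, ha, hb, w, hx, hd⟩
    haveI := hf a b h ha hb w
    exact ⟨U, V, a, b, h, u, ha, hb, w, hx, FieldFibre.fibreDimAt_eq_zero_of_le h.left u hd⟩
  · rintro ⟨U, V, a, b, h, u, ha, hb, w, hx, hd⟩
    exact ⟨U, V, a, b, h, u, ha, hb, w, hx, le_of_eq hd⟩

/-- For f locally of finite type there is an open subspace of X on which f is locally quasi-finite,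
outside of which the relative dimension is at least 1, and whose formation commutes with base
change. -/
theorem result {S : Scheme.{u}} {X Y : AlgSp.Space S} (f : X ⟶ Y)
    (hf : AlgSp.LocP @LocallyOfFiniteType f.hom) :
    ∃ (X' : AlgSp.Space S) (j : X' ⟶ X), AlgSp.RepWith @IsOpenImmersion j.hom ∧
      AlgSp.LocP (@LocallyQuasiFinite ⊓ @LocallyOfFiniteType) (j ≫ f).hom ∧
      (∀ x : AlgSp.Points X.obj, x ∉ Set.range (AlgSp.Points.map j.hom) →
        AlgSp.HasAtMor (fun _ _ h u => 1 ≤ FlatMor.fibreDimAt h u) f.hom x) ∧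
      ∀ (Y'' X'' : AlgSp.Space S) (g : Y'' ⟶ Y) (b : X'' ⟶ X) (f'' : X'' ⟶ Y''),
        IsPullback b.hom f''.hom f.hom g.hom → ∀ x'' : AlgSp.Points X''.obj,
          AlgSp.Points.map b.hom x'' ∈ Set.range (AlgSp.Points.map j.hom) ↔ AlgSp.HasAtMor (fun U _ h u => ∃ W : U.Opens, u ∈ W ∧ LocallyQuasiFinite (W.ι ≫ h) ∧ LocallyOfFiniteType (W.ι ≫ h)) f''.hom x'' := by
  obtain ⟨X', j, hX', hj, hrange⟩ := exists_open_subspace X.property (RelDimSp.isOpen_le hf 0)
  refine ⟨⟨X', hX'⟩, ObjectProperty.homMk j, hj, ?_, fun x hx => ?_, fun Y'' X'' g b f'' sq x'' => ?_⟩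
  · change LocP _ (j ≫ f.hom)
    have hje : RepWith @Etale j :=
      repWith_mono (fun A B g (hg : IsOpenImmersion g) => (inferInstance : Etale g)) _ hj
    have hl : LocP @LocallyOfFiniteType (j ≫ f.hom) := fun U' V' a' b' h' ha' hb' w' =>
      hf (a' ≫ j) b' h' (repWith_comp ha' hje) hb' (by rw [Category.assoc]; exact w')
    refine (RelDimSp.lqf_iff hX' Y.property hl).2 fun x' => ?_
    obtain ⟨U', V', a', b', h', ha', ha'', hb', -, w'⟩ := exists_chart hX' Y.property (j ≫ f.hom)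
    obtain ⟨u', rfl⟩ := surjective_ofPt ha'' x'
    refine ⟨U', V', a', b', h', u', ha', hb', w', rfl, ?_⟩
    haveI : LocallyOfFiniteType h'.left := hl a' b' h' ha' hb' w'
    have hm : Points.map j (Points.ofPt a' u') ∈ Set.range (Points.map j) := ⟨_, rfl⟩
    rw [hrange] at hm
    obtain ⟨U₁, V₁, a₁, b₁, h₁, u₁, ha₁, hb₁, w₁, hx₁, hd₁⟩ := hm
    refine FieldFibre.fibreDimAt_eq_zero_of_le h'.left u' ?_
    rw [RelDimSp.fibreDimAt_congr hf (a := a' ≫ j) (repWith_comp ha' hje) hb'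
      (by rw [Category.assoc]; exact w') ha₁ hb₁ w₁ (by rw [hx₁, Points.map_ofPt])]
    exact hd₁
  · change x ∉ Set.range (Points.map j) at hx
    rw [hrange] at hx
    obtain ⟨U, V, a, c, h, ha, ha', hc, -, w⟩ := exists_chart X.property Y.property f.hom
    obtain ⟨u, rfl⟩ := surjective_ofPt ha' x
    refine ⟨U, V, a, c, h, u, ha, hc, w, rfl, ?_⟩
    obtain ⟨z, -, -, he, -⟩ := haveI := hf a c h ha hc w; FibDim.exists_fibreDimAt_eq h.left u
    rw [he]
    by_contra hlt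
    refine hx ⟨U, V, a, c, h, u, ha, hc, w, rfl, ?_⟩
    show FlatMor.fibreDimAt h.left u ≤ _
    rw [he]
    have h1 : ¬ 1 ≤ FibDim.rd h.left z := fun h2 => hlt (by exact_mod_cast h2)
    have h3 : FibDim.rd h.left z ≤ 0 := by omega
    exact_mod_cast h3
  · have hf'' := locP_of_isPullback sq X.property Y.property Y''.property hf
    show _ ∈ Set.range (Points.map j) ↔ _
    rw [hrange, Set.mem_setOf_eq, le_zero_iff hf, qfAt_iff hf'']
    refine ⟨RelDimSp.baseChange sq X.property Y.property Y''.property hf x'' 0, fun h0 => ?_⟩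
    obtain ⟨U, V, a, c, h, ha, ha', hc, -, w⟩ := exists_chart X.property Y.property f.hom
    obtain ⟨u, hu⟩ := surjective_ofPt ha' (Points.map b.hom x'')
    have hd := RelDimSp.baseChange sq X.property Y.property Y''.property hf x'' _
      ⟨U, V, a, c, h, u, ha, hc, w, hu, rfl⟩
    obtain ⟨U₁, V₁, a₁, b₁, h₁, u₁, ha₁, hb₁, w₁, hx₁, hd₁⟩ := h0
    rw [← hx₁, FieldFibre.hasAtMor_iff hf'' ha₁ hb₁ w₁, hd₁] at hd
    exact ⟨U, V, a, c, h, u, ha, hc, w, hu, hd.symm⟩

end Groth.Agent.S10313
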