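import Groth.Statements.S5435
import Mathlib.AlgebraicGeometry.Morphisms.Flat
import Mathlib.AlgebraicGeometry.ResidueField
import Mathlib.CategoryTheory.Monoidal.Cartesian.Over
import Mathlib.CategoryTheory.Monoidal.Cartesian.Grp

set_option backward.isDefEq.respectTransparency false
set_option backward.isDefEq.respectTransparency.types false

set_option autoImplicit false
universe u
open CategoryTheory MonoidalCategory CartesianMonoidalCategory MonObj GrpObj AlgebraicGeometry CategoryTheory.Limits
open SGA3x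

namespace Groth.Agent.S5435

open CategoryTheory CategoryTheory.Limits AlgebraicGeometry MonoidalCategory CartesianMonoidalCategory
open scoped MonObj

/-- Schematically dense opens are dense. -/
theorem dense_of_isSchematicallyDense {X : Scheme.{u}} {U : X.Opens} (hU : CInt.IsSchematicallyDense U)
    (V : X.Opens) (hV : (V : Set X).Nonempty) : ((V : Set X) ∩ U).Nonempty := by
  by_contra hne
  have hbot : V ⊓ U = ⊥ := SetLike.coe_injective (by simpa [Set.not_nonempty_iff_eq_empty] using hne)
  haveI : Subsingleton Γ(X, V ⊓ U) := by rw [hbot]; infer_instance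
  haveI : Subsingleton Γ(X, V) := (hU V).subsingleton
  obtain ⟨x, hx⟩ := hV
  refine zero_ne_one (α := X.presheaf.stalk x) ?_
  rw [← map_zero (X.presheaf.germ V x hx).hom, ← map_one (X.presheaf.germ V x hx).hom,
    Subsingleton.elim (0 : Γ(X, V)) 1]


/-- Morphisms which agree on an open agree after composing with anything landing in it. -/
theorem eq_of_forall_mem {S : Scheme.{u}} {G H T : Over S} (U : G.left.Opens) (f g : G ⟶ H)
    (h : U.ι ≫ f.left = U.ι ≫ g.left) (c : T ⟶ G) (hc : ∀ x, c.left x ∈ U) : c ≫ f = c ≫ g := by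
  have hsub : Set.range c.left ⊆ Set.range U.ι := by
    rintro _ ⟨x, rfl⟩
    rw [Scheme.Opens.range_ι]
    exact hc x
  ext
  rw [Over.comp_left, Over.comp_left, ← IsOpenImmersion.lift_fac U.ι c.left hsub,
    Category.assoc, Category.assoc, h]

theorem left_comp_apply {S : Scheme.{u}} {X Y Z : Over S} (p : X ⟶ Y) (q : Y ⟶ Z) (x : X.left) :
    (p ≫ q).left x = q.left (p.left x) := by
  rw [Over.comp_left, Scheme.Hom.comp_apply]

/-- Every point is a quotient of two points of a universally dense open. -/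
theorem exists_mem {S : Scheme.{u}} (G : Over S) [GrpObj G] (U : G.left.Opens)
    (hU : ∀ T : Over S, CInt.IsSchematicallyDense ((fst G T).left ⁻¹ᵁ U)) (x : G.left) :
    ∃ p : (G ⊗ G).left, (snd G G).left p ∈ U ∧ (fst G G * snd G G).left p ∈ U ∧ (fst G G).left p = x := by
  let T : Over S := Over.mk (G.left.fromSpecResidueField x ≫ G.hom)
  let gT : T ⟶ G := Over.homMk (G.left.fromSpecResidueField x) rfl
  have hrange : ∀ y : T.left, gT.left y = x := fun y =>
    (G.left.range_fromSpecResidueField x).le ⟨y, rfl⟩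
  obtain ⟨y⟩ : Nonempty T.left := inferInstanceAs (Nonempty (Spec (G.left.residueField x)))
  clear_value gT
  generalize T = T' at gT hrange y
  obtain ⟨τ, τ', hτ, hτfst⟩ : ∃ τ τ' : G ⊗ T' ⟶ G ⊗ T', τ' ≫ τ = 𝟙 _ ∧
      τ ≫ fst G T' = (snd G T' ≫ gT) * fst G T' := by
    refine ⟨lift ((snd G T' ≫ gT) * fst G T') (snd G T'),
      lift ((snd G T' ≫ gT)⁻¹ * fst G T') (snd G T'), ?_, lift_fst _ _⟩
    apply CartesianMonoidalCategory.hom_ext
    · simp only [Category.assoc, lift_fst, MonObj.comp_mul, Category.id_comp]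
      rw [← Category.assoc, lift_snd, ← _root_.mul_assoc, mul_inv_cancel, _root_.one_mul]
    · simp
  obtain ⟨z₁, -, hz₁⟩ := dense_of_isSchematicallyDense (hU T') ⊤ ⟨(lift gT (𝟙 T')).left y, trivial⟩
  have hτs : τ.left (τ'.left z₁) = z₁ := by
    rw [← left_comp_apply, hτ, Over.id_left]; rfl
  obtain ⟨z, hzV, hzU⟩ := dense_of_isSchematicallyDense (hU T') (τ.left ⁻¹ᵁ ((fst G T').left ⁻¹ᵁ U))
    ⟨τ'.left z₁, by rw [SetLike.mem_coe, Scheme.Hom.mem_preimage, hτs]; exact hz₁⟩
  have hzV' : (fst G T').left (τ.left z) ∈ U := (Scheme.Hom.mem_preimage _).mp ((Scheme.Hom.mem_preimage _).mp hzV)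
  have hzU' : (fst G T').left z ∈ U := (Scheme.Hom.mem_preimage _).mp hzU
  let ψ : G ⊗ T' ⟶ G ⊗ G := lift (snd G T' ≫ gT) (fst G T')
  have h1 : ψ ≫ snd G G = fst G T' := lift_snd _ _
  have h2 : ψ ≫ (fst G G * snd G G) = τ ≫ fst G T' := by
    rw [hτfst]
    simp only [ψ, MonObj.comp_mul, lift_fst, lift_snd]
  refine ⟨ψ.left z, ?_, ?_, ?_⟩
  · rw [← left_comp_apply, h1]
    exact hzU'
  · rw [← left_comp_apply, h2, left_comp_apply]
    exact hzV'
  · rw [← left_comp_apply, show ψ ≫ fst G G = snd G T' ≫ gT from lift_fst _ _, left_comp_apply]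
    exact hrange _

theorem flat_fst {S : Scheme.{u}} (G : Over S) [Flat G.hom] : Flat (fst G G).left :=
  inferInstanceAs (Flat (pullback.fst G.hom G.hom))

/-- Let G be an S-group scheme, flat and locally of finite presentation over S, U an open subscheme of G
schematically dense in G relative to S (after every base change), and H an S-group scheme. Then a
homomorphism G → H is determined by its restriction to U: two homomorphisms f, g : G → H with the
same restriction to U are equal. (No separatedness of H is needed. The published statement allows H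
to be any sheaf of groups for the fppf topology; this row takes H a group scheme.) -/
theorem result (S : Scheme.{u}) (G H : Over S) [GrpObj G] [GrpObj H] [Flat G.hom] [LocallyOfFinitePresentation G.hom]
    (U : G.left.Opens) (hU : (∀ (S' : Scheme.{u}) (g : S' ⟶ S), CInt.IsSchematicallyDense ((pullback.fst G.hom g) ⁻¹ᵁ U)))
    (f g : G ⟶ H) [IsMonHom f] [IsMonHom g] (h : U.ι ≫ f.left = U.ι ≫ g.left) : f = g := by
  let W : (G ⊗ G).left.Opens := (snd G G).left ⁻¹ᵁ U ⊓ (fst G G * snd G G).left ⁻¹ᵁ U
  let W' : Over S := Over.mk (W.ι ≫ (G ⊗ G).hom)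
  let w : W' ⟶ G ⊗ G := Over.homMk W.ι rfl
  have hwl : w.left = W.ι := Over.homMk_left _ _
  have hmem : ∀ x : W'.left, w.left x ∈ W := fun x => by
    rw [hwl]
    exact (show W.toScheme from x).2
  have hb : (w ≫ snd G G) ≫ f = (w ≫ snd G G) ≫ g := eq_of_forall_mem U f g h _ fun x => by
    rw [left_comp_apply]
    exact (hmem x).1
  have hab : ((w ≫ fst G G) * (w ≫ snd G G)) ≫ f = ((w ≫ fst G G) * (w ≫ snd G G)) ≫ g :=
    eq_of_forall_mem U f g h _ fun x => by
      rw [← MonObj.comp_mul, left_comp_apply]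
      exact (hmem x).2
  have hfg : (w ≫ fst G G) ≫ f = (w ≫ fst G G) ≫ g := by
    rw [MonObj.mul_comp, MonObj.mul_comp, hb] at hab
    exact mul_right_cancel hab
  haveI : Surjective (w ≫ fst G G).left := ⟨fun x => by
    obtain ⟨p, h1, h2, h3⟩ := exists_mem G U (fun T => hU T.left T.hom) x
    refine ⟨(⟨p, h1, h2⟩ : W), ?_⟩
    rw [left_comp_apply, hwl]
    exact h3⟩
  haveI : Flat (w ≫ fst G G).left := by
    haveI := flat_fst G
    rw [Over.comp_left, hwl]
    infer_instance
  haveI : Epi (w ≫ fst G G).left := Flat.epi_of_flat_of_surjective _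
  ext
  exact (cancel_epi (w ≫ fst G G).left).mp
    (by rw [← Over.comp_left, ← Over.comp_left, hfg])

end Groth.Agent.S5435
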