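import Groth.Statements.S16833
import Groth.Agent.AlgSpDec.FiniteNbhd
import Groth.Agent.AlgSpDec.SpQuot

set_option backward.isDefEq.respectTransparency false
set_option backward.isDefEq.respectTransparency.types false
-- import your own Groth.Agent.* helpers here

set_option autoImplicit false
universe u
open AlgSp

namespace Groth.Agent.S16833

open CategoryTheory AlgebraicGeometry in
/-- Let p : U → X and f : X → Y be morphisms of algebraic spaces over a scheme S with p etale and
surjective and f separated. If the composite U → Y is finite, then f is finite. -/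
theorem result {S : Scheme.{u}}
    {U X Y : AlgSp.Space S} (p : U ⟶ X) (f : X ⟶ Y)
    (hp : AlgSp.IsEtaleMor p.hom) (hps : AlgSp.IsSurjectiveMor p.hom)
    (hf : AlgSp.IsSeparatedMor f.hom) (h : AlgSp.IsFiniteMor (p ≫ f).hom) :
    AlgSp.IsFiniteMor f.hom :=  by
  have hfin : AlgSp.IsFiniteMor (p.hom ≫ f.hom) := h
  have hF := AlgSpDec.isFiniteMor_iff_repWith.1 hfin
  have hpq : LocP (@LocallyQuasiFinite ⊓ @LocallyOfFiniteType) (p.hom ≫ f.hom) :=
    AlgSpLib.locP_of_repWith (AlgSpLib.repWith_mono
      (fun _ _ e (_ : IsFinite e) => (⟨inferInstance, inferInstance⟩ :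
        (@LocallyQuasiFinite ⊓ @LocallyOfFiniteType : MorphismProperty Scheme.{u}) e)) _ hF)
  obtain ⟨V, c, hc, hcs⟩ := U.property.atlas
  have hq : RepWith @Etale (c ≫ p.hom) := hp c hc
  have hqs : RepWith @Surjective (c ≫ p.hom) := AlgSpLib.repWith_surjective_of_surjective hq.rep fun x => by
    obtain ⟨u, rfl⟩ := hps x
    obtain ⟨v, rfl⟩ := AlgSpLib.surjective_map_of_repWith hcs u
    exact ⟨v, by rw [Points.map_comp]⟩
  have hqf : LocP (@LocallyQuasiFinite ⊓ @LocallyOfFiniteType) f.hom := by
    refine AlgSpDec.locP_of_precomp hq hqs fun A B a b k ha hb w => ?_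
    exact hpq (a ≫ c) b k (AlgSpLib.repWith_comp ha hc) hb (by simpa [Category.assoc] using w)
  have hu : IsUnivClosedMor f.hom := fun Z Z' hZ g fst snd sq => by
    have sqp := IsPullback.of_hasPullback p.hom fst
    have h1 : IsClosedMap (Points.map (Limits.pullback.snd p.hom fst ≫ snd)) :=
      ((AlgSpDec.isFiniteMor_iff_affine_proper Y.property).1 hfin).2.2.2 hZ g
        (Limits.pullback.fst p.hom fst) _ (sqp.paste_vert sq)
    exact IsClosedMap.of_comp_surjective (AlgSpLib.surjective_map_of_isPullback sqp hps)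
      (Points.continuous_map _) (by convert h1 using 1; funext x; exact (Points.map_comp _ _ x).symm)
  have hr := AlgSpDec.representable_of_lqf_separated X.property Y.property f.hom hqf hf
  have hu' := AlgSpDec.repWith_universallyClosed_of_univClosed hr hu
  exact AlgSpDec.FiniteNbhd.isFiniteMor_of_proper_lqf X.property Y.property ⟨hf, ⟨fun A B a b k ha hb w =>
    (hqf a b k ha hb w).2, AlgSpPts.isQuasiCompactMor_of_repWith (AlgSpLib.repWith_mono
      (fun _ _ e (_ : UniversallyClosed e) => (inferInstance : QuasiCompact e)) _ hu')⟩, hu⟩ hqf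
end Groth.Agent.S16833
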