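import Groth.Statements.S9670
import Groth.Agent.AssFiber.Basic

set_option autoImplicit false
universe u
open CAlg

namespace Groth.Agent.S9670
open TensorProduct Groth.Agent.WeakAss in
theorem ass_union {S : Type u} [CommRing S] {A B C : Type u} [AddCommGroup A] [Module S A]
    [AddCommGroup B] [Module S B] [AddCommGroup C] [Module S C] (f : A →ₗ[S] B) (g : B →ₗ[S] C)
    (hf : Function.Injective f) (hfg : Function.Exact f g) {q : Ideal S} (h : q ∈ FlatCA.ass S B) :
    q ∈ FlatCA.ass S A ∨ q ∈ FlatCA.ass S C := by
  obtain ⟨hq, x, hx⟩ := h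
  by_cases hc : ∃ s ∉ q, g (s • x) = 0
  · left
    obtain ⟨s, hs, hgs⟩ := hc
    obtain ⟨a, ha⟩ := (hfg _).1 hgs
    refine mem_ass_iff.2 ⟨hq, a, ?_⟩
    rw [← annEl_map_of_injective f hf, ha]
    ext r
    rw [mem_annEl, smul_smul, hx, mem_annEl]
    refine ⟨fun h => by rw [mul_comm, mul_smul, h, smul_zero], fun h => ?_⟩
    have h1 : r * s ∈ q := by rw [hx, mem_annEl]; exact h
    have h2 := (hq.mem_or_mem h1).resolve_right hs
    rwa [hx, mem_annEl] at h2
  · right
    refine mem_ass_iff.2 ⟨hq, g x, le_antisymm (fun r hr => ?_) (fun r hr => ?_)⟩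
    · rw [hx, mem_annEl] at hr
      rw [mem_annEl, ← map_smul, hr, map_zero]
    · by_contra hrq
      exact hc ⟨r, hrq, by rw [map_smul]; exact mem_annEl.1 hr⟩

open TensorProduct Groth.Agent.WeakAss in
theorem ass_tensor_subset {R S : Type u} [CommRing R] [CommRing S] [Algebra R S] (N : Type u) [AddCommGroup N] [Module S N]
    [Module R N] [IsScalarTower R S N] [IsNoetherianRing R] [Module.Flat R N] (M : Type u) [AddCommGroup M] [Module R M]
    [Module.Finite R M] {q : Ideal S} (h : q ∈ FlatCA.ass S (N ⊗[R] M)) :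
    q ∈ FlatCA.ass S (N ⧸ ((q.comap (algebraMap R S)).map (algebraMap R S)) • (⊤ : Submodule S N)) := by
  induction ‹Module.Finite R M› using IsNoetherianRing.induction_on_isQuotientEquivQuotientPrime R with
  | subsingleton L =>
    obtain ⟨hq, x, hx⟩ := h
    have : Subsingleton (N ⊗[R] L) := inferInstance
    exact absurd (by rw [hx, Subsingleton.elim x 0]; simp [Submodule.annihilator_bot]) hq.ne_top
  | quotient L p' e =>
    let E := TensorProduct.AlgebraTensorModule.lTensor S N e.toLinearMap
    have hE : Function.Injective E := Module.Flat.lTensor_preserves_injective_linearMap (M := N) _ e.injective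
    have h1 := ass_subset_of_injective E hE h
    let π : N →ₗ[S] N ⊗[R] (R ⧸ p'.asIdeal) := (TensorProduct.AlgebraTensorModule.mk R S N (R ⧸ p'.asIdeal)).flip 1
    have hker : LinearMap.ker π = Groth.Agent.AssFiber.pN p'.asIdeal (S := S) N := by
      ext n
      rw [LinearMap.mem_ker]
      show (n ⊗ₜ[R] (1 : R ⧸ p'.asIdeal)) = 0 ↔ _
      rw [← LinearEquiv.map_eq_zero_iff (TensorProduct.tensorQuotEquivQuotSMul N p'.asIdeal),
        ← map_one (Ideal.Quotient.mk p'.asIdeal), TensorProduct.tensorQuotEquivQuotSMul_tmul_mk, one_smul,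
        Submodule.Quotient.mk_eq_zero]
      exact ⟨fun h => Groth.Agent.AssFiber.smul_mem_pN p'.asIdeal N h, fun h => Groth.Agent.AssFiber.mem_smul_top_of_mem_pN p'.asIdeal N h⟩
    have hπ : Function.Surjective π := by
      intro z
      induction z with
      | zero => exact ⟨0, map_zero π⟩
      | tmul n c =>
        obtain ⟨c, rfl⟩ := Ideal.Quotient.mk_surjective c
        refine ⟨algebraMap R S c • n, ?_⟩
        show (algebraMap R S c • n) ⊗ₜ[R] (1 : R ⧸ p'.asIdeal) = _
        rw [algebraMap_smul, smul_tmul, Algebra.smul_def, mul_one, Ideal.Quotient.algebraMap_eq]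
      | add a b ha hb => obtain ⟨a', rfl⟩ := ha; obtain ⟨b', rfl⟩ := hb; exact ⟨a' + b', map_add π _ _⟩
    let θ := (LinearMap.quotKerEquivOfSurjective π hπ).symm.trans (Submodule.quotEquivOfEq _ _ hker)
    have h2 := ass_subset_of_injective θ.toLinearMap θ.injective h1
    have hc := Groth.Agent.AssFiber.comap_eq_of_mem_ass p'.asIdeal N h2
    rw [hc]
    exact h2
  | exact L₁ L₂ L₃ f g hf hg hfg h₁ h₃ =>
    refine (ass_union (TensorProduct.AlgebraTensorModule.lTensor S N f) (TensorProduct.AlgebraTensorModule.lTensor S N g)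
      (Module.Flat.lTensor_preserves_injective_linearMap (M := N) f hf) (lTensor_exact N hfg hg) h).elim h₁ h₃


open TensorProduct in
/-- Part (5): (B_fin ⊆ A_fin): let R → S be a ring map with R Noetherian, N an S-module flat over R, M a
finite R-module, q a prime of S and p the prime of R below q; an associated prime of a module is a
prime ideal equal to the annihilator of some element. If q is an associated prime of the S-module N
⊗_R M, then q is an associated prime of the S-module N/pN. -/
theorem result {R S : Type u} [CommRing R] [CommRing S] [Algebra R S] (N : Type u) [AddCommGroup N] [Module S N] [Module R N] [IsScalarTower R S N] [IsNoetherianRing R] [Module.Flat R N]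
    (M : Type u) [AddCommGroup M] [Module R M] [Module.Finite R M] (p : Ideal R) [p.IsPrime] (q : Ideal S) [q.IsPrime] (hq : q.comap (algebraMap R S) = p)
    (h : q ∈ FlatCA.ass S (N ⊗[R] M)) :
    q ∈ FlatCA.ass S (N ⧸ (p.map (algebraMap R S)) • (⊤ : Submodule S N)) := by
  subst hq
  exact ass_tensor_subset N M h


end Groth.Agent.S9670
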