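import Groth.Statements.S12420
import Groth.Agent.S0542
import Mathlib.RingTheory.AdicCompletion.Noetherian
import Mathlib.RingTheory.AdicCompletion.AsTensorProduct
import Mathlib.RingTheory.Filtration
import Mathlib.RingTheory.EssentialFiniteness
import Mathlib.RingTheory.Localization.Submodule
import Mathlib.RingTheory.Flat.Stability
import Mathlib.RingTheory.Flat.Localization
import Mathlib.RingTheory.HopkinsLevitzki
import Mathlib.RingTheory.Ideal.MinimalPrime.Localization

set_option autoImplicit false
universe u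
open CAlg

namespace Groth.Agent.S12420

open IsLocalRing
open scoped TensorProduct

section subspace

/-- An element of the completion which is non-zero stays a non-zero-divisor after tensoring with a
domain containing `A`. -/
theorem isLeftRegular_tmul_one {A C D : Type u} [CommRing A] [CommRing C] [IsDomain C] [Algebra A C]
    [Module.Flat A C] [CommRing D] [IsDomain D] [Algebra A D] [IsDomain A]
    (hinj : Function.Injective (algebraMap A D)) (a : C) (ha : a ≠ 0) (s : C ⊗[A] D)
    (hs : (a ⊗ₜ[A] (1 : D)) * s = 0) : s = 0 := by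
  let L := FractionRing D
  haveI : FaithfulSMul A L := (faithfulSMul_iff_algebraMap_injective A L).2 (by
    rw [IsScalarTower.algebraMap_eq A D L]
    exact (IsFractionRing.injective D L).comp hinj)
  letI : Algebra (FractionRing A) L := FractionRing.liftAlgebra A L
  haveI : IsScalarTower A (FractionRing A) L := FractionRing.isScalarTower_liftAlgebra A L
  haveI : Module.Flat A (FractionRing A) := IsLocalization.flat _ (nonZeroDivisors A)
  haveI : Module.Flat A L := Module.Flat.trans A (FractionRing A) L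
  let ι : C ⊗[A] D →ₐ[A] C ⊗[A] L :=
    Algebra.TensorProduct.map (AlgHom.id A C) (IsScalarTower.toAlgHom A D L)
  have hι : Function.Injective ι := by
    have := Module.Flat.lTensor_preserves_injective_linearMap (M := C)
      (IsScalarTower.toAlgHom A D L).toLinearMap (IsFractionRing.injective D L)
    exact this
  refine hι (Eq.trans ?_ (map_zero ι).symm)
  have hmul : Function.Injective ((LinearMap.mulLeft A a).rTensor L) :=
    Module.Flat.rTensor_preserves_injective_linearMap _ fun x y h => mul_left_cancel₀ ha h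
  refine hmul (Eq.trans ?_ (map_zero _).symm)
  have h1 : ∀ t : C ⊗[A] L, (LinearMap.mulLeft A a).rTensor L t = (a ⊗ₜ[A] (1 : L)) * t := by
    intro t
    induction t with
    | zero => simp
    | add u v hu hv => rw [map_add, hu, hv, mul_add]
    | tmul x y => simp
  rw [h1, show (a ⊗ₜ[A] (1 : L)) = ι (a ⊗ₜ[A] (1 : D)) by simp [ι], ← map_mul, hs, map_zero]

variable {A : Type u} [CommRing A] [IsNoetherianRing A] [IsLocalRing A]

theorem isArtinianRing_quotient_pow (i : ℕ) :
    IsArtinianRing (A ⧸ maximalIdeal A ^ (i + 1)) := by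
  haveI : Nontrivial (A ⧸ maximalIdeal A ^ (i + 1)) := Ideal.Quotient.nontrivial_iff.2 fun h =>
    (maximalIdeal.isMaximal A).ne_top (top_le_iff.1 (h.ge.trans (Ideal.pow_le_self (Nat.succ_ne_zero i))))
  haveI : IsLocalRing (A ⧸ maximalIdeal A ^ (i + 1)) :=
    IsLocalRing.of_surjective' (Ideal.Quotient.mk _) Ideal.Quotient.mk_surjective
  rw [isArtinianRing_iff_isNilpotent_maximalIdeal]
  refine ⟨i + 1, ?_⟩
  rw [← IsLocalRing.map_maximalIdeal_of_surjective _ Ideal.Quotient.mk_surjective, ← Ideal.map_pow,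
    Ideal.map_quotient_self, Submodule.zero_eq_bot]

theorem exists_stable (J : ℕ → Ideal A) (hJ : Antitone J) (i : ℕ) :
    ∃ N, ∀ n, J N ⊔ maximalIdeal A ^ (i + 1) ≤ J n ⊔ maximalIdeal A ^ (i + 1) := by
  haveI := isArtinianRing_quotient_pow (A := A) i
  let mk := Ideal.Quotient.mk (maximalIdeal A ^ (i + 1))
  obtain ⟨N, hN⟩ := IsArtinian.monotone_stabilizes
    ⟨fun n => OrderDual.toDual (Ideal.map mk (J n)), fun a b h => Ideal.map_mono (hJ h)⟩
  refine ⟨N, fun n => ?_⟩
  rcases le_total n N with h | h
  · exact sup_le_sup_right (hJ h) _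
  · have h1 : Ideal.map mk (J N) = Ideal.map mk (J n) := hN n h
    have h2 := congrArg (Ideal.comap mk) h1
    rw [Ideal.comap_map_of_surjective _ Ideal.Quotient.mk_surjective,
      Ideal.comap_map_of_surjective _ Ideal.Quotient.mk_surjective, ← RingHom.ker_eq_comap_bot,
      Ideal.mk_ker] at h2
    exact h2.le

/-- Chevalley: if a decreasing sequence of ideals is not eventually inside `m ^ j`, some non-zero
element of the completion is a limit of it. -/
theorem exists_limit (J : ℕ → Ideal A) (hJ : Antitone J) (j : ℕ)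
    (hnot : ∀ n, ¬ J n ≤ maximalIdeal A ^ j) :
    ∃ a : AdicCompletion (maximalIdeal A) A, a ≠ 0 ∧ ∀ n, ∃ y ∈ J n,
      a - algebraMap A _ y ∈ (maximalIdeal A ^ n).map
        (algebraMap A (AdicCompletion (maximalIdeal A) A)) := by
  choose N hN using exists_stable J hJ
  let K : ℕ → Ideal A := fun t => J (N t) ⊔ maximalIdeal A ^ (t + 1)
  have hK : ∀ t x, x ∈ K t → ∃ x', x' ∈ K (t + 1) ∧ x' - x ∈ maximalIdeal A ^ (t + 1) := by
    intro t x hx
    obtain ⟨y, hy, z, hz, hyz⟩ := Submodule.mem_sup.1 (hN t (N (t + 1)) hx)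
    exact ⟨y, Ideal.mem_sup_left hy, by rw [← hyz, sub_add_cancel_left]; exact neg_mem hz⟩
  obtain ⟨x₀, hx₀, hx₀'⟩ := SetLike.not_le_iff_exists.1 (hnot (N j))
  choose next hn1 hn2 using hK
  let X : ∀ t, {x : A // x ∈ K (j + t)} := fun t =>
    Nat.rec ⟨x₀, Ideal.mem_sup_left hx₀⟩ (fun t x => ⟨next (j + t) x.1 x.2, hn1 _ x.1 x.2⟩) t
  have hcauchy : ∀ t, (X t).1 ≡ (X (t + 1)).1 [SMOD (maximalIdeal A ^ t • ⊤ : Submodule A A)] := by
    intro t
    rw [SModEq.sub_mem, smul_eq_mul, Ideal.mul_top, ← neg_sub]
    exact neg_mem (Ideal.pow_le_pow_right (by omega) (hn2 (j + t) (X t).1 (X t).2))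
  let c := AdicCompletion.AdicCauchySequence.mk (maximalIdeal A) A (fun t => (X t).1) hcauchy
  refine ⟨AdicCompletion.mk _ _ c, ?_, fun n => ?_⟩
  · intro h
    have h1 := congrArg (AdicCompletion.evalₐ (maximalIdeal A) j) h
    rw [AdicCompletion.evalₐ_mk, map_zero, Ideal.Quotient.eq_zero_iff_mem] at h1
    have h2 : ∀ t, (X t).1 - x₀ ∈ maximalIdeal A ^ j := by
      intro t
      induction t with
      | zero => simp [X]
      | succ t ih =>
        rw [show (X (t + 1)).1 - x₀ = ((X (t + 1)).1 - (X t).1) + ((X t).1 - x₀) by ring]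
        exact add_mem (Ideal.pow_le_pow_right (by omega) (hn2 (j + t) (X t).1 (X t).2)) ih
    have := (maximalIdeal A ^ j).sub_mem h1 (h2 j)
    simp only [c, AdicCompletion.AdicCauchySequence.mk, sub_sub_cancel] at this
    exact hx₀' this
  · obtain ⟨y, hy, z, hz, hyz⟩ := Submodule.mem_sup.1 (hN (j + n) n (X n).2)
    refine ⟨y, hy, ?_⟩
    have h1 : AdicCompletion.mk _ _ c - algebraMap A _ (X n).1 ∈ (maximalIdeal A ^ n).map
        (algebraMap A (AdicCompletion (maximalIdeal A) A)) := by
      rw [← Submodule.restrictScalars_mem A, ← Ideal.smul_top_eq_map,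
        AdicCompletion.pow_smul_top_eq_ker_eval (IsNoetherian.noetherian _), LinearMap.mem_ker,
        map_sub]
      exact sub_self _
    rw [show AdicCompletion.mk _ _ c - algebraMap A _ y =
      (AdicCompletion.mk _ _ c - algebraMap A _ (X n).1) + algebraMap A _ z by
        rw [← hyz, map_add]; ring]
    exact add_mem h1 (Ideal.mem_map_of_mem _ (Ideal.pow_le_pow_right (by omega) hz))

end subspace


/-- Let φ : A → A' be an injective local homomorphism of Noetherian local rings, essentially of finite
type, such that the adic completion of A at its maximal ideal m is an integral domain. Then every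
power m^j contains φ⁻¹(m'^n) for some n, m' the maximal ideal of A': the m-adic topology of A is
induced from the m'-adic topology of A'. (Equivalently, the induced homomorphism of completions Â →
Â' is injective, which is how the published statement phrases the conclusion; the inclusion of
ideals is what its proof establishes.) -/
theorem result (A A' : Type u) [CommRing A]
    [CommRing A'] [IsNoetherianRing A] [IsNoetherianRing A'] [IsLocalRing A] [IsLocalRing A'] [Algebra A A']
    (hinj : Function.Injective (algebraMap A A')) [IsLocalHom (algebraMap A A')] [Algebra.EssFiniteType A A']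
    [IsDomain (AdicCompletion (IsLocalRing.maximalIdeal A) A)] (j : ℕ) :
    ∃ n : ℕ, ((IsLocalRing.maximalIdeal A') ^ n).comap (algebraMap A A') ≤ (IsLocalRing.maximalIdeal A) ^ j := by
  by_contra! hnot
  haveI : IsNoetherianRing (AdicCompletion (maximalIdeal A) A) :=
    Groth.Agent.S0542.result A _ (IsNoetherian.noetherian _)
  haveI : IsDomain A := (AdicCompletion.of_injective (I := maximalIdeal A) (M := A)).isDomain
    (algebraMap A (AdicCompletion (maximalIdeal A) A))
  obtain ⟨Q, hQ, hQA⟩ := Ideal.exists_comap_eq_of_mem_minimalPrimes_of_injective hinj ⊥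
    (by rw [IsDomain.minimalPrimes_eq_singleton_bot]; rfl)
  have hinjQ : Function.Injective (algebraMap A (A' ⧸ Q)) := by
    rw [injective_iff_map_eq_zero]
    intro a ha
    rw [IsScalarTower.algebraMap_apply A A', Ideal.Quotient.algebraMap_eq,
      Ideal.Quotient.eq_zero_iff_mem] at ha
    exact (Ideal.mem_bot).1 (hQA ▸ (Ideal.mem_comap.2 ha))
  obtain ⟨a, ha, hlim⟩ := exists_limit (fun n => (maximalIdeal A' ^ n).comap (algebraMap A A'))
    (fun m n h => Ideal.comap_mono (Ideal.pow_le_pow_right h)) j fun n h => by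
      obtain ⟨z, hz, hz'⟩ := SetLike.not_le_iff_exists.1 (hnot n)
      exact hz' (h hz)
  have hm : ∀ r : A, r ∈ maximalIdeal A → algebraMap A (A' ⧸ maximalIdeal A') r = 0 := by
    intro r hr
    rw [IsScalarTower.algebraMap_apply A A', Ideal.Quotient.algebraMap_eq,
      Ideal.Quotient.eq_zero_iff_mem]
    exact map_nonunit (algebraMap A A') r hr
  let φ₁ : AdicCompletion (maximalIdeal A) A →ₐ[A] A' ⧸ maximalIdeal A' :=
    (Ideal.Quotient.liftₐ (maximalIdeal A) (Algebra.ofId A _) hm).comp
      (AdicCompletion.evalOneₐ (maximalIdeal A))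
  let φ₂ : A' ⧸ Q →ₐ[A] A' ⧸ maximalIdeal A' :=
    Ideal.Quotient.factorₐ A (IsLocalRing.le_maximalIdeal hQ.ne_top)
  let φ := Algebra.TensorProduct.lift φ₁ φ₂ (fun _ _ => .all _ _)
  let B := AdicCompletion (maximalIdeal A) A ⊗[A] (A' ⧸ Q)
  haveI : IsNoetherianRing B := Algebra.EssFiniteType.isNoetherianRing (AdicCompletion (maximalIdeal A) A) B
  let q : Ideal B := RingHom.ker φ.toRingHom
  haveI : q.IsPrime := RingHom.ker_isPrime _
  have hmem : ∀ n, (a ⊗ₜ[A] (1 : A' ⧸ Q) : B) ∈ q ^ n := by
    intro n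
    obtain ⟨y, hy, hay⟩ := hlim n
    have h1 : ((a - algebraMap A _ y) ⊗ₜ[A] (1 : A' ⧸ Q) : B) ∈ q ^ n := by
      have hle : (maximalIdeal A ^ n).map (algebraMap A (AdicCompletion (maximalIdeal A) A)) ≤
          (q ^ n).comap (Algebra.TensorProduct.includeLeft : AdicCompletion (maximalIdeal A) A →ₐ[A] B) := by
        rw [Ideal.map_pow]
        refine le_trans (pow_le_pow_left' ?_ n) (Ideal.le_comap_pow _ _)
        rw [Ideal.map_le_iff_le_comap]
        intro r hr
        change φ (algebraMap A _ r ⊗ₜ[A] (1 : A' ⧸ Q)) = 0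
        rw [← Algebra.TensorProduct.algebraMap_apply, AlgHom.commutes]
        exact hm r hr
      exact hle hay
    have h2 : (algebraMap A (AdicCompletion (maximalIdeal A) A) y ⊗ₜ[A] (1 : A' ⧸ Q) : B) ∈ q ^ n := by
      rw [← Algebra.TensorProduct.algebraMap_apply]
      have hle : maximalIdeal A' ≤ q.comap (((Algebra.TensorProduct.includeRight :
          A' ⧸ Q →ₐ[A] B).comp (Ideal.Quotient.mkₐ A Q))) := by
        intro r hr
        change φ ((1 : AdicCompletion (maximalIdeal A) A) ⊗ₜ[A] Ideal.Quotient.mk Q r) = 0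
        simp only [φ, Algebra.TensorProduct.lift_tmul, map_one, one_mul, φ₂,
          Ideal.Quotient.factorₐ_apply_mk]
        exact Ideal.Quotient.eq_zero_iff_mem.2 hr
      have := Ideal.le_comap_pow _ n (pow_le_pow_left' hle n (Ideal.mem_comap.1 hy))
      rw [Ideal.mem_comap] at this
      convert this using 1
      exact (AlgHom.commutes _ y).symm
    rw [show (a ⊗ₜ[A] (1 : A' ⧸ Q) : B) = (a - algebraMap A _ y) ⊗ₜ[A] (1 : A' ⧸ Q) +
      algebraMap A _ y ⊗ₜ[A] (1 : A' ⧸ Q) by rw [← TensorProduct.add_tmul, sub_add_cancel]]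
    exact add_mem h1 h2
  have hzero : algebraMap B (Localization.AtPrime q) (a ⊗ₜ[A] (1 : A' ⧸ Q)) = 0 := by
    haveI : IsNoetherianRing (Localization.AtPrime q) :=
      IsLocalization.isNoetherianRing q.primeCompl _ inferInstance
    have hbot := Ideal.iInf_pow_eq_bot_of_isLocalRing (R := Localization.AtPrime q) (maximalIdeal (Localization.AtPrime q))
      (Ideal.IsPrime.ne_top inferInstance)
    rw [← Ideal.mem_bot, ← hbot, Submodule.mem_iInf]
    intro n
    rw [← Localization.AtPrime.map_eq_maximalIdeal, ← Ideal.map_pow]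
    exact Ideal.mem_map_of_mem _ (hmem n)
  obtain ⟨⟨s, hs⟩, hsa⟩ := (IsLocalization.map_eq_zero_iff q.primeCompl _ _).1 hzero
  rw [mul_comm] at hsa
  exact hs ((isLeftRegular_tmul_one hinjQ a ha s hsa) ▸ q.zero_mem)

end Groth.Agent.S12420
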