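import Groth.Statements.S17754
import Groth.Agent.S12420

set_option autoImplicit false
universe u
open CAlg

namespace Groth.Agent.S17754
open IsLocalRing

theorem mem_of_forall_mem_sup_pow {R : Type u} [CommRing R] [IsNoetherianRing R] [IsLocalRing R]
    (J : Ideal R) (y : R) (h : ∀ n, y ∈ J ⊔ maximalIdeal R ^ n) : y ∈ J := by
  rw [← Ideal.Quotient.eq_zero_iff_mem, ← Submodule.mem_bot (R := R),
    ← Ideal.iInf_pow_smul_eq_bot_of_isLocalRing (M := R ⧸ J) (maximalIdeal R)
      (Ideal.IsPrime.ne_top inferInstance), Submodule.mem_iInf]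
  intro n
  obtain ⟨a, ha, b, hb, rfl⟩ := Submodule.mem_sup.1 (h n)
  rw [map_add, Ideal.Quotient.eq_zero_iff_mem.2 ha, zero_add, Ideal.smul_top_eq_map]
  exact Ideal.mem_map_of_mem _ hb

/-- Let R be a complete Noetherian local ring with maximal ideal m, and let I_0 ⊇ I_1 ⊇ I_2 ⊇ ⋯ be a
descending sequence of ideals of R whose intersection is zero. Then for every natural number n there
is an index s with I_s contained in m^n; that is, the filtration by the I_s is at least as fine as
the m-adic one. -/
theorem result (R : Type u) [CommRing R] [IsNoetherianRing R] [IsLocalRing R] [IsAdicComplete (IsLocalRing.maximalIdeal R) R] (I : ℕ → Ideal R) (hI : Antitone I) (hinf : ⨅ s, I s = ⊥) (n : ℕ) : ∃ s : ℕ, I s ≤ IsLocalRing.maximalIdeal R ^ n := by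
  by_contra! hnot
  obtain ⟨a, ha, hlim⟩ := Groth.Agent.S12420.exists_limit I hI n hnot
  obtain ⟨y, rfl⟩ := AdicCompletion.of_surjective (IsLocalRing.maximalIdeal R) R a
  refine ha ?_
  have hy : y ∈ ⨅ s, I s := by
    rw [Submodule.mem_iInf]
    intro t
    refine mem_of_forall_mem_sup_pow (I t) y fun m => ?_
    obtain ⟨z, hz, hyz⟩ := hlim (max t m)
    have h1 : algebraMap R (AdicCompletion (IsLocalRing.maximalIdeal R) R) (y - z) ∈
        (IsLocalRing.maximalIdeal R ^ max t m).map
          (algebraMap R (AdicCompletion (IsLocalRing.maximalIdeal R) R)) := by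
      rw [map_sub]; exact hyz
    rw [← Submodule.restrictScalars_mem R, ← Ideal.smul_top_eq_map] at h1
    have h2 := AdicCompletion.pow_smul_top_le_ker_eval (IsLocalRing.maximalIdeal R) (max t m) h1
    rw [LinearMap.mem_ker] at h2
    change Submodule.mkQ _ (y - z) = 0 at h2
    rw [Submodule.mkQ_apply, Submodule.Quotient.mk_eq_zero, smul_eq_mul, Ideal.mul_top] at h2
    refine Submodule.mem_sup.2 ⟨z, hI (le_max_left t m) hz, y - z,
      Ideal.pow_le_pow_right (le_max_right t m) h2, by abel⟩
  rw [hinf, Submodule.mem_bot] at hy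
  rw [hy, map_zero]

end Groth.Agent.S17754
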