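import Groth.Statements.S0736
import Groth.Agent.IndEtLib.Sys
import Mathlib.RingTheory.Flat.EquationalCriterion
import Mathlib.RingTheory.Etale.Weakly
-- import your own Groth.Agent.* helpers here

set_option autoImplicit false
open CategoryTheory CategoryTheory.Limits AlgebraicGeometry Opposite Topology
universe u
open ProEtW

namespace Groth.Agent.S0736
open CategoryTheory
open scoped TensorProduct

/-- An ind-etale ring map A -> B is weakly etale (A -> B and B (x)_A B -> B flat), in Mathlib's sense
Algebra.WeaklyEtale. -/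
theorem result (A B : Type u) [CommRing A] [CommRing B] [Algebra A B]
    (h : EtPBC.IsIndEtale A B) : Algebra.WeaklyEtale A B := by
  obtain ⟨S, hS, ⟨e⟩⟩ := Groth.Agent.IndEtLib.exists_sys h
  -- system with target `B`
  let ι : ∀ j, S.A j →ₐ[A] B := fun j => e.toAlgHom.comp (S.ι j)
  have hι : ∀ {i j} (f : i ⟶ j) x, ι j (S.tr f x) = ι i x := fun f x => congrArg e (S.ι_tr_apply f x)
  have hlift : ∀ {l : ℕ} (x : Fin l → B), ∃ (j : S.J) (y : Fin l → S.A j), ∀ a, ι j (y a) = x a := fun {l} x => by
    obtain ⟨j, y, hy⟩ := S.exists_lift_finset (Finset.univ : Finset (Fin l)) fun a => e.symm (x a)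
    exact ⟨j, y, fun a => (congrArg e (hy a (Finset.mem_univ a))).trans (e.apply_symm_apply _)⟩
  have hzero : ∀ {i} {x : S.A i}, ι i x = 0 → ∃ k, ∃ f : i ⟶ k, S.tr f x = 0 := fun hx =>
    S.eq_zero (e.injective (hx.trans (map_zero e).symm))
  refine { flat := Module.Flat.of_forall_isTrivialRelation fun {l f x} hfx => ?_, flat_lmul' := ?_ }
  · obtain ⟨j, y, hy⟩ := hlift x
    obtain ⟨k, g, hk⟩ := hzero (x := ∑ a, f a • y a) (by simp only [map_sum, map_smul, hy]; exact hfx)
    haveI := hS k
    haveI : Module.Flat A (S.A k) := Algebra.Smooth.flat A (S.A k)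
    simp only [map_sum, map_smul] at hk
    obtain ⟨κ, a, z, hz, ha⟩ := Module.Flat.isTrivialRelation_of_sum_smul_eq_zero hk
    refine ⟨κ, a, fun q => ι k (z q), fun q => ?_, ha⟩
    rw [← hy q, ← hι g, show S.tr g (y q) = _ from hz q, map_sum]
    simp only [map_smul]
  · let μ := Algebra.TensorProduct.lmul' A (S := B)
    show μ.toRingHom.Flat
    letI := μ.toRingHom.toAlgebra
    refine Module.Flat.of_forall_isTrivialRelation fun {l f x} hfx => ?_
    have hmap : ∀ {i j} (g : i ⟶ j) (z : S.A i ⊗[A] S.A i), Algebra.TensorProduct.map (ι j) (ι j)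
        (Algebra.TensorProduct.map (S.tr g) (S.tr g) z) = Algebra.TensorProduct.map (ι i) (ι i) z :=
      fun g z => by
        induction z using TensorProduct.induction_on with
        | zero => simp
        | tmul a b => simp only [Algebra.TensorProduct.map_tmul, hι]
        | add a b ha hb => simp only [map_add, ha, hb]
    have hco : ∀ z : B ⊗[A] B, ∃ j, ∃ w, Algebra.TensorProduct.map (ι j) (ι j) w = z := fun z => by
      induction z using TensorProduct.induction_on with
      | zero => exact ⟨IsFiltered.nonempty.some, 0, map_zero _⟩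
      | tmul b b' =>
        obtain ⟨j, y, hy⟩ := hlift ![b, b']
        exact ⟨j, y 0 ⊗ₜ y 1, by simp [hy]⟩
      | add z z' hz hz' =>
        obtain ⟨i, w, rfl⟩ := hz
        obtain ⟨j, w', rfl⟩ := hz'
        refine ⟨IsFiltered.max i j,
          Algebra.TensorProduct.map (S.tr (IsFiltered.leftToMax i j)) (S.tr (IsFiltered.leftToMax i j)) w +
          Algebra.TensorProduct.map (S.tr (IsFiltered.rightToMax i j)) (S.tr (IsFiltered.rightToMax i j)) w', ?_⟩
        simp only [map_add, hmap]
    choose jf wf hwf using fun a => hco (f a)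
    obtain ⟨j₁, y, hy⟩ := hlift x
    classical
    obtain ⟨j, hj⟩ := IsFiltered.sup_objs_exists (insert j₁ (Finset.univ.image jf))
    let g₁ : j₁ ⟶ j := (hj (Finset.mem_insert_self _ _)).some
    let g : ∀ a, jf a ⟶ j := fun a =>
      (hj (Finset.mem_insert_of_mem (Finset.mem_image_of_mem jf (Finset.mem_univ a)))).some
    let μj := Algebra.TensorProduct.lmul' A (S := S.A j)
    let w : Fin l → S.A j ⊗[A] S.A j := fun a => Algebra.TensorProduct.map (S.tr (g a)) (S.tr (g a)) (wf a)
    have hnat : ∀ {i} (z : S.A i ⊗[A] S.A i), μ (Algebra.TensorProduct.map (ι i) (ι i) z) =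
        ι i (Algebra.TensorProduct.lmul' A (S := S.A i) z) := fun {i} z => by
      induction z using TensorProduct.induction_on with
      | zero => simp
      | tmul a b => simp [μ]
      | add a b ha hb => simp only [map_add, ha, hb]
    have hw : ∀ a, Algebra.TensorProduct.map (ι j) (ι j) (w a) = f a := fun a =>
      (hmap _ _).trans (hwf a)
    obtain ⟨k, h', hk⟩ := hzero (x := ∑ a, μj (w a) * S.tr g₁ (y a)) (by
      rw [map_sum, ← hfx]
      refine Finset.sum_congr rfl fun a _ => ?_
      rw [map_mul, ← hnat, hw, hι, hy]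
      rfl)
    let μk := Algebra.TensorProduct.lmul' A (S := S.A k)
    haveI := hS k
    haveI : Algebra.WeaklyEtale A (S.A k) := inferInstance
    letI := μk.toRingHom.toAlgebra
    haveI : Module.Flat (S.A k ⊗[A] S.A k) (S.A k) := Algebra.WeaklyEtale.flat_lmul' A (S.A k)
    have hwk : ∀ a, μk (Algebra.TensorProduct.map (S.tr h') (S.tr h') (w a)) = S.tr h' (μj (w a)) := fun a => by
      generalize w a = z
      induction z using TensorProduct.induction_on with
      | zero => simp
      | tmul a b => simp [μk, μj]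
      | add a b ha hb => simp only [map_add, ha, hb]
    obtain ⟨κ, a, z, hz, ha⟩ := Module.Flat.isTrivialRelation_of_sum_smul_eq_zero
      (R := S.A k ⊗[A] S.A k) (f := fun a => Algebra.TensorProduct.map (S.tr h') (S.tr h') (w a))
      (x := fun a => S.tr h' (S.tr g₁ (y a))) (by
        refine Eq.trans (Finset.sum_congr rfl fun a _ => ?_) ((map_sum (S.tr h') _ _).symm.trans hk)
        change μk _ * _ = _
        rw [hwk, map_mul])
    have hM : ∀ a, Algebra.TensorProduct.map (ι k) (ι k) (Algebra.TensorProduct.map (S.tr h') (S.tr h') (w a)) = f a := fun a =>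
      (hmap _ _).trans (hw a)
    refine ⟨κ, fun q r => Algebra.TensorProduct.map (ι k) (ι k) (a q r), fun r => ι k (z r), fun q => ?_, fun r => ?_⟩
    · rw [← hy q, ← hι g₁, ← hι h', show S.tr h' (S.tr g₁ (y q)) = _ from hz q, map_sum]
      refine Finset.sum_congr rfl fun r _ => ?_
      change ι k (μk _ * _) = μ _ * _
      rw [map_mul, hnat]
    · have := congrArg (Algebra.TensorProduct.map (ι k) (ι k)) (ha r)
      simpa [map_sum, hM] using this

end Groth.Agent.S0736
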