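import Groth.Statements.S10121
import Groth.Agent.AlgSpPts.Props
import Groth.Agent.AlgSpPts.OpenSub
-- import your own Groth.Agent.* helpers here

set_option autoImplicit false
universe u
open CategoryTheory CategoryTheory.Limits AlgebraicGeometry
open AlgSp

namespace Groth.Agent.S10121

set_option backward.isDefEq.respectTransparency false
set_option backward.isDefEq.respectTransparency.types false

open AlgSp Groth.Agent.AlgSpLib Groth.Agent.AlgSpPts

/-- For a pre-equivalence relation `s, t : R ⟶ U` of algebraic spaces, the relation on points of `U`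
given by `x ∼ y` when some point `r` of `R` has `t(r) = x` and `s(r) = y` is an equivalence relation
on `|U|`. -/
theorem result (S : Scheme.{u}) (R U : AlgSp.Sp S)
    (hR : AlgSp.IsAlgSpace R) (hU : AlgSp.IsAlgSpace U) (s t : R ⟶ U) (h : AlgSp.IsPreEqvRelSp s t) :
    _root_.Equivalence (fun x y : AlgSp.Points U =>
      ∃ r : AlgSp.Points R, AlgSp.Points.map t r = x ∧ AlgSp.Points.map s r = y) :=  by
  refine ⟨fun x => ?_, ?_, ?_⟩
  · obtain ⟨T, g, z, -, rfl⟩ := exists_ofPt_eq x
    obtain ⟨r, h1, h2⟩ := (h T).refl g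
    exact ⟨Points.ofPt r z, by rw [Points.map_ofPt, h1], by rw [Points.map_ofPt, h2]⟩
  · rintro x y ⟨w, rfl, rfl⟩
    obtain ⟨T, g, z, -, rfl⟩ := exists_ofPt_eq w
    obtain ⟨r, h1, h2⟩ := (h T).symm ⟨g, rfl, rfl⟩
    exact ⟨Points.ofPt r z, by rw [Points.map_ofPt, h1, Points.map_ofPt],
      by rw [Points.map_ofPt, h2, Points.map_ofPt]⟩
  · rintro x y y' ⟨w, rfl, rfl⟩ ⟨w', hw, rfl⟩
    obtain ⟨c, hc, hc'⟩ := exists_point_of_isPullback (IsPullback.of_hasPullback s t) hw.symm
    obtain ⟨T, g, z, -, rfl⟩ := exists_ofPt_eq c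
    obtain ⟨r, h1, h2⟩ := (h T).trans (x := g ≫ pullback.fst s t ≫ t) (y := g ≫ pullback.fst s t ≫ s)
      (z := g ≫ pullback.snd s t ≫ s) ⟨g ≫ pullback.fst s t, by simp, by simp⟩
      ⟨g ≫ pullback.snd s t, by rw [pullback.condition]; simp, by simp⟩
    exact ⟨Points.ofPt r z, by simp only [← hc, Points.map_ofPt, h1, Category.assoc],
      by simp only [← hc', Points.map_ofPt, h2, Category.assoc]⟩


end Groth.Agent.S10121
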