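import Groth.Statements.S9913
import Groth.Agent.AlgSpPts.Misc
import Groth.Agent.AlgSpLib.EtLocalInst
-- import your own Groth.Agent.* helpers here

set_option autoImplicit false
universe u
open CategoryTheory CategoryTheory.Limits AlgebraicGeometry
open AlgSp

namespace Groth.Agent.S9913

set_option backward.isDefEq.respectTransparency false
set_option backward.isDefEq.respectTransparency.types false

open AlgSp Groth.Agent.AlgSpLib Groth.Agent.AlgSpPts

/-- For a quasi-compact morphism of algebraic spaces, the induced map on points pulls quasi-compact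
opens back to quasi-compact subsets. -/
theorem result {S : Scheme.{u}} {X Y : AlgSp.Space S} (f : X ⟶ Y)
    (hf : AlgSp.IsQuasiCompactMor f.hom) (V : Set (AlgSp.Points Y.obj)) (hV : IsOpen V) (hVc : IsCompact V) :
    IsCompact (AlgSp.Points.map f.hom ⁻¹' V) :=  by
  obtain ⟨W, b, hb, hb'⟩ := Y.property.atlas
  have hcov : ∀ y : ↥V, ∃ O : W.left.affineOpens, (O : Set ↥W.left) ⊆ Points.ofPt b ⁻¹' V ∧
      y.1 ∈ Points.ofPt b '' (O : Set ↥W.left) := by
    rintro ⟨y, hy⟩
    obtain ⟨w, rfl⟩ := surjective_ofPt hb' y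
    obtain ⟨O, hO, hw, hsub⟩ := exists_isAffineOpen_mem_and_subset
      (U := (⟨_, hV.preimage (Points.continuous_ofPt b)⟩ : W.left.Opens)) (x := w) hy
    exact ⟨⟨O, hO⟩, hsub, w, hw, rfl⟩
  choose O hOV hO using hcov
  obtain ⟨t, ht⟩ := hVc.elim_finite_subcover (fun y => Points.ofPt b '' (O y : Set ↥W.left))
    (fun y => isOpenMap_ofPt hb _ (O y).1.isOpen) fun y hy => Set.mem_iUnion.2 ⟨⟨y, hy⟩, hO ⟨y, hy⟩⟩
  let O' : W.left.Opens := ⨆ y ∈ t, (O y).1
  have hO' : IsCompact (O' : Set ↥W.left) := by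
    simp only [O', TopologicalSpace.Opens.coe_iSup]
    exact t.isCompact_biUnion fun x _ => (O x).2.isCompact
  let Z : Over S := Over.mk (O'.ι ≫ W.hom)
  let ι : Z ⟶ W := Over.homMk O'.ι rfl
  let g : (yon S).obj Z ⟶ Y.obj := (yon S).map ι ≫ b
  have hrange : Set.range (Points.map g) = V := by
    ext y
    constructor
    · rintro ⟨z, rfl⟩
      obtain ⟨z, rfl⟩ := (Points.schemeEquiv Z).surjective z
      change Points.map g (Points.ofPt (𝟙 _) z) ∈ V
      rw [Points.map_ofPt, Category.id_comp, ofPt_comp]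
      have hz : ι.left z ∈ (O' : Set ↥W.left) :=
        (Scheme.Opens.range_ι O').subset (Set.mem_range_self z)
      simp only [O', TopologicalSpace.Opens.coe_iSup, Set.mem_iUnion] at hz
      obtain ⟨x, -, hx⟩ := hz
      exact hOV x hx
    · intro hy
      obtain ⟨x, hx, w, hw, rfl⟩ := Set.mem_iUnion₂.1 (ht hy)
      have hwO : w ∈ Set.range O'.ι := by
        rw [Scheme.Opens.range_ι]
        exact (le_iSup₂ (f := fun x (_ : x ∈ t) => (O x).1) x hx) hw
      obtain ⟨z, hz⟩ := hwO
      refine ⟨Points.ofPt (𝟙 _) z, ?_⟩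
      rw [Points.map_ofPt, Category.id_comp, ofPt_comp]
      exact congrArg (Points.ofPt b) hz
  have sq := IsPullback.of_hasPullback f.hom g
  have hP : IsAlgSpace (pullback f.hom g) :=
    isAlgSpace_of_isPullback sq X.property (IsAlgSpace.yon_obj Z) Y.property
  have : CompactSpace (Points (pullback f.hom g)) := (isQuasiCompactSp_iff hP).1
    (hf (IsAlgSpace.yon_obj Z) ((isQuasiCompactSp_yon_iff Z).2 (isCompact_iff_compactSpace.1 hO')) g _ _ sq)
  have e := range_map_snd_of_isPullback sq.flip
  rw [hrange] at e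
  rw [← e]
  exact isCompact_range (Points.continuous_map _)


end Groth.Agent.S9913
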