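import Groth.Statements.S9938
import Groth.Agent.AlgSpPts.Descent
-- import your own Groth.Agent.* helpers here

set_option autoImplicit false
universe u
open CategoryTheory CategoryTheory.Limits AlgebraicGeometry
open AlgSp

namespace Groth.Agent.S9938

set_option backward.isDefEq.respectTransparency false
set_option backward.isDefEq.respectTransparency.types false

open AlgSp Groth.Agent.AlgSpLib Groth.Agent.AlgSpPts

/-- For a morphism of algebraic spaces, injectivity on field-valued points, universal injectivity, and
surjectivity of the diagonal are equivalent. -/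
theorem result {S : Scheme.{u}} {X Y : AlgSp.Space S} (f : X ⟶ Y) :
    ((∀ (K : Type u) [Field K] (str : Spec (CommRingCat.of K) ⟶ S),
        Function.Injective (fun a : (AlgSp.yon S).obj (Over.mk str) ⟶ X.obj => a ≫ f.hom)) ↔ AlgSp.IsUnivInjectiveMor f.hom) ∧
    (AlgSp.IsUnivInjectiveMor f.hom ↔ AlgSp.IsSurjectiveMor (pullback.diagonal f.hom)) :=  by
  obtain ⟨hr, d1, d2, d3, d4⟩ := diagonal_package X.property Y.property f.hom
  let d := pullback.diagonal f.hom
  have key : IsUnivInjectiveMor f.hom ↔ IsSurjectiveMor d := by
    refine ⟨fun h z => ⟨Points.map (pullback.fst f.hom f.hom) z, ?_⟩, fun h Z Z' hZ g fst snd sq x y hxy => ?_⟩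
    · apply h X.property f.hom (pullback.snd f.hom f.hom) (pullback.fst f.hom f.hom)
        (IsPullback.of_hasPullback f.hom f.hom).flip
      rw [← Points.map_comp, pullback.diagonal_fst, Points.map_id]
    · obtain ⟨w, hw1, hw2⟩ := exists_point_of_isPullback (IsPullback.of_hasPullback snd snd) hxy
      let m : pullback snd snd ⟶ pullback f.hom f.hom :=
        pullback.map snd snd f.hom f.hom fst fst g sq.w.symm sq.w.symm
      obtain ⟨v, hv⟩ := h (Points.map m w)
      have sm : IsPullback fst (pullback.diagonal snd) d m := by
        have hm₁ : m ≫ pullback.fst f.hom f.hom = pullback.fst snd snd ≫ fst := pullback.lift_fst _ _ _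
        have hm₂ : m ≫ pullback.snd f.hom f.hom = pullback.snd snd snd ≫ fst := pullback.lift_snd _ _ _
        refine ⟨⟨?_⟩, ⟨PullbackCone.IsLimit.mk _ (fun s => s.snd ≫ pullback.fst _ _) ?_ ?_ ?_⟩⟩
        · apply pullback.hom_ext <;> simp [d, hm₁, hm₂]
        · intro s
          have h1 := s.condition =≫ pullback.fst f.hom f.hom
          simp only [d, Category.assoc, hm₁, pullback.diagonal_fst, Category.comp_id] at h1
          rw [Category.assoc]; exact h1.symm
        · intro s
          apply pullback.hom_ext
          · simp
          · rw [Category.assoc, pullback.diagonal_snd, Category.comp_id]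
            apply sq.hom_ext
            · have h₁ := s.condition =≫ pullback.fst f.hom f.hom
              have h₂ := s.condition =≫ pullback.snd f.hom f.hom
              simp only [d, Category.assoc, hm₁, pullback.diagonal_fst, Category.comp_id] at h₁
              simp only [d, Category.assoc, hm₂, pullback.diagonal_snd, Category.comp_id] at h₂
              rw [Category.assoc, Category.assoc, ← h₁, ← h₂]
            · simp [pullback.condition]
        · intro s l _ h2
          rw [← h2]
          simp
      obtain ⟨p, -, hp⟩ := exists_point_of_isPullback sm hv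
      rw [← hw1, ← hw2, ← hp, ← Points.map_comp, ← Points.map_comp, pullback.diagonal_fst,
        pullback.diagonal_snd]
  refine ⟨⟨fun h => key.2 fun z => ?_, fun h K _ str a b hab => ?_⟩, key⟩
  · induction z using Points.ind with
    | h p =>
    have e : (p.toHom ≫ pullback.fst f.hom f.hom) = (p.toHom ≫ pullback.snd f.hom f.hom) := by
      apply h p.K p.str
      change (p.toHom ≫ _) ≫ f.hom = (p.toHom ≫ _) ≫ f.hom
      rw [Category.assoc, Category.assoc, pullback.condition]
    refine ⟨Points.ofPt (p.toHom ≫ pullback.fst f.hom f.hom) (IsLocalRing.closedPoint p.K), ?_⟩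
    rw [Points.map_ofPt]
    conv_rhs => rw [mk_eq_ofPt]
    congr 1
    apply pullback.hom_ext
    · simp [d]
    · simp [d, e]
  · let z : (yon S).obj (Over.mk str) ⟶ pullback f.hom f.hom := pullback.lift a b hab
    have hds : RepWith @Surjective d := repWith_surjective_of_surjective hr (key.1 h)
    let V := hr.pullback z
    let s : V ⟶ Over.mk str := hr.snd z
    have : Surjective s.left := hds.property _ _ _ (hr.isPullback z)
    have : Mono s.left := d4.property _ _ _ (hr.isPullback z)
    have : AlgebraicGeometry.IsIntegral (Over.mk str).left :=
      inferInstanceAs (AlgebraicGeometry.IsIntegral (Spec (CommRingCat.of K)))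
    have hss : Subsingleton ↥(Over.mk str).left := inferInstanceAs (Subsingleton (PrimeSpectrum K))
    have : Flat s.left := inferInstance
    have : Subsingleton ↥V.left := ⟨fun x y => s.left.injective (hss.elim _ _)⟩
    have : CompactSpace ↥V.left := ⟨(Set.subsingleton_of_subsingleton).isCompact⟩
    have : CompactSpace ↥(Over.mk str).left := inferInstanceAs (CompactSpace (PrimeSpectrum K))
    have : QuasiSeparatedSpace ↥(Over.mk str).left := inferInstanceAs (QuasiSeparatedSpace (PrimeSpectrum K))
    have : QuasiCompact s.left := inferInstance
    have hiso : IsIso s.left := MorphismProperty.of_pullback_fst_of_descendsAlong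
      (P := MorphismProperty.isomorphisms Scheme) (Q := @Surjective ⊓ @Flat ⊓ @QuasiCompact) (f := s.left)
      ⟨⟨inferInstance, inferInstance⟩, inferInstance⟩ (inferInstanceAs (IsIso (pullback.fst s.left s.left)))
    have : IsIso ((Over.forget S).map s) := hiso
    have : IsIso s := isIso_of_reflects_iso s (Over.forget S)
    have e := hr.w z
    have e1 := e =≫ pullback.fst f.hom f.hom
    have e2 := e =≫ pullback.snd f.hom f.hom
    simp only [d, Category.assoc, pullback.diagonal_fst, Category.comp_id, z, pullback.lift_fst] at e1
    simp only [d, Category.assoc, pullback.diagonal_snd, Category.comp_id, z, pullback.lift_snd] at e2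
    exact (cancel_epi ((yon S).map s)).1 (e1.symm.trans e2)


end Groth.Agent.S9938
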