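import Groth.Statements.S10262
import Groth.Agent.AlgSpPts.Descent
import Groth.Agent.AlgSpLib.FpqcDescent
import Mathlib.AlgebraicGeometry.Morphisms.FlatMono
-- import your own Groth.Agent.* helpers here

set_option autoImplicit false
universe u
open CategoryTheory CategoryTheory.Limits AlgebraicGeometry
open AlgSp

namespace Groth.Agent.S10262

set_option backward.isDefEq.respectTransparency false
set_option backward.isDefEq.respectTransparency.types false

open AlgSp Groth.Agent.AlgSpLib Groth.Agent.AlgSpPts

/-- (1) an unramified morphism of algebraic spaces has diagonal an open immersion; (2) a morphism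
locally of finite type whose diagonal is an open immersion is unramified. -/
theorem result {S : Scheme.{u}} {X Y : AlgSp.Space S} (f : X ⟶ Y) :
    (AlgSp.LocP (@LocallyOfFiniteType ⊓ @FormallyUnramified) f.hom →
      AlgSp.RepWith @IsOpenImmersion (pullback.diagonal f.hom)) ∧
    (AlgSp.LocP @LocallyOfFiniteType f.hom → AlgSp.RepWith @IsOpenImmersion (pullback.diagonal f.hom) →
      AlgSp.LocP (@LocallyOfFiniteType ⊓ @FormallyUnramified) f.hom) :=  by
  obtain ⟨hr, d1, d2, d3, d4⟩ := diagonal_package X.property Y.property f.hom
  have hP := isAlgSpace_pullback X.property X.property Y.property f.hom f.hom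
  refine ⟨fun hu => ?_, fun hl hd => ?_⟩
  · have := mono_of_repWith d4
    refine repWith_isOpenImmersion_of_mono_of_etale X.property hP _ ?_
    refine locP_of_comp' (Q := @LocallyOfFiniteType ⊓ @FormallyUnramified) (fun a b hab hb => ?_) X.property
      (g := pullback.fst f.hom f.hom) (by rw [pullback.diagonal_fst]; exact locP_id _)
      (locP_of_isPullback (IsPullback.of_hasPullback f.hom f.hom).flip X.property Y.property X.property hu)
    obtain ⟨_, _⟩ := hb
    have : Etale (a ≫ b) := hab
    exact Etale.of_comp a b
  · intro U V a b h ha hb w
    have hde : RepWith @Etale (pullback.diagonal f.hom) :=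
      repWith_mono (fun _ _ g (_ : IsOpenImmersion g) => (inferInstance : Etale g)) _ hd
    have h1 : (RepWith (S := S) @Etale).diagonal (a ≫ f.hom) :=
      MorphismProperty.comp_mem (RepWith (S := S) @Etale).diagonal a f.hom (repWith_etale_diagonal ha) hde
    rw [w] at h1
    let m : pullback ((yon S).map h) ((yon S).map h) ⟶ pullback ((yon S).map h ≫ b) ((yon S).map h ≫ b) :=
      pullback.mapDesc _ _ b
    have hm : RepWith @Etale m :=
      repWith_of_isPullback (pullback_map_diagonal_isPullback ((yon S).map h) ((yon S).map h) b)
        (repWith_etale_diagonal hb)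
    have e : pullback.diagonal ((yon S).map h) ≫ m = pullback.diagonal ((yon S).map h ≫ b) := by
      apply pullback.hom_ext <;> simp [m]
    have h2 : Etale (pullback.diagonal h.left) :=
      (repWith_diagonal_yon_map_iff _ h).1 (repWith_etale_of_comp _ m (by rwa [e]) hm)
    have h3 : IsOpenImmersion (pullback.diagonal h.left) := by
      have : Flat (pullback.diagonal h.left) := inferInstance
      exact IsOpenImmersion.of_flat_of_mono _
    have : LocallyOfFiniteType h.left := hl a b h ha hb w
    exact ⟨this, inferInstance⟩


end Groth.Agent.S10262
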