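import Groth.Statements.S1392
import Groth.Agent.FibFlat.Stalk
import Groth.Agent.GrpSchLib.FieldSmooth
import Groth.Agent.KFlatLib.Scheme.Pullback
import Mathlib

set_option autoImplicit false
set_option backward.isDefEq.respectTransparency false
universe u
open FlatMor

namespace Groth.Agent.S1392

open AlgebraicGeometry CategoryTheory Limits TensorProduct in
theorem flat_stalk {X S X' S' : Scheme.{u}} {f : X ⟶ S} {f' : X' ⟶ S'} {g' : X' ⟶ X} {g : S' ⟶ S}
    (hc : IsPullback g' f' f g) (x' : X') (hg : (g.stalkMap (f' x')).hom.Flat) :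
    (g'.stalkMap x').hom.Flat := by
  let ι := S'.fromSpecStalk (f' x')
  have h1 : Flat (Spec.map (g.stalkMap (f' x'))) := Flat.SpecMap_iff.mpr hg
  have h2 : Flat (ι ≫ g) := by
    have := GrpSchLib.flat_fromSpecStalk (g (f' x'))
    rw [← Scheme.SpecMap_stalkMap_fromSpecStalk]
    infer_instance
  have : Flat ι := GrpSchLib.flat_fromSpecStalk _
  have sq := (IsPullback.of_hasPullback f' ι).paste_horiz hc
  let j := pullback.fst f' ι
  have : Flat j := MorphismProperty.pullback_fst (P := @Flat) f' ι inferInstance
  have hjg : Flat (j ≫ g') := MorphismProperty.of_isPullback sq.flip h2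
  obtain ⟨z, hz, -⟩ := Scheme.Pullback.exists_preimage_pullback (f := f') (g := ι) x'
    (IsLocalRing.closedPoint _) (Scheme.fromSpecStalk_closedPoint (X := S') (x := f' x')).symm
  have hbij : Function.Bijective (FibFlat.sm j z x' hz) :=
    ⟨FibFlat.injective_sm_of_flat j z x' hz ((FibFlat.sm_flat_iff j z x' hz).2 (Flat.stalkMap j z)),
      FibFlat.surjective_sm z x' hz⟩
  have h3 : (FibFlat.sm (j ≫ g') z (g' x') (by rw [Scheme.Hom.comp_apply, hz])).Flat :=
    (FibFlat.sm_flat_iff _ _ _ _).2 (Flat.stalkMap _ _)
  rw [FibFlat.sm_comp j g' z x' (g' x') hz rfl] at h3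
  let e := RingEquiv.ofBijective _ hbij
  have h4 := h3.comp (RingHom.Flat.of_bijective (f := e.symm.toRingHom) e.symm.bijective)
  rw [← FibFlat.sm_self]
  convert h4 using 1
  ext a
  exact (e.symm_apply_apply _).symm

open TensorProduct in
theorem descend {R A R' L M : Type u} [CommRing R] [CommRing A] [CommRing R'] [CommRing L]
    [Algebra R A] [Algebra R R'] [Algebra A L] [Algebra R' L] [Algebra R L] [IsScalarTower R A L]
    [IsScalarTower R R' L] [Module.Flat R R'] [Module.FaithfullyFlat A L] [AddCommGroup M] [Module A M]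
    [Module R M] [IsScalarTower R A M] (h : Module.Flat R' (L ⊗[A] M)) : Module.Flat R M := by
  haveI : Module.Flat R (L ⊗[A] M) := Module.Flat.trans R R' _
  rw [Module.Flat.iff_lTensor_injectiveₛ]
  intro Q _ _ K
  have h1 := Module.Flat.lTensor_preserves_injective_linearMap (M := L ⊗[A] M) K.subtype
    Subtype.val_injective
  refine (Module.FaithfullyFlat.lTensor_injective_iff_injective A L
    (AlgebraTensorModule.lTensor A M K.subtype)).1 ?_
  have hcomm : ∀ z, (AlgebraTensorModule.lTensor A M K.subtype).lTensor L z =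
      AlgebraTensorModule.assoc R A A L M Q (K.subtype.lTensor (L ⊗[A] M)
        ((AlgebraTensorModule.assoc R A A L M K).symm z)) := fun z => by
    induction z using TensorProduct.induction_on with
    | zero => simp
    | add a b ha hb => simp only [map_add, ha, hb]
    | tmul l w =>
      induction w using TensorProduct.induction_on with
      | zero => simp
      | add a b ha hb => simp only [TensorProduct.tmul_add, map_add, ha, hb]
      | tmul m k => simp
  intro a b hab
  rw [hcomm, hcomm] at hab
  exact (AlgebraTensorModule.assoc R A A L M K).symm.injective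
    (h1 ((AlgebraTensorModule.assoc R A A L M Q).injective hab))

open AlgebraicGeometry CategoryTheory Limits in
/-- In a cartesian square X' = S' ×_S X with projections g' : X' → X and f' : X' → S', let F be a
quasi-coherent O_X-module; whenever g : S' → S is flat at f' x' and the pullback of F to X' is
S'-flat at x', F itself is S-flat at g' x'. -/
theorem result {X S X' S' : Scheme.{u}} (f : X ⟶ S) (f' : X' ⟶ S') (g' : X' ⟶ X) (g : S' ⟶ S) (hc : IsPullback g' f' f g)
    (F : X.Modules) (hF : Coh.IsQCoh F) (x' : X') (hg : (g.stalkMap (f' x')).hom.Flat)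
    (h : FlatMod.IsFlatOverAt f' ((Scheme.Modules.pullback g').obj F) x') :
    FlatMod.IsFlatOverAt f F (g' x') := by
  have hg' : (g'.stalkMap x').hom.Flat := flat_stalk hc x' hg
  letI : Algebra (S.presheaf.stalk (f (g' x'))) (X'.presheaf.stalk x') :=
    ((g'.stalkMap x').hom.comp (f.stalkMap (g' x')).hom).toAlgebra
  letI : Algebra (X.presheaf.stalk (g' x')) (X'.presheaf.stalk x') := (g'.stalkMap x').hom.toAlgebra
  letI := FlatMod.moduleStalkOver f F (g' x')
  letI : Algebra (S.presheaf.stalk (f (g' x'))) (X.presheaf.stalk (g' x')) :=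
    (f.stalkMap (g' x')).hom.toAlgebra
  haveI : IsScalarTower (S.presheaf.stalk (f (g' x'))) (X.presheaf.stalk (g' x'))
      (F.presheaf.stalk (g' x')) := .of_algebraMap_smul fun _ _ => rfl
  haveI : IsScalarTower (S.presheaf.stalk (f (g' x'))) (X.presheaf.stalk (g' x'))
      (X'.presheaf.stalk x') := .of_algebraMap_eq fun _ => rfl
  letI := FlatMod.moduleStalkOver f' ((Scheme.Modules.pullback g').obj F) x'
  have hs : g (f' x') = f (g' x') := by
    rw [← Scheme.Hom.comp_apply, ← hc.w, Scheme.Hom.comp_apply]
  letI : Algebra (S'.presheaf.stalk (f' x')) (X'.presheaf.stalk x') := (f'.stalkMap x').hom.toAlgebra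
  letI : Algebra (S.presheaf.stalk (f (g' x'))) (S'.presheaf.stalk (f' x')) :=
    (FibFlat.sm g (f' x') (f (g' x')) hs).toAlgebra
  haveI : Module.Flat (S.presheaf.stalk (f (g' x'))) (S'.presheaf.stalk (f' x')) :=
    (FibFlat.sm_flat_iff g (f' x') _ hs).2 hg
  haveI : IsScalarTower (S.presheaf.stalk (f (g' x'))) (S'.presheaf.stalk (f' x'))
      (X'.presheaf.stalk x') := .of_algebraMap_eq' (by
    show (g'.stalkMap x').hom.comp (f.stalkMap (g' x')).hom =
      (f'.stalkMap x').hom.comp (FibFlat.sm g (f' x') (f (g' x')) hs)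
    rw [← FibFlat.sm_self, ← FibFlat.sm_self, ← FibFlat.sm_self,
      ← FibFlat.sm_comp g' f x' (g' x') (f (g' x')) rfl rfl,
      ← FibFlat.sm_comp f' g x' (f' x') (f (g' x')) rfl hs]
    exact FibFlat.sm_congr hc.w _ _ _)
  haveI : Module.Flat (X.presheaf.stalk (g' x')) (X'.presheaf.stalk x') := hg'
  haveI : IsLocalHom (algebraMap (X.presheaf.stalk (g' x')) (X'.presheaf.stalk x')) :=
    inferInstanceAs (IsLocalHom (g'.stalkMap x').hom)
  haveI : Module.FaithfullyFlat (X.presheaf.stalk (g' x')) (X'.presheaf.stalk x') :=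
    Module.FaithfullyFlat.of_flat_of_isLocalHom
  let e := ((KFlatLib.stalkPullbackIso g' x').app F).toLinearEquiv
  haveI : IsScalarTower (S'.presheaf.stalk (f' x')) (X'.presheaf.stalk x')
      (((Scheme.Modules.pullback g').obj F).presheaf.stalk x') := .of_algebraMap_smul fun _ _ => rfl
  haveI hflat : Module.Flat (S'.presheaf.stalk (f' x'))
      (((Scheme.Modules.pullback g').obj F).presheaf.stalk x') := h
  let e' : (((Scheme.Modules.pullback g').obj F).presheaf.stalk x') ≃ₗ[S'.presheaf.stalk (f' x')]
      TensorProduct (X.presheaf.stalk (g' x')) (X'.presheaf.stalk x') (F.presheaf.stalk (g' x')) :=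
    { toFun := e
      invFun := e.symm
      left_inv := e.left_inv
      right_inv := e.right_inv
      map_add' := e.map_add
      map_smul' := fun r m => by
        rw [RingHom.id_apply, ← algebraMap_smul (X'.presheaf.stalk x') r]
        exact e.map_smul _ m }
  exact descend (R' := S'.presheaf.stalk (f' x')) (L := X'.presheaf.stalk x')
    (Module.Flat.of_linearEquiv e'.symm)

end Groth.Agent.S1392
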