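import Groth.Statements.S9268
import Groth.Agent.AdicSmooth.Jacobian

set_option autoImplicit false
universe u
open CAlg

namespace Groth.Agent.S9268
open IsLocalRing in
theorem adic_of_adic_atPrime (A B : Type u) [CommRing A] [CommRing B] [Algebra A B] (p : Ideal A) [p.IsPrime]
    (q : Ideal B) [q.IsPrime] [Algebra (Localization.AtPrime p) (Localization.AtPrime q)]
    [IsScalarTower A (Localization.AtPrime p) (Localization.AtPrime q)]
    (h : CAlgX.IsAdicFormallySmooth (Localization.AtPrime p) (Localization.AtPrime q) (maximalIdeal _)) :
    CAlgX.IsAdicFormallySmooth A (Localization.AtPrime q) (maximalIdeal _) := by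
  intro C _ _ J hJ ψ hψ
  have hu : ∀ y : p.primeCompl, IsUnit (algebraMap A C y) := fun y => by
    have h1 : IsUnit (Ideal.Quotient.mk J (algebraMap A C y)) := by
      have h2 := (IsLocalization.map_units (M := p.primeCompl) (Localization.AtPrime p) y).map
        (algebraMap (Localization.AtPrime p) (Localization.AtPrime q))
      rw [← IsScalarTower.algebraMap_apply] at h2
      have h3 := h2.map ψ
      rw [AlgHom.commutes] at h3
      exact h3
    obtain ⟨c, hc⟩ := Ideal.Quotient.mk_surjective (h1.unit⁻¹ : (C ⧸ J)ˣ).val
    have hmem : algebraMap A C y * c - 1 ∈ J := by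
      rw [← Ideal.Quotient.eq_zero_iff_mem, map_sub, map_mul, hc, map_one, h1.mul_val_inv, sub_self]
    have hnil : IsNilpotent (algebraMap A C y * c - 1) := ⟨2, by
      have := Ideal.pow_mem_pow hmem 2; rw [hJ] at this; simpa using this⟩
    have := hnil.isUnit_add_one
    rw [sub_add_cancel] at this
    exact isUnit_of_mul_isUnit_left this
  letI : Algebra (Localization.AtPrime p) C := (IsLocalization.lift (M := p.primeCompl) hu).toAlgebra
  haveI : IsScalarTower A (Localization.AtPrime p) C :=
    .of_algebraMap_eq fun a => (IsLocalization.lift_eq hu a).symm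
  haveI : IsScalarTower A (Localization.AtPrime p) (C ⧸ J) :=
    IsScalarTower.of_algebraMap_eq fun a => by
      show Ideal.Quotient.mk J (algebraMap A C a) = Ideal.Quotient.mk J (algebraMap _ C (algebraMap A _ a))
      rw [← IsScalarTower.algebraMap_apply]
  let ψ' : Localization.AtPrime q →ₐ[Localization.AtPrime p] C ⧸ J :=
    { ψ.toRingHom with
      commutes' := fun x => by
        have : ψ.toRingHom.comp (algebraMap (Localization.AtPrime p) (Localization.AtPrime q)) =
            algebraMap (Localization.AtPrime p) (C ⧸ J) := by
          apply IsLocalization.ringHom_ext p.primeCompl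
          ext a
          simp only [RingHom.comp_apply, ← IsScalarTower.algebraMap_apply]
          exact ψ.commutes a
        exact RingHom.congr_fun this x }
  obtain ⟨χ, hχ⟩ := h C J hJ ψ' hψ
  exact ⟨χ.restrictScalars A, AlgHom.ext fun x => AlgHom.congr_fun hχ x⟩

open IsLocalRing in
theorem formallySmooth_atPrime (A B : Type u) [CommRing A] [IsNoetherianRing A] [CommRing B] [Algebra A B]
    [Algebra.FiniteType A B] (q : Ideal B) [q.IsPrime]
    (h : CAlgX.IsAdicFormallySmooth A (Localization.AtPrime q) (maximalIdeal _)) :
    Algebra.FormallySmooth A (Localization.AtPrime q) := by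
  obtain ⟨n, f₀, hf₀⟩ := Algebra.FiniteType.iff_quotient_mvPolynomial''.mp
    (inferInstance : Algebra.FiniteType A B)
  let Q := q.comap f₀.toRingHom
  let P := Localization.AtPrime Q
  let fP : P →ₐ[A] Localization.AtPrime q := IsLocalization.liftAlgHom (M := Q.primeCompl)
      (f := (IsScalarTower.toAlgHom A B (Localization.AtPrime q)).comp f₀) fun x ↦ by
    simpa using IsLocalization.map_units (M := q.primeCompl) _ ⟨f₀ x.1, x.2⟩
  have hf₁ : Function.Surjective fP := by
    intro x
    obtain ⟨x, ⟨s, hs⟩, rfl⟩ := IsLocalization.exists_mk'_eq q.primeCompl x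
    obtain ⟨x, rfl⟩ := hf₀ x
    obtain ⟨s, rfl⟩ := hf₀ s
    refine ⟨IsLocalization.mk' (M := Q.primeCompl) _ x ⟨s, hs⟩, ?_⟩
    simp [fP, IsLocalization.lift_mk', Units.mul_inv_eq_iff_eq_mul, IsUnit.liftRight]
  letI : Algebra P (Localization.AtPrime q) := fP.toRingHom.toAlgebra
  haveI : IsScalarTower A P (Localization.AtPrime q) := .of_algebraMap_eq fun a => (fP.commutes a).symm
  have : Algebra.FormallyEtale (MvPolynomial (Fin n) A) P := .of_isLocalization Q.primeCompl
  have : Algebra.FormallySmooth A P := .comp _ (MvPolynomial (Fin n) A) _
  have : Module.Free P Ω[P⁄A] :=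
    .of_equiv (KaehlerDifferential.tensorKaehlerEquivOfFormallyEtale A (MvPolynomial (Fin n) A) P)
  have : Module.Finite P Ω[P⁄A] :=
    .equiv (KaehlerDifferential.tensorKaehlerEquivOfFormallyEtale A (MvPolynomial (Fin n) A) P)
  exact Groth.Agent.AdicSmooth.formallySmooth_of_isAdicFormallySmooth hf₁ h


/-- Suppose A is a Noetherian ring and B is a finitely generated A-algebra, and consider a prime q of B
lying over p in A. Then A → B is smooth at q (meaning some g not in q makes A → B_g smooth) exactly
when the induced map A_p → B_q is formally smooth with respect to the adic topology defined by the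
maximal ideal of B_q. -/
theorem result (A B : Type u) [CommRing A] [IsNoetherianRing A]
    [CommRing B] [Algebra A B] [Algebra.FiniteType A B] (q : Ideal B) [q.IsPrime] :
    (∃ g : B, g ∉ q ∧ Algebra.Smooth A (Localization.Away g)) ↔
      letI := (Localization.localRingHom (Ideal.comap (algebraMap A B) q) q (algebraMap A B) rfl).toAlgebra
      CAlgX.IsAdicFormallySmooth (Localization.AtPrime (Ideal.comap (algebraMap A B) q))
        (Localization.AtPrime q) (IsLocalRing.maximalIdeal (Localization.AtPrime q)) := by
  letI := (Localization.localRingHom (Ideal.comap (algebraMap A B) q) q (algebraMap A B) rfl).toAlgebra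
  haveI : IsScalarTower A (Localization.AtPrime (Ideal.comap (algebraMap A B) q)) (Localization.AtPrime q) :=
    .of_algebraMap_eq fun a => by
      rw [IsScalarTower.algebraMap_apply A B (Localization.AtPrime q)]
      exact (Localization.localRingHom_to_map _ _ _ _ a).symm
  have : Algebra.FinitePresentation A B := Algebra.FinitePresentation.of_finiteType.mp inferInstance
  constructor
  · rintro ⟨g, hg, hsm⟩
    have hgq : Submonoid.powers g ≤ q.primeCompl := Submonoid.powers_le.2 hg
    letI := IsLocalization.localizationAlgebraOfSubmonoidLe (Localization.Away g) (Localization.AtPrime q) _ _ hgq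
    haveI : IsScalarTower B (Localization.Away g) (Localization.AtPrime q) :=
      IsLocalization.localization_isScalarTower_of_submonoid_le _ _ _ _ hgq
    haveI := IsLocalization.isLocalization_of_submonoid_le (Localization.Away g) (Localization.AtPrime q) _ _ hgq
    haveI : IsScalarTower A (Localization.Away g) (Localization.AtPrime q) := .to₁₃₄ _ B _ _
    haveI : Algebra.FormallyEtale (Localization.Away g) (Localization.AtPrime q) :=
      .of_isLocalization (q.primeCompl.map (algebraMap B (Localization.Away g)))
    haveI : Algebra.FormallySmooth A (Localization.AtPrime q) := .comp A (Localization.Away g) _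
    haveI : Algebra.FormallySmooth (Localization.AtPrime (Ideal.comap (algebraMap A B) q))
        (Localization.AtPrime q) := .localization_base (Ideal.comap (algebraMap A B) q).primeCompl
    exact fun C _ _ J hJ ψ _ => Algebra.FormallySmooth.comp_surjective _ _ J hJ ψ
  · intro h
    haveI : Algebra.IsSmoothAt A q := formallySmooth_atPrime A B q (adic_of_adic_atPrime A B _ q h)
    exact Algebra.IsSmoothAt.exists_notMem_smooth A q


end Groth.Agent.S9268
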