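import Groth.Statements.S2060
import Mathlib
import Groth.Agent.S9268
import Groth.Agent.AdicSmooth.SmallExt

set_option autoImplicit false
universe u
open CAlg

namespace Groth.Agent.S2060

/-- Let `R` be Noetherian, `S` of finite type over `R` and `𝔮` a prime of `S`. Then `R → S` is smooth at
`𝔮` if and only if for every surjection `B' → B` of Artinian local `R`-algebras whose kernel is
principal and killed by the maximal ideal of `B'`, every `R`-algebra map `S → B` under which the
maximal ideal pulls back to `𝔮` lifts to `B'`. -/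
theorem result {R S : Type u} [CommRing R] [IsNoetherianRing R]
    [CommRing S] [Algebra R S] [Algebra.FiniteType R S] (q : Ideal S) [q.IsPrime] :
    Algebra.IsSmoothAt R q ↔
      ∀ (B' B : Type u) [CommRing B'] [CommRing B] [IsLocalRing B'] [IsLocalRing B]
        [IsArtinianRing B'] [IsArtinianRing B] [Algebra R B'] [Algebra R B] (π : B' →ₐ[R] B),
        Function.Surjective π →
        (∃ t : B', RingHom.ker π.toRingHom = Ideal.span {t} ∧
          ∀ a ∈ IsLocalRing.maximalIdeal B', a * t = 0) →
        ∀ g : S →ₐ[R] B, (IsLocalRing.maximalIdeal B).comap g = q →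
          ∃ g' : S →ₐ[R] B', π.comp g' = g := by
  constructor
  · intro hsm B' B _ _ _ _ _ _ _ _ π hπ ⟨t, ht, hkill⟩ g hg
    have hu : ∀ y : q.primeCompl, IsUnit (g y) := fun y => by
      by_contra hne
      exact y.2 (hg ▸ (IsLocalRing.mem_maximalIdeal _).2 hne : (y : S) ∈ q)
    let g₁ : Localization.AtPrime q →ₐ[R] B := IsLocalization.liftAlgHom (M := q.primeCompl) hu
    have hJ : IsNilpotent (RingHom.ker (π : B' →+* B)) := by
      refine ⟨2, ?_⟩
      change RingHom.ker π.toRingHom ^ 2 = ⊥
      rw [ht, Ideal.span_singleton_pow, Ideal.span_singleton_eq_bot, pow_two]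
      refine hkill t ((IsLocalRing.mem_maximalIdeal _).2 fun htu => ?_)
      have h1 : π t = 0 := by
        exact (ht.symm ▸ Ideal.mem_span_singleton_self t : t ∈ RingHom.ker π.toRingHom)
      exact not_isUnit_zero (h1 ▸ htu.map π)
    haveI : Algebra.FormallySmooth R (Localization.AtPrime q) := hsm
    obtain ⟨χ, hχ⟩ : ∃ χ : Localization.AtPrime q →ₐ[R] B', π.comp χ = g₁ :=
      ⟨Algebra.FormallySmooth.liftOfSurjective g₁ π hπ hJ, Algebra.FormallySmooth.comp_liftOfSurjective _ _ _ _⟩
    refine ⟨χ.comp (IsScalarTower.toAlgHom R S _), AlgHom.ext fun s => ?_⟩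
    show π (χ (algebraMap S _ s)) = g s
    rw [← AlgHom.comp_apply, hχ]
    exact IsLocalization.lift_eq hu s
  · intro H
    letI := (Localization.localRingHom (Ideal.comap (algebraMap R S) q) q (algebraMap R S) rfl).toAlgebra
    haveI : IsScalarTower R (Localization.AtPrime (Ideal.comap (algebraMap R S) q)) (Localization.AtPrime q) :=
      .of_algebraMap_eq fun a => by
        rw [IsScalarTower.algebraMap_apply R S (Localization.AtPrime q)]
        exact (Localization.localRingHom_to_map _ _ _ _ a).symm
    haveI : IsLocalHom (algebraMap (Localization.AtPrime (Ideal.comap (algebraMap R S) q)) (Localization.AtPrime q)) :=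
      Localization.isLocalHom_localRingHom _ _ _ rfl
    haveI : IsNoetherianRing S := Algebra.FiniteType.isNoetherianRing R S
    refine Groth.Agent.S9268.formallySmooth_atPrime R S q (Groth.Agent.S9268.adic_of_adic_atPrime R S
      (Ideal.comap (algebraMap R S) q) q (Groth.Agent.AdicSmooth.isAdicFormallySmooth_of_smallLift ?_))
    intro A _ _ _ _ _ J hJ hlen _ ψ _ _
    letI : Algebra R A := ((algebraMap (Localization.AtPrime (Ideal.comap (algebraMap R S) q)) A).comp
      (algebraMap R _)).toAlgebra
    haveI : IsScalarTower R (Localization.AtPrime (Ideal.comap (algebraMap R S) q)) A := .of_algebraMap_eq fun _ => rfl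
    haveI : IsScalarTower R (Localization.AtPrime (Ideal.comap (algebraMap R S) q)) (A ⧸ J) :=
      .of_algebraMap_eq fun _ => rfl
    haveI : IsSimpleModule A J := Module.length_eq_one_iff.1 hlen
    obtain ⟨t, ht⟩ : ∃ t, J = Ideal.span {t} := by
      haveI := IsSimpleModule.nontrivial A J
      obtain ⟨x, hx⟩ := exists_ne (0 : J)
      refine ⟨x.1, le_antisymm (fun y hy => ?_) ((Ideal.span_singleton_le_iff_mem J).2 x.2)⟩
      obtain ⟨c, hc⟩ := Submodule.mem_span_singleton.1
        ((IsSimpleModule.span_singleton_eq_top A hx).symm ▸ Submodule.mem_top :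
          (⟨y, hy⟩ : J) ∈ Submodule.span A {x})
      exact Ideal.mem_span_singleton'.2 ⟨c, congrArg Subtype.val hc⟩
    have hann : ∀ a ∈ IsLocalRing.maximalIdeal A, ∀ y ∈ J, a * y = 0 := fun a ha y hy => by
      have h1 : (IsLocalRing.maximalIdeal A) • (⊤ : Submodule A J) = ⊥ := by
        rcases eq_bot_or_eq_top ((IsLocalRing.maximalIdeal A) • (⊤ : Submodule A J)) with h | h
        · exact h
        · exfalso
          have := Submodule.eq_bot_of_le_smul_of_le_jacobson_bot (IsLocalRing.maximalIdeal A) ⊤
            Module.Finite.fg_top h.ge (IsLocalRing.maximalIdeal_le_jacobson _)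
          exact bot_ne_top this.symm
      have h2 : a • (⟨y, hy⟩ : J) ∈ (⊥ : Submodule A J) := h1 ▸ Submodule.smul_mem_smul ha Submodule.mem_top
      exact congrArg Subtype.val (Submodule.mem_bot A |>.1 h2)
    let g : S →ₐ[R] A ⧸ J := (ψ.restrictScalars R).comp (IsScalarTower.toAlgHom R S _)
    obtain ⟨g', hg'⟩ := H A (A ⧸ J) (Ideal.Quotient.mkₐ R J) Ideal.Quotient.mk_surjective
      ⟨t, by rw [← ht]; exact Ideal.Quotient.mkₐ_ker R J, fun a ha => hann a ha t (ht ▸ Ideal.mem_span_singleton_self t)⟩ g
      (by
        show Ideal.comap ((ψ.toRingHom).comp (algebraMap S (Localization.AtPrime q))) _ = q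
        have h4 : (IsLocalRing.maximalIdeal (A ⧸ J)).comap ψ.toRingHom = IsLocalRing.maximalIdeal _ :=
          ((IsLocalRing.local_hom_TFAE ψ.toRingHom).out 0 4).1 ‹IsLocalHom ψ.toRingHom›
        rw [← Ideal.comap_comap, h4]
        exact Localization.AtPrime.comap_maximalIdeal)
    have hu : ∀ y : q.primeCompl, IsUnit (g' y) := fun y => by
      have h1 : IsUnit (Ideal.Quotient.mk J (g' y)) := by
        have : Ideal.Quotient.mk J (g' y) = g y := AlgHom.congr_fun hg' y
        rw [this]
        exact (IsLocalization.map_units (Localization.AtPrime q) y).map ψ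
      haveI := (Ideal.Quotient.mk_surjective (I := J)).isLocalHom
      exact IsLocalHom.map_nonunit (f := Ideal.Quotient.mk J) _ h1
    let χ₀ : Localization.AtPrime q →ₐ[R] A := IsLocalization.liftAlgHom (M := q.primeCompl) hu
    let χ : Localization.AtPrime q →ₐ[Localization.AtPrime (Ideal.comap (algebraMap R S) q)] A :=
      { χ₀.toRingHom with
        commutes' := fun x => by
          have : χ₀.toRingHom.comp (algebraMap (Localization.AtPrime (Ideal.comap (algebraMap R S) q))
              (Localization.AtPrime q)) = algebraMap _ A := by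
            apply IsLocalization.ringHom_ext (Ideal.comap (algebraMap R S) q).primeCompl
            ext a
            simp only [RingHom.comp_apply, ← IsScalarTower.algebraMap_apply]
            exact χ₀.commutes a
          exact RingHom.congr_fun this x }
    refine ⟨χ, AlgHom.ext fun x => ?_⟩
    have : ((Ideal.Quotient.mk J).comp χ₀.toRingHom) = ψ.toRingHom := by
      apply IsLocalization.ringHom_ext q.primeCompl
      ext s
      show Ideal.Quotient.mk J (χ₀ (algebraMap S _ s)) = _
      rw [show χ₀ (algebraMap S _ s) = g' s from IsLocalization.lift_eq hu s]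
      exact AlgHom.congr_fun hg' s
    exact RingHom.congr_fun this x

end Groth.Agent.S2060
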