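import Groth.Statements.S9911
import Groth.Agent.AlgSpPts.Misc
import Groth.Agent.AlgSpLib.EtLocalInst
-- import your own Groth.Agent.* helpers here

set_option autoImplicit false
universe u
open CategoryTheory CategoryTheory.Limits AlgebraicGeometry
open AlgSp

namespace Groth.Agent.S9911

set_option backward.isDefEq.respectTransparency false
set_option backward.isDefEq.respectTransparency.types false

open AlgSp Groth.Agent.AlgSpLib Groth.Agent.AlgSpPts

/-- A morphism from an algebraic space to the spectrum of a field is universally open. -/
theorem result {S : Scheme.{u}} (X : AlgSp.Space S) {k : Type u} [Field k]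
    (str : Spec (CommRingCat.of k) ⟶ S) (p : X ⟶ (AlgSp.ofScheme S).obj (Over.mk str)) :
    AlgSp.IsUnivOpenMor p.hom :=  by
  refine isUnivOpenMor_of_locP X.property (IsAlgSpace.yon_obj _) ?_
  obtain ⟨U, a, ha, hs⟩ := X.property.atlas
  refine locP_of_chart (b := 𝟙 _) (h := (yon S).preimage (a ≫ p.hom)) ha hs (repWith_id _ _) ?_ ?_
  · exact ((Category.comp_id _).trans ((yon S).map_preimage _)).symm
  · have : Subsingleton ↥(Over.mk str).left := inferInstanceAs (Subsingleton (PrimeSpectrum k))
    have : AlgebraicGeometry.IsIntegral (Over.mk str).left :=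
      inferInstanceAs (AlgebraicGeometry.IsIntegral (Spec (CommRingCat.of k)))
    exact inferInstance


end Groth.Agent.S9911
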