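import Groth.Statements.S10584
import Groth.Agent.AlgSpLib.ThickScheme

set_option backward.isDefEq.respectTransparency false
set_option backward.isDefEq.respectTransparency.types false
-- import your own Groth.Agent.* helpers here

set_option autoImplicit false
universe u
open CategoryTheory CategoryTheory.Limits AlgebraicGeometry
open AlgSp

namespace Groth.Agent.S10584

/-- Let i : X ⟶ X' be a thickening of algebraic spaces over S (representable, every base change to a
scheme a surjective closed immersion). If X is representable by a scheme over S, then so is X'. -/
theorem result {S : Scheme.{u}} {X X' : AlgSp.Space S} (i : X ⟶ X')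
    (hi : AlgSp.IsThickMor i.hom)
    (hX : ∃ T : Over S, Nonempty ((AlgSp.yon S).obj T ≅ X.obj)) :
    ∃ T' : Over S, Nonempty ((AlgSp.yon S).obj T' ≅ X'.obj) :=  by
  obtain ⟨T, ⟨e⟩⟩ := hX
  exact Groth.Agent.AlgSpLib.exists_scheme_of_thick X.property X'.property hi e
end Groth.Agent.S10584
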