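import Groth.Statements.S0118
import Groth.Agent.EtFound.TopInvGlue
import Groth.Agent.EtFound.LiftEtale
-- import your own Groth.Agent.* helpers here

set_option autoImplicit false
open CategoryTheory CategoryTheory.Limits AlgebraicGeometry Opposite
universe u
open EtBase

namespace Groth.Agent.S0118

/-- Base change to a closed subscheme with the same underlying space is an equivalence between the
categories of étale schemes over the two. -/
theorem result {S S₀ : Scheme.{u}} (i : S₀ ⟶ S) [IsClosedImmersion i] [Surjective i] :
    (EtCoh.bc i).IsEquivalence := by
  have := EtFound.bc_full i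
  have := EtFound.bc_faithful i
  have : (EtCoh.bc i).EssSurj := ⟨fun U => EtFound.essImage_of_local i U fun x => by
    have hU : AlgebraicGeometry.Etale U.hom := U.prop
    obtain ⟨V, h, hh, ho, hx⟩ := EtFound.exists_etale_lift i U.hom x
    exact ⟨V, MorphismProperty.Over.homMk h hh, ho, hx⟩⟩
  exact {}

end Groth.Agent.S0118
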