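import Groth.Statements.S10322
import Groth.Agent.AlgSpPts.Imm
import Groth.Agent.AlgSpLib.EtLocalInst
-- import your own Groth.Agent.* helpers here

set_option autoImplicit false
universe u
open CategoryTheory CategoryTheory.Limits AlgebraicGeometry
open AlgSp

namespace Groth.Agent.S10322

set_option backward.isDefEq.respectTransparency false
set_option backward.isDefEq.respectTransparency.types false

open AlgSp Groth.Agent.AlgSpLib Groth.Agent.AlgSpPts

/-- Unramified at a point implies quasi-finite at that point; an unramified morphism of algebraic spaces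
is locally quasi-finite. -/
theorem result {S : Scheme.{u}} {X Y : AlgSp.Space S} (f : X ⟶ Y) :
    (∀ x : AlgSp.Points X.obj, AlgSp.HasAtMor (fun U _ h u => ∃ W : U.Opens, u ∈ W ∧ LocallyOfFiniteType (W.ι ≫ h) ∧ FormallyUnramified (W.ι ≫ h)) f.hom x → AlgSp.HasAtMor (fun U _ h u => ∃ W : U.Opens, u ∈ W ∧ LocallyQuasiFinite (W.ι ≫ h) ∧ LocallyOfFiniteType (W.ι ≫ h)) f.hom x) ∧
    (AlgSp.LocP (@LocallyOfFiniteType ⊓ @FormallyUnramified) f.hom →
      AlgSp.LocP (@LocallyQuasiFinite ⊓ @LocallyOfFiniteType) f.hom) :=  by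
  refine ⟨fun x hx => ?_, fun h => locP_mono ?_ h⟩
  · obtain ⟨U, V, a, b, h, u, ha, hb, w, hu, W, huW, h1, h2⟩ := hx
    exact ⟨U, V, a, b, h, u, ha, hb, w, hu, W, huW, locallyQuasiFinite_of_formallyUnramified _, h1⟩
  · rintro A B g ⟨h1, h2⟩
    have : LocallyOfFiniteType g := h1
    have : FormallyUnramified g := h2
    exact ⟨locallyQuasiFinite_of_formallyUnramified g, h1⟩


end Groth.Agent.S10322
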