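import Groth.Statements.S10613
import Groth.Agent.S9938
import Groth.Agent.S10262
import Groth.Agent.S10322
import Groth.Agent.S10621
import Groth.Agent.AlgSpDec.LqfScheme

set_option backward.isDefEq.respectTransparency false
set_option backward.isDefEq.respectTransparency.types false
-- import your own Groth.Agent.* helpers here

set_option autoImplicit false
universe u
open CategoryTheory CategoryTheory.Limits AlgebraicGeometry
open AlgSp

namespace Groth.Agent.S10613

/-- For a morphism f : X ⟶ Y of algebraic spaces over S, these four conditions on f are equivalent: (a)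
unramified plus monomorphism; (b) unramified plus universally injective; (c) a monomorphism that is
locally of finite type; (d) universally injective, locally of finite type and formally unramified
(lifting sense). In that case f is representable by schemes, separated and locally quasi-finite.
(Unramified is the etale-local condition locally of finite type and formally unramified on charts;
monomorphisms are taken in fppf sheaves.) -/
theorem result {S : Scheme.{u}} {X Y : AlgSp.Space S} (f : X ⟶ Y) :
    ((AlgSp.LocP (@LocallyOfFiniteType ⊓ @FormallyUnramified) f.hom ∧ Mono f.hom) ↔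
      (AlgSp.LocP (@LocallyOfFiniteType ⊓ @FormallyUnramified) f.hom ∧ AlgSp.IsUnivInjectiveMor f.hom)) ∧
    ((AlgSp.LocP (@LocallyOfFiniteType ⊓ @FormallyUnramified) f.hom ∧ Mono f.hom) ↔
      (AlgSp.LocP @LocallyOfFiniteType f.hom ∧ Mono f.hom)) ∧
    ((AlgSp.LocP (@LocallyOfFiniteType ⊓ @FormallyUnramified) f.hom ∧ Mono f.hom) ↔
      (AlgSp.IsUnivInjectiveMor f.hom ∧ AlgSp.LocP @LocallyOfFiniteType f.hom ∧ AlgSp.IsFormallyUnramifiedMor f.hom)) ∧
    (AlgSp.LocP @LocallyOfFiniteType f.hom ∧ Mono f.hom →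
      AlgSp.Representable f.hom ∧ AlgSp.IsSeparatedMor f.hom ∧
        AlgSp.LocP (@LocallyQuasiFinite ⊓ @LocallyOfFiniteType) f.hom) :=  by

  have hmu : Mono f.hom → AlgSp.IsUnivInjectiveMor f.hom := fun h =>
    (Groth.Agent.S9938.result f).1.1 fun K _ str a b hab => (cancel_mono f.hom).1 hab
  have hdiag : Mono f.hom → IsIso (pullback.diagonal f.hom) := fun h => (pullback.isIso_diagonal_iff f.hom).2 h
  have hlm : AlgSp.LocP @LocallyOfFiniteType f.hom → Mono f.hom →
      AlgSp.LocP (@LocallyOfFiniteType ⊓ @FormallyUnramified) f.hom := fun h1 h2 => by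
    have := hdiag h2
    exact (Groth.Agent.S10262.result f).2 h1 (Groth.Agent.AlgSpLib.repWith_of_isIso _ _)
  have hum : AlgSp.LocP (@LocallyOfFiniteType ⊓ @FormallyUnramified) f.hom → AlgSp.IsUnivInjectiveMor f.hom →
      Mono f.hom := fun h1 h2 => by
    have hd := (Groth.Agent.S10262.result f).1 h1
    have hs := Groth.Agent.AlgSpLib.repWith_surjective_of_surjective hd.rep ((Groth.Agent.S9938.result f).2.1 h2)
    have he : AlgSp.RepWith @Etale (pullback.diagonal f.hom) :=
      Groth.Agent.AlgSpLib.repWith_mono (fun _ _ k (_ : IsOpenImmersion k) => inferInstanceAs (Etale k)) _ hd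
    have := Groth.Agent.AlgSpLib.isLocallySurjective_of_etale_surjective he hs
    have := Groth.Agent.AlgSpLib.isIso_of_mono_of_locallySurjective (pullback.diagonal f.hom)
    exact (pullback.isIso_diagonal_iff f.hom).1 inferInstance
  have hlft : AlgSp.LocP (@LocallyOfFiniteType ⊓ @FormallyUnramified) f.hom → AlgSp.LocP @LocallyOfFiniteType f.hom :=
    fun h _ _ a b k ha hb w => (h a b k ha hb w).1
  have hfu : AlgSp.LocP (@LocallyOfFiniteType ⊓ @FormallyUnramified) f.hom ↔
      AlgSp.LocP @LocallyOfFiniteType f.hom ∧ AlgSp.IsFormallyUnramifiedMor f.hom :=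
    ⟨fun h => ⟨hlft h, (Groth.Agent.S10621.result f).1.2 fun _ _ a b k ha hb w => (h a b k ha hb w).2⟩,
      fun h _ _ a b k ha hb w => ⟨h.1 a b k ha hb w, (Groth.Agent.S10621.result f).1.1 h.2 a b k ha hb w⟩⟩
  refine ⟨⟨fun h => ⟨h.1, hmu h.2⟩, fun h => ⟨h.1, hum h.1 h.2⟩⟩,
    ⟨fun h => ⟨hlft h.1, h.2⟩, fun h => ⟨hlm h.1 h.2, h.2⟩⟩,
    ⟨fun h => ⟨hmu h.2, hfu.1 h.1⟩, fun h => ⟨hfu.2 h.2, hum (hfu.2 h.2) h.1⟩⟩, fun ⟨h1, h2⟩ => ?_⟩
  have := hdiag h2
  have hs : AlgSp.IsSeparatedMor f.hom := Groth.Agent.AlgSpLib.repWith_of_isIso _ _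
  have hq := (Groth.Agent.S10322.result f).2 (hlm h1 h2)
  exact ⟨Groth.Agent.AlgSpDec.representable_of_lqf_separated X.property Y.property f.hom hq hs, hs, hq⟩
end Groth.Agent.S10613
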