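import Groth.Statements.S1381
import Groth.Agent.S1386

set_option autoImplicit false
universe u
open FlatMor

namespace Groth.Agent.S1381

open AlgebraicGeometry CategoryTheory CategoryTheory.Limits in
theorem isIso_residueFieldMap {S S' : Scheme.{u}} (iS : S ⟶ S') [IsClosedImmersion iS] (s : S) :
    IsIso (Spec.map (iS.residueFieldMap s)) := by
  have h : Function.Bijective (iS.residueFieldMap s).hom := by
    refine ⟨(iS.residueFieldMap s).hom.injective, fun z => ?_⟩
    obtain ⟨z, rfl⟩ := S.residue_surjective s z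
    obtain ⟨w, rfl⟩ := iS.stalkMap_surjective s z
    refine ⟨S'.residue (iS s) w, ?_⟩
    exact RingHom.congr_fun (congrArg CommRingCat.Hom.hom (Scheme.residue_residueFieldMap iS s)) w
  have : IsIso (iS.residueFieldMap s) := (ConcreteCategory.isIso_iff_bijective _).2 h
  infer_instance

open AlgebraicGeometry CategoryTheory Limits in
/-- Let S ⟶ S' be an arbitrary thickening, let X' ⟶ Y' be a morphism of schemes over S' with X' flat and
locally of finite presentation over S' and Y' locally of finite type over S', and let X ⟶ Y be its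
base change to S. Then X ⟶ Y is flat if and only if X' ⟶ Y' is. -/
theorem result {X X' Y Y' S S' : Scheme.{u}} (iX : X ⟶ X') (iY : Y ⟶ Y') (iS : S ⟶ S')
    (f : X ⟶ Y) (f' : X' ⟶ Y') (g : Y ⟶ S) (g' : Y' ⟶ S')
    (hS : MoreMor.IsThickening iS) (hcX : IsPullback iX (f ≫ g) (f' ≫ g') iS) (hcY : IsPullback iY g g' iS)
    (w : iX ≫ f' = f ≫ iY) [Flat (f' ≫ g')] [LocallyOfFinitePresentation (f' ≫ g')] [LocallyOfFiniteType g'] :
    Flat f ↔ Flat f' := by
  obtain ⟨hcl, hsurj⟩ := hS
  have sqf : IsPullback iX f f' iY := IsPullback.of_bot hcX w hcY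
  refine ⟨fun _ => ?_, fun h => MorphismProperty.of_isPullback (P := (@Flat : MorphismProperty Scheme.{u})) sqf h⟩
  refine Flat.of_stalkMap _ fun x' => ?_
  have : Surjective iX := MorphismProperty.of_isPullback (P := (@Surjective : MorphismProperty Scheme.{u})) hcX.flip hsurj
  obtain ⟨x, rfl⟩ := iX.surjective x'
  refine (((Groth.Agent.S1386.result f' g').1 (iX x)).1 ⟨Flat.stalkMap _ _, ?_⟩).2
  obtain ⟨eX, heX, hιX⟩ := Groth.Agent.ConsPropLib.exists_fibre_pullback hcX (g (f x))
  obtain ⟨eY, heY, hιY⟩ := Groth.Agent.ConsPropLib.exists_fibre_pullback hcY (g (f x))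
  have hiso := isIso_residueFieldMap iS (g (f x))
  have : IsIso eX := heX.isIso_fst_of_isIso
  have : IsIso eY := heY.isIso_fst_of_isIso
  have hcomm : eX ≫ MoreMor.fiberMap f' g' (iS (g (f x))) = MoreMor.fiberMap f g (g (f x)) ≫ eY := by
    apply pullback.hom_ext
    · change _ ≫ g'.fiberι _ = _ ≫ g'.fiberι _
      rw [Category.assoc, Category.assoc, Groth.Agent.ConsPropLib.fiberMap_comp_ι, reassoc_of% hιX, hιY,
        reassoc_of% Groth.Agent.ConsPropLib.fiberMap_comp_ι f g (g (f x)), w]
    · change _ ≫ g'.fiberToSpecResidueField _ = _ ≫ g'.fiberToSpecResidueField _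
      rw [Category.assoc, Category.assoc, Groth.Agent.ConsPropLib.fiberMap_comp_toSpec, heX.w, heY.w,
        reassoc_of% Groth.Agent.ConsPropLib.fiberMap_comp_toSpec f g (g (f x))]
  have : Flat (MoreMor.fiberMap f g (g (f x))) :=
    MorphismProperty.of_isPullback (P := (@Flat : MorphismProperty Scheme.{u}))
      (Groth.Agent.ConsPropLib.isPullback_fiberMap f g (g (f x))) inferInstance
  have key : ∀ s', iS (g (f x)) = s' → Flat (MoreMor.fiberMap f' g' s') := by
    rintro _ rfl
    rw [show MoreMor.fiberMap f' g' (iS (g (f x))) = inv eX ≫ MoreMor.fiberMap f g (g (f x)) ≫ eY from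
      (IsIso.eq_inv_comp eX).2 hcomm]
    infer_instance
  have e : iS (g (f x)) = g' (f' (iX x)) := by
    rw [← Scheme.Hom.comp_apply, ← Scheme.Hom.comp_apply, ← Scheme.Hom.comp_apply, ← Scheme.Hom.comp_apply]
    rw [hcX.w]
    simp
  have := key _ e
  exact Flat.stalkMap _ _

end Groth.Agent.S1381
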