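import Groth.Statements.S10193
import Groth.Agent.AlgSpDec.RedImage

set_option autoImplicit false
universe u
open CategoryTheory CategoryTheory.Limits AlgebraicGeometry Topology TopologicalSpace
open AlgSp

namespace Groth.Agent.S10193

set_option backward.isDefEq.respectTransparency false
set_option backward.isDefEq.respectTransparency.types false

/-- Let X, Y be algebraic spaces over a scheme S, i : Z ⟶ X a closed subspace (a morphism representable
by closed immersions) and assume Y is reduced. Then a morphism f : Y ⟶ X factors through Z if and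
only if |f|(|Y|) is contained in |Z|. -/
theorem result {S : Scheme.{u}} {X Y Z : AlgSp.Space S}
    (i : Z ⟶ X) (hi : AlgSp.RepWith @IsClosedImmersion i.hom) (hY : AlgSp.IsReducedSp Y.obj) (f : Y ⟶ X) :
    (∃ g : Y ⟶ Z, g ≫ i = f) ↔
      Set.range (AlgSp.Points.map f.hom) ⊆ Set.range (AlgSp.Points.map i.hom) := by
  constructor
  · rintro ⟨g, rfl⟩ _ ⟨y, rfl⟩
    exact ⟨AlgSp.Points.map g.hom y, (AlgSp.Points.map_comp _ _ _).symm⟩
  · intro h
    obtain ⟨g, hg⟩ := Groth.Agent.AlgSpDec.exists_factor_reduced hY f.hom hi h
    exact ⟨ObjectProperty.homMk g, ObjectProperty.hom_ext _ hg⟩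

end Groth.Agent.S10193
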