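import Groth.Statements.S10279
import Groth.Agent.AlgSpPts.Sep
-- import your own Groth.Agent.* helpers here

set_option autoImplicit false
universe u
open CategoryTheory CategoryTheory.Limits AlgebraicGeometry
open AlgSp

namespace Groth.Agent.S10279

set_option backward.isDefEq.respectTransparency false
set_option backward.isDefEq.respectTransparency.types false

open AlgSp Groth.Agent.AlgSpLib Groth.Agent.AlgSpPts

/-- The target of a surjective morphism over B from a space universally closed over B is universally
closed over B (hence proper over B as soon as it is also separated and of finite type over B, by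
definition). -/
theorem result {S : Scheme.{u}} {X Y B : AlgSp.Space S} (f : X ⟶ Y) (p : X ⟶ B)
    (q : Y ⟶ B) (comm : f ≫ q = p) (hp : AlgSp.IsUnivClosedMor p.hom) (hf : AlgSp.IsSurjectiveMor f.hom) :
    AlgSp.IsUnivClosedMor q.hom :=  by
  have hfq : f.hom ≫ q.hom = p.hom := congrArg (fun k : X ⟶ B => k.hom) comm
  intro W W' hW g fst snd sq
  have hW' : IsAlgSpace W' := isAlgSpace_of_isPullback sq Y.property hW B.property
  have sq₂ := IsPullback.of_hasPullback f.hom fst
  have sq₃ := sq₂.paste_vert sq
  rw [hfq] at sq₃
  have hcl : IsClosedMor (pullback.snd f.hom fst ≫ snd) := hp hW g _ _ sq₃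
  intro A hA
  have e : Points.map snd '' A = Points.map (pullback.snd f.hom fst ≫ snd) ''
      (Points.map (pullback.snd f.hom fst) ⁻¹' A) := by
    conv_lhs => rw [← Set.image_preimage_eq A (surjective_map_of_isPullback sq₂ hf)]
    rw [← Set.image_comp]
    exact Set.image_congr fun z _ => (Points.map_comp _ _ z).symm
  rw [e]
  exact hcl _ (hA.preimage (Points.continuous_map _))


end Groth.Agent.S10279
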