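import Groth.Statements.S9925
import Groth.Agent.AlgSpPts.UnivClosed
-- import your own Groth.Agent.* helpers here

set_option autoImplicit false
universe u
open CategoryTheory CategoryTheory.Limits AlgebraicGeometry
open AlgSp

namespace Groth.Agent.S9925

set_option backward.isDefEq.respectTransparency false
set_option backward.isDefEq.respectTransparency.types false

open AlgSp Groth.Agent.AlgSpLib Groth.Agent.AlgSpPts

/-- A universally closed morphism of algebraic spaces is quasi-compact. -/
theorem result {S : Scheme.{u}} {X Y : AlgSp.Space S} (f : X ⟶ Y)
    (hf : AlgSp.IsUnivClosedMor f.hom) : AlgSp.IsQuasiCompactMor f.hom :=  isQuasiCompactMor_of_univClosed X.property Y.property hf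


end Groth.Agent.S9925
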