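import Groth.Statements.S1125
import Groth.Agent.DescLib.ImmDescend

set_option autoImplicit false
set_option backward.isDefEq.respectTransparency false
set_option backward.isDefEq.respectTransparency.types false
open CategoryTheory CategoryTheory.Limits AlgebraicGeometry Opposite
universe u
open Desc

namespace Groth.Agent.S1125

/-- If the base change of a morphism along a flat, surjective morphism locally of finite presentation is
an immersion, then the morphism is an immersion. (Single-cover form of the fppf-local statement;
Zariski-locality on the target gives the covering form.) -/
theorem result :
    MorphismProperty.DescendsAlong (@IsImmersion : MorphismProperty Scheme.{u})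
      (@Surjective ⊓ @Flat ⊓ @LocallyOfFinitePresentation : MorphismProperty Scheme.{u}) := by
  refine MorphismProperty.DescendsAlong.mk' fun {X Y Z} f g _ hf h => ?_
  haveI : IsImmersion (pullback.fst f g) := h
  haveI := Groth.Agent.EtFound.fpqc_isClosedImmersion.{u}
  obtain ⟨⟨_, _⟩, _⟩ := id hf
  exact Groth.Agent.DescLib.isImmersion_of_pullback_fst (@Surjective ⊓ @Flat ⊓ @LocallyOfFinitePresentation) f g hf
    (Groth.Agent.DescLib.isLocallyClosed_of_preimage f f.isOpenMap f.surjective
      (by rw [← Scheme.Pullback.range_fst]; exact (pullback.fst f g).isLocallyClosed_range))

end Groth.Agent.S1125
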