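import Groth.Statements.S10659
import Groth.Agent.AlgSpLib.Rep

set_option backward.isDefEq.respectTransparency false
set_option backward.isDefEq.respectTransparency.types false
-- import your own Groth.Agent.* helpers here

set_option autoImplicit false
universe u
open CategoryTheory CategoryTheory.Limits AlgebraicGeometry
open AlgSp

namespace Groth.Agent.S10659

/-- For a property P of morphisms of schemes that is etale local on the target (local for the etale
precoverage) and a representable morphism f : X ⟶ Y of algebraic spaces over S: if for one scheme V
with a representable etale surjective b : h_V ⟶ Y and one pullback square of f along b with corner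
h_W the projection W ⟶ V has P, then f has P etale locally on the target in the representable sense,
i.e. every such projection along every etale h_V ⟶ Y has P. (The published statement also asserts
the converse direction and that, for X and Y representable, the condition is equivalent to f having
P; this row states only that one surjective etale chart suffices.) -/
theorem result {S : Scheme.{u}} (P : MorphismProperty Scheme.{u}) [P.IsLocalAtTarget Scheme.etalePrecoverage]
    {X Y : AlgSp.Space S} (f : X ⟶ Y) (hf : AlgSp.Representable f.hom)
    {V W : Over S} (b : (AlgSp.yon S).obj V ⟶ Y.obj) (hb1 : AlgSp.RepWith @Etale b) (hb2 : AlgSp.RepWith @Surjective b)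
    (fst : (AlgSp.yon S).obj W ⟶ X.obj) (snd : W ⟶ V)
    (sq : IsPullback fst ((AlgSp.yon S).map snd) f.hom b) (hP : P snd.left) :
    AlgSp.RepLocT P f.hom := by
  refine ⟨hf, fun V' W' b' fst' snd' hb' sq' => ?_⟩
  have hr : AlgSp.Representable b := hb1.rep
  let p := hr.fst' b'
  let q := hr.snd b'
  have hqe : Etale q.left := hb1.property_snd b'
  have hqs : Surjective q.left := hb2.property _ _ _ (hr.isPullback b')
  have hpe : Etale p.left := hb'.property _ _ _ (hr.isPullback' b').flip
  have sV := (IsPullback.of_hasPullback snd p)
  have sV' := (IsPullback.of_hasPullback snd' q)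
  have e₁ := (sV.map (AlgSp.yon S)).paste_horiz sq
  have e₂ := (sV'.map (AlgSp.yon S)).paste_horiz sq'
  have hpq : (AlgSp.yon S).map q ≫ b' = (AlgSp.yon S).map p ≫ b := (hr.isPullback' b').w.symm
  rw [hpq] at e₂
  let e := IsPullback.isoIsPullback _ _ e₂ e₁
  let e₀ := (AlgSp.yon S).preimageIso e
  have he : e₀.hom ≫ pullback.snd snd p = pullback.snd snd' q := (AlgSp.yon S).map_injective (by
    simp only [e₀, Functor.map_comp, Functor.preimageIso_hom, Functor.map_preimage]
    exact IsPullback.isoIsPullback_hom_snd _ _ _ _)
  have h1 : P (pullback.snd snd p).left := by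
    have s := sV.map (Over.forget S)
    let cov : Presieve V.left := Presieve.ofArrows (fun i : Option PUnit.{u+1} => i.casesOn V.left fun _ => (hr.pullback b').left)
      (fun i => match i with
        | none => 𝟙 V.left
        | some _ => p.left)
    have hcov : cov ∈ Scheme.etalePrecoverage V.left := by
      refine (Scheme.presieve₀_mem_precoverage_iff ⟨_, _, fun i : Option PUnit.{u+1} => (match i with
        | none => 𝟙 V.left
        | some _ => p.left : (i.casesOn V.left fun _ => (hr.pullback b').left) ⟶ V.left)⟩).2
        ⟨fun x => ⟨none, x, rfl⟩, ?_⟩
      rintro (_ | _)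
      · exact inferInstanceAs (Etale (𝟙 V.left))
      · exact hpe
    have := MorphismProperty.IsLocalAtTarget.pullbackSnd (P := P) hcov (Presieve.ofArrows.mk (some ⟨⟩)) hP
    exact (P.cancel_left_of_respectsIso s.isoPullback.hom _).2 this |> fun h => by simpa using h
  have h2 : P (pullback.snd snd' q).left := by
    rw [← he, Over.comp_left]
    have : IsIso e₀.hom.left := ((Over.forget S).mapIso e₀).isIso_hom
    exact (P.cancel_left_of_respectsIso _ _).2 h1
  have hq' : Presieve.singleton q.left ∈ Scheme.etalePrecoverage _ :=
    (Scheme.singleton_mem_precoverage_iff (P := @Etale) q.left).2 ⟨hqs.surj, hqe⟩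
  refine MorphismProperty.IsLocalAtTarget.of_forall_pullbackSnd (P := P) hq' ?_
  rintro U g _ ⟨⟩
  have s := sV'.map (Over.forget S)
  exact (P.cancel_left_of_respectsIso s.isoPullback.hom _).1 (by simpa using h2)
end Groth.Agent.S10659
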