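import Groth.Statements.S8654
import Groth.Agent.RegImmLib.Basic

set_option autoImplicit false
universe u
open CategoryTheory CategoryTheory.Limits AlgebraicGeometry
open RegImm

namespace Groth.Agent.S8654

/-- Let i : Y ⟶ X and j : Z ⟶ Y be Koszul-regular immersions (not necessarily closed). Then the
composite Z ⟶ X is a Koszul-regular immersion. -/
theorem result {X Y Z : Scheme.{u}} (i : Y ⟶ X) (j : Z ⟶ Y)
    (hi : RegImm.IsRegularImmersion .koszul i) (hj : RegImm.IsRegularImmersion .koszul j) :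
    RegImm.IsRegularImmersion .koszul (j ≫ i) := by
  haveI := hi.1
  haveI := hj.1
  refine ⟨inferInstance, fun z => ?_⟩
  obtain ⟨n, hn⟩ := (Groth.Agent.RegImmLib.isRegularImmersionAt_iff i (j z)).1 (hi.2 (j z))
  obtain ⟨m, hm⟩ := (Groth.Agent.RegImmLib.isRegularImmersionAt_iff j z).1 (hj.2 z)
  exact (Groth.Agent.RegImmLib.isRegularImmersionAt_iff _ z).2 ⟨n + m, hn.comp i j z hm⟩


end Groth.Agent.S8654
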