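import Groth.Statements.S8656
import Groth.Agent.KRegLib.Mor

set_option autoImplicit false
universe u
open CategoryTheory CategoryTheory.Limits AlgebraicGeometry
open Synt

namespace Groth.Agent.S8656

/-- Let f : X ⟶ Y be a local complete intersection morphism in the factorisation sense: every point of X
has an open neighbourhood on which f is locally of finite type and factors as a Koszul-regular
immersion followed by a smooth morphism. Let p : Z ⟶ Y be smooth and i : X ⟶ Z an immersion with i ≫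
p = f. Then i is a Koszul-regular immersion. -/
theorem result {X Y Z : Scheme.{u}} (f : X ⟶ Y) (hf : ∀ x : X, Synt.IsKoszulAt f x)
    (p : Z ⟶ Y) [Smooth p] (i : X ⟶ Z) [IsImmersion i] (h : i ≫ p = f) :
    RegImm.IsRegularImmersion .koszul i := by
  have hL := (KRegLib.forall_isKoszulAt_iff f).1 hf
  rw [HasRingHomProperty.iff_appLE (P := KRegLib.IsLCI'.{u})] at hL
  refine ⟨inferInstance, fun x => ?_⟩
  obtain ⟨V, hV, hxV, -⟩ := exists_isAffineOpen_mem_and_subset (U := ⊤) (x := p (i x)) trivial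
  obtain ⟨W, hW, hxW, hWV, hci⟩ := KRegLib.exists_affine_isClosedImmersion_restrict i x (p ⁻¹ᵁ V) hxV
  haveI := hci
  obtain ⟨hW', hWs⟩ := Groth.Agent.Synt29.surjective_app_of_isClosedImmersion_restrict i W hW
  have e : i ⁻¹ᵁ W ≤ f ⁻¹ᵁ V := by
    rw [← h]
    exact fun y hy => hWV hy
  letI : Algebra Γ(Y, V) Γ(Z, W) := (p.appLE V W hWV).hom.toAlgebra
  haveI : Algebra.Smooth Γ(Y, V) Γ(Z, W) := p.smooth_appLE hV hW hWV
  letI : Algebra Γ(Y, V) Γ(X, i ⁻¹ᵁ W) := (f.appLE V (i ⁻¹ᵁ W) e).hom.toAlgebra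
  let ψ : Γ(Z, W) →ₐ[Γ(Y, V)] Γ(X, i ⁻¹ᵁ W) := ⟨(i.app W).hom, fun a => by
    show (p.appLE V W hWV ≫ i.app W) a = _
    rw [Scheme.Hom.app_eq_appLE, Scheme.Hom.appLE_comp_appLE]
    subst h
    rfl⟩
  have hK := KRegLib.kReg_of_isLCI (A := Γ(Y, V)) (hL ⟨V, hV⟩ ⟨i ⁻¹ᵁ W, hW'⟩ e) ψ hWs
    (hW'.primeIdealOf ⟨x, hxW⟩).asIdeal
  have hc := congrArg PrimeSpectrum.asIdeal
    (IsAffineOpen.comap_primeIdealOf_appLE (f := i) W hW (i ⁻¹ᵁ W) hW' le_rfl hxW)
  rw [← Scheme.Hom.app_eq_appLE] at hc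
  obtain ⟨g, hg, hon⟩ := (show KRegLib.KReg (RingHom.ker (i.app W).hom) (hW.primeIdealOf ⟨i x, hxW⟩).asIdeal from
    hc ▸ hK).exists_on
  letI : Algebra Γ(Z, W) Γ(Z, Z.basicOpen g) := (Z.presheaf.map (homOfLE (Z.basicOpen_le g)).op).hom.toAlgebra
  haveI : IsLocalization.Away g Γ(Z, Z.basicOpen g) := hW.isLocalization_basicOpen g
  haveI : Module.Flat Γ(Z, W) Γ(Z, Z.basicOpen g) := IsLocalization.flat _ (Submonoid.powers g)
  obtain ⟨n, fs, hfs, hfI⟩ := hon Γ(Z, Z.basicOpen g) (IsLocalization.Away.algebraMap_isUnit g)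
  have hxg : i x ∈ Z.basicOpen g := by
    rw [← hW.fromSpec_image_basicOpen g]
    exact ⟨hW.primeIdealOf ⟨i x, hxW⟩, hg, hW.fromSpec_primeIdealOf _⟩
  refine ⟨⟨Z.basicOpen g, hW.basicOpen g⟩, hxg, KRegLib.isClosedImmersion_restrict_of_le i (Z.basicOpen_le g),
    List.ofFn fs, Groth.Agent.KoszulFlatLib.isKoszulRegularSeq_of_isExact hfs, ?_⟩
  rw [(KRegLib.app_basicOpen_props i hW hW' hWs g).2.2]
  refine hfI.trans ?_
  show _ = Ideal.span {y | y ∈ List.ofFn fs}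
  congr 1
  ext y
  simp [List.mem_ofFn]

end Groth.Agent.S8656
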