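import Groth.Statements.S6900
import Mathlib
import Groth.Agent.RingPO.MilnorSquare

set_option autoImplicit false
universe u
open TensorProduct
open EtAlg

namespace Groth.Agent.S6900

/-- Let `B' = B ×_A A'` be a fibre square of rings with `A' → A` surjective. Let `D` be a `B`-algebra
and `C'` an `A'`-algebra with a common base change `C = D ⊗_B A = C' ⊗_{A'} A`, and let `D' = D ×_C
C'` be the fibre product ring with its `B'`-algebra structure. Then `B' → D'` is of finite type
(resp. flat, resp. flat and of finite presentation, resp. smooth, resp. étale) if and only if `B →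
D` and `A' → C'` both are. -/
theorem result (B' B A' A : Type u) [CommRing B'] [CommRing B] [CommRing A'] [CommRing A]
    [Algebra B' B] [Algebra B' A'] [Algebra B A] [Algebra A' A] [Algebra B' A] [IsScalarTower B' B A] [IsScalarTower B' A' A]
    (hsq : EtMil.IsFibreSquare B' B A' A)
    (D' D C' C : Type u) [CommRing D'] [CommRing D] [CommRing C'] [CommRing C]
    [Algebra D' D] [Algebra D' C'] [Algebra D C] [Algebra C' C] [Algebra D' C] [IsScalarTower D' D C] [IsScalarTower D' C' C]
    (hsq' : EtMil.IsFibreSquare D' D C' C)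
    [Algebra B' D'] [Algebra B D] [Algebra A' C'] [Algebra A C]
    [Algebra B' D] [IsScalarTower B' B D] [IsScalarTower B' D' D]
    [Algebra B' C'] [IsScalarTower B' A' C'] [IsScalarTower B' D' C']
    [Algebra B C] [IsScalarTower B A C] [IsScalarTower B D C]
    [Algebra A' C] [IsScalarTower A' A C] [IsScalarTower A' C' C]
    [Algebra.IsPushout B D A C] [Algebra.IsPushout A' C' A C] :
    (Algebra.FiniteType B' D' ↔ Algebra.FiniteType B D ∧ Algebra.FiniteType A' C') ∧
    (Module.Flat B' D' ↔ Module.Flat B D ∧ Module.Flat A' C') ∧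
    (Module.Flat B' D' ∧ Algebra.FinitePresentation B' D' ↔
      (Module.Flat B D ∧ Algebra.FinitePresentation B D) ∧ (Module.Flat A' C' ∧ Algebra.FinitePresentation A' C')) ∧
    (Algebra.Smooth B' D' ↔ Algebra.Smooth B D ∧ Algebra.Smooth A' C') ∧
    (Algebra.Etale B' D' ↔ Algebra.Etale B D ∧ Algebra.Etale A' C') := by
  obtain ⟨h₁, h₂⟩ := RingPO.Milnor.isPushout_legs (B' := B') (B := B) (A' := A') (A := A)
    (D' := D') (D := D) (C' := C') (C := C) hsq hsq'
  let eB : B ⊗[B'] D' ≃ₐ[B] D := Algebra.IsPushout.equiv B' B D' D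
  let eA : A' ⊗[B'] D' ≃ₐ[A'] C' := Algebra.IsPushout.equiv B' A' D' C'
  refine ⟨⟨fun _ => ⟨Algebra.FiniteType.equiv inferInstance eB, Algebra.FiniteType.equiv inferInstance eA⟩, ?_⟩,
    ⟨fun _ => ⟨Module.Flat.of_linearEquiv eB.toLinearEquiv.symm, Module.Flat.of_linearEquiv eA.toLinearEquiv.symm⟩, ?_⟩,
    ⟨fun ⟨_, _⟩ => ⟨⟨Module.Flat.of_linearEquiv eB.toLinearEquiv.symm, Algebra.FinitePresentation.equiv eB⟩,
      ⟨Module.Flat.of_linearEquiv eA.toLinearEquiv.symm, Algebra.FinitePresentation.equiv eA⟩⟩, ?_⟩,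
    ⟨fun _ => ⟨Algebra.Smooth.of_equiv eB, Algebra.Smooth.of_equiv eA⟩, ?_⟩,
    ⟨fun _ => ⟨Algebra.Etale.of_equiv eB, Algebra.Etale.of_equiv eA⟩, ?_⟩⟩
  · rintro ⟨_, _⟩
    haveI := Algebra.FiniteType.equiv ‹Algebra.FiniteType B D› eB.symm
    haveI := Algebra.FiniteType.equiv ‹Algebra.FiniteType A' C'› eA.symm
    exact RingPO.Milnor.finiteType_of_pair hsq D'
  · rintro ⟨_, _⟩
    haveI : Module.Flat B (B ⊗[B'] D') := Module.Flat.of_linearEquiv eB.toLinearEquiv
    haveI : Module.Flat A' (A' ⊗[B'] D') := Module.Flat.of_linearEquiv eA.toLinearEquiv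
    exact Groth.Agent.EtMil7.flat_of_flat_baseChange_pair (P := D') hsq
  · rintro ⟨⟨_, _⟩, _, _⟩
    haveI : Module.Flat B (B ⊗[B'] D') := Module.Flat.of_linearEquiv eB.toLinearEquiv
    haveI : Module.Flat A' (A' ⊗[B'] D') := Module.Flat.of_linearEquiv eA.toLinearEquiv
    haveI := Algebra.FinitePresentation.equiv eB.symm
    haveI := Algebra.FinitePresentation.equiv eA.symm
    haveI : Module.Flat B' D' := Groth.Agent.EtMil7.flat_of_flat_baseChange_pair (P := D') hsq
    exact ⟨inferInstance, RingPO.Milnor.finitePresentation_of_pair hsq D'⟩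
  · rintro ⟨_, _⟩
    haveI := Algebra.Smooth.of_equiv eB.symm
    haveI := Algebra.Smooth.of_equiv eA.symm
    exact RingPO.Milnor.smooth_of_pair hsq D'
  · rintro ⟨_, _⟩
    haveI := Algebra.Etale.of_equiv eB.symm
    haveI := Algebra.Etale.of_equiv eA.symm
    exact RingPO.Milnor.etale_of_pair hsq D'

end Groth.Agent.S6900
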