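import Groth.Statements.S10002
import Groth.Agent.QCPush13.Main

set_option autoImplicit false
set_option backward.isDefEq.respectTransparency false
set_option backward.isDefEq.respectTransparency.types false
universe u
open CategoryTheory CategoryTheory.Limits AlgebraicGeometry Opposite
open AlgSp

namespace Groth.Agent.S10002

/-- For a morphism f : X ⟶ Y of algebraic spaces that is representable by schemes, quasi-compact and
quasi-separated, the direct image f_* carries quasi-coherent O_X-modules on the small etale site to
quasi-coherent O_Y-modules. (The published statement is for an arbitrary quasi-compact
quasi-separated morphism of algebraic spaces; the direct image functor between the small etale sites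
with scheme charts is available only for representable f, which is the case stated.) -/
theorem result {S : Scheme.{u}} {X Y : AlgSp.Space S} (f : X ⟶ Y)
    (hf : AlgSp.Representable f.hom) (hqc : AlgSp.IsQuasiCompactMor f.hom) (hqs : AlgSp.IsQuasiSeparatedMor f.hom)
    (F : AlgSp.ModEt X.obj) [F.IsQuasicoherent] :
    ((AlgSp.pushModEt hf).obj F).IsQuasicoherent := by
  exact QCPush13.isQuasicoherent_push F hqc hqs hf

end Groth.Agent.S10002
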