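import Groth.Statements.S6399
import Groth.Agent.FibBase.Fp

set_option autoImplicit false
set_option backward.isDefEq.respectTransparency false
set_option backward.isDefEq.respectTransparency.types false
open CategoryTheory
universe v u
open FibCat

namespace Groth.Agent.S6399

/-- A functor `G : 𝒳 ⟶ 𝒴` over `C` between categories fibred in groupoids is fully faithful if and only
if the diagonal `𝒳 ⟶ 𝒳 ×_𝒴 𝒳` is an equivalence over `C`. -/
theorem result {C : Type u} [Category.{v} C] {𝒳 𝒴 : BasedCategory.{v, max u v} C} (G : 𝒳 ⥤ᵇ 𝒴) (h𝒳 : FibCat.IsFibGrpd 𝒳.p) (h𝒴 : FibCat.IsFibGrpd 𝒴.p) :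
    (G.toFunctor.Full ∧ G.toFunctor.Faithful) ↔ FibCat.IsEquivOver (FibCat.diag G) := by
  constructor
  · rintro ⟨hfull, hfaith⟩
    refine FibBase.isEquivOver_of_exists_iso _ ⟨fun {x y} t => ?_⟩ ⟨fun {x y} f f' h => ?_⟩ fun η => ?_
    · have w : G.map t.hom.fst ≫ 𝟙 (G.obj y) = 𝟙 (G.obj x) ≫ G.map t.hom.snd := t.hom.w
      replace w := (Category.comp_id _).symm.trans (w.trans (Category.id_comp _))
      exact ⟨t.hom.fst, ObjectProperty.hom_ext _ (CategoryTheory.Limits.CategoricalPullback.hom_ext rfl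
        (G.toFunctor.map_injective w))⟩
    · exact congrArg (fun s => s.hom.fst) h
    · let c : η.obj.fst ≅ η.obj.snd := G.toFunctor.preimageIso η.obj.iso
      let e : (FibCat.diag G).obj η.obj.fst ≅ η :=
        (FibCat.fpProp G G).isoMk (CategoryTheory.Limits.CategoricalPullback.mkIso (Iso.refl _) c (by
          show G.map (𝟙 η.obj.fst) ≫ η.obj.iso.hom = 𝟙 _ ≫ G.map c.hom
          simp [c]))
      exact ⟨η.obj.fst, e, FibBase.fp_isHomLift (F := G) (G := G) (𝟙 _) _ (h := IsHomLift.id rfl)⟩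
  · intro h
    have hf := FibBase.full_of_isEquivOver h
    have hff : G.toFunctor.Faithful := by
      refine ⟨fun {x y} a b hab => ?_⟩
      let t : (FibCat.diag G).obj x ⟶ (FibCat.diag G).obj y := ObjectProperty.homMk ⟨a, b, by
        show G.map a ≫ 𝟙 _ = 𝟙 _ ≫ G.map b
        simp [hab]⟩
      obtain ⟨f, hf'⟩ := (FibCat.diag G).toFunctor.map_surjective t
      exact (congrArg (fun s => s.hom.fst) hf').symm.trans (congrArg (fun s => s.hom.snd) hf')
    refine ⟨⟨fun {x y} g => ?_⟩, hff⟩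
    have hfib := FibBase.isFibered_of_isFibGrpd h𝒳
    obtain ⟨x', φ, hφ⟩ := h𝒳.exists_lift (x := y) (eqToHom (G.w_obj x).symm ≫ 𝒴.p.map g ≫ eqToHom (G.w_obj y))
    have hGφ : 𝒴.p.IsHomLift (eqToHom (G.w_obj x).symm ≫ 𝒴.p.map g ≫ eqToHom (G.w_obj y)) (G.map φ) :=
      G.preserves_isHomLift _ φ
    have hg : 𝒴.p.IsHomLift (eqToHom (G.w_obj x).symm ≫ 𝒴.p.map g ≫ eqToHom (G.w_obj y)) g :=
      IsHomLift.of_fac' 𝒴.p _ g (G.w_obj x) (G.w_obj y) (by simp)
    obtain ⟨e, he, hee⟩ := FibBase.exists_iso_of_lifts (p := 𝒴.p)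
      (eqToHom (G.w_obj x).symm ≫ 𝒴.p.map g ≫ eqToHom (G.w_obj y)) (G.map φ) g
    let η : (FibCat.fp G G).obj := ⟨⟨x, x', e⟩, he⟩
    obtain ⟨x₀, E, hE⟩ := FibBase.exists_iso_over_of_isEquivOver h η rfl
    let a₁ : x₀ ≅ x := (FibCat.fpFst G G).toFunctor.mapIso E
    let a₂ : x₀ ≅ x' := (FibCat.fpSnd G G).toFunctor.mapIso E
    have w : G.map a₁.hom ≫ e.hom = 𝟙 (G.obj x₀) ≫ G.map a₂.hom := E.hom.hom.w
    refine ⟨a₁.inv ≫ a₂.hom ≫ φ, ?_⟩
    rw [G.toFunctor.map_comp, G.toFunctor.map_comp, ← hee]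
    rw [Category.id_comp] at w
    rw [← reassoc_of% w, ← G.toFunctor.map_comp_assoc, Iso.inv_hom_id, G.toFunctor.map_id]
    exact Category.id_comp _

end Groth.Agent.S6399
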