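import Groth.Statements.S1377
import Mathlib.AlgebraicGeometry.Normalization
import Mathlib.AlgebraicGeometry.IdealSheaf.Functorial
import Mathlib.AlgebraicGeometry.Morphisms.Integral

set_option autoImplicit false
universe u
open FlatMor

namespace Groth.Agent.S1377

open AlgebraicGeometry CategoryTheory Limits in
/-- Let S be a scheme, U ⊆ S an open subscheme whose inclusion U → S is quasi-compact (U retrocompact in
S), and V → U a surjective integral morphism. Then there are a scheme V' and a surjective integral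
morphism V' → S whose base change to U is V → U. (The published statement puts no condition on U,
and in that generality it is false: e.g. S = Spec ∏_i ℤ/4^i with U = D(2) ∪ ⋃_i D(e_i), e_i the
idempotents, and V equal to U except that over D(2) it is cut out by x = (2^i)_i. Stated here with U
→ S quasi-compact, under which hypothesis the published argument applies.) -/
theorem result {S V : Scheme.{u}} (U : S.Opens) [QuasiCompact U.ι]
    (v : V ⟶ (U : Scheme.{u})) [IsIntegralHom v] [Surjective v] :
    ∃ (V' : Scheme.{u}) (π : V' ⟶ S) (i : V ⟶ V'), Surjective π ∧ IsIntegralHom π ∧ IsPullback i v π U.ι := by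
  haveI : QuasiCompact (v ≫ U.ι) := inferInstance
  haveI : QuasiSeparated (v ≫ U.ι) := inferInstance
  haveI hfst : IsIso (pullback.fst (v ≫ U.ι) U.ι) := by
    refine ⟨pullback.lift (𝟙 V) v (by rw [Category.id_comp]), pullback.hom_ext
      (by rw [Category.assoc, pullback.lift_fst, Category.comp_id, Category.id_comp]) ?_, pullback.lift_fst _ _ _⟩
    rw [Category.assoc, pullback.lift_snd, Category.id_comp, ← cancel_mono U.ι]
    simpa using pullback.condition
  haveI : IsIntegralHom (pullback.snd (v ≫ U.ι) U.ι) := by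
    have h : pullback.snd (v ≫ U.ι) U.ι = pullback.fst (v ≫ U.ι) U.ι ≫ v := by
      rw [← cancel_mono U.ι, Category.assoc, ← pullback.condition]
    rw [h]; infer_instance
  let e : V ⟶ pullback (v ≫ U.ι).fromNormalization U.ι :=
    inv (pullback.fst (v ≫ U.ι) U.ι) ≫ (pullback.snd (v ≫ U.ι) U.ι).toNormalization ≫
      (v ≫ U.ι).normalizationPullback U.ι
  haveI : IsIso e := inferInstance
  have he : (v ≫ U.ι).toNormalization = e ≫ pullback.fst _ _ := by
    simp only [e, Category.assoc, Scheme.Hom.toNormalization_normalizationPullback_fst]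
    rw [IsIso.inv_hom_id_assoc]
  haveI : IsOpenImmersion (v ≫ U.ι).toNormalization := by rw [he]; infer_instance
  let Z := (Scheme.IdealSheafData.vanishingIdeal
    (⟨(U : Set S)ᶜ, U.2.isClosed_compl⟩ : TopologicalSpace.Closeds S))
  let π : (v ≫ U.ι).normalization ⨿ Z.subscheme ⟶ S :=
    coprod.desc (v ≫ U.ι).fromNormalization Z.subschemeι
  let i : V ⟶ (v ≫ U.ι).normalization ⨿ Z.subscheme := (v ≫ U.ι).toNormalization ≫ coprod.inl
  have hinl : ∀ y, π ((coprod.inl : _ ⟶ (v ≫ U.ι).normalization ⨿ Z.subscheme) y) =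
      (v ≫ U.ι).fromNormalization y := fun y => by
    rw [← Scheme.Hom.comp_apply, coprod.inl_desc]
  have hinr : ∀ y, π ((coprod.inr : _ ⟶ (v ≫ U.ι).normalization ⨿ Z.subscheme) y) = Z.subschemeι y :=
    fun y => by rw [← Scheme.Hom.comp_apply, coprod.inr_desc]
  have hZ : Set.range Z.subschemeι = (U : Set S)ᶜ := by
    rw [Scheme.IdealSheafData.range_subschemeι, Scheme.IdealSheafData.coe_support_vanishingIdeal]
    rfl
  have hcases : ∀ z : ((v ≫ U.ι).normalization ⨿ Z.subscheme : Scheme.{u}),
      (∃ y, (coprod.inl : _ ⟶ (v ≫ U.ι).normalization ⨿ Z.subscheme) y = z) ∨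
        ∃ y, (coprod.inr : _ ⟶ (v ≫ U.ι).normalization ⨿ Z.subscheme) y = z := fun z =>
    Set.eq_univ_iff_forall.1 (isCompl_range_inl_inr _ _).sup_eq_top z
  have htn : Set.range (v ≫ U.ι).toNormalization = (v ≫ U.ι).fromNormalization ⁻¹' (U : Set S) := by
    rw [← U.range_ι, ← Scheme.Pullback.range_fst (v ≫ U.ι).fromNormalization U.ι, he,
      Scheme.Hom.comp_base, TopCat.coe_comp, Set.range_comp,
      Function.Surjective.range_eq (show Function.Surjective e from (Scheme.homeoOfIso (asIso e)).surjective)]
    exact Set.image_univ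
  have hsurj : Surjective π := ⟨fun s => by
    by_cases hs : s ∈ U
    · obtain ⟨w, hw⟩ := v.surjective ⟨s, hs⟩
      exact ⟨i w, by
        rw [← Scheme.Hom.comp_apply, Category.assoc, coprod.inl_desc,
          Scheme.Hom.toNormalization_fromNormalization, Scheme.Hom.comp_apply, hw]
        rfl⟩
    · obtain ⟨y, hy⟩ : s ∈ Set.range Z.subschemeι := by rw [hZ]; exact hs
      exact ⟨_, (hinr y).trans hy⟩⟩
  have hi : IsOpenImmersion i := inferInstance
  refine ⟨_, π, i, hsurj, inferInstance, (IsOpenImmersion.isPullback v i U.ι π ?_ ?_).flip⟩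
  · rw [Category.assoc, coprod.inl_desc, Scheme.Hom.toNormalization_fromNormalization]
  · rw [Scheme.Opens.opensRange_ι]
    refine TopologicalSpace.Opens.ext (Set.ext fun z => ?_)
    change π z ∈ U ↔ z ∈ Set.range i
    constructor
    · intro hz
      rcases hcases z with ⟨y, rfl⟩ | ⟨y, rfl⟩
      · rw [hinl] at hz
        obtain ⟨w, rfl⟩ : y ∈ Set.range (v ≫ U.ι).toNormalization := by rw [htn]; exact hz
        exact ⟨w, Scheme.Hom.comp_apply _ _ w⟩
      · rw [hinr] at hz
        have : Z.subschemeι y ∈ (U : Set S)ᶜ := by rw [← hZ]; exact ⟨y, rfl⟩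
        exact absurd hz this
    · rintro ⟨w, rfl⟩
      rw [Scheme.Hom.comp_apply, hinl]
      have : (v ≫ U.ι).toNormalization w ∈ (v ≫ U.ι).fromNormalization ⁻¹' (U : Set S) := by
        rw [← htn]; exact ⟨w, rfl⟩
      exact this

end Groth.Agent.S1377
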