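import Groth.Statements.S1376
import Mathlib
import Groth.Agent.QCohAlg.FinFactor
import Groth.Agent.S1377

set_option autoImplicit false
universe u
open FlatMor

namespace Groth.Agent.S1376

open AlgebraicGeometry CategoryTheory Limits in
/-- Let S be quasi-compact and quasi-separated, U a quasi-compact open of S and V → U a surjective
finite morphism. Then there is a surjective finite morphism V' → S whose base change to U is V (V is
the fibre product of V' and U over S). -/
theorem result {S V : Scheme.{u}} [CompactSpace ↑S] [QuasiSeparatedSpace ↑S] (U : S.Opens) (hU : IsCompact (U : Set ↑S))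
    (v : V ⟶ (U : Scheme.{u})) [IsFinite v] [Surjective v] :
    ∃ (V' : Scheme.{u}) (π : V' ⟶ S) (i : V ⟶ V'), Surjective π ∧ IsFinite π ∧ IsPullback i v π U.ι := by
  haveI : QuasiCompact U.ι := Groth.Agent.QCoh.quasiCompact_ι_of_compact U hU
  obtain ⟨N, π, i, hπs, hπi, hpb⟩ := Groth.Agent.S1377.result U v
  haveI := hπi
  haveI : IsOpenImmersion i := MorphismProperty.of_isPullback hpb.flip inferInstance
  set W := π ⁻¹ᵁ U
  have hWc : IsCompact (W : Set N) := π.isCompact_preimage hU
  have hWr : Set.range W.ι = Set.range i := by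
    rw [Scheme.Opens.range_ι, ← hpb.isoPullback_hom_fst, Scheme.Hom.comp_base, TopCat.coe_comp,
      Set.range_comp, Set.range_eq_univ.mpr hpb.isoPullback.hom.surjective,
      Set.image_univ, Scheme.Pullback.range_fst, Scheme.Opens.range_ι]
    rfl
  haveI : LocallyOfFiniteType (W.ι ≫ π) := by
    rw [← morphismRestrict_ι]
    have h2 : IsPullback W.ι (π ∣_ U) π U.ι := (isPullback_morphismRestrict π U).flip
    haveI : IsFinite (π ∣_ U) := by
      rw [← (hpb.isoIsPullback _ _ h2).inv_hom_id_assoc (π ∣_ U), hpb.isoIsPullback_hom_snd]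
      infer_instance
    infer_instance
  obtain ⟨T, r, p, W', hp, hrp, hW, hiso, hsurj⟩ := Groth.Agent.QCohAlg.exists_finite_factor π W hWc
  haveI := hp
  haveI := hiso
  have hW' : p ⁻¹ᵁ U = W' := by
    refine TopologicalSpace.Opens.ext (Set.preimage_injective.2 hsurj ?_)
    show (r ≫ p) ⁻¹ᵁ U = (r ⁻¹ᵁ W' : Set N)
    rw [hW, hrp]
  have hps : Surjective p := by
    haveI : Surjective (r ≫ p) := by rw [hrp]; exact hπs
    exact Surjective.of_comp r p
  have ho : IsOpenImmersion (W.ι ≫ r) := by
    rw [← hW, ← morphismRestrict_ι]; infer_instance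
  have e : (IsOpenImmersion.isoOfRangeEq i W.ι hWr.symm).hom ≫ W.ι = i := IsOpenImmersion.isoOfRangeEq_hom_fac _ _ _
  haveI : IsOpenImmersion (i ≫ r) := by
    rw [← e, Category.assoc]
    exact MorphismProperty.RespectsIso.precomp (P := @IsOpenImmersion) _ _ ho
  refine ⟨T, p, i ≫ r, hps, hp, (IsOpenImmersion.isPullback v (i ≫ r) U.ι p ?_ ?_).flip⟩
  · rw [Category.assoc, hrp]; exact hpb.w
  · rw [Scheme.Opens.opensRange_ι, hW']
    refine TopologicalSpace.Opens.ext ?_
    show (W' : Set T) = Set.range (i ≫ r)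
    rw [Scheme.Hom.comp_base, TopCat.coe_comp, Set.range_comp, ← hWr, Scheme.Opens.range_ι]
    show (W' : Set T) = r '' (W : Set N)
    rw [← hW]
    exact (Set.image_preimage_eq _ hsurj).symm

end Groth.Agent.S1376
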