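import Groth.Statements.S4438
import Groth.Agent.NormAmpleX.LineNorm
import Groth.Agent.AmpleX.Comp

set_option autoImplicit false
universe u
open CategoryTheory CategoryTheory.Limits AlgebraicGeometry
open EGA2

namespace Groth.Agent.S4438

/-- In existence form: let f : X ⟶ Y be a quasi-compact morphism and g : X' ⟶ X a finite surjective
morphism such that the direct image of O_{X'} is a finite locally free O_X-module. Then there is an
invertible O_X-module ample relative to f if and only if there is an invertible O_{X'}-module ample
relative to f ∘ g. (For the descent direction the published statement names the module on X, the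
norm of the given one; this row asserts existence only. The other direction is the inverse image
along the affine morphism g.) -/
theorem result {X X' Y : Scheme.{u}} (f : X ⟶ Y) [QuasiCompact f]
    (g : X' ⟶ X) [IsFinite g] [Surjective g]
    (hfree : FlatMod.IsFinLocFree ((Coh.push g).obj (Coh.structureModule X'))) :
    (∃ L : X.Modules, PicF.IsInvertible L ∧ RelAmple.IsRelAmple f L) ↔
      ∃ L' : X'.Modules, PicF.IsInvertible L' ∧ RelAmple.IsRelAmple (g ≫ f) L' := by
  refine ⟨fun ⟨L, hL, h⟩ => ⟨(Scheme.Modules.pullback g).obj L, Groth.Agent.PicClLib.isInvertible_pullback g hL, ?_⟩,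
    fun ⟨L', hL', h⟩ => ?_⟩
  · refine Groth.Agent.AmpleX.isRelAmple_pullback_quasiAffine f g ⟨inferInstance, fun V hV => ?_⟩ h
    haveI : IsAffine (g ⁻¹ᵁ V : Scheme) := hV.preimage g
    infer_instance
  · obtain ⟨d⟩ := Groth.Agent.NormAmpleX.nonempty_mulNorm_of_locFree (g := g) hfree
    exact Groth.Agent.NormAmpleX.exists_isRelAmple_of_mulNorm d f h

end Groth.Agent.S4438
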