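import Groth.Statements.S4788
import Groth.Agent.FPEnough.Descend

set_option autoImplicit false
universe u
open CategoryTheory AlgebraicGeometry
open Lim8

namespace Groth.Agent.S4788

/-- Let S = lim S_i be a cofiltered limit of schemes with affine transition maps, some stage S_{i₀}
being quasi-compact and quasi-separated. Then every quasi-coherent O_S-module of finite presentation
F is isomorphic to the pullback along S ⟶ S_i of a quasi-coherent O_{S_i}-module of finite
presentation, for some index i over i₀ (only the existence of an isomorphism is asserted, as in the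
published statement). -/
theorem result {I : Type u} [SmallCategory I] [IsCofiltered I]
    (D : I ⥤ Scheme.{u}) (c : Limits.Cone D) (hc : Limits.IsLimit c)
    [∀ (i j : I) (f : i ⟶ j), IsAffineHom (D.map f)] (i₀ : I)
    [CompactSpace (D.obj i₀)] [QuasiSeparatedSpace (D.obj i₀)] (F : c.pt.Modules)
    [Coh.IsQCoh F] (hFfp : CohB1.IsFP F) :
    ∃ (i : I) (_ : i ⟶ i₀) (Fi : (D.obj i).Modules), Coh.IsQCoh Fi ∧ CohB1.IsFP Fi ∧
      Nonempty ((Scheme.Modules.pullback (c.π.app i)).obj Fi ≅ F) := by
  haveI : ∀ {a b : I} (r : a ⟶ b), IsAffineHom (D.map r) := fun {a b} r => ‹∀ (i j : I) (f : i ⟶ j), IsAffineHom (D.map f)› a b r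
  exact Groth.Agent.FPEnough.exists_module_descend hc (i := i₀) ‹Coh.IsQCoh F› hFfp

end Groth.Agent.S4788
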