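import Groth.Statements.S4790
import Groth.Agent.LimModLib.HomDescend
import Groth.Agent.LimModLib.FP
import Groth.Agent.FittX.Sheaf

set_option autoImplicit false
universe u
open CategoryTheory AlgebraicGeometry
open Lim8

namespace Groth.Agent.S4790

/-- Let S = lim S_i be a cofiltered limit of schemes with affine transition maps and S_{i₀} a
quasi-compact quasi-separated stage; let F₀ and G₀ be quasi-coherent O-modules of finite
presentation on S_{i₀}. Then the pullbacks of F₀ and G₀ along S ⟶ S_{i₀} are isomorphic if and only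
if, for some index j over i₀, their pullbacks along S_j ⟶ S_{i₀} are isomorphic. -/
theorem result {I : Type u} [SmallCategory I] [IsCofiltered I]
    (D : I ⥤ Scheme.{u}) (c : Limits.Cone D) (hc : Limits.IsLimit c)
    [∀ (i j : I) (f : i ⟶ j), IsAffineHom (D.map f)] (i₀ : I) [CompactSpace (D.obj i₀)]
    [QuasiSeparatedSpace (D.obj i₀)] (F₀ G₀ : (D.obj i₀).Modules)
    [Coh.IsQCoh F₀] (hF₀fp : CohB1.IsFP F₀)
    [Coh.IsQCoh G₀] (hG₀fp : CohB1.IsFP G₀) :
    Nonempty ((Scheme.Modules.pullback (c.π.app i₀)).obj F₀ ≅ (Scheme.Modules.pullback (c.π.app i₀)).obj G₀) ↔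
      ∃ (j : I) (φ : j ⟶ i₀),
        Nonempty ((Scheme.Modules.pullback (D.map φ)).obj F₀ ≅ (Scheme.Modules.pullback (D.map φ)).obj G₀) := by
  haveI : ∀ {i j : I} (f : i ⟶ j), IsAffineHom (D.map f) := fun {i j} f => inferInstance
  constructor
  · rintro ⟨h⟩
    obtain ⟨j, hj, e⟩ := Groth.Agent.LimModLib.exists_hom_descend hc ‹Coh.IsQCoh F₀› hF₀fp ‹Coh.IsQCoh G₀› h.hom
    let t := Scheme.Modules.pullbackComp (c.π.app j.left) (D.map j.hom) ≪≫ Scheme.Modules.pullbackCongr (c.w j.hom)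
    have hq : IsIso ((Scheme.Modules.pullback (c.π.app j.left)).map hj) := by
      have h1 : (t.app F₀).inv ≫ (Scheme.Modules.pullback (c.π.app j.left)).map hj ≫ (t.app G₀).hom = h.hom := e
      have : IsIso ((t.app F₀).inv ≫ (Scheme.Modules.pullback (c.π.app j.left)).map hj ≫ (t.app G₀).hom) := by
        rw [h1]; infer_instance
      have := (isIso_comp_left_iff (t.app F₀).inv _).1 this
      exact (isIso_comp_right_iff _ (t.app G₀).hom).1 this
    haveI : ∀ {a b : Over j.left} (r : a ⟶ b), IsAffineHom ((Over.forget j.left ⋙ D).map r) := fun r => by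
      show IsAffineHom (D.map r.left); infer_instance
    haveI : CompactSpace ((Over.forget j.left ⋙ D).obj (Over.mk (𝟙 j.left))) :=
      show CompactSpace (D.obj j.left) from QuasiCompact.compactSpace_of_compactSpace (D.map j.hom)
    obtain ⟨k, r, hk⟩ := (Groth.Agent.LimModLib.isIso_map_iff_eventually (D := Over.forget j.left ⋙ D)
      (c := c.whisker (Over.forget j.left))
      ((Functor.Initial.isLimitWhiskerEquiv (Over.forget j.left) c).symm hc) (i := Over.mk (𝟙 j.left))
      (Groth.Agent.QCoh.isQCoh_pullback (D.map j.hom) ‹Coh.IsQCoh F₀›)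
      (Groth.Agent.FittX.isFT_pullback (D.map j.hom) ‹Coh.IsQCoh F₀›
        (Groth.Agent.LimModLib.isFT_of_isFP ‹Coh.IsQCoh F₀› hF₀fp))
      (Groth.Agent.QCoh.isQCoh_pullback (D.map j.hom) ‹Coh.IsQCoh G₀›)
      (Groth.Agent.LimModLib.isFP_pullback (D.map j.hom) ‹Coh.IsQCoh G₀› hG₀fp) hj).1 hq
    refine ⟨k.left, r.left ≫ j.hom, ⟨?_⟩⟩
    let t' := Scheme.Modules.pullbackComp (D.map r.left) (D.map j.hom) ≪≫
      Scheme.Modules.pullbackCongr (D.map_comp r.left j.hom).symm
    haveI : IsIso ((Scheme.Modules.pullback (D.map r.left)).map hj) := hk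
    exact (t'.app F₀).symm ≪≫ asIso ((Scheme.Modules.pullback (D.map r.left)).map hj) ≪≫ t'.app G₀
  · rintro ⟨j, φ, ⟨h⟩⟩
    let t := Scheme.Modules.pullbackComp (c.π.app j) (D.map φ) ≪≫ Scheme.Modules.pullbackCongr (c.w φ)
    exact ⟨(t.app F₀).symm ≪≫ (Scheme.Modules.pullback (c.π.app j)).mapIso h ≪≫ t.app G₀⟩

end Groth.Agent.S4790
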