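import Groth.Statements.S1500
import Groth.Agent.Lib.AVAmple
import Groth.Agent.S8914
import Groth.Agent.H23.PicInv
import Groth.Agent.AmpleX.Separated
import Groth.Agent.AmpleX.ExtendQS
-- import your own Groth.Agent.* helpers here

set_option autoImplicit false
set_option backward.isDefEq.respectTransparency false
set_option backward.isDefEq.respectTransparency.types false
set_option maxHeartbeats 800000
universe u
open FlatMor
open Groth.Agent.H23.PicMul

namespace Groth.Agent.S1500

open AlgebraicGeometry CategoryTheory Limits in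
theorem exists_boundary {X : Scheme.{u}} (I : X.IdealSheafData) (hI : BlowUp.IsEffCartierIdeal I) :
    ∃ (M : X.Modules), PicF.IsInvertible M ∧ ∃ s : Γ(M, ⊤),
      Groth.Agent.AmpleX.locus s = I.support.compl := by
  obtain ⟨M, hM, ⟨π⟩⟩ := Groth.Agent.H23.PicInv.exists_inverse ((Groth.Agent.S8914.result I).2 hI)
  have hMI : ClSub.IsInverseOf M (ClSub.idealMod I) :=
    cl_eq_iff.1 (show PicF.cl (CohB1.tensorMod M (ClSub.idealMod I)) = PicF.cl (Coh.structureModule X) by
      rw [cl_tensor, mul_comm, ← cl_tensor]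
      exact cl_eq_iff.2 ⟨π⟩)
  obtain ⟨s, hs⟩ := Groth.Agent.AVAmple.exists_divisor_section I hI hM hMI
  refine ⟨M, hM, s, TopologicalSpace.Opens.ext (Set.ext fun x => ?_)⟩
  have hTA : Groth.Agent.H23.TrivBasic.locus s = Groth.Agent.AmpleX.locus s := by
    have h := Groth.Agent.AmpleX.genLocus_eq_locus (Groth.Agent.InvX.ofSect s)
    rw [Groth.Agent.InvX.one_ofSect] at h
    exact h
  rw [SetLike.mem_coe, ← hTA, hs x]
  rfl

open AlgebraicGeometry CategoryTheory Limits in
/-- Let D_1, …, D_m be effective Cartier divisors on X (ideal sheaves locally generated by a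
nonzerodivisor) with empty common support, and L_1, …, L_m invertible O_X-modules with L_i ample on
the open complement of D_i. Then X has an ample family of invertible modules. -/
theorem result {X : Scheme.{u}} {m : ℕ} (D : Fin m → X.IdealSheafData)
    (hD : ∀ i, BlowUp.IsEffCartierIdeal (D i)) (hcap : ⋂ i, ((D i).support : Set ↑X) = ∅)
    (L : Fin m → X.Modules) (hL : ∀ i, PicF.IsInvertible (L i)) (hamp : ∀ i, CohB1.IsAmple ((L i).restrict (Scheme.Opens.ι (D i).support.compl))) :
    MoreMor.HasAmpleFamily X := by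
  classical
  let U : Fin m → X.Opens := fun i => (D i).support.compl
  have hcov : ∀ x : X, ∃ i, x ∈ U i := fun x => by
    by_contra h
    push Not at h
    have hx : x ∈ ⋂ i, ((D i).support : Set ↑X) := Set.mem_iInter.2 fun i => not_not.1 (h i)
    rw [hcap] at hx
    exact hx
  choose M hM b hb using fun i => exists_boundary (D i) (hD i)
  have hb' : ∀ i, CohB1.genLocus (M i) (Groth.Agent.InvX.ofSect (b i)) = U i := fun i => by
    rw [Groth.Agent.AmpleX.genLocus_eq_locus, Groth.Agent.InvX.one_ofSect]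
    exact hb i
  have hcomp : ∀ i, IsCompact (U i : Set X) := fun i =>
    isCompact_iff_compactSpace.mpr (hamp i).2.1
  haveI : CompactSpace X := ⟨by
    rw [show (Set.univ : Set X) = ⋃ i, (U i : Set X) from
      (Set.eq_univ_of_forall fun x => Set.mem_iUnion.2 (hcov x)).symm]
    exact isCompact_iUnion hcomp⟩
  haveI : QuasiSeparatedSpace X := by
    refine quasiSeparatedSpace_iff_forall_affineOpens.mpr fun V W => ?_
    have hVW : ((V.1 : Set X) ∩ W.1) = ⋃ i, ((V.1 ⊓ U i) ⊓ (W.1 ⊓ U i) : X.Opens).1 := by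
      ext x
      simp only [Set.mem_iUnion]
      exact ⟨fun h => (hcov x).imp fun i hi => ⟨⟨h.1, hi⟩, h.2, hi⟩, fun ⟨i, h⟩ => ⟨h.1.1, h.2.1⟩⟩
    rw [hVW]
    refine isCompact_iUnion fun i => ?_
    haveI hsep : (Scheme.Opens.toScheme (U i)).IsSeparated := Groth.Agent.AmpleX.isSeparated_of_isAmple (hamp i)
    haveI : IsAffineHom (Scheme.Opens.ι (U i)) :=
      hb' i ▸ Groth.Agent.InvX.isAffineHom_genLocus_ι (hM i) _
    have key : ∀ A : X.affineOpens, IsAffineOpen ((Scheme.Opens.ι (U i)) ⁻¹ᵁ A.1) := fun A => A.2.preimage _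
    have h3 := ((key V).inf (key W)).image_of_isOpenImmersion (Scheme.Opens.ι (U i))
    have h4 : (Scheme.Opens.ι (U i)) ''ᵁ ((Scheme.Opens.ι (U i)) ⁻¹ᵁ V.1 ⊓ (Scheme.Opens.ι (U i)) ⁻¹ᵁ W.1) =
        (V.1 ⊓ U i) ⊓ (W.1 ⊓ U i) := by
      rw [← Scheme.Hom.preimage_inf, Scheme.Hom.image_preimage_eq_opensRange_inf, Scheme.Opens.opensRange_ι,
        ← inf_inf_distrib_right, inf_comm]
    rw [h4] at h3
    exact h3.isCompact
  refine ⟨inferInstance, fun x => ?_⟩
  obtain ⟨i, hxi⟩ := hcov x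
  let P := M i
  let s' : Coh.structureModule X ⟶ P := Groth.Agent.InvX.ofSect (b i)
  have hG : CohB1.genLocus P s' = U i := hb' i
  obtain ⟨n, -, a, hxa, -, haaff⟩ := Groth.Agent.AmpleX.exists_locus_le (L := L i) (Scheme.Opens.ι (U i))
    (hamp i) (x := x) (by rw [Scheme.Opens.ι_image_top]; exact hxi) (U := ⊤) trivial
  have hA : PicF.IsInvertible (CohB1.tensorPow (L i) n) := Groth.Agent.InvX.isInvertible_tensorPow (hL i) n
  let a' : Γ(CohB1.tensorPow (L i) n, CohB1.genLocus P s') :=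
    Groth.Agent.AModX.res _ (hG.le.trans (Scheme.Opens.ι_image_top (U i)).ge) a
  have hla : Groth.Agent.AmpleX.locus a' = Groth.Agent.AmpleX.locus a := by
    rw [Groth.Agent.AmpleX.locus_res, inf_eq_left.2]
    exact (Groth.Agent.AmpleX.locus_le a).trans ((Scheme.Opens.ι_image_top (U i)).le.trans hG.ge)
  obtain ⟨N, hN⟩ := Groth.Agent.AmpleX.exists_extend'
    (Groth.Agent.ProjUPX.isQCoh_of_isInvertible hA) (hM i) s' a'
  obtain ⟨T, hT⟩ := hN N le_rfl
  have hfr := Groth.Agent.AmpleX.isFrame_res_of_le (Groth.Agent.InvX.one s')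
    (Groth.Agent.AmpleX.genLocus_eq_locus s').le
  have hPN := Groth.Agent.InvX.isInvertible_tensorPow (hM i) N
  have h1 : Groth.Agent.AmpleX.locus T ⊓ CohB1.genLocus P s' = Groth.Agent.AmpleX.locus a := by
    have h2 := congrArg Groth.Agent.AmpleX.locus hT
    rw [Groth.Agent.AmpleX.locus_res, Groth.Agent.AmpleX.locus_tmul hA hPN] at h2
    rw [h2, ← hla]
    refine inf_eq_left.2 ((Groth.Agent.AmpleX.locus_le _).trans (Groth.Agent.AmpleX.le_locus _ le_rfl ?_))
    rw [Groth.Agent.AModX.res_self]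
    exact Groth.Agent.AmpleX.isFrame_powElt hfr N
  let Q := CohB1.tensorMod (CohB1.tensorMod (CohB1.tensorPow (L i) n) (CohB1.tensorPow P N)) P
  have hQ : PicF.IsInvertible Q := Groth.Agent.H23.PicMul.isInvertible_tensor
    (Groth.Agent.H23.PicMul.isInvertible_tensor hA hPN) (hM i)
  obtain ⟨c, hc⟩ := Groth.Agent.AmpleX.exists_locus_cl (N := CohB1.tensorPow Q 1)
    (show PicF.cl Q = _ by rw [Groth.Agent.H23.PicMul.cl_tensorPow, pow_one])
    (Groth.Agent.InvX.tmul T (b i) : Γ(Q, ⊤))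
  have h4 : CohB1.genLocus _ (Groth.Agent.InvX.ofSect c) = Groth.Agent.AmpleX.locus a := by
    rw [Groth.Agent.AmpleX.genLocus_eq_locus, Groth.Agent.InvX.one_ofSect, hc,
      Groth.Agent.AmpleX.locus_tmul (Groth.Agent.H23.PicMul.isInvertible_tensor hA hPN) (hM i), ← h1]
    congr 1
    exact (hb i).trans hG.symm
  exact ⟨Q, 1, Groth.Agent.InvX.ofSect c, hQ, le_rfl, h4.ge hxa, h4 ▸ haaff⟩

end Groth.Agent.S1500
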