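import Groth.Statements.S9823
import Groth.Agent.MorLib.IdealFG2

set_option autoImplicit false
universe u
open CategoryTheory CategoryTheory.Limits AlgebraicGeometry TopologicalSpace Opposite
open Props

namespace Groth.Agent.S9823

/-- In a quasi-compact quasi-separated scheme, an open subset is quasi-compact exactly when its
complement is the support of some quasi-coherent ideal sheaf of finite type. -/
theorem result (X : Scheme.{u}) [CompactSpace X] [QuasiSeparatedSpace X]
    (U : X.Opens) :
    IsCompact (U : Set X) ↔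
      ∃ I : X.IdealSheafData, (∀ V : X.affineOpens, (I.ideal V).FG) ∧ (I.support : Set X) = (U : Set X)ᶜ := by
  classical
  refine ⟨fun hU => ?_, fun ⟨I, hfg, hI⟩ => ?_⟩
  · let Z : TopologicalSpace.Closeds X := ⟨(U : Set X)ᶜ, U.2.isClosed_compl⟩
    let J := Scheme.IdealSheafData.vanishingIdeal Z
    have hJ : (J.support : Set X) ⊆ (U : Set X)ᶜ := by
      intro x hx hxU
      have hsupp : (J.support : Set X) = (Z : Set X) := by simp [J]
      exact (hsupp.le hx) hxU
    have hpt : ∀ x : U, ∃ (V : X.affineOpens) (s : Γ(X, V.1)), s ∈ J.ideal V ∧ (x : X) ∈ X.basicOpen s := by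
      intro x
      obtain ⟨V, hV, hxV, -⟩ := exists_isAffineOpen_mem_and_subset (X := X) (x := x.1) (U := ⊤) trivial
      by_contra hne
      push_neg at hne
      refine hJ ((Scheme.IdealSheafData.mem_support_iff_of_mem (U := ⟨V, hV⟩) hxV).mpr ?_) x.2
      exact (Scheme.mem_zeroLocus_iff _ _ _).mpr fun s hs => hne ⟨V, hV⟩ s hs
    choose V s hs hxs using hpt
    obtain ⟨t, ht⟩ := hU.elim_finite_subcover (fun x : U => (X.basicOpen (s x) : Set X))
      (fun x => (X.basicOpen (s x)).2) (fun x hx => Set.mem_iUnion.mpr ⟨⟨x, hx⟩, hxs ⟨x, hx⟩⟩)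
    choose K hK using fun x : U => Groth.Agent.MorLib.IdealFG.exists_sub_mem J (V x) (hs x)
    obtain ⟨M, hM⟩ := Finset.exists_le (α := Groth.Agent.MorLib.IdealFG.Sub J) (t.image K)
    refine ⟨M.1, M.2.2, Set.Subset.antisymm (fun x hx hxU => ?_) ?_⟩
    · obtain ⟨y, hy, hxy⟩ := Set.mem_iUnion₂.mp (ht hxU)
      have hxV : x ∈ (V y).1 := X.basicOpen_le _ hxy
      have hz := (Scheme.IdealSheafData.mem_support_iff_of_mem (U := V y) hxV).mp hx
      exact (Scheme.mem_zeroLocus_iff _ _ _).mp hz (s y)
        (Scheme.IdealSheafData.ideal_mono ((hM (K y) (Finset.mem_image_of_mem K hy)) : (K y).1 ≤ M.1) (V y) (hK y)) hxy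
    · exact (Scheme.IdealSheafData.le_support_iff_le_vanishingIdeal (Z := Z)).mpr M.2.1
  · obtain ⟨s, hs, hcov⟩ := isCompact_iff_finite_and_eq_biUnion_affineOpens.mp
      (show IsCompact ((⊤ : X.Opens) : Set X) from isCompact_univ)
    have key : ∀ V : X.affineOpens, IsCompact ((U : Set X) ∩ (V.1 : Set X)) := by
      intro V
      obtain ⟨g, hg⟩ := hfg V
      have : (U : Set X) ∩ (V.1 : Set X) = ⋃ r ∈ g, (X.basicOpen r : Set X) := by
        ext x
        constructor
        · rintro ⟨hxU, hxV⟩
          have hx : x ∉ I.support := fun h => (hI.le h) hxU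
          rw [Scheme.IdealSheafData.mem_support_iff_of_mem (U := V) hxV, Scheme.mem_zeroLocus_iff] at hx
          by_contra hx'
          simp only [Set.mem_iUnion, not_exists] at hx'
          refine hx fun r hr => ?_
          change r ∈ I.ideal V at hr
          rw [← hg] at hr
          intro hxr
          rw [X.mem_basicOpen r x hxV] at hxr
          have hle : Ideal.span (g : Set Γ(X, V.1)) ≤ (IsLocalRing.maximalIdeal (X.presheaf.stalk x)).comap (X.presheaf.germ V.1 x hxV).hom :=
            Ideal.span_le.mpr fun r' hr' => (IsLocalRing.mem_maximalIdeal _).mpr fun hu => hx' r' hr' ((X.mem_basicOpen r' x hxV).mpr hu)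
          exact (IsLocalRing.mem_maximalIdeal _).mp (hle hr) hxr
        · intro hx
          obtain ⟨r, hr, hxr⟩ := Set.mem_iUnion₂.mp hx
          refine ⟨by_contra fun hxU => ?_, X.basicOpen_le r hxr⟩
          have hz := (Scheme.IdealSheafData.mem_support_iff_of_mem (U := V) (X.basicOpen_le r hxr)).mp (hI.ge hxU)
          exact (Scheme.mem_zeroLocus_iff _ _ _).mp hz r (hg.le (Ideal.subset_span hr)) hxr
      rw [this]
      exact g.finite_toSet.isCompact_biUnion fun r _ => (V.2.basicOpen r).isCompact
    have hUeq : (U : Set X) = ⋃ V ∈ s, (U : Set X) ∩ (V.1 : Set X) := by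
      rw [← Set.inter_iUnion₂]
      refine (Set.inter_eq_left.mpr fun x _ => ?_).symm
      have hx : x ∈ (⊤ : X.Opens) := trivial
      rw [hcov] at hx
      simpa using hx
    rw [hUeq]
    exact hs.isCompact_biUnion fun V _ => key V

end Groth.Agent.S9823
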