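import Groth.Statements.S7390
import Groth.Agent.AmpleX.Basis
-- import your own Groth.Agent.* helpers here

set_option autoImplicit false
set_option backward.isDefEq.respectTransparency false
set_option backward.isDefEq.respectTransparency.types false
universe u
open CategoryTheory AlgebraicGeometry
open Mor

namespace Groth.Agent.S7390

/-- Let `X` be a scheme such that every point lies in some affine open `X_s`, the locus where a global
section `s` generates an invertible `O_X`-module `L` (both depending on the point). Then the
diagonal of `X` is an affine morphism. -/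
theorem result (X : Scheme.{u})
    (h : ∀ x : X, ∃ (L : X.Modules) (s : Coh.structureModule X ⟶ L), PicF.IsInvertible L ∧
      x ∈ CohB1.genLocus L s ∧ IsAffineOpen (CohB1.genLocus L s)) :
    IsAffineHom (Limits.pullback.diagonal (Limits.terminal.from X)) := by
  rw [isAffineHom_diagonal_iff]
  intro W _ U _ V _ hU hV
  choose L s hL hxs haff using h
  haveI : IsAffineHom (Scheme.Opens.ι U) := by
    refine isAffineHom_of_forall_exists_isAffineOpen _ fun x => ⟨CohB1.genLocus (L x) (s x), hxs x, haff x, ?_⟩
    rw [← Scheme.Hom.isAffineOpen_iff_of_isOpenImmersion (Scheme.Opens.ι U),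
      Scheme.Hom.image_preimage_eq_opensRange_inf, Scheme.Opens.opensRange_ι]
    exact Groth.Agent.AmpleX.isAffineOpen_inf_genLocus (hL x) hU (s x)
  have h2 := (hV.preimage (Scheme.Opens.ι U)).image_of_isOpenImmersion (Scheme.Opens.ι U)
  rwa [Scheme.Hom.image_preimage_eq_opensRange_inf, Scheme.Opens.opensRange_ι] at h2

end Groth.Agent.S7390
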