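import Groth.Statements.S7184
import Groth.Agent.S7390
import Groth.Agent.AmpleX.Comp
import Groth.Agent.AmpleX.ExtendQS
-- import your own Groth.Agent.* helpers here

set_option autoImplicit false
set_option backward.isDefEq.respectTransparency false
set_option backward.isDefEq.respectTransparency.types false
universe u
open FlatMor
open Groth.Agent.H23.PicMul

namespace Groth.Agent.S7184

open AlgebraicGeometry CategoryTheory Limits in
/-- If f : X → Y is affine or quasi-affine and Y has an ample family of invertible modules, then X has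
an ample family of invertible modules. -/
theorem result {X Y : Scheme.{u}} (f : X ⟶ Y) (hf : IsAffineHom f ∨ Mor2.IsQuasiAffine f)
    (hY : MoreMor.HasAmpleFamily Y) : MoreMor.HasAmpleFamily X := by
  obtain ⟨hYc, hY'⟩ := hY
  have hq : Mor2.IsQuasiAffine f := hf.elim (fun h => ⟨inferInstance, fun V hV =>
    haveI : IsAffine (f ⁻¹ᵁ V : Scheme.{u}) := hV.preimage f
    inferInstance⟩) id
  haveI := hq.1
  haveI : IsSeparated f := Groth.Agent.AmpleX.isSeparated_of_ampleOn fun x =>
    Groth.Agent.AmpleX.ampleOn_of_isRelAmple ((Groth.Agent.AmpleX.isQuasiAffine_iff_isRelAmple f).1 hq) (f x)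
  have hd := Groth.Agent.S7390.result Y (fun y => by
    obtain ⟨L, n, s, hL, -, hy, ha⟩ := hY' y
    exact ⟨CohB1.tensorPow L n, s, Groth.Agent.InvX.isInvertible_tensorPow hL n, hy, ha⟩)
  haveI : QuasiSeparatedSpace Y := by
    haveI := hd
    rw [quasiSeparatedSpace_iff_quasiSeparated]
    exact ⟨inferInstance⟩
  haveI : CompactSpace Y := hYc
  haveI : CompactSpace X := QuasiCompact.compactSpace_of_compactSpace f
  haveI : QuasiSeparatedSpace X := quasiSeparatedSpace_of_quasiSeparated f
  refine ⟨inferInstance, fun x => ?_⟩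
  obtain ⟨L, n, s, hL, hn, hy, ha⟩ := hY' (f x)
  have hM : PicF.IsInvertible ((Scheme.Modules.pullback f).obj L) :=
    Groth.Agent.PicClLib.isInvertible_pullback f hL
  obtain ⟨b, hb⟩ := Groth.Agent.AmpleX.exists_pull_section hL f (U := ⊤) (Groth.Agent.InvX.one s)
  rw [← Groth.Agent.AmpleX.genLocus_eq_locus] at hb
  let P := CohB1.tensorPow ((Scheme.Modules.pullback f).obj L) n
  have hP : PicF.IsInvertible P := Groth.Agent.InvX.isInvertible_tensorPow hM n
  let b₀ : Γ(P, ⊤) := b
  let s' : Coh.structureModule X ⟶ P := Groth.Agent.InvX.ofSect b₀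
  have hG : CohB1.genLocus P s' = f ⁻¹ᵁ CohB1.genLocus (CohB1.tensorPow L n) s := by
    rw [Groth.Agent.AmpleX.genLocus_eq_locus, Groth.Agent.InvX.one_ofSect]
    exact hb
  obtain ⟨-, hr⟩ := (Groth.Agent.AmpleX.qa_opens_iff _).1 (hG ▸ hq.2 _ ha)
  obtain ⟨r, hra, hxr⟩ := hr x (hG.ge hy)
  obtain ⟨N, hN⟩ := Groth.Agent.AmpleX.exists_extend' (M := Coh.structureModule X)
    (Groth.Agent.AmpleX.isQCoh_one X) hP s' r
  obtain ⟨T, hT⟩ := hN N le_rfl
  have hfr := Groth.Agent.AmpleX.isFrame_res_of_le (Groth.Agent.InvX.one s')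
    (Groth.Agent.AmpleX.genLocus_eq_locus s').le
  have h1 : Groth.Agent.AmpleX.locus T ⊓ CohB1.genLocus P s' = X.basicOpen r := by
    have hO : PicF.IsInvertible (Coh.structureModule X) := Groth.Agent.InvX.isInvertible_structureModule
    have h2 := congrArg Groth.Agent.AmpleX.locus hT
    rw [Groth.Agent.AmpleX.locus_res,
      Groth.Agent.AmpleX.locus_tmul hO (Groth.Agent.InvX.isInvertible_tensorPow hP N)] at h2
    have h3 := Groth.Agent.AmpleX.locus_inf (M := Coh.structureModule X) r le_rfl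
      (Groth.Agent.InvX.isFrame_one (CohB1.genLocus P s')) (g := r)
      ((Groth.Agent.AModX.res_self (M := Coh.structureModule X) r).trans (mul_one r).symm)
    rw [h2, ← h3]
    congr 1
    refine le_antisymm (Groth.Agent.AmpleX.locus_le _) (Groth.Agent.AmpleX.le_locus _ le_rfl ?_)
    rw [Groth.Agent.AModX.res_self]
    exact Groth.Agent.AmpleX.isFrame_powElt hfr N
  obtain ⟨c, hc⟩ := Groth.Agent.AmpleX.exists_locus_cl
    (N := CohB1.tensorPow ((Scheme.Modules.pullback f).obj L) (n * (N + 1)))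
    (show PicF.cl (CohB1.tensorMod (CohB1.tensorMod (Coh.structureModule X) (CohB1.tensorPow P N)) P) = _ by
      rw [Groth.Agent.H23.PicMul.cl_tensor, Groth.Agent.H23.PicMul.cl_tensor,
        Groth.Agent.H23.PicMul.cl_tensorPow, Groth.Agent.H23.PicMul.cl_tensorPow,
        Groth.Agent.H23.PicMul.cl_tensorPow, show PicF.cl (Coh.structureModule X) = 1 from rfl,
        one_mul, pow_mul, pow_succ])
    (Groth.Agent.InvX.tmul T b₀)
  have h4 : CohB1.genLocus _ (Groth.Agent.InvX.ofSect c) = X.basicOpen r := by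
    rw [Groth.Agent.AmpleX.genLocus_eq_locus, Groth.Agent.InvX.one_ofSect, hc,
      Groth.Agent.AmpleX.locus_tmul (Groth.Agent.H23.PicMul.isInvertible_tensor
        Groth.Agent.InvX.isInvertible_structureModule (Groth.Agent.InvX.isInvertible_tensorPow hP N)) hP, ← h1]
    congr 1
    rw [Groth.Agent.AmpleX.genLocus_eq_locus, Groth.Agent.InvX.one_ofSect]
  exact ⟨_, n * (N + 1), Groth.Agent.InvX.ofSect c, hM, Nat.mul_pos hn N.succ_pos, h4.ge hxr, h4 ▸ hra⟩

end Groth.Agent.S7184
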