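import Groth.Statements.S11319
import Groth.Agent.QCoh.RpushAbGod
import Groth.Agent.QCoh.RpushGod
set_option autoImplicit false
set_option backward.isDefEq.respectTransparency false
set_option backward.isDefEq.respectTransparency.types false
set_option linter.style.haveILetI false
set_option maxHeartbeats 800000
universe u
open CategoryTheory AlgebraicGeometry
open Coherent

namespace Groth.Agent.S11319

/-- Let f : X → Y be a morphism of schemes, M an O_X-module and n ≥ 0. Then the underlying abelian sheaf
of the n-th higher direct image R^n f_* M computed in the category of O-modules (the n-th right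
derived functor of f_* : Mod(O_X) → Mod(O_Y), which needs the stated instance that Mod(O_X) has
injective resolutions — it does) is isomorphic to the n-th higher direct image of the underlying
abelian sheaf of M (the right derived functor of f_* on abelian sheaves). (Stated for schemes; the
published statement is for ringed spaces. Existence of an isomorphism only.) -/
theorem result {X Y : Scheme.{u}} (f : X ⟶ Y)
    [HasInjectiveResolutions X.Modules] (M : X.Modules) (n : ℕ) :
    Nonempty (Coh.toAb ((Coh.Rpush f n).obj M) ≅ (Coh.RpushAb f n).obj (Coh.toAb M)) := by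
  cases n with
  | zero =>
    haveI := SpObjSS.enoughInjectives_of_hasInjectiveResolutions (C := X.Modules)
    haveI : Limits.PreservesFiniteLimits (Scheme.Modules.pushforward f) := Groth.Agent.QCoh.preservesFiniteLimits_push f
    obtain ⟨e⟩ := Groth.Agent.QCoh.nonempty_RpushAb_zero_iso f M
    exact ⟨(Groth.Agent.QCoh.toAbFunctor Y).mapIso ((Scheme.Modules.pushforward f).rightDerivedZeroIsoSelf.app M) ≪≫ e.symm⟩
  | succ q =>
    obtain ⟨e⟩ := Groth.Agent.QCoh.nonempty_RpushAb_iso f M q
    obtain ⟨e'⟩ := Groth.Agent.QCoh.nonempty_Rpush_iso f M q
    exact ⟨(Groth.Agent.QCoh.toAbFunctor Y).mapIso e' ≪≫ e.symm⟩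

end Groth.Agent.S11319
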