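import Groth.Statements.S0059
import Groth.Agent.FFun.Main

set_option autoImplicit false
universe u
open Coherent

namespace Groth.Agent.S0059

open AlgebraicGeometry CategoryTheory in
/-- Theorem on formal functions, in the following form: let A be a Noetherian ring, I an ideal of A, X a
scheme proper over Spec A and F a coherent O_X-module. Then for every p the I-adic completion of
H^p(X, F) is isomorphic, as an additive group, to the inverse limit of the groups H^p(X, F/IⁿF).
Only the existence of an isomorphism is asserted; the published statement is stronger: the canonical
map is such an isomorphism (and a homeomorphism). The canonical form is the subject of companion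
statements. -/
theorem result (A : Type u) [CommRing A] [IsNoetherianRing A] (I : Ideal A)
    (X : Scheme.{u}) [X.Over (Spec (CommRingCat.of A))] [IsProper (X ↘ Spec (CommRingCat.of A))]
    (M : X.Modules) (hM : Coh.IsCoh M) (p : ℕ) :
    Nonempty (AdicCompletion I (Coh.HH X M p) ≃+ Formal.HHlim I M p) := by
  haveI : CompactSpace X := QuasiCompact.compactSpace_of_compactSpace (X ↘ Spec (CommRingCat.of A))
  haveI : IsLocallyNoetherian X := LocallyOfFiniteType.isLocallyNoetherian (X ↘ Spec (CommRingCat.of A))
  haveI : IsNoetherian X := { __ := ‹IsLocallyNoetherian X›, __ := ‹CompactSpace X› }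
  have hG := Groth.Agent.FFun.good_of_finite (X := X) (Z := Set.univ) (fun N hN q => Groth.Agent.S0002.result A X N hN.1 q) I
  exact ⟨AddEquiv.ofBijective _ (Groth.Agent.FFun.compΦ_bijective (p := p) hG (Groth.Agent.FFun.inCls_univ hM))⟩

end Groth.Agent.S0059
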