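import Groth.Statements.S4462
import Groth.Agent.QCoh.TensorUnit
import Groth.Agent.QCoh.FlatFibre
import Groth.Agent.QCoh.FlatAffine
import Groth.Agent.QCoh.LocalExchange
set_option autoImplicit false
set_option backward.isDefEq.respectTransparency false
set_option backward.isDefEq.respectTransparency.types false
set_option linter.style.haveILetI false
set_option maxHeartbeats 800000
universe u
open Coherent

namespace Groth.Agent.S4462

open AlgebraicGeometry CategoryTheory in
/-- Second assertion: for a local base: let A be a Noetherian local ring with maximal ideal m and closed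
point y, X a scheme proper over Spec A, F a coherent O_X-module flat over Spec A and n ≥ 0 such that
H^(n+1)(X_y, F_y) = 0, where X_y is the closed fibre and F_y the restriction of F to it. Then for
every p ≥ 0 the canonical map H^n(X, F) → H^n(X, F/m^(p+1)F) is surjective. (For a general locally
Noetherian base the published statement is about the stalk of R^n f_* F at a point; over the local
ring of that point this is the module H^n(X, F) used here.) -/
theorem result (A : Type u) [CommRing A] [IsNoetherianRing A]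
    [IsLocalRing A] (X : Scheme.{u}) [X.Over (Spec (CommRingCat.of A))]
    [IsProper (X ↘ Spec (CommRingCat.of A))] (F : X.Modules) (hF : Coh.IsCoh F)
    (hfl : FlatMod.IsFlatOver (X ↘ Spec (CommRingCat.of A)) F) (n : ℕ)
    (hvan : Subsingleton (CohIII.fiberH (X ↘ Spec (CommRingCat.of A)) F (IsLocalRing.closedPoint A) (n + 1)))
    (p : ℕ) :
    Function.Surjective (Formal.toHHmodPow (IsLocalRing.maximalIdeal A) F n p) := by
  obtain ⟨P, hP⟩ := Groth.Agent.QCoh.exists_isBCModel F hF hfl
  have hfl' := Groth.Agent.QCoh.flat_of_isBCModel hP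
  have hd := (Groth.Agent.QCoh.subsingleton_fibreH_iff hP (IsLocalRing.closedPoint A) (n + 1)).1 hvan
  obtain ⟨ep⟩ := hP.2.2.2.2.1 n
  have hmono := (Groth.Agent.QCoh.isExactT_of_isZero (Groth.Agent.QCoh.epi_and_isZero_of_dRank hfl' hP.1 hd).2.1).1
  have hepi : (CohIII.tensorAFunctor A F ⋙ CohIII.HAb X n).PreservesEpimorphisms :=
    (Groth.Agent.QCoh.preservesEpi_iff_of_iso ep).2 ((Groth.Agent.FlatCxLib.preservesEpi_iff_preservesMono hfl'
      (show -((n + 1 : ℕ) : ℤ) + 1 = -(n : ℤ) by push_cast; ring)).2 hmono)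
  let J : Ideal A := IsLocalRing.maximalIdeal A ^ (p + 1)
  let q : ModuleCat.of A A ⟶ ModuleCat.of A (A ⧸ J) := ModuleCat.ofHom (Submodule.mkQ J : A →ₗ[A] A ⧸ J)
  haveI : Epi q := (ModuleCat.epi_iff_surjective q).2 (Submodule.mkQ_surjective J)
  have hq := (AddCommGrpCat.epi_iff_surjective _).1 (hepi.preserves q)
  let φA := Groth.Agent.QCoh.homOfElem F (ModuleCat.of A A) (1 : A)
  haveI : IsIso φA := Groth.Agent.QCoh.isIso_homOfElem_self hF.1
  let d := Limits.cokernel.desc (Formal.smulFamily J F) (Groth.Agent.QCoh.quotHom F J) (Groth.Agent.QCoh.smulFamily_quotHom F J)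
  haveI : IsIso d := Groth.Agent.QCoh.isIso_desc_quotHom hF.1 J
  intro z
  obtain ⟨x', hx'⟩ := hq (Sheaf.H.map ((SheafOfModules.toSheaf _).map d) n z)
  refine ⟨Sheaf.H.map ((SheafOfModules.toSheaf _).map (inv φA)) n x', ?_⟩
  have h1 : inv φA ≫ Formal.modPowπ (IsLocalRing.maximalIdeal A) (p + 1) F =
      (CohIII.tensorAFunctor A F).map q ≫ inv d := by
    rw [IsIso.inv_comp_eq, ← Category.assoc, IsIso.eq_comp_inv]
    exact (Limits.cokernel.π_desc _ _ (Groth.Agent.QCoh.smulFamily_quotHom F J)).trans (Groth.Agent.QCoh.quotHom_eq F J).symm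
  show Sheaf.H.map ((SheafOfModules.toSheaf _).map (Formal.modPowπ (IsLocalRing.maximalIdeal A) (p + 1) F)) n
    (Sheaf.H.map ((SheafOfModules.toSheaf _).map (inv φA)) n x') = z
  refine (Formal.HHmap_comp _ _ n x').trans ?_
  rw [h1]
  refine ((Formal.HHmap_comp _ _ n x').symm.trans (congrArg _ hx')).trans ((Formal.HHmap_comp _ _ n z).trans ?_)
  rw [IsIso.hom_inv_id, CategoryTheory.Functor.map_id, Sheaf.H.map_id_apply]

end Groth.Agent.S4462
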