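import Groth.Statements.S2086
import Mathlib
import Groth.Agent.FlatLoc6.FiberRing

set_option autoImplicit false
universe u
open CAlg

namespace Groth.Agent.S2086

/-- Let `R → S` be a flat map of Noetherian rings such that `R` and all fibre rings `S ⊗ κ(𝔭)` satisfy
Serre's condition `(S_k)`. Then `S` satisfies `(S_k)`. -/
theorem result {R S : Type u} [CommRing R] [CommRing S] [IsNoetherianRing R] [IsNoetherianRing S]
    [Algebra R S] [Module.Flat R S] (k : ℕ) (hR : LocCoh.HasSk k R R)
    (hfib : ∀ (p : Ideal R) [p.IsPrime], LocCoh.HasSk k (p.Fiber S) (p.Fiber S)) :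
    LocCoh.HasSk k S S := by
  intro q _
  have hF : (⟨q, ‹_›⟩ : PrimeSpectrum S) ∈ Module.support S S := by
    rw [Module.mem_support_iff]
    exact (LC.selfLoc q.primeCompl).toEquiv.nontrivial
  have hp : (⟨q.comap (algebraMap R S), inferInstance⟩ : PrimeSpectrum R) ∈ Module.support R R := by
    rw [Module.mem_support_iff]
    exact (LC.selfLoc (q.comap (algebraMap R S)).primeCompl).toEquiv.nontrivial
  obtain ⟨h1, h2⟩ := FlatLoc6.formulas_atPrime S R (q.comap (algebraMap R S)) q rfl hF hp
  let e : LocalizedModule q.primeCompl (TensorProduct R S R) ≃ₗ[Localization.AtPrime q] LocalizedModule q.primeCompl S :=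
    (LocalizedModule.equivTensorProduct q.primeCompl _).trans
      ((TensorProduct.AlgebraTensorModule.congr (LinearEquiv.refl (Localization.AtPrime q) (Localization.AtPrime q))
        (TensorProduct.AlgebraTensorModule.rid R S S)).trans
        (LocalizedModule.equivTensorProduct q.primeCompl S).symm)
  rw [← Module.supportDim_eq_of_equiv (M := LocalizedModule q.primeCompl (TensorProduct R S R)) (N := LocalizedModule q.primeCompl S) (by exact e),
    ← FlatLoc6.depth_congr' (M := LocalizedModule q.primeCompl (TensorProduct R S R)) (N := LocalizedModule q.primeCompl S) (by exact e), h1, h2]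
  haveI : Nontrivial (LocalizedModule (q.comap (algebraMap R S)).primeCompl R) := Module.mem_support_iff.mp hp
  exact FlatLoc6.sk_add (Module.supportDim_ne_bot_of_nontrivial _ _) (FlatLoc6.fibDim_ne_bot S q hF)
    (hR _) (FlatLoc6.fib_le_of_fiber_hasSk k _ q rfl (hfib _))

end Groth.Agent.S2086
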