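import Groth.Statements.S9437
import Groth.Agent.SkDesc.Basic
import Groth.Agent.Hensel.HenselizationDescent

set_option autoImplicit false
universe u
open CAlg

namespace Groth.Agent.S9437

/-- Serre's condition (S_k) descends along faithfully flat ring maps: if S is faithfully flat over R,
Noetherian and (S_k), then R is Noetherian and (S_k). -/
theorem result (k : ℕ) (R : Type u) [CommRing R] (S : Type u) [CommRing S]
    [Algebra R S] [Module.FaithfullyFlat R S] [IsNoetherianRing S] (hS : LocCoh.HasSk k S S) :
    IsNoetherianRing R ∧ LocCoh.HasSk k R R := by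
  classical
  have := Groth.Agent.Hensel.isNoetherianRing_of_faithfullyFlat' R S
  refine ⟨this, fun p _ => ?_⟩
  obtain ⟨q, hq, hqp⟩ := Groth.Agent.SkDesc.exists_minimal_over S p
  have := hq.1.1
  have : q.LiesOver p := ⟨hqp.symm⟩
  let := Localization.AtPrime.algebraOfLiesOver p q
  have : IsLocalHom (algebraMap (Localization.AtPrime p) (Localization.AtPrime q)) := by
    rw [RingHom.algebraMap_toAlgebra]
    exact Localization.isLocalHom_localRingHom p q (algebraMap R S) Ideal.LiesOver.over
  have hd := Groth.Agent.SkDesc.depth_eq (R := Localization.AtPrime p) (Localization.AtPrime q)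
    (Groth.Agent.SkDesc.eq_maximalIdeal_of_minimal S p q hq)
  have h := hS q
  rw [← Groth.Agent.Alg6.depth_localized_eq q (Localization.AtPrime q) (Algebra.linearMap S (Localization.AtPrime q)),
    ← Groth.Agent.Alg6.supportDim_localized_eq q (Localization.AtPrime q) (Algebra.linearMap S (Localization.AtPrime q)),
    Module.supportDim_self_eq_ringKrullDim, hd, IsLocalization.AtPrime.ringKrullDim_eq_height q,
    Groth.Agent.SkDesc.height_eq_of_minimal S p q hq] at h
  rw [← Groth.Agent.Alg6.depth_localized_eq p (Localization.AtPrime p) (Algebra.linearMap R (Localization.AtPrime p)),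
    ← Groth.Agent.Alg6.supportDim_localized_eq p (Localization.AtPrime p) (Algebra.linearMap R (Localization.AtPrime p)),
    Module.supportDim_self_eq_ringKrullDim, IsLocalization.AtPrime.ringKrullDim_eq_height p]
  exact h


end Groth.Agent.S9437
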