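import Groth.Statements.S9438
import Groth.Agent.SkDesc.Basic
import Groth.Agent.Hensel.HenselizationDescent
import Groth.Agent.RegLoc6.Descent

set_option autoImplicit false
universe u
open CAlg

namespace Groth.Agent.S9438

/-- The condition (R_k) descends along faithfully flat ring maps: if S is faithfully flat over R,
Noetherian and (R_k), then R is Noetherian and (R_k). -/
theorem result (k : ℕ) (R : Type u) [CommRing R] (S : Type u) [CommRing S]
    [Algebra R S] [Module.FaithfullyFlat R S] [IsNoetherianRing S] (hS : LocCoh.HasRk k S) :
    IsNoetherianRing R ∧ LocCoh.HasRk k R := by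
  classical
  have := Groth.Agent.Hensel.isNoetherianRing_of_faithfullyFlat' R S
  refine ⟨this, fun p _ hpk => ?_⟩
  obtain ⟨q, hq, hqp⟩ := Groth.Agent.SkDesc.exists_minimal_over S p
  have := hq.1.1
  have : q.LiesOver p := ⟨hqp.symm⟩
  let := Localization.AtPrime.algebraOfLiesOver p q
  have : IsLocalHom (algebraMap (Localization.AtPrime p) (Localization.AtPrime q)) := by
    rw [RingHom.algebraMap_toAlgebra]
    exact Localization.isLocalHom_localRingHom p q (algebraMap R S) Ideal.LiesOver.over
  have := hS q (by rw [Groth.Agent.SkDesc.height_eq_of_minimal S p q hq]; exact hpk)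
  exact Groth.Agent.RegLoc6.isRegularLocalRing_of_flat (B := Localization.AtPrime q)


end Groth.Agent.S9438
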