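import Groth.Statements.S9200
import Groth.Agent.MorLib.BaseChangeLim

set_option autoImplicit false
universe u
open CategoryTheory AlgebraicGeometry
open Lim

namespace Groth.Agent.S9200

set_option backward.isDefEq.respectTransparency.types false in
open AlgebraicGeometry CategoryTheory Limits TopologicalSpace in
theorem local_eventually {I : Type u} [SmallCategory I] [IsCofiltered I] (S : Scheme.{u})
    [QuasiSeparatedSpace S] (D : I ⥤ Scheme.{u}) (t : D ⟶ (Functor.const I).obj S) (c : Limits.Cone D)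
    (hc : Limits.IsLimit c) [∀ {i j : I} (a : i ⟶ j), IsAffineHom (D.map a)]
    [∀ i, CompactSpace (D.obj i)] [∀ i, QuasiSeparatedSpace (D.obj i)] (i₀ : I)
    [IsAffineHom (c.π.app i₀ ≫ t.app i₀)] (V : S.Opens) (hV : IsAffineOpen V) :
    ∃ (j : I) (_ : j ⟶ i₀), IsAffineOpen (t.app j ⁻¹ᵁ V) := by
  let U : (D.obj i₀).Opens := t.app i₀ ⁻¹ᵁ V
  haveI : QuasiCompact (t.app i₀) :=
    @quasiCompact_of_compactSpace (D.obj i₀) S (t.app i₀) inferInstance inferInstance
  have hUc : IsCompact (X := D.obj i₀) U := (t.app i₀).isCompact_preimage hV.isCompact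
  haveI : IsAffine (opensCone D c i₀ U).pt :=
    (show IsAffineOpen (c.π.app i₀ ⁻¹ᵁ U) from hV.preimage (c.π.app i₀ ≫ t.app i₀))
  haveI : ∀ j, CompactSpace ((opensDiagram D i₀ U).obj j) := fun j =>
    isCompact_iff_compactSpace.mp ((D.map j.hom).isCompact_preimage hUc)
  haveI : ∀ j, QuasiSeparatedSpace ((opensDiagram D i₀ U).obj j) := fun j =>
    QuasiSeparatedSpace.of_isOpenEmbedding (D.map j.hom ⁻¹ᵁ U).ι.isOpenEmbedding
  obtain ⟨j, hj⟩ := Scheme.exists_isAffine_of_isLimit (opensDiagram D i₀ U) (opensCone D c i₀ U)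
    (isLimitOpensCone D c hc i₀ U)
  refine ⟨j.left, j.hom, ?_⟩
  have e : t.app j.left ⁻¹ᵁ V = D.map j.hom ⁻¹ᵁ U := by
    rw [← Scheme.Hom.comp_preimage, t.naturality]
    simp
  rw [e]
  exact hj


/-- Let S be a scheme and X = lim X_i a cofiltered limit of S-schemes X_i (a diagram with a compatible
family of structure maps to S) with affine transition morphisms, every X_i quasi-compact and
quasi-separated; the structure map X → S is the composite X → X_{i₀} → S for any index i₀. Assume S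
is quasi-compact and quasi-separated. If X → S is affine, then X_i → S is affine for all i beyond
some index i₁. -/
theorem result {I : Type u} [SmallCategory I] [IsCofiltered I] (S : Scheme.{u}) [CompactSpace S] [QuasiSeparatedSpace S]
    (D : I ⥤ Scheme.{u}) (t : D ⟶ (Functor.const I).obj S) (c : Limits.Cone D) (hc : Limits.IsLimit c)
    [∀ (i j : I) (a : i ⟶ j), IsAffineHom (D.map a)]
    [∀ i, CompactSpace (D.obj i)] [∀ i, QuasiSeparatedSpace (D.obj i)] (i₀ : I)
    [IsAffineHom (c.π.app i₀ ≫ t.app i₀)] :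
    ∃ i₁ : I, ∀ (i : I) (_ : i ⟶ i₁), IsAffineHom (t.app i) := by
  classical
  haveI : ∀ {i j : I} (a : i ⟶ j), IsAffineHom (D.map a) := fun {i j} a => inferInstance
  have hcov : ∀ p : S, ∃ V : S.affineOpens, p ∈ V.1 := fun p => by
    obtain ⟨V, hV, hp, -⟩ := exists_isAffineOpen_mem_and_subset (x := p) (U := ⊤) trivial
    exact ⟨⟨V, hV⟩, hp⟩
  choose W hW using hcov
  obtain ⟨F, hF⟩ := isCompact_univ.elim_finite_subcover (fun p => (((W p).1 : S.Opens) : Set S))
    (fun p => (W p).1.2) fun p _ => Set.mem_iUnion.mpr ⟨p, hW p⟩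
  choose k φ hk using fun p : F => local_eventually S D t c hc i₀ (W p.1).1 (W p.1).2
  obtain ⟨i₁, ψ, χ, -⟩ := IsCofiltered.wideCospan φ
  refine ⟨i₁, fun i a => ?_⟩
  refine IsZariskiLocalAtTarget.of_iSup_eq_top (P := @IsAffineHom) (fun p : F => (W p.1).1) ?_ fun p => ?_
  · refine top_le_iff.mp fun x _ => ?_
    obtain ⟨q, hq, hx⟩ := Set.mem_iUnion₂.mp (hF (Set.mem_univ x))
    exact TopologicalSpace.Opens.mem_iSup.mpr ⟨⟨q, hq⟩, hx⟩
  · haveI : IsAffine ((W p.1).1 : Scheme.{u}) := (W p.1).2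
    have e : t.app i = D.map (a ≫ χ p) ≫ t.app (k p) := by rw [t.naturality]; simp
    haveI : IsAffine (t.app i ⁻¹ᵁ (W p.1).1 : Scheme.{u}) := by
      rw [e, Scheme.Hom.comp_preimage]
      exact (hk p).preimage _
    exact isAffineHom_of_isAffine _

end Groth.Agent.S9200
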