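import Groth.Statements.S0108
import Groth.Agent.EtFound.RootCover
import Mathlib.CategoryTheory.Sites.EpiMono

set_option autoImplicit false
open CategoryTheory CategoryTheory.Limits AlgebraicGeometry Opposite
universe u
open EtBase

namespace Groth.Agent.S0108

/-- The Kummer sequence — when n is invertible on S, the n-th power map on the multiplicative group
sheaf is an epimorphism of étale sheaves (its kernel μ_n is, by definition in the prelude, the sheaf
of n-th roots of unity, so the sequence 0 → μ_n → G_m → G_m → 0 is exact). -/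
theorem result (S : Scheme.{u}) (n : ℕ) (hn : IsUnit (n : Γ(S, ⊤))) : Epi (EtCoh.powMap S n) := by
  refine (Sheaf.isLocallySurjective_iff_epi' _ _).1 ⟨fun {U} s => ?_⟩
  rw [EtFound.mem_topology_iff]
  intro x
  obtain ⟨a⟩ := s
  let a' : Γ(U.left, ⊤)ˣ := Additive.toMul a
  have hnU : IsUnit (n : Γ(U.left, ⊤)) := by
    have := hn.map U.hom.appTop.hom
    rwa [map_natCast] at this
  rcases Nat.eq_zero_or_pos n with rfl | hpos
  · exfalso
    have := hnU.map (U.left.presheaf.germ ⊤ x trivial).hom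
    rw [map_natCast, Nat.cast_zero] at this
    exact not_isUnit_zero this
  let f : Polynomial (Γ(U.left, ⊤) : Type u) := Polynomial.X ^ n - Polynomial.C (a' : Γ(U.left, ⊤))
  obtain ⟨i, hi⟩ := hnU
  obtain ⟨V, g, v, t, hv, ht⟩ := EtFound.exists_etale_root U f (Polynomial.monic_X_pow_sub_C _ hpos.ne')
    (fun R _ _ φ => by
      have e : f.map φ = Polynomial.X ^ n - Polynomial.C (φ a') := by simp [f]
      rw [e, Polynomial.natDegree_X_pow_sub_C]
      exact hpos)
    ⟨Polynomial.C ((↑i⁻¹ : Γ(U.left, ⊤)) * (↑a'⁻¹ : Γ(U.left, ⊤))) * Polynomial.X, -Polynomial.C (↑a'⁻¹), by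
      obtain ⟨m, rfl⟩ : ∃ m, n = m + 1 := ⟨n - 1, by omega⟩
      have h1 : Polynomial.C (↑a'⁻¹ : Γ(U.left, ⊤)) * Polynomial.C (a' : Γ(U.left, ⊤)) = 1 := by
        rw [← Polynomial.C_mul, Units.inv_mul, Polynomial.C_1]
      have h2 : Polynomial.C ((m + 1 : ℕ) : Γ(U.left, ⊤)) * Polynomial.C (↑i⁻¹ : Γ(U.left, ⊤)) = 1 := by
        rw [← hi, ← Polynomial.C_mul, Units.mul_inv, Polynomial.C_1]
      simp only [f, Polynomial.derivative_sub, Polynomial.derivative_X_pow, Polynomial.derivative_C, sub_zero,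
        Polynomial.C_mul, add_tsub_cancel_right]
      linear_combination h1 + (Polynomial.X ^ (m + 1) * Polynomial.C (↑a'⁻¹ : Γ(U.left, ⊤))) * h2⟩ x
  simp only [f, Polynomial.eval₂_sub, Polynomial.eval₂_X_pow, Polynomial.eval₂_C, sub_eq_zero] at ht
  have htu : IsUnit t := by
    refine (isUnit_pow_iff hpos.ne').1 ?_
    rw [ht]
    exact a'.isUnit.map g.left.appTop.hom
  refine ⟨V, g, v, ⟨⟨Additive.ofMul htu.unit⟩, ?_⟩, hv⟩
  change n • (ULift.up (Additive.ofMul htu.unit)) = _
  refine congrArg ULift.up ?_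
  change Additive.ofMul (htu.unit ^ n) = _
  refine congrArg Additive.ofMul (Units.ext ?_)
  rw [Units.val_pow_eq_pow_val, IsUnit.unit_spec, ht]
  rfl

end Groth.Agent.S0108
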