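import Groth.Statements.S8575
import Groth.Agent.EtFound.IntegralBaseChange
import Groth.Agent.EtFound.PushExact
import Groth.Agent.EtFound.UnivInjPush
import Groth.Agent.EtMVLib.ExtTools
import Groth.Agent.SpObjSS.SiteLeray
import Groth.Agent.SiteBase.DescentSS.Resolution
import Groth.Prelude.Def_EtCore
-- import your own Groth.Agent.* helpers here

set_option autoImplicit false
open CategoryTheory CategoryTheory.Limits AlgebraicGeometry
universe u
open EtDesc

namespace Groth.Agent.S8575

set_option backward.isDefEq.respectTransparency false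
set_option backward.isDefEq.respectTransparency.types false

noncomputable section

section Bar

variable {A : Type*} [Category A] [Abelian A] {B : Type*} [Category B] [Abelian B]
  {L : A ⥤ B} {R : B ⥤ A} (adj : L ⊣ R) (F : A)

/-- The iterates of the monad. -/
def Tn (L : A ⥤ B) (R : B ⥤ A) (F : A) : ℕ → A
  | 0 => F
  | n + 1 => R.obj (L.obj (Tn L R F n))

/-- The unit at an iterate. -/
def eta (n : ℕ) : Tn L R F n ⟶ Tn L R F (n + 1) := adj.unit.app (Tn L R F n)

/-- The monad on maps of iterates. -/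
def tmap {a b : ℕ} (φ : Tn L R F a ⟶ Tn L R F b) : Tn L R F (a + 1) ⟶ Tn L R F (b + 1) := R.map (L.map φ)

/-- The differentials of the bar resolution. -/
def dd : ∀ n, Tn L R F n ⟶ Tn L R F (n + 1)
  | 0 => eta adj F 0
  | n + 1 => eta adj F (n + 1) - tmap F (dd n)

theorem tmap_comp {a b c : ℕ} (φ : Tn L R F a ⟶ Tn L R F b) (ψ : Tn L R F b ⟶ Tn L R F c) :
    tmap F φ ≫ tmap F ψ = tmap F (φ ≫ ψ) := by
  show R.map (L.map φ) ≫ R.map (L.map ψ) = R.map (L.map (φ ≫ ψ))
  rw [L.map_comp, R.map_comp]

variable [L.Additive] [R.Additive]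

theorem dd_comp : ∀ n, dd adj F n ≫ dd adj F (n + 1) = 0
  | n => by
    have nat : dd adj F n ≫ eta adj F (n + 1) = eta adj F n ≫ tmap F (dd adj F n) := adj.unit.naturality _
    show dd adj F n ≫ (eta adj F (n + 1) - tmap F (dd adj F n)) = 0
    rw [Preadditive.comp_sub, nat, ← Preadditive.sub_comp]
    cases n with
    | zero => simp [dd]
    | succ m =>
      have e : eta adj F (m + 1) - dd adj F (m + 1) = tmap F (dd adj F m) := sub_sub_cancel _ _
      rw [e, tmap_comp, dd_comp m]
      show R.map (L.map 0) = 0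
      rw [L.map_zero, R.map_zero]

/-- The contraction after applying the left adjoint. -/
def ss (n : ℕ) : L.obj (Tn L R F (n + 1)) ⟶ L.obj (Tn L R F n) := adj.counit.app (L.obj (Tn L R F n))

theorem ss_zero : L.map (dd adj F 0) ≫ ss adj F 0 = 𝟙 _ := adj.left_triangle_components F

theorem ss_succ (n : ℕ) :
    L.map (dd adj F (n + 1)) ≫ ss adj F (n + 1) + ss adj F n ≫ L.map (dd adj F n) = 𝟙 _ := by
  have h1 := adj.left_triangle_components (Tn L R F (n + 1))
  have h2 : L.map (R.map (L.map (dd adj F n))) ≫ ss adj F (n + 1) = ss adj F n ≫ L.map (dd adj F n) :=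
    adj.counit.naturality (L.map (dd adj F n))
  show L.map (eta adj F (n + 1) - tmap F (dd adj F n)) ≫ ss adj F (n + 1) + _ = _
  rw [L.map_sub, Preadditive.sub_comp, show L.map (tmap F (dd adj F n)) ≫ ss adj F (n + 1) = _ from h2,
    sub_add_cancel]
  exact h1

variable [L.Faithful] [PreservesFiniteLimits L] [PreservesFiniteColimits L]

theorem exact_dd (n : ℕ) : (ShortComplex.mk _ _ (dd_comp adj F n)).Exact := by
  rw [← ShortComplex.exact_map_iff_of_faithful _ L, ShortComplex.exact_iff_exact_up_to_refinements]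
  intro W x hx
  refine ⟨W, 𝟙 W, inferInstance, x ≫ ss adj F n, ?_⟩
  have hx' : x ≫ L.map (dd adj F (n + 1)) = 0 := hx
  have h := congrArg (fun t => x ≫ t) (ss_succ adj F n)
  simp only [Preadditive.comp_add] at h
  erw [reassoc_of% hx', zero_comp, zero_add, Category.comp_id] at h
  show 𝟙 W ≫ x = (x ≫ ss adj F n) ≫ L.map (dd adj F n)
  rw [Category.id_comp, Category.assoc]
  exact h.symm

theorem mono_dd : Mono (dd adj F 0) := by
  have : Mono (L.map (dd adj F 0)) := (SplitMono.mk (ss adj F 0) (ss_zero adj F)).mono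
  exact L.mono_of_mono_map this

/-- The bar resolution. -/
def bar : CochainComplex A ℕ :=
  CochainComplex.of (fun n => Tn L R F (n + 1)) (fun n => dd adj F (n + 1)) (fun n => dd_comp adj F (n + 1))

theorem exactAt_bar (q : ℕ) : (bar adj F).ExactAt (q + 1) := by
  rw [HomologicalComplex.exactAt_iff' _ q (q + 1) (q + 1 + 1) (by simp) (by simp)]
  refine (ShortComplex.exact_iff_of_iso ?_).2 (exact_dd adj F (q + 1))
  refine ShortComplex.isoMk (Iso.refl _) (Iso.refl _) (Iso.refl _) ?_ ?_
  · show 𝟙 _ ≫ dd adj F (q + 1) = (bar adj F).d q (q + 1) ≫ 𝟙 _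
    rw [Category.id_comp, Category.comp_id]
    exact (CochainComplex.of_d (fun n => Tn L R F (n + 1)) (fun n => dd adj F (n + 1)) q).symm
  · show 𝟙 _ ≫ dd adj F (q + 1 + 1) = (bar adj F).d (q + 1) (q + 1 + 1) ≫ 𝟙 _
    rw [Category.id_comp, Category.comp_id]
    exact (CochainComplex.of_d (fun n => Tn L R F (n + 1)) (fun n => dd adj F (n + 1)) (q + 1)).symm

theorem homology_zero_bar : Nonempty ((bar adj F).homology 0 ≅ F) := by
  have := mono_dd adj F
  have e := CochainComplex.of_d (fun n => Tn L R F (n + 1)) (fun n => dd adj F (n + 1)) 0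
  have hd : (bar adj F).d 0 1 = dd adj F 1 := e
  have hl := (exact_dd adj F 0).fIsKernel
  let z : (KernelFork.ofι ((bar adj F).iCycles 0) ((bar adj F).iCycles_d 0 1)).pt ≅ F :=
    ((bar adj F).cyclesIsKernel 0 1 (by simp)).conePointUniqueUpToIso
      (IsLimit.ofIsoLimit ((IsLimit.postcomposeHomEquiv
        (parallelPair.ext (Iso.refl _) (Iso.refl _) (by simp [hd]) (by simp) :
          parallelPair (dd adj F 1) 0 ≅ parallelPair ((bar adj F).d 0 1) 0) _).symm hl) (Iso.refl _))
  exact ⟨(bar adj F).isoHomologyπ₀.symm ≪≫ z⟩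

end Bar

section Et

open Groth.Agent EtFound

variable {X Y : Scheme.{u}}

/-- Exchanging inverse and direct images along an integral morphism. -/
theorem nonempty_bc {Z P : Scheme.{u}} (g : Z ⟶ Y) [IsIntegralHom g] (f : X ⟶ Y) (g' : P ⟶ Z) (f' : P ⟶ X)
    (sq : IsPullback g' f' g f) (G : EtCoh.Ab Z) :
    Nonempty ((EtCoh.pull f).obj ((EtCoh.push g).obj G) ≅ (EtCoh.push f').obj ((EtCoh.pull g').obj G)) := by
  have := isIso_baseChange_of_integral sq G (EtCoh.baseChange0 g f f' g' sq.w G) (baseChange0_unit g f f' g' sq.w G)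
  exact ⟨asIso (EtCoh.baseChange0 g f f' g' sq.w G)⟩

/-- One step: `f_* f^* g_* g^* F = h_* h^* F` for the fibre product `h` of `f` and `g`. -/
theorem nonempty_step {Z P : Scheme.{u}} (f : X ⟶ Y) (g : Z ⟶ Y) [IsIntegralHom g] (g' : P ⟶ Z) (f' : P ⟶ X)
    (h : P ⟶ Y) (hh : g' ≫ g = h) (sq : IsPullback g' f' g f) (F : EtCoh.Ab Y) :
    Nonempty ((EtCoh.push f).obj ((EtCoh.pull f).obj ((EtCoh.push g).obj ((EtCoh.pull g).obj F))) ≅
      (EtCoh.push h).obj ((EtCoh.pull h).obj F)) := by
  obtain ⟨e⟩ := nonempty_bc g f g' f' sq ((EtCoh.pull g).obj F)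
  have h1 : Nonempty (EtCoh.push f' ⋙ EtCoh.push f ≅ EtCoh.push h) :=
    ⟨EtCoh.pushComp f f' ≪≫ EtCoh.pushCongr (sq.w.symm.trans hh)⟩
  have h2 : Nonempty (EtCoh.pull g ⋙ EtCoh.pull g' ≅ EtCoh.pull h) :=
    ⟨(EtCore.pullComp g' g).symm ≪≫ EtCore.pullCongr hh⟩
  exact ⟨(EtCoh.push f).mapIso e ≪≫ h1.some.app _ ≪≫ (EtCoh.push h).mapIso (h2.some.app F)⟩

variable (f : X ⟶ Y)

/-- The base of a wide power. -/
abbrev pw (n : ℕ) : widePullback Y (fun _ : Fin n => X) (fun _ => f) ⟶ Y :=
  WidePullback.base (fun _ : Fin n => f)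

/-- Forgetting the first coordinate. -/
abbrev tl (n : ℕ) : widePullback Y (fun _ : Fin (n + 1) => X) (fun _ => f) ⟶
    widePullback Y (fun _ : Fin n => X) (fun _ => f) :=
  WidePullback.lift (pw f (n + 1)) (fun i => WidePullback.π (fun _ : Fin (n + 1) => f) i.succ)
    (fun i => WidePullback.π_arrow (fun _ : Fin (n + 1) => f) i.succ)

theorem isPullback_pw (n : ℕ) :
    IsPullback (tl f n) (WidePullback.π (fun _ : Fin (n + 1) => f) 0) (pw f n) f := by
  have w : tl f n ≫ pw f n = WidePullback.π (fun _ : Fin (n + 1) => f) 0 ≫ f :=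
    (WidePullback.lift_base _ _ _ _).trans (WidePullback.π_arrow (fun _ : Fin (n + 1) => f) 0).symm
  refine ⟨⟨w⟩, ⟨PullbackCone.IsLimit.mk w
    (fun s => WidePullback.lift (s.snd ≫ f)
      (Fin.cases s.snd fun i => s.fst ≫ WidePullback.π (fun _ : Fin n => f) i)
      (Fin.cases rfl fun i => (Category.assoc _ _ _).trans
        ((congrArg (s.fst ≫ ·) (WidePullback.π_arrow (fun _ : Fin n => f) i)).trans s.condition)))
    (fun s => ?_) (fun s => ?_) (fun s m hm1 hm2 => ?_)⟩⟩
  · refine WidePullback.hom_ext _ _ _ (fun i => ?_) ?_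
    · rw [Category.assoc, WidePullback.lift_π, WidePullback.lift_π]
      rfl
    · rw [Category.assoc, WidePullback.lift_base, WidePullback.lift_base, s.condition]
  · rw [WidePullback.lift_π]
    rfl
  · refine WidePullback.hom_ext _ _ _ (fun i => ?_) ?_
    · rw [WidePullback.lift_π]
      induction i using Fin.cases with
      | zero => exact hm2
      | succ i =>
        show _ = s.fst ≫ _
        rw [← hm1, Category.assoc, WidePullback.lift_π]
    · rw [WidePullback.lift_base, ← hm2, Category.assoc, WidePullback.π_arrow]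

theorem isIso_pw_zero : IsIso (pw f 0) := by
  refine ⟨WidePullback.lift (𝟙 Y) (fun i => i.elim0) (fun i => i.elim0), ?_, WidePullback.lift_base _ _ _ _⟩
  refine WidePullback.hom_ext _ _ _ (fun i => i.elim0) ?_
  rw [Category.assoc, WidePullback.lift_base, Category.comp_id, Category.id_comp]

theorem isIntegralHom_pw [IsIntegralHom f] (n : ℕ) : IsIntegralHom (pw f n) := by
  induction n with
  | zero => have := isIso_pw_zero f; infer_instance
  | succ n ih =>
    have h : IsIntegralHom (tl f n) := MorphismProperty.of_isPullback (isPullback_pw f n).flip ‹IsIntegralHom f›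
    have e : tl f n ≫ pw f n = pw f (n + 1) := WidePullback.lift_base _ _ _ _
    rw [← e]
    infer_instance

theorem nonempty_Tn [IsIntegralHom f] (F : EtCoh.Ab Y) (n : ℕ) :
    Nonempty (Tn (EtCoh.pull f) (EtCoh.push f) F n ≅ (EtCoh.push (pw f n)).obj ((EtCoh.pull (pw f n)).obj F)) := by
  induction n with
  | zero =>
    have := isIso_pw_zero f
    have := unit_isIso_of_surjective (pw f 0) F
    exact ⟨@asIso _ _ _ _ ((EtCoh.pullPushAdj (pw f 0)).unit.app F) this⟩
  | succ n ih =>
    have := isIntegralHom_pw f n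
    obtain ⟨e⟩ := nonempty_step f (pw f n) (tl f n) (WidePullback.π (fun _ : Fin (n + 1) => f) 0) (pw f (n + 1))
      (WidePullback.lift_base _ _ _ _) (isPullback_pw f n) F
    exact ⟨(EtCoh.push f).mapIso ((EtCoh.pull f).mapIso ih.some) ≪≫ e⟩

/-- Cohomology of a direct image along an integral morphism. -/
theorem nonempty_H_push {W : Scheme.{u}} (h : W ⟶ Y) [IsIntegralHom h] (G : EtCoh.Ab W) (q : ℕ) :
    Nonempty (EtCoh.H Y ((EtCoh.push h).obj G) q ≃+ EtCoh.H W G q) := by
  haveI := push_preservesFiniteLimits h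
  haveI := push_preservesFiniteColimits h
  haveI := pull_preservesFiniteLimits h
  refine ⟨(AddEquiv.ofBijective _ (EtMVLib.adjExtMap_bijective (EtCoh.pullPushAdj h) (EtCoh.const Y ℤ) G q)).symm.trans ?_⟩
  exact (((Abelian.extFunctor.{u + 1} q).mapIso (EtCore.pullConst h ℤ).symm.op).app G).addCommGroupIsoToAddEquiv

/-- Global sections. -/
abbrev Gl (Y : Scheme.{u}) : EtCoh.Ab Y ⥤ AddCommGrpCat.{u + 1} := SpObjSS.homFrom (EtCoh.const Y ℤ)

end Et

end


/-- Let f : X → Y be an integral surjective morphism of schemes and F any abelian sheaf on the small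
etale site of Y. Then f is of cohomological descent for F, and the descent spectral sequence reads,
in existence form: there is a bounded spectral sequence of abelian groups starting at page one with
E_1^{p,q} isomorphic, for p, q ≥ 0, to the etale cohomology group H^q(X_p, F|X_p), where X_p is the
(p+1)-fold fibre product of X over Y and F|X_p the inverse image of F along its projection to Y, and
zero otherwise, together with abutment data whose filtrations are finite on H^n(Y_et, F) for n ≥ 0
(zero for n < 0). (The E_1 identifications and the abutment isomorphisms are asserted to exist only;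
the differentials are not part of this statement.) -/
theorem result {X Y : Scheme.{u}} (f : X ⟶ Y)
    [IsIntegralHom f] [Surjective f] (F : EtCoh.Ab Y) :
    ∃ (E : CohomologicalSpectralSequence AddCommGrpCat.{u + 1} 1)
      (a : SpSeq.Abutment E (fun n : ℤ =>
        if 0 ≤ n then AddCommGrpCat.of (EtCoh.H Y F n.toNat) else AddCommGrpCat.of PUnit.{u + 2})),
      (∀ n, a.IsFinite n) ∧ SpSeq.IsBounded E ∧
      ∀ p q : ℤ, Nonempty ((E.page 1 le_rfl).X (p, q) ≅
        (if 0 ≤ p ∧ 0 ≤ q then
          AddCommGrpCat.of (EtCoh.H (widePullback Y (fun _ : Fin (p.toNat + 1) => X) (fun _ => f))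
            ((EtCoh.pull (WidePullback.base (fun _ : Fin (p.toNat + 1) => f) :
              widePullback Y (fun _ : Fin (p.toNat + 1) => X) (fun _ => f) ⟶ Y)).obj F) q.toNat)
         else AddCommGrpCat.of PUnit.{u + 2})) := by
  classical
  haveI := Groth.Agent.EtFound.pull_preservesFiniteLimits f
  haveI : (EtCoh.pull f).Faithful := Groth.Agent.EtFound.pullback_faithful f
  refine Groth.Agent.DescentSS.exists_ss_of_resolution (Gl Y) (bar (EtCoh.pullPushAdj f) F)
    (exactAt_bar (EtCoh.pullPushAdj f) F) F (homology_zero_bar (EtCoh.pullPushAdj f) F)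
    (fun n => AddCommGrpCat.of (EtCoh.H Y F n))
    (fun n => ⟨Groth.Agent.SpObjSS.rightDerivedHomFromIso (EtCoh.const Y ℤ) n F⟩)
    (fun p q => AddCommGrpCat.of (EtCoh.H (widePullback Y (fun _ : Fin (p + 1) => X) (fun _ => f))
      ((EtCoh.pull (pw f (p + 1))).obj F) q)) (fun p q => ?_)
  haveI := isIntegralHom_pw f (p + 1)
  obtain ⟨e⟩ := nonempty_Tn f F (p + 1)
  obtain ⟨eH⟩ := nonempty_H_push (pw f (p + 1)) ((EtCoh.pull (pw f (p + 1))).obj F) q
  exact ⟨((Gl Y).rightDerived q).mapIso e ≪≫
    Groth.Agent.SpObjSS.rightDerivedHomFromIso (EtCoh.const Y ℤ) q _ ≪≫ eH.toAddCommGrpIso⟩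

end Groth.Agent.S8575
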