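import Groth.Statements.S0171
import Groth.Agent.EtSupp13.Main

set_option backward.isDefEq.respectTransparency false
set_option backward.isDefEq.respectTransparency.types false

set_option autoImplicit false
universe u
open CategoryTheory CategoryTheory.Limits AlgebraicGeometry Opposite
open EtPBC

namespace Groth.Agent.S0171

open CategoryTheory.Abelian Groth.Agent.EtFound Groth.Agent.EtSupp13

/-- No cohomology for direct images from closed subschemes without cohomology. -/
theorem subsingleton_H_push {Z X : Scheme.{u}} (i : Z ⟶ X) [IsClosedImmersion i] (G : EtCoh.Ab Z) (q : ℕ)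
    (h : Subsingleton (EtCoh.H Z G q)) : Subsingleton (EtCoh.H X ((EtCoh.push i).obj G) q) := by
  haveI := push_preservesFiniteLimits i
  haveI := push_preservesFiniteColimits i
  haveI := pull_preservesFiniteLimits i
  refine @Function.Surjective.subsingleton _ _ _ ?_
    (EtMVLib.adjExtMap_bijective (EtCoh.pullPushAdj i) (EtCoh.const X ℤ) G q).2
  refine subsingleton_of_forall_eq 0 fun α => ?_
  let e := EtCore.pullConst i ℤ
  have h0 : (Ext.mk₀ e.inv).comp α (zero_add q) = 0 := @Subsingleton.elim _ h _ _
  have h1 := congrArg (fun z => (Ext.mk₀ e.hom).comp z (zero_add q)) h0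
  simpa [Ext.mk₀_comp_mk₀_assoc] using h1

/-- Finitely supported sheaves over a separably closed field have no higher cohomology. -/
theorem subsingleton_H_of_pts {K : Type u} [Field K] [IsSepClosed K] {X : Scheme.{u}}
    (a : X ⟶ Spec (CommRingCat.of K)) [LocallyOfFiniteType a] (G : EtCoh.Ab X) (s : Idx X)
    (hG : ∀ (Ω : Type u) [Field Ω] [IsSepClosed Ω] (ξ : Spec (CommRingCat.of Ω) ⟶ X),
      ξ.base (default : Spec (CommRingCat.of Ω)) ∉ pts s → IsZero ((EtCoh.stalk ξ).obj G))
    (q : ℕ) (hq : 1 ≤ q) : Subsingleton (EtCoh.H X G q) := by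
  let I := Scheme.IdealSheafData.vanishingIdeal ⟨pts s, isClosed_pts s⟩
  let i := I.subschemeι
  have hr : Set.range i.base = pts s :=
    I.range_subschemeι.trans (Scheme.IdealSheafData.coe_support_vanishingIdeal _)
  haveI : Finite ↥I.subscheme := by
    haveI := (finite_pts s).to_subtype
    exact Finite.of_injective (fun z => (⟨i.base z, hr ▸ ⟨z, rfl⟩⟩ : pts s))
      fun z w hzw => i.isEmbedding.injective (congrArg Subtype.val hzw)
  have hz : ∀ z : I.subscheme, IsClosed ({z} : Set I.subscheme) := fun z => by
    have e : ({z} : Set I.subscheme) = i.base ⁻¹' {i.base z} := by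
      ext w
      exact ⟨fun h => congrArg i.base h, fun h => i.isEmbedding.injective h⟩
    rw [e]
    exact (isClosed_singleton_of_mem_pts (s := s) (hr ▸ ⟨z, rfl⟩)).preimage i.continuous
  haveI : T1Space ↥I.subscheme := ⟨hz⟩
  haveI : IsIso ((EtCoh.pullPushAdj i).unit.app G) :=
    unit_isIso_of_supp i G fun k _ _ ξ hξ => hG k ξ (hr ▸ hξ)
  haveI := subsingleton_H_push i ((EtCoh.pull i).obj G) q (S0088.result I.subscheme hz
    (fun z => isSepClosed_residueField (i ≫ a) z (hz z)) _ q hq)
  have e : G ≅ (EtCoh.push i).obj ((EtCoh.pull i).obj G) := asIso ((EtCoh.pullPushAdj i).unit.app G)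
  exact @Function.Injective.subsingleton _ (EtCoh.H X ((EtCoh.push i).obj ((EtCoh.pull i).obj G)) q) _
    ((EtCoh.HF X q).mapIso e).addCommGroupIsoToAddEquiv.injective ‹_›

/-- K separably closed, X of finite type over K, F an abelian sheaf on X_et whose support consists of
closed points. Then H^q(X, F) = 0 for q > 0. (The source also shows F is globally generated; not
stated here.) -/
theorem result {K : Type u} [Field K] [IsSepClosed K] (X : Scheme.{u})
    (a : X ⟶ Spec (CommRingCat.of K)) [LocallyOfFiniteType a] [QuasiCompact a]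
    (F : EtCoh.Ab X) (hF : ∀ x ∈ EtPBC.supp F, IsClosed ({x} : Set X)) (q : ℕ) (hq : 0 < q) :
    Subsingleton (EtCoh.H X F q) := by
  haveI : IsLocallyNoetherian X := LocallyOfFiniteType.isLocallyNoetherian a
  haveI : CompactSpace X := QuasiCompact.compactSpace_of_compactSpace a
  haveI := Groth.Agent.EtSupp13.isIso_desc F hF
  haveI := EtLC12.QcqsAcyclic.preservesColimitsOfShape_HF X q (Idx X)
  let hc := isColimitOfPreserves (EtCoh.HF X q) (colimit.isColimit (parts F))
  have h0 : IsZero ((EtCoh.HF X q).obj (colimit (parts F))) := by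
    refine (IsZero.iff_id_eq_zero _).2 (hc.hom_ext fun s => ?_)
    haveI := subsingleton_H_of_pts a (part F s) s (fun Ω _ _ ξ hξ => isZero_stalk_part F s ξ hξ) q hq
    exact (@AddCommGrpCat.isZero_of_subsingleton ((EtCoh.HF X q).obj ((parts F).obj s))
      (inferInstanceAs (Subsingleton (EtCoh.H X (part F s) q)))).eq_of_src _ _
  exact AddCommGrpCat.subsingleton_of_isZero
    (h0.of_iso ((EtCoh.HF X q).mapIso (asIso (colimit.desc (parts F) (partsCocone F)))).symm)

end Groth.Agent.S0171
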