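import Groth.Statements.S0145
import Groth.Agent.EtFound.ConstrColimSupp
-- import your own Groth.Agent.* helpers here

set_option autoImplicit false
universe u
open CategoryTheory CategoryTheory.Limits AlgebraicGeometry Opposite
open EtPBC

namespace Groth.Agent.S0145

/-- (1): X Noetherian, E a subset of X stable under specialization, F a torsion abelian sheaf on X_et
supported inside E. Then F is a filtered colimit of constructible abelian sheaves each supported
inside some closed subset contained in E. -/
theorem result (X : Scheme.{u}) [IsNoetherian X]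
    (E : Set X) (hE : StableUnderSpecialization E)
    (F : EtCoh.Ab X) (hF : EtCoh.IsTorsion F) (hsupp : EtPBC.supp F ⊆ E) :
    ∃ (J : Type (u + 1)) (_ : SmallCategory J) (_ : IsFiltered J) (D : J ⥤ EtCoh.Ab X)
      (c : Cocone D) (_ : IsColimit c), Nonempty (c.pt ≅ F) ∧
      ∀ j, EtPBC.IsConstructible (D.obj j) ∧
        ∃ Z : Set X, IsClosed Z ∧ Z ⊆ E ∧ EtPBC.supp (D.obj j) ⊆ Z := by
  have hco : SpecLib.CC Eᶜ := by
    have e : E = ⋃ x : E, closure ({x.1} : Set X) := by
      refine Set.Subset.antisymm (fun x hx => Set.mem_iUnion.2 ⟨⟨x, hx⟩, subset_closure rfl⟩)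
        (Set.iUnion_subset fun x y hy => hE (specializes_iff_mem_closure.2 hy) x.2)
    rw [e]
    refine SpecLib.CO.compl (SpecLib.CO.iUnion fun x => (SpecLib.cons_clopen ?_).2)
    have h : Topology.IsConstructible (closure ({x.1} : Set X))ᶜ :=
      ((TopologicalSpace.NoetherianSpace.isCompact _).isRetrocompact isClosed_closure.isOpen_compl).isConstructible
        isClosed_closure.isOpen_compl
    simpa using h.compl
  obtain ⟨J, i₁, i₂, D, c, hc, rfl, hD⟩ := EtFound.exists_colim_avoiding (A := Eᶜ)
    hco.isCompact_cons hF (Set.disjoint_compl_right_iff_subset.2 hsupp)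
  refine ⟨J, i₁, i₂, D, c, hc, ⟨Iso.refl _⟩, fun j => ⟨(hD j).1, closure (EtPBC.supp (D.obj j)), isClosed_closure,
    fun y hy => ?_, subset_closure⟩⟩
  obtain ⟨z, hz, hzy⟩ := SpecLib.CC.exists_specializes
    (SpecLib.cons_clopen (EtFound.isConstructible_supp (hD j).1)).1 hy
  exact hE hzy (Set.disjoint_compl_right_iff_subset.1 (hD j).2 hz)

end Groth.Agent.S0145
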