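import Groth.Statements.S2199
import Groth.Agent.TorObstr.Main
import Mathlib

set_option autoImplicit false
universe u
open LCI

namespace Groth.Agent.S2199

/-- For a Noetherian local ring (A, m) and proper ideals I inside J such that A/J has finite
Tor-dimension as a module over A/I (canonical algebra structure), the map I/mI -> J/mJ is injective:
an element of I lying in mJ already lies in mI. -/
theorem result {A : Type u} [CommRing A] [IsNoetherianRing A] [IsLocalRing A]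
    (I J : Ideal A) (hIJ : I ≤ J) (hJ : J ≠ ⊤) [Algebra (A ⧸ I) (A ⧸ J)]
    [IsScalarTower A (A ⧸ I) (A ⧸ J)] (hfd : DRing.HasFiniteTorDim (A ⧸ I) (A ⧸ J))
    (x : A) (hx : x ∈ I) (hxm : x ∈ IsLocalRing.maximalIdeal A * J) :
    x ∈ IsLocalRing.maximalIdeal A * I := by
  classical
  set m := IsLocalRing.maximalIdeal A
  by_contra hx'
  -- a maximal subideal avoiding `x`
  obtain ⟨L, ⟨hmL, hLI, hxL⟩, hmax⟩ := set_has_maximal_iff_noetherian.2 (inferInstance : IsNoetherian A A)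
    {L : Ideal A | m * I ≤ L ∧ L ≤ I ∧ x ∉ L} ⟨m * I, le_rfl, Ideal.mul_le_right, hx'⟩
  have hIL : ∀ y ∈ I, ∃ c : A, y - c * x ∈ L := by
    intro y hy
    by_cases hyL : y ∈ L
    · exact ⟨0, by simpa using hyL⟩
    have hxmem : x ∈ L ⊔ Ideal.span {y} := by
      by_contra h
      refine hmax (L ⊔ Ideal.span {y})
        ⟨hmL.trans le_sup_left, sup_le hLI ((Ideal.span_singleton_le_iff_mem I).2 hy), h⟩
        (lt_of_le_of_ne le_sup_left fun e => hyL ?_)
      rw [e]
      exact Submodule.mem_sup_right (Ideal.mem_span_singleton_self y)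
    obtain ⟨l, hl, z, hz, hlz⟩ := Submodule.mem_sup.1 hxmem
    obtain ⟨c, rfl⟩ := Ideal.mem_span_singleton'.1 hz
    have hc : IsUnit c := by
      by_contra hc
      apply hxL
      rw [← hlz]
      exact add_mem hl (hmL (Ideal.mul_mem_mul ((IsLocalRing.mem_maximalIdeal c).2 hc) hy))
    obtain ⟨v, hv⟩ := hc.exists_left_inv
    refine ⟨v, ?_⟩
    rw [← hlz, mul_add, ← mul_assoc, hv, one_mul]
    simpa using Ideal.mul_mem_left L (-v) hl
  obtain ⟨D, hD⟩ := hfd
  let ρ : (A ⧸ L) →+* A ⧸ I := Ideal.Quotient.factor hLI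
  have hρ : Function.Surjective ρ := Ideal.Quotient.factor_surjective hLI
  have hker : RingHom.ker ρ = Ideal.span {Ideal.Quotient.mk L x} := by
    refine le_antisymm (fun z hz => ?_) ((Ideal.span_singleton_le_iff_mem _).2 ?_)
    · obtain ⟨y, rfl⟩ := Ideal.Quotient.mk_surjective z
      obtain ⟨c, hc⟩ := hIL y (Ideal.Quotient.eq_zero_iff_mem.1 (show Ideal.Quotient.mk I y = 0 from hz))
      rw [Ideal.Quotient.eq.2 hc, map_mul]
      exact Ideal.mul_mem_left _ _ (Ideal.mem_span_singleton_self _)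
    · exact RingHom.mem_ker.2 ((Ideal.Quotient.factor_mk hLI x).trans (Ideal.Quotient.eq_zero_iff_mem.2 hx))
  have hxm' : x ∈ m := Ideal.mul_le_left hxm
  have hF₀ : Ideal.Quotient.mk L x * Ideal.Quotient.mk L x = 0 := by
    rw [← map_mul, Ideal.Quotient.eq_zero_iff_mem]
    exact hmL (Ideal.mul_mem_mul hxm' hx)
  obtain ⟨p, e, he⟩ := Submodule.fg_iff_exists_fin_generating_family.1 (IsNoetherian.noetherian m)
  let IP : Ideal (A ⧸ I) := m.map (Ideal.Quotient.mk I)
  have hIP : IP = Ideal.span (Set.range fun l => algebraMap (A ⧸ I) (A ⧸ I) (Ideal.Quotient.mk I (e l))) := by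
    show Ideal.map _ m = _
    rw [← he]
    show Ideal.map _ (Ideal.span (Set.range e)) = _
    rw [Ideal.map_span, ← Set.range_comp]
    rfl
  have hK₁ : ∀ u, Ideal.Quotient.mk L x * u = 0 → ρ u ∈ IP := by
    intro u hu
    obtain ⟨u, rfl⟩ := Ideal.Quotient.mk_surjective u
    rw [← map_mul, Ideal.Quotient.eq_zero_iff_mem] at hu
    rw [Ideal.Quotient.factor_mk]
    refine Ideal.mem_map_of_mem _ ((IsLocalRing.mem_maximalIdeal u).2 fun h => hxL ?_)
    exact (Ideal.mul_unit_mem_iff_mem L h).1 hu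
  have hK₂ : ∀ y ∈ IP, ∃ u, Ideal.Quotient.mk L x * u = 0 ∧ ρ u = y := by
    intro y hy
    obtain ⟨u, hu, rfl⟩ := (Ideal.mem_map_iff_of_surjective _ Ideal.Quotient.mk_surjective).1 hy
    refine ⟨Ideal.Quotient.mk L u, ?_, Ideal.Quotient.factor_mk hLI u⟩
    rw [← map_mul, Ideal.Quotient.eq_zero_iff_mem, mul_comm]
    exact hmL (Ideal.mul_mem_mul hu hx)
  -- generators of `J` and the relation
  obtain ⟨s, j, hj⟩ := Submodule.fg_iff_exists_fin_generating_family.1 (IsNoetherian.noetherian J)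
  have hxsum : ∃ r : Fin s → A, (∀ i, r i ∈ m) ∧ ∑ i, r i * j i = x := by
    have : x ∈ m • Submodule.span A (Set.range j) := by rw [hj]; exact hxm
    obtain ⟨r, hr, hr'⟩ := (Submodule.mem_ideal_smul_span_iff_exists_sum m j x).1 this
    exact ⟨r, hr, by rw [← hr', Finsupp.sum_fintype _ _ (fun i => zero_smul A (j i))]; rfl⟩
  obtain ⟨r, hr, hrx⟩ := hxsum
  let fs : Fin s → A ⧸ I := fun i => Ideal.Quotient.mk I (j i)
  have hfs : Ideal.span (Set.range fs) = J.map (Ideal.Quotient.mk I) := by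
    rw [← hj]
    show _ = Ideal.map _ (Ideal.span (Set.range j))
    rw [Ideal.map_span, ← Set.range_comp]
    rfl
  have hq : Function.Surjective (algebraMap (A ⧸ I) (A ⧸ J)) := fun z => by
    obtain ⟨a, rfl⟩ := Ideal.Quotient.mk_surjective z
    exact ⟨algebraMap A (A ⧸ I) a, (IsScalarTower.algebraMap_apply A (A ⧸ I) (A ⧸ J) a).symm⟩
  have hmk : ∀ a, algebraMap (A ⧸ I) (A ⧸ J) (Ideal.Quotient.mk I a) = Ideal.Quotient.mk J a := fun a =>
    (IsScalarTower.algebraMap_apply A (A ⧸ I) (A ⧸ J) a).symm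
  have hkerq : RingHom.ker (Algebra.ofId (A ⧸ I) (A ⧸ J)) = Ideal.span (Set.range fs) := by
    rw [hfs]
    refine le_antisymm (fun z hz => ?_) ?_
    · obtain ⟨a, rfl⟩ := Ideal.Quotient.mk_surjective z
      have h0 : algebraMap (A ⧸ I) (A ⧸ J) (Ideal.Quotient.mk I a) = 0 := hz
      rw [hmk, Ideal.Quotient.eq_zero_iff_mem] at h0
      exact Ideal.mem_map_of_mem _ h0
    · rw [Ideal.map_le_iff_le_comap]
      intro a ha
      show algebraMap (A ⧸ I) (A ⧸ J) (Ideal.Quotient.mk I a) = 0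
      rw [hmk, Ideal.Quotient.eq_zero_iff_mem.2 ha]
  let eJ : ((A ⧸ I) ⧸ Ideal.span (Set.range fs)) ≃ₗ[A ⧸ I] (A ⧸ J) :=
    ((Ideal.quotientEquivAlgOfEq (A ⧸ I) hkerq.symm).trans
      (Ideal.quotientKerAlgEquivOfSurjective (f := Algebra.ofId (A ⧸ I) (A ⧸ J)) hq)).toLinearEquiv
  have hD' : DRing.HasTorDimLE (A ⧸ I) D ((A ⧸ I) ⧸ Ideal.span (Set.range fs)) := by
    intro N _ _ q hq'
    exact ModuleCat.isZero_iff_subsingleton.1
      ((ModuleCat.isZero_iff_subsingleton.2 (hD N q hq')).of_iso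
        (((CategoryTheory.Tor (ModuleCat (A ⧸ I)) q).mapIso eJ.toModuleIso).app (ModuleCat.of (A ⧸ I) N)))
  have hT := Groth.Agent.Synt29.torExactFrom_of_hasTorDimLE hD'
  have key := Groth.Agent.TorObstr.pow_mem_sup (R := A ⧸ I) ρ hρ (Ideal.Quotient.mk L x) hker hF₀
    (fun l => Ideal.Quotient.mk I (e l)) IP hIP hK₁ hK₂
    fs (fun i => Ideal.Quotient.mk I (r i)) (fun i => Ideal.mem_map_of_mem _ (hr i))
    (by
      simp only [fs, ← map_mul, ← map_sum, hrx]
      exact Ideal.Quotient.eq_zero_iff_mem.2 hx)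
    (fun i => Ideal.Quotient.mk L (r i)) (fun i => Ideal.Quotient.mk L (j i))
    (fun i => Ideal.Quotient.factor_mk hLI (r i)) (fun i => Ideal.Quotient.factor_mk hLI (j i)) 1
    (by simp only [← map_mul, ← map_sum, hrx, mul_one])
    (D := D) (fun N Q i hi => hT N Q i (by omega))
  rw [map_one, one_pow, hfs, ← Ideal.map_sup, sup_eq_right.2 (IsLocalRing.le_maximalIdeal hJ),
    Ideal.mem_map_iff_of_surjective _ Ideal.Quotient.mk_surjective] at key
  obtain ⟨u, hu, hu1⟩ := key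
  rw [← map_one (Ideal.Quotient.mk I), Ideal.Quotient.eq] at hu1
  have h1 : (1 : A) ∈ m := by
    have := sub_mem hu (IsLocalRing.le_maximalIdeal (fun h => hJ (top_le_iff.1 (h ▸ hIJ))) hu1)
    simpa using this
  exact (IsLocalRing.maximalIdeal.isMaximal A).ne_top ((Ideal.eq_top_iff_one _).2 h1)


end Groth.Agent.S2199
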