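import Groth.Statements.S2200
import Groth.Agent.RegExch.Basic
import Groth.Agent.S2199

set_option autoImplicit false
universe u
open LCI

namespace Groth.Agent.S2200

/-- Let (A, m) be a Noetherian local ring and I, J proper ideals with I inside J. If J is cut out by a
regular sequence and A/J has finite Tor-dimension as an A/I-module (canonical algebra structure),
then I is cut out by a regular sequence of A and the image of J in A/I by one of A/I. -/
theorem result {A : Type u} [CommRing A] [IsNoetherianRing A] [IsLocalRing A]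
    (I J : Ideal A) (hIJ : I ≤ J) (hJ : J ≠ ⊤) [Algebra (A ⧸ I) (A ⧸ J)]
    [IsScalarTower A (A ⧸ I) (A ⧸ J)] (hfd : DRing.HasFiniteTorDim (A ⧸ I) (A ⧸ J))
    (hJreg : ∃ rs : List A, Ideal.ofList rs = J ∧ RingTheory.Sequence.IsRegular A rs) :
    (∃ rs : List A, Ideal.ofList rs = I ∧ RingTheory.Sequence.IsRegular A rs) ∧
      ∃ rs' : List (A ⧸ I), Ideal.ofList rs' = J.map (Ideal.Quotient.mk I) ∧
        RingTheory.Sequence.IsRegular (A ⧸ I) rs' := by
  obtain ⟨rs, hrs, hreg⟩ := hJreg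
  obtain ⟨xs, rest, hxs, hspan, hw⟩ := Groth.Agent.RegExch.exists_split hJ hIJ
    (fun a ha => Groth.Agent.S2199.result I J hIJ hJ hfd a ha.1 ha.2) ⟨rs, hrs, hreg.toIsWeaklyRegular⟩
  rw [RingTheory.Sequence.isWeaklyRegular_append_iff] at hw
  refine ⟨⟨xs, hxs, hw.1, ?_⟩, rest.map (Ideal.Quotient.mk I), ?_, ?_, ?_⟩
  · rw [hxs, smul_eq_mul, Ideal.mul_top]
    exact fun h => hJ (top_le_iff.1 (h ▸ hIJ))
  · rw [← Ideal.map_ofList, ← hspan, Ideal.ofList_append, hxs, Ideal.map_sup, Ideal.map_quotient_self,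
      bot_sup_eq]
  · have e : (A ⧸ (Ideal.ofList xs • ⊤ : Submodule A A)) ≃ₗ[A] A ⧸ I :=
      Submodule.quotEquivOfEq _ _ (by rw [hxs, smul_eq_mul, Ideal.mul_top])
    rw [e.isWeaklyRegular_congr rest] at hw
    exact (RingTheory.Sequence.isWeaklyRegular_map_algebraMap_iff (A ⧸ I) _ rest).2 hw.2
  · rw [← Ideal.map_ofList, smul_eq_mul, Ideal.mul_top]
    intro h
    apply hJ
    have h' : Ideal.map (Ideal.Quotient.mk I) J = ⊤ := by
      rw [← hspan, Ideal.ofList_append, hxs, Ideal.map_sup, Ideal.map_quotient_self, bot_sup_eq, ← h]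
    have := congrArg (Ideal.comap (Ideal.Quotient.mk I)) h'
    rwa [Ideal.comap_map_mk hIJ, Ideal.comap_top] at this


end Groth.Agent.S2200
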