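import Groth.Statements.S2201
import Groth.Agent.RegExch.Relative
import Groth.Agent.S2200

set_option autoImplicit false
universe u
open LCI

namespace Groth.Agent.S2201
set_option maxHeartbeats 800000

open RingTheory.Sequence IsLocalRing in
theorem forward {R S : Type u} [CommRing R] [CommRing S] [IsNoetherianRing R]
    [IsNoetherianRing S] [IsLocalRing R] [IsLocalRing S] [Algebra R S] [IsLocalHom (algebraMap R S)]
    [Module.Flat R S]
    [IsRegularLocalRing (S ⧸ Ideal.map (algebraMap R S) (IsLocalRing.maximalIdeal R))]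
    (I : Ideal R) (J : Ideal S) (hI : I ≠ ⊤) (hJ : J ≠ ⊤) (hIJ : I.map (algebraMap R S) ≤ J)
    [Algebra (R ⧸ I) (S ⧸ J)] [IsScalarTower R (R ⧸ I) (S ⧸ J)]
    (hJreg : ∃ rs : List S, Ideal.ofList rs = J ∧ RingTheory.Sequence.IsRegular S rs) (d : ℕ)
    (hd : Subsingleton (DRing.Tor (R ⧸ I) (d + 1) (S ⧸ J)
        ((R ⧸ I) ⧸ (IsLocalRing.maximalIdeal R).map (Ideal.Quotient.mk I)))) :
    (∃ rs : List R, Ideal.ofList rs = I ∧ RingTheory.Sequence.IsRegular R rs) ∧
      ∃ rs' : List (S ⧸ I.map (algebraMap R S)),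
        Ideal.ofList rs' = J.map (Ideal.Quotient.mk (I.map (algebraMap R S))) ∧
          RingTheory.Sequence.IsRegular (S ⧸ I.map (algebraMap R S)) rs' := by
  let IS : Ideal S := I.map (algebraMap R S)
  have hISne : IS ≠ ⊤ := fun h => hJ (top_le_iff.1 (h ▸ hIJ))
  haveI : Nontrivial (R ⧸ I) := Ideal.Quotient.nontrivial_iff.2 hI
  haveI : IsLocalRing (R ⧸ I) := IsLocalRing.of_surjective' (Ideal.Quotient.mk I) Ideal.Quotient.mk_surjective
  haveI : Nontrivial (S ⧸ IS) := Ideal.Quotient.nontrivial_iff.2 hISne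
  haveI : IsLocalRing (S ⧸ IS) := IsLocalRing.of_surjective' (Ideal.Quotient.mk IS) Ideal.Quotient.mk_surjective
  have hmA : IsLocalRing.maximalIdeal (R ⧸ I) = (IsLocalRing.maximalIdeal R).map (Ideal.Quotient.mk I) :=
    (IsLocalRing.map_maximalIdeal_of_surjective _ Ideal.Quotient.mk_surjective).symm
  have hmS : IsLocalRing.maximalIdeal (S ⧸ IS) = (IsLocalRing.maximalIdeal S).map (Ideal.Quotient.mk IS) :=
    (IsLocalRing.map_maximalIdeal_of_surjective _ Ideal.Quotient.mk_surjective).symm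
  have halg : (algebraMap (R ⧸ I) (S ⧸ IS)).comp (Ideal.Quotient.mk I) =
      (Ideal.Quotient.mk IS).comp (algebraMap R S) := RingHom.ext fun _ => rfl
  have hmap : (IsLocalRing.maximalIdeal (R ⧸ I)).map (algebraMap (R ⧸ I) (S ⧸ IS)) =
      ((IsLocalRing.maximalIdeal R).map (algebraMap R S)).map (Ideal.Quotient.mk IS) := by
    rw [hmA, Ideal.map_map, Ideal.map_map, halg]
  haveI : IsLocalHom (algebraMap (R ⧸ I) (S ⧸ IS)) := by
    refine ((IsLocalRing.local_hom_TFAE _).out 0 2).2 ?_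
    rw [hmap, hmS]
    exact Ideal.map_mono (IsLocalRing.map_maximalIdeal_le (algebraMap R S))
  haveI : Module.Flat (R ⧸ I) (S ⧸ IS) := Module.Flat.of_linearEquiv
    (Algebra.TensorProduct.quotIdealMapEquivQuotTensor S I).toLinearEquiv
  haveI : IsRegularLocalRing ((S ⧸ IS) ⧸ (IsLocalRing.maximalIdeal (R ⧸ I)).map (algebraMap (R ⧸ I) (S ⧸ IS))) :=
    IsRegularLocalRing.of_ringEquiv
      ((DoubleQuot.quotQuotEquivQuotOfLE (Ideal.map_mono (IsLocalRing.le_maximalIdeal hI) :
          IS ≤ (IsLocalRing.maximalIdeal R).map (algebraMap R S))).symm.trans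
        (Ideal.quotEquivOfEq hmap.symm))
  letI : Algebra (S ⧸ IS) (S ⧸ J) := (Ideal.Quotient.factor hIJ).toAlgebra
  haveI : IsScalarTower S (S ⧸ IS) (S ⧸ J) := IsScalarTower.of_algebraMap_eq fun x => rfl
  haveI : IsScalarTower (R ⧸ I) (S ⧸ IS) (S ⧸ J) := IsScalarTower.of_algebraMap_eq fun x => by
    obtain ⟨r, rfl⟩ := Ideal.Quotient.mk_surjective x
    show algebraMap (R ⧸ I) (S ⧸ J) (algebraMap R (R ⧸ I) r) = _
    rw [← IsScalarTower.algebraMap_apply R (R ⧸ I) (S ⧸ J)]
    rfl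
  haveI : Module.Finite (S ⧸ IS) (S ⧸ J) := Module.Finite.of_restrictScalars_finite S (S ⧸ IS) (S ⧸ J)
  have hfd : DRing.HasFiniteTorDim (S ⧸ IS) (S ⧸ J) := by
    refine Groth.Agent.RegExch.hasFiniteTorDim_of_tor_residue (A := R ⧸ I) (B := S ⧸ IS) (S ⧸ J) d ?_
    rw [hmA]
    exact hd
  obtain ⟨⟨rs, hrs, hreg⟩, hrest⟩ := Groth.Agent.S2200.result IS J hIJ hJ hfd hJreg
  refine ⟨?_, hrest⟩
  haveI : Module.FaithfullyFlat R S := Module.FaithfullyFlat.of_flat_of_isLocalHom
  obtain ⟨xs, hxs, hspan, hw⟩ := Groth.Agent.RegExch.exists_regular_subset hISne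
    (algebraMap R S '' (I : Set R)) rfl ⟨rs, hrs, hreg.toIsWeaklyRegular⟩
  have hys : ∃ ys : List R, (∀ y ∈ ys, y ∈ I) ∧ ys.map (algebraMap R S) = xs := by
    clear hspan hw
    induction xs with
    | nil => exact ⟨[], by simp, rfl⟩
    | cons x xs ih =>
      obtain ⟨y, hy, rfl⟩ := hxs x List.mem_cons_self
      obtain ⟨ys, hys, rfl⟩ := ih (fun a ha => hxs a (List.mem_cons_of_mem _ ha))
      exact ⟨y :: ys, fun a ha => (List.mem_cons.1 ha).elim (fun h => h ▸ hy) (hys a), rfl⟩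
  obtain ⟨ys, hys, rfl⟩ := hys
  have hI' : Ideal.ofList ys = I := by
    rw [← Ideal.comap_map_eq_self_of_faithfullyFlat (B := S) (Ideal.ofList ys), Ideal.map_ofList, hspan,
      Ideal.comap_map_eq_self_of_faithfullyFlat]
  refine ⟨ys, hI', Groth.Agent.RegExch.isWeaklyRegular_of_faithfullyFlat ys hw, ?_⟩
  rw [hI', smul_eq_mul, Ideal.mul_top]
  exact hI.symm

open RingTheory.Sequence IsLocalRing in
theorem backward {R S : Type u} [CommRing R] [CommRing S] [IsNoetherianRing R]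
    [IsNoetherianRing S] [IsLocalRing R] [IsLocalRing S] [Algebra R S] [IsLocalHom (algebraMap R S)]
    [Module.Flat R S]
    (I : Ideal R) (J : Ideal S) (hI : I ≠ ⊤) (hJ : J ≠ ⊤) (hIJ : I.map (algebraMap R S) ≤ J)
    [Algebra (R ⧸ I) (S ⧸ J)] [IsScalarTower R (R ⧸ I) (S ⧸ J)]
    (rs : List R) (hrs : Ideal.ofList rs = I) (hreg : IsWeaklyRegular R rs)
    (rs' : List (S ⧸ I.map (algebraMap R S)))
    (hrs' : Ideal.ofList rs' = J.map (Ideal.Quotient.mk (I.map (algebraMap R S))))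
    (hreg' : IsWeaklyRegular (S ⧸ I.map (algebraMap R S)) rs') :
    (∃ rs : List S, Ideal.ofList rs = J ∧ RingTheory.Sequence.IsRegular S rs) ∧
      DRing.HasFiniteTorDim (R ⧸ I) (S ⧸ J) := by
  constructor
  · let q := Ideal.Quotient.mk (I.map (algebraMap R S))
    let ls : List S := rs'.map (Function.surjInv (Ideal.Quotient.mk_surjective (I := I.map (algebraMap R S))))
    have hls : ls.map q = rs' := by
      simp only [ls, List.map_map]
      exact (List.map_congr_left fun a _ => Function.surjInv_eq _ a).trans (List.map_id _)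
    have hspan : Ideal.ofList (rs.map (algebraMap R S)) = I.map (algebraMap R S) := by
      rw [← Ideal.map_ofList, hrs]
    have hJ' : Ideal.ofList (rs.map (algebraMap R S) ++ ls) = J := by
      rw [Ideal.ofList_append, hspan]
      have h1 : (Ideal.ofList ls).map q = J.map q := by rw [Ideal.map_ofList, hls, hrs']
      have h2 := congrArg (Ideal.comap q) h1
      rw [Ideal.comap_map_of_surjective q Ideal.Quotient.mk_surjective,
        Ideal.comap_map_of_surjective q Ideal.Quotient.mk_surjective, ← RingHom.ker_eq_comap_bot,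
        Ideal.mk_ker] at h2
      rwa [sup_comm, sup_eq_left.2 hIJ] at h2
    refine ⟨_, hJ', ?_, by rw [hJ', smul_eq_mul, Ideal.mul_top]; exact hJ.symm⟩
    rw [isWeaklyRegular_append_iff]
    refine ⟨hreg.of_flat, ?_⟩
    rw [(Submodule.quotEquivOfEq _ (I.map (algebraMap R S))
      (by rw [hspan, smul_eq_mul, Ideal.mul_top])).isWeaklyRegular_congr ls,
      ← isWeaklyRegular_map_algebraMap_iff (S ⧸ I.map (algebraMap R S)) (S ⧸ I.map (algebraMap R S)) ls]
    rw [show ls.map (algebraMap S (S ⧸ I.map (algebraMap R S))) = rs' from hls]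
    exact hreg'
  · let IS : Ideal S := I.map (algebraMap R S)
    haveI : Module.Flat (R ⧸ I) (S ⧸ IS) := Module.Flat.of_linearEquiv
      (Algebra.TensorProduct.quotIdealMapEquivQuotTensor S I).toLinearEquiv
    let g : (S ⧸ IS) →ₗ[R] S ⧸ J := ((Ideal.Quotient.factorₐ S hIJ).toLinearMap).restrictScalars R
    let g' : (S ⧸ IS) →ₗ[R ⧸ I] S ⧸ J := g.extendScalarsOfSurjective Ideal.Quotient.mk_surjective
    have hg : Function.Surjective g' := Ideal.Quotient.factor_surjective hIJ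
    have hker : LinearMap.ker g' =
        (Ideal.ofList rs' • ⊤ : Submodule (S ⧸ IS) (S ⧸ IS)).restrictScalars (R ⧸ I) := by
      ext z
      rw [LinearMap.mem_ker, Submodule.restrictScalars_mem, smul_eq_mul, Ideal.mul_top, hrs']
      obtain ⟨z, rfl⟩ := Ideal.Quotient.mk_surjective z
      show Ideal.Quotient.factor hIJ (Ideal.Quotient.mk IS z) = 0 ↔ _
      rw [Ideal.Quotient.factor_mk, Ideal.Quotient.eq_zero_iff_mem,
        Ideal.mem_quotient_iff_mem_sup, sup_eq_left.2 hIJ]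
    refine ⟨0 + rs'.length, ?_⟩
    exact Groth.Agent.RegExch.torDimLE_of_equiv
      ((Submodule.Quotient.restrictScalarsEquiv (R ⧸ I) _).symm.trans
        ((Submodule.quotEquivOfEq _ _ hker.symm).trans (g'.quotKerEquivOfSurjective hg)))
      (Groth.Agent.RegExch.torDimLE_quot_regular (A := R ⧸ I) rs' (S ⧸ IS) 0 hreg'
        (Groth.Agent.RegExch.torDimLE_of_flat 0))


/-- Let R -> S be a flat local homomorphism of Noetherian local rings with S/m_R S regular, and let I in
R and J in S be proper ideals with I S inside J; give S/J its canonical R/I-algebra structure.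
Equivalent: (1) J is cut out by a regular sequence while S/J, as an R/I-module, has finite
Tor-dimension; (2) the same with only finitely many nonzero Tor_p^{R/I}(S/J, k), k the residue field
of R/I; (3) I and J/IS are each cut out by regular sequences (in R, resp. S/IS). Stated as (1) iff
(3) and (2) iff (3). -/
theorem result {R S : Type u} [CommRing R] [CommRing S] [IsNoetherianRing R]
    [IsNoetherianRing S] [IsLocalRing R] [IsLocalRing S] [Algebra R S] [IsLocalHom (algebraMap R S)]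
    [Module.Flat R S]
    [IsRegularLocalRing (S ⧸ Ideal.map (algebraMap R S) (IsLocalRing.maximalIdeal R))]
    (I : Ideal R) (J : Ideal S) (hI : I ≠ ⊤) (hJ : J ≠ ⊤) (hIJ : I.map (algebraMap R S) ≤ J)
    [Algebra (R ⧸ I) (S ⧸ J)] [IsScalarTower R (R ⧸ I) (S ⧸ J)] :
    let P3 := (∃ rs : List R, Ideal.ofList rs = I ∧ RingTheory.Sequence.IsRegular R rs) ∧
      ∃ rs' : List (S ⧸ I.map (algebraMap R S)),
        Ideal.ofList rs' = J.map (Ideal.Quotient.mk (I.map (algebraMap R S))) ∧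
          RingTheory.Sequence.IsRegular (S ⧸ I.map (algebraMap R S)) rs'
    let Jreg := ∃ rs : List S, Ideal.ofList rs = J ∧ RingTheory.Sequence.IsRegular S rs
    ((Jreg ∧ DRing.HasFiniteTorDim (R ⧸ I) (S ⧸ J)) ↔ P3) ∧
      ((Jreg ∧ Set.Finite {p : ℕ | ¬Subsingleton (DRing.Tor (R ⧸ I) p (S ⧸ J)
        ((R ⧸ I) ⧸ (IsLocalRing.maximalIdeal R).map (Ideal.Quotient.mk I)))}) ↔ P3) := by
  intro P3 Jreg
  haveI : Nontrivial (R ⧸ I) := Ideal.Quotient.nontrivial_iff.2 hI
  have hbwd : P3 → Jreg ∧ DRing.HasFiniteTorDim (R ⧸ I) (S ⧸ J) := by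
    rintro ⟨⟨rs, h1, h2⟩, rs', h3, h4⟩
    exact backward I J hI hJ hIJ rs h1 h2.toIsWeaklyRegular rs' h3 h4.toIsWeaklyRegular
  refine ⟨⟨?_, hbwd⟩, ⟨?_, fun h => ⟨(hbwd h).1, ?_⟩⟩⟩
  · rintro ⟨hj, d, hd⟩
    exact forward I J hI hJ hIJ hj d (hd _ (d + 1) (Nat.lt_succ_self d))
  · rintro ⟨hj, hfin⟩
    obtain ⟨b, hb⟩ := hfin.bddAbove
    refine forward I J hI hJ hIJ hj b ?_
    by_contra hns
    exact absurd (hb hns) (by omega)
  · obtain ⟨d, hd⟩ := (hbwd h).2
    exact (Set.finite_Iic d).subset fun p hp => not_lt.1 fun hlt => hp (hd _ p hlt)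


end Groth.Agent.S2201
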