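import Groth.Statements.S9231
import Groth.Agent.LocalCrit.Completion
import Groth.Agent.LC.CanonComplete
import Mathlib

set_option autoImplicit false
universe u
open CAlg

namespace Groth.Agent.S9231
theorem flat_of_flat_faithfullyFlat {A B C : Type u} [CommRing A] [CommRing B] [CommRing C] [Algebra A B]
    [Algebra B C] [Algebra A C] [IsScalarTower A B C] [Module.FaithfullyFlat B C] [Module.Flat A C] :
    Module.Flat A B := by
  rw [Module.Flat.iff_lTensor_injective']
  intro I
  let ι : ∀ (N : Type u) [AddCommGroup N] [Module A N], TensorProduct A B N →ₗ[A] TensorProduct A C N :=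
    fun N _ _ => (IsScalarTower.toAlgHom A B C).toLinearMap.rTensor N
  have hι : ∀ (N : Type u) [AddCommGroup N] [Module A N], Function.Injective (ι N) := by
    intro N _ _
    have e : ∀ x, ι N x = TensorProduct.AlgebraTensorModule.cancelBaseChange A B B C N
        ((1 : C) ⊗ₜ[B] x) := by
      intro x
      induction x using TensorProduct.induction_on with
      | zero => simp
      | tmul b n => simp [ι, Algebra.algebraMap_eq_smul_one]
      | add x y hx hy => simp only [TensorProduct.tmul_add, map_add, hx, hy]
    intro x y hxy
    rw [e, e] at hxy
    exact Module.FaithfullyFlat.tensorProduct_mk_injective (A := B) (B := C) (TensorProduct A B N)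
      ((TensorProduct.AlgebraTensorModule.cancelBaseChange A B B C N).injective hxy)
  intro x y hxy
  apply hι
  apply Module.Flat.lTensor_preserves_injective_linearMap (M := C) I.subtype I.injective_subtype
  have e : ∀ z, (I.subtype.lTensor C) (ι I z) = ι A (I.subtype.lTensor B z) := by
    intro z
    induction z using TensorProduct.induction_on with
    | zero => simp
    | tmul b n => simp [ι]
    | add x y hx hy => simp only [map_add, hx, hy]
  rw [e, e, hxy]



/-- For a local ring map A → B between Noetherian local rings, let ψ be the induced map from the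
completion of A at its maximal ideal to that of B (here: a ring map of the completions whose
composite with A → A^ is the composite A → B → B^; since A is Noetherian such a map is unique, hence
is the canonical one). Then ψ is flat exactly when A → B is flat. -/
theorem result (A B : Type u) [CommRing A] [CommRing B] [IsLocalRing A]
    [IsLocalRing B] [IsNoetherianRing A] [IsNoetherianRing B] [Algebra A B]
    [IsLocalHom (algebraMap A B)]
    (ψ : AdicCompletion (IsLocalRing.maximalIdeal A) A →+* AdicCompletion (IsLocalRing.maximalIdeal B) B)
    (hψ : ψ.comp (algebraMap A (AdicCompletion (IsLocalRing.maximalIdeal A) A)) =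
      (algebraMap B (AdicCompletion (IsLocalRing.maximalIdeal B) B)).comp (algebraMap A B)) :
    ψ.Flat ↔ (algebraMap A B).Flat := by
  haveI := LC.Canon.isNoetherianRing_completion (R := A)
  haveI := LC.Canon.isNoetherianRing_completion (R := B)
  haveI := LC.Canon.faithfullyFlat_completion (R := A)
  haveI := LC.Canon.faithfullyFlat_completion (R := B)
  let Ah := AdicCompletion (IsLocalRing.maximalIdeal A) A
  let Bh := AdicCompletion (IsLocalRing.maximalIdeal B) B
  letI : Algebra Ah Bh := ψ.toAlgebra
  haveI : IsScalarTower A B Bh := inferInstance
  haveI : IsScalarTower A Ah Bh := IsScalarTower.of_algebraMap_eq fun a => by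
    rw [IsScalarTower.algebraMap_apply A B Bh]
    exact (RingHom.congr_fun hψ a).symm
  constructor
  · intro h
    haveI : Module.Flat Ah Bh := h
    haveI : Module.Flat A Bh := Module.Flat.trans A Ah Bh
    exact RingHom.flat_algebraMap_iff.mpr (flat_of_flat_faithfullyFlat (C := Bh))
  · intro h
    haveI : Module.Flat A B := RingHom.flat_algebraMap_iff.mp h
    haveI : Module.Flat A Bh := Module.Flat.trans A B Bh
    have hmA : IsLocalRing.maximalIdeal Ah = (IsLocalRing.maximalIdeal A).map (algebraMap A Ah) :=
      AdicCompletion.maximalIdeal_eq_map
    have hI : (IsLocalRing.maximalIdeal Ah).map (algebraMap Ah Bh) ≤ Ideal.jacobson (⊥ : Ideal Bh) := by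
      refine le_trans ?_ (IsLocalRing.maximalIdeal_le_jacobson _)
      rw [hmA, Ideal.map_map, ← IsScalarTower.algebraMap_eq, IsScalarTower.algebraMap_eq A B Bh,
        ← Ideal.map_map, show IsLocalRing.maximalIdeal Bh = _ from AdicCompletion.maximalIdeal_eq_map (R := B)]
      exact Ideal.map_mono (IsLocalRing.map_maximalIdeal_le (algebraMap A B))
    show Module.Flat Ah Bh
    refine LocalCrit.flat_of_le_jacobson (B := Bh) (IsLocalRing.maximalIdeal Ah) hI ?_
      (LocalCrit.keepsInjective_of_isMaximal _ _)
    let m := IsLocalRing.maximalIdeal A
    let mh := IsLocalRing.maximalIdeal Ah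
    let g : m →ₗ[A] mh :=
      { toFun := fun a => ⟨algebraMap A Ah a, by
          rw [show mh = m.map (algebraMap A Ah) from hmA]
          exact Ideal.mem_map_of_mem _ a.2⟩
        map_add' := fun a b => Subtype.ext (map_add _ _ _)
        map_smul' := fun r a => Subtype.ext (by
          show algebraMap A Ah (r * a) = r • algebraMap A Ah a
          rw [map_mul, Algebra.smul_def]) }
    let s : TensorProduct A m Bh →ₗ[A] TensorProduct Ah mh Bh :=
      TensorProduct.lift (LinearMap.mk₂ A (fun a b => g a ⊗ₜ[Ah] b)
        (fun a a' b => by rw [map_add, TensorProduct.add_tmul])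
        (fun r a b => by rw [map_smul]; rfl)
        (fun a b b' => TensorProduct.tmul_add _ _ _)
        (fun r a b => by
          rw [← IsScalarTower.algebraMap_smul Ah r b, TensorProduct.tmul_smul,
            IsScalarTower.algebraMap_smul]))
    have hs : Function.Surjective s := by
      intro z
      induction z using TensorProduct.induction_on with
      | zero => exact ⟨0, map_zero _⟩
      | add x y hx hy =>
        obtain ⟨p, hp⟩ := hx
        obtain ⟨q, hq⟩ := hy
        exact ⟨p + q, by rw [map_add, hp, hq]⟩
      | tmul a b =>
        obtain ⟨a, ha⟩ := a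
        have ha' : a ∈ Submodule.span Ah (algebraMap A Ah '' (m : Set A)) := by
          rw [show mh = m.map (algebraMap A Ah) from hmA] at ha
          exact ha
        induction ha' using Submodule.span_induction generalizing b with
        | mem x hx =>
          obtain ⟨c, hc, rfl⟩ := hx
          exact ⟨(⟨c, hc⟩ : m) ⊗ₜ b, by simp [s, g]⟩
        | zero => exact ⟨0, by rw [map_zero]; exact (TensorProduct.zero_tmul _ b).symm⟩
        | add x y hx hy hx' hy' =>
          have hxm : x ∈ mh := by
            show x ∈ IsLocalRing.maximalIdeal Ah
            rw [hmA]; exact hx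
          have hym : y ∈ mh := by
            show y ∈ IsLocalRing.maximalIdeal Ah
            rw [hmA]; exact hy
          obtain ⟨p, hp⟩ := hx' b hxm
          obtain ⟨q, hq⟩ := hy' b hym
          exact ⟨p + q, by rw [map_add, hp, hq, ← TensorProduct.add_tmul]; rfl⟩
        | smul c x hx hx' =>
          have hxm : x ∈ mh := by
            show x ∈ IsLocalRing.maximalIdeal Ah
            rw [hmA]; exact hx
          obtain ⟨p, hp⟩ := hx' (c • b) hxm
          exact ⟨p, by rw [hp, TensorProduct.tmul_smul, TensorProduct.smul_tmul']; rfl⟩
    have hcomp : ∀ z, TensorProduct.lid Ah Bh ((Submodule.subtype mh).rTensor Bh (s z)) =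
        TensorProduct.lid A Bh ((Submodule.subtype m).rTensor Bh z) := by
      intro z
      induction z using TensorProduct.induction_on with
      | zero => simp
      | tmul a b => simp [s, g]
      | add x y hx hy => simp only [map_add, hx, hy]
    intro x y hxy
    obtain ⟨x, rfl⟩ := hs x
    obtain ⟨y, rfl⟩ := hs y
    congr 1
    apply Module.Flat.rTensor_preserves_injective_linearMap (M := Bh) (Submodule.subtype m)
      (Submodule.injective_subtype m)
    apply (TensorProduct.lid A Bh).injective
    rw [← hcomp, ← hcomp, hxy]


end Groth.Agent.S9231
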