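import Groth.Statements.S2165
import Groth.Agent.CILib.Basic
import Mathlib.RingTheory.Regular.Flat

set_option autoImplicit false
universe u
open LCI

namespace Groth.Agent.S2165

/-- Let R be a regular ring, p a prime ideal of R and f_1, ..., f_r a regular sequence of R contained in
p. Then the local ring R_p/(f_1, ..., f_r) is a complete intersection: its completion is a regular
local ring modulo a regular sequence. The instance hypothesis that the quotient is local always
holds. -/
theorem result {R : Type u} [CommRing R] [IsRegularRing R]
    (p : Ideal R) [p.IsPrime] (rs : List R) (hmem : ∀ r ∈ rs, r ∈ p)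
    (hreg : RingTheory.Sequence.IsRegular R rs)
    [IsLocalRing (Localization.AtPrime p ⧸
      Ideal.map (algebraMap R (Localization.AtPrime p)) (Ideal.ofList rs))] :
    Pi1.IsCompleteIntersection (Localization.AtPrime p ⧸
      Ideal.map (algebraMap R (Localization.AtPrime p)) (Ideal.ofList rs)) := by
  haveI := IsRegularRing.isRegularLocalRing_localization (R := R) p
  rw [CILib.isCI_iff_regular (Ideal.Quotient.mk _) Ideal.Quotient.mk_surjective, Ideal.mk_ker]
  refine ⟨rs.map (algebraMap R (Localization.AtPrime p)), ?_, Ideal.map_ofList _ _⟩
  exact RingTheory.Sequence.IsWeaklyRegular.isRegular_of_isLocalization_of_mem _ p hreg.toIsWeaklyRegular hmem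


end Groth.Agent.S2165
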