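import Groth.Statements.S0738
import Groth.Agent.SpecLib.Basic
-- import your own Groth.Agent.* helpers here

set_option autoImplicit false
open Topology
universe u
open ProEtW

namespace Groth.Agent.S0738

/-- A closed subset of a w-local spectral space is w-local (with the subspace topology). -/
theorem result (X : Type u) [TopologicalSpace X] (hX : ProEtW.IsWLocal X)
    (Y : Set X) (hY : IsClosed Y) : ProEtW.IsWLocal ↥Y := by
  obtain ⟨hsp, hcl, hu⟩ := hX
  have hiff : ∀ y : ↥Y, IsClosed ({y} : Set ↥Y) ↔ IsClosed ({(y : X)} : Set X) := by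
    intro y
    rw [hY.isClosedEmbedding_subtypeVal.isClosed_iff_image_isClosed, Set.image_singleton]
  refine ⟨SpecLib.spectralSpace_of_cc (SpecLib.cc_of_isClosed hY), ?_, fun x => ?_⟩
  · have : {y : ↥Y | IsClosed ({y} : Set ↥Y)} = Subtype.val ⁻¹' {x : X | IsClosed ({x} : Set X)} :=
      Set.ext hiff
    rw [this]
    exact hcl.preimage continuous_subtype_val
  · obtain ⟨y, ⟨hy, hxy⟩, huy⟩ := hu x
    refine ⟨⟨y, hxy.mem_closed hY x.2⟩, ⟨(hiff _).2 hy, (subtype_specializes_iff _ _).2 hxy⟩, ?_⟩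
    rintro z ⟨hz, hxz⟩
    exact Subtype.ext (huy z ⟨(hiff z).1 hz, (subtype_specializes_iff _ _).1 hxz⟩)

end Groth.Agent.S0738
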