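import Groth.Statements.S17362
import Groth.Agent.AzInvLib.Locus

set_option autoImplicit false
universe u v w
open scoped TensorProduct
open AzInv

namespace Groth.Agent.S17362

open Groth.Agent

/-- Let `R` be a commutative ring with an involution `lam` whose fixed ring is exactly `S`, with `2` a
unit in `S`, and let `(A, t)` be an Azumaya `R`-algebra of degree `n ≥ 1` with a `lam`-involution.
For a prime `q` of `R` in the ramification locus (`lam` is the identity modulo `q`) call `t`
orthogonal at `q` when the images of the `t`-symmetric elements of `A` span a subspace of `k(q) ⊗_R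
A` of dimension `n (n + 1) / 2` over `k(q)` (the induced involution of the central simple algebra
`k(q) ⊗_R A` is then orthogonal, and symplectic otherwise). Then this orthogonal/symplectic sign is
locally constant on the ramification locus: every such `q` has a basic open neighbourhood `D(f)`
such that at every prime of the ramification locus inside `D(f)` the sign is the same as at `q`.
(The source states this for a good quotient of schemes by an involution with `2` invertible, as
local constancy of a sign function on the ramification locus; the row is the affine case with the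
sign spelled out by dimensions of symmetric elements.) -/
theorem result (S : Type u) (R : Type v) [CommRing S] [CommRing R] [Algebra S R]
    (lam : R ≃ₐ[S] R) (hlam : ∀ r, lam (lam r) = r) (hfix : RInv.IsFixedRing S R lam.toRingEquiv)
    (h2 : IsUnit (2 : S))
    (A : Type w) [Ring A] [Algebra S A] [Algebra R A] [IsScalarTower S R A]
    (n : ℕ) (hn : 0 < n) (hA : AzInv.IsAzumayaDeg R A n) (t : AzInv.LamInv R A lam)
    (q : PrimeSpectrum R) (hq : ∀ r : R, lam r - r ∈ q.asIdeal) :
    ∃ f : R, f ∉ q.asIdeal ∧ ∀ q' : PrimeSpectrum R, (∀ r : R, lam r - r ∈ q'.asIdeal) → f ∉ q'.asIdeal →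
      (Module.finrank q'.asIdeal.ResidueField
          (Submodule.span q'.asIdeal.ResidueField
            (Set.range fun a : {a : A // t a = a} => (1 : q'.asIdeal.ResidueField) ⊗ₜ[R] (a : A))) = Nat.choose (n + 1) 2 ↔
        Module.finrank q.asIdeal.ResidueField
            (Submodule.span q.asIdeal.ResidueField
              (Set.range fun a : {a : A // t a = a} => (1 : q.asIdeal.ResidueField) ⊗ₜ[R] (a : A))) = Nat.choose (n + 1) 2) := by

  haveI := hA.1
  let I : Ideal R := Ideal.span (Set.range fun r => lam r - r)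
  have hQ : ∀ r, algebraMap R (R ⧸ I) (lam r) = algebraMap R (R ⧸ I) r := fun r =>
    Ideal.Quotient.eq.mpr (Ideal.subset_span ⟨r, rfl⟩)
  have h2Q : IsUnit (2 : R ⧸ I) := by
    have h := (h2.map (algebraMap S R)).map (algebraMap R (R ⧸ I))
    rwa [map_ofNat, map_ofNat] at h
  haveI := AzInvLib.projective_symSpan hQ h2Q t
  haveI := AzInvLib.finite_symSpan hQ h2Q t
  haveI : Module.FinitePresentation (R ⧸ I) (AzInvLib.symSpan (R ⧸ I) t) :=
    Module.finitePresentation_of_projective _ _
  have key : ∀ q' : PrimeSpectrum R, (∀ r, lam r - r ∈ q'.asIdeal) → ∃ x : PrimeSpectrum (R ⧸ I),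
      PrimeSpectrum.comap (Ideal.Quotient.mk I) x = q' ∧
        Module.finrank q'.asIdeal.ResidueField (AzInvLib.symSpan q'.asIdeal.ResidueField t) =
          Module.rankAtStalk (AzInvLib.symSpan (R ⧸ I) t) x := fun q' hq' => by
    have hI : I ≤ q'.asIdeal := Ideal.span_le.mpr (by rintro _ ⟨r, rfl⟩; exact hq' r)
    letI : Algebra (R ⧸ I) q'.asIdeal.ResidueField :=
      (Ideal.Quotient.lift I (algebraMap R q'.asIdeal.ResidueField) fun r hr =>
        Ideal.algebraMap_residueField_eq_zero.mpr (hI hr)).toAlgebra
    haveI : IsScalarTower R (R ⧸ I) q'.asIdeal.ResidueField := IsScalarTower.of_algebraMap_eq fun _ => rfl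
    refine ⟨_, ?_, AzInvLib.finrank_symSpan hQ h2Q t _⟩
    ext r
    exact Ideal.algebraMap_residueField_eq_zero
  obtain ⟨x₀, hx₀, hr₀⟩ := key q hq
  have hemb := (PrimeSpectrum.isClosedEmbedding_comap_of_surjective (R ⧸ I) (Ideal.Quotient.mk I)
    Ideal.Quotient.mk_surjective).isEmbedding
  obtain ⟨U, hU, hUV⟩ := hemb.isOpen_iff.mp
    (Module.isLocallyConstant_rankAtStalk (R := R ⧸ I) (M := AzInvLib.symSpan (R ⧸ I) t)
      {Module.rankAtStalk (AzInvLib.symSpan (R ⧸ I) t) x₀})
  obtain ⟨_, ⟨f, rfl⟩, hfq, hfU⟩ := PrimeSpectrum.isTopologicalBasis_basic_opens.exists_subset_of_mem_open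
    (show q ∈ U by
      rw [← hx₀]
      exact (Set.ext_iff.mp hUV x₀).mpr rfl) hU
  refine ⟨f, hfq, fun q' hq' hfq' => ?_⟩
  obtain ⟨x, hx, hr⟩ := key q' hq'
  have hxV : Module.rankAtStalk (AzInvLib.symSpan (R ⧸ I) t) x =
      Module.rankAtStalk (AzInvLib.symSpan (R ⧸ I) t) x₀ :=
    (Set.ext_iff.mp hUV x).mp (by
      show PrimeSpectrum.comap (Ideal.Quotient.mk I) x ∈ U
      rw [hx]; exact hfU hfq')
  show Module.finrank _ (AzInvLib.symSpan _ t) = _ ↔ Module.finrank _ (AzInvLib.symSpan _ t) = _
  rw [hr, hr₀, hxV]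

end Groth.Agent.S17362
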