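import Groth.Statements.S19962
import Mathlib.RingTheory.Regular.RegularSequence
import Mathlib.LinearAlgebra.Matrix.NonsingularInverse
import Mathlib.Data.Matrix.ColumnRowPartitioned
import Mathlib.RingTheory.Ideal.Operations
import Groth.Prelude.Def_CAlgX
set_option autoImplicit false
universe u
open CAlg

namespace Groth.Agent.S19962

open scoped Matrix

section
variable {R : Type u} [CommRing R]

/-- Elementwise weak regularity of a list modulo an ideal. -/
def RegMod : Ideal R → List R → Prop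
  | _, [] => True
  | I, x :: xs => (∀ a, x * a ∈ I → a ∈ I) ∧ RegMod (I ⊔ Ideal.span {x}) xs

theorem regMod_of (I : Ideal R) (rs : List R)
    (h : ∀ i (hi : i < rs.length), ∀ a, rs[i] * a ∈ I ⊔ Ideal.ofList (rs.take i) →
      a ∈ I ⊔ Ideal.ofList (rs.take i)) : RegMod I rs := by
  induction rs generalizing I with
  | nil => trivial
  | cons x xs ih =>
    refine ⟨fun a ha => ?_, ih _ fun i hi a ha => ?_⟩
    · simpa using h 0 (by simp) a (by simpa using ha)
    · have := h (i + 1) (by simpa using hi) a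
      simp only [List.getElem_cons_succ, List.take_succ_cons, Ideal.ofList_cons, ← sup_assoc] at this
      exact this ha

theorem regMod_bot {rs : List R} (h : RingTheory.Sequence.IsWeaklyRegular R rs) :
    RegMod (⊥ : Ideal R) rs := by
  refine regMod_of _ _ fun i hi a ha => ?_
  have h1 := h.regular_mod_prev i hi
  rw [isSMulRegular_quotient_iff_mem_of_smul_mem] at h1
  simp only [bot_sup_eq, smul_eq_mul, Ideal.mul_top] at h1 ha ⊢
  exact h1 a ha

/-- The scalars moving `z` into the image of `N` modulo `I`. -/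
def Q {p q : ℕ} (N : Matrix (Fin p) (Fin q) R) (I : Ideal R) (z : Fin p → R) : Ideal R where
  carrier := {r | ∃ v, ∀ k, r * z k - (N *ᵥ v) k ∈ I}
  zero_mem' := ⟨0, by simp⟩
  add_mem' := by
    rintro a b ⟨v, hv⟩ ⟨w, hw⟩
    refine ⟨v + w, fun k => ?_⟩
    convert I.add_mem (hv k) (hw k) using 1
    simp only [Matrix.mulVec_add, Pi.add_apply]; ring
  smul_mem' := by
    rintro c a ⟨v, hv⟩
    refine ⟨c • v, fun k => ?_⟩
    convert I.mul_mem_left c (hv k) using 1
    simp only [Matrix.mulVec_smul, Pi.smul_apply, smul_eq_mul]; ring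

theorem mem_Q {p q : ℕ} {N : Matrix (Fin p) (Fin q) R} {I : Ideal R} {z : Fin p → R} {r : R} :
    r ∈ Q N I z ↔ ∃ v, ∀ k, r * z k - (N *ᵥ v) k ∈ I := Iff.rfl

theorem mulVec_mem {ι κ : Type*} [Fintype κ] (M : Matrix ι κ R) {I : Ideal R} {v : κ → R}
    (h : ∀ j, v j ∈ I) (i : ι) : (M *ᵥ v) i ∈ I :=
  I.sum_mem fun j _ => I.mul_mem_left _ (h j)

/-- Exactness modulo every ideal, after inverting suitable minors. -/
theorem split {p n q a b : ℕ} (M : Matrix (Fin p) (Fin n) R) (N : Matrix (Fin n) (Fin q) R)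
    (hMN : M * N = 0) (hab : n = a + b) (f : Fin b → Fin p) (g : Fin b → Fin n)
    (f' : Fin a → Fin n) (g' : Fin a → Fin q) (I : Ideal R) (z : Fin n → R)
    (hz : ∀ i, (M *ᵥ z) i ∈ I) :
    (M.submatrix f g).det * (N.submatrix f' g').det ∈ (Q N I z).radical := by
  set m := (M.submatrix f g).det with hm
  set m' := (N.submatrix f' g').det with hm'
  let M' : Matrix (Fin b) (Fin n) R := M.submatrix f id
  let N' : Matrix (Fin n) (Fin a) R := N.submatrix id g'
  let S : Matrix (Fin n) (Fin b) R :=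
    (1 : Matrix (Fin n) (Fin n) R).submatrix id g * (M.submatrix f g).adjugate
  let T : Matrix (Fin a) (Fin n) R :=
    (N.submatrix f' g').adjugate * (1 : Matrix (Fin n) (Fin n) R).submatrix f' id
  have hN' : N' = N * (1 : Matrix (Fin q) (Fin q) R).submatrix id g' := by
    ext i j; simp [N', Matrix.mul_apply, Matrix.one_apply]
  have hMS : M' * S = m • 1 := by
    have : M' * (1 : Matrix (Fin n) (Fin n) R).submatrix id g = M.submatrix f g := by
      ext i j; simp [M', Matrix.mul_apply, Matrix.one_apply]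
    rw [← Matrix.mul_assoc, this, Matrix.mul_adjugate]
  have hTN : T * N' = m' • 1 := by
    have : (1 : Matrix (Fin n) (Fin n) R).submatrix f' id * N' = N.submatrix f' g' := by
      ext i j; simp [N', Matrix.mul_apply, Matrix.one_apply]
    rw [Matrix.mul_assoc, this, Matrix.adjugate_mul]
  have hMN' : M' * N' = 0 := by
    ext i j
    have := congrFun (congrFun hMN (f i)) (g' j)
    simpa [M', N', Matrix.mul_apply] using this
  let W : Matrix (Fin a ⊕ Fin b) (Fin n) R := Matrix.fromRows T M'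
  let U : Matrix (Fin n) (Fin a ⊕ Fin b) R :=
    Matrix.fromCols (m • N') (m' • S - N' * (T * S))
  have hWU : W * U = (m * m') • 1 := by
    simp only [W, U, Matrix.fromRows_mul_fromCols, Matrix.mul_smul, Matrix.mul_sub,
      ← Matrix.mul_assoc, hTN, hMS, hMN', Matrix.smul_mul, Matrix.one_mul, Matrix.zero_mul,
      smul_zero, sub_zero, sub_self, smul_smul]
    ext i j
    rcases i with i | i <;> rcases j with j | j <;>
      simp [Matrix.one_apply, mul_comm m m']
  let e : Fin n ≃ Fin a ⊕ Fin b := (finCongr hab).trans finSumFinEquiv.symm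
  let W₂ : Matrix (Fin a ⊕ Fin b) (Fin a ⊕ Fin b) R := W.submatrix id e.symm
  let U₂ : Matrix (Fin a ⊕ Fin b) (Fin a ⊕ Fin b) R := U.submatrix e.symm id
  have hdet : W₂.det * U₂.det = (m * m') ^ n := by
    rw [← Matrix.det_mul, Matrix.submatrix_mul_equiv, hWU]
    simp [hab]
  let z' : Fin n → R := m' • z - N' *ᵥ (T *ᵥ z)
  have hWz : ∀ i, (W *ᵥ z') i ∈ I := by
    intro i
    rw [Matrix.fromRows_mulVec]
    rcases i with i | i
    · suffices (T *ᵥ z') i = 0 by simp [this]
      simp [z', Matrix.mulVec_sub, Matrix.mulVec_smul, Matrix.mulVec_mulVec, ← Matrix.mul_assoc, hTN,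
        Matrix.smul_mul, Matrix.smul_mulVec]
    · have : (M' *ᵥ z') = m' • (M' *ᵥ z) := by
        simp [z', Matrix.mulVec_sub, Matrix.mulVec_smul, Matrix.mulVec_mulVec, ← Matrix.mul_assoc, hMN']
      simp only [Sum.elim_inr, this, Pi.smul_apply, smul_eq_mul]
      exact I.mul_mem_left _ (hz (f i))
  have hz' : ∀ k, (m * m') ^ n * z' k ∈ I := by
    intro k
    have h1 : W₂ *ᵥ (z' ∘ e.symm) = W *ᵥ z' := by
      rw [Matrix.submatrix_mulVec_equiv]
      simp [Function.comp_assoc]
    have h2 : W₂.adjugate *ᵥ (W *ᵥ z') = W₂.det • (z' ∘ e.symm) := by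
      rw [← h1, Matrix.mulVec_mulVec, Matrix.adjugate_mul, Matrix.smul_mulVec, Matrix.one_mulVec]
    have h3 : W₂.det * z' k ∈ I := by
      have := mulVec_mem W₂.adjugate hWz (e k)
      rw [h2] at this
      simpa using this
    rw [← hdet, mul_right_comm]
    exact I.mul_mem_right _ h3
  refine ⟨n + 1, ?_⟩
  have h4 : (m * m') ^ n * m' ∈ Q N I z := by
    refine mem_Q.2 ⟨((1 : Matrix (Fin q) (Fin q) R).submatrix id g') *ᵥ
      ((m * m') ^ n • (T *ᵥ z)), fun k => ?_⟩
    convert hz' k using 1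
    rw [Matrix.mulVec_mulVec, ← hN', Matrix.mulVec_smul]
    simp only [z', Pi.sub_apply, Pi.smul_apply, smul_eq_mul]
    ring
  convert (Q N I z).mul_mem_left m h4 using 1
  ring

variable (n : ℕ → ℕ) (A : (i : ℕ) → Matrix (Fin (n i)) (Fin (n (i + 1))) R) (e : ℕ)

/-- `g` kills, up to radical, the homology in position `k + 1` modulo `I`. -/
def Ex (g : R) (I : Ideal R) (k : ℕ) : Prop :=
  ∀ z : Fin (n (k + 1)) → R, (∀ i, (A k *ᵥ z) i ∈ I) → g ∈ (Q (A (k + 1)) I z).radical

variable {n A e}

/-- The acyclicity lemma. -/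
theorem acyclic (hAA : ∀ i, A i * A (i + 1) = 0) (htop : A e = 0) (g : R) (rs : List R) (t : ℕ) (I : Ideal R)
    (hreg : RegMod I rs)
    (h1 : ∀ J : Ideal R, I ≤ J → ∀ k, t + rs.length ≤ k → k < e → Ex n A g J k)
    (h2 : ∀ y ∈ rs, ∀ k, t ≤ k → k < e → Ex n A (g * y) I k) :
    ∀ k, t ≤ k → k < e → Ex n A g I k := by
  induction rs generalizing t I with
  | nil => exact fun k h h' => h1 I le_rfl k (by simpa using h) h'
  | cons x xs ih =>
    obtain ⟨hx, hxs⟩ := hreg
    set I' := I ⊔ Ideal.span {x} with hI'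
    have key : ∀ k, t + 1 ≤ k → k < e → Ex n A g I' k := by
      refine ih (t + 1) I' hxs (fun J hJ k hk => h1 J (le_sup_left.trans hJ) k ?_) ?_
      · simp only [List.length_cons]; omega
      intro y hy k hk hke z hz
      obtain ⟨k₀, rfl⟩ : ∃ k₀, k = k₀ + 1 := ⟨k - 1, by omega⟩
      simp only [hI', Submodule.mem_sup, Ideal.mem_span_singleton'] at hz
      choose a ha b' hb' hz using hz
      choose w hw using hb'
      have hzw : A (k₀ + 1) *ᵥ z = a + x • w := by
        funext i
        simp only [Pi.add_apply, Pi.smul_apply, smul_eq_mul]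
        rw [← hz i, ← hw i, mul_comm]
      have hw' : ∀ i, (A k₀ *ᵥ w) i ∈ I := by
        intro i
        refine hx _ ?_
        have h0 : A k₀ *ᵥ (a + x • w) = 0 := by
          rw [← hzw, Matrix.mulVec_mulVec, hAA, Matrix.zero_mulVec]
        have h0' := congrFun h0 i
        simp only [Matrix.mulVec_add, Matrix.mulVec_smul, Pi.add_apply, Pi.smul_apply, smul_eq_mul,
          Pi.zero_apply] at h0'
        rw [show x * (A k₀ *ᵥ w) i = - (A k₀ *ᵥ a) i by linear_combination h0']
        exact I.neg_mem (mulVec_mem _ ha i)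
      obtain ⟨N, hN⟩ := h2 y (List.mem_cons_of_mem _ hy) k₀ (by omega) (by omega) w hw'
      obtain ⟨u, hu⟩ := mem_Q.1 hN
      obtain ⟨N', hN'⟩ := h2 y (List.mem_cons_of_mem _ hy) (k₀ + 1) (by omega) hke
        ((g * y) ^ N • z - x • u) (by
          intro i
          have e1 : (A (k₀ + 1) *ᵥ ((g * y) ^ N • z - x • u)) i =
              (g * y) ^ N * a i + x * ((g * y) ^ N * w i - (A (k₀ + 1) *ᵥ u) i) := by
            rw [Matrix.mulVec_sub, Matrix.mulVec_smul, Matrix.mulVec_smul, hzw]
            simp only [Pi.sub_apply, Pi.smul_apply, Pi.add_apply, smul_eq_mul]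
            ring
          rw [e1]
          exact I.add_mem (I.mul_mem_left _ (ha i)) (I.mul_mem_left _ (hu i)))
      obtain ⟨v, hv⟩ := mem_Q.1 hN'
      refine ⟨N' + N, mem_Q.2 ⟨v, fun j => ?_⟩⟩
      have e2 : (g * y) ^ (N' + N) * z j - (A (k₀ + 1 + 1) *ᵥ v) j =
          ((g * y) ^ N' * ((g * y) ^ N • z - x • u) j - (A (k₀ + 1 + 1) *ᵥ v) j)
            + ((g * y) ^ N' * u j) * x := by
        simp only [Pi.sub_apply, Pi.smul_apply, smul_eq_mul, pow_add]; ring
      rw [e2]
      exact Ideal.add_mem _ (Ideal.mem_sup_left (hv j))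
        (Ideal.mem_sup_right (Ideal.mul_mem_left _ _ (Ideal.mem_span_singleton_self x)))
    intro k hk hke z hz
    have main : ∀ (L : ℕ) (z : Fin (n (k + 1)) → R), (∀ i, (A k *ᵥ z) i ∈ I) →
        ∀ a : ℕ, x ^ L * g ^ a ∈ Q (A (k + 1)) I z → ∃ b : ℕ, g ^ b ∈ Q (A (k + 1)) I z := by
      intro L
      induction L with
      | zero => intro z _ a ha; exact ⟨a, by simpa using ha⟩
      | succ L ihL =>
        intro z hz a ha
        obtain ⟨v, hv⟩ := mem_Q.1 ha
        suffices h : ∃ b : ℕ, x ^ L * g ^ b ∈ Q (A (k + 1)) I z by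
          obtain ⟨b, hb⟩ := h
          exact ihL z hz b hb
        by_cases hk1 : k + 1 = e
        · refine ⟨a, mem_Q.2 ⟨0, fun j => ?_⟩⟩
          subst hk1
          have := hv j
          simp only [htop, Matrix.zero_mulVec, Pi.zero_apply, sub_zero] at this ⊢
          refine hx _ ?_
          convert this using 1
          ring
        · obtain ⟨b, hb⟩ := key (k + 1) (by omega) (by omega) v (fun i => by
            have e1 : (A (k + 1) *ᵥ v) i =
                -(x ^ (L + 1) * g ^ a * z i - (A (k + 1) *ᵥ v) i) + x ^ L * g ^ a * z i * x := by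
              rw [pow_succ]; ring
            rw [e1]
            exact Ideal.add_mem _ (Ideal.mem_sup_left (I.neg_mem (hv i)))
              (Ideal.mem_sup_right (Ideal.mul_mem_left _ _ (Ideal.mem_span_singleton_self x))))
          obtain ⟨v', hv'⟩ := mem_Q.1 hb
          simp only [hI', Submodule.mem_sup, Ideal.mem_span_singleton'] at hv'
          choose c hc d' hd' hcd using hv'
          choose u hu using hd'
          have hcu : g ^ b • v = A (k + 1 + 1) *ᵥ v' + c + x • u := by
            funext j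
            simp only [Pi.add_apply, Pi.smul_apply, smul_eq_mul]
            rw [mul_comm x (u j), hu j, add_assoc, hcd j]
            ring
          have hNv : g ^ b • (A (k + 1) *ᵥ v) = A (k + 1) *ᵥ c + x • (A (k + 1) *ᵥ u) := by
            rw [← Matrix.mulVec_smul, hcu, Matrix.mulVec_add, Matrix.mulVec_add, Matrix.mulVec_mulVec,
              hAA, Matrix.zero_mulVec, zero_add, Matrix.mulVec_smul]
          refine ⟨a + b, mem_Q.2 ⟨u, fun j => hx _ ?_⟩⟩
          have h3 := congrFun hNv j
          simp only [Pi.add_apply, Pi.smul_apply, smul_eq_mul] at h3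
          have e3 : x * (x ^ L * g ^ (a + b) * z j - (A (k + 1) *ᵥ u) j) =
              g ^ b * (x ^ (L + 1) * g ^ a * z j - (A (k + 1) *ᵥ v) j) + (A (k + 1) *ᵥ c) j := by
            simp only [pow_add, pow_succ]
            linear_combination h3
          rw [e3]
          exact I.add_mem (I.mul_mem_left _ (hv j)) (mulVec_mem _ hc j)
    obtain ⟨L, hL⟩ := h2 x (List.mem_cons_self) k hk hke z hz
    exact main L z hz L (by rwa [mul_comm, ← mul_pow])

theorem exact_of (r : ℕ → ℕ) (hAA : ∀ i, A i * A (i + 1) = 0) (htop : A e = 0)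
    (hre : r e = 0) (hr : ∀ k, k < e → n (k + 1) = r (k + 1) + r k)
    (hdet : ∀ k, k < e → CAlgX.minorIdeal (A k) (r k) = ⊤ ∨
      ∃ rs : List R, rs.length = k + 1 ∧ (∀ x ∈ rs, x ∈ CAlgX.minorIdeal (A k) (r k)) ∧
        RingTheory.Sequence.IsRegular R rs) :
    ∀ d, d ≤ e → ∀ g : R,
      (∀ k, d ≤ k → k < e → ∃ (f : Fin (r k) → Fin (n k)) (f' : Fin (r k) → Fin (n (k + 1))),
        ((A k).submatrix f f').det ∣ g) →
      ∀ k, k < e → Ex n A g ⊥ k := by
  have good : ∀ (d : ℕ) (g : R),
      (∀ k, d ≤ k → k < e → ∃ (f : Fin (r k) → Fin (n k)) (f' : Fin (r k) → Fin (n (k + 1))),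
        ((A k).submatrix f f').det ∣ g) →
      ∀ J : Ideal R, ∀ k, d ≤ k → k < e → Ex n A g J k := by
    intro d g hg J k hdk hke z hz
    obtain ⟨f, f', c, hc⟩ := hg k hdk hke
    by_cases hk1 : k + 1 = e
    · have h0 : r (k + 1) = 0 := by rw [hk1, hre]
      let emp : ∀ q, Fin 0 → Fin q := fun q => Fin.elim0
      have := split (A k) (A (k + 1)) (hAA k) (a := 0) (b := r k) (by rw [hr k hke, h0])
        f f' (emp _) (emp _) J z hz
      simp only [Matrix.det_fin_zero, mul_one] at this
      rw [hc]; exact Ideal.mul_mem_right _ _ this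
    · obtain ⟨F, F', c', hc'⟩ := hg (k + 1) (by omega) (by omega)
      have := split (A k) (A (k + 1)) (hAA k) (hr k hke) f f' F F' J z hz
      refine Ideal.mem_radical_of_pow_mem (m := 2) ?_
      have e : g ^ 2 = ((A k).submatrix f f').det * ((A (k + 1)).submatrix F F').det * (c * c') := by
        rw [sq]; nth_rw 1 [hc]; rw [hc']; ring
      rw [e]; exact Ideal.mul_mem_right _ _ this
  intro d
  induction d with
  | zero => exact fun _ g hg k hk => good 0 g hg ⊥ k (Nat.zero_le k) hk
  | succ d ih =>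
    intro hd g hg
    have hy : ∀ y ∈ CAlgX.minorIdeal (A d) (r d), ∀ k, k < e → Ex n A (g * y) ⊥ k := by
      intro y hy k hk z hz
      induction hy using Submodule.span_induction with
      | mem y hy =>
        obtain ⟨⟨f, f'⟩, rfl⟩ := hy
        refine ih (by omega) _ (fun j hj hje => ?_) k hk z hz
        rcases eq_or_lt_of_le hj with rfl | hj
        · exact ⟨f, f', dvd_mul_left _ _⟩
        · obtain ⟨F, F', hF⟩ := hg j hj hje
          exact ⟨F, F', hF.mul_right _⟩
      | zero => simp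
      | add a b _ _ ha hb => rw [mul_add]; exact Ideal.add_mem _ ha hb
      | smul c a _ ha => rw [smul_eq_mul, mul_left_comm]; exact Ideal.mul_mem_left _ _ ha
    rcases hdet d (by omega) with h | ⟨rs, hlen, hmem, hreg⟩
    · intro k hk
      simpa using hy 1 (h ▸ Submodule.mem_top) k hk
    · intro k hk
      refine acyclic hAA htop g rs 0 ⊥ (regMod_bot hreg.toIsWeaklyRegular)
        (fun J _ k hk hke => good (d + 1) g hg J k (by omega) hke)
        (fun y hy' k _ hke => hy y (hmem y hy') k hke) k (Nat.zero_le k) hk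

end

/-- Let R be a Noetherian commutative ring, not assumed local, and 0 → R^(n_e) → ⋯ → R^(n_1) → R^(n_0) a
complex of finite free modules with 1 ≤ e, the map R^(n_(i+1)) → R^(n_i) being given by the matrix A
i. Suppose that for every 1 ≤ j ≤ e the matrix of R^(n_j) → R^(n_(j-1)) has rank n_j - n_(j+1) + ⋯ ±
n_e, the rank of a matrix being the largest size of a nonzero minor, and that its ideal of minors of
that size is either the unit ideal or contains an R-regular sequence of length j. Then the complex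
is exact at R^(n_e), …, R^(n_1). -/
theorem result {R : Type u} [CommRing R] [IsNoetherianRing R]
    (e : ℕ) (he : 1 ≤ e) (n : ℕ → ℕ) (A : (i : ℕ) → Matrix (Fin (n i)) (Fin (n (i + 1))) R)
    (hA : ∀ i, i + 2 ≤ e → A i * A (i + 1) = 0)
    (hrank : ∀ j, 1 ≤ j → j ≤ e →
      (CAlgX.matrixRank (A (j - 1)) : ℤ) = ∑ t ∈ Finset.Icc j e, (-1 : ℤ) ^ (t - j) * (n t : ℤ))
    (hdet : ∀ j, 1 ≤ j → j ≤ e →
      CAlgX.detIdeal (A (j - 1)) = ⊤ ∨
        ∃ rs : List R, rs.length = j ∧ (∀ r ∈ rs, r ∈ CAlgX.detIdeal (A (j - 1))) ∧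
          RingTheory.Sequence.IsRegular R rs) :
    LinearMap.ker (A (e - 1)).mulVecLin = ⊥ ∧
      ∀ i, i + 2 ≤ e → LinearMap.ker (A i).mulVecLin = LinearMap.range (A (i + 1)).mulVecLin := by
  classical
  let A' : (i : ℕ) → Matrix (Fin (n i)) (Fin (n (i + 1))) R := fun i => if i < e then A i else 0
  have hA' : ∀ i, i < e → A' i = A i := fun i hi => if_pos hi
  have htop : A' e = 0 := if_neg (lt_irrefl e)
  have hAA : ∀ i, A' i * A' (i + 1) = 0 := by
    intro i
    by_cases h : i + 2 ≤ e
    · rw [hA' i (by omega), hA' (i + 1) (by omega), hA i h]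
    · rw [show A' (i + 1) = 0 from if_neg (by omega), Matrix.mul_zero]
  let r : ℕ → ℕ := fun k => if k < e then CAlgX.matrixRank (A k) else 0
  have hre : r e = 0 := if_neg (lt_irrefl e)
  have hrk : ∀ k, k ≤ e → (r k : ℤ) =
      ∑ t ∈ Finset.Icc (k + 1) e, (-1 : ℤ) ^ (t - (k + 1)) * (n t : ℤ) := by
    intro k hk
    rcases hk.lt_or_eq with h | h
    · simpa [r, h] using hrank (k + 1) (by omega) h
    · subst h; simp [hre]
  have hr : ∀ k, k < e → n (k + 1) = r (k + 1) + r k := by
    intro k hk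
    have h1 := hrk k hk.le
    rw [← Finset.add_sum_Ioc_eq_sum_Icc (by omega : k + 1 ≤ e)] at h1
    have h2 : ∑ t ∈ Finset.Ioc (k + 1) e, (-1 : ℤ) ^ (t - (k + 1)) * (n t : ℤ) =
        - (r (k + 1) : ℤ) := by
      rw [hrk (k + 1) hk, show Finset.Ioc (k + 1) e = Finset.Icc (k + 1 + 1) e by ext; simp,
        ← Finset.sum_neg_distrib]
      refine Finset.sum_congr rfl fun t ht => ?_
      rw [Finset.mem_Icc] at ht
      rw [show t - (k + 1) = t - (k + 1 + 1) + 1 by omega, pow_succ]
      ring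
    rw [h2] at h1
    simp only [Nat.sub_self, pow_zero, one_mul] at h1
    omega
  have hd : ∀ k, k < e → CAlgX.minorIdeal (A' k) (r k) = ⊤ ∨
      ∃ rs : List R, rs.length = k + 1 ∧ (∀ x ∈ rs, x ∈ CAlgX.minorIdeal (A' k) (r k)) ∧
        RingTheory.Sequence.IsRegular R rs := by
    intro k hk
    rw [hA' k hk, show r k = CAlgX.matrixRank (A k) from if_pos hk]
    exact hdet (k + 1) (by omega) hk
  have key := exact_of (n := n) (A := A') (e := e) r hAA htop hre hr hd e le_rfl 1
    (fun k h1 h2 => absurd h2 (not_lt.2 h1))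
  have main : ∀ k, k < e → ∀ z, A' k *ᵥ z = 0 → ∃ v, A' (k + 1) *ᵥ v = z := by
    intro k hk z hz
    obtain ⟨N, hN⟩ := key k hk z (fun i => by simp [hz])
    obtain ⟨v, hv⟩ := mem_Q.1 hN
    exact ⟨v, funext fun j => (sub_eq_zero.1 (by simpa using hv j)).symm⟩
  constructor
  · rw [LinearMap.ker_eq_bot']
    obtain ⟨k, rfl⟩ : ∃ k, e = k + 1 := ⟨e - 1, by omega⟩
    intro z hz
    obtain ⟨v, hv⟩ := main k (by omega) z (by rw [hA' k (by omega)]; exact hz)
    rw [← hv, htop, Matrix.zero_mulVec]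
  · intro i hi
    refine le_antisymm (fun z hz => ?_) ?_
    · obtain ⟨v, hv⟩ := main i (by omega) z (by rw [hA' i (by omega)]; exact hz)
      exact ⟨v, by rw [← hv, hA' (i + 1) (by omega)]; rfl⟩
    · rintro z ⟨v, rfl⟩
      simp [LinearMap.mem_ker, Matrix.mulVec_mulVec, hA i hi]

end Groth.Agent.S19962
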