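import Groth.Statements.S9851
import Groth.Agent.DescLib.GlueEss

set_option autoImplicit false
set_option backward.isDefEq.respectTransparency false
set_option backward.isDefEq.respectTransparency.types false
open CategoryTheory CategoryTheory.Limits AlgebraicGeometry Opposite
universe u
open Desc

namespace Groth.Agent.S9851

/-- Let f i : X i ⟶ S be a family of morphisms of schemes and X = ∐ X i with its morphism to S. The
canonical functor from descent data for schemes relative to X ⟶ S to descent data relative to the
family, which pulls a datum back along the coprojections X i ⟶ X, is an equivalence of categories.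
(The published statement names the quasi-inverse functor, sending a family (V i, φ ij) to (∐ V i, ∐
φ ij); asserting that the canonical pullback functor is an equivalence is the same result.) -/
theorem result {ι : Type u} {S : Scheme.{u}} {X : ι → Scheme.{u}} (f : ∀ i, X i ⟶ S) :
    (Desc.SchDDFam.ofSchDD (Sigma.desc f) ⋙
      Desc.pullDDFam (f := fun _ : PUnit.{u + 1} => Sigma.desc f) (f' := f) (α := fun _ => PUnit.unit)
        (p := 𝟙 S) (p' := fun i => Sigma.ι X i)
        (fun i => (Sigma.ι_desc f i).trans (Category.comp_id (f i)).symm)).IsEquivalence := by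
  haveI h1 : (Desc.SchDDFam.ofSchDD.{u} (Sigma.desc f)).IsEquivalence :=
    (Desc.SchDDFam.oneEquiv (Sigma.desc f)).isEquivalence_inverse
  have hcov : ∀ j : PUnit.{u + 1}, Presieve.ofArrows (fun i : {_i : ι // PUnit.unit = j} => X i.1)
      (fun i => Sigma.ι X i.1 ≫ eqToHom (congrArg (fun _ : PUnit.{u + 1} => ∐ X) i.2)) ∈
      Scheme.zariskiPrecoverage ((fun _ : PUnit.{u + 1} => ∐ X) j) := fun j => by
    refine (Scheme.ofArrows_mem_precoverage_iff _).2 ⟨fun x => ?_, fun b => inferInstance⟩
    obtain ⟨i, y, hy⟩ := (sigmaOpenCover X).exists_eq x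
    refine ⟨⟨i, Subsingleton.elim _ _⟩, y, ?_⟩
    rw [← hy]; simp; rfl
  haveI h2 := Groth.Agent.DescLib.GlueFam.isEquivalence (u := f) (v := fun _ : PUnit.{u + 1} => Sigma.desc f)
    (α := fun _ => PUnit.unit) (g := fun i => Sigma.ι X i) (fun i => Sigma.ι_desc f i) hcov
    (Groth.Agent.DescLib.pullDDFam_full_faithful _ fun j => by
      refine Scheme.fpqcTopology.superset_covering ?_
        (Precoverage.generate_mem_toGrothendieck (Scheme.zariskiPrecoverage_le_fpqcPrecoverage _ (hcov j)))
      rintro T t ⟨Y, a, b, ⟨⟨i, hi⟩⟩, e⟩
      refine ⟨i, a, ?_⟩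
      rw [← e]
      simp)
  exact Functor.isEquivalence_trans _ _

end Groth.Agent.S9851
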