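import Groth.Statements.S4407
import Groth.Agent.AmpleX.QAGenerated

set_option autoImplicit false
universe u
open CategoryTheory CategoryTheory.Limits AlgebraicGeometry
open EGA2

namespace Groth.Agent.S4407

/-- (a) ⇒ (e): let X be a quasi-affine scheme. Then every quasi-coherent O_X-module is generated by its
global sections (it is a quotient of a free O_X-module on some index set). -/
theorem result (X : Scheme.{u}) [X.IsQuasiAffine] (F : X.Modules)
    (hF : Coh.IsQCoh F) : Curv2.IsGloballyGenerated F := by
  exact AmpleX.isGloballyGenerated_of_isQuasiAffine hF

end Groth.Agent.S4407
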