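import Groth.Statements.S7137
import Groth.Agent.CAlgOdd.AuslanderBuchsbaum
import Groth.Agent.RegLoc6.Restrict

set_option autoImplicit false
universe u
open CategoryTheory
open CAlg

namespace Groth.Agent.S7137
open IsLocalRing Groth.Agent.RegLoc6

theorem pdLE_prod {R : Type u} [CommRing R] {n : ℕ} {M N : Type u} [AddCommGroup M] [Module R M]
    [AddCommGroup N] [Module R N] (hM : PdLE R n M) (hN : PdLE R n N) : PdLE R n (M × N) := by
  have hs : Function.Surjective (LinearMap.snd R M N) := fun y => ⟨(0, y), rfl⟩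
  have hK : PdLE R n (LinearMap.ker (LinearMap.snd R M N)) := pdLE_of_equiv
    (LinearEquiv.ofBijective ((LinearMap.inl R M N).codRestrict _ fun _ => rfl)
      ⟨fun a b h => congrArg (fun v : LinearMap.ker (LinearMap.snd R M N) => v.1.1) h,
        fun ⟨⟨a, b⟩, hab⟩ => ⟨a, Subtype.ext (Prod.ext rfl (Eq.symm hab))⟩⟩) hM
  exact (LinearMap.shortExact_shortComplexKer hs).hasProjectiveDimensionLT_X₂ (n + 1) hK hN

theorem pdLE_pi {R : Type u} [CommRing R] {n : ℕ} {M : Type u} [AddCommGroup M] [Module R M]
    (hM : PdLE R n M) : ∀ k, PdLE R n (Fin k → M)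
  | 0 => pdLE_mono (Nat.zero_le n) (pdLE_zero_iff.2 inferInstance)
  | k + 1 => pdLE_of_equiv (Fin.consLinearEquiv R (fun _ => M)) (pdLE_prod hM (pdLE_pi hM k))

theorem pdLE_add {R : Type u} [CommRing R] [IsNoetherianRing R] (I : Ideal R) {a : ℕ} (hI : PdLE R a (R ⧸ I)) :
    ∀ (n : ℕ) (M : Type u) [AddCommGroup M] [Module R M] [Module (R ⧸ I) M]
      [IsScalarTower R (R ⧸ I) M] [Module.Finite (R ⧸ I) M],
      PdLE (R ⧸ I) n M → PdLE R (a + n) M := by
  intro n
  induction n with
  | zero =>
    intro M _ _ _ _ _ h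
    haveI : Module.Projective (R ⧸ I) M := pdLE_zero_iff.mp h
    obtain ⟨k, g, hg⟩ := exists_presentation (R := R ⧸ I) (M := M)
    obtain ⟨i, hi⟩ := Module.projective_lifting_property g LinearMap.id hg
    exact pdLE_of_retract (i.restrictScalars R) (g.restrictScalars R)
      (LinearMap.ext fun m => LinearMap.congr_fun hi m) (pdLE_pi hI k)
  | succ n ih =>
    intro M _ _ _ _ _ h
    obtain ⟨k, g, hg⟩ := exists_presentation (R := R ⧸ I) (M := M)
    have hK : PdLE (R ⧸ I) n (LinearMap.ker g) := (pdLE_succ_iff g hg).mp h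
    refine pdLE_succ_of_ker (g.restrictScalars R) hg ?_ (pdLE_mono (Nat.le_add_right a (n + 1)) (pdLE_pi hI k))
    exact pdLE_of_equiv
      { toFun := fun v => ⟨v.1, v.2⟩
        invFun := fun v => ⟨v.1, v.2⟩
        map_add' := fun _ _ => rfl
        map_smul' := fun _ _ => rfl
        left_inv := fun _ => rfl
        right_inv := fun _ => rfl }
      (ih (LinearMap.ker g) hK)

/-- Depth is insensitive to a surjection of local rings. -/
theorem depth_eq_of_surjective {R S : Type u} [CommRing R] [IsLocalRing R] [CommRing S] [IsLocalRing S]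
    [Algebra R S] (hsurj : Function.Surjective (algebraMap R S)) (M : Type u) [AddCommGroup M]
    [Module R M] [Module S M] [IsScalarTower R S M] : LocCoh.depth R M = LocCoh.depth S M := by
  have hmem : ∀ r : R, algebraMap R S r ∈ maximalIdeal S ↔ r ∈ maximalIdeal R := by
    haveI : IsLocalHom (algebraMap R S) := hsurj.isLocalHom _
    exact fun r => map_mem_nonunits_iff _ r
  have hmap : (maximalIdeal R).map (algebraMap R S) = maximalIdeal S :=
    le_antisymm (Ideal.map_le_iff_le_comap.2 fun r hr => (hmem r).2 hr) fun s hs => by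
      obtain ⟨r, rfl⟩ := hsurj s
      exact Ideal.mem_map_of_mem _ ((hmem r).1 hs)
  have htop : maximalIdeal R • (⊤ : Submodule R M) = ⊤ ↔ maximalIdeal S • (⊤ : Submodule S M) = ⊤ := by
    rw [← Submodule.restrictScalars_eq_top_iff R (R := S), ← hmap, Ideal.smul_restrictScalars,
      Submodule.restrictScalars_top]
  unfold LocCoh.depth LocCoh.idealDepth
  by_cases h : maximalIdeal R • (⊤ : Submodule R M) = ⊤
  · rw [if_pos h, if_pos (htop.1 h)]
  · rw [if_neg h, if_neg (mt htop.2 h)]
    refine le_antisymm (iSup₂_le fun rs hrs => ?_) (iSup₂_le fun rs hrs => ?_)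
    · refine le_iSup₂_of_le (rs.map (algebraMap R S))
        ⟨(RingTheory.Sequence.isWeaklyRegular_map_algebraMap_iff S M rs).2 hrs.1, fun s hs => ?_⟩
        (by rw [List.length_map])
      obtain ⟨r, hr, rfl⟩ := List.mem_map.1 hs
      exact (hmem r).2 (hrs.2 r hr)
    · have e : (rs.map (Function.surjInv hsurj)).map (algebraMap R S) = rs := by
        rw [List.map_map]
        exact (List.map_congr_left fun s _ => Function.surjInv_eq hsurj s).trans (List.map_id rs)
      refine le_iSup₂_of_le (rs.map (Function.surjInv hsurj))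
        ⟨(RingTheory.Sequence.isWeaklyRegular_map_algebraMap_iff S M _).1 (by rw [e]; exact hrs.1),
          fun r hr => ?_⟩ (by rw [List.length_map])
      obtain ⟨s, hs, rfl⟩ := List.mem_map.1 hr
      exact (hmem _).1 (by rw [Function.surjInv_eq hsurj]; exact hrs.2 s hs)

/-- The projective dimension of a nonzero finite module of finite projective dimension. -/
theorem exists_eq {R : Type u} [CommRing R] [IsLocalRing R] [IsNoetherianRing R] (M : Type u)
    [AddCommGroup M] [Module R M] [Module.Finite R M] [Nontrivial M]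
    (h : projectiveDimension (ModuleCat.of R M) ≠ ⊤) :
    ∃ e : ℕ, projectiveDimension (ModuleCat.of R M) = (e : WithBot ℕ∞) ∧
      LocCoh.depth R M + e = LocCoh.depth R R ∧ PdLE R e M := by
  classical
  have hex : ∃ n, PdLE R n M := (projectiveDimension_ne_top_iff _).1 h
  refine ⟨Nat.find hex, le_antisymm ((projectiveDimension_le_iff _ _).2 (Nat.find_spec hex)) ?_,
    CAlgOdd.AB.depth_add_eq _ M (Nat.find_spec hex) (fun e' he' => Nat.find_min hex he'), Nat.find_spec hex⟩
  rw [projectiveDimension_ge_iff]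
  intro hlt
  rcases Nat.eq_zero_or_pos (Nat.find hex) with h0 | h0
  · rw [h0] at hlt
    have hz := (hasProjectiveDimensionLT_zero_iff_isZero (X := ModuleCat.of R M)).1 hlt
    exact not_subsingleton M (ModuleCat.subsingleton_of_isZero hz)
  · refine Nat.find_min hex (show Nat.find hex - 1 < Nat.find hex by omega) ?_
    show HasProjectiveDimensionLT _ (Nat.find hex - 1 + 1)
    rwa [Nat.sub_add_cancel h0]


/-- Take a Noetherian local ring R, an ideal I and a finite module E ≠ 0 over R/I. Suppose that R/I, as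
an R-module, and E, as an R/I-module, both have finite projective dimension. Then E, as an R-module,
has finite projective dimension too, and it equals pd_R(R/I) + pd_{R/I}(E). -/
theorem result (R : Type u) [CommRing R] [IsNoetherianRing R] [IsLocalRing R]
    (I : Ideal R) (E : Type u) [AddCommGroup E] [Module (R ⧸ I) E] [Module R E] [IsScalarTower R (R ⧸ I) E]
    [Module.Finite (R ⧸ I) E] [Nontrivial E]
    (h1 : projectiveDimension (ModuleCat.of R (R ⧸ I)) ≠ ⊤)
    (h2 : projectiveDimension (ModuleCat.of (R ⧸ I) E) ≠ ⊤) :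
    projectiveDimension (ModuleCat.of R E) ≠ ⊤ ∧
      projectiveDimension (ModuleCat.of R E) =
        projectiveDimension (ModuleCat.of R (R ⧸ I)) + projectiveDimension (ModuleCat.of (R ⧸ I) E) := by
  haveI hIne : Nontrivial (R ⧸ I) := Module.nontrivial (R ⧸ I) E
  haveI : IsLocalRing (R ⧸ I) := IsLocalRing.of_surjective' (Ideal.Quotient.mk I) Ideal.Quotient.mk_surjective
  haveI : Module.Finite R E := Module.Finite.trans (R ⧸ I) E
  obtain ⟨a, ha, haD, haP⟩ := exists_eq (R := R) (R ⧸ I) h1
  obtain ⟨c, hc, hcD, hcP⟩ := exists_eq (R := R ⧸ I) E h2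
  have hE : projectiveDimension (ModuleCat.of R E) ≠ ⊤ :=
    (projectiveDimension_ne_top_iff _).2 ⟨a + c, pdLE_add I haP c E hcP⟩
  obtain ⟨e, he, heD, -⟩ := exists_eq (R := R) E hE
  refine ⟨hE, ?_⟩
  have hsurj : Function.Surjective (algebraMap R (R ⧸ I)) := Ideal.Quotient.mk_surjective
  rw [← depth_eq_of_surjective hsurj E, ← depth_eq_of_surjective hsurj (R ⧸ I)] at hcD
  obtain ⟨d, hd⟩ := LC.exists_depth_eq_nat (R := R) (M := E)
  rw [← hcD, hd, ← heD, hd] at haD
  have : e = a + c := by
    have h3 : d + c + a = d + e := by exact_mod_cast haD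
    omega
  rw [he, ha, hc, this]
  norm_cast


end Groth.Agent.S7137
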