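import Groth.Statements.S1393
import Mathlib
import Groth.Agent.QCoh.LocFree

set_option autoImplicit false
universe u
open FlatMor

set_option backward.isDefEq.respectTransparency false
set_option backward.isDefEq.respectTransparency.types false
namespace Groth.Agent.S1393

open IsLocalRing in
theorem free_of_fibre {A B M : Type u} [CommRing A] [IsLocalRing A] [CommRing B] [IsLocalRing B] [Algebra A B]
    [IsLocalHom (algebraMap A B)] [AddCommGroup M] [Module B M] [Module A M] [IsScalarTower A B M]
    [Module.FinitePresentation B M] [Module.Flat A M]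
    (h : Module.Flat (B ⧸ (maximalIdeal A).map (algebraMap A B))
      (M ⧸ ((maximalIdeal A).map (algebraMap A B) • (⊤ : Submodule B M)))) : Module.Free B M := by
  classical
  set I := (maximalIdeal A).map (algebraMap A B) with hI
  have hIB : I ≤ maximalIdeal B := map_maximalIdeal_le _
  have hIne : I ≠ ⊤ := fun e => (maximalIdeal.isMaximal B).ne_top (top_le_iff.1 (e ▸ hIB))
  haveI : Nontrivial (B ⧸ I) := Ideal.Quotient.nontrivial_iff.2 hIne
  haveI : IsLocalRing (B ⧸ I) := .of_surjective' _ Ideal.Quotient.mk_surjective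
  let N := M ⧸ (I • (⊤ : Submodule B M))
  haveI : Module.Finite (B ⧸ I) N := Module.Finite.of_restrictScalars_finite B _ _
  haveI : Module.Free (B ⧸ I) N := Module.free_of_flat_of_isLocalRing
  let b := Module.Free.chooseBasis (B ⧸ I) N
  choose v hv using fun i => Submodule.mkQ_surjective (I • (⊤ : Submodule B M)) (b i)
  let π := Fintype.linearCombination B v
  have hπ : ∀ y, (I • (⊤ : Submodule B M)).mkQ (π y) = ∑ i, Ideal.Quotient.mk I (y i) • b i := fun y => by
    simp only [π, Fintype.linearCombination_apply, map_sum, map_smul, hv]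
    rfl
  have hsurj : Function.Surjective π := by
    rw [← LinearMap.range_eq_top, eq_top_iff]
    refine Submodule.le_of_le_smul_of_le_jacobson_bot Module.Finite.fg_top
      (hIB.trans (maximalIdeal_le_jacobson ⊥)) fun m _ => ?_
    choose c hc using fun i => Ideal.Quotient.mk_surjective (b.repr ((I • (⊤ : Submodule B M)).mkQ m) i)
    refine Submodule.mem_sup.2 ⟨π c, ⟨c, rfl⟩, m - π c, ?_, add_sub_cancel _ _⟩
    refine (Submodule.Quotient.mk_eq_zero _).1 ?_
    rw [← Submodule.mkQ_apply, map_sub, hπ, sub_eq_zero]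
    simp only [hc]
    exact (b.sum_repr _).symm
  have hK : (LinearMap.ker π).FG := Module.FinitePresentation.fg_ker π hsurj
  have hle : LinearMap.ker π ≤ I • LinearMap.ker π := by
    intro x hx
    have hxi : ∀ i, x i ∈ I := fun i => by
      have h0 := hπ x
      rw [LinearMap.mem_ker.1 hx, map_zero] at h0
      exact Ideal.Quotient.eq_zero_iff_mem.1 (Fintype.linearIndependent_iff.1 b.linearIndependent _ h0.symm i)
    have hxm : x ∈ maximalIdeal A • (⊤ : Submodule A (_ → B)) := by
      rw [← Finset.univ_sum_single x]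
      refine Submodule.sum_mem _ fun i _ => ?_
      have h1 : x i ∈ maximalIdeal A • (⊤ : Submodule A B) := by rw [Ideal.smul_top_eq_map]; exact hxi i
      have h2 := Submodule.mem_map_of_mem (f := LinearMap.single A (fun _ => B) i) h1
      rw [Submodule.map_smul''] at h2
      exact Submodule.smul_mono le_rfl le_top h2
    obtain ⟨k, a, y, ha, rfl⟩ : ∃ (k : ℕ) (a : Fin k → A) (y : Fin k → _ → B),
        (∀ j, a j ∈ maximalIdeal A) ∧ x = ∑ j, a j • y j := by
      refine Submodule.smul_induction_on hxm (fun r hr n _ => ⟨1, fun _ => r, fun _ => n, fun _ => hr, by simp⟩) ?_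
      rintro z w ⟨k, a, y, ha, rfl⟩ ⟨k', a', y', ha', rfl⟩
      refine ⟨k + k', Fin.append a a', Fin.append y y', fun j => ?_, ?_⟩
      · refine Fin.addCases (fun i => ?_) (fun i => ?_) j
        · rw [Fin.append_left]; exact ha i
        · rw [Fin.append_right]; exact ha' i
      · rw [Fin.sum_univ_add]; simp
    have h0 : ∑ j, a j • π (y j) = 0 := by
      rw [LinearMap.mem_ker, map_sum] at hx
      simpa only [LinearMap.map_smul_of_tower] using hx
    obtain ⟨l, c, z, hz, hc⟩ := Module.Flat.isTrivialRelation_of_sum_smul_eq_zero h0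
    choose w hw using fun i => hsurj (z i)
    let y' := fun j => y j - ∑ i, c j i • w i
    have hy' : ∀ j, y' j ∈ LinearMap.ker π := fun j => by
      simp only [y', LinearMap.mem_ker, map_sub, map_sum, LinearMap.map_smul_of_tower, hw, hz j, sub_self]
    have e : ∑ j, a j • y j = ∑ j, a j • y' j := by
      simp only [y', smul_sub, Finset.smul_sum, smul_smul, Finset.sum_sub_distrib]
      rw [Finset.sum_comm (f := fun j i => (a j * c j i) • w i)]
      simp [← Finset.sum_smul, hc]
    rw [e]
    refine Submodule.sum_mem _ fun j _ => ?_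
    rw [← algebraMap_smul B (a j)]
    exact Submodule.smul_mem_smul (Ideal.mem_map_of_mem _ (ha j)) (hy' j)
  have hbot := Submodule.eq_bot_of_le_smul_of_le_jacobson_bot I _ hK hle (hIB.trans (maximalIdeal_le_jacobson ⊥))
  exact Module.Free.of_equiv (LinearEquiv.ofBijective π ⟨LinearMap.ker_eq_bot.1 hbot, hsurj⟩)

open AlgebraicGeometry Groth.Agent.QCoh TopologicalSpace in
theorem fp_stalk {X : Scheme.{u}} {M : X.Modules} (hM : Coh.IsQCoh M) (hfp : CohB1.IsFP M) (x : X) :
    Module.FinitePresentation (X.presheaf.stalk x) (M.presheaf.stalk x) := by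
  obtain ⟨_, ⟨U, hU, rfl⟩, hx, -⟩ :=
    X.isBasis_affineOpens.exists_subset_of_mem_open (Set.mem_univ x) isOpen_univ
  have hU' : IsAffineOpen U := hU
  haveI := finitePresentation_of_isFP hfp hU'
  letI := stalkAlg (X := X) hx
  letI := stalkModule M hx
  haveI := isScalarTower_stalk M hx
  haveI := isLocalization_stalk' hU' hx
  haveI := isLocalizedModule_germLin hM hU' hx
  exact FinitePresentation.of_isBaseChange (germLin M hx)
    ((isLocalizedModule_iff_isBaseChange (hU'.primeIdealOf ⟨x, hx⟩).asIdeal.primeCompl (X.presheaf.stalk x) _).mp inferInstance)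

open AlgebraicGeometry CategoryTheory Limits in
/-- Let f : X → S be of finite presentation, F a finitely presented quasi-coherent O_X-module and x a
point with image s. If F is flat over S at x and the stalk at x of the restriction of F to the
fibre, namely F_x / m_s F_x, is flat over the local ring of the fibre at x, namely O_{X,x} / m_s
O_{X,x}, then F is free of finite rank on some open neighbourhood of x. -/
theorem result {X S : Scheme.{u}} (f : X ⟶ S) [LocallyOfFinitePresentation f] [QuasiCompact f] [QuasiSeparated f]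
    (F : X.Modules) (hFq : Coh.IsQCoh F) (hFp : CohB1.IsFP F) (x : X) (h1 : FlatMod.IsFlatOverAt f F x)
    (h2 : Module.Flat (↑(X.presheaf.stalk x) ⧸ Ideal.map (f.stalkMap x).hom (IsLocalRing.maximalIdeal ↑(S.presheaf.stalk (f x))))
      (↑(F.presheaf.stalk x) ⧸ (Ideal.map (f.stalkMap x).hom (IsLocalRing.maximalIdeal ↑(S.presheaf.stalk (f x))) • (⊤ : Submodule ↑(X.presheaf.stalk x) ↑(F.presheaf.stalk x))))) :
    ∃ (U : X.Opens) (n : ℕ), x ∈ U ∧ Nonempty (F.restrict U.ι ≅ FlatMod.freeMod (↑U) n) := by
  letI := (f.stalkMap x).hom.toAlgebra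
  letI := FlatMod.moduleStalkOver f F x
  haveI : IsScalarTower (S.presheaf.stalk (f x)) (X.presheaf.stalk x) (F.presheaf.stalk x) :=
    IsScalarTower.of_algebraMap_smul fun _ _ => rfl
  haveI : Module.Flat (S.presheaf.stalk (f x)) (F.presheaf.stalk x) := h1
  haveI : IsLocalHom (algebraMap (S.presheaf.stalk (f x)) (X.presheaf.stalk x)) :=
    inferInstanceAs (IsLocalHom (f.stalkMap x).hom)
  haveI : Module.FinitePresentation (X.presheaf.stalk x) (F.presheaf.stalk x) := fp_stalk hFq hFp x
  haveI := free_of_fibre (A := S.presheaf.stalk (f x)) (B := X.presheaf.stalk x) (M := F.presheaf.stalk x) h2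
  exact Groth.Agent.QCoh.exists_free_nhd_of_free_stalk hFp x

end Groth.Agent.S1393
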