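import Groth.Statements.S1535
import Groth.Agent.GrpSchLib.SmoothRegular

set_option autoImplicit false
universe u
open CategoryTheory CategoryTheory.Limits AlgebraicGeometry
open Variety

namespace Groth.Agent.S1535

/-- If X is smooth over a field then every local ring of X is a regular local ring. -/
theorem result (k : Type u) [Field k] (X : Scheme.{u}) [X.Over (Spec (CommRingCat.of k))] [Smooth (X ↘ (Spec (CommRingCat.of k)))] (x : X) :
    IsRegularLocalRing (X.presheaf.stalk x) := by
  exact Groth.Agent.GrpSchLib.isRegularLocalRing_stalk_of_smooth (X ↘ Spec (CommRingCat.of k)) x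

end Groth.Agent.S1535
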