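import Groth.Statements.S9432
import Mathlib
import Groth.Agent.FlatModel.Slice

set_option autoImplicit false
universe u
open CAlg

namespace Groth.Agent.S9432
open TensorProduct in
theorem flat_prod (R A B : Type u) [CommRing R] [AddCommGroup A] [Module R A] [AddCommGroup B] [Module R B]
    [Module.Flat R A] [Module.Flat R B] : Module.Flat R (A × B) := by
  rw [Module.Flat.iff_rTensor_injective']
  intro I
  rw [injective_iff_map_eq_zero]
  intro x hx
  have h1 : ∀ y, (LinearMap.fst R A B).lTensor R (I.subtype.rTensor (A × B) y) = I.subtype.rTensor A ((LinearMap.fst R A B).lTensor I y) :=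
    fun y => by rw [← LinearMap.comp_apply, LinearMap.lTensor_comp_rTensor, ← LinearMap.rTensor_comp_lTensor]; rfl
  have h2 : ∀ y, (LinearMap.snd R A B).lTensor R (I.subtype.rTensor (A × B) y) = I.subtype.rTensor B ((LinearMap.snd R A B).lTensor I y) :=
    fun y => by rw [← LinearMap.comp_apply, LinearMap.lTensor_comp_rTensor, ← LinearMap.rTensor_comp_lTensor]; rfl
  have e1 : (LinearMap.fst R A B).lTensor I x = 0 :=
    Module.Flat.rTensor_preserves_injective_linearMap (M := A) I.subtype Subtype.val_injective (by rw [← h1, hx, map_zero, map_zero])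
  have e2 : (LinearMap.snd R A B).lTensor I x = 0 :=
    Module.Flat.rTensor_preserves_injective_linearMap (M := B) I.subtype Subtype.val_injective (by rw [← h2, hx, map_zero, map_zero])
  apply (TensorProduct.prodRight R R I A B).injective
  rw [map_zero]
  have : ∀ y, TensorProduct.prodRight R R I A B y = ((LinearMap.fst R A B).lTensor I y, (LinearMap.snd R A B).lTensor I y) := by
    intro y
    induction y using TensorProduct.induction_on with
    | zero => rw [map_zero, map_zero, map_zero]; rfl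
    | tmul i ab => simp
    | add y z hy hz => simp only [map_add, hy, hz]; rfl
  rw [this, e1, e2]
  rfl

theorem quasiFinite_prod (R A B : Type u) [CommRing R] [CommRing A] [CommRing B] [Algebra R A] [Algebra R B]
    [Algebra.FiniteType R A] [Algebra.FiniteType R B] [Algebra.QuasiFinite R A] [Algebra.QuasiFinite R B] :
    Algebra.QuasiFinite R (A × B) := by
  rw [Algebra.QuasiFinite.iff_finite_comap_preimage_singleton]
  intro x
  have hA := Algebra.QuasiFinite.finite_comap_preimage_singleton (S := A) x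
  have hB := Algebra.QuasiFinite.finite_comap_preimage_singleton (S := B) x
  refine ((hA.image (PrimeSpectrum.comap (RingHom.fst A B))).union (hB.image (PrimeSpectrum.comap (RingHom.snd A B)))).subset ?_
  intro P hP
  obtain ⟨s, rfl⟩ := (PrimeSpectrum.primeSpectrumProd A B).symm.surjective P
  rcases s with a | b
  · refine Or.inl ⟨a, ?_, ?_⟩
    · rw [Set.mem_preimage] at hP ⊢
      rw [← show PrimeSpectrum.comap (RingHom.fst A B) a = (PrimeSpectrum.primeSpectrumProd A B).symm (Sum.inl a) from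
        PrimeSpectrum.ext (by rw [PrimeSpectrum.primeSpectrumProd_symm_inl_asIdeal]; ext ⟨u, v⟩; simp [Ideal.mem_prod]),
        ← PrimeSpectrum.comap_comp_apply] at hP
      exact hP
    · exact PrimeSpectrum.ext (by rw [PrimeSpectrum.primeSpectrumProd_symm_inl_asIdeal]; ext ⟨u, v⟩; simp [Ideal.mem_prod])
  · refine Or.inr ⟨b, ?_, ?_⟩
    · rw [Set.mem_preimage] at hP ⊢
      rw [← show PrimeSpectrum.comap (RingHom.snd A B) b = (PrimeSpectrum.primeSpectrumProd A B).symm (Sum.inr b) from
        PrimeSpectrum.ext (by rw [PrimeSpectrum.primeSpectrumProd_symm_inr_asIdeal]; ext ⟨u, v⟩; simp [Ideal.mem_prod]),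
        ← PrimeSpectrum.comap_comp_apply] at hP
      exact hP
    · exact PrimeSpectrum.ext (by rw [PrimeSpectrum.primeSpectrumProd_symm_inr_asIdeal]; ext ⟨u, v⟩; simp [Ideal.mem_prod])

open TensorProduct in
theorem surjective_baseChange {R₁ R T : Type u} [CommRing R₁] [CommRing R] [CommRing T] [Algebra R₁ R] [Algebra R₁ T]
    (h : ∀ P : PrimeSpectrum R, PrimeSpectrum.comap (algebraMap R₁ R) P ∈ Set.range (PrimeSpectrum.comap (algebraMap R₁ T))) :
    Function.Surjective (PrimeSpectrum.comap (algebraMap R (R ⊗[R₁] T))) := by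
  intro P
  show P ∈ Set.range (PrimeSpectrum.comap (algebraMap R (R ⊗[R₁] T)))
  rw [← PrimeSpectrum.nontrivial_iff_mem_rangeComap]
  let p := PrimeSpectrum.comap (algebraMap R₁ R) P
  let ψ : p.asIdeal.ResidueField →ₐ[R₁] P.asIdeal.ResidueField :=
    Ideal.ResidueField.mapₐ p.asIdeal P.asIdeal (Algebra.ofId R₁ R) rfl
  let := ψ.toRingHom.toAlgebra
  have : IsScalarTower R₁ p.asIdeal.ResidueField P.asIdeal.ResidueField :=
    IsScalarTower.of_algebraMap_eq' ψ.comp_algebraMap.symm
  have hp : Nontrivial (p.asIdeal.ResidueField ⊗[R₁] T) := (PrimeSpectrum.nontrivial_iff_mem_rangeComap p).2 (h P)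
  have hP : Nontrivial (P.asIdeal.ResidueField ⊗[p.asIdeal.ResidueField] (p.asIdeal.ResidueField ⊗[R₁] T)) :=
    Module.FaithfullyFlat.nontrivial_tensorProduct_iff_right _ _ |>.2 hp
  have hP' : Nontrivial (P.asIdeal.ResidueField ⊗[R₁] T) :=
    (AlgebraTensorModule.cancelBaseChange R₁ p.asIdeal.ResidueField p.asIdeal.ResidueField P.asIdeal.ResidueField T).toEquiv.symm.nontrivial
  exact (AlgebraTensorModule.cancelBaseChange R₁ R R P.asIdeal.ResidueField T).toEquiv.nontrivial

open TensorProduct in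
theorem model_aux (R : Type u) [CommRing R] (S : Type u) [CommRing S] [Algebra R S] {n : ℕ}
    (φ : MvPolynomial (Fin n) R →ₐ[R] S) (hφ : Function.Surjective φ) (gS : Finset (MvPolynomial (Fin n) R))
    (hgS : Submodule.span (MvPolynomial (Fin n) R) (gS : Set (MvPolynomial (Fin n) R)) = RingHom.ker φ.toRingHom)
    (R₀ : Type u) [CommRing R₀] [Algebra R₀ R] (lg : MvPolynomial (Fin n) R → MvPolynomial (Fin n) R₀)
    (hlg : ∀ g ∈ gS, MvPolynomial.map (algebraMap R₀ R) (lg g) = g)
    (K₀ : Submodule (MvPolynomial (Fin n) R₀) (FlatModel.V 1 n R₀))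
    (hK₀ : K₀ = Submodule.span _ ((fun g => fun _ => lg g) '' gS))
    (R₁ : Type u) [CommRing R₁] [IsNoetherianRing R₁] [Algebra R₀ R₁] [Algebra R₁ R] [IsScalarTower R₀ R₁ R]
    (hR₁ : Module.Flat R₁ (FlatModel.V 1 n R₁ ⧸ FlatModel.KK K₀ R₁)) :
    ∃ (R₁ : Type u) (_ : CommRing R₁) (_ : IsNoetherianRing R₁) (_ : Algebra R₁ R) (S₁ : Type u) (_ : CommRing S₁)
      (_ : Algebra R₁ S₁), Algebra.FiniteType R₁ S₁ ∧ Module.Flat R₁ S₁ ∧
      ∃ j : S₁ →+* S, (∀ r, j (algebraMap R₁ S₁ r) = algebraMap R S (algebraMap R₁ R r)) ∧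
        ∀ (T : Type u) [CommRing T] [Algebra R₁ T], (S₁ →ₐ[R₁] T) → Nonempty (S →ₐ[R] R ⊗[R₁] T) := by
  classical
  subst hK₀
  let g₁ : Set (MvPolynomial (Fin n) R₁) := (fun g => MvPolynomial.map (algebraMap R₀ R₁) (lg g)) '' gS
  let I₁ := Ideal.span g₁
  have hI : (FlatModel.KK (Submodule.span (MvPolynomial (Fin n) R₀) ((fun g => fun _ : Fin 1 => lg g) '' gS)) R₁).map (LinearMap.proj 0) = I₁ := by
    rw [FlatModel.KK, Submodule.map_span]
    apply le_antisymm
    · rw [Submodule.span_le]
      rintro _ ⟨_, ⟨w, hw, rfl⟩, rfl⟩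
      refine (?_ : w 0 ∈ I₁.comap (MvPolynomial.map (algebraMap R₀ R₁)))
      induction hw using Submodule.span_induction with
      | mem w hw =>
        obtain ⟨g, hg, rfl⟩ := hw
        exact Ideal.subset_span ⟨g, hg, rfl⟩
      | zero => exact zero_mem _
      | add a b _ _ ha hb => exact add_mem ha hb
      | smul r a _ ha => exact Ideal.mul_mem_left _ _ ha
    · refine Submodule.span_le.2 ?_
      rintro _ ⟨g, hg, rfl⟩
      exact Submodule.subset_span ⟨_, ⟨_, Submodule.subset_span ⟨g, hg, rfl⟩, rfl⟩, rfl⟩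
  have hS₁ : Module.Flat R₁ (MvPolynomial (Fin n) R₁ ⧸ I₁) := Module.Flat.of_linearEquiv
    ((Submodule.Quotient.equiv (FlatModel.KK (Submodule.span (MvPolynomial (Fin n) R₀) ((fun g => fun _ : Fin 1 => lg g) '' gS)) R₁) I₁ (LinearEquiv.funUnique (Fin 1) (MvPolynomial (Fin n) R₁) (MvPolynomial (Fin n) R₁)) hI).symm.restrictScalars R₁)
  let ψ : MvPolynomial (Fin n) R₁ →+* S := φ.toRingHom.comp (MvPolynomial.map (algebraMap R₁ R))
  have hψ : ∀ g : MvPolynomial (Fin n) R₀, MvPolynomial.map (algebraMap R₁ R) (MvPolynomial.map (algebraMap R₀ R₁) g) = MvPolynomial.map (algebraMap R₀ R) g :=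
    fun g => by rw [MvPolynomial.map_map, ← IsScalarTower.algebraMap_eq]
  let j : MvPolynomial (Fin n) R₁ ⧸ I₁ →+* S := Ideal.Quotient.lift I₁ ψ fun x hx => by
    have hle : I₁ ≤ RingHom.ker ψ := Ideal.span_le.2 (by
      rintro _ ⟨g, hg, rfl⟩
      show φ (MvPolynomial.map (algebraMap R₁ R) _) = 0
      rw [hψ, hlg g hg]
      exact hgS.le (Submodule.subset_span hg))
    exact hle hx
  refine ⟨R₁, inferInstance, ‹_›, inferInstance, MvPolynomial (Fin n) R₁ ⧸ I₁, inferInstance, inferInstance,
    inferInstance, hS₁, j, fun r => ?_, fun T _ _ χ => ?_⟩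
  · show φ (MvPolynomial.map (algebraMap R₁ R) (MvPolynomial.C r)) = _
    rw [MvPolynomial.map_C]
    exact φ.commutes _
  · let b : Fin n → R ⊗[R₁] T := fun i => 1 ⊗ₜ[R₁] χ (Ideal.Quotient.mk I₁ (MvPolynomial.X i))
    have hb : (MvPolynomial.aeval b).toRingHom.comp (MvPolynomial.map (algebraMap R₁ R)) =
        (Algebra.TensorProduct.includeRight : T →ₐ[R₁] R ⊗[R₁] T).toRingHom.comp (χ.toRingHom.comp (Ideal.Quotient.mk I₁)) := by
      apply MvPolynomial.ringHom_ext
      · intro r
        show MvPolynomial.aeval b (MvPolynomial.map (algebraMap R₁ R) (MvPolynomial.C r)) = 1 ⊗ₜ χ (algebraMap R₁ _ r)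
        rw [MvPolynomial.map_C, MvPolynomial.aeval_C, χ.commutes]
        exact (Algebra.TensorProduct.algebraMap_apply' r).symm.trans (Algebra.TensorProduct.algebraMap_apply r) |>.symm
      · intro i
        show MvPolynomial.aeval b (MvPolynomial.map (algebraMap R₁ R) (MvPolynomial.X i)) = _
        rw [MvPolynomial.map_X, MvPolynomial.aeval_X]
        rfl
    have hkill : ∀ x, φ x = 0 → MvPolynomial.aeval b x = 0 := by
      intro x hx
      have hle : Ideal.span (gS : Set (MvPolynomial (Fin n) R)) ≤ RingHom.ker (MvPolynomial.aeval b).toRingHom := Ideal.span_le.2 (by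
        intro g hg
        show MvPolynomial.aeval b g = 0
        rw [← hlg g hg, ← hψ]
        show ((MvPolynomial.aeval b).toRingHom.comp (MvPolynomial.map (algebraMap R₁ R))) _ = 0
        rw [hb]
        show (1 : R) ⊗ₜ χ (Ideal.Quotient.mk I₁ _) = 0
        rw [Ideal.Quotient.eq_zero_iff_mem.2 (show _ ∈ I₁ from Ideal.subset_span ⟨g, hg, rfl⟩), map_zero, tmul_zero])
      exact hle (hgS.ge hx)
    exact ⟨(Ideal.Quotient.liftₐ (RingHom.ker φ) (MvPolynomial.aeval b) fun x hx => hkill x hx).comp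
      (Ideal.quotientKerAlgEquivOfSurjective hφ).symm.toAlgHom⟩

open TensorProduct in
theorem exists_model (R : Type u) [CommRing R] (S : Type u) [CommRing S] [Algebra R S] [Module.Flat R S]
    [Algebra.FinitePresentation R S] :
    ∃ (R₁ : Type u) (_ : CommRing R₁) (_ : IsNoetherianRing R₁) (_ : Algebra R₁ R) (S₁ : Type u) (_ : CommRing S₁)
      (_ : Algebra R₁ S₁), Algebra.FiniteType R₁ S₁ ∧ Module.Flat R₁ S₁ ∧
      ∃ j : S₁ →+* S, (∀ r, j (algebraMap R₁ S₁ r) = algebraMap R S (algebraMap R₁ R r)) ∧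
        ∀ (T : Type u) [CommRing T] [Algebra R₁ T], (S₁ →ₐ[R₁] T) → Nonempty (S →ₐ[R] R ⊗[R₁] T) := by
  classical
  obtain ⟨n, φ, hφ, hkerφ⟩ := Algebra.FinitePresentation.out (R := R) (A := S)
  obtain ⟨gS, hgS⟩ := hkerφ
  let c : Finset R := gS.biUnion fun g => g.coeffs
  let R₀ : Subalgebra ℤ R := Algebra.adjoin ℤ (c : Set R)
  have : Algebra.FiniteType ℤ R₀ := (Subalgebra.fg_iff_finiteType R₀).1 (Subalgebra.fg_adjoin_finset c)
  have : IsNoetherianRing R₀ := Algebra.FiniteType.isNoetherianRing ℤ R₀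
  have hgdesc : ∀ g ∈ gS, ∃ q : MvPolynomial (Fin n) R₀, MvPolynomial.map (algebraMap R₀ R) q = g := fun g hg =>
    MvPolynomial.mem_range_map_iff_coeffs_subset.2 fun x hx =>
      ⟨⟨x, Algebra.subset_adjoin (Finset.mem_biUnion.2 ⟨g, hg, hx⟩)⟩, rfl⟩
  choose! lg hlg using hgdesc
  let K₀ : Submodule (MvPolynomial (Fin n) R₀) (FlatModel.V 1 n R₀) :=
    Submodule.span _ ((fun g => fun _ => lg g) '' gS)
  let ev : FlatModel.V 1 n R →ₗ[R] S := φ.toLinearMap ∘ₗ LinearMap.proj 0
  have hev : Function.Surjective ev := fun s => let ⟨p, hp⟩ := hφ s; ⟨fun _ => p, hp⟩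
  have hker : (FlatModel.KK K₀ R).restrictScalars R = LinearMap.ker ev := by
    apply le_antisymm
    · intro x hx
      rw [Submodule.restrictScalars_mem, FlatModel.KK] at hx
      show φ (x 0) = 0
      induction hx using Submodule.span_induction with
      | mem x hx =>
        obtain ⟨w, hw, rfl⟩ := hx
        refine (?_ : w 0 ∈ Ideal.comap (φ.toRingHom.comp (MvPolynomial.map (algebraMap R₀ R))) ⊥)
        induction hw using Submodule.span_induction with
        | mem w hw =>
          obtain ⟨g, hg, rfl⟩ := hw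
          show φ (MvPolynomial.map (algebraMap R₀ R) (lg g)) = 0
          rw [hlg g hg]
          exact hgS.le (Submodule.subset_span hg)
        | zero => simp
        | add a b _ _ ha hb => exact add_mem ha hb
        | smul r a _ ha => exact Ideal.mul_mem_left _ _ ha
      | zero => simp
      | add a b _ _ ha hb => rw [Pi.add_apply, map_add, ha, hb, add_zero]
      | smul r a _ ha => rw [Pi.smul_apply, smul_eq_mul, map_mul, ha, mul_zero]
    · intro x hx
      have hx' : x 0 ∈ Submodule.span (MvPolynomial (Fin n) R) (gS : Set (MvPolynomial (Fin n) R)) := hgS.ge hx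
      have h0 : ∀ y ∈ Submodule.span (MvPolynomial (Fin n) R) (gS : Set (MvPolynomial (Fin n) R)),
          (fun _ => y : FlatModel.V 1 n R) ∈ FlatModel.KK K₀ R := by
        intro y hy
        induction hy using Submodule.span_induction with
        | mem g hg => exact Submodule.subset_span ⟨_, Submodule.subset_span ⟨g, hg, rfl⟩, funext fun _ => hlg g hg⟩
        | zero => exact zero_mem _
        | add a b _ _ ha hb => exact add_mem ha hb
        | smul r a _ ha => exact Submodule.smul_mem _ r ha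
      have e : x = fun _ => x 0 := funext fun i => by rw [Subsingleton.elim i 0]
      rw [Submodule.restrictScalars_mem, e]
      exact h0 _ hx'
  have hflat : FlatModel.FlatC K₀ R := by
    rw [FlatModel.flatC_iff_flat]
    exact Module.Flat.of_linearEquiv (((Submodule.Quotient.restrictScalarsEquiv R _).symm.trans
      (Submodule.quotEquivOfEq _ _ hker)).trans (ev.quotKerEquivOfSurjective hev))
  obtain ⟨R₁, hR₁fg, hR₁⟩ := FlatModel.exists_fg_flatC K₀ hflat
  have : Algebra.FiniteType R₀ R₁ := (Subalgebra.fg_iff_finiteType R₁).1 hR₁fg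
  have : IsNoetherianRing R₁ := Algebra.FiniteType.isNoetherianRing R₀ R₁
  rw [FlatModel.flatC_iff_flat] at hR₁
  exact model_aux R S φ hφ gS hgS R₀ lg hlg K₀ rfl R₁ hR₁


/-- For a faithfully flat ring map R → S of finite presentation there is a quasi-finite (of finite type
with finite fibres), faithfully flat, finitely presented R-algebra S' together with an R-algebra map
S → S'. -/
theorem result (R : Type u) [CommRing R]
    (S : Type u) [CommRing S] [Algebra R S] [Module.FaithfullyFlat R S]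
    [Algebra.FinitePresentation R S] :
    ∃ (S' : Type u) (_ : CommRing S') (_ : Algebra R S'),
      Algebra.QuasiFinite R S' ∧ Algebra.FiniteType R S' ∧ Module.FaithfullyFlat R S' ∧
        Algebra.FinitePresentation R S' ∧ Nonempty (S →ₐ[R] S') := by
  classical
  obtain ⟨R₁, _, hNoeth, _, S₁, _, _, hft, hflat, j, hj, hmap⟩ := exists_model R S
  have hP : ∀ P : PrimeSpectrum R, ∃ (T : Type u) (_ : CommRing T) (_ : Algebra R₁ T), Nonempty (S₁ →ₐ[R₁] T) ∧
      Algebra.FiniteType R₁ T ∧ Algebra.QuasiFinite R₁ T ∧ Module.Flat R₁ T ∧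
      PrimeSpectrum.comap (algebraMap R₁ R) P ∈ Set.range (PrimeSpectrum.comap (algebraMap R₁ T)) := by
    intro P
    obtain ⟨Q, rfl⟩ := PrimeSpectrum.comap_surjective_of_faithfullyFlat (A := R) (B := S) P
    let q := Q.asIdeal.comap j
    have : q.LiesOver (PrimeSpectrum.comap (algebraMap R₁ R) (PrimeSpectrum.comap (algebraMap R S) Q)).asIdeal := ⟨by
      ext r
      show algebraMap R S (algebraMap R₁ R r) ∈ Q.asIdeal ↔ j (algebraMap R₁ S₁ r) ∈ Q.asIdeal
      rw [hj]⟩
    obtain ⟨T, _, _, hχ, h1, h2, h3, q', hq', hover⟩ := FlatModel.exists_quasiFinite_slice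
      (PrimeSpectrum.comap (algebraMap R₁ R) (PrimeSpectrum.comap (algebraMap R S) Q)).asIdeal q
    exact ⟨T, _, _, hχ, h1, h2, h3, ⟨q', hq'⟩, PrimeSpectrum.ext hover.over.symm⟩
  choose T instT algT hχ hTft hTqf hTflat hTP using hP
  let U : PrimeSpectrum R → Set (PrimeSpectrum R) := fun P =>
    PrimeSpectrum.comap (algebraMap R₁ R) ⁻¹' Set.range (PrimeSpectrum.comap (algebraMap R₁ (T P)))
  have hUopen : ∀ P, IsOpen (U P) := fun P => by
    have := hTflat P
    have : Algebra.FinitePresentation R₁ (T P) := Algebra.FinitePresentation.of_finiteType.1 (hTft P)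
    exact (PrimeSpectrum.isOpenMap_comap_of_hasGoingDown_of_finitePresentation (R := R₁) (S := T P)).isOpen_range.preimage
      (PrimeSpectrum.continuous_comap _)
  obtain ⟨F, hF⟩ := isCompact_univ.elim_finite_subcover U hUopen fun P _ => Set.mem_iUnion.2 ⟨P, hTP P⟩
  have key : ∀ G : Finset (PrimeSpectrum R), ∃ (T' : Type u) (_ : CommRing T') (_ : Algebra R₁ T'),
      Nonempty (S₁ →ₐ[R₁] T') ∧ Algebra.FiniteType R₁ T' ∧ Algebra.QuasiFinite R₁ T' ∧ Module.Flat R₁ T' ∧
      ∀ P ∈ G, Set.range (PrimeSpectrum.comap (algebraMap R₁ (T P))) ⊆ Set.range (PrimeSpectrum.comap (algebraMap R₁ T')) := by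
    intro G
    induction G using Finset.induction with
    | empty =>
      refine ⟨PUnit.{u+1}, inferInstance, inferInstance, ⟨?_⟩, inferInstance, inferInstance, inferInstance, by simp⟩
      exact { toFun := fun _ => PUnit.unit, map_one' := rfl, map_mul' := fun _ _ => rfl, map_zero' := rfl, map_add' := fun _ _ => rfl, commutes' := fun _ => rfl }
    | insert P G hPG ih =>
      obtain ⟨T', _, _, ⟨χ'⟩, h1, h2, h3, hsub⟩ := ih
      obtain ⟨χ⟩ := hχ P
      have := hTft P
      have := hTqf P
      have := hTflat P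
      refine ⟨T P × T', inferInstance, inferInstance, ⟨χ.prod χ'⟩, inferInstance, quasiFinite_prod R₁ (T P) T', flat_prod R₁ (T P) T', fun P' hP' => ?_⟩
      rcases Finset.mem_insert.1 hP' with rfl | hP'
      · rintro _ ⟨y, rfl⟩
        exact ⟨PrimeSpectrum.comap (RingHom.fst (T P') T') y, by rw [← PrimeSpectrum.comap_comp_apply]; rfl⟩
      · intro p hp
        obtain ⟨y, rfl⟩ := hsub P' hP' hp
        exact ⟨PrimeSpectrum.comap (RingHom.snd (T P) T') y, by rw [← PrimeSpectrum.comap_comp_apply]; rfl⟩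
  obtain ⟨T', _, _, ⟨χ⟩, h1, h2, h3, hsub⟩ := key F
  obtain ⟨f⟩ := hmap T' χ
  have : Algebra.FinitePresentation R₁ T' := Algebra.FinitePresentation.of_finiteType.1 h1
  refine ⟨TensorProduct R₁ R T', inferInstance, inferInstance, inferInstance, inferInstance, ?_, inferInstance, ⟨f⟩⟩
  refine Module.FaithfullyFlat.of_comap_surjective (surjective_baseChange fun P => ?_)
  obtain ⟨i, hi, hPi⟩ := Set.mem_iUnion₂.1 (hF (Set.mem_univ P))
  exact hsub i hi hPi


end Groth.Agent.S9432
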