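import Groth.Statements.S2121
import Mathlib.AlgebraicGeometry.ValuativeCriterion
import Mathlib.RingTheory.Spectrum.Prime.Topology

set_option autoImplicit false
universe u
open CategoryTheory AlgebraicGeometry
open Mor

namespace Groth.Agent.S2121

theorem exists_specializes {X Y : Scheme.{u}} (f : X ⟶ Y) [QuasiCompact f] (z : Y)
    (hz : z ∈ closure (Set.range f.base)) : ∃ x : X, f x ⤳ z := by
  obtain ⟨_, ⟨V, hV, rfl⟩, hzV, -⟩ := Y.isBasis_affineOpens.exists_subset_of_mem_open
    (Set.mem_univ z) isOpen_univ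
  replace hV : IsAffineOpen V := hV
  obtain ⟨s, hsf, hs⟩ := ((TopologicalSpace.Opens.IsBasis.isCompact_open_iff_eq_finite_iUnion (fun U : X.affineOpens => (U : X.Opens)) (by rw [Subtype.range_coe]; exact X.isBasis_affineOpens))
    (fun U => U.2.isCompact) ((f ⁻¹ᵁ V : X.Opens) : Set X)).mp
      ⟨QuasiCompact.isCompact_preimage (f := f) _ V.2 hV.isCompact, (f ⁻¹ᵁ V).2⟩
  have h1 : z ∈ closure ((V : Set Y) ∩ Set.range f.base) := V.2.inter_closure ⟨hzV, hz⟩
  have h2 : (V : Set Y) ∩ Set.range f.base ⊆ ⋃ i ∈ s, f '' ((i : X.Opens) : Set X) := by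
    rintro _ ⟨hy, x, rfl⟩
    obtain ⟨i, hi, hx⟩ := Set.mem_iUnion₂.mp (hs.le (show x ∈ ((f ⁻¹ᵁ V : X.Opens) : Set X) from hy))
    exact Set.mem_iUnion₂.mpr ⟨i, hi, x, hx, rfl⟩
  have h3 := closure_mono h2 h1
  rw [hsf.closure_biUnion] at h3
  obtain ⟨U, hU, hzU⟩ := Set.mem_iUnion₂.mp h3
  have hUV : (U : X.Opens) ≤ f ⁻¹ᵁ V := fun x hx =>
    hs.ge (Set.mem_iUnion₂.mpr ⟨U, hU, hx⟩)
  let φ := f.appLE V U hUV
  let g := Spec.map φ
  have hfg : g ≫ hV.fromSpec = U.2.fromSpec ≫ f := hV.SpecMap_appLE_fromSpec f U.2 hUV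
  have hcl : hV.primeIdealOf ⟨z, hzV⟩ ∈ closure (Set.range g) := by
    rw [hV.fromSpec.isOpenEmbedding.isInducing.closure_eq_preimage_closure_image]
    refine Set.mem_preimage.mpr ?_
    rw [hV.fromSpec_primeIdealOf, ← Set.range_comp, ← TopCat.coe_comp, ← Scheme.Hom.comp_base, hfg,
      Scheme.Hom.comp_base, TopCat.coe_comp, Set.range_comp, U.2.range_fromSpec]
    exact hzU
  have hker : RingHom.ker φ.hom ≤ (hV.primeIdealOf ⟨z, hzV⟩).asIdeal :=
    (PrimeSpectrum.closure_range_comap φ.hom).le hcl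
  obtain ⟨q, hq, hqp⟩ := Ideal.exists_minimalPrimes_le hker
  obtain ⟨Q, hQ, hQq⟩ := Ideal.exists_comap_eq_of_mem_minimalPrimes φ.hom (I := ⊥) q hq
  haveI := hq.1.1
  refine ⟨U.2.fromSpec ⟨Q, hQ⟩, ?_⟩
  rw [← Scheme.Hom.comp_apply, ← hfg]
  have h4 := Specializes.map ((PrimeSpectrum.le_iff_specializes (g ⟨Q, hQ⟩) (hV.primeIdealOf ⟨z, hzV⟩)).mp
    (hQq.2.le.trans hqp)) hV.fromSpec.continuous
  rwa [hV.fromSpec_primeIdealOf] at h4

/-- Let `f : X → Y` be quasi-compact and `z` a point in the closure of `f(X)` (the underlying set of the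
scheme theoretic image). Then there are a valuation ring `A` with fraction field `K` and morphisms
`Spec K → X`, `Spec A → Y` forming a commutative square with `f` and `Spec K → Spec A`, such that
the closed point of `Spec A` maps to `z`. -/
theorem result {X Y : Scheme.{u}} (f : X ⟶ Y) [QuasiCompact f] (z : Y)
    (hz : z ∈ closure (Set.range f.base)) :
    ∃ (A : Type u) (_ : CommRing A) (_ : IsDomain A) (_ : ValuationRing A)
      (x : Spec (CommRingCat.of (FractionRing A)) ⟶ X) (y : Spec (CommRingCat.of A) ⟶ Y),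
      x ≫ f = Spec.map (CommRingCat.ofHom (algebraMap A (FractionRing A))) ≫ y ∧
      y.base (IsLocalRing.closedPoint A) = z := by
  obtain ⟨x', h⟩ := exists_specializes f z hz
  let st : Y.presheaf.stalk z ⟶ X.residueField x' :=
    Y.presheaf.stalkSpecializes h ≫ f.stalkMap x' ≫ X.residue x'
  obtain ⟨A, hA, hA_local⟩ := IsLocalRing.exists_factor_valuationRing st.hom
  let toA : Y.presheaf.stalk z ⟶ .of A := CommRingCat.ofHom (st.hom.codRestrict _ hA)
  have w : X.fromSpecResidueField x' ≫ f =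
      Spec.map (CommRingCat.ofHom (algebraMap A (X.residueField x'))) ≫
        Spec.map toA ≫ Y.fromSpecStalk z := by
    rw [Scheme.fromSpecResidueField, Category.assoc, ← Scheme.SpecMap_stalkMap_fromSpecStalk,
      ← Scheme.SpecMap_stalkSpecializes_fromSpecStalk h]
    simp_rw [← Spec.map_comp_assoc]
    rfl
  let e : X.residueField x' →+* FractionRing A :=
    (FractionRing.algEquiv A (X.residueField x')).symm.toRingHom
  refine ⟨A, inferInstance, inferInstance, inferInstance,
    Spec.map (CommRingCat.ofHom e) ≫ X.fromSpecResidueField x',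
    Spec.map toA ≫ Y.fromSpecStalk z, ?_, ?_⟩
  · rw [Category.assoc, w, ← Spec.map_comp_assoc]
    congr 2
    ext a
    exact (FractionRing.algEquiv A (X.residueField x')).symm.commutes a
  · show Y.fromSpecStalk z (Spec.map toA (IsLocalRing.closedPoint A)) = z
    have : Spec.map toA (IsLocalRing.closedPoint A) = IsLocalRing.closedPoint (Y.presheaf.stalk z) :=
      IsLocalRing.comap_closedPoint (S := A) (st.hom.codRestrict A.toSubring hA)
    rw [this, Y.fromSpecStalk_closedPoint]

end Groth.Agent.S2121
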