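import Groth.Statements.S1690
import Groth.Agent.RefX.Normal
-- import your own Groth.Agent.* helpers here

set_option autoImplicit false
universe u
open CategoryTheory CategoryTheory.Limits AlgebraicGeometry TopologicalSpace
open SDiv

namespace Groth.Agent.S1690

/-- (1) if and only if (3): let X be an integral locally Noetherian normal scheme and F a coherent
module. Then F is reflexive (stalkwise) if and only if there is an open subscheme j : U ⟶ X such
that every point outside U has local ring of dimension at least 2, the restriction of F to U is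
finite locally free, and the canonical map F ⟶ j_* j^* F is an isomorphism. -/
theorem result (X : Scheme.{u}) [IsIntegral X] [IsLocallyNoetherian X] (hX : Pi1.IsNormalScheme X)
    (F : X.Modules) (hF : Coh.IsCoh F) :
    (∀ x : ↥X, Module.IsReflexive (X.presheaf.stalk x) (F.presheaf.stalk x)) ↔
      ∃ U : X.Opens, (∀ x : ↥X, x ∉ U → (2 : WithBot ℕ∞) ≤ ringKrullDim (X.presheaf.stalk x)) ∧
        FlatMod.IsFinLocFree (F.restrict U.ι) ∧ IsIso ((Scheme.Modules.restrictAdjunction U.ι).unit.app F) := by
  have hdep : ∀ U : X.Opens, (∀ x : ↥X, x ∉ U → (2 : WithBot ℕ∞) ≤ ringKrullDim (X.presheaf.stalk x)) →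
      ∀ x : ↥X, x ∉ U → (2 : ℕ∞) ≤ LocCoh.depth (X.presheaf.stalk x) (X.presheaf.stalk x) :=
    fun U hU x hx => by
      obtain ⟨h1, h2⟩ := hX x
      haveI := h1
      haveI := h2
      exact Groth.Agent.RefX.two_le_depth_of_normal _ (hU x hx)
  constructor
  · intro hr
    let U := Groth.Agent.RefX.freeLocus F hF
    have hU : ∀ x : ↥X, x ∉ U → (2 : WithBot ℕ∞) ≤ ringKrullDim (X.presheaf.stalk x) := fun x hx =>
      not_lt.1 fun h => hx (Groth.Agent.RefX.free_of_dim_lt_two hX hF x (hr x) h)
    exact ⟨U, hU, Groth.Agent.RefX.isFinLocFree_restrict hF U fun x hx => hx,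
      Groth.Agent.RefX.isIso_unit_of_extendsAcross (Groth.Agent.RefX.extendsAcross_reflexive hF
        ((Groth.Agent.RefX.isReflexive_iff hF).2 hr) (hdep U hU))⟩
  · rintro ⟨U, hU, hfree, hiso⟩ x
    haveI := hiso
    have hG : Coh.IsCoh (F.restrict U.ι) :=
      ⟨Groth.Agent.QCoh.isQCoh_restrict _ hF.1, Groth.Agent.Algz7.isFT_restrict _ hF.1 hF.2⟩
    have hGr : ∀ y, RefHull.IsReflexiveAt (F.restrict U.ι) y := fun y => by
      haveI := Groth.Agent.QCoh.free_stalk_of_isFinLocFree hfree y
      haveI := Groth.Agent.QCoh.finite_stalk_of_isFT hG.1 hG.2 y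
      show Module.IsReflexive _ _
      infer_instance
    obtain ⟨-, h⟩ := Groth.Agent.RefX.reflexive_pushforward U (hdep U hU) hG hGr
    exact Groth.Agent.RefX.isReflexiveAt_of_iso
      (asIso ((Scheme.Modules.restrictAdjunction U.ι).unit.app F)).symm (h x)

end Groth.Agent.S1690
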