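import Groth.Statements.S10909
import Groth.Agent.SmoothVarLib.Basic
set_option autoImplicit false
universe u
open TensorProduct
open SmVar

namespace Groth.Agent.S10909
open SmoothVarLib in

/-- Let k be an algebraically closed field and A a k-algebra of finite type with irreducible spectrum
(the nilradical of A is prime) and Krull dimension n; X = Spec A is then an irreducible separated
k-scheme of finite type of dimension n. Then X is a nonsingular variety — A is reduced and every
localization of A at a prime is a regular local ring — if and only if the module of Kähler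
differentials Ω_{A/k} is locally free of rank n: projective, with fibre κ(P) ⊗_A Ω_{A/k} of
dimension n at every prime P. -/
theorem result (k : Type u) [Field k]
    [IsAlgClosed k] (A : Type u) [CommRing A] [Algebra k A] [Algebra.FiniteType k A]
    (hirr : (nilradical A).IsPrime) (n : ℕ) (hn : ringKrullDim A = n) :
    (IsReduced A ∧ IsRegularRing A) ↔
      (Module.Projective A (Ω[A⁄k]) ∧
        ∀ (P : Ideal A) [P.IsPrime],
          Module.finrank P.ResidueField (P.ResidueField ⊗[A] Ω[A⁄k]) = n) := by
  haveI : Module.Finite A Ω[A⁄k] := inferInstance
  constructor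
  · rintro ⟨-, hreg⟩
    haveI := hreg
    haveI := isDomain_of_regular A hirr
    haveI := smooth_of_regular k A
    refine ⟨inferInstance, fun P _ => ?_⟩
    obtain ⟨m, hm, hPm⟩ := Ideal.exists_le_maximal P (Ideal.IsPrime.ne_top ‹_›)
    rw [finrank_residueField_tensor A Ω[A⁄k] P,
      (Module.isLocallyConstant_rankAtStalk (R := A) (M := Ω[A⁄k])).apply_eq_of_preconnectedSpace
        ⟨P, ‹_›⟩ ⟨m, hm.isPrime⟩,
      ← SmoothReg.finrank_cotangentSpace_maximal (k := k) ⟨m, hm.isPrime⟩]
    have h := (IsRegularLocalRing.iff_finrank_cotangentSpace (R := Localization.AtPrime m)).1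
      (IsRegularRing.isRegularLocalRing_localization m)
    rw [ringKrullDim_localization_maximal k A hirr n hn m] at h
    exact_mod_cast h
  · rintro ⟨hproj, hrank⟩
    haveI : IsNoetherianRing A := Algebra.FiniteType.isNoetherianRing k A
    have hmax : ∀ (m : Ideal A) [m.IsMaximal], IsRegularLocalRing (Localization.AtPrime m) := by
      intro m hm
      rw [IsRegularLocalRing.iff_finrank_cotangentSpace,
        ringKrullDim_localization_maximal k A hirr n hn m,
        SmoothReg.finrank_cotangentSpace_maximal (k := k) ⟨m, hm.isPrime⟩,
        ← finrank_residueField_tensor A Ω[A⁄k] m, hrank m]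
    haveI := CotTLib.smooth_of_isSmoothAt_maximal (k := k) fun m _ =>
      CotTLib.isSmoothAt_of_isRegularLocalRing m (hmax m)
    exact ⟨isReduced_of_regular_maximal A hmax, GeomReg.isRegularRing_of_smooth k A⟩

end Groth.Agent.S10909
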