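import Groth.Statements.S12422
import Groth.Agent.S10909
import Groth.Agent.Synt29.OmegaAffine
import Groth.Agent.QCoh.LocFree
import Groth.Agent.VarDim.Top
import Groth.Agent.SmoothVarLib.Basic

set_option autoImplicit false
universe u
open CategoryTheory CategoryTheory.Limits AlgebraicGeometry
open NonsingVar

namespace Groth.Agent.S12422
open TopologicalSpace Opposite
open scoped TensorProduct

/-- Changing the base along a surjection does not change the differentials. -/
theorem exists_kaehler_equiv (k K A : Type u) [CommRing k] [CommRing K] [CommRing A] [Algebra k K] [Algebra K A]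
    [Algebra k A] [IsScalarTower k K A] (h : Function.Surjective (algebraMap k K)) :
    Nonempty (Ω[A⁄k] ≃ₗ[A] Ω[A⁄K]) := by
  haveI := KaehlerDifferential.subsingleton_of_surjective k K h
  let l := KaehlerDifferential.map k K A A
  refine ⟨LinearEquiv.ofBijective l ⟨?_, KaehlerDifferential.map_surjective k K A⟩⟩
  rw [injective_iff_map_eq_zero]
  intro x hx
  obtain ⟨y, hy⟩ := (KaehlerDifferential.exact_mapBaseChange_map k K A x).1 hx
  rw [← hy, Subsingleton.elim y 0, map_zero]

theorem affine_facts (k : Type u) [Field k] (n : ℕ) {X : Scheme.{u}} [IrreducibleSpace X]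
    (f : X ⟶ Spec (CommRingCat.of k)) [LocallyOfFiniteType f] (hn : topologicalKrullDim X = (n : WithBot ℕ∞))
    {U : X.Opens} (hU : IsAffineOpen U) {x : X} (hx : x ∈ U) :
    (nilradical Γ(X, U)).IsPrime ∧ ringKrullDim Γ(X, U) = (n : WithBot ℕ∞) := by
  haveI : Nonempty (U : Scheme.{u}) := ⟨⟨x, hx⟩⟩
  haveI : PreirreducibleSpace (U : Scheme.{u}) :=
    Subtype.preirreducibleSpace ((PreirreducibleSpace.isPreirreducible_univ (X := X)).open_subset U.2 (Set.subset_univ _))
  haveI : IrreducibleSpace (U : Scheme.{u}) := { toNonempty := ⟨⟨x, hx⟩⟩ }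
  let h := hU.isoSpec.hom.homeomorph
  haveI : IrreducibleSpace (Spec Γ(X, U)) := h.surjective.irreducibleSpace h.continuous
  refine ⟨PrimeSpectrum.irreducibleSpace_iff_isPrime_nilradical.1 ‹_›, ?_⟩
  have h1 : topologicalKrullDim (U : Scheme.{u}) = n := by
    rw [Groth.Agent.VarDim.topologicalKrullDim_eq_deg_genericPoint (U.ι ≫ f), Groth.Agent.VarDim.deg_comp f U.ι,
      genericPoint_eq_of_isOpenImmersion U.ι, ← Groth.Agent.VarDim.topologicalKrullDim_eq_deg_genericPoint f, hn]
  rw [← PrimeSpectrum.topologicalKrullDim_eq_ringKrullDim, ← h1]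
  exact IsHomeomorph.topologicalKrullDim_eq h h.isHomeomorph |>.symm


/-- Let k be an algebraically closed field, X an irreducible scheme which is separated and of finite
type over k, n = dim X, and (Ω, d) a sheaf of relative differentials of X over k, i.e. d : O_X → Ω a
universal k-derivation. Then Ω is locally free of rank n if and only if every local ring of X is
regular (X is a nonsingular variety over k). -/
theorem result (k : Type u) [Field k] [IsAlgClosed k] (n : ℕ)
    (X : Scheme.{u}) [X.Over (Spec (CommRingCat.of k))] [IrreducibleSpace ↥X]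
    [IsSeparated (X ↘ (Spec (CommRingCat.of k)))] [LocallyOfFiniteType (X ↘ (Spec (CommRingCat.of k)))]
    [QuasiCompact (X ↘ (Spec (CommRingCat.of k)))]
    (hn : topologicalKrullDim ↥X = (n : WithBot ℕ∞))
    (Ω : X.Modules) (d : OmegaSh.Der (X ↘ (Spec (CommRingCat.of k))) Ω) (hd : OmegaSh.IsUniversal d) :
    FlatMod.IsFinLocFreeOfRank n Ω ↔ ∀ x : ↥X, IsRegularLocalRing ↑(X.presheaf.stalk x) := by
  let f := X ↘ (Spec (CommRingCat.of k))
  have hqc := Groth.Agent.Synt29.OmegaStalk.isQCoh_of_isUniversal hd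
  let al : ∀ U : X.Opens, Algebra k Γ(X, U) := fun U =>
    ((f.appLE ⊤ U le_top).hom.comp (Scheme.ΓSpecIso (CommRingCat.of k)).inv.hom).toAlgebra
  have hall : ∀ U : X.Opens, IsAffineOpen U → letI := al U
      Algebra.FiniteType k Γ(X, U) ∧ Nonempty (Γ(Ω, U) ≃ₗ[Γ(X, U)] Ω[Γ(X, U)⁄k]) := by
    intro U hU
    letI := al U
    letI : Algebra Γ(Spec (CommRingCat.of k), ⊤) Γ(X, U) := (f.appLE ⊤ U le_top).hom.toAlgebra
    letI : Algebra k Γ(Spec (CommRingCat.of k), ⊤) := (Scheme.ΓSpecIso (CommRingCat.of k)).inv.hom.toAlgebra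
    haveI : IsScalarTower k Γ(Spec (CommRingCat.of k), ⊤) Γ(X, U) := IsScalarTower.of_algebraMap_eq' rfl
    have hs : Function.Surjective (algebraMap k Γ(Spec (CommRingCat.of k), ⊤)) :=
      (ConcreteCategory.bijective_of_isIso (Scheme.ΓSpecIso (CommRingCat.of k)).inv).2
    refine ⟨?_, ?_⟩
    · haveI : Algebra.FiniteType Γ(Spec (CommRingCat.of k), ⊤) Γ(X, U) := by
        rw [← RingHom.finiteType_algebraMap, RingHom.algebraMap_toAlgebra]
        exact HasRingHomProperty.appLE (P := @LocallyOfFiniteType) f inferInstance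
          ⟨⊤, isAffineOpen_top _⟩ ⟨U, hU⟩ le_top
      haveI : Algebra.FiniteType k Γ(Spec (CommRingCat.of k), ⊤) :=
        Algebra.FiniteType.of_surjective (Algebra.ofId _ _) hs
      exact Algebra.FiniteType.trans (S := Γ(Spec (CommRingCat.of k), ⊤)) inferInstance inferInstance
    · obtain ⟨l⟩ := Groth.Agent.Synt29.OmegaStalk.exists_linearEquiv_sections hd hU (isAffineOpen_top _) le_top
      obtain ⟨l'⟩ := exists_kaehler_equiv k Γ(Spec (CommRingCat.of k), ⊤) Γ(X, U) hs
      exact ⟨l.trans l'.symm⟩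
  have hft : CohB1.IsFT Ω := by
    refine Groth.Agent.QCoh.isFT_of_finite hqc (fun U : X.affineOpens => U.1) ?_ (fun U => U.2) fun U => ?_
    · exact top_le_iff.1 fun x _ => by
        obtain ⟨_, ⟨U, hU, rfl⟩, hxU, -⟩ := X.isBasis_affineOpens.exists_subset_of_mem_open (Set.mem_univ x) isOpen_univ
        exact Opens.mem_iSup.2 ⟨⟨U, hU⟩, hxU⟩
    · letI := al U.1
      obtain ⟨h1, ⟨l⟩⟩ := hall U.1 U.2
      exact Module.Finite.equiv l.symm
  have hkey : ∀ U : X.Opens, IsAffineOpen U → ∀ x ∈ U,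
      (∀ y ∈ U, IsRegularLocalRing (X.presheaf.stalk y)) ↔
        (∀ y ∈ U, Module.Free (X.presheaf.stalk y) (Ω.presheaf.stalk y) ∧
          Module.finrank (X.presheaf.stalk y) (Ω.presheaf.stalk y) = n) := by
    intro U hU x hx
    letI := al U
    obtain ⟨h1, ⟨l⟩⟩ := hall U hU
    haveI := h1
    obtain ⟨hirr, hdim⟩ := affine_facts k n f hn hU hx
    haveI : IsNoetherianRing Γ(X, U) := Algebra.FiniteType.isNoetherianRing k _
    haveI : Module.Finite Γ(X, U) Γ(Ω, U) := Groth.Agent.QCoh.finite_of_isFT hqc hft hU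
    have hrw : IsRegularRing Γ(X, U) ↔ ∀ y ∈ U, IsRegularLocalRing (X.presheaf.stalk y) := by
      rw [isRegularRing_iff]
      constructor
      · intro h y hy
        letI := Groth.Agent.QCoh.stalkAlg (X := X) hy
        haveI := Groth.Agent.QCoh.isLocalization_stalk' hU hy
        haveI := h (hU.primeIdealOf ⟨y, hy⟩).asIdeal
        exact IsRegularLocalRing.of_ringEquiv (IsLocalization.algEquiv (hU.primeIdealOf ⟨y, hy⟩).asIdeal.primeCompl
          (Localization.AtPrime (hU.primeIdealOf ⟨y, hy⟩).asIdeal) (X.presheaf.stalk y)).toRingEquiv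
      · intro h p hp
        obtain ⟨y, hy, e⟩ := Groth.Agent.QCoh.exists_point hU ⟨p, hp⟩
        obtain rfl : (hU.primeIdealOf ⟨y, hy⟩).asIdeal = p := congrArg PrimeSpectrum.asIdeal e
        letI := Groth.Agent.QCoh.stalkAlg (X := X) hy
        haveI := Groth.Agent.QCoh.isLocalization_stalk' hU hy
        haveI := h y hy
        exact IsRegularLocalRing.of_ringEquiv (IsLocalization.algEquiv (hU.primeIdealOf ⟨y, hy⟩).asIdeal.primeCompl
          (X.presheaf.stalk y) (Localization.AtPrime (hU.primeIdealOf ⟨y, hy⟩).asIdeal)).toRingEquiv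
    rw [← hrw]
    constructor
    · intro hreg
      obtain ⟨hproj, hrk⟩ := (Groth.Agent.S10909.result k Γ(X, U) hirr n hdim).1
        ⟨Groth.Agent.SmoothVarLib.isReduced_of_regular_maximal _ fun m _ =>
          IsRegularRing.isRegularLocalRing_localization m, hreg⟩
      haveI := hproj
      haveI : Module.Projective Γ(X, U) Γ(Ω, U) := Module.Projective.of_equiv l.symm
      intro y hy
      haveI := Groth.Agent.QCoh.finite_stalk_of_isFT hqc hft y
      haveI : Module.Flat (X.presheaf.stalk y) (Ω.presheaf.stalk y) :=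
        (Groth.Agent.QCoh.flat_sections_iff hqc hU).1 inferInstance y hy
      haveI : Module.FinitePresentation Γ(X, U) Γ(Ω, U) := Module.finitePresentation_of_finite _ _
      have hnoeth : IsNoetherianRing (X.presheaf.stalk y) := by
        letI := Groth.Agent.QCoh.stalkAlg (X := X) hy
        haveI := Groth.Agent.QCoh.isLocalization_stalk' hU hy
        exact IsLocalization.isNoetherianRing (hU.primeIdealOf ⟨y, hy⟩).asIdeal.primeCompl _ inferInstance
      haveI := hnoeth
      haveI : Module.FinitePresentation (X.presheaf.stalk y) (Ω.presheaf.stalk y) :=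
        Module.finitePresentation_of_finite _ _
      refine ⟨Module.free_of_flat_of_isLocalRing, ?_⟩
      rw [← Groth.Agent.QCoh.rankAtStalk_eq_finrank hqc hU hy, Module.rankAtStalk_eq_of_equiv l,
        ← Groth.Agent.SmoothVarLib.finrank_residueField_tensor Γ(X, U) (Ω[Γ(X, U)⁄k]) (hU.primeIdealOf ⟨y, hy⟩).asIdeal]
      exact hrk _
    · intro h
      haveI : Module.Flat Γ(X, U) Γ(Ω, U) := (Groth.Agent.QCoh.flat_sections_iff hqc hU).2 fun y hy => by
        haveI := (h y hy).1
        exact (inferInstance : Module.Flat (X.presheaf.stalk y) (Ω.presheaf.stalk y))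
      haveI : Module.Flat Γ(X, U) (Ω[Γ(X, U)⁄k]) := Module.Flat.of_linearEquiv l.symm
      haveI : Module.FinitePresentation Γ(X, U) (Ω[Γ(X, U)⁄k]) := Module.finitePresentation_of_finite _ _
      haveI : Module.Projective Γ(X, U) (Ω[Γ(X, U)⁄k]) := Module.projective_of_localization_maximal fun I _ => by
        haveI : Module.Flat (Localization.AtPrime I) (LocalizedModule I.primeCompl (Ω[Γ(X, U)⁄k])) := inferInstance
        haveI := Module.finitePresentation_of_finite (Localization.AtPrime I) (LocalizedModule I.primeCompl (Ω[Γ(X, U)⁄k]))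
        haveI : Module.Free (Localization.AtPrime I) (LocalizedModule I.primeCompl (Ω[Γ(X, U)⁄k])) := Module.free_of_flat_of_isLocalRing
        infer_instance
      refine ((Groth.Agent.S10909.result k Γ(X, U) hirr n hdim).2 ⟨inferInstance, fun P _ => ?_⟩).2
      obtain ⟨y, hy, e⟩ := Groth.Agent.QCoh.exists_point hU ⟨P, ‹_›⟩
      rw [Groth.Agent.SmoothVarLib.finrank_residueField_tensor Γ(X, U) (Ω[Γ(X, U)⁄k]) P, ← e,
        ← Module.rankAtStalk_eq_of_equiv l, Groth.Agent.QCoh.rankAtStalk_eq_finrank hqc hU hy]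
      exact (h y hy).2
  have hcover : ∀ x : X, ∃ U : X.Opens, IsAffineOpen U ∧ x ∈ U := fun x => by
    obtain ⟨_, ⟨U, hU, rfl⟩, hxU, -⟩ := X.isBasis_affineOpens.exists_subset_of_mem_open (Set.mem_univ x) isOpen_univ
    exact ⟨U, hU, hxU⟩
  constructor
  · intro h x
    obtain ⟨U, hU, hx⟩ := hcover x
    have hF : FlatMod.IsFinLocFree Ω := fun y => by obtain ⟨V, hV, e⟩ := h y; exact ⟨V, n, hV, e⟩
    refine (hkey U hU x hx).2 (fun y _ => ⟨Groth.Agent.QCoh.free_stalk_of_isFinLocFree hF y, ?_⟩) x hx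
    obtain ⟨V, hV, ⟨e⟩⟩ := h y
    obtain ⟨_, ⟨W, hW, rfl⟩, hyW, hle⟩ := X.isBasis_affineOpens.exists_subset_of_mem_open hV V.2
    obtain ⟨lW⟩ := Groth.Agent.QCoh.free_sections hW hle e
    exact Groth.Agent.QCoh.finrank_stalk_of_freeChart hW hqc lW hyW
  · intro h
    have hall' : ∀ y : X, Module.Free (X.presheaf.stalk y) (Ω.presheaf.stalk y) ∧
        Module.finrank (X.presheaf.stalk y) (Ω.presheaf.stalk y) = n := fun y => by
      obtain ⟨U, hU, hy⟩ := hcover y
      exact (hkey U hU y hy).1 (fun z _ => h z) y hy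
    have hF := Groth.Agent.QCoh.isFinLocFree_of_rank hqc hft (fun y => (hall' y).1) (by
      rw [funext fun y => (hall' y).2]; exact IsLocallyConstant.const n)
    intro x
    obtain ⟨U, m, hx, ⟨e⟩⟩ := hF x
    obtain ⟨_, ⟨W, hW, rfl⟩, hxW, hle⟩ := X.isBasis_affineOpens.exists_subset_of_mem_open hx U.2
    obtain ⟨lW⟩ := Groth.Agent.QCoh.free_sections hW hle e
    obtain rfl : m = n := (Groth.Agent.QCoh.finrank_stalk_of_freeChart hW hqc lW hxW).symm.trans (hall' x).2
    exact ⟨U, hx, ⟨e⟩⟩


end Groth.Agent.S12422
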