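import Groth.Statements.S3829
import Groth.Agent.Synt29.RegSmooth

set_option autoImplicit false
set_option linter.style.haveILetI false
universe u
open CategoryTheory CategoryTheory.Limits AlgebraicGeometry TopologicalSpace
open Unram17

namespace Groth.Agent.S3829

/-- c) implies a) (case of a closed immersion): let f : X → S and h : Y → S be locally of finite
presentation, j : Y → X a closed immersion over S and y a point of Y. If h is smooth on a
neighbourhood of y and, on some affine open neighbourhood of j(y) in X, the ideal of j is generated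
by a regular sequence (j is a regular immersion near y), then f is smooth on an open neighbourhood
of j(y). -/
theorem result {X Y S : Scheme.{u}} (f : X ⟶ S) (h : Y ⟶ S)
    [LocallyOfFinitePresentation f] [LocallyOfFinitePresentation h] (j : Y ⟶ X) [IsClosedImmersion j]
    (hj : j ≫ f = h) (y : ↥Y) (hy : ∃ V : Y.Opens, y ∈ V ∧ Smooth (V.ι ≫ h))
    (hreg : ∃ (U : X.Opens) (hU : IsAffineOpen U), j y ∈ U ∧
      ∃ rs : List Γ(X, U), RingTheory.Sequence.IsRegular Γ(X, U) rs ∧ j.ker.ideal ⟨U, hU⟩ = Ideal.ofList rs) :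
    ∃ U : X.Opens, j y ∈ U ∧ Smooth (U.ι ≫ f) := by
  obtain ⟨Vy, hyV, hsmV⟩ := hy
  obtain ⟨U, hU, hxU, rs, hreg, hker⟩ := hreg
  suffices hx : (f.stalkMap (j y)).hom.FormallySmooth by
    refine ⟨f.smoothLocus, hx, ?_⟩
    rw [← Scheme.Hom.smoothLocus_eq_top_iff, ← Scheme.Hom.preimage_smoothLocus_eq]
    exact Scheme.Opens.ι_preimage_self f.smoothLocus
  have hh : (h.stalkMap y).hom.FormallySmooth := by
    let w : (Vy : Scheme.{u}) := ⟨y, hyV⟩
    haveI : LocallyOfFinitePresentation (Vy.ι ≫ h) := inferInstance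
    have hw : w ∈ Vy.ι ⁻¹ᵁ h.smoothLocus := by
      rw [Scheme.Hom.preimage_smoothLocus_eq, Scheme.Hom.smoothLocus_eq_top]; trivial
    exact hw
  -- affine charts
  obtain ⟨_, ⟨V, hV, rfl⟩, hxV, -⟩ :=
    S.isBasis_affineOpens.exists_subset_of_mem_open (Set.mem_univ (f (j y))) isOpen_univ
  obtain ⟨r, hrle, hxr⟩ := hU.exists_basicOpen_le (V := f ⁻¹ᵁ V) ⟨j y, hxV⟩ hxU
  have hU' : IsAffineOpen (X.basicOpen r) := hU.basicOpen r
  have hfp := f.finitePresentation_appLE hV hU' hrle
  -- rings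
  let O := X.presheaf.stalk (j y)
  let Oy := Y.presheaf.stalk y
  let ψ := (j.stalkMap y).hom
  have hψ : Function.Surjective ψ := j.stalkMap_surjective y
  have hW : IsAffineOpen (j ⁻¹ᵁ U) := hU.preimage j
  letI : Algebra Γ(X, U) O := TopCat.Presheaf.algebra_section_stalk X.presheaf (U := U) ⟨j y, hxU⟩
  haveI : IsLocalization.AtPrime O (hU.primeIdealOf ⟨j y, hxU⟩).asIdeal := hU.isLocalization_stalk ⟨j y, hxU⟩
  letI : Algebra Γ(Y, j ⁻¹ᵁ U) Oy := TopCat.Presheaf.algebra_section_stalk Y.presheaf (U := j ⁻¹ᵁ U) ⟨y, hxU⟩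
  haveI : IsLocalization.AtPrime Oy (hW.primeIdealOf ⟨y, hxU⟩).asIdeal := hW.isLocalization_stalk ⟨y, hxU⟩
  have hsurjU : Function.Surjective (j.app U).hom := j.app_surjective U hU
  have hψapp : ∀ b, ψ (algebraMap Γ(X, U) O b) = algebraMap Γ(Y, j ⁻¹ᵁ U) Oy ((j.app U).hom b) := fun b =>
    Scheme.Hom.germ_stalkMap_apply j U y hxU b
  let g : List O := rs.map (algebraMap Γ(X, U) O)
  have hI : RingHom.ker (j.app U).hom = Ideal.ofList rs := by rw [← Scheme.Hom.ker_apply j ⟨U, hU⟩, hker]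
  have hkerψ : RingHom.ker ψ = Ideal.ofList g := by
    refine le_antisymm (fun z hz => ?_) (Ideal.span_le.2 ?_)
    · obtain ⟨b, t, rfl⟩ := IsLocalization.exists_mk'_eq (hU.primeIdealOf ⟨j y, hxU⟩).asIdeal.primeCompl z
      have hb : algebraMap Γ(X, U) O b = IsLocalization.mk' O b t * algebraMap Γ(X, U) O t :=
        (IsLocalization.mk'_spec O b t).symm
      have h0 : algebraMap Γ(Y, j ⁻¹ᵁ U) Oy ((j.app U).hom b) = 0 := by
        rw [← hψapp, hb, map_mul, show ψ (IsLocalization.mk' O b t) = 0 from hz, zero_mul]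
      rw [IsLocalization.map_eq_zero_iff (hW.primeIdealOf ⟨y, hxU⟩).asIdeal.primeCompl] at h0
      obtain ⟨⟨c, hc⟩, hcb⟩ := h0
      obtain ⟨c', rfl⟩ := hsurjU c
      have hc' : c' * b ∈ Ideal.ofList rs := by rw [← hI, RingHom.mem_ker, map_mul]; exact hcb
      have hu : IsUnit (algebraMap Γ(X, U) O c') := by
        refine IsUnit.of_map ψ _ ?_
        rw [hψapp]
        exact IsLocalization.map_units Oy (⟨(j.app U).hom c', hc⟩ : (hW.primeIdealOf ⟨y, hxU⟩).asIdeal.primeCompl)
      have h1 : algebraMap Γ(X, U) O (c' * b) ∈ Ideal.ofList g := by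
        rw [← Ideal.map_ofList]; exact Ideal.mem_map_of_mem _ hc'
      rw [map_mul, hb, ← mul_assoc, Ideal.mul_unit_mem_iff_mem _ (IsLocalization.map_units O t),
        Ideal.unit_mul_mem_iff_mem _ hu] at h1
      exact h1
    · rintro z hz
      obtain ⟨b, hb, rfl⟩ := List.mem_map.1 hz
      show ψ (algebraMap Γ(X, U) O b) = 0
      rw [hψapp, show (j.app U).hom b = 0 from
        (hI.symm ▸ Ideal.subset_span hb : b ∈ RingHom.ker (j.app U).hom), map_zero]
  -- structure over the base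
  let R := Γ(S, V)
  let A := Γ(X, X.basicOpen r)
  letI : Algebra R A := (f.appLE V (X.basicOpen r) hrle).hom.toAlgebra
  haveI : Algebra.FinitePresentation R A := RingHom.finitePresentation_algebraMap.1 hfp
  letI : Algebra A O := TopCat.Presheaf.algebra_section_stalk X.presheaf (U := X.basicOpen r) ⟨j y, hxr⟩
  haveI : IsLocalization.AtPrime O (hU'.primeIdealOf ⟨j y, hxr⟩).asIdeal := hU'.isLocalization_stalk ⟨j y, hxr⟩
  letI : Algebra R O := ((algebraMap A O).comp (algebraMap R A)).toAlgebra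
  haveI : IsScalarTower R A O := IsScalarTower.of_algebraMap_eq fun _ => rfl
  letI : Algebra O Oy := ψ.toAlgebra
  letI : Algebra R Oy := (ψ.comp (algebraMap R O)).toAlgebra
  haveI : IsScalarTower R O Oy := IsScalarTower.of_algebraMap_eq fun _ => rfl
  haveI hsy : Algebra.FormallySmooth R Oy := by
    subst hj
    have hyV' : (j ≫ f) y ∈ V := hxV
    letI : Algebra R (S.presheaf.stalk ((j ≫ f) y)) :=
      TopCat.Presheaf.algebra_section_stalk S.presheaf (U := V) ⟨(j ≫ f) y, hyV'⟩
    haveI : IsLocalization.AtPrime (S.presheaf.stalk ((j ≫ f) y)) (hV.primeIdealOf ⟨(j ≫ f) y, hyV'⟩).asIdeal :=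
      hV.isLocalization_stalk ⟨(j ≫ f) y, hyV'⟩
    haveI : Algebra.FormallyEtale R (S.presheaf.stalk ((j ≫ f) y)) :=
      Algebra.FormallyEtale.of_isLocalization (hV.primeIdealOf ⟨(j ≫ f) y, hyV'⟩).asIdeal.primeCompl
    letI : Algebra (S.presheaf.stalk ((j ≫ f) y)) Oy := ((j ≫ f).stalkMap y).hom.toAlgebra
    haveI : IsScalarTower R (S.presheaf.stalk ((j ≫ f) y)) Oy := IsScalarTower.of_algebraMap_eq fun c => by
      show ψ (X.presheaf.germ (X.basicOpen r) (j y) hxr ((f.appLE V (X.basicOpen r) hrle).hom c)) =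
        ((j ≫ f).stalkMap y).hom (S.presheaf.germ V ((j ≫ f) y) hyV' c)
      rw [Scheme.Hom.stalkMap_comp]
      show _ = ψ ((f.stalkMap (j y)).hom (S.presheaf.germ V (f (j y)) hxV c))
      congr 1
      rw [Scheme.Hom.germ_stalkMap_apply, Scheme.Hom.appLE, CommRingCat.hom_comp, RingHom.comp_apply,
        TopCat.Presheaf.germ_res_apply]
    haveI : Algebra.FormallySmooth (S.presheaf.stalk ((j ≫ f) y)) Oy := hh
    exact Algebra.FormallySmooth.comp R (S.presheaf.stalk ((j ≫ f) y)) Oy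
  -- the presentation
  obtain ⟨n, π, hπ, hπker⟩ := Algebra.FinitePresentation.out (R := R) (A := A)
  let M := (hU'.primeIdealOf ⟨j y, hxr⟩).asIdeal.comap π.toRingHom
  let P := Localization.AtPrime M
  let fP : P →ₐ[R] O := IsLocalization.liftAlgHom (M := M.primeCompl)
    (f := (IsScalarTower.toAlgHom R A O).comp π) fun x =>
      IsLocalization.map_units O (⟨π x.1, x.2⟩ : (hU'.primeIdealOf ⟨j y, hxr⟩).asIdeal.primeCompl)
  have hfPa : ∀ c, fP (algebraMap _ P c) = algebraMap A O (π c) := fun c => IsLocalization.lift_eq _ c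
  have hfP : Function.Surjective fP := by
    intro z
    obtain ⟨a, ⟨t, ht⟩, rfl⟩ := IsLocalization.exists_mk'_eq (hU'.primeIdealOf ⟨j y, hxr⟩).asIdeal.primeCompl z
    obtain ⟨a, rfl⟩ := hπ a
    obtain ⟨t, rfl⟩ := hπ t
    refine ⟨IsLocalization.mk' P a (⟨t, ht⟩ : M.primeCompl), ?_⟩
    rw [IsLocalization.eq_mk'_iff_mul_eq]
    show fP _ * algebraMap A O (π t) = _
    rw [← hfPa, ← map_mul, IsLocalization.mk'_spec, hfPa]
  have hkerP : (RingHom.ker fP).FG := by
    convert! hπker.map (algebraMap _ P)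
    refine le_antisymm ?_ (Ideal.map_le_iff_le_comap.mpr fun x hx => ?_)
    · intro x hx
      obtain ⟨x, s, rfl⟩ := IsLocalization.exists_mk'_eq M.primeCompl x
      have h0 : algebraMap A O (π x) = 0 := by
        rw [← hfPa, ← IsLocalization.mk'_spec P x s, map_mul, show fP (IsLocalization.mk' P x s) = 0 from hx, zero_mul]
      obtain ⟨⟨a, ha⟩, e⟩ := (IsLocalization.map_eq_zero_iff (hU'.primeIdealOf ⟨j y, hxr⟩).asIdeal.primeCompl O _).1 h0
      obtain ⟨a, rfl⟩ := hπ a
      rw [IsLocalization.mk'_mem_map_algebraMap_iff]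
      exact ⟨a, ha, by simpa using e⟩
    · show fP (algebraMap _ P x) = 0
      rw [hfPa, show π x = 0 from hx, map_zero]
  letI : Algebra P O := fP.toRingHom.toAlgebra
  haveI : IsScalarTower R P O := IsScalarTower.of_algebraMap_eq fun c => (fP.commutes c).symm
  haveI : Algebra.FormallyEtale (MvPolynomial (Fin n) R) P := .of_isLocalization M.primeCompl
  haveI : Algebra.FormallySmooth R P := .comp _ (MvPolynomial (Fin n) R) _
  haveI : Module.Free P (KaehlerDifferential R P) :=
    .of_equiv (KaehlerDifferential.tensorKaehlerEquivOfFormallyEtale R (MvPolynomial (Fin n) R) P)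
  have hmem : ∀ a ∈ g, a ∈ IsLocalRing.maximalIdeal O := fun a ha hu => by
    have : ψ a = 0 := (hkerψ.symm ▸ Ideal.subset_span ha : a ∈ RingHom.ker ψ)
    exact not_isUnit_zero (this ▸ hu.map ψ)
  haveI : Algebra.FormallySmooth R (O ⧸ Ideal.ofList g) := by
    let e : (O ⧸ RingHom.ker (IsScalarTower.toAlgHom R O Oy)) ≃ₐ[R] Oy :=
      Ideal.quotientKerAlgEquivOfSurjective (f := IsScalarTower.toAlgHom R O Oy) hψ
    exact Algebra.FormallySmooth.of_equiv
      (((Ideal.quotientEquivAlgOfEq R (show RingHom.ker (IsScalarTower.toAlgHom R O Oy) = Ideal.ofList g from hkerψ)).symm.trans e).symm)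
  haveI : Algebra.FormallySmooth R O :=
    Groth.Agent.Synt29.RegSmooth.formallySmooth_of_quotient hfP hkerP g
      (hreg.toIsWeaklyRegular.of_isLocalization O (hU.primeIdealOf ⟨j y, hxU⟩).asIdeal.primeCompl) hmem inferInstance
  rw [formallySmooth_stalkMap_iff V hV (X.basicOpen r) hU' hrle hxr]
  exact Algebra.FormallySmooth.of_equiv
    ((IsLocalization.algEquiv (hU'.primeIdealOf ⟨j y, hxr⟩).asIdeal.primeCompl
      (Localization.AtPrime (hU'.primeIdealOf ⟨j y, hxr⟩).asIdeal) O).symm.restrictScalars R)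

end Groth.Agent.S3829
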