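import Groth.Statements.S3789
import Groth.Agent.H28.PBFreeK
import Groth.Agent.H28.LineTwist
import Groth.Agent.H28.KvbPull
-- import your own Groth.Agent.* helpers here

set_option autoImplicit false
universe v u
open CategoryTheory CategoryTheory.Limits AlgebraicGeometry
attribute [local instance] HasDerivedCategory.standard
open KRR Groth.Agent Groth.Agent.H28

namespace Groth.Agent.S3789

/-- Let X be a connected Noetherian scheme, E finite locally free of rank r + 1, and (π : P ⟶ X, O(1),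
q) its projective bundle P(E), P connected Noetherian. With models of K(X), K(P), g = π^K and ℓ =
[O(1)]: the map (a_0, …, a_r) ↦ Σ_i π^K(a_i) ℓ^i from K(X)^{r+1} to K(P) is bijective, so that K(P)
= K(X)_e = K(X)[ℓ] with the relation of projectiveBundle_tautological_relation. -/
theorem result (X P : Scheme.{u}) [IsNoetherian X] [ConnectedSpace ↥X] [IsNoetherian P] [ConnectedSpace ↥P]
    (r : ℕ) (E : X.Modules) (hE : FlatMod.IsFinLocFreeOfRank (r + 1) E)
    (π : P ⟶ X) (O1 : P.Modules) (q : (Scheme.Modules.pullback π).obj E ⟶ O1) (hPB : KRR.IsProjBundle π E O1 q)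
    (KX : Type v) [CommRing KX] [LambdaRing.LambdaOps KX] (PX : LambdaRing.PosStructure KX) (φX : SGA6.Kvb X →+ KX) (hKX : KRR.IsModel X KX PX φX)
    (KP : Type v) [CommRing KP] [LambdaRing.LambdaOps KP] (PP : LambdaRing.PosStructure KP) (φP : SGA6.Kvb P →+ KP) (hKP : KRR.IsModel P KP PP φP)
    (g : KX →+ KP) (hg : KRR.IsPull π φX φP g) :
    Function.Bijective (fun a : Fin (r + 1) → KX => ∑ i : Fin (r + 1), g (a i) * φP (KRR.cl P O1) ^ (i : ℕ)) := by
  obtain ⟨Oinv, hO, hOO⟩ := H23.PicInv.exists_inverse (PBCores.isInvertible_iff_rank.2 hPB.invertible)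
  have hlO := KvbModel.lf_of_rank hPB.invertible
  have hli := KvbModel.lf_of_rank (PBCores.isInvertible_iff_rank.1 hO)
  obtain ⟨e⟩ := hOO
  obtain ⟨e'⟩ := H23.PicMul.comm Oinv O1
  have hinv : ClSub.IsInverseOf Oinv O1 := ⟨e' ≪≫ e⟩
  set u := φP (KRR.cl P Oinv) with hu
  set ℓ := φP (KRR.cl P O1) with hℓ
  have hlu : u * ℓ = 1 := by
    rw [hu, hℓ, hKP.map_mul _ _ hli hlO, ← hKP.map_one]
    exact congrArg φP (GenPush.cl_iso (e' ≪≫ e) (KFlatLib.isFinLocFree_tensor hli hlO) KvbLam.lf_O)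
  let φe : SGA6.Kvb P ≃+ KP := AddEquiv.ofBijective φP hKP.bijective
  let G : Fin (r + 1) → (SGA6.Kvb X →+ SGA6.Kvb P) := fun i =>
    φe.symm.toAddMonoidHom.comp ((AddMonoidHom.mulRight (u ^ (i : ℕ))).comp (g.comp φX))
  have hG : ∀ (i : Fin (r + 1)) (N : X.Modules), FlatMod.IsFinLocFree N →
      G i (KRR.cl X N) = KRR.cl P (CohB1.tensorMod (CohB1.tensorPow Oinv (i : ℕ)) ((Scheme.Modules.pullback π).obj N)) :=
    fun i N hN => by
    have hπN : FlatMod.IsFinLocFree ((Scheme.Modules.pullback π).obj N) := KvbPull.lf_pull π hN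
    have hp : FlatMod.IsFinLocFree (CohB1.tensorPow Oinv (i : ℕ)) :=
      LineTwist.lf_invertible (InvX.isInvertible_tensorPow hO _)
    show φe.symm (g (φX (KRR.cl X N)) * u ^ (i : ℕ)) = _
    rw [AddEquiv.symm_apply_eq, hg N hN, hu, ← LineTwist.cl_tensorPow hKP hO, mul_comm, hKP.map_mul _ _ hp hπN]
    rfl
  have hbij := PBFreeK.bijective (r + 1) hE hPB Oinv hinv G hG
  let eX : (Fin (r + 1) → KX) ≃ (Fin (r + 1) → SGA6.Kvb X) :=
    (Equiv.arrowCongr Fin.revPerm (AddEquiv.ofBijective φX hKX.bijective).toEquiv.symm)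
  have hunit : IsUnit (ℓ ^ r) := (IsUnit.of_mul_eq_one u (by rw [mul_comm]; exact hlu)).pow r
  have key : (fun a : Fin (r + 1) → KX => ∑ i : Fin (r + 1), g (a i) * ℓ ^ (i : ℕ)) =
      (fun y => ℓ ^ r * y) ∘ φe ∘ (fun x => ∑ i, G i (x i)) ∘ eX := by
    funext a
    show _ = ℓ ^ r * φe (∑ i, G i (eX a i))
    rw [map_sum, Finset.mul_sum, ← Equiv.sum_comp Fin.revPerm]
    refine Finset.sum_congr rfl fun i _ => ?_
    have h1 : φX (eX a i) = a (Fin.revPerm i) :=
      (AddEquiv.ofBijective φX hKX.bijective).apply_symm_apply _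
    show _ = ℓ ^ r * φe (φe.symm (g (φX (eX a i)) * u ^ (i : ℕ)))
    rw [AddEquiv.apply_symm_apply, h1]
    have hv : ((Fin.revPerm i : Fin (r + 1)) : ℕ) = r - (i : ℕ) := by simp [Fin.revPerm, Fin.rev]
    have hi : (i : ℕ) ≤ r := Nat.le_of_lt_succ i.isLt
    have hp : u ^ (i : ℕ) * ℓ ^ (i : ℕ) = 1 := by rw [← mul_pow, hlu, one_pow]
    rw [hv]
    conv_rhs => rw [show ℓ ^ r = ℓ ^ (r - (i : ℕ)) * ℓ ^ (i : ℕ) by rw [← pow_add]; congr 1; omega]
    linear_combination (-(g (a (Fin.revPerm i)) * ℓ ^ (r - (i : ℕ)))) * hp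
  rw [key]
  exact (Units.mulLeft_bijective hunit.unit).comp (φe.bijective.comp (hbij.comp eX.bijective))

end Groth.Agent.S3789
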