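import Groth.Statements.S4495
import Mathlib

set_option autoImplicit false
universe u
open FlatCx

namespace Groth.Agent.S4495

open CategoryTheory AlgebraicGeometry Opposite in
/-- A locally ringed space Z is connected, in the sense that it is not the disjoint union of two
nonempty open subsets (the empty space being allowed), if and only if every idempotent of the ring
of global sections Γ(Z, O_Z) is 0 or 1 (equivalently, Γ(Z, O_Z) is not isomorphic to a product of
two nonzero rings). -/
theorem result (Z : LocallyRingedSpace.{u}) :
    PreconnectedSpace Z ↔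
      ∀ e : Z.presheaf.obj (op ⊤), IsIdempotentElem e → e = 0 ∨ e = 1 := by
  classical
  constructor
  · intro hc e he
    have key : ∀ x : Z, Z.presheaf.germ ⊤ x trivial e = 0 ∨ Z.presheaf.germ ⊤ x trivial e = 1 := fun x =>
      (fun (a : Z.presheaf.stalk x) (ha : IsIdempotentElem a) => by
        rcases IsLocalRing.isUnit_or_isUnit_one_sub_self a with h | h
        · exact Or.inr (h.mul_left_cancel (by rw [ha.eq, mul_one]))
        · exact Or.inl (h.mul_left_cancel (b := a) (c := 0) (by rw [sub_mul, one_mul, ha.eq, sub_self, mul_zero]))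
        : ∀ a : Z.presheaf.stalk x, IsIdempotentElem a → a = 0 ∨ a = 1)
        _ (he.map (Z.presheaf.germ ⊤ x trivial).hom)
    let U := Z.toRingedSpace.basicOpen e
    let V := Z.toRingedSpace.basicOpen (1 - e)
    have hU : ∀ x, x ∈ U ↔ Z.presheaf.germ ⊤ x trivial e = 1 := fun x => by
      refine Z.toRingedSpace.mem_top_basicOpen e x |>.trans ⟨fun h => ?_, fun h => ?_⟩
      · rcases key x with h' | h'
        · exact absurd (h' ▸ h) not_isUnit_zero
        · exact h'
      · change IsUnit (Z.presheaf.germ ⊤ x trivial e)
        rw [h]; exact isUnit_one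
    have hV : ∀ x, x ∈ V ↔ Z.presheaf.germ ⊤ x trivial e = 0 := fun x => by
      refine Z.toRingedSpace.mem_top_basicOpen (1 - e) x |>.trans ⟨fun h => ?_, fun h => ?_⟩
      · rcases key x with h' | h'
        · exact h'
        · change IsUnit (Z.presheaf.germ ⊤ x trivial (1 - e)) at h
          rw [map_sub, map_one, h', sub_self] at h
          exact absurd h not_isUnit_zero
      · change IsUnit (Z.presheaf.germ ⊤ x trivial (1 - e))
        rw [map_sub, map_one, h, sub_zero]; exact isUnit_one
    have hUV : IsClopen (X := Z) U.1 := by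
      refine ⟨?_, U.isOpen⟩
      have : U.1ᶜ = V.1 := by
        ext x
        show x ∉ U ↔ x ∈ V
        rw [hU, hV]
        rcases key x with h | h <;> simp [h]
      exact isOpen_compl_iff.1 (this.symm ▸ V.isOpen)
    rcases isClopen_iff.1 hUV with h | h
    · left
      refine TopCat.Presheaf.section_ext Z.sheaf ⊤ _ _ fun x hx => ?_
      refine ((key x).resolve_right fun h1 => ?_).trans (map_zero (Z.presheaf.germ ⊤ x hx).hom).symm
      exact (Set.eq_empty_iff_forall_notMem.1 h x) ((hU x).2 h1)
    · right
      refine TopCat.Presheaf.section_ext Z.sheaf ⊤ _ _ fun x hx => ?_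
      exact ((hU x).1 (Set.eq_univ_iff_forall.1 h x)).trans (map_one (Z.presheaf.germ ⊤ x hx).hom).symm
  · intro h
    rw [preconnectedSpace_iff_clopen]
    intro s hs
    let U : Bool → TopologicalSpace.Opens Z := fun b => if b then ⟨s, hs.isOpen⟩ else ⟨sᶜ, hs.compl.isOpen⟩
    have hcov : (⊤ : TopologicalSpace.Opens Z) ≤ iSup U := fun x _ => TopologicalSpace.Opens.mem_iSup.mpr
      (if hx : x ∈ s then ⟨true, hx⟩ else ⟨false, hx⟩)
    have hdisj : ∀ i j, i ≠ j → U i ⊓ U j = ⊥ := by
      intro i j hij
      ext x
      cases i <;> cases j <;> simp_all [U]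
    let sf : ∀ b, Z.presheaf.obj (Opposite.op (U b)) := fun b => if b then 1 else 0
    obtain ⟨e, he, -⟩ := Z.sheaf.existsUnique_gluing' U ⊤ (fun b => homOfLE le_top) hcov sf (fun i j => by
      by_cases hij : i = j
      · subst hij; rfl
      · have : Subsingleton (Z.sheaf.1.obj (Opposite.op (U i ⊓ U j))) := by
          rw [hdisj i j hij]
          exact CommRingCat.subsingleton_of_isTerminal Z.sheaf.isTerminalOfEmpty
        exact Subsingleton.elim (α := Z.sheaf.1.obj (Opposite.op (U i ⊓ U j))) _ _)
    have hidem : IsIdempotentElem e := by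
      refine Z.sheaf.eq_of_locally_eq' U ⊤ (fun b => homOfLE le_top) hcov (e * e) e fun b => ?_
      refine (map_mul (Z.presheaf.map (homOfLE le_top).op).hom e e).trans ?_
      refine (congrArg₂ (· * ·) (he b) (he b)).trans (Eq.trans ?_ (he b).symm)
      cases b
      · exact MulZeroClass.mul_zero (0 : Z.presheaf.obj (Opposite.op (U false)))
      · exact _root_.mul_one (1 : Z.presheaf.obj (Opposite.op (U true)))
    have empty_of : ∀ b, (0 : Z.presheaf.obj (Opposite.op (U b))) = 1 → U b = ⊥ := by
      intro b hb
      ext x
      refine ⟨fun hx => ?_, False.elim⟩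
      have h1 := congrArg (Z.presheaf.germ (U b) x hx) hb
      rw [map_zero, map_one] at h1
      exact absurd h1 zero_ne_one
    rcases h e hidem with rfl | rfl
    · left
      have : U true = ⊥ := empty_of true ((map_zero _).symm.trans (he true))
      exact congrArg SetLike.coe this
    · right
      have : U false = ⊥ := empty_of false ((he false).symm.trans (map_one _))
      have h2 : sᶜ = (∅ : Set Z) := congrArg SetLike.coe this
      simpa using congrArg compl h2

end Groth.Agent.S4495
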