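import Groth.Statements.S9750
import Groth.Agent.MorLib.FormallyEtaleHom
import Groth.Agent.OmegaUniv.Restrict
import Groth.Agent.QCoh.ClosedPush
import Groth.Agent.QCoh.Tilde
import Groth.Agent.QCoh.VanIdeal
import Groth.Agent.QCoh.Qcqs
import Groth.Agent.PnCoh.Unit
import Groth.Agent.OmegaLib.IdealMod
-- import your own Groth.Agent.* helpers here

set_option autoImplicit false
set_option backward.isDefEq.respectTransparency false
set_option backward.isDefEq.respectTransparency.types false
universe u
open FlatMor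

namespace Groth.Agent.S9750

open AlgebraicGeometry CategoryTheory Limits in
theorem isFirstOrderThickening_id (X : Scheme.{u}) : MoreMor.IsFirstOrderThickening (𝟙 X) := by
  refine ⟨⟨inferInstance, ⟨fun x => ⟨x, rfl⟩⟩⟩, ?_⟩
  refine Scheme.IdealSheafData.ext (funext fun U => ?_)
  have h : (𝟙 X : X ⟶ X).ker.ideal U = ⊥ := by
    rw [Scheme.Hom.ker_apply, RingHom.ker_eq_bot_iff_eq_zero]
    intro a ha
    exact ha
  simp only [Scheme.IdealSheafData.ideal_mul, Pi.mul_apply, Scheme.IdealSheafData.ideal_bot,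
    Pi.bot_apply, h, Ideal.bot_mul]

open AlgebraicGeometry CategoryTheory Limits in
theorem isFormallyEtaleHom_of_univ {X X' S : Scheme.{u}} (f : X ⟶ S) (i : X ⟶ X') (h' : X' ⟶ S)
    [IsIso i] (hu : OmegaSh.IsUnivThickening f i h') : MoreMor.IsFormallyEtaleHom f := by
  intro A _ I hI a b w
  obtain ⟨a', ⟨h1, h2⟩, hun⟩ :=
    hu.2.2 _ _ _ b a (Groth.Agent.MorLib.isFirstOrderThickening_quotientMk A I hI) w
  have hinv : inv i ≫ f = h' := by rw [IsIso.inv_comp_eq]; exact hu.2.1.symm
  refine ⟨a' ≫ inv i, ⟨?_, ?_⟩, fun l ⟨hl1, hl2⟩ => ?_⟩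
  · rw [← Category.assoc, h1, Category.assoc, IsIso.hom_inv_id, Category.comp_id]
  · rw [Category.assoc, hinv, h2]
  · rw [← hun (l ≫ i) ⟨by rw [← Category.assoc, hl1], by rw [Category.assoc, hu.2.1, hl2]⟩,
      Category.assoc, IsIso.hom_inv_id, Category.comp_id]

open AlgebraicGeometry CategoryTheory Limits in
theorem isIso_of_univ {X X' S : Scheme.{u}} (f : X ⟶ S) (i : X ⟶ X') (h' : X' ⟶ S)
    (hu : OmegaSh.IsUnivThickening f i h') (hf : MoreMor.IsFormallyEtaleHom f) : IsIso i := by
  obtain ⟨r, hr1, hr2⟩ := (Groth.Agent.MorLib.existsUnique_lift_of_isFirstOrderThickening hf i hu.1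
    (𝟙 X) h' (by rw [Category.id_comp, hu.2.1])).exists
  refine ⟨r, hr1, (hu.2.2 X X' i h' (𝟙 X) hu.1 (by rw [Category.id_comp, hu.2.1])).unique
    ⟨?_, ?_⟩ ⟨?_, ?_⟩⟩
  · rw [← Category.assoc, hr1]
  · rw [Category.assoc, hu.2.1, hr2]
  · rw [Category.comp_id, Category.id_comp]
  · rw [Category.id_comp]

open AlgebraicGeometry CategoryTheory Limits in
theorem isZero_conormal_of_isIso {X X' : Scheme.{u}} (i : X ⟶ X') [IsIso i] :
    IsZero (Omega.conormal i) := by
  refine Functor.map_isZero (Scheme.Modules.pullback i) ?_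
  rw [IsZero.iff_id_eq_zero]
  apply Scheme.Modules.hom_ext
  intro W
  ext k
  show k = 0
  refine Groth.Agent.OmegaLib.idealSect_injective i.ker W ?_
  have h := Groth.Agent.OmegaUniv.app_idealSect i W k
  have h2 : OmegaSh.idealSect i.ker W k = 0 :=
    (ConcreteCategory.bijective_of_isIso (i.app W)).1 (h.trans (map_zero _).symm)
  rw [h2]
  exact (map_zero (OmegaSh.idealSect i.ker W)).symm

open AlgebraicGeometry CategoryTheory Limits in
theorem isIso_of_isZero_conormal {X X' : Scheme.{u}} (i : X ⟶ X')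
    (hi : MoreMor.IsFirstOrderThickening i) (hz : IsZero (Omega.conormal i)) : IsIso i := by
  haveI := hi.1.1
  suffices h : i.ker = ⊥ by
    have : IsIso i.imageι := (Scheme.isIso_subschemeι_iff_eq_bot _).2 h
    rw [← i.toImage_imageι]
    infer_instance
  refine Scheme.IdealSheafData.ext (funext fun W => eq_bot_iff.mpr fun a ha => ?_)
  rw [Scheme.Hom.ker_apply] at ha
  obtain ⟨k, rfl⟩ := Groth.Agent.OmegaUniv.exists_idealSect_of_app_eq_zero i W.1 a ha
  have h0 : ((Scheme.Modules.pullbackPushforwardAdjunction i).unit.app (ClSub.idealMod i.ker)).app W.1 k = 0 := by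
    have h := congrArg (fun φ => φ.app (i ⁻¹ᵁ W.1) (((Scheme.Modules.pullbackPushforwardAdjunction i).unit.app (ClSub.idealMod i.ker)).app W.1 k))
      ((IsZero.iff_id_eq_zero _).mp hz)
    simpa using h
  have hq : Coh.IsQCoh (ClSub.idealMod i.ker) :=
    Groth.Agent.QCoh.isQCoh_kernel (Groth.Agent.PnCoh.isQCoh_structureModule X')
      (Groth.Agent.QCoh.isQCoh_pushforward i.ker.subschemeι (Groth.Agent.PnCoh.isQCoh_structureModule _)) _
  have hk := ((Groth.Agent.QCoh.unit_app_closed i hq W.2).2 k).mp h0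
  rw [Scheme.Hom.ker_apply i W] at hk
  have key : ∀ m : Γ(ClSub.idealMod i.ker, W.1), m ∈ RingHom.ker (i.app W.1).hom •
      (⊤ : Submodule Γ(X', W.1) (Γ(ClSub.idealMod i.ker, W.1))) →
      OmegaSh.idealSect i.ker W.1 m ∈ (i.ker * i.ker).ideal W := by
    intro m hm
    refine Submodule.smul_induction_on hm (fun r hr n _ => ?_) (fun x y hx hy => ?_)
    · rw [Groth.Agent.OmegaLib.idealSect_smul, Scheme.IdealSheafData.ideal_mul, Pi.mul_apply,
        Scheme.Hom.ker_apply]
      exact Ideal.mul_mem_mul hr (Groth.Agent.OmegaUniv.app_idealSect i W.1 n)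
    · rw [map_add]
      exact Ideal.add_mem _ hx hy
  have h2 := key k hk
  rw [hi.2] at h2
  exact h2

open AlgebraicGeometry CategoryTheory Limits in
/-- (1) ⇔ (2) ⇔ (3): a morphism f : X ⟶ S is formally étale (unique infinitesimal lifting against
square-zero thickenings of affine schemes) if and only if f is formally unramified and X, through
the identity and f, is its own universal square-zero (first order) thickening relative to f; and,
for f formally unramified with universal first order thickening data (i : X ⟶ X', h' : X' ⟶ S), f is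
formally étale if and only if the conormal sheaf of i (the conormal sheaf of f) is zero. The
published statement also lists a fourth equivalent condition, the vanishing of both the sheaf of
differentials and the conormal sheaf; this row omits it. -/
theorem result {X S : Scheme.{u}} (f : X ⟶ S) :
    (MoreMor.IsFormallyEtaleHom f ↔ FormallyUnramified f ∧ OmegaSh.IsUnivThickening f (𝟙 X) f) ∧
    (∀ {X' : Scheme.{u}} (i : X ⟶ X') (h' : X' ⟶ S) [QuasiCompact i], FormallyUnramified f →
      OmegaSh.IsUnivThickening f i h' → (MoreMor.IsFormallyEtaleHom f ↔ IsZero (Omega.conormal i))) := by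
  refine ⟨⟨fun hf => ⟨?_, isFirstOrderThickening_id X, Category.id_comp f, ?_⟩, fun h =>
    isFormallyEtaleHom_of_univ f (𝟙 X) f h.2⟩, fun {X'} i h' _ _ hu => ⟨fun hf => ?_, fun hz => ?_⟩⟩
  · rw [formallyUnramified_iff]
    intro U hU V hV e
    have := (Groth.Agent.MorLib.isFormallyEtaleHom_iff_appLE f).mp hf V U hV hU e
    letI := (f.appLE U V e).hom.toAlgebra
    show Algebra.FormallyUnramified Γ(S, U) Γ(X, V)
    infer_instance
  · intro T T' j b a hj w
    simpa using Groth.Agent.MorLib.existsUnique_lift_of_isFirstOrderThickening hf j hj a b w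
  · haveI := isIso_of_univ f i h' hu hf
    exact isZero_conormal_of_isIso i
  · haveI := isIso_of_isZero_conormal i hu.1 hz
    exact isFormallyEtaleHom_of_univ f i h' hu

end Groth.Agent.S9750
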