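import Groth.Statements.S10945
import Groth.Agent.InvX.GenEpi

set_option autoImplicit false
universe u
open CategoryTheory AlgebraicGeometry Opposite
open Coherent
open CategoryTheory.Limits

set_option backward.isDefEq.respectTransparency false
set_option backward.isDefEq.respectTransparency.types false

namespace Groth.Agent.S10945

theorem hom_ext_top {X : Scheme.{u}} {L : X.Modules} {s t : Coh.structureModule X ⟶ L}
    (h : Groth.Agent.InvX.one s = Groth.Agent.InvX.one t) : s = t := by
  refine Scheme.Modules.hom_ext _ _ fun W => ?_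
  ext r
  exact (Groth.Agent.InvX.app_eq_smul s r).trans
    ((congrArg (fun z => (show Γ(X, W) from r) • Groth.Agent.AModX.res L (le_top : W ≤ ⊤) z) h).trans (Groth.Agent.InvX.app_eq_smul t r).symm)

/-- Let X be a scheme and 0 → F' → F → F'' → 0 a short exact sequence of O_X-modules whose map on global
sections Γ(X, F) → Γ(X, F'') is surjective. If F' and F'' are generated by global sections (each is
a quotient of a free O_X-module), then F is generated by global sections. -/
theorem result (X : Scheme.{u})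
    (S : ShortComplex X.Modules) (hS : S.ShortExact)
    (hsurj : Function.Surjective (S.g.val.app (op ⊤)).hom)
    (h1 : Curv2.IsGloballyGenerated S.X₁) (h3 : Curv2.IsGloballyGenerated S.X₃) :
    Curv2.IsGloballyGenerated S.X₂ := by
  obtain ⟨ι₁, p₁, hp₁⟩ := h1
  obtain ⟨ι₃, p₃, hp₃⟩ := h3
  haveI := hS.mono_f
  haveI := hS.epi_g
  have hl : ∀ j : ι₃, ∃ q : Coh.structureModule X ⟶ S.X₂, q ≫ S.g = SheafOfModules.ιFree j ≫ p₃ := fun j => by
    obtain ⟨t, ht⟩ := hsurj (Groth.Agent.InvX.one (SheafOfModules.ιFree j ≫ p₃))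
    refine ⟨Groth.Agent.InvX.ofSect t, ?_⟩
    exact hom_ext_top ((congrArg (fun z => (S.g.val.app (op ⊤)).hom z) (Groth.Agent.InvX.one_ofSect t)).trans ht)
  choose q hq using hl
  let v : ι₁ ⊕ ι₃ → (Coh.structureModule X ⟶ S.X₂) := fun k => k.elim (fun i => SheafOfModules.ιFree i ≫ p₁ ≫ S.f) q
  refine ⟨ι₁ ⊕ ι₃, Sigma.desc v, ⟨fun {W} a b hab => ?_⟩⟩
  have h : ∀ k, v k ≫ a = v k ≫ b := fun k => by
    have := congrArg (fun z => Sigma.ι (fun _ : ι₁ ⊕ ι₃ => Coh.structureModule X) k ≫ z) hab
    exact (congrArg (fun z => z ≫ a) (Sigma.ι_desc v k)).symm.trans (((Category.assoc _ _ _).trans this).trans ((Category.assoc _ _ _).symm.trans (congrArg (fun z => z ≫ b) (Sigma.ι_desc v k))))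
  have hf : S.f ≫ (a - b) = 0 := by
    refine (cancel_epi p₁).1 ?_
    rw [comp_zero]
    refine Sigma.hom_ext _ _ fun i => ?_
    rw [comp_zero, Preadditive.comp_sub, Preadditive.comp_sub, Preadditive.comp_sub, sub_eq_zero]
    exact ((Category.assoc _ _ _).trans (congrArg (fun z => SheafOfModules.ιFree i ≫ z) (Category.assoc _ _ _))).symm.trans ((h (Sum.inl i)).trans ((Category.assoc _ _ _).trans (congrArg (fun z => SheafOfModules.ιFree i ≫ z) (Category.assoc _ _ _))))
  obtain ⟨c, hc⟩ := CokernelCofork.IsColimit.desc' hS.gIsCokernel (a - b) hf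
  have hc0 : c = 0 := by
    refine (cancel_epi p₃).1 ?_
    rw [comp_zero]
    refine Sigma.hom_ext _ _ fun j => ?_
    rw [comp_zero]
    refine (Category.assoc _ _ _).symm.trans ?_
    refine (congrArg (fun z => z ≫ c) (hq j).symm).trans ?_
    refine (Category.assoc _ _ _).trans ((congrArg (fun z => q j ≫ z) hc).trans ?_)
    rw [Preadditive.comp_sub, sub_eq_zero]
    exact h (Sum.inr j)
  rw [← sub_eq_zero, ← hc, hc0]
  exact comp_zero

end Groth.Agent.S10945
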