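import Groth.Statements.S0611
import Groth.Agent.LinType.QReg

set_option autoImplicit false
universe u
open RRAlg

namespace Groth.Agent.S0611

/-- In a Noetherian local ring, any minimal generating set of an ideal generated by a regular sequence
is again a regular sequence: if a₁, …, aₙ is a regular sequence and b₁, …, bₙ are n elements
generating the same ideal, then b₁, …, bₙ is a regular sequence. (A regular sequence of length n
generating an ideal I is a minimal generating set of I, so "minimal" amounts to "of length n".) -/
theorem result {A : Type u} [CommRing A] [IsLocalRing A] [IsNoetherianRing A]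
    {n : ℕ} (a b : Fin n → A) (ha : RingTheory.Sequence.IsRegular A (List.ofFn a))
    (hab : Ideal.span (Set.range a) = Ideal.span (Set.range b)) :
    RingTheory.Sequence.IsRegular A (List.ofFn b) := by
  have hq : CAlgX.IsQuasiRegular a := fun k P hP h d => LinType.quasiRegular a ha.toIsWeaklyRegular hP h d
  have hq' := LinType.isQuasiRegular_of_span_eq a b hq hab.symm
  have hne : Ideal.span (Set.range a) ≠ ⊤ := fun htop => ha.top_ne_smul (by
    have e : Ideal.ofList (List.ofFn a) = Ideal.span (Set.range a) := by
      rw [Ideal.ofList]
      congr 1
      ext y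
      simp [List.mem_ofFn]
    rw [e, htop, smul_eq_mul, Ideal.top_mul])
  refine ⟨LinType.isWeaklyRegular_of_isQuasiRegular n A b (fun i => ?_) hq', fun htop => hne ?_⟩
  · rw [IsLocalRing.ringJacobson_eq_maximalIdeal]
    exact IsLocalRing.le_maximalIdeal hne (hab.symm ▸ Ideal.subset_span ⟨i, rfl⟩)
  · have e : Ideal.ofList (List.ofFn b) = Ideal.span (Set.range b) := by
      rw [Ideal.ofList]
      congr 1
      ext y
      simp [List.mem_ofFn]
    rw [e, ← hab, smul_eq_mul, Ideal.mul_top] at htop
    exact htop.symm

end Groth.Agent.S0611
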