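import Groth.Statements.S5018
import Groth.Agent.Synt29.OmegaAffine
import Groth.Agent.QCoh.LocFree
import Groth.Agent.MorLib.FormallyEtaleHom
import Mathlib

set_option autoImplicit false
universe u
open CategoryTheory CategoryTheory.Limits AlgebraicGeometry TopologicalSpace
open Unram17

namespace Groth.Agent.S5018

/-- Let f : X ⟶ Y be formally smooth and locally of finite type, and let (Ω', d) be a sheaf of
differentials of X over Y, i.e. d a universal Y-derivation of O_X into Ω'. Then Ω' is finite locally
free. (The published statement also shows that the sheaf of differentials is locally projective for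
every formally smooth f; this row states only the case of f locally of finite type.) -/
theorem result {X Y : Scheme.{u}} (f : X ⟶ Y)
    (hf : MoreMor.IsFormallySmoothHom f) [LocallyOfFiniteType f]
    (Ω' : X.Modules) (d : OmegaSh.Der f Ω') (hd : OmegaSh.IsUniversal d) :
    FlatMod.IsFinLocFree Ω' := by
  
  have hM := Groth.Agent.Synt29.OmegaStalk.isQCoh_of_isUniversal hd
  choose U hU V hV hxU e using Groth.Agent.Synt29.OmegaStalk.exists_charts f
  have key : ∀ x, Module.FinitePresentation Γ(X, U x) Γ(Ω', U x) ∧ Module.Flat Γ(X, U x) Γ(Ω', U x) := by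
    intro x
    let _ := (f.appLE (V x) (U x) (e x)).hom.toAlgebra
    have : Algebra.FiniteType Γ(Y, V x) Γ(X, U x) := f.finiteType_appLE (hV x) (hU x) (e x)
    have : Algebra.FormallySmooth Γ(Y, V x) Γ(X, U x) :=
      Groth.Agent.MorLib.formallySmooth_of_isFormallySmoothHom_SpecMap _
        (Groth.Agent.MorLib.isFormallySmoothHom_of_square
          ((hV x).SpecMap_appLE_fromSpec f (hU x) (e x)) hf)
    obtain ⟨l⟩ := Groth.Agent.Synt29.OmegaStalk.exists_linearEquiv_sections hd (hU x) (hV x) (e x)
    exact ⟨Module.FinitePresentation.of_equiv l.symm, Module.Flat.of_linearEquiv l⟩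
  refine Groth.Agent.QCoh.isFlat_and_isFP_iff.mp ⟨fun x => ?_, ?_⟩
  · exact (Groth.Agent.QCoh.flat_sections_iff hM (hU x)).mp (key x).2 x (hxU x)
  · exact Groth.Agent.QCoh.isFP_of_finitePresentation hM U
      (eq_top_iff.mpr fun x _ => TopologicalSpace.Opens.mem_iSup.mpr ⟨x, hxU x⟩) hU fun x => (key x).1

end Groth.Agent.S5018
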