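import Groth.Statements.S13630
import Groth.Agent.Lib.SmoothAdapted
import Groth.Agent.BigOpen.Ddual
import Groth.Agent.CurveFin.RelDim
import Groth.Agent.FBaseLib.Basic
import Groth.Agent.S5018
import Groth.Agent.S1488
import Groth.Agent.OmegaUniv.Unram
import Groth.Agent.S15539
import Groth.Agent.H28.ExtSh
import Groth.Agent.H23.PicInv
import Groth.Agent.EtFound.Descent
import Groth.Agent.FibDim.BaseField
import Groth.Agent.AmpleDesc5.Proper

set_option autoImplicit false
set_option maxHeartbeats 1000000
set_option synthInstance.maxHeartbeats 400000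
set_option backward.isDefEq.respectTransparency false
set_option backward.isDefEq.respectTransparency.types false
universe u
open CategoryTheory CategoryTheory.Limits AlgebraicGeometry Opposite
open FBase

namespace Groth.Agent.S13630

open scoped Groth.Agent.H23.PicMul

theorem isInvertible_top {X S : Scheme.{u}} (f : X ⟶ S) [QuasiSeparated f] (n : ℕ) [SmoothOfRelativeDimension n f]
    {L : X.Modules} (hL : ExtPow.IsExtPow n (Omega.sheaf f) L) : PicF.IsInvertible L :=
  InvX.isInvertible_of_frames fun x => by
    obtain ⟨U, hU, V, -, -, hxU, s, hs⟩ := SmoothAdapted.exists_frame_omega f n x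
    obtain ⟨i⟩ := H23.Frame.exists_iso_of_frame s hs
    obtain ⟨W, t, hxW, ht⟩ := BigOpen.exists_frame (OmegaUniv.isQCoh_omega f) hL
      (fun z => ⟨⊤, trivial, ⟨(Scheme.Modules.restrictFunctor _).mapIso i ≪≫ QCoh.freeModRestrict _ n⟩⟩) hxU
    exact ⟨W, hxW, t, ht⟩

theorem isFinLocFree_omega {X S : Scheme.{u}} (f : X ⟶ S) [Smooth f] [QuasiSeparated f] :
    FlatMod.IsFinLocFree (Omega.sheaf f) :=
  S5018.result f ((S1488.result _).1 inferInstance).2 _ _ (OmegaUniv.isUniversal_dOmega _)

/-- Say that a morphism of schemes p : S → T is a family of del Pezzo surfaces when p is proper and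
smooth (hence of finite presentation) and for every algebraically closed field k and every morphism
Spec k → T the fibre S_k = S ×_T Spec k is an integral scheme of Krull dimension 2 whose
anti-canonical sheaf is ample — there are a second exterior power ω of the sheaf of differentials of
S_k → Spec k and a tensor inverse D of ω with D ample. This property descends along flat,
surjective, quasi-compact morphisms: if T' → T is such a morphism and the base change S ×_T T' → T'
is a family of del Pezzo surfaces, then so is p. (Stated for a single quasi-compact faithfully flat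
base change; together with Zariski-locality on T this is locality for the fpqc topology. Fields are
taken in the universe of the schemes. The published statement is that families of del Pezzo surfaces
form a stack for the étale topology; this row is the locality of the family condition that its proof
establishes.) -/
theorem result :
    MorphismProperty.DescendsAlong
      (fun ⦃S T : Scheme.{u}⦄ (p : S ⟶ T) =>
        IsProper p ∧ Smooth p ∧
          ∀ (k : Type u) [Field k] [IsAlgClosed k] (σ : Spec (CommRingCat.of k) ⟶ T),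
            IsIntegral (pullback p σ) ∧ topologicalKrullDim ↥(pullback p σ) = 2 ∧
              ∃ ω D : (pullback p σ).Modules, Canon.IsTopDiff (pullback.snd p σ) 2 ω ∧
                ClSub.IsInverseOf D ω ∧ CohB1.IsAmple D)
      (@Surjective ⊓ @Flat ⊓ @QuasiCompact : MorphismProperty Scheme.{u}) := by
  refine ⟨@fun A X Y Z fst snd f g sq hf hP => ?_⟩
  obtain ⟨⟨hfs, hff⟩, hfq⟩ := hf
  haveI := hfs; haveI := hff; haveI := hfq
  obtain ⟨hprop, hsm, hfib⟩ := hP
  haveI : IsProper g := (EtFound.fpqc_isProper).of_isPullback sq ⟨⟨hfs, hff⟩, hfq⟩ hprop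
  haveI : Smooth g := MorphismProperty.of_isPullback_of_descendsAlong (P := @Smooth)
    (Q := (@Surjective ⊓ @Flat ⊓ @QuasiCompact : MorphismProperty Scheme.{u})) sq ⟨⟨hfs, hff⟩, hfq⟩ hsm
  refine ⟨inferInstance, inferInstance, fun k _ _ σ => ?_⟩
  haveI : Surjective (pullback.fst σ f) := MorphismProperty.pullback_fst _ _ inferInstance
  obtain ⟨w, -⟩ := (pullback.fst σ f).surjective (IsLocalRing.closedPoint k)
  let L : Type u := AlgebraicClosure ((pullback σ f).residueField w)
  let a : Spec (CommRingCat.of L) ⟶ pullback σ f :=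
    Spec.map (CommRingCat.ofHom (algebraMap ((pullback σ f).residueField w) L)) ≫ (pullback σ f).fromSpecResidueField w
  obtain ⟨φ, hφ⟩ := Spec.map_surjective (a ≫ pullback.fst σ f)
  let t : Spec (CommRingCat.of L) ⟶ X := a ≫ pullback.snd σ f
  have hst : t ≫ f = Spec.map φ ≫ σ := by rw [hφ]; simp only [t, Category.assoc, pullback.condition]
  haveI : Flat (Spec.map φ) := GrpSchLib.flat_spec_map_field φ.hom
  haveI : Surjective (Spec.map φ) := GrpSchLib.surjective_spec_map_field φ.hom
  obtain ⟨hint, hdim, ω', D', hω', hD', hamp⟩ := hfib L t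
  have big : IsPullback (pullback.fst fst t ≫ snd) (pullback.snd fst t) g (Spec.map φ ≫ σ) :=
    hst ▸ (IsPullback.of_hasPullback fst t).paste_horiz sq.flip
  let qk := pullback.snd g σ
  have h0 : IsPullback (pullback.fst g σ) qk g σ := IsPullback.of_hasPullback g σ
  let e : pullback fst t ⟶ pullback g σ := h0.lift (pullback.fst fst t ≫ snd) (pullback.snd fst t ≫ Spec.map φ)
    (by rw [big.w, Category.assoc])
  have he : IsPullback e (pullback.snd fst t) qk (Spec.map φ) :=
    IsPullback.of_right (by rw [h0.lift_fst]; exact big) (h0.lift_snd _ _ _) h0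
  haveI : Flat e := MorphismProperty.of_isPullback (P := (@Flat : MorphismProperty Scheme.{u})) he.flip inferInstance
  haveI : Surjective e := MorphismProperty.of_isPullback (P := (@Surjective : MorphismProperty Scheme.{u})) he.flip inferInstance
  haveI := hint
  haveI := FBaseLib.isReduced_of_flat_surjective e
  haveI := FBaseLib.irreducibleSpace_of_surjective e
  haveI : IsIntegral (pullback g σ) := isIntegral_of_irreducibleSpace_of_isReduced _
  haveI : IsProper qk := inferInstance
  haveI : Smooth qk := inferInstance
  haveI : IsProper (pullback.snd fst t) := MorphismProperty.of_isPullback he inferInstance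
  haveI : Smooth (pullback.snd fst t) := MorphismProperty.of_isPullback he inferInstance
  have hdk : topologicalKrullDim ↥(pullback g σ) = 2 :=
    (FibDim.topologicalKrullDim_baseChange he).symm.trans hdim
  haveI : SmoothOfRelativeDimension 2 qk := CurveFin.smoothOfRelativeDimension_of_dim qk hdk
  obtain ⟨ω, -, hω⟩ := H28.ExtSh.exists_extPow 2 (isFinLocFree_omega qk)
  have hωi : PicF.IsInvertible ω := isInvertible_top qk 2 hω
  obtain ⟨D, hD, ⟨eD⟩⟩ := H23.PicInv.exists_inverse hωi
  obtain ⟨c⟩ := H23.PicMul.comm D ω
  refine ⟨inferInstance, hdk, ω, D, hω, ⟨c ≪≫ eD⟩, ?_⟩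
  obtain ⟨eω⟩ := H28.ExtSh.nonempty_iso (m := 2) (isFinLocFree_omega (pullback.snd fst t))
    hω' (S15539.result _ _ _ _ qk _ e _ he 2 ω hω)
  have h1 : PicF.cl D' * PicF.cl ω' = 1 := H23.PicMul.cl_eq_iff.2 hD'
  have h2 : PicF.cl ω' * PicF.cl ((Scheme.Modules.pullback e).obj D) = 1 := by
    rw [H23.PicMul.cl_eq_iff.2 ⟨eω⟩, ← H23.PicMul.cl_tensor, H23.PicMul.one_def]
    refine H23.PicMul.cl_eq_iff.2 ?_
    obtain ⟨p1⟩ := H23.PicMul.pull e ω D
    obtain ⟨p2⟩ := PicClLib.nonempty_pullback_structureModule e
    exact ⟨p1.symm ≪≫ (Scheme.Modules.pullback e).mapIso eD ≪≫ p2⟩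
  obtain ⟨i⟩ := H23.PicMul.cl_eq_iff.1 (left_inv_eq_right_inv h1 h2)
  letI : Algebra k L := φ.hom.toAlgebra
  haveI : Module.Flat k L := Module.Flat.of_free
  exact Quiet5.AmpleFpqc.isAmple_of_pullback (A := CommRingCat.of k) (B := CommRingCat.of L) he inferInstance hD (AmpleX.isAmple_of_iso i hamp)

end Groth.Agent.S13630
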