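import Groth.Statements.S9371
import Groth.Agent.OmegaUniv.Restrict
import Mathlib

set_option autoImplicit false
universe u
open OmegaSh

namespace Groth.Agent.S9371

open AlgebraicGeometry CategoryTheory in
/-- For a commutative square with i : Z → X, i' : Z' → X' quasi-compact immersions, g : X → X' and gZ :
Z → Z', there is a unique map of O_Z-modules gZ^* C_{Z'/X'} → C_{Z/X} compatible with g♯ on sections
of the defining ideals. (The published statement allows arbitrary immersions; this row assumes i and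
i' quasi-compact.) -/
theorem result {Z X Z' X' : Scheme.{u}} (i : Z ⟶ X) (i' : Z' ⟶ X') [IsImmersion i] [IsImmersion i']
    [QuasiCompact i] [QuasiCompact i'] (g : X ⟶ X') (gZ : Z ⟶ Z') (hsq : gZ ≫ i' = i ≫ g) :
    ∃! φ : (Scheme.Modules.pullback gZ).obj (Omega.conormal i') ⟶ Omega.conormal i,
      OmegaSh.IsConormalMap i i' g gZ φ := by
  
  have hex : ∀ (U' : X'.Opens) (s' : Γ(ClSub.idealMod i'.ker, U')),
      ∃ s : Γ(ClSub.idealMod i.ker, g ⁻¹ᵁ U'),
        OmegaSh.idealSect i.ker (g ⁻¹ᵁ U') s = g.app U' (OmegaSh.idealSect i'.ker U' s') := by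
    intro U' s'
    refine Groth.Agent.OmegaUniv.exists_idealSect_of_app_eq_zero i _ _ ?_
    show (i ≫ g).app U' _ = 0
    rw [Scheme.Hom.congr_app hsq.symm U']
    show Z.presheaf.map _ (gZ.app (i' ⁻¹ᵁ U') (i'.app U' _)) = 0
    rw [Groth.Agent.OmegaUniv.app_idealSect, map_zero, map_zero]
  let β : ClSub.idealMod i'.ker ⟶ (Scheme.Modules.pushforward g).obj (ClSub.idealMod i.ker) :=
    ⟨PresheafOfModules.homMk
      { app := fun U => AddCommGrpCat.ofHom (AddMonoidHom.mk'
          (fun s' => (show Γ((Scheme.Modules.pushforward g).obj (ClSub.idealMod i.ker), U.unop) from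
            (hex U.unop s').choose)) fun k l => by
          refine Groth.Agent.OmegaLib.idealSect_injective (K := i.ker) _ ?_
          refine (hex U.unop (k + l)).choose_spec.trans ?_
          refine ((congrArg _ (map_add (OmegaSh.idealSect i'.ker U.unop) k l)).trans
            (map_add (g.app U.unop).hom _ _)).trans ?_
          refine (congrArg₂ (· + ·) (hex U.unop k).choose_spec.symm
            (hex U.unop l).choose_spec.symm).trans ?_
          exact (map_add _ _ _).symm)
        naturality := fun U U' h => by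
          ext k
          refine Groth.Agent.OmegaLib.idealSect_injective (K := i.ker) _ ?_
          refine (hex U'.unop _).choose_spec.trans ?_
          erw [Groth.Agent.OmegaLib.idealSect_map (K := i'.ker) h.unop.le k]
          refine Eq.trans ?_ (Groth.Agent.OmegaLib.idealSect_map (K := i.ker)
            (g.preimage_mono h.unop.le) _).symm
          erw [(hex U.unop k).choose_spec]
          exact congr($(g.naturality h) (OmegaSh.idealSect i'.ker U.unop k)) }
      fun U r k => by
        refine Groth.Agent.OmegaLib.idealSect_injective (K := i.ker) _ ?_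
        refine (hex U.unop _).choose_spec.trans ?_
        erw [Groth.Agent.OmegaLib.idealSect_smul (K := i'.ker), map_mul,
          ← (hex U.unop k).choose_spec, ← Groth.Agent.OmegaLib.idealSect_smul]
        rfl⟩
  have hβ : ∀ (U' : X'.Opens) (s' : Γ(ClSub.idealMod i'.ker, U')),
      OmegaSh.idealSect i.ker (g ⁻¹ᵁ U') (β.app U' s') = g.app U' (OmegaSh.idealSect i'.ker U' s') :=
    fun U' s' => (hex U' s').choose_spec
  let C := Omega.conormal i
  let adj := Scheme.Modules.pullbackPushforwardAdjunction i'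
  let adjZ := Scheme.Modules.pullbackPushforwardAdjunction gZ
  let α : ClSub.idealMod i'.ker ⟶
      (Scheme.Modules.pushforward i').obj ((Scheme.Modules.pushforward gZ).obj C) :=
    β ≫ (Scheme.Modules.pushforward g).map
        ((Scheme.Modules.pullbackPushforwardAdjunction i).unit.app (ClSub.idealMod i.ker)) ≫
      (Scheme.Modules.pushforwardComp i g).hom.app C ≫
      (Scheme.Modules.pushforwardCongr hsq.symm).hom.app C ≫
      (Scheme.Modules.pushforwardComp gZ i').inv.app C
  have hle : ∀ U' : X'.Opens, gZ ⁻¹ᵁ (i' ⁻¹ᵁ U') ≤ i ⁻¹ᵁ (g ⁻¹ᵁ U') := fun U' =>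
    (congrArg (fun t : Z ⟶ X' => t ⁻¹ᵁ U') hsq).le
  have hα : ∀ (U' : X'.Opens) (s' : Γ(ClSub.idealMod i'.ker, U')),
      α.app U' s' = C.presheaf.map (homOfLE (hle U')).op
        (OmegaSh.conormalSect i (g ⁻¹ᵁ U') (β.app U' s')) := fun U' s' => rfl
  have hmap : ∀ {A B : Z.Opens} (p q : A ⟶ B) (y : Γ(C, B)),
      C.presheaf.map p.op y = C.presheaf.map q.op y := fun p q y => by
    rw [Subsingleton.elim p q]
  have key : ∀ φ : (Scheme.Modules.pullback gZ).obj (Omega.conormal i') ⟶ C,
      OmegaSh.IsConormalMap i i' g gZ φ ↔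
        (adj.homEquiv _ _) ((adjZ.homEquiv _ _) φ) = α := by
    intro φ
    have happ : ∀ (U' : X'.Opens) (s' : Γ(ClSub.idealMod i'.ker, U')),
        ((adj.homEquiv _ _) ((adjZ.homEquiv _ _) φ)).app U' s' =
          φ.app (gZ ⁻¹ᵁ (i' ⁻¹ᵁ U'))
            (OmegaSh.pullSect gZ (Omega.conormal i') (i' ⁻¹ᵁ U')
              (OmegaSh.conormalSect i' U' s')) := by
      intro U' s'
      rw [Adjunction.homEquiv_unit, Adjunction.homEquiv_unit]
      rfl
    constructor
    · rintro ⟨-, h⟩
      refine Scheme.Modules.hom_ext _ _ fun U' => ?_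
      ext s'
      rw [happ, hα]
      refine Eq.trans ?_ (h U' s' (β.app U' s') (hβ U' s') _ le_rfl (hle U'))
      rw [show (homOfLE (le_refl (gZ ⁻¹ᵁ (i' ⁻¹ᵁ U')))) = 𝟙 _ from Subsingleton.elim _ _, op_id,
        C.presheaf.map_id]
      rfl
    · intro h
      refine ⟨hsq, fun U' s' s hs V h₁ h₂ => ?_⟩
      have hs' : s = β.app U' s' :=
        Groth.Agent.OmegaLib.idealSect_injective i.ker _ (hs.trans (hβ U' s').symm)
      rw [← happ, h, hα, hs']
      refine Eq.trans ?_ (hmap ((homOfLE h₁) ≫ homOfLE (hle U')) (homOfLE h₂) _)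
      exact congr($((C.presheaf.map_comp (homOfLE (hle U')).op (homOfLE h₁).op).symm)
        (OmegaSh.conormalSect i (g ⁻¹ᵁ U') (β.app U' s')))
  refine ⟨(adjZ.homEquiv _ _).symm ((adj.homEquiv _ _).symm α), ?_, fun φ hφ => ?_⟩
  · show OmegaSh.IsConormalMap i i' g gZ _
    refine (key _).mpr ((congrArg (adj.homEquiv _ _) ((adjZ.homEquiv _ _).apply_symm_apply _)).trans ?_)
    exact (adj.homEquiv _ _).apply_symm_apply α
  · exact ((adjZ.homEquiv _ _).eq_symm_apply).mpr (((adj.homEquiv _ _).eq_symm_apply).mpr ((key φ).mp hφ))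

end Groth.Agent.S9371
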