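import Groth.Statements.S9776
import Groth.Agent.Synt29.OmegaBase
import Groth.Agent.Synt29.StalkFormal
import Mathlib

set_option autoImplicit false
universe u
open OmegaSh

namespace Groth.Agent.S9776

open AlgebraicGeometry CategoryTheory Limits in
/-- Consider a commutative square of schemes with vertical maps p₁ : X₁ ⟶ S₁, p₂ : X₂ ⟶ S₂ and
horizontal maps f : X₂ ⟶ X₁, g : S₂ ⟶ S₁, where f and g are étale. Let d₁ : O_{X₁} → Ω₁ and d₂ :
O_{X₂} → Ω₂ be universal derivations over S₁ and S₂ (sheaves of differentials) and c : f^*Ω₁ ⟶ Ω₂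
the O_{X₂}-linear map compatible with d₁ and d₂ (the canonical map c_f). Then c is an isomorphism. -/
theorem result {X₁ S₁ X₂ S₂ : Scheme.{u}} (p₁ : X₁ ⟶ S₁) (p₂ : X₂ ⟶ S₂) (f : X₂ ⟶ X₁) (g : S₂ ⟶ S₁)
    [Etale f] [Etale g] (hsq : f ≫ p₁ = p₂ ≫ g)
    (Ω₁ : X₁.Modules) (d₁ : OmegaSh.Der p₁ Ω₁) (hd₁ : OmegaSh.IsUniversal d₁)
    (Ω₂ : X₂.Modules) (d₂ : OmegaSh.Der p₂ Ω₂) (hd₂ : OmegaSh.IsUniversal d₂)
    (c : (Scheme.Modules.pullback f).obj Ω₁ ⟶ Ω₂) (hc : OmegaSh.IsDiffCompat f d₁ d₂ c) : IsIso c := by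
  
  suffices h : ∀ x, IsIso ((DerSch.stalkFunctor X₂ x).map c) from
    Groth.Agent.KFlatLib.isIso_of_stalk c h
  intro x
  let ρ := (S₁.presheaf.stalkCongr (.of_eq (congrArg (fun t : X₂ ⟶ S₁ => t x) hsq))).hom ≫
    g.stalkMap (p₂ x)
  have e : p₁.stalkMap (f x) ≫ f.stalkMap x = ρ ≫ p₂.stalkMap x := by
    rw [← Scheme.Hom.stalkMap_comp, Scheme.Hom.stalkMap_congr_hom _ _ hsq x,
      Scheme.Hom.stalkMap_comp]
    exact (Category.assoc _ _ _).symm
  obtain ⟨i₁, i₂, hi⟩ := Groth.Agent.Synt29.OmegaStalk.exists_stalk_square hd₁ hd₂ c hc x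
    (p₁.stalkMap (f x)) rfl (p₂.stalkMap x) rfl
  have hγ := hi _ (Groth.Agent.Synt29.OmegaStalk.squareMap_unit ρ (p₂.stalkMap x) _ _ e)
  have hρ : ρ.hom.FormallyUnramified := by
    refine RingHom.FormallyUnramified.comp ?_
      (AlgebraicGeometry.FormallyUnramified.stalkMap g (p₂ x))
    exact RingHom.FormallyUnramified.of_surjective
      (ConcreteCategory.bijective_of_isIso _).2
  have := Groth.Agent.Synt29.OmegaStalk.isIso_squareMap ρ (p₂.stalkMap x) _ _ e hρ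
    (AlgebraicGeometry.FormallyUnramified.stalkMap f x)
    (Groth.Agent.Synt29.StalkFormal.formallySmooth_stalkMap_of_etale f x)
  have h2 : (DerSch.stalkFunctor X₂ x).map c = i₁.inv ≫
      Groth.Agent.Synt29.OmegaStalk.squareMap ρ (p₂.stalkMap x) _ _ e ≫ i₂.hom := by
    rw [Iso.eq_inv_comp]
    exact hγ
  rw [h2]
  exact IsIso.comp_isIso' inferInstance (IsIso.comp_isIso' this inferInstance)

end Groth.Agent.S9776
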