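import Groth.Statements.S1679
import Groth.Agent.RegNear6.Basic
import Groth.Agent.RegLoc6.Seq
-- import your own Groth.Agent.* helpers here

set_option autoImplicit false
universe u
open CategoryTheory CategoryTheory.Limits AlgebraicGeometry TopologicalSpace
open SDiv

namespace Groth.Agent.S1679

/-- Equivalence of (1), (5) and (9) (the regular-sequence variants only): let X be a locally Noetherian
scheme, i : Z ⟶ X a closed immersion and z a point of Z. Then i is a regular closed immersion over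
some open neighbourhood of i z if and only if the kernel of O_{X, i z} → O_{Z, z} is generated by a
regular sequence of O_{X, i z}. -/
theorem result {X Z : Scheme.{u}} [IsLocallyNoetherian X] (i : Z ⟶ X) [IsClosedImmersion i] (z : ↥Z) :
    (∃ V : X.Opens, i z ∈ V ∧ Mor2.IsRegularClosedImmersion (i ∣_ V)) ↔
      ∃ rs : List ↑(X.presheaf.stalk (i z)), RingTheory.Sequence.IsRegular ↑(X.presheaf.stalk (i z)) rs ∧
        RingHom.ker (i.stalkMap z).hom = Ideal.ofList rs := by
  obtain ⟨D, hD, hzD, -⟩ := exists_isAffineOpen_mem_and_subset (U := ⊤) (x := i z) trivial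
  haveI : IsNoetherianRing Γ(X, D) := IsLocallyNoetherian.component_noetherian ⟨D, hD⟩
  obtain ⟨hD', hDs⟩ := Groth.Agent.Synt29.surjective_app_of_isClosedImmersion_restrict i D hD
  refine Iff.trans (Groth.Agent.RegNear6.regNear_iff_kReg i hD hzD) ?_
  letI := X.presheaf.algebra_section_stalk (U := D) ⟨i z, hzD⟩
  let p := (hD.primeIdealOf ⟨i z, hzD⟩).asIdeal
  let S := X.presheaf.stalk (i z)
  haveI : IsLocalization.AtPrime S p := hD.isLocalization_stalk ⟨i z, hzD⟩
  haveI : Module.Flat Γ(X, D) S := IsLocalization.flat S p.primeCompl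
  let I := RingHom.ker (i.app D).hom
  have hIp : I ≤ p := Groth.Agent.KRegLib.ker_app_le_primeIdealOf i hD hD' z hzD
  have hsm : ∀ a : Γ(X, D), (i.stalkMap z).hom (algebraMap Γ(X, D) S a) =
      (Z.presheaf.germ (i ⁻¹ᵁ D) z hzD).hom ((i.app D).hom a) := fun a =>
    Scheme.Hom.germ_stalkMap_apply i D z hzD a
  have hker : RingHom.ker (i.stalkMap z).hom = I.map (algebraMap Γ(X, D) S) := by
    refine le_antisymm (fun x hx => ?_) (Ideal.map_le_iff_le_comap.2 fun a ha => ?_)
    · obtain ⟨a, s, rfl⟩ := IsLocalization.exists_mk'_eq p.primeCompl x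
      have h1 : (Z.presheaf.germ (i ⁻¹ᵁ D) z hzD).hom ((i.app D).hom a) = 0 := by
        rw [← hsm, ← IsLocalization.mk'_spec S a s, map_mul, (RingHom.mem_ker).1 hx, zero_mul]
      letI := Z.presheaf.algebra_section_stalk (U := i ⁻¹ᵁ D) ⟨z, hzD⟩
      haveI := hD'.isLocalization_stalk ⟨z, hzD⟩
      obtain ⟨⟨t, ht⟩, hta⟩ := (IsLocalization.map_eq_zero_iff
        (hD'.primeIdealOf ⟨z, hzD⟩).asIdeal.primeCompl (Z.presheaf.stalk z) _).1 h1
      obtain ⟨b, rfl⟩ := hDs t
      have hbp : b ∉ p := by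
        intro hb
        refine ht ?_
        have hc := congrArg PrimeSpectrum.asIdeal
          (IsAffineOpen.comap_primeIdealOf_appLE (f := i) D hD (i ⁻¹ᵁ D) hD' le_rfl hzD)
        rw [PrimeSpectrum.comap_asIdeal, ← Scheme.Hom.app_eq_appLE] at hc
        exact (hc.symm ▸ hb : b ∈ (hD'.primeIdealOf ⟨z, hzD⟩).asIdeal.comap (i.app D).hom)
      rw [IsLocalization.mk'_mem_iff, ← Ideal.unit_mul_mem_iff_mem _ (IsLocalization.map_units S (⟨b, hbp⟩ : p.primeCompl)),
        ← map_mul]
      exact Ideal.mem_map_of_mem _ (show (i.app D).hom (b * a) = 0 by rw [map_mul]; exact hta)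
    · rw [Ideal.mem_comap, RingHom.mem_ker, hsm, show (i.app D).hom a = 0 from ha, map_zero]
  rw [hker]
  constructor
  · intro h
    obtain ⟨g, hg, hon⟩ := h.exists_on
    obtain ⟨n, f, hf, hfI⟩ := hon S (IsLocalization.map_units S (⟨g, hg⟩ : p.primeCompl))
    have hmem : ∀ j, f j ∈ IsLocalRing.maximalIdeal S := fun j => by
      rw [← IsLocalization.AtPrime.map_eq_maximalIdeal p S]
      exact Ideal.map_mono hIp (hfI ▸ Ideal.subset_span ⟨j, rfl⟩)
    refine ⟨List.ofFn f, Groth.Agent.RegLoc6.isRegular_iff_weakly _ (fun r hr => ?_)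
      (Groth.Agent.KRegLib.isWeaklyRegular_of_isExact_local f hmem hf), ?_⟩
    · obtain ⟨j, rfl⟩ := List.mem_ofFn.1 hr
      exact hmem j
    · rw [hfI]
      exact congrArg Ideal.span (Set.ext fun y => List.mem_ofFn.symm)
  · rintro ⟨rs, hrs, hgen⟩
    let e : S ≃ₐ[Γ(X, D)] Localization.AtPrime p := IsLocalization.algEquiv p.primeCompl _ _
    have hreg : RingTheory.Sequence.IsWeaklyRegular (Localization.AtPrime p) (List.ofFn fun j => e (rs.get j)) := by
      have hl : List.ofFn (fun j => e (rs.get j)) = rs.map e := by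
        conv_rhs => rw [← List.ofFn_get rs, List.map_ofFn]
        rfl
      rw [hl]
      refine ((AddEquiv.isRegular_congr (e := e.toRingEquiv.toAddEquiv) (as := rs) (bs := rs.map e) ?_).1 hrs).toIsWeaklyRegular
      exact List.forall₂_map_right_iff.2 (List.forall₂_same.2 fun x _ y => map_mul e x y)
    have hgen' : Ideal.span (Set.range fun j => e (rs.get j)) = I.map (algebraMap Γ(X, D) (Localization.AtPrime p)) := by
      rw [show (algebraMap Γ(X, D) (Localization.AtPrime p)) = e.toAlgHom.toRingHom.comp (algebraMap Γ(X, D) S) from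
        (RingHom.ext fun x => (e.commutes x)).symm, ← Ideal.map_map, hgen, Ideal.map_ofList]
      refine congrArg Ideal.span (Set.ext fun y => ?_)
      change y ∈ Set.range _ ↔ y ∈ rs.map _
      rw [List.mem_map, Set.mem_range]
      exact ⟨fun ⟨j, hj⟩ => ⟨_, List.get_mem rs j, hj⟩, fun ⟨a, ha, hay⟩ => by
        obtain ⟨j, rfl⟩ := List.mem_iff_get.1 ha
        exact ⟨j, hay⟩⟩
    obtain ⟨g, hg, l, hl, hlI⟩ := Groth.Agent.KRegLib.exists_away_isRegular_of_atPrime I p hIp _ hreg hgen'
    exact ⟨g, hg, (Groth.Agent.KRegLib.kRegOn_iff_exists_list _ _).2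
      ⟨l, (Groth.Agent.S15821.result _ l hl.toIsWeaklyRegular).1, hlI.symm⟩⟩

end Groth.Agent.S1679
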