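import Groth.Statements.S4991
import Groth.Agent.Synt29.SmoothProps

set_option autoImplicit false
universe u
open CategoryTheory CategoryTheory.Limits AlgebraicGeometry TopologicalSpace
open Unram17

namespace Groth.Agent.S4991

/-- Let Y be locally Noetherian and f : X ⟶ Y locally of finite type, smooth on an open neighbourhood of
a point x with image y. Then the local ring of X at x is regular if and only if the local ring of Y
at y is regular. -/
theorem result {X Y : Scheme.{u}} (f : X ⟶ Y)
    [IsLocallyNoetherian Y] [LocallyOfFiniteType f] (x : ↥X)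
    (hx : ∃ U : X.Opens, x ∈ U ∧ Smooth (U.ι ≫ f)) :
    IsRegularLocalRing ↑(X.presheaf.stalk x) ↔ IsRegularLocalRing ↑(Y.presheaf.stalk (f.base x)) := by
  
  obtain ⟨A, B, _, _, _, _, _, _, q, _, ⟨eB⟩, ⟨eA⟩⟩ :=
    Groth.Agent.Synt29.SmoothProps.exists_ringEquiv f x hx
  exact ⟨fun h => by
      have := (Groth.Agent.Synt29.SmoothProps.isRegularLocalRing_iff (A := A) q).mp
        (IsRegularLocalRing.of_ringEquiv eB.symm)
      exact IsRegularLocalRing.of_ringEquiv eA,
    fun h => by
      have := (Groth.Agent.Synt29.SmoothProps.isRegularLocalRing_iff (A := A) q).mpr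
        (IsRegularLocalRing.of_ringEquiv eA.symm)
      exact IsRegularLocalRing.of_ringEquiv eB⟩

end Groth.Agent.S4991
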