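import Groth.Statements.S8851
import Groth.Agent.BlowUpX.Basic

set_option autoImplicit false
universe u
open CategoryTheory CategoryTheory.Limits AlgebraicGeometry TopologicalSpace
open SDiv

namespace Groth.Agent.S8851

/-- Let X be a reduced scheme, 𝓘 a quasi-coherent ideal sheaf on X and b : X' ⟶ X a blowing up of X in
𝓘. Then X' is reduced. -/
theorem result {X X' : Scheme.{u}} [IsReduced X] (𝓘 : X.IdealSheafData) (b : X' ⟶ X)
    (hb : BlowUp.IsBlowUp b 𝓘) : IsReduced X' := by
  set W := ModPair.interior (𝓘.comap b)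
  have hW : b ⁻¹ᵁ 𝓘.support.compl = W := ModPairLib.preimage_interior 𝓘 b
  have := ModPairLib.isAffineHom_interior (ModPairLib.isLocPrincipal_of_isEffCartier hb.1)
  have := ModPairLib.isSchemeTheoreticallyDominant_interior hb.1
  have : IsIso (b ∣_ 𝓘.support.compl) := BlowUpX.isIso_restrict hb
  have : IsReduced (b ⁻¹ᵁ 𝓘.support.compl).toScheme :=
    isReduced_of_isOpenImmersion (b ∣_ 𝓘.support.compl)
  have : IsReduced W.toScheme := hW ▸ this
  exact IsSchemeTheoreticallyDominant.isReduced W.ι

end Groth.Agent.S8851
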