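import Mathlib
import Groth.Agent.RegBlow6.Geometry
import Groth.Agent.RegBlow6.Regular
import Groth.Agent.KRegLib.Closed
import Groth.Agent.S4991
import Groth.Agent.Lib.BlowUpInt
import Groth.Statements.S1622

set_option autoImplicit false
set_option linter.style.haveILetI false
set_option backward.isDefEq.respectTransparency false
set_option backward.isDefEq.respectTransparency.types false
universe u
open CategoryTheory CategoryTheory.Limits AlgebraicGeometry
open Resolve

namespace Groth.Agent.S1622

open CategoryTheory CategoryTheory.Limits AlgebraicGeometry in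
theorem regular_of_blowUp {X Xt Y : Scheme.{u}} [IsLocallyNoetherian X] [IsLocallyNoetherian Y]
    (hreg : ∀ x : ↥X, IsRegularLocalRing ↑(X.presheaf.stalk x)) (i : Y ⟶ X) [IsClosedImmersion i]
    (hregY : ∀ y : ↥Y, IsRegularLocalRing ↑(Y.presheaf.stalk y))
    (π : Xt ⟶ X) (hπ : BlowUp.IsBlowUp π i.ker) :
    ∀ z : ↥Xt, IsRegularLocalRing ↑(Xt.presheaf.stalk z) := by
  have hlci : Groth.Agent.KRegLib.IsLCI' i := by
    rw [Groth.Agent.KRegLib.isLCI'_iff]
    intro U V hU hV e
    letI := (i.appLE V U e).hom.toAlgebra
    haveI := Groth.Agent.KRegLib.isRegularRing_sections hreg hV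
    haveI := Groth.Agent.KRegLib.isRegularRing_sections hregY hU
    haveI : Algebra.FiniteType Γ(X, V) Γ(Y, U) := i.finiteType_appLE hV hU e
    exact Groth.Agent.KRegLib.isLCI_of_regular _ _
  have hri := Groth.Agent.KRegLib.regClosed_of_isLCI' i hlci
  intro z
  haveI : IsProper π := Groth.Agent.BlowUpLib.isProper_of_isBlowUp i.ker hπ fun U => by
    haveI : IsNoetherianRing Γ(X, U.1) := IsLocallyNoetherian.component_noetherian U
    exact IsNoetherian.noetherian _
  haveI := LocallyOfFiniteType.isLocallyNoetherian π
  let E := BlowUp.exceptional π i.ker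
  by_cases hz : z ∈ Set.range E.subschemeι
  · obtain ⟨y, rfl⟩ := hz
    have hle : i.ker ≤ (E.subschemeι ≫ π).ker := by
      rw [← Scheme.IdealSheafData.map_ker, Scheme.IdealSheafData.le_map_iff_comap_le,
        Scheme.IdealSheafData.ker_subschemeι]
    let g := IsClosedImmersion.lift i (E.subschemeι ≫ π) hle
    have hg : g ≫ i = E.subschemeι ≫ π := IsClosedImmersion.lift_fac _ _ _
    haveI := Groth.Agent.RegBlow6.smooth_exceptional i hri π hπ g hg
    haveI : IsRegularLocalRing (Y.presheaf.stalk (g y)) := hregY _
    haveI : IsRegularLocalRing (E.subscheme.presheaf.stalk y) :=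
      (Groth.Agent.S4991.result g y ⟨⊤, trivial, inferInstance⟩).2 inferInstance
    exact Groth.Agent.RegBlow6.isRegularLocalRing_of_effCartier hπ.1 y
  · have hz' : π z ∈ ModPair.interior i.ker := by
      intro h
      refine hz ?_
      rw [Scheme.IdealSheafData.range_subschemeι]
      show z ∈ ((i.ker.comap π).support : Set Xt)
      rw [Scheme.IdealSheafData.support_comap]
      exact h
    haveI := Groth.Agent.BlowUpLib.isIso_restrict hπ (ModPair.interior i.ker) le_rfl
    haveI : IsOpenImmersion ((π ⁻¹ᵁ ModPair.interior i.ker).ι ≫ π) := by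
      rw [← morphismRestrict_ι]; infer_instance
    haveI : IsIso (π.stalkMap z) := by
      have h1 : IsIso (((π ⁻¹ᵁ ModPair.interior i.ker).ι ≫ π).stalkMap ⟨z, hz'⟩) := inferInstance
      rw [Scheme.Hom.stalkMap_comp] at h1
      exact @IsIso.of_isIso_comp_right _ _ _ _ _ (π.stalkMap z)
        ((π ⁻¹ᵁ ModPair.interior i.ker).ι.stalkMap ⟨z, hz'⟩) inferInstance h1
    haveI := hreg (π z)
    exact IsRegularLocalRing.of_ringEquiv (asIso (π.stalkMap z)).commRingCatIsoToRingEquiv

/-- Let A be a regular local ring of dimension two and b : X → Spec A a blowing up of Spec A in the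
maximal ideal (characterised by its universal property). Then X is irreducible and all of its local
rings are regular. -/
theorem result (A : Type u) [CommRing A] [IsRegularLocalRing A] (hA : ringKrullDim A = 2)
    (X : Scheme.{u}) (b : X ⟶ Spec (CommRingCat.of A)) (hb : BlowUp.IsBlowUp b (Curv2.idealSheaf A (IsLocalRing.maximalIdeal A))) :
    IrreducibleSpace X ∧ ∀ x : X, IsRegularLocalRing (X.presheaf.stalk x) := by
  haveI : IsDomain A := Groth.Agent.RegLoc6.isDomain_of_isRegularLocalRing A
  let k := A ⧸ IsLocalRing.maximalIdeal A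
  letI : Field k := Ideal.Quotient.field _
  let i : Spec (CommRingCat.of k) ⟶ Spec (CommRingCat.of A) :=
    Spec.map (CommRingCat.ofHom (Ideal.Quotient.mk (IsLocalRing.maximalIdeal A)))
  haveI : IsClosedImmersion i := IsClosedImmersion.spec_of_surjective _ Ideal.Quotient.mk_surjective
  have hker : i.ker = Curv2.idealSheaf A (IsLocalRing.maximalIdeal A) := Groth.Agent.RegBlow6.ker_specMk _
  refine ⟨?_, regular_of_blowUp (fun x => ?_) i (fun y => ?_) b (hker ▸ hb)⟩
  · haveI : IsIntegral (Spec (CommRingCat.of A)) := inferInstance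
    rcases Groth.Agent.Lib.BlowUpInt.isEmpty_or_birational hb with hX | ⟨hX, -, -⟩
    · exfalso
      have hne : (⟨⊥, Ideal.isPrime_bot⟩ : PrimeSpectrum A) ∈
          ModPair.interior (Curv2.idealSheaf A (IsLocalRing.maximalIdeal A)) := by
        intro hmem
        have h1 : (⟨⊥, Ideal.isPrime_bot⟩ : PrimeSpectrum A) ∈ (i.ker.support : Set (Spec (CommRingCat.of A))) := by
          rw [hker]; exact hmem
        rw [Scheme.Hom.support_ker, i.isClosedEmbedding.isClosed_range.closure_eq] at h1
        obtain ⟨y, hy⟩ := h1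
        have h2 : IsLocalRing.maximalIdeal A ≤ (⊥ : Ideal A) := by
          intro a ha
          have h3 : (i y).asIdeal = (⊥ : Ideal A) := congrArg PrimeSpectrum.asIdeal hy
          rw [← h3]
          show Ideal.Quotient.mk (IsLocalRing.maximalIdeal A) a ∈ (y : PrimeSpectrum k).asIdeal
          rw [Ideal.Quotient.eq_zero_iff_mem.mpr ha]
          exact zero_mem _
        have hf : IsField A := IsLocalRing.isField_iff_maximalIdeal_eq.mpr (le_bot_iff.mp h2)
        have h0 := ringKrullDim_eq_zero_of_isField hf
        rw [hA] at h0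
        exact absurd h0 (by norm_num)
      haveI := Groth.Agent.BlowUpLib.isIso_restrict hb (ModPair.interior _) le_rfl
      obtain ⟨z, -⟩ := (b ∣_ ModPair.interior (Curv2.idealSheaf A (IsLocalRing.maximalIdeal A))).surjective ⟨_, hne⟩
      exact hX.elim ((b ⁻¹ᵁ ModPair.interior _).ι z)
    · infer_instance
  · haveI := Groth.Agent.S0564.result A (x : PrimeSpectrum A).asIdeal
    exact IsRegularLocalRing.of_ringEquiv (StructureSheaf.stalkIso A x).toRingEquiv
  · haveI : (y : PrimeSpectrum k).asIdeal.IsPrime := PrimeSpectrum.isPrime _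
    haveI : IsRegularLocalRing k := inferInstance
    haveI := Groth.Agent.S0564.result k (y : PrimeSpectrum k).asIdeal
    exact IsRegularLocalRing.of_ringEquiv (StructureSheaf.stalkIso k y).toRingEquiv

end Groth.Agent.S1622
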