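import Groth.Statements.S4228
import Groth.Agent.BertiniAff.Chart
import Mathlib.AlgebraicGeometry.Morphisms.Smooth

set_option autoImplicit false
open CategoryTheory AlgebraicGeometry
universe u
open An

namespace Groth.Agent.S4228

/-- In the affine hyperplane case to which the proof reduces (the published statement is for a
projective scheme V ⊆ P^n_k of pure dimension r and a general linear subspace of any dimension,
parametrised by a dense open subset of the Grassmannian; part (ii), hypersurfaces of degree ≥ 2
through a point, is not stated here): let k be an infinite field (for a finite field the condition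
below on coefficient vectors could hold at no rational point, so the dense-open formulation is
rendered only for infinite k) and A = k[x_1, …, x_n]/I a quotient of the polynomial ring (V = Spec A
⊆ A^n_k) such that every irreducible component of V has dimension r. Then there is a nonzero
polynomial g in the n + 1 coefficients such that for every a = (a_0, …, a_n) with g(a) ≠ 0 the
hyperplane a_0 + Σ a_i x_i = 0 cuts V transversally at every point of the hyperplane section where V
is smooth over k: the section Spec (A/(a_0 + Σ a_i x_i)) is smooth over k of relative dimension r −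
1 on a neighbourhood of each such point. -/
theorem result (k : Type u) [Field k] [Infinite k] (n r : ℕ) (A : Type u) [CommRing A]
    [Algebra k A] (x : Fin n → A)
    (hx : Function.Surjective (MvPolynomial.aeval x : MvPolynomial (Fin n) k →ₐ[k] A))
    (hdim : ∀ P ∈ minimalPrimes A, ringKrullDim (A ⧸ P) = r) :
    ∃ g : MvPolynomial (Fin (n + 1)) k, g ≠ 0 ∧
      ∀ a : Fin (n + 1) → k, MvPolynomial.eval a g ≠ 0 →
        ∀ (q : Ideal (A ⧸ Ideal.span {algebraMap k A (a 0) + ∑ i : Fin n, algebraMap k A (a i.succ) * x i}))
          (_ : q.IsPrime),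
          (∃ f : A, f ∉ q.comap (Ideal.Quotient.mk _) ∧
            Smooth (Spec.map (CommRingCat.ofHom (algebraMap k (Localization.Away f))))) →
          ∃ f : A ⧸ Ideal.span {algebraMap k A (a 0) + ∑ i : Fin n, algebraMap k A (a i.succ) * x i},
            f ∉ q ∧ SmoothOfRelativeDimension (r - 1)
              (Spec.map (CommRingCat.ofHom (algebraMap k (Localization.Away f)))) := by
  haveI : Algebra.FiniteType k A := Algebra.FiniteType.of_surjective _ hx
  haveI : IsNoetherianRing A := Algebra.FiniteType.isNoetherianRing k A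
  let S : Set A := {F | Nontrivial (Localization.Away F) ∧
    Algebra.IsStandardSmoothOfRelativeDimension r k (Localization.Away F)}
  have hU : IsCompact (⋃ F : S, (PrimeSpectrum.basicOpen F.1 : Set (PrimeSpectrum A))) :=
    TopologicalSpace.NoetherianSpace.isCompact _
  obtain ⟨T, hT⟩ := hU.elim_finite_subcover
    (fun F : S => (PrimeSpectrum.basicOpen F.1 : Set (PrimeSpectrum A)))
    (fun F => (PrimeSpectrum.basicOpen F.1).2) subset_rfl
  have hb : ∀ F : S, ∃ g : MvPolynomial (Fin (n + 1)) k, g ≠ 0 ∧ ∀ a : Fin (n + 1) → k,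
      MvPolynomial.eval a g ≠ 0 → ∀ v : Ideal (Localization.Away F.1), v.IsPrime →
        algebraMap A (Localization.Away F.1) (algebraMap k A (a 0) + ∑ i : Fin n, algebraMap k A (a i.succ) * x i) ∈ v →
        ∃ φ : Ω[Localization.Away F.1⁄k] →ₗ[Localization.Away F.1] Localization.Away F.1,
          φ (KaehlerDifferential.D k _ (algebraMap A (Localization.Away F.1)
            (algebraMap k A (a 0) + ∑ i : Fin n, algebraMap k A (a i.succ) * x i))) ∉ v := fun F => by
    haveI := F.2.1
    haveI := F.2.2
    exact Groth.Agent.BertiniAff.exists_bad r x hx F.1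
  choose g hg0 hg using hb
  refine ⟨∏ F ∈ T, g F, Finset.prod_ne_zero_iff.2 fun F _ => hg0 F, fun a ha => ?_⟩
  set h := algebraMap k A (a 0) + ∑ i : Fin n, algebraMap k A (a i.succ) * x i with hh
  intro q hq hsm
  let p : Ideal A := q.comap (Ideal.Quotient.mk _)
  haveI : p.IsPrime := Ideal.comap_isPrime _ q
  obtain ⟨f, hf, hfs⟩ := hsm
  rw [HasRingHomProperty.Spec_iff (P := @Smooth), CommRingCat.hom_ofHom] at hfs
  obtain ⟨F₀, hF₀, hn₀, hs₀⟩ := Groth.Agent.BertiniAff.exists_standard_chart r hdim p f hf hfs
  obtain ⟨F, hFT, hFp⟩ := Set.mem_iUnion₂.1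
    (hT (Set.mem_iUnion.2 ⟨⟨F₀, hn₀, hs₀⟩, (show (⟨p, inferInstance⟩ : PrimeSpectrum A) ∈ PrimeSpectrum.basicOpen F₀ from hF₀)⟩))
  haveI := F.2.1
  haveI := F.2.2
  rw [map_prod, Finset.prod_ne_zero_iff] at ha
  change F.1 ∉ p at hFp
  have hdisj : Disjoint (Submonoid.powers F.1 : Set A) p :=
    (Ideal.disjoint_powers_iff_notMem F.1 (Ideal.IsPrime.isRadical (I := p) inferInstance)).2 hFp
  let v : Ideal (Localization.Away F.1) := p.map (algebraMap A _)
  haveI hv : v.IsPrime :=
    IsLocalization.isPrime_of_isPrime_disjoint (Submonoid.powers F.1) _ p inferInstance hdisj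
  have hvc : v.comap (algebraMap A _) = p :=
    IsLocalization.comap_map_of_isPrime_disjoint (Submonoid.powers F.1) _ inferInstance hdisj
  have hhp : h ∈ p := by
    show Ideal.Quotient.mk _ h ∈ q
    rw [Ideal.Quotient.eq_zero_iff_mem.2 (Ideal.mem_span_singleton_self h)]
    exact q.zero_mem
  obtain ⟨φ, hφ⟩ := hg F a (ha F hFT) v hv (Ideal.mem_map_of_mem _ hhp)
  let u := φ (KaehlerDifferential.D k _ (algebraMap A (Localization.Away F.1) h))
  let B' := Localization.Away u
  obtain ⟨F', hF', hF'loc⟩ := Groth.Agent.BertiniAff.exists_isLocalizationAway F.1 u B' p v hvc hφ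
  haveI : Algebra.FormallyEtale (Localization.Away F.1) B' :=
    Algebra.FormallyEtale.of_isLocalization (Submonoid.powers u)
  let φ₀ : Ω[B'⁄k] →ₗ[B'] B' :=
    (KaehlerDifferential.isBaseChange_of_formallyEtale k (Localization.Away F.1) B').lift
      ((Algebra.linearMap (Localization.Away F.1) B').comp φ)
  let iu := (IsLocalization.Away.algebraMap_isUnit (S := B') u).unit
  have hφ₀ : φ₀ (KaehlerDifferential.D k B' (algebraMap A B' h)) = algebraMap _ B' u := by
    have e := IsBaseChange.lift_eq (KaehlerDifferential.isBaseChange_of_formallyEtale k (Localization.Away F.1) B')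
      ((Algebra.linearMap (Localization.Away F.1) B').comp φ)
      (KaehlerDifferential.D k _ (algebraMap A (Localization.Away F.1) h))
    rw [KaehlerDifferential.map_D, ← IsScalarTower.algebraMap_apply A (Localization.Away F.1) B'] at e
    exact e
  haveI : Algebra.IsStandardSmoothOfRelativeDimension 0 (Localization.Away F.1) B' :=
    Algebra.IsStandardSmoothOfRelativeDimension.localization_away u
  haveI : Algebra.IsStandardSmoothOfRelativeDimension r k B' := by
    have := Algebra.IsStandardSmoothOfRelativeDimension.trans (n := r) (m := 0) k (Localization.Away F.1) B'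
    rwa [zero_add] at this
  have hone : ((↑iu⁻¹ : B') • φ₀) (KaehlerDifferential.D k B' (algebraMap A B' h)) = 1 := by
    rw [LinearMap.smul_apply, hφ₀, smul_eq_mul]
    exact iu.inv_mul
  let I : Ideal A := Ideal.span {h}
  have hI : I.map (algebraMap A B') = Ideal.span {algebraMap A B' h} := by
    rw [Ideal.map_span, Set.image_singleton]
  haveI : IsLocalization (Submonoid.powers (Ideal.Quotient.mk I F')) (B' ⧸ I.map (algebraMap A B')) := by
    have := (inferInstance : IsLocalization (Algebra.algebraMapSubmonoid (A ⧸ I) (Submonoid.powers F')) (B' ⧸ I.map (algebraMap A B')))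
    rwa [Algebra.algebraMapSubmonoid_powers] at this
  haveI : IsLocalization.Away (Ideal.Quotient.mk I F') (B' ⧸ I.map (algebraMap A B')) := ‹IsLocalization (Submonoid.powers _) (B' ⧸ I.map (algebraMap A B'))›
  have hF'q : Ideal.Quotient.mk I F' ∉ q := hF'
  have hdisj' : Disjoint (Submonoid.powers (Ideal.Quotient.mk I F') : Set (A ⧸ I)) q :=
    (Ideal.disjoint_powers_iff_notMem _ hq.isRadical).2 hF'q
  let jC : (A ⧸ I) →+* (B' ⧸ I.map (algebraMap A B')) := algebraMap _ _
  let P : Ideal (B' ⧸ I.map (algebraMap A B')) := Ideal.map jC q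
  haveI : P.IsPrime := IsLocalization.isPrime_of_isPrime_disjoint
    (Submonoid.powers (Ideal.Quotient.mk I F')) (B' ⧸ I.map (algebraMap A B')) q hq hdisj'
  have hPc : P.comap (algebraMap (A ⧸ I) (B' ⧸ I.map (algebraMap A B'))) = q :=
    IsLocalization.comap_map_of_isPrime_disjoint (Submonoid.powers (Ideal.Quotient.mk I F')) (B' ⧸ I.map (algebraMap A B')) hq hdisj'
  have hch : ∀ (J : Ideal B') (_ : J = Ideal.span {algebraMap A B' h}) (Q : Ideal (B' ⧸ J)), Q.IsPrime →
      1 ≤ r ∧ ∃ t : B' ⧸ J, t ∉ Q ∧
        Algebra.IsStandardSmoothOfRelativeDimension (r - 1) k (Localization.Away t) := by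
    rintro _ rfl Q hQ
    exact Groth.Agent.BertiniAff.exists_chart r _ _ hone Q
  obtain ⟨-, t, htP, hts⟩ := hch _ hI P ‹_›
  obtain ⟨f', hf', hf'loc⟩ := Groth.Agent.BertiniAff.exists_isLocalizationAway
    (Ideal.Quotient.mk I F') t (Localization.Away t) q P hPc htP
  refine ⟨f', hf', ?_⟩
  haveI := hts
  haveI := hf'loc
  haveI : IsScalarTower k (A ⧸ I) (Localization.Away t) := IsScalarTower.of_algebraMap_eq fun c => by
    refine (IsScalarTower.algebraMap_apply k (B' ⧸ I.map (algebraMap A B')) (Localization.Away t) c).trans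
      (Eq.trans ?_ (IsScalarTower.algebraMap_apply (A ⧸ I) (B' ⧸ I.map (algebraMap A B')) (Localization.Away t)
        (algebraMap k (A ⧸ I) c)).symm)
    refine congrArg _ ?_
    show Ideal.Quotient.mk _ (algebraMap k B' c) = Ideal.Quotient.mk _ (algebraMap A B' (algebraMap k A c))
    rw [← IsScalarTower.algebraMap_apply k A B']
  let e : Localization.Away t ≃ₐ[k] Localization.Away f' :=
    (IsLocalization.algEquiv (Submonoid.powers f') (Localization.Away t) (Localization.Away f')).restrictScalars k
  have h3 := Algebra.IsStandardSmoothOfRelativeDimension.of_algEquiv (n := r - 1) e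
  rw [HasRingHomProperty.Spec_iff (P := @SmoothOfRelativeDimension (r - 1)), CommRingCat.hom_ofHom]
  exact RingHom.locally_of RingHom.isStandardSmoothOfRelativeDimension_respectsIso _
    ((RingHom.isStandardSmoothOfRelativeDimension_algebraMap _).2 h3)

end Groth.Agent.S4228
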