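import Groth.Statements.S2068
import Mathlib
import Groth.Agent.CAlgOdd.PCAlg

set_option autoImplicit false
universe u
open CategoryTheory
attribute [local instance] HasDerivedCategory.standard
open CAlg

namespace Groth.Agent.S2068

/-- If `K` is `m`-pseudo-coherent in `D(A)`, its cohomology in degree `m` is a finitely generated module
when nothing above degree `m` survives, and its cohomology in degree `m+1` is finitely presented
when nothing above degree `m+1` survives. -/
theorem result {A : Type u} [CommRing A] (K : Dual.D A) (m : ℤ)
    (hK : DRing.IsPseudoCoherent A m K) :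
    ((∀ i : ℤ, m < i → Limits.IsZero ((DerivedCategory.homologyFunctor (ModuleCat.{u} A) i).obj K)) →
        Module.Finite A ((DerivedCategory.homologyFunctor (ModuleCat.{u} A) m).obj K)) ∧
      ((∀ i : ℤ, m + 1 < i → Limits.IsZero ((DerivedCategory.homologyFunctor (ModuleCat.{u} A) i).obj K)) →
        Module.FinitePresentation A ((DerivedCategory.homologyFunctor (ModuleCat.{u} A) (m + 1)).obj K)) := by
  haveI := Groth.Agent.QCoh.tilde_preservesFiniteLimits (R := CommRingCat.of A)
  exact Groth.Agent.CAlgOdd.finite_homology (R := CommRingCat.of A) K ((Groth.Agent.S1004.result A K m).2 hK)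

end Groth.Agent.S2068
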