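import Groth.Statements.S2087
import Mathlib
import Groth.Agent.CAlgOdd.PCAlg

set_option autoImplicit false
universe u
open CategoryTheory
attribute [local instance] HasDerivedCategory.standard
open CAlg

namespace Groth.Agent.S2087

/-- `m`-pseudo-coherence of a complex of `R`-modules may be checked after base change to each `R_{f_i}`
for finitely many `f_i` generating the unit ideal (the base change is taken termwise on a chosen
complex, which is the derived base change since `R → R_{f_i}` is flat). -/
theorem result {R : Type u} [CommRing R] {r : ℕ} (f : Fin r → R)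
    (hf : Ideal.span (Set.range f) = ⊤) (K : DRing.Cx R) (m : ℤ)
    (hK : ∀ i, DRing.IsPseudoCoherent (Localization.Away (f i)) m
      (DRing.toD (((ModuleCat.extendScalars (algebraMap R (Localization.Away (f i)))).mapHomologicalComplex
        (ComplexShape.up ℤ)).obj K))) :
    DRing.IsPseudoCoherent R m (DRing.toD K) := by
  classical
  haveI := Groth.Agent.QCoh.tilde_preservesFiniteLimits (R := CommRingCat.of R)
  haveI := fun i => Groth.Agent.QCoh.tilde_preservesFiniteLimits (R := CommRingCat.of (Localization.Away (f i)))
  refine (Groth.Agent.S1004.result R (DRing.toD K) m).1 ?_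
  rw [Groth.Agent.KFlatLib.isPseudoCoherentD_iff]
  refine Groth.Agent.KFlatLib.LocPC.of_local fun x => ?_
  obtain ⟨i, hi⟩ : ∃ i, f i ∉ x.asIdeal := by
    by_contra! hcon
    exact x.isPrime.ne_top (eq_top_iff.2 (hf ▸ Ideal.span_le.2 (Set.range_subset_iff.2 hcon)))
  let g : CommRingCat.of R ⟶ CommRingCat.of (Localization.Away (f i)) :=
    CommRingCat.ofHom (algebraMap R (Localization.Away (f i)))
  haveI : AlgebraicGeometry.IsOpenImmersion (AlgebraicGeometry.Spec.map g) :=
    AlgebraicGeometry.IsOpenImmersion.of_isLocalization (f i)
  refine ⟨_, AlgebraicGeometry.Spec.map g, inferInstance, ?_, ?_⟩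
  · change x ∈ Set.range (PrimeSpectrum.comap (algebraMap R (Localization.Away (f i))))
    rw [PrimeSpectrum.localization_away_comap_range (Localization.Away (f i)) (f i)]
    exact hi
  · obtain ⟨e⟩ := Groth.Agent.CAlgOdd.rho_tilde_iso g K
    refine Groth.Agent.KFlatLib.LocPC.of_iso e ?_
    rw [← Groth.Agent.KFlatLib.isPseudoCoherentD_iff]
    exact (Groth.Agent.S1004.result (Localization.Away (f i)) _ m).2 (hK i)

end Groth.Agent.S2087
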