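import Groth.Statements.S6960
import Groth.Agent.H9Misc.DRingPCDescent
import Groth.Agent.S2087

set_option autoImplicit false
universe u
open CategoryTheory CategoryTheory.Limits
attribute [local instance] HasDerivedCategory.standard
open DRing

namespace Groth.Agent.S6960

/-- Let R be a commutative ring, f_1, ..., f_r elements generating the unit ideal and K a cochain
complex of R-modules. If for every i the termwise localization K ⊗_R R_(f_i) is a perfect object of
D(R_(f_i)), then K is a perfect object of D(R). -/
theorem result {R : Type u} [CommRing R] {r : ℕ} (f : Fin r → R)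
    (hf : Ideal.span (Set.range f) = ⊤) (K : DRing.Cx R)
    (hK : ∀ i, DRing.IsPerfect (Localization.Away (f i))
      (DRing.toD (((ModuleCat.extendScalars (algebraMap R (Localization.Away (f i)))).mapHomologicalComplex
        (ComplexShape.up ℤ)).obj K))) :
    DRing.IsPerfect R (DRing.toD K) := by
  simp only [Groth.Agent.H9Misc.DRingPerfect.isPerfect_iff] at hK ⊢
  refine ⟨(Groth.Agent.H9Misc.DRingPC.pc'_iff _).2 fun m => Groth.Agent.S2087.result f hf K m fun i =>
    (Groth.Agent.H9Misc.DRingPC.pc'_iff _).1 (hK i).1 m, ?_⟩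
  choose a b hab using fun i => (hK i).2
  obtain ⟨a', ha'⟩ : ∃ a' : ℤ, ∀ i, a' ≤ a i := (Set.finite_range a).bddBelow.imp fun _ h i => h ⟨i, rfl⟩
  obtain ⟨b', hb'⟩ : ∃ b' : ℤ, ∀ i, b i ≤ b' := (Set.finite_range b).bddAbove.imp fun _ h i => h ⟨i, rfl⟩
  exact ⟨a', b', Groth.Agent.H9Misc.DRingTorDescent.of_family (fun i => Localization.Away (f i))
    (fun i => algebraMap R (Localization.Away (f i)))
    (fun i => RingHom.flat_algebraMap_iff.2 (IsLocalization.flat _ (Submonoid.powers (f i))))
    (fun H h => Groth.Agent.H9Misc.DRingTorDescent.isZero_of_cover f hf H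
      fun i => Groth.Agent.H9Misc.DRingTorDescent.isZero_tensor_of_resB H (h i))
    K a' b' fun i => Groth.Agent.H9Misc.DRingTor.mono (ha' i) (hb' i) (hab i)⟩

end Groth.Agent.S6960
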