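import Groth.Statements.S14389
import Groth.Agent.EtMVLib.PullSquare

set_option autoImplicit false
open CategoryTheory CategoryTheory.Limits AlgebraicGeometry Opposite
universe u
open EtLim

namespace Groth.Agent.S14389

/-- For small étale sites of schemes: let g' ≫ f = f' ≫ g be a commutative square of schemes with f : X
→ Y, g : Y' → Y, f' : X' → Y', g' : X' → X, and let F be an abelian sheaf on the small étale site of
X. For every q and every class ζ in H^q(Y_ét, f_*F), the pullback along g' of the image of ζ under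
the canonical map H^q(Y, f_*F) → H^q(X, F) (pull back along f, then apply the counit f⁻¹f_*F → F)
equals the image of g^*ζ ∈ H^q(Y', g⁻¹f_*F) under the map induced by the base-change morphism
g⁻¹f_*F → f'_*g'⁻¹F followed by the canonical map H^q(Y', f'_*g'⁻¹F) → H^q(X', g'⁻¹F). (The
published statement is for a commutative square of topoi with a chosen isomorphism f_*g'_* ≅
g_*f'_*; this row is the square of étale topoi of schemes. Exactness of pullback of abelian sheaves,
which always holds, is carried as instance hypotheses.) -/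
theorem result {X Y X' Y' : Scheme.{u}} (f : X ⟶ Y)
    (g : Y' ⟶ Y) (f' : X' ⟶ Y') (g' : X' ⟶ X) (w : g' ≫ f = f' ≫ g) (F : EtCoh.Ab X) (q : ℕ)
    [PreservesFiniteLimits (EtCoh.pull f)] [PreservesFiniteLimits (EtCoh.pull g)]
    [PreservesFiniteLimits (EtCoh.pull f')] [PreservesFiniteLimits (EtCoh.pull g')]
    (ζ : EtCoh.H Y ((EtCoh.push f).obj F) q) :
    EtCore.Hpull g' F q (EtLim.HofPush f F q ζ) =
      EtLim.HofPush f' ((EtCoh.pull g').obj F) q
        (((EtCoh.HF Y' q).map (EtCoh.baseChange0 f g f' g' w F)).hom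
          (EtCore.Hpull g ((EtCoh.push f).obj F) q ζ)) := by
  have e1 : ∀ {Y X : Scheme.{u}} (k : X ⟶ Y) [PreservesFiniteLimits (EtCoh.pull k)] {A B : EtCoh.Ab Y} (φ : A ⟶ B) (ξ : EtCoh.H Y A q),
      EtCore.Hpull k B q (Abelian.Ext.comp ξ (Abelian.Ext.mk₀ φ) (add_zero q)) =
        Abelian.Ext.comp (EtCore.Hpull k A q ξ) (Abelian.Ext.mk₀ ((EtCoh.pull k).map φ)) (add_zero q) := by
    intro Y X k _ A B φ ξ
    rw [EtMVLib.Hpull_apply, EtMVLib.Hpull_apply, Abelian.Ext.mapExactFunctor_comp, Abelian.Ext.mapExactFunctor_mk₀,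
      Abelian.Ext.comp_assoc_of_third_deg_zero]
  show EtCore.Hpull g' F q (Abelian.Ext.comp (EtCore.Hpull f _ q ζ) (Abelian.Ext.mk₀ _) (add_zero q)) =
    Abelian.Ext.comp (EtCore.Hpull f' _ q (Abelian.Ext.comp (EtCore.Hpull g _ q ζ) (Abelian.Ext.mk₀ _) (add_zero q)))
      (Abelian.Ext.mk₀ _) (add_zero q)
  rw [e1, e1]
  erw [← EtMVLib.Hpull_square f g f' g' w]
  rw [Abelian.Ext.comp_assoc_of_third_deg_zero, Abelian.Ext.mk₀_comp_mk₀, Abelian.Ext.comp_assoc_of_third_deg_zero,
    Abelian.Ext.mk₀_comp_mk₀]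
  erw [EtMVLib.sqIso_counit f g f' g' w F]

end Groth.Agent.S14389
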