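import Groth.Statements.S13598
import Groth.Agent.Hensel.HenselizationMisc
-- import your own Groth.Agent.* helpers here

set_option autoImplicit false
universe u
open Hensel

namespace Groth.Agent.S13598

/-- For a local ring A, a henselization A ⟶ S of A (S a henselian local ring, the structure map local,
and initial among local homomorphisms from A to henselian local rings) and an ideal I of A inside
the maximal ideal, the quotient S/IS with its induced algebra structure over A/I is a henselization
of A/I. (The local-ring and local-homomorphism instances on the quotients hold automatically; they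
are taken as hypotheses only so that the conclusion can be stated.) -/
theorem result {A S : Type u} [CommRing A] [IsLocalRing A] [CommRing S]
    [IsLocalRing S] [Algebra A S] [IsLocalHom (algebraMap A S)] [Hensel.IsHenselization A S]
    (I : Ideal A) (hI : I ≤ IsLocalRing.maximalIdeal A)
    [IsLocalRing (A ⧸ I)] [IsLocalRing (S ⧸ I.map (algebraMap A S))]
    [IsLocalHom (algebraMap (A ⧸ I) (S ⧸ I.map (algebraMap A S)))] :
    Hensel.IsHenselization (A ⧸ I) (S ⧸ I.map (algebraMap A S)) := by
  have h := Groth.Agent.Hensel.isPairHenselization_quotient ((Groth.Agent.Hensel.isPairHenselization_iff_isHenselization A S).mpr ‹_›) I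
  have hm : (IsLocalRing.maximalIdeal A).map (Ideal.Quotient.mk I) = IsLocalRing.maximalIdeal (A ⧸ I) := by
    refine le_antisymm ?_ fun x hx => ?_
    · exact IsLocalRing.le_maximalIdeal fun h => by
        have := congrArg (Ideal.comap (Ideal.Quotient.mk I)) h
        rw [Ideal.comap_map_of_surjective _ Ideal.Quotient.mk_surjective, ← RingHom.ker_eq_comap_bot, Ideal.mk_ker, sup_eq_left.mpr hI, Ideal.comap_top] at this
        exact (IsLocalRing.maximalIdeal.isMaximal A).ne_top this
    · obtain ⟨a, rfl⟩ := Ideal.Quotient.mk_surjective x
      exact Ideal.mem_map_of_mem _ fun ha => hx (ha.map _)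
  rw [hm] at h
  exact (Groth.Agent.Hensel.isPairHenselization_iff_isHenselization (A ⧸ I) _).mp h

end Groth.Agent.S13598
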