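import Groth.Statements.S6278
import Mathlib

set_option autoImplicit false
universe u
open CAlg

namespace Groth.Agent.S6278

/-- A normal ring R (all localizations at primes are integrally closed domains) is integrally closed in
its total ring of fractions. -/
theorem result (R : Type u) [CommRing R] (hR : EGA4.IsNormalRing R) : IsIntegrallyClosedIn R (FractionRing R) := by
  classical
  let K := FractionRing R
  refine isIntegrallyClosedIn_iff.mpr ⟨IsFractionRing.injective R K, fun {x} hx => ?_⟩
  obtain ⟨a, ⟨s, hs⟩, rfl⟩ := IsLocalization.exists_mk'_eq (nonZeroDivisors R) x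
  let J : Ideal R := Submodule.comap (LinearMap.mulLeft R a) (Ideal.span {s})
  suffices hJ : J = ⊤ by
    have h1 : a * 1 ∈ Ideal.span {s} := (show (1 : R) ∈ J from hJ ▸ Submodule.mem_top)
    obtain ⟨c, hc⟩ := Ideal.mem_span_singleton'.mp (by simpa using h1)
    refine ⟨c, ?_⟩
    rw [IsLocalization.eq_mk'_iff_mul_eq, ← map_mul]
    exact congrArg _ hc
  by_contra hJ
  obtain ⟨p, hp, hle⟩ := Ideal.exists_le_maximal J hJ
  haveI := hp.isPrime
  obtain ⟨hdom, hic⟩ := hR p
  let Rp := Localization.AtPrime p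
  let L := FractionRing Rp
  have hs0 : algebraMap R Rp s ≠ 0 := by
    intro h0
    obtain ⟨t, ht⟩ := (IsLocalization.map_eq_zero_iff p.primeCompl Rp s).mp h0
    exact t.2 (((mem_nonZeroDivisors_iff_right.mp hs) t ht).symm ▸ p.zero_mem)
  have hmem : ∀ y : nonZeroDivisors R, IsUnit (algebraMap R L y) := by
    intro y
    refine isUnit_iff_ne_zero.mpr fun h0 => ?_
    rw [IsScalarTower.algebraMap_apply R Rp L, map_eq_zero_iff _ (IsFractionRing.injective Rp L)] at h0
    obtain ⟨t, ht⟩ := (IsLocalization.map_eq_zero_iff p.primeCompl Rp (y : R)).mp h0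
    exact t.2 (((mem_nonZeroDivisors_iff_right.mp y.2) t ht).symm ▸ p.zero_mem)
  let φ : K →ₐ[R] L := IsLocalization.liftAlgHom (M := nonZeroDivisors R) (f := Algebra.ofId R L) hmem
  have hint : IsIntegral Rp (φ (IsLocalization.mk' K a (⟨s, hs⟩ : nonZeroDivisors R))) := (hx.map φ).tower_top
  obtain ⟨y, hy⟩ := IsIntegrallyClosed.algebraMap_eq_of_integral hint
  have h2 : y * algebraMap R Rp s = algebraMap R Rp a := by
    apply IsFractionRing.injective Rp L
    rw [map_mul, hy, ← IsScalarTower.algebraMap_apply, ← IsScalarTower.algebraMap_apply, ← φ.commutes s,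
      ← φ.commutes a, ← map_mul]
    congr 1
    exact IsLocalization.mk'_spec K a ⟨s, hs⟩
  obtain ⟨⟨b, t⟩, hbt⟩ := IsLocalization.surj p.primeCompl y
  have h3 : algebraMap R Rp (a * t) = algebraMap R Rp (b * s) := by
    rw [map_mul, map_mul, ← h2, ← hbt]; ring
  obtain ⟨u, hu⟩ := (IsLocalization.eq_iff_exists p.primeCompl Rp).mp h3
  refine (p.primeCompl.mul_mem u.2 t.2) (hle ?_)
  show a * ((u : R) * t) ∈ Ideal.span {s}
  exact Ideal.mem_span_singleton'.mpr ⟨(u : R) * b, by linear_combination -hu⟩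

end Groth.Agent.S6278
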