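import Groth.Statements.S3403
import Groth.Agent.EGA41Lib.ConsX

set_option autoImplicit false
open CategoryTheory AlgebraicGeometry
universe u
open EGA41

namespace Groth.Agent.S3403

/-- Let X be a scheme, E an ind-constructible subset of X and x a point of X. Then x is an interior
point of E if and only if every generization of x belongs to E. -/
theorem result (X : Scheme.{u}) (E : Set X)
    (hE : ProCons.IsIndConstructible E) (x : X) :
    x ∈ interior E ↔ ∀ x' : X, x' ⤳ x → x' ∈ E := by
  refine ⟨fun hx x' hx' => interior_subset (hx'.mem_open isOpen_interior hx), fun h => ?_⟩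
  by_contra hni
  rw [← Set.mem_compl_iff, ← closure_compl] at hni
  obtain ⟨z, hz, hzx⟩ := ProConsLib.exists_specializes_of_mem_closure (EGA41Lib.ind_iff_compl.mp hE) hni
  exact hz (h z hzx)

end Groth.Agent.S3403
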