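import Groth.Statements.S5094
import Groth.Agent.Triage.ZMTBirPt
import Mathlib.AlgebraicGeometry.Morphisms.Separated
import Mathlib.AlgebraicGeometry.Morphisms.ClosedImmersion

set_option autoImplicit false
universe u
open CategoryTheory CategoryTheory.Limits AlgebraicGeometry TopologicalSpace
open Lim8

set_option backward.isDefEq.respectTransparency false
set_option backward.isDefEq.respectTransparency.types false
namespace Groth.Agent.S5094

/-- Let X and Y be integral schemes and f : X → Y a separated morphism, locally of finite type and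
birational (f sends the generic point of X to the generic point of Y and its stalk map there, the
induced homomorphism of function fields, is an isomorphism). Let y be a normal point of Y (the local
ring O_{Y,y} is integrally closed) and suppose that some point of the fibre f⁻¹(y) is isolated in
that fibre. Then y has an open neighbourhood U such that the restriction f⁻¹(U) → U of f is an
isomorphism. -/
theorem result {X Y : Scheme.{u}} [IsIntegral X]
    [IsIntegral Y] (f : X ⟶ Y) [IsSeparated f] [LocallyOfFiniteType f]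
    (hgen : f (genericPoint X) = genericPoint Y) (hbir : IsIso (f.stalkMap (genericPoint X)))
    (y : ↥Y) (hy : IsIntegrallyClosed ↑(Y.presheaf.stalk y))
    (x : ↥(f.fiber y)) (hx : IsOpen ({x} : Set ↥(f.fiber y))) :
    ∃ U : Y.Opens, y ∈ U ∧ IsIso (f ∣_ U) := by
  obtain ⟨x₀, hx₀, rfl⟩ : ∃ (x₀ : X) (h : f x₀ = y), (f.fiberHomeo y).symm ⟨x₀, h⟩ = x :=
    ⟨(f.fiberHomeo y x).1, (f.fiberHomeo y x).2, (f.fiberHomeo y).symm_apply_apply x⟩
  subst hx₀
  have hqf : f.QuasiFiniteAt x₀ := Scheme.Hom.quasiFiniteAt_iff_isOpen_singleton_asFiber.2 hx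
  -- the stalk map is an isomorphism
  obtain ⟨V, hV, hxV, -⟩ := exists_isAffineOpen_mem_and_subset (x := f x₀) (U := ⊤) trivial
  obtain ⟨W, hW, hxW, hWV⟩ := exists_isAffineOpen_mem_and_subset (x := x₀) (U := f ⁻¹ᵁ V) hxV
  replace hWV : W ≤ f ⁻¹ᵁ V := hWV
  haveI : Nonempty W := ⟨⟨x₀, hxW⟩⟩
  haveI : Nonempty V := ⟨⟨f x₀, hxV⟩⟩
  haveI : IsAffine W.toScheme := hW
  haveI : IsAffine V.toScheme := hV
  let g := f.resLE V W hWV
  have hgι : g ≫ V.ι = W.ι ≫ f := Scheme.Hom.resLE_comp_ι f hWV
  haveI : LocallyOfFiniteType g := by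
    have : LocallyOfFiniteType (g ≫ V.ι) := by rw [hgι]; infer_instance
    exact locallyOfFiniteType_of_comp _ V.ι
  have hopen : ∀ (Z : Scheme.{u}) (U : Z.Opens) (z : U.toScheme), IsIso (U.ι.stalkMap z) := fun Z U z =>
    (IsOpenImmersion.iff_isIso_stalkMap.mp (inferInstance : IsOpenImmersion U.ι)).2 z
  have hW' : W.ι (genericPoint W.toScheme) = genericPoint X := genericPoint_eq_of_isOpenImmersion W.ι
  have hV' : V.ι (genericPoint V.toScheme) = genericPoint Y := genericPoint_eq_of_isOpenImmersion V.ι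
  have h1 : g (genericPoint W.toScheme) = genericPoint V.toScheme := by
    apply V.ι.isOpenEmbedding.injective
    rw [hV', ← Scheme.Hom.comp_apply, hgι, Scheme.Hom.comp_apply, hW', hgen]
  have hiff : ∀ z : W.toScheme, IsIso (g.stalkMap z) ↔ IsIso (f.stalkMap (W.ι z)) := by
    intro z
    haveI := hopen _ W z
    haveI := hopen _ V (g z)
    have e := Scheme.Hom.stalkMap_congr_hom _ (W.ι ≫ f) hgι z
    rw [Scheme.Hom.stalkMap_comp, Scheme.Hom.stalkMap_comp] at e
    constructor
    · intro h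
      have h0 : IsIso (V.ι.stalkMap (g z) ≫ g.stalkMap z) := inferInstance
      rw [e] at h0
      have h' : IsIso (f.stalkMap (W.ι z) ≫ W.ι.stalkMap z) :=
        @IsIso.of_isIso_comp_left _ _ _ _ _ _ _ inferInstance h0
      exact @IsIso.of_isIso_comp_right _ _ _ _ _ _ _ inferInstance h'
    · intro h
      have h' : IsIso (V.ι.stalkMap (g z) ≫ g.stalkMap z) := by rw [e]; infer_instance
      exact @IsIso.of_isIso_comp_left _ _ _ _ _ _ _ inferInstance h'
  have h2 : IsIso (g.stalkMap (genericPoint W.toScheme)) := by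
    rw [hiff, hW']
    exact hbir
  have hstalk : IsIso (f.stalkMap x₀) := by
    refine (hiff ⟨x₀, hxW⟩).1 (Groth.Agent.Triage.ZMTBirPt.isIso_stalkMap g h1 h2 ⟨x₀, hxW⟩ ?_ ?_)
    · rw [← Scheme.Hom.quasiFiniteAt_comp_iff (g := V.ι), hgι, Scheme.Hom.quasiFiniteAt_comp_iff_of_isOpenImmersion]
      exact hqf
    · have : V.ι (g ⟨x₀, hxW⟩) = f x₀ := by rw [← Scheme.Hom.comp_apply, hgι]; rfl
      exact IsIntegrallyClosed.of_equiv (V.stalkIso (g ⟨x₀, hxW⟩)).commRingCatIsoToRingEquiv.symm
        (h := show IsIntegrallyClosed (Y.presheaf.stalk (V.ι (g ⟨x₀, hxW⟩))) by rw [this]; exact hy)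
  -- spread out the inverse
  haveI := hstalk
  obtain ⟨U, hyU, s, hs, hsf⟩ := spread_out_of_isGermInjective' (𝟙 Y) f
    (Spec.map (inv (f.stalkMap x₀)) ≫ X.fromSpecStalk x₀) (by
      rw [Category.comp_id, Category.assoc, ← Scheme.SpecMap_stalkMap_fromSpecStalk, ← Spec.map_comp_assoc,
        IsIso.hom_inv_id, Spec.map_id, Category.id_comp])
  rw [Category.comp_id] at hsf
  have hle : ⊤ ≤ s ⁻¹ᵁ (f ⁻¹ᵁ U) := by
    intro u _
    show (s ≫ f) u ∈ U
    rw [hsf]
    exact u.2
  let P : X.Opens := f ⁻¹ᵁ U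
  let s' : U.toScheme ⟶ P.toScheme := IsOpenImmersion.lift P.ι s (by
    rintro _ ⟨u, rfl⟩
    rw [Scheme.Opens.range_ι]
    exact hle trivial)
  have hs' : s' ≫ (f ∣_ U) = 𝟙 _ := by
    rw [← cancel_mono U.ι, Category.assoc, morphismRestrict_ι, IsOpenImmersion.lift_fac_assoc, hsf,
      Category.id_comp]
  haveI : IsClosedImmersion s' := by
    haveI : IsSeparated (f ∣_ U) := inferInstance
    haveI : IsClosedImmersion (s' ≫ (f ∣_ U)) := by rw [hs']; infer_instance
    exact IsClosedImmersion.of_comp s' (f ∣_ U)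
  have hx₀P : x₀ ∈ P := hyU
  haveI : Nonempty P := ⟨⟨x₀, hx₀P⟩⟩
  haveI : Surjective s' := by
    refine ⟨fun p => ?_⟩
    suffices genericPoint P.toScheme ∈ Set.range s' by
      exact ((genericPoint_specializes p).mem_closed s'.isClosedEmbedding.isClosed_range this : _)
    have hξ : genericPoint X ∈ Set.range (Spec.map (inv (f.stalkMap x₀)) ≫ X.fromSpecStalk x₀) := by
      have hb := (Spec.map (inv (f.stalkMap x₀))).surjective
      have : genericPoint X ∈ Set.range (X.fromSpecStalk x₀) := by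
        rw [Scheme.range_fromSpecStalk]; exact genericPoint_specializes x₀
      obtain ⟨q, hq⟩ := this
      obtain ⟨q', rfl⟩ := hb q
      exact ⟨q', hq⟩
    obtain ⟨q, hq⟩ := hξ
    refine ⟨U.fromSpecStalkOfMem (f x₀) hyU q, P.ι.isOpenEmbedding.injective ?_⟩
    rw [genericPoint_eq_of_isOpenImmersion P.ι, ← Scheme.Hom.comp_apply, IsOpenImmersion.lift_fac]
    exact (ConcreteCategory.congr_hom (congrArg (fun φ : _ ⟶ X => φ.base) hs) q).symm.trans hq
  haveI : IsIso s' := isIso_of_isClosedImmersion_of_surjective s'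
  exact ⟨U, hyU, by rw [← isIso_comp_left_iff s', hs']; infer_instance⟩

end Groth.Agent.S5094
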