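import Groth.Statements.S9688
import Groth.Agent.Triage.NormUP
import Mathlib.AlgebraicGeometry.Morphisms.Finite

set_option autoImplicit false
universe u
open CategoryTheory CategoryTheory.Limits AlgebraicGeometry
open Mor

set_option backward.isDefEq.respectTransparency false
set_option backward.isDefEq.respectTransparency.types false
namespace Groth.Agent.S9688

open Groth.Agent.NormFieldX TopologicalSpace in
theorem aux (X : Scheme.{u}) [IsIntegral X]
    (hJ : ∀ (U : X.Opens), IsAffineOpen U → ∀ (hne : Nonempty ↥U),
      @CAlg.IsN2 ↑Γ(X, U) _ (@IsIntegral.component_integral X _ U hne))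
    (φ : X.functionField →+* X.functionField) (hφ : φ = RingHom.id _)
    (f : Spec X.functionField ⟶ X) [QuasiCompact f] [QuasiSeparated f]
    (hf : f = pnt X X.functionField φ) : IsFinite f.fromNormalization := by
  subst hf
  show IsFinite (ν X X.functionField φ)
  refine ⟨fun U hU => ?_⟩
  rcases (U : Set X).eq_empty_or_nonempty with he | ⟨x, hx⟩
  · have e : U = ⊥ := Opens.ext he
    subst e
    haveI : Subsingleton Γ(norm X X.functionField φ, ν X X.functionField φ ⁻¹ᵁ ⊥) := by
      rw [Scheme.Hom.preimage_bot]; infer_instance
    exact RingHom.Finite.of_surjective _ fun z => ⟨0, Subsingleton.elim _ _⟩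
  have hη := genericPoint_mem_of_nonempty hx
  haveI : Nonempty U := ⟨⟨x, hx⟩⟩
  let A := Γ(X, U)
  letI : Algebra A X.functionField := (baseHom (K := X.functionField) φ hη).toAlgebra
  haveI : IsFractionRing A X.functionField := by
    have h := functionField_isFractionRing_of_isAffineOpen X U hU
    subst hφ
    exact h
  let ee : FractionRing A ≃ₐ[A] X.functionField := IsLocalization.algEquiv (nonZeroDivisors A) _ _
  letI : Algebra (FractionRing A) X.functionField := ee.toRingEquiv.toRingHom.toAlgebra
  haveI : IsScalarTower A (FractionRing A) X.functionField := IsScalarTower.of_algebraMap_eq fun a =>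
    (ee.commutes a).symm
  haveI : FiniteDimensional (FractionRing A) X.functionField :=
    RingHom.finite_algebraMap.1 (RingHom.Finite.of_surjective _ ee.surjective)
  haveI hfin : Module.Finite A (integralClosure A X.functionField) :=
    hJ U hU ⟨⟨x, hx⟩⟩ X.functionField inferInstance
  let e := secEquiv (K := X.functionField) (φ := φ) hU hη
  have h2 : ((ν X X.functionField φ).app U).hom =
      e.symm.toRingHom.comp (algebraMap A (integralClosure A X.functionField)) :=
    RingHom.ext fun a => by
      show _ = e.symm _
      rw [RingEquiv.eq_symm_apply]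
      exact Subtype.ext (evalK_app hη a)
  rw [h2]
  exact (RingHom.Finite.of_surjective _ e.symm.surjective).comp (RingHom.finite_algebraMap.2 hfin)

/-- Let X be an integral Japanese scheme (every nonempty affine open has Japanese, i.e. N-2, coordinate
ring). Then the normalization morphism X^ν ⟶ X is finite. (The quasi-compactness and
quasi-separatedness binders on Spec K(X) ⟶ X always hold; they are only needed to form the
normalization.) -/
theorem result (X : Scheme.{u}) [IsIntegral X] [QuasiCompact (X.fromSpecStalk (genericPoint ↥X))] [QuasiSeparated (X.fromSpecStalk (genericPoint ↥X))]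
    (hJ : ∀ (U : X.Opens), IsAffineOpen U → ∀ (hne : Nonempty ↥U),
      @CAlg.IsN2 ↑Γ(X, U) _ (@IsIntegral.component_integral X _ U hne)) :
    IsFinite (Curv2.normalizationι X) := by
  have e : X.fromSpecStalk (genericPoint ↥X) = Groth.Agent.NormFieldX.pnt X X.functionField (RingHom.id _) := by
    rw [Groth.Agent.NormFieldX.pnt]
    exact ((congrArg (· ≫ _) (Spec.map_id _)).trans (Category.id_comp _)).symm
  exact aux X hJ (RingHom.id _) rfl _ e

end Groth.Agent.S9688
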