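import Groth.Statements.S5067
import Mathlib.AlgebraicGeometry.Morphisms.Etale
import Mathlib.AlgebraicGeometry.Morphisms.FlatMono
import Mathlib.AlgebraicGeometry.Morphisms.QuasiFinite
import Mathlib.AlgebraicGeometry.Morphisms.UniversallyInjective
import Mathlib.AlgebraicGeometry.Morphisms.UniversallyOpen
import Mathlib.AlgebraicGeometry.PullbackCarrier
import Mathlib.Topology.DiscreteSubset
import Mathlib.RingTheory.Unramified.LocalStructure
import Mathlib.RingTheory.RingHom.QuasiFinite

set_option autoImplicit false
open CategoryTheory AlgebraicGeometry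
universe u
open Unram

namespace Groth.Agent.S5067
open AlgebraicGeometry CategoryTheory Limits

theorem point_ext {X Y : Scheme.{u}} (f : X ⟶ Y) (η : X)
    (hbir : Function.Bijective (f.residueFieldMap η).hom) (Ω : Type u) [Field Ω]
    (p q : Spec (CommRingCat.of Ω) ⟶ X) (hp : p (IsLocalRing.closedPoint Ω) = η)
    (hq : q (IsLocalRing.closedPoint Ω) = η) (h : p ≫ f = q ≫ f) : p = q := by
  have key : ∀ g : Spec (CommRingCat.of Ω) ⟶ X, g (IsLocalRing.closedPoint Ω) = η →
      ∃ φ : X.residueField η ⟶ CommRingCat.of Ω, g = Spec.map φ ≫ X.fromSpecResidueField η := by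
    intro g hg
    obtain ⟨⟨x, φ⟩, rfl⟩ := (Scheme.SpecToEquivOfField Ω X).symm.surjective g
    have hx : x = η := by
      rw [← hg]
      exact (Scheme.fromSpecResidueField_apply x _).symm
    subst hx
    exact ⟨φ, rfl⟩
  obtain ⟨φ, rfl⟩ := key p hp
  obtain ⟨ψ, rfl⟩ := key q hq
  haveI : IsIso (f.residueFieldMap η) :=
    (ConcreteCategory.isIso_iff_bijective (f.residueFieldMap η)).2 hbir
  simp only [Category.assoc, ← Scheme.Hom.SpecMap_residueFieldMap_fromSpecResidueField] at h
  simp only [← Category.assoc] at h
  rw [cancel_mono, ← Spec.map_comp, ← Spec.map_comp] at h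
  have h2 := Spec.map_injective h
  rw [cancel_epi] at h2
  rw [h2]

/-- Let f : X ⟶ Y be an étale separated morphism of integral schemes which maps the generic point of X
to the generic point of Y and induces a bijection between the residue fields of the generic points
(f is birational). Then f is an open immersion. -/
theorem result {X Y : Scheme.{u}} [IsIntegral X] [IsIntegral Y]
    (f : X ⟶ Y) [Etale f] [IsSeparated f] (hgen : f.base (genericPoint X) = genericPoint Y)
    (hbir : Function.Bijective (f.residueFieldMap (genericPoint X)).hom) : IsOpenImmersion f := by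
  haveI : LocallyQuasiFinite f := by
    refine (HasRingHomProperty.iff_appLE (P := @LocallyQuasiFinite)).2 fun U V e => ?_
    have h : (f.appLE U V e).hom.Etale :=
      HasRingHomProperty.appLE @Etale f inferInstance U V e
    letI := (f.appLE U V e).hom.toAlgebra
    haveI : Algebra.Etale Γ(Y, U.1) Γ(X, V.1) := h
    exact (inferInstance : Algebra.QuasiFinite Γ(Y, U.1) Γ(X, V.1))
  have hfib : ∀ x : X, f x = genericPoint Y → x = genericPoint X := fun x hx => by
    haveI : DiscreteTopology (f ⁻¹' {genericPoint Y}) :=
      isDiscrete_iff_discreteTopology.1 (f.isDiscrete_preimage_singleton _)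
    have hgX : genericPoint X ⤳ x := genericPoint_specializes x
    have h : (⟨genericPoint X, hgen⟩ : f ⁻¹' {genericPoint Y}) ⤳ ⟨x, hx⟩ :=
      (subtype_specializes_iff _ _).2 hgX
    exact (congrArg Subtype.val h.eq).symm
  have hsurj : Surjective (pullback.diagonal f) := by
    refine ⟨fun z => ?_⟩
    have hclosed : IsClosed (Set.range (pullback.diagonal f)) :=
      (Scheme.Hom.isClosedEmbedding _).isClosed_range
    obtain ⟨z', hz', hz'η⟩ := (Flat.generalizingMap (pullback.fst f f ≫ f))
      (genericPoint_specializes ((pullback.fst f f ≫ f) z))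
    refine hz'.mem_closed hclosed ?_
    have h1 : pullback.fst f f z' = genericPoint X := hfib _ (by
      rw [← Scheme.Hom.comp_apply]; exact hz'η)
    have h2 : pullback.snd f f z' = genericPoint X := hfib _ (by
      rw [← Scheme.Hom.comp_apply, ← pullback.condition]; exact hz'η)
    have heq : (pullback f f).fromSpecResidueField z' ≫ pullback.fst f f =
        (pullback f f).fromSpecResidueField z' ≫ pullback.snd f f :=
      point_ext f (genericPoint X) hbir ((pullback f f).residueField z') _ _
        ((congrArg (pullback.fst f f) (Scheme.fromSpecResidueField_apply z' _)).trans h1)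
        ((congrArg (pullback.snd f f) (Scheme.fromSpecResidueField_apply z' _)).trans h2)
        (by rw [Category.assoc, Category.assoc, pullback.condition])
    have hfac : ((pullback f f).fromSpecResidueField z' ≫ pullback.fst f f) ≫ pullback.diagonal f =
        (pullback f f).fromSpecResidueField z' := by
      apply pullback.hom_ext
      · simp
      · simp [heq]
    refine ⟨((pullback f f).fromSpecResidueField z' ≫ pullback.fst f f)
      (IsLocalRing.closedPoint ((pullback f f).residueField z')), ?_⟩
    exact (congrArg (fun g : Spec ((pullback f f).residueField z') ⟶ pullback f f =>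
      g (IsLocalRing.closedPoint ((pullback f f).residueField z'))) hfac).trans
        (Scheme.fromSpecResidueField_apply _ _)
  haveI : IsOpenImmersion (pullback.diagonal f) := inferInstance
  haveI : IsIso (pullback.diagonal f) := by
    haveI : Epi (pullback.diagonal f).base := by
      rw [TopCat.epi_iff_surjective]; exact hsurj.surj
    exact IsOpenImmersion.isIso _
  haveI : Mono f := (pullback.isIso_diagonal_iff f).1 inferInstance
  exact IsOpenImmersion.of_flat_of_mono f

end Groth.Agent.S5067
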