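import Groth.Statements.S1624
import Mathlib
import Groth.Agent.BlowPointH1.Main
import Groth.Agent.S1622

set_option autoImplicit false
universe u
open CategoryTheory CategoryTheory.Limits AlgebraicGeometry
open Resolve

namespace Groth.Agent.S1624

/-- Let A be a regular local ring of dimension two and b : X → Spec A the blowing up in the maximal
ideal. If F is a quasi-coherent O_X-module which is globally generated, then H¹(X, F) = 0. -/
theorem result (A : Type u) [CommRing A] [IsRegularLocalRing A] (hA : ringKrullDim A = 2)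
    (X : Scheme.{u}) (b : X ⟶ Spec (CommRingCat.of A)) (hb : BlowUp.IsBlowUp b (Curv2.idealSheaf A (IsLocalRing.maximalIdeal A)))
    (F : X.Modules) (hF : Coh.IsQCoh F) (hgg : Curv2.IsGloballyGenerated F) : Subsingleton (Coh.HH X F 1) := by
  haveI : IsDomain A := Groth.Agent.RegLoc6.isDomain_of_isRegularLocalRing A
  set m := IsLocalRing.maximalIdeal A with hm
  have h2 : m.spanFinrank = 2 := by
    have h := IsRegularLocalRing.spanFinrank_maximalIdeal (R := A)
    rw [hA] at h
    exact_mod_cast h
  obtain ⟨G, hG, hspan⟩ := Submodule.FG.exists_span_finset_card_eq_spanFinrank (IsNoetherian.noetherian m)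
  classical
  rw [h2, Finset.card_eq_two] at hG
  obtain ⟨x, y, hxy, rfl⟩ := hG
  simp only [Finset.coe_insert, Finset.coe_singleton] at hspan
  have hspan' : Ideal.span {x, y} = m := hspan
  have hx : x ∈ m := hspan' ▸ Ideal.subset_span (by simp)
  have hy : y ∈ m := hspan' ▸ Ideal.subset_span (by simp)
  have hlow : ∀ z : A, m ≠ Ideal.span {z} := fun z hz => by
    have h := Submodule.spanFinrank_span_le_ncard_of_finite (R := A) (M := A) (Set.finite_singleton z)
    rw [show Submodule.span A {z} = m from hz.symm, h2, Set.ncard_singleton] at h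
    omega
  have hx0 : x ≠ 0 := fun h => hlow y (by rw [← hspan', h, Ideal.span_insert_zero])
  have hy0 : y ≠ 0 := fun h => hlow x (by rw [← hspan', h, Set.pair_comm, Ideal.span_insert_zero])
  haveI := (Groth.Agent.S1622.result A hA X b hb).1
  haveI : IsIntegral X := by
    rcases Groth.Agent.Lib.BlowUpInt.isEmpty_or_birational hb with hX | ⟨hX, -, -⟩
    · exact hX.elim (Classical.arbitrary _)
    · exact hX
  haveI : IsProper b := Groth.Agent.BlowUpLib.isProper_of_isBlowUp (C := Curv2.idealSheaf A m) hb fun V => by
    haveI : IsNoetherianRing Γ(Spec (CommRingCat.of A), V.1) :=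
      IsLocallyNoetherian.component_noetherian V
    exact IsNoetherian.noetherian _
  obtain ⟨e, he⟩ := Groth.Agent.BlowUpLib.exists_iso (Groth.Agent.BlowUpLib.isBlowUp_local m) hb
  exact BlowPointH1.subsingleton_HH_one e b ⟨x, hx⟩ ⟨y, hy⟩ hx0 hy0 hspan'.symm he hF hgg

end Groth.Agent.S1624
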