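import Groth.Statements.S7328
import Groth.Agent.TraceBound.Bound

set_option autoImplicit false
set_option backward.isDefEq.respectTransparency false
set_option backward.isDefEq.respectTransparency.types false
set_option maxHeartbeats 1000000
universe u
open CategoryTheory CategoryTheory.Limits AlgebraicGeometry
open Resolve
open Groth.Agent

namespace Groth.Agent.S7328

/-- The torsion bound for an arbitrary nonzero element. -/
theorem exists_torsion_bound {S : CommRingCat.{u}} [IsDomain S] [IsNoetherianRing S] [IsIntegrallyClosed S]
    [IsLocalRing S] (hN : CAlg.IsNagata S) (hheight : (IsLocalRing.maximalIdeal S).height = 2) {d : S} (hd : d ≠ 0) :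
    ∃ n : ℕ, ∀ (M : NormSeq.Model (Spec S)) [IsProper M.G], Pi1.IsNormalScheme M.Z →
      (∃ U : (Spec S).Opens, (U : Set (Spec S)).Nonempty ∧ IsIso (M.G ∣_ U)) →
      letI := QCoh.modHH (Coh.toGlobal M.G) (Coh.structureModule M.Z) 1
      Module.length S ↥(Submodule.torsionBy S (Coh.HH M.Z (Coh.structureModule M.Z) 1) d) ≤ (n : ℕ∞) := by
  by_cases hu : IsUnit d
  · refine ⟨0, fun M _ _ _ => le_of_eq ?_⟩
    let := QCoh.modHH (Coh.toGlobal M.G) (Coh.structureModule M.Z) 1
    rw [Nat.cast_zero, Module.length_eq_zero_iff]
    refine subsingleton_of_forall_eq 0 fun z => Subtype.ext ?_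
    obtain ⟨v, rfl⟩ := hu
    have h : (v : S) • z.1 = 0 := z.2
    show z.1 = 0
    rw [← one_smul S z.1, ← v.inv_mul, mul_smul, h, smul_zero]
  · exact TorBound.exists_bound hN hheight hd ((IsLocalRing.mem_maximalIdeal d).2 hu)

theorem height_eq_two {A : Type u} [CommRing A] [IsLocalRing A] [IsNoetherianRing A] (hdim : ringKrullDim A = 2) :
    (IsLocalRing.maximalIdeal A).height = 2 := by
  have h := IsLocalRing.maximalIdeal_height_eq_ringKrullDim (R := A)
  rw [hdim] at h
  exact WithBot.coe_eq_coe.1 h

theorem aux {R S : CommRingCat.{u}} [IsDomain R] [IsDomain S]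
    [IsLocalRing R] [IsLocalRing S] [IsNoetherianRing R] [IsNoetherianRing S] [IsIntegrallyClosed R] [IsIntegrallyClosed S]
    (hNA : CAlg.IsNagata R) (hNB : CAlg.IsNagata S) (hdA : ringKrullDim R = 2) (hdB : ringKrullDim S = 2)
    [Algebra R S] [Module.Finite R S]
    [Algebra (FractionRing R) (FractionRing S)]
    (hcompat : ∀ a : R, algebraMap (FractionRing R) (FractionRing S) (algebraMap R (FractionRing R) a) =
      algebraMap S (FractionRing S) (algebraMap R S a))
    [Algebra.IsSeparable (FractionRing R) (FractionRing S)]
    (hA : (∃ N : ℕ, ∀ (X : Scheme.{u}) [X.Over (Spec (CommRingCat.of R))], IsProper (X ↘ Spec (CommRingCat.of R)) →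
        IsIntegral X → Pi1.IsNormalScheme X →
        (∃ U : (Spec (CommRingCat.of R)).Opens, (U : Set (Spec (CommRingCat.of R))).Nonempty ∧ IsIso ((X ↘ Spec (CommRingCat.of R)) ∣_ U)) →
        Module.length R (Coh.HH X (Coh.structureModule X) 1) ≤ (N : ℕ∞))) :
    (∃ N : ℕ, ∀ (X : Scheme.{u}) [X.Over (Spec (CommRingCat.of S))], IsProper (X ↘ Spec (CommRingCat.of S)) →
        IsIntegral X → Pi1.IsNormalScheme X →
        (∃ U : (Spec (CommRingCat.of S)).Opens, (U : Set (Spec (CommRingCat.of S))).Nonempty ∧ IsIso ((X ↘ Spec (CommRingCat.of S)) ∣_ U)) →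
        Module.length S (Coh.HH X (Coh.structureModule X) 1) ≤ (N : ℕ∞)) := by
  obtain ⟨NA, hNA'⟩ := hA
  let eR : FractionRing R ≃+* (Spec R).functionField :=
    (IsLocalization.algEquiv (nonZeroDivisors R) (FractionRing R) (Spec R).functionField).toRingEquiv
  let eS : FractionRing S ≃+* (Spec S).functionField :=
    (IsLocalization.algEquiv (nonZeroDivisors S) (FractionRing S) (Spec S).functionField).toRingEquiv
  have heR : ∀ a : R, eR (algebraMap R (FractionRing R) a) = algebraMap R (Spec R).functionField a := fun a =>
    (IsLocalization.algEquiv (nonZeroDivisors R) (FractionRing R) (Spec R).functionField).commutes a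
  have heS : ∀ b : S, eS (algebraMap S (FractionRing S) b) = algebraMap S (Spec S).functionField b := fun b =>
    (IsLocalization.algEquiv (nonZeroDivisors S) (FractionRing S) (Spec S).functionField).commutes b
  letI : Algebra (Spec R).functionField (Spec S).functionField :=
    ((eS.toRingHom.comp (algebraMap (FractionRing R) (FractionRing S))).comp eR.symm.toRingHom).toAlgebra
  letI : Algebra R (Spec S).functionField := ((algebraMap S (Spec S).functionField).comp (algebraMap R S)).toAlgebra
  haveI : IsScalarTower R S (Spec S).functionField := IsScalarTower.of_algebraMap_eq fun _ => rfl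
  haveI : IsScalarTower R (Spec R).functionField (Spec S).functionField := IsScalarTower.of_algebraMap_eq fun r => by
    show algebraMap S (Spec S).functionField (algebraMap R S r) =
      eS (algebraMap (FractionRing R) (FractionRing S) (eR.symm (algebraMap R (Spec R).functionField r)))
    rw [← heR, eR.symm_apply_apply, hcompat, heS]
  haveI : Algebra.IsSeparable (Spec R).functionField (Spec S).functionField :=
    Algebra.IsSeparable.of_equiv_equiv eR eS (RingHom.ext fun x => by
      show eS (algebraMap (FractionRing R) (FractionRing S) (eR.symm (eR x))) = eS (algebraMap _ _ x)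
      rw [eR.symm_apply_apply])
  haveI : FiniteDimensional (Spec R).functionField (Spec S).functionField := by
    obtain ⟨m, b, hb⟩ := Module.Finite.exists_fin (R := R) (M := S)
    let E := IntermediateField.adjoin (Spec R).functionField
      (Set.range fun i => algebraMap S (Spec S).functionField (b i))
    haveI : Finite (Set.range fun i => algebraMap S (Spec S).functionField (b i)) := (Set.finite_range _).to_subtype
    haveI : FiniteDimensional (Spec R).functionField E :=
      IntermediateField.finiteDimensional_adjoin fun x _ => Algebra.IsIntegral.isIntegral x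
    have hmem : ∀ s : S, algebraMap S (Spec S).functionField s ∈ E := fun s => by
      have hs : s ∈ Submodule.span R (Set.range b) := hb ▸ Submodule.mem_top
      induction hs using Submodule.span_induction with
      | mem x hx =>
        obtain ⟨i, rfl⟩ := hx
        exact IntermediateField.subset_adjoin _ _ ⟨i, rfl⟩
      | zero => rw [map_zero]; exact zero_mem _
      | add x y _ _ hx hy => rw [map_add]; exact add_mem hx hy
      | smul r x _ hx =>
        rw [Algebra.smul_def, map_mul, ← IsScalarTower.algebraMap_apply R S (Spec S).functionField,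
          IsScalarTower.algebraMap_apply R (Spec R).functionField (Spec S).functionField]
        exact mul_mem (E.algebraMap_mem _) hx
    have htop : E = ⊤ := eq_top_iff.2 fun x _ => by
      obtain ⟨p, q, -, rfl⟩ := IsFractionRing.div_surjective (A := S) x
      exact div_mem (hmem p) (hmem q)
    haveI : FiniteDimensional (Spec R).functionField
      (⊤ : IntermediateField (Spec R).functionField (Spec S).functionField) := htop ▸ ‹FiniteDimensional _ E›
    exact Module.Finite.equiv (IntermediateField.topEquiv (F := (Spec R).functionField)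
      (E := (Spec S).functionField)).toLinearEquiv
  have hR : NormSeq.Nice (Spec R) := NormSeq.nice_of_finBir (NormSeq.finBir_of_isNagata hNA) (le_of_eq hdA)
  have hbnd : ∀ (N : NormSeq.Model (Spec R)) [IsProper N.G], Pi1.IsNormalScheme N.Z →
      (∃ U : (Spec R).Opens, (U : Set (Spec R)).Nonempty ∧ IsIso (N.G ∣_ U)) →
      letI := QCoh.modHH (Coh.toGlobal N.G) (Coh.structureModule N.Z) 1
      Module.length R (Coh.HH N.Z (Coh.structureModule N.Z) 1) ≤ (NA : ℕ∞) := fun N hP hNn hU => by
    letI : N.Z.Over (Spec (CommRingCat.of R)) := ⟨N.G⟩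
    exact hNA' N.Z hP N.integral hNn hU
  obtain ⟨n, ω, ω', d, hd0, hω, hdual, hd⟩ := TraceBound.exists_basis (R := R) (S := S)
  obtain ⟨Nd, hNd⟩ := exists_torsion_bound (S := S) hNB (height_eq_two hdB) hd0
  refine ⟨Nd + n * NA, fun X _ hP hI hNn hU => ?_⟩
  haveI := hI
  haveI := hP
  obtain ⟨hgen, hbir⟩ := RatSing.birational_of_isIso (X ↘ Spec (CommRingCat.of S)) hU
  let M : NormSeq.Model (Spec S) :=
    { Z := X, G := X ↘ Spec (CommRingCat.of S), gen := hgen, bir := hbir }
  haveI : IsProper M.G := hP
  have h := TraceBound.length_le (M := M) hNn hR hω hdual hd hbnd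
  rw [Nat.cast_add]
  exact h.trans (add_le_add (hNd M hNn hU) le_rfl)


/-- Suppose A and B are two-dimensional local normal Nagata domains and A → B is an injective, finite,
local ring map for which the fraction field of B is separable over that of A. If A admits reduction
to rational singularities (the lengths of the A-modules H^1(X, O_X), over all proper morphisms X →
Spec A from an integral normal scheme which are an isomorphism over a nonempty open, are bounded),
then B admits it as well (the same lengths for B are bounded). The fraction field of B is given an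
algebra structure over that of A compatible with A → B. -/
theorem result (A B : Type u) [CommRing A] [CommRing B] [IsDomain A] [IsDomain B]
    [IsLocalRing A] [IsLocalRing B] [IsNoetherianRing A] [IsNoetherianRing B] [IsIntegrallyClosed A] [IsIntegrallyClosed B]
    (hNA : CAlg.IsNagata A) (hNB : CAlg.IsNagata B) (hdA : ringKrullDim A = 2) (hdB : ringKrullDim B = 2)
    [Algebra A B] [Module.Finite A B] (hinj : Function.Injective (algebraMap A B)) [IsLocalHom (algebraMap A B)]
    [Algebra (FractionRing A) (FractionRing B)]
    (hcompat : ∀ a : A, algebraMap (FractionRing A) (FractionRing B) (algebraMap A (FractionRing A) a) =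
      algebraMap B (FractionRing B) (algebraMap A B a))
    [Algebra.IsSeparable (FractionRing A) (FractionRing B)]
    (hA : (∃ N : ℕ, ∀ (X : Scheme.{u}) [X.Over (Spec (CommRingCat.of A))], IsProper (X ↘ Spec (CommRingCat.of A)) →
        IsIntegral X → Pi1.IsNormalScheme X →
        (∃ U : (Spec (CommRingCat.of A)).Opens, (U : Set (Spec (CommRingCat.of A))).Nonempty ∧ IsIso ((X ↘ Spec (CommRingCat.of A)) ∣_ U)) →
        Module.length A (Coh.HH X (Coh.structureModule X) 1) ≤ (N : ℕ∞))) :
    (∃ N : ℕ, ∀ (X : Scheme.{u}) [X.Over (Spec (CommRingCat.of B))], IsProper (X ↘ Spec (CommRingCat.of B)) →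
        IsIntegral X → Pi1.IsNormalScheme X →
        (∃ U : (Spec (CommRingCat.of B)).Opens, (U : Set (Spec (CommRingCat.of B))).Nonempty ∧ IsIso ((X ↘ Spec (CommRingCat.of B)) ∣_ U)) →
        Module.length B (Coh.HH X (Coh.structureModule X) 1) ≤ (N : ℕ∞)) := by
  exact aux (R := CommRingCat.of A) (S := CommRingCat.of B) hNA hNB hdA hdB hcompat hA

end Groth.Agent.S7328
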