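import Groth.Statements.S18939
import Mathlib
import Groth.Agent.DefGlueLib.Rel

set_option autoImplicit false
universe u
open LCI

namespace Groth.Agent.S18939

open Groth.Agent.DefGlueLib

theorem apply_mem_of_mem_trivR {R : Type u} [CommRing R] {σ : Type} [DecidableEq σ] (f : σ → R) (I : Ideal R)
    (hf : ∀ i, f i ∈ I) {v : σ → R} (h : v ∈ trivR f) (i : σ) : v i ∈ I := by
  refine (Submodule.span_le (p := Submodule.comap (LinearMap.proj i : (σ → R) →ₗ[R] R) I)).2 ?_ h
  rintro _ ⟨⟨a, b⟩, rfl⟩
  show (f b • Pi.single a (1 : R) - f a • Pi.single b (1 : R) : σ → R) i ∈ I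
  simp only [Pi.sub_apply, Pi.smul_apply, smul_eq_mul]
  exact I.sub_mem (I.mul_mem_right _ (hf b)) (I.mul_mem_right _ (hf a))

theorem mem_of_relation {R : Type u} [CommRing R] {r : ℕ} (g : Fin r → R) (I : Ideal R) (hg : ∀ i, g i ∈ I)
    (h : LCI.IsKoszulRegularSeq R (List.ofFn g)) (u : Fin r → R) (hu : ∑ i, u i * g i = 0) (i : Fin r) :
    u i ∈ I := by
  have hlen : (List.ofFn g).length = r := List.length_ofFn
  have hget : ∀ j : Fin (List.ofFn g).length, (List.ofFn g)[j] = g (Fin.cast hlen j) := fun j => by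
    simp [Fin.getElem_fin, Fin.cast]
  have h0 : dot (fun j : Fin (List.ofFn g).length => (List.ofFn g)[j]) (fun j => u (Fin.cast hlen j)) = 0 := by
    rw [dot_apply, ← hu]
    exact Fintype.sum_equiv (finCongr hlen) _ _ fun j => by rw [hget]; rfl
  have := apply_mem_of_mem_trivR _ I (fun j => by rw [hget]; exact hg _)
    (mem_trivR_of_isKoszulRegularSeq h h0) (Fin.cast hlen.symm i)
  simpa using this

/-- Let R be a commutative ring, I a proper ideal of R and f_1, …, f_r a Koszul-regular sequence of
elements of I generating I. Then I/I² is a free R/I-module of rank r, with basis the classes of f_1,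
…, f_r. -/
theorem result {R : Type u} [CommRing R] {I : Ideal R} (hI : I ≠ ⊤)
    (r : ℕ) (f : Fin r → I) (hf : LCI.IsKoszulRegularSeq R (List.ofFn (fun i => (f i : R))))
    (hfI : Ideal.span (Set.range (fun i => (f i : R))) = I) :
    ∃ b : Module.Basis (Fin r) (R ⧸ I) I.Cotangent, ∀ i, b i = I.toCotangent (f i) := by
  classical
  let v : Fin r → I.Cotangent := fun i => I.toCotangent (f i)
  have hsmul : ∀ (a : R) (x : I.Cotangent), (Ideal.Quotient.mk I a) • x = a • x := fun a x =>
    algebraMap_smul (R ⧸ I) a x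
  have hli : LinearIndependent (R ⧸ I) v := by
    rw [Fintype.linearIndependent_iff]
    intro c hc i
    choose u hu using fun j => Ideal.Quotient.mk_surjective (c j)
    have h1 : I.toCotangent (∑ j, u j • f j) = 0 := by
      rw [map_sum, ← hc]
      exact Finset.sum_congr rfl fun j _ => by rw [map_smul, ← hu, hsmul]
    rw [Ideal.toCotangent_eq_zero] at h1
    have h2 : ∑ j, u j * (f j : R) ∈ I • Submodule.span R (Set.range fun j => (f j : R)) := by
      have he : Submodule.span R (Set.range fun j => (f j : R)) = I := hfI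
      rw [he, smul_eq_mul, ← pow_two]
      simpa using h1
    obtain ⟨a, ha, hsum⟩ := (Submodule.mem_ideal_smul_span_iff_exists_sum _ _ _).1 h2
    have h3 : ∑ j, (u j - a j) * (f j : R) = 0 := by
      simp only [sub_mul, Finset.sum_sub_distrib]
      rw [← hsum, Finsupp.sum_fintype _ _ (by simp)]
      simp
    have := mem_of_relation _ I (fun j => (f j).2) hf _ h3 i
    rw [← hu i, Ideal.Quotient.eq_zero_iff_mem]
    simpa using I.add_mem this (ha i)
  refine ⟨Module.Basis.mk hli ?_, fun i => Module.Basis.mk_apply _ _ i⟩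
  intro x _
  obtain ⟨⟨x, hx⟩, rfl⟩ := I.toCotangent_surjective x
  rw [← hfI] at hx
  obtain ⟨a, ha⟩ := (Submodule.mem_span_range_iff_exists_fun R).1 hx
  have he : I.toCotangent ⟨x, by rw [← hfI]; exact (Submodule.mem_span_range_iff_exists_fun R).2 ⟨a, ha⟩⟩ =
      ∑ j, (Ideal.Quotient.mk I (a j)) • v j := by
    simp only [hsmul, v, ← map_smul, ← map_sum]
    congr 1
    exact Subtype.ext (by simp [← ha])
  rw [he]
  exact Submodule.sum_mem _ fun j _ => Submodule.smul_mem _ _ (Submodule.subset_span ⟨j, rfl⟩)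

end Groth.Agent.S18939
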