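import Groth.Statements.S9129
import Groth.Agent.FlatLoc6.DimEq
import Groth.Agent.FlatLoc6.Depth

set_option autoImplicit false
universe u
open CAlg

namespace Groth.Agent.S9129

/-- Suppose R → S is a flat local homomorphism between Noetherian local rings, with R Cohen–Macaulay.
Assume either that S is finite over R or that the Krull dimension of S is at most that of R. Then
the two rings have equal dimension and S is itself Cohen–Macaulay. -/
theorem result (R S : Type u) [CommRing R] [CommRing S]
    [LocCoh.IsCohenMacaulayLocalRing R] [IsNoetherianRing S] [IsLocalRing S] [Algebra R S]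
    [IsLocalHom (algebraMap R S)] [Module.Flat R S]
    (h : Module.Finite R S ∨ ringKrullDim S ≤ ringKrullDim R) :
    LocCoh.IsCohenMacaulayLocalRing S ∧ ringKrullDim R = ringKrullDim S := by
  have hdR : ringKrullDim R = ((LocCoh.depth R R : ℕ∞) : WithBot ℕ∞) :=
    (Module.supportDim_self_eq_ringKrullDim (R := R)).symm.trans LocCoh.IsCohenMacaulayLocalRing.supportDim_eq_depth
  -- going down
  have hgd : ∀ p : Ideal R, p.IsPrime → p ≠ IsLocalRing.maximalIdeal R →
      ∀ q ∈ (p.map (algebraMap R S)).minimalPrimes, q.comap (algebraMap R S) ≠ IsLocalRing.maximalIdeal R := by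
    intro p hp hpm q hq hqm
    haveI := hq.1.1
    haveI : q.LiesOver (IsLocalRing.maximalIdeal R) := ⟨hqm.symm⟩
    obtain ⟨q', hq'le, hq'p, hq'o⟩ := Ideal.exists_ideal_le_liesOver_of_le (S := S) (p := p)
      (q := IsLocalRing.maximalIdeal R) q (IsLocalRing.le_maximalIdeal hp.ne_top)
    have hq'q : q ≤ q' := hq.2 ⟨hq'p, Ideal.map_le_iff_le_comap.mpr hq'o.over.le⟩ hq'le
    have : q' = q := le_antisymm hq'le hq'q
    subst this
    exact hpm (hq'o.over.trans hqm)
  have hge : ringKrullDim R + ringKrullDim (EGA4.FibRing R S) ≤ ringKrullDim S := by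
    have := FlatLoc6.ringKrullDim_add_fibre_le hgd ⊥ bot_le
    rwa [Ideal.map_bot, ringKrullDim_eq_of_ringEquiv (RingEquiv.quotientBot R),
      ringKrullDim_eq_of_ringEquiv (RingEquiv.quotientBot S)] at this
  have hle := FlatLoc6.ringKrullDim_le_add_fibre (A := R) (B := S)
  have hF : ringKrullDim (EGA4.FibRing R S) = 0 := by
    rcases h with hfin | hd
    · haveI := hfin
      haveI : Module.Finite R (EGA4.FibRing R S) :=
        Module.Finite.of_surjective (Ideal.Quotient.mkₐ R (EGA4.mB R S)).toLinearMap
          Ideal.Quotient.mk_surjective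
      haveI : Module.Finite (R ⧸ IsLocalRing.maximalIdeal R) (EGA4.FibRing R S) :=
        Module.Finite.of_restrictScalars_finite R _ _
      haveI : IsArtinianRing (R ⧸ IsLocalRing.maximalIdeal R) := by
        letI := Ideal.Quotient.field (IsLocalRing.maximalIdeal R)
        infer_instance
      haveI : IsArtinianRing (EGA4.FibRing R S) :=
        IsArtinianRing.of_finite (R ⧸ IsLocalRing.maximalIdeal R) (EGA4.FibRing R S)
      exact le_antisymm ((Ring.krullDimLE_iff).mp inferInstance) ringKrullDim_nonneg_of_nontrivial
    · refine le_antisymm ?_ ringKrullDim_nonneg_of_nontrivial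
      have := hge.trans hd
      obtain ⟨a, ha'⟩ := LC.exists_depth_eq_nat (R := R) (M := R)
      have ha : ringKrullDim R = (((a : ℕ∞)) : WithBot ℕ∞) := by rw [hdR, ha']
      obtain ⟨b, hb⟩ := WithBot.ne_bot_iff_exists.mp (ringKrullDim_ne_bot (R := EGA4.FibRing R S))
      rw [ha, ← hb] at this
      rw [← hb]
      have h' : (a : ℕ∞) + b ≤ (a : ℕ∞) := WithBot.coe_le_coe.mp this
      have hb0 : b = 0 := by
        induction b using ENat.recTopCoe with
        | top => simp at h'
        | coe n => norm_cast at h' ⊢; omega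
      rw [hb0]; rfl
  have hdim : ringKrullDim R = ringKrullDim S := by
    rw [hF, add_zero] at hge hle
    exact le_antisymm hge hle
  refine ⟨?_, hdim⟩
  haveI := FlatLoc6.nontrivial_quot_mN (A := R) (B := S) S
  have hzero : LocCoh.depth (EGA4.FibRing R S) (EGA4.FibMod R S S) = 0 := by
    haveI : Nontrivial (EGA4.FibMod R S S) := FlatLoc6.nontrivial_quot_mN (A := R) (B := S) S
    have := (LC.depth_le_supportDim (R := EGA4.FibRing R S) (M := EGA4.FibMod R S S)).trans
      (Module.supportDim_le_ringKrullDim _ _)
    rw [hF] at this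
    exact nonpos_iff_eq_zero.mp (WithBot.coe_le_coe.mp this)
  have hdep : LocCoh.depth S S = LocCoh.depth R R := by
    have := FlatLoc6.depth_tensor (A := R) (B := S) (N := S) R
    rw [hzero, add_zero] at this
    rw [← this]
    exact (Hensel.depth_congr (TensorProduct.AlgebraTensorModule.rid R S S)).symm
  exact { supportDim_eq_depth := by
            rw [Module.supportDim_self_eq_ringKrullDim, ← hdim, hdR, hdep] }


end Groth.Agent.S9129
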