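import Groth.Statements.S9159
import Groth.Agent.S9129
import Groth.Agent.S2082
import Groth.Agent.FlatLoc6.DimEq
import Groth.Agent.FlatLoc6.RegCM
import Groth.Agent.CAlgOdd.LocalDimSpec

set_option autoImplicit false
universe u
open CAlg

namespace Groth.Agent.S9159
open Order in
theorem coheight_eq_of_quasiFinite (k : Type u) [Field k] {P S : Type u} [CommRing P] [CommRing S]
    [Algebra k P] [Algebra k S] [Algebra P S] [IsScalarTower k P S] [Algebra.FiniteType k P]
    [Algebra.FiniteType k S] [Algebra.QuasiFinite P S]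
    (p : Ideal P) [p.IsPrime] (q : Ideal S) [q.IsPrime] [q.LiesOver p] :
    coheight (⟨p, inferInstance⟩ : PrimeSpectrum P) = coheight (⟨q, inferInstance⟩ : PrimeSpectrum S) := by
  letI : Algebra (Localization.AtPrime p) (Localization.AtPrime q) := Localization.AtPrime.algebraOfLiesOver p q
  haveI : Module.Finite p.ResidueField q.ResidueField := inferInstance
  haveI : Algebra.IsAlgebraic p.ResidueField q.ResidueField := Algebra.IsAlgebraic.of_finite _ _
  obtain ⟨a, ha, ha'⟩ := Groth.Agent.VarDim.exists_dim_eq_trdeg k (P ⧸ p)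
  obtain ⟨b, hb, hb'⟩ := Groth.Agent.VarDim.exists_dim_eq_trdeg k (S ⧸ q)
  haveI : FaithfulSMul k (P ⧸ p) :=
    (faithfulSMul_iff_algebraMap_injective _ _).2 (algebraMap k (P ⧸ p)).injective
  haveI : FaithfulSMul k (S ⧸ q) :=
    (faithfulSMul_iff_algebraMap_injective _ _).2 (algebraMap k (S ⧸ q)).injective
  haveI : FaithfulSMul k p.ResidueField :=
    (faithfulSMul_iff_algebraMap_injective _ _).2 (algebraMap k p.ResidueField).injective
  have h1 := trdeg_add_eq k (P ⧸ p) (A := p.ResidueField)
  rw [trdeg_eq_zero (R := P ⧸ p) (A := p.ResidueField), add_zero] at h1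
  have h2 := trdeg_add_eq k (S ⧸ q) (A := q.ResidueField)
  rw [trdeg_eq_zero (R := S ⧸ q) (A := q.ResidueField), add_zero] at h2
  have h3 := trdeg_add_eq k p.ResidueField (A := q.ResidueField)
  rw [trdeg_eq_zero (R := p.ResidueField) (A := q.ResidueField), add_zero] at h3
  have hab : (a : Cardinal.{u}) = b := by rw [← ha', ← hb', h1, h2, h3]
  have hab' : a = b := by exact_mod_cast hab
  apply WithBot.coe_injective
  rw [Groth.Agent.VarDim.coheight_eq_ringKrullDim_quotient, Groth.Agent.VarDim.coheight_eq_ringKrullDim_quotient,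
    ha, hb, hab']



/-- Fix a field k, a k-algebra S of finite type, and a quasi-finite map of k-algebras k[y_1, …, y_d] →
S. A prime q of S has S_q flat over k[y_1, …, y_d] exactly when S_q is Cohen–Macaulay and Spec S has
local dimension d at q. -/
theorem result (k S : Type u) [Field k] [CommRing S]
    [Algebra k S] [Algebra.FiniteType k S] (d : ℕ) [Algebra (MvPolynomial (Fin d) k) S]
    [IsScalarTower k (MvPolynomial (Fin d) k) S] [Algebra.QuasiFinite (MvPolynomial (Fin d) k) S]
    (q : Ideal S) [q.IsPrime] :
    Module.Flat (MvPolynomial (Fin d) k) (Localization.AtPrime q) ↔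
      (LocCoh.IsCohenMacaulayLocalRing (Localization.AtPrime q) ∧
        FlatMor.localDim (PrimeSpectrum S) ⟨q, inferInstance⟩ = (d : WithBot ℕ∞)) := by
  classical
  let P := MvPolynomial (Fin d) k
  haveI : IsNoetherianRing S := Algebra.FiniteType.isNoetherianRing k S
  let p : Ideal P := q.under P
  haveI : q.LiesOver p := ⟨rfl⟩
  let A := Localization.AtPrime p
  let B := Localization.AtPrime q
  letI : Algebra A B := Localization.AtPrime.algebraOfLiesOver p q
  haveI : IsScalarTower P A B := inferInstance
  haveI : IsLocalHom (algebraMap A B) := inferInstance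
  haveI : IsRegularLocalRing A := inferInstance
  haveI : LocCoh.IsCohenMacaulayLocalRing A := by
    haveI := Groth.Agent.LC.gorenstein_of_isRegularLocalRing (R := A)
    exact Groth.Agent.LC.isCohenMacaulayLocalRing_of_gorenstein
  haveI : IsNoetherianRing B := IsLocalization.isNoetherianRing q.primeCompl B inferInstance
  -- the fibre has dimension zero
  have hfib : ∀ Q : Ideal B, Q.IsPrime → (IsLocalRing.maximalIdeal A).map (algebraMap A B) ≤ Q →
      Q = IsLocalRing.maximalIdeal B := by
    intro Q hQ hle
    haveI := hQ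
    let Q' : Ideal S := Q.comap (algebraMap S B)
    have h1 : Q' ≤ q := by
      rw [← IsLocalization.AtPrime.comap_maximalIdeal B q]
      exact Ideal.comap_mono (IsLocalRing.le_maximalIdeal hQ.ne_top)
    have h2 : Q'.under P = q.under P := by
      refine le_antisymm (Ideal.comap_mono h1) fun x hx => ?_
      show algebraMap S B (algebraMap P S x) ∈ Q
      rw [← IsScalarTower.algebraMap_apply P S B, IsScalarTower.algebraMap_apply P A B]
      refine hle (Ideal.mem_map_of_mem _ ?_)
      rw [← IsLocalization.AtPrime.map_eq_maximalIdeal p A]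
      exact Ideal.mem_map_of_mem _ hx
    have h3 : Q' = q := Algebra.QuasiFinite.eq_of_le_of_under_eq Q' q h1 h2
    have h4 : Q'.map (algebraMap S B) = Q := IsLocalization.map_comap q.primeCompl B Q
    rw [← h4, h3, IsLocalization.AtPrime.map_eq_maximalIdeal]
  have hne : (IsLocalRing.maximalIdeal A).map (algebraMap A B) ≠ ⊤ :=
    ne_top_of_le_ne_top (IsLocalRing.maximalIdeal.isMaximal B).ne_top
      (((IsLocalRing.local_hom_TFAE (algebraMap A B)).out 0 2).1 (inferInstance : IsLocalHom (algebraMap A B)))
  have hz : ringKrullDim (B ⧸ (IsLocalRing.maximalIdeal A).map (algebraMap A B)) = 0 := by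
    haveI : Nontrivial (B ⧸ (IsLocalRing.maximalIdeal A).map (algebraMap A B)) :=
      Ideal.Quotient.nontrivial_iff.mpr hne
    refine le_antisymm ?_ ringKrullDim_nonneg_of_nontrivial
    refine Order.krullDim_nonpos_iff_forall_isMax.2 fun P₁ P₂ hP => le_of_eq ?_
    have key : ∀ T : PrimeSpectrum (B ⧸ (IsLocalRing.maximalIdeal A).map (algebraMap A B)),
        T.asIdeal.comap (Ideal.Quotient.mk _) = IsLocalRing.maximalIdeal B := fun T => by
      refine hfib _ (Ideal.IsPrime.comap _) ?_
      conv_lhs => rw [← Ideal.mk_ker (I := (IsLocalRing.maximalIdeal A).map (algebraMap A B))]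
      exact Ideal.comap_mono bot_le
    exact PrimeSpectrum.ext (Ideal.comap_injective_of_surjective _ Ideal.Quotient.mk_surjective
      ((key P₂).trans (key P₁).symm))
  have hle : ringKrullDim B ≤ ringKrullDim A := by
    have h1 := Groth.Agent.FlatLoc6.ringKrullDim_le_add_fibre (A := A) (B := B)
    have h2 : ringKrullDim (EGA4.FibRing A B) = 0 := hz
    rwa [h2, add_zero] at h1
  -- dimensions
  let pp : PrimeSpectrum P := ⟨p, inferInstance⟩
  let qq : PrimeSpectrum S := ⟨q, inferInstance⟩
  have hco : Order.coheight pp = Order.coheight qq := coheight_eq_of_quasiFinite k p q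
  have hd : Order.height pp + Order.coheight pp = d := by
    refine Groth.Agent.VarDim.height_add_coheight_eq k d P ?_ pp
    rw [MvPolynomial.ringKrullDim_of_isNoetherianRing, ringKrullDim_eq_zero_of_field, zero_add, Nat.card_fin]
  have hA : ringKrullDim A = ((Order.height pp : ℕ∞) : WithBot ℕ∞) := by
    rw [IsLocalization.AtPrime.ringKrullDim_eq_height p A, ← PrimeSpectrum.height_eq_orderHeight]
  have hB : ringKrullDim B = ((Order.height qq : ℕ∞) : WithBot ℕ∞) := by
    rw [IsLocalization.AtPrime.ringKrullDim_eq_height q B, ← PrimeSpectrum.height_eq_orderHeight]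
  have hloc := Groth.Agent.CAlgOdd.LocalDimSpec.localDim_eq_add k qq
  have hflat : Module.Flat P B ↔ Module.Flat A B := by
    constructor
    · intro h
      exact (Module.flat_iff_of_isLocalization A p.primeCompl B).2 h
    · intro h
      haveI : Module.Flat P A := IsLocalization.flat A p.primeCompl
      exact Module.Flat.trans P A B
  rw [hflat]
  constructor
  · intro h
    obtain ⟨hCM, heq⟩ := Groth.Agent.S9129.result A B (Or.inr hle)
    refine ⟨hCM, ?_⟩
    rw [hA, hB, WithBot.coe_inj] at heq
    rw [hloc, show ((d : WithBot ℕ∞)) = (((d : ℕ∞)) : WithBot ℕ∞) from rfl, WithBot.coe_inj, ← hd, heq, hco]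
  · rintro ⟨hCM, hl⟩
    rw [hloc, show ((d : WithBot ℕ∞)) = (((d : ℕ∞)) : WithBot ℕ∞) from rfl, WithBot.coe_inj, ← hd, hco] at hl
    have hfin : Order.coheight qq ≠ ⊤ := Groth.Agent.VarDim.coheight_ne_top k qq
    have h2 : Order.height qq = Order.height pp := (ENat.add_left_injective_of_ne_top hfin) hl
    refine Groth.Agent.S2082.result ?_
    rw [hz, add_zero, hA, hB, h2]


end Groth.Agent.S9159
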