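import Groth.Statements.S9175
import Groth.Agent.FibDim.Alg
import Mathlib.RingTheory.RingHom.QuasiFinite
import Mathlib

set_option autoImplicit false
universe u
open CAlg

namespace Groth.Agent.S9175

/-- Let R → S be of finite type, q a prime of S over p, and Q the prime of the fibre ring κ(p) ⊗ S
pulling back to q. If Spec(κ(p) ⊗ S) has local dimension n at Q (the relative dimension of S over R
at q is n), then some S_g with g ∉ q admits an R-algebra map from the polynomial ring R[t_1, …, t_n]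
which is of finite type and quasi-finite. -/
theorem result (R S : Type u) [CommRing R] [CommRing S]
    [Algebra R S] [Algebra.FiniteType R S] (p : Ideal R) [p.IsPrime] (q : Ideal S) [q.IsPrime] [q.LiesOver p]
    (Q : PrimeSpectrum (p.Fiber S))
    (hQ : Q.asIdeal.comap (Algebra.TensorProduct.includeRight.toRingHom) = q) (n : ℕ)
    (hdim : FlatMor.localDim (PrimeSpectrum (p.Fiber S)) Q = (n : WithBot ℕ∞)) :
    ∃ g : S, g ∉ q ∧ ∃ φ : MvPolynomial (Fin n) R →ₐ[R] Localization.Away g,
      φ.toRingHom.FiniteType ∧ φ.toRingHom.QuasiFinite := by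
  classical
  let y : PrimeSpectrum R := ⟨p, inferInstance⟩
  let e := PrimeSpectrum.preimageHomeomorphFiber R S y
  let qq : PrimeSpectrum S := ⟨q, inferInstance⟩
  have hqy : PrimeSpectrum.comap (algebraMap R S) qq = y :=
    PrimeSpectrum.ext (Ideal.LiesOver.over (P := q) (p := p)).symm
  have heQ : e.symm Q = (⟨qq, hqy⟩ : ↥(PrimeSpectrum.comap (algebraMap R S) ⁻¹' {y})) :=
    Subtype.ext (PrimeSpectrum.ext hQ)
  have hdim' : (⨅ U : {U : TopologicalSpace.Opens (PrimeSpectrum (p.Fiber S)) // Q ∈ U},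
      topologicalKrullDim (U.1 : Set (PrimeSpectrum (p.Fiber S)))) = n := hdim
  haveI : Nonempty {U : TopologicalSpace.Opens (PrimeSpectrum (p.Fiber S)) // Q ∈ U} := ⟨⟨⊤, trivial⟩⟩
  obtain ⟨⟨U, hU⟩, hUdim⟩ := ciInf_mem fun U : {U : TopologicalSpace.Opens
    (PrimeSpectrum (p.Fiber S)) // Q ∈ U} => topologicalKrullDim (U.1 : Set (PrimeSpectrum (p.Fiber S)))
  have hUdim' : topologicalKrullDim (U : Set (PrimeSpectrum (p.Fiber S))) = n := hUdim.trans hdim'
  obtain ⟨W, hW, hWU⟩ := isOpen_induced_iff.mp (U.isOpen.preimage e.continuous)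
  have hqW : qq ∈ W := by
    have h1 : e.symm Q ∈ Subtype.val ⁻¹' W := by
      rw [hWU, Set.mem_preimage, e.apply_symm_apply]
      exact hU
    rw [heQ] at h1
    exact h1
  obtain ⟨_, ⟨g₀, rfl⟩, hg₀, hsub⟩ :=
    PrimeSpectrum.isTopologicalBasis_basic_opens.exists_subset_of_mem_open hqW hW
  let V : TopologicalSpace.Opens (PrimeSpectrum (p.Fiber S)) :=
    ⟨(fun z => (e.symm z).1) ⁻¹' (PrimeSpectrum.basicOpen g₀ : Set (PrimeSpectrum S)),
      (PrimeSpectrum.basicOpen g₀).isOpen.preimage (continuous_subtype_val.comp e.symm.continuous)⟩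
  have hQV : Q ∈ V := by
    show (e.symm Q).1 ∈ (PrimeSpectrum.basicOpen g₀ : Set (PrimeSpectrum S))
    rw [heQ]
    exact hg₀
  have hVU : (V : Set (PrimeSpectrum (p.Fiber S))) ⊆ U := fun z hz => by
    have h1 : e.symm z ∈ Subtype.val ⁻¹' W := hsub hz
    rw [hWU, Set.mem_preimage, e.apply_symm_apply] at h1
    exact h1
  have hV : topologicalKrullDim (V : Set (PrimeSpectrum (p.Fiber S))) = n := by
    refine le_antisymm ?_ ?_
    · refine le_trans ?_ hUdim'.le
      exact Topology.IsInducing.topologicalKrullDim_le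
        (Topology.IsEmbedding.inclusion hVU).isInducing
    · rw [← hdim']
      exact iInf_le (fun U : {U : TopologicalSpace.Opens (PrimeSpectrum (p.Fiber S)) // Q ∈ U} =>
        topologicalKrullDim (U.1 : Set (PrimeSpectrum (p.Fiber S)))) ⟨V, hQV⟩
  -- pass to the chart
  let B₀ := Localization.Away g₀
  haveI : Algebra.FiniteType R B₀ :=
    .trans (S := S) inferInstance (IsLocalization.finiteType_of_monoid_fg (.powers g₀) _)
  set ι := PrimeSpectrum.comap (algebraMap S B₀) with hιdef
  have hι : Topology.IsOpenEmbedding ι := PrimeSpectrum.localization_away_isOpenEmbedding B₀ g₀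
  have hr : Set.range ι = (PrimeSpectrum.basicOpen g₀ : Set (PrimeSpectrum S)) :=
    PrimeSpectrum.localization_away_comap_range B₀ g₀
  have hcomp : ∀ z, PrimeSpectrum.comap (algebraMap R B₀) z =
      PrimeSpectrum.comap (algebraMap R S) (ι z) := fun z => by
    rw [hιdef, ← PrimeSpectrum.comap_comp_apply, ← IsScalarTower.algebraMap_eq]
  obtain ⟨P₀, hP₀⟩ := hr.ge hg₀
  have hy₀ : PrimeSpectrum.comap (algebraMap R B₀) P₀ = y := by rw [hcomp, hP₀, hqy]
  let Dfib : Set (PrimeSpectrum S) :=
    (PrimeSpectrum.basicOpen g₀ : Set (PrimeSpectrum S)) ∩ PrimeSpectrum.comap (algebraMap R S) ⁻¹' {y}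
  have hD : topologicalKrullDim ↥Dfib = topologicalKrullDim (V : Set (PrimeSpectrum (p.Fiber S))) := by
    refine le_antisymm ?_ ?_
    · refine Topology.IsInducing.topologicalKrullDim_le (f := fun z : ↥Dfib =>
        (⟨e ⟨z.1, z.2.2⟩, ?_⟩ : ↥(V : Set (PrimeSpectrum (p.Fiber S))))) ?_
      · show (e.symm (e ⟨z.1, z.2.2⟩)).1 ∈ (PrimeSpectrum.basicOpen g₀ : Set (PrimeSpectrum S))
        rw [e.symm_apply_apply]
        exact z.2.1
      · exact ((e.isEmbedding.isInducing.comp
          (Topology.IsInducing.subtypeVal.codRestrict fun z : ↥Dfib => z.2.2))).codRestrict _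
    · refine Topology.IsInducing.topologicalKrullDim_le
        (f := fun z : ↥(V : Set (PrimeSpectrum (p.Fiber S))) =>
          (⟨(e.symm z.1).1, z.2, (e.symm z.1).2⟩ : ↥Dfib)) ?_
      have h1 : Topology.IsInducing (fun z : ↥(V : Set (PrimeSpectrum (p.Fiber S))) => (e.symm z.1).1) :=
        Topology.IsInducing.subtypeVal.comp (e.symm.isEmbedding.isInducing.comp
          (Topology.IsInducing.subtypeVal (t := (V : Set (PrimeSpectrum (p.Fiber S))))))
      exact h1.codRestrict (s := Dfib) (fun z => ⟨z.2, (e.symm z.1).2⟩)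
  have hdim₀ : ringKrullDim ((PrimeSpectrum.comap (algebraMap R B₀) P₀).asIdeal.Fiber B₀) = n := by
    rw [← Groth.Agent.FibDim.topologicalKrullDim_fib, hy₀, ← hV, ← hD]
    have hset : ι '' Groth.Agent.FibDim.fib (B := B₀) y = Dfib := by
      ext z
      constructor
      · rintro ⟨w, hw, rfl⟩
        exact ⟨hr.le ⟨w, rfl⟩, (hcomp w).symm.trans hw⟩
      · rintro ⟨hz, hz'⟩
        obtain ⟨w, rfl⟩ := hr.ge hz
        exact ⟨w, (hcomp w).trans hz', rfl⟩
    rw [← hset]
    exact (hι.isEmbedding.homeomorphImage _).isHomeomorph.topologicalKrullDim_eq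
  obtain ⟨m, -, b, g, hm, -, hg, hQF⟩ := Groth.Agent.FibDim.exists_quasiFinite P₀ n hdim₀.le
  obtain rfl : m = n := by exact_mod_cast hm.symm.trans hdim₀
  letI := (MvPolynomial.aeval (R := R) b).toRingHom.toAlgebra
  haveI : IsScalarTower R (MvPolynomial (Fin m) R) B₀ :=
    IsScalarTower.of_algebraMap_eq fun a => ((MvPolynomial.aeval (R := R) b).commutes a).symm
  haveI := hQF
  let B₁ := Localization.Away g
  haveI : IsScalarTower R (MvPolynomial (Fin m) R) B₁ :=
    IsScalarTower.to₁₂₄ R (MvPolynomial (Fin m) R) B₀ B₁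
  haveI : Algebra.FiniteType R B₁ :=
    .trans (S := B₀) inferInstance (IsLocalization.finiteType_of_monoid_fg (.powers g) _)
  haveI : Algebra.FiniteType (MvPolynomial (Fin m) R) B₁ :=
    Algebra.FiniteType.of_restrictScalars_finiteType R _ B₁
  -- clear the denominator of `g`
  obtain ⟨k, a, hka⟩ := IsLocalization.Away.surj g₀ g
  have hass : Associated (algebraMap S B₀ a) g := by
    rw [← hka]
    exact associated_mul_unit_left g _ ((IsLocalization.Away.algebraMap_isUnit g₀).pow k)
  haveI : IsLocalization.Away (g₀ * a) B₁ :=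
    IsLocalization.Away.mul_of_associated g₀ a g hass
  have hga : g₀ * a ∉ q := by
    intro h
    rcases Ideal.IsPrime.mem_or_mem ‹_› h with h | h
    · exact hg₀ h
    · refine hg ((Ideal.unit_mul_mem_iff_mem P₀.asIdeal
        ((IsLocalization.Away.algebraMap_isUnit (S := B₀) g₀).pow k)).mp ?_)
      rw [mul_comm, hka]
      have : qq = ι P₀ := hP₀.symm
      exact (congrArg (fun z : PrimeSpectrum S => a ∈ z.asIdeal) this).mp h
  let ε : B₁ ≃ₐ[S] Localization.Away (g₀ * a) :=
    IsLocalization.algEquiv (Submonoid.powers (g₀ * a)) _ _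
  refine ⟨g₀ * a, hga,
    ((ε.restrictScalars R).toAlgHom).comp (IsScalarTower.toAlgHom R (MvPolynomial (Fin m) R) B₁), ?_, ?_⟩
  · exact RingHom.FiniteType.comp
      (RingHom.FiniteType.of_surjective (ε.toRingEquiv.toRingHom) ε.surjective)
      (RingHom.finiteType_algebraMap.2 inferInstance)
  · exact RingHom.QuasiFinite.comp
      (RingHom.QuasiFinite.of_finite (RingHom.Finite.of_surjective ε.toRingEquiv.toRingHom ε.surjective))
      (RingHom.quasiFinite_algebraMap.2 hQF)


end Groth.Agent.S9175
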