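import Groth.Statements.S6315
import Mathlib
import Groth.Agent.CAlgOdd.FiniteResolution

set_option autoImplicit false
universe u
open CategoryTheory
open CAlg

namespace Groth.Agent.S6315

/-- Let R be a Noetherian ring and M, N finite R-modules. Then Tor_pᴿ(M, N) is a finite R-module for all
p. -/
theorem result (R : Type u) [CommRing R] [IsNoetherianRing R] (M N : Type u) [AddCommGroup M] [Module R M] [AddCommGroup N] [Module R N] [Module.Finite R M] [Module.Finite R N] (p : ℕ) : Module.Finite R (((CategoryTheory.Tor (ModuleCat.{u} R) p).obj (ModuleCat.of R M)).obj (ModuleCat.of R N)) := by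
  obtain ⟨F, hF⟩ := CAlgOdd.FiniteResolution.exists_projectiveResolution R N
  let G : ModuleCat.{u} R ⥤ ModuleCat.{u} R := (MonoidalCategory.tensoringLeft (ModuleCat.{u} R)).obj (ModuleCat.of R M)
  let e := F.isoLeftDerivedObj G p
  let C := (G.mapHomologicalComplex _).obj F.complex
  haveI : ∀ n, Module.Finite R (C.X n) := fun n => by
    haveI := (hF n).1
    exact (inferInstance : Module.Finite R (TensorProduct R M (F.complex.X n)))
  haveI : Module.Finite R (C.sc p).X₂ := (inferInstance : Module.Finite R (C.X p))
  haveI : IsNoetherian R (C.sc p).X₂ := isNoetherian_of_isNoetherianRing_of_finite R _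
  haveI : Module.Finite R (C.sc p).moduleCatLeftHomologyData.H :=
    Module.Finite.of_surjective _ (Submodule.mkQ_surjective _)
  exact Module.Finite.equiv (e ≪≫ (C.sc p).moduleCatHomologyIso).toLinearEquiv.symm

end Groth.Agent.S6315
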