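import Groth.Statements.S9152
import Groth.Agent.CAlgOdd.AuslanderBuchsbaum
import Groth.Agent.LC.PdRegular
import Groth.Agent.LC.GorLoc
import Groth.Agent.LC.GorHull
import Groth.Agent.LC.ExtLoc
import Groth.Agent.LC.ExtDim
import Groth.Agent.Synt29.CILocal

set_option autoImplicit false
universe u
open CAlg

namespace Groth.Agent.S9152
open IsLocalRing in
theorem isOpen_pdLE {P : Type u} [CommRing P] [IsNoetherianRing P] : ∀ (c : ℕ) (M : Type u) [AddCommGroup M]
    [Module P M] [Module.Finite P M],
    IsOpen {q : PrimeSpectrum P | RegLoc6.PdLE (Localization.AtPrime q.asIdeal) c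
      (LocalizedModule q.asIdeal.primeCompl M)} := by
  intro c
  induction c with
  | zero =>
    intro M _ _ _
    haveI : Module.FinitePresentation P M := Module.finitePresentation_of_finite P M
    convert Module.isOpen_freeLocus (R := P) (M := M) using 1
    ext q
    rw [Set.mem_setOf_eq, RegLoc6.pdLE_zero_iff, Module.mem_freeLocus]
    haveI : Module.Finite (Localization.AtPrime q.asIdeal) (LocalizedModule q.asIdeal.primeCompl M) :=
      Module.Finite.of_isLocalizedModule q.asIdeal.primeCompl (LocalizedModule.mkLinearMap q.asIdeal.primeCompl M)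
    haveI : IsNoetherianRing (Localization.AtPrime q.asIdeal) :=
      IsLocalization.isNoetherianRing q.asIdeal.primeCompl _ inferInstance
    constructor
    · intro h
      haveI : Module.FinitePresentation (Localization.AtPrime q.asIdeal) (LocalizedModule q.asIdeal.primeCompl M) :=
        Module.finitePresentation_of_finite _ _
      exact Module.free_of_flat_of_isLocalRing
    · intro h
      exact Module.Projective.of_free
  | succ c ih =>
    intro M _ _ _
    obtain ⟨m, g, hg⟩ := RegLoc6.exists_presentation (R := P) (M := M)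
    haveI : Module.Finite P (LinearMap.ker g) := inferInstance
    convert ih (LinearMap.ker g) using 1
    ext q
    let S := q.asIdeal.primeCompl
    let ι : LocalizedModule S (LinearMap.ker g) →ₗ[Localization S] LocalizedModule S (Fin m → P) :=
      LocalizedModule.map S (LinearMap.ker g).subtype
    let ĝ : LocalizedModule S (Fin m → P) →ₗ[Localization S] LocalizedModule S M := LocalizedModule.map S g
    have hex : Function.Exact ι ĝ := LocalizedModule.map_exact S _ _ (LinearMap.exact_subtype_ker_map g)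
    have hι : Function.Injective ι := LocalizedModule.map_injective S _ Subtype.val_injective
    have hĝ : Function.Surjective ĝ := LocalizedModule.map_surjective S _ hg
    haveI : Module.Free (Localization S) (LocalizedModule S (Fin m → P)) :=
      Module.free_of_isLocalizedModule S (LocalizedModule.mkLinearMap S (Fin m → P))
    haveI : Module.Projective (Localization S) (LocalizedModule S (Fin m → P)) := Module.Projective.of_free
    let e : LocalizedModule S (LinearMap.ker g) ≃ₗ[Localization S] LinearMap.ker ĝ :=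
      (LinearEquiv.ofInjective ι hι).trans (LinearEquiv.ofEq _ _ hex.linearMap_ker_eq.symm)
    rw [Set.mem_setOf_eq, Set.mem_setOf_eq]
    exact (RegLoc6.pdLE_succ_iff ĝ hĝ).trans
      ⟨fun h => RegLoc6.pdLE_of_equiv e.symm h, fun h => RegLoc6.pdLE_of_equiv e h⟩

open IsLocalRing in
theorem cm_iff_pdLE {R T : Type u} [CommRing R] [IsRegularLocalRing R] [CommRing T] [IsLocalRing T]
    (ρ : R →+* T) (hρ : Function.Surjective ρ) (c : ℕ) (hc : (RingHom.ker ρ).height = c) :
    LocCoh.IsCohenMacaulayLocalRing T ↔ RegLoc6.PdLE R c (R ⧸ RingHom.ker ρ) := by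
  classical
  set I := RingHom.ker ρ
  haveI : IsNoetherianRing T := isNoetherianRing_of_surjective R T ρ hρ
  have hI : I ≠ ⊤ := RingHom.ker_ne_top ρ
  haveI : Nontrivial (R ⧸ I) := Ideal.Quotient.nontrivial_iff.mpr hI
  haveI := LC.gorenstein_of_isRegularLocalRing (R := R)
  haveI hCMR : LocCoh.IsCohenMacaulayLocalRing R := LC.isCohenMacaulayLocalRing_of_gorenstein
  obtain ⟨d, hd⟩ : ∃ d : ℕ, ringKrullDim R = d := ⟨_, ((isRegularLocalRing_iff R).1 ‹_›).symm⟩
  have hdR : LocCoh.depth R R = d := by
    have := hCMR.supportDim_eq_depth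
    rw [Module.supportDim_self_eq_ringKrullDim, hd] at this
    exact (WithBot.coe_inj.mp this).symm
  let e : R ⧸ I ≃+* T := RingHom.quotientKerEquivOfSurjective hρ
  have hdep : LocCoh.depth R (R ⧸ I) = LocCoh.depth T T :=
    Alg6.depth_eq_of_semilinear ρ hρ e.toAddEquiv fun r x => by
      obtain ⟨x, rfl⟩ := Ideal.Quotient.mk_surjective x
      show e (Ideal.Quotient.mk I (r * x)) = ρ r * e (Ideal.Quotient.mk I x)
      exact map_mul ρ r x
  obtain ⟨t, ht⟩ := LC.exists_depth_eq_nat (R := R) (M := R ⧸ I)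
  have hdim := LC.height_add_ringKrullDim_quotient (R := R) I hI
  rw [hc, hd, ringKrullDim_eq_of_ringEquiv e] at hdim
  have hbot : ringKrullDim T ≠ ⊥ := fun hb => by simp [hb] at hdim
  obtain ⟨δ, hδ⟩ := WithBot.ne_bot_iff_exists.1 hbot
  rw [← hδ] at hdim
  have hdim' : δ + (c : ℕ∞) = (d : ℕ∞) := WithBot.coe_inj.1 (by exact_mod_cast hdim)
  lift δ to ℕ using (fun hh => by simp [hh] at hdim') with δ'
  have hnat : δ' + c = d := by exact_mod_cast hdim'
  have hle : t ≤ δ' := by
    have := LC.depth_le_supportDim (R := T) (M := T)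
    rw [← hdep, ht, Module.supportDim_self_eq_ringKrullDim, ← hδ] at this
    exact_mod_cast this
  have hCM : LocCoh.IsCohenMacaulayLocalRing T ↔ t = δ' := by
    constructor
    · intro h
      have := h.supportDim_eq_depth
      rw [← hdep, ht, Module.supportDim_self_eq_ringKrullDim, ← hδ] at this
      exact_mod_cast this.symm
    · intro h
      exact { supportDim_eq_depth := by
                rw [← hdep, ht, Module.supportDim_self_eq_ringKrullDim, ← hδ, h] }
  rw [hCM]
  constructor
  · intro h
    refine LC.pdLE_of_le_depth R d hd (R ⧸ I) c ?_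
    rw [ht]
    exact_mod_cast (show d ≤ t + c by omega)
  · intro h
    have hex : ∃ n, RegLoc6.PdLE R n (R ⧸ I) := ⟨c, h⟩
    have hAB := CAlgOdd.AB.depth_add_eq (R := R) (Nat.find hex) (R ⧸ I) (Nat.find_spec hex) (fun n hn => Nat.find_min hex hn)
    have hfc : Nat.find hex ≤ c := Nat.find_le h
    rw [ht, hdR] at hAB
    have : t + Nat.find hex = d := by exact_mod_cast hAB
    omega



/-- The Cohen–Macaulay locus of a finite type algebra over a field is open. -/
theorem result (k S : Type u) [Field k] [CommRing S] [Algebra k S]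
    [Algebra.FiniteType k S] :
    IsOpen {q : PrimeSpectrum S | LocCoh.IsCohenMacaulayLocalRing (Localization.AtPrime q.asIdeal)} := by
  classical
  obtain ⟨n, π, hπ⟩ := Algebra.FiniteType.iff_quotient_mvPolynomial''.1 (inferInstance : Algebra.FiniteType k S)
  let P := MvPolynomial (Fin n) k
  set I := RingHom.ker π.toRingHom
  let Φ : PrimeSpectrum S → PrimeSpectrum P := PrimeSpectrum.comap π.toRingHom
  refine isOpen_iff_forall_mem_open.mpr fun q₀ hq₀ => ?_
  -- the local presentations
  have hpres : ∀ q : PrimeSpectrum S, ∃ ρ : Localization.AtPrime (Φ q).asIdeal →+* Localization.AtPrime q.asIdeal,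
      Function.Surjective ρ ∧ RingHom.ker ρ = I.map (algebraMap P (Localization.AtPrime (Φ q).asIdeal)) := by
    intro q
    obtain ⟨ρ, h1, -, h3⟩ := Synt29.exists_atPrime_presentation π hπ q.asIdeal (Φ q).asIdeal rfl
    exact ⟨ρ.toRingHom, h1, h3⟩
  have hreg : ∀ Q : PrimeSpectrum P, IsRegularLocalRing (Localization.AtPrime Q.asIdeal) :=
    fun Q => Synt29.isRegularLocalRing_localization_mvPolynomial Q.asIdeal
  obtain ⟨ρ₀, hρ₀, hker₀⟩ := hpres q₀
  haveI := hreg (Φ q₀)
  obtain ⟨c, hc⟩ := ENat.ne_top_iff_exists.1 (Ideal.height_ne_top (RingHom.ker_ne_top ρ₀))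
  have hpd₀ := (cm_iff_pdLE ρ₀ hρ₀ c hc.symm).mp hq₀
  let W : Set (PrimeSpectrum P) := {Q | RegLoc6.PdLE (Localization.AtPrime Q.asIdeal) c
    (LocalizedModule Q.asIdeal.primeCompl (P ⧸ I))}
  let bad : Set (Ideal P) := {J ∈ I.minimalPrimes | ¬ J ≤ (Φ q₀).asIdeal}
  have hbad : bad.Finite := (Ideal.finite_minimalPrimes_of_isNoetherianRing P I).subset fun J hJ => hJ.1
  let V : Set (PrimeSpectrum P) := W ∩ (⋃ J ∈ bad, PrimeSpectrum.zeroLocus (J : Set P))ᶜ
  have hV : IsOpen V := (isOpen_pdLE c (P ⧸ I)).inter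
    ((hbad.isClosed_biUnion fun J _ => PrimeSpectrum.isClosed_zeroLocus _).isOpen_compl)
  refine ⟨Φ ⁻¹' V, fun q hq => ?_, hV.preimage (PrimeSpectrum.continuous_comap π.toRingHom), ?_⟩
  · obtain ⟨hqW, hqbad⟩ := hq
    obtain ⟨ρ, hρ, hker⟩ := hpres q
    haveI := hreg (Φ q)
    obtain ⟨c', hc'⟩ := ENat.ne_top_iff_exists.1 (Ideal.height_ne_top (RingHom.ker_ne_top ρ))
    have hcc : c ≤ c' := by
      suffices h : (c : ℕ∞) ≤ (RingHom.ker ρ).height by rw [← hc'] at h; exact_mod_cast h
      rw [Ideal.height_eq_inf_minimalPrimes (I := RingHom.ker ρ)]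
      refine le_iInf₂ fun J hJ => ?_
      haveI := hJ.1.1
      let J₀ := J.under P
      have hJmin : J₀ ∈ I.minimalPrimes := by
        rw [hker, IsLocalization.minimalPrimes_map (Φ q).asIdeal.primeCompl] at hJ
        exact hJ
      have hJq : J₀ ≤ (Φ q).asIdeal :=
        (Ideal.comap_mono (IsLocalRing.le_maximalIdeal (Ideal.IsPrime.ne_top ‹_›))).trans
          (le_of_eq (IsLocalization.AtPrime.under_maximalIdeal (Localization.AtPrime (Φ q).asIdeal) (Φ q).asIdeal))
      have hJq₀ : J₀ ≤ (Φ q₀).asIdeal := by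
        by_contra hn
        exact hqbad (Set.mem_iUnion₂.mpr ⟨J₀, ⟨hJmin, hn⟩, hJq⟩)
      haveI hJp : (J₀.map (algebraMap P (Localization.AtPrime (Φ q₀).asIdeal))).IsPrime :=
        IsLocalization.isPrime_of_isPrime_disjoint (Φ q₀).asIdeal.primeCompl _ J₀ inferInstance
          (Set.disjoint_left.2 fun x hx hx' => hx (hJq₀ hx'))
      have h1 : (J₀.map (algebraMap P (Localization.AtPrime (Φ q₀).asIdeal))).height = J₀.height := by
        rw [← IsLocalization.height_under (Φ q₀).asIdeal.primeCompl (J₀.map _)]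
        congr 1
        exact IsLocalization.under_map_of_isPrime_disjoint (Φ q₀).asIdeal.primeCompl _ inferInstance
          (Set.disjoint_left.2 fun x hx hx' => hx (hJq₀ hx'))
      have h2 : J.height = J₀.height := (IsLocalization.height_under (Φ q).asIdeal.primeCompl J).symm
      rw [h2, ← h1, hc, hker₀]
      exact Ideal.height_mono (Ideal.map_mono hJmin.1.2)
    refine (cm_iff_pdLE ρ hρ c' hc'.symm).mpr (RegLoc6.pdLE_mono hcc ?_)
    obtain ⟨e⟩ := LC.exists_locQuot (S := (Φ q).asIdeal.primeCompl) I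
    exact RegLoc6.pdLE_of_equiv (e.trans (Submodule.quotEquivOfEq _ _ hker.symm)) hqW
  · refine ⟨?_, ?_⟩
    · obtain ⟨e⟩ := LC.exists_locQuot (S := (Φ q₀).asIdeal.primeCompl) I
      exact RegLoc6.pdLE_of_equiv (e.trans (Submodule.quotEquivOfEq _ _ hker₀.symm)).symm hpd₀
    · intro h
      obtain ⟨J, hJ, hle⟩ := Set.mem_iUnion₂.mp h
      exact hJ.2 hle


end Groth.Agent.S9152
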