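import Groth.Statements.S5442
import Groth.Agent.MultTypeLib.FixedSmooth
import Groth.Agent.GrpSchLib.MonoSubgroup
-- import your own Groth.Agent.* helpers here

set_option autoImplicit false
universe u
open CategoryTheory MonoidalCategory CartesianMonoidalCategory MonObj GrpObj AlgebraicGeometry CategoryTheory.Limits
open SGA3x

namespace Groth.Agent.S5442

/-- Let S be a scheme, G an S-group scheme separated and smooth over S, and H an S-group of
multiplicative type and of finite type acting on G by group automorphisms (on points, h · (g g′) =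
(h · g)(h · g′)). Then the functor Z = G^H of invariants (points of G fixed by all points of H after
any base change) is representable by a closed subgroup scheme of G which is smooth over S: there are
an S-group Z and a homomorphism Z → G which is a closed immersion, with Z smooth over S, whose
points are exactly the invariant points. (The published statement allows any S-group of
multiplicative type; this row assumes it moreover of finite type.) -/
theorem result (S : Scheme.{u}) (H G : Over S) [GrpObj H] [GrpObj G] (hH : SGA3x.IsMultTypeFT H)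
    [IsSeparated G.hom] [Smooth G.hom] (a : AlgGrp.Action H G)
    (hmul : ∀ (X : Over S) (h : X ⟶ H) (g g' : X ⟶ G),
      lift h (g * g') ≫ a.act = (lift h g ≫ a.act) * (lift h g' ≫ a.act)) :
    ∃ (Z : Over S) (_ : GrpObj Z) (z : Z ⟶ G) (_ : IsMonHom z), IsClosedImmersion z.left ∧ Smooth Z.hom ∧
      ∀ (X : Over S) (g : X ⟶ G), (∃ x : X ⟶ Z, x ≫ z = g) ↔
        ∀ (X' : Over S) (f : X' ⟶ X) (h : X' ⟶ H), lift h (f ≫ g) ≫ a.act = f ≫ g := by
  obtain ⟨Z, j, hj, hjfp, hZ⟩ := MultTypeLib.FixedSmooth.exists_fixed_locus hH a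
  haveI := hj
  haveI := hjfp
  have hZs : Smooth Z.hom := MultTypeLib.FixedSmooth.smooth_fixed hH a Z j hZ
  haveI : Mono j := (Over.forget _).mono_of_mono_map (inferInstanceAs (Mono j.left))
  have hone : ∀ (X : Over S) (h : X ⟶ H), lift h (1 : X ⟶ G) ≫ a.act = 1 := fun X h => by
    have e := hmul X h 1 1
    rw [_root_.one_mul] at e
    exact left_eq_mul.1 e
  have hinv : ∀ (X : Over S) (h : X ⟶ H) (g : X ⟶ G), lift h g⁻¹ ≫ a.act = (lift h g ≫ a.act)⁻¹ := fun X h g => by
    rw [eq_inv_iff_mul_eq_one, ← hmul X h g⁻¹ g, inv_mul_cancel, hone]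
  obtain ⟨e', he'⟩ := (hZ _ η[G]).mpr fun X' q h => by
    rw [show q ≫ η[G] = (1 : X' ⟶ G) by rw [Hom.one_def, toUnit_unique q (toUnit _)], hone]
  obtain ⟨m', hm'⟩ := (hZ _ ((fst Z Z ≫ j) * (snd Z Z ≫ j))).mpr fun X' q h => by
    rw [MonObj.comp_mul, hmul, (hZ _ _).mp ⟨_, rfl⟩ X' q h, (hZ _ _).mp ⟨_, rfl⟩ X' q h]
  obtain ⟨v', hv'⟩ := (hZ _ j⁻¹).mpr fun X' q h => by
    rw [GrpObj.comp_inv, hinv]
    exact congrArg _ ((hZ _ _).mp ⟨𝟙 Z, Category.id_comp j⟩ X' q h)
  obtain ⟨str, hstr⟩ := GrpSchLib.exists_grpObj_of_mono j e' he' m' hm' v' hv'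
  exact ⟨Z, str, j, hstr, hj, hZs, fun X g => hZ X g⟩

end Groth.Agent.S5442
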