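import Groth.Statements.S4933
import Groth.Agent.FibDim.GenerizeDim

set_option autoImplicit false
open CategoryTheory AlgebraicGeometry
universe u v w
open EGA43

namespace Groth.Agent.S4933

/-- Let f : X ⟶ Y be a morphism locally of finite type, x a point of X which is a maximal point of its
fibre X_y, y = f x. Consider: a) f is universally open at x; b) for every irreducible component Y₀
of Y containing y, with generic point η, there is an irreducible component Z of X containing x and
dominating Y₀ such that dim_x(X_y) = dim_x(Z ∩ X_y) = dim(Z ∩ X_η); b') for every open neighbourhood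
U of x and every generization y' of y one has dim(U ∩ X_{y'}) ≥ dim_x(X_y). Then a) implies b'), and
b') implies b). (Subsets of X carry the induced topology; dim_x(U ∩ X_y) = dim_x(X_y). The published
statement asserts moreover that b) implies b'); that implication can fail, because a generization y'
of y need not lie under any point of U ∩ Z: for the finite birational morphism from the affine plane
onto the surface obtained from it by identifying two rational points p and q, at x = p condition b)
holds with all dimensions equal to 0, while for U the complement of a line L through q avoiding p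
and y' the image of the generic point of L the set U ∩ X_{y'} is empty. So only a) ⇒ b') and b') ⇒
b) are stated here.) -/
theorem result {X Y : Scheme.{u}} (f : X ⟶ Y) [LocallyOfFiniteType f]
    (x : X) (hmax : ∀ x' : X, f.base x' = f.base x → x ∈ closure {x'} → x' = x) :
    (EGA43.IsUnivOpenAt f x → (∀ U : X.Opens, x ∈ U → ∀ y' : Y, y' ⤳ f.base x →
        FlatMor.fibreDimAt f x ≤ topologicalKrullDim ↥((U : Set X) ∩ f.base ⁻¹' {y'}))) ∧
    ((∀ U : X.Opens, x ∈ U → ∀ y' : Y, y' ⤳ f.base x →
        FlatMor.fibreDimAt f x ≤ topologicalKrullDim ↥((U : Set X) ∩ f.base ⁻¹' {y'})) →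
      (∀ Y₀ ∈ irreducibleComponents (Y : Type u), f.base x ∈ Y₀ →
        ∃ Z ∈ irreducibleComponents (X : Type u), ∃ hx : x ∈ Z, closure (f.base '' Z) = Y₀ ∧
          ∀ η : Y, closure ({η} : Set Y) = Y₀ →
            FlatMor.fibreDimAt f x = FlatMor.localDim ↥(Z ∩ f.base ⁻¹' {f.base x}) ⟨x, ⟨hx, rfl⟩⟩ ∧
            FlatMor.localDim ↥(Z ∩ f.base ⁻¹' {f.base x}) ⟨x, ⟨hx, rfl⟩⟩ =
              topologicalKrullDim ↥(Z ∩ f.base ⁻¹' {η}))) := by
  have hm : FibDim.FibMax f x := fun z h1 h2 => hmax z h2 (specializes_iff_mem_closure.1 h1)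
  refine ⟨fun h U hU y' hy' => ?_, fun h Y₀ hY₀ hxY₀ => ?_⟩
  · obtain ⟨z, hz, hfz, hr⟩ := FibDim.exists_rd_ge_of_univOpenAt f h U hU hy'
    rw [FibDim.fibreDimAt_eq_rd f hm, FibDim.dim_open_inter_eq_iSup f y' U.isOpen]
    exact le_iSup_of_le ⟨z, hz, hfz⟩ (by exact_mod_cast hr)
  · obtain ⟨η, rfl, hη⟩ := FDescent.exists_maximal_of_mem_irreducibleComponents hY₀
    obtain ⟨ζ, hζ, hfζ, hr, hζm⟩ := FibDim.exists_generization_of_dim_ge f hm
      (specializes_iff_mem_closure.2 hxY₀) (fun U hU => h U hU η (specializes_iff_mem_closure.2 hxY₀))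
    have hζmax : ∀ v, v ⤳ ζ → v = ζ := fun v hv =>
      hζm v hv ((hη (f v) (hfζ ▸ hv.map f.continuous)).trans hfζ.symm)
    refine ⟨closure {ζ}, FDescent.closure_mem_irreducibleComponents hζmax, specializes_iff_mem_closure.1 hζ, ?_, ?_⟩
    · rw [closure_image_closure f.continuous, Set.image_singleton, hfζ]
    · intro η' hη'
      obtain rfl : η' = η := IsGenericPoint.eq (hη' : IsGenericPoint η' _) (rfl : IsGenericPoint η (closure {η}))
      obtain ⟨z, hzZ, hzx, hfz, he, hzmax⟩ := FibDim.exists_localDim_inter_eq f (isClosed_closure (s := {ζ})) x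
        (specializes_iff_mem_closure.1 hζ)
      obtain rfl := hm z hzx hfz
      rw [FibDim.fibreDimAt_eq_rd f hm, he, ← hfζ, FibDim.dim_closure_inter, hr]
      exact ⟨rfl, rfl⟩

end Groth.Agent.S4933
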