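import Groth.Statements.S4098
import Groth.Agent.GeomIrrSpread.OpenSubgroup
import Groth.Agent.GeomIrrSpread.NeutralRep

set_option autoImplicit false
universe u
open CategoryTheory MonoidalCategory CartesianMonoidalCategory MonObj GrpObj AlgebraicGeometry CategoryTheory.Limits
open SGA3

namespace Groth.Agent.S4098

/-- Let G be an S-group scheme which is smooth over S at every point of the unit section (some open of G
containing the unit section is smooth over S). Then the union G⁰ of the connected components of the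
unit in the fibres G_s is open in G, and there is an open subgroup scheme of G, smooth and
quasi-compact over S, with underlying set G⁰. -/
theorem result (S : Scheme.{u}) (G : Over S) [GrpObj G]
    (hsm : ∃ U : G.left.Opens, Smooth (U.ι ≫ G.hom) ∧ ∀ p : ↥(𝟙_ (Over S)).left, η[G].left.base p ∈ U) :
    IsOpen (SGA3x.neutralSet G) ∧
    ∃ (G0 : Over S) (_ : GrpObj G0) (i : G0 ⟶ G), IsMonHom i ∧ IsOpenImmersion i.left ∧
      Set.range i.left.base = SGA3x.neutralSet G ∧ Smooth G0.hom ∧ QuasiCompact G0.hom := by
  obtain ⟨U, hU, hunit⟩ := hsm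
  haveI := hU
  haveI := GeomIrrSpread.lfpNearUnit_of_smooth G U hunit
  obtain ⟨N, hN, hNs⟩ := GeomIrrSpread.exists_smooth_open G U hunit
  obtain ⟨str, hstr⟩ := GeomIrrSpread.exists_grpObj_open G N hN
  refine ⟨hN ▸ N.2, Over.mk (N.ι ≫ G.hom), str, Over.homMk N.ι rfl, hstr, inferInstanceAs (IsOpenImmersion N.ι),
    (Scheme.Opens.range_ι N).trans hN, hNs, ?_⟩
  refine quasiCompact_iff_forall_isAffineOpen.mpr fun V hV => ?_
  rw [Scheme.Hom.coe_preimage, N.ι.isOpenEmbedding.isInducing.isCompact_iff]
  refine (congrArg IsCompact ?_).mpr (GeomIrrSpread.isCompact_neutralSet_inter G hV)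
  show N.ι '' ((N.ι ≫ G.hom) ⁻¹' (V : Set S)) = _
  rw [Scheme.Hom.comp_base, TopCat.coe_comp, Set.preimage_comp, Set.image_preimage_eq_range_inter,
    Scheme.Opens.range_ι, hN]

end Groth.Agent.S4098
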