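import Groth.Statements.S1582
import Groth.Agent.GrpSchLib.GeomIrr
import Groth.Agent.FBaseLib.Product
import Groth.Agent.GeomField.Reduced

set_option autoImplicit false
universe u
open CategoryTheory CategoryTheory.Limits AlgebraicGeometry
open Variety

namespace Groth.Agent.S1582


set_option backward.isDefEq.respectTransparency.types false

/-- Let k be algebraically closed and X, Y varieties over k (integral, separated, of finite type). Then
the fibre product X ×_k Y is integral (and so again a variety over k). -/
theorem result (k : Type u) [Field k] [IsAlgClosed k] (X Y : Scheme.{u})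
    (f : X ⟶ Spec (CommRingCat.of k)) (g : Y ⟶ Spec (CommRingCat.of k))
    [IsIntegral X] [IsIntegral Y] [IsSeparated f] [IsSeparated g]
    [LocallyOfFiniteType f] [LocallyOfFiniteType g] [QuasiCompact f] [QuasiCompact g] :
    IsIntegral (pullback f g) := by
  haveI := GrpSchLib.geometricallyIrreducible_of_isAlgClosed f
  haveI : GeometricallyReduced f := by
    letI : X.Over (Spec (CommRingCat.of k)) := ⟨f⟩
    exact (GeomField.geometricallyReduced_iff (k := k) (X := X)).2 fun x => GeomField.isGeomReducedAt_of_perfect x
  haveI : IsReduced (pullback f g) := FBaseLib.isReduced_pullback f g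
  haveI : IrreducibleSpace ↥(pullback f g) := inferInstance
  exact isIntegral_of_irreducibleSpace_of_isReduced _

end Groth.Agent.S1582
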