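import Groth.Statements.S1348
import Groth.Agent.Triage.SliceFlatSch

set_option autoImplicit false
universe u
open FlatMor

set_option backward.isDefEq.respectTransparency false

namespace Groth.Agent.S1348

open AlgebraicGeometry CategoryTheory Limits in
/-- Let f be locally of finite presentation and flat at a point x with image s, and let h be an element
of the maximal ideal of the local ring at x whose image in the local ring of the fibre (the local
ring at x modulo the ideal generated by the maximal ideal at s) is a nonzerodivisor. Then there is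
an affine open neighbourhood U of x and a nonzerodivisor of its coordinate ring with germ h at x (so
its zero locus is an effective Cartier divisor of U through x) whose zero scheme is flat and locally
of finite presentation over the base. -/
theorem result {X S : Scheme.{u}} (f : X ⟶ S) [LocallyOfFinitePresentation f] (x : X)
    (hflat : (f.stalkMap x).hom.Flat) (h : X.presheaf.stalk x) (hm : h ∈ IsLocalRing.maximalIdeal (X.presheaf.stalk x))
    (hreg : Ideal.Quotient.mk (Ideal.map (f.stalkMap x).hom (IsLocalRing.maximalIdeal (S.presheaf.stalk (f x)))) h ∈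
      nonZeroDivisors (X.presheaf.stalk x ⧸ Ideal.map (f.stalkMap x).hom (IsLocalRing.maximalIdeal (S.presheaf.stalk (f x))))) :
    ∃ (U : X.Opens) (hU : IsAffineOpen U) (hx : x ∈ U) (h' : Γ(X, U)), X.presheaf.germ U x hx h' = h ∧ h' ∈ nonZeroDivisors Γ(X, U) ∧
      Flat (Spec.map (CommRingCat.ofHom (Ideal.Quotient.mk (Ideal.span {h'}))) ≫ hU.fromSpec ≫ f) ∧
      LocallyOfFinitePresentation (Spec.map (CommRingCat.ofHom (Ideal.Quotient.mk (Ideal.span {h'}))) ≫ hU.fromSpec ≫ f) := by
  obtain ⟨V, hV, U, hU, hx, -, e, hs', hgerm, hfp, hwr, hfl⟩ :=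
    Triage.SliceFlat.exists_slice_sch f x hflat [h] (by simpa using hm) (fun i hi z hz => by
      obtain rfl : i = 0 := by simpa using hi
      simp only [List.take_zero, Ideal.ofList_nil, bot_sup_eq, List.getElem_cons_zero] at hz ⊢
      rw [← Ideal.Quotient.eq_zero_iff_mem, map_mul] at hz
      rw [← Ideal.Quotient.eq_zero_iff_mem]
      exact (mem_nonZeroDivisors_iff.1 hreg).1 _ hz) ⊤ trivial
  match hs', hgerm with
  | [h'], hgerm =>
    simp only [List.map_cons, List.map_nil, List.cons.injEq, and_true] at hgerm
    have hnzd : h' ∈ nonZeroDivisors Γ(X, U) := by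
      have h0 := (RingTheory.Sequence.isWeaklyRegular_cons_iff Γ(X, U) h' []).1 hwr
      rw [mem_nonZeroDivisors_iff]
      refine ⟨fun z hz => ?_, fun z hz => ?_⟩ <;>
        exact h0.1.right_eq_zero_of_smul (by simpa [smul_eq_mul, mul_comm] using hz)
    obtain ⟨h1, h2⟩ := Triage.SliceFlat.flat_and_lfp_spec f hV hU e [h'] hfp (hfl 1)
    refine ⟨U, hU, hx, h', hgerm, hnzd, ?_⟩
    rw [show Ideal.span {h'} = Ideal.ofList [h'] from (Ideal.ofList_singleton h').symm]
    exact ⟨h1, h2⟩
  | [], hgerm => simp at hgerm
  | _ :: _ :: _, hgerm => simp at hgerm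

end Groth.Agent.S1348
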