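import Groth.Statements.S6266
import Mathlib
import Groth.Agent.FlatCxLib.Reduced

set_option autoImplicit false
universe u
open scoped TensorProduct
open CAlg

namespace Groth.Agent.S6266

/-- Let R be a reduced ring and M an R-module. Then M is a finite projective R-module if and only if M
is finitely generated and the function on Spec R sending a prime p to the dimension of κ(p) ⊗ M over
the residue field κ(p) is locally constant for the Zariski topology. -/
theorem result (R : Type u) [CommRing R] [IsReduced R] (M : Type u) [AddCommGroup M] [Module R M] : (Module.Finite R M ∧ Module.Projective R M) ↔ (Module.Finite R M ∧ IsLocallyConstant (fun p : PrimeSpectrum R => Module.finrank p.asIdeal.ResidueField (p.asIdeal.ResidueField ⊗[R] M))) := by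
  constructor
  · rintro ⟨h1, h2⟩
    have : Module.FinitePresentation R M := Module.finitePresentation_of_projective R M
    exact ⟨h1, Groth.Agent.FlatCxLib.isLocallyConstant_fibreRank (A := R) M⟩
  · rintro ⟨h1, h2⟩
    refine ⟨h1, ?_⟩
    have hflat : Module.Flat R M := Groth.Agent.FlatCxLib.flat_of_isLocallyConstant_fibreRank (A := R) M h2
    have h3 : IsLocallyConstant (Module.rankAtStalk (R := R) M) := by
      have e : Groth.Agent.FlatCxLib.fibreRank (A := R) M = Module.rankAtStalk M :=
        funext fun x => Groth.Agent.FlatCxLib.fibreRank_eq_rankAtStalk M x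
      exact e ▸ h2
    let s : Set R := {f : R | ∃ a : R, Module.Free (Localization.Away f) (LocalizedModule.Away f M) ∧ a = f}
    have hs : Ideal.span s = ⊤ := by
      by_contra hne
      obtain ⟨m, hm, hle⟩ := Ideal.exists_le_maximal _ hne
      let p : PrimeSpectrum R := ⟨m, hm.isPrime⟩
      obtain ⟨_, ⟨f, rfl⟩, hpf, hsub⟩ := PrimeSpectrum.isTopologicalBasis_basic_opens.exists_subset_of_mem_open
        (show p ∈ Module.rankAtStalk (R := R) M ⁻¹' {Module.rankAtStalk M p} from rfl) (h3.isOpen_fiber _)
      let Rf := Localization.Away f
      have hconst : ∀ q : PrimeSpectrum Rf, Module.rankAtStalk (Rf ⊗[R] M) q = Module.rankAtStalk M p := by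
        intro q
        rw [Module.rankAtStalk_baseChange]
        refine hsub ?_
        rw [SetLike.mem_coe, ← SetLike.mem_coe, ← PrimeSpectrum.localization_away_comap_range Rf f]
        exact ⟨q, rfl⟩
      obtain ⟨q, hq⟩ : p ∈ Set.range (PrimeSpectrum.comap (algebraMap R Rf)) := by
        rw [PrimeSpectrum.localization_away_comap_range Rf f]; exact hpf
      obtain ⟨a, haq, hfree⟩ := Module.Free.away_of_finite_of_flat_of_rankAtStalk_constant
        (Rf ⊗[R] M) q.asIdeal (fun n _ => (hconst _).trans (hconst q).symm)
      obtain ⟨⟨b, t⟩, hbt⟩ := IsLocalization.surj (Submonoid.powers f) a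
      have hb : b ∉ m := by
        intro hbm
        have h' : algebraMap R Rf b ∈ q.asIdeal := by
          have := congrArg PrimeSpectrum.asIdeal hq
          rw [PrimeSpectrum.comap_asIdeal] at this
          exact this.ge hbm
        rw [← hbt] at h'
        exact haq ((Ideal.mul_unit_mem_iff_mem _ (IsLocalization.map_units Rf t)).mp h')
      have hprod : f * b ∈ Ideal.span s := by
        refine Ideal.subset_span ⟨f * b, ?_, rfl⟩
        let L := Localization.Away (f * b)
        have hu : IsUnit (algebraMap R L f) :=
          isUnit_of_mul_isUnit_left (map_mul (algebraMap R L) f b ▸ IsLocalization.Away.algebraMap_isUnit (f * b))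
        let φ : Rf →ₐ[R] L := IsLocalization.liftAlgHom (M := Submonoid.powers f) (f := Algebra.ofId R L) (fun y => by
          obtain ⟨n, hn⟩ := y.2
          rw [← hn, map_pow]
          exact hu.pow n)
        have hua : IsUnit (φ a) := by
          have := congrArg φ hbt
          rw [map_mul, AlgHom.commutes, AlgHom.commutes] at this
          refine isUnit_of_mul_isUnit_left (y := algebraMap R L (t : R)) (this ▸ ?_)
          exact isUnit_of_mul_isUnit_right (map_mul (algebraMap R L) f b ▸ IsLocalization.Away.algebraMap_isUnit (f * b))
        let ψ : Localization.Away a →+* L := IsLocalization.Away.lift a (g := φ.toRingHom) hua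
        let := φ.toRingHom.toAlgebra
        have : IsScalarTower R Rf L := IsScalarTower.of_algebraMap_eq' φ.comp_algebraMap.symm
        let := ψ.toAlgebra
        have : IsScalarTower Rf (Localization.Away a) L := by
          refine ⟨fun r x y => ?_⟩
          rw [Algebra.smul_def r x, Algebra.smul_def, Algebra.smul_def, Algebra.smul_def, map_mul, mul_assoc]
          congr 1
          exact IsLocalization.Away.lift_eq a (g := φ.toRingHom) hua r
        let e1 := (LocalizedModule.equivTensorProduct (Submonoid.powers a) (Rf ⊗[R] M))
        have : Module.Free (Localization.Away a) (Localization.Away a ⊗[Rf] (Rf ⊗[R] M)) := Module.Free.of_equiv e1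
        have : Module.Free L (L ⊗[Rf] (Rf ⊗[R] M)) := Module.Free.of_equiv
          (TensorProduct.AlgebraTensorModule.cancelBaseChange Rf (Localization.Away a) L L (Rf ⊗[R] M))
        have : Module.Free L (L ⊗[R] M) := Module.Free.of_equiv
          (TensorProduct.AlgebraTensorModule.cancelBaseChange R Rf L L M)
        exact Module.Free.of_equiv (LocalizedModule.equivTensorProduct (Submonoid.powers (f * b)) M).symm
      rcases hm.isPrime.mem_or_mem (hle hprod) with h | h
      · exact hpf h
      · exact hb h
    have : Module.FinitePresentation R M := Module.FinitePresentation.of_localizationSpan s hs fun g => by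
      obtain ⟨-, hfree, -⟩ := g.2
      exact Module.finitePresentation_of_projective _ _
    exact Module.freeLocus_eq_univ_iff.mp Module.freeLocus_eq_univ

end Groth.Agent.S6266
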