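import Groth.Statements.S10834
import Groth.Agent.FlatLoc6.SerreNormal
import Groth.Agent.FlatLoc6.CutDown
import Groth.Agent.FlatLoc6.RegCM
import Mathlib

set_option autoImplicit false
universe u
open CAlg

namespace Groth.Agent.S10834
open Groth.Agent IsLocalRing in
theorem depth_of_regular (R : Type u) [CommRing R] [IsRegularLocalRing R] :
    ((LocCoh.depth R R : ℕ∞) : WithBot ℕ∞) = ringKrullDim R := by
  haveI := LC.gorenstein_of_isRegularLocalRing (R := R)
  haveI hCM : LocCoh.IsCohenMacaulayLocalRing R := LC.isCohenMacaulayLocalRing_of_gorenstein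
  rw [← hCM.supportDim_eq_depth, Module.supportDim_self_eq_ringKrullDim]

open Groth.Agent IsLocalRing in
theorem depth_quotient_atPrime {A : Type u} [CommRing A] [IsNoetherianRing A]
    (hreg : ∀ (p : Ideal A) (_ : p.IsPrime), IsRegularLocalRing (Localization.AtPrime p)) (t : A)
    (q' : Ideal (A ⧸ Ideal.span {t})) [q'.IsPrime] :
    ((LocCoh.depth (Localization.AtPrime q') (Localization.AtPrime q') : ℕ∞) : WithBot ℕ∞) =
      ringKrullDim (Localization.AtPrime q') := by
  let q := q'.comap (Ideal.Quotient.mk (Ideal.span {t}))
  haveI : q.IsPrime := Ideal.comap_isPrime _ _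
  let R := Localization.AtPrime q
  haveI := hreg q inferInstance
  let τ : R := algebraMap A R t
  obtain ⟨ψ⟩ := RegLoc6.exists_quotLocalEquiv (Ideal.span {t}) q q' rfl
  have hI : (Ideal.span {t}).map (algebraMap A R) = Ideal.span {τ} := by
    rw [Ideal.map_span, Set.image_singleton]
  let φ : (R ⧸ Ideal.span {τ}) ≃+* Localization.AtPrime q' := (Ideal.quotEquivOfEq hI.symm).trans ψ
  haveI := RegLoc6.isDomain_of_isRegularLocalRing R
  by_cases h0 : τ = 0
  · have hbot : Ideal.span ({τ} : Set R) = ⊥ := by rw [h0]; simp
    let ε : R ≃+* Localization.AtPrime q' :=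
      ((RingEquiv.quotientBot R).symm.trans (Ideal.quotEquivOfEq hbot.symm)).trans φ
    haveI : IsRegularLocalRing (Localization.AtPrime q') := .of_ringEquiv ε
    exact depth_of_regular _
  have hτm : τ ∈ maximalIdeal R := (IsLocalization.AtPrime.to_map_mem_maximal_iff R q t).mpr (by
    show Ideal.Quotient.mk (Ideal.span {t}) t ∈ q'
    rw [Ideal.Quotient.eq_zero_iff_mem.2 (Ideal.mem_span_singleton_self t)]
    exact zero_mem _)
  have hτreg : IsSMulRegular R τ := fun x y h => mul_left_cancel₀ h0 h
  have hdepth : LocCoh.depth (Localization.AtPrime q') (Localization.AtPrime q') + 1 = LocCoh.depth R R := by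
    unfold LocCoh.depth
    rw [← LC.idealDepth_quotSMulTop_add_one (maximalIdeal R) hτm hτreg]
    congr 1
    let e₁ : QuotSMulTop τ R ≃ₗ[R] R ⧸ Ideal.span {τ} :=
      Submodule.quotEquivOfEq _ _ (by rw [← Submodule.ideal_span_singleton_smul, Ideal.smul_eq_mul, Ideal.mul_top])
    exact ((LC.idealDepth_congr _ e₁).trans (Alg6.depth_eq_of_semilinear
      (φ.toRingHom.comp (Ideal.Quotient.mk _)) (φ.surjective.comp Ideal.Quotient.mk_surjective) φ.toAddEquiv
      fun r x => by
        obtain ⟨x, rfl⟩ := Ideal.Quotient.mk_surjective x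
        exact map_mul φ (Ideal.Quotient.mk _ r) (Ideal.Quotient.mk _ x))).symm
  have h := ringKrullDim_quotient_span_singleton_succ_eq_ringKrullDim hτreg hτm
  have h2 := depth_of_regular R
  rw [ringKrullDim_eq_of_ringEquiv φ, IsLocalization.AtPrime.ringKrullDim_eq_height q' (Localization.AtPrime q'),
    ← h2, ← hdepth, ← WithBot.coe_one, ← WithBot.coe_add, WithBot.coe_inj] at h
  rw [IsLocalization.AtPrime.ringKrullDim_eq_height q' (Localization.AtPrime q'), WithBot.coe_inj]
  exact ((ENat.add_left_injective_of_ne_top ENat.one_ne_top) h).symm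



/-- Let A be a Noetherian ring whose localizations at all prime ideals are regular local rings, and f an
element of A generating a prime ideal, so that A/(f) is an integral domain (an integral hypersurface
in the regular affine scheme Spec A). Then A/(f) is normal (integrally closed in its fraction field)
if and only if it is regular in codimension 1, i.e. its localization at every prime at which the
local ring has dimension 1 is a regular local ring. -/
theorem result (A : Type u) [CommRing A]
    [IsNoetherianRing A] (hreg : ∀ (p : Ideal A) (_ : p.IsPrime), IsRegularLocalRing (Localization.AtPrime p))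
    (f : A) (hf : (Ideal.span ({f} : Set A)).IsPrime) :
    IsIntegrallyClosed (A ⧸ Ideal.span ({f} : Set A)) ↔
      ∀ q : PrimeSpectrum (A ⧸ Ideal.span ({f} : Set A)),
        ringKrullDim (Localization.AtPrime q.asIdeal) = 1 →
          IsRegularLocalRing (Localization.AtPrime q.asIdeal) := by
  haveI := hf
  haveI : IsDomain (A ⧸ Ideal.span ({f} : Set A)) := Ideal.Quotient.isDomain _
  constructor
  · intro h q hq
    haveI : IsIntegrallyClosed (Localization.AtPrime q.asIdeal) :=
      isIntegrallyClosed_of_isLocalization _ q.asIdeal.primeCompl q.asIdeal.primeCompl_le_nonZeroDivisors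
    exact Groth.Agent.FlatLoc6.regular_of_normal _ hq.le
  · intro h
    refine IsIntegrallyClosed.of_localization_maximal fun p _ hp => ?_
    haveI : p.IsPrime := hp.isPrime
    refine (Groth.Agent.FlatLoc6.normal_atPrime_of_le p (fun q _ _ hq => ?_) fun q _ _ => ?_).2
    · rcases Order.le_one_iff.1 hq with h0 | h1
      · have hb : q = ⊥ := Ideal.height_eq_zero_iff_eq_bot.1 h0
        subst hb
        refine Groth.Agent.RegLoc6.isRegularLocalRing_of_isField
          (IsLocalRing.isField_iff_maximalIdeal_eq.2 ?_)
        rw [← Localization.AtPrime.map_eq_maximalIdeal, Ideal.map_bot]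
      · exact h ⟨q, inferInstance⟩ (by
          rw [IsLocalization.AtPrime.ringKrullDim_eq_height q, h1]; rfl)
    · have hd := depth_quotient_atPrime hreg f q
      rw [IsLocalization.AtPrime.ringKrullDim_eq_height q, WithBot.coe_inj] at hd
      rw [hd]
      exact min_le_right _ _


end Groth.Agent.S10834
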