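import Groth.Statements.S8395
import Groth.Agent.GrpSchLib.PowEtale

set_option autoImplicit false
universe u
open CategoryTheory MonoidalCategory CartesianMonoidalCategory MonObj GrpObj AlgebraicGeometry
open SGA3x

namespace Groth.Agent.S8395

/-- Let k be a field, G a k-group scheme locally of finite type, n an integer invertible in k, and u : G
→ G the n-th power morphism. Then u is etale at every point of G lying in the centre of G; here
stated at a k-rational point g of G which is central (commutes with all points of G): u is etale on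
some open neighbourhood of g. (The published statement is for any point of the centre; its proof
reduces to rational points by extending the base field.) -/
theorem result (k : Type u) [Field k]
    (G : Over (Spec (CommRingCat.of k))) [GrpObj G] [LocallyOfFiniteType G.hom] (n : ℕ) (hn : (n : k) ≠ 0)
    (g : 𝟙_ (Over (Spec (CommRingCat.of k))) ⟶ G)
    (hg : ∀ (X : Over (Spec (CommRingCat.of k))) (x : X ⟶ G), (toUnit X ≫ g) * x = x * (toUnit X ≫ g)) :
    ∃ U : G.left.Opens, Set.range g.left.base ⊆ (U : Set ↥G.left) ∧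
      Etale (U.ι ≫ ((𝟙 G : G ⟶ G) ^ n).left) := by
  let τ : (𝟙_ (Over (Spec (CommRingCat.of k))) ⟶ G) → (G ⟶ G) := fun a => (toUnit G ≫ a) * 𝟙 G
  have hτ : ∀ (a : 𝟙_ (Over (Spec (CommRingCat.of k))) ⟶ G) (Y : Over (Spec (CommRingCat.of k))) (f : Y ⟶ G),
      f ≫ τ a = (toUnit Y ≫ a) * f := fun a Y f => by
    simp only [τ, MonObj.comp_mul, Category.comp_id]
    rw [← Category.assoc, toUnit_unique (f ≫ toUnit G) (toUnit Y)]
  have hcancel : ∀ a b : 𝟙_ (Over (Spec (CommRingCat.of k))) ⟶ G, b * a = 1 → τ a ≫ τ b = 𝟙 G := fun a b h => by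
    rw [hτ, ← _root_.mul_assoc, ← MonObj.comp_mul, h, MonObj.comp_one, _root_.one_mul]
  let e : G ≅ G := ⟨τ g, τ g⁻¹, hcancel _ _ (inv_mul_cancel g), hcancel _ _ (mul_inv_cancel g)⟩
  let u : G ⟶ G := (𝟙 G : G ⟶ G) ^ n
  have hu : ∀ (Y : Over (Spec (CommRingCat.of k))) (f : Y ⟶ G), f ≫ u = f ^ n := fun Y f => by
    rw [MonObj.comp_pow, Category.comp_id]
  have hcomm : e.hom ≫ u = u ≫ τ (g ^ n) := by
    rw [hu, hτ]
    show ((toUnit G ≫ g) * 𝟙 G) ^ n = _
    rw [Commute.mul_pow (hg G (𝟙 G)), MonObj.comp_pow]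
  haveI : IsIso (τ (g ^ n)) := ⟨τ (g ^ n)⁻¹, hcancel _ _ (inv_mul_cancel _), hcancel _ _ (mul_inv_cancel _)⟩
  haveI : IsIso (τ (g ^ n)).left := (inferInstance : IsIso ((Over.forget _).map (τ (g ^ n))))
  haveI : IsIso e.inv.left := ((Over.forget _).mapIso e.symm).isIso_hom
  obtain ⟨U, hU, hE⟩ := Groth.Agent.GrpSchLib.PowEtale.loc_etale (X := G) n hn
  refine ⟨e.inv.left ⁻¹ᵁ U, ?_, ?_⟩
  · rintro _ ⟨p, rfl⟩
    show e.inv.left (g.left p) ∈ U
    rw [← Scheme.Hom.comp_apply, ← Over.comp_left]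
    have : g ≫ e.inv = η[G] := by
      show g ≫ τ g⁻¹ = _
      rw [hτ, toUnit_unique (toUnit (𝟙_ _)) (𝟙 _), Category.id_comp, inv_mul_cancel, Hom.one_def,
        toUnit_unique (toUnit (𝟙_ _)) (𝟙 _), Category.id_comp]
    rw [this, Subsingleton.elim (α := PrimeSpectrum k) p (IsLocalRing.closedPoint k)]
    exact hU
  have h : (e.inv.left ⁻¹ᵁ U).ι ≫ u.left = (e.inv.left ∣_ U) ≫ (U.ι ≫ u.left) ≫ (τ (g ^ n)).left := by
    rw [← Category.assoc, ← Category.assoc, morphismRestrict_ι, Category.assoc, Category.assoc,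
      ← Over.comp_left, ← Over.comp_left, ← hcomm, Iso.inv_hom_id_assoc]
  show Etale ((e.inv.left ⁻¹ᵁ U).ι ≫ u.left)
  rw [h]
  haveI : Etale (U.ι ≫ u.left) := hE
  infer_instance

end Groth.Agent.S8395
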