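import Groth.Statements.S5722
import Groth.Agent.SymAlgX.Gen
import Groth.Agent.RelTildeX.Twist
import Groth.Agent.GrTwistX.Ample
import Groth.Agent.AmpleX.Comp
import Groth.Agent.AmpleX.RelAffine
import Groth.Agent.ParaFX.Closed

set_option autoImplicit false
universe u
open CategoryTheory CategoryTheory.Limits AlgebraicGeometry TopologicalSpace Opposite
open scoped HomogeneousIdeal
open EGA2

namespace Groth.Agent.S5722

open Groth.Agent Groth.Agent.RelTildeX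

lemma relAmple_of_isAmple {W Z : Scheme.{u}} (f : W ⟶ Z) [IsAffine Z] (L : W.Modules) (h : CohB1.IsAmple L)
    [QuasiCompact f] : RelAmple.IsRelAmple f L :=
  AmpleX.isRelAmple_of_ampleOn fun _ => ⟨⊤, W, 𝟙 W, inferInstance, trivial,
    (Scheme.Hom.opensRange_of_isIso (𝟙 W)).ge.trans' le_top, AmpleX.isAmple_of_iso (Scheme.Modules.restrictFunctorId.app L).symm h⟩

lemma isAmple_of_relAmple {W Z : Scheme.{u}} (f : W ⟶ Z) [IsAffine Z] (L : W.Modules) (hL : PicF.IsInvertible L)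
    (h : RelAmple.IsRelAmple f L) : CohB1.IsAmple L :=
  AmpleX.isAmple_of_iso (Scheme.Modules.restrictFunctorId.app L)
    (AmpleX.isAmple_restrict_congr (f ⁻¹ᵁ ⊤).ι (𝟙 W) hL (by rw [Scheme.Hom.opensRange_of_isIso (𝟙 W), Scheme.Opens.opensRange_ι]; rfl) (h.2 ⟨⊤, isAffineOpen_top Z⟩))

/-- Let f : X → Y be a quasi-compact morphism, E a quasi-coherent O_Y-module, 𝒮 its graded symmetric
algebra, p : P → Y the projective bundle P(E) = Proj(𝒮) with its charts over affine opens, and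
O_P(1) its fundamental sheaf, given with its chart identifications. If g : X → P is a Y-morphism (g
≫ p = f) whose underlying map is a homeomorphism of X onto a subspace of P, then the inverse image
g^*O_P(1) is ample relative to f. -/
theorem result {X Y : Scheme.{u}} (f : X ⟶ Y) [QuasiCompact f]
    (E : Y.Modules) (hE : Coh.IsQCoh E) (𝒮 : RelProj.QCGrAlg Y) (j : E ⟶ 𝒮.toModule)
    (hj : RelProj.IsGrSymAlg E 𝒮 j) (P : Scheme.{u}) (p : P ⟶ Y)
    (chart : ∀ (U : Y.Opens) (hU : IsAffineOpen U), ((p ⁻¹ᵁ U : P.Opens) : Scheme.{u}) ≅ Proj (𝒮.deg U hU))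
    (hP : RelProj.IsRelProj 𝒮 p chart) (O1 : P.Modules)
    (lam : ∀ (U : Y.Opens) (hU : IsAffineOpen U),
      O1 ⟶ (Scheme.Modules.pushforward (RelProj.emb p chart U hU)).obj (GrTwist.twist (𝒮.deg U hU) 1))
    (hO1 : RelProj.IsRelTwist 𝒮 p chart 1 O1 lam)
    (g : X ⟶ P) (hg : g ≫ p = f) (hemb : Topology.IsEmbedding g.base) :
    RelAmple.IsRelAmple f ((Scheme.Modules.pullback g).obj O1) := by
  classical
  have hgen := SymAlgX.isGenDegOne hE hj
  refine AmpleX.isRelAmple_of_ampleOn fun x => ?_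
  obtain ⟨_, ⟨U, hU, rfl⟩, hxU, -⟩ := Y.isBasis_affineOpens.exists_subset_of_mem_open
    (Set.mem_univ (f x)) isOpen_univ
  refine ⟨U, _, (f ⁻¹ᵁ U).ι, inferInstance, hxU, by simp, ?_⟩
  let 𝒜 := 𝒮.deg U hU
  let e := RelProj.emb p chart U hU
  have hcov : ∀ y : ProjectiveSpectrum 𝒜, ∃ t ∈ 𝒜 1, t ∉ y.asHomogeneousIdeal := fun y => by
    by_contra! hall
    exact y.not_irrelevant_le (show (𝒜₊).toIdeal ≤ y.asHomogeneousIdeal.toIdeal from
      irrelevant_eq_span_deg_one hgen U hU ▸ Ideal.span_le.mpr hall)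
  let K : X.Opens := f ⁻¹ᵁ U
  have hK : IsCompact (K : Set X) := f.isCompact_preimage hU.isCompact
  have hgK : ∀ z ∈ K, g z ∈ e.opensRange := fun z hz => by
    rw [opensRange_emb]; show p (g z) ∈ U; rw [← Scheme.Hom.comp_apply, hg]; exact hz
  obtain ⟨F, hF⟩ := hK.elim_finite_subcover
    (fun t : {t // t ∈ 𝒜 1} => (g ⁻¹ᵁ (e ''ᵁ Proj.basicOpen 𝒜 t.1) : Set X))
    (fun t => (g ⁻¹ᵁ (e ''ᵁ Proj.basicOpen 𝒜 t.1)).2) (fun z hz => by
      obtain ⟨y, hy⟩ := hgK z hz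
      obtain ⟨t, ht, hty⟩ := hcov y
      exact Set.mem_iUnion.2 ⟨⟨t, ht⟩, y, hty, hy⟩)
  let T : Finset (𝒮.presheaf.obj (op U)) := F.image Subtype.val
  have hT : ∀ t ∈ T, t ∈ 𝒜 1 := fun t ht => by
    obtain ⟨t', -, rfl⟩ := Finset.mem_image.1 ht
    exact t'.2
  let W : (Proj 𝒜).Opens := ⨆ t : T, Proj.basicOpen 𝒜 t.1
  have hW : ∀ y : ProjectiveSpectrum 𝒜, y ∈ W ↔ ∃ t ∈ T, t ∉ y.asHomogeneousIdeal := fun y =>
    ⟨fun hy => by
      obtain ⟨t, ht⟩ := Opens.mem_iSup.1 hy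
      exact ⟨t.1, t.2, ht⟩, fun ⟨t, ht, hty⟩ => Opens.mem_iSup.2 ⟨⟨t, ht⟩, hty⟩⟩
  let e' : (W : Scheme.{u}) ⟶ P := W.ι ≫ e
  have hrange : Set.range (K.ι ≫ g) ⊆ Set.range e' := by
    rintro _ ⟨z, rfl⟩
    obtain ⟨t, ht, y, hty, hy⟩ : ∃ t ∈ T, ∃ y, t ∉ (ProjectiveSpectrum.asHomogeneousIdeal (𝒜 := 𝒜) y) ∧ e y = g z.1 := by
      obtain ⟨t, ht, hz⟩ := Set.mem_iUnion₂.1 (hF z.2)
      obtain ⟨y, hty, hy⟩ := hz
      exact ⟨t.1, Finset.mem_image_of_mem _ ht, y, hty, hy⟩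
    exact ⟨⟨y, (hW y).2 ⟨t, ht, hty⟩⟩, hy⟩
  let gK : (K : Scheme.{u}) ⟶ W := IsOpenImmersion.lift e' (K.ι ≫ g) hrange
  have hfac : gK ≫ e' = K.ι ≫ g := IsOpenImmersion.lift_fac _ _ _
  haveI : CompactSpace K.toScheme := isCompact_iff_compactSpace.1 hK
  haveI : CompactSpace W.toScheme := by
    refine isCompact_iff_compactSpace.1 ?_
    show IsCompact ((⨆ t : T, Proj.basicOpen 𝒜 t.1 : (Proj 𝒜).Opens) : Set (Proj 𝒜))
    rw [Opens.coe_iSup]
    exact isCompact_iUnion fun t => (Proj.isAffineOpen_basicOpen 𝒜 _ (hT _ t.2) one_pos).isCompact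
  haveI : Scheme.IsSeparated W.toScheme := ⟨by
    rw [← terminal.comp_from W.ι]; infer_instance⟩
  haveI : QuasiCompact gK := HasAffineProperty.iff_of_isAffine.2 ‹_› |> fun (_ : QuasiCompact (terminal.from K.toScheme)) => by
    have : QuasiCompact (gK ≫ terminal.from W.toScheme) := by rwa [terminal.comp_from]
    exact QuasiCompact.of_comp gK (terminal.from W.toScheme)
  have hemb' : Topology.IsEmbedding gK.base := by
    have h1 : Topology.IsEmbedding (gK ≫ e').base := by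
      rw [hfac]; exact hemb.comp K.ι.isOpenEmbedding.isEmbedding
    exact Topology.IsEmbedding.of_comp gK.continuous e'.continuous h1
  let fW : (W : Scheme.{u}) ⟶ Spec (CommRingCat.of (𝒜 0)) := W.ι ≫ Proj.toSpecZero 𝒜
  haveI : QuasiCompact fW := (quasiCompact_iff_compactSpace fW).2 inferInstance
  have hA := GrTwistX.isAmple_twist_restrict one_pos hcov T hT W hW
  have hA' : CohB1.IsAmple (O1.restrict e') := AmpleX.isAmple_of_iso
    (((Scheme.Modules.restrictFunctor W.ι).mapIso (twistIso hO1 U hU)).symm ≪≫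
      (ParaFX.restrictTwice O1 W.ι e)) hA
  have hR := AmpleX.isRelAmple_pullback_embedding fW gK hemb' (relAmple_of_isAmple fW _ hA')
  refine AmpleX.isAmple_of_iso ?_ (isAmple_of_relAmple _ _ (AmpleX.isInvertible_of_isRelAmple hR) hR)
  exact (Scheme.Modules.pullback gK).mapIso ((Scheme.Modules.restrictFunctorIsoPullback e').app O1) ≪≫
    (Scheme.Modules.pullbackComp gK e').app O1 ≪≫ (Scheme.Modules.pullbackCongr hfac).app O1 ≪≫
    ((Scheme.Modules.pullbackComp K.ι g).app O1).symm ≪≫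
    ((Scheme.Modules.restrictFunctorIsoPullback K.ι).app ((Scheme.Modules.pullback g).obj O1)).symm

end Groth.Agent.S5722
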