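import Groth.Statements.S9695
import Groth.Agent.S2330
import Groth.Agent.VAmpleX.Ample
-- import your own Groth.Agent.* helpers here

set_option autoImplicit false
set_option backward.isDefEq.respectTransparency false
set_option backward.isDefEq.respectTransparency.types false
universe u
open CategoryTheory CategoryTheory.Limits AlgebraicGeometry
open Mor

namespace Groth.Agent.S9695

open AlgebraicGeometry CategoryTheory Limits in
/-- Very ampleness into projective space restricts to opens of the base. -/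
theorem isRelVeryAmplePn_restrict {A B : Scheme.{u}} (f : A ⟶ B) {L : A.Modules}
    (h : RelAmple.IsRelVeryAmplePn f L) (W : B.Opens) :
    RelAmple.IsRelVeryAmplePn (f ∣_ W) (L.restrict (f ⁻¹ᵁ W).ι) := by
  obtain ⟨n, i, hi, hc, ⟨e⟩⟩ := h
  let π := CohB1.ProjSpace.toSpec n (ULift.{u} ℤ)
  let fstB : CohB1.ProjSpaceOver n B ⟶ CohB1.ProjSpace n (ULift.{u} ℤ) :=
    pullback.fst π (specULiftZIsTerminal.from B)
  let fstW : CohB1.ProjSpaceOver n (W : Scheme.{u}) ⟶ CohB1.ProjSpace n (ULift.{u} ℤ) :=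
    pullback.fst π (specULiftZIsTerminal.from (W : Scheme.{u}))
  let j := Scheme.Opens.ι (f ⁻¹ᵁ W)
  let i' : ((f ⁻¹ᵁ W : A.Opens) : Scheme.{u}) ⟶ CohB1.ProjSpaceOver n (W : Scheme.{u}) :=
    pullback.lift (j ≫ i ≫ fstB) (f ∣_ W) (specULiftZIsTerminal.hom_ext _ _)
  let m : CohB1.ProjSpaceOver n (W : Scheme.{u}) ⟶ CohB1.ProjSpaceOver n B :=
    pullback.lift fstW (pullback.snd π (specULiftZIsTerminal.from (W : Scheme.{u})) ≫ W.ι) (specULiftZIsTerminal.hom_ext _ _)
  have h1 : i' ≫ fstW = j ≫ i ≫ fstB := pullback.lift_fst _ _ _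
  have hm : i' ≫ m = j ≫ i := by
    apply pullback.hom_ext
    · rw [Category.assoc, Category.assoc]
      show i' ≫ m ≫ pullback.fst _ _ = _
      rw [pullback.lift_fst]
      exact h1
    · rw [Category.assoc, Category.assoc, pullback.lift_snd, ← Category.assoc]
      show (i' ≫ pullback.snd π _) ≫ W.ι = _
      rw [pullback.lift_snd, hc, morphismRestrict_ι]
  haveI : IsImmersion i' := by
    haveI : IsImmersion (i' ≫ m) := by rw [hm]; infer_instance
    exact IsImmersion.of_comp i' m
  refine ⟨n, i', inferInstance, pullback.lift_snd _ _ _, ⟨?_⟩⟩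
  let T := Twist.twistProjSpace n (ULift.{u} ℤ) 1
  exact (Scheme.Modules.restrictFunctorIsoPullback j).app L ≪≫ (Scheme.Modules.pullback j).mapIso e ≪≫
    (Scheme.Modules.pullbackComp j i).app _ ≪≫
    (Scheme.Modules.pullbackComp (j ≫ i) fstB).app T ≪≫
    (Scheme.Modules.pullbackCongr (by rw [Category.assoc]; exact h1.symm)).app T ≪≫
    ((Scheme.Modules.pullbackComp i' fstW).app T).symm

open AlgebraicGeometry CategoryTheory Limits in
theorem isRelAmple_of_veryAmplePn {A B : Scheme.{u}} (f : A ⟶ B) [QuasiCompact f] {L : A.Modules}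
    (h : RelAmple.IsRelVeryAmplePn f L) : RelAmple.IsRelAmple f L := by
  refine ⟨inferInstance, fun W => ?_⟩
  haveI : IsAffine (W.1 : Scheme.{u}) := W.2
  haveI : QuasiCompact (f ∣_ W.1) := IsZariskiLocalAtTarget.restrict (P := @QuasiCompact) inferInstance W.1
  exact Groth.Agent.VAmpleX.isAmple_of_isRelVeryAmplePn (f ∣_ W.1) (isRelVeryAmplePn_restrict f h W.1)

/-- Suppose f : X ⟶ S is a morphism of finite type and L is an invertible O_X-module. Then L is
f-relatively ample exactly when S can be covered by open subsets V with the following property: for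
every such V there is an integer d ≥ 1 for which the tensor power L^{⊗d}, restricted to f⁻¹(V), is
isomorphic to the pullback of O(1) under some V-immersion of f⁻¹(V) into a projective space P^n_V. -/
theorem result {X S : Scheme.{u}} (f : X ⟶ S)
    [LocallyOfFiniteType f] [QuasiCompact f] (L : X.Modules) (hLinv : PicF.IsInvertible L) :
    RelAmple.IsRelAmple f L ↔
      ∃ (ι : Type u) (V : ι → S.Opens), (⨆ j, V j) = ⊤ ∧
        ∀ j, ∃ d : ℕ, 0 < d ∧
          RelAmple.IsRelVeryAmplePn (f ∣_ V j) ((CohB1.tensorPow L d).restrict (f ⁻¹ᵁ V j).ι) := by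
  constructor
  · intro hL
    refine ⟨↥S.affineOpens, fun V => V.1, iSup_affineOpens_eq_top S, fun V => ?_⟩
    haveI : IsAffine (V.1 : Scheme.{u}) := V.2
    haveI : IsSeparated f := Groth.Agent.AmpleX.isSeparated_of_ampleOn fun x =>
      Groth.Agent.AmpleX.ampleOn_of_isRelAmple hL (f x)
    haveI : IsSeparated (f ∣_ V.1) := IsZariskiLocalAtTarget.restrict (P := @IsSeparated) inferInstance V.1
    haveI : QuasiCompact (f ∣_ V.1) := IsZariskiLocalAtTarget.restrict (P := @QuasiCompact) inferInstance V.1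
    haveI : LocallyOfFiniteType (f ∣_ V.1) :=
      IsZariskiLocalAtTarget.restrict (P := @LocallyOfFiniteType) inferInstance V.1
    obtain ⟨d, hd, hva⟩ := ((Groth.Agent.S2330.result (f ∣_ V.1) (L.restrict (f ⁻¹ᵁ V.1).ι)
      (Groth.Agent.AmpleX.isInvertible_restrict _ hLinv)).1).1 (hL.2 V)
    exact ⟨d, hd, Groth.Agent.VAmpleX.isRelVeryAmplePn_of_iso _
      (Groth.Agent.AmpleX.nonempty_restrict_tensorPow (L := L) (f ⁻¹ᵁ V.1).ι d).some.symm hva⟩
  · rintro ⟨ι, V, hV, h⟩
    rw [Groth.Agent.AmpleX.isRelAmple_iff_cover V hV]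
    intro j
    obtain ⟨d, hd, hva⟩ := h j
    haveI : QuasiCompact (f ∣_ V j) := IsZariskiLocalAtTarget.restrict (P := @QuasiCompact) inferInstance (V j)
    rw [Groth.Agent.AmpleX.isRelAmple_tensorPow_iff (Groth.Agent.AmpleX.isInvertible_restrict _ hLinv) hd]
    exact isRelAmple_of_veryAmplePn _ (Groth.Agent.VAmpleX.isRelVeryAmplePn_of_iso _
      (Groth.Agent.AmpleX.nonempty_restrict_tensorPow (L := L) (f ⁻¹ᵁ V j).ι d).some hva)

end Groth.Agent.S9695
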