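import Groth.Statements.S12143
import Groth.Agent.SymAlgX.Exists
import Groth.Agent.Proj16.RelBasic
import Groth.Agent.Lib.InvEnd

set_option autoImplicit false
universe u
open CategoryTheory CategoryTheory.Limits AlgebraicGeometry TopologicalSpace Opposite
open scoped HomogeneousIdeal
noncomputable section
open EGA2

namespace Groth.Agent.S12143

open Groth.Agent Groth.Agent.SymAlgX

set_option backward.isDefEq.respectTransparency false
set_option backward.isDefEq.respectTransparency.types false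

section
variable {X : Scheme.{u}} {L : X.Modules} {𝒮L : RelProj.QCGrAlg X} {j : L ⟶ 𝒮L.toModule}

/-- `Γ(U)[T] → 𝒮(U)`, `T ↦ j(e)`. -/
def evT (j : L ⟶ 𝒮L.toModule) {U : X.Opens} (e : Γ(L, U)) : Polynomial Γ(X, U) →+* 𝒮L.presheaf.obj (op U) :=
  Polynomial.eval₂RingHom (𝒮L.str.app (op U)).hom (jv 𝒮L.toQCAlg j U e)

lemma evT_bijective (hLq : Coh.IsQCoh L) (hj : RelSpec.IsSymAlg L 𝒮L.toQCAlg j) {U : X.Opens}
    (hU : IsAffineOpen U) (e : Γ(L, U)) (he : Function.Bijective fun r : Γ(X, U) => r • e) :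
    Function.Bijective (evT j e) := by
  let c : Γ(L, U) ≃ₗ[Γ(X, U)] Γ(X, U) :=
    (LinearEquiv.ofBijective (LinearMap.toSpanSingleton Γ(X, U) Γ(L, U) e) he).symm
  have hce : c e = 1 := by
    apply c.symm.injective
    rw [c.symm_apply_apply]
    exact (one_smul Γ(X, U) e).symm
  have hc : ∀ x, c x • e = x := fun x => c.symm_apply_apply x
  let Φ : SymAt L U →+* Polynomial Γ(X, U) := liftHom Polynomial.C
    { toFun := fun x => Polynomial.C (c x) * Polynomial.X
      map_zero' := by simp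
      map_add' := fun a b => by simp [add_mul] }
    fun r x => by simp [mul_assoc]
  have h1 : (evT j e).comp Φ = liftAt 𝒮L.toQCAlg j U := by
    refine symHom_ext (fun r => ?_) fun x => ?_
    · rw [RingHom.comp_apply, liftHom_algebraMap, liftAt_algebraMap]
      exact Polynomial.eval₂_C _ _
    · rw [RingHom.comp_apply, liftHom_ι, liftAt_ι]
      show Polynomial.eval₂ _ _ (Polynomial.C (c x) * Polynomial.X) = _
      rw [Polynomial.eval₂_mul, Polynomial.eval₂_C, Polynomial.eval₂_X]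
      conv_rhs => rw [← hc x]
      exact (Scheme.Modules.Hom.app_smul j (c x) e).symm
  let k : SymAt L U ≃+* 𝒮L.presheaf.obj (op U) :=
    RingEquiv.ofBijective (liftAt 𝒮L.toQCAlg j U) (liftAt_bijective hLq 𝒮L.toQCAlg hj hU)
  have h2 : (Φ.comp k.symm.toRingHom).comp (evT j e) = RingHom.id _ := by
    refine Polynomial.ringHom_ext (fun r => ?_) ?_
    · show Φ (k.symm (Polynomial.eval₂ _ _ (Polynomial.C r))) = _
      rw [Polynomial.eval₂_C, ← liftAt_algebraMap]
      erw [k.symm_apply_apply (algebraMap Γ(X, U) (SymAt L U) r)]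
      exact liftHom_algebraMap _ _ _ r
    · show Φ (k.symm (Polynomial.eval₂ _ _ Polynomial.X)) = _
      rw [Polynomial.eval₂_X, ← liftAt_ι]
      erw [k.symm_apply_apply (SymmetricAlgebra.ι Γ(X, U) Γ(L, U) e), liftHom_ι]
      show Polynomial.C (c e) * Polynomial.X = _
      rw [hce, map_one, one_mul]
      rfl
  refine ⟨Function.LeftInverse.injective (g := Φ.comp k.symm.toRingHom) (RingHom.congr_fun h2),
    fun b => ⟨Φ (k.symm b), ?_⟩⟩
  exact (RingHom.congr_fun h1 _).trans (k.apply_symm_apply b)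

lemma mem_deg_eq (hLq : Coh.IsQCoh L) (hj : RelProj.IsGrSymAlg L 𝒮L j) {U : X.Opens}
    (hU : IsAffineOpen U) (e : Γ(L, U)) (he : Function.Bijective fun r : Γ(X, U) => r • e) {n : ℕ}
    {x : 𝒮L.presheaf.obj (op U)} (hx : x ∈ 𝒮L.deg U hU n) :
    ∃ r : Γ(X, U), x = (𝒮L.str.app (op U)).hom r * jv 𝒮L.toQCAlg j U e ^ n := by
  classical
  obtain ⟨p, rfl⟩ := (evT_bijective hLq hj.1 hU e he).2 x
  refine ⟨p.coeff n, ?_⟩
  have hterm : ∀ i, (𝒮L.str.app (op U)).hom (p.coeff i) * jv 𝒮L.toQCAlg j U e ^ i ∈ 𝒮L.deg U hU i := fun i => by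
    have := SetLike.mul_mem_graded (A := 𝒮L.deg U hU) (𝒮L.str_mem U hU (p.coeff i))
      (SetLike.pow_mem_graded i (hj.2 U hU e))
    simpa using this
  have hsum : evT j e p = ∑ i ∈ p.support, (𝒮L.str.app (op U)).hom (p.coeff i) * jv 𝒮L.toQCAlg j U e ^ i :=
    Polynomial.eval₂_eq_sum
  have h := congrArg (GradedRing.proj (𝒮L.deg U hU) n) hsum
  rw [map_sum, GradedRing.proj_apply, DirectSum.decompose_of_mem_same _ hx] at h
  rw [h, Finset.sum_eq_single n]
  · exact DirectSum.decompose_of_mem_same _ (hterm n)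
  · exact fun i _ hi => DirectSum.decompose_of_mem_ne _ (hterm i) hi
  · intro hn
    rw [Polynomial.notMem_support_iff.1 hn, map_zero, zero_mul, map_zero]

lemma isIso_chart (hLq : Coh.IsQCoh L) (hj : RelProj.IsGrSymAlg L 𝒮L j) {U : X.Opens}
    (hU : IsAffineOpen U) (e : Γ(L, U)) (he : Function.Bijective fun r : Γ(X, U) => r • e) :
    IsIso (Proj.toSpecZero (𝒮L.deg U hU) ≫ Spec.map (𝒮L.strZero U hU)) := by
  set t := jv 𝒮L.toQCAlg j U e
  have ht : t ∈ 𝒮L.deg U hU 1 := hj.2 U hU e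
  have hinj : ∀ (r : Γ(X, U)) (m : ℕ), t ^ m * (𝒮L.str.app (op U)).hom r = 0 → r = 0 := by
    intro r m h
    have hp : evT j e (Polynomial.C r * Polynomial.X ^ m) = 0 := by
      show Polynomial.eval₂ _ _ _ = _
      rw [Polynomial.eval₂_mul, Polynomial.eval₂_C, Polynomial.eval₂_pow, Polynomial.eval₂_X, mul_comm]
      exact h
    have := (evT_bijective hLq hj.1 hU e he).1 (hp.trans (map_zero _).symm)
    simpa using congrArg (fun q => Polynomial.coeff q m) this
  have htop : Proj.basicOpen (𝒮L.deg U hU) t = ⊤ := by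
    refine top_le_iff.1 ((Proj.iSup_basicOpen_eq_top (𝒮L.deg U hU) (fun _ : Unit => t) ?_).ge.trans
      (iSup_le fun _ => le_rfl))
    show (HomogeneousIdeal.irrelevant (𝒮L.deg U hU)).toIdeal ≤ _
    rw [HomogeneousIdeal.toIdeal_irrelevant_le]
    intro n hn x hx
    obtain ⟨r, rfl⟩ := mem_deg_eq hLq hj hU e he hx
    exact Ideal.mul_mem_left _ _ (Ideal.pow_mem_of_mem _ (Ideal.subset_span (Set.mem_range_self ())) n hn)
  have : IsIso (Proj.awayι (𝒮L.deg U hU) t ht one_pos) :=
    isIso_of_isOpenImmersion_of_opensRange_eq_top _ ((Proj.opensRange_awayι _ _ ht one_pos).trans htop)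
  have : IsIso (𝒮L.strZero U hU ≫ CommRingCat.ofHom
      (HomogeneousLocalization.fromZeroRingHom (𝒮L.deg U hU) (Submonoid.powers t))) := by
    rw [ConcreteCategory.isIso_iff_bijective]
    refine ⟨(injective_iff_map_eq_zero (CommRingCat.Hom.hom _)).2 fun r hr => ?_, fun z => ?_⟩
    · have h := congrArg HomogeneousLocalization.val hr
      rw [HomogeneousLocalization.val_zero] at h
      change Localization.mk ((𝒮L.str.app (op U)).hom r) _ = _ at h
      rw [Localization.mk_eq_mk', IsLocalization.mk'_eq_zero_iff] at h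
      obtain ⟨⟨_, m, rfl⟩, hm⟩ := h
      exact hinj r m hm
    · obtain ⟨n, a, ha, rfl⟩ := HomogeneousLocalization.Away.mk_surjective (𝒮L.deg U hU) ht z
      obtain ⟨r, hr⟩ := mem_deg_eq hLq hj hU e he (n := n) (by simpa using ha)
      refine ⟨r, HomogeneousLocalization.val_injective _ ?_⟩
      rw [HomogeneousLocalization.Away.val_mk]
      show Localization.mk ((𝒮L.str.app (op U)).hom r) _ = _
      rw [Localization.mk_eq_mk', IsLocalization.mk'_eq_iff_eq, hr]
      apply congrArg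
      show t ^ n * _ = 1 * (_ * t ^ n)
      ring
  have key : IsIso (Proj.awayι (𝒮L.deg U hU) t ht one_pos ≫
      Proj.toSpecZero (𝒮L.deg U hU) ≫ Spec.map (𝒮L.strZero U hU)) := by
    rw [Proj.awayι_toSpecZero_assoc, ← Spec.map_comp]
    infer_instance
  exact IsIso.of_isIso_comp_left (Proj.awayι (𝒮L.deg U hU) t ht one_pos) _

end


/-- Let L be an invertible O_X-module and 𝒮L = ⊕_{n ≥ 0} L^{⊗n} its graded symmetric algebra; then the
structure morphism Proj(𝒮L) → X of the relative homogeneous spectrum is an isomorphism (the graded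
algebra O_X[T] twisted by L has the same Proj as O_X[T], which is X). -/
theorem result {X PL : Scheme.{u}} (L : X.Modules)
    (hL : PicF.IsInvertible L) (hLq : Coh.IsQCoh L)
    (𝒮L : RelProj.QCGrAlg X) (j : L ⟶ 𝒮L.toModule) (hj : RelProj.IsGrSymAlg L 𝒮L j)
    (pL : PL ⟶ X) (chartL : ∀ (U : X.Opens) (hU : IsAffineOpen U), (((pL ⁻¹ᵁ U : PL.Opens) : Scheme.{u}) ≅ Proj (𝒮L.deg U hU)))
    (hPL : RelProj.IsRelProj 𝒮L pL chartL) :
    IsIso pL := by
  choose U hxU t ht using fun x => Groth.Agent.InvEnd.exists_frame_inv hL x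
  choose V hV hxV hVU using fun x : X => exists_isAffineOpen_mem_and_subset (hxU x)
  refine (IsZariskiLocalAtTarget.iff_of_iSup_eq_top (P := MorphismProperty.isomorphisms Scheme.{u})
    (f := pL) V ?_).mpr fun x => ?_
  · exact top_le_iff.1 fun x _ => TopologicalSpace.Opens.mem_iSup.2 ⟨x, hxV x⟩
  show IsIso (pL ∣_ V x)
  rw [Groth.Agent.Proj16.morphismRestrict_eq hPL (V x) (hV x)]
  have := isIso_chart hLq hj (hV x) _ (ht x (V x) (hVU x))
  rw [← Category.assoc (Proj.toSpecZero _)]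
  infer_instance

end Groth.Agent.S12143
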