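import Groth.Statements.S5975
import Groth.Agent.PPSheaf.OmegaComp

set_option autoImplicit false
universe u
open CategoryTheory CategoryTheory.Limits AlgebraicGeometry TopologicalSpace Opposite
open Nrm16

namespace Groth.Agent.S5975

/-- Let f : X ⟶ Y and g : Y ⟶ Z be morphisms of schemes. Let (Ω_{Y/Z}, d), (Ω_{X/Z}, d') and (Ω_{X/Y},
d'') be sheaves of differentials (universal derivations) and let c₁ : f^*Ω_{Y/Z} ⟶ Ω_{X/Z} and c₂ :
Ω_{X/Z} ⟶ Ω_{X/Y} be the canonical maps compatible with the derivations. Then c₂ is an epimorphism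
and the image of c₁ is the kernel of c₂: the sequence f^*Ω_{Y/Z} ⟶ Ω_{X/Z} ⟶ Ω_{X/Y} ⟶ 0 is exact. -/
theorem result {X Y Z : Scheme.{u}} (f : X ⟶ Y) (g : Y ⟶ Z)
    (ΩY : Y.Modules) (dY : OmegaSh.Der g ΩY) (hY : OmegaSh.IsUniversal dY)
    (ΩX : X.Modules) (dX : OmegaSh.Der (f ≫ g) ΩX) (hX : OmegaSh.IsUniversal dX)
    (ΩXY : X.Modules) (dXY : OmegaSh.Der f ΩXY) (hXY : OmegaSh.IsUniversal dXY)
    (c₁ : (Scheme.Modules.pullback f).obj ΩY ⟶ ΩX) (hc₁ : OmegaSh.IsDiffCompat f dY dX c₁)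
    (c₂ : (Scheme.Modules.pullback (𝟙 X)).obj ΩX ⟶ ΩXY) (hc₂ : OmegaSh.IsDiffCompat (𝟙 X) dX dXY c₂) :
    Epi c₂ ∧
      imageSubobject c₁ = kernelSubobject ((Scheme.Modules.pullbackId X).inv.app ΩX ≫ c₂) := by
    exact Groth.Agent.PPSheaf.exact_differentials_comp f g hY hX hXY hc₁ hc₂

end Groth.Agent.S5975
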