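import Groth.Statements.S1664
import Groth.Agent.AmpleX.Pow
import Groth.Agent.InvX.Tensor
import Groth.Agent.KFlatLib.Scheme.Sky
import Groth.Agent.QCoh.Support

set_option autoImplicit false
universe u
open CategoryTheory CategoryTheory.Limits AlgebraicGeometry
open Variety

namespace Groth.Agent.S1664


set_option linter.style.haveILetI false
set_option backward.isDefEq.respectTransparency false
set_option backward.isDefEq.respectTransparency.types false

open AlgebraicGeometry CategoryTheory CategoryTheory.Limits Opposite TopologicalSpace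
open Groth.Agent

namespace GenSec

/-- A globally generated invertible module has, at each point, a section generating it there. -/
theorem exists_mem_genLocus {X : Scheme.{u}} {L : X.Modules} (hL : PicF.IsInvertible L)
    (hgg : Curv2.IsGloballyGenerated L) (x : X) :
    ∃ s : Coh.structureModule X ⟶ L, x ∈ CohB1.genLocus L s := by
  by_contra hnone
  push Not at hnone
  obtain ⟨ι, p, hp⟩ := hgg
  obtain ⟨U, hxU, e, he⟩ := InvX.exists_frame hL x
  let R := X.presheaf.stalk x
  let P : Submodule R (L.presheaf.stalk x) := IsLocalRing.maximalIdeal R • ⊤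
  let N : ModuleCat.{u} R := ModuleCat.of R (L.presheaf.stalk x ⧸ P)
  let g : L ⟶ KFlatLib.skyObjM x N :=
    ⟨{ app := fun V => ModuleCat.ofHom (Y := KFlatLib.skyObj x N V)
        { toFun := fun a h => (P.mkQ ((L.presheaf.germ V.unop x h.down).hom a) : N)
          map_add' := fun a b => funext fun h => by
            show P.mkQ ((L.presheaf.germ V.unop x h.down).hom (a + b)) = _
            exact ((congrArg P.mkQ (map_add (L.presheaf.germ V.unop x h.down).hom a b)).trans
              (map_add P.mkQ _ _))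
          map_smul' := fun r a => funext fun h => by
            show P.mkQ ((L.presheaf.germ V.unop x h.down).hom (r • a)) =
              (X.presheaf.germ V.unop x h.down r) • (P.mkQ ((L.presheaf.germ V.unop x h.down).hom a) : N)
            exact ((congrArg P.mkQ (QCoh.germ_smul' L h.down r a)).trans
              (map_smul P.mkQ _ _)) }
       naturality := fun {V W} i => by
         ext a
         funext h
         exact congrArg P.mkQ (L.presheaf.germ_res_apply i.unop x h.down a) }⟩
  have hmax : ∀ s : Coh.structureModule X ⟶ L,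
      (L.presheaf.germ ⊤ x trivial).hom (InvX.one s) ∈ P := by
    intro s
    obtain ⟨c, hc⟩ := he.exists_coord le_rfl (AModX.res L (le_top : U ≤ ⊤) (InvX.one s))
    rw [AModX.res_self] at hc
    have hm : X.presheaf.germ U x hxU c ∈ IsLocalRing.maximalIdeal R := fun hu => by
      have h1 : x ∈ X.basicOpen c := (X.mem_basicOpen c x hxU).2 hu
      rw [← InvX.genLocus_inf s he hc] at h1
      exact hnone s h1.1
    have h2 : (L.presheaf.germ ⊤ x trivial).hom (InvX.one s) =
        X.presheaf.germ U x hxU c • (L.presheaf.germ U x hxU).hom e := by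
      rw [← QCoh.germ_smul' L hxU, ← hc]
      exact (L.presheaf.germ_res_apply (homOfLE le_top) x hxU _).symm
    rw [h2]
    exact Submodule.smul_mem_smul hm trivial
  have hg0 : g = 0 := by
    rw [← cancel_epi p, Limits.comp_zero]
    refine Sigma.hom_ext _ _ fun i => ?_
    rw [Limits.comp_zero, ← Category.assoc]
    apply Scheme.Modules.hom_ext
    intro V
    ext a
    funext h
    show P.mkQ ((L.presheaf.germ V x h.down).hom
      ((Sigma.ι (fun _ : ι => Coh.structureModule X) i ≫ p).app V a)) = 0
    rw [Submodule.mkQ_apply, Submodule.Quotient.mk_eq_zero]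
    rw [show (Sigma.ι (fun _ : ι => Coh.structureModule X) i ≫ p).app V a =
      (show Γ(X, V) from a) • AModX.res L (le_top : V ≤ ⊤)
        (InvX.one (Sigma.ι (fun _ : ι => Coh.structureModule X) i ≫ p)) from InvX.app_eq_smul _ _]
    rw [QCoh.germ_smul' L h.down]
    refine Submodule.smul_mem _ _ ?_
    rw [show (L.presheaf.germ V x h.down).hom (AModX.res L (le_top : V ≤ ⊤)
        (InvX.one (Sigma.ι (fun _ : ι => Coh.structureModule X) i ≫ p))) =
      (L.presheaf.germ ⊤ x trivial).hom (InvX.one (Sigma.ι (fun _ : ι => Coh.structureModule X) i ≫ p))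
      from L.presheaf.germ_res_apply (homOfLE le_top) x h.down _]
    exact hmax _
  have he0 : (L.presheaf.germ U x hxU).hom e ∈ P := by
    rw [← Submodule.Quotient.mk_eq_zero]
    have := congrArg (fun φ => (φ : L ⟶ KFlatLib.skyObjM x N).app U e) hg0
    exact congrFun this ⟨hxU⟩
  have hb := he.germ_bijective hxU
  have hle : P ≤ Submodule.map (LinearMap.toSpanSingleton R (L.presheaf.stalk x)
      ((L.presheaf.germ U x hxU).hom e)) (IsLocalRing.maximalIdeal R) := by
    refine Submodule.smul_le.2 fun r hr m _ => ?_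
    obtain ⟨c, rfl⟩ := hb.2 m
    exact ⟨r * c, Ideal.mul_mem_right _ _ hr, by simp [mul_smul]⟩
  obtain ⟨c, hc, hce⟩ := hle he0
  have h1 : c = 1 := hb.1 (hce.trans (one_smul R _).symm)
  exact (IsLocalRing.maximalIdeal.isMaximal R).ne_top ((Ideal.eq_top_iff_one _).2 (h1 ▸ hc))

theorem exists_product {X : Scheme.{u}} {ι : Type*} (L : ι → X.Modules)
    (hL : ∀ i, PicF.IsInvertible (L i)) (hgg : ∀ i, Curv2.IsGloballyGenerated (L i))
    (S : List ι) :
    ∃ M : X.Modules, PicF.IsInvertible M ∧
      (∀ x : X, ∃ t : Coh.structureModule X ⟶ M, x ∈ CohB1.genLocus M t) ∧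
      ∀ i ∈ S, ∀ (s : Coh.structureModule X ⟶ L i) (x : X), x ∈ CohB1.genLocus (L i) s →
        IsAffineOpen (CohB1.genLocus (L i) s) →
        ∃ t : Coh.structureModule X ⟶ M, x ∈ CohB1.genLocus M t ∧ IsAffineOpen (CohB1.genLocus M t) := by
  induction S with
  | nil =>
    refine ⟨Coh.structureModule X, InvX.isInvertible_structureModule, fun x => ⟨𝟙 _, ?_⟩, by simp⟩
    exact InvX.le_genLocus (U := ⊤) _ (by rw [AModX.res_self]; exact InvX.isFrame_one ⊤) trivial
  | cons j S ih =>
    obtain ⟨M, hM, hMg, hMa⟩ := ih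
    refine ⟨CohB1.tensorMod (L j) M, InvX.isInvertible_tensorMod (hL j) hM, fun x => ?_,
      fun i hi s x hxs hs => ?_⟩
    · obtain ⟨t, ht⟩ := hMg x
      obtain ⟨s, hs⟩ := exists_mem_genLocus (hL j) (hgg j) x
      exact ⟨InvX.mulHom s t, by rw [InvX.genLocus_mulHom (hL j) hM]; exact ⟨hs, ht⟩⟩
    · have haff : ∀ {A B : X.Modules} (hB : PicF.IsInvertible B) (a : Coh.structureModule X ⟶ A)
          (b : Coh.structureModule X ⟶ B), IsAffineOpen (CohB1.genLocus A a) →
          IsAffineOpen (CohB1.genLocus A a ⊓ CohB1.genLocus B b) := fun {A B} hB a b ha => by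
        haveI := InvX.isAffineHom_genLocus_ι hB b
        have := (ha.preimage (CohB1.genLocus B b).ι).image_of_isOpenImmersion (CohB1.genLocus B b).ι
        rwa [Scheme.Hom.image_preimage_eq_opensRange_inf, Scheme.Opens.opensRange_ι, inf_comm] at this
      rcases List.mem_cons.1 hi with rfl | hi
      · obtain ⟨t, ht⟩ := hMg x
        refine ⟨InvX.mulHom s t, ?_⟩
        rw [InvX.genLocus_mulHom (hL i) hM]
        exact ⟨⟨hxs, ht⟩, haff hM s t hs⟩
      · obtain ⟨t, ht, hta⟩ := hMa i hi s x hxs hs
        obtain ⟨u, hu⟩ := exists_mem_genLocus (hL j) (hgg j) x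
        refine ⟨InvX.mulHom u t, ?_⟩
        rw [InvX.genLocus_mulHom (hL j) hM]
        exact ⟨⟨hu, ht⟩, inf_comm (CohB1.genLocus (L j) u) _ ▸ haff (hL j) t u hta⟩

end GenSec
open Groth.Agent.H23.PicMul

/-- Let X be quasi-compact. Suppose every point of X lies in the locus where some global section s of
some globally generated invertible module L generates L, with that locus affine. Then X has an ample
invertible module. -/
theorem result (X : Scheme.{u}) [CompactSpace X]
    (h : ∀ x : X, ∃ (L : X.Modules) (s : Coh.structureModule X ⟶ L), PicF.IsInvertible L ∧ Curv2.IsGloballyGenerated L ∧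
      x ∈ CohB1.genLocus L s ∧ IsAffineOpen (CohB1.genLocus L s)) :
    ∃ M : X.Modules, CohB1.IsAmple M := by
  choose L s hL hgg hx hs using h
  obtain ⟨S, hS⟩ := isCompact_univ.elim_finite_subcover
    (fun x : X => (CohB1.genLocus (L x) (s x) : Set X)) (fun x => (CohB1.genLocus (L x) (s x)).2)
    (fun x _ => Set.mem_iUnion.2 ⟨x, hx x⟩)
  obtain ⟨M, hM, -, hMa⟩ := GenSec.exists_product L hL hgg S.toList
  refine ⟨M, Groth.Agent.AmpleX.isAmple_iff.2 ⟨hM, ‹_›, fun x => ?_⟩⟩
  obtain ⟨y, hy, hxy⟩ := Set.mem_iUnion₂.1 (hS (Set.mem_univ x))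
  obtain ⟨t, hxt, hta⟩ := hMa y (Finset.mem_toList.2 hy) (s y) x hxy (hs y)
  have hcl : PicF.cl M = PicF.cl (CohB1.tensorPow M 1) := by
    rw [Groth.Agent.H23.PicMul.cl_tensorPow, pow_one]
  obtain ⟨t', ht'⟩ := Groth.Agent.AmpleX.exists_section_of_cl_eq hcl t
  exact ⟨1, one_pos, t', ht' ▸ hxt, ht' ▸ hta⟩

end Groth.Agent.S1664
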