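import Groth.Statements.S9142
import Mathlib
import Groth.Agent.Synt29.Descent
import Groth.Agent.FlatLoc6.RegCM
import Groth.Agent.RegLoc6.Open
import Groth.Agent.Alg6.LocLoc
import Groth.Agent.LC.ExtDim
import Groth.Agent.LC.LiaisonLocal

set_option autoImplicit false
set_option backward.isDefEq.respectTransparency.types false
universe u
open Synt

namespace Groth.Agent.S9142

open Groth.Agent.Synt29 TensorProduct IsLocalRing
open Groth.Agent Order

set_option linter.style.haveILetI false

theorem isRelGCI_of_field {k : Type u} [Field k] {n c : ℕ} (G : Fin c → MvPolynomial (Fin n) k)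
    (hcn : c ≤ n) (hd : ringKrullDim (Synt.RelGCIRing k n c G) ≤ ((n - c : ℕ) : WithBot ℕ∞)) :
    Synt.IsRelGCI k n c G := by
  rw [isRelGCI_iff]
  intro p hn
  refine ⟨hcn, ?_⟩
  have hG : mapPoly k G k = G := funext fun i => by simp [mapPoly, MvPolynomial.map_id]
  haveI := hn
  haveI := nontrivial_mapPoly G k p.asIdeal.ResidueField
  rw [ringKrullDim_mapPoly G k p.asIdeal.ResidueField, hG]
  exact hd

theorem isCM_relGCIRing {k : Type u} [Field k] {n c : ℕ} {G : Fin c → MvPolynomial (Fin n) k}
    (h : Synt.IsRelGCI k n c G) (q' : Ideal (Synt.RelGCIRing k n c G)) [q'.IsPrime] :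
    LocCoh.IsCohenMacaulayLocalRing (Localization.AtPrime q') := by
  let q := q'.comap (Ideal.Quotient.mk (Ideal.span (Set.range G)))
  haveI : q.IsPrime := Ideal.comap_isPrime _ _
  let B := MvPolynomial (Fin n) k
  let R := Localization.AtPrime q
  have hmem : ∀ f ∈ List.ofFn G, f ∈ q := fun f hf => by
    obtain ⟨i, rfl⟩ := List.mem_ofFn.1 hf
    show Ideal.Quotient.mk _ (G i) ∈ q'
    rw [Ideal.Quotient.eq_zero_iff_mem.2 (Ideal.subset_span (Set.mem_range_self i))]
    exact zero_mem _
  have hw : RingTheory.Sequence.IsWeaklyRegular R ((List.ofFn G).map (algebraMap B R)) := by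
    refine (weaklyRegular_and_flat_localization (R := k) n (List.ofFn G) (fun p => ?_) (fun p Q => ?_)
      (fun p => ?_) q hmem).1
    · exact IsRegularRing.of_ringEquiv (R := MvPolynomial (Fin n) p.asIdeal.ResidueField)
        (MvPolynomial.algebraTensorAlgEquiv k p.asIdeal.ResidueField).toRingEquiv.symm
    · let o : PrimeSpectrum (p.asIdeal.Fiber B) ≃o PrimeSpectrum (MvPolynomial (Fin n) p.asIdeal.ResidueField) :=
        PrimeSpectrum.comapEquiv (MvPolynomial.algebraTensorAlgEquiv k p.asIdeal.ResidueField).toRingEquiv.symm |>.symm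
      rw [← height_orderIso o, ← coheight_orderIso o]
      refine VarDim.height_add_coheight_eq p.asIdeal.ResidueField n (MvPolynomial (Fin n) p.asIdeal.ResidueField) ?_ _
      rw [MvPolynomial.ringKrullDim_of_isNoetherianRing, ringKrullDim_eq_zero_of_field, zero_add]
      simp
    · rw [ofList_ofFn, List.length_ofFn]
      let e1 := (Algebra.TensorProduct.tensorQuotientEquiv (R := k) p.asIdeal.ResidueField B p.asIdeal.ResidueField
        (Ideal.span (Set.range G))).toRingEquiv
      rw [← ringKrullDim_eq_of_ringEquiv e1]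
      rcases subsingleton_or_nontrivial (p.asIdeal.Fiber (Synt.RelGCIRing k n c G)) with hs | hs
      · rw [ringKrullDim_eq_bot_of_subsingleton]
        simp
      · obtain ⟨h1, h2⟩ := h p hs
        rw [h2, ← Nat.cast_add, Nat.sub_add_cancel h1]
  haveI := FlatLoc6.isCM_of_isRegularRing B
  haveI hR : LocCoh.IsCohenMacaulayLocalRing R :=
    LocCoh.IsCohenMacaulayRing.isCohenMacaulayLocalRing_localization (R := B) q
  have hrs : ∀ r ∈ (List.ofFn G).map (algebraMap B R), r ∈ maximalIdeal R := fun r hr => by
    obtain ⟨f, hf, rfl⟩ := List.mem_map.1 hr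
    exact (IsLocalization.AtPrime.to_map_mem_maximal_iff R q f).mpr (hmem f hf)
  have hM := LC.isCM_quot_ofList R hR.supportDim_eq_depth hw hrs
  let J : Ideal R := (Ideal.span (Set.range G)).map (algebraMap B R)
  have hJ : Ideal.ofList ((List.ofFn G).map (algebraMap B R)) • (⊤ : Submodule R R) = J := by
    rw [smul_eq_mul, Ideal.mul_top, ← Ideal.map_ofList, ofList_ofFn]
  obtain ⟨ψ⟩ := RegLoc6.exists_quotLocalEquiv (Ideal.span (Set.range G)) q q' rfl
  let e₁ := Submodule.quotEquivOfEq _ _ hJ
  let σ : R →+* Localization.AtPrime q' := ψ.toRingHom.comp (Ideal.Quotient.mk J)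
  have hdep : LocCoh.depth R (R ⧸ (Ideal.ofList ((List.ofFn G).map (algebraMap B R)) • (⊤ : Submodule R R))) =
      LocCoh.depth (Localization.AtPrime q') (Localization.AtPrime q') :=
    Alg6.depth_eq_of_semilinear σ (ψ.surjective.comp Ideal.Quotient.mk_surjective)
      (e₁.toAddEquiv.trans ψ.toAddEquiv) fun r x => by
        show ψ (e₁ (r • x)) = σ r * ψ (e₁ x)
        rw [map_smul]
        show ψ (Ideal.Quotient.mk J r * e₁ x) = _
        rw [map_mul]
        rfl
  haveI : IsNoetherianRing (Localization.AtPrime q') :=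
    IsLocalization.isNoetherianRing q'.primeCompl _ inferInstance
  refine { supportDim_eq_depth := ?_ }
  unfold LocCoh.IsCohenMacaulayModule at hM
  rw [Module.supportDim_self_eq_ringKrullDim, ← hdep, ← hM, Module.supportDim_eq_of_equiv e₁,
    ← ringKrullDim_eq_of_ringEquiv ψ]
  exact (Module.supportDim_quotient_eq_ringKrullDim J).symm

/-- A local complete intersection over a field is a Cohen–Macaulay ring. -/
theorem result (k S : Type u) [Field k] [CommRing S] [Algebra k S]
    (h : Synt.IsLCIOver k S) : LocCoh.IsCohenMacaulayRing S := by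
  haveI := h.1
  haveI : IsNoetherianRing S := Algebra.FiniteType.isNoetherianRing k S
  refine { isCohenMacaulayLocalRing_localization := fun p _ => ?_ }
  obtain ⟨g, hg, hCI⟩ := h.2 ⟨p, inferInstance⟩
  let T := Localization.Away g
  let pT : Ideal T := p.map (algebraMap S T)
  have hdisj : Disjoint (Submonoid.powers g : Set S) p :=
    Ideal.disjoint_powers_iff_notMem_of_isPrime g |>.2 hg
  haveI hpT : pT.IsPrime := IsLocalization.isPrime_of_isPrime_disjoint (Submonoid.powers g) T p inferInstance hdisj
  haveI : Nontrivial T := PrimeSpectrum.nonempty_iff_nontrivial.1 ⟨⟨pT, hpT⟩⟩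
  rcases hCI with hs | ⟨n, c, hcn, φ, r, hφ, hker, hdim⟩
  · exact absurd hs (not_subsingleton T)
  let e : Synt.RelGCIRing k n c r ≃+* T :=
    (Ideal.quotEquivOfEq hker.symm).trans (RingHom.quotientKerEquivOfSurjective hφ)
  haveI := Ideal.comap_isPrime e pT
  haveI := isCM_relGCIRing (isRelGCI_of_field r hcn ((ringKrullDim_eq_of_ringEquiv e).trans hdim).le) (pT.comap e)
  let e2 : Localization.AtPrime (pT.comap e) ≃+* Localization.AtPrime pT :=
    IsLocalization.ringEquivOfRingEquiv (M := (pT.comap e).primeCompl) (T := pT.primeCompl) _ _ e (by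
      ext x
      constructor
      · rintro ⟨y, hy, rfl⟩; exact hy
      · intro hx; exact ⟨e.symm x, (fun h => hx (by simpa using (h : e (e.symm x) ∈ pT))), e.apply_symm_apply x⟩)
  haveI h2 := LC.Liaison.isCMLocal_of_ringEquiv (A := Localization.AtPrime (pT.comap e)) (B := Localization.AtPrime pT) e2
  have hc : pT.comap (algebraMap S T) = p :=
    IsLocalization.comap_map_of_isPrime_disjoint (Submonoid.powers g) T inferInstance hdisj
  haveI : IsLocalization p.primeCompl (Localization.AtPrime pT) := by
    have := IsLocalization.isLocalization_isLocalization_atPrime_isLocalization (Submonoid.powers g) (Localization.AtPrime pT) pT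
    simpa [hc] using this
  exact LC.Liaison.isCMLocal_of_ringEquiv (IsLocalization.algEquiv p.primeCompl (Localization.AtPrime pT) (Localization.AtPrime p)).toRingEquiv

end Groth.Agent.S9142
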