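import Groth.Statements.S4578
import Groth.Agent.RegFS6.SmoothAt
import Groth.Agent.RegFS6.Field

set_option autoImplicit false
universe u
open IsLocalRing
open EGA41

namespace Groth.Agent.S4578

/-- Let k₀ be a field, k an extension field of k₀ which is separable (formally smooth) over k₀, C a
k-algebra of finite type and p a prime ideal of C. The following are equivalent: C_p is formally
smooth over k₀ (discrete topologies); C_p is formally smooth over k₀ for the adic topology of its
maximal ideal; C_f is formally smooth over k₀ for some f ∉ p; C_p is geometrically regular over k₀.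
(The published statement adds that the set of primes p having these properties is open in Spec C;
that openness is not stated here.) -/
theorem result {k₀ k C : Type u} [Field k₀] [Field k] [Algebra k₀ k]
    [Algebra.FormallySmooth k₀ k] [CommRing C] [Algebra k C] [Algebra k₀ C] [IsScalarTower k₀ k C]
    [Algebra.FiniteType k C]
    (p : Ideal C) [p.IsPrime] :
    [Algebra.FormallySmooth k₀ (Localization.AtPrime p),
     CAlgX.IsAdicFormallySmooth k₀ (Localization.AtPrime p) (maximalIdeal (Localization.AtPrime p)),
     ∃ f : C, f ∉ p ∧ Algebra.FormallySmooth k₀ (Localization.Away f),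
     CAlg.IsGeometricallyRegular k₀ (Localization.AtPrime p)].TFAE := by
    haveI : IsNoetherianRing C := Algebra.FiniteType.isNoetherianRing k C
    haveI : IsNoetherianRing (Localization.AtPrime p) :=
      IsLocalization.isNoetherianRing p.primeCompl _ inferInstance
    tfae_have 1 → 2 := fun h A _ _ J hJ ψ _ => by
      obtain ⟨χ, hχ⟩ := Algebra.FormallySmooth.exists_lift J ⟨2, hJ⟩ ψ
      exact ⟨χ, hχ⟩
    tfae_have 2 ↔ 4 := RegFS6.fs_iff_geometricallyRegular
    tfae_have 2 → 3 := fun h => by
      obtain ⟨n, π, hπ⟩ := Algebra.FiniteType.iff_quotient_mvPolynomial''.mp ‹Algebra.FiniteType k C›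
      haveI : Algebra.FormallySmooth k₀ (MvPolynomial (Fin n) k) := Algebra.FormallySmooth.comp k₀ k _
      exact RegFS6.exists_formallySmooth_away (π.restrictScalars k₀) hπ p h
    tfae_have 3 → 1 := by
      rintro ⟨f, hf, hfs⟩
      have hle : Submonoid.powers f ≤ p.primeCompl := Submonoid.powers_le.mpr hf
      letI := IsLocalization.localizationAlgebraOfSubmonoidLe (Localization.Away f) (Localization.AtPrime p)
        (Submonoid.powers f) p.primeCompl hle
      haveI := IsLocalization.localization_isScalarTower_of_submonoid_le (Localization.Away f) (Localization.AtPrime p)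
        (Submonoid.powers f) p.primeCompl hle
      haveI := IsLocalization.isLocalization_of_submonoid_le (Localization.Away f) (Localization.AtPrime p)
        (Submonoid.powers f) p.primeCompl hle
      haveI : IsScalarTower k₀ (Localization.Away f) (Localization.AtPrime p) := IsScalarTower.of_algebraMap_eq fun r => by
        rw [IsScalarTower.algebraMap_apply k₀ C (Localization.AtPrime p), IsScalarTower.algebraMap_apply k₀ C (Localization.Away f),
          ← IsScalarTower.algebraMap_apply C (Localization.Away f)]
      haveI : Algebra.FormallySmooth (Localization.Away f) (Localization.AtPrime p) :=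
        Algebra.FormallySmooth.of_isLocalization (p.primeCompl.map (algebraMap C (Localization.Away f)))
      exact Algebra.FormallySmooth.comp k₀ (Localization.Away f) _
    tfae_finish

end Groth.Agent.S4578
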