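import Groth.Statements.S16953
import Groth.Agent.CohPullX.Edge
import Groth.Agent.KFlatLib.Scheme.AffineSections

set_option autoImplicit false
universe u
open Coherent

namespace Groth.Agent.S16953
namespace Aux
open CategoryTheory CategoryTheory.Limits AlgebraicGeometry Opposite
open Groth.Agent
set_option backward.isDefEq.respectTransparency false
set_option backward.isDefEq.respectTransparency.types false

theorem hasInjRes (X : Scheme.{u}) : HasInjectiveResolutions X.Modules := inferInstance

theorem isZero_Rpush {X Y : Scheme.{u}} (f : X ⟶ Y) [IsAffineHom f] [HasInjectiveResolutions X.Modules]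
    (M : X.Modules) (hM : Coh.IsQCoh M) (i : ℕ) : IsZero ((Coh.Rpush f (i + 1)).obj M) := by
  haveI := SpObjSS.enoughInjectives_of_hasInjectiveResolutions (C := X.Modules)
  haveI := QCoh.preservesFiniteLimits_push f
  refine QCoh.isZero_rightDerived_of_class (Scheme.Modules.pushforward f) KFlatLib.SAcyclic
    (fun hS h₁ h₂ => KFlatLib.sAcyclic_X₃ hS h₁ (haveI := h₂; KFlatLib.sAcyclic_of_injective _))
    (fun {S} hS h₁ _ => ⟨fun {L} a b e => ?_⟩) M (KFlatLib.sAcyclic_of_isQCoh hM) i
  refine sub_eq_zero.1 (Scheme.Modules.hom_ext _ _ fun O => ?_)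
  ext x
  refine QCoh.eq_zero_of_locally O _ fun y hy => ?_
  obtain ⟨_, ⟨V, hV, rfl⟩, hyV, hVO⟩ := Y.isBasis_affineOpens.exists_subset_of_mem_open hy O.2
  refine ⟨V, homOfLE hVO, hyV, ?_⟩
  obtain ⟨z, hz⟩ := KFlatLib.app_surjective hS h₁ (hV.preimage f)
      (((Scheme.Modules.pushforward f).obj S.X₃).presheaf.map (homOfLE hVO).op x)
  refine (ConcreteCategory.congr_hom ((a - b).mapPresheaf.naturality (homOfLE hVO).op) x).symm.trans ?_
  change (a - b).app V _ = 0
  have e' : (Scheme.Modules.pushforward f).map S.g ≫ (a - b) = 0 := by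
    rw [Preadditive.comp_sub, e, sub_self]
  exact (congrArg ((a - b).app V) hz.symm).trans congr(($e').app V z)

end Aux


open AlgebraicGeometry CategoryTheory Scheme.Modules in
/-- Let f : X → Y be an affine morphism of schemes and F a quasi-coherent O_X-module. Then the canonical
map H^1(Y, f_* F) → H^1(X, F) (the edge map: pullback of cohomology classes along f followed by the
map induced by the counit f^* f_* F → F) is bijective. -/
theorem result
    {X Y : Scheme.{u}} (f : X ⟶ Y) [IsAffineHom f] (F : X.Modules) [Coh.IsQCoh F] :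
    Function.Bijective (CohPull.pushEdge f F 1) := by

    haveI : HasInjectiveResolutions X.Modules := Aux.hasInjRes X
    exact Groth.Agent.CohPullX.bijective_pushEdge f 1 F fun q hq => by
      obtain ⟨i, rfl⟩ : ∃ i, q = i + 1 := ⟨q - 1, by omega⟩
      exact Aux.isZero_Rpush f F ‹_› i

end Groth.Agent.S16953
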