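import Groth.Statements.S2102
import Mathlib
import Groth.Agent.S9821

set_option autoImplicit false
universe u
open CategoryTheory AlgebraicGeometry
open Mor

namespace Groth.Agent.S2102

/-- The ring of global sections of an integral normal scheme is an integrally closed domain. -/
theorem result (X : Scheme.{u}) [IsIntegral X] (hX : Pi1.IsNormalScheme X) :
    IsIntegrallyClosed (Γ(X, ⊤) : Type u) := by
  haveI : Nonempty (⊤ : X.Opens) := ⟨⟨genericPoint X, trivial⟩⟩
  have key : ∀ f : X.functionField, _root_.IsIntegral Γ(X, ⊤) f →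
      ∃ s : Γ(X, ⊤), algebraMap Γ(X, ⊤) X.functionField s = f := by
    intro f hf
    have hη : ∀ (U : X.Opens) (x : X), x ∈ U → genericPoint X ∈ U := fun U x hx =>
      ((genericPoint_spec X).mem_open_set_iff U.isOpen).mpr ⟨x, trivial, hx⟩
    have hloc : ∀ x : X, ∃ (U : X.Opens) (hx : x ∈ U) (s : Γ(X, U)),
        X.presheaf.germ U (genericPoint X) (hη U x hx) s = f := by
      intro x
      obtain ⟨_, ⟨U, hU, rfl⟩, hxU, -⟩ :=
        X.isBasis_affineOpens.exists_subset_of_mem_open (Set.mem_univ x) isOpen_univ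
      haveI : Nonempty U := ⟨⟨x, hxU⟩⟩
      haveI := (Groth.Agent.S9821.result X).1 hX U hU
      haveI := functionField_isFractionRing_of_isAffineOpen X U hU
      letI := (X.presheaf.map (homOfLE (le_top : U ≤ ⊤)).op).hom.toAlgebra
      haveI : IsScalarTower Γ(X, ⊤) Γ(X, U) X.functionField := .of_algebraMap_eq fun a =>
        (X.presheaf.germ_res_apply (homOfLE (le_top : U ≤ ⊤)) (genericPoint X) (hη U x hxU) a).symm
      obtain ⟨s, hs⟩ := IsIntegrallyClosed.isIntegral_iff.1 (hf.tower_top (A := Γ(X, U)))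
      exact ⟨U, hxU, s, hs⟩
    choose U hxU s hs using hloc
    obtain ⟨t, ht, -⟩ := X.sheaf.existsUnique_gluing' U ⊤ (fun x => homOfLE le_top)
      (fun x _ => TopologicalSpace.Opens.mem_iSup.2 ⟨x, hxU x⟩) s (fun x y => by
        apply germ_injective_of_isIntegral (X := X) (genericPoint X)
          (show genericPoint X ∈ U x ⊓ U y from ⟨hη _ x (hxU x), hη _ y (hxU y)⟩)
        refine (X.presheaf.germ_res_apply _ _ _ _).trans ?_
        refine ((hs x).trans (hs y).symm).trans ?_
        exact (X.presheaf.germ_res_apply _ _ _ _).symm)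
    refine ⟨t, ?_⟩
    have x := genericPoint X
    rw [← hs x, ← ht x]
    exact (X.presheaf.germ_res_apply _ _ _ _).symm
  have hinj : Function.Injective (algebraMap Γ(X, ⊤) X.functionField) :=
    X.germToFunctionField_injective ⊤
  rw [isIntegrallyClosed_iff (FractionRing Γ(X, ⊤))]
  intro z hz
  let φ : FractionRing Γ(X, ⊤) →ₐ[Γ(X, ⊤)] X.functionField :=
    IsFractionRing.liftAlgHom (g := Algebra.ofId _ _) hinj
  obtain ⟨t, ht⟩ := key (φ z) (hz.map φ)
  exact ⟨t, φ.toRingHom.injective ((φ.commutes t).trans ht)⟩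

end Groth.Agent.S2102
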