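import Groth.Statements.S1340
import Mathlib
import Groth.Agent.FlatMisc.SteinUC

set_option autoImplicit false
universe u
open FlatMor

namespace Groth.Agent.S1340

open AlgebraicGeometry CategoryTheory Limits in
/-- Stein factorization, universally closed case: let f : X ⟶ S be universally closed and
quasi-separated, and let X ⟶ X' ⟶ S be its factorization through the normalization X' of S in X.
Then the canonical morphism X ⟶ X' identifies the structure sheaf of X' with the pushforward of the
structure sheaf of X: for every open U of X' the induced map from O_{X'}(U) to the sections of O_X
over the inverse image of U is an isomorphism. (That X ⟶ X' is surjective and universally closed and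
that X' ⟶ S is integral are separate facts not restated here.) -/
theorem result {X S : Scheme.{u}} (f : X ⟶ S) [UniversallyClosed f] [QuasiSeparated f]
    (U : f.normalization.Opens) : IsIso (f.toNormalization.app U) := by
  exact FlatMisc.isIso_toNormalization_app f U

end Groth.Agent.S1340
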