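import Groth.Statements.S2079
import Groth.Agent.Approx.ProperSub
import Groth.Agent.Approx.FP

set_option autoImplicit false
set_option backward.isDefEq.respectTransparency false
set_option backward.isDefEq.respectTransparency.types false
universe u
open CategoryTheory AlgebraicGeometry
open Lim

namespace Groth.Agent.S2079

/-- Let `f : X → S` be proper with `S` quasi-compact and quasi-separated. Then `X` is the limit of a
cofiltered diagram of `S`-schemes which are proper and of finite presentation over `S`, with all
transition morphisms and all projections `X → X_i` closed immersions. -/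
theorem result {X S : Scheme.{u}} (f : X ⟶ S) [IsProper f] [CompactSpace S]
    [QuasiSeparatedSpace S] :
    ∃ (I : Type u) (_ : SmallCategory I) (_ : IsCofiltered I) (D : I ⥤ Over S) (c : Limits.Cone D)
      (_ : Limits.IsLimit c) (e : c.pt ≅ Over.mk f),
      (∀ (i j : I) (a : i ⟶ j), IsClosedImmersion (D.map a).left) ∧
      (∀ i, IsClosedImmersion (c.π.app i).left ∧ IsProper (D.obj i).hom ∧
        LocallyOfFinitePresentation (D.obj i).hom) := by
  open Groth.Agent.Approx Groth.Agent.MorLib.IdealFG Opposite in
  haveI : CompactSpace X := QuasiCompact.compactSpace_of_compactSpace f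
  haveI : QuasiSeparatedSpace X := quasiSeparatedSpace_of_quasiSeparated f
  obtain ⟨X', f', j, h1, h2, h3, hc', hqs', hj, hjf, hsep⟩ := exists_closedImmersion_fp f
  haveI : IsSeparated f' := hsep inferInstance
  haveI : IsProper (j ≫ f') := by rw [hjf]; infer_instance
  obtain ⟨K0, hK0⟩ := exists_sub_isProper j f'
  haveI := tail_final K0
  haveI : IsIso j.toImage := inferInstance
  refine ⟨(Tail K0)ᵒᵖ, inferInstance, inferInstance, (tailVal_mono K0).functor.op ⋙ subDiagram f' j.ker,
    (subCone f' j.ker).whisker (tailVal_mono K0).functor.op,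
    (Functor.Initial.isLimitWhiskerEquiv (tailVal_mono K0).functor.op _).symm (isLimitSubCone f' j.ker),
    Over.isoMk (asIso j.toImage).symm ?_, fun K L a => isClosedImmersion_map f' j.ker ((tailVal_mono K0).functor.op.map a), fun K => ⟨?_, ?_, ?_⟩⟩
  · show inv j.toImage ≫ f = j.ker.subschemeι ≫ f'
    rw [IsIso.inv_comp_eq]
    exact hjf.symm.trans ((congrArg (· ≫ f') j.toImage_imageι.symm).trans (Category.assoc _ _ _))
  · show IsClosedImmersion (Scheme.IdealSheafData.inclusion K.unop.1.2.1)
    haveI : IsClosedImmersion (Scheme.IdealSheafData.inclusion K.unop.1.2.1 ≫ K.unop.1.1.subschemeι) := by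
      rw [Scheme.IdealSheafData.inclusion_subschemeι]; infer_instance
    exact IsClosedImmersion.of_comp _ K.unop.1.1.subschemeι
  · exact hK0 K.unop.1 K.unop.2
  · haveI := lfp_subschemeι K.unop.1.2.2
    show LocallyOfFinitePresentation (K.unop.1.1.subschemeι ≫ f')
    infer_instance

end Groth.Agent.S2079
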