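import Groth.Statements.S4463
import Groth.Agent.Lib.ZarConn
import Groth.Agent.S1297
import Groth.Agent.FlatMisc.SteinUC

set_option autoImplicit false
universe u
open Coherent

namespace Groth.Agent.S4463

open AlgebraicGeometry CategoryTheory in
/-- Stein factorisation. Let Y be locally Noetherian and f : X → Y proper, and let X → Y' → Y be its
Stein factorisation, Y' being the spectrum of the O_Y-algebra f_* O_X (realised here as the relative
normalization of Y in X, which is that spectrum because f_* O_X is integral over O_Y for f
universally closed). Then for every point y of Y the fibre of Y' → Y at y is finite, the map X_y →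
Y'_y induced on fibres is surjective, and two points of X_y have the same image if and only if they
lie in the same connected component of X_y: the connected components of X_y are in bijection with
the points of Y'_y. -/
theorem result {X Y : Scheme.{u}} (f : X ⟶ Y) [IsProper f]
    [IsLocallyNoetherian Y] (y : Y) :
    Finite ↥(f.fromNormalization.fiber y) ∧
    Function.Surjective (CohIII.fiberMapOver f.toNormalization f f.fromNormalization
        f.toNormalization_fromNormalization y).base ∧
    ∀ x x' : ↥(f.fiber y),
      (CohIII.fiberMapOver f.toNormalization f f.fromNormalization f.toNormalization_fromNormalization y).base x =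
        (CohIII.fiberMapOver f.toNormalization f f.fromNormalization f.toNormalization_fromNormalization y).base x' ↔
      connectedComponent x = connectedComponent x' := by
  haveI : IsFinite f.fromNormalization := Groth.Agent.S1297.result f
  haveI : IsLocallyNoetherian f.normalization := LocallyOfFiniteType.isLocallyNoetherian f.fromNormalization
  haveI : IsProper f.toNormalization := by
    haveI : IsProper (f.toNormalization ≫ f.fromNormalization) := by rw [f.toNormalization_fromNormalization]; infer_instance
    exact IsProper.of_comp f.toNormalization f.fromNormalization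
  have hconn := Groth.Agent.ZarConn.connectedSpace_fibre f.toNormalization (FlatMisc.isIso_toNormalization_app f)
  let g := f.toNormalization
  let h := f.fromNormalization
  let Q := (CohIII.fiberMapOver g f h f.toNormalization_fromNormalization y).base
  have hQ : ∀ x, h.fiberι y (Q x) = g (f.fiberι y x) := fun x => by
    have e : CohIII.fiberMapOver g f h f.toNormalization_fromNormalization y ≫ h.fiberι y = f.fiberι y ≫ g :=
      Limits.pullback.lift_fst _ _ _
    exact congr($(e).base x)
  haveI : Finite (h.fiber y) := by
    haveI : Finite ↥(h ⁻¹' {y}) := (h.finite_preimage_singleton y).to_subtype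
    exact Finite.of_equiv _ (h.fiberHomeo y).toEquiv.symm
  haveI : DiscreteTopology (h.fiber y) := by
    haveI := isDiscrete_iff_discreteTopology.mp (h.isDiscrete_preimage_singleton y)
    exact (h.fiberHomeo y).isEmbedding.discreteTopology
  have hι : ∀ q : h.fiber y, h (h.fiberι y q) = y := fun q => by
    have hm : h.fiberι y q ∈ Set.range (h.fiberι y) := ⟨q, rfl⟩
    rwa [h.range_fiberι] at hm
  have himg : ∀ q : h.fiber y, f.fiberι y '' (Q ⁻¹' {q}) = g ⁻¹' {h.fiberι y q} := fun q => by
    ext z
    constructor
    · rintro ⟨x, hx, rfl⟩
      exact ((hQ x).symm.trans (congrArg _ hx) :)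
    · intro hz
      have hzy : z ∈ f ⁻¹' {y} := by
        show f z = y
        rw [← hι q, ← show g z = h.fiberι y q from hz]
        exact (congr($(f.toNormalization_fromNormalization).base z)).symm
      obtain ⟨x, rfl⟩ := (f.range_fiberι y).ge hzy
      exact ⟨x, (h.fiberι y).isEmbedding.injective ((hQ x).trans hz), rfl⟩
  have hpc : ∀ q : h.fiber y, _root_.IsPreconnected (Q ⁻¹' {q}) ∧ (Q ⁻¹' {q}).Nonempty := fun q => by
    haveI := hconn (h.fiberι y q)
    have h1 : _root_.IsConnected (g ⁻¹' {h.fiberι y q}) := by
      rw [← g.range_fiberι]
      exact isConnected_range (g.fiberι (h.fiberι y q)).continuous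
    rw [← himg q] at h1
    exact ⟨(f.fiberι y).isEmbedding.isInducing.isPreconnected_image.mp h1.2, Set.image_nonempty.mp h1.1⟩
  refine ⟨inferInstance, fun q => (hpc q).2.imp fun x hx => hx, fun x x' => ⟨fun hxx' => ?_, fun hxx' => ?_⟩⟩
  · exact connectedComponent_eq ((hpc (Q x')).1.subset_connectedComponent (x := x) hxx' rfl)
  · have h2 := ((isPreconnected_connectedComponent (x := x)).image Q Q.hom.continuous.continuousOn).subsingleton
    exact h2 ⟨x, mem_connectedComponent, rfl⟩ ⟨x', hxx' ▸ mem_connectedComponent, rfl⟩

end Groth.Agent.S4463
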