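import Groth.Statements.S4464
import Groth.Agent.S2421
import Groth.Agent.Lib.NormalPush

set_option autoImplicit false
universe u
open Coherent

namespace Groth.Agent.S4464

open AlgebraicGeometry CategoryTheory in
/-- Let X and Y be locally Noetherian integral schemes, f : X → Y a proper dominant morphism, and
suppose that the algebraic closure of the function field R(Y) in R(X) is purely inseparable over
R(Y): every element of R(X) satisfying a nonzero polynomial over R(Y) has a p^e-th power coming from
R(Y), p being the characteristic exponent. Then for every point y of Y whose local ring is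
unibranch, the fibre X_y is connected and nonempty. -/
theorem result {X Y : Scheme.{u}} [IsIntegral X]
    [IsIntegral Y] [IsLocallyNoetherian X] [IsLocallyNoetherian Y] (f : X ⟶ Y) [IsProper f]
    (hdom : f.base (genericPoint X) ⤳ genericPoint Y)
    (hrad : ∀ x : X.functionField,
      (∃ q : Polynomial Y.functionField, q ≠ 0 ∧
        Polynomial.eval₂ (CohIII.stalkToFunctionField f (genericPoint Y) hdom) x q = 0) →
      ∃ e : ℕ, x ^ (ringExpChar X.functionField ^ e) ∈
        Set.range (CohIII.stalkToFunctionField f (genericPoint Y) hdom))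
    (y : Y) (hy : CAlg2.IsUnibranch (Y.presheaf.stalk y)) :
    ConnectedSpace ↥(f.fiber y) := by
  have h : f.base (genericPoint X) ⤳ y := hdom.trans (genericPoint_specializes y)
  have hη := Groth.Agent.Lib.NormalPush.eq_genericPoint f hdom
  let O := Y.presheaf.stalk y
  let φO := CohIII.stalkToFunctionField f y h
  let φ := CohIII.stalkToFunctionField f (genericPoint Y) hdom
  have hcomp : ∀ a : O, φO a = φ (algebraMap O Y.functionField a) := fun a => by
    obtain ⟨V, hyV, a, rfl⟩ := Y.presheaf.exists_germ_eq a
    have hηV : genericPoint Y ∈ V := (genericPoint_specializes y).mem_open V.2 hyV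
    have e : algebraMap O Y.functionField ((Y.presheaf.germ V y hyV).hom a) = (Y.presheaf.germ V (genericPoint Y) hηV).hom a :=
      Y.presheaf.germ_stalkSpecializes_apply hyV _ a
    rw [e, Groth.Agent.Lib.SteinCount.stalkToFunctionField_germ, Groth.Agent.Lib.SteinCount.stalkToFunctionField_germ]
  have hbot : nilradical O = ⊥ := nilradical_eq_zero O
  haveI : IsDomain (CAlg2.red O) := hy.1
  haveI : IsLocalRing (CAlg2.normRed O) := hy.2
  let r : CAlg2.red O →+* O := Ideal.Quotient.lift _ (RingHom.id O) (fun a ha => by rw [hbot] at ha; exact ha)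
  have hr : ∀ a, r (Ideal.Quotient.mk (nilradical O) a) = a := fun a => rfl
  have hrinj : Function.Injective r := by
    intro a b hab
    obtain ⟨a, rfl⟩ := Ideal.Quotient.mk_surjective a
    obtain ⟨b, rfl⟩ := Ideal.Quotient.mk_surjective b
    rw [hr, hr] at hab
    rw [hab]
  let τ : FractionRing (CAlg2.red O) →+* Y.functionField :=
    IsFractionRing.lift (g := (algebraMap O Y.functionField).comp r) ((IsFractionRing.injective O Y.functionField).comp hrinj)
  have hτa : ∀ a, τ (algebraMap (CAlg2.red O) (FractionRing (CAlg2.red O)) a) = algebraMap O Y.functionField (r a) :=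
    IsFractionRing.lift_algebraMap _
  have hτs : Function.Surjective τ := fun k => by
    obtain ⟨a, b, hb, rfl⟩ := IsFractionRing.div_surjective (A := O) k
    exact ⟨algebraMap (CAlg2.red O) _ (Ideal.Quotient.mk _ a) / algebraMap (CAlg2.red O) _ (Ideal.Quotient.mk _ b),
      by rw [map_div₀, hτa, hτa, hr, hr]⟩
  letI := φO.toAlgebra
  have hι : ∀ c : CAlg2.normRed O, φ (τ c) ∈ CohIII.integralClosureStalk f y h := fun c => by
    obtain ⟨p, hp, hp0⟩ := c.2
    refine ⟨p.map r, hp.map _, ?_⟩
    rw [Polynomial.eval₂_map]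
    have e : (algebraMap O X.functionField).comp r = (φ.comp τ).comp (algebraMap (CAlg2.red O) (FractionRing (CAlg2.red O))) :=
      RingHom.ext fun a => by
        show φO (r a) = φ (τ _)
        rw [hτa, hcomp]
    rw [e]
    show Polynomial.eval₂ _ ((φ.comp τ) _) p = 0
    rw [← Polynomial.hom_eval₂, hp0, map_zero]
  let ι : CAlg2.normRed O →+* CohIII.integralClosureStalk f y h :=
    ((φ.comp τ).comp (integralClosure (CAlg2.red O) (FractionRing (CAlg2.red O))).val.toRingHom).codRestrict _ hι
  haveI : NeZero (ringExpChar X.functionField) := ⟨(expChar_pos X.functionField (ringExpChar X.functionField)).ne'⟩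
  have hpow : ∀ x : CohIII.integralClosureStalk f y h, ∃ (q : ℕ) (c : CAlg2.normRed O), q ≠ 0 ∧ x ^ q = ι c := by
    rintro ⟨x, hx⟩
    obtain ⟨p, hp, hp0⟩ := hx
    obtain ⟨e, k, hk⟩ := hrad x ⟨p.map (algebraMap O Y.functionField), (hp.map _).ne_zero, by
      rw [Polynomial.eval₂_map, ← show φO = φ.comp (algebraMap O Y.functionField) from RingHom.ext hcomp]
      exact hp0⟩
    obtain ⟨k, rfl⟩ := hτs k
    have hkint : IsIntegral (CAlg2.red O) k := by
      have hxint : IsIntegral O (x ^ ringExpChar X.functionField ^ e) := (IsIntegral.pow ⟨p, hp, hp0⟩ _)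
      obtain ⟨p', hp', hp0'⟩ := hxint
      refine ⟨p'.map (Ideal.Quotient.mk (nilradical O)), hp'.map _, τ.injective (φ.injective ?_)⟩
      rw [map_zero, map_zero, Polynomial.eval₂_map]
      refine Eq.trans ?_ hp0'
      rw [← hk, Polynomial.hom_eval₂, Polynomial.hom_eval₂]
      refine congrArg (fun g => Polynomial.eval₂ g _ p') (RingHom.ext fun a => ?_)
      show φ (τ (algebraMap (CAlg2.red O) _ (Ideal.Quotient.mk _ a))) = φO a
      rw [hτa, hr, hcomp]
    exact ⟨ringExpChar X.functionField ^ e, ⟨k, hkint⟩, pow_ne_zero _ (NeZero.ne _), Subtype.ext ((SubmonoidClass.coe_pow _ _).trans hk.symm)⟩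
  have hιint : ι.IsIntegral := fun x => by
    obtain ⟨q, c, hq, hqc⟩ := hpow x
    exact ⟨Polynomial.X ^ q - Polynomial.C c, Polynomial.monic_X_pow_sub_C c hq, by simp [hqc]⟩
  haveI : Subsingleton (MaximalSpectrum (CohIII.integralClosureStalk f y h)) := ⟨fun M M' => by
    haveI := M.isMaximal
    haveI := M'.isMaximal
    refine MaximalSpectrum.ext (M.isMaximal.eq_of_le M'.isMaximal.ne_top fun x hx => ?_)
    obtain ⟨q, c, hq, hqc⟩ := hpow x
    have hc : c ∈ M.asIdeal.comap ι := by
      show ι c ∈ M.asIdeal
      rw [← hqc]; exact Ideal.pow_mem_of_mem _ hx q (Nat.pos_of_ne_zero hq)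
    rw [IsLocalRing.eq_maximalIdeal (Ideal.isMaximal_comap_of_isIntegral_of_isMaximal' ι hιint M.asIdeal),
      ← IsLocalRing.eq_maximalIdeal (Ideal.isMaximal_comap_of_isIntegral_of_isMaximal' ι hιint M'.asIdeal)] at hc
    exact M'.isMaximal.isPrime.mem_of_pow_mem q (by rw [hqc]; exact hc)⟩
  haveI : Subsingleton (_root_.ConnectedComponents (f.fiber y)) := Cardinal.le_one_iff_subsingleton.1
    ((Groth.Agent.S2421.result f hη y h).trans (Cardinal.le_one_iff_subsingleton.2 inferInstance))
  have hne : y ∈ Set.range f :=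
    (f.isClosedMap.isClosed_range).stableUnderSpecialization (genericPoint_specializes y) ⟨genericPoint X, hη⟩
  obtain ⟨x, rfl⟩ := hne
  haveI : PreconnectedSpace (f.fiber (f x)) := ⟨by
    rw [show (Set.univ : Set (f.fiber (f x))) = connectedComponent (f.asFiber x) from (Set.eq_univ_of_forall fun z =>
      ConnectedComponents.coe_eq_coe'.mp (Subsingleton.elim _ _)).symm]
    exact isPreconnected_connectedComponent⟩
  exact ⟨⟨f.asFiber x⟩⟩

end Groth.Agent.S4464
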