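import Groth.Statements.S9801
import Groth.Agent.CMClosed.Basic

set_option autoImplicit false
universe u
open CategoryTheory AlgebraicGeometry TopologicalSpace
open Props

namespace Groth.Agent.S9801

/-- A locally Noetherian normal scheme of dimension at most two is Cohen-Macaulay, that is, all of its
local rings are Cohen-Macaulay local rings. -/
theorem result (X : Scheme.{u})
    [IsLocallyNoetherian X] (hN : Pi1.IsNormalScheme X) (hd : topologicalKrullDim X ≤ 2) (x : X) :
    LocCoh.IsCohenMacaulayLocalRing (X.presheaf.stalk x) := by
  obtain ⟨hdom, hic⟩ := hN x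
  exact Groth.Agent.CMClosed.of_normal_dim_le_two _ ((Groth.Agent.SchTop.ringKrullDim_stalk_le x).trans hd)

end Groth.Agent.S9801
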