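import Groth.Statements.S9232
import Groth.Agent.ComplBij.Basic

set_option autoImplicit false
universe u
open CAlg

namespace Groth.Agent.S9232

/-- Suppose A → B is a flat local ring map between Noetherian local rings, the maximal ideal of A
generates that of B, and the residue field map is bijective. Then the induced map between the
completions of A and B (a ring map of the completions compatible with A → B; it is unique since A is
Noetherian) is an isomorphism. -/
theorem result (A B : Type u) [CommRing A]
    [CommRing B] [IsLocalRing A] [IsLocalRing B] [IsNoetherianRing A] [IsNoetherianRing B]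
    [Algebra A B] [IsLocalHom (algebraMap A B)] [Module.Flat A B]
    (hm : Ideal.map (algebraMap A B) (IsLocalRing.maximalIdeal A) = IsLocalRing.maximalIdeal B)
    (hk : Function.Bijective (IsLocalRing.ResidueField.map (algebraMap A B)))
    (ψ : AdicCompletion (IsLocalRing.maximalIdeal A) A →+* AdicCompletion (IsLocalRing.maximalIdeal B) B)
    (hψ : ψ.comp (algebraMap A (AdicCompletion (IsLocalRing.maximalIdeal A) A)) =
      (algebraMap B (AdicCompletion (IsLocalRing.maximalIdeal B) B)).comp (algebraMap A B)) :
    Function.Bijective ψ := by
  have hJ : IsLocalRing.maximalIdeal B ≤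
      (IsLocalRing.maximalIdeal A).map (algebraMap A B) ⊔ IsLocalRing.maximalIdeal B ^ 2 := hm.ge.trans le_sup_left
  haveI : Module.FaithfullyFlat A B := Module.FaithfullyFlat.of_flat_of_isLocalHom
  refine Groth.Agent.ComplBij.bijective_of_truncations (algebraMap A B) ψ (IsNoetherian.noetherian _) hm.le
    (fun a => RingHom.congr_fun hψ a) (fun n a ha => ?_)
    (fun n b => Groth.Agent.ComplBij.exists_sub_mem_pow (algebraMap A B) hJ hm.le (fun b => ?_) n b)
  · rw [← Ideal.comap_map_eq_self_of_faithfullyFlat (A := A) (B := B) (IsLocalRing.maximalIdeal A ^ n),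
      Ideal.mem_comap, Ideal.map_pow, hm]
    exact ha
  · obtain ⟨a, ha⟩ := hk.2 (IsLocalRing.residue B b)
    obtain ⟨a, rfl⟩ := IsLocalRing.residue_surjective a
    rw [IsLocalRing.ResidueField.map_residue] at ha
    exact ⟨a, Ideal.Quotient.eq.1 ha⟩


end Groth.Agent.S9232
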