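import Groth.Statements.S7302
import Groth.Agent.RatCompl.Normal
-- import your own Groth.Agent.* helpers here

set_option autoImplicit false
universe u
open CategoryTheory CategoryTheory.Limits AlgebraicGeometry
open Resolve

namespace Groth.Agent.S7302

/-- Let (A, m) be a Nagata local normal domain of dimension two which defines a rational singularity and
whose m-adic completion is a normal domain, and let b : X → Spec A be the blowing up in m. Then for
every closed point x of X the completion of the local ring O_{X,x} at its maximal ideal is a normal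
domain. -/
theorem result (A : Type u) [CommRing A] [IsDomain A] [IsLocalRing A] [IsNoetherianRing A]
    [IsIntegrallyClosed A] (hN : CAlg.IsNagata A) (hdim : ringKrullDim A = 2) (hA : Curv2.IsRationalSing A)
    [IsDomain (Curv2.cpl A)] [IsIntegrallyClosed (Curv2.cpl A)]
    (X : Scheme.{u}) (b : X ⟶ Spec (CommRingCat.of A)) (hb : BlowUp.IsBlowUp b (Curv2.idealSheaf A (IsLocalRing.maximalIdeal A)))
    (x : X) (hx : IsClosed ({x} : Set X)) :
    IsDomain (Curv2.cpl (X.presheaf.stalk x)) ∧ IsIntegrallyClosed (Curv2.cpl (X.presheaf.stalk x)) := by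
  haveI : IsNoetherianRing (Curv2.cpl A) := FlatLoc6.isNoetherianRing_cpl A
  haveI : Module.Flat A (Curv2.cpl A) := AdicCompletion.flat_of_isNoetherian _
  haveI := CplFib6.isAdicComplete_cpl A
  obtain ⟨hXi, hP, hXn, U, hU, hiso, hUc⟩ := RatSing.blowUp_facts (R := CommRingCat.of A) hb hN hdim hA
  haveI := hXi
  haveI : IsProper b := hP
  haveI : IsIso (b ∣_ U) := hiso
  have hX2 : ∀ t : X, ringKrullDim (X.presheaf.stalk t) ≤ 2 := fun t =>
    (SchTop.ringKrullDim_stalk_le t).trans ((RatSing.topologicalKrullDim_le_two (R := CommRingCat.of A) b hdim hU).trans (by norm_num))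
  have hbx : b x = IsLocalRing.closedPoint A := by
    have h1 : IsClosed ({b x} : Set ↥(Spec (CommRingCat.of A))) := by
      have := b.isClosedMap _ hx
      rwa [Set.image_singleton] at this
    exact ((IsLocalRing.specializes_closedPoint (b x)).mem_closed h1 rfl).symm
  exact RatCompl.normal_cpl_stalk (RatCompl.cpl_maxMap A) (RatCompl.cpl_resLift A) hdim
    ((RatCompl.dim_cpl A).trans hdim) (S2652.result _) b hXn hX2 hU hUc x hbx

end Groth.Agent.S7302
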