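import Groth.Statements.S0549
import Mathlib
import Groth.Agent.S19474
import Groth.Agent.S0542
import Groth.Agent.RegLoc6.Serre

set_option autoImplicit false
universe u
open CAlg

namespace Groth.Agent.S0549

/-- A Noetherian local ring is a discrete valuation ring exactly when its completion at the maximal
ideal is a discrete valuation ring. -/
theorem result (A : Type u) [CommRing A] [IsLocalRing A]
    [IsNoetherianRing A] :
    (∃ _ : IsDomain A, IsDiscreteValuationRing A) ↔
      ∃ _ : IsDomain (AdicCompletion (IsLocalRing.maximalIdeal A) A),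
        IsDiscreteValuationRing (AdicCompletion (IsLocalRing.maximalIdeal A) A) := by
  classical
  have hiff : ∀ (R : Type u) [CommRing R] [IsLocalRing R] [IsNoetherianRing R],
      (∃ _ : IsDomain R, IsDiscreteValuationRing R) ↔ (IsRegularLocalRing R ∧ ringKrullDim R = 1) := by
    intro R _ _ _
    constructor
    · rintro ⟨hd, hv⟩
      exact ⟨inferInstance, IsPrincipalIdealRing.ringKrullDim_eq_one R (IsDiscreteValuationRing.not_isField R)⟩
    · rintro ⟨hreg, hdim⟩
      haveI := Groth.Agent.RegLoc6.isDomain_of_isRegularLocalRing R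
      have h1 := (isRegularLocalRing_iff R).1 hreg
      rw [hdim] at h1
      have h2 : (IsLocalRing.maximalIdeal R).spanFinrank = 1 := by exact_mod_cast h1
      have hp : (IsLocalRing.maximalIdeal R).IsPrincipal := by
        obtain ⟨s, hs⟩ := Submodule.FG.exists_span_set_encard_eq_spanFinrank (IsNoetherian.noetherian (IsLocalRing.maximalIdeal R))
        rw [h2, Nat.cast_one, Set.encard_eq_one] at hs
        obtain ⟨⟨x, rfl⟩, hx⟩ := hs
        exact ⟨x, hx.symm⟩
      have hnf : ¬ IsField R := fun hF => by
        have h0 := ringKrullDim_eq_zero_of_isField hF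
        rw [hdim] at h0
        exact one_ne_zero h0
      exact ⟨inferInstance, ((IsDiscreteValuationRing.TFAE R hnf).out 0 4).2 hp⟩
  have hc := Groth.Agent.S19474.result A _ (IsLocalRing.maximalIdeal.isMaximal A).ne_top
  haveI : IsNoetherianRing (AdicCompletion (IsLocalRing.maximalIdeal A) A) :=
    haveI : IsNoetherianRing (A ⧸ IsLocalRing.maximalIdeal A) := inferInstance
    Groth.Agent.S0542.result A _ (IsNoetherian.noetherian _)
  rw [hiff A, hiff (AdicCompletion (IsLocalRing.maximalIdeal A) A), hc.1, hc.2]

end Groth.Agent.S0549
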