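import Groth.Statements.S0372
import Groth.Agent.KFlatLib.Ring.DualizingSerre
-- import your own Groth.Agent.* helpers here

set_option autoImplicit false
universe u v
open CategoryTheory
attribute [local instance] HasDerivedCategory.standard
open Dual

namespace Groth.Agent.S0372

/-- If a Noetherian ring has a dualizing complex then the set of primes at which the localization is
Cohen–Macaulay is open and dense in the prime spectrum. -/
theorem result (A : Type u) [CommRing A] [IsNoetherianRing A] (ω : Dual.D A) (hω : Dual.IsDualizing A ω) : IsOpen {p : PrimeSpectrum A | LocCoh.IsCohenMacaulayLocalRing (Localization.AtPrime p.asIdeal)} ∧ Dense {p : PrimeSpectrum A | LocCoh.IsCohenMacaulayLocalRing (Localization.AtPrime p.asIdeal)} := by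
  have h := KFlatLib.isOpen_cm_locus hω A
  have key : ∀ p : PrimeSpectrum A,
      LocCoh.IsCohenMacaulayModule (Localization.AtPrime p.asIdeal) (LocalizedModule p.asIdeal.primeCompl A) ↔
      LocCoh.IsCohenMacaulayLocalRing (Localization.AtPrime p.asIdeal) := fun p => by
    haveI : IsNoetherianRing (Localization.AtPrime p.asIdeal) :=
      IsLocalization.isNoetherianRing p.asIdeal.primeCompl _ inferInstance
    haveI : Module.Finite (Localization.AtPrime p.asIdeal) (LocalizedModule p.asIdeal.primeCompl A) :=
      Module.Finite.of_isLocalizedModule p.asIdeal.primeCompl (LocalizedModule.mkLinearMap _ _)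
    rw [LocCoh.IsCohenMacaulayModule, Module.supportDim_eq_of_equiv (LC.selfLoc p.asIdeal.primeCompl),
      show LocCoh.depth (Localization.AtPrime p.asIdeal) (LocalizedModule p.asIdeal.primeCompl A) =
        LocCoh.depth (Localization.AtPrime p.asIdeal) (Localization.AtPrime p.asIdeal) from
        LC.idealDepth_congr _ (LC.selfLoc p.asIdeal.primeCompl)]
    exact ⟨fun h => { supportDim_eq_depth := h }, fun h => h.supportDim_eq_depth⟩
  have hset : {p : PrimeSpectrum A | LocCoh.IsCohenMacaulayLocalRing (Localization.AtPrime p.asIdeal)} =
      {p : PrimeSpectrum A | Subsingleton (LocalizedModule p.asIdeal.primeCompl A) ∨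
        LocCoh.IsCohenMacaulayModule (Localization.AtPrime p.asIdeal) (LocalizedModule p.asIdeal.primeCompl A)} := by
    ext p
    show LocCoh.IsCohenMacaulayLocalRing _ ↔ _ ∨ _
    rw [← key p, or_iff_right]
    exact not_subsingleton_iff_nontrivial.2 (LC.selfLoc p.asIdeal.primeCompl).toEquiv.nontrivial
  refine ⟨hset ▸ h.1, fun p => ?_⟩
  refine closure_mono (fun q hq => (key q).1 hq.1) (h.2 ?_)
  rw [Module.support_eq_zeroLocus, Module.annihilator_eq_bot.2 inferInstance]
  simp

end Groth.Agent.S0372
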