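import Groth.Statements.S0373
import Groth.Agent.KFlatLib.Ring.DualizingSerre
import Groth.Agent.LC.GorDualizing
import Groth.Agent.H9Misc.DRingTel
import Groth.Agent.KFlatLib.Ring.InvertibleTwist
import Mathlib.RingTheory.Spectrum.Prime.FreeLocus
-- import your own Groth.Agent.* helpers here

set_option autoImplicit false
universe u v
open CategoryTheory
attribute [local instance] HasDerivedCategory.standard
open Dual

namespace Groth.Agent.S0373

/-- If a Noetherian ring has a dualizing complex then the set of primes at which the localization is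
Gorenstein is open. -/
theorem result (A : Type u) [CommRing A] [IsNoetherianRing A] (ω : Dual.D A) (hω : Dual.IsDualizing A ω) : IsOpen {p : PrimeSpectrum A | LocCoh.IsGorensteinLocalRing (Localization.AtPrime p.asIdeal)} := by
  classical
  obtain ⟨a, b, -, _, _⟩ := KFlatLib.exists_bounds_of_isDualizing hω
  haveI : ∀ i, Module.Finite A (Dual.HD A ω i) := hω.finite_cohomology
  haveI : ∀ i, Module.FinitePresentation A (Dual.HD A ω i) := fun i =>
    Module.finitePresentation_of_finite A (Dual.HD A ω i)
  let U : ℤ → Set (PrimeSpectrum A) := fun c =>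
    {p | ∀ i : ℤ, i ≠ c → p ∉ Module.support A (Dual.HD A ω i)} ∩
      {p | p ∈ Module.freeLocus A (Dual.HD A ω c) ∧ Module.rankAtStalk (R := A) (Dual.HD A ω c) p = 1}
  have hzero : ∀ i : ℤ, (i < a ∨ b < i) → Subsingleton (Dual.HD A ω i) := fun i hi =>
    ModuleCat.subsingleton_of_isZero (by
      rcases hi with h | h
      · exact DerivedCategory.isZero_of_isGE ω a i h
      · exact DerivedCategory.isZero_of_isLE ω b i h)
  have hU : ∀ c, IsOpen (U c) := by
    intro c
    refine IsOpen.inter ?_ ?_
    · have hset : {p : PrimeSpectrum A | ∀ i : ℤ, i ≠ c → p ∉ Module.support A (Dual.HD A ω i)} =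
          (⋃ i ∈ (Finset.Icc a b).erase c, Module.support A (Dual.HD A ω i))ᶜ := by
        ext p
        simp only [Set.mem_setOf_eq, Set.mem_compl_iff, Set.mem_iUnion, Finset.mem_erase, Finset.mem_Icc,
          exists_prop, not_exists, not_and]
        refine ⟨fun h i hi => h i hi.1, fun h i hi hp => ?_⟩
        by_cases hab : a ≤ i ∧ i ≤ b
        · exact h i ⟨hi, hab⟩ hp
        · haveI := hzero i (by omega)
          rw [Module.support_eq_empty] at hp
          exact hp
      rw [hset, isOpen_compl_iff]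
      refine ((Finset.Icc a b).erase c).finite_toSet.isClosed_biUnion fun i _ => ?_
      rw [Module.support_eq_zeroLocus]
      exact PrimeSpectrum.isClosed_zeroLocus _
    · have hlc := Module.isLocallyConstant_rankAtStalk_freeLocus (R := A) (M := Dual.HD A ω c)
      have hset : {p : PrimeSpectrum A | p ∈ Module.freeLocus A (Dual.HD A ω c) ∧
          Module.rankAtStalk (R := A) (Dual.HD A ω c) p = 1} =
          Subtype.val '' {x : Module.freeLocus A (Dual.HD A ω c) | Module.rankAtStalk (R := A) (Dual.HD A ω c) x.1 = 1} := by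
        ext p
        exact ⟨fun h => ⟨⟨p, h.1⟩, h.2, rfl⟩, by rintro ⟨x, hx, rfl⟩; exact ⟨x.2, hx⟩⟩
      rw [hset]
      exact Module.isOpen_freeLocus.isOpenMap_subtype_val _ (hlc.isOpen_fiber 1)
  suffices h : {p : PrimeSpectrum A | LocCoh.IsGorensteinLocalRing (Localization.AtPrime p.asIdeal)} = ⋃ c, U c by
    rw [h]
    exact isOpen_iUnion hU
  ext p
  let B := Localization.AtPrime p.asIdeal
  haveI := KFlatLib.hasLBase (algebraMap A B)
  haveI : Module.Flat A B := IsLocalization.flat _ p.asIdeal.primeCompl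
  haveI : IsNoetherianRing B := IsLocalization.isNoetherianRing p.asIdeal.primeCompl _ inferInstance
  let ωB := (DTen.LBase (algebraMap A B)).obj ω
  have hB : Dual.IsDualizing B ωB :=
    KFlatLib.isDualizing_LBase hω fun m _ => ⟨m.comap (algebraMap A B), IsLocalization.map_comap p.asIdeal.primeCompl _ m⟩
  have hloc : ∀ i, Nonempty (Dual.HD B ωB i ≃ₗ[B] LocalizedModule p.asIdeal.primeCompl (Dual.HD A ω i)) := fun i => by
    obtain ⟨e⟩ := KFlatLib.exists_hdLBaseLEquiv (B := B) ω i
    exact ⟨e.trans (LocalizedModule.equivTensorProduct p.asIdeal.primeCompl (Dual.HD A ω i)).symm⟩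
  simp only [Set.mem_setOf_eq, Set.mem_iUnion]
  constructor
  · intro hG
    haveI := KFlatLib.hasLTen B
    haveI := KFlatLib.hasRHom (A := B)
    obtain ⟨m, ⟨e⟩⟩ := KFlatLib.exists_iso_shift_of_isDualizing ((LC.gorenstein_iff_isDualizing B).1 hG) hB
    refine ⟨-m, fun i hi hp => ?_, ?_⟩
    · obtain ⟨e'⟩ := hloc i
      haveI : Nontrivial (LocalizedModule p.asIdeal.primeCompl (Dual.HD A ω i)) := Module.mem_support_iff.1 hp
      haveI : Subsingleton (Dual.HD B ((Dual.inD B B)⟦m⟧) i) := by
        let F := DerivedCategory.homologyFunctor (ModuleCat.{u} B) 0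
        have h0 : Subsingleton (Dual.HD B (Dual.inD B B) (m + i)) :=
          H9Misc.DRingTel.subsingleton_homology_inD B (by omega)
        exact ((F.shiftIso m i (m + i) rfl).app (Dual.inD B B)).toLinearEquiv.toEquiv.subsingleton_congr.2 h0
      haveI : Subsingleton (Dual.HD B ωB i) :=
        ((DerivedCategory.homologyFunctor (ModuleCat.{u} B) i).mapIso e).toLinearEquiv.injective.subsingleton
      exact not_subsingleton _ e'.symm.injective.subsingleton
    · obtain ⟨e'⟩ := hloc (-m)
      let F := DerivedCategory.homologyFunctor (ModuleCat.{u} B) 0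
      let e1 : Dual.HD B ((Dual.inD B B)⟦m⟧) (-m) ≃ₗ[B] Dual.HD B (Dual.inD B B) 0 :=
        ((F.shiftIso m (-m) 0 (by omega)).app (Dual.inD B B)).toLinearEquiv
      let e2 : LocalizedModule p.asIdeal.primeCompl (Dual.HD A ω (-m)) ≃ₗ[B] B :=
        e'.symm.trans (((DerivedCategory.homologyFunctor (ModuleCat.{u} B) (-m)).mapIso e).toLinearEquiv.trans
          (e1.trans (H9Misc.DRingTel.homologyInD B)))
      refine ⟨Module.mem_freeLocus.2 (Module.Free.of_equiv e2.symm), ?_⟩
      show Module.finrank B (LocalizedModule p.asIdeal.primeCompl (Dual.HD A ω (-m))) = 1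
      rw [e2.finrank_eq, Module.finrank_self]
  · rintro ⟨c, hc1, hc2, hc3⟩
    obtain ⟨e'⟩ := hloc c
    haveI : Module.Free B (LocalizedModule p.asIdeal.primeCompl (Dual.HD A ω c)) := Module.mem_freeLocus.1 hc2
    haveI : Module.Finite B (LocalizedModule p.asIdeal.primeCompl (Dual.HD A ω c)) :=
      Module.Finite.of_isLocalizedModule p.asIdeal.primeCompl (LocalizedModule.mkLinearMap _ _)
    have hs : ∀ i, i ≠ c → Subsingleton (Dual.HD B ωB i) := fun i hi => by
      obtain ⟨e''⟩ := hloc i
      haveI : Subsingleton (LocalizedModule p.asIdeal.primeCompl (Dual.HD A ω i)) :=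
        Module.notMem_support_iff.1 (hc1 i hi)
      exact e''.injective.subsingleton
    haveI : ωB.IsGE c := (DerivedCategory.isGE_iff _ _).2 fun i hi =>
      @ModuleCat.isZero_of_subsingleton _ _ _ (hs i (by omega))
    haveI : ωB.IsLE c := (DerivedCategory.isLE_iff _ _).2 fun i hi =>
      @ModuleCat.isZero_of_subsingleton _ _ _ (hs i (by omega))
    obtain ⟨M, ⟨eM⟩⟩ := DerivedCategory.exists_iso_singleFunctor_obj_of_isGE_of_isLE ωB c
    let b1 : B ≃ₗ[B] LocalizedModule p.asIdeal.primeCompl (Dual.HD A ω c) :=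
      LinearEquiv.ofFinrankEq B (LocalizedModule p.asIdeal.primeCompl (Dual.HD A ω c))
        (by rw [Module.finrank_self]; exact hc3.symm)
    let b2 : Dual.HD B ωB c ≃ₗ[B] (M : Type u) :=
      ((DerivedCategory.homologyFunctor (ModuleCat.{u} B) c).mapIso eM).toLinearEquiv.trans
        ((DerivedCategory.singleFunctorCompHomologyFunctorIso (ModuleCat.{u} B) c).app M).toLinearEquiv
    let bM : B ≃ₗ[B] (M : Type u) := b1.trans (e'.symm.trans b2)
    let i1 : Dual.inD B B ≅ ωB⟦c⟧ :=
      (DerivedCategory.singleFunctor (ModuleCat.{u} B) 0).mapIso bM.toModuleIso ≪≫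
      (((DerivedCategory.singleFunctors (ModuleCat.{u} B)).shiftIso c 0 c (by omega)).app M).symm ≪≫
      ((shiftFunctor (Dual.D B) c).mapIso eM).symm
    exact (LC.gorenstein_iff_isDualizing B).2 (KFlatLib.isDualizing_of_iso i1.symm (KFlatLib.isDualizing_shift hB c))

end Groth.Agent.S0373
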