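import Groth.Statements.S0403
import Groth.Agent.FibDim.Semicont
import Groth.Agent.FibDim.Comp

set_option autoImplicit false
universe u
open FlatMor

namespace Groth.Agent.S0403

open AlgebraicGeometry CategoryTheory Limits in
/-- For a proper morphism the dimension of the fibre is an upper semicontinuous function on the target:
for every bound the set of points whose fibre has dimension at most that bound is open. -/
theorem result {X S : Scheme.{u}} (f : X ⟶ S) [IsProper f] (c : WithBot ℕ∞) :
    IsOpen {s : S | topologicalKrullDim (f.fiber s) ≤ c} := by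
  have key : ∀ n : ℕ, IsOpen {s : S | topologicalKrullDim (f.fiber s) ≤ n} := by
    intro n
    have : {s : S | topologicalKrullDim (f.fiber s) ≤ n} = (f '' {x : X | FlatMor.fibreDimAt f x ≤ n}ᶜ)ᶜ := by
      ext s
      simp only [Set.mem_ofPred_eq, Set.mem_compl_iff, Set.mem_image, not_exists, not_and,
        Groth.Agent.FibDim.topologicalKrullDim_fiber_le_iff]
      constructor
      · intro h x hx hxs
        exact hx ((Groth.Agent.FibDim.fibreDimAt_le_iff f x n).2 fun w _ hw => h w (hw.trans hxs))
      · intro h z hz
        by_contra hlt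
        exact h z (fun hle => hlt ((Groth.Agent.FibDim.fibreDimAt_le_iff f z n).1 hle z (specializes_refl z) rfl)) hz
    rw [this]
    exact (f.isClosedMap _ (Groth.Agent.FibDim.isOpen_fibreDimAt_le f n).isClosed_compl).isOpen_compl
  obtain rfl | ⟨c, rfl⟩ : c = ⊥ ∨ ∃ d : ℕ∞, c = d := by
    cases c with
    | bot => exact Or.inl rfl
    | coe d => exact Or.inr ⟨d, rfl⟩
  · have : {s : S | topologicalKrullDim (f.fiber s) ≤ ⊥} = (Set.range f)ᶜ := by
      ext s
      simp only [Set.mem_ofPred_eq, le_bot_iff, Set.mem_compl_iff]
      unfold topologicalKrullDim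
      rw [Order.krullDim_eq_bot_iff]
      constructor
      · rintro h ⟨x, rfl⟩
        exact h.false ⟨closure {f.asFiber x}, isIrreducible_singleton.closure, isClosed_closure⟩
      · intro h
        refine ⟨fun Z => ?_⟩
        obtain ⟨w, -⟩ := Z.2.nonempty
        exact h ⟨f.fiberι s w, Groth.Agent.FibDim.fiber_apply_fiberι f w⟩
    rw [this]
    exact f.isClosedMap.isClosed_range.isOpen_compl
  · cases c with
    | top => simp
    | coe n => exact key n

end Groth.Agent.S0403
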