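import Groth.Statements.S5758
import Groth.Agent.LC.ExtDim

set_option autoImplicit false
universe u
open EGA41

namespace Groth.Agent.S5758

/-- Let A be a Noetherian local ring, M a nonzero finitely generated Cohen-Macaulay A-module and x_1,
..., x_r elements of the maximal ideal. The sequence (x_i) is M-regular if and only if dim(M/(x_1 M
+ ... + x_r M)) = dim(M) - r, i.e. if and only if the x_i are part of a system of parameters for M;
and when this holds the quotient M/(x_1 M + ... + x_r M) is again a Cohen-Macaulay module. -/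
theorem result (A : Type u) [CommRing A]
    [IsLocalRing A] [IsNoetherianRing A] (M : Type u) [AddCommGroup M] [Module A M] [Module.Finite A M]
    (hM : LocCoh.IsCohenMacaulayModule A M) (xs : List A) (hxs : ∀ x ∈ xs, x ∈ IsLocalRing.maximalIdeal A) :
    (RingTheory.Sequence.IsWeaklyRegular M xs ↔
        Module.supportDim A (M ⧸ (Ideal.ofList xs • (⊤ : Submodule A M))) + xs.length =
          Module.supportDim A M) ∧
      (RingTheory.Sequence.IsWeaklyRegular M xs →
        LocCoh.IsCohenMacaulayModule A (M ⧸ (Ideal.ofList xs • (⊤ : Submodule A M)))) := by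
  have := LC.nontrivial_of_isCM M hM
  have hJ : Ideal.ofList xs ≠ ⊤ := fun h => (IsLocalRing.maximalIdeal.isMaximal A).ne_top
    (top_le_iff.1 (h.ge.trans (LC.ofList_le _ hxs)))
  have h1 := LC.supportDim_eq_add_idealDepth M hM hJ
  refine ⟨⟨fun h => ?_, fun h => ?_⟩, fun h => LC.isCM_quot_ofList M hM h hxs⟩
  · rw [(LC.idealDepth_ofList_eq_length_iff xs hxs).2 h] at h1
    exact h1.symm
  · refine (LC.idealDepth_ofList_eq_length_iff xs hxs).1 ?_
    have := LC.nontrivial_quot_ofList (M := M) (LC.ofList_le (IsLocalRing.maximalIdeal A) hxs)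
    obtain ⟨q, hq⟩ := LC.exists_supportDim_eq_nat (R := A) (M ⧸ (Ideal.ofList xs • (⊤ : Submodule A M)))
    rw [h1, hq] at h
    obtain ⟨rs, -, -, hn⟩ := LC.exists_idealDepth_eq_length (Ideal.ofList xs) (M := M)
      (LC.smul_top_ne_top_of_le_maximal (LC.ofList_le (IsLocalRing.maximalIdeal A) hxs))
    rw [hn] at h ⊢
    have h' : q + xs.length = q + rs.length := by exact_mod_cast h
    exact_mod_cast (by omega : rs.length = xs.length)

end Groth.Agent.S5758
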