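import Groth.Statements.S9690
import Groth.Agent.Triage.NormUP

set_option autoImplicit false
universe u
open CategoryTheory CategoryTheory.Limits AlgebraicGeometry
open Mor

namespace Groth.Agent.S9690

/-- Part (4): for an integral scheme X: let g : Z ⟶ X be a morphism from a normal scheme Z such that
every irreducible component of Z dominates X, i.e. every generic point of an irreducible component
of Z maps to the generic point of X. Then g factors uniquely through the normalization X^ν ⟶ X. (The
published statement allows X with locally finitely many irreducible components; this row takes X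
integral.) (The quasi-compactness and quasi-separatedness binders on Spec K(X) ⟶ X always hold; they
are only needed to form the normalization.) -/
theorem result (X : Scheme.{u}) [IsIntegral X] [QuasiCompact (X.fromSpecStalk (genericPoint ↥X))] [QuasiSeparated (X.fromSpecStalk (genericPoint ↥X))]
    {Z : Scheme.{u}} (g : Z ⟶ X) (hZ : Pi1.IsNormalScheme Z)
    (hdom : ∀ z : Z, closure {z} ∈ irreducibleComponents ↥Z → g.base z = genericPoint ↥X) :
    ∃! h : Z ⟶ Curv2.normalization X, h ≫ Curv2.normalizationι X = g := by
  have e : X.fromSpecStalk (genericPoint ↥X) = Groth.Agent.NormFieldX.pnt X X.functionField (RingHom.id _) := by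
    rw [Groth.Agent.NormFieldX.pnt]
    exact ((congrArg (· ≫ _) (Spec.map_id _)).trans (Category.id_comp _)).symm
  haveI : QuasiCompact (Groth.Agent.NormFieldX.pnt X X.functionField (RingHom.id _)) := by
    rw [← e]; infer_instance
  haveI : QuasiSeparated (Groth.Agent.NormFieldX.pnt X X.functionField (RingHom.id _)) := by
    rw [← e]; infer_instance
  exact Groth.Agent.Triage.NormUP.existsUnique_lift_of_eq rfl _ e g
    (Groth.Agent.Triage.NormUP.good_of_normal g (fun z => (hZ z).1) hdom) fun z => (hZ z).2

end Groth.Agent.S9690
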