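import Groth.Statements.S4452
import Groth.Agent.ProjCl17.Basic

set_option autoImplicit false
universe u
open CategoryTheory CategoryTheory.Limits AlgebraicGeometry
open EGA2

open AlgebraicGeometry CategoryTheory CategoryTheory.Limits
open Groth.Agent

namespace Groth.Agent.S4452

/-- Every finite morphism f : X ⟶ Y is projective (here: X is Y-isomorphic to the homogeneous spectrum
of a quasi-coherent graded O_Y-algebra generated by its degree-one part, that part being of finite
type — the form of projectivity equivalent to X being a closed subscheme of a projective bundle P(E)
with E quasi-coherent of finite type). -/
theorem result {X Y : Scheme.{u}} (f : X ⟶ Y) [IsFinite f] : RelProj.IsProjective f := by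
  exact ProjCl17.isProjective_of_isFinite f

end Groth.Agent.S4452
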