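import Groth.Statements.S0368
import Groth.Agent.KFlatLib.Ring.DualizingDepth
-- import your own Groth.Agent.* helpers here

set_option autoImplicit false
universe u v
open CategoryTheory
attribute [local instance] HasDerivedCategory.standard
open Dual

namespace Groth.Agent.S0368

/-- (1)⇔(3): for a Noetherian local ring with normalized dualizing complex ω, a nonzero finite module M
with support of dimension d is Cohen–Macaulay exactly when Hom(M, ω[−i]) vanishes in D(A) for every
i ≠ d. -/
theorem result (A : Type u) [CommRing A] [IsLocalRing A] [IsNoetherianRing A] (ω : Dual.D A) (hω : Dual.IsDualizing A ω) (hn : Dual.IsNormalized A ω) (M : Type u) [AddCommGroup M] [Module A M] [Module.Finite A M] [Nontrivial M] (d : ℕ) (hd : Module.supportDim A M = d) : LocCoh.IsCohenMacaulayModule A M ↔ ∀ i : ℤ, i ≠ d → Subsingleton (Dual.inD A M ⟶ ω⟦(-i)⟧) := by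
  obtain ⟨k, hk⟩ := Groth.Agent.KFlatLib.exists_depth_eq (A := A) M
  obtain ⟨hlow, hnt⟩ := (Groth.Agent.KFlatLib.depth_eq_iff_ext hω hn M k).1 hk
  constructor
  · intro hCM i hi
    have hkd : k = d := by
      unfold LocCoh.IsCohenMacaulayModule at hCM
      rw [hk, hd] at hCM
      exact_mod_cast hCM.symm
    subst hkd
    by_contra hcon
    rw [not_subsingleton_iff_nontrivial] at hcon
    obtain ⟨h1, h2⟩ := (Groth.Agent.KFlatLib.ext_amplitude_and_support hω hn M k hd (-i)).1 hcon
    obtain ⟨δ, rfl⟩ := Int.eq_ofNat_of_zero_le (show 0 ≤ i by omega)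
    exact not_subsingleton _ (hlow δ (by omega))
  · intro h
    have hkd : k = d := by
      by_contra hne
      exact not_subsingleton _ (h k (by omega))
    subst hkd
    unfold LocCoh.IsCohenMacaulayModule
    rw [hk, hd]
    rfl

end Groth.Agent.S0368
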