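import Groth.Statements.S11185
import Groth.Agent.KFlatLib.Ring.DualizingDimension
import Groth.Agent.LC.GorDualizing
import Groth.Agent.LC.GorRows
-- import your own Groth.Agent.* helpers here

set_option autoImplicit false
universe u
open CategoryTheory
attribute [local instance] HasDerivedCategory.standard
open Dual

namespace Groth.Agent.S11185

/-- Let A be a Noetherian ring all of whose local rings A_p at primes are regular and whose Krull
dimension is finite. Then the complex A[0] is a dualizing complex for A (finite injective dimension,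
finite cohomology, A → End(A[0]) bijective and no self-maps of nonzero degree). -/
theorem result (A : Type u) [CommRing A] [IsNoetherianRing A] (hreg : ∀ p : PrimeSpectrum A, IsRegularLocalRing (Localization.AtPrime p.asIdeal)) (hdim : ringKrullDim A < ⊤) : Dual.IsDualizing A (Dual.inD A A) := by
  let q : ∀ (R : Type u) [CommRing R], Dual.inD R (R ⧸ (⊥ : Ideal R)) ≅ Dual.inD R R := fun R _ =>
    (DerivedCategory.singleFunctor (ModuleCat.{u} R) 0).mapIso
      (Submodule.quotEquivOfEqBot (⊥ : Ideal R) rfl).toModuleIso
  haveI : DerivedCategory.IsGE (Dual.inD A A) 0 :=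
    inferInstanceAs (DerivedCategory.IsGE ((DerivedCategory.singleFunctor (ModuleCat.{u} A) 0).obj _) 0)
  haveI : DerivedCategory.IsLE (Dual.inD A A) 0 :=
    inferInstanceAs (DerivedCategory.IsLE ((DerivedCategory.singleFunctor (ModuleCat.{u} A) 0).obj _) 0)
  have hfin : ∀ j : ℤ, Module.Finite A (Dual.HD A (Dual.inD A A) j) := by
    intro j
    by_cases hj : j = 0
    · subst hj
      obtain ⟨e⟩ := Groth.Agent.KFlatLib.exists_hdSingleLEquiv (ModuleCat.of A A) 0
      exact Module.Finite.equiv e.symm
    · haveI : Subsingleton (Dual.HD A (Dual.inD A A) j) := ModuleCat.subsingleton_of_isZero (by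
        rcases lt_or_gt_of_ne hj with h | h
        · exact DerivedCategory.isZero_of_isGE _ 0 j h
        · exact DerivedCategory.isZero_of_isLE _ 0 j h)
      exact Module.Finite.of_finite
  have hloc : ∀ p : PrimeSpectrum A, ∀ [DTen.HasLBase (algebraMap A (Localization.AtPrime p.asIdeal))],
      Dual.IsDualizing (Localization.AtPrime p.asIdeal)
        ((DTen.LBase (algebraMap A (Localization.AtPrime p.asIdeal))).obj (Dual.inD A A)) := by
    intro p inst
    haveI := hreg p
    haveI : Module.Flat A (Localization.AtPrime p.asIdeal) := IsLocalization.flat _ p.asIdeal.primeCompl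
    obtain ⟨e⟩ := Groth.Agent.KFlatLib.nonempty_LBase_inD_quotient (B := Localization.AtPrime p.asIdeal) (⊥ : Ideal A)
    rw [Ideal.map_bot] at e
    exact Groth.Agent.KFlatLib.isDualizing_of_iso ((q _).symm ≪≫ e.symm ≪≫ (DTen.LBase _).mapIso (q A))
      ((Groth.Agent.LC.gorenstein_iff_isDualizing _).1 Groth.Agent.LC.gorenstein_of_isRegularLocalRing)
  obtain ⟨b, hb⟩ := Groth.Agent.KFlatLib.exists_injAmplitude_of_local hdim 0 hfin hloc
  exact Groth.Agent.KFlatLib.isDualizing_of_atPrime hb hfin hloc

end Groth.Agent.S11185
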