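import Groth.Statements.S0887
import Groth.Agent.KFlatLib.Perfect.DLocal
-- import your own Groth.Agent.* helpers here

set_option autoImplicit false
universe u
open CategoryTheory
attribute [local instance] HasDerivedCategory.standard
open DCoh

namespace Groth.Agent.S0887

open AlgebraicGeometry CategoryTheory.Pretriangulated in
/-- Let X be a scheme. In a distinguished triangle K → L → M → K[1] of D(O_X), if any two of the three
objects are perfect then so is the third. The published statement is for ringed spaces; stated here
for schemes. -/
theorem result {X : Scheme.{u}} (T : Triangle (DCoh.D X))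
    (hT : T ∈ distinguishedTriangles) :
    (DCoh.IsPerfect T.obj₁ → DCoh.IsPerfect T.obj₂ → DCoh.IsPerfect T.obj₃) ∧
    (DCoh.IsPerfect T.obj₁ → DCoh.IsPerfect T.obj₃ → DCoh.IsPerfect T.obj₂) ∧
    (DCoh.IsPerfect T.obj₂ → DCoh.IsPerfect T.obj₃ → DCoh.IsPerfect T.obj₁) := by
  simp only [Groth.Agent.KFlatLib.isPerfect_iff]
  exact Groth.Agent.KFlatLib.locSP_two_of_three T hT

end Groth.Agent.S0887
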