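import Groth.Statements.S1634
import Groth.Agent.SurfRes.Main
import Groth.Agent.CGab.Reduction
import Groth.Agent.R1Push.Reduction
-- import your own Groth.Agent.* helpers here

set_option autoImplicit false
set_option backward.isDefEq.respectTransparency false
set_option backward.isDefEq.respectTransparency.types false
universe u
open CategoryTheory CategoryTheory.Limits AlgebraicGeometry
open Resolve
attribute [local instance] HasDerivedCategory.standard

namespace Groth.Agent.S1634

/-- Let A be a Noetherian local ring which is complete, a normal domain, and of dimension two. Then Spec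
A has a resolution of singularities: a proper morphism from an integral scheme all of whose local
rings are regular, which is an isomorphism over some nonempty open of Spec A. -/
theorem result (A : Type u) [CommRing A] [IsDomain A] [IsLocalRing A] [IsNoetherianRing A]
    [IsAdicComplete (IsLocalRing.maximalIdeal A) A] [IsIntegrallyClosed A] (hdim : ringKrullDim A = 2) :
    ∃ (X : Scheme.{u}) (f : X ⟶ Spec (CommRingCat.of A)), IsProper f ∧ IsIntegral X ∧
      (∀ x : X, IsRegularLocalRing (X.presheaf.stalk x)) ∧
      ∃ U : (Spec (CommRingCat.of A)).Opens, (U : Set (Spec (CommRingCat.of A))).Nonempty ∧ IsIso (f ∣_ U) := by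
  obtain ⟨N, hN⟩ := CGab.exists_bound A hdim
  have hexc := S2652.result A
  obtain ⟨ω, hω⟩ := KFlatLib.exists_isDualizing_of_complete A
  have hR := RatSing.nice_spec (R := CommRingCat.of A) (CGab.isNagata_of_complete A) hdim
  obtain ⟨M, hP, hM, -, hrat⟩ := R1Push.exists_rational hR hdim.le N fun M hP hn => by
    letI : M.Z.Over (Spec (CommRingCat.of A)) := ⟨M.G⟩
    haveI := hP
    exact hN M.Z hP M.integral hn (RatUp.exists_isIso_restrict hR M.G M.bir)
  haveI := hP
  obtain ⟨Y, g, hint, hPg, hbir, -, hreg⟩ :=
    SurfRes.exists_resolution_of_rational (R := CommRingCat.of A) hexc hω hM M.G fun z _ => hrat z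
  haveI := hint
  haveI := hPg
  exact ⟨Y, g ≫ M.G, inferInstance, hint, hreg,
    RatUp.exists_isIso_restrict hR (g ≫ M.G) (NormSeq.isIso_stalkMap_comp g M.G hbir M.bir)⟩

end Groth.Agent.S1634
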