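import Groth.Statements.S7376
import Mathlib
import Groth.Agent.RegRes.Main

set_option autoImplicit false
universe u
open CategoryTheory CategoryTheory.Limits AlgebraicGeometry
open Resolve

namespace Groth.Agent.S7376

/-- Let (A, m, κ) be a Noetherian local normal domain of dimension two and assume Spec A has a
resolution of singularities (a proper morphism X → Spec A from an integral scheme with regular local
rings which is an isomorphism over a nonempty open). Then Spec A has a resolution by normalized
blowups: there is a finite sequence of normalized blowings up in closed points X_n → X_{n-1} → … →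
X_1 → Spec A with X_n proper over Spec A and regular. (A is normal, so Spec A is its own
normalization and the sequence starts at Spec A itself; the published definition of such a
resolution asks every X_i to be proper over Spec A, and this row records properness of X_n → Spec
A.) -/
theorem result (A : Type u) [CommRing A] [IsDomain A] [IsLocalRing A]
    [IsNoetherianRing A] [IsIntegrallyClosed A] (hdim : ringKrullDim A = 2)
    (hres : ∃ (X : Scheme.{u}) (f : X ⟶ Spec (CommRingCat.of A)), IsProper f ∧ IsIntegral X ∧
      (∃ U : (Spec (CommRingCat.of A)).Opens, (U : Set (Spec (CommRingCat.of A))).Nonempty ∧ IsIso (f ∣_ U)) ∧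
      ∀ x : X, IsRegularLocalRing (X.presheaf.stalk x)) :
    ∃ (Xn : Scheme.{u}) (g : Xn ⟶ Spec (CommRingCat.of A)), Resolve.IsNormPtBlowupSeq g ∧ IsProper g ∧
      ∀ x : Xn, IsRegularLocalRing (Xn.presheaf.stalk x) := by
  obtain ⟨X, f, hf, hXi, ⟨U, hU, hiso⟩, hreg⟩ := hres
  haveI := hf
  haveI := hXi
  haveI := hiso
  have hbir := Groth.Agent.RegRes.isIso_generic_of_restrict f U hU
  have hF := Groth.Agent.RegRes.finBir_of_resolution (CommRingCat.of A) f hbir hreg
  exact Groth.Agent.RegRes.exists_resolution
    (Groth.Agent.NormSeq.nice_of_finBir (R := CommRingCat.of A) hF hdim.le) f hbir hreg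

end Groth.Agent.S7376
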