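import Groth.Statements.S3344
import Groth.Agent.H26.ChainFibre
import Groth.Agent.H26.PointConst

set_option autoImplicit false
universe u
open CategoryTheory CategoryTheory.Limits AlgebraicGeometry
open Models

namespace Groth.Agent.S3344

/-- In the following situation (R a discrete valuation ring with residue field k, C a smooth proper
curve over its fraction field K with H^0(C, O_C) = K, X a regular proper model, Γ_1, …, Γ_n the
irreducible components of the closed fibre X_k with multiplicities m_i) assume C has a K-rational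
point. Then (1) some closed point x of X on the closed fibre has residue field k (R → κ(x)
surjective) and the local ring of X_k at x, namely O_{X,x}/𝔪_R O_{X,x}, is regular (x is a smooth
point of X_k over k); (2) the component Γ_i through x has H^0(Γ_i, O) = k and m_i = 1; (3) H^0(X_k,
O_{X_k}) = k and dim_k H^1(X_k, O_{X_k}) = dim_K H^1(C, O_C) (k-dimensions as R-lengths of the
cohomology of O_{X_k} on X). -/
theorem result (R : Type u) [CommRing R] [IsDomain R] [IsDiscreteValuationRing R]
    (C X : Scheme.{u}) (f : C ⟶ Spec (CommRingCat.of (FractionRing R))) (p : X ⟶ Spec (CommRingCat.of R))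
    (hC : Curve.IsSmoothProperCurve (FractionRing R) C f) (hH0 : IsIso f.appTop)
    (hX : Models.IsRegularProperModel R X p C f)
    {n : ℕ} (Γ : Fin n → ArSurf.VertComp R (Over.mk p)) (hΓ : Models.IsComponentList R (Over.mk p) Γ)
    (s : Spec (CommRingCat.of (FractionRing R)) ⟶ C) (hs : s ≫ f = 𝟙 _) :
    (∃ (i : Fin n) (x : X), x ∈ Set.range ((Γ i).ι.base : (Γ i).curve.left → X) ∧ IsClosed ({x} : Set X) ∧
        Function.Surjective ((X.residue x).hom.comp (Models.stalkHom R (Over.mk p) x)) ∧
        IsRegularLocalRing (X.presheaf.stalk x ⧸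
          Ideal.map (Models.stalkHom R (Over.mk p) x) (IsLocalRing.maximalIdeal R)) ∧
        Models.wdeg R (Over.mk p) (Γ i) = 1 ∧ Models.mult R (Over.mk p) (Γ i) = 1) ∧
      Models.lengthH R (Over.mk p) (ClSub.quotMod (Models.specialFibreIdeal R (Over.mk p))) 0 = 1 ∧
      Models.lengthH R (Over.mk p) (ClSub.quotMod (Models.specialFibreIdeal R (Over.mk p))) 1 =
        Models.curveGenus (FractionRing R) C f := by
  classical
  obtain ⟨L, hL⟩ := Groth.Agent.H26.VertModel.exists_inverses hX hΓ
  let D := Groth.Agent.H26.VertModel.mkData hX hΓ L hL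
  have hconn := Groth.Agent.H26.VertModel.isConnected hC hH0 hX
  obtain ⟨hfl, -, -, g, sq⟩ := hX.1
  haveI : IsProper p := hX.2.1
  haveI : IsProper (Over.mk p).hom := hX.2.1
  haveI : Flat (Over.mk p).hom := hfl
  obtain ⟨σ, hσ⟩ := Groth.Agent.H26.PointConst.exists_section p g sq s hs
  set x : X := σ (IsLocalRing.closedPoint R) with hx
  have hres := Groth.Agent.H26.SectionFibre.residue_surjective (Over.mk p) σ hσ
  have hreg' := Groth.Agent.H26.SectionFibre.isRegularLocalRing_quot (Over.mk p) σ hσ (hX.2.2 _)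
  haveI := hreg'
  haveI := Groth.Agent.RegLoc6.isDomain_of_isRegularLocalRing ((Over.mk p).left.presheaf.stalk x ⧸
    Ideal.map (Models.stalkHom R (Over.mk p) x) (IsLocalRing.maximalIdeal R))
  obtain ⟨z, hzx, hzC, huniq, hmz⟩ := Groth.Agent.H26.SectionFibre.exists_generic (x := x)
    (Over.mk p) ((Ideal.Quotient.isDomain_iff_prime _).1 inferInstance)
  rw [← hΓ.2] at hzC
  obtain ⟨i, hi⟩ := hzC
  replace hi : Set.range (Γ i).ι.base = closure {z} := hi
  have hxi : x ∈ Set.range (Γ i).ι.base := hi.symm.subset (specializes_iff_mem_closure.1 hzx)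
  have hgen : Models.genPtOf R (Over.mk p) (Γ i) = z :=
    (show IsGenericPoint (Models.genPtOf R (Over.mk p) (Γ i)) (closure {z}) by
      rw [← hi, Groth.Agent.H26.InterSymm.range_eq_closure (Γ i)]
      rfl).eq rfl
  have hm1 : Models.mult R (Over.mk p) (Γ i) = 1 := by
    unfold Models.mult
    rw [hgen, hmz]
    haveI : IsSimpleModule ((Over.mk p).left.presheaf.stalk z)
        ((Over.mk p).left.presheaf.stalk z ⧸ IsLocalRing.maximalIdeal ((Over.mk p).left.presheaf.stalk z)) :=
      (isSimpleModule_iff_isCoatom).2 (IsLocalRing.maximalIdeal.isMaximal _).out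
    rw [Module.length_eq_one]
    rfl
  have hd : Models.multGcd R (Over.mk p) Γ = 1 :=
    Nat.dvd_one.1 (hm1 ▸ (Finset.gcd_dvd (Finset.mem_univ i) : Models.multGcd R (Over.mk p) Γ ∣ _))
  -- the field of constants of the component
  have hw : Models.wdeg R (Over.mk p) (Γ i) = 1 := by
    let k := IsLocalRing.ResidueField R
    haveI := Groth.Agent.H26.ArInter.isProper_curve (Γ i)
    obtain ⟨w, hwx⟩ := hxi
    have hsurj := Groth.Agent.H26.PointConst.surjective_of_point (X := Over.mk p) (Γ i).ι
      (Groth.Agent.GeomField.isField_globalFunctions k (Γ i).curve.left) w (hwx.symm ▸ hres)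
    show Module.finrank k (Coh.HH (Γ i).curve.left (Coh.structureModule (Γ i).curve.left) 0) = 1
    rw [Groth.Agent.GeomField.finrank_HH_zero]
    letI := Groth.Agent.GeomField.globalAlgebra k (Γ i).curve.left
    haveI : Nonempty (⊤ : (Γ i).curve.left.Opens) := ⟨⟨genericPoint (Γ i).curve.left, trivial⟩⟩
    refine ((LinearEquiv.ofBijective (Algebra.linearMap k Γ((Γ i).curve.left, ⊤))
      ⟨(algebraMap k Γ((Γ i).curve.left, ⊤)).injective, fun γ => ?_⟩).finrank_eq).symm.trans (Module.finrank_self k)
    obtain ⟨r, hr⟩ := hsurj γ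
    refine ⟨IsLocalRing.residue R r, ?_⟩
    rw [← hr, (Γ i).w]
    show (Γ i).curve.hom.appTop ((Scheme.ΓSpecIso (CommRingCat.of k)).inv (IsLocalRing.residue R r)) =
      (Γ i).curve.hom.appTop ((Spec.map (CommRingCat.ofHom (IsLocalRing.residue R))).appTop
        ((Scheme.ΓSpecIso (CommRingCat.of R)).inv r))
    exact congrArg (Γ i).curve.hom.appTop (ConcreteCategory.congr_hom
      (Scheme.ΓSpecIso_inv_naturality (CommRingCat.ofHom (IsLocalRing.residue R))) r)
  refine ⟨⟨i, x, hxi, ?_, hres, hreg', hw, hm1⟩, ?_⟩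
  · haveI : IsClosedImmersion σ := by
      haveI : IsClosedImmersion (σ ≫ p) := by rw [hσ]; infer_instance
      exact IsClosedImmersion.of_comp σ p
    have := σ.isClosedEmbedding.isClosedMap _ (IsLocalRing.isClosed_singleton_closedPoint R)
    convert this using 1
    exact Set.image_singleton.symm
  -- the cohomology of the fibre
  obtain ⟨S, c, -, hc1, -, hcf⟩ := Groth.Agent.H26.Chain.exists_fibre_chain D hconn
  obtain ⟨-, hprod⟩ := Groth.Agent.H26.FibreIdeal.result (Over.mk p) Γ hΓ hX.2.2
  have hfld : Groth.Agent.H26.Chain.Fld (Models.specialFibreIdeal R (Over.mk p)) := by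
    have h := hcf (Fin.last S)
    rw [hc1] at h
    simp only [hd, Nat.div_one] at h
    rwa [← hprod] at h
  set Z := Models.specialFibreIdeal R (Over.mk p) with hZ
  have hh0 : Models.lengthH R (Over.mk p) (ClSub.quotMod Z) 0 = 1 := by
    have hxZ : x ∈ (Z.support : Set (Over.mk p).left) := by
      obtain ⟨ϖ, hirr⟩ := IsDiscreteValuationRing.exists_irreducible R
      rw [SetLike.mem_coe, hZ, Models.specialFibreIdeal, Scheme.IdealSheafData.support_comap]
      show p x ∈ (Curv2.idealSheaf R (IsLocalRing.maximalIdeal R)).support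
      rw [hx, ← Scheme.Hom.comp_apply, hσ]
      change (IsLocalRing.closedPoint R : Spec (CommRingCat.of R)) ∈
        ((Curv2.idealSheaf R (IsLocalRing.maximalIdeal R)).support : Set (Spec (CommRingCat.of R)))
      rw [Curv2.idealSheaf, Scheme.IdealSheafData.coe_support_ofIdealTop, Spec_zeroLocus]
      refine (PrimeSpectrum.mem_zeroLocus _ _).2 fun r ha => ?_
      obtain ⟨b, hb, hbr⟩ := (Ideal.mem_map_iff_of_surjective _
        (Scheme.ΓSpecIso (CommRingCat.of R)).symm.commRingCatIsoToRingEquiv.surjective).1 ha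
      exact (Scheme.ΓSpecIso (CommRingCat.of R)).symm.commRingCatIsoToRingEquiv.injective hbr ▸ hb
    rw [← Z.range_subschemeι] at hxZ
    obtain ⟨w, hwx⟩ := hxZ
    letI : Z.subscheme.Over (Spec (CommRingCat.of R)) := ⟨Z.subschemeι ≫ p⟩
    have hsurj := Groth.Agent.H26.PointConst.surjective_of_point (X := Over.mk p) Z.subschemeι hfld.1 w (hwx.symm ▸ hres)
    have h1 := Groth.Agent.H26.PointConst.length_H0 (R := R) (W := Z.subscheme) hfld.1 hsurj
    obtain ⟨a⟩ := Groth.Agent.PnCoh.exists_linearEquiv_push R Z.subschemeι (P := (Over.mk p).left) rfl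
      (Groth.Agent.QCoh.isQCoh_structureModule (X := Z.subscheme)) 0
    show (Module.length R (Coh.HH (Over.mk p).left (ClSub.quotMod Z) 0)).toNat = 1
    rw [show Module.length R (Coh.HH (Over.mk p).left (ClSub.quotMod Z) 0) = 1 from a.length_eq.symm.trans h1]
    rfl
  refine ⟨hh0, ?_⟩
  have hchi := Groth.Agent.H26.EulerFibre.chi_fibre_eq (X := Over.mk p) f g sq
    (Groth.Agent.H26.EulerFibre.good_fibre D).1
  rw [Groth.Agent.H26.EulerFibre.hRank_zero_eq_one f hH0, Groth.Agent.H26.EulerFibre.chi, hh0] at hchi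
  show _ = Models.hRank (FractionRing R) C f (Coh.structureModule C) 1
  change ((1 : ℕ) : ℤ) - (Models.lengthH R (Over.mk p) (ClSub.quotMod Z) 1 : ℤ) =
    ((1 : ℕ) : ℤ) - (Models.hRank (FractionRing R) C f (Coh.structureModule C) 1 : ℤ) at hchi
  omega

end Groth.Agent.S3344
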