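import Groth.Statements.S12112
import Groth.Agent.Lib.RegularSeq
set_option autoImplicit false
universe u
open CategoryTheory CategoryTheory.Limits AlgebraicGeometry
open Pic13

namespace Groth.Agent.S12112

/-- Let k be an algebraically closed field, i : X ⟶ P^n_k a closed k-immersion, O_X(1) = i^*O(1), and F,
G coherent O_X-modules with a short exact sequence 0 → F(-1) → F → G → 0 and G m-regular. Then (i)
H^q(X, F(n')) = 0 for q ≥ 2 and n' ≥ m - q; (ii) h^1(F(n' - 1)) ≥ h^1(F(n')) for n' ≥ m - 1, h^1
being the dimension over k; (iii) H^1(X, F(n')) = 0 for n' ≥ (m - 1) + h^1(F(m - 1)); in particular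
F is (m + h^1(F(m - 1)))-regular. (The published statement takes F(-1) → F given by a section of
O_X(1); the printed argument uses only the short exact sequence and its twists, so any short exact
sequence of this shape is allowed here.) -/
theorem result (k : Type u) [Field k] [IsAlgClosed k] (n : ℕ) (X : Scheme.{u})
    [X.Over (Spec (CommRingCat.of k))] (i : X ⟶ CohB1.ProjSpace n k) [IsClosedImmersion i]
    (hi : i ≫ CohB1.ProjSpace.toSpec n k = X ↘ Spec (CommRingCat.of k))
    (F G : X.Modules) (hF : Coh.IsCoh F) (hG : Coh.IsCoh G)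
    (f : Pic13.twistOn k i F (-1) ⟶ F) (g : F ⟶ G) (hfg : f ≫ g = 0) (hS : (ShortComplex.mk f g hfg).ShortExact)
    (m : ℤ) (hGm : Pic13.IsMRegular k i G m) :
    (∀ (q : ℕ) (n' : ℤ), 2 ≤ q → m - q ≤ n' → Subsingleton (Coh.HH X (Pic13.twistOn k i F n') q)) ∧
    (∀ n' : ℤ, m - 1 ≤ n' →
      Module.finrank k (Coh.HH X (Pic13.twistOn k i F n') 1) ≤ Module.finrank k (Coh.HH X (Pic13.twistOn k i F (n' - 1)) 1)) ∧
    (∀ n' : ℤ, (m - 1) + (Module.finrank k (Coh.HH X (Pic13.twistOn k i F (m - 1)) 1) : ℤ) ≤ n' →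
      Subsingleton (Coh.HH X (Pic13.twistOn k i F n') 1)) ∧
    Pic13.IsMRegular k i F (m + Module.finrank k (Coh.HH X (Pic13.twistOn k i F (m - 1)) 1)) := by
    haveI : PreservesColimitsOfSize.{u, u} (Scheme.Modules.pushforward i) :=
      ⟨fun {K} _ => KFlatLib.preservesColimitsOfShape_push i K⟩
    haveI : PreservesFiniteColimits (Scheme.Modules.pushforward i) :=
      PreservesColimitsOfSize.preservesFiniteColimits _
    haveI : PreservesLimitsOfSize.{u, u} (Scheme.Modules.pushforward i) :=
      (Scheme.Modules.pullbackPushforwardAdjunction i).rightAdjoint_preservesLimits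
    haveI : PreservesFiniteLimits (Scheme.Modules.pushforward i) :=
      PreservesLimitsOfSize.preservesFiniteLimits _
    obtain ⟨e₁⟩ := Pic13Regular.push_twistOn i F (-1)
    let F' : (Proj (CohB1.polyGrading n k)).Modules := (Scheme.Modules.pushforward i).obj F
    let G' : (Proj (CohB1.polyGrading n k)).Modules := (Scheme.Modules.pushforward i).obj G
    let f' : ProjRegular.tw F' (-1) ⟶ F' := e₁.inv ≫ (Scheme.Modules.pushforward i).map f
    let g' : F' ⟶ G' := (Scheme.Modules.pushforward i).map g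
    have hS0 : ((ShortComplex.mk f g hfg).map (Scheme.Modules.pushforward i)).ShortExact := hS.map_of_exact _
    have h0 : f' ≫ g' = 0 := by
      show (e₁.inv ≫ (Scheme.Modules.pushforward i).map f) ≫ (Scheme.Modules.pushforward i).map g = 0
      rw [Category.assoc, ← Functor.map_comp, hfg, Functor.map_zero, comp_zero]
    have hS' : (ShortComplex.mk f' g' h0).ShortExact :=
      ShortComplex.shortExact_of_iso (show (ShortComplex.mk f g hfg).map (Scheme.Modules.pushforward i) ≅ ShortComplex.mk f' g' h0 from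
      ShortComplex.isoMk e₁ (Iso.refl _) (Iso.refl _)
        ((Iso.hom_inv_id_assoc e₁ _).trans (Category.comp_id _).symm)
        ((Category.id_comp _).trans (Category.comp_id _).symm)) hS0
    have hG' : ∀ q : ℕ, 1 ≤ q → ∀ r : ℤ, m - q ≤ r →
        Subsingleton (Coh.HH (Proj (CohB1.polyGrading n k)) (ProjRegular.tw G' r) q) := fun q hq r hr =>
      (Pic13Regular.subsingleton_iff i hG r q).1 (Pic13Regular.vanish i hG hGm q hq r hr)
    have hF' : Coh.IsCoh F' := Pic13Regular.isCoh_pushF i hF
    have hh : ∀ r : ℤ, Module.finrank k (Coh.HH X (Pic13.twistOn k i F r) 1) = RegularSeq.h1 F' r := fun r => by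
      obtain ⟨e⟩ := PnCoh.exists_linearEquiv_push k i hi (Pic13Regular.isCoh_twistOn i hF r).1 1
      obtain ⟨e'⟩ := Pic13Regular.push_twistOn i F r
      exact (e.trans (RegularSeq.equivOfIso k e' 1)).finrank_eq
    have hhigh : ∀ (q : ℕ) (n' : ℤ), 2 ≤ q → m - q ≤ n' →
        Subsingleton (Coh.HH X (Pic13.twistOn k i F n') q) := fun q n' hq hn' => by
      obtain ⟨q, rfl⟩ : ∃ p, q = p + 2 := ⟨q - 2, by omega⟩
      exact (Pic13Regular.subsingleton_iff i hF n' _).2
        (RegularSeq.high_zero hF' f' g' h0 hS' m hG' q n' hn')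
    have hone : ∀ n' : ℤ, (m - 1) + (Module.finrank k (Coh.HH X (Pic13.twistOn k i F (m - 1)) 1) : ℤ) ≤ n' →
        Subsingleton (Coh.HH X (Pic13.twistOn k i F n') 1) := fun n' hn' => by
      rw [hh] at hn'
      exact (Pic13Regular.subsingleton_iff i hF n' 1).2 (RegularSeq.subsingleton_one hF' f' g' h0 hS' m hG' n' hn')
    refine ⟨hhigh, fun n' hn' => ?_, hone, fun q hq => ?_⟩
    · rw [hh, hh]
      exact RegularSeq.h1_le hF' f' g' h0 hS' m hG' n' hn'
    · rcases Nat.lt_or_ge q 2 with h | h
      · obtain rfl : q = 1 := by omega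
        exact hone _ (by push_cast; omega)
      · exact hhigh q _ h (by omega)

end Groth.Agent.S12112
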