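import Groth.Statements.S9218
import Groth.Agent.MorLib.BaseChangeLim

set_option autoImplicit false
universe u
open CategoryTheory CategoryTheory.Limits AlgebraicGeometry
open Lim

namespace Groth.Agent.S9218

/-- Let S = lim S_i be a cofiltered limit of schemes with affine transition morphisms (the S_i are not
assumed quasi-compact or quasi-separated), i an index, and X_i → S_i, Y_i → S_i morphisms locally of
finite presentation with X_i, Y_i quasi-compact and quasi-separated; let X, Y be their base changes
to S (pullback squares). Then every S-morphism f : X → Y comes from some stage: for some index j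
over i there is an S_j-morphism f_j : X_i ×_{S_i} S_j → Y_i ×_{S_i} S_j whose base change to S is f,
in the sense that the canonical morphisms X → X_i ×_{S_i} S_j and Y → Y_i ×_{S_i} S_j intertwine f
and f_j. This is the fullness part of the equivalence between the colimit of the categories of
quasi-compact quasi-separated schemes locally of finite presentation over the S_i and the
corresponding category over S. -/
theorem result {I : Type u} [SmallCategory I] [IsCofiltered I]
    (D : I ⥤ Scheme.{u}) (c : Limits.Cone D) (hc : Limits.IsLimit c)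
    [∀ (i j : I) (f : i ⟶ j), IsAffineHom (D.map f)] (i : I)
    {Xi Yi : Scheme.{u}} (xi : Xi ⟶ D.obj i) (yi : Yi ⟶ D.obj i)
    [CompactSpace Xi] [QuasiSeparatedSpace Xi] [LocallyOfFinitePresentation xi]
    [CompactSpace Yi] [QuasiSeparatedSpace Yi] [LocallyOfFinitePresentation yi]
    {X Y : Scheme.{u}} (qX : X ⟶ Xi) (pX : X ⟶ c.pt) (hX : IsPullback qX pX xi (c.π.app i))
    (qY : Y ⟶ Yi) (pY : Y ⟶ c.pt) (hY : IsPullback qY pY yi (c.π.app i))
    (f : X ⟶ Y) (hf : f ≫ pY = pX) :
    ∃ (j : I) (φ : j ⟶ i) (fj : pullback xi (D.map φ) ⟶ pullback yi (D.map φ))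
      (sX : X ⟶ pullback xi (D.map φ)) (sY : Y ⟶ pullback yi (D.map φ)),
      fj ≫ pullback.snd yi (D.map φ) = pullback.snd xi (D.map φ) ∧
      sX ≫ pullback.fst xi (D.map φ) = qX ∧ sX ≫ pullback.snd xi (D.map φ) = pX ≫ c.π.app j ∧
      sY ≫ pullback.fst yi (D.map φ) = qY ∧ sY ≫ pullback.snd yi (D.map φ) = pY ≫ c.π.app j ∧
      sX ≫ fj = f ≫ sY := by
  open Groth.Agent.MorLib in
  exact (by
    haveI : ∀ {i j : I} (f : i ⟶ j), IsAffineHom (D.map f) := fun {i j} f => inferInstance
    let t : BC.diag D xi ⟶ (Functor.const (Over i)).obj (D.obj i) :=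
      BC.toStart D xi ≫ (Functor.const (Over i)).map xi
    obtain ⟨k, g, hg, hg'⟩ := Scheme.exists_π_app_comp_eq_of_locallyOfFinitePresentation (BC.diag D xi) t yi
      (BC.cone D xi hX) (BC.isLimitCone D xi hX hc) (f ≫ qY)
      (by
        ext j
        simp only [t, NatTrans.comp_app, Functor.const_map_app, Category.assoc]
        refine (Category.assoc _ _ _).symm.trans ?_
        rw [show (BC.cone D xi hX).π.app j ≫ (BC.toStart D xi).app j = qX from BC.proj_fst D xi hX j]
        show qX ≫ xi = f ≫ qY ≫ yi
        rw [hY.w, hX.w, reassoc_of% hf])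
    have hg'' : g ≫ yi = pullback.fst xi (D.map k.hom) ≫ xi := hg'
    refine ⟨k.left, k.hom,
      pullback.lift g (pullback.snd xi (D.map k.hom)) (hg''.trans pullback.condition),
      BC.proj D xi hX k, BC.proj D yi hY k, pullback.lift_snd _ _ _, BC.proj_fst D xi hX k,
      BC.proj_snd D xi hX k, BC.proj_fst D yi hY k, BC.proj_snd D yi hY k, ?_⟩
    apply pullback.hom_ext
    · simp only [Category.assoc, pullback.lift_fst, BC.proj_fst]
      exact hg
    · rw [Category.assoc, pullback.lift_snd, Category.assoc, BC.proj_snd, BC.proj_snd, reassoc_of% hf])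

end Groth.Agent.S9218
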