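import Groth.Statements.S4542
import Groth.Agent.EGA41Lib.Adic

set_option autoImplicit false
universe u
open EGA41

namespace Groth.Agent.S4542

/-- Let B (𝔟-adic) be formally smooth over A (𝔞-adic); let C be a topological A-algebra for the 𝔠-adic
topology (a power of 𝔞 maps into 𝔠) which is complete, and J an ideal which is closed, i.e. C/J is
Hausdorff for the 𝔠-adic topology, and whose powers tend to 0, i.e. some power of J lies in 𝔠. Then
every continuous A-algebra homomorphism u : B → C/J (a power of 𝔟 maps into the image of 𝔠) factors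
as B → C → C/J with B → C a continuous A-algebra homomorphism (a power of 𝔟 maps into 𝔠). -/
theorem result {A B C : Type u} [CommRing A] [CommRing B] [CommRing C] [Algebra A B]
    [Algebra A C] (𝔞 : Ideal A) (𝔟 : Ideal B) (𝔠 : Ideal C) (hB : EGA41.IsFormallySmoothAdic A 𝔞 B 𝔟)
    [IsAdicComplete 𝔠 C] (hAC : ∃ k : ℕ, (𝔞 ^ k).map (algebraMap A C) ≤ 𝔠)
    (J : Ideal C) (hJ : ∃ t : ℕ, J ^ t ≤ 𝔠) [IsHausdorff (𝔠.map (Ideal.Quotient.mk J)) (C ⧸ J)]
    (u : B →ₐ[A] C ⧸ J) (hu : ∃ k : ℕ, (𝔟 ^ k).map u.toRingHom ≤ 𝔠.map (Ideal.Quotient.mk J)) :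
    ∃ v : B →ₐ[A] C, (∃ k : ℕ, (𝔟 ^ k).map v.toRingHom ≤ 𝔠) ∧ (Ideal.Quotient.mkₐ A J).comp v = u := by
  obtain ⟨t, ht⟩ := hJ
  obtain ⟨k, hk⟩ := hu
  obtain ⟨kA, hkA⟩ := hAC
  have hsup : (J ⊔ 𝔠) ^ (t + 1) ≤ 𝔠 := by
    refine (Ideal.sup_pow_add_le_pow_sup_pow (n := t) (m := 1)).trans ?_
    rw [pow_one]
    exact sup_le ht le_rfl
  have huk : ∀ b ∈ 𝔟 ^ k, ∀ c, Ideal.Quotient.mk J c = u b → c ∈ J ⊔ 𝔠 := by
    intro b hb c hc
    have h1 : u b ∈ 𝔠.map (Ideal.Quotient.mk J) := hk (Ideal.mem_map_of_mem u.toRingHom hb)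
    rw [← hc, Ideal.mem_quotient_iff_mem_sup] at h1
    rwa [sup_comm]
  let un : ∀ n, B →ₐ[A] C ⧸ (J ⊔ 𝔠 ^ n) := fun n =>
    (Ideal.Quotient.factorₐ A (le_sup_left : J ≤ J ⊔ 𝔠 ^ n)).comp u
  let P : ∀ n, (B →ₐ[A] C ⧸ 𝔠 ^ n) → Prop := fun n v =>
    (Ideal.Quotient.factorₐ A (le_sup_right : 𝔠 ^ n ≤ J ⊔ 𝔠 ^ n)).comp v = un n
  have hstep : ∀ n (v : B →ₐ[A] C ⧸ 𝔠 ^ n), P n v → ∃ v' : B →ₐ[A] C ⧸ 𝔠 ^ (n + 1),
      P (n + 1) v' ∧ (Ideal.Quotient.factorₐ A (Ideal.pow_le_pow_right (Nat.le_succ n))).comp v' = v := by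
    intro n v hv
    set I₂ := J ⊔ 𝔠 ^ (n + 1) with hI₂
    have hle : J ⊔ 𝔠 ^ n ≤ 𝔠 ^ n ⊔ I₂ := sup_le (le_sup_left.trans le_sup_right) le_sup_left
    have hc : (Ideal.Quotient.factorₐ A (le_sup_left : 𝔠 ^ n ≤ 𝔠 ^ n ⊔ I₂)).comp v =
        (Ideal.Quotient.factorₐ A (le_sup_right : I₂ ≤ 𝔠 ^ n ⊔ I₂)).comp (un (n + 1)) := by
      refine AlgHom.ext fun b => ?_
      have hb := congrArg (Ideal.Quotient.factorₐ A hle) (AlgHom.congr_fun hv b)
      obtain ⟨x, hx⟩ := Ideal.Quotient.mk_surjective (v b)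
      obtain ⟨y, hy⟩ := Ideal.Quotient.mk_surjective (u b)
      simp only [un, AlgHom.comp_apply, ← hx, ← hy] at hb ⊢
      exact hb
    obtain ⟨w, hw1, hw2⟩ := EGA41Lib.exists_lift_inf (𝔠 ^ n) I₂ v (un (n + 1)) hc
    let L := 𝔠 ^ n ⊓ I₂
    have hcL : 𝔠 ^ (n + 1) ≤ L := le_inf (Ideal.pow_le_pow_right (Nat.le_succ n)) le_sup_right
    let e := DoubleQuot.quotQuotEquivQuotOfLEₐ A hcL
    have hnil : IsNilpotent (L.map (Ideal.Quotient.mkₐ A (𝔠 ^ (n + 1)))) := by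
      refine ⟨(t + 1) * (n + 1), ?_⟩
      rw [← Ideal.map_pow, Ideal.zero_eq_bot, Ideal.map_eq_bot_iff_le_ker]
      intro x hx
      refine Ideal.Quotient.eq_zero_iff_mem.mpr ?_
      rw [pow_mul] at hx
      have h2 : L ^ (t + 1) ≤ 𝔠 := by
        refine le_trans (Ideal.pow_right_mono (inf_le_right.trans ?_) _) hsup
        exact sup_le le_sup_left ((Ideal.pow_le_self (by omega)).trans le_sup_right)
      exact Ideal.pow_right_mono h2 _ hx
    have hA : ∃ j : ℕ, (𝔞 ^ j).map (algebraMap A (C ⧸ 𝔠 ^ (n + 1))) = ⊥ := by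
      refine ⟨kA * (n + 1), ?_⟩
      rw [Ideal.map_eq_bot_iff_le_ker]
      intro a ha
      rw [pow_mul] at ha
      exact Ideal.Quotient.eq_zero_iff_mem.mpr (EGA41Lib.mem_pow_of_forall_mem (algebraMap A C)
        (fun y hy => hkA (Ideal.mem_map_of_mem _ hy)) (n + 1) a ha)
    have hcont : ∃ j : ℕ, ∀ x ∈ 𝔟 ^ j, (e.symm.toAlgHom.comp w) x = 0 := by
      refine ⟨k * ((t + 1) * (n + 1)), fun x hx => ?_⟩
      rw [pow_mul] at hx
      have h3 : ∀ z ∈ 𝔟 ^ k, w z ∈ (J ⊔ 𝔠).map (Ideal.Quotient.mk L) := by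
        intro z hz
        obtain ⟨c, hc⟩ := Ideal.Quotient.mk_surjective (w z)
        obtain ⟨y, hy⟩ := Ideal.Quotient.mk_surjective (u z)
        have h4 := AlgHom.congr_fun hw2 z
        simp only [un, AlgHom.comp_apply, ← hc, ← hy] at h4
        have h4' : c - y ∈ I₂ := Ideal.Quotient.eq.mp h4
        rw [← hc]
        refine Ideal.mem_map_of_mem _ ?_
        have h5 : c - y ∈ J ⊔ 𝔠 :=
          (sup_le le_sup_left ((Ideal.pow_le_self (by omega)).trans le_sup_right) : I₂ ≤ J ⊔ 𝔠) h4'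
        simpa using (J ⊔ 𝔠).add_mem h5 (huk z hz y hy)
      have h6 := EGA41Lib.mem_pow_of_forall_mem w h3 _ x hx
      rw [← Ideal.map_pow] at h6
      obtain ⟨c, hc, hc'⟩ := (Ideal.mem_map_iff_of_surjective _ Ideal.Quotient.mk_surjective).mp h6
      rw [pow_mul] at hc
      have h7 : w x = 0 := by
        rw [← hc', Ideal.Quotient.eq_zero_iff_mem]
        exact hcL (Ideal.pow_right_mono hsup _ hc)
      simp [h7]
    obtain ⟨v', hv'⟩ := hB _ _ hnil hA _ hcont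
    have hv'' : ∀ b, e (Ideal.Quotient.mk _ (v' b)) = w b := fun b => by
      have h8 := AlgHom.congr_fun hv' b
      simp only [AlgHom.comp_apply, Ideal.Quotient.mkₐ_eq_mk] at h8
      rw [h8]
      exact e.apply_symm_apply _
    refine ⟨v', ?_, AlgHom.ext fun b => ?_⟩
    · refine AlgHom.ext fun b => ?_
      rw [← hw2, AlgHom.comp_apply, AlgHom.comp_apply, ← hv'']
      obtain ⟨c, hc⟩ := Ideal.Quotient.mk_surjective (v' b)
      rw [← hc]
      rfl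
    · rw [← hw1, AlgHom.comp_apply, AlgHom.comp_apply, ← hv'']
      obtain ⟨c, hc⟩ := Ideal.Quotient.mk_surjective (v' b)
      rw [← hc]
      rfl
  haveI h0 : Subsingleton (C ⧸ 𝔠 ^ 0) :=
    Ideal.Quotient.subsingleton_iff.mpr (by rw [pow_zero, Ideal.one_eq_top])
  let v0 : B →ₐ[A] C ⧸ 𝔠 ^ 0 :=
    (Ideal.Quotient.factorₐ A (by rw [pow_zero, Ideal.one_eq_top]; exact le_top : J ≤ 𝔠 ^ 0)).comp u
  have hv0 : P 0 v0 := AlgHom.ext fun b => by
    haveI : Subsingleton (C ⧸ (J ⊔ 𝔠 ^ 0)) :=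
      Ideal.Quotient.subsingleton_iff.mpr (by rw [pow_zero, Ideal.one_eq_top, sup_top_eq])
    exact Subsingleton.elim _ _
  choose next hnext1 hnext2 using hstep
  let seq : ∀ n, {v : B →ₐ[A] C ⧸ 𝔠 ^ n // P n v} :=
    Nat.rec ⟨v0, hv0⟩ fun n v => ⟨next n v.1 v.2, hnext1 n v.1 v.2⟩
  have hf : ∀ {m n : ℕ} (hle : m ≤ n),
      (Ideal.Quotient.factorₐ A (Ideal.pow_le_pow_right hle)).comp (seq n).1 = (seq m).1 := by
    intro m n hle
    induction n, hle using Nat.le_induction with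
    | base =>
      refine AlgHom.ext fun b => ?_
      obtain ⟨c, hc⟩ := Ideal.Quotient.mk_surjective ((seq m).1 b)
      rw [AlgHom.comp_apply, ← hc]
      rfl
    | succ n hle ih =>
      refine AlgHom.ext fun b => ?_
      have h9 := AlgHom.congr_fun (hnext2 n (seq n).1 (seq n).2) b
      have h10 := AlgHom.congr_fun ih b
      rw [AlgHom.comp_apply] at h10 ⊢
      rw [← h9] at h10
      rw [← h10]
      obtain ⟨c, hc⟩ := Ideal.Quotient.mk_surjective ((seq (n + 1)).1 b)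
      show Ideal.Quotient.factorₐ A (Ideal.pow_le_pow_right (hle.trans (Nat.le_succ n))) ((seq (n + 1)).1 b) =
        Ideal.Quotient.factorₐ A (Ideal.pow_le_pow_right hle)
          (Ideal.Quotient.factorₐ A (Ideal.pow_le_pow_right (Nat.le_succ n)) ((seq (n + 1)).1 b))
      rw [← hc]
      rfl
  let v := IsAdicComplete.liftAlgHom 𝔠 (fun n => (seq n).1) hf
  have hvn : ∀ n b, Ideal.Quotient.mk (J ⊔ 𝔠 ^ n) (v b) = un n b := fun n b => by
    have := AlgHom.congr_fun (seq n).2 b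
    rw [AlgHom.comp_apply, ← IsAdicComplete.mk_liftAlgHom 𝔠 (fun n => (seq n).1) hf n b] at this
    exact this
  refine ⟨v, ⟨k * (t + 1), ?_⟩, AlgHom.ext fun b => ?_⟩
  · rw [Ideal.map_le_iff_le_comap]
    intro x hx
    rw [pow_mul] at hx
    refine hsup (EGA41Lib.mem_pow_of_forall_mem v (fun z hz => ?_) _ x hx)
    obtain ⟨y, hy⟩ := Ideal.Quotient.mk_surjective (u z)
    have h11 := hvn 1 z
    simp only [un, AlgHom.comp_apply, ← hy] at h11
    have h12 : v z - y ∈ J ⊔ 𝔠 ^ 1 := Ideal.Quotient.eq.mp h11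
    rw [pow_one] at h12
    simpa using (J ⊔ 𝔠).add_mem h12 (huk z hz y hy)
  · obtain ⟨y, hy⟩ := Ideal.Quotient.mk_surjective (u b)
    have h13 : ∀ n, u b - Ideal.Quotient.mk J (v b) ∈ (𝔠.map (Ideal.Quotient.mk J)) ^ n := by
      intro n
      have h14 := hvn n b
      simp only [un, AlgHom.comp_apply, ← hy] at h14
      have h15 : v b - y ∈ J ⊔ 𝔠 ^ n := Ideal.Quotient.eq.mp h14
      rw [← hy, ← map_sub, ← Ideal.map_pow, Ideal.mem_quotient_iff_mem_sup, sup_comm, ← neg_sub]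
      exact Submodule.neg_mem _ h15
    have h16 : u b - Ideal.Quotient.mk J (v b) = 0 := by
      refine IsHausdorff.haus (I := 𝔠.map (Ideal.Quotient.mk J)) inferInstance _ fun n => ?_
      rw [SModEq.zero, smul_eq_mul, Ideal.mul_top]
      exact h13 n
    exact (sub_eq_zero.mp h16).symm

end Groth.Agent.S4542
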