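import Groth.Statements.S2462
import Groth.Agent.S4542
import Mathlib

set_option autoImplicit false
universe u
open EGA41

namespace Groth.Agent.S2462

open IsLocalRing in
/-- Let A carry the 𝔞-adic and B the 𝔟-adic topology with B formally smooth over A; let C be a complete
Noetherian local A-algebra with 𝔞C inside the maximal ideal (continuity of A → C) and J ≠ C an
ideal. Then every A-algebra homomorphism u : B → C/J sending 𝔟 into the maximal ideal of C/J
(continuity) is induced by an A-algebra homomorphism v : B → C sending 𝔟 into the maximal ideal of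
C. -/
theorem result {A B C : Type u} [CommRing A] (𝔞 : Ideal A) [CommRing B] [Algebra A B] (𝔟 : Ideal B)
    (hB : EGA41.IsFormallySmoothAdic A 𝔞 B 𝔟)
    [CommRing C] [IsLocalRing C] [IsNoetherianRing C] [IsAdicComplete (maximalIdeal C) C] [Algebra A C]
    (hA : 𝔞.map (algebraMap A C) ≤ maximalIdeal C) (J : Ideal C) (hJ : J ≠ ⊤)
    (u : B →ₐ[A] C ⧸ J) (hu : 𝔟.map u.toRingHom ≤ (maximalIdeal C).map (Ideal.Quotient.mk J)) :
    ∃ v : B →ₐ[A] C, 𝔟.map v.toRingHom ≤ maximalIdeal C ∧ (Ideal.Quotient.mkₐ A J).comp v = u := by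
  haveI : Nontrivial (C ⧸ J) := Ideal.Quotient.nontrivial_iff.mpr hJ
  haveI : IsLocalRing (C ⧸ J) := .of_surjective' (Ideal.Quotient.mk J) Ideal.Quotient.mk_surjective
  have hJm : J ≤ IsLocalRing.maximalIdeal C := IsLocalRing.le_maximalIdeal hJ
  have hmap : (IsLocalRing.maximalIdeal C).map (Ideal.Quotient.mk J) ≠ ⊤ := fun h => by
    have h1 := congrArg (Ideal.comap (Ideal.Quotient.mk J)) h
    rw [Ideal.comap_map_mk hJm, Ideal.comap_top] at h1
    exact (IsLocalRing.maximalIdeal.isMaximal C).ne_top h1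
  haveI : IsHausdorff ((IsLocalRing.maximalIdeal C).map (Ideal.Quotient.mk J)) (C ⧸ J) :=
    IsHausdorff.of_le_jacobson _ _ ((IsLocalRing.le_maximalIdeal hmap).trans (IsLocalRing.maximalIdeal_le_jacobson _))
  obtain ⟨v, -, hv⟩ := Groth.Agent.S4542.result 𝔞 𝔟 (IsLocalRing.maximalIdeal C) hB ⟨1, by rwa [pow_one]⟩ J
    ⟨1, by rwa [pow_one]⟩ u ⟨1, by rwa [pow_one]⟩
  refine ⟨v, ?_, hv⟩
  rw [Ideal.map_le_iff_le_comap]
  intro b hb
  have h1 : u b ∈ (IsLocalRing.maximalIdeal C).map (Ideal.Quotient.mk J) := hu (Ideal.mem_map_of_mem u.toRingHom hb)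
  rw [← hv] at h1
  have h2 : v b ∈ ((IsLocalRing.maximalIdeal C).map (Ideal.Quotient.mk J)).comap (Ideal.Quotient.mk J) := h1
  rw [Ideal.comap_map_mk hJm] at h2
  exact h2

end Groth.Agent.S2462
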