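import Groth.Statements.S5249
import Groth.Agent.MultTypeLib.SubgroupRigid
import Mathlib.AlgebraicGeometry.Morphisms.FlatMono
-- import your own Groth.Agent.* helpers here

set_option autoImplicit false
open CategoryTheory MonoidalCategory CartesianMonoidalCategory MonObj GrpObj AlgebraicGeometry
universe u
open SGA3x

namespace Groth.Agent.S5249

/-- Let G be an S-group smooth and affine over S, i : H ⟶ G a subgroup scheme of multiplicative type (H
of multiplicative type and of finite type), j : Z ⟶ G the centralizer and k : N ⟶ G the normalizer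
of H in G. Then Z ⟶ G factors through N by a morphism which is an open and closed immersion: the
centralizer is an open and closed subgroup scheme of the normalizer. -/
theorem result {S : Scheme.{u}} (H G Z N : Over S) [GrpObj H] [GrpObj G] [GrpObj Z] [GrpObj N]
    (hH : SGA3x.IsMultTypeFT H) (hG : Smooth G.hom) (hGa : IsAffineHom G.hom) (i : H ⟶ G) [IsMonHom i] [Mono i]
    (j : Z ⟶ G) (k : N ⟶ G) (hj : Red.IsCentralizerOf i j) (hk : Red.IsNormalizerOf i k) :
    ∃ f : Z ⟶ N, f ≫ k = j ∧ IsOpenImmersion f.left ∧ IsClosedImmersion f.left := by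
  haveI := hG
  haveI := hGa
  obtain ⟨hjm, hjmono, hjU⟩ := hj
  obtain ⟨hkm, hkmono, hkU⟩ := hk
  haveI := hjmono
  haveI := hkmono
  have htr : ∀ {X : Over S} (g : X ⟶ G), MultTypeLib.TransporterLift.Transp i i g ↔
      ∀ (X' : Over S) (x : X' ⟶ X) (a : X' ⟶ H), Commute (x ≫ g) (a ≫ i) := fun g =>
    forall_congr' fun X' => forall_congr' fun x => forall_congr' fun a => mul_inv_eq_iff_eq_mul
  have hjT : ∀ {X : Over S} (g : X ⟶ G), (∃ z : X ⟶ Z, z ≫ j = g) ↔ MultTypeLib.TransporterLift.Transp i i g :=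
    fun g => (hjU _ g).trans (htr g).symm
  have hkT : ∀ {X : Over S} (g : X ⟶ G), (∃ z : X ⟶ N, z ≫ k = g) ↔ MultTypeLib.SubgroupLift.STransp i i g :=
    fun g => (hkU _ g).trans
      ⟨fun h X' x => ⟨fun a => (h X' x a).1, fun a => (h X' x a).2⟩, fun h X' x a => ⟨(h X' x).1 a, (h X' x).2 a⟩⟩
  have hclosed : ∀ {W : Over S} (w : W ⟶ G) [Mono w] (P : ∀ X : Over S, (X ⟶ G) → Prop),
      (∀ X g, (∃ z : X ⟶ W, z ≫ w = g) ↔ P X g) →
      (∃ (T : Over S) (t : T ⟶ G), IsClosedImmersion t.left ∧ Smooth T.hom ∧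
        ∀ X g, (∃ z : X ⟶ T, z ≫ t = g) ↔ P X g) → IsClosedImmersion w.left ∧ Smooth W.hom := by
    intro W w _ P hW ⟨T, t, ht, hTs, hT⟩
    haveI := ht
    haveI := hTs
    haveI : Mono t := (Over.forget _).mono_of_mono_map (inferInstanceAs (Mono t.left))
    obtain ⟨a, ha⟩ := (hT W w).mpr ((hW W w).mp ⟨𝟙 W, Category.id_comp w⟩)
    obtain ⟨b, hb⟩ := (hW T t).mpr ((hT T t).mp ⟨𝟙 T, Category.id_comp t⟩)
    haveI : IsIso a := ⟨b, by rw [← cancel_mono w, Category.assoc, hb, ha, Category.id_comp],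
      by rw [← cancel_mono t, Category.assoc, ha, hb, Category.id_comp]⟩
    haveI : IsIso a.left := inferInstanceAs (IsIso ((Over.forget _).map a))
    refine ⟨?_, ?_⟩
    · rw [← ha, Over.comp_left]
      infer_instance
    · rw [← Over.w a]
      infer_instance
  obtain ⟨hjc, hZs⟩ := hclosed j (fun _ g => MultTypeLib.TransporterLift.Transp i i g) (fun _ g => hjT g)
    (MultTypeLib.TransporterSmooth.exists_transporter hH i i)
  obtain ⟨hkc, hNs⟩ := hclosed k (fun _ g => MultTypeLib.SubgroupLift.STransp i i g) (fun _ g => hkT g)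
    (MultTypeLib.SubgroupTransporter.exists_transporter hH hH i i)
  obtain ⟨f, hf⟩ := (hkT j).mpr fun X' x => by
    have h := (hjT j).mp ⟨𝟙 Z, Category.id_comp j⟩ X' x
    refine ⟨fun a => ⟨a, h a⟩, fun a => ⟨a, ?_⟩⟩
    conv_lhs => rw [← h a]
    group
  haveI hfc : IsClosedImmersion f.left := by
    haveI : IsClosedImmersion (f.left ≫ k.left) := by rw [← Over.comp_left, hf]; exact hjc
    exact IsClosedImmersion.of_comp f.left k.left
  haveI : LocallyOfFinitePresentation f.left := by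
    haveI : LocallyOfFinitePresentation (f.left ≫ N.hom) := by rw [Over.w f]; infer_instance
    exact AlgSpPts.locallyOfFinitePresentation_of_comp f.left N.hom
  haveI : Smooth f.left := by
    refine MultTypeLib.SmoothLifting.smooth_of_lift f.left fun B _ J hJ t p₀ hp₀ => ?_
    let X : Over S := (Over.map (t ≫ N.hom)).obj (GrpSchLib.AffineHopf.sp B B)
    let tN : X ⟶ N := Over.homMk t (show t ≫ N.hom = Spec.map (𝟙 (CommRingCat.of B)) ≫ t ≫ N.hom by
      rw [Spec.map_id, Category.id_comp])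
    let p₁ : (Over.map (t ≫ N.hom)).obj (GrpSchLib.AffineHopf.sp B (B ⧸ J)) ⟶ Z := Over.homMk p₀ (by
      show p₀ ≫ Z.hom = _
      rw [← Over.w f, reassoc_of% hp₀]
      rfl)
    have hred : (Over.map (t ≫ N.hom)).map (GrpSchLib.AffineHopf.spMap (Ideal.Quotient.mkₐ B J)) ≫ tN = p₁ ≫ f :=
      Over.OverMorphism.ext hp₀.symm
    obtain ⟨z, hz⟩ := (hjT (tN ≫ k)).mpr (MultTypeLib.SubgroupRigid.transp_of_stransp H G hH i (t ≫ N.hom) J ⟨2, hJ⟩
      (tN ≫ k) ((hkT _).mp ⟨tN, rfl⟩) ((hjT _).mp ⟨p₁, by rw [← Category.assoc, hred, Category.assoc, hf]⟩))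
    have hzt : z ≫ f = tN := by rw [← cancel_mono k, Category.assoc, hf, hz]
    refine ⟨z.left, congrArg (fun m => CommaMorphism.left m) hzt, ?_⟩
    rw [← cancel_mono f.left]
    exact (Category.assoc _ _ _).trans
      ((congrArg (Spec.map _ ≫ ·) (congrArg (fun m => CommaMorphism.left m) hzt)).trans hp₀.symm)
  exact ⟨f, hf, IsOpenImmersion.of_flat_of_mono f.left, hfc⟩

end Groth.Agent.S5249
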