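import Groth.Statements.S0420
import Groth.Agent.GeomComp5.NonNoeth
import Groth.Agent.Stein5.OneComp
-- import your own Groth.Agent.* helpers here

set_option autoImplicit false
universe u
open FlatMor

namespace Groth.Agent.S0420

set_option backward.isDefEq.respectTransparency false
set_option backward.isDefEq.respectTransparency.types false

open AlgebraicGeometry CategoryTheory Limits in
/-- For a morphism of finite type to an irreducible scheme whose generic fibre is geometrically
connected, all fibres over some nonempty open of the target are geometrically connected. -/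
theorem result {X Y : Scheme.{u}} (f : X ⟶ Y) [IrreducibleSpace ↑Y] [LocallyOfFiniteType f] [QuasiCompact f]
    (h : GeometricallyConnected (f.fiberToSpecResidueField (genericPoint ↑Y))) :
    ∃ V : Y.Opens, (V : Set ↑Y).Nonempty ∧ GeometricallyConnected (f ∣_ V) := by
  haveI := h
  obtain ⟨U, hU, hηU, hUc⟩ := GeomComp5.near_generic_irreducible f
  refine ⟨⟨U, hU⟩, ⟨_, hηU⟩, (GeometricallyConnected.iff_geometricallyConnected_fiber _).2 fun t => ?_⟩
  refine Stein5.geometricallyConnected_fibre_of_one _ t ?_
  rw [S1335.result f _ _ _ (isPullback_morphismRestrict f ⟨U, hU⟩).flip t]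
  exact (hUc _ t.2).2.trans (Stein5.one_of_geometricallyConnected f _)

end Groth.Agent.S0420
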