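import Groth.Statements.S8308
import Groth.Agent.ProjQX.ConeMap
import Groth.Agent.ProjQX.Comp
-- import your own Groth.Agent.* helpers here

set_option autoImplicit false
universe u
open CategoryTheory CategoryTheory.Limits AlgebraicGeometry Opposite TopologicalSpace
open scoped HomogeneousIdeal
noncomputable section
open EGA2

namespace Groth.Agent.S8308

open Groth.Agent.ProjQX
set_option backward.isDefEq.respectTransparency false
set_option backward.isDefEq.respectTransparency.types false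

lemma cond_iff {S S' P P' : Scheme.{u}} {g : S' ⟶ S} {𝒮 : RelProj.QCGrAlg S} {𝒮' : RelProj.QCGrAlg S'}
    {u : RelProj.QGrHom g 𝒮 𝒮'} {p : P ⟶ S}
    {chart : ∀ (U : S.Opens) (hU : IsAffineOpen U), (((p ⁻¹ᵁ U : P.Opens) : Scheme.{u}) ≅ Proj (𝒮.deg U hU))}
    {p' : P' ⟶ S'}
    {chart' : ∀ (U' : S'.Opens) (hU' : IsAffineOpen U'), (((p' ⁻¹ᵁ U' : P'.Opens) : Scheme.{u}) ≅ Proj (𝒮'.deg U' hU'))}
    (i : Idx u) (r : (RelProj.domQ u p' chart' : Scheme.{u}) ⟶ P) :
    (∀ k : i.src ⟶ (RelProj.domQ u p' chart' : Scheme.{u}),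
        k ≫ (RelProj.domQ u p' chart').ι =
          Proj.awayι (𝒮'.deg i.U' i.hU') (i.grad i.f) (i.grad.2 i.hf) i.hd ≫ RelProj.emb p' chart' i.U' i.hU' →
        k ≫ r = Spec.map (CommRingCat.ofHom (HomogeneousLocalization.Away.map i.grad i.f)) ≫
          Proj.awayι (𝒮.deg i.U i.hU) i.f i.hf i.hd ≫ RelProj.emb p chart i.U i.hU) ↔
      embDom chart' i ≫ r = tgt u (chart := chart) i :=
  ⟨fun h => h _ (embDom_ι i), fun h k hk => by
    rw [(cancel_mono (RelProj.domQ u p' chart').ι).mp (hk.trans (embDom_ι i).symm)]; exact h⟩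

/-- The canonical retraction of the pointed projective cone: let 𝒮 be a quasi-coherent positively graded
O_Y-algebra with 𝒮_0 = O_Y, Ŝ = 𝒮[z] (given through a graded homomorphism ι : 𝒮 → Ŝ and a global
section z of degree one, polynomial over every affine open), X = Proj(𝒮) and Ĉ = Proj(Ŝ) the
relative homogeneous spectra with their charts, and Ê ⊆ Ĉ the pointed projective cone. There is
exactly one morphism p : Ê → X such that for every affine open U of Y and every f ∈ 𝒮(U) homogeneous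
of positive degree, on the affine piece Spec Ŝ(U)_(ι f) of Ê (the standard open D_+(ι f) of Proj
Ŝ(U) carried into Ĉ by the chart) p is Spec of the canonical homomorphism 𝒮(U)_(f) → Ŝ(U)_(ι f)
followed by the standard open D_+(f) of Proj 𝒮(U) and the chart of X. Every such p is affine and
surjective, lies over Y, and is a retraction of the immersion at infinity: if j : X → Ĉ is the
morphism chartwise induced by the graded retraction θ : Ŝ → 𝒮 of ι with θ(z) = 0, then j factors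
through Ê and the factorisation followed by p is the identity of X. -/
theorem result {Y PC P : Scheme.{u}} (𝒮 𝒮h : RelProj.QCGrAlg Y) (h0 : RelCone.StrZeroBij 𝒮)
    (ι : 𝒮.toQCAlg ⟶ 𝒮h.toQCAlg) (z : 𝒮h.presheaf.obj (op ⊤)) (hz : RelCone.IsPolyOver 𝒮 𝒮h ι z)
    (pC : PC ⟶ Y)
    (chartC : ∀ (U : Y.Opens) (hU : IsAffineOpen U), (((pC ⁻¹ᵁ U : PC.Opens) : Scheme.{u}) ≅ Proj (𝒮h.deg U hU)))
    (hPC : RelProj.IsRelProj 𝒮h pC chartC)
    (p : P ⟶ Y)
    (chart : ∀ (U : Y.Opens) (hU : IsAffineOpen U), (((p ⁻¹ᵁ U : P.Opens) : Scheme.{u}) ≅ Proj (𝒮.deg U hU)))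
    (hP : RelProj.IsRelProj 𝒮 p chart) :
    (∃! r : ((RelCone.pointedProjCone 𝒮 hz pC chartC : PC.Opens) : Scheme.{u}) ⟶ P,
      (∀ (U : Y.Opens) (hU : IsAffineOpen U) (d : ℕ) (hd : 0 < d) (f : 𝒮.presheaf.obj (op U)) (hf : f ∈ 𝒮.deg U hU d)
        (g : Spec (CommRingCat.of (HomogeneousLocalization.Away (𝒮h.deg U hU) ((RelProj.gradedHomAt ι hz.graded U hU) f))) ⟶
          ((RelCone.pointedProjCone 𝒮 hz pC chartC : PC.Opens) : Scheme.{u})),
        g ≫ (RelCone.pointedProjCone 𝒮 hz pC chartC).ι =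
            Proj.awayι (𝒮h.deg U hU) ((RelProj.gradedHomAt ι hz.graded U hU) f) ((RelProj.gradedHomAt ι hz.graded U hU).2 hf) hd ≫
              RelProj.emb pC chartC U hU →
          g ≫ r =
            Spec.map (CommRingCat.ofHom (HomogeneousLocalization.Away.map (RelProj.gradedHomAt ι hz.graded U hU) f)) ≫
              Proj.awayι (𝒮.deg U hU) f hf hd ≫ RelProj.emb p chart U hU)) ∧
    ∀ r : ((RelCone.pointedProjCone 𝒮 hz pC chartC : PC.Opens) : Scheme.{u}) ⟶ P,
      (∀ (U : Y.Opens) (hU : IsAffineOpen U) (d : ℕ) (hd : 0 < d) (f : 𝒮.presheaf.obj (op U)) (hf : f ∈ 𝒮.deg U hU d)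
        (g : Spec (CommRingCat.of (HomogeneousLocalization.Away (𝒮h.deg U hU) ((RelProj.gradedHomAt ι hz.graded U hU) f))) ⟶
          ((RelCone.pointedProjCone 𝒮 hz pC chartC : PC.Opens) : Scheme.{u})),
        g ≫ (RelCone.pointedProjCone 𝒮 hz pC chartC).ι =
            Proj.awayι (𝒮h.deg U hU) ((RelProj.gradedHomAt ι hz.graded U hU) f) ((RelProj.gradedHomAt ι hz.graded U hU).2 hf) hd ≫
              RelProj.emb pC chartC U hU →
          g ≫ r =
            Spec.map (CommRingCat.ofHom (HomogeneousLocalization.Away.map (RelProj.gradedHomAt ι hz.graded U hU) f)) ≫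
              Proj.awayι (𝒮.deg U hU) f hf hd ≫ RelProj.emb p chart U hU) →
      IsAffineHom r ∧ Function.Surjective r.base ∧ r ≫ p = (RelCone.pointedProjCone 𝒮 hz pC chartC).ι ≫ pC ∧
        ∀ (θ : 𝒮h.toQCAlg ⟶ 𝒮.toQCAlg) (hθ : RelProj.IsGradedHom θ), ι ≫ θ = 𝟙 _ →
          (θ.hom.app (op ⊤)).hom z = 0 →
          ∀ (hirr : ∀ (U : Y.Opens) (hU : IsAffineOpen U),
              (𝒮.deg U hU)₊ ≤ ((𝒮h.deg U hU)₊).map (RelProj.gradedHomAt θ hθ U hU))
            (j : P ⟶ PC), RelProj.IsRelProjMap θ hθ hirr chartC chart j →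
            ∀ j' : P ⟶ ((RelCone.pointedProjCone 𝒮 hz pC chartC : PC.Opens) : Scheme.{u}), j' ≫ (RelCone.pointedProjCone 𝒮 hz pC chartC).ι = j → j' ≫ r = 𝟙 P := by
  have heq := pointed_eq_domQ hz pC chartC hPC
  let qι := RelProj.QGrHom.ofHom ι hz.graded
  suffices h : ∀ (W : PC.Opens), W = RelProj.domQ qι pC chartC → ∀ (Q : ((W : Scheme.{u}) ⟶ P) → Prop),
      (∀ r, Q r ↔ ∀ (U : Y.Opens) (hU : IsAffineOpen U) (d : ℕ) (hd : 0 < d) (f : 𝒮.presheaf.obj (op U)) (hf : f ∈ 𝒮.deg U hU d)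
        (g : Spec (CommRingCat.of (HomogeneousLocalization.Away (𝒮h.deg U hU) ((RelProj.gradedHomAt ι hz.graded U hU) f))) ⟶ (W : Scheme.{u})),
        g ≫ W.ι = Proj.awayι (𝒮h.deg U hU) ((RelProj.gradedHomAt ι hz.graded U hU) f) ((RelProj.gradedHomAt ι hz.graded U hU).2 hf) hd ≫
              RelProj.emb pC chartC U hU →
          g ≫ r = Spec.map (CommRingCat.ofHom (HomogeneousLocalization.Away.map (RelProj.gradedHomAt ι hz.graded U hU) f)) ≫
              Proj.awayι (𝒮.deg U hU) f hf hd ≫ RelProj.emb p chart U hU) →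
      (∃! r, Q r) ∧ ∀ r, Q r → IsAffineHom r ∧ Function.Surjective r.base ∧ r ≫ p = W.ι ≫ pC ∧
        ∀ (θ : 𝒮h.toQCAlg ⟶ 𝒮.toQCAlg) (hθ : RelProj.IsGradedHom θ), ι ≫ θ = 𝟙 _ →
          (θ.hom.app (op ⊤)).hom z = 0 →
          ∀ (hirr : ∀ (U : Y.Opens) (hU : IsAffineOpen U),
              (𝒮.deg U hU)₊ ≤ ((𝒮h.deg U hU)₊).map (RelProj.gradedHomAt θ hθ U hU))
            (j : P ⟶ PC), RelProj.IsRelProjMap θ hθ hirr chartC chart j →
            ∀ j' : P ⟶ (W : Scheme.{u}), j' ≫ W.ι = j → j' ≫ r = 𝟙 P from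
    h _ heq _ fun r => Iff.rfl
  intro W hW Q hQ
  subst hW
  have hg : ∀ (U : Y.Opens) (hU : IsAffineOpen U),
      qι.gradedAt U hU U hU le_rfl = RelProj.gradedHomAt ι hz.graded U hU := fun U hU => by
    ext a
    exact gradedAt_ofHom U hU le_rfl a
  have hQ' : ∀ r, Q r ↔ ∀ t : TIdx 𝒮,
      embDom chartC (TIdx.up (φ := ι) (hφ := hz.graded) t) ≫ r = tgt qι chart (TIdx.up t) := by
    intro r
    rw [hQ]
    have key : ∀ (t : TIdx 𝒮) (χ : 𝒮.deg t.U t.hU →+*ᵍ 𝒮h.deg t.U t.hU), χ = RelProj.gradedHomAt ι hz.graded t.U t.hU →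
      ((∀ g : Spec (CommRingCat.of (HomogeneousLocalization.Away (𝒮h.deg t.U t.hU) ((RelProj.gradedHomAt ι hz.graded t.U t.hU) t.f))) ⟶ _,
        g ≫ (RelProj.domQ qι pC chartC).ι = Proj.awayι (𝒮h.deg t.U t.hU) ((RelProj.gradedHomAt ι hz.graded t.U t.hU) t.f) ((RelProj.gradedHomAt ι hz.graded t.U t.hU).2 t.hf) t.hd ≫
              RelProj.emb pC chartC t.U t.hU →
          g ≫ r = Spec.map (CommRingCat.ofHom (HomogeneousLocalization.Away.map (RelProj.gradedHomAt ι hz.graded t.U t.hU) t.f)) ≫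
              Proj.awayι (𝒮.deg t.U t.hU) t.f t.hf t.hd ≫ RelProj.emb p chart t.U t.hU) ↔
       ∀ g : Spec (CommRingCat.of (HomogeneousLocalization.Away (𝒮h.deg t.U t.hU) (χ t.f))) ⟶ _,
        g ≫ (RelProj.domQ qι pC chartC).ι = Proj.awayι (𝒮h.deg t.U t.hU) (χ t.f) (χ.2 t.hf) t.hd ≫
              RelProj.emb pC chartC t.U t.hU →
          g ≫ r = Spec.map (CommRingCat.ofHom (HomogeneousLocalization.Away.map χ t.f)) ≫
              Proj.awayι (𝒮.deg t.U t.hU) t.f t.hf t.hd ≫ RelProj.emb p chart t.U t.hU) := by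
      rintro t χ rfl
      exact Iff.rfl
    constructor
    · intro h t
      exact (cond_iff (TIdx.up (φ := ι) (hφ := hz.graded) t) r).mp
        ((key t _ (hg t.U t.hU)).mp (h t.U t.hU t.d t.hd t.f t.hf))
    · intro h U hU d hd f hf
      exact (key ⟨U, hU, d, hd, f, hf⟩ _ (hg U hU)).mpr
        ((cond_iff (TIdx.up (φ := ι) (hφ := hz.graded) ⟨U, hU, d, hd, f, hf⟩) r).mpr (h ⟨U, hU, d, hd, f, hf⟩))
  have hcov : ∀ x : (RelProj.domQ qι pC chartC : Scheme.{u}), ∃ t : TIdx 𝒮,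
      x ∈ (embDom chartC (TIdx.up (φ := ι) (hφ := hz.graded) t)).opensRange := by
    intro x
    obtain ⟨_, ⟨U, hU, rfl⟩, hxU, -⟩ := Y.isBasis_affineOpens.exists_subset_of_mem_open
      (Set.mem_univ (pC x.1)) isOpen_univ
    obtain ⟨a, ha⟩ := (mem_opensRange_emb (chart := chartC) hU).mpr hxU
    obtain ⟨d, f, hd, hf, hfa⟩ := exists_homogeneous_of_mem_domOpen (qι.gradedAt U hU U hU le_rfl)
      ((emb_mem_domQ_iff' hPC hU hU le_rfl a).mp (by rw [ha]; exact x.2))
    obtain ⟨w, hw⟩ : x.1 ∈ (emb' qι chartC (TIdx.up ⟨U, hU, d, hd, f, hf⟩)).opensRange := by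
      rw [range_emb']; exact ⟨a, hfa, ha⟩
    refine ⟨⟨U, hU, d, hd, f, hf⟩, w, (RelProj.domQ qι pC chartC).ι.isOpenEmbedding.injective ?_⟩
    rw [← Scheme.Hom.comp_apply, embDom_ι]
    exact hw
  have hext : ∀ r r' : (RelProj.domQ qι pC chartC : Scheme.{u}) ⟶ P, Q r → Q r' → r = r' := by
    intro r r' h h'
    refine Scheme.hom_ext_of_forall _ _ fun x => ?_
    obtain ⟨t, ht⟩ := hcov x
    refine ⟨_, ht, ?_⟩
    rw [← cancel_epi (embDom chartC (TIdx.up (φ := ι) (hφ := hz.graded) t)).isoOpensRange.hom,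
      Scheme.Hom.isoOpensRange_hom_ι_assoc, Scheme.Hom.isoOpensRange_hom_ι_assoc, (hQ' r).mp h, (hQ' r').mp h']
  obtain ⟨v, hv, -⟩ := existsUnique_map (u := qι) hP hPC
  have hv0 := (isProjQMapOn_domQ_iff qι chart chartC v).mp hv
  have hQv : Q v := (hQ' v).mpr fun t => hv0 _
  refine ⟨⟨v, hQv, fun r hr => hext r v hr hQv⟩, fun r hr => ?_⟩
  obtain rfl := hext v r hQv hr
  refine ⟨map_of_charts (Pr := @IsAffineHom) hP hPC hv fun _ => inferInstance, fun y => ?_, ?_, ?_⟩
  · obtain ⟨_, ⟨U, hU, rfl⟩, hyU, -⟩ := Y.isBasis_affineOpens.exists_subset_of_mem_open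
      (Set.mem_univ (p y)) isOpen_univ
    obtain ⟨a, rfl⟩ := (mem_opensRange_emb (chart := chart) hU).mpr hyU
    obtain ⟨d, f, hd, hf, hfa⟩ := exists_homogeneous (𝒮.deg U hU) a
    obtain ⟨w, rfl⟩ : a ∈ (Proj.awayι (𝒮.deg U hU) f hf hd).opensRange := by
      rw [Proj.opensRange_awayι]; exact hfa
    let i := TIdx.up (φ := ι) (hφ := hz.graded) ⟨U, hU, d, hd, f, hf⟩
    let g : 𝒮h.deg U hU →+*ᵍ 𝒮.deg U hU :=
      { (isPolyRing hz hU).evalZero with map_mem := fun hx => (isPolyRing hz hU).evalZero_mem hx }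
    have hid : g.comp i.grad = GradedRingHom.id _ := by
      ext a
      show g (i.grad a) = a
      rw [show i.grad a = _ from gradedAt_ofHom U hU le_rfl a]
      exact (isPolyRing hz hU).evalZero_ι a
    have hsurj : Function.Surjective (Spec.map (CommRingCat.ofHom (HomogeneousLocalization.Away.map i.grad f))) := by
      have key : ∀ χ : 𝒮.deg U hU →+*ᵍ 𝒮.deg U hU, χ = GradedRingHom.id _ →
          Function.Injective (HomogeneousLocalization.Away.map χ f) ∧ IsIso (Spec.map (CommRingCat.ofHom (HomogeneousLocalization.Away.map χ f))) := by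
        rintro χ rfl
        rw [HomogeneousLocalization.Away.map_id]
        refine ⟨fun a b h => h, ?_⟩
        show IsIso (Spec.map (𝟙 _))
        infer_instance
      obtain ⟨-, hiso⟩ := key _ hid
      intro w
      rw [HomogeneousLocalization.Away.map_comp, CommRingCat.ofHom_comp, Spec.map_comp] at hiso
      obtain ⟨s, hs⟩ := (Spec.map (CommRingCat.ofHom (HomogeneousLocalization.Away.map g (i.grad f))) ≫
        Spec.map (CommRingCat.ofHom (HomogeneousLocalization.Away.map i.grad f))).homeomorph.surjective w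
      exact ⟨_, hs⟩
    obtain ⟨s, hs⟩ := hsurj w
    refine ⟨embDom chartC i s, ?_⟩
    show v (embDom chartC i s) = _
    rw [← Scheme.Hom.comp_apply, hv0 i]
    exact congrArg (fun b => RelProj.emb p chart U hU (Proj.awayι (𝒮.deg U hU) f hf hd b)) hs
  · exact (comp_eq hP hPC hv).trans (by rw [Category.comp_id])
  · intro θ hθ hιθ _ hirr j hj j' hj'
    refine (targetCover p chart).hom_ext _ _ fun (t : TIdx 𝒮) => ?_
    show (Proj.awayι (𝒮.deg t.U t.hU) t.f t.hf t.hd ≫ RelProj.emb p chart t.U t.hU) ≫ j' ≫ v =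
      (Proj.awayι (𝒮.deg t.U t.hU) t.f t.hf t.hd ≫ RelProj.emb p chart t.U t.hU) ≫ 𝟙 P
    let i := TIdx.up (φ := ι) (hφ := hz.graded) t
    let g := RelProj.gradedHomAt θ hθ t.U t.hU
    have hid : GradedRingHom.id _ = g.comp i.grad := by
      ext a
      show a = g (i.grad a)
      rw [show i.grad a = _ from gradedAt_ofHom t.U t.hU le_rfl a]
      exact (ConcreteCategory.congr_hom (congrArg (fun ψ : 𝒮.toQCAlg ⟶ 𝒮.toQCAlg => ψ.hom.app (op t.U)) hιθ) a).symm
    obtain ⟨c, hc1, hc2⟩ := chart_comp (GradedRingHom.id _) i.grad g hid t.hd t.hf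
    have e : (Proj.awayι (𝒮.deg t.U t.hU) t.f t.hf t.hd ≫ RelProj.emb p chart t.U t.hU) ≫ j' =
        (c ≫ Spec.map (CommRingCat.ofHom (HomogeneousLocalization.Away.map g (i.grad t.f)))) ≫ embDom chartC i := by
      rw [← cancel_mono (RelProj.domQ qι pC chartC).ι, Category.assoc, hj', Category.assoc, Category.assoc, embDom_ι]
      have hj2 : RelProj.emb p chart t.U t.hU ≫ j =
          Proj.map g (hirr t.U t.hU) ≫ RelProj.emb pC chartC t.U t.hU := by
        unfold RelProj.emb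
        rw [Category.assoc, hj t.U t.hU, Iso.inv_hom_id_assoc]
      rw [hj2]
      refine (congrArg (· ≫ _) hc1).symm.trans ?_
      refine (Category.assoc _ _ _).trans ?_
      refine Eq.trans (congrArg (c ≫ ·) ((Category.assoc _ _ _).symm.trans
        (congrArg (· ≫ RelProj.emb pC chartC t.U t.hU)
          (Proj.awayι_comp_map g (hirr t.U t.hU) t.hd (i.grad t.f) (i.grad.map_mem t.hf))))) ?_
      simp only [Category.assoc]
      rfl
    refine (Category.assoc _ _ _).symm.trans ((congrArg (· ≫ v) e).trans ?_)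
    rw [Category.assoc, Category.assoc, hv0 i, Category.comp_id]
    show c ≫ Spec.map (CommRingCat.ofHom (HomogeneousLocalization.Away.map g (i.grad t.f))) ≫
      Spec.map (CommRingCat.ofHom (HomogeneousLocalization.Away.map i.grad t.f)) ≫
        Proj.awayι (𝒮.deg t.U t.hU) t.f t.hf t.hd ≫ RelProj.emb p chart t.U t.hU = _
    refine Eq.trans ?_ (Category.id_comp _)
    refine (reassoc_of% hc2) _ |>.trans (congrArg (· ≫ _) ?_)
    rw [HomogeneousLocalization.Away.map_id]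
    exact Spec.map_id _

end Groth.Agent.S8308
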