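import Groth.Statements.S16754
import Groth.Agent.GeomField.GlobalFunctions
import Groth.Agent.H23.GeomConnGamma
import Groth.Agent.H23.FinCondSch
import Groth.Agent.GrpSchLib.SmoothReduced
import Groth.Agent.GrpSchLib.SmoothRegular
import Groth.Agent.RegLoc6.Basic

set_option autoImplicit false
universe u
open CurvSt

namespace Groth.Agent.S16754

open CategoryTheory CategoryTheory.Limits AlgebraicGeometry in
/-- Let k be a field and X a scheme which is proper and smooth over k and of dimension one. Then the
following are equivalent: dim_k H^0(X, O_X) = 1 (the ground field is the ring of global functions);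
X is geometrically connected over k; X is geometrically integral over k. (The remaining conditions
of the source concern membership in an open substack of the stack of curves and are not stated.) -/
theorem result (k : Type u) [Field k]
    (X : Scheme.{u}) [X.Over (Spec (CommRingCat.of k))] [IsProper (X ↘ Spec (CommRingCat.of k))]
    [Smooth (X ↘ Spec (CommRingCat.of k))] (hdim : topologicalKrullDim ↥X = 1) :
    (Module.finrank k (Coh.HH X (Coh.structureModule X) 0) = 1 ↔ GeometricallyConnected (X ↘ Spec (CommRingCat.of k))) ∧
      (GeometricallyConnected (X ↘ Spec (CommRingCat.of k)) ↔ GeometricallyIntegral (X ↘ Spec (CommRingCat.of k))) := by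
  letI := Groth.Agent.GeomField.globalAlgebra k X
  set f := X ↘ Spec (CommRingCat.of k) with hf
  have hGR : GeometricallyReduced f := by
    rw [GeometricallyReduced.eq_geometrically]
    intro K _ t Z fst snd h
    haveI : Smooth snd := MorphismProperty.of_isPullback h inferInstance
    exact Groth.Agent.GrpSchLib.isReduced_of_smooth_field snd
  refine ⟨⟨fun h1 => ?_, fun hGC => ?_⟩, ⟨fun hGC => ?_, fun hGI => ?_⟩⟩
  · rw [Groth.Agent.GeomField.finrank_HH_zero k X] at h1
    haveI : Nontrivial Γ(X, ⊤) := Module.nontrivial_of_finrank_pos (R := k) (by omega)
    have hb : Function.Bijective (algebraMap k Γ(X, ⊤)) :=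
      Algebra.bijective_algebraMap_iff.mpr (Subalgebra.bot_eq_top_iff_finrank_eq_one.mpr h1).symm
    refine Groth.Agent.H23.GeomConnGamma.geometricallyConnected_of_gamma f ?_
    have hi : Function.Bijective (Scheme.ΓSpecIso (CommRingCat.of k)).inv.hom :=
      ConcreteCategory.bijective_of_isIso _
    exact (Function.Bijective.of_comp_iff _ hi).mp hb
  · haveI := hGC
    haveI := hGR
    rw [Groth.Agent.GeomField.finrank_HH_zero k X]
    exact Groth.Agent.GeomField.finrank_globalFunctions_eq_one k X
  · rw [GeometricallyIntegral.eq_geometrically]
    intro K _ t Z fst snd h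
    haveI : Smooth snd := MorphismProperty.of_isPullback h inferInstance
    haveI : IsLocallyNoetherian Z := LocallyOfFiniteType.isLocallyNoetherian snd
    refine Groth.Agent.H23.FinCondSch.isIntegral_iff.mpr ⟨?_, fun z => ?_⟩
    · exact (GeometricallyConnected.eq_geometrically ▸ hGC : geometrically (fun S : Scheme.{u} => ConnectedSpace S) f) t fst snd h
    · haveI := Groth.Agent.GrpSchLib.isRegularLocalRing_stalk_of_smooth snd z
      exact Groth.Agent.RegLoc6.isDomain_of_isRegularLocalRing _
  · rw [GeometricallyConnected.eq_geometrically]
    intro K _ t Z fst snd h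
    haveI : IsIntegral Z := (GeometricallyIntegral.eq_geometrically ▸ hGI : geometrically IsIntegral f) t fst snd h
    infer_instance

end Groth.Agent.S16754
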