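import Groth.Statements.S0023
import Groth.Agent.PnCoh.Cech
import Groth.Agent.PnCoh.Unit

set_option autoImplicit false
universe u
open Coherent

namespace Groth.Agent.S0023

open AlgebraicGeometry in
/-- Special case of the twist d = 0 in positive degree: H^q(P^n_R, O) = 0 for all q > 0 and any ring R.
(The full statement computes all H^q(P^n_R, O(d)); only the untwisted part is stated here.) -/
theorem result (n : ℕ) (R : Type u) [CommRing R]
    (q : ℕ) (hq : 0 < q) :
    Subsingleton (Coh.HH (CohB1.ProjSpace n R) (Coh.structureModule (CohB1.ProjSpace n R)) q) := by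
  obtain ⟨q, rfl⟩ := Nat.exists_eq_succ_of_ne_zero hq.ne'
  exact Groth.Agent.PnCoh.subsingleton_HH_structureModule (ι := Fin (n + 1)) (R := R)
    (Groth.Agent.PnCoh.isQCoh_structureModule _) q

end Groth.Agent.S0023
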