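import Groth.Statements.S4781
import Groth.Agent.FibDim.GenerizeDim
import Groth.Agent.FibDim.Comp
import Groth.Agent.GrpSchLib.HomFlat
import Groth.Agent.H23.RedSub

set_option autoImplicit false
universe u
open CategoryTheory AlgebraicGeometry
open Cons9

namespace Groth.Agent.S4781

open CategoryTheory

/-- Let S be a Noetherian irreducible scheme with generic point η, let X be an irreducible scheme and f
: X ⟶ S a dominant morphism of finite type. Then there is an open neighbourhood U of η in S such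
that, for every s ∈ U, all irreducible components of the fibre f⁻¹(s) have dimension equal to dim
f⁻¹(η). Fibres are taken as subspaces of X and dimensions are topological Krull dimensions. -/
theorem result {X S : Scheme.{u}} (f : X ⟶ S)
    [IsNoetherian S] [IrreducibleSpace S] [IrreducibleSpace X] [IsDominant f]
    [LocallyOfFiniteType f] [QuasiCompact f] :
    ∃ U : S.Opens, genericPoint S ∈ U ∧ ∀ s ∈ U, ∀ T ∈ irreducibleComponents ↥(⇑f ⁻¹' {s}),
      topologicalKrullDim ↥T = topologicalKrullDim ↥(⇑f ⁻¹' {genericPoint S}) := by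
  let ι := S.nilradical.subschemeι
  haveI : IsReduced S.nilradical.subscheme := H23.RedSub.isReduced_nilradical S
  haveI : Surjective ι := ⟨by
    rw [← Set.range_eq_univ, Scheme.IdealSheafData.range_subschemeι, Scheme.support_nilradical]; rfl⟩
  haveI : IsLocallyNoetherian S.nilradical.subscheme := LocallyOfFiniteType.isLocallyNoetherian ι
  haveI : Nonempty S.nilradical.subscheme := ⟨(ι.surjective (genericPoint S)).choose⟩
  let q := Limits.pullback.snd f ι
  let p := Limits.pullback.fst f ι
  obtain ⟨U', hU'ne, hflat⟩ := GrpSchLib.exists_opens_flat q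
  have hι : IsHomeomorph ι.base := isHomeomorph_iff_isEmbedding_surjective.2 ⟨ι.isClosedEmbedding.isEmbedding, ι.surjective⟩
  haveI : Flat ((q ⁻¹ᵁ U').ι ≫ q) := Flat.of_stalkMap _ fun y => by
    rw [Scheme.Hom.stalkMap_comp]
    exact RingHom.Flat.comp (hflat _ y.2) (Flat.stalkMap (q ⁻¹ᵁ U').ι y)
  haveI : LocallyOfFinitePresentation ((q ⁻¹ᵁ U').ι ≫ q) := inferInstance
  have hop : IsOpenMap ((q ⁻¹ᵁ U').ι ≫ q) := ((q ⁻¹ᵁ U').ι ≫ q).isOpenMap
  let U : S.Opens := ⟨ι '' U', hι.isOpenMap _ U'.isOpen⟩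
  have hopen : ∀ x, f x ∈ U → EGA43.IsOpenAt f.base x := by
    rintro x ⟨u, hu, hux⟩ N hN
    obtain ⟨O, hON, hO, hxO⟩ := mem_nhds_iff.1 hN
    obtain ⟨v, hv, hv'⟩ := Scheme.Pullback.exists_preimage_pullback x u hux.symm
    have hW : IsOpen (q '' ((q ⁻¹ᵁ U' : (Limits.pullback f ι).Opens) ∩ p ⁻¹' O)) := by
      have hO' := hop _ ((hO.preimage p.continuous).preimage (q ⁻¹ᵁ U').ι.continuous)
      rw [Scheme.Hom.comp_base, TopCat.coe_comp, Set.image_comp, Set.image_preimage_eq_inter_range,
        Scheme.Opens.range_ι, Set.inter_comm] at hO'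
      exact hO'
    refine Filter.mem_of_superset ((hι.isOpenMap _ hW).mem_nhds ⟨u, ⟨v, ⟨?_, ?_⟩, hv'⟩, hux⟩) ?_
    · show q v ∈ U'
      rw [show q v = u from hv']
      exact hu
    · show p v ∈ O
      rw [show p v = x from hv]
      exact hxO
    · rintro _ ⟨_, ⟨w, ⟨-, hw⟩, rfl⟩, rfl⟩
      exact ⟨p w, hON hw, by rw [← Scheme.Hom.comp_apply, Limits.pullback.condition]; rfl⟩
  have hηU : genericPoint S ∈ U :=
    ((genericPoint_spec S).mem_open_set_iff U.isOpen).2 (by
      obtain ⟨u, hu⟩ := hU'ne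
      exact ⟨ι u, trivial, u, hu, rfl⟩)
  have hfξ : f (genericPoint X) = genericPoint S := by
    refine (((genericPoint_spec X).image f.continuous).eq ?_)
    rw [IsGenericPoint, (genericPoint_spec S), Set.image_univ]
    exact (Set.univ_subset_iff.1 (f.denseRange.closure_range.ge)).symm
  have huniq : ∀ z, f z = genericPoint S → FibDim.FibMax f z → z = genericPoint X := fun z hz hm =>
    (hm _ ((genericPoint_spec X).specializes trivial) (hfξ.trans hz.symm)).symm
  refine ⟨U, hηU, fun s hs T hT => ?_⟩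
  have key : ∀ z, f z = s → FibDim.FibMax f z → FibDim.rd f z = FibDim.rd f (genericPoint X) := by
    intro z hz hm
    obtain ⟨ζ, -, hfζ, hζm, hr⟩ := FibDim.exists_fibMax_eq_of_isOpenAt f hm (hopen z (hz.symm ▸ hs))
      (y' := genericPoint S) ((genericPoint_spec S).specializes trivial)
    rw [← hr, huniq ζ hfζ hζm]
  have hdim : topologicalKrullDim ↥(f.fiber (genericPoint S)) = ((FibDim.rd f (genericPoint X) : ℕ∞) : WithBot ℕ∞) := by
    rw [FibDim.topologicalKrullDim_fiber]
    refine le_antisymm (iSup_le fun z => ?_) (le_iSup_of_le ⟨genericPoint X, hfξ⟩ le_rfl)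
    exact_mod_cast FibDim.rd_le_of_specializes f ((genericPoint_spec X).specializes trivial) (hfξ.trans z.2.symm)
  rw [← (f.fiberHomeo (genericPoint S)).isHomeomorph.topologicalKrullDim_eq, hdim]
  let e := f.fiberHomeo s
  have hT' : e ⁻¹' T ∈ irreducibleComponents ↥(f.fiber s) :=
    preimage_mem_irreducibleComponents hT e.isOpenEmbedding (by
      rw [e.surjective.range_eq, Set.inter_univ]
      exact hT.1.nonempty)
  have : topologicalKrullDim ↥T = topologicalKrullDim ↥(e ⁻¹' T) :=
    ((e.sets (t := T) (s := e ⁻¹' T) rfl).isHomeomorph.topologicalKrullDim_eq).symm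
  obtain ⟨z, ⟨hz, hm⟩, hd⟩ := (FibDim.fiber_component_dims f s).le ⟨_, hT', rfl⟩
  dsimp only at hd
  rw [this, ← hd]
  rw [key z hz hm]

end Groth.Agent.S4781
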