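import Groth.Statements.S3321
import Groth.Agent.H26.EulerGenus

set_option autoImplicit false
universe u
open CategoryTheory CategoryTheory.Limits AlgebraicGeometry
open Models

namespace Groth.Agent.S3321

/-- In the following situation (R a discrete valuation ring with residue field k, C a smooth proper
curve over its fraction field K with H^0(C, O_C) = K, X a regular proper model, Γ_1, …, Γ_n the
irreducible components of the closed fibre with multiplicities m_i, L_i ⊗ I(Γ_i) ≅ O_X) one has g_C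
= 1 + Σ_i m_i ([κ_i : k] (g_i - 1) - (Γ_i · Γ_i) / 2), where g_C = dim_K H^1(C, O_C), κ_i = H^0(Γ_i,
O) and g_i is the genus of Γ_i, so that [κ_i : k] g_i = dim_k H^1(Γ_i, O). Stated multiplied by 2
and with [κ_i : k](g_i - 1) written as dim_k H^1(Γ_i, O) - dim_k H^0(Γ_i, O). -/
theorem result (R : Type u) [CommRing R] [IsDomain R] [IsDiscreteValuationRing R]
    (C X : Scheme.{u}) (f : C ⟶ Spec (CommRingCat.of (FractionRing R))) (p : X ⟶ Spec (CommRingCat.of R))
    (hC : Curve.IsSmoothProperCurve (FractionRing R) C f) (hH0 : IsIso f.appTop)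
    (hX : Models.IsRegularProperModel R X p C f)
    {n : ℕ} (Γ : Fin n → ArSurf.VertComp R (Over.mk p)) (hΓ : Models.IsComponentList R (Over.mk p) Γ)
    (L : Fin n → X.Modules) (hL : ∀ i, ClSub.IsInverseOf (L i) (ClSub.idealMod (Γ i).ι.ker)) :
    2 * (Models.curveGenus (FractionRing R) C f : ℤ) =
      2 + ∑ i, (Models.mult R (Over.mk p) (Γ i) : ℤ) *
        (2 * ((Models.h1 R (Over.mk p) (Γ i) : ℤ) - (Models.wdeg R (Over.mk p) (Γ i) : ℤ)) - ArSurf.inter R (Over.mk p) (L i) (Γ i)) := by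
  obtain ⟨-, hp, -⟩ := id hX
  obtain ⟨hfl, -, -, g, sq⟩ := hX.1
  haveI : IsProper (Over.mk p).hom := hp
  haveI : Flat (Over.mk p).hom := hfl
  obtain ⟨hgood, hsum⟩ := Groth.Agent.H26.EulerFibre.good_fibre (Groth.Agent.H26.VertModel.mkData hX hΓ L hL)
  have hchi := Groth.Agent.H26.EulerFibre.chi_fibre_eq (X := Over.mk p) f g sq hgood
  rw [Groth.Agent.H26.EulerFibre.hRank_zero_eq_one f hH0] at hchi
  simp only [Groth.Agent.H26.EulerFibre.wdeg_sub_h1] at hsum
  rw [hchi] at hsum
  push_cast at hsum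
  have hneg : ∑ i, (Models.mult R (Over.mk p) (Γ i) : ℤ) *
      (2 * ((Models.h1 R (Over.mk p) (Γ i) : ℤ) - (Models.wdeg R (Over.mk p) (Γ i) : ℤ)) -
        ArSurf.inter R (Over.mk p) (L i) (Γ i)) =
      -∑ i, (Models.mult R (Over.mk p) (Γ i) : ℤ) *
      (2 * ((Models.wdeg R (Over.mk p) (Γ i) : ℤ) - (Models.h1 R (Over.mk p) (Γ i) : ℤ)) +
        ArSurf.inter R (Over.mk p) (L i) (Γ i)) := by
    rw [← Finset.sum_neg_distrib]
    exact Finset.sum_congr rfl fun i _ => by ring
  rw [hneg]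
  show 2 * (Models.hRank (FractionRing R) C f (Coh.structureModule C) 1 : ℤ) = _
  change 2 * (1 - (Models.hRank (FractionRing R) C f (Coh.structureModule C) 1 : ℤ)) = ∑ i, (Models.mult R (Over.mk p) (Γ i) : ℤ) *
      (2 * ((Models.wdeg R (Over.mk p) (Γ i) : ℤ) - (Models.h1 R (Over.mk p) (Γ i) : ℤ)) +
        ArSurf.inter R (Over.mk p) (L i) (Γ i)) at hsum
  linarith

end Groth.Agent.S3321
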