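import Groth.Statements.S3327
import Groth.Agent.H26.ExcMeet
import Groth.Agent.S3321

set_option autoImplicit false
universe u
open CategoryTheory CategoryTheory.Limits AlgebraicGeometry
open Models

namespace Groth.Agent.S3327

/-- In the following situation (R a discrete valuation ring with residue field k, C a smooth proper
curve over its fraction field K with H^0(C, O_C) = K, X a regular proper model, Γ_1, …, Γ_n the
irreducible components of the closed fibre with multiplicities m_l), suppose Γ_i and Γ_j (i ≠ j) are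
exceptional curves of the first kind which meet. Then n = 2, all multiplicities are 1, every
component is k-isomorphic to the projective line over k, Γ_i and Γ_j meet in a single point x with
residue field k, scheme-theoretically (I(Γ_i) + I(Γ_j) is the ideal of the reduced point x), and C
has genus zero. -/
theorem result (R : Type u) [CommRing R] [IsDomain R] [IsDiscreteValuationRing R]
    (C X : Scheme.{u}) (f : C ⟶ Spec (CommRingCat.of (FractionRing R))) (p : X ⟶ Spec (CommRingCat.of R))
    (hC : Curve.IsSmoothProperCurve (FractionRing R) C f) (hH0 : IsIso f.appTop)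
    (hX : Models.IsRegularProperModel R X p C f)
    {n : ℕ} (Γ : Fin n → ArSurf.VertComp R (Over.mk p)) (hΓ : Models.IsComponentList R (Over.mk p) Γ)
    (i j : Fin n) (hij : i ≠ j) (hi : Models.IsExcCurve (Γ i).ι) (hj : Models.IsExcCurve (Γ j).ι)
    (hmeet : ¬ Disjoint (Set.range ((Γ i).ι.base : (Γ i).curve.left → X))
      (Set.range ((Γ j).ι.base : (Γ j).curve.left → X))) :
    n = 2 ∧ (∀ l, Models.mult R (Over.mk p) (Γ l) = 1) ∧
      (∀ l, ∃ e : (Γ l).curve.left ≅ CohB1.ProjSpace 1 (IsLocalRing.ResidueField R),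
        e.hom ≫ CohB1.ProjSpace.toSpec 1 (IsLocalRing.ResidueField R) = (Γ l).curve.hom) ∧
      (∃ x : X, Set.range ((Γ i).ι.base : (Γ i).curve.left → X) ∩ Set.range ((Γ j).ι.base : (Γ j).curve.left → X) = {x} ∧
        (Γ i).ι.ker ⊔ (Γ j).ι.ker =
          Scheme.IdealSheafData.vanishingIdeal ⟨closure {x}, isClosed_closure⟩ ∧
        Function.Surjective ((X.residue x).hom.comp (Models.stalkHom R (Over.mk p) x))) ∧
      Models.curveGenus (FractionRing R) C f = 0 := by
  classical
  obtain ⟨L, hL⟩ := Groth.Agent.H26.VertModel.exists_inverses hX hΓ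
  let D := Groth.Agent.H26.VertModel.mkData hX hΓ L hL
  haveI : IsProper (Over.mk p).hom := hX.2.1
  haveI : Flat (Over.mk p).hom := hX.1.1
  obtain ⟨hall, hm, hw, hx⟩ := Groth.Agent.H26.ExcMeet.numbers D (Groth.Agent.H26.VertModel.isConnected hC hH0 hX)
    hij hi hj hmeet
  obtain ⟨hi1, hi2⟩ := Groth.Agent.H26.ExcCrit.invariants_of_exc (Γ i) (D.heff i) (hL i) hi
  obtain ⟨hj1, hj2⟩ := Groth.Agent.H26.ExcCrit.invariants_of_exc (Γ j) (D.heff j) (hL j) hj
  have huniv : (Finset.univ : Finset (Fin n)) = {i, j} := by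
    ext l
    simp [hall l]
  have hn : n = 2 := by
    have := congrArg Finset.card huniv
    rwa [Finset.card_univ, Fintype.card_fin, Finset.card_pair hij] at this
  have hG := Groth.Agent.S3321.result R C X f p hC hH0 hX Γ hΓ L hL
  rw [huniv, Finset.sum_pair hij, hi1, hj1, hi2, hj2, ← hm, ← hw] at hG
  have hpos : 1 ≤ Models.mult R (Over.mk p) (Γ i) * Models.wdeg R (Over.mk p) (Γ i) :=
    Nat.mul_pos (Groth.Agent.H26.InterForm.mult_pos hΓ hX.2.2 i) (Groth.Agent.H26.WDeg.wdeg_pos (Γ i))
  have hmw : Models.mult R (Over.mk p) (Γ i) * Models.wdeg R (Over.mk p) (Γ i) = 1 ∧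
      Models.curveGenus (FractionRing R) C f = 0 := by
    have h2 : (2 : ℤ) * (Models.curveGenus (FractionRing R) C f : ℤ) =
        2 - 2 * ((Models.mult R (Over.mk p) (Γ i) * Models.wdeg R (Over.mk p) (Γ i) : ℕ) : ℤ) := by
      rw [hG]; push_cast; ring
    omega
  obtain ⟨hmi, hwi⟩ := mul_eq_one.1 hmw.1
  have hline : ∀ l, ∃ e : (Γ l).curve.left ≅ CohB1.ProjSpace 1 (IsLocalRing.ResidueField R),
      e.hom ≫ CohB1.ProjSpace.toSpec 1 (IsLocalRing.ResidueField R) = (Γ l).curve.hom := fun l => by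
    rcases hall l with rfl | rfl
    · exact Groth.Agent.H26.ExcMeet.exists_iso_line D l hi1 hwi (by
        show ArSurf.inter R (Over.mk p) (L l) (Γ l) = -1
        rw [hi2, hwi, Nat.cast_one])
    · exact Groth.Agent.H26.ExcMeet.exists_iso_line D l hj1 (hw ▸ hwi) (by
        show ArSurf.inter R (Over.mk p) (L l) (Γ l) = -1
        rw [hj2, ← hw, hwi, Nat.cast_one])
  refine ⟨hn, fun l => ?_, hline, ?_, hmw.2⟩
  · rcases hall l with rfl | rfl
    · exact hmi
    · exact hm ▸ hmi
  have hs : ∀ l, (((Γ l).ι.ker).support : Set (Over.mk p).left) = Set.range ((Γ l).ι.base : (Γ l).curve.left → (Over.mk p).left) := fun l => by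
    rw [Scheme.Hom.support_ker]
    exact (Γ l).ι.isClosedEmbedding.isClosed_range.closure_eq
  have hgen : (Γ i).ι.base (genericPoint (Γ i).curve.left) ∉ Set.range ((Γ j).ι.base : (Γ j).curve.left → (Over.mk p).left) :=
    Groth.Agent.H26.InterSymm.genPt_notMem (Γ i) (Γ j) fun h => hij (hΓ.1 h)
  have hlen : Models.lengthH R (Over.mk p) (ClSub.quotMod ((Γ i).ι.ker ⊔ (Γ j).ι.ker)) 0 = 1 := by
    have h := Groth.Agent.H26.InterSymm.inter_eq_lengthH (Γ i) (D.heff j) (by
      show (Γ i).ι.base _ ∉ (((Γ j).ι.ker).support : Set (Over.mk p).left)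
      rw [hs j]
      exact hgen) (hL j)
    rw [show ArSurf.inter R (Over.mk p) (L j) (Γ i) = (Models.wdeg R (Over.mk p) (Γ i) : ℤ) from hx, hwi,
      sup_comm] at h
    exact_mod_cast h.symm
  have hsupp : ((((Γ i).ι.ker ⊔ (Γ j).ι.ker : (Over.mk p).left.IdealSheafData)).support : Set (Over.mk p).left) =
      Set.range ((Γ i).ι.base : (Γ i).curve.left → (Over.mk p).left) ∩ Set.range ((Γ j).ι.base : (Γ j).curve.left → (Over.mk p).left) := by
    rw [Scheme.IdealSheafData.support_sup, TopologicalSpace.Closeds.coe_inf, hs i, hs j]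
  obtain ⟨x, hx1, hx2, hx3⟩ := Groth.Agent.H26.OnePoint.eq_vanishingIdeal_of_length_one (X := Over.mk p)
    (I := (Γ i).ι.ker ⊔ (Γ j).ι.ker) (fun y hy => by
      rw [show (((Γ i).ι.ker ⊔ (Γ j).ι.ker : (Over.mk p).left.IdealSheafData).support : Set (Over.mk p).left) = _ from hsupp] at hy
      obtain ⟨⟨c, rfl⟩, hyj⟩ := hy
      have hc : c ≠ genericPoint (Γ i).curve.left := fun h => hgen (h ▸ hyj)
      have hcl : IsClosed ({c} : Set (Γ i).curve.left) :=
        Groth.Agent.CurvePsi.isClosed_of_dim_le_one (Γ i).dim_eq.le (genericPoint_specializes c) hc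
      have h := (Γ i).ι.isClosedEmbedding.isClosedMap _ hcl
      rw [Set.image_singleton] at h
      exact h) hlen
  exact ⟨x, hsupp.symm.trans hx1, hx2, hx3⟩

end Groth.Agent.S3327
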