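import Groth.Statements.S4711
import Mathlib

set_option autoImplicit false
universe u
open EGA4

namespace Groth.Agent.S4711

theorem exists_lc_of_constructible {A : Type u} [CommRing A] (s : Set (PrimeSpectrum A))
    (hs : Topology.IsConstructible s) : s.Nonempty → ∃ x ∈ s, IsLocallyClosed ({x} : Set (PrimeSpectrum A)) := by
  induction s, hs using Topology.IsConstructible.induction_of_isTopologicalBasis
    (b := fun r : A => (PrimeSpectrum.basicOpen r : Set (PrimeSpectrum A))) with
  | basis => exact PrimeSpectrum.isTopologicalBasis_basic_opens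
  | isCompact_basis i => exact PrimeSpectrum.isCompact_basicOpen i
  | sdiff i t ht =>
    intro hne
    let O : Set (PrimeSpectrum A) := ⋃ j ∈ t, (PrimeSpectrum.basicOpen j : Set (PrimeSpectrum A))
    have hO : IsOpen O := isOpen_biUnion fun j _ => (PrimeSpectrum.basicOpen j).isOpen
    let S := (PrimeSpectrum.basicOpen i : Set (PrimeSpectrum A)) \ O
    haveI : CompactSpace S := isCompact_iff_compactSpace.mp ((PrimeSpectrum.isCompact_basicOpen i).diff hO)
    haveI : Nonempty S := hne.to_subtype
    obtain ⟨⟨x, hxS⟩, -, hxc⟩ := IsClosed.exists_closed_singleton (X := S) isClosed_univ Set.univ_nonempty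
    refine ⟨x, hxS, ?_⟩
    have hS : IsLocallyClosed S := ⟨_, Oᶜ, (PrimeSpectrum.basicOpen i).isOpen, hO.isClosed_compl, rfl⟩
    simpa using hxc.isLocallyClosed.image Topology.IsInducing.subtypeVal (by simpa using hS)
  | union s hs t ht h1 h2 =>
    rintro ⟨y, hy | hy⟩
    · obtain ⟨x, hx, h⟩ := h1 ⟨y, hy⟩
      exact ⟨x, Or.inl hx, h⟩
    · obtain ⟨x, hx, h⟩ := h2 ⟨y, hy⟩
      exact ⟨x, Or.inr hx, h⟩

open AlgebraicGeometry Topology in
/-- In any scheme X, every nonempty locally constructible subset E contains a point x such that the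
one-point set {x} is locally closed in X (equivalently x is isolated in its closure). -/
theorem result (X : Scheme.{u}) (E : Set X)
    (hE : Topology.IsLocallyConstructible E) (hne : E.Nonempty) :
    ∃ x ∈ E, IsLocallyClosed ({x} : Set X) := by
  obtain ⟨z, hz⟩ := hne
  obtain ⟨_, ⟨U, hU, rfl⟩, hzU, -⟩ :=
    X.isBasis_affineOpens.exists_subset_of_mem_open (Set.mem_univ z) isOpen_univ
  let j := hU.fromSpec
  haveI : IsOpenImmersion j := hU.isOpenImmersion_fromSpec
  have hj : Topology.IsOpenEmbedding j.base := j.isOpenEmbedding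
  have hs : Topology.IsConstructible (j.base ⁻¹' E) :=
    (hE.preimage_of_isOpenEmbedding hj).isConstructible
  obtain ⟨y, hy⟩ : z ∈ Set.range j.base := by rw [hU.range_fromSpec]; exact hzU
  obtain ⟨x, hx, hlc⟩ := exists_lc_of_constructible _ hs ⟨y, by show j.base y ∈ E; rw [hy]; exact hz⟩
  refine ⟨j.base x, hx, ?_⟩
  have h1 := hlc.image hj.isInducing hj.isOpen_range.isLocallyClosed
  exact (congrArg IsLocallyClosed (Set.image_singleton (f := fun a => j.base a) (a := x))).mp h1

end Groth.Agent.S4711
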