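import Groth.Statements.S7325
import Mathlib
import Groth.Agent.FibrePP.NearExc
import Groth.Agent.Contraction7.Main

set_option autoImplicit false
universe u
open CategoryTheory CategoryTheory.Limits AlgebraicGeometry
open Resolve

namespace Groth.Agent.S7325

/-- Let X be a Noetherian scheme, ι : E → X a closed immersion which is an exceptional curve of the
first kind, and b : X → X' a contraction of E. Then pullback along b is injective on isomorphism
classes of invertible modules, and an invertible O_X-module L is the pullback of some invertible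
O_{X'}-module if and only if ι^* L ≅ O_E. (The published statement is a split short exact sequence 0
→ Pic(X') → Pic(X) → Z → 0 whose second map is the degree on E; this row states the injectivity of
the first map and the description of its image, and does not restate the degree map or the
splitting.) -/
theorem result {E X X' : Scheme.{u}} [IsNoetherian X] (ι : E ⟶ X) [IsClosedImmersion ι]
    (hE : Models.IsExcCurve ι) (b : X ⟶ X') (hb : Models.IsContractionOf ι b) :
    (∀ L₁ L₂ : X'.Modules, PicF.IsInvertible L₁ → PicF.IsInvertible L₂ →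
      Nonempty ((Scheme.Modules.pullback b).obj L₁ ≅ (Scheme.Modules.pullback b).obj L₂) → Nonempty (L₁ ≅ L₂)) ∧
    ∀ L : X.Modules, PicF.IsInvertible L →
      ((∃ L' : X'.Modules, PicF.IsInvertible L' ∧ Nonempty ((Scheme.Modules.pullback b).obj L' ≅ L)) ↔
        Nonempty ((Scheme.Modules.pullback ι).obj L ≅ Coh.structureModule E)) := by
  obtain ⟨hN, hP, y, hy, hrange, hreg, hdim, hB⟩ := hb
  haveI := hN
  haveI := hP
  haveI := hreg
  obtain ⟨k, _, e, -⟩ := hE.2
  haveI : IsIntegral (CohB1.ProjSpace 1 k) := Groth.Agent.H23.PnChart.isIntegral_projSpace 1 k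
  haveI : Nonempty E := ⟨e.hom (Classical.arbitrary _)⟩
  haveI : IsIntegral E := isIntegral_of_isOpenImmersion e.inv
  obtain ⟨p, q, hpq, hsp⟩ := Groth.Agent.Contraction7.exists_specializes_projLine k
  have hmem : ∀ a, b (ι a) = y := fun a => by
    have h : (ι ≫ b) a ∈ Set.range ((ι ≫ b).base : E → X') := ⟨a, rfl⟩
    rw [hrange] at h
    exact h
  have hfib : b ⁻¹' {y} = Set.range ι := Set.Subset.antisymm
    (Groth.Agent.Contraction7.fibre_subset b hy hB hdim ι.isClosedEmbedding.isClosed_range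
      (x₀ := ι (e.hom p)) (x₁ := ι (e.hom q))
      (fun h => hpq (e.hom.homeomorph.injective (ι.isClosedEmbedding.injective h)))
      ((hsp.map e.hom.continuous).map ι.continuous) ⟨_, rfl⟩ (hmem _) (hmem _))
    (fun x ⟨a, ha⟩ => ha ▸ hmem a)
  have h0 := Groth.Agent.Contraction7.bijective_app b hy hB ⟨_, hmem (e.hom p)⟩
  refine ⟨fun L₁ L₂ h₁ h₂ ⟨ε⟩ => Groth.Agent.FibrePP.nonempty_iso_of_pullback b h0 h₁ h₂ ε,
    fun L hL => ⟨fun ⟨L', hL', ⟨ε⟩⟩ => ?_, fun htriv => ?_⟩⟩
  · obtain ⟨V, hyV, s, hs⟩ := Groth.Agent.InvX.exists_frame hL' y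
    have htop : (ι ≫ b) ⁻¹ᵁ V = ⊤ := top_le_iff.1 fun a _ => by
      show b (ι a) ∈ V
      rw [hmem]; exact hyV
    obtain ⟨iso⟩ := Groth.Agent.FibrePP.nonempty_iso_of_frame
      ((Groth.Agent.InvX.isFrame_pullElt (ι ≫ b) hs).res htop.ge)
    exact ⟨(Scheme.Modules.pullback ι).mapIso ε.symm ≪≫ (Scheme.Modules.pullbackComp ι b).app L' ≪≫ iso.symm⟩
  · refine Groth.Agent.FibrePP.exists_descent b h0 fun w => ?_
    by_cases hw : w = y
    · subst hw
      exact Groth.Agent.FibrePP.exists_frame_near ι hE b hy hB hdim hfib L hL htriv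
    let V₀ : X'.Opens := ⟨({y} : Set X')ᶜ, hy.isOpen_compl⟩
    haveI := Groth.Agent.Contraction7.isIso_restrict_of_notMem b hy hB (V := V₀) fun h => h rfl
    obtain ⟨v, hv⟩ := (b ∣_ V₀).surjective ⟨w, hw⟩
    have hbv : b v.1 = w := (morphismRestrict_base_coe b V₀ v).symm.trans (congrArg Subtype.val hv)
    obtain ⟨U, hvU, t, ht⟩ := Groth.Agent.InvX.exists_frame hL v.1
    refine ⟨⟨(b '' (U : Set X)ᶜ)ᶜ, (b.isClosedMap _ U.2.isClosed_compl).isOpen_compl⟩, ?_, _,
      ht.res fun x hx => ?_⟩
    · rintro ⟨x, hxU, hx⟩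
      have hxV : x ∈ b ⁻¹ᵁ V₀ := show b x ∈ V₀ from hx.symm ▸ hw
      have e' : (⟨x, hxV⟩ : b ⁻¹ᵁ V₀) = v :=
        (ConcreteCategory.bijective_of_isIso (b ∣_ V₀).base).1 (Subtype.ext (by
          erw [morphismRestrict_base_coe, morphismRestrict_base_coe]
          exact hx.trans hbv.symm))
      have ee : x = v.1 := congrArg Subtype.val e'
      exact hxU (by rw [ee]; exact hvU)
    · by_contra h
      exact hx ⟨x, h, rfl⟩

end Groth.Agent.S7325
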