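import Groth.Statements.S4415
import Groth.Agent.Chow17.Birat
-- import your own Groth.Agent.* helpers here

set_option autoImplicit false
universe u
open CategoryTheory CategoryTheory.Limits AlgebraicGeometry
open EGA2

set_option backward.isDefEq.respectTransparency false
set_option backward.isDefEq.respectTransparency.types false
open AlgebraicGeometry CategoryTheory CategoryTheory.Limits
open Groth.Agent

namespace Groth.Agent.S4415

/-- Let r : X → S be a separated morphism of finite type and assume either (a) S is Noetherian, or (b) S
is quasi-compact and separated and X has finitely many irreducible components. Then there exist a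
scheme X' and a morphism f : X' → X such that: (i) X' is quasi-projective over S through f ≫ r, and
f is projective and surjective; (ii) for some open U of X the open f⁻¹(U) is dense in X' and f
restricted over U is an isomorphism; (iii) X' is reduced (resp. irreducible, resp. integral) if X
is. -/
theorem result {X S : Scheme.{u}} (r : X ⟶ S) [IsSeparated r] [LocallyOfFiniteType r] [QuasiCompact r]
    (h : IsNoetherian S ∨ (CompactSpace S ∧ S.IsSeparated ∧ (irreducibleComponents X).Finite)) :
    ∃ (X' : Scheme.{u}) (f : X' ⟶ X),
      RelProj.IsQuasiProjective (f ≫ r) ∧ RelProj.IsProjective f ∧ Surjective f ∧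
      (∃ U : X.Opens, Dense ((f ⁻¹ᵁ U : X'.Opens) : Set X') ∧ IsIso (f ∣_ U)) ∧
      (IsReduced X → IsReduced X') ∧ (IrreducibleSpace X → IrreducibleSpace X') ∧
      (IsIntegral X → IsIntegral X') := by
  obtain ⟨X', f, hq, hp, hs, -, ⟨U, -, hd, hiso⟩, hred, hirr⟩ := Chow17.exists_birational_chow r h
  refine ⟨X', f, hq, hp, hs, ⟨U, hd, hiso⟩, hred, hirr, fun hint => ?_⟩
  haveI := hred inferInstance
  haveI := hirr inferInstance
  exact isIntegral_of_irreducibleSpace_of_isReduced X'

end Groth.Agent.S4415
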