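import Groth.Statements.S7308
import Mathlib
import Groth.Agent.Contraction7.Main

set_option autoImplicit false
universe u
open CategoryTheory CategoryTheory.Limits AlgebraicGeometry
open Resolve

namespace Groth.Agent.S7308

/-- Let X be a Noetherian scheme and ι : E → X a closed immersion which is an exceptional curve of the
first kind. A contraction of E, if it exists, is unique up to unique isomorphism: for contractions
b₁ : X → X₁ and b₂ : X → X₂ of E there is a unique isomorphism e : X₁ ≅ X₂ with b₁ ≫ e = b₂. -/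
theorem result {E X X₁ X₂ : Scheme.{u}} [IsNoetherian X] (ι : E ⟶ X) [IsClosedImmersion ι]
    (hE : Models.IsExcCurve ι) (b₁ : X ⟶ X₁) (hb₁ : Models.IsContractionOf ι b₁) (b₂ : X ⟶ X₂) (hb₂ : Models.IsContractionOf ι b₂) :
    ∃! e : X₁ ≅ X₂, b₁ ≫ e.hom = b₂ := by
  haveI : IsNoetherian X₁ := hb₁.1
  haveI : IsProper b₁ := hb₁.2.1
  haveI : IsNoetherian X₂ := hb₂.1
  haveI : IsProper b₂ := hb₂.2.1
  obtain ⟨y₁, -, hy₁, -⟩ := hb₁.2.2
  obtain ⟨y₂, -, hy₂, -⟩ := hb₂.2.2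
  obtain ⟨f, hf, -⟩ := Groth.Agent.Contraction7.factor b₁ hE hb₁ b₂ y₂ hy₂
  obtain ⟨g, hg, -⟩ := Groth.Agent.Contraction7.factor b₂ hE hb₂ b₁ y₁ hy₁
  have u1 := Groth.Agent.Contraction7.factor b₁ hE hb₁ b₁ y₁ hy₁
  have u2 := Groth.Agent.Contraction7.factor b₂ hE hb₂ b₂ y₂ hy₂
  have e1 : f ≫ g = 𝟙 X₁ := u1.unique (by rw [← Category.assoc, hf, hg]) (Category.comp_id _)
  have e2 : g ≫ f = 𝟙 X₂ := u2.unique (by rw [← Category.assoc, hg, hf]) (Category.comp_id _)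
  refine ⟨⟨f, g, e1, e2⟩, hf, fun e he => Iso.ext ?_⟩
  exact (Groth.Agent.Contraction7.factor b₁ hE hb₁ b₂ y₂ hy₂).unique he hf

end Groth.Agent.S7308
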