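import Groth.Statements.S3567


set_option autoImplicit false
universe u
open CategoryTheory CategoryTheory.Limits AlgebraicGeometry
open EGA2

namespace Groth.Agent.S3567

/-- Let h : U → V be a surjective morphism of schemes such that the map of sheaves of rings O_V → h_*O_U
is an isomorphism and the underlying space of V carries the quotient topology of that of U. Then for
every scheme W, composition with h is a bijection from the morphisms V → W onto the morphisms U → W
whose underlying map is constant on each fibre of h. -/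
theorem result {U V : Scheme.{u}} (h : U ⟶ V) [Surjective h]
    [IsIso h.c] (hq : Topology.IsQuotientMap h.base) (W : Scheme.{u}) :
    (∀ v₁ v₂ : V ⟶ W, h ≫ v₁ = h ≫ v₂ → v₁ = v₂) ∧
      ∀ u : U ⟶ W, (∀ x y : U, h.base x = h.base y → u.base x = u.base y) → ∃ v : V ⟶ W, h ≫ v = u := by
  refine ⟨fun v₁ v₂ hv ↦ ?_, fun u hu ↦ ?_⟩
  · have hb : v₁.base = v₂.base := by
      ext y
      obtain ⟨x, rfl⟩ := h.surjective y
      exact congrArg (fun w : U ⟶ W ↦ w.base x) hv
    refine Scheme.Hom.ext hb fun S ↦ ?_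
    have := Scheme.Hom.congr_app hv S
    have hi : ∀ T : V.Opens, IsIso (h.app T) := fun T ↦
      inferInstanceAs (IsIso (h.c.app (.op T)))
    rw [Scheme.Hom.comp_app, Scheme.Hom.comp_app] at this
    rw [← cancel_mono (h.app (v₂ ⁻¹ᵁ S)), Category.assoc, h.naturality, ← Category.assoc, this]
    erw [Category.assoc, ← U.presheaf.map_comp]
    exact (congrArg _ ((congrArg U.presheaf.map (Subsingleton.elim _ _)).trans
      (U.presheaf.map_id _))).trans (Category.comp_id _)
  · have key : ∀ (A B C : PresheafedSpace CommRingCat.{u}) (k : A ⟶ B) [IsIso k.c]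
        (b : (B : TopCat) ⟶ (C : TopCat))
        (c : C.presheaf ⟶ (TopCat.Presheaf.pushforward _ (k.base ≫ b)).obj A.presheaf),
        k ≫ ({ base := b, c := c ≫ (TopCat.Presheaf.pushforward _ b).map (inv k.c) } : B ⟶ C)
          = ({ base := k.base ≫ b, c := c } : A ⟶ C) := by
      intro A B C k _ b c
      refine PresheafedSpace.ext _ _ rfl ?_
      refine NatTrans.ext (funext fun S ↦ ?_)
      obtain ⟨S⟩ := S
      have e : (inv k.c).app (.op (((TopologicalSpace.Opens.map b)).obj S)) ≫ k.c.app (.op (((TopologicalSpace.Opens.map b)).obj S)) =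
          𝟙 _ := by rw [← NatTrans.comp_app, IsIso.inv_hom_id, NatTrans.id_app]
      change ((c.app (.op S) ≫ (inv k.c).app (.op (((TopologicalSpace.Opens.map b)).obj S))) ≫
        k.c.app (.op (((TopologicalSpace.Opens.map b)).obj S))) ≫ A.presheaf.map (𝟙 _) = c.app (.op S)
      erw [Category.assoc (c.app (.op S)), e]
      exact (congrArg (_ ≫ ·) (A.presheaf.map_id _)).trans ((Category.comp_id _).trans (Category.comp_id _))
    let v : C(V, W) := hq.lift ⟨u.base, u.continuous⟩ fun x y e ↦ hu x y e
    have hv : (fun x ↦ v (h.base x)) = ⇑u.base :=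
      funext fun x ↦ congrArg (fun g : C(U, W) ↦ g x) (hq.lift_comp ⟨u.base, u.continuous⟩ fun x y e ↦ hu x y e)
    let u' : U ⟶ W := u.copyBase (fun x ↦ v (h.base x)) hv.symm
    let vp : V.toPresheafedSpace ⟶ W.toPresheafedSpace :=
      { base := TopCat.ofHom v
        c := u'.c ≫ (TopCat.Presheaf.pushforward _ (TopCat.ofHom v)).map (inv h.c) }
    have : IsIso h.toPshHom.c := inferInstanceAs (IsIso h.c)
    have hcomp : h.toPshHom ≫ vp = u'.toPshHom :=
      key _ _ _ h.toPshHom (TopCat.ofHom v) u'.c
    have hloc : ∀ y : V, IsLocalHom (vp.stalkMap y).hom := fun y ↦ by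
      obtain ⟨x, rfl⟩ := h.surjective y
      have h1 : IsLocalHom ((h.toPshHom ≫ vp).stalkMap x).hom := by
        rw [hcomp]; exact u'.toLRSHom.2 x
      rw [PresheafedSpace.stalkMap.comp] at h1
      exact @isLocalHom_of_comp _ _ _ _ _ _ (vp.stalkMap (h x)).hom (h.toPshHom.stalkMap x).hom h1
    refine ⟨⟨⟨vp, hloc⟩⟩, ?_⟩
    trans u'
    · exact Scheme.Hom.ext' (LocallyRingedSpace.Hom.ext' hcomp)
    · exact Scheme.Hom.copyBase_eq ..

end Groth.Agent.S3567
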