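import Groth.Statements.S4498
import Groth.Agent.S2436

set_option autoImplicit false
universe u
attribute [local instance] HasDerivedCategory.standard
open Coherent

namespace Groth.Agent.S4498

open AlgebraicGeometry CategoryTheory Opposite in
/-- The global form over an affine base. Let A be a Noetherian ring, X a proper A-scheme with structure
morphism f, and F, F' coherent O_X-modules flat over Spec A. Let η be a natural transformation from
the functor M ↦ Γ(X, f^*(M~) ⊗ F) to the functor M ↦ Γ(X, f^*(M~) ⊗ F') of the A-module M (the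
published statement takes η induced by a homomorphism F → F'; this row allows any natural
transformation, which is all the argument uses). Then the kernel functor M ↦ Ker(η_M) is
corepresentable by a finitely generated A-module R: there are such an R and a natural transformation
ι : Hom_A(R, −) → Γ(X, f^*(−~) ⊗ F) with injective components whose image at every M is exactly the
kernel of η_M. (R is then unique up to unique isomorphism.) -/
theorem result (A : Type u) [CommRing A]
    [IsNoetherianRing A] (X : Scheme.{u}) [X.Over (Spec (CommRingCat.of A))]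
    [IsProper (X ↘ Spec (CommRingCat.of A))] (F F' : X.Modules) (hF : Coh.IsCoh F) (hF' : Coh.IsCoh F')
    (hfl : FlatMod.IsFlatOver (X ↘ Spec (CommRingCat.of A)) F)
    (hfl' : FlatMod.IsFlatOver (X ↘ Spec (CommRingCat.of A)) F')
    (η : CohIII.tensorAFunctor A F ⋙ CohIII.globalSectionsA A ⟶ CohIII.tensorAFunctor A F' ⋙ CohIII.globalSectionsA A) :
    ∃ (R : ModuleCat.{u} A) (ι : (linearCoyoneda A (ModuleCat.{u} A)).obj (op R) ⟶
        CohIII.tensorAFunctor A F ⋙ CohIII.globalSectionsA A),
      Module.Finite A R ∧ (∀ M : ModuleCat.{u} A, Function.Injective (ι.app M).hom) ∧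
        ∀ (M : ModuleCat.{u} A) (x : (CohIII.tensorAFunctor A F ⋙ CohIII.globalSectionsA A).obj M),
          (η.app M).hom x = 0 ↔ ∃ y, (ι.app M).hom y = x := by
  obtain ⟨Q, hQ, ⟨e⟩⟩ := Groth.Agent.S2436.result A X F hF hfl
  obtain ⟨Q', hQ', ⟨e'⟩⟩ := Groth.Agent.S2436.result A X F' hF' hfl'
  let ε := e.inv ≫ η ≫ e'.hom
  let a : Q' ⟶ Q := (ε.app Q).hom (𝟙 Q)
  have hε : ∀ (M : ModuleCat.{u} A) (g : Q ⟶ M), (ε.app M).hom g = a ≫ g := fun M g => by
    have h : (ε.app M).hom (𝟙 Q ≫ g) = a ≫ g := congr($(ε.naturality g) (𝟙 Q))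
    rwa [Category.id_comp] at h
  have h1 : ∀ (M : ModuleCat.{u} A) (x : (CohIII.tensorAFunctor A F ⋙ CohIII.globalSectionsA A).obj M),
      (e'.hom.app M).hom ((η.app M).hom x) = a ≫ (e.hom.app M).hom x := fun M x => by
    refine Eq.trans ?_ (hε M ((e.hom.app M).hom x))
    show _ = (e'.hom.app M).hom ((η.app M).hom ((e.inv.app M).hom ((e.hom.app M).hom x)))
    exact congrArg (fun z => (e'.hom.app M).hom ((η.app M).hom z)) (congr($(e.hom_inv_id_app M) x)).symm
  refine ⟨Limits.cokernel a,
    (linearCoyoneda A (ModuleCat.{u} A)).map (Limits.cokernel.π a).op ≫ e.inv, ?_, fun M => ?_, fun M x => ?_⟩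
  · exact Module.Finite.of_surjective (Limits.cokernel.π a).hom
      ((ModuleCat.epi_iff_surjective _).1 inferInstance)
  · intro y y' h
    exact (cancel_epi (Limits.cokernel.π a)).1
      ((ConcreteCategory.bijective_of_isIso (e.inv.app M)).1 h)
  · constructor
    · intro h
      have h2 : a ≫ (e.hom.app M).hom x = 0 :=
        ((h1 M x).symm.trans (congrArg (e'.hom.app M).hom h)).trans (map_zero _)
      refine ⟨Limits.cokernel.desc a _ h2, ?_⟩
      show (e.inv.app M).hom (Limits.cokernel.π a ≫ Limits.cokernel.desc a _ h2) = x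
      exact (congrArg (e.inv.app M).hom (Limits.cokernel.π_desc a _ h2)).trans (congr($(e.hom_inv_id_app M) x))
    · rintro ⟨y, rfl⟩
      refine (ConcreteCategory.bijective_of_isIso (e'.hom.app M)).1 ?_
      show (e'.hom.app M).hom _ = (e'.hom.app M).hom 0
      rw [h1, map_zero]
      have hx : (e.hom.app M).hom ((e.inv.app M).hom (Limits.cokernel.π a ≫ y)) = Limits.cokernel.π a ≫ y :=
        congr($(e.inv_hom_id_app M) (Limits.cokernel.π a ≫ y))
      show a ≫ (e.hom.app M).hom ((e.inv.app M).hom (Limits.cokernel.π a ≫ y)) = 0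
      refine (congrArg (fun z => a ≫ z) hx).trans ?_
      exact ((Category.assoc _ _ _).symm.trans (congrArg (fun z => z ≫ y) (Limits.cokernel.condition a))).trans
        Limits.zero_comp

end Groth.Agent.S4498
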