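import Groth.Statements.S4754
import Groth.Agent.FormalFib6.Transfer

set_option autoImplicit false
universe u
open EGA4

namespace Groth.Agent.S4754

/-- For the property 'geometrically normal', case of a local ring: if the formal fibres of a Noetherian
local ring A are geometrically normal, then so are the formal fibres of A/I for every proper ideal I
of A. -/
theorem result (A : Type u) [CommRing A] [IsNoetherianRing A] [IsLocalRing A]
    (hA : EGA4.HasGeomNormalFormalFibres A) (I : Ideal A) [Nontrivial (A ⧸ I)] :
    EGA4.HasGeomNormalFormalFibres (A ⧸ I) := by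
  haveI : IsLocalRing (A ⧸ I) := .of_surjective' _ Ideal.Quotient.mk_surjective
  obtain ⟨e⟩ := Groth.Agent.FormalFib6.exists_cplQuotEquiv A (A ⧸ I) Ideal.Quotient.mk_surjective
  haveI := Groth.Agent.FlatLoc6.isNoetherianRing_cpl A
  haveI := Groth.Agent.FlatLoc6.faithfullyFlat_cpl A
  exact (Groth.Agent.FormalFib6.isNormalHom_of_algEquiv e
    (Groth.Agent.FlatLoc6.isNormalHom_baseChange_ess A (EGA4.Cpl A) (A ⧸ I) ⟨inferInstance, hA⟩)).2

end Groth.Agent.S4754
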