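import Groth.Statements.S4564
import Groth.Agent.CompleteNagata.Complete
import Groth.Agent.FormCat.HenselDomain
import Groth.Agent.Adic7.Basic
import Groth.Agent.S9604

set_option autoImplicit false
universe u
open CAlg

namespace Groth.Agent.S4564

/-- Let A be a complete Noetherian local domain with fraction field K and K' a finite extension of K.
Then the integral closure of A in K' is a local ring, complete for the adic topology of its maximal
ideal. -/
theorem result {A K' : Type u} [CommRing A]
    [IsDomain A] [IsLocalRing A] [IsNoetherianRing A] [IsAdicComplete (IsLocalRing.maximalIdeal A) A]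
    [Field K'] [Algebra A K'] [Algebra (FractionRing A) K'] [IsScalarTower A (FractionRing A) K']
    [FiniteDimensional (FractionRing A) K'] :
    ∃ _ : IsLocalRing (integralClosure A K'),
      IsAdicComplete (IsLocalRing.maximalIdeal (integralClosure A K')) (integralClosure A K') := by
    let R' := integralClosure A K'
    haveI : Module.Finite A R' := CompleteNagata.isN2_of_complete A K' inferInstance
    haveI : HenselianRing A (IsLocalRing.maximalIdeal A) := inferInstance
    haveI : HenselianLocalRing A := Hensel.henselianLocalRing_of_henselianRing _
    haveI hl := FormCat.isLocalRing_of_finite_domain A R'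
    refine ⟨hl, ?_⟩
    haveI : IsNoetherianRing R' := IsNoetherianRing.of_finite A R'
    let I := (IsLocalRing.maximalIdeal A).map (algebraMap A R')
    haveI : IsAdicComplete (IsLocalRing.maximalIdeal A) R' := Adic7.isAdicComplete_of_finite (IsLocalRing.maximalIdeal A) R'
    haveI hI : IsAdicComplete I R' := (IsAdicComplete.map_algebraMap_iff (S := R') _ R').mpr inferInstance
    have hle : I ≤ IsLocalRing.maximalIdeal R' := IsLocalRing.le_maximalIdeal fun h => by
      have h1 := IsAdicComplete.le_jacobson_bot I
      rw [h, top_le_iff, Ideal.jacobson_eq_top_iff] at h1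
      exact bot_ne_top h1
    have hrad : IsLocalRing.maximalIdeal R' ≤ I.radical := by
      rw [Ideal.radical_eq_sInf, le_sInf_iff]
      rintro P ⟨hP, hPp⟩
      haveI : P.IsPrime := hPp
      have hc : (P.comap (algebraMap A R')).IsMaximal := by
        rw [← (IsLocalRing.maximalIdeal.isMaximal A).eq_of_le (Ideal.IsPrime.ne_top inferInstance)
          (Ideal.map_le_iff_le_comap.mp hP)]
        infer_instance
      exact (IsLocalRing.eq_maximalIdeal (Ideal.isMaximal_of_isIntegral_of_isMaximal_comap P hc)).ge
    obtain ⟨n, hn⟩ := Ideal.exists_pow_le_of_le_radical_of_fg hrad (IsNoetherian.noetherian _)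
    exact (S9604.result I (IsLocalRing.maximalIdeal R') 1 (n + 1) one_pos n.succ_pos (by rwa [pow_one])
      ((Ideal.pow_le_pow_right n.le_succ).trans hn) R').mp hI

end Groth.Agent.S4564
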