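import Groth.Statements.S9255
import Groth.Agent.RegLoc6.FlatDescent
import Groth.Agent.GenFree.Basic
import Mathlib.RingTheory.Localization.Finiteness
import Mathlib.RingTheory.RingHom.FiniteType
import Mathlib.RingTheory.Flat.Stability
import Mathlib.RingTheory.Localization.LocalizationLocalization

set_option autoImplicit false
universe u
open EGA4

namespace Groth.Agent.S9255

/-- Let R be a Noetherian domain and R → S an injective ring map of finite type with S a domain. If the
regular locus of Spec S contains a nonempty open subset, then the regular locus of Spec R contains a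
nonempty open subset. -/
theorem result (R S : Type u) [CommRing R]
    [IsDomain R] [IsNoetherianRing R] [CommRing S] [IsDomain S] [Algebra R S] [Algebra.FiniteType R S]
    (hinj : Function.Injective (algebraMap R S))
    (hS : ∃ U : Set (PrimeSpectrum S), IsOpen U ∧ U.Nonempty ∧ U ⊆ EGA4.regLocus S) :
    ∃ U : Set (PrimeSpectrum R), IsOpen U ∧ U.Nonempty ∧ U ⊆ EGA4.regLocus R := by
  classical
  obtain ⟨U, hUo, ⟨w, hwU⟩, hU⟩ := hS
  obtain ⟨_, ⟨g, rfl⟩, hgw, hgU⟩ :=
    PrimeSpectrum.isTopologicalBasis_basic_opens.exists_subset_of_mem_open hwU hUo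
  have hg0 : g ≠ 0 := fun h => hgw (h ▸ w.asIdeal.zero_mem)
  let S' := Localization.Away g
  haveI : Algebra.FiniteType S S' := IsLocalization.finiteType_of_monoid_fg (Submonoid.powers g) S'
  haveI : Algebra.FiniteType R S' := Algebra.FiniteType.trans (S := S) ‹_› ‹_›
  have hS'dom : IsDomain S' :=
    IsLocalization.isDomain_localization (Submonoid.powers_le.mpr (mem_nonZeroDivisors_of_ne_zero hg0))
  have hinj' : Function.Injective (algebraMap R S') := by
    rw [IsScalarTower.algebraMap_eq R S S']
    exact (IsLocalization.injective S'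
      (Submonoid.powers_le.mpr (mem_nonZeroDivisors_of_ne_zero hg0))).comp hinj
  obtain ⟨f, hf0, ι, φ, hφ, hrange⟩ := Groth.Agent.GenFree.exists_gfree (R := R) (M := S') S'
  refine ⟨PrimeSpectrum.basicOpen f, PrimeSpectrum.isOpen_basicOpen,
    ⟨⟨⊥, Ideal.bot_prime⟩, by simpa using hf0⟩, fun p hp => ?_⟩
  have hfp : f ∉ p.asIdeal := hp
  -- the prime `p` is the contraction of a prime of `S'`
  have hcm : (p.asIdeal.map (algebraMap R S')).comap (algebraMap R S') = p.asIdeal := by
    refine le_antisymm (fun r hr => ?_) Ideal.le_comap_map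
    obtain ⟨i⟩ : Nonempty ι := by
      by_contra hι
      rw [not_nonempty_iff] at hι
      obtain ⟨k, c, hc⟩ := hrange 1
      rw [Subsingleton.elim c 0, map_zero, eq_comm, Algebra.smul_def, mul_one] at hc
      exact pow_ne_zero k hf0 (hinj' (hc.trans (map_zero _).symm))
    have key : ∀ z ∈ p.asIdeal • (⊤ : Submodule R S'),
        ∃ k : ℕ, ∃ c ∈ p.asIdeal • (⊤ : Submodule R (ι →₀ R)), φ c = f ^ k • z := by
      intro z hz
      refine Submodule.smul_induction_on (p := fun z => ∃ k : ℕ, ∃ c ∈ p.asIdeal • (⊤ : Submodule R (ι →₀ R)), φ c = f ^ k • z) hz (fun a ha m _ => ?_) (fun a b ha hb => ?_)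
      · obtain ⟨k, c, hc⟩ := hrange m
        exact ⟨k, a • c, Submodule.smul_mem_smul ha Submodule.mem_top,
          by rw [map_smul, hc, smul_comm]⟩
      ·
        obtain ⟨k, c, hc, hc'⟩ := ha
        obtain ⟨l, d, hd, hd'⟩ := hb
        refine ⟨k + l, f ^ l • c + f ^ k • d,
          add_mem (Submodule.smul_mem _ _ hc) (Submodule.smul_mem _ _ hd), ?_⟩
        rw [map_add, map_smul, map_smul, hc', hd', smul_add, smul_smul, smul_smul, ← pow_add,
          ← pow_add, add_comm l k]
    have hm : r • φ (Finsupp.single i 1) ∈ p.asIdeal • (⊤ : Submodule R S') := by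
      rw [Ideal.smul_top_eq_map, Submodule.restrictScalars_mem, Algebra.smul_def]
      exact Ideal.mul_mem_right _ _ hr
    obtain ⟨k, c, hc, hc'⟩ := key _ hm
    rw [← map_smul, ← map_smul] at hc'
    have hc'' := hφ hc'
    have hi : c i ∈ p.asIdeal := by
      have : Submodule.map (Finsupp.lapply i) (p.asIdeal • (⊤ : Submodule R (ι →₀ R))) ≤
          (p.asIdeal : Submodule R R) := by
        rw [Submodule.map_smul'']
        exact Submodule.smul_le.mpr fun a ha b _ => Ideal.mul_mem_right _ _ ha
      exact this ⟨c, hc, rfl⟩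
    rw [hc''] at hi
    simp only [Finsupp.smul_apply, Finsupp.single_eq_same, smul_eq_mul, mul_one] at hi
    exact (p.isPrime.mem_or_mem hi).resolve_left fun h => hfp (p.isPrime.mem_of_pow_mem k h)
  obtain ⟨q, hq, hqp⟩ := (Ideal.comap_map_eq_self_iff_of_isPrime _).mp hcm
  -- after inverting `f` the algebra `S'` is flat
  let T := Algebra.algebraMapSubmonoid S' (Submonoid.powers f)
  let S'' := Localization T
  let ψ : (ι →₀ R) →ₗ[R] S'' := (IsScalarTower.toAlgHom R S' S'').toLinearMap.comp φ
  have hunit : ∀ x : Submonoid.powers f, IsUnit (algebraMap R S'' x.1) := fun x => by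
    rw [IsScalarTower.algebraMap_apply R S' S'']
    exact IsLocalization.map_units S'' (⟨_, Submonoid.mem_map_of_mem _ x.2⟩ : T)
  have hfS' : ∀ n : ℕ, algebraMap R S' f ^ n ≠ 0 := fun n =>
    pow_ne_zero n fun h => hf0 (hinj' (h.trans (map_zero _).symm))
  haveI : IsLocalizedModule (Submonoid.powers f) ψ := by
    refine IsLocalizedModule.mk (fun x => ?_) (fun y => ?_) (fun {a b} hab => ?_)
    · rw [Module.End.isUnit_iff]
      obtain ⟨u, hu⟩ := hunit x
      have heq : ∀ z : S'', algebraMap R (Module.End R S'') x.1 z = (u : S'') * z := fun z => by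
        rw [Module.algebraMap_end_apply, Algebra.smul_def, hu]
      exact ⟨fun z z' h => by rwa [heq, heq, Units.mul_right_inj] at h,
        fun z => ⟨(↑u⁻¹ : S'') * z, by rw [heq, Units.mul_inv_cancel_left]⟩⟩
    · obtain ⟨a, s, rfl⟩ := IsLocalization.exists_mk'_eq T y
      obtain ⟨_, ⟨x, hx, hxs⟩⟩ := s
      obtain ⟨n, rfl⟩ := (Submonoid.mem_powers_iff _ _).mp hx
      obtain ⟨k, c, hc⟩ := hrange a
      refine ⟨⟨c, ⟨f ^ (k + n), ⟨k + n, rfl⟩⟩⟩, ?_⟩
      show f ^ (k + n) • IsLocalization.mk' S'' a _ = algebraMap S' S'' (φ c)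
      rw [hc, Algebra.smul_def (f ^ k) a, Algebra.smul_def, map_mul,
        ← IsScalarTower.algebraMap_apply R S' S'', pow_add, map_mul, mul_assoc]
      congr 1
      subst hxs
      rw [IsScalarTower.algebraMap_apply R S' S'']
      exact IsLocalization.mk'_spec' S'' a (⟨algebraMap R S' (f ^ n), Submonoid.mem_map_of_mem _ hx⟩ : T)
    · refine ⟨1, ?_⟩
      simp only [one_smul]
      refine hφ ?_
      refine IsLocalization.injective (M := T) S'' ?_ hab
      rintro _ ⟨x, ⟨n, rfl⟩, rfl⟩
      exact mem_nonZeroDivisors_of_ne_zero (by rw [map_pow]; exact hfS' n)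
  haveI : Module.Flat R S'' := by
    haveI : Module.Flat R (LocalizedModule (Submonoid.powers f) (ι →₀ R)) := by
      haveI : Module.Flat (Localization (Submonoid.powers f))
          (LocalizedModule (Submonoid.powers f) (ι →₀ R)) :=
        Module.Flat.of_isLocalizedModule (Localization (Submonoid.powers f)) (Submonoid.powers f)
          (LocalizedModule.mkLinearMap (Submonoid.powers f) (ι →₀ R))
      haveI : Module.Flat R (Localization (Submonoid.powers f)) :=
        IsLocalization.flat _ (Submonoid.powers f)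
      exact Module.Flat.trans R (Localization (Submonoid.powers f)) _
    exact Module.Flat.of_linearEquiv (IsLocalizedModule.iso (Submonoid.powers f) ψ).symm
  have hdisj : Disjoint (T : Set S') (q : Set S') := by
    rw [Set.disjoint_left]
    rintro _ ⟨x, ⟨n, rfl⟩, rfl⟩ hxq
    exact hfp (p.isPrime.mem_of_pow_mem n (by rw [← hqp]; exact hxq))
  let Q := q.map (algebraMap S' S'')
  haveI : Q.IsPrime := IsLocalization.isPrime_of_isPrime_disjoint T S'' q hq hdisj
  have hQq : Q.comap (algebraMap S' S'') = q :=
    IsLocalization.under_map_of_isPrime_disjoint T S'' hq hdisj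
  refine Groth.Agent.RegLoc6.regular_under_of_flat Q p.asIdeal ?_ ?_
  · rw [IsScalarTower.algebraMap_eq R S' S'', ← Ideal.comap_comap, hQq, hqp]
  · -- the local ring of `S''` at `Q` is a local ring of `S`
    haveI : (Q.comap (algebraMap S' S'')).IsPrime := hQq.symm ▸ hq
    haveI hP : ((Q.comap (algebraMap S' S'')).comap (algebraMap S S')).IsPrime := Ideal.IsPrime.comap _
    have hgq : g ∉ (q.comap (algebraMap S S')) := fun h =>
      hq.ne_top (Ideal.eq_top_of_isUnit_mem _ h
        (IsLocalization.map_units S' (⟨g, Submonoid.mem_powers g⟩ : Submonoid.powers g)))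
    haveI hreg : IsRegularLocalRing
        (Localization.AtPrime ((Q.comap (algebraMap S' S'')).comap (algebraMap S S'))) :=
      hU (hgU (show g ∉ (Q.comap (algebraMap S' S'')).comap (algebraMap S S') by rw [hQq]; exact hgq)
        : (⟨_, hP⟩ : PrimeSpectrum S) ∈ U)
    haveI : IsRegularLocalRing (Localization.AtPrime (Q.comap (algebraMap S' S''))) :=
      IsRegularLocalRing.of_ringEquiv
        (IsLocalization.localizationLocalizationAtPrimeIsoLocalization (Submonoid.powers g)
          (Q.comap (algebraMap S' S''))).toRingEquiv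
    exact IsRegularLocalRing.of_ringEquiv
      (IsLocalization.localizationLocalizationAtPrimeIsoLocalization T Q).toRingEquiv

end Groth.Agent.S9255
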