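import Groth.Statements.S5988
import Groth.Agent.CplKaehler4.Finite
import Groth.Agent.CplKaehler4.Rank
import Groth.Agent.CplKaehler4.Imperf
import Groth.Agent.CplKaehler4.PSInt

set_option autoImplicit false
universe u
open scoped TensorProduct
open EGA418

namespace Groth.Agent.S5988

/-- Let k be a field of characteristic p > 0, C a complete Noetherian local k-algebra which is an
integral domain whose residue field is a finite extension of k, n the dimension of C and L a
fraction field of C. Let Υ be the module of imperfection of L over k, namely the kernel of the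
canonical map L ⊗_k Ω_k ⟶ Ω_L on absolute differentials. Then Υ is a finite-dimensional L-vector
space and dim_L Ω_{L/k} ≥ n + dim_L Υ, the dimension of Ω_{L/k} being taken as a cardinal. (The
published statement also asserts that Ω_{L/k} is finite-dimensional; this row does not, since that
fails when k has infinite degree over its subfield of p-th powers: for k = F_p(t_1, t_2, …) and C =
k[[T]] the L-vector space Ω_{L/k} is infinite-dimensional. The published proof establishes exactly
the finiteness of Υ and the inequality, through a power-series subalgebra k[[T_1, …, T_n]] of C over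
which C is finite.) -/
theorem result (p : ℕ) [Fact p.Prime]
    (k C L : Type u) [Field k] [CharP k p] [CommRing C] [IsDomain C] [IsNoetherianRing C] [IsLocalRing C]
    [Algebra k C] [IsAdicComplete (IsLocalRing.maximalIdeal C) C]
    [Module.Finite k (IsLocalRing.ResidueField C)] (n : ℕ) (hn : ringKrullDim C = n)
    [Field L] [Algebra C L] [IsFractionRing C L] [Algebra k L] [IsScalarTower k C L] :
    Module.Finite L (LinearMap.ker (KaehlerDifferential.mapBaseChange ℤ k L)) ∧
      (n : Cardinal.{u}) + Module.rank L (LinearMap.ker (KaehlerDifferential.mapBaseChange ℤ k L)) ≤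
        Module.rank L (Ω[L⁄k]) := by
  classical
  obtain ⟨r, x, hx, hr, hrad⟩ := Groth.Agent.CohenLib.exists_fin_sop C
  obtain rfl : n = r := by exact_mod_cast hn.symm.trans hr
  obtain ⟨ψ, -, hfin, -⟩ := Groth.Agent.CplKaehler4.exists_algHom_finite k x hx hrad
  let P := MvPowerSeries (Fin n) k
  letI : Algebra P C := ψ.toRingHom.toAlgebra
  haveI : IsScalarTower k P C := IsScalarTower.of_algebraMap_eq fun c => (ψ.commutes c).symm
  haveI : Module.Finite P C := hfin
  haveI : IsDomain P := NoZeroDivisors.to_isDomain _
  have hinj : Function.Injective (algebraMap P C) :=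
    Groth.Agent.CohenLib.injective_of_finite ψ.toRingHom hfin hn (Groth.Agent.PSLib.ringKrullDim_eq k n).le
  letI : Algebra P L := ((algebraMap C L).comp (algebraMap P C)).toAlgebra
  haveI : IsScalarTower P C L := IsScalarTower.of_algebraMap_eq fun _ => rfl
  haveI : FaithfulSMul P L := (faithfulSMul_iff_algebraMap_injective _ _).2
    ((IsFractionRing.injective C L).comp hinj)
  let K₀ := FractionRing P
  letI : Algebra K₀ L := FractionRing.liftAlgebra P L
  haveI : IsScalarTower k K₀ L := IsScalarTower.of_algebraMap_eq fun c => by
    rw [IsScalarTower.algebraMap_apply k P K₀, ← IsScalarTower.algebraMap_apply P K₀ L,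
      IsScalarTower.algebraMap_apply P C L, ← IsScalarTower.algebraMap_apply k P C,
      ← IsScalarTower.algebraMap_apply]
  haveI : Module.Finite K₀ L := Groth.Agent.CplKaehler4.finite_fractionField P C K₀ L
  obtain ⟨δ, hδ, -⟩ := Groth.Agent.CplKaehler4.exists_delta k n
  exact Groth.Agent.CplKaehler4.rank_kaehler_ge k K₀ L (Groth.Agent.CplKaehler4.injective_mapBaseChange_int k n) δ hδ

end Groth.Agent.S5988
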