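import Groth.Statements.S5989
import Groth.Agent.CplKaehler4.Finite
import Groth.Agent.CplKaehler4.Rank
import Groth.Agent.CplKaehler4.Imperf
import Groth.Agent.CplKaehler4.PSInt

set_option autoImplicit false
universe u
open scoped TensorProduct
open EGA418

namespace Groth.Agent.S5989

/-- Let k be a field of characteristic p > 0 such that k is finite over its subfield k^p of p-th powers
(the Frobenius endomorphism of k is a finite ring map), C a complete Noetherian local k-algebra
which is an integral domain whose residue field is a finite extension of k, n the dimension of C, L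
a fraction field of C and Υ the module of imperfection of L over k (the kernel of L ⊗_k Ω_k ⟶ Ω_L on
absolute differentials). Then dim_L Ω_{L/k} = n + dim_L Υ, and the module of differentials Ω_{C/k}
is a finitely generated C-module. -/
theorem result (p : ℕ) [Fact p.Prime]
    (k C L : Type u) [Field k] [CharP k p] (hk : (frobenius k p).Finite) [CommRing C] [IsDomain C]
    [IsNoetherianRing C] [IsLocalRing C] [Algebra k C] [IsAdicComplete (IsLocalRing.maximalIdeal C) C]
    [Module.Finite k (IsLocalRing.ResidueField C)] (n : ℕ) (hn : ringKrullDim C = n)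
    [Field L] [Algebra C L] [IsFractionRing C L] [Algebra k L] [IsScalarTower k C L] :
    Module.finrank L (Ω[L⁄k]) =
        n + Module.finrank L (LinearMap.ker (KaehlerDifferential.mapBaseChange ℤ k L)) ∧
      Module.Finite C (Ω[C⁄k]) := by
  classical
  obtain ⟨r, x, hx, hr, hrad⟩ := Groth.Agent.CohenLib.exists_fin_sop C
  obtain rfl : n = r := by exact_mod_cast hn.symm.trans hr
  obtain ⟨ψ, -, hfin, -⟩ := Groth.Agent.CplKaehler4.exists_algHom_finite k x hx hrad
  let P := MvPowerSeries (Fin n) k
  letI : Algebra P C := ψ.toRingHom.toAlgebra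
  haveI : IsScalarTower k P C := IsScalarTower.of_algebraMap_eq fun c => (ψ.commutes c).symm
  haveI : Module.Finite P C := hfin
  haveI : IsDomain P := NoZeroDivisors.to_isDomain _
  have hinj : Function.Injective (algebraMap P C) :=
    Groth.Agent.CohenLib.injective_of_finite ψ.toRingHom hfin hn (Groth.Agent.PSLib.ringKrullDim_eq k n).le
  letI : Algebra P L := ((algebraMap C L).comp (algebraMap P C)).toAlgebra
  haveI : IsScalarTower P C L := IsScalarTower.of_algebraMap_eq fun _ => rfl
  haveI : FaithfulSMul P L := (faithfulSMul_iff_algebraMap_injective _ _).2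
    ((IsFractionRing.injective C L).comp hinj)
  let K₀ := FractionRing P
  letI : Algebra K₀ L := FractionRing.liftAlgebra P L
  haveI : IsScalarTower k K₀ L := IsScalarTower.of_algebraMap_eq fun c => by
    rw [IsScalarTower.algebraMap_apply k P K₀, ← IsScalarTower.algebraMap_apply P K₀ L,
      IsScalarTower.algebraMap_apply P C L, ← IsScalarTower.algebraMap_apply k P C,
      ← IsScalarTower.algebraMap_apply]
  haveI : Module.Finite K₀ L := Groth.Agent.CplKaehler4.finite_fractionField P C K₀ L
  have hspan := Groth.Agent.CplKaehler4.span_dX_eq_top k n p hk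
  haveI : Module.Finite P (Ω[P⁄k]) := ⟨hspan ▸ Submodule.fg_span (Set.finite_range _)⟩
  refine ⟨?_, ?_⟩
  · obtain ⟨δ, hδ, -⟩ := Groth.Agent.CplKaehler4.exists_delta k n
    have hspan' := span_eq_top_of_isLocalizedModule K₀ (nonZeroDivisors P)
      (KaehlerDifferential.map k k P K₀) hspan
    haveI : Module.Finite K₀ (Ω[K₀⁄k]) := ⟨hspan' ▸ Submodule.fg_span ((Set.finite_range _).image _)⟩
    have h1 : Module.finrank K₀ (Ω[K₀⁄k]) = n := by
      refine le_antisymm ?_ ?_
      · have h := finrank_range_le_card (R := K₀) fun i : Fin n =>
          KaehlerDifferential.map k k P K₀ (KaehlerDifferential.D k P (MvPowerSeries.X i))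
        rw [Set.finrank, Set.range_comp' (KaehlerDifferential.map k k P K₀), hspan', finrank_top, Fintype.card_fin] at h
        exact h
      · have h := δ.finrank_range_add_finrank_ker
        rw [LinearMap.range_eq_top.2 hδ, finrank_top, Module.finrank_fin_fun] at h
        exact le_of_le_of_eq (Nat.le_add_right _ _) h
    have h2 := Groth.Agent.CplKaehler4.finrank_kaehler_eq_of_finrank k K₀ L
      (Groth.Agent.CplKaehler4.injective_mapBaseChange_int k n)
    rwa [h1] at h2
  · haveI : Algebra.FiniteType P C := Module.Finite.finiteType C
    refine ⟨Submodule.fg_of_fg_map_of_fg_inf_ker (KaehlerDifferential.map k P C C) ?_ ?_⟩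
    · rw [Submodule.map_top, LinearMap.range_eq_top.2 (KaehlerDifferential.map_surjective k P C)]
      exact Module.Finite.fg_top
    · rw [top_inf_eq, (KaehlerDifferential.exact_mapBaseChange_map k P C).linearMap_ker_eq]
      exact (Submodule.fg_top _).1 (Module.Finite.range (KaehlerDifferential.mapBaseChange k P C)).fg_top

end Groth.Agent.S5989
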