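import Groth.Statements.S5074
import Groth.Agent.CplKaehler4.PointFree
import Groth.Agent.CplKaehler4.CharZeroBound
import Groth.Agent.CplKaehler4.FiniteBound

set_option autoImplicit false
universe u
open EGA418

namespace Groth.Agent.S5074

/-- Let k be a field of characteristic exponent p such that k is finite over k^p (the Frobenius
endomorphism of k is a finite ring map), A a complete Noetherian local k-algebra whose residue field
is a finite extension of k, and P a prime ideal of A such that A_P is geometrically regular over k.
Then for every minimal prime q of A contained in P (there is exactly one), the A_P-module obtained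
by localising at P the completion of the module of differentials of A over k is free of rank equal
to dim(A/q). -/
theorem result (p : ℕ) (k A : Type u) [Field k] [ExpChar k p]
    (hk : (frobenius k p).Finite) [CommRing A] [IsLocalRing A] [IsNoetherianRing A] [Algebra k A]
    [IsAdicComplete (IsLocalRing.maximalIdeal A) A] [Module.Finite k (IsLocalRing.ResidueField A)]
    (P : Ideal A) [P.IsPrime] (hP : CAlg.IsGeometricallyRegular k (Localization.AtPrime P))
    (q : Ideal A) (hq : q ∈ minimalPrimes A) (hqP : q ≤ P) (n : ℕ) (hn : ringKrullDim (A ⧸ q) = n) :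
    Module.Free (Localization.AtPrime P) (LocalizedModule P.primeCompl (AdicCompletion (IsLocalRing.maximalIdeal A) (KaehlerDifferential k A))) ∧
      Module.finrank (Localization.AtPrime P) (LocalizedModule P.primeCompl (AdicCompletion (IsLocalRing.maximalIdeal A) (KaehlerDifferential k A))) = n := by
  classical
  haveI := Groth.Agent.FlatLoc6.isRegularRing_of_geometricallyRegular hP
  haveI : IsRegularLocalRing (Localization.AtPrime P) := IsRegularLocalRing.of_isRegularRing_of_isLocalRing _
  haveI := Groth.Agent.RegLoc6.isDomain_of_isRegularLocalRing (Localization.AtPrime P)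
  obtain ⟨c, t, ht, hc, -⟩ := Groth.Agent.CohenLib.exists_fin_sop (Localization.AtPrime P)
  haveI : Nontrivial (A ⧸ P) := Ideal.Quotient.nontrivial_iff.2 (Ideal.IsPrime.ne_top inferInstance)
  haveI : IsLocalRing (A ⧸ P) := .of_surjective' (Ideal.Quotient.mk P) Ideal.Quotient.mk_surjective
  obtain ⟨s, -, -, hs, -⟩ := Groth.Agent.CohenLib.exists_fin_sop (A ⧸ P)
  have hsum := Groth.Agent.CplKaehler4.ringKrullDim_quot_eq P hq hqP
  rw [hn, hs, hc] at hsum
  have hn' : n = s + c := by exact_mod_cast hsum
  refine Groth.Agent.CplKaehler4.free_of_finrank_le k A P hq hqP hn ?_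
  subst hn'
  rcases ‹ExpChar k p› with _ | hp
  · -- characteristic zero
    obtain ⟨G, hGc, hG⟩ := Submodule.FG.exists_span_finset_card_eq_spanFinrank
      (IsNoetherian.noetherian (IsLocalRing.maximalIdeal (Localization.AtPrime P)))
    have hreg := (isRegularLocalRing_iff (Localization.AtPrime P)).mp inferInstance
    rw [hc] at hreg
    have hcard : G.card = c := by
      have : ((IsLocalRing.maximalIdeal (Localization.AtPrime P)).spanFinrank : WithBot ℕ∞) = (c : WithBot ℕ∞) := hreg
      rw [← hGc] at this
      exact_mod_cast this
    choose a ha using fun g : G => IsLocalization.surj P.primeCompl (g : Localization.AtPrime P)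
    let x : Fin c → A := fun i => (a ((G.equivFinOfCardEq hcard).symm i)).1
    have hmem : ∀ i, x i ∈ P := by
      intro i
      let g := (G.equivFinOfCardEq hcard).symm i
      have hg : (g : Localization.AtPrime P) ∈ IsLocalRing.maximalIdeal (Localization.AtPrime P) :=
        hG ▸ Submodule.subset_span g.2
      rw [← IsLocalization.AtPrime.to_map_mem_maximal_iff (Localization.AtPrime P) P]
      show algebraMap A _ (a g).1 ∈ _
      rw [← ha g]
      exact Ideal.mul_mem_right _ _ hg
    have hspan : ∀ z ∈ P, ∃ w ∉ P, w * z ∈ Ideal.span (Set.range x) := by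
      intro z hz
      have h1 : algebraMap A (Localization.AtPrime P) z ∈
          (Ideal.span (Set.range x)).map (algebraMap A (Localization.AtPrime P)) := by
        have hle : Submodule.span (Localization.AtPrime P) (G : Set (Localization.AtPrime P)) ≤
            (Ideal.span (Set.range x)).map (algebraMap A (Localization.AtPrime P)) := by
          refine Submodule.span_le.2 fun g hg => ?_
          have h := ha ⟨g, hg⟩
          refine (Ideal.mul_unit_mem_iff_mem _ (IsLocalization.map_units _ (a ⟨g, hg⟩).2)).1 ?_
          rw [show g * algebraMap A _ ((a ⟨g, hg⟩).2 : A) = algebraMap A _ (a ⟨g, hg⟩).1 from h]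
          refine Ideal.mem_map_of_mem _ (Ideal.subset_span ⟨G.equivFinOfCardEq hcard ⟨g, hg⟩, ?_⟩)
          show (a _).1 = _
          rw [Equiv.symm_apply_apply]
        refine hle ?_
        rw [hG]
        exact (IsLocalization.AtPrime.to_map_mem_maximal_iff (Localization.AtPrime P) P z).2 hz
      obtain ⟨w, hw, hwz⟩ := (IsLocalization.algebraMap_mem_map_algebraMap_iff P.primeCompl _ _ z).1 h1
      exact ⟨w, hw, hwz⟩
    exact (Groth.Agent.CplKaehler4.finrank_fibre_le_of_charZero k A P hs x hspan hmem).trans (by omega)
  · haveI : Fact p.Prime := ⟨hp⟩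
    exact Groth.Agent.CplKaehler4.finrank_fibre_le_of_fFinite p k A hk P hP hs hc

end Groth.Agent.S5074
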