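import Groth.Statements.S0229
import Groth.Agent.GalCd13.Primary
import Groth.Agent.TsenLib.Norm
import Groth.Agent.GalCohMisc.NormOne

set_option autoImplicit false
set_option backward.isDefEq.respectTransparency false
set_option backward.isDefEq.respectTransparency.types false
universe u
open CategoryTheory CategoryTheory.Limits AlgebraicGeometry
open Curves

namespace Groth.Agent.S0229

/-- For a field K of transcendence degree one over an algebraically closed field, G_m on the small étale
site of Spec K has no cohomology in positive degrees. -/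
theorem result (k : Type u) [Field k] [IsAlgClosed k] (K : Type u) [Field K] [Algebra k K]
    (hK : Algebra.trdeg k K = 1) (q : ℕ) (hq : 1 ≤ q) :
    Subsingleton (EtCoh.H (Spec (CommRingCat.of K)) (EtCoh.Gm (Spec (CommRingCat.of K))) q) := by
  have hK1 : Curves.IsCr K 1 := Groth.Agent.TsenLib.isCr_one_of_isCi
    (Groth.Agent.TsenLib.tsen_lang (k := k) (j := 1) (by simpa using hK))
  refine subsingleton_of_forall_eq 0 fun x => ?_
  obtain ⟨N, hN, hNx⟩ := EtTrace.exists_nsmul_H_field _ hq x
  refine GalCd13.eq_zero_of_primary (fun ℓ hℓ b y hy => ?_) N hN x hNx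
  haveI : Fact ℓ.Prime := ⟨hℓ⟩
  have hS : GalCd13.NormSurj ℓ K := by
    intro E L _ _ _ _ _ _ _ _ _ _ _ _ z _
    haveI : FiniteDimensional E L := Module.Finite.of_restrictScalars_finite K E L
    exact GalCohMisc.norm_surjective_of_isCr (TsenLib.isCr_one_of_finite hK1) z
  obtain rfl | rfl | hq3 : q = 1 ∨ q = 2 ∨ 2 < q := by omega
  · haveI : Nonempty (Spec (CommRingCat.of K)) := inferInstanceAs (Nonempty (PrimeSpectrum K))
    haveI : Subsingleton (Spec (CommRingCat.of K)) := inferInstanceAs (Subsingleton (PrimeSpectrum K))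
    haveI := EtTrace.subsingleton_H1_Gm_point (Spec (CommRingCat.of K))
    exact Subsingleton.elim _ _
  · exact GalCd13.eq_zero_Gm_primary hS y hy
  · refine EtTrace.eq_zero_of_pow_smul_eq_zero (n := 1) hℓ.pos (fun G hG j hj z hz => ?_) _ hq3 y hy
    obtain ⟨m, hm⟩ := hz
    by_cases hℓ0 : (ℓ : K) = 0
    · exact GalCd13.cd_le (GalCd13.coprimeVanish_of_charP hℓ0) G hG hj z hm
    · exact GalCd13.cd_le (GalCd13.coprimeVanish_of_normSurj hS hℓ0) G hG hj z hm

end Groth.Agent.S0229
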