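import Groth.Statements.S13507
import Groth.Agent.EtLC12.MuConst
import Mathlib.RingTheory.Henselian
-- import your own Groth.Agent.* helpers here

set_option autoImplicit false
universe u
open CategoryTheory CategoryTheory.Limits AlgebraicGeometry
open EtCore

namespace Groth.Agent.S13507

/-- Let S be a scheme and n ≥ 1 with n invertible in the ring of global functions Γ(S, O_S). If Γ(S,
O_S) contains a root ζ of the n-th cyclotomic polynomial, then the sheaf μ_n of n-th roots of unity
on the small étale site of S is isomorphic to the constant sheaf with value Z/n (existence of an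
isomorphism only; the published isomorphism is the one sending 1 to ζ). -/
theorem result (S : Scheme.{u}) (n : ℕ) (hn : 1 ≤ n)
    (hunit : IsUnit (n : Γ(S, ⊤))) (ζ : Γ(S, ⊤))
    (hζ : Polynomial.aeval ζ (Polynomial.cyclotomic n ℤ) = 0) :
    Nonempty (EtCoh.mu S n ≅ EtCoh.const S (ZMod n)) := by
  haveI : NeZero n := ⟨by omega⟩
  exact Groth.Agent.EtLC12.MuConst.nonempty_mu_iso_const hunit ζ hζ

end Groth.Agent.S13507
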