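import Groth.Statements.S7662
import Groth.Agent.AffineNhd.PerComponent

set_option autoImplicit false
universe u
open CategoryTheory CategoryTheory.Limits AlgebraicGeometry
open Variety

namespace Groth.Agent.S7662

/-- Let X be a scheme with finitely many irreducible components Z_1, …, Z_t and T ⊆ X a finite set of
points such that, for each i, some affine open of Z_i with its reduced closed subscheme structure
contains the points of T on Z_i. Then some affine open of X contains every point of T. -/
theorem result (X : Scheme.{u})
    (hX : (irreducibleComponents (X : Type u)).Finite) (T : Finset X)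
    (h : ∀ (Z : Set X) (hZ : Z ∈ irreducibleComponents (X : Type u)),
      ∃ V : (Scheme.IdealSheafData.vanishingIdeal
          (⟨Z, isClosed_of_mem_irreducibleComponents Z hZ⟩ : TopologicalSpace.Closeds X)).subscheme.Opens,
        IsAffineOpen V ∧ ∀ t ∈ T, t ∈ Z → t ∈ (Scheme.IdealSheafData.vanishingIdeal
          (⟨Z, isClosed_of_mem_irreducibleComponents Z hZ⟩ : TopologicalSpace.Closeds X)).subschemeι.base '' (V : Set _)) :
    ∃ U : X.Opens, IsAffineOpen U ∧ ∀ t ∈ T, t ∈ U := by
  exact AffineNhd.exists_affineOpen_of_per_component X hX T h

end Groth.Agent.S7662
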