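import Groth.Statements.S0219
import Groth.Agent.VarDim.Top
import Mathlib.AlgebraicGeometry.ZariskisMainTheorem
import Mathlib.AlgebraicGeometry.Noetherian
import Mathlib.AlgebraicGeometry.Morphisms.Proper

set_option autoImplicit false
universe u
open CategoryTheory CategoryTheory.Limits AlgebraicGeometry TopologicalSpace
open Curves

namespace Groth.Agent.S0219

theorem finite_of_forall_isClosed {α : Type*} [TopologicalSpace α] [NoetherianSpace α] [QuasiSober α]
    (h : ∀ a : α, IsClosed ({a} : Set α)) : Finite α := by
  rw [← Set.finite_univ_iff, ← sUnion_irreducibleComponents]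
  refine NoetherianSpace.finite_irreducibleComponents.sUnion fun Z hZ => ?_
  obtain ⟨a, ha⟩ := QuasiSober.sober hZ.1 (isClosed_of_mem_irreducibleComponents Z hZ)
  rw [← ha.def, (h a).closure_eq]
  exact Set.finite_singleton a



/-- A morphism over a field from a proper scheme of dimension at most one to a separated scheme, which
does not contract any one-dimensional irreducible component to a point, is finite. -/
theorem result (k : Type u) [Field k] (X Y : Scheme.{u}) (p : X ⟶ Spec (CommRingCat.of k)) (q : Y ⟶ Spec (CommRingCat.of k))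
    [IsProper p] [IsSeparated q] (f : X ⟶ Y) (hf : f ≫ q = p) (hdim : topologicalKrullDim X ≤ 1)
    (h : ∀ Z ∈ irreducibleComponents (X : Type u), topologicalKrullDim Z = 1 → (f.base '' Z).Nontrivial) :
    IsFinite f := by
  classical
  haveI : IsProper f := by
    have : IsProper (f ≫ q) := hf ▸ inferInstance
    exact IsProper.of_comp f q
  haveI : IsLocallyNoetherian X := LocallyOfFiniteType.isLocallyNoetherian p
  haveI : CompactSpace X := QuasiCompact.compactSpace_of_compactSpace p
  haveI : AlgebraicGeometry.IsNoetherian X := {}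
  have hdeg : ∀ x : X, VarDim.deg p x ≤ 1 := by
    intro x
    rw [VarDim.topologicalKrullDim_eq_iSup_deg p] at hdim
    exact_mod_cast (le_iSup (fun x : X => ((VarDim.deg p x : ℕ∞) : WithBot ℕ∞)) x).trans hdim
  haveI : LocallyQuasiFinite f := by
    refine LocallyQuasiFinite.of_finite_preimage_singleton (f := f) fun y => ?_
    by_contra hinf
    set S := f.base ⁻¹' {y} with hS
    obtain ⟨Z, hZ, hZS⟩ : ∃ Z ∈ irreducibleComponents (X : Type u), (S ∩ Z).Infinite := by
      by_contra hcon
      push Not at hcon
      refine hinf (Set.Finite.subset (NoetherianSpace.finite_irreducibleComponents.biUnion hcon)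
        fun x hx => ?_)
      exact Set.mem_biUnion (irreducibleComponent_mem_irreducibleComponents x) ⟨hx, mem_irreducibleComponent⟩
    have hZc : IsClosed Z := isClosed_of_mem_irreducibleComponents Z hZ
    obtain ⟨η, hη⟩ := QuasiSober.sober hZ.1 hZc
    obtain ⟨z, hzmem, hzne⟩ := hZS.exists_notMem_finite (Set.finite_singleton η)
    have hclosed : ∀ w ∈ Z, w ≠ η → IsClosed ({w} : Set X) := by
      intro w hw hne
      rw [VarDim.closedPoint_iff_deg_eq_zero p]
      have hsp : η ⤳ w := hη.specializes hw
      have := VarDim.deg_strictMono p (show w < η from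
        lt_iff_le_not_ge.2 ⟨hsp, fun h' => hne (Specializes.antisymm h' hsp).eq⟩)
      have := hdeg η
      omega
    have hyc : IsClosed ({y} : Set Y) := by
      have hy : f.base z = y := hzmem.1
      rw [← hy, ← Set.image_singleton]
      exact f.isClosedMap _ (hclosed z hzmem.2 hzne)
    have hSc : IsClosed S := hyc.preimage f.base.hom.continuous
    have hηS : η ∈ S := by
      by_contra hη'
      refine hZS (Set.finite_coe_iff.mp ?_)
      haveI : QuasiSober ↥(S ∩ Z) := (hSc.inter hZc).isClosedEmbedding_subtypeVal.quasiSober
      refine finite_of_forall_isClosed fun a => ?_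
      have ha : IsClosed ({(a : X)} : Set X) :=
        hclosed a a.2.2 fun he => hη' (he ▸ a.2.1)
      have he : ({a} : Set ↥(S ∩ Z)) = Subtype.val ⁻¹' {(a : X)} := by
        ext b; simp [Subtype.ext_iff]
      rw [he]
      exact ha.preimage continuous_subtype_val
    have hsub : Z ⊆ S := by
      rw [← hη.def]
      exact hSc.closure_subset_iff.mpr (Set.singleton_subset_iff.mpr hηS)
    have hd1 : VarDim.deg p η = 1 := by
      have hsp : η ⤳ z := hη.specializes hzmem.2
      have := VarDim.deg_strictMono p (show z < η from
        lt_iff_le_not_ge.2 ⟨hsp, fun h' => hzne (Specializes.antisymm h' hsp).eq⟩)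
      have := hdeg η
      omega
    have hdimZ : topologicalKrullDim Z = 1 := by
      rw [← hη.def, VarDim.topologicalKrullDim_closure_singleton p, hd1]
      rfl
    obtain ⟨u, ⟨a, ha, rfl⟩, v, ⟨b, hb, rfl⟩, huv⟩ := h Z hZ hdimZ
    exact huv ((hsub ha).trans (hsub hb).symm)
  exact IsFinite.of_isProper_of_locallyQuasiFinite f

end Groth.Agent.S0219
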