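import Groth.Statements.S9368
import Mathlib
import Groth.Agent.Synt29.FieldMor

set_option autoImplicit false
universe u
open Synt

namespace Groth.Agent.S9368

open AlgebraicGeometry CategoryTheory in
/-- For X locally of finite type over a field k with structure morphism p, the following are equivalent:
(1) p is syntomic; (2) every x ∈ X has an affine open neighbourhood whose coordinate ring is a
global complete intersection over k; (3) each stalk O_{X,x} is a complete intersection ring over k
(k-algebra structures induced by p). -/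
theorem result (k : Type u) [Field k] (X : Scheme.{u}) (p : X ⟶ Spec (CommRingCat.of k)) [LocallyOfFiniteType p] :
    [Synt.IsSyntomicMor p,
      ∀ x : ↑X, ∃ U : X.affineOpens, x ∈ U.1 ∧
        letI := ((Scheme.ΓSpecIso (CommRingCat.of k)).inv ≫ p.appLE ⊤ U.1 le_top).hom.toAlgebra
        Synt.IsGlobalCI k Γ(X, U.1),
      ∀ x : ↑X,
        letI := ((Scheme.ΓSpecIso (CommRingCat.of k)).inv ≫ p.appLE ⊤ ⊤ le_top ≫ X.presheaf.germ ⊤ x trivial).hom.toAlgebra
        Synt.IsCIOver k (X.presheaf.stalk x)].TFAE := by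
  tfae_have 1 → 3 := fun h x => by
    obtain ⟨U, hU, hx, -⟩ := exists_isAffineOpen_mem_and_subset (U := ⊤) (x := x) trivial
    exact (Synt29.isLCIOver_iff_forall_stalk k p ⟨U, hU⟩).1 (Synt29.isLCIOver_of_isSyntomicMor k p h ⟨U, hU⟩) x hx
  tfae_have 3 → 2 := fun h x => by
    obtain ⟨U, hU, hx, -⟩ := exists_isAffineOpen_mem_and_subset (U := ⊤) (x := x) trivial
    exact Synt29.exists_isGlobalCI_nhd k p ⟨U, hU⟩ x hx
      ((Synt29.isLCIOver_iff_forall_stalk k p ⟨U, hU⟩).2 fun y _ => h y)
  tfae_have 2 → 1 := fun h => Synt29.isSyntomicMor_of_lci k p fun x => by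
    obtain ⟨U, hx, hCI⟩ := h x
    letI := (Synt29.secHom k p U.1).toAlgebra
    exact ⟨U, hx, Synt29.isLCIOver_of_isGlobalCI (A := Γ(X, U.1)) hCI⟩
  tfae_finish

end Groth.Agent.S9368
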