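import Groth.Statements.S8660
import Groth.Agent.KRegLib.SyntBC
import Groth.Agent.Synt29.KoszulSyntomic
import Groth.Agent.Synt29.Fibres
import Groth.Agent.Synt29.FieldMor
import Groth.Agent.CILib.Basic
import Groth.Agent.S9368

set_option autoImplicit false
set_option linter.style.haveILetI false
set_option backward.isDefEq.respectTransparency.types false
universe u
open CategoryTheory CategoryTheory.Limits AlgebraicGeometry
open Synt

namespace Groth.Agent.S8660

/-- Let f : X ⟶ Y be flat and locally of finite presentation. Then f is a local complete intersection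
morphism in the factorisation sense (around each point of X, f is locally of finite type and factors
as a Koszul-regular immersion followed by a smooth morphism) if and only if f is a
complete-intersection morphism in the fibrewise sense: flat, locally of finite presentation, and
every local ring of every fibre is a complete intersection (its completion is a regular local ring
modulo a regular sequence). -/
theorem result {X Y : Scheme.{u}} (f : X ⟶ Y) [Flat f] [LocallyOfFinitePresentation f] :
    (∀ x : X, Synt.IsKoszulAt f x) ↔ CInt.IsCIMorphism f := by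
  have hCI : ∀ (k S : Type u) [Field k] [CommRing S] [IsLocalRing S] [Algebra k S] [Algebra.EssFiniteType k S],
      Pi1.IsCompleteIntersection S ↔ Synt.IsCIOver k S := by
    intro k S _ _ _ _ _
    obtain ⟨R, _, _, _, _, π, hπ⟩ := Groth.Agent.Synt29.exists_regular_presentation (k := k) S
    rw [Groth.Agent.Synt29.isCIOver_iff_ciKer π hπ]
    exact Groth.Agent.CILib.isCI_iff_ciKer π.toRingHom hπ
  have hess : ∀ (k : Type u) [Field k] (Z : Scheme.{u}) (p : Z ⟶ Spec (CommRingCat.of k)) [LocallyOfFiniteType p] (z : Z),
      letI := (Groth.Agent.Synt29.stalkHom k p z).toAlgebra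
      Algebra.EssFiniteType k (Z.presheaf.stalk z) := by
    intro k _ Z p _ z
    obtain ⟨U, hU, hz, -⟩ := exists_isAffineOpen_mem_and_subset (U := ⊤) (x := z) trivial
    letI : Algebra Γ(Z, U) (Z.presheaf.stalk z) := TopCat.Presheaf.algebra_section_stalk Z.presheaf ⟨z, hz⟩
    letI : Algebra k Γ(Z, U) := (Groth.Agent.Synt29.secHom k p U).toAlgebra
    letI := (Groth.Agent.Synt29.stalkHom k p z).toAlgebra
    haveI : IsScalarTower k Γ(Z, U) (Z.presheaf.stalk z) :=
      IsScalarTower.of_algebraMap_eq' (Groth.Agent.Synt29.stalkHom_eq k p U z hz)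
    haveI : IsLocalization.AtPrime (Z.presheaf.stalk z) (hU.primeIdealOf ⟨z, hz⟩).asIdeal :=
      hU.isLocalization_stalk ⟨z, hz⟩
    haveI : Algebra.EssFiniteType Γ(Z, U) (Z.presheaf.stalk z) :=
      Algebra.EssFiniteType.of_isLocalization _ (hU.primeIdealOf ⟨z, hz⟩).asIdeal.primeCompl
    haveI : Algebra.FiniteType k Γ(Z, U) := Groth.Agent.Synt29.finiteType_secHom k p ⟨U, hU⟩
    exact Algebra.EssFiniteType.comp k Γ(Z, U) _
  have hfib : ∀ s : Y, Synt.IsSyntomicMor (f.fiberToSpecResidueField s) ↔
      ∀ z : f.fiber s, Pi1.IsCompleteIntersection ((f.fiber s).presheaf.stalk z) := fun s => by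
    haveI : LocallyOfFiniteType (f.fiberToSpecResidueField s) :=
      MorphismProperty.pullback_snd (P := @LocallyOfFiniteType) f _ inferInstance
    refine ((Groth.Agent.S9368.result (Y.residueField s) (f.fiber s) (f.fiberToSpecResidueField s)).out 0 2).trans
      (forall_congr' fun z => ?_)
    letI := (Groth.Agent.Synt29.stalkHom (Y.residueField s) (f.fiberToSpecResidueField s) z).toAlgebra
    haveI := hess (Y.residueField s) (f.fiber s) (f.fiberToSpecResidueField s) z
    exact (hCI (Y.residueField s) ((f.fiber s).presheaf.stalk z)).symm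
  constructor
  · intro h
    have hs : Synt.IsSyntomicMor f := (Groth.Agent.Synt29.flat_and_isKoszulAt_iff f).1 ⟨inferInstance, h⟩
    refine ⟨inferInstance, inferInstance, fun x => ?_⟩
    exact (hfib (f x)).1 (Groth.Agent.KRegLib.isSyntomicMor_of_isPullback
      (IsPullback.of_hasPullback f (Y.fromSpecResidueField (f x))) hs) (f.asFiber x)
  · intro h
    refine ((Groth.Agent.Synt29.flat_and_isKoszulAt_iff f).2
      (Groth.Agent.Synt29.isSyntomicMor_of_fibres f fun s => (hfib s).2 fun z => ?_)).2
    have key : ∀ (x : X) (s : Y) (z : f.fiber s), f x = s → f.fiberι s z = x →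
        Pi1.IsCompleteIntersection ((f.fiber s).presheaf.stalk z) := by
      intro x s z hs hz
      subst hs
      obtain rfl : z = f.asFiber x := (f.fiberι _).isEmbedding.injective (hz.trans (f.fiberι_asFiber _).symm)
      exact h.2.2 x
    have hz : f (f.fiberι s z) = s := by
      have := f.range_fiberι s
      exact this.le ⟨z, rfl⟩
    exact key (f.fiberι s z) s z hz rfl

end Groth.Agent.S8660
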