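import Groth.Statements.S4107
import Groth.Agent.GrpSchLib.AffinizationKer


set_option autoImplicit false
universe u
open CategoryTheory MonoidalCategory CartesianMonoidalCategory MonObj GrpObj AlgebraicGeometry CategoryTheory.Limits
open SGA3

namespace Groth.Agent.S4107

/-- Let G be an algebraic group over a field k, ρ : G → Spec O(G) the canonical morphism and N = Ker ρ,
the fibre of ρ over the image of the unit section. Then O(N) = k (the structure morphism N → Spec k
induces an isomorphism on global sections), and N is smooth over k and connected. (The source adds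
that N is commutative and characteristic in G.) -/
theorem result (k : Type u) [Field k] (G : Over (Spec (CommRingCat.of k))) [GrpObj G]
    [LocallyOfFiniteType G.hom] [QuasiCompact G.hom] :
    IsIso (pullback.snd G.left.toSpecΓ (η[G].left ≫ G.left.toSpecΓ) ≫ (𝟙_ (Over (Spec (CommRingCat.of k)))).hom).appTop ∧
    Smooth (pullback.snd G.left.toSpecΓ (η[G].left ≫ G.left.toSpecΓ) ≫ (𝟙_ (Over (Spec (CommRingCat.of k)))).hom) ∧
    ConnectedSpace ↥(pullback G.left.toSpecΓ (η[G].left ≫ G.left.toSpecΓ)) := by
  obtain ⟨str, h1, h2, h3⟩ := Groth.Agent.GrpSchLib.AffinizationKer.main G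
  letI := str
  haveI := h1
  haveI := h2
  exact ⟨(ConcreteCategory.isIso_iff_bijective _).mpr h3, Groth.Agent.GrpSchLib.AntiAffineSmooth.smooth h3,
    Groth.Agent.GrpSchLib.AntiAffine.connectedSpace_of_bijective h3⟩

end Groth.Agent.S4107
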