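import Groth.Statements.S3417
import Groth.Agent.FlatDvr.Connected

set_option autoImplicit false
open CategoryTheory AlgebraicGeometry
universe u
open EGA43

namespace Groth.Agent.S3417

/-- Let A be a discrete valuation ring, Y = Spec A with closed point a and generic point b, and f : X ⟶
Y a morphism locally of finite type which is open (as a map of spaces). If X is connected and the
fibre over a is a reduced scheme, then the fibre over b is connected. (Stated with 'preconnected',
which also covers the empty case; a is the closed point and b the point specialising to every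
point.) -/
theorem result (A : Type u) [CommRing A] [IsDomain A]
    [IsDiscreteValuationRing A] {X : Scheme.{u}} (f : X ⟶ Spec (CommRingCat.of A)) [LocallyOfFiniteType f]
    (hopen : IsOpenMap f.base) [PreconnectedSpace X]
    (a b : ↥(Spec (CommRingCat.of A))) (ha : IsClosed ({a} : Set ↥(Spec (CommRingCat.of A))))
    (hb : ∀ z : ↥(Spec (CommRingCat.of A)), b ⤳ z)
    (hred : AlgebraicGeometry.IsReduced (f.fiber a)) :
    PreconnectedSpace ↥(f.fiber b) := by
    haveI : IsLocallyNoetherian (Spec (CommRingCat.of A)) := inferInstance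
    haveI := LocallyOfFiniteType.isLocallyNoetherian f
    let c : Spec (CommRingCat.of A) := IsLocalRing.closedPoint A
    obtain rfl : a = c := (PrimeSpectrum.ext (IsLocalRing.eq_maximalIdeal
      ((PrimeSpectrum.isClosed_singleton_iff_isMaximal (a : PrimeSpectrum A)).1 ha)))
    have hbc : b ≠ c := fun h => by
      have := (PrimeSpectrum.le_iff_specializes (b : PrimeSpectrum A) (⟨⊥, Ideal.isPrime_bot⟩ : PrimeSpectrum A)).2 (hb _)
      rw [h] at this
      exact IsDiscreteValuationRing.not_a_field A (le_bot_iff.1 this)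
    have hcases : ∀ t : Spec (CommRingCat.of A), t = b ∨ t = c := fun t => by
      by_cases ht : t = c
      · exact .inr ht
      · have two : ∀ q : PrimeSpectrum A, q ≠ IsLocalRing.closedPoint A → q.asIdeal = ⊥ := fun q hq => by
          by_contra h
          exact hq (PrimeSpectrum.ext (IsLocalRing.eq_maximalIdeal (q.isPrime.isMaximal h)))
        exact .inl (PrimeSpectrum.ext ((two t ht).trans (two b hbc).symm))
    have hXb : IsOpen (f.base ⁻¹' {b}) := by
      have : f.base ⁻¹' {b} = (f.base ⁻¹' {c})ᶜ := by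
        ext z
        exact ⟨fun h h' => hbc (h.symm.trans h'), fun h => (hcases (f z)).resolve_right h⟩
      rw [this]
      exact (ha.preimage f.continuous).isOpen_compl
    suffices h : _root_.IsPreconnected (f.base ⁻¹' {b}) by
      haveI := isPreconnected_iff_preconnectedSpace.1 h
      exact ⟨(f.fiberHomeo b).symm.surjective.range_eq ▸ isPreconnected_range (f.fiberHomeo b).symm.continuous⟩
    intro U₀ V₀ hU₀ hV₀ hcov hUne hVne
    by_contra hne
    let U : Set X := f.base ⁻¹' {b} ∩ U₀
    let V : Set X := f.base ⁻¹' {b} ∩ V₀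
    have hUo : IsOpen U := hXb.inter hU₀
    have hVo : IsOpen V := hXb.inter hV₀
    have hUV : ∀ z ∈ f.base ⁻¹' {b}, ¬ (z ∈ closure U ∧ z ∈ closure V) := fun z hz ⟨h1, h2⟩ => by
      rcases hcov hz with hzU | hzV
      · obtain ⟨v, hv1, hv2⟩ := mem_closure_iff.1 h2 U hUo ⟨hz, hzU⟩
        exact hne ⟨v, hv1.1, hv1.2, hv2.2⟩
      · obtain ⟨v, hv1, hv2⟩ := mem_closure_iff.1 h1 V hVo ⟨hz, hzV⟩
        exact hne ⟨v, hv2.1, hv2.2, hv1.2⟩
    have hgen : ∀ x : X, x ∈ closure U ∪ closure V := fun x => by
      obtain ⟨z, hz, hfz⟩ := FibDim.exists_generization_of_isOpenAt f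
        (fun W hW => hopen.image_mem_nhds hW) (hb (f x))
      rcases hcov (show z ∈ f.base ⁻¹' {b} from hfz) with h | h
      · exact .inl (closure_mono (Set.singleton_subset_iff.2 (show z ∈ U from ⟨hfz, h⟩)) (specializes_iff_mem_closure.1 hz))
      · exact .inr (closure_mono (Set.singleton_subset_iff.2 (show z ∈ V from ⟨hfz, h⟩)) (specializes_iff_mem_closure.1 hz))
    obtain ⟨x, hx⟩ : (closure U ∩ closure V).Nonempty := by
      obtain ⟨u, hu⟩ := hUne
      obtain ⟨v, hv⟩ := hVne
      obtain ⟨x, -, hx⟩ := isPreconnected_closed_iff.1 (isPreconnected_univ : _root_.IsPreconnected (Set.univ : Set X))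
        _ _ isClosed_closure isClosed_closure (fun z _ => hgen z) ⟨u, trivial, subset_closure hu⟩
        ⟨v, trivial, subset_closure hv⟩
      exact ⟨x, hx⟩
    have hlift : ∀ W : Set X, IsOpen W → x ∈ closure W → ∃ z ∈ W, z ⤳ x := fun W hW hxW => by
      obtain ⟨N, hxN, hN⟩ := FibDim.exists_nhd_generizing (X := X) (isClosed_closure (s := W)) x
      obtain ⟨z, hzN, hzW⟩ := mem_closure_iff.1 hxW N N.isOpen hxN
      obtain ⟨η, -, hηx, hηz⟩ := hN z hzN (subset_closure hzW)
      exact ⟨η, hηz.mem_open hW hzW, hηx⟩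
    obtain ⟨zU, hzU, hzUx⟩ := hlift U hUo hx.1
    obtain ⟨zV, hzV, hzVx⟩ := hlift V hVo hx.2
    have hfx : f x = c := (hcases (f x)).resolve_left fun h => hUV x h ⟨hx.1, hx.2⟩
    obtain ⟨w, rfl⟩ : x ∈ Set.range (f.fiberι c) := by rw [Scheme.Hom.range_fiberι]; exact hfx
    haveI := hred
    exact FlatDvr.false_of_split f hopen hbc isClosed_closure isClosed_closure
      (Set.eq_univ_of_forall hgen) (fun z hz hzb => hUV z hzb ⟨hz.1, hz.2⟩) w inferInstance
      ⟨zU, subset_closure hzU, hzU.1, hzUx⟩ ⟨zV, subset_closure hzV, hzV.1, hzVx⟩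

end Groth.Agent.S3417
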