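import Groth.Statements.S9367
import Mathlib
import Groth.Agent.Synt29.Standard

set_option autoImplicit false
universe u
open Synt

namespace Groth.Agent.S9367

open AlgebraicGeometry CategoryTheory in
/-- If f : X → S is syntomic, then x ↦ dim_x(X_{f x}) is locally constant on X. -/
theorem result {X S : Scheme.{u}} (f : X ⟶ S) (hf : Synt.IsSyntomicMor f) :
    IsLocallyConstant (fun x : ↑X => FlatMor.fibreDimAt f x) := by
  exact Groth.Agent.Synt29.isLocallyConstant_fibreDimAt f hf

end Groth.Agent.S9367
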