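import Groth.Statements.S5019
import Groth.Agent.Synt29.SmoothDim
import Groth.Agent.Synt29.OmegaAffine
import Groth.Agent.QCoh.LocFree
import Mathlib

set_option autoImplicit false
universe u
open CategoryTheory CategoryTheory.Limits AlgebraicGeometry TopologicalSpace
open Unram17

namespace Groth.Agent.S5019

/-- Let f : X ⟶ Y be smooth and let (Ω', d) be a sheaf of differentials of X over Y (d a universal
Y-derivation). Then for every point x of X there are an open neighbourhood U of x and an integer n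
such that Ω' restricted to U is free of rank n and n is the local dimension at x of the fibre of f
through x. -/
theorem result {X Y : Scheme.{u}} (f : X ⟶ Y) [Smooth f]
    (Ω' : X.Modules) (d : OmegaSh.Der f Ω') (hd : OmegaSh.IsUniversal d) (x : ↥X) :
    ∃ (U : X.Opens) (n : ℕ), x ∈ U ∧ Nonempty (Ω'.restrict U.ι ≅ FlatMod.freeMod (↑U) n) ∧
      FlatMor.fibreDimAt f x = (n : WithBot ℕ∞) := by
  
  obtain ⟨U, hU, V, hV, e, n, hxV, hstd, -, hdim⟩ := Groth.Agent.Synt29.SmoothDim.exists_chart f x
  refine ⟨V, n, hxV, ?_, hdim⟩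
  let _ := (f.appLE U V e).hom.toAlgebra
  have : Algebra.IsStandardSmoothOfRelativeDimension n Γ(Y, U) Γ(X, V) := hstd
  have : Algebra.IsStandardSmooth Γ(Y, U) Γ(X, V) :=
    Algebra.IsStandardSmoothOfRelativeDimension.isStandardSmooth n
  have : Nontrivial Γ(X, V) := by
    refine ⟨⟨0, 1, fun h => ?_⟩⟩
    have h1 := congrArg (X.presheaf.germ V x hxV) h
    rw [map_zero, map_one] at h1
    exact zero_ne_one h1
  have : Algebra.FormallySmooth Γ(Y, U) Γ(X, V) := inferInstance
  have hr : Module.finrank Γ(X, V) Ω[Γ(X, V)⁄Γ(Y, U)] = n := by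
    have := Algebra.IsStandardSmoothOfRelativeDimension.rank_kaehlerDifferential (R := Γ(Y, U)) (S := Γ(X, V)) n
    simp [Module.finrank, this]
  let b := (Module.finBasisOfFinrankEq Γ(X, V) Ω[Γ(X, V)⁄Γ(Y, U)] hr).reindex Equiv.ulift.symm
  obtain ⟨l⟩ := Groth.Agent.Synt29.OmegaStalk.exists_linearEquiv_sections hd hV hU e
  exact Groth.Agent.QCoh.exists_free_restrict
    (Groth.Agent.Synt29.OmegaStalk.isQCoh_of_isUniversal hd) hV (l.trans b.repr)

end Groth.Agent.S5019
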