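import Mathlib.AlgebraicGeometry.FunctionField
import Groth.Statements.S16082


set_option autoImplicit false
universe u
open CategoryTheory CategoryTheory.Limits AlgebraicGeometry TopologicalSpace
open SDiv

namespace Groth.Agent.S16082

/-- Let X be an integral scheme and F, G quasi-coherent O_X-modules with F of finite presentation and G
torsion free (every stalk G_x is a torsion-free module over the domain O_{X,x}). Then every stalk of
the sheaf Hom 𝓗om_{O_X}(F, G) is torsion free as well. -/
theorem result (X : Scheme.{u}) [IsIntegral X] (F G : X.Modules) (hF : Coh.IsQCoh F)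
    (hFp : CohB1.IsFP F) (hG : Coh.IsQCoh G) (hGt : TorSh.IsTorsionFree G) :
    TorSh.IsTorsionFree (RefHull.homSh F G) := by
  intro x
  haveI : ∀ z : X, IsDomain (X.presheaf.stalk z) := fun z =>
    (IsFractionRing.injective (X.presheaf.stalk z) X.functionField).isDomain
  refine Module.IsTorsionFree.of_smul_eq_zero fun a θ h => ?_
  by_contra! hne
  obtain ⟨ha0, hθ0⟩ := hne
  obtain ⟨Ua, ha, r, rfl⟩ := TopCat.Presheaf.exists_germ_eq X.presheaf a
  obtain ⟨Ut, ht, g, rfl⟩ := TopCat.Presheaf.exists_germ_eq (RefHull.homSh F G).presheaf θ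
  rw [← TopCat.Presheaf.germ_res_apply X.presheaf (homOfLE (inf_le_left : Ua ⊓ Ut ≤ Ua)) x ⟨ha, ht⟩,
    ← TopCat.Presheaf.germ_res_apply (RefHull.homSh F G).presheaf (homOfLE (inf_le_right : Ua ⊓ Ut ≤ Ut)) x ⟨ha, ht⟩,
    ← Mero.germ_smul] at h
  obtain ⟨W, hxW, i, j, hW⟩ := TopCat.Presheaf.germ_eq (U := Ua ⊓ Ut) (V := Ua ⊓ Ut) (RefHull.homSh F G).presheaf x ⟨ha, ht⟩ ⟨ha, ht⟩ _ 0
    (h.trans (map_zero _).symm)
  rw [map_zero, ← TopCat.Presheaf.germ_res_apply (RefHull.homSh F G).presheaf (homOfLE (i.le.trans inf_le_right)) x hxW g] at *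
  have hr : X.presheaf.map (homOfLE (i.le.trans inf_le_left)).op r ≠ 0 := fun h0 => ha0 (by
    rw [← TopCat.Presheaf.germ_res_apply X.presheaf (homOfLE (i.le.trans inf_le_left)) x hxW r, h0, map_zero])
  have hg : (RefHull.homSh F G).presheaf.map (homOfLE (i.le.trans inf_le_right)).op g = 0 := by
    refine Subtype.ext (funext fun y => ?_)
    have h1 : (X.presheaf.germ W y.1 y.2 (X.presheaf.map (homOfLE (i.le.trans inf_le_left)).op r)) •
        ((RefHull.homSh F G).presheaf.map (homOfLE (i.le.trans inf_le_right)).op g).1 y = 0 := by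
      rw [TopCat.Presheaf.germ_res_apply, ← TopCat.Presheaf.germ_res_apply X.presheaf
        (homOfLE (inf_le_left : Ua ⊓ Ut ≤ Ua)) y.1 (i.le y.2) r]
      exact congrArg (fun s : Γ(RefHull.homSh F G, W) => s.1 y) hW
    haveI := hGt y.1
    refine LinearMap.ext fun m => ?_
    refine (smul_eq_zero.1 ((LinearMap.smul_apply _ _ m).symm.trans (LinearMap.congr_fun h1 m))).resolve_left ?_
    intro h0
    exact hr (germ_injective_of_isIntegral X y.1 y.2 (h0.trans (map_zero _).symm))
  exact hθ0 (by rw [hg, map_zero])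

end Groth.Agent.S16082
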