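import Groth.Statements.S11325
import Groth.Agent.Lib.DualRange
import Groth.Agent.S11905
import Groth.Agent.Lib.CISeq
import Groth.Agent.Lib.DualSheaf
import Groth.Agent.ModTensor.SheafHom
import Groth.Agent.InvX.Tensor

set_option autoImplicit false
set_option backward.isDefEq.respectTransparency false
set_option backward.isDefEq.respectTransparency.types false
set_option linter.style.haveILetI false
set_option linter.unusedSectionVars false
set_option maxHeartbeats 400000
universe u
open CategoryTheory CategoryTheory.Limits AlgebraicGeometry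
attribute [local instance] HasDerivedCategory.standard
open ProjDual

namespace Groth.Agent.S11325

theorem nonempty_hom_iso {Y : Scheme.{u}} (C N : Y.Modules) (hC : PicF.IsInvertible C) (hN : Coh.IsQCoh N) :
    Nonempty ((SheafHomX.hom C).obj N ≅
      CohB1.tensorMod N ((SheafHomX.hom C).obj (Coh.structureModule Y))) := by
  haveI := (RegExtFormula.isQCoh_and_iso C N hC hN).2
  haveI := (RegExtFormula.isQCoh_and_iso C (Coh.structureModule Y) hC
    (RegExtFormula.isQCoh_inv InvX.isInvertible_structureModule)).2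
  let H := (SheafHomX.hom C).obj N
  let D := (SheafHomX.hom C).obj (Coh.structureModule Y)
  let e₁ : CohB1.tensorMod H C ≅ N := asIso ((SheafHomX.adj C).counit.app N)
  let e₂ : CohB1.tensorMod D C ≅ Coh.structureModule Y := asIso ((SheafHomX.adj C).counit.app (Coh.structureModule Y))
  obtain ⟨u⟩ := H23.PicMul.unit H
  obtain ⟨c⟩ := H23.PicMul.comm C D
  obtain ⟨a⟩ := H23.PicMul.assoc H C D
  exact ⟨u.symm ≪≫ PicGrp.tensorModIso (Iso.refl H) (c ≪≫ e₂).symm ≪≫ a.symm ≪≫
    PicGrp.tensorModIso e₁ (Iso.refl D)⟩

/-- Let k be a field, P = P^N_k and ι : X → P a closed immersion which makes X a local complete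
intersection of codimension r in P: every irreducible component of X has dimension N - r, and every
point of X has an affine open neighbourhood U in P on which the ideal of X is generated by r
sections. Let C be an r-th exterior power of the conormal sheaf of X in P (a locally free O_X-module
of rank one; its internal Hom functor is assumed to exist, which it does) and put M = ι^* O_P(-N-1)
⊗ Hom_{O_X}(C, O_X), that is ω_P ⊗ (∧^r of the conormal sheaf)^∨. Then M is a dualizing sheaf for X:
with n = N - r there is a k-linear map t : H^n(X, M) → k such that for every coherent O_X-module F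
and every k-linear form ψ on H^n(X, F) there is exactly one morphism φ : F → M with ψ = t ∘ H^n(φ).
(The published statement says that the dualizing sheaf of X is isomorphic to M, and in particular is
invertible; by uniqueness of dualizing sheaves this is the same assertion.) -/
theorem result
    (k : Type u) [Field k] (N r : ℕ) (hr : r ≤ N) (X : Scheme.{u}) [X.Over (Spec (CommRingCat.of k))]
    (ι : X ⟶ CohB1.ProjSpace N k) [IsClosedImmersion ι] (hι : ι ≫ CohB1.ProjSpace.toSpec N k = X ↘ Spec (CommRingCat.of k))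
    (heq : ∀ Z : Set ↥X, Z ∈ irreducibleComponents ↥X → topologicalKrullDim ↥Z = ((N - r : ℕ) : WithBot ℕ∞))
    (hgen : ∀ x : X, ∃ U : (CohB1.ProjSpace N k).affineOpens, ι.base x ∈ (U : (CohB1.ProjSpace N k).Opens) ∧
      ∃ f : Fin r → Γ(CohB1.ProjSpace N k, (U : (CohB1.ProjSpace N k).Opens)), ι.ker.ideal U = Ideal.span (Set.range f))
    (C : X.Modules) (hC : ExtPow.IsExtPow r (Omega.conormal ι) C) [DCoh.HasSheafHom C] :
    ∃ t : Coh.HH X (CohB1.tensorMod ((Scheme.Modules.pullback ι).obj (Twist.twistProjSpace N k (-((N : ℤ) + 1))))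
        ((DCoh.sheafHom C).obj (Coh.structureModule X))) (N - r) →ₗ[k] k,
      ∀ F : X.Modules, Coh.IsCoh F → ∀ ψ : Coh.HH X F (N - r) →ₗ[k] k,
        ∃! φ : F ⟶ (CohB1.tensorMod ((Scheme.Modules.pullback ι).obj (Twist.twistProjSpace N k (-((N : ℤ) + 1)))) ((DCoh.sheafHom C).obj (Coh.structureModule X))), ∀ x : Coh.HH X F (N - r),
          ψ x = t (Sheaf.H.map ((SheafOfModules.toSheaf X.ringCatSheaf).map φ) (N - r) x) := by
  haveI : IsGrothendieckAbelian.{u} (ModSite.Mod (CohB1.ProjSpace N k).sheaf) :=
    inferInstanceAs (IsGrothendieckAbelian.{u} (CohB1.ProjSpace N k).Modules)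
  haveI : HasInjectiveResolutions (ModSite.Mod (CohB1.ProjSpace N k).sheaf) := inferInstance
  haveI := ModTensor.hasSheafHom (O := (CohB1.ProjSpace N k).sheaf) ((Scheme.Modules.pushforward ι).obj (Coh.structureModule X))
  haveI := ModTensor.hasSheafHom (O := X.sheaf) C
  haveI := NegVanStalk.noetherian k N
  have hreg := CISeq.isRegularImmersionOfCodim ι hr heq hgen
  haveI : LocallyOfFiniteType (X ↘ Spec (CommRingCat.of k)) := by
    haveI := CurveEmbed.smooth_toSpec N k
    rw [← hι]; infer_instance
  have hω : Coh.IsQCoh (Twist.twistProjSpace N k (-((N : ℤ) + 1))) :=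
    RegExtFormula.isQCoh_inv (DualRange.isInvertible_pn _)
  obtain ⟨e⟩ := S11905.result (CohB1.ProjSpace N k) X ι r hreg _ hω C hC
  obtain ⟨φ, hφ⟩ := hC
  have hCi : PicF.IsInvertible C := RegExtFormula.isInvertible_L ι φ hreg hφ
  have hN : Coh.IsQCoh ((Scheme.Modules.pullback ι).obj (Twist.twistProjSpace N k (-((N : ℤ) + 1)))) :=
    (DualRange.isCoh_pull ι _).1
  let σ : ModSite.sheafHom (O := X.sheaf) C ≅ SheafHomX.hom C :=
    (ModSite.sheafHomAdj (O := X.sheaf) C).rightAdjointUniq (SheafHomX.adj C)
  let τ : (DCoh.sheafHom C) ≅ SheafHomX.hom C :=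
    ((Adjunction.ofIsLeftAdjoint (DCoh.tensorBi.obj C)).ofNatIsoLeft
      ((KFlatLib.tensorBiFlipIso X).app C).symm).rightAdjointUniq (SheafHomX.adj C)
  obtain ⟨m⟩ := nonempty_hom_iso C _ hCi hN
  refine DualSheaf.exists_trace ι hι (N - r) r (by omega)
    (ExtShCodim.topologicalKrullDim_le (X ↘ Spec (CommRingCat.of k)) (N - r) heq) _ ⟨?_⟩
  exact (Scheme.Modules.pushforward ι).mapIso
    (PicGrp.tensorModIso (Iso.refl _) (τ.app (Coh.structureModule X)) ≪≫ m.symm ≪≫
      (σ.app _).symm) ≪≫ e.symm

end Groth.Agent.S11325
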