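import Groth.Statements.S10934
import Groth.Agent.Lib.NegVanClosed
import Groth.Agent.FlatLoc6.NormFlat
import Groth.Agent.QCoh.LocFree
import Groth.Agent.Lib.CurveDeg
import Groth.Agent.SchTop.Closed
import Groth.Agent.H23.PullPush

set_option autoImplicit false
set_option backward.isDefEq.respectTransparency false
set_option backward.isDefEq.respectTransparency.types false
set_option linter.style.haveILetI false
set_option linter.unusedSectionVars false
set_option maxHeartbeats 400000
universe u
open CategoryTheory CategoryTheory.Limits AlgebraicGeometry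
open ProjDual

namespace Groth.Agent.S10934

open CategoryTheory CategoryTheory.Limits AlgebraicGeometry
open Filter

theorem le_depth_free {R : Type u} [CommRing R] [IsNoetherianRing R] [IsLocalRing R] (M : Type u) [AddCommGroup M]
    [Module R M] [Module.Finite R M] [Module.Free R M] : LocCoh.depth R R ≤ LocCoh.depth R M := by
  rcases subsingleton_or_nontrivial M with h | h
  · exact (le_top).trans (if_pos (Subsingleton.elim _ _)).ge
  · let b := Module.finBasis R M
    obtain ⟨m, hm⟩ := Nat.exists_eq_succ_of_ne_zero (Fin.pos_iff_nonempty.mpr b.index_nonempty).ne'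
    rw [Hensel.depth_congr ((b.reindex (finCongr hm)).equivFun), FlatLoc6.depth_pi R m]

theorem depth_structure (X : Scheme.{u}) [IsLocallyNoetherian X] (x : X) :
    LocCoh.depth (X.presheaf.stalk x) ((Coh.structureModule X).presheaf.stalk x) =
      LocCoh.depth (X.presheaf.stalk x) (X.presheaf.stalk x) := by
  haveI : IsNoetherianRing (X.presheaf.stalk x) := inferInstance
  refine (Hensel.depth_congr (LinearEquiv.ofBijective (LinearMap.toSpanSingleton (X.presheaf.stalk x) _ (H23.UnitSec.one x))
    ⟨fun a b h => ?_, fun m => ?_⟩)).symm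
  · exact sub_eq_zero.1 (H23.UnitSec.eq_zero_of_smul_one (a - b) (by rw [sub_smul]; exact sub_eq_zero.2 h))
  · exact Submodule.mem_span_singleton.1 ((H23.UnitSec.span_one x).ge (Submodule.mem_top : m ∈ ⊤))

/-- (a)⇔(b): let k be a field, i : X → P^N_k a closed immersion with X of dimension n, and write F(−q) =
F ⊗ i^*O(−q). Then X is an equidimensional Cohen–Macaulay scheme of dimension n — the local ring of
X at every closed point is Cohen–Macaulay of Krull dimension n — if and only if for every finite
locally free O_X-module F (vector bundle) there is q₀ such that H^j(X, F(−q)) = 0 for all j < n and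
all q ≥ q₀. -/
theorem result (k : Type u) [Field k] (N n : ℕ)
    {X : Scheme.{u}} (i : X ⟶ CohB1.ProjSpace N k) [IsClosedImmersion i] (hn : topologicalKrullDim ↥X = n) :
    (∀ x : X, IsClosed ({x} : Set ↥X) →
        LocCoh.IsCohenMacaulayLocalRing (X.presheaf.stalk x) ∧ ringKrullDim (X.presheaf.stalk x) = n) ↔
      ∀ F : X.Modules, FlatMod.IsFinLocFree F → ∃ q₀ : ℕ, ∀ q : ℕ, q₀ ≤ q → ∀ j : ℕ, j < n →
        Subsingleton (Coh.HH X (CohB1.tensorMod F
          ((Scheme.Modules.pullback i).obj (Twist.twistProjSpace N k (-(q : ℤ))))) j) := by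
  haveI := NegVanStalk.noetherian k N
  haveI : IsLocallyNoetherian X := LocallyOfFiniteType.isLocallyNoetherian i
  have key : ∀ {F : X.Modules}, Coh.IsCoh F →
      ((∃ q₀ : ℕ, ∀ q : ℕ, q₀ ≤ q → ∀ j : ℕ, j < n →
        Subsingleton (Coh.HH X (CohB1.tensorMod F
          ((Scheme.Modules.pullback i).obj (Twist.twistProjSpace N k (-(q : ℤ))))) j)) ↔
      ∀ x : X, IsClosed ({x} : Set X) → (n : ℕ∞) ≤ LocCoh.depth (X.presheaf.stalk x) (F.presheaf.stalk x)) := by
    intro F hF
    rw [← NegVanClosed.negVan_closed_iff i hF n]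
    constructor
    · rintro ⟨q₀, h⟩ j hj
      refine eventually_atBot.2 ⟨-(q₀ : ℤ), fun e he => ?_⟩
      have := h (-e).toNat (by omega) j hj
      rwa [show (-((-e).toNat : ℤ)) = e by omega] at this
    · intro h
      obtain ⟨a, ha⟩ := eventually_atBot.1 ((eventually_all_finset (Finset.range n)).2
        fun j hj => h j (Finset.mem_range.1 hj))
      exact ⟨(-a).toNat, fun q hq j hj => ha _ (by omega) j (Finset.mem_range.2 hj)⟩
  constructor
  · intro h F hF
    refine (key (CurveDeg.isCoh_of_isFinLocFree hF)).2 fun x hx => ?_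
    obtain ⟨hCM, hd⟩ := h x hx
    haveI := QCoh.free_stalk_of_isFinLocFree hF x
    haveI := QCoh.finite_stalk_of_isFT (CurveDeg.isCoh_of_isFinLocFree hF).1 (CurveDeg.isCoh_of_isFinLocFree hF).2 x
    refine le_trans ?_ (le_depth_free _)
    have h1 := hCM.supportDim_eq_depth
    rw [Module.supportDim_self_eq_ringKrullDim, hd] at h1
    exact_mod_cast h1.le
  · intro h x hx
    have hO : FlatMod.IsFinLocFree (Coh.structureModule X) :=
      H23.PullPush.isFinLocFree_of_isInvertible InvX.isInvertible_structureModule
    have h1 := (key (CurveDeg.isCoh_of_isFinLocFree hO)).1 (h _ hO) x hx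
    rw [depth_structure] at h1
    haveI : IsNoetherianRing (X.presheaf.stalk x) := inferInstance
    have h2 := LC.depth_le_supportDim (R := X.presheaf.stalk x) (M := X.presheaf.stalk x)
    rw [Module.supportDim_self_eq_ringKrullDim] at h2
    have h3 : ringKrullDim (X.presheaf.stalk x) ≤ (n : WithBot ℕ∞) := (SchTop.ringKrullDim_stalk_le x).trans hn.le
    have h4 : ((n : ℕ∞) : WithBot ℕ∞) ≤ ((LocCoh.depth (X.presheaf.stalk x) (X.presheaf.stalk x) : ℕ∞) : WithBot ℕ∞) :=
      WithBot.coe_le_coe.2 h1
    have h5 : ringKrullDim (X.presheaf.stalk x) = (n : WithBot ℕ∞) := le_antisymm h3 (h4.trans h2)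
    refine ⟨{ supportDim_eq_depth := ?_ }, h5⟩
    rw [Module.supportDim_self_eq_ringKrullDim, h5]
    exact le_antisymm h4 (h2.trans h5.le)

end Groth.Agent.S10934
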