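import Groth.Statements.S7663
import Groth.Agent.KrullAki.Valuation

set_option autoImplicit false
universe u
open CategoryTheory CategoryTheory.Limits AlgebraicGeometry
open Variety

namespace Groth.Agent.S7663

open Groth.Agent.KrullAki

/-- Let K be a field and A, B ⊆ K subrings with fraction field K, with A Noetherian of dimension one.
Then A ⊗ B → K is not surjective (equivalently, the subring generated by A and B is not K) if and
only if some discrete valuation ring O ⊆ K with fraction field K contains both A and B. -/
theorem result (K : Type u) [Field K]
    (A : Subring K) [IsFractionRing A K] (B : Subring K) [IsFractionRing B K] [IsNoetherianRing A] (hdim : ringKrullDim A = 1) :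
    A ⊔ B ≠ ⊤ ↔ ∃ O : ValuationSubring K, IsDiscreteValuationRing O ∧ A ≤ O.toSubring ∧ B ≤ O.toSubring := by
  have := krullDimLE_one_of_dim_eq_one hdim
  constructor
  · intro hne
    have := isFractionRing_of_le (le_sup_left : A ≤ A ⊔ B)
    obtain ⟨V, hV, hV'⟩ := exists_valuationSubring_of_ne_top hne
    exact ⟨V, isDiscreteValuationRing_of_le A (le_sup_left.trans hV) hV', le_sup_left.trans hV,
      le_sup_right.trans hV⟩
  · rintro ⟨O, hO, hA, hB⟩ htop
    refine (IsDiscreteValuationRing.not_isField O) ?_
    have hOt : O.toSubring = ⊤ := top_unique (htop ▸ sup_le hA hB)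
    have := isFractionRing_of_le hA
    exact (isField_iff_eq_top O.toSubring).2 hOt

end Groth.Agent.S7663
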