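import Groth.Statements.S7665
import Groth.Agent.KrullAki.Glue
import Mathlib.RingTheory.Finiteness.Ideal

set_option autoImplicit false
universe u
open CategoryTheory CategoryTheory.Limits AlgebraicGeometry
open Variety

namespace Groth.Agent.S7665

open Groth.Agent.KrullAki

/-- Let K be a field and A_1, …, A_r ⊆ K (r ≥ 1) Noetherian semi-local rings of dimension one with
fraction field K, and assume A_i and A_j generate K as a ring whenever i ≠ j. Then A = A_1 ∩ … ∩ A_r
is a Noetherian semi-local domain of dimension one with fraction field K contained in every A_i,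
each Spec A_i → Spec A is an open immersion, Spec A is the union of their images, and every closed
point of Spec A belongs to the image of exactly one Spec A_i. (The published statement asserts only
that some such subring A exists; this row takes A to be the intersection A_1 ∩ … ∩ A_r.) -/
theorem result (K : Type u) [Field K] (r : ℕ) (hr : 1 ≤ r)
    (A : Fin r → Subring K) [∀ i, IsNoetherianRing (A i)] [∀ i, IsFractionRing (A i) K]
    (hdim : ∀ i, ringKrullDim (A i) = 1) (hsl : ∀ i, Finite (MaximalSpectrum (A i)))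
    (hgen : ∀ i j, i ≠ j → A i ⊔ A j = ⊤) :
    IsNoetherianRing ↥(⨅ i, A i) ∧ ringKrullDim ↥(⨅ i, A i) = 1 ∧ Finite (MaximalSpectrum ↥(⨅ i, A i)) ∧
      IsFractionRing ↥(⨅ i, A i) K ∧
      (∀ i, IsOpenImmersion (Spec.map (CommRingCat.ofHom (Subring.inclusion (iInf_le A i))))) ∧
      (⋃ i, Set.range (Spec.map (CommRingCat.ofHom (Subring.inclusion (iInf_le A i)))).base) = Set.univ ∧
      (∀ m : PrimeSpectrum ↥(⨅ i, A i), m.asIdeal.IsMaximal →
        ∃! i, m ∈ Set.range (Spec.map (CommRingCat.ofHom (Subring.inclusion (iInf_le A i)))).base) := by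
  classical
  have hd1 : ∀ i, Ring.KrullDimLE 1 (A i) := fun i => krullDimLE_one_of_dim_eq_one (hdim i)
  have hnf : ∀ i, A i ≠ ⊤ := fun i => ne_top_of_dim_eq_one (A i) (hdim i)
  set C : Subring K := ⨅ i, A i with hC
  have hle : ∀ i, C ≤ A i := fun i => iInf_le A i
  -- the separating elements
  have hsep : ∀ i, ∃ t : C, IsUnit (Subring.inclusion (hle i) t) ∧
      ∀ j, j ≠ i → Subring.inclusion (hle j) t ∈ (⊥ : Ideal (A j)).jacobson := by
    intro i
    have := hsl i
    obtain ⟨x, hxA, hx0, hx⟩ := exists_inv_mem_jacobson (A i) (fun j : {j : Fin r // j ≠ i} => A j.1)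
      (fun j => hdim j.1) (fun j => hsl j.1) (fun j => hgen i j.1 (Ne.symm j.2))
    obtain ⟨u, hu, hu'⟩ := exists_isUnit_of_inv_mem_jacobson (A i) _ hxA hx0 hx
    obtain ⟨v, hv⟩ := hu.exists_right_inv
    have hv' : (u : K) * (v : K) = 1 := congrArg Subtype.val hv
    have hinv : (u : K)⁻¹ = v := inv_eq_of_mul_eq_one_right hv'
    have hmem : (v : K) ∈ C := by
      rw [hC, Subring.mem_iInf]
      intro j
      by_cases h : j = i
      · subst h; exact v.2
      · obtain ⟨-, h1, -⟩ := hu' ⟨j, h⟩; exact hinv ▸ h1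
    refine ⟨⟨v, hmem⟩, IsUnit.of_mul_eq_one u (Subtype.ext (by rw [mul_comm] at hv'; exact hv')),
      fun j hj => ?_⟩
    obtain ⟨-, h1, h2⟩ := hu' ⟨j, hj⟩
    convert h2 using 1
    exact Subtype.ext hinv.symm
  choose t ht htJ using hsep
  have hloc : ∀ i, ∀ a ∈ A i, ∃ n : ℕ, a * (t i : K) ^ n ∈ C := by
    intro i a ha
    have : ∀ j, ∃ N : ℕ, ∀ n, N ≤ n → a * (t i : K) ^ n ∈ A j := fun j => by
      by_cases h : j = i
      · subst h; exact ⟨0, fun n _ => (A j).mul_mem ha ((A j).pow_mem (hle j (t j).2) n)⟩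
      · obtain ⟨N, hN⟩ := exists_pow_mul_mem (htJ i j h) a
        exact ⟨N, fun n hn => mul_comm a _ ▸ hN n hn⟩
    choose N hN using this
    exact ⟨Finset.univ.sup N, Subring.mem_iInf.2 fun j => hN j _ (Finset.le_sup (Finset.mem_univ j))⟩
  have hcov : ∀ P : Ideal C, P.IsPrime → ∃ i, t i ∉ P := by
    intro P hP
    by_contra! hall
    refine hP.ne_top (Ideal.eq_top_of_isUnit_mem _ (P.sum_mem fun j (_ : j ∈ Finset.univ) => hall j) ?_)
    have hk : ∀ k, IsUnit (Subring.inclusion (hle k) (∑ j, t j)) := by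
      intro k
      rw [map_sum, ← Finset.add_sum_erase _ _ (Finset.mem_univ k)]
      obtain ⟨a, ha⟩ := ht k
      rw [← ha]
      have hsum : ∑ j ∈ Finset.univ.erase k, Subring.inclusion (hle k) (t j) ∈
          (⊥ : Ideal (A k)).jacobson :=
        Ideal.sum_mem _ fun j hj => htJ j k (Finset.ne_of_mem_erase hj).symm
      have hz := Ideal.mem_jacobson_bot.1 hsum (↑a⁻¹ : A k)
      have := a.isUnit.mul hz
      rwa [mul_add, mul_one, mul_left_comm, Units.mul_inv, mul_one, add_comm] at this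
    choose w hw using fun k => (hk k).exists_right_inv
    have hw' : ∀ k, ((∑ j, t j : C) : K) * (w k : K) = 1 := fun k => congrArg Subtype.val (hw k)
    let k₀ : Fin r := ⟨0, hr⟩
    refine IsUnit.of_mul_eq_one ⟨w k₀, Subring.mem_iInf.2 fun k => ?_⟩ (Subtype.ext (hw' k₀))
    rw [mul_left_cancel₀ (left_ne_zero_of_mul_eq_one (hw' k₀)) ((hw' k₀).trans (hw' k).symm)]
    exact (w k).2
  let k₀ : Fin r := ⟨0, hr⟩
  have hCne : C ≠ ⊤ := fun h => hnf k₀ (top_unique (h ▸ hle k₀))
  have ht0 : (t k₀ : K) ≠ 0 := fun h => not_isUnit_zero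
    (M₀ := A k₀) ((Subtype.ext h : Subring.inclusion (hle k₀) (t k₀) = 0) ▸ ht k₀)
  have hfrac : IsFractionRing C K := by
    refine IsFractionRing.of_field _ _ fun z => ?_
    obtain ⟨p, q, hq, rfl⟩ := IsFractionRing.div_surjective (A := A k₀) z
    obtain ⟨n, hn⟩ := hloc k₀ p p.2
    obtain ⟨m, hm⟩ := hloc k₀ q q.2
    refine ⟨⟨_, C.mul_mem hn (C.pow_mem (t k₀).2 m)⟩, ⟨_, C.mul_mem hm (C.pow_mem (t k₀).2 n)⟩, ?_⟩
    have hq0 : (q : K) ≠ 0 := fun h => nonZeroDivisors.ne_zero hq (Subtype.ext h)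
    show (p : K) / (q : K) =
      (p : K) * (t k₀ : K) ^ n * (t k₀ : K) ^ m / ((q : K) * (t k₀ : K) ^ m * (t k₀ : K) ^ n)
    rw [mul_right_comm (q : K), mul_assoc, mul_assoc,
      mul_div_mul_right _ _ (mul_ne_zero (pow_ne_zero _ ht0) (pow_ne_zero _ ht0))]
  have hnoeth : IsNoetherianRing C := by
    refine isNoetherianRing_iff.2 ⟨fun J => ?_⟩
    have : ∀ i, ∃ T : Finset C, (T : Set C) ⊆ J ∧
        Ideal.map (Subring.inclusion (hle i)) J ≤ Ideal.map (Subring.inclusion (hle i)) (Ideal.span (T : Set C)) := by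
      intro i
      have hfg : (Ideal.span (Subring.inclusion (hle i) '' (J : Set C))).FG :=
        IsNoetherian.noetherian _
      obtain ⟨s, hs, hs'⟩ := (Submodule.fg_span_iff_fg_span_finset_subset _).1 hfg
      obtain ⟨T, hT, rfl⟩ := Finset.subset_set_image_iff.1 hs
      refine ⟨T, hT, ?_⟩
      rw [Finset.coe_image] at hs'
      rw [Ideal.map_span]
      exact hs'.le
    choose T hT hT' using this
    refine ⟨Finset.univ.biUnion T, le_antisymm (Submodule.span_le.2 ?_) fun x hx => ?_⟩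
    · intro y hy
      obtain ⟨i, -, hi⟩ := Finset.mem_biUnion.1 (Finset.mem_coe.1 hy)
      exact hT i hi
    by_contra hxn
    let I : Ideal C :=
      Submodule.comap (LinearMap.mulRight C x) (Ideal.span (Finset.univ.biUnion T : Set C))
    obtain ⟨M, hM, hIM⟩ := Ideal.exists_le_maximal I fun h => hxn (by
      have : (1 : C) ∈ I := h ▸ Submodule.mem_top
      simpa [I] using this)
    obtain ⟨i, hi⟩ := hcov M hM.isPrime
    let : Algebra C (A i) := (Subring.inclusion (hle i)).toAlgebra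
    have := isLocalizationAway_inclusion (hle i) (t i) (ht i) (hloc i)
    obtain ⟨⟨a, ⟨_, n, rfl⟩⟩, hax⟩ := (IsLocalization.mem_map_algebraMap_iff (Submonoid.powers (t i)) (A i)).1
      (Ideal.map_mono (Ideal.span_mono (fun y hy => Finset.mem_biUnion.2 ⟨i, Finset.mem_univ i, hy⟩))
        (hT' i (Ideal.mem_map_of_mem _ hx)))
    refine hi (hM.isPrime.mem_of_pow_mem n (hIM ?_))
    show t i ^ n * x ∈ Ideal.span (Finset.univ.biUnion T : Set C)
    have hax' : (x : K) * ((t i : K) ^ n) = ((a : C) : K) := congrArg Subtype.val hax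
    rw [show t i ^ n * x = (a : C) from Subtype.ext (by rw [← hax']; push_cast; ring)]
    exact a.2
  have hmax : ∀ P : Ideal C, P.IsPrime → P ≠ ⊥ → ∀ i, t i ∉ P →
      (P.map (Subring.inclusion (hle i))).IsMaximal ∧
        (P.map (Subring.inclusion (hle i))).comap (Subring.inclusion (hle i)) = P := by
    intro P hP hP0 i hi
    let : Algebra C (A i) := (Subring.inclusion (hle i)).toAlgebra
    have := isLocalizationAway_inclusion (hle i) (t i) (ht i) (hloc i)
    have hd : Disjoint (Submonoid.powers (t i) : Set C) P := Set.disjoint_left.2 (by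
      rintro _ ⟨n, rfl⟩ hn; exact hi (hP.mem_of_pow_mem n hn))
    have h2 : (P.map (Subring.inclusion (hle i))).comap (Subring.inclusion (hle i)) = P :=
      IsLocalization.under_map_of_isPrime_disjoint (Submonoid.powers (t i)) (A i) hP hd
    have hp := IsLocalization.isPrime_of_isPrime_disjoint (Submonoid.powers (t i)) (A i) P hP hd
    refine ⟨Ring.krullDimLE_one_iff_of_noZeroDivisors.1 (hd1 i) _ (fun h0 => hP0 ?_) hp, h2⟩
    rw [eq_bot_iff]
    intro y hy
    have : Subring.inclusion (hle i) y ∈ P.map (Subring.inclusion (hle i)) := Ideal.mem_map_of_mem _ hy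
    rw [show P.map (Subring.inclusion (hle i)) = ⊥ from h0, Ideal.mem_bot] at this
    exact Submodule.mem_bot C |>.2 (Subtype.ext (congrArg (fun z : A i => (z : K)) this))
  have hd1C : Ring.KrullDimLE 1 C := by
    refine Ring.krullDimLE_one_iff_of_noZeroDivisors.2 fun P hP0 hP => ?_
    obtain ⟨M, hM, hPM⟩ := Ideal.exists_le_maximal P hP.ne_top
    obtain ⟨i, hi⟩ := hcov M hM.isPrime
    have hM0 : M ≠ ⊥ := fun h => hP0 (le_bot_iff.1 (h ▸ hPM))
    obtain ⟨h1, h2⟩ := hmax P hP hP0 i (fun h => hi (hPM h))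
    obtain ⟨h3, h4⟩ := hmax M hM.isPrime hM0 i hi
    have := h1.eq_of_le h3.ne_top (Ideal.map_mono hPM)
    rw [← h2, this, h4]
    exact hM
  have hdC : ringKrullDim C = 1 := ringKrullDim_eq_one_of_le C le_rfl hCne
  have hm0 : ∀ M : Ideal C, M.IsMaximal → M ≠ ⊥ := fun M hM h =>
    hCne ((isField_iff_eq_top C).1 (Ring.isField_iff_maximal_bot.2 (h ▸ hM)))
  refine ⟨hnoeth, hdC, ?_, hfrac, fun i => (isOpenImmersion_inclusion (hle i) (t i) (ht i) (hloc i)).1,
    ?_, ?_⟩
  · have key : ∀ M : MaximalSpectrum C, ∃ p : Σ i, MaximalSpectrum (A i),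
        p.2.asIdeal.comap (Subring.inclusion (hle p.1)) = M.asIdeal := fun M => by
      obtain ⟨i, hi⟩ := hcov _ M.isMaximal.isPrime
      obtain ⟨h3, h4⟩ := hmax _ M.isMaximal.isPrime (hm0 _ M.isMaximal) i hi
      exact ⟨⟨i, ⟨_, h3⟩⟩, h4⟩
    choose g hg using key
    have := hsl
    exact Finite.of_injective g fun M M' h => MaximalSpectrum.ext (by rw [← hg M, ← hg M', h])
  · refine Set.eq_univ_of_forall fun p => ?_
    obtain ⟨i, hi⟩ := hcov p.asIdeal p.isPrime
    refine Set.mem_iUnion.2 ⟨i, ?_⟩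
    rw [(isOpenImmersion_inclusion (hle i) (t i) (ht i) (hloc i)).2]
    exact hi
  · intro m hm
    obtain ⟨i, hi⟩ := hcov m.asIdeal m.isPrime
    refine ⟨i, ?_, fun j hj => ?_⟩
    · beta_reduce
      rw [(isOpenImmersion_inclusion (hle i) (t i) (ht i) (hloc i)).2]
      exact hi
    · beta_reduce at hj
      rw [(isOpenImmersion_inclusion (hle j) (t j) (ht j) (hloc j)).2] at hj
      by_contra hne
      obtain ⟨h3, h4⟩ := hmax _ m.isPrime (hm0 _ hm) j hj
      refine hi ?_
      rw [← h4]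
      exact Submodule.mem_sInf.1 (htJ i j hne) _ ⟨bot_le, h3⟩

end Groth.Agent.S7665
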