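import Groth.Statements.S7654
import Groth.Agent.DeltaLib.BaseChange
import Groth.Agent.GrpSchLib.Reduced
import Groth.Agent.Hensel.HenselizationProps
import Groth.Agent.LocalCrit.Completion
import Groth.Agent.S0511
import Groth.Agent.S0540

set_option autoImplicit false
set_option linter.style.haveILetI false
universe u
open CategoryTheory CategoryTheory.Limits AlgebraicGeometry
open Variety

namespace Groth.Agent.S7654

open scoped TensorProduct

open Groth.Agent DeltaLib IsLocalRing

/-- A tensor product over `A` with a field killed by `m_A` is computed on residue fields. -/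
theorem isReduced_tensor_of_separable {A : Type u} [CommRing A] [IsLocalRing A] {B : Type u} [CommRing B]
    [IsLocalRing B] [Algebra A B] [IsLocalHom (algebraMap A B)]
    (hm : (maximalIdeal A).map (algebraMap A B) = maximalIdeal B)
    (hsep : Algebra.IsSeparable (ResidueField A) (ResidueField B))
    (L : Type u) [Field L] [Algebra A L] (hL : maximalIdeal A ≤ RingHom.ker (algebraMap A L)) :
    IsReduced (B ⊗[A] L) := by
  let φ : ResidueField A →+* L := Ideal.Quotient.lift _ (algebraMap A L) hL
  let := φ.toAlgebra
  haveI : IsScalarTower A (ResidueField A) L := IsScalarTower.of_algebraMap_eq fun a => rfl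
  haveI : IsReduced (L ⊗[ResidueField A] ResidueField B) := GrpSchLib.isReduced_tensor_of_isSeparable (ResidueField A) (ResidueField B) L
  haveI : IsReduced (ResidueField B ⊗[ResidueField A] L) :=
    isReduced_of_injective (Algebra.TensorProduct.comm (ResidueField A) (ResidueField B) L)
      (Algebra.TensorProduct.comm (ResidueField A) (ResidueField B) L).injective
  haveI : TensorProduct.CompatibleSMul A (ResidueField A) (ResidueField B) L := ⟨fun r x y => by
    obtain ⟨a, rfl⟩ := residue_surjective r
    show (algebraMap A (ResidueField A) a • x) ⊗ₜ[A] y = x ⊗ₜ[A] (algebraMap A (ResidueField A) a • y)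
    rw [algebraMap_smul, algebraMap_smul, TensorProduct.smul_tmul]⟩
  haveI : IsReduced (ResidueField B ⊗[A] L) :=
    let e : ResidueField B ⊗[ResidueField A] L ≃ₐ[A] ResidueField B ⊗[A] L :=
      Algebra.TensorProduct.equivOfCompatibleSMul A (ResidueField A) A (ResidueField B) L
    isReduced_of_injective e.symm e.symm.injective
  let incl : B →ₐ[A] B ⊗[A] L := Algebra.TensorProduct.includeLeft
  have hkill : ∀ b ∈ maximalIdeal B, incl b = 0 := by
    suffices maximalIdeal B ≤ RingHom.ker incl.toRingHom from fun b hb => this hb
    rw [← hm, Ideal.map_le_iff_le_comap]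
    intro a ha
    show incl (algebraMap A B a) = 0
    rw [incl.commutes, Algebra.TensorProduct.algebraMap_apply', RingHom.mem_ker.1 (hL ha), TensorProduct.tmul_zero]
  let inv : ResidueField B ⊗[A] L →ₐ[A] B ⊗[A] L :=
    Algebra.TensorProduct.lift (Ideal.Quotient.liftₐ _ incl hkill) Algebra.TensorProduct.includeRight
      fun _ _ => Commute.all _ _
  let f : B ⊗[A] L →ₐ[A] ResidueField B ⊗[A] L :=
    Algebra.TensorProduct.map (IsScalarTower.toAlgHom A B (ResidueField B)) (AlgHom.id A L)
  have : inv.comp f = AlgHom.id A _ := Algebra.TensorProduct.ext' fun b l => by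
    show incl b * ((1 : B) ⊗ₜ[A] l) = b ⊗ₜ l
    simp [incl]
  exact isReduced_of_injective f fun x y h => by
    have h1 := congrArg inv h
    simp only [← AlgHom.comp_apply, this] at h1
    exact h1

theorem deltaInv_eq_of_separable {A : Type u} [CommRing A] [IsLocalRing A] [IsNoetherianRing A] [IsReduced A]
    (hfin : Module.Finite A (integralClosure A (FractionRing A))) (hdim : ringKrullDim A = 1)
    (B : Type u) [CommRing B] [IsLocalRing B] [IsNoetherianRing B] [Algebra A B] [Module.Flat A B]
    [IsLocalHom (algebraMap A B)] (hm : (maximalIdeal A).map (algebraMap A B) = maximalIdeal B)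
    (hsep : Algebra.IsSeparable (ResidueField A) (ResidueField B)) :
    Curv2.deltaInv B = Curv2.deltaInv A := by
  haveI := hfin
  refine DeltaLib.deltaInv_eq hfin hdim B hm fun m hm' => ?_
  let := Ideal.Quotient.field m
  refine isReduced_tensor_of_separable hm hsep _ fun a ha => ?_
  have hmA : m.comap (algebraMap A (integralClosure A (FractionRing A))) = maximalIdeal A :=
    IsLocalRing.eq_maximalIdeal (Ideal.isMaximal_comap_of_isIntegral_of_isMaximal m)
  exact Ideal.Quotient.eq_zero_iff_mem.2 (hmA.symm ▸ ha : a ∈ m.comap _)

/-- For a reduced local Nagata ring A of Krull dimension one, the δ-invariant does not change on passing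
to a henselization of A, to a strict henselization of A, or to the completion of A. -/
theorem result (A : Type u) [CommRing A] [IsLocalRing A]
    [IsReduced A] (hN : CAlg.IsNagata A) (hdim : ringKrullDim A = 1) :
    (∀ (B : Type u) [CommRing B] [IsLocalRing B] [Algebra A B] [IsLocalHom (algebraMap A B)],
        Hensel.IsHenselization A B → Curv2.deltaInv B = Curv2.deltaInv A) ∧
      (∀ (B : Type u) [CommRing B] [IsLocalRing B] [Algebra A B] [IsLocalHom (algebraMap A B)],
        Hensel.IsStrictHenselization A B → Curv2.deltaInv B = Curv2.deltaInv A) ∧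
      Curv2.deltaInv (Curv2.cpl A) = Curv2.deltaInv A := by
  obtain ⟨hnoeth, hN2⟩ := hN
  have hfin : Module.Finite A (integralClosure A (FractionRing A)) :=
    RedNorm.finite_norm A fun p => hN2 p.1 (FractionRing (A ⧸ p.1)) inferInstance
  refine ⟨fun B _ _ _ _ hB => ?_, fun B _ _ _ _ hB => ?_, ?_⟩
  · haveI := hB
    haveI : IsNoetherianRing B := (S0511.result A B).1 hnoeth
    haveI := Hensel.faithfullyFlat_of_isHenselization (R := A) (S := B)
    have := Hensel.bijective_residueFieldMap_of_isHenselization (R := A) (S := B)
    refine deltaInv_eq_of_separable hfin hdim B (Hensel.map_maximalIdeal_of_isHenselization A B) ⟨fun y => ?_⟩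
    obtain ⟨x, rfl⟩ := this.2 y
    exact isSeparable_algebraMap x
  · haveI := hB
    haveI : IsNoetherianRing B := (S0540.result A B).1 hnoeth
    haveI := Hensel.faithfullyFlat_of_isStrictHenselization (R := A) (S := B)
    exact deltaInv_eq_of_separable hfin hdim B (Hensel.map_maximalIdeal_of_isStrictHenselization A B)
      (Hensel.IsStrictHenselization.isSepClosure (R := A) (S := B)).separable
  · have hmax : IsLocalRing.maximalIdeal A = (IsLocalRing.maximalIdeal A).map (algebraMap A A) := by
      rw [Algebra.algebraMap_self, Ideal.map_id]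
    have fg := LocalCrit.maximalIdeal_fg (A := A) (C := A) hmax
    haveI := AdicCompletion.isLocalRing_of_fg fg
    haveI := LocalCrit.isNoetherianRing_completion (A := A) (C := A) hmax
    haveI := LocalCrit.flat_completion (A := A) (C := A) hmax
    have hm : (IsLocalRing.maximalIdeal A).map (algebraMap A (Curv2.cpl A)) =
        IsLocalRing.maximalIdeal (Curv2.cpl A) := (AdicCompletion.maximalIdeal_eq_map_of_fg fg).symm
    haveI : IsLocalHom (algebraMap A (Curv2.cpl A)) :=
      ((IsLocalRing.local_hom_TFAE (algebraMap A (Curv2.cpl A))).out 0 2).mpr hm.le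
    refine deltaInv_eq_of_separable hfin hdim (Curv2.cpl A) hm ⟨fun y => ?_⟩
    obtain ⟨b, rfl⟩ := IsLocalRing.residue_surjective y
    obtain ⟨a, ha⟩ := Ideal.Quotient.mk_surjective (AdicCompletion.evalOneₐ (IsLocalRing.maximalIdeal A) b)
    have hk : RingHom.ker (AdicCompletion.evalOneₐ (IsLocalRing.maximalIdeal A)).toRingHom =
        IsLocalRing.maximalIdeal (Curv2.cpl A) :=
      letI : Field (A ⧸ IsLocalRing.maximalIdeal A) := Ideal.Quotient.field _
      IsLocalRing.eq_maximalIdeal (RingHom.ker_isMaximal_of_surjective _
        (AdicCompletion.evalOneₐ_surjective (IsLocalRing.maximalIdeal A)))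
    have h1 : IsLocalRing.residue (Curv2.cpl A) b =
        IsLocalRing.residue (Curv2.cpl A) (algebraMap A (Curv2.cpl A) a) := by
      refine Ideal.Quotient.eq.2 ?_
      rw [← hk, RingHom.mem_ker]
      show AdicCompletion.evalOneₐ (IsLocalRing.maximalIdeal A) (b - algebraMap A _ a) = 0
      rw [map_sub, AlgHom.commutes, ← ha]
      exact sub_self _
    rw [h1]
    exact isSeparable_algebraMap (IsLocalRing.residue A a)

end Groth.Agent.S7654
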