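import Groth.Statements.S17630
import Groth.Agent.Lib.Euler
import Groth.Agent.QCoh.Support

set_option autoImplicit false
universe u
open CategoryTheory CategoryTheory.Limits AlgebraicGeometry
open Coherent

namespace Groth.Agent.S17630
open AlgebraicGeometry CategoryTheory CategoryTheory.Limits
open Groth.Agent
open Groth.Agent.PnCoh.Finite (mapLin deltaLin)

theorem CompactSpaceX (k : Type u) [Field k] (X : Scheme.{u}) [X.Over (Spec (CommRingCat.of k))]
    [IsProper (X ↘ Spec (CommRingCat.of k))] : CompactSpace X :=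
  QuasiCompact.compactSpace_of_compactSpace (X ↘ Spec (CommRingCat.of k))

theorem bounds (k : Type u) [Field k] {X : Scheme.{u}} [X.Over (Spec (CommRingCat.of k))]
    [IsProper (X ↘ Spec (CommRingCat.of k))] {S : ShortComplex X.Modules} (hS : S.ShortExact)
    (h₁ : Coh.IsCoh S.X₁) (h₂ : Coh.IsCoh S.X₂) (h₃ : Coh.IsCoh S.X₃) (n : ℕ) :
    Module.finrank k (Coh.HH X S.X₂ n) ≤ Module.finrank k (Coh.HH X S.X₁ n) + Module.finrank k (Coh.HH X S.X₃ n) ∧
    Module.finrank k (Coh.HH X S.X₁ 0) ≤ Module.finrank k (Coh.HH X S.X₂ 0) ∧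
    Module.finrank k (Coh.HH X S.X₁ (n + 1)) ≤
      Module.finrank k (Coh.HH X S.X₂ (n + 1)) + Module.finrank k (Coh.HH X S.X₃ n) := by
  haveI := fun n => S0002.result k X S.X₁ h₁ n
  haveI := fun n => S0002.result k X S.X₂ h₂ n
  haveI := fun n => S0002.result k X S.X₃ h₃ n
  refine ⟨?_, LinearMap.finrank_le_finrank_of_injective (LinearMap.ker_eq_bot.1 (Euler.ker_mapLin_f_zero k hS)), ?_⟩
  · have e1 := (mapLin k S.f n).finrank_range_add_finrank_ker
    have e2 := (mapLin k S.g n).finrank_range_add_finrank_ker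
    rw [Euler.range_mapLin_f k hS n] at e1
    have := (LinearMap.range (mapLin k S.g n)).finrank_le
    omega
  · have e1 := (mapLin k S.f (n + 1)).finrank_range_add_finrank_ker
    rw [← Euler.range_deltaLin k hS n] at e1
    have := (deltaLin k hS n).finrank_range_le
    have := (LinearMap.range (mapLin k S.f (n + 1))).finrank_le
    omega

/-- Let X be a scheme proper over a field k and 0 → C_0 → C_1 → C_2 → ⋯ an exact sequence of coherent
O_X-modules: the composite of consecutive maps is zero, the sequence is exact at every C_j with j ≥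
1, and C_0 → C_1 is a monomorphism (the source numbers the sequence from C_{−1}; its argument and
its application use that the first map is injective). Then for every i ≥ 0, |dim_k H^i(X, C_0) −
dim_k H^i(X, C_1)| ≤ Σ_{j=1}^{i+1} dim_k H^{i+1−j}(X, C_{j+1}) + Σ_{j=1}^{i} dim_k H^{i−j}(X,
C_{j+1}). (The published bound is 2 · Σ_{j=1}^{i+1} dim_k H^{i+1−j}(X, C_{j+1}); the argument given
yields the two sums here, and the published form fails for the sequence 0 → O(−3) → O(−1) → O_Z → 0
on the projective line, Z a subscheme of length 2, with i = 1: the left side is 2 and the published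
right side is 0.) -/
theorem result (k : Type u) [Field k] (X : Scheme.{u})
    [X.Over (Spec (CommRingCat.of k))] [IsProper (X ↘ Spec (CommRingCat.of k))]
    (C : ℕ → X.Modules) (hC : ∀ j, Coh.IsCoh (C j)) (d : ∀ j, C j ⟶ C (j + 1))
    (hd : ∀ j, d j ≫ d (j + 1) = 0) [Mono (d 0)]
    (hex : ∀ j, (ShortComplex.mk (d j) (d (j + 1)) (hd j)).Exact) (i : ℕ) :
    |(Module.finrank k (Coh.HH X (C 0) i) : ℤ) - (Module.finrank k (Coh.HH X (C 1) i) : ℤ)| ≤
      (Finset.Icc 1 (i + 1)).sum (fun j => ((Module.finrank k (Coh.HH X (C (j + 1)) (i + 1 - j))) : ℤ)) +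
        (Finset.Icc 1 i).sum (fun j => ((Module.finrank k (Coh.HH X (C (j + 1)) (i - j))) : ℤ)) := by
  haveI := CompactSpaceX k X
  haveI : IsLocallyNoetherian X := LocallyOfFiniteType.isLocallyNoetherian (X ↘ Spec (CommRingCat.of k))
  haveI : IsNoetherian X := { __ := ‹IsLocallyNoetherian X›, __ := CompactSpaceX k X }
  let K : ℕ → X.Modules := fun j => kernel (d (j + 1))
  have hK : ∀ j, Coh.IsCoh (K j) := fun j => QCoh.isCoh_kernel (hC _) (hC _) _
  let g : ∀ j, C j ⟶ K j := fun j => kernel.lift _ (d j) (hd j)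
  have hg : ∀ j, Epi (g j) := fun j => (hex j).epi_kernelLift
  let T : ∀ j, ShortComplex X.Modules := fun j =>
    ShortComplex.mk (kernel.ι (d (j + 1))) (g (j + 1)) ((cancel_mono (kernel.ι _)).1 (by
      rw [Category.assoc, kernel.lift_ι, kernel.condition, zero_comp]))
  have hT : ∀ j, (T j).ShortExact := fun j => by
    haveI := hg (j + 1)
    refine { exact := ShortComplex.exact_of_f_is_kernel _ ?_, mono_f := inferInstanceAs (Mono (kernel.ι _)), epi_g := hg (j + 1) }
    exact isKernelOfComp (kernel.ι (d (j + 1 + 1))) (d (j + 1)) (kernelIsKernel (d (j + 1))) _ (kernel.lift_ι _ _ _)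
  let h : X.Modules → ℕ → ℕ := fun M m => Module.finrank k (Coh.HH X M m)
  have hb : ∀ m j, h (K j) m ≤ (Finset.range (m + 1)).sum fun l => h (C (j + 1 + l)) (m - l) := by
    intro m
    induction m with
    | zero => intro j; simpa using (bounds k (hT j) (hK j) (hC _) (hK (j + 1)) 0).2.1
    | succ m ih =>
      intro j
      rw [Finset.sum_range_succ']
      have h1 := (bounds k (hT j) (hK j) (hC _) (hK (j + 1)) m).2.2
      have h2 := ih (j + 1)
      simp only [Nat.add_sub_add_right, Nat.sub_zero, Nat.add_zero, ← Nat.add_assoc] at h2 ⊢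
      rw [Finset.sum_congr rfl fun l _ => by rw [show j + 1 + l + 1 = j + 1 + 1 + l by omega]]
      exact h1.trans (by show h (C (j + 1)) (m + 1) + h (K (j + 1)) m ≤ _; omega)
  have e0 : ∀ m, (Finset.range (m + 1)).sum (fun l => (h (C (1 + 1 + l)) (m - l) : ℤ)) =
      (Finset.Icc 1 (m + 1)).sum fun j => ((Module.finrank k (Coh.HH X (C (j + 1)) (m + 1 - j))) : ℤ) := fun m => by
    rw [← Finset.Ico_succ_right_eq_Icc, Finset.sum_Ico_eq_sum_range]
    refine Finset.sum_congr (by simp) fun l _ => ?_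
    rw [show 1 + 1 + l = 1 + l + 1 by omega, show m + 1 - (1 + l) = m - l by omega]
  have hS : (ShortComplex.mk (d 0) (g 1) ((cancel_mono (kernel.ι _)).1 (by
      rw [Category.assoc, kernel.lift_ι, hd, zero_comp]))).ShortExact := by
    haveI := hg 1
    refine { exact := ShortComplex.exact_of_f_is_kernel _ ?_, mono_f := inferInstanceAs (Mono (d 0)), epi_g := hg 1 }
    exact isKernelOfComp (kernel.ι (d 2)) (d 1) ((hex 0).fIsKernel) _ (kernel.lift_ι _ _ _)
  have hupper : (h (C 1) i : ℤ) ≤ h (C 0) i + h (K 1) i := by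
    exact_mod_cast (bounds k hS (hC 0) (hC 1) (hK 1) i).1
  have hK1 : ∀ m, (h (K 1) m : ℤ) ≤ (Finset.Icc 1 (m + 1)).sum
      fun j => ((Module.finrank k (Coh.HH X (C (j + 1)) (m + 1 - j))) : ℤ) := fun m => by
    rw [← e0]; exact_mod_cast hb m 1
  have hpos : ∀ m, 0 ≤ (Finset.Icc 1 m).sum
      fun j => ((Module.finrank k (Coh.HH X (C (j + 1)) (m - j))) : ℤ) := fun m =>
    Finset.sum_nonneg fun _ _ => Int.natCast_nonneg _
  have hlower : (h (C 0) i : ℤ) ≤ h (C 1) i + (Finset.Icc 1 i).sum
      fun j => ((Module.finrank k (Coh.HH X (C (j + 1)) (i - j))) : ℤ) := by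
    cases i with
    | zero =>
      have : (h (C 0) 0 : ℤ) ≤ h (C 1) 0 := by exact_mod_cast (bounds k hS (hC 0) (hC 1) (hK 1) 0).2.1
      have := hpos 0
      omega
    | succ m =>
      have h1 : (h (C 0) (m + 1) : ℤ) ≤ h (C 1) (m + 1) + h (K 1) m := by
        exact_mod_cast (bounds k hS (hC 0) (hC 1) (hK 1) m).2.2
      have := hK1 m
      omega
  have h3 := hK1 i
  have h4 := hpos i
  have h5 := hpos (i + 1)
  rw [abs_le]
  simp only [h] at h3 hupper hlower
  constructor <;> omega

end Groth.Agent.S17630
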