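import Groth.Statements.S2122
import Mathlib
import Groth.Agent.InvX.Tensor

set_option autoImplicit false
universe u
open CategoryTheory AlgebraicGeometry
open Mor

open MonoidalCategory TopologicalSpace Opposite
open scoped TensorProduct
set_option backward.isDefEq.respectTransparency false
set_option backward.isDefEq.respectTransparency.types false

namespace Groth.Agent.S2122

open Groth.Agent MonoidalCategory TopologicalSpace Opposite in
open scoped TensorProduct in
theorem smul_bij {R M N : Type*} [CommRing R] [AddCommGroup M] [Module R M] [AddCommGroup N] [Module R N]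
    (φ : M ⊗[R] N ≃ₗ[R] R) {a : M} {b : N} (hab : φ (a ⊗ₜ b) = 1) :
    Function.Bijective fun c : R => c • a := by
  haveI := Module.Invertible.right φ
  refine ⟨fun c c' h => ?_, ?_⟩
  · dsimp only at h
    have := congrArg (fun z => φ (z ⊗ₜ[R] b)) h
    simpa [← TensorProduct.smul_tmul', hab] using this
  · refine Module.Invertible.rTensor_surjective_iff (M := N) (f := LinearMap.toSpanSingleton R M a) |>.1 fun z => ?_
    refine ⟨φ z • ((1 : R) ⊗ₜ b), φ.injective ?_⟩
    simp [hab]

open scoped TensorProduct in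
theorem exists_unit_tmul {R M N : Type*} [CommRing R] [IsLocalRing R] [AddCommGroup M] [Module R M]
    [AddCommGroup N] [Module R N] (φ : M ⊗[R] N ≃ₗ[R] R) : ∃ a b, φ (a ⊗ₜ b) = 1 := by
  suffices h : ∀ z, IsUnit (φ z) → ∃ a b, IsUnit (φ (a ⊗ₜ b)) by
    obtain ⟨a, b, u, hu⟩ := h (φ.symm 1) (by simp)
    exact ⟨(↑u⁻¹ : R) • a, b, by rw [← TensorProduct.smul_tmul', map_smul, ← hu]; simp⟩
  intro z
  induction z with
  | zero => intro h; exact ⟨0, 0, by simpa using h⟩
  | tmul a b => exact fun h => ⟨a, b, h⟩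
  | add z z' hz hz' =>
    intro h
    rw [map_add] at h
    exact (IsLocalRing.isUnit_or_isUnit_of_isUnit_add h).elim hz hz'


/-- On a scheme X, if an O_X-module L admits an O_X-module N with L ⊗ N ≅ O_X, then L is invertible:
locally on X it is isomorphic to O_X (locally free of rank one). -/
theorem result {X : Scheme.{u}} (L N : X.Modules)
    (e : CohB1.tensorMod L N ≅ Coh.structureModule X) : PicF.IsInvertible L := by
  let P := CohB1.toPMod L
  let Q := CohB1.toPMod N
  let O := DCoh.toP.obj (Coh.structureModule X)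
  let one : ∀ U : X.Opens, Γ(Coh.structureModule X, U) := fun U => (1 : Γ(X, U))
  have hg1 : ∀ (x : X), Function.Bijective (LinearMap.toSpanSingleton (X.presheaf.stalk x)
      (KFlatLib.stalkMod x O) (KFlatLib.germP O (⊤ : X.Opens) trivial (one ⊤))) :=
    fun x => (InvX.isFrame_one (⊤ : X.Opens)).germ_bijective trivial
  let ψ := fun x => LinearEquiv.ofBijective _ (hg1 x)
  haveI hu := fun x : X => KFlatLib.isIso_stalk_unitShP (x := x) (P ⊗ Q)
  let T := fun x : X => (KFlatLib.tensorStalkEquiv (x := x) P Q).trans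
    ((asIso ((KFlatLib.stalkP x).map (KFlatLib.unitShP (P ⊗ Q))) ≪≫
      ((KFlatLib.stalkP x).mapIso (DCoh.toP.mapIso e))).toLinearEquiv)
  let φ := fun x : X => (T x).trans (ψ x).symm
  -- a pure tensor of sections computing to a section of the structure sheaf
  have hφ : ∀ (W : X.Opens) (x : X) (hx : x ∈ W) (a : Γ(L, W)) (b : Γ(N, W)),
      (T x) (KFlatLib.germP P W hx a ⊗ₜ KFlatLib.germP Q W hx b) =
        KFlatLib.germP O W hx (e.hom.app W (InvX.tmul a b)) := by
    intro W x hx a b
    show (KFlatLib.stalkP x).map (DCoh.toP.map e.hom) ((KFlatLib.stalkP x).map (KFlatLib.unitShP (P ⊗ Q))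
      (KFlatLib.ofTensor P Q _)) = _
    rw [KFlatLib.ofTensor_germ]
    exact (congrArg _ (KFlatLib.stalkModMap_germ _ W hx _)).trans (KFlatLib.stalkModMap_germ _ W hx _)
  have hone : ∀ (W : X.Opens) (x : X) (hx : x ∈ W), ψ x 1 = KFlatLib.germP O W hx (one W) := by
    intro W x hx
    show LinearMap.toSpanSingleton _ _ _ 1 = _
    rw [LinearMap.toSpanSingleton_apply, one_smul,
      ← KFlatLib.germP_res (homOfLE (le_top : W ≤ ⊤)) hx]
    exact congrArg _ (map_one (X.presheaf.map (homOfLE (le_top : W ≤ ⊤)).op).hom)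
  refine InvX.isInvertible_of_frames fun x => ?_
  obtain ⟨a, b, hab⟩ := exists_unit_tmul (φ x)
  obtain ⟨W, hW, l, n, rfl, rfl⟩ := KFlatLib.exists_germP_pair a b
  have h1 : (T x) (KFlatLib.germP P W hW l ⊗ₜ KFlatLib.germP Q W hW n) = ψ x 1 := by
    rw [← hab]; exact ((ψ x).apply_symm_apply _).symm
  rw [hφ W x hW l n, hone W x hW] at h1
  obtain ⟨V, hV, i, j, hij⟩ :=
    TopCat.Presheaf.germ_eq (C := AddCommGrpCat.{u}) O.presheaf x hW hW _ _ h1
  refine ⟨V, hV, AModX.res L i.le l, InvX.isFrame_of_germ fun y hy => ?_⟩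
  refine smul_bij (φ y) (a := KFlatLib.germP P V hy (KFlatLib.res P i l))
    (b := KFlatLib.germP Q V hy (KFlatLib.res Q i n)) ?_
  apply (ψ y).injective
  rw [hone W y (i.le hy)]
  refine ((ψ y).apply_symm_apply _).trans ?_
  rw [KFlatLib.germP_res, KFlatLib.germP_res]
  refine (hφ W y (i.le hy) l n).trans ?_
  have := congrArg (TopCat.Presheaf.germ (C := AddCommGrpCat.{u}) O.presheaf V y hy) hij
  exact ((KFlatLib.germP_res i hy _).symm.trans this).trans (KFlatLib.germP_res j hy _)

end Groth.Agent.S2122
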