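import Groth.Statements.S7652
import Groth.Agent.RedNorm.Basic
import Mathlib.RingTheory.OrderOfVanishing.Noetherian
import Mathlib.RingTheory.DiscreteValuationRing.TFAE

set_option autoImplicit false
universe u
open CategoryTheory CategoryTheory.Limits AlgebraicGeometry
open Variety

namespace Groth.Agent.S7652

open Groth.Agent.RedNorm

/-- For a reduced local Nagata ring (A, m) of Krull dimension one, write A' for the integral closure of
A in its total fraction ring. Then A' is a finite A-module, every localization of A' at a prime is
an integrally closed domain, and the quotient A'/A is an A-module of finite length. (The published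
statement also says that A' is Nagata, which follows from the finiteness of A' over A; this row does
not restate it.) -/
theorem result (A : Type u) [CommRing A] [IsLocalRing A]
    [IsReduced A] (hN : CAlg.IsNagata A) (hdim : ringKrullDim A = 1) :
    Module.Finite A (integralClosure A (FractionRing A)) ∧
      (∀ p : PrimeSpectrum (integralClosure A (FractionRing A)),
        IsDomain (Localization.AtPrime p.asIdeal) ∧ IsIntegrallyClosed (Localization.AtPrime p.asIdeal)) ∧
      Curv2.deltaInv A < ⊤ := by
  obtain ⟨hnoeth, hN2⟩ := hN
  have hfinp : ∀ p : MinP A,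
      Module.Finite (A ⧸ p.1) (integralClosure (A ⧸ p.1) (FractionRing (A ⧸ p.1))) := fun p =>
    hN2 p.1 (FractionRing (A ⧸ p.1)) inferInstance
  have hfin : Module.Finite A (integralClosure A (FractionRing A)) := finite_norm A hfinp
  refine ⟨hfin, fun p => localization_norm A p.asIdeal, ?_⟩
  classical
  have := Ring.krullDimLE_iff.2 hdim.le
  obtain ⟨s, hs⟩ := Module.Finite.iff_fg.1 (show Module.Finite A
    (Subalgebra.toSubmodule (integralClosure A (FractionRing A))) from hfin)
  obtain ⟨⟨c, hc⟩, hc'⟩ := IsLocalization.exist_integer_multiples_of_finset (nonZeroDivisors A) s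
  set N := Norm A
  let Q := ↥N ⧸ LinearMap.range (Algebra.linearMap A ↥N)
  have hkill : ∀ x : N, c • x ∈ LinearMap.range (Algebra.linearMap A ↥N) := by
    rintro ⟨x, hxN⟩
    have hx : x ∈ Submodule.span A (s : Set (FractionRing A)) :=
      hs ▸ (hxN : x ∈ Subalgebra.toSubmodule (integralClosure A (FractionRing A)))
    suffices this : ∀ y ∈ Submodule.span A (s : Set (FractionRing A)),
        ∃ a : A, algebraMap A (FractionRing A) a = c • y by
      obtain ⟨a, ha⟩ := this x hx
      exact ⟨a, Subtype.ext ha⟩
    intro y hy
    induction hy using Submodule.span_induction with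
    | mem z hz => exact hc' z hz
    | zero => exact ⟨0, by rw [smul_zero, map_zero]⟩
    | add a b _ _ ha hb =>
      obtain ⟨a', ha⟩ := ha
      obtain ⟨b', hb⟩ := hb
      exact ⟨a' + b', by rw [map_add, ha, hb, smul_add]⟩
    | smul r z _ hz =>
      obtain ⟨a, ha⟩ := hz
      exact ⟨r * a, by rw [map_mul, ha, smul_comm c r z, Algebra.smul_def r]⟩
  obtain ⟨n, g, hg⟩ := Module.Finite.exists_fin' A N
  have hq : IsFiniteLength A (A ⧸ Ideal.span {c}) := isFiniteLength_quotient_span_singleton A hc
  let g' : (Fin n → A) →ₗ[A] Q := (LinearMap.range (Algebra.linearMap A ↥N)).mkQ.comp g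
  have hker : LinearMap.range (LinearMap.lsmul A (Fin n → A) c) ≤ LinearMap.ker g' := by
    rintro _ ⟨v, rfl⟩
    rw [LinearMap.mem_ker, LinearMap.lsmul_apply, LinearMap.comp_apply, map_smul,
      Submodule.mkQ_apply, Submodule.Quotient.mk_eq_zero]
    exact hkill (g v)
  show Module.length A Q < ⊤
  refine lt_of_le_of_lt (b := Module.length A (Fin n → A ⧸ Ideal.span {c})) ?_ ?_
  · let π : (Fin n → A) →ₗ[A] Fin n → A ⧸ Ideal.span {c} :=
      LinearMap.pi fun i => (Ideal.span {c}).mkQ.comp (LinearMap.proj i)
    have hπ : Function.Surjective π := fun v =>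
      ⟨fun i => Function.surjInv (Submodule.Quotient.mk_surjective _) (v i),
        funext fun i => Function.surjInv_eq (Submodule.Quotient.mk_surjective _) (v i)⟩
    have hle : LinearMap.ker π ≤ LinearMap.ker g' := by
      intro v hv
      choose w hw using fun i => Ideal.mem_span_singleton.1
        ((Submodule.Quotient.mk_eq_zero (Ideal.span {c})).1 (congrFun hv i))
      exact hker ⟨w, funext fun i => (hw i).symm⟩
    let e := LinearMap.quotKerEquivOfSurjective π hπ
    refine Module.length_le_of_surjective ((Submodule.liftQ _ g' hle).comp e.symm.toLinearMap) ?_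
    intro q
    obtain ⟨q, rfl⟩ := Submodule.Quotient.mk_surjective _ q
    obtain ⟨v, hv⟩ := hg q
    refine ⟨e (Submodule.Quotient.mk v), ?_⟩
    simp only [LinearMap.comp_apply, LinearEquiv.coe_coe, LinearEquiv.symm_apply_apply,
      Submodule.liftQ_apply]
    show Submodule.Quotient.mk (g v) = _
    rw [hv]
  · rw [Module.length_pi_of_fintype]
    simp only [Finset.sum_const, Finset.card_univ, Fintype.card_fin, nsmul_eq_mul]
    exact WithTop.mul_lt_top (ENat.natCast_lt_top n)
      (lt_top_iff_ne_top.2 (Module.length_ne_top_iff.2 hq))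

end Groth.Agent.S7652
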