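import Groth.Statements.S12463
import Groth.Agent.S7652
import Groth.Agent.DeltaLib.Basic
import Groth.Agent.DeltaLib.BaseChange
import Mathlib.FieldTheory.PurelyInseparable.Basic

set_option autoImplicit false
universe u
open Variety

namespace Groth.Agent.S12463


open IsLocalRing Groth.Agent

set_option linter.style.haveILetI false

theorem exists_algEquiv_normRed (A : Type u) [CommRing A] [IsReduced A] :
    Nonempty (integralClosure A (FractionRing A) ≃ₐ[A] CAlg2.normRed A) := by
  let L := FractionRing (CAlg2.red A)
  have hbij : Function.Bijective (algebraMap A (CAlg2.red A)) := by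
    refine ⟨fun a b h => ?_, Ideal.Quotient.mk_surjective⟩
    rw [Ideal.Quotient.algebraMap_eq, Ideal.Quotient.eq, nilradical_eq_zero, Submodule.zero_eq_bot,
      Ideal.mem_bot, sub_eq_zero] at h
    exact h
  let E : A ≃ₐ[A] CAlg2.red A := AlgEquiv.ofBijective (Algebra.ofId A _) hbij
  have htow : ∀ a : A, algebraMap A L a = algebraMap (CAlg2.red A) L (E a) :=
    fun a => IsScalarTower.algebraMap_apply A (CAlg2.red A) L a
  haveI : IsFractionRing A L :=
    { map_units := fun s => by
        rw [htow]
        refine IsLocalization.map_units L (⟨E s, ?_⟩ : nonZeroDivisors (CAlg2.red A))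
        exact MulEquivClass.map_nonZeroDivisors E ▸ ⟨s, s.2, rfl⟩
      surj := fun z => by
        obtain ⟨⟨a, s⟩, h⟩ := IsLocalization.surj (nonZeroDivisors (CAlg2.red A)) z
        refine ⟨⟨E.symm a, ⟨E.symm s, MulEquivClass.map_nonZeroDivisors E.symm ▸ ⟨_, s.2, rfl⟩⟩⟩, ?_⟩
        rw [htow, htow, E.apply_symm_apply, E.apply_symm_apply]
        exact h
      exists_of_eq := fun {a b} h => by
        rw [htow, htow] at h
        exact ⟨1, by rw [E.injective (IsFractionRing.injective (CAlg2.red A) L h)]⟩ }
  let σ : FractionRing A ≃ₐ[A] L := IsLocalization.algEquiv (nonZeroDivisors A) _ _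
  have hmem : ∀ z : FractionRing A,
      z ∈ integralClosure A (FractionRing A) ↔ σ z ∈ integralClosure (CAlg2.red A) L := by
    intro z
    show IsIntegral A z ↔ IsIntegral (CAlg2.red A) (σ z)
    rw [← isIntegral_algHom_iff σ.toAlgHom σ.injective]
    exact ⟨fun h => h.tower_top, fun h => isIntegral_trans _ h⟩
  exact ⟨AlgEquiv.ofBijective
    ((σ.toAlgHom.comp (integralClosure A (FractionRing A)).val).codRestrict
      ((integralClosure (CAlg2.red A) L).restrictScalars A) fun z => (hmem z.1).1 z.2)
    ⟨fun z w h => Subtype.ext (σ.injective (congrArg Subtype.val h)), fun z =>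
      ⟨⟨σ.symm z.1, (hmem _).2 (by rw [σ.apply_symm_apply]; exact z.2)⟩, Subtype.ext (σ.apply_symm_apply _)⟩⟩⟩

theorem card_emb_eq_one (A : Type u) [CommRing A] [IsLocalRing A] [IsReduced A] [IsSepClosed (ResidueField A)]
    (m : MaximalSpectrum (CAlg2.normRed A)) : ENat.card (Brnch.Emb A m) = 1 := by
  haveI hint : Algebra.IsIntegral A (CAlg2.normRed A) := by
    haveI : Algebra.IsIntegral A (CAlg2.red A) :=
      algebraMap_isIntegral_iff.1 (RingHom.isIntegral_of_surjective _ Ideal.Quotient.mk_surjective)
    exact Algebra.IsIntegral.trans (CAlg2.red A)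
  haveI := m.isMaximal
  let D := CAlg2.normRed A ⧸ m.asIdeal
  letI : Field D := Ideal.Quotient.field m.asIdeal
  have hm : m.asIdeal.comap (algebraMap A (CAlg2.normRed A)) = maximalIdeal A :=
    IsLocalRing.eq_maximalIdeal (Ideal.isMaximal_comap_of_isIntegral_of_isMaximal m.asIdeal)
  let j : ResidueField A →+* D := Ideal.Quotient.lift (maximalIdeal A)
    ((Ideal.Quotient.mk m.asIdeal).comp (algebraMap A (CAlg2.normRed A))) fun a ha =>
      Ideal.Quotient.eq_zero_iff_mem.2 (hm.symm.le ha)
  letI := j.toAlgebra
  haveI : IsScalarTower A (ResidueField A) D := IsScalarTower.of_algebraMap_eq fun a => rfl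
  haveI : Algebra.IsIntegral A D := ⟨fun z => by
    obtain ⟨z, rfl⟩ := Ideal.Quotient.mk_surjective z
    exact (hint.isIntegral z).map (Ideal.Quotient.mkₐ A m.asIdeal)⟩
  haveI : Algebra.IsIntegral (ResidueField A) D := Algebra.IsIntegral.tower_top A
  haveI : Algebra.IsAlgebraic (ResidueField A) D := Algebra.IsIntegral.isAlgebraic
  haveI : IsPurelyInseparable (ResidueField A) D := Algebra.IsAlgebraic.isPurelyInseparable_of_isSepClosed
  let K := AlgebraicClosure (ResidueField A)
  have e : Brnch.Emb A m ≃ (D →ₐ[ResidueField A] K) :=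
    { toFun := fun σ =>
        { toRingHom := σ.1
          commutes' := fun r => by
            obtain ⟨a, rfl⟩ := residue_surjective r
            exact RingHom.congr_fun σ.2 a }
      invFun := fun τ => ⟨τ.toRingHom, RingHom.ext fun a => τ.commutes (residue A a)⟩
      left_inv := fun σ => rfl
      right_inv := fun τ => rfl }
  rw [ENat.card_congr e]
  haveI : Subsingleton (D →ₐ[ResidueField A] K) := inferInstance
  haveI : Nonempty (D →ₐ[ResidueField A] K) := ⟨IsAlgClosed.lift⟩
  exact le_antisymm ((ENat.card_le_one_iff_subsingleton _).2 inferInstance)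
    (ENat.one_le_iff_ne_zero.2 fun h => not_isEmpty_of_nonempty _ ((ENat.card_eq_zero_iff_empty _).1 h))

theorem equality_case {A : Type u} [CommRing A] [IsLocalRing A] {N : Type u} [CommRing N] [Algebra A N]
    [Fintype (MaximalSpectrum N)]
    (hcomap : ∀ m : MaximalSpectrum N, m.asIdeal.comap (algebraMap A N) = maximalIdeal A) (d : ℕ)
    (hd : Module.length A (N ⧸ LinearMap.range (Algebra.linearMap A N)) = (d : ℕ∞))
    (hr : ((Fintype.card (MaximalSpectrum N) : ℕ) : ℕ∞) = (d : ℕ∞) + 1) :
    (∀ m : MaximalSpectrum N, Module.length A (N ⧸ m.asIdeal) = 1) ∧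
      ∀ a' : N, (∃ a : A, ∀ m : MaximalSpectrum N, a' - algebraMap A N a ∈ m.asIdeal) →
        a' ∈ (algebraMap A N).range := by
  classical
  let P := ∀ m : MaximalSpectrum N, N ⧸ m.asIdeal
  let π : N →ₗ[A] P := LinearMap.pi fun m => (Ideal.Quotient.mkₐ A m.asIdeal).toLinearMap
  have hπ : Function.Surjective π := fun z => by
    choose x hx using fun m => Ideal.Quotient.mk_surjective (z m)
    obtain ⟨r, hr⟩ := Ideal.exists_forall_sub_mem_ideal (I := fun m : MaximalSpectrum N => m.asIdeal)
      (fun i j hij => Ideal.isCoprime_iff_sup_eq.2 (i.isMaximal.coprime_of_ne j.isMaximal fun h =>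
        hij (MaximalSpectrum.ext h))) x
    exact ⟨r, funext fun m => (Ideal.Quotient.eq.2 (hr m)).trans (hx m)⟩
  let ρ : A →ₗ[A] P := π.comp (Algebra.linearMap A N)
  let q := LinearMap.range (Algebra.linearMap A N)
  let g : N ⧸ q →ₗ[A] P ⧸ LinearMap.range ρ :=
    Submodule.mapQ _ _ π (by rintro _ ⟨a, rfl⟩; exact ⟨a, rfl⟩)
  have hg : Function.Surjective g := by
    intro z
    obtain ⟨w, rfl⟩ := Submodule.mkQ_surjective _ z
    obtain ⟨n, rfl⟩ := hπ w
    exact ⟨Submodule.Quotient.mk n, rfl⟩
  have h1 : Module.length A (LinearMap.range ρ) ≤ 1 := by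
    haveI : IsSimpleModule A (A ⧸ maximalIdeal A) :=
      isSimpleModule_iff_isCoatom.2 (IsLocalRing.maximalIdeal.isMaximal A).out
    refine le_trans (Module.length_le_of_surjective
      ((maximalIdeal A).liftQ ρ.rangeRestrict ?_) ?_) (Module.length_eq_one A (A ⧸ maximalIdeal A)).le
    · intro a ha
      rw [LinearMap.ker_rangeRestrict, LinearMap.mem_ker]
      funext m
      refine Ideal.Quotient.eq_zero_iff_mem.2 ?_
      rw [← hcomap m] at ha
      exact ha
    · intro z
      obtain ⟨a, ha⟩ := LinearMap.surjective_rangeRestrict ρ z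
      exact ⟨Submodule.Quotient.mk a, ha⟩
  have h3 := Module.length_eq_add_of_exact (LinearMap.range ρ).subtype (LinearMap.range ρ).mkQ
    (Submodule.injective_subtype _) (Submodule.mkQ_surjective _) (LinearMap.exact_subtype_mkQ _)
  have h4 := Module.length_eq_add_of_exact (LinearMap.ker g).subtype g
    (Submodule.injective_subtype _) hg (LinearMap.exact_subtype_ker_map g)
  have hgle : Module.length A (P ⧸ LinearMap.range ρ) ≤ (d : ℕ∞) := by
    rw [← hd, h4]; exact le_add_self
  have hsum : (∑ m : MaximalSpectrum N, Module.length A (N ⧸ m.asIdeal)) =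
      Module.length A (LinearMap.range ρ) + Module.length A (P ⧸ LinearMap.range ρ) :=
    (Module.length_pi_of_fintype (R := A) fun m : MaximalSpectrum N => N ⧸ m.asIdeal).symm.trans h3
  have hone : ∀ m : MaximalSpectrum N, 1 ≤ Module.length A (N ⧸ m.asIdeal) := fun m => by
    rw [ENat.one_le_iff_ne_zero, ne_eq, Module.length_eq_zero_iff]
    exact not_subsingleton_iff_nontrivial.2 (Ideal.Quotient.nontrivial_iff.2 m.isMaximal.ne_top)
  have hle : (∑ m : MaximalSpectrum N, Module.length A (N ⧸ m.asIdeal)) ≤ (d : ℕ∞) + 1 := by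
    rw [hsum, add_comm (d : ℕ∞)]; exact add_le_add h1 hgle
  have hlen : ∀ m : MaximalSpectrum N, Module.length A (N ⧸ m.asIdeal) = 1 := by
    intro m
    refine le_antisymm ?_ (hone m)
    rw [← hr, ← Finset.add_sum_erase _ _ (Finset.mem_univ m)] at hle
    have h5 : (((Finset.univ.erase m).card : ℕ) : ℕ∞) ≤
        ∑ x ∈ Finset.univ.erase m, Module.length A (N ⧸ x.asIdeal) := by
      rw [Finset.card_eq_sum_ones, Nat.cast_sum]
      exact Finset.sum_le_sum fun x _ => by simpa using hone x
    have h6 := (add_le_add (le_refl (Module.length A (N ⧸ m.asIdeal))) h5).trans hle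
    have hc : Fintype.card (MaximalSpectrum N) = (Finset.univ.erase m).card + 1 := by
      rw [Finset.card_erase_add_one (Finset.mem_univ m), Finset.card_univ]
    rw [hc, Nat.cast_add, Nat.cast_one, add_comm] at h6
    exact (ENat.add_le_add_iff_left (ENat.natCast_ne_top _)).1 h6
  refine ⟨hlen, ?_⟩
  · rintro a' ⟨a, ha⟩
    have hker : Module.length A (LinearMap.ker g) = 0 := by
      have h7 : (d : ℕ∞) ≤ Module.length A (P ⧸ LinearMap.range ρ) := by
        have h8 : (d : ℕ∞) + 1 ≤ 1 + Module.length A (P ⧸ LinearMap.range ρ) := by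
          refine le_trans (le_of_eq ?_) (le_trans hsum.le (add_le_add h1 le_rfl))
          rw [Finset.sum_congr rfl (fun m _ => hlen m), ← hr]
          simp
        rw [add_comm] at h8
        exact (ENat.add_le_add_iff_left ENat.one_ne_top).1 h8
      have h9 : (d : ℕ∞) = Module.length A (LinearMap.ker g) + Module.length A (P ⧸ LinearMap.range ρ) := by
        rw [← h4, hd]
      rw [le_antisymm hgle h7, eq_comm] at h9
      exact (ENat.addLECancellable_of_ne_top (ENat.natCast_ne_top d)).inj_left.1 (h9.trans (zero_add _).symm)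
    rw [Module.length_eq_zero_iff] at hker
    have h10 : Submodule.Quotient.mk a' ∈ LinearMap.ker g := by
      rw [LinearMap.mem_ker]
      show Submodule.Quotient.mk (π a') = 0
      rw [Submodule.Quotient.mk_eq_zero]
      exact ⟨a, funext fun m => (Ideal.Quotient.eq.2 (ha m)).symm⟩
    have h11 := congrArg Subtype.val (Subsingleton.elim (⟨_, h10⟩ : LinearMap.ker g) 0)
    exact (Submodule.Quotient.mk_eq_zero q).1 h11

/-- Let (A, m) be a strictly henselian reduced Nagata local ring of dimension one with δ-invariant equal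
to the number of geometric branches minus one, and A' the integral closure of A in its total ring of
fractions. Then A is a wedge of discrete valuation rings: for every maximal ideal m' of A' the
localization A'_{m'} is a discrete valuation ring whose residue field is the image of A, and A
consists exactly of the elements of A' congruent to an element of A modulo every maximal ideal of A'
(the displayed inclusion; the reverse inclusion is trivial). (The inequality δ ≥ branches − 1 of the
published statement holds for every reduced Nagata local ring of dimension one and is not restated.) -/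
theorem result (A : Type u) [CommRing A] [HenselianLocalRing A]
    [IsSepClosed (IsLocalRing.ResidueField A)] [IsReduced A] (hN : CAlg.IsNagata A) (hdim : ringKrullDim A = 1)
    (heq : Curv2.deltaInv A + 1 = Brnch.numGeomBranches A) :
    (∀ m' : MaximalSpectrum ↥(integralClosure A (FractionRing A)),
        (∃ _ : IsDomain (Localization.AtPrime m'.asIdeal), IsDiscreteValuationRing (Localization.AtPrime m'.asIdeal)) ∧
        Function.Surjective (⇑(IsLocalRing.residue (Localization.AtPrime m'.asIdeal)) ∘
          ⇑(algebraMap ↥(integralClosure A (FractionRing A)) (Localization.AtPrime m'.asIdeal)) ∘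
          ⇑(algebraMap A ↥(integralClosure A (FractionRing A))))) ∧
    ∀ a' : ↥(integralClosure A (FractionRing A)),
      (∃ a : A, ∀ m' : MaximalSpectrum ↥(integralClosure A (FractionRing A)),
          a' - algebraMap A _ a ∈ m'.asIdeal) →
      a' ∈ (algebraMap A ↥(integralClosure A (FractionRing A))).range := by
  classical
  obtain ⟨hfin, -, hlt⟩ := S7652.result A hN hdim
  haveI := hfin
  haveI := hN.1
  obtain ⟨e⟩ := exists_algEquiv_normRed A
  let Φ : MaximalSpectrum ↥(integralClosure A (FractionRing A)) ≃ MaximalSpectrum (CAlg2.normRed A) :=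
    { toFun := fun m => ⟨m.asIdeal.comap e.symm.toRingEquiv,
        haveI := m.isMaximal; Ideal.comap_isMaximal_of_surjective _ e.symm.surjective⟩
      invFun := fun m => ⟨m.asIdeal.comap e.toRingEquiv,
        haveI := m.isMaximal; Ideal.comap_isMaximal_of_surjective _ e.surjective⟩
      left_inv := fun m => MaximalSpectrum.ext (by ext z; simp)
      right_inv := fun m => MaximalSpectrum.ext (by ext z; simp) }
  have hcard : Brnch.numGeomBranches A = ENat.card (MaximalSpectrum ↥(integralClosure A (FractionRing A))) := by
    rw [Brnch.numGeomBranches, if_pos (minimalPrimes.finite_of_isNoetherianRing A), ENat.card_congr Φ]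
    have hU : ∀ m : MaximalSpectrum (CAlg2.normRed A), Unique (Brnch.Emb A m) := fun m => by
      have h1 := card_emb_eq_one A m
      haveI : Subsingleton (Brnch.Emb A m) := (ENat.card_le_one_iff_subsingleton _).1 h1.le
      haveI : Nonempty (Brnch.Emb A m) := by
        by_contra hh
        rw [not_nonempty_iff] at hh
        rw [(ENat.card_eq_zero_iff_empty _).2 hh] at h1
        exact zero_ne_one h1
      exact uniqueOfSubsingleton (Classical.arbitrary _)
    haveI := hU
    exact ENat.card_congr (Equiv.sigmaUnique _ _)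
  rw [hcard] at heq
  haveI : Finite (MaximalSpectrum ↥(integralClosure A (FractionRing A))) := by
    by_contra hinf
    rw [not_finite_iff_infinite] at hinf
    rw [ENat.card_eq_top_of_infinite] at heq
    exact hlt.ne (by simpa using heq)
  haveI := Fintype.ofFinite (MaximalSpectrum ↥(integralClosure A (FractionRing A)))
  have hcomap : ∀ m : MaximalSpectrum ↥(integralClosure A (FractionRing A)), m.asIdeal.comap (algebraMap A ↥(integralClosure A (FractionRing A))) = maximalIdeal A := fun m => by
    haveI := m.isMaximal
    exact IsLocalRing.eq_maximalIdeal (Ideal.isMaximal_comap_of_isIntegral_of_isMaximal m.asIdeal)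
  obtain ⟨d, hd⟩ := ENat.ne_top_iff_exists.1 hlt.ne
  obtain ⟨hlen, hA⟩ := equality_case (N := (integralClosure A (FractionRing A))) hcomap d hd.symm (by rw [hd, heq, ENat.card_eq_coe_fintype_card])
  refine ⟨fun m' => ?_, ?_⟩
  · haveI := m'.isMaximal
    obtain ⟨hdom, hic⟩ := RedNorm.localization_norm A m'.asIdeal
    refine ⟨⟨hdom, ?_⟩, ?_⟩
    · obtain ⟨π', hπ', hgen⟩ := DeltaLib.exists_generator hfin hdim m'.asIdeal (hcomap m')
      haveI : IsNoetherianRing ↥(integralClosure A (FractionRing A)) := IsNoetherianRing.of_finite A _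
      haveI : IsNoetherianRing (Localization.AtPrime m'.asIdeal) := IsLocalization.isNoetherianRing m'.asIdeal.primeCompl _ inferInstance
      have hmax : maximalIdeal (Localization.AtPrime m'.asIdeal) = Ideal.span {algebraMap ↥(integralClosure A (FractionRing A)) (Localization.AtPrime m'.asIdeal) π'} := by
        refine le_antisymm ?_ ?_
        · rw [← IsLocalization.AtPrime.map_eq_maximalIdeal m'.asIdeal (Localization.AtPrime m'.asIdeal), Ideal.map_le_iff_le_comap]
          intro z hz
          obtain ⟨c, hc, d', hd'⟩ := hgen z hz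
          show algebraMap ↥(integralClosure A (FractionRing A)) (Localization.AtPrime m'.asIdeal) z ∈ Ideal.span _
          refine (Ideal.unit_mul_mem_iff_mem _ (IsLocalization.map_units (Localization.AtPrime m'.asIdeal) (⟨c, hc⟩ : m'.asIdeal.primeCompl))).1 ?_
          show algebraMap ↥(integralClosure A (FractionRing A)) (Localization.AtPrime m'.asIdeal) c * algebraMap ↥(integralClosure A (FractionRing A)) (Localization.AtPrime m'.asIdeal) z ∈ Ideal.span _
          rw [← map_mul, hd', map_mul]
          exact Ideal.mul_mem_left _ _ (Ideal.mem_span_singleton_self _)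
        · rw [Ideal.span_le, Set.singleton_subset_iff]
          exact (IsLocalization.AtPrime.to_map_mem_maximal_iff (Localization.AtPrime m'.asIdeal) m'.asIdeal _).2 hπ'
      obtain ⟨u, hum, hu⟩ := DeltaLib.exists_nzd_mem (A := A) hdim
      have hun : algebraMap ↥(integralClosure A (FractionRing A)) (Localization.AtPrime m'.asIdeal) (algebraMap A ↥(integralClosure A (FractionRing A)) u) ∈ maximalIdeal (Localization.AtPrime m'.asIdeal) :=
        (IsLocalization.AtPrime.to_map_mem_maximal_iff (Localization.AtPrime m'.asIdeal) m'.asIdeal _).2 ((hcomap m').symm.le hum)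
      have hu0 : algebraMap ↥(integralClosure A (FractionRing A)) (Localization.AtPrime m'.asIdeal) (algebraMap A ↥(integralClosure A (FractionRing A)) u) ≠ 0 := fun h0 => by
        obtain ⟨⟨c, hc⟩, hc0⟩ := (IsLocalization.map_eq_zero_iff m'.asIdeal.primeCompl (Localization.AtPrime m'.asIdeal) _).1 h0
        have h7 : (c : FractionRing A) * algebraMap A (FractionRing A) u = 0 := congrArg Subtype.val hc0
        have h8 := (IsLocalization.map_units (FractionRing A) (⟨u, hu⟩ : nonZeroDivisors A)).mul_left_eq_zero.1 h7
        exact hc ((Subtype.ext h8 : c = 0) ▸ m'.asIdeal.zero_mem)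
      have hnf : ¬ IsField (Localization.AtPrime m'.asIdeal) := fun hf => by
        rw [IsLocalRing.isField_iff_maximalIdeal_eq.1 hf, Ideal.mem_bot] at hun
        exact hu0 hun
      exact ((IsDiscreteValuationRing.TFAE (Localization.AtPrime m'.asIdeal) hnf).out 0 4).2 (⟨⟨_, hmax⟩⟩ : (maximalIdeal (Localization.AtPrime m'.asIdeal)).IsPrincipal)
    · haveI hs : IsSimpleModule A (↥(integralClosure A (FractionRing A)) ⧸ m'.asIdeal) := Module.length_eq_one_iff.1 (hlen m')
      intro z
      obtain ⟨w, rfl⟩ := IsLocalRing.residue_surjective z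
      obtain ⟨⟨n, s⟩, hns⟩ := IsLocalization.surj m'.asIdeal.primeCompl w
      have htop : ∀ z : ↥(integralClosure A (FractionRing A)) ⧸ m'.asIdeal, ∃ a : A, algebraMap A (↥(integralClosure A (FractionRing A)) ⧸ m'.asIdeal) a = z := fun z => by
        have h9 : Submodule.span A {(1 : ↥(integralClosure A (FractionRing A)) ⧸ m'.asIdeal)} = ⊤ := by
          refine (eq_bot_or_eq_top _).resolve_left ?_
          rw [Submodule.span_singleton_eq_bot]
          haveI := Ideal.Quotient.nontrivial_iff.2 m'.isMaximal.ne_top
          exact one_ne_zero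
        obtain ⟨a, ha⟩ := Submodule.mem_span_singleton.1 (h9.symm ▸ Submodule.mem_top : z ∈ Submodule.span A _)
        exact ⟨a, by rw [Algebra.algebraMap_eq_smul_one]; exact ha⟩
      letI := Ideal.Quotient.field m'.asIdeal
      obtain ⟨a, ha⟩ := htop (Ideal.Quotient.mk _ n / Ideal.Quotient.mk _ (s : ↥(integralClosure A (FractionRing A))))
      refine ⟨a, ?_⟩
      have hs0 : Ideal.Quotient.mk m'.asIdeal (s : ↥(integralClosure A (FractionRing A))) ≠ 0 := fun h => s.2 (Ideal.Quotient.eq_zero_iff_mem.1 h)
      have h10 : algebraMap A ↥(integralClosure A (FractionRing A)) a * s - n ∈ m'.asIdeal := by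
        refine Ideal.Quotient.eq.1 ?_
        rw [map_mul]
        show algebraMap A (↥(integralClosure A (FractionRing A)) ⧸ m'.asIdeal) a * _ = _
        rw [ha, div_mul_cancel₀ _ hs0]
      show IsLocalRing.residue (Localization.AtPrime m'.asIdeal) (algebraMap ↥(integralClosure A (FractionRing A)) (Localization.AtPrime m'.asIdeal) (algebraMap A ↥(integralClosure A (FractionRing A)) a)) = IsLocalRing.residue (Localization.AtPrime m'.asIdeal) w
      refine Ideal.Quotient.eq.2 ((Ideal.unit_mul_mem_iff_mem _ (IsLocalization.map_units (Localization.AtPrime m'.asIdeal) s)).1 ?_)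
      have h11 := (IsLocalization.AtPrime.to_map_mem_maximal_iff (Localization.AtPrime m'.asIdeal) m'.asIdeal _).2 h10
      convert h11 using 1
      rw [map_sub, map_mul, ← hns]
      ring
  · exact hA

end Groth.Agent.S12463
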