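import Groth.Statements.S7642
import Groth.Agent.Lib.CurveAmple
import Groth.Agent.AmpleVan.Components
import Mathlib.AlgebraicGeometry.IdealSheaf.IrreducibleComponent

set_option autoImplicit false
set_option backward.isDefEq.respectTransparency false
set_option backward.isDefEq.respectTransparency.types false
set_option linter.style.haveILetI false
set_option linter.unusedSectionVars false
set_option maxHeartbeats 400000
universe u
open CategoryTheory CategoryTheory.Limits AlgebraicGeometry
open Variety

namespace Groth.Agent.S7642

open Groth.Agent.H23 Groth.Agent.H23.TrivBasic TopologicalSpace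

theorem comp_facts {X : Scheme.{u}} [IsNoetherian X] (C : Set X) (hC : C ∈ irreducibleComponents (X : Type u)) :
    IsIntegral (X.irreducibleComponentIdeal C hC).radical.subscheme ∧
      topologicalKrullDim (X.irreducibleComponentIdeal C hC).radical.subscheme = topologicalKrullDim C := by
  let I := (X.irreducibleComponentIdeal C hC).radical
  have hr : Set.range I.subschemeι = C := by
    rw [Scheme.IdealSheafData.range_subschemeι, Scheme.IdealSheafData.support_radical]
    rfl
  let e := I.subschemeι.isClosedEmbedding.isEmbedding.toHomeomorph.trans (Homeomorph.setCongr hr)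
  haveI : IrreducibleSpace C := Subtype.irreducibleSpace hC.1
  haveI : IrreducibleSpace I.subscheme := e.symm.surjective.irreducibleSpace e.symm.continuous
  haveI : IsReduced I.subscheme := RedSub.isReduced_subscheme fun U => Ideal.radical_isRadical _
  exact ⟨isIntegral_of_irreducibleSpace_of_isReduced _, e.isHomeomorph.topologicalKrullDim_eq⟩

theorem isAmple_of_dim_zero {k : Type u} [Field k] {X : Scheme.{u}} (f : X ⟶ Spec (CommRingCat.of k))
    [IsProper f] [IsIntegral X] (hd : topologicalKrullDim X ≤ 0) {L : X.Modules} (hL : PicF.IsInvertible L) :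
    CohB1.IsAmple L := by
  haveI : CompactSpace X := QuasiCompact.compactSpace_of_compactSpace f
  have hz : VarDim.deg f (genericPoint X) = 0 := by
    have h := (VarDim.topologicalKrullDim_eq_deg_genericPoint f).symm.le.trans hd
    exact Nat.le_zero.1 (by exact_mod_cast h)
  have hall : ∀ x : X, x = genericPoint X := fun x =>
    (VarDim.eq_of_specializes_of_deg_le f (genericPoint_specializes x) (by omega)).symm
  obtain ⟨U, hU, e, he⟩ := InvX.exists_frame hL (genericPoint X)
  have hUt : U = ⊤ := top_le_iff.1 fun x _ => hall x ▸ hU
  subst hUt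
  obtain ⟨V, hV, hxV, -⟩ := exists_isAffineOpen_mem_and_subset (x := genericPoint X) (U := ⊤) trivial
  have hVt : V = ⊤ := top_le_iff.1 fun x _ => hall x ▸ hxV
  letI := PicMul.clMonoid (X := X)
  obtain ⟨t, ht⟩ := AmpleX.exists_section_of_cl_eq (B := CohB1.tensorPow L 1)
    (by rw [PicMul.cl_tensorPow, pow_one]) (InvX.ofSect e)
  refine AmpleX.isAmple_iff.2 ⟨hL, inferInstance, fun x => ⟨1, Nat.one_pos, t, ?_, ?_⟩⟩
  all_goals rw [ht, show CohB1.genLocus L (InvX.ofSect e) = ⊤ from locus_eq_top_iff.2 he]
  · trivial
  · exact hVt ▸ hV

/-- Let X be proper of dimension at most one over a field k and let L be an invertible module on X. Then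
L is ample if and only if deg(L|_C) > 0 for every irreducible component C of X of dimension one, C
carrying its reduced induced structure. -/
theorem result (k : Type u) [Field k] (X : Scheme.{u}) [X.Over (Spec (CommRingCat.of k))] [IsProper (X ↘ (Spec (CommRingCat.of k)))] [IsNoetherian X]
    (hdim : topologicalKrullDim X ≤ 1) (L : X.Modules) (hL : PicF.IsInvertible L) :
    CohB1.IsAmple L ↔ ∀ (C : Set X) (hC : C ∈ irreducibleComponents (X : Type u)),
      topologicalKrullDim C = 1 → 0 < @Curv2.deg k _ (X.irreducibleComponentIdeal C hC).radical.subscheme ⟨(X.irreducibleComponentIdeal C hC).radical.subschemeι ≫ (X ↘ (Spec (CommRingCat.of k)))⟩ ((Scheme.Modules.pullback (X.irreducibleComponentIdeal C hC).radical.subschemeι).obj L) 1 := by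
  classical
  letI := PicMul.clMonoid (X := X)
  constructor
  · intro h C hC hd
    let I := (X.irreducibleComponentIdeal C hC).radical
    letI : I.subscheme.Over (Spec (CommRingCat.of k)) := ⟨I.subschemeι ≫ (X ↘ (Spec (CommRingCat.of k)))⟩
    haveI : IsProper (I.subscheme ↘ Spec (CommRingCat.of k)) :=
      show IsProper (I.subschemeι ≫ (X ↘ Spec (CommRingCat.of k))) from inferInstance
    obtain ⟨hint, hdim1⟩ := comp_facts C hC
    haveI := hint
    haveI : CompactSpace I.subscheme := QuasiCompact.compactSpace_of_compactSpace (I.subscheme ↘ Spec (CommRingCat.of k))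
    exact CurveAmple.deg_pos_of_ample (k := k) (hdim1.trans hd)
      (AmpleVan.FiniteSurj.isAmple_pullback_of_isAffineHom I.subschemeι h)
  · intro h
    let s : Finset (Closeds X) := (TopologicalSpace.NoetherianSpace.finite_irreducibleComponents (α := X)).toFinset.attach.image
      fun C => ⟨C.1, isClosed_of_mem_irreducibleComponents _ ((Set.Finite.mem_toFinset _).1 C.2)⟩
    refine AmpleVan.FiniteSurj.isAmple_of_finite_cover (A := k) hL s ?_ fun D hD => ?_
    · refine top_le_iff.1 fun x _ => ?_
      have hx : irreducibleComponent x ∈ irreducibleComponents X := irreducibleComponent_mem_irreducibleComponents x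
      have hle : (⟨irreducibleComponent x, isClosed_irreducibleComponent⟩ : Closeds X) ≤ s.sup id :=
        Finset.le_sup (f := id) (Finset.mem_image.2 ⟨⟨_, (Set.Finite.mem_toFinset _).2 hx⟩, Finset.mem_attach _ _, rfl⟩)
      exact hle mem_irreducibleComponent
    obtain ⟨⟨C, hC'⟩, -, rfl⟩ := Finset.mem_image.1 hD
    have hC : C ∈ irreducibleComponents (X : Type u) := (Set.Finite.mem_toFinset _).1 hC'
    have hJ : Scheme.IdealSheafData.vanishingIdeal ⟨C, isClosed_of_mem_irreducibleComponents _ hC⟩ =
        (X.irreducibleComponentIdeal C hC).radical := by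
      rw [← Scheme.IdealSheafData.vanishingIdeal_support]
      congr 1
    rw [hJ]
    let I := (X.irreducibleComponentIdeal C hC).radical
    letI : I.subscheme.Over (Spec (CommRingCat.of k)) := ⟨I.subschemeι ≫ (X ↘ (Spec (CommRingCat.of k)))⟩
    haveI : IsProper (I.subscheme ↘ Spec (CommRingCat.of k)) :=
      show IsProper (I.subschemeι ≫ (X ↘ Spec (CommRingCat.of k))) from inferInstance
    obtain ⟨hint, hdim1⟩ := comp_facts C hC
    haveI := hint
    have hLI := PicClLib.isInvertible_pullback I.subschemeι hL
    by_cases hd : topologicalKrullDim C = 1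
    · exact CurveAmple.isAmple_of_deg_pos (k := k) (hdim1.trans hd) hLI (h C hC hd)
    · refine isAmple_of_dim_zero (I.subscheme ↘ Spec (CommRingCat.of k)) ?_ hLI
      have hle : topologicalKrullDim I.subscheme ≤ 1 :=
        I.subschemeι.isClosedEmbedding.isInducing.topologicalKrullDim_le.trans hdim
      have hne : topologicalKrullDim I.subscheme ≠ 1 := fun h1 => hd (hdim1.symm.trans h1)
      have hlt : topologicalKrullDim I.subscheme < 1 := lt_of_le_of_ne hle hne
      generalize topologicalKrullDim I.subscheme = d at hlt ⊢
      induction d with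
      | bot => exact bot_le
      | coe e => exact WithBot.coe_le_coe.2 (ENat.lt_one_iff_eq_zero.1 (WithBot.coe_lt_coe.1 hlt)).le

end Groth.Agent.S7642
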