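import Groth.Statements.S19606
import Groth.Agent.QCoh.ClosedPush
import Groth.Agent.QCoh.Sections
import Mathlib.AlgebraicGeometry.IdealSheaf.Subscheme

set_option autoImplicit false
universe u
open CategoryTheory CategoryTheory.Limits AlgebraicGeometry
open ClSub

namespace Groth.Agent.S19606

/-- Let X be a scheme and I₁, I₂ quasi-coherent ideal sheaves with I₁ ⊓ I₂ = 0, cutting out closed
subschemes X₁, X₂ and X₁ ∩ X₂ (ideal I₁ + I₂). Then 0 → O_X → O_X/I₁ ⊕ O_X/I₂ → O_X/(I₁ + I₂) → 0 is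
an exact sequence of O_X-modules, the maps being the two restrictions and the difference of the
restrictions q₁, q₂ (the module maps compatible with the quotient maps from O_X). The published
statement is for a locally free sheaf E on a reduced scheme with two irreducible components X₁, X₂
(whose ideals meet in zero); this row is the case E = O_X for any two ideals with zero intersection,
which is what the local argument uses. -/
theorem result (X : Scheme.{u}) (I₁ I₂ : X.IdealSheafData)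
    (h : I₁ ⊓ I₂ = ⊥)
    (q₁ : ClSub.quotMod I₁ ⟶ ClSub.quotMod (I₁ ⊔ I₂)) (q₂ : ClSub.quotMod I₂ ⟶ ClSub.quotMod (I₁ ⊔ I₂))
    (hq₁ : ClSub.toSubscheme I₁ ≫ q₁ = ClSub.toSubscheme (I₁ ⊔ I₂))
    (hq₂ : ClSub.toSubscheme I₂ ≫ q₂ = ClSub.toSubscheme (I₁ ⊔ I₂)) :
    Epi (biprod.desc q₁ (-q₂)) ∧
      ∃ w : biprod.lift (ClSub.toSubscheme I₁) (ClSub.toSubscheme I₂) ≫ biprod.desc q₁ (-q₂) = 0,
        Nonempty (IsLimit (KernelFork.ofι (biprod.lift (ClSub.toSubscheme I₁) (ClSub.toSubscheme I₂)) w)) := by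
  open Groth.Agent in
  have hw : biprod.lift (ClSub.toSubscheme I₁) (ClSub.toSubscheme I₂) ≫ biprod.desc q₁ (-q₂) = 0 := by
    rw [biprod.lift_desc, Preadditive.comp_neg, hq₁, hq₂, add_neg_cancel]
  haveI : Epi (ClSub.toSubscheme (I₁ ⊔ I₂)) := Preadditive.epi_of_cancel_zero _ fun {T} g hg => by
    refine Scheme.Modules.hom_ext g 0 fun V => AddCommGrpCat.ext fun y => ?_
    refine (QCoh.eq_zero_of_locally V _ fun p hp => ?_).trans rfl
    obtain ⟨_, ⟨W, hW, rfl⟩, hpW, hWV⟩ :=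
      X.isBasis_affineOpens.exists_subset_of_mem_open (show p ∈ V from hp) V.isOpen
    refine ⟨W, homOfLE hWV, hpW, ?_⟩
    rw [← QCoh.map_app_comm]
    obtain ⟨r, hr⟩ := (I₁ ⊔ I₂).subschemeι_app_surjective ⟨W, hW⟩
      ((ClSub.quotMod (I₁ ⊔ I₂)).presheaf.map (homOfLE hWV).op y)
    refine (congrArg (g.app W) hr.symm).trans ?_
    exact congr(($hg).app W r)
  haveI : Epi q₁ := epi_of_epi_fac hq₁
  refine ⟨epi_of_epi_fac (f := biprod.inl) (biprod.inl_desc q₁ (-q₂)), hw, ?_⟩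
  let d := biprod.desc q₁ (-q₂)
  let χ : Coh.structureModule X ⟶ kernel d := kernel.lift d (biprod.lift (ClSub.toSubscheme I₁) (ClSub.toSubscheme I₂)) hw
  haveI : IsIso χ := by
    refine QCoh.isIso_of_isBasis χ (B := {W | IsAffineOpen W}) X.isBasis_affineOpens fun U hU => ?_
    replace hU : IsAffineOpen U := hU
    have hcomp : ∀ r : Γ(Coh.structureModule X, U), (kernel.ι d).app U (χ.app U r) =
        (biprod.lift (ClSub.toSubscheme I₁) (ClSub.toSubscheme I₂)).app U r := fun r =>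
      congr(($(kernel.lift_ι d _ hw)).app U r)
    have hfst : ∀ r : Γ(Coh.structureModule X, U), (biprod.fst : ClSub.quotMod I₁ ⊞ ClSub.quotMod I₂ ⟶ _).app U
        ((biprod.lift (ClSub.toSubscheme I₁) (ClSub.toSubscheme I₂)).app U r) = (ClSub.toSubscheme I₁).app U r :=
      fun r => congr(($(biprod.lift_fst (ClSub.toSubscheme I₁) (ClSub.toSubscheme I₂))).app U r)
    have hsnd : ∀ r : Γ(Coh.structureModule X, U), (biprod.snd : ClSub.quotMod I₁ ⊞ ClSub.quotMod I₂ ⟶ _).app U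
        ((biprod.lift (ClSub.toSubscheme I₁) (ClSub.toSubscheme I₂)).app U r) = (ClSub.toSubscheme I₂).app U r :=
      fun r => congr(($(biprod.lift_snd (ClSub.toSubscheme I₁) (ClSub.toSubscheme I₂))).app U r)
    have hker : ∀ (I : X.IdealSheafData) (r : Γ(X, U)),
        (ClSub.toSubscheme I).app U r = 0 ↔ r ∈ I.ideal ⟨U, hU⟩ := fun I r => by
      rw [← I.ker_subschemeι_app ⟨U, hU⟩, RingHom.mem_ker]; rfl
    constructor
    · refine (injective_iff_map_eq_zero _).2 fun r hr => ?_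
      have h0 : (biprod.lift (ClSub.toSubscheme I₁) (ClSub.toSubscheme I₂)).app U r = 0 := by
        rw [← hcomp, hr, map_zero]
      have h1 := (hker I₁ r).1 (by rw [← hfst, h0, map_zero])
      have h2 := (hker I₂ r).1 (by rw [← hsnd, h0, map_zero])
      have h3 : (show Γ(X, U) from r) ∈ (I₁ ⊓ I₂).ideal ⟨U, hU⟩ := by
        rw [Scheme.IdealSheafData.ideal_inf]; exact ⟨h1, h2⟩
      rw [h, Scheme.IdealSheafData.ideal_bot] at h3
      exact (Submodule.mem_bot _).1 h3
    · intro k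
      set z := (kernel.ι d).app U k
      obtain ⟨r₁, hr₁⟩ := I₁.subschemeι_app_surjective ⟨U, hU⟩
        ((biprod.fst : ClSub.quotMod I₁ ⊞ ClSub.quotMod I₂ ⟶ _).app U z)
      obtain ⟨r₂, hr₂⟩ := I₂.subschemeι_app_surjective ⟨U, hU⟩
        ((biprod.snd : ClSub.quotMod I₁ ⊞ ClSub.quotMod I₂ ⟶ _).app U z)
      have hd : d = biprod.fst ≫ q₁ - biprod.snd ≫ q₂ := by
        show biprod.desc q₁ (-q₂) = _
        rw [biprod.desc_eq, Preadditive.comp_neg, sub_eq_add_neg]
      have h0 : q₁.app U ((biprod.fst : ClSub.quotMod I₁ ⊞ ClSub.quotMod I₂ ⟶ _).app U z) -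
          q₂.app U ((biprod.snd : ClSub.quotMod I₁ ⊞ ClSub.quotMod I₂ ⟶ _).app U z) = 0 := by
        have h1 : d.app U z = 0 := congr(($(kernel.condition d)).app U k)
        rw [hd] at h1
        exact h1
      have e1 : q₁.app U ((ClSub.toSubscheme I₁).app U r₁) = (ClSub.toSubscheme (I₁ ⊔ I₂)).app U r₁ :=
        congr(($hq₁).app U r₁)
      have e2 : q₂.app U ((ClSub.toSubscheme I₂).app U r₂) = (ClSub.toSubscheme (I₁ ⊔ I₂)).app U r₂ :=
        congr(($hq₂).app U r₂)
      have hm : r₁ - r₂ ∈ (I₁ ⊔ I₂).ideal ⟨U, hU⟩ := by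
        refine (hker _ _).1 ?_
        refine (map_sub ((ClSub.toSubscheme (I₁ ⊔ I₂)).app U).hom _ _).trans ?_
        rw [← e1, ← e2]
        refine (congrArg₂ (fun a b => q₁.app U a - q₂.app U b) ?_ ?_).trans h0
        · exact hr₁
        · exact hr₂
      rw [Scheme.IdealSheafData.ideal_sup] at hm
      obtain ⟨i₁, hi₁, i₂, hi₂, hi⟩ := Submodule.mem_sup.1 hm
      refine ⟨(show Γ(Coh.structureModule X, U) from r₁ - i₁), QCoh.app_injective (kernel.ι d) U ?_⟩
      rw [hcomp]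
      have hext : ∀ x : Γ(ClSub.quotMod I₁ ⊞ ClSub.quotMod I₂, U), x =
          (biprod.inl : ClSub.quotMod I₁ ⟶ ClSub.quotMod I₁ ⊞ ClSub.quotMod I₂).app U
              ((biprod.fst : ClSub.quotMod I₁ ⊞ ClSub.quotMod I₂ ⟶ _).app U x) +
            (biprod.inr : ClSub.quotMod I₂ ⟶ ClSub.quotMod I₁ ⊞ ClSub.quotMod I₂).app U
              ((biprod.snd : ClSub.quotMod I₁ ⊞ ClSub.quotMod I₂ ⟶ _).app U x) := fun x => by
        have h1 : (biprod.fst ≫ biprod.inl + biprod.snd ≫ biprod.inr :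
            ClSub.quotMod I₁ ⊞ ClSub.quotMod I₂ ⟶ _).app U x = x := by rw [biprod.total]; rfl
        exact h1.symm
      refine (hext _).trans (Eq.trans ?_ (hext z).symm)
      refine congrArg₂ (fun a b => (biprod.inl : ClSub.quotMod I₁ ⟶ ClSub.quotMod I₁ ⊞ ClSub.quotMod I₂).app U a +
        (biprod.inr : ClSub.quotMod I₂ ⟶ ClSub.quotMod I₁ ⊞ ClSub.quotMod I₂).app U b) ?_ ?_
      · rw [hfst]
        refine (map_sub ((ClSub.toSubscheme I₁).app U).hom _ _).trans ?_
        rw [(hker I₁ i₁).2 hi₁, sub_zero]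
        exact hr₁
      · rw [hsnd, show r₁ - i₁ = r₂ + i₂ by linear_combination (-1 : Γ(X, U)) * hi]
        refine (map_add ((ClSub.toSubscheme I₂).app U).hom _ _).trans ?_
        rw [(hker I₂ i₂).2 hi₂, add_zero]
        exact hr₂
  exact ⟨IsLimit.ofIsoLimit (kernelIsKernel d) (Fork.ext (asIso χ) (kernel.lift_ι d _ hw)).symm⟩

end Groth.Agent.S19606
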