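import Groth.Statements.S18415
import Groth.Agent.EtFound.RootCover
import Mathlib.CategoryTheory.Sites.EpiMono

set_option autoImplicit false
universe u
open CategoryTheory AlgebraicGeometry
open EtCoh

namespace Groth.Agent.S18415

/-- Let p be a prime and X a scheme with p = 0 in Γ(X, O_X). Then the Artin–Schreier endomorphism x ↦
x^p − x of the additive group sheaf G_a on the small étale site of X is an epimorphism of abelian
étale sheaves (the right-hand exactness of 0 → Z/p → G_a → G_a → 0 on X_et). (The published example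
takes X a variety over a field of characteristic p; this row assumes only that p = 0 in Γ(X, O_X).) -/
theorem result
    (p : ℕ) (hp : p.Prime) {X : Scheme.{u}} (h0 : (p : Γ(X, ⊤)) = 0) :
    Epi (W4c5etcohweilstudent.artinSchreierEndo X p hp h0) := by
  refine (Sheaf.isLocallySurjective_iff_epi' _ _).1 ⟨fun {U} s => ?_⟩
  rw [EtFound.mem_topology_iff]
  intro x
  obtain ⟨a⟩ := s
  change Γ(U.left, ⊤) at a
  have hp0 : (p : Γ(U.left, ⊤)) = 0 := W4c5etcohweilstudent.natCast_eq_zero_etale p h0 U
  let f : Polynomial (Γ(U.left, ⊤) : Type u) := Polynomial.X ^ p - (Polynomial.X + Polynomial.C a)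
  have hd : ∀ (R : Type u) [CommRing R] [Nontrivial R], ∀ c : R,
      (Polynomial.X + Polynomial.C c : Polynomial R).degree < (p : ℕ) := by
    intro R _ _ c
    rw [Polynomial.degree_X_add_C]
    exact_mod_cast hp.one_lt
  rcases subsingleton_or_nontrivial Γ(U.left, ⊤) with hsub | hnt
  · exfalso
    exact zero_ne_one (α := U.left.presheaf.stalk x)
      (by rw [← map_one (U.left.presheaf.germ ⊤ x trivial).hom, ← map_zero (U.left.presheaf.germ ⊤ x trivial).hom,
        Subsingleton.elim (0 : Γ(U.left, ⊤)) 1])
  obtain ⟨V, g, v, t, hv, ht⟩ := EtFound.exists_etale_root U f (Polynomial.monic_X_pow_sub (hd _ a))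
    (fun R _ _ φ => by
      have e : f.map φ = Polynomial.X ^ p - (Polynomial.X + Polynomial.C (φ a)) := by simp [f]
      have hm : (f.map φ).degree = p := by
        rw [e, Polynomial.degree_sub_eq_left_of_degree_lt] <;> rw [Polynomial.degree_X_pow]
        exact hd R _
      rw [Polynomial.natDegree_eq_of_degree_eq_some hm]
      exact hp.pos)
    ⟨-1, 0, by simp [f, Polynomial.derivative_X_pow, hp0]⟩ x
  refine ⟨V, g, v, ⟨⟨t⟩, ?_⟩, hv⟩
  refine congrArg ULift.up ?_
  change t ^ p - t = g.left.appTop a
  simp only [f, Polynomial.eval₂_sub, Polynomial.eval₂_X_pow, Polynomial.eval₂_add, Polynomial.eval₂_X,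
    Polynomial.eval₂_C] at ht
  linear_combination ht

end Groth.Agent.S18415
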