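import Groth.Statements.S0109
import Groth.Agent.EtLC12.GaAmitsur

set_option autoImplicit false
open CategoryTheory CategoryTheory.Limits AlgebraicGeometry Opposite
universe u
open EtBase

namespace Groth.Agent.S0109

/-- On an affine scheme S, the étale cohomology H^p(S_ét, G_a) of the additive group sheaf (the
structure sheaf) vanishes for every p ≥ 1. -/
theorem result (S : Scheme.{u}) [IsAffine S] (p : ℕ) (hp : 1 ≤ p) : Subsingleton (EtCoh.H S (EtCoh.Ga S) p) := by
  obtain ⟨n, rfl⟩ := Nat.exists_eq_add_of_le hp
  rw [add_comm]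
  exact Agent.EtLC12.AffineCartan.subsingleton_H_of_isAffAcyclic n _
    (Agent.EtLC12.GaAmitsur.isAffAcyclic_Ga S)

end Groth.Agent.S0109
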