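import Groth.Statements.S1860
import Groth.Agent.CycLib.DivPushAll
-- import your own Groth.Agent.* helpers here

set_option autoImplicit false
universe u
open CategoryTheory AlgebraicGeometry
open Cyc

namespace Groth.Agent.S1860

/-- Let X be an integral scheme of dimension 1 with a proper morphism c to Spec K, K a field, and f a
nonzero rational function on X. Then Σ_x [κ(x) : K] · ord_{O_{X,x}}(f) = 0, the sum over the closed
points x of X (a finite sum). -/
theorem result (K : Type u) [Field K] (X : Scheme.{u}) [IsIntegral X] (c : X ⟶ Spec (CommRingCat.of K)) [IsProper c] (hdim : topologicalKrullDim X = 1) (f : X.functionField) (hf : f ≠ 0) : ∑ᶠ (x : X) (_ : IsClosed ({x} : Set X)), (c.residueDegree x : ℤ) * CycAlg.ordFrac (X.presheaf.stalk x) X.functionField f = 0 := by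
  classical
  haveI : IsLocallyNoetherian X := LocallyOfFiniteType.isLocallyNoetherian c
  let δ : X → ℤ := fun x => (Groth.Agent.FibDim.rd c x : ℤ)
  have hδ := Groth.Agent.CycLib.deltaCompat_rd c
  have hd := Groth.Agent.CycLib.isDimFun_of_deltaCompat c (Groth.Agent.CycLib.isSetup_spec_field K) hδ
  haveI : Subsingleton ↥(Spec (CommRingCat.of K)) := Groth.Agent.FibDim.subsingleton_spec_field K
  have hgen : ∀ x : X, genericPoint X ⤳ x := fun x => (genericPoint_spec X).specializes (Set.mem_univ x)
  have hrd : ∀ x : X, topologicalKrullDim ↥(closure ({x} : Set X)) = ((Groth.Agent.FibDim.rd c x : ℕ∞) : WithBot ℕ∞) :=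
    fun x => Groth.Agent.FibDim.topologicalKrullDim_closure c x
  have hη : δ (genericPoint X) = 1 := by
    have h := hrd (genericPoint X)
    rw [(genericPoint_spec X).def, IsHomeomorph.topologicalKrullDim_eq _ (Homeomorph.Set.univ X).isHomeomorph, hdim] at h
    show ((Groth.Agent.FibDim.rd c (genericPoint X) : ℕ) : ℤ) = 1
    exact_mod_cast h.symm
  have hclosed : ∀ x : X, IsClosed ({x} : Set X) ↔ δ x = 0 := fun x => by
    refine ⟨fun h => ?_, fun h => closure_subset_iff_isClosed.1 fun z hz => ?_⟩
    · have h' := hrd x
      rw [h.closure_eq] at h'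
      have h0 : topologicalKrullDim ↥({x} : Set X) ≤ 0 := by
        haveI : Subsingleton ↥({x} : Set X) := ⟨fun a b => Subtype.ext (a.2.trans b.2.symm)⟩
        unfold topologicalKrullDim
        rw [Order.krullDim_nonpos_iff_forall_isMin]
        intro A B _
        have hA : A = B := TopologicalSpace.IrreducibleCloseds.ext
          ((Subsingleton.eq_univ_of_nonempty A.2.nonempty).trans (Subsingleton.eq_univ_of_nonempty B.2.nonempty).symm)
        exact hA.le
      rw [h'] at h0
      show ((Groth.Agent.FibDim.rd c x : ℕ) : ℤ) = 0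
      exact_mod_cast le_antisymm h0 (by exact_mod_cast Nat.zero_le _)
    · have hsp := specializes_iff_mem_closure.2 hz
      refine (Groth.Agent.CycLib.eq_of_delta_le hd hsp ?_).symm
      show δ x ≤ δ z
      rw [h]
      exact Int.natCast_nonneg _
  let e : X.functionField →+* X.residueField (genericPoint X) := (X.residue (genericPoint X)).hom
  have hf' : e f ≠ 0 := (map_ne_zero e).2 hf
  refine Eq.trans (finsum_congr fun x => ?_) (Groth.Agent.CycLib.sum_divFun_eq_zero c hδ hη hf')
  by_cases hx : IsClosed ({x} : Set X)
  · rw [finsum_eq_if, if_pos hx]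
    have h0 : δ x = 0 := (hclosed x).1 hx
    have h1 : δ x + 1 = δ (genericPoint X) := by rw [h0, hη]; rfl
    rw [Groth.Agent.CycLib.divFun_eq δ _ (hgen x) h1, Groth.Agent.CycLib.mapCoeff_point, if_pos h0, mul_comm]
    congr 1
    have hker : RingHom.ker (Cyc.specMap x (genericPoint X) (hgen x)) = ⊥ := by
      refine (RingHom.injective_iff_ker_eq_bot _).1 fun a b hab => ?_
      exact IsFractionRing.injective (X.presheaf.stalk x) X.functionField (e.injective hab)
    exact (Groth.Agent.CycLib.ordFrac_congr
      ((RingEquiv.quotientBot _).symm.trans (Ideal.quotEquivOfEq hker.symm)) e (fun a => rfl) f).symm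
  · rw [finsum_eq_if, if_neg hx, Groth.Agent.CycLib.mapCoeff_point,
      if_neg (show ¬ δ x = 0 from fun h => hx ((hclosed x).2 h)), Nat.cast_zero, mul_zero]

end Groth.Agent.S1860
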