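import Groth.Statements.S1617
import Groth.Agent.VarDim.Local

set_option autoImplicit false
universe u
open CategoryTheory CategoryTheory.Limits AlgebraicGeometry
open Variety

namespace Groth.Agent.S1617

open Groth.Agent.VarDim Order

theorem localDim_eq (k : Type u) [Field k] (X : Scheme.{u}) [X.Over (Spec (CommRingCat.of k))]
    [LocallyOfFiniteType (X ↘ (Spec (CommRingCat.of k)))] (x : X) (b : ℕ)
    (hb : ringKrullDim (X.presheaf.stalk x) = b) :
    FlatMor.localDim X x = ((deg (X ↘ (Spec (CommRingCat.of k))) x + b : ℕ) : WithBot ℕ∞) := by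
  set f := X ↘ (Spec (CommRingCat.of k))
  obtain ⟨b', hb', ⟨η, hη, hηd⟩, hmax⟩ := exists_deg_add_stalk f x
  obtain rfl : b' = b := by
    have := hb'.symm.trans hb
    exact_mod_cast this
  refine le_antisymm ?_ (le_iInf fun U => ?_)
  · obtain ⟨U, hxU, hU⟩ := exists_nhd f x
    refine iInf_le_of_le ⟨U, hxU⟩ ?_
    rw [topologicalKrullDim_opens_eq_iSup_deg f U]
    refine iSup_le fun z => ?_
    obtain ⟨η', hη', hz⟩ := hU z.1 z.2
    exact_mod_cast hz.trans (hmax η' hη')
  · rw [topologicalKrullDim_opens_eq_iSup_deg f U.1]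
    refine le_iSup_of_le ⟨η, hη.mem_open U.1.2 U.2⟩ ?_
    rw [hηd]
    exact_mod_cast le_rfl

/-- Let X be locally of finite type over a field k and x a closed point. Then the local dimension of X
at x (infimum of the dimensions of open neighbourhoods) equals the Krull dimension of the local ring
at x. -/
theorem result (k : Type u) [Field k] (X : Scheme.{u}) [X.Over (Spec (CommRingCat.of k))] [LocallyOfFiniteType (X ↘ (Spec (CommRingCat.of k)))] (x : X) (hx : IsClosed ({x} : Set X)) :
    FlatMor.localDim X x = ringKrullDim (X.presheaf.stalk x) := by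
  obtain ⟨b, hb, -⟩ := exists_deg_add_stalk (X ↘ (Spec (CommRingCat.of k))) x
  rw [localDim_eq k X x b hb, (closedPoint_iff_deg_eq_zero _ x).1 hx, zero_add, hb]

end Groth.Agent.S1617
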