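import Groth.Statements.S15554
import Groth.Agent.LefPenLib.Bertini
import Groth.Agent.ZeroSchX.Basic
import Groth.Agent.ProjUPX.TwistFrame
import Groth.Agent.InvX.Tensor
-- import your own Groth.Agent.* helpers here

set_option autoImplicit false
set_option backward.isDefEq.respectTransparency false
set_option backward.isDefEq.respectTransparency.types false
universe u
open CategoryTheory CategoryTheory.Limits AlgebraicGeometry
open SmVar

namespace Groth.Agent.S15554

noncomputable section

variable {k : Type u} [Field k] {n : ℕ}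

attribute [local instance] Groth.Agent.LefPenLib.wAlgebra

theorem isInvertible_twist (n : ℕ) (k : Type u) [Field k] :
    PicF.IsInvertible (Twist.twistProjSpace n k 1) := by
  refine InvX.isInvertible_of_frames fun y => ?_
  have hy : y ∈ (⨆ i, LefPen.chart n k i : (CohB1.ProjSpace n k).Opens) := by
    rw [LefPenLib.iSup_chart]; trivial
  obtain ⟨i, hi⟩ := TopologicalSpace.Opens.mem_iSup.1 hy
  exact ⟨_, hi, _, ProjUPX.isFrame_sec (𝒜 := CohB1.polyGrading n k) (LefPen.X_mem n k i)⟩

/-- The section of `O(1)` given by a linear form. -/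
def formHom (H : LefPen.Form n k 1) :
    Coh.structureModule (CohB1.ProjSpace n k) ⟶ Twist.twistProjSpace n k 1 :=
  InvX.ofSect (M := Twist.twistProjSpace n k 1) (ProjUPX.sec (CohB1.polyGrading n k) H.2)

theorem zeroScheme_formHom (H : LefPen.Form n k 1) :
    PicF2.zeroScheme (Twist.twistProjSpace n k 1) (formHom H) = LefPen.hypIdeal H := by
  refine Scheme.IdealSheafData.ext_of_iSup_eq_top LefPenLib.chartAff LefPenLib.iSup_chart fun i => ?_
  rw [LefPenLib.hypIdeal_chart, ZeroSchX.ideal_zeroScheme (isInvertible_twist n k)]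
  refine ZeroSchX.zeroIdealOn_eq_span _
    (ProjUPX.isFrame_sec (𝒜 := CohB1.polyGrading n k) (LefPen.X_mem n k i)) ?_
  refine Eq.trans ?_ (ProjUPX.sec_eq_smul (CohB1.polyGrading n k) H.2 (LefPen.X_mem n k i))
  exact Eq.trans (b := (1 : Γ(CohB1.ProjSpace n k, LefPen.chart n k i)) •
    AModX.res (Twist.twistProjSpace n k 1) (le_top : LefPen.chart n k i ≤ ⊤)
      (ProjUPX.sec (CohB1.polyGrading n k) H.2)) rfl (one_smul _ _)

variable {X : Scheme.{u}}

theorem exists_smoothRelDim [IsIntegral X] (f : X ⟶ Spec (CommRingCat.of k)) [Smooth f] :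
    ∃ m, SmoothOfRelativeDimension m f := by
  obtain ⟨x⟩ : Nonempty X := inferInstance
  obtain ⟨U, hU, V, hV, e, m, hxV, h, hs, -⟩ := Synt29.SmoothDim.exists_chart f x
  refine ⟨m, CurveFin.smoothOfRelativeDimension_of_dim f ?_⟩
  have hUt : U = ⊤ := top_le_iff.1 fun p _ => by
    rw [Subsingleton.elim p (f x)]; exact e hxV
  subst hUt
  let ψ := (Scheme.ΓSpecIso (CommRingCat.of k)).inv ≫ f.appLE ⊤ V e
  have h' : RingHom.IsStandardSmoothOfRelativeDimension m ψ.hom :=
    RingHom.isStandardSmoothOfRelativeDimension_respectsIso.2 _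
      (Scheme.ΓSpecIso (CommRingCat.of k)).symm.commRingCatIsoToRingEquiv h
  let _ := ψ.hom.toAlgebra
  have : Algebra.IsStandardSmoothOfRelativeDimension m k Γ(X, V) := h'
  have : Nonempty V := ⟨⟨x, hxV⟩⟩
  have h2 := SmoothDim.ringKrullDim_eq k Γ(X, V) m
  rw [CurveFin.ringKrullDim_affine_eq f hV ⟨x, hxV⟩] at h2
  exact h2

theorem exists_linPoly [IsIntegral X] (ι : X ⟶ CohB1.ProjSpace n k) (i : Fin (n + 1))
    [Nontrivial Γ(X, LefPenLib.wOpen ι i)] :
    ∃ g : MvPolynomial (LefPenLib.Expo n 1) k, g ≠ 0 ∧ ∀ H : LefPen.Form n k 1,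
      MvPolynomial.eval (fun e => LefPenLib.coeffL e H) g ≠ 0 → LefPenLib.pullForm ι i H ≠ 0 := by
  classical
  obtain ⟨ψ, hψ⟩ : ∃ ψ : Module.Dual k Γ(X, LefPenLib.wOpen ι i), ψ 1 ≠ 0 := by
    by_contra hc
    push_neg at hc
    exact one_ne_zero ((Module.forall_dual_apply_eq_zero_iff k _).mp hc)
  let g : MvPolynomial (LefPenLib.Expo n 1) k := ∑ e,
    MvPolynomial.C (ψ (LefPenLib.pullPoly ι i (MvPolynomial.monomial e.1 1))) * MvPolynomial.X e
  have hg : ∀ H : LefPen.Form n k 1, MvPolynomial.eval (fun e => LefPenLib.coeffL e H) g =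
      ψ (LefPenLib.pullForm ι i H) := by
    intro H
    rw [LefPenLib.pullForm_eq]
    conv_rhs => rw [LefPenLib.eq_sum_coeff H, map_sum, map_sum]
    rw [map_sum]
    refine Finset.sum_congr rfl fun e _ => ?_
    rw [map_mul, MvPolynomial.eval_C, MvPolynomial.eval_X,
      show MvPolynomial.monomial e.1 (LefPenLib.coeffL e H) =
        LefPenLib.coeffL e H • MvPolynomial.monomial e.1 (1 : k) by
      rw [MvPolynomial.smul_monomial, smul_eq_mul, mul_one], map_smul, map_smul, smul_eq_mul, mul_comm]
  refine ⟨g, fun h0 => hψ ?_, fun H hH h => hH (by rw [hg, h, map_zero])⟩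
  have := hg ⟨MvPolynomial.X i, LefPen.X_mem n k i⟩
  rw [h0, map_zero, LefPenLib.pullForm_eq, LefPenLib.pullPoly_X_self] at this
  exact this.symm

end

/-- Let k be an infinite field and X ⊆ P^n_k a smooth projective variety, given as an integral scheme X
with a closed immersion ι into projective n-space over k through which X is smooth over k. Then X
has a smooth hyperplane section defined over k: there is a global section s of the twisting sheaf
O(1) on P^n_k whose zero scheme H, a hyperplane defined over k, does not contain X and for which the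
scheme-theoretic intersection X ∩ H = X ×_{P^n_k} H is smooth over k. (The published statement also
records that X ∩ H has dimension dim X − 1; that is automatic once X is integral and not contained
in H, so this row states smoothness together with X ⊄ H.) -/
theorem result (k : Type u) [Field k] [Infinite k] (n : ℕ)
    (X : Scheme.{u}) [IsIntegral X] (ι : X ⟶ CohB1.ProjSpace n k) [IsClosedImmersion ι]
    [Smooth (ι ≫ CohB1.ProjSpace.toSpec n k)] :
    ∃ s : Coh.structureModule (CohB1.ProjSpace n k) ⟶ Twist.twistProjSpace n k 1,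
      (∃ x : ↥X, ι.base x ∉ (PicF2.zeroScheme (Twist.twistProjSpace n k 1) s).support) ∧
      Smooth (pullback.fst ι (PicF2.zeroScheme (Twist.twistProjSpace n k 1) s).subschemeι ≫ ι ≫
        CohB1.ProjSpace.toSpec n k) := by
  obtain ⟨m, hm⟩ := exists_smoothRelDim (ι ≫ CohB1.ProjSpace.toSpec n k)
  choose g hg0 hg using fun j => LefPenLib.exists_generic_chart (n := m) ι le_rfl j
  obtain ⟨i, hne⟩ : ∃ i, Nonempty (LefPenLib.wOpen ι i) := by
    obtain ⟨x⟩ : Nonempty X := inferInstance
    have hx : ι x ∈ (⨆ i, LefPen.chart n k i : (CohB1.ProjSpace n k).Opens) := by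
      rw [LefPenLib.iSup_chart]; trivial
    obtain ⟨i, hi⟩ := TopologicalSpace.Opens.mem_iSup.1 hx
    exact ⟨i, ⟨x, hi⟩⟩
  haveI := hne
  obtain ⟨g₁, hg10, hg1⟩ := exists_linPoly ι i
  let G : MvPolynomial (LefPenLib.Expo n 1) k := g₁ * ∏ j, g j
  have hG : G ≠ 0 := mul_ne_zero hg10 (Finset.prod_ne_zero_iff.2 fun j _ => hg0 j)
  obtain ⟨a, ha⟩ : ∃ a, MvPolynomial.eval a G ≠ 0 := by
    by_contra hcon
    push Not at hcon
    exact hG (MvPolynomial.funext fun a => by rw [hcon a, map_zero])
  let H : LefPen.Form n k 1 := LefPenLib.ofCoeff a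
  have hcoef : (fun e => LefPenLib.coeffL e H) = a := funext (LefPenLib.coeffL_ofCoeff a)
  simp only [G, map_mul, map_prod, mul_ne_zero_iff, Finset.prod_ne_zero_iff] at ha
  have hsm : SmoothOfRelativeDimension (m - 1)
      (LefPen.secToSpec ι ({H} : Set (LefPen.Form n k 1))) :=
    LefPenLib.smoothRelDim_secToSpec ι H (m - 1) fun j =>
      hg j H (by rw [hcoef]; exact ha.2 j (Finset.mem_univ j))
  have hsm' : Smooth (LefPen.secToSpec ι ({H} : Set (LefPen.Form n k 1))) :=
    SmoothOfRelativeDimension.smooth (m - 1) _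
  have hpf : LefPenLib.pullForm ι i H ≠ 0 := hg1 H (by rw [hcoef]; exact ha.1)
  have hsec : LefPen.secIdeal ι ({H} : Set (LefPen.Form n k 1)) = (LefPen.hypIdeal H).comap ι := by
    rw [LefPen.secIdeal, iSup_singleton]
  refine ⟨formHom H, ?_, ?_⟩
  · rw [zeroScheme_formHom]
    obtain ⟨x, hx⟩ : (X.basicOpen (LefPenLib.pullForm ι i H) : Set X).Nonempty := by
      by_contra hc
      refine hpf ((basicOpen_eq_bot_iff _).mp (TopologicalSpace.Opens.ext ?_))
      exact Set.not_nonempty_iff_eq_empty.mp hc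
    refine ⟨x, fun hsupp => ?_⟩
    have hxi : ι x ∈ LefPen.chart n k i := X.basicOpen_le _ hx
    have hz := ((LefPen.hypIdeal H).coe_support_inter (LefPenLib.chartAff i)).le ⟨hsupp, hxi⟩
    have h2 := (Scheme.mem_zeroLocus_iff _ _ _).mp hz.1 (LefPen.dehom H i)
      (by rw [LefPenLib.hypIdeal_chart]; exact Ideal.mem_span_singleton_self _)
    exact h2 ((Scheme.preimage_basicOpen ι (LefPen.dehom H i)).ge hx)
  · rw [zeroScheme_formHom, ← Scheme.IdealSheafData.comapIso_inv_subschemeι_assoc]
    have h3 : Smooth (((LefPen.hypIdeal H).comap ι).subschemeι ≫ ι ≫ CohB1.ProjSpace.toSpec n k) := by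
      have key : ∀ I : X.IdealSheafData, I = LefPen.secIdeal ι ({H} : Set (LefPen.Form n k 1)) →
          Smooth (I.subschemeι ≫ ι ≫ CohB1.ProjSpace.toSpec n k) := by
        rintro _ rfl
        exact hsm'
      exact key _ hsec.symm
    infer_instance

end Groth.Agent.S15554
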