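import Groth.Statements.S18542
import Groth.Agent.AVTors.Dense
-- import your own Groth.Agent.* helpers here

set_option autoImplicit false
universe u
open CategoryTheory MonoidalCategory CartesianMonoidalCategory MonObj GrpObj AlgebraicGeometry
open AbVar

namespace Groth.Agent.S18542

set_option linter.style.haveILetI false
set_option backward.isDefEq.respectTransparency false
set_option backward.isDefEq.respectTransparency.types false

/-- Let k be an algebraically closed field, ℓ a prime number invertible in k and A an abelian variety
over k (a commutative group scheme over k which is smooth and proper with geometrically connected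
fibres). Then the set A[ℓ^∞](k) of ℓ-power torsion k-points is Zariski dense in A: the union over
all n of the images, in the underlying topological space of A, of the k-valued points a of A with
a^(ℓ^n) = 1 in the group of k-points is dense. -/
theorem result (k : Type u) [Field k] [IsAlgClosed k]
    (A : Over (Spec (CommRingCat.of k)))
    [GrpObj A] [IsCommMonObj A] [Smooth A.hom] [IsProper A.hom] [GeometricallyConnected A.hom]
    (l : ℕ) [Fact l.Prime] (hl : (l : k) ≠ 0) :
    Dense (⋃ (n : ℕ) (a : (Over.mk (𝟙 (Spec (CommRingCat.of k)))) ⟶ A)
      (_ : a ∈ AbDual.torsPts A (l ^ n) (Over.mk (𝟙 (Spec (CommRingCat.of k))))), Set.range a.left.base) := by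
  haveI : GeometricallyReduced A.hom := H23.RigidGamma.geometricallyReduced_of_smooth A.hom
  haveI : Nonempty A.left := ⟨(η[A]).left (IsLocalRing.closedPoint k)⟩
  haveI : ConnectedSpace A.left := GeometricallyConnected.connectedSpace_of_subsingleton (f := A.hom)
  haveI := H23.MaxAbelian.geometricallyIntegral_of_connected A
  refine dense_iff_closure_eq.2 (Set.eq_univ_of_univ_subset ?_)
  rw [← AVTors.dense_lPow A l hl]
  refine closure_mono ?_
  rintro _ ⟨a, ⟨n, hn⟩, rfl⟩
  simp only [Set.mem_iUnion]
  exact ⟨n, a, hn, ⟨IsLocalRing.closedPoint k, rfl⟩⟩

end Groth.Agent.S18542
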