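import Groth.Statements.S1172
import Groth.Agent.RelCurveDiv.Sum
import Groth.Agent.ModPairLib.Quot
-- import your own Groth.Agent.* helpers here

set_option autoImplicit false
open CategoryTheory CategoryTheory.Limits AlgebraicGeometry
universe u
open HilbD

namespace Groth.Agent.S1172

/-- Let f : X ⟶ S be smooth of relative dimension 1 and let D₁ ⊆ D₂ be closed subschemes of X (ideal
sheaves I₂ ≤ I₁) which are finite locally free over S of degrees d₁ and d₂. Then there is a closed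
subscheme D (ideal sheaf I), finite locally free over S of degree d₂ - d₁, with D₂ = D₁ + D, i.e. I₂
= I₁I. -/
theorem result {X S : Scheme.{u}} (f : X ⟶ S) [SmoothOfRelativeDimension 1 f]
    (I₁ I₂ : X.IdealSheafData) (hle : I₂ ≤ I₁) (d₁ d₂ : ℕ) (h₁ : Mor2.IsFinLocFreeOfDeg d₁ (I₁.subschemeι ≫ f))
    (h₂ : Mor2.IsFinLocFreeOfDeg d₂ (I₂.subschemeι ≫ f)) :
    ∃ I : X.IdealSheafData, Mor2.IsFinLocFreeOfDeg (d₂ - d₁) (I.subschemeι ≫ f) ∧ I₂ = I₁ * I := by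
  obtain ⟨⟨hf₁, hl₁, hp₁⟩, hd₁⟩ := h₁
  obtain ⟨⟨hf₂, hl₂, hp₂⟩, hd₂⟩ := h₂
  haveI := hf₁
  haveI := hf₂
  have hc₁ := Groth.Agent.RelCurveDiv.isEffCartier_of_quasiFinite f I₁ inferInstance hl₁ hp₁
  have hc₂ := Groth.Agent.RelCurveDiv.isEffCartier_of_quasiFinite f I₂ inferInstance hl₂ hp₂
  have hLP := _root_.ModPairLib.isLocPrincipal_of_isEffCartier hc₁
  let Q := _root_.ModPairLib.colon I₂ I₁ hLP
  have hmul : Q * I₁ = I₂ := _root_.ModPairLib.colon_mul hc₁ hle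
  have hcQ : BlowUp.IsEffCartierIdeal Q := _root_.ModPairLib.isEffCartier_of_mul hc₁ (by rw [hmul]; exact hc₂)
  have hlQ : Flat (Q.subschemeι ≫ f) :=
    Groth.Agent.FlatX.flat_cancel f hc₁ hcQ hl₁ hl₂ (by rw [mul_comm, hmul])
  obtain ⟨-, hpQ⟩ := Groth.Agent.RelCurveDiv.quasiFinite_fp_of_isEffCartier f Q hcQ hlQ
  have hle₂ : I₂ ≤ Q := hmul.ge.trans (Groth.Agent.RelCurveDiv.mul_le_left Q I₁)
  have hfQ : IsFinite (Q.subschemeι ≫ f) := by
    rw [← Scheme.IdealSheafData.inclusion_subschemeι hle₂, Category.assoc]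
    infer_instance
  have hQ : Mor2.IsFinLocFree (Q.subschemeι ≫ f) := ⟨hfQ, hlQ, hpQ⟩
  refine ⟨Q, ⟨hQ, fun y => ?_⟩, by rw [mul_comm, hmul]⟩
  have h := Groth.Agent.RelCurveDiv.finrank_mul f hQ ⟨hf₁, hl₁, hp₁⟩ y
  rw [hmul, hd₁, hd₂] at h
  omega
end Groth.Agent.S1172
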