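import Groth.Statements.S10872
import Groth.Agent.BrSevW.Basic
import Groth.Agent.ASB24.InsepRigid
import Groth.Agent.AmpleDesc5.Field2
import Groth.Agent.Lib.AmpleEmbedPow
import Groth.Agent.AmpleVan.Components
import Groth.Agent.AmpleX.Proj

set_option backward.isDefEq.respectTransparency false
set_option backward.isDefEq.respectTransparency.types false
set_option linter.style.haveILetI false

set_option autoImplicit false
universe u
open CategoryTheory AlgebraicGeometry
open Variety

namespace Groth.Agent.S10872

/-- `O(1)` is ample. -/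
theorem isAmple_twist_one_pn {k : Type u} [Field k] (N : ℕ) : CohB1.IsAmple (Twist.twistProjSpace N k 1) := by
  classical
  refine AmpleX.isAmple_twist_one _ (Finset.univ.image MvPolynomial.X) (fun g hg => ?_) ?_
  · obtain ⟨i, -, rfl⟩ := Finset.mem_image.1 hg
    exact MvPolynomial.isHomogeneous_X k i
  · refine top_le_iff.1 ((PnCoh.iSup_mOpen_single (ι := Fin (N + 1)) (R := k)).ge.trans (iSup_le fun j => ?_))
    exact le_iSup_of_le ⟨_, Finset.mem_image.2 ⟨j, Finset.mem_univ _, rfl⟩⟩ le_rfl

/-- A Brauer–Severi scheme X over a field k (some base change X_K to a field extension K of k is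
K-isomorphic to a projective space P^n_K) is smooth over k, geometrically integral over k, and
projective over k, i.e. admits a closed immersion into some P^N_k compatible with the structure
morphisms. -/
theorem result (k : Type u) [Field k] {X : Scheme.{u}}
    (p : X ⟶ Spec (CommRingCat.of k)) (hX : W4bk4gw11416.IsBrauerSeveri p) :
    Smooth p ∧ GeometricallyIntegral p ∧
      ∃ (N : ℕ) (i : X ⟶ CohB1.ProjSpace N k), IsClosedImmersion i ∧ i ≫ CohB1.ProjSpace.toSpec N k = p := by
  obtain ⟨K, _, _, n, i, hi⟩ := hX
  let e : BrSev.Splitting p K n := ⟨i, hi⟩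
  haveI : IsProper p := ASB24.isProper_of_splitting e
  refine ⟨BrSevW.smooth_of_splitting e, ASB24.Insep.geometricallyIntegral_of_splitting e, ?_⟩
  haveI : IsProper (CohB1.ProjSpace.toSpec n K) := PnCoh.Chow.isProper_toSpec n _
  haveI : CompactSpace (CohB1.ProjSpace n K) :=
    QuasiCompact.compactSpace_of_compactSpace (CohB1.ProjSpace.toSpec n K)
  haveI : CompactSpace (BrSev.bc p K) := e.iso.inv.homeomorph.compactSpace
  have hO : CohB1.IsAmple (Twist.twistProjSpace n K 1) := isAmple_twist_one_pn n
  have hL' := AmpleVan.FiniteSurj.isAmple_pullback_of_isAffineHom e.iso.hom hO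
  obtain ⟨L, hL⟩ := AmpleDesc5.exists_isAmple_of_baseChange_field_qc k K p ⟨_, hL'⟩
  obtain ⟨N, r, a, -, hr, hrp, -⟩ := AmpleEmbedPow.exists_closedImmersion p hL
  exact ⟨N, r, hr, hrp⟩

end Groth.Agent.S10872
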