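import Groth.Statements.S16202
import Groth.Agent.AffCompl.Compl
import Groth.Agent.Lib.AVAmple

set_option autoImplicit false
open CategoryTheory CategoryTheory.Limits AlgebraicGeometry
open Variety

namespace Groth.Agent.S16202

set_option backward.isDefEq.respectTransparency false
set_option backward.isDefEq.respectTransparency.types false
universe u
open Groth.Agent.H23 Groth.Agent.H23.TrivBasic
attribute [local instance] PicMul.clMonoid

/-- The zero scheme of a section is the complement of its generating locus. -/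
theorem coe_support {X : Scheme.{u}} {L : X.Modules} (hL : PicF.IsInvertible L) (s : Γ(L, ⊤)) :
    ((PicF2.zeroScheme L (InvX.ofSect s)).support : Set X) = (locus s : Set X)ᶜ := by
  ext x
  obtain ⟨U, hxU, a₀, ha₀⟩ := InvX.exists_frame hL x
  obtain ⟨V, hV, hxV, hVU⟩ := exists_isAffineOpen_mem_and_subset (x := x) (U := U) hxU
  let a := AModX.res L (show V ≤ U from hVU) a₀
  have ha : InvX.IsFrame a := ha₀.res _
  obtain ⟨c, hc⟩ := ha.exists_coord le_rfl (AModX.res L (le_top : V ≤ ⊤) s)
  rw [AModX.res_self] at hc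
  have hsv : ZeroSchX.sv (InvX.ofSect s) V = AModX.res L (le_top : V ≤ ⊤) s := by
    rw [← ZeroSchX.res_sv (InvX.ofSect s) (le_top : V ≤ ⊤),
      show ZeroSchX.sv (InvX.ofSect s) ⊤ = s from InvX.one_ofSect s]
    rfl
  have hI : (PicF2.zeroScheme L (InvX.ofSect s)).ideal ⟨V, hV⟩ = Ideal.span {c} := by
    rw [ZeroSchX.ideal_zeroScheme hL]
    exact ZeroSchX.zeroIdealOn_eq_span _ ha (hsv.trans hc)
  rw [SetLike.mem_coe, Scheme.IdealSheafData.mem_support_iff_of_mem (U := ⟨V, hV⟩) hxV, hI,
    Scheme.zeroLocus_span, Scheme.zeroLocus_singleton, Set.mem_compl_iff, Set.mem_compl_iff, SetLike.mem_coe,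
    SetLike.mem_coe, ← locus_eq_basicOpen ha hc]
  exact not_congr ⟨fun h => h.1, fun h => ⟨h, hxV⟩⟩

variable (k : Type u) [Field k] {X : Scheme.{u}} (f : X ⟶ Spec (CommRingCat.of k)) [IsProper f] [IsIntegral X]

include f in
theorem locus_ne_top (hdim : (2 : WithBot ℕ∞) ≤ topologicalKrullDim X) {L : X.Modules} (hL : CohB1.IsAmple L)
    (s : Γ(L, ⊤)) : locus s ≠ ⊤ := by
  intro htop
  have hT : Triv L := triv_of_frame (locus_eq_top_iff.1 htop)
  obtain ⟨n, t, hxt, ht⟩ := hL.2.2 (genericPoint X)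
  have hTn : Triv (CohB1.tensorPow L (n + 1)) := by
    refine PicMul.cl_eq_iff.1 ?_
    rw [PicMul.cl_tensorPow, PicMul.cl_eq_iff.2 hT, ← PicMul.one_def, one_pow]
  obtain ⟨e, he⟩ := hTn.exists_frame
  obtain ⟨g, hg⟩ := he.exists_coord le_rfl (AModX.res _ (le_top : (⊤ : X.Opens) ≤ ⊤) (InvX.one t))
  rw [AModX.res_self e] at hg
  have hloc : CohB1.genLocus _ t ⊓ ⊤ = X.basicOpen g := InvX.genLocus_inf t he hg
  rw [inf_top_eq] at hloc
  rw [hloc] at ht hxt
  have hg0 : g ≠ 0 := by
    rintro rfl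
    rw [Scheme.basicOpen_zero] at hxt
    exact hxt
  letI := (isField_of_universallyClosed k f).toField
  rw [Scheme.basicOpen_of_isUnit _ (isUnit_iff_ne_zero.2 hg0)] at ht
  have h := (AffCompl.isConnected_compl k f hdim ht ⟨genericPoint X, trivial⟩).nonempty
  simp at h

include f in
theorem isConnected_zero (hdim : (2 : WithBot ℕ∞) ≤ topologicalKrullDim X) {L : X.Modules} (hL : CohB1.IsAmple L)
    {s : Γ(L, ⊤)} (hs : s ≠ 0) : _root_.IsConnected (locus s : Set X)ᶜ := by
  refine ⟨Set.nonempty_compl.2 fun h => locus_ne_top k f hdim hL s (TopologicalSpace.Opens.ext h), ?_⟩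
  obtain ⟨N, π, hfin, hπs, hNint, hN, hdimN⟩ := AffCompl.exists_normal_cover k f hdim
  haveI := hfin
  haveI := hNint
  letI : N.Over (Spec (CommRingCat.of k)) := ⟨π ≫ f⟩
  haveI : IsProper (N ↘ Spec (CommRingCat.of k)) := inferInstanceAs (IsProper (π ≫ f))
  haveI : CompactSpace N := QuasiCompact.compactSpace_of_compactSpace (π ≫ f)
  have hL' := AmpleVan.FiniteSurj.isAmple_pullback_of_isAffineHom π hL
  let s' : Γ((Scheme.Modules.pullback π).obj L, ⊤) := InvX.pullElt π (U := ⊤) s
  have hloc : locus s' = π ⁻¹ᵁ locus s := locus_pullElt hL.1 π s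
  have hs' : s' ≠ 0 := fun h0 => by
    obtain ⟨x, hx⟩ := (TopologicalSpace.Opens.ne_bot_iff_nonempty _).1 (locus_ne_bot hL.1 hs)
    obtain ⟨w, rfl⟩ := hπs x
    obtain ⟨U, hwU, hU⟩ := mem_locus_iff.1 (show w ∈ locus s' by rw [hloc]; exact hx)
    rw [h0, show AModX.res ((Scheme.Modules.pullback π).obj L) (le_top : U ≤ ⊤) 0 = 0 from map_zero _] at hU
    haveI : Nonempty U := ⟨⟨w, hwU⟩⟩
    exact one_ne_zero (α := Γ(N, U)) ((hU U le_rfl).1 (a₁ := 1) (a₂ := 0) (by simp))
  have h := (AffCompl.isPreconnected_compl_locus k hN hdimN hL' hs').image π π.continuous.continuousOn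
  rwa [hloc, show ((π ⁻¹ᵁ locus s : N.Opens) : Set N)ᶜ = π ⁻¹' (locus s : Set X)ᶜ from rfl,
    Set.image_preimage_eq _ hπs] at h

/-- Let X be an integral projective scheme over ℂ of dimension at least 2 and D an effective ample
divisor on X. Then the support of D is connected. Here D is given by an ample invertible module L
together with a nonzero global section s (a monomorphism O_X → L), and its support is the zero
scheme Z(s), which is asserted to be a connected (in particular nonempty) topological space. -/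
theorem result
    (X : Scheme.{0}) (f : X ⟶ Spec (CommRingCat.of ℂ)) [IsIntegral X]
    (hproj : (∃ (n : ℕ) (ι : X ⟶ CohB1.ProjSpace n ℂ), IsClosedImmersion ι ∧ ι ≫ CohB1.ProjSpace.toSpec n ℂ = f))
    (hdim : (2 : WithBot ℕ∞) ≤ topologicalKrullDim X)
    (L : X.Modules) (hL : CohB1.IsAmple L) (s : Coh.structureModule X ⟶ L) (hs : Mono s) :
    ConnectedSpace ↥(PicF2.zeroScheme L s).subscheme := by
  obtain ⟨n, ι, hι, hιf⟩ := hproj
  haveI := hι
  haveI := PnCoh.Chow.isProper_toSpec n ℂ
  haveI : IsProper f := hιf ▸ inferInstance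
  have e : InvX.ofSect (InvX.one s) = s := AVAmple.ofSect_one s
  have hs0 : InvX.one s ≠ 0 := fun h0 => by
    have hs' : s = 0 := Scheme.Modules.hom_ext _ _ (fun U => ConcreteCategory.hom_ext _ _ fun r => by
      refine (InvX.app_eq_smul s r).trans ?_
      rw [h0, show AModX.res L (le_top : U ≤ ⊤) 0 = 0 from map_zero _]
      exact smul_zero (show Γ(X, U) from r))
    have h1 : 𝟙 (Coh.structureModule X) = 0 := hs.right_cancellation _ _ (by rw [hs', comp_zero, comp_zero])
    haveI : Nonempty (⊤ : X.Opens) := ⟨⟨genericPoint X, trivial⟩⟩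
    exact one_ne_zero (α := Γ(X, ⊤))
      (congrArg (fun m : Coh.structureModule X ⟶ Coh.structureModule X =>
        (show Γ(X, ⊤) from m.app ⊤ (show Γ(Coh.structureModule X, ⊤) from (1 : Γ(X, ⊤))))) h1)
  have h := isConnected_zero ℂ f hdim hL hs0
  rw [← coe_support hL.1, e, ← Scheme.IdealSheafData.range_subschemeι] at h
  haveI := isConnected_iff_connectedSpace.1 h
  have hind := (PicF2.zeroScheme L s).subschemeι.isClosedEmbedding.isEmbedding
  exact hind.toHomeomorph.symm.surjective.connectedSpace hind.toHomeomorph.symm.continuous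


end Groth.Agent.S16202
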