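import Groth.Statements.S11002
import Groth.Agent.FFLib.Geometric

set_option autoImplicit false
open Groth.Agent
universe u v
open FunFld

namespace Groth.Agent.S11002

/-- In a geometric function field of one variable of characteristic `p > 0`, `x ∈ kK^p` iff `dx = 0` in
`Ω_{K/k}` iff `x` is not a separating variable (`K/k(x)` not separable algebraic). -/
theorem result (k : Type u) (K : Type v) [Field k] [Field K] [Algebra k K] (p : ℕ) [Fact p.Prime] [CharP K p]
    (hK : FunFld.IsFunctionField k K) (hg : FunFld.IsGeometric k K) (x : K) :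
    (x ∈ IntermediateField.adjoin k (Set.range fun y : K => y ^ p) ↔ KaehlerDifferential.D k K x = 0) ∧
    (x ∈ IntermediateField.adjoin k (Set.range fun y : K => y ^ p) ↔
      ¬ Algebra.IsSeparable (IntermediateField.adjoin k ({x} : Set K)) K) := by
  classical
  obtain ⟨x₀, hx, hsep⟩ := FFLib.exists_separating_element hK hg
  obtain ⟨-, -, hker⟩ := FFLib.powField_facts p hK hx hsep
  refine ⟨⟨FFLib.D_eq_zero_of_mem p, hker x⟩, fun h hs => ?_, fun hns => ?_⟩
  · by_cases htr : Transcendental k x
    · exact FFLib.D_ne_zero hK htr hs (FFLib.D_eq_zero_of_mem p h)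
    · obtain ⟨c, rfl⟩ := hK.2 x (not_not.mp htr)
      haveI := hs
      haveI : Algebra.IsAlgebraic k (IntermediateField.adjoin k ({algebraMap k K c} : Set K)) :=
        IntermediateField.isAlgebraic_adjoin_simple isIntegral_algebraMap
      exact hx (Algebra.IsAlgebraic.trans k (IntermediateField.adjoin k ({algebraMap k K c} : Set K)) K
        |>.isAlgebraic x₀)
  · by_contra h
    exact hns (FFLib.isSeparable_of_notMem p hK hx hsep h)

end Groth.Agent.S11002
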