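import Groth.Statements.S14512
import Groth.Agent.CurveEmbed.Conic
import Groth.Agent.CurveBC.Main
import Groth.Agent.GrpSchLib.SepPoints

set_option backward.isDefEq.respectTransparency false

set_option autoImplicit false
universe u
open CategoryTheory CategoryTheory.Limits AlgebraicGeometry
open Curves

namespace Groth.Agent.S14512

/-- Let k be an algebraically closed field and X a complete curve over k (integral, proper over k, of
dimension one) of arithmetic genus dim_k H^1(X, O_X) = 0. Then X is smooth over k. (Over a
non-closed field an integral proper curve with vanishing H^1 need not be smooth, e.g. a projective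
line over an inseparable extension of k viewed over k.) -/
theorem result (k : Type u) [Field k] [IsAlgClosed k] (X : Scheme.{u}) [X.Over (Spec (CommRingCat.of k))]
    [IsIntegral X] [IsProper (X ↘ (Spec (CommRingCat.of k)))] (hdim : topologicalKrullDim X = 1)
    (hg : Curv2.genus k X = 0) :
    Smooth (X ↘ (Spec (CommRingCat.of k))) := by
  haveI := CurveCohLib.isNoetherian_of_proper (k := k) (X := X)
  haveI := CurveCohLib.finite_HH (k := k) (QCoh.isCoh_structureModule' (X := X)) 1
  have h1 : Subsingleton (Coh.HH X (Coh.structureModule X) 1) := Module.finrank_zero_iff.1 hg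
  haveI : JacobsonSpace X := LocallyOfFiniteType.jacobsonSpace (X ↘ Spec (CommRingCat.of k))
  obtain ⟨z, hz, hzc⟩ := nonempty_inter_closedPoints
    (X ↘ Spec (CommRingCat.of k)).dense_smoothLocus_of_perfectField.nonempty
    (X ↘ Spec (CommRingCat.of k)).smoothLocus.2.isLocallyClosed
  obtain ⟨e, he⟩ := CurveEmbed.exists_iso_line_of_point k hdim h1 hzc hz (CurveSection.surjective_resMap k hzc)
  haveI := CurveEmbed.smooth_toSpec 1 k
  exact he ▸ inferInstance

end Groth.Agent.S14512
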