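import Groth.Statements.S17650
import Groth.Agent.CurveBC.Generated
import Groth.Agent.Snapper.DimVanish
import Groth.Agent.Lib.RegEpiGen

set_option autoImplicit false
universe u
open CategoryTheory CategoryTheory.Limits AlgebraicGeometry TopologicalSpace
open Curves

namespace Groth.Agent.S17650
set_option backward.isDefEq.respectTransparency false
set_option backward.isDefEq.respectTransparency.types false
open CategoryTheory.Limits Groth.Agent
open Groth.Agent.PnCoh.Finite (mapLin)

/-- A globally generated bundle on a proper scheme over a field is a quotient of a free one. -/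
theorem exists_epi_free (k : Type u) [Field k] {B : Scheme.{u}} [B.Over (Spec (CommRingCat.of k))]
    [IsProper (B ↘ Spec (CommRingCat.of k))] {E : B.Modules} (hE : FlatMod.IsFinLocFree E)
    (hgg : Curv2.IsGloballyGenerated E) : ∃ (n : ℕ) (q : FlatMod.freeMod B n ⟶ E), Epi q := by
  haveI := CurveCohLib.isNoetherian_of_proper (k := k) (X := B)
  have hEc := CurveDeg.isCoh_of_isFinLocFree hE
  haveI := CurveCohLib.finite_HH (k := k) hEc 0
  let n := Module.finrank k (Coh.HH B E 0)
  let b : Module.Basis (Fin n) k (Coh.HH B E 0) := Module.finBasis k _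
  let e₀ := Sheaf.H.equiv₀ (Coh.toAb E) isTerminalTop
  let s : Fin n → (Coh.structureModule B ⟶ E) := fun i => QCoh.homOfTop (e₀ (b i))
  let q : (∐ fun _ : Fin n => Coh.structureModule B) ⟶ E := Sigma.desc s
  have hF : Coh.IsQCoh (∐ fun _ : Fin n => Coh.structureModule B) :=
    QCoh.isQCoh_of_isFinLocFree (KFlatLib.isFinLocFree_freeMod (X := B) n)
  haveI : Epi q := Abelian.epi_of_cokernel_π_eq_zero q (by
    refine CurveCohLib.PointTwist.eq_zero_of_gg k hgg _ fun t => ?_
    have hz : mapLin k (cokernel.π q) 0 = 0 := b.ext fun i => by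
      refine (Sheaf.H.equiv₀ (Coh.toAb (cokernel q)) isTerminalTop).injective ?_
      refine (Sheaf.H.equiv₀_naturality isTerminalTop ((QCoh.toAbFunctor B).map (cokernel.π q)) _).symm.trans ?_
      have h1 : s i ≫ cokernel.π q = 0 := by
        rw [show s i = Sigma.ι (fun _ : Fin n => Coh.structureModule B) i ≫ q from (Sigma.ι_desc s i).symm,
          Category.assoc, cokernel.condition, comp_zero]
      have h2 := congrArg (fun φ : Coh.structureModule B ⟶ _ => φ.app ⊤ (1 : Γ(B, ⊤))) h1
      refine (congrArg ((cokernel.π q).app ⊤) ((QCoh.homOfTop_app (e₀ (b i)) _).trans ?_)).symm.trans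
        (h2.trans (map_zero (Sheaf.H.equiv₀ (Coh.toAb (cokernel q)) isTerminalTop)).symm)
      rw [one_smul]
      exact ConcreteCategory.congr_hom (E.presheaf.map_id _) (e₀ (b i))
    rw [hz, LinearMap.zero_apply])
  exact ⟨n, q, inferInstance⟩



/-- Let k be an algebraically closed field and B a connected scheme, proper over k, of dimension one,
with at-worst-nodal singularities and with H^1(B, O_B) = 0 (a connected proper prestable curve of
arithmetic genus zero). If E is a finite locally free O_B-module generated by its global sections,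
then H^1(B, E) = 0. (The source works over the complex numbers; the statement and its proof are
unchanged over any algebraically closed field.) -/
theorem result (k : Type u) [Field k] [IsAlgClosed k]
    (B : Scheme.{u}) [B.Over (Spec (CommRingCat.of k))] [IsProper (B ↘ Spec (CommRingCat.of k))]
    [ConnectedSpace ↥B] (hdim : topologicalKrullDim ↥B = 1) (hnod : Curv2.AtWorstNodal k B)
    (hg : Subsingleton (Coh.HH B (Coh.structureModule B) 1))
    (E : B.Modules) (hE : FlatMod.IsFinLocFree E) (hgg : Curv2.IsGloballyGenerated E) :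
    Subsingleton (Coh.HH B E 1) := by
  haveI := CurveCohLib.isNoetherian_of_proper (k := k) (X := B)
  haveI : B.IsSeparated := ⟨by
    rw [← terminal.comp_from (B ↘ Spec (CommRingCat.of k))]
    infer_instance⟩
  have hEc := CurveDeg.isCoh_of_isFinLocFree hE
  haveI := CurveCohLib.finite_HH (k := k) hEc 0
  obtain ⟨n, q, hq⟩ := exists_epi_free k hE hgg
  haveI := hq
  have hF : Coh.IsQCoh (∐ fun _ : Fin n => Coh.structureModule B) :=
    QCoh.isQCoh_of_isFinLocFree (KFlatLib.isFinLocFree_freeMod (X := B) n)
  have hS : (ShortComplex.mk (kernel.ι q) q (kernel.condition q)).ShortExact :=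
    { exact := ShortComplex.exact_of_f_is_kernel _ (kernelIsKernel q)
      mono_f := inferInstance
      epi_g := inferInstanceAs (Epi q) }
  haveI : Subsingleton (Coh.HH B (kernel q) 2) :=
    Snapper.subsingleton_HH_of_dim_le (d := 1) hdim.le (QCoh.isQCoh_kernel hF hEc.1 q) one_lt_two
  haveI := RegEpi.subsingleton_HH_sigma (fun _ : Fin n => Coh.structureModule B) 1 fun _ => hg
  refine subsingleton_of_forall_eq 0 fun y => ?_
  obtain ⟨z, hz⟩ := LinearMap.mem_range.1 ((Euler.range_mapLin_g k hS 1).ge (LinearMap.mem_ker.2 (Subsingleton.elim _ _)) : y ∈ _)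
  rw [← hz, show z = 0 from Subsingleton.elim (α := Coh.HH B (∐ fun _ : Fin n => Coh.structureModule B) 1) _ _, map_zero]


end Groth.Agent.S17650
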