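import Groth.Statements.S17651
import Groth.Agent.S17650
import Groth.Agent.Lib.CohGrowth
import Groth.Agent.Lib.CurvePoint
import Groth.Agent.AmpleVan.Vanish
import Groth.Agent.GeomField.GlobalFunctions
import Groth.Agent.H23.PicMul

set_option autoImplicit false
universe u
open CategoryTheory CategoryTheory.Limits AlgebraicGeometry TopologicalSpace
open Curves

namespace Groth.Agent.S17651
set_option backward.isDefEq.respectTransparency false
set_option backward.isDefEq.respectTransparency.types false
set_option linter.style.haveILetI false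
set_option maxHeartbeats 1000000
open CategoryTheory.Limits Opposite Groth.Agent
open Groth.Agent.PnCoh.Finite (mapLin)

/-- The evaluation at a rational point is surjective on global sections. -/
theorem surjective_eval {k : Type u} [Field k] [IsAlgClosed k] {B : Scheme.{u}} [B.Over (Spec (CommRingCat.of k))]
    [IsProper (B ↘ Spec (CommRingCat.of k))] (p : B) (hp : IsClosed ({p} : Set B)) :
    Function.Surjective ((CurvePoint.ptIdeal p hp).subschemeι.app ⊤) := by
  let Z := (CurvePoint.ptIdeal p hp).subscheme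
  let ι := (CurvePoint.ptIdeal p hp).subschemeι
  letI : Z.Over (Spec (CommRingCat.of k)) := ⟨ι ≫ B ↘ Spec (CommRingCat.of k)⟩
  haveI : IsProper (Z ↘ Spec (CommRingCat.of k)) :=
    inferInstanceAs (IsProper (ι ≫ B ↘ Spec (CommRingCat.of k)))
  have hr : Set.range ι = {p} := (CurvePoint.ptIdeal p hp).range_subschemeι
  haveI : Subsingleton Z := ⟨fun a b => ι.isClosedEmbedding.injective
    ((Set.mem_singleton_iff.1 (hr.le ⟨a, rfl⟩)).trans (Set.mem_singleton_iff.1 (hr.le ⟨b, rfl⟩)).symm)⟩
  haveI : Nonempty Z := by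
    obtain ⟨z, -⟩ := hr.ge rfl
    exact ⟨z⟩
  haveI : ConnectedSpace Z :=
    { isPreconnected_univ := Set.subsingleton_univ.isPreconnected, toNonempty := inferInstance }
  letI := GeomField.globalAlgebra k Z
  haveI : IsReduced Z := inferInstance
  letI := (GeomField.isField_globalFunctions k Z).toField
  haveI := GeomField.algebraMap_integral k Z
  intro y
  obtain ⟨c, hc⟩ := (IsAlgClosed.algebraMap_bijective_of_isIntegral (k := k) (K := Γ(Z, ⊤))).2 y
  refine ⟨(B ↘ Spec (CommRingCat.of k)).appTop ((Scheme.ΓSpecIso (CommRingCat.of k)).inv c), ?_⟩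
  rw [← hc]
  rfl



/-- Let k be an algebraically closed field and B a connected scheme, proper over k, of dimension one,
with at-worst-nodal singularities and with H^1(B, O_B) = 0. Let E be a finite locally free
O_B-module generated by its global sections and p a closed point of B, with I_p the ideal sheaf of
functions vanishing at p. Then H^1(B, E ⊗ I_p) = 0; since E is locally free, E ⊗ I_p is the
submodule I_p E of sections vanishing at p. (The source works over the complex numbers; the
statement and its proof are unchanged over any algebraically closed field.) -/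
theorem result (k : Type u) [Field k] [IsAlgClosed k]
    (B : Scheme.{u}) [B.Over (Spec (CommRingCat.of k))] [IsProper (B ↘ Spec (CommRingCat.of k))]
    [ConnectedSpace ↥B] (hdim : topologicalKrullDim ↥B = 1) (hnod : Curv2.AtWorstNodal k B)
    (hg : Subsingleton (Coh.HH B (Coh.structureModule B) 1))
    (E : B.Modules) (hE : FlatMod.IsFinLocFree E) (hgg : Curv2.IsGloballyGenerated E)
    (p : ↥B) (hp : IsClosed ({p} : Set ↥B)) :
    Subsingleton (Coh.HH B (CohB1.tensorMod E
      (ClSub.idealMod (Scheme.IdealSheafData.vanishingIdeal (⟨{p}, hp⟩ : Closeds ↥B)))) 1) := by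
  haveI := CurveCohLib.isNoetherian_of_proper (k := k) (X := B)
  haveI : B.IsSeparated := ⟨by
    rw [← terminal.comp_from (B ↘ Spec (CommRingCat.of k))]
    infer_instance⟩
  let I := CurvePoint.ptMod p hp
  have hOc : Coh.IsCoh (Coh.structureModule B) := QCoh.isCoh_structureModule'
  have hQ : Coh.IsCoh (ClSub.quotMod (CurvePoint.ptIdeal p hp)) := ParShLib.isCoh_quotMod _
  have hIc : Coh.IsCoh I := QCoh.isCoh_kernel hOc hQ _
  have hI1 : Subsingleton (Coh.HH B I 1) := by
    refine subsingleton_of_forall_eq 0 fun y => ?_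
    haveI := CurvePoint.epi_toSubscheme (CurvePoint.ptIdeal p hp)
    have hS : (ShortComplex.mk (ClSub.idealModι (CurvePoint.ptIdeal p hp)) (ClSub.toSubscheme (CurvePoint.ptIdeal p hp))
        (kernel.condition _)).ShortExact :=
      { exact := ShortComplex.exact_of_f_is_kernel _ (kernelIsKernel _)
        mono_f := inferInstanceAs (Mono (kernel.ι (ClSub.toSubscheme (CurvePoint.ptIdeal p hp))))
        epi_g := inferInstanceAs (Epi (ClSub.toSubscheme (CurvePoint.ptIdeal p hp))) }
    obtain ⟨z, hz⟩ := LinearMap.mem_range.1 ((Euler.range_deltaLin k hS 0).ge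
      (LinearMap.mem_ker.2 (Subsingleton.elim _ _)) : y ∈ _)
    obtain ⟨s, hs⟩ : ∃ s, mapLin k (ClSub.toSubscheme (CurvePoint.ptIdeal p hp)) 0 s = z := by
      obtain ⟨r, hr⟩ := surjective_eval (k := k) p hp
        (Sheaf.H.equiv₀ (Coh.toAb (ClSub.quotMod (CurvePoint.ptIdeal p hp))) isTerminalTop z)
      refine ⟨(Sheaf.H.equiv₀ (Coh.toAb (Coh.structureModule B)) isTerminalTop).symm r,
        (Sheaf.H.equiv₀ (Coh.toAb (ClSub.quotMod (CurvePoint.ptIdeal p hp))) isTerminalTop).injective ?_⟩
      refine (Sheaf.H.equiv₀_naturality isTerminalTop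
        ((QCoh.toAbFunctor B).map (ClSub.toSubscheme (CurvePoint.ptIdeal p hp))) _).symm.trans ?_
      exact (congrArg ((ClSub.toSubscheme (CurvePoint.ptIdeal p hp)).app ⊤)
        (AddEquiv.apply_symm_apply _ _)).trans hr
    have h0 : z ∈ LinearMap.ker (Groth.Agent.PnCoh.Finite.deltaLin k hS 0) :=
      (Euler.range_mapLin_g k hS 0).le ⟨s, hs⟩
    exact hz.symm.trans (LinearMap.mem_ker.1 h0)
  haveI hE1 := Groth.Agent.S17650.result k B hdim hnod hg E hE hgg
  obtain ⟨n, q, hq⟩ := Groth.Agent.S17650.exists_epi_free k hE hgg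
  haveI := hq
  let G : B.Modules ⥤ B.Modules := DCoh.tensorBi.obj I
  haveI : PreservesColimitsOfSize.{u, u} G := ⟨fun {K} _ => inferInstance⟩
  haveI : PreservesColimitsOfSize.{0, 0} G := preservesColimitsOfSize_shrink.{0, u, 0, u} _
  haveI : PreservesBinaryBiproducts G := preservesBinaryBiproducts_of_preservesBinaryCoproducts _
  haveI : G.Additive := Functor.additive_of_preservesBinaryBiproducts _
  haveI : Epi (G.map q) := inferInstance
  have hEc := CurveDeg.isCoh_of_isFinLocFree hE
  have hFc : Coh.IsCoh (FlatMod.freeMod B n) := CurveDeg.isCoh_of_isFinLocFree (KFlatLib.isFinLocFree_freeMod n)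
  have hGO : Subsingleton (Coh.HH B (G.obj (Coh.structureModule B)) 1) :=
    QCoh.subsingleton_HH_of_iso (KFlatLib.tensorUnitIso I).symm 1 hI1
  have hfin : Module.Finite k (Coh.HH B (G.obj (FlatMod.freeMod B n)) 1) :=
    CurveCohLib.finite_HH (k := k) (AmpleVan.isCoh_tensor hIc hFc : Coh.IsCoh (G.obj (FlatMod.freeMod B n))) 1
  have hGF : Subsingleton (Coh.HH B (G.obj (FlatMod.freeMod B n)) 1) := by
    haveI := hGO
    haveI := hfin
    haveI : Module.Finite k (Coh.HH B (G.obj (Coh.structureModule B)) 1) := Module.Finite.of_finite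
    refine (Module.finrank_zero_iff (R := k) (M := Coh.HH B (G.obj (FlatMod.freeMod B n)) 1)).1 ?_
    rw [CohGrowth.finrank_HH_map_free k G n 1, Module.finrank_zero_of_subsingleton, mul_zero]
  have hK : Coh.IsQCoh (kernel (G.map q)) := QCoh.isQCoh_kernel (AmpleVan.isCoh_tensor hIc hFc).1 (AmpleVan.isCoh_tensor hIc hEc).1 _
  have hS : (ShortComplex.mk (kernel.ι (G.map q)) (G.map q) (kernel.condition _)).ShortExact :=
    { exact := ShortComplex.exact_of_f_is_kernel _ (kernelIsKernel (G.map q))
      mono_f := inferInstance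
      epi_g := inferInstanceAs (Epi (G.map q)) }
  haveI : Subsingleton (Coh.HH B (kernel (G.map q)) 2) :=
    Snapper.subsingleton_HH_of_dim_le (d := 1) hdim.le hK one_lt_two
  refine QCoh.subsingleton_HH_of_iso (H23.PicMul.comm I E).some 1 (subsingleton_of_forall_eq 0 fun y => ?_)
  obtain ⟨z, hz⟩ := LinearMap.mem_range.1 ((Euler.range_mapLin_g k hS 1).ge (LinearMap.mem_ker.2 (Subsingleton.elim _ _)) : y ∈ _)
  rw [← hz, show z = 0 from Subsingleton.elim (α := Coh.HH B (G.obj (FlatMod.freeMod B n)) 1) _ _, map_zero]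


end Groth.Agent.S17651
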