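import Groth.Statements.S3506
import Groth.Agent.ArtinVan.Main
-- import your own Groth.Agent.* helpers here

set_option autoImplicit false
universe u
open CategoryTheory CategoryTheory.Limits AlgebraicGeometry Opposite
open EtCd

namespace Groth.Agent.S3506

/-- Let K be a field with cd(K) ≤ e, X an affine scheme of finite type over K, and F a torsion abelian
sheaf on the small etale site of X every point of whose support has residue field of transcendence
degree ≤ a over K. Then H^b(X, F) = 0 for every b > a + e. -/
theorem result (K : Type u) [Field K] (X : Scheme.{u}) [IsAffine X]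
    (f : X ⟶ Spec (CommRingCat.of K)) [LocallyOfFiniteType f] (a e : ℕ)
    (hK : EtCoh.CohDimLE (Spec (CommRingCat.of K)) e) (F : EtCoh.Ab X) (hF : EtCoh.IsTorsion F)
    (hsupp : ∀ x ∈ EtPBC.supp F, EtPBC.ResTrdegLE f x a) (b : ℕ) (hb : a + e < b) :
    Subsingleton (EtCoh.H X F b) := by
  exact ArtinVan.vanAt a K e hK X f F hF (fun x hx => ArtinVan.deg_le_of_resTrdegLE f (hsupp x hx)) b hb

end Groth.Agent.S3506
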