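import Groth.Statements.S19313
import Groth.Agent.DecShLib.Mu
import Groth.Agent.HilbPoly.Sat
set_option autoImplicit false
universe u
open CategoryTheory CategoryTheory.Limits AlgebraicGeometry
open DecSh

namespace Groth.Agent.S19313
set_option backward.isDefEq.respectTransparency false
set_option backward.isDefEq.respectTransparency.types false


/-- Let k be an algebraically closed field of characteristic zero, X a reduced proper k-scheme of
dimension one without isolated points, L an ample invertible O_X-module, E a coherent O_X-module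
with torsion free stalks, χ the Euler characteristic over k and α(M) = χ(M ⊗ L) − χ(M) the
multiplicity. Let δ > 0 and let T be a tensor field on E of type (a, b) with values in a module D
which is δ-semistable with respect to L. Then for every nonzero proper coherent subsheaf F ⊂ E (a
monomorphism F → E which is not an isomorphism), α(E) · χ(F) − α(F) · χ(E) ≤ δ · a · (α(E) − α(F)).
In slope form: χ(F)/α(F) ≤ χ(E)/α(E) + δ a (α(E) − 1)/α(E), so the maximal slope of E is bounded in
terms of a, δ, α(E), χ(E) alone. (The published corollary is for a reduced projective curve with a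
very ample polarisation and a locally free D; none of these is used for this inequality.) -/
theorem result
    (k : Type u) [Field k] [IsAlgClosed k] [CharZero k]
    (X : Scheme.{u}) [X.Over (Spec (CommRingCat.of k))] [IsProper (X ↘ Spec (CommRingCat.of k))]
    [AlgebraicGeometry.IsReduced X] (hdim : topologicalKrullDim X = 1)
    (hpure : ∀ x : X, ¬ IsOpen ({x} : Set X))
    (L : X.Modules) (hL : CohB1.IsAmple L)
    (E : X.Modules) (hE : Coh.IsCoh E) (htf : TorSh.IsTorsionFree E)
    {D : X.Modules} {a b : ℕ} (T : DecSh.TF E a b D)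
    (δ : ℚ) (hδ : 0 < δ) (hT : T.IsSemistable k L δ)
    (F : X.Modules) (ι : F ⟶ E) [Mono ι] (hF : Coh.IsCoh F) (hF0 : ¬ IsZero F) (hι : ¬ IsIso ι) :
    (DecSh.mult k X L E : ℚ) * (Curv2.euler k X F : ℚ) - (DecSh.mult k X L F : ℚ) * (Curv2.euler k X E : ℚ)
      ≤ δ * (a : ℚ) * ((DecSh.mult k X L E : ℚ) - (DecSh.mult k X L F : ℚ)) := by
    haveI : IsNoetherian X := CurveCohLib.isNoetherian_of_proper (k := k)
    let eS : (Subobject.mk ι : X.Modules) ≅ F := Subobject.underlyingIso ι
    have hP : Coh.IsCoh (Subobject.mk ι : X.Modules) := HilbPoly.isCoh_of_iso eS.symm hF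
    have hP0 : ¬ IsZero (Subobject.mk ι : X.Modules) := fun h => hF0 (h.of_iso eS.symm)
    have hne : Subobject.mk ι ≠ ⊤ := fun h => hι (by
      haveI := (Subobject.isIso_arrow_iff_eq_top _).2 h
      rw [← Subobject.underlyingIso_arrow ι]; infer_instance)
    have hall := hT (DecSh.WFilt.single (Subobject.mk ι) hne hP0) fun _ => hP
    have hb := abs_le.1 (DecShLib.abs_mu_le (DecSh.WFilt.single (Subobject.mk ι) hne hP0) (DecSh.mult k X L E)
      (fun P => DecSh.mult k X L (P : X.Modules))
      (fun _ => DecShLib.one_le_mult hdim hpure hL htf (Subobject.mk ι).arrow hP hP0)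
      (fun _ => DecShLib.mult_le hdim hL (Subobject.mk ι).arrow hP hE) T.nv)
    obtain ⟨I, -, hI⟩ := (DecSh.WFilt.single (Subobject.mk ι) hne hP0).exists_gam_eq_mu (DecSh.mult k X L E)
      (fun P => DecSh.mult k X L (P : X.Modules)) T.nv
    have hν : (DecSh.WFilt.single (Subobject.mk ι) hne hP0).nu (DecSh.mult k X L E)
        (fun P => DecSh.mult k X L (P : X.Modules)) I ⟨0, Nat.one_pos⟩ ≤ a :=
      (Finset.card_filter_le _ _).trans (by simp)
    have hν' : (((DecSh.WFilt.single (Subobject.mk ι) hne hP0).nu (DecSh.mult k X L E)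
        (fun P => DecSh.mult k X L (P : X.Modules)) I ⟨0, Nat.one_pos⟩ : ℕ) : ℚ) ≤ a := by exact_mod_cast hν
    have hαE : (1 : ℚ) ≤ DecSh.mult k X L E := by
      exact_mod_cast (DecShLib.one_le_mult hdim hpure hL htf (Subobject.mk ι).arrow hP hP0).trans
        (DecShLib.mult_le hdim hL (Subobject.mk ι).arrow hP hE)
    have he : DecSh.mult k X L (Subobject.mk ι : X.Modules) = DecSh.mult k X L F := by
      rw [DecShLib.mult_eq, DecShLib.mult_eq]
      exact (HilbPoly.additive_lead (HilbPoly.additive_euler k) hL.1 1).iso _ _ ⟨eS⟩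
    have he' : Curv2.euler k X (Subobject.mk ι : X.Modules) = Curv2.euler k X F :=
      (HilbPoly.additive_euler k).iso _ _ ⟨eS⟩
    simp only [DecSh.WFilt.msum, DecSh.WFilt.single, Fin.sum_univ_one, one_mul, he, he'] at hall
    unfold DecSh.WFilt.gam at hI
    simp only [DecSh.WFilt.single, Fin.sum_univ_one, one_mul, he] at hI hν'
    have key : (a : ℚ) * (DecSh.mult k X L F : ℚ) - a * DecSh.mult k X L E ≤
        (DecSh.WFilt.single (Subobject.mk ι) hne hP0).mu (DecSh.mult k X L E)
        (fun P => DecSh.mult k X L (P : X.Modules)) T.nv := by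
      simp only [DecSh.WFilt.single] at hI ⊢
      rw [← hI]
      exact sub_le_sub_left (mul_le_mul_of_nonneg_right hν' (by linarith)) _
    simp only [DecSh.WFilt.single] at key hall
    have h9 := mul_le_mul_of_nonneg_left key hδ.le
    linarith

end Groth.Agent.S19313
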