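import Groth.Statements.S15708
import Mathlib.RingTheory.GradedAlgebra.Radical

set_option autoImplicit false
universe u v
open CAlg

namespace Groth.Agent.S15708
/-- Homogeneous prime avoidance for homogeneous primes that are pairwise incomparable. -/
theorem exists_avoid {R A : Type*} [CommRing R] [CommRing A] [Algebra R A] (𝒜 : ℕ → Submodule R A) [GradedRing 𝒜]
    (J : Ideal A) (hJ : J.IsHomogeneous 𝒜) (M : Finset (Ideal A))
    (hM : ∀ p ∈ M, p.IsPrime ∧ p.IsHomogeneous 𝒜 ∧ ¬ (HomogeneousIdeal.irrelevant 𝒜).toIdeal ≤ p ∧ ¬ J ≤ p)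
    (hanti : ∀ p ∈ M, ∀ q ∈ M, q ≤ p → p = q) :
    ∃ (z : A) (n : ℕ), 0 < n ∧ z ∈ 𝒜 n ∧ z ∈ J ∧ ∀ p ∈ M, z ∉ p := by
  classical
  have hex : ∀ {I : Ideal A}, I.IsHomogeneous 𝒜 → ∀ {p : Ideal A}, ¬ I ≤ p → ∃ (d : ℕ) (a : A), a ∈ 𝒜 d ∧ a ∈ I ∧ a ∉ p := by
    intro I hI p hIp
    obtain ⟨a, haI, hap⟩ := SetLike.not_le_iff_exists.1 hIp
    by_contra! h
    refine hap ?_
    rw [← DirectSum.sum_support_decompose 𝒜 a]
    exact sum_mem fun d _ => h d _ (SetLike.coe_mem _) (hI d haI)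
  have hone : ∀ p ∈ M, ∃ (d : ℕ) (a : A), 0 < d ∧ a ∈ 𝒜 d ∧ a ∈ J ∧ a ∉ p ∧ ∀ q ∈ M, q ≠ p → a ∈ q := by
    intro p hp
    obtain ⟨hp', _, hirr, hJp⟩ := hM p hp
    obtain ⟨d₁, a₁, h₁, h₁J, h₁p⟩ := hex hJ hJp
    obtain ⟨d₂, a₂, hd₂, h₂, h₂p⟩ : ∃ (d : ℕ) (a : A), 0 < d ∧ a ∈ 𝒜 d ∧ a ∉ p := by
      by_contra! H
      refine hirr ?_
      rw [HomogeneousIdeal.irrelevant_eq_span, Ideal.span_le]
      simp only [Set.iUnion_subset_iff]
      exact fun i hi a ha => H i a hi ha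
    have hb : ∀ q : {q // q ∈ M.erase p}, ∃ (d : ℕ) (a : A), a ∈ 𝒜 d ∧ a ∈ q.1 ∧ a ∉ p := fun q =>
      hex (hM q.1 (Finset.mem_of_mem_erase q.2)).2.1 fun hle =>
        Finset.ne_of_mem_erase q.2 (hanti p hp q.1 (Finset.mem_of_mem_erase q.2) hle).symm
    choose e b hbd hbq hbp using hb
    refine ⟨d₁ + d₂ + ∑ q, e q, a₁ * a₂ * ∏ q, b q, by omega, ?_, ?_, ?_, ?_⟩
    · exact SetLike.mul_mem_graded (SetLike.mul_mem_graded h₁ h₂) (SetLike.prod_mem_graded 𝒜 _ _ fun q _ => hbd q)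
    · exact J.mul_mem_right _ (J.mul_mem_right _ h₁J)
    · intro h
      rcases hp'.mem_or_mem h with h | h
      · exact (hp'.mem_or_mem h).elim h₁p h₂p
      · obtain ⟨q, -, hq⟩ := hp'.prod_mem_iff.1 h
        exact hbp q hq
    · intro q hq hne
      exact q.mul_mem_left _ (Ideal.prod_mem _ (Finset.mem_univ (⟨q, Finset.mem_erase.2 ⟨hne, hq⟩⟩ : {x // x ∈ M.erase p})) (hbq ⟨q, Finset.mem_erase.2 ⟨hne, hq⟩⟩))
  choose d a hd had haJ hap haq using hone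
  let D := ∏ q : {q // q ∈ M}, d q.1 q.2
  have hD : 0 < D := Finset.prod_pos fun q _ => hd q.1 q.2
  have hdiv : ∀ q : {q // q ∈ M}, d q.1 q.2 ∣ D := fun q => Finset.dvd_prod_of_mem _ (Finset.mem_univ q)
  have hm : ∀ q : {q // q ∈ M}, 0 < D / d q.1 q.2 := fun q => Nat.div_pos (Nat.le_of_dvd hD (hdiv q)) (hd q.1 q.2)
  refine ⟨∑ q : {q // q ∈ M}, a q.1 q.2 ^ (D / d q.1 q.2), D, hD, ?_, ?_, ?_⟩
  · refine sum_mem fun q _ => ?_
    have h := SetLike.pow_mem_graded (D / d q.1 q.2) (had q.1 q.2)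
    rwa [smul_eq_mul, Nat.div_mul_cancel (hdiv q)] at h
  · exact sum_mem fun q _ => J.pow_mem_of_mem (haJ q.1 q.2) _ (hm q)
  · intro p hp h
    have hp' := (hM p hp).1
    rw [Fintype.sum_eq_add_sum_compl ⟨p, hp⟩] at h
    have hrest : ∑ q ∈ ({⟨p, hp⟩}ᶜ : Finset {q // q ∈ M}), a q.1 q.2 ^ (D / d q.1 q.2) ∈ p := by
      refine sum_mem fun q hq => p.pow_mem_of_mem (haq q.1 q.2 p hp fun e => ?_) _ (hm q)
      rw [Finset.mem_compl, Finset.mem_singleton] at hq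
      exact hq (Subtype.ext e.symm)
    exact hap p hp (hp'.mem_of_pow_mem _ ((p.add_mem_iff_left hrest).1 h))

/-- Let A be a Noetherian commutative ring graded by the natural numbers, J a homogeneous ideal, and
p_1, ..., p_r finitely many prime ideals such that no p_i contains the irrelevant ideal A_+ and no
p_i contains J. Then there is a homogeneous element z of positive degree with z in J and z in no
p_i. -/
theorem result {R : Type u} {A : Type v} [CommRing R] [CommRing A]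
    [Algebra R A] [IsNoetherianRing A] (𝒜 : ℕ → Submodule R A) [GradedRing 𝒜]
    (J : Ideal A) (hJ : J.IsHomogeneous 𝒜) (P : Finset (Ideal A))
    (hP : ∀ p ∈ P, p.IsPrime ∧ ¬ (HomogeneousIdeal.irrelevant 𝒜).toIdeal ≤ p ∧ ¬ J ≤ p) :
    ∃ (z : A) (n : ℕ), 0 < n ∧ z ∈ 𝒜 n ∧ z ∈ J ∧ ∀ p ∈ P, z ∉ p := by
  classical
  let core : Ideal A → Ideal A := fun p => (p.homogeneousCore 𝒜).toIdeal
  let C := P.image core
  let M := C.filter fun p => ∀ q ∈ C, p ≤ q → p = q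
  obtain ⟨z, n, hn, hzn, hzJ, hz⟩ := exists_avoid 𝒜 J hJ M (fun q hq => by
    obtain ⟨p, hp, rfl⟩ := Finset.mem_image.1 (Finset.mem_filter.1 hq).1
    obtain ⟨hpp, hirr, hJp⟩ := hP p hp
    exact ⟨hpp.homogeneousCore, HomogeneousIdeal.isHomogeneous _,
      fun h => hirr (h.trans (Ideal.toIdeal_homogeneousCore_le 𝒜 p)),
      fun h => hJp (h.trans (Ideal.toIdeal_homogeneousCore_le 𝒜 p))⟩) (fun p hp q hq h =>
      ((Finset.mem_filter.1 hq).2 p (Finset.mem_filter.1 hp).1 h).symm)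
  refine ⟨z, n, hn, hzn, hzJ, fun p hp h => ?_⟩
  have hzc : z ∈ core p := Ideal.mem_homogeneousCore_of_homogeneous_of_mem ⟨n, hzn⟩ h
  obtain ⟨q, hle, hq⟩ := C.exists_le_maximal (Finset.mem_image_of_mem core hp)
  exact hz q (Finset.mem_filter.2 ⟨hq.prop, fun r hr hqr => hq.eq_of_le hr hqr⟩) (hle hzc)

end Groth.Agent.S15708
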