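import Groth.Statements.S18387
import Mathlib.RingTheory.Artinian.Ring
import Mathlib.LinearAlgebra.FiniteDimensional.Lemmas

set_option autoImplicit false
universe u
open LVCorr

namespace Groth.Agent.S18387

/-- In the affine form which its proof establishes. Let A be a commutative algebra over a field F which
is finite-dimensional of dimension d over F. Then the d-th power of the nilradical of A vanishes.
(Applied to the fibre algebra A = B/mB of a quasi-finite morphism over a closed point with maximal
ideal m, this says that the d-th power of the radical of mB lies in mB, i.e. the ramification of the
morphism at that point is at most the degree d of the fibre.) -/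
theorem result (F A : Type u) [Field F] [CommRing A] [Algebra F A]
    [FiniteDimensional F A] : nilradical A ^ Module.finrank F A = ⊥ := by
  haveI : IsArtinianRing A := isArtinian_of_tower F inferInstance
  obtain ⟨n, hn⟩ := IsArtinianRing.isNilpotent_nilradical (R := A)
  have key : ∀ i : ℕ, nilradical A ^ i = ⊥ ∨
      Module.finrank F ↥((nilradical A ^ i).restrictScalars F) + i ≤ Module.finrank F A := by
    intro i
    induction i with
    | zero => exact .inr (by simpa using Submodule.finrank_le _)
    | succ i ih =>
      rcases ih with h | h
      · exact .inl (by rw [pow_succ, h, Ideal.bot_mul])
      by_cases he : nilradical A ^ i = ⊥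
      · exact .inl (by rw [pow_succ, he, Ideal.bot_mul])
      refine .inr ?_
      have hlt : nilradical A ^ (i + 1) < nilradical A ^ i := by
        refine lt_of_le_of_ne (Ideal.pow_le_pow_right i.le_succ) fun heq => he ?_
        have hm : ∀ m, nilradical A ^ (i + m) = nilradical A ^ i := by
          intro m
          induction m with
          | zero => rfl
          | succ m ih' => rw [← add_assoc, pow_succ, ih', ← pow_succ, heq]
        rw [← hm n, pow_add, hn]
        simp
      have := Submodule.finrank_lt_finrank_of_lt
        (show (nilradical A ^ (i + 1)).restrictScalars F < (nilradical A ^ i).restrictScalars F from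
          Submodule.restrictScalarsEmbedding F A A |>.strictMono hlt)
      omega
  rcases key (Module.finrank F A) with h | h
  · exact h
  · have h0 : Module.finrank F ↥((nilradical A ^ Module.finrank F A).restrictScalars F) = 0 := by omega
    exact (Submodule.restrictScalars_eq_bot_iff F A A).mp (Submodule.finrank_eq_zero.mp h0)

end Groth.Agent.S18387
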