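import Groth.Statements.S3433
import Groth.Agent.Goldman.Scheme

set_option autoImplicit false
universe u
open EGA43

namespace Groth.Agent.S3433

open Groth.Agent.Goldman

/-- Let A be a Noetherian local ring with maximal ideal m and let Y be the punctured spectrum Spec A ∖
{m}. Then Y is a Jacobson space, and a point p of Y is closed in Y if and only if dim A/p = 1. -/
theorem result (A : Type u) [CommRing A] [IsNoetherianRing A] [IsLocalRing A] :
    JacobsonSpace ↥({IsLocalRing.closedPoint A}ᶜ : Set (PrimeSpectrum A)) ∧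
      ∀ p : ↥({IsLocalRing.closedPoint A}ᶜ : Set (PrimeSpectrum A)),
        IsClosed ({p} : Set ↥({IsLocalRing.closedPoint A}ᶜ : Set (PrimeSpectrum A))) ↔
          ringKrullDim (A ⧸ p.1.asIdeal) = 1 := by
  haveI : JacobsonSpace ↥({IsLocalRing.closedPoint A}ᶜ : Set (PrimeSpectrum A)) :=
    jacobson_compl (X := AlgebraicGeometry.Spec (CommRingCat.of A)) (Y := {IsLocalRing.closedPoint A})
      (IsLocalRing.isClosed_singleton_closedPoint A)
      fun Z hZ ⟨z, hz⟩ =>
        ⟨IsLocalRing.closedPoint A, (IsLocalRing.specializes_closedPoint z).mem_closed hZ hz, rfl⟩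
  refine ⟨this, fun p => ?_⟩
  obtain ⟨p, hp⟩ := p
  haveI := p.2
  have hp' : ¬ p.asIdeal.IsMaximal := fun hm => hp (PrimeSpectrum.ext (IsLocalRing.eq_maximalIdeal hm))
  rw [dim_eq_one_iff, ← Ideal.Quotient.maximal_ideal_iff_isField_quotient]
  constructor
  · intro hc
    refine ⟨hp', fun q hq hq0 => ?_⟩
    by_contra hnm
    let r : PrimeSpectrum A := ⟨q.comap (Ideal.Quotient.mk p.asIdeal), hq.comap _⟩
    have hpr : p.asIdeal ≤ r.asIdeal := fun x hx => by
      simp [r, Ideal.mem_comap, Ideal.Quotient.eq_zero_iff_mem.mpr hx]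
    have hr : r ≠ IsLocalRing.closedPoint A := fun he => hnm (by
      rw [← Ideal.map_comap_of_surjective _ Ideal.Quotient.mk_surjective q,
        show q.comap (Ideal.Quotient.mk p.asIdeal) = IsLocalRing.maximalIdeal A from congrArg PrimeSpectrum.asIdeal he]
      refine Ideal.IsMaximal.map_of_surjective_of_ker_le Ideal.Quotient.mk_surjective ?_
      rw [Ideal.mk_ker]
      exact IsLocalRing.le_maximalIdeal p.2.ne_top)
    have hsp : (⟨p, hp⟩ : ↥({IsLocalRing.closedPoint A}ᶜ : Set (PrimeSpectrum A))) ⤳ ⟨r, hr⟩ :=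
      (subtype_specializes_iff _ _).mpr ((PrimeSpectrum.le_iff_specializes p r).mp hpr)
    have hrp : r = p := congrArg Subtype.val (Set.eq_of_mem_singleton (hsp.mem_closed hc (Set.mem_singleton _)))
    refine hq0 ?_
    rw [← Ideal.map_comap_of_surjective _ Ideal.Quotient.mk_surjective q,
      show q.comap (Ideal.Quotient.mk p.asIdeal) = p.asIdeal from congrArg PrimeSpectrum.asIdeal hrp,
      Ideal.map_quotient_self]
  · rintro ⟨-, h⟩
    refine closure_subset_iff_isClosed.mp ?_
    rintro ⟨r, hr⟩ hw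
    have hle : p.asIdeal ≤ r.asIdeal := (PrimeSpectrum.le_iff_specializes p r).mpr
      ((subtype_specializes_iff _ _).mp (specializes_iff_mem_closure.mpr hw))
    by_contra hne
    have hk : RingHom.ker (Ideal.Quotient.mk p.asIdeal) ≤ r.asIdeal := by rwa [Ideal.mk_ker]
    have hq := Ideal.map_isPrime_of_surjective Ideal.Quotient.mk_surjective hk
    have hq0 : r.asIdeal.map (Ideal.Quotient.mk p.asIdeal) ≠ ⊥ := fun he => hne (Subtype.ext (PrimeSpectrum.ext
      (le_antisymm (by rwa [Ideal.map_eq_bot_iff_le_ker, Ideal.mk_ker] at he) hle)))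
    haveI := h _ hq hq0
    have := Ideal.comap_isMaximal_of_surjective (Ideal.Quotient.mk p.asIdeal) Ideal.Quotient.mk_surjective
      (K := r.asIdeal.map (Ideal.Quotient.mk p.asIdeal))
    rw [Ideal.comap_map_of_surjective _ Ideal.Quotient.mk_surjective, ← RingHom.ker_eq_comap_bot,
      sup_eq_left.mpr hk] at this
    exact hr (PrimeSpectrum.ext (IsLocalRing.eq_maximalIdeal this))

end Groth.Agent.S3433
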