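import Groth.Statements.S0393
import Mathlib.RingTheory.Filtration
import Mathlib.RingTheory.Flat.Basic
import Mathlib.RingTheory.LocalRing.ResidueField.Basic
import Mathlib.LinearAlgebra.TensorProduct.Quotient
import Mathlib.LinearAlgebra.DirectSum.Finsupp
import Mathlib.Algebra.Module.Torsion.Basic
import Mathlib.LinearAlgebra.FreeModule.Basic
import Mathlib.LinearAlgebra.Basis.VectorSpace
import Mathlib.RingTheory.Flat.Tensor

set_option autoImplicit false
universe u
open FlatMor

namespace Groth.Agent.S0393

open TensorProduct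

/-- A module killed by the maximal ideal preserves injectivity mod the maximal ideal. -/
theorem lTensor_injective_of_killed {R V M N : Type u} [CommRing R] [IsLocalRing R]
    [AddCommGroup V] [Module R V] [AddCommGroup M] [Module R M] [AddCommGroup N] [Module R N]
    (hV : ∀ r ∈ IsLocalRing.maximalIdeal R, ∀ v : V, r • v = 0)
    (u : N →ₗ[R] M) (h : Function.Injective (LinearMap.lTensor (IsLocalRing.ResidueField R) u)) :
    Function.Injective (u.lTensor V) := by
  classical
  have hT : Module.IsTorsionBySet R V (IsLocalRing.maximalIdeal R : Set R) := fun v r => hV r r.2 v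
  letI : Module (R ⧸ IsLocalRing.maximalIdeal R) V := hT.module
  letI : Field (R ⧸ IsLocalRing.maximalIdeal R) := Ideal.Quotient.field _
  haveI : IsScalarTower R (R ⧸ IsLocalRing.maximalIdeal R) V := hT.isScalarTower
  let b := Module.Free.chooseBasis (R ⧸ IsLocalRing.maximalIdeal R) V
  let e : V ≃ₗ[R] (Module.Free.ChooseBasisIndex (R ⧸ IsLocalRing.maximalIdeal R) V →₀
      R ⧸ IsLocalRing.maximalIdeal R) := b.repr.restrictScalars R
  rw [injective_iff_map_eq_zero]
  intro z hz
  have he : Function.Injective (e.toLinearMap.rTensor N) :=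
    Function.HasLeftInverse.injective ⟨e.symm.toLinearMap.rTensor N, fun w => by
      rw [← LinearMap.rTensor_comp_apply, LinearEquiv.symm_comp, LinearMap.rTensor_id,
        LinearMap.id_apply]⟩
  refine he ?_
  rw [map_zero]
  apply (TensorProduct.finsuppLeft R R (R ⧸ IsLocalRing.maximalIdeal R) N _).injective
  ext i
  rw [map_zero, Finsupp.zero_apply, TensorProduct.finsuppLeft_apply]
  refine (show Function.Injective (u.lTensor (R ⧸ IsLocalRing.maximalIdeal R)) from h) ?_
  rw [map_zero, ← LinearMap.rTensor_comp_apply, ← LinearMap.comp_apply, LinearMap.lTensor_comp_rTensor,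
    ← LinearMap.rTensor_comp_lTensor, LinearMap.comp_apply, hz, map_zero]

theorem one_tmul_eq_zero_iff {R N : Type u} [CommRing R] [AddCommGroup N] [Module R N] (I : Ideal R) (n : N) :
    (1 : R ⧸ I) ⊗ₜ[R] n = 0 ↔ n ∈ I • (⊤ : Submodule R N) := by
  have e : TensorProduct.quotTensorEquivQuotSMul N I ((Ideal.Quotient.mk I 1) ⊗ₜ[R] n) =
      Submodule.Quotient.mk n := by
    rw [TensorProduct.quotTensorEquivQuotSMul_mk_tmul, one_smul]
  rw [← Submodule.Quotient.mk_eq_zero, ← e, LinearEquiv.map_eq_zero_iff]
  rfl

theorem exists_one_tmul {R N : Type u} [CommRing R] [AddCommGroup N] [Module R N] (I : Ideal R)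
    (z : (R ⧸ I) ⊗[R] N) : ∃ n : N, z = (1 : R ⧸ I) ⊗ₜ[R] n := by
  induction z with
  | zero => exact ⟨0, (TensorProduct.tmul_zero _ _).symm⟩
  | tmul q n =>
    obtain ⟨r, rfl⟩ := Submodule.Quotient.mk_surjective I q
    exact ⟨r • n, by rw [← TensorProduct.smul_tmul, Algebra.smul_def, mul_one]; rfl⟩
  | add a b ha hb =>
    obtain ⟨x, rfl⟩ := ha
    obtain ⟨y, rfl⟩ := hb
    exact ⟨x + y, (TensorProduct.tmul_add _ _ _).symm⟩

/-- Injectivity of `u` modulo every ideal `I + m ^ k`. -/
theorem injective_mod_pow {R M N : Type u} [CommRing R] [IsLocalRing R]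
    [AddCommGroup M] [Module R M] [Module.Flat R M] [AddCommGroup N] [Module R N]
    (u : N →ₗ[R] M) (h : Function.Injective (LinearMap.lTensor (IsLocalRing.ResidueField R) u))
    (I : Ideal R) (k : ℕ) (n : N) (hn : u n ∈ I • (⊤ : Submodule R M)) :
    n ∈ (I ⊔ IsLocalRing.maximalIdeal R ^ k) • (⊤ : Submodule R N) := by
  rw [← one_tmul_eq_zero_iff]
  suffices H : Function.Injective (u.lTensor (R ⧸ (I ⊔ IsLocalRing.maximalIdeal R ^ k))) by
    refine H ?_
    rw [LinearMap.lTensor_tmul, map_zero, one_tmul_eq_zero_iff]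
    exact Submodule.smul_mono_left le_sup_left hn
  clear hn
  induction k with
  | zero =>
    rw [injective_iff_map_eq_zero]
    intro z _
    obtain ⟨x, rfl⟩ := exists_one_tmul _ z
    rw [one_tmul_eq_zero_iff, pow_zero, Ideal.one_eq_top, sup_top_eq, Submodule.top_smul]
    trivial
  | succ k ih =>
    set J := I ⊔ IsLocalRing.maximalIdeal R ^ (k + 1)
    set K := I ⊔ IsLocalRing.maximalIdeal R ^ k
    have hJK : J ≤ K := sup_le_sup_left (Ideal.pow_le_pow_right k.le_succ) _
    let V : Submodule R (R ⧸ J) := Submodule.map J.mkQ K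
    let π : (R ⧸ J) →ₗ[R] R ⧸ K := Submodule.factor hJK
    have hπ : Function.Surjective π := Submodule.factor_surjective hJK
    have hex : Function.Exact V.subtype π := by
      intro q
      obtain ⟨r, rfl⟩ := Submodule.Quotient.mk_surjective J q
      constructor
      · intro hr
        have hr : r ∈ K := (Submodule.Quotient.mk_eq_zero K).1 hr
        exact ⟨⟨_, Submodule.mem_map_of_mem hr⟩, rfl⟩
      · rintro ⟨⟨_, a, ha, rfl⟩, hv⟩
        rw [← hv]
        exact (Submodule.Quotient.mk_eq_zero K).2 ha
    have hV : ∀ r ∈ IsLocalRing.maximalIdeal R, ∀ v : V, r • v = 0 := by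
      rintro r hr ⟨_, a, ha, rfl⟩
      refine Subtype.ext ?_
      refine (Submodule.Quotient.mk_smul J r a).symm.trans ((Submodule.Quotient.mk_eq_zero J).2 ?_)
      obtain ⟨i, hi, b, hb, rfl⟩ := Submodule.mem_sup.1 ha
      rw [smul_add]
      refine J.add_mem (Submodule.mem_sup_left (I.smul_mem r hi)) (Submodule.mem_sup_right ?_)
      rw [pow_succ']
      exact Ideal.mul_mem_mul hr hb
    rw [injective_iff_map_eq_zero]
    intro z hz
    have hz' : π.rTensor N z = 0 := by
      refine ih ?_
      rw [map_zero, ← LinearMap.comp_apply, LinearMap.lTensor_comp_rTensor, ← LinearMap.rTensor_comp_lTensor,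
        LinearMap.comp_apply, hz, map_zero]
    obtain ⟨v, rfl⟩ := (rTensor_exact N hex hπ z).1 hz'
    have : v = 0 := by
      refine lTensor_injective_of_killed hV u h ?_
      refine Module.Flat.rTensor_preserves_injective_linearMap V.subtype Subtype.val_injective ?_
      rw [map_zero, map_zero, ← LinearMap.comp_apply, LinearMap.rTensor_comp_lTensor,
        ← LinearMap.lTensor_comp_rTensor, LinearMap.comp_apply, hz]
    rw [this, map_zero]

open TensorProduct in
/-- For a local homomorphism of local rings R → S with S Noetherian, an R-linear map u from a finite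
S-module N to a flat R-module M whose reduction modulo the maximal ideal of R is injective is itself
injective, and its cokernel is flat over R. -/
theorem result {R S M N : Type u} [CommRing R] [CommRing S] [IsLocalRing R] [IsLocalRing S] [IsNoetherianRing S] [Algebra R S] [IsLocalHom (algebraMap R S)]
    [AddCommGroup M] [Module R M] [Module.Flat R M]
    [AddCommGroup N] [Module R N] [Module S N] [IsScalarTower R S N] [Module.Finite S N]
    (u : N →ₗ[R] M) (h : Function.Injective (LinearMap.lTensor (IsLocalRing.ResidueField R) u)) :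
    Function.Injective u ∧ Module.Flat R (M ⧸ LinearMap.range u) := by
  have hI : ∀ (I : Ideal R) (n : N), u n ∈ I • (⊤ : Submodule R M) → n ∈ I • (⊤ : Submodule R N) := by
    intro I n hn
    have hmem : ∀ J : Ideal R, ((J.map (algebraMap R S)) • (⊤ : Submodule S N)).restrictScalars R =
        J • (⊤ : Submodule R N) := fun J => Ideal.smul_restrictScalars J ⊤
    rw [← hmem, Submodule.restrictScalars_mem, ← Submodule.Quotient.mk_eq_zero]
    rw [← Submodule.mem_bot S, ← Ideal.iInf_pow_smul_eq_bot_of_isLocalRing
      (M := N ⧸ (I.map (algebraMap R S)) • (⊤ : Submodule S N)) (IsLocalRing.maximalIdeal S)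
      (IsLocalRing.maximalIdeal.isMaximal S).ne_top, Submodule.mem_iInf]
    intro k
    have := injective_mod_pow u h I k n hn
    rw [← hmem, Submodule.restrictScalars_mem, Ideal.map_sup, Ideal.map_pow, Submodule.sup_smul] at this
    obtain ⟨a, ha, b, hb, rfl⟩ := Submodule.mem_sup.1 this
    rw [Submodule.Quotient.mk_add, (Submodule.Quotient.mk_eq_zero _).2 ha, zero_add]
    have hle := Submodule.map_mono (f := ((I.map (algebraMap R S)) • (⊤ : Submodule S N)).mkQ)
      (Submodule.smul_mono_left (Ideal.pow_right_mono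
        (((IsLocalRing.local_hom_TFAE (algebraMap R S)).out 0 2).1 ‹IsLocalHom (algebraMap R S)›) k)
        (N := (⊤ : Submodule S N))) (Submodule.mem_map_of_mem hb)
    rw [Submodule.map_smul'', Submodule.map_top, Submodule.range_mkQ] at hle
    exact hle
  have hu : Function.Injective u := by
    rw [injective_iff_map_eq_zero]
    intro n hn
    simpa using hI ⊥ n (by simp [hn])
  refine ⟨hu, ?_⟩
  rw [Module.Flat.iff_lTensor_injective']
  intro I
  rw [injective_iff_map_eq_zero]
  intro z hz
  have hinj : ∀ w : (M ⧸ LinearMap.range u) ⊗[R] I, LinearMap.lTensor (M ⧸ LinearMap.range u) I.subtype w = 0 → w = 0 := by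
    intro w hw
    obtain ⟨x, rfl⟩ := LinearMap.rTensor_surjective I (Submodule.mkQ_surjective (LinearMap.range u)) w
    let fM : M ⊗[R] I →ₗ[R] M := (TensorProduct.rid R M).toLinearMap ∘ₗ I.subtype.lTensor M
    have hfM : Function.Injective fM :=
      (TensorProduct.rid R M).injective.comp (Module.Flat.lTensor_preserves_injective_linearMap _ Subtype.val_injective)
    let fN : N ⊗[R] I →ₗ[R] N := (TensorProduct.rid R N).toLinearMap ∘ₗ I.subtype.lTensor N
    have hnat : u ∘ₗ fN = fM ∘ₗ u.rTensor I := by
      ext a b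
      simp [fM, fN]
    have hrange : LinearMap.range fN = I • (⊤ : Submodule R N) := by
      apply le_antisymm
      · rintro _ ⟨t, rfl⟩
        induction t with
        | zero => simp
        | tmul a b => simpa [fN] using Submodule.smul_mem_smul b.2 (Submodule.mem_top (x := a))
        | add a b ha hb => rw [map_add]; exact add_mem ha hb
      · rw [Submodule.smul_le]
        intro r hr a _
        exact ⟨a ⊗ₜ ⟨r, hr⟩, by simp [fN]⟩
    have hIM : fM x ∈ I • (⊤ : Submodule R M) := by
      clear hw
      induction x with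
      | zero => simp
      | tmul a b => simpa [fM] using Submodule.smul_mem_smul b.2 (Submodule.mem_top (x := a))
      | add a b ha hb => 
        rw [map_add]
        exact add_mem ha hb
    have h0 : (LinearMap.range u).mkQ (fM x) = 0 := by
      have e : (LinearMap.range u).mkQ ∘ₗ fM = (TensorProduct.rid R (M ⧸ LinearMap.range u)).toLinearMap ∘ₗ
          I.subtype.lTensor _ ∘ₗ (LinearMap.range u).mkQ.rTensor I := by
        ext a b
        simp [fM]
      rw [← LinearMap.comp_apply, e, LinearMap.comp_apply, LinearMap.comp_apply, hw, map_zero]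
    obtain ⟨n, hn⟩ : fM x ∈ LinearMap.range u := (Submodule.Quotient.mk_eq_zero _).1 h0
    obtain ⟨y, hy⟩ : n ∈ LinearMap.range fN := hrange ▸ hI I n (hn ▸ hIM)
    have hx : x = u.rTensor I y := hfM (by rw [← hn, ← hy, ← LinearMap.comp_apply, hnat, LinearMap.comp_apply])
    rw [hx, ← LinearMap.rTensor_comp_apply, LinearMap.range_mkQ_comp, LinearMap.rTensor_zero, LinearMap.zero_apply]
  exact hinj z hz

end Groth.Agent.S0393
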