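import Groth.Statements.S5132
import Mathlib.AlgebraicGeometry.Morphisms.UnderlyingMap
import Mathlib.AlgebraicGeometry.Morphisms.QuasiCompact
import Mathlib.AlgebraicGeometry.PullbackCarrier

set_option autoImplicit false
open CategoryTheory AlgebraicGeometry
universe u
open SGA1

namespace Groth.Agent.S5132

/-- Quasi-compactness of a morphism descends along a surjective and quasi-compact base change; flatness
of the base change is not needed for this property. -/
theorem result :
    MorphismProperty.DescendsAlong @QuasiCompact (@Surjective ⊓ @QuasiCompact : MorphismProperty Scheme.{u}) := by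
  apply MorphismProperty.DescendsAlong.mk'
  intro X Y Z f g _ hf hfst
  obtain ⟨hf1, hf2⟩ := hf
  haveI := hf1
  haveI := hf2
  haveI := hfst
  refine ⟨fun U hU hUc => ?_⟩
  have hV : IsCompact (f ⁻¹' U) := QuasiCompact.isCompact_preimage (f := f) U hU hUc
  have hW : IsCompact (Limits.pullback.fst f g ⁻¹' (f ⁻¹' U)) :=
    QuasiCompact.isCompact_preimage (f := Limits.pullback.fst f g) _ (hU.preimage f.continuous) hV
  have him := hW.image (Limits.pullback.snd f g).continuous
  convert him using 1
  ext y
  constructor
  · intro hy
    obtain ⟨x, hx⟩ := f.surjective (g y)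
    obtain ⟨z, hz₁, hz₂⟩ := Scheme.Pullback.exists_preimage_pullback x y hx
    exact ⟨z, by show f (Limits.pullback.fst f g z) ∈ U; rw [hz₁, hx]; exact hy, hz₂⟩
  · rintro ⟨z, hz, rfl⟩
    have e : f (Limits.pullback.fst f g z) = g (Limits.pullback.snd f g z) :=
      congr(($(Limits.pullback.condition (f := f) (g := g))).base z)
    show g (Limits.pullback.snd f g z) ∈ U
    rw [← e]
    exact hz

end Groth.Agent.S5132
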