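import Groth.Statements.S5128
import Groth.Agent.Pi1X.FEtFull
import Mathlib.AlgebraicGeometry.Morphisms.FlatMono
import Mathlib.AlgebraicGeometry.Morphisms.Etale

set_option autoImplicit false
universe u
open SGA1

namespace Groth.Agent.S5128

open AlgebraicGeometry CategoryTheory CategoryTheory.Limits in
/-- Let X and Y be S-schemes with Y etale over S. The map f ↦ Γ_f sending an S-morphism f : X ⟶ Y to the
subset of X ×_S Y underlying its graph is a bijection from Hom_S(X, Y) onto the set of open subsets
Γ of X ×_S Y for which the restriction Γ → X of the first projection is radicial (universally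
injective) and surjective. Stated as: the graph of every S-morphism is an open immersion, and every
such open Γ is the image of the graph of exactly one S-morphism. -/
theorem result {S X Y : Scheme.{u}} (p : X ⟶ S)
    (q : Y ⟶ S) [Etale q] :
    (∀ f : {f : X ⟶ Y // f ≫ q = p},
      IsOpenImmersion (pullback.lift (𝟙 X) f.1 ((Category.id_comp p).trans f.2.symm) : X ⟶ pullback p q)) ∧
    ∀ Γ : (pullback p q).Opens, UniversallyInjective (Γ.ι ≫ pullback.fst p q) → Surjective (Γ.ι ≫ pullback.fst p q) →
      ∃! f : {f : X ⟶ Y // f ≫ q = p},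
        Set.range (pullback.lift (𝟙 X) f.1 ((Category.id_comp p).trans f.2.symm) : X ⟶ pullback p q).base =
          (Γ : Set ↥(pullback p q)) := by
  have hg : ∀ f : {f : X ⟶ Y // f ≫ q = p},
      IsOpenImmersion (pullback.lift (𝟙 X) f.1 ((Category.id_comp p).trans f.2.symm) : X ⟶ pullback p q) := by
    intro f
    set γ : X ⟶ pullback p q := pullback.lift (𝟙 X) f.1 ((Category.id_comp p).trans f.2.symm)
    haveI : Etale γ := MorphismProperty.of_postcomp (W := @Etale) (W' := @Etale) γ
      (pullback.fst p q) inferInstance (by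
        rw [show γ ≫ pullback.fst p q = 𝟙 X from pullback.lift_fst _ _ _]
        infer_instance)
    haveI : Mono γ := mono_of_mono_fac (pullback.lift_fst _ _ _)
    exact IsOpenImmersion.of_flat_of_mono γ
  refine ⟨hg, fun Γ hU hS => ?_⟩
  haveI := hU
  haveI := hS
  haveI : IsOpenImmersion (Γ.ι ≫ pullback.fst p q) :=
    Groth.Agent.Pi1X.isOpenImmersion_of_etale_universallyInjective _
  haveI : IsIso (Γ.ι ≫ pullback.fst p q) :=
    (isIso_iff_isOpenImmersion_and_surjective _).2 ⟨inferInstance, inferInstance⟩
  let f₀ : X ⟶ Y := inv (Γ.ι ≫ pullback.fst p q) ≫ Γ.ι ≫ pullback.snd p q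
  have hf₀ : f₀ ≫ q = p := by
    rw [Category.assoc, Category.assoc, ← pullback.condition, ← Category.assoc Γ.ι,
      IsIso.inv_hom_id_assoc]
  have hgr : (pullback.lift (𝟙 X) f₀ ((Category.id_comp p).trans hf₀.symm) : X ⟶ pullback p q) =
      inv (Γ.ι ≫ pullback.fst p q) ≫ Γ.ι := by
    apply pullback.hom_ext
    · rw [pullback.lift_fst, Category.assoc, IsIso.inv_hom_id]
    · rw [pullback.lift_snd, Category.assoc]
  refine ⟨⟨f₀, hf₀⟩, ?_, ?_⟩
  · show Set.range _ = _
    rw [hgr, Scheme.Hom.comp_base, TopCat.coe_comp, Set.range_comp,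
      Set.range_eq_univ.2 (inv (Γ.ι ≫ pullback.fst p q)).surjective, Set.image_univ,
      Scheme.Opens.range_ι]
  · rintro ⟨f, hf⟩ hrange
    haveI := hg ⟨f, hf⟩
    set γ : X ⟶ pullback p q := pullback.lift (𝟙 X) f ((Category.id_comp p).trans hf.symm) with hγ
    let t : X ⟶ Γ.toScheme := IsOpenImmersion.lift Γ.ι γ (by
      rw [Scheme.Opens.range_ι]
      exact hrange.le)
    have ht : t ≫ Γ.ι = γ := IsOpenImmersion.lift_fac _ _ _
    have ht' : t = inv (Γ.ι ≫ pullback.fst p q) := by
      rw [← cancel_mono (Γ.ι ≫ pullback.fst p q), IsIso.inv_hom_id, reassoc_of% ht]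
      exact pullback.lift_fst _ _ _
    apply Subtype.ext
    show f = f₀
    have : γ ≫ pullback.snd p q = f := pullback.lift_snd _ _ _
    rw [← this, ← ht, Category.assoc, ht']

end Groth.Agent.S5128
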