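import Groth.Statements.S5123
import Groth.Agent.DescLib.EtRep
-- import your own Groth.Agent.* helpers here

set_option autoImplicit false
set_option backward.isDefEq.respectTransparency false
set_option backward.isDefEq.respectTransparency.types false
set_option linter.style.haveILetI false
universe u
open SGA1

open CategoryTheory CategoryTheory.Limits AlgebraicGeometry


namespace Groth.Agent.S5123

open AlgebraicGeometry CategoryTheory CategoryTheory.Limits in
/-- Let g : S' ⟶ S be universally submersive, D a descent datum relative to g (functor-of-points form,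
for the one-member family g) whose underlying S'-scheme is etale over S', and (S_i)_{i ∈ ι} a cover
of S by open subschemes. Then D is effective in the fibred category of etale schemes (isomorphic to
the canonical datum of some etale S-scheme) if and only if for every i the descent datum obtained by
base change along S_i ⟶ S, relative to S' ×_S S_i ⟶ S_i, is the canonical datum of some etale
S_i-scheme. -/
theorem result {S S' : Scheme.{u}} (g : S' ⟶ S) (hg : SGA1.UnivSubmersive g)
    (D : Desc.SchDDFam (fun _ : PUnit.{1} => g)) [Etale (D.obj PUnit.unit).hom]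
    {ι : Type u} (V : ι → S.Opens) (hV : ⨆ i, V i = ⊤) :
    (∃ U : Over S, Etale U.hom ∧ Nonempty ((Desc.toDDFam (fun _ : PUnit.{1} => g)).obj U ≅ D)) ↔
      ∀ i : ι, (∃ U : Over (V i : Scheme.{u}), Etale U.hom ∧
        Nonempty ((Desc.toDDFam (fun _ : PUnit.{1} => pullback.snd g (V i).ι)).obj U ≅
          (Desc.pullDDFam (f := fun _ : PUnit.{1} => g) (f' := fun _ : PUnit.{1} => pullback.snd g (V i).ι)
        (α := id) (p := (V i).ι) (p' := fun _ => pullback.fst g (V i).ι) (fun _ => pullback.condition)).obj D)) := by
  constructor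
  · rintro ⟨U, hU, ⟨I⟩⟩ i
    obtain ⟨e⟩ := DescLib.iso_of_repBy ((DescLib.repBy_pullOne_iff (V i).ι).2
      (DescLib.repOnBy_of_repBy (DescLib.repBy_of_iso_etale hg I) (V i).ι))
    exact ⟨Over.mk (pullback.snd U.hom (V i).ι), MorphismProperty.pullback_snd _ _ hU, ⟨e⟩⟩
  · intro h
    choose U hU hI using h
    have hg' : ∀ i, SGA1.UnivSubmersive (pullback.snd g (V i).ι) := fun i =>
      MorphismProperty.pullback_snd (P := MorphismProperty.universally _) _ _ hg
    have hR : ∀ i, DescLib.RepOnBy D (V i).ι (U i) := fun i => by
      haveI := hU i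
      exact (DescLib.repBy_pullOne_iff (V i).ι).1 (DescLib.repBy_of_iso_etale (hg' i) (hI i).some)
    obtain ⟨W, c₀, hu⟩ := DescLib.rep_of_local D V
      (fun x => TopologicalSpace.Opens.mem_iSup.1 (hV.ge (TopologicalSpace.Opens.mem_top x))) fun i => ⟨U i, hR i⟩
    have hW : DescLib.RepBy D W := ⟨c₀, hu⟩
    refine ⟨W, IsZariskiLocalAtTarget.of_iSup_eq_top (P := @Etale) V hV fun i => ?_, DescLib.iso_of_repBy hW⟩
    have h1 : Etale (pullback.snd W.hom (V i).ι) :=
      DescLib.prop_of_repOnBy_iso (P := @Etale) (hR i) (DescLib.repOnBy_of_repBy hW (V i).ι) (hU i)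
    rw [← (isPullback_morphismRestrict W.hom (V i)).flip.isoPullback_hom_snd]
    exact (MorphismProperty.cancel_left_of_respectsIso @Etale _ _).2 h1

end Groth.Agent.S5123
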