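import Groth.Statements.S5125
import Groth.Agent.DescLib.EtStalk
import Groth.Agent.S5123
-- import your own Groth.Agent.* helpers here

set_option autoImplicit false
set_option backward.isDefEq.respectTransparency false
set_option backward.isDefEq.respectTransparency.types false
set_option linter.style.haveILetI false
universe u
open SGA1

open CategoryTheory CategoryTheory.Limits AlgebraicGeometry


namespace Groth.Agent.S5125

open AlgebraicGeometry CategoryTheory CategoryTheory.Limits in
/-- Let g : S' ⟶ S be universally submersive and of finite presentation, and D a descent datum relative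
to g (functor-of-points form, for the one-member family g) whose underlying S'-scheme is etale and
of finite presentation (quasi-compact and quasi-separated) over S'. Then D is the canonical datum of
some etale S-scheme if and only if for every point a of S the descent datum induced over Spec
O_{S,a} is the canonical datum of some etale scheme over Spec O_{S,a}. -/
theorem result {S S' : Scheme.{u}} (g : S' ⟶ S) (hg : SGA1.UnivSubmersive g)
    [LocallyOfFinitePresentation g] [QuasiCompact g] [QuasiSeparated g]
    (D : Desc.SchDDFam (fun _ : PUnit.{1} => g)) [Etale (D.obj PUnit.unit).hom]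
    [QuasiCompact (D.obj PUnit.unit).hom] [QuasiSeparated (D.obj PUnit.unit).hom] :
    (∃ U : Over S, Etale U.hom ∧ Nonempty ((Desc.toDDFam (fun _ : PUnit.{1} => g)).obj U ≅ D)) ↔
      ∀ a : S, (∃ U : Over (Spec (S.presheaf.stalk a)), Etale U.hom ∧
        Nonempty ((Desc.toDDFam (fun _ : PUnit.{1} => pullback.snd g (S.fromSpecStalk a))).obj U ≅
          (Desc.pullDDFam (f := fun _ : PUnit.{1} => g) (f' := fun _ : PUnit.{1} => pullback.snd g (S.fromSpecStalk a))
        (α := id) (p := (S.fromSpecStalk a)) (p' := fun _ => pullback.fst g (S.fromSpecStalk a)) (fun _ => pullback.condition)).obj D)) := by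
  constructor
  · rintro ⟨U, hU, ⟨I⟩⟩ a
    obtain ⟨e⟩ := DescLib.iso_of_repBy ((DescLib.repBy_pullOne_iff (S.fromSpecStalk a)).2
      (DescLib.repOnBy_of_repBy (DescLib.repBy_of_iso_etale hg I) (S.fromSpecStalk a)))
    exact ⟨Over.mk (pullback.snd U.hom (S.fromSpecStalk a)), MorphismProperty.pullback_snd _ _ hU, ⟨e⟩⟩
  · intro h
    choose W haW hW using fun a => DescLib.exists_nhd_etEff hg a (h a)
    exact (S5123.result g hg D W
      (top_le_iff.1 fun x _ => TopologicalSpace.Opens.mem_iSup.2 ⟨x, haW x⟩)).2 hW

end Groth.Agent.S5125
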