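import Groth.Statements.S1454
import Groth.Agent.UnivOpen.Conditions
import Groth.Agent.FibDim.AffineSpaceFibre

set_option autoImplicit false
universe u
open FlatMor

namespace Groth.Agent.S1454

open AlgebraicGeometry CategoryTheory Limits in
/-- Consider a locally quasi-finite f : X → Y whose target is locally Noetherian with geometrically
unibranch local rings, and assume every irreducible component of X dominates an irreducible
component of Y (its generic point maps to a generic point of an irreducible component of Y). Then f
is universally open. -/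
theorem result {X Y : Scheme.{u}} (f : X ⟶ Y) [LocallyQuasiFinite f] [LocallyOfFiniteType f] [IsLocallyNoetherian Y]
    (hY : ∀ y : Y, CAlg2.IsGeomUnibranch (Y.presheaf.stalk y))
    (hdom : ∀ Z ∈ irreducibleComponents ↑X, ∀ x : X, IsGenericPoint x Z → ∃ W ∈ irreducibleComponents ↑Y, IsGenericPoint (f x) W) :
    UniversallyOpen f := by
  refine (Groth.Agent.UnivOpen.universallyOpen_iff_forall f).2 fun x => ?_
  refine Groth.Agent.UnivOpen.isUnivOpenAt_fibre f (fun z hz hzm => ?_) x rfl
  obtain ⟨η, hη, hmax⟩ := Groth.Agent.FibDim.exists_maximal_generization z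
  obtain ⟨W, hW, hfη⟩ := hdom _ (Groth.Agent.FDescent.closure_mem_irreducibleComponents hmax) η rfl
  refine Groth.Agent.UnivOpen.isUnivOpenAt_of_witness f (hY _) hzm hη hmax (fun b hb => ?_)
    (by rw [Groth.Agent.FibDim.rd_eq_zero_of_quasiFinite, Groth.Agent.FibDim.rd_eq_zero_of_quasiFinite])
  have h1 : W ⊆ closure {b} := by
    rw [← hfη.def]
    exact closure_minimal (Set.singleton_subset_iff.mpr (specializes_iff_mem_closure.mp hb)) isClosed_closure
  have h2 : closure {b} = W := Set.Subset.antisymm (hW.2 isIrreducible_singleton.closure h1) h1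
  exact IsGenericPoint.eq (h2 : IsGenericPoint b W) hfη

end Groth.Agent.S1454
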