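import Groth.Statements.S14766
import Groth.Agent.DescLib.SubtrVal
import Mathlib.RingTheory.DiscreteValuationRing.TFAE

set_option autoImplicit false
set_option backward.isDefEq.respectTransparency false
set_option backward.isDefEq.respectTransparency.types false
universe u
open CategoryTheory CategoryTheory.Limits AlgebraicGeometry
open Subtr

namespace Groth.Agent.S14766

/-- Let V be a discrete valuation ring and f : X ⟶ Spec V any morphism of schemes. Then the underlying
continuous map of f is a quotient map (f is submersive) if and only if every ordered pair of points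
of Spec V lifts to an ordered pair of points of X. -/
theorem result (V : Type u) [CommRing V] [IsDomain V]
    [IsDiscreteValuationRing V] {X : Scheme.{u}} (f : X ⟶ Spec (CommRingCat.of V)) :
    Topology.IsQuotientMap f ↔ Subtr.IsSSubtrusive f := by
  have hη : ∀ y : Spec (CommRingCat.of V), y = Groth.Agent.DescLib.etaPt V ∨ y = IsLocalRing.closedPoint V := by
    intro (y : PrimeSpectrum V)
    by_cases hb : y.asIdeal = ⊥
    · exact Or.inl (PrimeSpectrum.ext hb)
    · exact Or.inr (PrimeSpectrum.ext (IsLocalRing.eq_maximalIdeal (y.isPrime.isMaximal hb)))
  rw [Topology.isQuotientMap_iff, Topology.isCoinducing_iff]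
  constructor
  · rintro ⟨hq, hs⟩
    refine ((Groth.Agent.DescLib.tfae_over_valuationRing f).out 1 2 rfl rfl).2 fun y => ?_
    rcases hη y with rfl | rfl
    · obtain ⟨x, hx⟩ := hs (Groth.Agent.DescLib.etaPt V)
      exact ⟨x, subset_closure hx, hx⟩
    · by_contra hcon
      push Not at hcon
      have hcl : IsClosed (f ⁻¹' {Groth.Agent.DescLib.etaPt V}) := by
        refine isClosed_of_closure_subset fun x hx => ?_
        rcases hη (f x) with e | e
        · exact e
        · exact absurd e (hcon x hx)
      have hop : IsOpen ({Groth.Agent.DescLib.etaPt V}ᶜ : Set (Spec (CommRingCat.of V))) :=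
        (hq _).1 hcl.isOpen_compl
      have := (Groth.Agent.DescLib.eta_specializes (IsLocalRing.closedPoint V)).mem_closed
        (isOpen_compl_iff.1 hop) rfl
      exact (IsDiscreteValuationRing.not_isField V) (IsLocalRing.isField_iff_maximalIdeal_eq.2
        (congrArg PrimeSpectrum.asIdeal (Set.mem_singleton_iff.1 this)))
  · intro h
    have hs : Function.Surjective f := fun y => by
      obtain ⟨x, -, -, e, -⟩ := h (specializes_refl y)
      exact ⟨x, e⟩
    refine ⟨fun s => ⟨fun hso => ?_, fun hso => hso.preimage f.continuous⟩, hs⟩
    by_cases hm : IsLocalRing.closedPoint V ∈ s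
    · obtain ⟨x, x', hx, e, e'⟩ := h (Groth.Agent.DescLib.eta_specializes (IsLocalRing.closedPoint V))
      have hx' : x' ∈ f ⁻¹' s := hx.mem_open hso (show f x ∈ s by rw [e]; exact hm)
      have : s = Set.univ := Set.eq_univ_of_forall fun y => by
        rcases hη y with rfl | rfl
        · have := hx'
          rwa [Set.mem_preimage, e'] at this
        · exact hm
      rw [this]
      exact isOpen_univ
    · have hle : s ⊆ {IsLocalRing.closedPoint V}ᶜ := fun y hy he => hm (Set.mem_singleton_iff.1 he ▸ hy)
      by_cases he : Groth.Agent.DescLib.etaPt V ∈ s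
      · have : s = {IsLocalRing.closedPoint V}ᶜ := subset_antisymm hle fun y hy => by
          rcases hη y with rfl | rfl
          · exact he
          · exact absurd rfl hy
        rw [this, isOpen_compl_iff]
        exact (PrimeSpectrum.isClosed_singleton_iff_isMaximal _).2 (IsLocalRing.maximalIdeal.isMaximal V)
      · have : s = ∅ := Set.eq_empty_of_forall_notMem fun y hy => by
          rcases hη y with rfl | rfl
          · exact he hy
          · exact hm hy
        rw [this]
        exact isOpen_empty

end Groth.Agent.S14766
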