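import Groth.Statements.S14771
import Groth.Agent.DescLib.SubtrSubm
import Groth.Agent.HTopCov.DVR
import Groth.Agent.S4450
import Mathlib.RingTheory.PowerSeries.Inverse

set_option autoImplicit false
set_option backward.isDefEq.respectTransparency false
set_option backward.isDefEq.respectTransparency.types false
universe u
open CategoryTheory CategoryTheory.Limits AlgebraicGeometry
open Subtr

namespace Groth.Agent.S14771

/-- Let Y be locally Noetherian and f : X ⟶ Y quasi-compact and locally of finite type. The following
are equivalent: (i) f is universally submersive; (ii) every base change of f has the lifting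
property for ordered pairs of points; (iii) for every discrete valuation ring D and morphism g :
Spec D ⟶ Y there are a discrete valuation ring D', a morphism a : Spec D' ⟶ X and a surjective
morphism b : Spec D' ⟶ Spec D with a ≫ f = b ≫ g. (The published statement assumes f only locally of
finite type. Quasi-compactness cannot be dropped: over the local ring of a regular surface at a
closed point s, the disjoint union of the punctured surface, a regular curve C through s and, for
every n ≥ 1, the n-fold blow-up along successive points of the strict transform of C with the n-th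
such point removed, satisfies (iii) with D' = D, while (ii) fails at a valuation ring of rank two
whose centres are exactly the removed points; the limit argument behind the published proof uses
quasi-compactness of the fibres.) -/
theorem result {X Y : Scheme.{u}} [IsLocallyNoetherian Y]
    (f : X ⟶ Y) [LocallyOfFiniteType f] [QuasiCompact f] :
    List.TFAE [
      SGA1.UnivSubmersive f,
      Subtr.UnivSSubtrusive f,
      ∀ (D : Type u) [CommRing D] [IsDomain D] [IsDiscreteValuationRing D] (g : Spec (CommRingCat.of D) ⟶ Y),
        ∃ (D' : Type u) (_ : CommRing D') (_ : IsDomain D') (_ : IsDiscreteValuationRing D')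
          (a : Spec (CommRingCat.of D') ⟶ X) (b : Spec (CommRingCat.of D') ⟶ Spec (CommRingCat.of D)),
          Surjective b ∧ a ≫ f = b ≫ g] := by
  open IsLocalRing Groth.Agent.DescLib in
  tfae_have 2 → 1 := univSubmersive_of_univSSubtrusive f
  open IsLocalRing Groth.Agent.DescLib in
  tfae_have 1 → 3 := fun h D _ _ _ g => by
    let R : CommRingCat.{u} := CommRingCat.of D
    haveI : IsLocallyNoetherian (pullback f g) :=
      LocallyOfFiniteType.isLocallyNoetherian (pullback.snd f g)
    obtain ⟨q, p, hqp, hq, hp⟩ := Groth.Agent.HTopCov.exists_specializes_of_isQuotientMap (R := R) (pullback.snd f g)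
      (h _ _ _ (IsPullback.of_hasPullback f g).flip)
    have hne : p ≠ q := fun e => IsDiscreteValuationRing.not_a_field D
      (congrArg PrimeSpectrum.asIdeal ((hq.symm.trans ((congrArg _ e).symm.trans hp)))).symm
    obtain ⟨A, a, hA, hac, hag⟩ := Groth.Agent.S4450.result (𝟙 (pullback f g)) q p hqp hne
    have haη : a (etaPt A) = q := by
      have e' : (Spec.map (CommRingCat.ofHom A.subtype)) (⊥ : PrimeSpectrum ((pullback f g).residueField q)) = etaPt A :=
        PrimeSpectrum.ext ((RingHom.injective_iff_ker_eq_bot A.subtype).mp Subtype.val_injective)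
      rw [← e', ← Scheme.Hom.comp_apply, hag, Category.comp_id]
      exact Scheme.fromSpecResidueField_apply _ _
    refine ⟨A, inferInstance, inferInstance, hA, a ≫ pullback.fst f g, a ≫ pullback.snd f g, ⟨fun z => ?_⟩,
      by rw [Category.assoc, Category.assoc, pullback.condition]⟩
    by_cases hz : (z : PrimeSpectrum D).asIdeal = ⊥
    · exact ⟨etaPt A, by rw [Scheme.Hom.comp_apply, haη, hq]; exact (PrimeSpectrum.ext hz).symm⟩
    · refine ⟨closedPoint A, ?_⟩
      rw [Scheme.Hom.comp_apply, hac, hp]
      exact (PrimeSpectrum.ext (IsLocalRing.eq_maximalIdeal ((z : PrimeSpectrum D).isPrime.isMaximal hz))).symm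
  open IsLocalRing Groth.Agent.DescLib in
  tfae_have 3 → 2 := fun h => univSSubtrusive_of_fg f fun U hU C _ _ _ _ p => by
    haveI : IsNoetherianRing Γ(Y, U) := IsLocallyNoetherian.component_noetherian ⟨U, hU⟩
    haveI : IsNoetherianRing C := Algebra.FiniteType.isNoetherianRing Γ(Y, U) C
    let t := Spec.map (CommRingCat.ofHom (algebraMap Γ(Y, U) C)) ≫ hU.fromSpec
    change ∃ x x' : ↑(pullback f t), _
    have key : ∀ (D : Type u) [CommRing D] [IsDomain D] [IsDiscreteValuationRing D] (ψ : C →+* D),
        Function.Injective ψ → ∃ x x' : ↑(pullback f t), x' ⤳ x ∧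
          pullback.snd f t x = PrimeSpectrum.comap ψ (closedPoint D) ∧ pullback.snd f t x' = etaPt C := by
      intro D _ _ _ ψ hψ
      obtain ⟨D', _, _, _, a, b, hb, e⟩ := h D (Spec.map (CommRingCat.ofHom ψ) ≫ t)
      have hbη : b (etaPt D') = etaPt D := by
        obtain ⟨z, hz⟩ := hb.surj (etaPt D)
        exact eq_eta (hz ▸ (eta_specializes z).map b.continuous)
      have hbc : b (closedPoint D') = closedPoint D := by
        obtain ⟨z, hz⟩ := hb.surj (closedPoint D)
        have h1 : closedPoint D ⤳ b (closedPoint D') :=
          hz ▸ (IsLocalRing.specializes_closedPoint (R := D') z).map b.continuous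
        exact ((IsLocalRing.specializes_closedPoint (R := D) (b (closedPoint D'))).antisymm h1).eq
      let m := pullback.lift (f := f) (g := t) a (b ≫ Spec.map (CommRingCat.ofHom ψ)) (by rw [Category.assoc, e])
      refine ⟨m (closedPoint D'), m (etaPt D'), (eta_specializes _).map m.continuous, ?_, ?_⟩
      · rw [← Scheme.Hom.comp_apply, pullback.lift_snd, Scheme.Hom.comp_apply, hbc]
        rfl
      · rw [← Scheme.Hom.comp_apply, pullback.lift_snd, Scheme.Hom.comp_apply, hbη]
        exact PrimeSpectrum.ext ((RingHom.injective_iff_ker_eq_bot ψ).mp hψ)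
    by_cases hp : (p : PrimeSpectrum C).asIdeal = ⊥
    · obtain ⟨x, x', hx, -, e'⟩ := key (PowerSeries (FractionRing C))
        ((PowerSeries.C (R := FractionRing C)).comp (algebraMap C (FractionRing C)))
        (PowerSeries.C_injective.comp (IsFractionRing.injective C (FractionRing C)))
      exact ⟨x', x', specializes_rfl, e'.trans (PrimeSpectrum.ext hp.symm), e'⟩
    obtain ⟨D, hD, hDp⟩ := Groth.Agent.Rat20Lib.exists_dvr_centre (K := FractionRing C) (p : PrimeSpectrum C).asIdeal hp
    let ψ : C →+* D := (algebraMap C (FractionRing C)).codRestrict D fun a => (hDp a).1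
    obtain ⟨x, x', hx, e, e'⟩ := key D ψ fun a b hab => IsFractionRing.injective C (FractionRing C) (congrArg Subtype.val hab)
    refine ⟨x, x', hx, e.trans (PrimeSpectrum.ext (Ideal.ext fun a => ?_)), e'⟩
    show ψ a ∈ maximalIdeal D ↔ _
    rw [IsLocalRing.mem_maximalIdeal, mem_nonunits_iff, ← (hDp a).2, ValuationSubring.mem_nonunits_iff_exists_mem_maximalIdeal]
    exact ⟨fun h => ⟨(hDp a).1, (IsLocalRing.mem_maximalIdeal _).2 h⟩,
      fun ⟨_, h⟩ => (IsLocalRing.mem_maximalIdeal _).1 h⟩
  tfae_finish

end Groth.Agent.S14771
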