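import Groth.Statements.S9350
import Groth.Agent.KFlatLib.Scheme.Pullback
import Groth.Agent.QCoh.FlatOver
import Mathlib.RingTheory.Flat.FaithfullyFlat.Algebra

set_option autoImplicit false
universe u
open FlatMod

namespace Groth.Agent.S9350
open AlgebraicGeometry CategoryTheory TensorProduct

theorem flat_iff_of_faithfullyFlat (C A B M : Type u) [CommRing C] [CommRing A] [CommRing B]
    [Algebra C A] [Algebra A B] [Algebra C B] [IsScalarTower C A B] [Module.FaithfullyFlat A B]
    [AddCommGroup M] [Module A M] [Module C M] [IsScalarTower C A M] :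
    Module.Flat C M ↔ Module.Flat C (B ⊗[A] M) := by
  rw [Module.Flat.iff_lTensor_injective', Module.Flat.iff_lTensor_injective']
  refine forall_congr' fun I => ?_
  let g : M ⊗[C] I →ₗ[A] M ⊗[C] C := AlgebraTensorModule.lTensor A M I.subtype
  let e₁ := AlgebraTensorModule.assoc C A B B M I
  let e₂ := AlgebraTensorModule.assoc C A B B M C
  have h : ∀ z, g.lTensor B (e₁ z) = e₂ (I.subtype.lTensor (B ⊗[A] M) z) := by
    intro z
    induction z using TensorProduct.induction_on with
    | zero => simp
    | add x y hx hy => simp only [map_add, hx, hy]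
    | tmul w i =>
      induction w using TensorProduct.induction_on with
      | zero => simp
      | add x y hx hy => simp only [add_tmul, map_add, hx, hy]
      | tmul b m => simp [e₁, e₂, g]
  rw [show (I.subtype.lTensor M : M ⊗[C] I → M ⊗[C] C) = g from rfl,
    ← Module.FaithfullyFlat.lTensor_injective_iff_injective A B g]
  constructor
  · intro hi x y hxy
    exact e₁.injective (hi (by rw [h, h, hxy]))
  · intro hi x y hxy
    obtain ⟨x, rfl⟩ := e₁.surjective x
    obtain ⟨y, rfl⟩ := e₁.surjective y
    rw [h, h] at hxy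
    exact congrArg e₁ (hi (e₂.injective hxy))

theorem flatOverAt_pullback_iff {X Y S : Scheme.{u}} (h : X ⟶ Y) (q : Y ⟶ S)
    (G : Y.Modules) (x : X) (hflat : (h.stalkMap x).hom.Flat) :
    FlatMod.IsFlatOverAt q G (h.base x) ↔
      FlatMod.IsFlatOverAt (h ≫ q) ((Scheme.Modules.pullback h).obj G) x := by
  let A := Y.presheaf.stalk (h.base x)
  let B := X.presheaf.stalk x
  let C := S.presheaf.stalk (q.base (h.base x))
  letI : Algebra A B := (h.stalkMap x).hom.toAlgebra
  letI : Algebra C A := (q.stalkMap (h.base x)).hom.toAlgebra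
  letI : Algebra C B := ((h ≫ q).stalkMap x).hom.toAlgebra
  haveI : IsScalarTower C A B := IsScalarTower.of_algebraMap_eq' (by
    show ((h ≫ q).stalkMap x).hom = _
    rw [Scheme.Hom.stalkMap_comp]
    rfl)
  haveI : Module.Flat A B := hflat
  haveI : IsLocalHom (algebraMap A B) := inferInstanceAs (IsLocalHom (h.stalkMap x).hom)
  haveI : Module.FaithfullyFlat A B := Module.FaithfullyFlat.of_flat_of_isLocalHom
  letI := FlatMod.moduleStalkOver q G (h.base x)
  haveI : IsScalarTower C A (G.presheaf.stalk (h.base x)) := IsScalarTower.of_algebraMap_smul fun _ _ => rfl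
  let P := (Scheme.Modules.pullback h).obj G
  letI : Module C (P.presheaf.stalk x) := FlatMod.moduleStalkOver (h ≫ q) P x
  haveI : IsScalarTower C B (P.presheaf.stalk x) := IsScalarTower.of_algebraMap_smul fun _ _ => rfl
  let i : P.presheaf.stalk x ≃ₗ[B] B ⊗[A] G.presheaf.stalk (h.base x) :=
    ((Groth.Agent.KFlatLib.stalkPullbackIso h x).app G).toLinearEquiv
  let i' : P.presheaf.stalk x ≃ₗ[C] B ⊗[A] G.presheaf.stalk (h.base x) := i.restrictScalars C
  exact (flat_iff_of_faithfullyFlat C A B (G.presheaf.stalk (h.base x))).trans (Module.Flat.equiv_iff i').symm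


open AlgebraicGeometry CategoryTheory in
/-- Let h : X → Y be a morphism of S-schemes, q : Y → S, G a quasi-coherent O_Y-module and x ∈ X with h
flat at x. Flatness of G over S at h x is equivalent to flatness of h^*G over S at x. -/
theorem result {X Y S : Scheme.{u}} (h : X ⟶ Y) (q : Y ⟶ S)
    (G : Y.Modules) (hG : Coh.IsQCoh G) (x : X) (hflat : (h.stalkMap x).hom.Flat) :
    FlatMod.IsFlatOverAt q G (h.base x) ↔ FlatMod.IsFlatOverAt (h ≫ q) ((Scheme.Modules.pullback h).obj G) x := by
  exact flatOverAt_pullback_iff h q G x hflat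


end Groth.Agent.S9350
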