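import Groth.Statements.S9027
import Groth.Agent.S9350
import Groth.Agent.AlgSpDec.ResTrdeg
import Groth.Agent.GrFlat5.FlatAtIso

set_option autoImplicit false
set_option backward.isDefEq.respectTransparency false
set_option backward.isDefEq.respectTransparency.types false
set_option linter.style.haveILetI false
universe u
open FlatMor

namespace Groth.Agent.S9027

section
open CategoryTheory CategoryTheory.Limits AlgebraicGeometry

theorem key {A B T : Scheme.{u}} (h : A ⟶ B) (q : B ⟶ T) [Etale h] [LocallyOfFiniteType q] (G : B.Modules) (n : ℕ)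
    (hT : FlatFun.DimFibresLT n q {x | ¬ FlatMod.IsFlatOverAt q G x}) {q' : A ⟶ T} (hq : h ≫ q = q')
    {G' : A.Modules} (e : G' ≅ (Scheme.Modules.pullback h).obj G) :
    FlatFun.DimFibresLT n q' {x | ¬ FlatMod.IsFlatOverAt q' G' x} := by
  subst hq
  intro x hx
  have hflat : (h.stalkMap x).hom.Flat := Flat.stalkMap h x
  have hne : ¬ FlatMod.IsFlatOverAt q G (h x) := fun hc =>
    hx (GrFlat5.isFlatOverAt_of_iso (h ≫ q) e.symm x ((S9350.flatOverAt_pullback_iff h q G x hflat).1 hc))
  have hlt : VarDim.rdeg q (h x) < (n : Cardinal) := hT (h x) hne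
  show VarDim.rdeg (h ≫ q) x < (n : Cardinal)
  rw [VarDim.rdeg_comp, AlgSpDec.ResTrdeg.rdeg_eq_zero_of_lqf h x, add_zero]
  exact hlt

end


open CategoryTheory CategoryTheory.Limits AlgebraicGeometry Opposite in
/-- For f : X → S locally of finite type, F a quasi-coherent O_X-module of finite type, an etale
morphism h : X' → X and n ≥ 0, the functor F_n of F over S is a subfunctor of the functor F_n of the
pullback h^*F on X' over S: for every scheme T over S, if the base change F_T on X ×_S T is flat
over T in dimensions ≥ n (transcendence-degree form) then so is the base change of h^*F on X' ×_S T. -/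
theorem result {X X' S : Scheme.{u}} (f : X ⟶ S) [LocallyOfFiniteType f] (F : X.Modules) [Coh.IsQCoh F] (hF : CohB1.IsFT F)
    (h : X' ⟶ X) [Etale h] (n : ℕ) (T : Over S)
    (hT : FlatFun.DimFibresLT n (PicF.XTproj f T)
        {x | ¬ FlatMod.IsFlatOverAt (PicF.XTproj f T) (FGA.ET f F T) x}) :
    FlatFun.DimFibresLT n (PicF.XTproj (h ≫ f) T)
        {x | ¬ FlatMod.IsFlatOverAt (PicF.XTproj (h ≫ f) T) (FGA.ET (h ≫ f) ((Scheme.Modules.pullback h).obj F) T) x} := by
  let h' : PicF.XT (h ≫ f) T ⟶ PicF.XT f T := pullback.map (h ≫ f) T.hom f T.hom h (𝟙 _) (𝟙 _) (by simp) (by simp)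
  have hsq : IsPullback h' (pullback.fst (h ≫ f) T.hom) (pullback.fst f T.hom) h := by
    refine IsPullback.of_right ?_ (by simp [h']) (IsPullback.of_hasPullback f T.hom).flip
    have : h' ≫ pullback.snd f T.hom = pullback.snd (h ≫ f) T.hom := (pullback.lift_snd _ _ _).trans (Category.comp_id _)
    rw [this]
    exact (IsPullback.of_hasPullback (h ≫ f) T.hom).flip
  haveI : Etale h' := MorphismProperty.of_isPullback hsq.flip inferInstance
  exact key h' (PicF.XTproj f T) _ n hT ((pullback.lift_snd _ _ _).trans (Category.comp_id _))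
    ((Scheme.Modules.pullbackComp (pullback.fst (h ≫ f) T.hom) h).app F ≪≫
      (Scheme.Modules.pullbackCongr hsq.w.symm).app F ≪≫
      ((Scheme.Modules.pullbackComp h' (pullback.fst f T.hom)).app F).symm)

end Groth.Agent.S9027
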