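import Groth.Statements.S2235
import Groth.Agent.WiebeLib.Koszul

set_option autoImplicit false
universe u
open TensorProduct
open Disc

namespace Groth.Agent.S2235

/-- Let A -> P be a ring map, f_1, ..., f_n a Koszul-regular sequence in P with B = P/(f_1, ..., f_n)
flat over A, and g_1, ..., g_n a Koszul-regular sequence in P tensor_A B generating the kernel of
the multiplication map P tensor_A B -> B. Write f_i tensor 1 = sum_j c_ij g_j. Then the annihilator
of the kernel of B tensor_A B -> B is the principal ideal generated by the image of det(c_ij). -/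
theorem result {A P : Type u} [CommRing A] [CommRing P] [Algebra A P]
    {n : ℕ} (f : Fin n → P) (hf : LCI.IsKoszulRegularSeq P (List.ofFn f))
    [Module.Flat A (P ⧸ Ideal.span (Set.range f))]
    (g : Fin n → P ⊗[A] (P ⧸ Ideal.span (Set.range f)))
    (hg : LCI.IsKoszulRegularSeq (P ⊗[A] (P ⧸ Ideal.span (Set.range f))) (List.ofFn g))
    (hgker : Ideal.span (Set.range g) = RingHom.ker (Algebra.TensorProduct.productMap
      (Ideal.Quotient.mkₐ A (Ideal.span (Set.range f))) (AlgHom.id A (P ⧸ Ideal.span (Set.range f)))))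
    (c : Matrix (Fin n) (Fin n) (P ⊗[A] (P ⧸ Ideal.span (Set.range f))))
    (hc : ∀ i, f i ⊗ₜ[A] (1 : P ⧸ Ideal.span (Set.range f)) = ∑ j, c i j * g j) :
    Submodule.annihilator (RingHom.ker
        (Algebra.TensorProduct.lmul' (S := P ⧸ Ideal.span (Set.range f)) A)) =
      Ideal.span {Algebra.TensorProduct.map (Ideal.Quotient.mkₐ A (Ideal.span (Set.range f)))
        (AlgHom.id A (P ⧸ Ideal.span (Set.range f))) (Matrix.det c)} := by
  classical
  let I := Ideal.span (Set.range f)
  let P' := P ⊗[A] (P ⧸ I)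
  let π : P' →ₐ[A] (P ⧸ I) ⊗[A] (P ⧸ I) := Algebra.TensorProduct.map (Ideal.Quotient.mkₐ A I) (AlgHom.id A (P ⧸ I))
  let f' : Fin n → P' := fun i => f i ⊗ₜ[A] (1 : P ⧸ I)
  haveI : Module.Flat P (P ⊗[A] (P ⧸ I)) := inferInstance
  have hex : Groth.Agent.WiebeLib.IsExact f' :=
    Groth.Agent.WiebeLib.isExact_map (S := P') (Groth.Agent.WiebeLib.isExact_of_isKoszulRegularSeq f hf)
  have hπsurj : Function.Surjective π := by
    intro t
    induction t using TensorProduct.induction_on with
    | zero => exact ⟨0, map_zero π⟩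
    | tmul a b =>
      obtain ⟨a, rfl⟩ := Ideal.Quotient.mk_surjective a
      exact ⟨a ⊗ₜ b, rfl⟩
    | add s t hs ht =>
      obtain ⟨s, rfl⟩ := hs
      obtain ⟨t, rfl⟩ := ht
      exact ⟨s + t, map_add π s t⟩
  have hπker : RingHom.ker π = Ideal.span (Set.range f') := by
    show RingHom.ker (Algebra.TensorProduct.map (Ideal.Quotient.mkₐ A I) (AlgHom.id A (P ⧸ I))) = _
    rw [Algebra.TensorProduct.rTensor_ker _ Ideal.Quotient.mk_surjective]
    refine (congrArg _ (Ideal.Quotient.mkₐ_ker A I)).trans ?_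
    show Ideal.map _ (Ideal.span (Set.range f)) = _
    rw [Ideal.map_span, ← Set.range_comp]
    rfl
  let μ := Algebra.TensorProduct.lmul' (S := P ⧸ I) A
  have hμπ : ∀ t : P', μ (π t) = Algebra.TensorProduct.productMap (Ideal.Quotient.mkₐ A I) (AlgHom.id A (P ⧸ I)) t := by
    intro t
    induction t using TensorProduct.induction_on with
    | zero => rw [map_zero, map_zero, map_zero]
    | tmul a b =>
      show μ (Ideal.Quotient.mk I a ⊗ₜ[A] b) = _
      rw [Algebra.TensorProduct.productMap_apply_tmul]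
      exact Algebra.TensorProduct.lmul'_apply_tmul _ _
    | add s t hs ht => rw [map_add, map_add, map_add, hs, ht]
  have hJ : ∀ t : P', π t ∈ RingHom.ker μ ↔ t ∈ Ideal.span (Set.range g) := fun t => by
    rw [hgker, RingHom.mem_ker, RingHom.mem_ker]
    exact Eq.congr_left (hμπ t)
  apply le_antisymm
  · intro b hb
    obtain ⟨x, rfl⟩ := hπsurj b
    rw [Submodule.mem_annihilator] at hb
    have hx : ∀ j, x * g j ∈ Ideal.span (Set.range f') := fun j => by
      rw [← hπker, RingHom.mem_ker]
      exact (map_mul π x (g j)).trans (hb _ ((hJ (g j)).mpr (Ideal.subset_span ⟨j, rfl⟩)))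
    have hmem := Groth.Agent.WiebeLib.mem_of_forall_mul_mem (f := f') (C := c) hex hc hx
    rw [← hπker, Submodule.mem_sup] at hmem
    obtain ⟨y, hy, z, hz, hyz⟩ := hmem
    obtain ⟨r, rfl⟩ := Ideal.mem_span_singleton'.mp hz
    rw [← hyz, map_add, RingHom.mem_ker.mp hy, zero_add, map_mul]
    exact Ideal.mul_mem_left _ _ (Ideal.mem_span_singleton_self _)
  · rw [Ideal.span_le, Set.singleton_subset_iff, SetLike.mem_coe, Submodule.mem_annihilator]
    intro b hb
    obtain ⟨t, rfl⟩ := hπsurj b
    rw [smul_eq_mul]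
    refine (map_mul π (Matrix.det c) t).symm.trans ?_
    rw [← RingHom.mem_ker, hπker]
    have ht := (hJ t).mp hb
    obtain ⟨r, hr⟩ := Ideal.mem_span_range_iff_exists_fun.mp ht
    rw [← hr, Finset.mul_sum]
    refine sum_mem fun j _ => ?_
    rw [mul_left_comm]
    exact Ideal.mul_mem_left _ _ (Groth.Agent.WiebeLib.det_mul_mem (f := f') (C := c) hc j)

end Groth.Agent.S2235
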