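import Groth.Statements.S2220
import Groth.Agent.DiffLib.BaseChange

set_option autoImplicit false
universe u
open AlgebraicGeometry
open Disc

namespace Groth.Agent.S2220

/-- Part (2): for ring maps A -> B' -> B with B' of finite type over A and Spec B -> Spec B' an open
immersion, the Noether different of B over A is the ideal generated by the image of that of B'. -/
theorem result {A B' B : Type u} [CommRing A] [CommRing B']
    [CommRing B] [Algebra A B'] [Algebra A B] [Algebra B' B] [IsScalarTower A B' B]
    [Algebra.FiniteType A B']
    (h : IsOpenImmersion (Spec.map (CommRingCat.ofHom (algebraMap B' B)))) :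
    Disc.noetherDifferent A B = (Disc.noetherDifferent A B').map (algebraMap B' B) := by
  exact Groth.Agent.DiffLib.noetherDifferent_openImmersion h

end Groth.Agent.S2220
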