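import Groth.Statements.S9169
import Mathlib
import Groth.Agent.Synt29.SyntomicAt

set_option autoImplicit false
universe u
open Synt

namespace Groth.Agent.S9169

open TensorProduct in
/-- Let R → S be a ring map and q a prime of S lying over p; write Q for the prime of the fibre ring
κ(p) ⊗ S that pulls back to q. Equivalent: (1) some basic open neighbourhood S_g of q is syntomic
over R; (2) some S_g is isomorphic over R to a relative global complete intersection; (3) some S_g
is of finite presentation over R, the local ring S_q is flat over R (equivalently over R_p), and the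
fibre local ring (κ(p) ⊗ S)_Q is a complete intersection over κ(p). Stated as (1) ↔ (2) and (1) ↔
(3). -/
theorem result (R S : Type u) [CommRing R] [CommRing S] [Algebra R S]
    (p : Ideal R) [p.IsPrime] (q : Ideal S) [q.IsPrime] [q.LiesOver p]
    (Q : Ideal (p.Fiber S)) [Q.IsPrime]
    (hQ : Q.comap (Algebra.TensorProduct.includeRight.toRingHom) = q) :
    ((∃ g : S, g ∉ q ∧ Synt.IsSyntomic R (Localization.Away g)) ↔
        ∃ g : S, g ∉ q ∧ ∃ (n c : ℕ) (F : Fin c → MvPolynomial (Fin n) R), Synt.IsRelGCI R n c F ∧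
          Nonempty (Localization.Away g ≃ₐ[R] Synt.RelGCIRing R n c F)) ∧
      ((∃ g : S, g ∉ q ∧ Synt.IsSyntomic R (Localization.Away g)) ↔
        ∃ g : S, g ∉ q ∧ Algebra.FinitePresentation R (Localization.Away g) ∧
          Module.Flat R (Localization.AtPrime q) ∧
          Synt.IsCIOver p.ResidueField (Localization.AtPrime Q)) := by
  have hp : q.comap (algebraMap R S) = p := (Ideal.over_def q p).symm
  have hstd : ∀ g : S, Synt29.IsStd R (Localization.Away g) ↔ ∃ (n c : ℕ) (F : Fin c → MvPolynomial (Fin n) R),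
      Synt.IsRelGCI R n c F ∧ Nonempty (Localization.Away g ≃ₐ[R] Synt.RelGCIRing R n c F) := fun g =>
    exists_congr fun n => exists_congr fun c => exists_congr fun F =>
      and_congr_right fun _ => ⟨fun ⟨e⟩ => ⟨e.symm⟩, fun ⟨e⟩ => ⟨e.symm⟩⟩
  have hgQ : ∀ g : S, g ∉ q → (1 : p.ResidueField) ⊗ₜ[R] g ∉ Q := fun g hg h => hg (hQ ▸ h)
  have hback : ∀ g : S, Synt29.IsStd R (Localization.Away g) → Synt.IsSyntomic R (Localization.Away g) := by
    rintro g ⟨N, M, F, hF, ⟨e⟩⟩
    exact Synt29.isSyntomic_of_algEquiv e (Synt29.isSyntomic_relGCIRing hF)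
  refine ⟨⟨?_, ?_⟩, ⟨?_, ?_⟩⟩
  · rintro ⟨g, hg, h⟩
    haveI := h.1
    haveI := h.2.1
    obtain ⟨qT, hqT⟩ := Synt29.exists_prime_away g q hg (Localization.Away g)
    obtain ⟨g', hg', hs⟩ := Synt29.exists_isStd_away qT ⟨p, inferInstance⟩ (PrimeSpectrum.ext (by
      show qT.asIdeal.comap (algebraMap R (Localization.Away g)) = p
      rw [IsScalarTower.algebraMap_eq R S (Localization.Away g), ← Ideal.comap_comap, hqT, hp])) (h.2.2 _)
    obtain ⟨h₁, hh₁, ⟨e⟩⟩ := Synt29.exists_away_away (R := R) g q hg (Localization.Away g) qT.asIdeal hqT g' hg'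
    exact ⟨h₁, hh₁, (hstd h₁).1 (Synt29.isStd_of_algEquiv e hs)⟩
  · rintro ⟨g, hg, h⟩
    exact ⟨g, hg, hback g ((hstd g).2 h)⟩
  · rintro ⟨g, hg, h⟩
    haveI := h.1
    exact ⟨g, hg, h.2.1, Synt29.flat_atPrime_of_flat_away g q hg,
      Synt29.isCIOver_fiber_of_isSyntomic_away p Q g (hgQ g hg) h⟩
  · rintro ⟨g, hg, hfp, hfl, hCI⟩
    haveI := hfp
    obtain ⟨h₁, hh₁, hs⟩ := Synt29.exists_syntomic_away_iff p q Q hQ hp g hg hfl hCI
    exact ⟨h₁, hh₁, hback h₁ hs⟩

end Groth.Agent.S9169
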