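import Groth.Statements.S14855
import Mathlib

set_option autoImplicit false
universe u
open CAlg

namespace Groth.Agent.S14855

set_option maxHeartbeats 400000

/-- A ring complete for a filtration in which the powers of `a` tend to zero is `a`-adically complete. -/
theorem complete_of_filtration {W : Type*} [CommRing W] (a : W) (J : ℕ → Ideal W) (hJ : Antitone J)
    (haus : ∀ x, (∀ n, x ∈ J n) → x = 0)
    (prec : ∀ f : ℕ → W, (∀ n, f (n + 1) - f n ∈ J n) → ∃ L, ∀ n, L - f n ∈ J n)
    (htop : ∀ n, ∃ k, a ^ k ∈ J n) : IsAdicComplete (Ideal.span {a}) W := by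
  choose k hk using htop
  let K : ℕ → ℕ := fun n => ∑ m ∈ Finset.range (n + 1), k m
  have hK : ∀ n t, K n ≤ t → a ^ t ∈ J n := fun n t ht => Ideal.pow_mem_of_pow_mem _ (hk n)
    ((Finset.single_le_sum (fun i _ => Nat.zero_le (k i)) (Finset.self_mem_range_succ n)).trans ht)
  have hKm : Monotone K := fun m n h => Finset.sum_le_sum_of_subset (Finset.range_mono (by omega))
  have toH : IsHausdorff (Ideal.span {a}) W := ⟨fun x hx => haus x fun n => by
    have h := hx (K n)
    simp only [smul_eq_mul, Ideal.mul_top, SModEq.zero, Ideal.span_singleton_pow,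
      Ideal.mem_span_singleton] at h
    obtain ⟨u, rfl⟩ := h
    exact (J n).mul_mem_right u (hK n _ le_rfl)⟩
  have toP : IsPrecomplete (Ideal.span {a}) W := ⟨fun f hf => by
    simp only [smul_eq_mul, Ideal.mul_top, SModEq.sub_mem, Ideal.span_singleton_pow,
      Ideal.mem_span_singleton] at hf ⊢
    have hd : ∀ n, ∃ d, f (n + 1) = f n + a ^ n * d := fun n => by
      obtain ⟨u, hu⟩ := hf n.le_succ
      exact ⟨-u, by rw [mul_neg, ← hu]; ring⟩
    choose d hd using hd
    let S : ℕ → ℕ → W := fun k N => ∑ t ∈ Finset.range N, a ^ t * d (k + t)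
    have htel : ∀ k N, f k + a ^ k * S k N = f (k + N) := by
      intro k N
      induction N with
      | zero => simp [S]
      | succ N ih =>
        simp only [S, Finset.sum_range_succ, mul_add] at ih ⊢
        rw [← add_assoc, ih, ← add_assoc k N 1, hd (k + N), pow_add]
        ring
    have hS : ∀ k, ∃ L, ∀ n, L - S k (K n) ∈ J n := fun k => prec _ fun n => by
      simp only [S]
      rw [← Finset.sum_range_add_sum_Ico _ (hKm n.le_succ), add_sub_cancel_left]
      exact Ideal.sum_mem _ fun t ht => (J n).mul_mem_right _ (hK n t (Finset.mem_Ico.1 ht).1)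
    choose e he using hS
    refine ⟨f 0 + e 0, fun i => ⟨-e i, ?_⟩⟩
    rw [mul_neg]
    have key : f 0 + e 0 - (f i + a ^ i * e i) = 0 := haus _ fun n => by
      obtain ⟨u, hu⟩ := hf (Nat.le_add_left (K n) i)
      have h1 : f 0 + a ^ 0 * S 0 (K n) = f (K n) := by rw [htel, zero_add]
      have h2 := htel i (K n)
      have : f 0 + e 0 - (f i + a ^ i * e i) =
          (e 0 - S 0 (K n)) - a ^ i * (e i - S i (K n)) + a ^ K n * u := by
        rw [← hu, ← h1, ← h2]; ring
      rw [this]
      exact add_mem (sub_mem (he 0 n) ((J n).mul_mem_left _ (he i n))) ((J n).mul_mem_right _ (hK n _ le_rfl))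
    linear_combination -key⟩
  exact { toH, toP with }

/-- In the Witt vectors of a ring in which `p` is nilpotent, powers of `p` have vanishing
leading components. -/
theorem exists_p_pow_coeff_eq_zero (p : ℕ) [Fact p.Prime] (S : Type*) [CommRing S]
    (hS : IsNilpotent (p : S)) (n : ℕ) :
    ∃ k, ∀ i < n, ((p : WittVector p S) ^ k).coeff i = 0 := by
  obtain ⟨m, hm⟩ := hS
  have hm0 : ((p : WittVector p S) ^ m).coeff 0 = 0 := by
    show WittVector.constantCoeff ((p : WittVector p S) ^ m) = 0
    rw [map_pow, map_natCast, hm]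
  induction n with
  | zero => exact ⟨0, fun i hi => absurd hi (Nat.not_lt_zero i)⟩
  | succ n ih =>
    obtain ⟨k, hk⟩ := ih
    refine ⟨k + m, fun i hi => ?_⟩
    rw [pow_add, WittVector.eq_iterate_verschiebung hk, WittVector.iterate_verschiebung_mul_left]
    rcases (Nat.lt_succ_iff.1 hi).lt_or_eq with h | rfl
    · exact WittVector.iterate_verschiebung_coeff_eq_zero _ h
    · have hc := WittVector.iterate_verschiebung_coeff
        (((p : WittVector p S) ^ k).shift i * (⇑WittVector.frobenius)^[i] ((p : WittVector p S) ^ m)) i 0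
      rw [zero_add] at hc
      rw [hc]
      have hF : (WittVector.frobenius (p := p) (R := S))^[i] ((p : WittVector p S) ^ m) = (p : WittVector p S) ^ m := by
        apply Function.iterate_fixed
        rw [map_pow, map_natCast]
      rw [hF]
      show WittVector.constantCoeff (_ * (p : WittVector p S) ^ m) = 0
      rw [map_mul]
      exact mul_eq_zero_of_right _ hm0

theorem witt_p_complete (p : ℕ) [Fact p.Prime] (R : Type*) [CommRing R]
    [IsAdicComplete (Ideal.span {(p : R)}) R] :
    IsAdicComplete (Ideal.span {(p : WittVector p R)}) (WittVector p R) := by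
  let P : Ideal R := Ideal.span {(p : R)}
  let J : ℕ → Ideal (WittVector p R) := fun n =>
    RingHom.ker ((WittVector.truncate n).comp (WittVector.map (Ideal.Quotient.mk (P ^ n))))
  have hJ : ∀ n x, x ∈ J n ↔ ∀ i < n, x.coeff i ∈ P ^ n := fun n x => by
    simp only [J, RingHom.mem_ker, RingHom.comp_apply]
    rw [← RingHom.mem_ker, WittVector.mem_ker_truncate]
    simp [Ideal.Quotient.eq_zero_iff_mem]
  have hJs : ∀ n x y, x - y ∈ J n ↔ ∀ i < n, x.coeff i - y.coeff i ∈ P ^ n := fun n x y => by
    simp only [J, RingHom.mem_ker, RingHom.comp_apply]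
    rw [← RingHom.mem_ker, WittVector.mem_ker_truncate, map_sub,
      ← WittVector.le_coeff_eq_iff_le_sub_coeff_eq_zero]
    simp [Ideal.Quotient.eq]
  have hanti : Antitone J := fun m n h x hx => (hJ m x).2 fun i hi =>
    Ideal.pow_le_pow_right h ((hJ n x).1 hx i (hi.trans_le h))
  refine complete_of_filtration _ J hanti (fun x hx => ?_) (fun f hf => ?_) (fun n => ?_)
  · ext i
    rw [WittVector.zero_coeff]
    refine IsHausdorff.haus (inferInstance : IsHausdorff P R) _ fun k => ?_
    rw [SModEq.zero, smul_eq_mul, Ideal.mul_top]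
    exact Ideal.pow_le_pow_right (le_max_left k (i + 1)) ((hJ _ x).1 (hx _) i (le_max_right k (i + 1)))
  · have hf' : ∀ {m n}, m ≤ n → f n - f m ∈ J m := by
      intro m n h
      induction n, h using Nat.le_induction with
      | base => rw [sub_self]; exact zero_mem _
      | succ n h ih =>
        rw [← sub_add_sub_cancel _ (f n)]
        exact add_mem (hanti h (hf n)) ih
    have hc : ∀ i, ∃ L : R, ∀ k, (f (max k (i + 1))).coeff i ≡ L [SMOD (P ^ k • ⊤ : Submodule R R)] :=
      fun i => IsPrecomplete.prec inferInstance fun {m n} h => by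
        rw [SModEq.sub_mem, smul_eq_mul, Ideal.mul_top, ← neg_sub]
        refine neg_mem (Ideal.pow_le_pow_right (le_max_left m (i + 1)) ?_)
        exact (hJs _ _ _).1 (hf' (max_le_max_right (i + 1) h)) i (le_max_right m (i + 1))
    choose L hL using hc
    refine ⟨WittVector.mk p L, fun n => (hJs _ _ _).2 fun i hi => ?_⟩
    have h := hL i n
    rw [max_eq_left hi, SModEq.sub_mem, smul_eq_mul, Ideal.mul_top] at h
    rw [← neg_sub, WittVector.coeff_mk]
    exact neg_mem h
  · obtain ⟨k, hk⟩ := exists_p_pow_coeff_eq_zero p (R ⧸ P ^ n) ⟨n, by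
      rw [← map_natCast (Ideal.Quotient.mk (P ^ n)), ← map_pow, Ideal.Quotient.eq_zero_iff_mem]
      exact Ideal.pow_mem_pow (Ideal.mem_span_singleton_self _) n⟩ n
    refine ⟨k, ?_⟩
    simp only [J, RingHom.mem_ker, RingHom.comp_apply]
    rw [← RingHom.mem_ker, WittVector.mem_ker_truncate, map_pow, map_natCast]
    exact hk


/-- Let p be a prime and R a commutative ring which is complete and separated for the p-adic topology.
Then the ring W(R) of p-typical Witt vectors of R is complete and separated for its own p-adic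
topology, and it is also complete and separated for the adic topology of the ideal I_R, the kernel
of the projection of W(R) onto the zeroth Witt component. -/
theorem result (p : ℕ) [Fact p.Prime] (R : Type u) [CommRing R]
    [IsAdicComplete (Ideal.span {(p : R)}) R] :
    IsAdicComplete (Ideal.span {(p : WittVector p R)}) (WittVector p R) ∧
      IsAdicComplete (RingHom.ker (WittVector.constantCoeff : WittVector p R →+* R)) (WittVector p R) := by
  classical
  have hW : IsAdicComplete (Ideal.span {(p : WittVector p R)}) (WittVector p R) := witt_p_complete p R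
  refine ⟨hW, ?_⟩
  let I : Ideal (WittVector p R) := RingHom.ker (WittVector.constantCoeff : WittVector p R →+* R)
  have hI : ∀ x, x ∈ I ↔ x.coeff 0 = 0 := fun x => Iff.rfl
  have hV : ∀ x ∈ I, x = WittVector.verschiebung (x.shift 1) := fun x hx => by
    simpa using WittVector.eq_iterate_verschiebung (x := x) (n := 1) (fun i hi => by
      obtain rfl : i = 0 := by omega
      exact hx)
  have hVI : ∀ x, WittVector.verschiebung x ∈ I := fun x => (hI _).2 (WittVector.verschiebung_coeff_zero x)
  have hVV : ∀ x y : WittVector p R, WittVector.verschiebung x * WittVector.verschiebung y =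
      p * WittVector.verschiebung (x * y) := fun x y => by
    rw [← WittVector.verschiebung_mul_frobenius, WittVector.frobenius_verschiebung, ← nsmul_eq_mul,
      ← map_nsmul, nsmul_eq_mul]
    congr 1
    ring
  have hsq : I * I = Ideal.span {(p : WittVector p R)} * I := by
    refine le_antisymm (Ideal.mul_le.2 fun x hx y hy => ?_) (Ideal.span_singleton_mul_le_iff.2 fun x hx => ?_)
    · rw [hV x hx, hV y hy, hVV]
      exact Ideal.mul_mem_mul (Ideal.mem_span_singleton_self _) (hVI _)
    · rw [hV x hx, ← one_mul (x.shift 1), ← hVV]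
      exact Ideal.mul_mem_mul (hVI _) (hVI _)
  have hpow : ∀ n : ℕ, I ^ (n + 1) = Ideal.span {(p : WittVector p R) ^ n} * I := by
    intro n
    induction n with
    | zero => simp
    | succ n ih =>
      rw [pow_succ, ih, mul_assoc, hsq, ← mul_assoc, Ideal.span_singleton_mul_span_singleton, ← pow_succ]
  have hmem : ∀ n x, x ∈ I ^ (n + 1) →
      ∃ u, x = WittVector.verschiebung ((p : WittVector p R) ^ n * u) := fun n x hx => by
    rw [hpow] at hx
    obtain ⟨z, hz, rfl⟩ := Ideal.mem_span_singleton_mul.1 hx
    refine ⟨z.shift 1, ?_⟩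
    conv_lhs => rw [hV z hz]
    rw [← Nat.cast_pow, ← nsmul_eq_mul, ← nsmul_eq_mul, map_nsmul]
  have hmem' : ∀ n u, WittVector.verschiebung ((p : WittVector p R) ^ n * u) ∈ I ^ (n + 1) := fun n u => by
    rw [hpow, ← Nat.cast_pow, ← nsmul_eq_mul, map_nsmul, nsmul_eq_mul, Nat.cast_pow]
    exact Ideal.mul_mem_mul (Ideal.mem_span_singleton_self _) (hVI _)
  have toH : IsHausdorff I (WittVector p R) := ⟨fun x hx => hW.haus' x fun n => by
    have h := hx (n + 1)
    rw [SModEq.zero, smul_eq_mul, Ideal.mul_top] at h ⊢
    rw [hpow] at h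
    rw [Ideal.span_singleton_pow]
    exact (Ideal.mul_le_left (I := Ideal.span {(p : WittVector p R) ^ n}) (J := I)) h⟩
  have toP : IsPrecomplete I (WittVector p R) := ⟨fun f hf => by
    simp only [smul_eq_mul, Ideal.mul_top, SModEq.sub_mem] at hf ⊢
    have h1 : ∀ n, f 1 - f (n + 1) ∈ I := fun n => pow_one I ▸ hf (Nat.le_add_left 1 n)
    let g : ℕ → WittVector p R := fun n => (f (n + 1) - f 1).shift 1
    have hg : ∀ n, f (n + 1) - f 1 = WittVector.verschiebung (g n) := fun n => hV _ (by
      rw [← neg_sub]; exact neg_mem (h1 n))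
    have hgc : ∀ {m n}, m ≤ n → g m ≡ g n [SMOD (Ideal.span {(p : WittVector p R)} ^ m •
        ⊤ : Submodule (WittVector p R) (WittVector p R))] := by
      intro m n hmn
      obtain ⟨u, hu⟩ := hmem m _ (hf (Nat.add_le_add_right hmn 1))
      have e : g m - g n = (p : WittVector p R) ^ m * u := by
        apply WittVector.verschiebung_injective p R
        rw [map_sub, ← hg, ← hg, ← hu]
        ring
      simp only [smul_eq_mul, Ideal.mul_top, SModEq.sub_mem, Ideal.span_singleton_pow,
        Ideal.mem_span_singleton, e]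
      exact dvd_mul_right _ _
    obtain ⟨G, hG⟩ := hW.toIsPrecomplete.prec' g hgc
    refine ⟨f 1 + WittVector.verschiebung G, fun n => ?_⟩
    rcases n with _ | n
    · simp
    · have h := hG n
      simp only [smul_eq_mul, Ideal.mul_top, SModEq.sub_mem, Ideal.span_singleton_pow,
        Ideal.mem_span_singleton] at h
      obtain ⟨u, hu⟩ := h
      have : f (n + 1) - (f 1 + WittVector.verschiebung G) = WittVector.verschiebung (g n - G) := by
        rw [map_sub, ← hg]; ring
      rw [this, hu]
      exact hmem' n u⟩
  exact { toH, toP with }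

end Groth.Agent.S14855
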