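import Groth.Statements.S18464
import Mathlib.Algebra.Order.Antidiag.FinsuppEquiv
import Mathlib.Algebra.MvPolynomial.Funext
import Mathlib.LinearAlgebra.Matrix.NonsingularInverse
import Mathlib.LinearAlgebra.Dual.Lemmas
import Mathlib.RingTheory.MvPolynomial.Homogeneous

set_option autoImplicit false
universe u
open CategoryTheory CategoryTheory.Limits AlgebraicGeometry
open LefPen

namespace Groth.Agent.S18464

open MvPolynomial

theorem finite_finrank_homogeneous (k : Type u) [Field k] (r n : ℕ) :
    Module.Finite k (homogeneousSubmodule (Fin (r + 1)) k n) ∧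
      Module.finrank k (homogeneousSubmodule (Fin (r + 1)) k n) = Nat.choose (r + n) n := by
  classical
  let S : Set (Fin (r + 1) →₀ ℕ) := {e | e.degree = n}
  let e : {a // a ∈ (Finset.univ : Finset (Fin (r + 1))).finsuppAntidiag n} ≃ S :=
    Equiv.subtypeEquivRight fun a => by simp [S, Finset.mem_finsuppAntidiag, Finsupp.degree_eq_sum]
  haveI : Fintype S := Fintype.ofEquiv _ e
  let φ : homogeneousSubmodule (Fin (r + 1)) k n ≃ₗ[k] (S →₀ k) :=
    (LinearEquiv.ofEq _ _ (homogeneousSubmodule_eq_finsupp_supported (σ := Fin (r + 1)) (R := k) n)).trans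
      (AddMonoidAlgebra.supportedEquivFinsupp S)
  refine ⟨Module.Finite.equiv φ.symm, ?_⟩
  rw [φ.finrank_eq, Module.finrank_finsupp_self, ← Fintype.card_congr e, Fintype.card_coe,
    Finset.card_finsuppAntidiag_nat_eq_choose, Finset.card_univ, Fintype.card_fin]
  congr 1
  omega

theorem isPolyFun_eval (k : Type u) [Field k] {m n : ℕ} (i : Fin m) (p : MvPolynomial (Fin n) k) :
    (fun x : Fin m → (Fin n → k) => MvPolynomial.aeval (x i) p) ∈
      Algebra.adjoin k (Set.range fun l : Module.Dual k (Fin m → (Fin n → k)) => (l : (Fin m → (Fin n → k)) → k)) := by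
  induction p using MvPolynomial.induction_on with
  | C a =>
    have h := Subalgebra.algebraMap_mem (Algebra.adjoin k (Set.range fun l : Module.Dual k (Fin m → (Fin n → k)) => (l : (Fin m → (Fin n → k)) → k))) a
    convert h using 1
    funext x; simp
  | add p q hp hq =>
    convert add_mem hp hq using 1
    funext x; simp
  | mul_X p j hp =>
    convert mul_mem hp (Algebra.subset_adjoin ⟨(LinearMap.proj j).comp (LinearMap.proj (R := k) (φ := fun _ : Fin m => Fin n → k) i), rfl⟩) using 1
    funext x; simp



/-- Let k be an infinite field, r a natural number, d ≥ 1 an integer, and m ≥ C(r+d, d), the number of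
monomials of degree d in r+1 variables. In the space of m-tuples of vectors of k^(r+1) (homogeneous
coordinate vectors of m points of projective r-space; a zero vector is allowed and imposes no
condition), the tuples such that the only form of degree d vanishing at all of them is the zero form
make up a Zariski-open subset which contains the non-vanishing locus of a not identically zero
polynomial function, so a dense open subset. (The published statement is the openness and density of
the corresponding locus in the m-fold product of projective r-space over the ground field; here the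
ground field is any infinite field and the statement is made on coordinate vectors.) -/
theorem result (k : Type u) [Field k] [Infinite k]
    (r d m : ℕ) (hd : 1 ≤ d) (hm : Nat.choose (r + d) d ≤ m) :
    LefPen.IsZOpen k {x : Fin m → (Fin (r + 1) → k) |
      ∀ G : LefPen.Form r k d, (∀ i : Fin m, MvPolynomial.aeval (x i) G.1 = 0) → G = 0} ∧
    LefPen.IsGeneric k {x : Fin m → (Fin (r + 1) → k) |
      ∀ G : LefPen.Form r k d, (∀ i : Fin m, MvPolynomial.aeval (x i) G.1 = 0) → G = 0} := by
  classical
  set V := Fin m → (Fin (r + 1) → k)
  set S : Set V := {x | ∀ G : LefPen.Form r k d, (∀ i : Fin m, MvPolynomial.aeval (x i) G.1 = 0) → G = 0}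
  obtain ⟨hfin, hrank⟩ : Module.Finite k (LefPen.Form r k d) ∧ Module.finrank k (LefPen.Form r k d) = Nat.choose (r + d) d :=
    finite_finrank_homogeneous k r d
  haveI := hfin
  let Φ : V → (LefPen.Form r k d →ₗ[k] (Fin m → k)) := fun x =>
    LinearMap.pi fun i => (MvPolynomial.aeval (x i)).toLinearMap.comp (Submodule.subtype _)
  have hopen : LefPen.IsZOpen k S := by
    intro x hx
    have hinj : LinearMap.ker (Φ x) = ⊥ := LinearMap.ker_eq_bot'.2 fun G hG => hx G fun i => congrFun hG i
    let b := Module.finBasis k (LefPen.Form r k d)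
    obtain ⟨g, hg⟩ := (Φ x).exists_leftInverse_of_injective hinj
    let c := Pi.basisFun k (Fin m)
    let A : V → Matrix (Fin m) (Fin (Module.finrank k (LefPen.Form r k d))) k := fun y =>
      Matrix.of fun i j => MvPolynomial.aeval (y i) (b j).1
    have hA : ∀ y, LinearMap.toMatrix b c (Φ y) = A y := fun y => by
      ext i j; simp [LinearMap.toMatrix_apply, c, A, Φ]
    let L := LinearMap.toMatrix c b g
    have hLA : L * A x = 1 := by
      rw [← hA, ← LinearMap.toMatrix_comp, hg, LinearMap.toMatrix_id]
    refine ⟨fun y => (L * A y).det, ?_, by simp only [hLA, Matrix.det_one]; exact one_ne_zero, fun y hy G hG => ?_⟩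
    · unfold LefPen.IsPolyFun
      let B := Algebra.adjoin k (Set.range fun l : Module.Dual k V => (l : V → k))
      let M : Matrix (Fin (Module.finrank k (LefPen.Form r k d))) (Fin (Module.finrank k (LefPen.Form r k d))) B := Matrix.of fun a j =>
        ∑ i, L a i • (⟨fun y : V => MvPolynomial.aeval (y i) (b j).1, isPolyFun_eval k i (b j).1⟩ : B)
      have : (fun y => (L * A y).det) = (M.det : V → k) := by
        funext y
        rw [show ((M.det : B) : V → k) y = ((Pi.evalRingHom (fun _ : V => k) y).comp B.val.toRingHom) M.det from rfl,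
          RingHom.map_det]
        congr 1
        ext a j
        simp [Matrix.mul_apply, M, A, Finset.sum_apply]
      rw [this]
      exact (M.det).2
    · have h0 : (Φ y) G = 0 := funext fun i => hG i
      have h1 : (L * A y).mulVec (b.repr G) = 0 := by
        rw [← hA, ← Matrix.mulVec_mulVec, LinearMap.toMatrix_mulVec_repr, h0, map_zero]
        simp
      have h2 := Matrix.eq_zero_of_mulVec_eq_zero hy h1
      exact b.repr.map_eq_zero_iff.1 (Finsupp.ext fun j => congrFun h2 j)
  obtain ⟨x0, hx0⟩ : S.Nonempty := by
    let ev : (Fin (r + 1) → k) → Module.Dual k (LefPen.Form r k d) := fun v =>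
      (MvPolynomial.aeval v).toLinearMap.comp (Submodule.subtype _)
    have hspan : Submodule.span k (Set.range ev) = ⊤ := by
      refine Submodule.span_eq_top_of_ne_zero fun G hG => ?_
      have h' : ∃ v, MvPolynomial.eval v G.1 ≠ 0 := by
        by_contra hc
        push Not at hc
        exact hG (Subtype.ext (MvPolynomial.funext fun v => by rw [hc v]; simp))
      obtain ⟨v, hv⟩ := h'
      exact ⟨ev v, ⟨v, rfl⟩, by simpa [ev, MvPolynomial.aeval_eq_eval] using hv⟩
    obtain ⟨T, hT1, hT2, hT3⟩ := exists_linearIndependent k (Set.range ev)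
    rw [hspan] at hT2
    haveI : Fintype T := hT3.setFinite.fintype
    have hc : Fintype.card T ≤ m := (hT3.fintype_card_le_finrank).trans (by rw [Subspace.dual_finrank_eq, hrank]; exact hm)
    obtain ⟨e⟩ := Function.Embedding.nonempty_of_card_le (α := T) (β := Fin m) (by simpa using hc)
    refine ⟨Function.extend e (fun t => (hT1 t.2).choose) 0, fun G hG => ?_⟩
    refine (Module.forall_dual_apply_eq_zero_iff k G).1 fun φ => ?_
    have hle : Submodule.span k T ≤ LinearMap.ker (Module.Dual.eval k (LefPen.Form r k d) G) := Submodule.span_le.2 fun t ht => by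
      have h := hG (e ⟨t, ht⟩)
      rw [e.injective.extend_apply] at h
      rw [SetLike.mem_coe, LinearMap.mem_ker, Module.Dual.eval_apply, ← (hT1 ht).choose_spec]
      exact h
    exact LinearMap.mem_ker.1 (hle (hT2 ▸ Submodule.mem_top))
  obtain ⟨f, hf, hfx, hsub⟩ := hopen x0 hx0
  exact ⟨hopen, f, hf, ⟨x0, hfx⟩, hsub⟩

end Groth.Agent.S18464
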