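import Groth.Statements.S4466
import Groth.Agent.S0843
import Groth.Agent.S0844
import Groth.Agent.S0845
import Groth.Agent.S18464

set_option autoImplicit false
universe u
open Coherent

namespace Groth.Agent.S4466

open AlgebraicGeometry CategoryTheory in
/-- Let k be a field, r > 0 and n any integer. Then the Euler characteristic of the twisting sheaf O(n)
on projective r-space over k, namely the alternating sum of the dimensions of H^j(P^r_k, O(n)) for 0
≤ j ≤ r, equals the binomial coefficient C(n+r, r), understood as the binomial polynomial evaluated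
at the integer n+r (so that it makes sense and is correct for negative n too). -/
theorem result (k : Type u) [Field k] (r : ℕ) (hr : 0 < r)
    (n : ℤ) :
    ((Finset.range (r + 1)).sum fun j => (-1 : ℤ) ^ j *
        (Module.finrank k (Coh.HH (CohB1.ProjSpace r k) (Twist.twistProjSpace r k n) j) : ℤ)) =
      Ring.choose (n + r) r := by
  have hz : ∀ j : ℕ, ¬ (j = 0 ∧ 0 ≤ n) → ¬ (j = r ∧ n ≤ -((r : ℤ) + 1)) →
      (-1 : ℤ) ^ j * (Module.finrank k (Coh.HH (CohB1.ProjSpace r k) (Twist.twistProjSpace r k n) j) : ℤ) = 0 :=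
    fun j h0 hr' => by
      haveI := Groth.Agent.S0844.result k r n j h0 hr'
      rw [Module.finrank_zero_of_subsingleton, Nat.cast_zero, mul_zero]
  rcases le_or_gt 0 n with h | h
  · lift n to ℕ using h
    rw [Finset.sum_eq_single 0 (fun j _ hj => hz j (fun h => hj h.1) (fun h => by omega)) (fun h => absurd (Finset.mem_range.2 (by omega)) h)]
    obtain ⟨e⟩ := Groth.Agent.S0843.result k r n
    rw [e.finrank_eq, (Groth.Agent.S18464.finite_finrank_homogeneous k r n).2, pow_zero, one_mul,
      show (n : ℤ) + (r : ℤ) = ((n + r : ℕ) : ℤ) by push_cast; ring, Ring.choose_natCast]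
    rw [show n + r = r + n by omega, Nat.choose_symm_add]
  rcases le_or_gt n (-((r : ℤ) + 1)) with h' | h'
  · obtain ⟨m, rfl⟩ : ∃ m : ℕ, n = -((r : ℤ) + 1 + m) := ⟨(-n - ((r : ℤ) + 1)).toNat, by omega⟩
    rw [Finset.sum_eq_single r (fun j _ hj => hz j (fun h0 => by omega) (fun h => hj h.1)) (fun h => absurd (Finset.mem_range.2 (by omega)) h)]
    obtain ⟨e⟩ := Groth.Agent.S0845.result k r m
    rw [e.finrank_eq, (Groth.Agent.S18464.finite_finrank_homogeneous k r m).2,
      show -((r : ℤ) + 1 + m) + r = -((1 : ℤ) + m) by ring, Ring.choose_neg,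
      show (1 : ℤ) + m + r - 1 = ((r + m : ℕ) : ℤ) by push_cast; ring, Ring.choose_natCast, Nat.choose_symm_add]
    rw [Units.smul_def, Int.coe_negOnePow_natCast, smul_eq_mul]
  rw [Finset.sum_eq_zero (fun j _ => hz j (fun h0 => by omega) (fun h0 => by omega))]
  obtain ⟨m, hm⟩ : ∃ m : ℕ, n + r = m := ⟨(n + r).toNat, by omega⟩
  rw [hm, Ring.choose_natCast, Nat.choose_eq_zero_of_lt (by omega), Nat.cast_zero]

end Groth.Agent.S4466
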