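import Groth.Statements.S11486
import Groth.Agent.Lib.TwistSumInv
import Groth.Agent.S11674
import Groth.Agent.ComodLib.GradedAug

set_option autoImplicit false
set_option backward.isDefEq.respectTransparency false
set_option backward.isDefEq.respectTransparency.types false
set_option linter.style.haveILetI false
set_option linter.unusedSectionVars false
set_option maxHeartbeats 400000
universe u
open VBPn

namespace Groth.Agent.S11486

open CategoryTheory CategoryTheory.Limits AlgebraicGeometry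
open Groth.Agent.RegEpi Groth.Agent.ProjRegular Groth.Agent.PnCoh.Finite

noncomputable instance projOver (k : Type u) [Field k] (n : ℕ) :
    (Proj (CohB1.polyGrading n k)).Over (Spec (CommRingCat.of k)) :=
  inferInstanceAs ((CohB1.ProjSpace n k).Over (Spec (CommRingCat.of k)))

variable (k : Type u) [Field k]

theorem le_finrank_twist (n : ℕ) (hn : 1 ≤ n) (e : ℕ) :
    e + 1 ≤ Module.finrank k (Coh.HH (Proj (CohB1.polyGrading n k)) (Twist.twist (CohB1.polyGrading n k) (e : ℤ)) 0) := by
  obtain ⟨ε⟩ := S0843.result k n e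
  refine le_of_le_of_eq ?_ (ε.finrank_eq.trans (Groth.Agent.ComodLib.GradedAug.finrank_homogeneous (k := k) (n + 1) e).2).symm
  rw [show n + 1 + e - 1 = n + e by omega]
  refine le_trans ?_ (Nat.choose_le_choose e (show 1 + e ≤ n + e by omega))
  rw [show 1 + e = e + 1 by omega, Nat.choose_succ_self_right]

theorem zero_case (E : (Proj (CohB1.polyGrading 0 k)).Modules) (hE : Coh.IsCoh E) :
    ∃ (b : ℕ), Nonempty (E ≅ ∐ fun _ : Fin b => Twist.twist (CohB1.polyGrading 0 k) 0) := by
  haveI hP : IsNoetherian (Proj (CohB1.polyGrading 0 k)) := Proj16.isNoetherian_proj _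
  have hR : ∀ {M : (Proj (CohB1.polyGrading 0 k)).Modules}, Coh.IsCoh M → Reg0 (𝒜 := CohB1.polyGrading 0 k) M :=
    fun hM q hq => Syzygy.subsingleton_high' hM _ q (by omega)
  haveI := (S11674.hyp k 0).fin E hE
  obtain ⟨b, ψ, hψ, hg, -⟩ := Syzygy.exists_sigma_hom_bijective (S11674.hyp k 0).one E
  haveI : Epi ψ := hg (ProjRegular.isGloballyGenerated coords_mem coords_cover coords_noetherian
    (good_of_isCoh coords_mem hE) (hR hE))
  have hK : Coh.IsCoh (kernel ψ) := QCoh.isCoh_kernel (Syzygy.isCoh_sigma_O b) hE ψ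
  let S : ShortComplex (Proj (CohB1.polyGrading 0 k)).Modules :=
    ShortComplex.mk (kernel.ι ψ) ψ (kernel.condition ψ)
  have hS : S.ShortExact := { exact := ShortComplex.exact_of_f_is_kernel _ (kernelIsKernel ψ) }
  have h0 : Subsingleton (Coh.HH (Proj (CohB1.polyGrading 0 k)) (kernel ψ) 0) :=
    Syzygy.subsingleton_HH_zero_X₁ (k := k) hS hψ.1
  haveI := (S11674.hyp k 0).fin _ hK
  obtain ⟨c, χ, -, hgc, hc⟩ := Syzygy.exists_sigma_hom_bijective (S11674.hyp k 0).one (kernel ψ)
  haveI : Epi χ := hgc (ProjRegular.isGloballyGenerated coords_mem coords_cover coords_noetherian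
    (good_of_isCoh coords_mem hK) (hR hK))
  rw [Module.finrank_zero_of_subsingleton] at hc
  subst hc
  have hz : IsZero (kernel ψ) := IsZero.of_epi_eq_zero χ (Sigma.hom_ext _ _ fun i => i.elim0)
  haveI : Mono ψ := Preadditive.mono_of_kernel_zero (hz.eq_of_src _ _)
  haveI : IsIso ψ := isIso_of_mono_of_epi ψ
  obtain ⟨u⟩ := unitIso (k := k) (n := 0)
  exact ⟨b, ⟨(asIso ψ).symm ≪≫ Sigma.mapIso fun _ => u⟩⟩

theorem main (n r : ℕ) (E : (Proj (CohB1.polyGrading n k)).Modules) (hE : FlatMod.IsFinLocFreeOfRank r E) :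
    (∃ a : Fin r → ℤ, Nonempty (E ≅ ∐ fun j : Fin r => Twist.twist (CohB1.polyGrading n k) (a j))) ↔
      ∀ (i : ℕ) (d : ℤ), 0 < i → i < n → Subsingleton (Coh.HH (Proj (CohB1.polyGrading n k)) ((twF d).obj E) i) := by
  haveI hP : IsNoetherian (Proj (CohB1.polyGrading n k)) := Proj16.isNoetherian_proj _
  have hEf : FlatMod.IsFinLocFree E := fun y => let ⟨W, hy, he⟩ := hE y; ⟨W, r, hy, he⟩
  have hcoh : Coh.IsCoh E := ⟨Groth.Agent.QCoh.isQCoh_of_isFinLocFree hEf,
    Groth.Agent.QCoh.isFT_of_isFP (Groth.Agent.QCoh.isFP_of_isFinLocFree hEf)⟩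
  constructor
  · rintro ⟨a, ⟨e⟩⟩ i d hi hin
    exact QCoh.subsingleton_HH_of_iso ((twF d).mapIso e.symm) i ((S11674.acm_of_sigma k n r a).1 d i hi hin)
  · intro h
    obtain ⟨r', a, ⟨e⟩⟩ : ∃ (r' : ℕ) (a : Fin r' → ℤ),
        Nonempty (E ≅ ∐ fun j => Twist.twist (CohB1.polyGrading n k) (a j)) := by
      rcases Nat.eq_zero_or_pos n with rfl | hn
      · obtain ⟨b, hb⟩ := zero_case k E hcoh
        exact ⟨b, fun _ => 0, hb⟩
      · haveI := (S11674.hyp k n).fin E hcoh
        exact S11674.split_of_acm k n hn E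
          { coh := hcoh
            mid := fun d i h1 h2 => h i d h1 h2
            low := TwistSum.low_of_isFinLocFree hEf (le_finrank_twist k n hn) }
    obtain rfl := TwistSum.eq_rank_of_iso hE a e
    exact ⟨a, ⟨e⟩⟩

open CategoryTheory CategoryTheory.Limits AlgebraicGeometry in
/-- Let k be a characteristic-zero algebraically closed field and E a finite locally free O-module of
rank r on P^n_k. Then E splits as a direct sum of twisting sheaves O(a_1) ⊕ ⋯ ⊕ O(a_r) if and only
if H^i(P^n_k, E ⊗ O(d)) = 0 for every 0 < i < n and every integer d. -/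
theorem result (k : Type u) [Field k] [IsAlgClosed k] [CharZero k]
    (n r : ℕ) (E : (CohB1.ProjSpace n k).Modules) (hE : FlatMod.IsFinLocFreeOfRank r E) :
    (∃ a : Fin r → ℤ, Nonempty (E ≅ ∐ fun j : Fin r => Twist.twistProjSpace n k (a j))) ↔
      ∀ (i : ℕ) (d : ℤ), 0 < i → i < n →
        Subsingleton (Coh.HH (CohB1.ProjSpace n k) (CohB1.tensorMod E (Twist.twistProjSpace n k d)) i) := by
  exact main k n r E hE

end Groth.Agent.S11486
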