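import Groth.Statements.S1601
import Mathlib

set_option autoImplicit false
set_option linter.style.haveILetI false
universe u
open Resolve

namespace Groth.Agent.S1601


open MvPolynomial

/-- If `l² ∈ I²` and the quotient by `l` is a principal ideal domain then `l ∈ I`. -/
theorem mem_of_sq_mem_sq {B P : Type*} [CommRing B] [IsDomain B] [CommRing P] [IsDomain P]
    [IsPrincipalIdealRing P] (φ : B →+* P) (hφ : Function.Surjective φ) (l : B) (hl : l ≠ 0)
    (hker : RingHom.ker φ = Ideal.span {l}) (I : Ideal B) (h : l ^ 2 ∈ I ^ 2) : l ∈ I := by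
  have hmem : ∀ x, φ x = 0 → ∃ y, x = l * y := fun x hx => by
    obtain ⟨y, rfl⟩ := Ideal.mem_span_singleton.1 (hker ▸ (RingHom.mem_ker.2 hx) : x ∈ Ideal.span {l})
    exact ⟨y, rfl⟩
  have hφl : φ l = 0 := RingHom.mem_ker.1 (hker ▸ Ideal.mem_span_singleton_self l)
  obtain ⟨g, hg⟩ := IsPrincipalIdealRing.principal (I.map φ)
  by_cases hg0 : g = 0
  · -- `I` lies in `(l)`
    let 𝔟 : Ideal B := Submodule.comap (LinearMap.mulLeft B l) I
    have hI : I ≤ Ideal.span {l} * 𝔟 := fun x hx => by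
      have : φ x = 0 := by
        have := Ideal.mem_map_of_mem φ hx
        simpa [hg, hg0] using this
      obtain ⟨y, rfl⟩ := hmem x this
      exact Ideal.mul_mem_mul (Ideal.mem_span_singleton_self l) hx
    have h2 : l ^ 2 ∈ Ideal.span {l ^ 2} * (𝔟 * 𝔟) := by
      have := Ideal.pow_right_mono hI 2 h
      rwa [mul_pow, Ideal.span_singleton_pow, pow_two 𝔟] at this
    obtain ⟨s, hs, he⟩ := Ideal.mem_span_singleton_mul.1 h2
    have : (1 : B) ∈ 𝔟 := by
      rw [← mul_left_cancel₀ (pow_ne_zero 2 hl) (he.trans (mul_one _).symm)]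
      exact Ideal.mul_le_left hs
    simpa [𝔟] using this
  · obtain ⟨i₀, hi₀, hφi₀⟩ : ∃ i ∈ I, φ i = g :=
      (Ideal.mem_map_iff_of_surjective φ hφ).1 (hg ▸ Submodule.mem_span_singleton_self g)
    let 𝔞 : Ideal B := Submodule.comap (LinearMap.mulLeft B l) I
    have hI : I ≤ Ideal.span {i₀} ⊔ Ideal.span {l} * 𝔞 := fun x hx => by
      obtain ⟨p, hp⟩ := Submodule.mem_span_singleton.1 (hg ▸ Ideal.mem_map_of_mem φ hx :)
      obtain ⟨u, rfl⟩ := hφ p
      obtain ⟨v, hv⟩ := hmem (x - u * i₀) (by rw [map_sub, map_mul, hφi₀, ← hp, smul_eq_mul, sub_self])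
      have hv' : v ∈ 𝔞 := show l * v ∈ I from hv ▸ I.sub_mem hx (I.mul_mem_left _ hi₀)
      rw [show x = u * i₀ + l * v by rw [← hv]; ring]
      exact Submodule.add_mem_sup (Ideal.mem_span_singleton'.2 ⟨u, rfl⟩)
        (Ideal.mul_mem_mul (Ideal.mem_span_singleton_self l) hv')
    have h2 : l ^ 2 ∈ Ideal.span {i₀} ⊔ Ideal.span {l ^ 2} * (𝔞 * 𝔞) := by
      refine SetLike.le_def.1 ?_ h
      rw [pow_two I]
      refine (Ideal.mul_mono hI hI).trans ?_
      rw [Ideal.sup_mul, Ideal.mul_sup, Ideal.mul_sup]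
      refine sup_le (sup_le (le_sup_of_le_left ?_) (le_sup_of_le_left ?_))
        (sup_le (le_sup_of_le_left ?_) ?_)
      any_goals first | exact Ideal.mul_le_left | exact Ideal.mul_le_right
      rw [mul_mul_mul_comm, Ideal.span_singleton_mul_span_singleton, ← pow_two]
      exact le_sup_right
    obtain ⟨_, hr, _, ht, he⟩ := Submodule.mem_sup.1 h2
    obtain ⟨r, rfl⟩ := Ideal.mem_span_singleton'.1 hr
    obtain ⟨s, hs, rfl⟩ := Ideal.mem_span_singleton_mul.1 ht
    have hri : r * i₀ = l * (l * (1 - s)) := by linear_combination he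
    have hdiv : ∀ r z : B, r * i₀ = l * z → ∃ r', r' * i₀ = z ∧ r = l * r' := fun r z hrz => by
      have : φ r * g = 0 := by rw [← hφi₀, ← map_mul, hrz, map_mul, hφl, zero_mul]
      obtain ⟨r', rfl⟩ := hmem r ((mul_eq_zero.1 this).resolve_right hg0)
      exact ⟨r', mul_left_cancel₀ hl (by rw [← mul_assoc]; exact hrz), rfl⟩
    obtain ⟨r', hr', -⟩ := hdiv _ _ hri
    obtain ⟨r'', hr'', -⟩ := hdiv _ _ hr'
    have h1 : (1 - s) ∈ 𝔞 := show l * (1 - s) ∈ I from
      hr'' ▸ I.mul_mem_left _ (I.mul_mem_left _ hi₀)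
    have : (1 : B) ∈ 𝔞 := by
      have := 𝔞.add_mem h1 (Ideal.mul_le_left hs)
      rwa [sub_add_cancel] at this
    simpa [𝔞] using this

/-- An affine linear form with a nonzero linear part cuts out a line. -/
theorem exists_line {K : Type*} [Field K] (g h i : K) (hhi : h ≠ 0 ∨ i ≠ 0) :
    ∃ φ : MvPolynomial (Fin 2) K →ₐ[K] Polynomial K, Function.Surjective φ ∧
      RingHom.ker φ.toRingHom = Ideal.span {C g + C h * X 0 + C i * X 1} ∧
      ∀ v, (φ (X v)).natDegree ≤ 1 := by
  set l : MvPolynomial (Fin 2) K := C g + C h * X 0 + C i * X 1 with hl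
  suffices H : ∀ (P : Fin 2 → Polynomial K) (w : Fin 2), P w = Polynomial.X →
      aeval P l = 0 → (∀ v, Polynomial.aeval (X w : MvPolynomial (Fin 2) K) (P v) - X v ∈ Ideal.span {l}) →
      (∀ v, (P v).natDegree ≤ 1) →
      ∃ φ : MvPolynomial (Fin 2) K →ₐ[K] Polynomial K, Function.Surjective φ ∧
      RingHom.ker φ.toRingHom = Ideal.span {l} ∧ ∀ v, (φ (X v)).natDegree ≤ 1 by
    by_cases hh : h = 0
    · have hi : i ≠ 0 := hhi.resolve_left (not_not.2 hh)
      refine H ![Polynomial.X, Polynomial.C (-g / i)] 0 rfl ?_ (fun v => ?_) fun v => ?_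
      · simp only [hl, hh, map_add, map_mul, aeval_C, aeval_X, map_zero, zero_mul, add_zero,
          Matrix.cons_val_one, Matrix.cons_val_zero, Polynomial.algebraMap_eq]
        rw [← map_mul, mul_div_cancel₀ _ hi, ← map_add, add_neg_cancel, map_zero]
      · fin_cases v
        · simp
        · refine Ideal.mem_span_singleton'.2 ⟨C (-1 / i), ?_⟩
          simp only [hl, hh, Matrix.cons_val_one, Fin.mk_one, Polynomial.aeval_C, Matrix.cons_val_zero,
            MvPolynomial.algebraMap_eq, map_zero, zero_mul, add_zero, mul_add, ← mul_assoc, ← map_mul]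
          rw [div_mul_eq_mul_div, neg_one_mul, div_mul_cancel₀ _ hi, map_neg, map_one, neg_one_mul]
          ring
      · fin_cases v <;> simp
    · refine H ![Polynomial.C (-g / h) + Polynomial.C (-i / h) * Polynomial.X, Polynomial.X] 1 rfl ?_
        (fun v => ?_) fun v => ?_
      · simp only [hl, map_add, map_mul, aeval_C, aeval_X, Matrix.cons_val_zero, Matrix.cons_val_one]
        rw [mul_add, ← mul_assoc, Polynomial.algebraMap_eq, ← map_mul, ← map_mul, mul_div_cancel₀ _ hh,
          mul_div_cancel₀ _ hh, map_neg, map_neg]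
        ring
      · fin_cases v
        · refine Ideal.mem_span_singleton'.2 ⟨C (-1 / h), ?_⟩
          simp only [hl, Fin.zero_eta, Matrix.cons_val_zero, Matrix.cons_val_one, map_add, map_mul,
            Polynomial.aeval_C, Polynomial.aeval_X, MvPolynomial.algebraMap_eq]
          simp only [mul_add, ← mul_assoc, ← map_mul]
          rw [div_mul_eq_mul_div, neg_one_mul, div_mul_eq_mul_div, neg_one_mul, div_mul_eq_mul_div,
            neg_one_mul, neg_div h h, div_self hh, map_neg, map_one]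
          ring
        · simp
      · fin_cases v
        · exact Polynomial.natDegree_add_le_of_degree_le (by simp)
            ((Polynomial.natDegree_C_mul_le _ _).trans Polynomial.natDegree_X_le)
        · simp
  intro P w hw hPl hP hdeg
  refine ⟨aeval P, fun p => ⟨Polynomial.aeval (X w) p, ?_⟩, ?_, fun v => by simpa using hdeg v⟩
  · rw [← Polynomial.aeval_algHom_apply, aeval_X, hw, Polynomial.aeval_X_left_apply]
  · refine le_antisymm (fun p hp => ?_) ((Ideal.span_singleton_le_iff_mem _).2 (by simpa using hPl))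
    have hext : ((Ideal.Quotient.mkₐ K (Ideal.span {l})).comp (Polynomial.aeval (X w))).comp (aeval P) =
        Ideal.Quotient.mkₐ K (Ideal.span {l}) :=
      MvPolynomial.algHom_ext fun v => by
        simp only [AlgHom.comp_apply, aeval_X, Ideal.Quotient.mkₐ_eq_mk]
        exact Ideal.Quotient.eq.2 (hP v)
    refine Ideal.Quotient.eq_zero_iff_mem.1 ?_
    have := AlgHom.congr_fun hext p
    rw [AlgHom.comp_apply, show aeval P p = 0 from RingHom.mem_ker.1 hp, map_zero] at this
    exact this.symm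

theorem natDegree_le_totalDegree {K : Type*} [Field K]
    (φ : MvPolynomial (Fin 2) K →ₐ[K] Polynomial K) (hφ : ∀ v, (φ (X v)).natDegree ≤ 1)
    (p : MvPolynomial (Fin 2) K) : (φ p).natDegree ≤ p.totalDegree := by
  conv_lhs => rw [p.as_sum, map_sum]
  refine Polynomial.natDegree_sum_le_of_forall_le _ _ fun m hm => ?_
  refine le_trans ?_ (le_totalDegree hm)
  rw [monomial_eq, map_mul, show φ (C (coeff m p)) = Polynomial.C (coeff m p) from AlgHom.commutes φ _,
    Finsupp.prod, map_prod]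
  refine (Polynomial.natDegree_C_mul_le _ _).trans ((Polynomial.natDegree_prod_le _ _).trans ?_)
  refine Finset.sum_le_sum fun v _ => ?_
  rw [map_pow]
  exact Polynomial.natDegree_pow_le.trans (by simpa using Nat.mul_le_mul_left (m v) (hφ v))

/-- Coefficientwise projection to the base field of an element of an extended ideal. -/
theorem exists_mem_coeff_of_mem_map {k K σ : Type*} [Field k] [Field K] [Algebra k K]
    (π : K →ₗ[k] k) (I : Ideal (MvPolynomial σ k)) {p : MvPolynomial σ K}
    (hp : p ∈ I.map (MvPolynomial.map (algebraMap k K))) :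
    ∃ p' ∈ I, ∀ n, coeff n p' = π (coeff n p) := by
  rw [Ideal.map, Ideal.span] at hp
  have key : ∀ i ∈ I, ∀ c : MvPolynomial σ K,
      ∃ p' ∈ I, ∀ n, coeff n p' = π (coeff n (c * map (algebraMap k K) i)) := by
    intro i hi c
    induction c using MvPolynomial.induction_on' with
    | monomial m a =>
      refine ⟨monomial m (π a) * i, I.mul_mem_left _ hi, fun n => ?_⟩
      rw [coeff_monomial_mul', coeff_monomial_mul']
      split_ifs
      · rw [coeff_map, mul_comm a, ← Algebra.smul_def, map_smul, smul_eq_mul, mul_comm]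
      · rw [map_zero]
    | add c c' hc hc' =>
      obtain ⟨p, hp, hpc⟩ := hc
      obtain ⟨p', hp', hpc'⟩ := hc'
      exact ⟨p + p', I.add_mem hp hp', fun n => by simp [add_mul, hpc, hpc']⟩
  obtain ⟨c, hc⟩ := (Finsupp.mem_span_iff_linearCombination _ _ _).1 hp
  subst hc
  induction c using Finsupp.induction with
  | zero => exact ⟨0, I.zero_mem, fun n => by simp⟩
  | single_add x a c _ _ ih =>
    obtain ⟨i, hi, hix⟩ := x.2
    obtain ⟨p, hp, hpc⟩ := key i hi a
    obtain ⟨p', hp', hpc'⟩ := ih ((Finsupp.mem_span_iff_linearCombination _ _ _).2 ⟨c, rfl⟩)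
    exact ⟨p + p', I.add_mem hp hp', fun n => by simp [hpc, hpc', hix]⟩

/-- Let κ be a field and I an ideal of κ[x, y] whose colength is greater than one (the quotient is not
of dimension at most one over κ). If a nonzero polynomial a + bx + cy + dx^2 + exy + fy^2 lies in
I^2, then it equals j (g + hx + iy)^2 for some scalars j, g, h, i. -/
theorem result (κ : Type u) [Field κ] (I : Ideal (MvPolynomial (Fin 2) κ))
    (hI : ¬ (Module.Finite κ (MvPolynomial (Fin 2) κ ⧸ I) ∧ Module.finrank κ (MvPolynomial (Fin 2) κ ⧸ I) ≤ 1))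
    (a b c d e f : κ) (hne : (a, b, c, d, e, f) ≠ (0, 0, 0, 0, 0, 0))
    (hmem : (MvPolynomial.C a + MvPolynomial.C b * MvPolynomial.X 0 + MvPolynomial.C c * MvPolynomial.X 1 +
      MvPolynomial.C d * MvPolynomial.X 0 ^ 2 + MvPolynomial.C e * MvPolynomial.X 0 * MvPolynomial.X 1 +
      MvPolynomial.C f * MvPolynomial.X 1 ^ 2 : MvPolynomial (Fin 2) κ) ∈ I ^ 2) :
    ∃ j g h i : κ, (MvPolynomial.C a + MvPolynomial.C b * MvPolynomial.X 0 + MvPolynomial.C c * MvPolynomial.X 1 +
      MvPolynomial.C d * MvPolynomial.X 0 ^ 2 + MvPolynomial.C e * MvPolynomial.X 0 * MvPolynomial.X 1 +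
      MvPolynomial.C f * MvPolynomial.X 1 ^ 2 : MvPolynomial (Fin 2) κ) =
      MvPolynomial.C j * (MvPolynomial.C g + MvPolynomial.C h * MvPolynomial.X 0 + MvPolynomial.C i * MvPolynomial.X 1) ^ 2 := by
  set q : MvPolynomial (Fin 2) κ := MvPolynomial.C a + MvPolynomial.C b * MvPolynomial.X 0 +
    MvPolynomial.C c * MvPolynomial.X 1 + MvPolynomial.C d * MvPolynomial.X 0 ^ 2 +
    MvPolynomial.C e * MvPolynomial.X 0 * MvPolynomial.X 1 + MvPolynomial.C f * MvPolynomial.X 1 ^ 2 with hq
  have hItop : I ≠ ⊤ := by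
    rintro rfl
    have : Subsingleton (MvPolynomial (Fin 2) κ ⧸ (⊤ : Ideal (MvPolynomial (Fin 2) κ))) :=
      Ideal.Quotient.subsingleton_iff.2 rfl
    exact hI ⟨inferInstance, by rw [Module.finrank_zero_of_subsingleton]; exact zero_le⟩
  have hC : ∀ z : κ, MvPolynomial.C z ∈ I → z = 0 := fun z hz => by
    by_contra hz0
    exact hItop (I.eq_top_of_isUnit_mem hz ((IsUnit.mk0 z hz0).map MvPolynomial.C))
  have hqI : q ∈ I := Ideal.pow_le_self two_ne_zero hmem
  have hder : ∀ v, MvPolynomial.pderiv v q ∈ I := by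
    suffices hgen : ∀ v, ∀ p ∈ I ^ 2, MvPolynomial.pderiv v p ∈ I from fun v => hgen v q hmem
    intro v p hp
    rw [pow_two] at hp
    induction hp using Submodule.mul_induction_on' with
    | mem_mul_mem x hx y hy =>
      rw [MvPolynomial.pderiv_mul]
      exact I.add_mem (I.mul_mem_left _ hy) (I.mul_mem_right _ hx)
    | add x _ y _ hx hy => rw [map_add]; exact I.add_mem hx hy
  by_cases hΛ : ∃ g h i : κ, (h ≠ 0 ∨ i ≠ 0) ∧
      (MvPolynomial.C g + MvPolynomial.C h * MvPolynomial.X 0 + MvPolynomial.C i * MvPolynomial.X 1) ∈ I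
  · obtain ⟨g, h, i, hhi, hlI⟩ := hΛ
    set l : MvPolynomial (Fin 2) κ :=
      MvPolynomial.C g + MvPolynomial.C h * MvPolynomial.X 0 + MvPolynomial.C i * MvPolynomial.X 1 with hl
    obtain ⟨φ, hφ, hker, hdeg⟩ := exists_line g h i hhi
    obtain ⟨G, hG⟩ := IsPrincipalIdealRing.principal (I.map φ.toRingHom)
    have hcomap : (I.map φ.toRingHom).comap φ.toRingHom = I := by
      rw [Ideal.comap_map_of_surjective φ.toRingHom hφ, ← RingHom.ker_eq_comap_bot, hker, sup_eq_left,
        Ideal.span_singleton_le_iff_mem]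
      exact hlI
    have hGdeg : G = 0 ∨ 2 ≤ G.natDegree := by
      rcases eq_or_ne G 0 with h0 | h0
      · exact Or.inl h0
      refine Or.inr ?_
      by_contra hlt
      let e : (MvPolynomial (Fin 2) κ ⧸ I) ≃ₐ[κ] (Polynomial κ ⧸ I.map φ.toRingHom) :=
        (Ideal.quotientEquivAlgOfEq κ (by
          ext x
          conv_lhs => rw [← hcomap]
          rw [RingHom.mem_ker, AlgHom.comp_apply, Ideal.Quotient.mkₐ_eq_mk, Ideal.Quotient.eq_zero_iff_mem]
          rfl)).trans
        (Ideal.quotientKerAlgEquivOfSurjective (f := (Ideal.Quotient.mkₐ κ (I.map φ.toRingHom)).comp φ)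
          (Ideal.Quotient.mk_surjective.comp hφ))
      let e' : (MvPolynomial (Fin 2) κ ⧸ I) ≃ₐ[κ] AdjoinRoot G :=
        e.trans (Ideal.quotientEquivAlgOfEq κ hG)
      haveI : Module.Finite κ (AdjoinRoot G) := (AdjoinRoot.powerBasis h0).finite
      refine hI ⟨Module.Finite.equiv e'.symm.toLinearEquiv, ?_⟩
      rw [e'.toLinearEquiv.finrank_eq, (AdjoinRoot.powerBasis h0).finrank, AdjoinRoot.powerBasis_dim]
      omega
    have hsmall : ∀ p, φ p ∈ Ideal.span {G} → p.totalDegree ≤ 1 → φ p = 0 := by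
      intro p hp hp1
      have hdvd := Ideal.mem_span_singleton.1 hp
      rcases hGdeg with h0 | h2
      · rw [h0] at hdvd; exact zero_dvd_iff.1 hdvd
      · exact Polynomial.eq_zero_of_dvd_of_natDegree_lt hdvd
          (lt_of_le_of_lt ((natDegree_le_totalDegree φ hdeg p).trans hp1) h2)
    have hq2 : q.totalDegree ≤ 2 := by
      have hm : ∀ (z : κ) (p : MvPolynomial (Fin 2) κ), p.totalDegree ≤ 2 →
          (MvPolynomial.C z * p).totalDegree ≤ 2 := fun z p hp =>
        (MvPolynomial.totalDegree_mul _ _).trans (by rw [MvPolynomial.totalDegree_C, zero_add]; exact hp)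
      have ha2 : ∀ p p' : MvPolynomial (Fin 2) κ, p.totalDegree ≤ 2 → p'.totalDegree ≤ 2 →
          (p + p').totalDegree ≤ 2 := fun p p' h h' =>
        (MvPolynomial.totalDegree_add _ _).trans (max_le h h')
      rw [hq, mul_assoc]
      refine ha2 _ _ (ha2 _ _ (ha2 _ _ (ha2 _ _ (ha2 _ _ (by simp) (hm _ _ (by simp))) (hm _ _ (by simp)))
        (hm _ _ (by simp))) (hm _ _ ((MvPolynomial.totalDegree_mul _ _).trans (by simp)))) (hm _ _ (by simp))
    have hφq : φ q = 0 := by
      have h2 : φ q ∈ Ideal.span {G ^ 2} := by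
        rw [← Ideal.span_singleton_pow, Ideal.span, ← hG, ← Ideal.map_pow]
        exact Ideal.mem_map_of_mem _ hmem
      rcases hGdeg with h0 | h2'
      · rw [h0, zero_pow two_ne_zero, Ideal.mem_span_singleton, zero_dvd_iff] at h2; exact h2
      · refine Polynomial.eq_zero_of_dvd_of_natDegree_lt (Ideal.mem_span_singleton.1 h2)
          (lt_of_le_of_lt ((natDegree_le_totalDegree φ hdeg q).trans hq2) ?_)
        rw [Polynomial.natDegree_pow]; omega
    obtain ⟨r, hqr⟩ := Ideal.mem_span_singleton.1 (hker ▸ RingHom.mem_ker.2 hφq : q ∈ Ideal.span {l})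
    by_cases hr0 : r = 0
    · exact ⟨0, 0, 0, 0, by rw [hqr, hr0, mul_zero, map_zero, zero_mul]⟩
    have hrI : r ∈ I := by
      have hd : ∀ v : Fin 2, MvPolynomial.pderiv v l = MvPolynomial.C (![h, i] v) := by
        intro v
        fin_cases v <;> simp [hl, MvPolynomial.pderiv_X, Pi.single_apply]
      obtain ⟨v, hv⟩ : ∃ v : Fin 2, ![h, i] v ≠ 0 := by
        rcases hhi with hh | hh
        · exact ⟨0, by simpa using hh⟩
        · exact ⟨1, by simpa using hh⟩
      have := hder v
      rw [hqr, MvPolynomial.pderiv_mul, hd v] at this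
      have h1 := (I.add_mem_iff_left (I.mul_mem_right _ hlI)).1 this
      have h2 := I.mul_mem_left (MvPolynomial.C (![h, i] v)⁻¹) h1
      rwa [← mul_assoc, ← map_mul, inv_mul_cancel₀ hv, map_one, one_mul] at h2
    have hl0 : l ≠ 0 := by
      intro h0
      rcases hhi with hh | hh
      · have hcx := congrArg (MvPolynomial.coeff (Finsupp.single (0 : Fin 2) 1)) h0
        simp [hl, MvPolynomial.coeff_X', Finsupp.single_eq_single_iff, MvPolynomial.coeff_C,
          eq_comm (a := (0 : Fin 2 →₀ ℕ))] at hcx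
        exact hh hcx
      · have hcx := congrArg (MvPolynomial.coeff (Finsupp.single (1 : Fin 2) 1)) h0
        simp [hl, MvPolynomial.coeff_X', Finsupp.single_eq_single_iff, MvPolynomial.coeff_C,
          eq_comm (a := (0 : Fin 2 →₀ ℕ))] at hcx
        exact hh hcx
    have hl1 : l.totalDegree ≠ 0 := by
      intro h0
      obtain ⟨z, hz⟩ : ∃ z, l = MvPolynomial.C z := ⟨_, MvPolynomial.totalDegree_eq_zero_iff_eq_C.1 h0⟩
      exact hl0 (by rw [hz, hC z (hz ▸ hlI), map_zero])
    have hr1 : r.totalDegree ≤ 1 := by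
      have := hqr ▸ hq2
      rw [MvPolynomial.totalDegree_mul_of_isDomain hl0 hr0] at this
      omega
    have hφr : φ r = 0 := hsmall r (by rw [Ideal.span, ← hG]; exact Ideal.mem_map_of_mem φ.toRingHom hrI) hr1
    obtain ⟨s, hrs⟩ := Ideal.mem_span_singleton.1 (hker ▸ RingHom.mem_ker.2 hφr : r ∈ Ideal.span {l})
    have hs0 : s.totalDegree = 0 := by
      have := hrs ▸ hr1
      rw [MvPolynomial.totalDegree_mul_of_isDomain hl0 (fun h0 => hr0 (by rw [hrs, h0, mul_zero]))] at this
      omega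
    refine ⟨MvPolynomial.coeff 0 s, g, h, i, ?_⟩
    rw [hqr, hrs, ← MvPolynomial.totalDegree_eq_zero_iff_eq_C.1 hs0]
    ring
  · exfalso
    simp only [not_exists, not_and] at hΛ
    have hlin : ∀ g h i : κ,
        (MvPolynomial.C g + MvPolynomial.C h * MvPolynomial.X 0 + MvPolynomial.C i * MvPolynomial.X 1) ∈ I →
        g = 0 ∧ h = 0 ∧ i = 0 := by
      intro g h i hm
      obtain ⟨rfl, rfl⟩ : h = 0 ∧ i = 0 := by
        by_contra hh
        exact hΛ g h i (not_and_or.1 hh) hm
      exact ⟨hC g (by simpa using hm), rfl, rfl⟩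
    obtain ⟨hb, hd, he⟩ := hlin b (2 * d) e (by
      convert hder 0 using 1
      simp [hq, MvPolynomial.pderiv_X, Pi.single_apply, map_ofNat]
      ring)
    obtain ⟨hc, -, hf⟩ := hlin c e (2 * f) (by
      convert hder 1 using 1
      simp [hq, MvPolynomial.pderiv_X, Pi.single_apply, map_ofNat]
      ring)
    subst hb hc he
    rcases eq_or_ne (2 : κ) 0 with h2 | h2
    swap
    · obtain rfl := (mul_eq_zero.1 hd).resolve_left h2
      obtain rfl := (mul_eq_zero.1 hf).resolve_left h2
      exact hne (by rw [hC a (by simpa [hq] using hqI)])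
    let K := AlgebraicClosure κ
    obtain ⟨α, hα⟩ := IsAlgClosed.exists_pow_nat_eq (algebraMap κ K a) two_pos
    obtain ⟨δ, hδ⟩ := IsAlgClosed.exists_pow_nat_eq (algebraMap κ K d) two_pos
    obtain ⟨ψ, hψ⟩ := IsAlgClosed.exists_pow_nat_eq (algebraMap κ K f) two_pos
    have hK2 : (2 : MvPolynomial (Fin 2) K) = 0 := by
      rw [← map_ofNat (algebraMap κ (MvPolynomial (Fin 2) K)), h2, map_zero]
    let L : MvPolynomial (Fin 2) K :=
      MvPolynomial.C α + MvPolynomial.C δ * MvPolynomial.X 0 + MvPolynomial.C ψ * MvPolynomial.X 1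
    have hL2 : L ^ 2 = MvPolynomial.map (algebraMap κ K) q := by
      simp only [hq, L, map_add, map_mul, map_pow, MvPolynomial.map_C, MvPolynomial.map_X, map_zero,
        zero_mul, add_zero, ← hα, ← hδ, ← hψ]
      linear_combination (MvPolynomial.C α * MvPolynomial.C δ * MvPolynomial.X 0 +
        MvPolynomial.C α * MvPolynomial.C ψ * MvPolynomial.X 1 +
        MvPolynomial.C δ * MvPolynomial.C ψ * MvPolynomial.X 0 * MvPolynomial.X 1) * hK2
    have hLnc : δ ≠ 0 ∨ ψ ≠ 0 := by
      by_contra hh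
      push_neg at hh
      rw [hh.1, zero_pow two_ne_zero, eq_comm, map_eq_zero] at hδ
      rw [hh.2, zero_pow two_ne_zero, eq_comm, map_eq_zero] at hψ
      subst hδ hψ
      exact hne (by rw [hC a (by simpa [hq] using hqI)])
    obtain ⟨φ, hφ, hker, -⟩ := exists_line α δ ψ hLnc
    have hL0 : L ≠ 0 := fun h0 => by
      have hq0 : q = 0 := MvPolynomial.map_injective _ (algebraMap κ K).injective (by rw [← hL2, h0, zero_pow two_ne_zero, map_zero])
      have hcd := congrArg (MvPolynomial.coeff (Finsupp.single (0 : Fin 2) 2)) hq0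
      have hcf := congrArg (MvPolynomial.coeff (Finsupp.single (1 : Fin 2) 2)) hq0
      simp [hq, MvPolynomial.coeff_X_pow, Finsupp.single_eq_single_iff, MvPolynomial.coeff_C,
        eq_comm (a := (0 : Fin 2 →₀ ℕ))] at hcd hcf
      subst hcd hcf
      exact hne (by rw [hC a (by simpa [hq] using hqI)])
    have hLI := mem_of_sq_mem_sq φ.toRingHom hφ L hL0 hker (I.map (MvPolynomial.map (algebraMap κ K)))
      (by rw [hL2, ← Ideal.map_pow]; exact Ideal.mem_map_of_mem _ hmem)
    obtain ⟨t, ht, hπt⟩ : ∃ t : K, (t = δ ∨ t = ψ) ∧ t ≠ 0 := by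
      rcases hLnc with hh | hh
      · exact ⟨δ, Or.inl rfl, hh⟩
      · exact ⟨ψ, Or.inr rfl, hh⟩
    obtain ⟨π, hπ⟩ : ∃ π : K →ₗ[κ] κ, π t ≠ 0 := by
      by_contra! hh
      exact hπt ((Module.forall_dual_apply_eq_zero_iff κ t).1 hh)
    obtain ⟨p, hp, hpc⟩ := exists_mem_coeff_of_mem_map π I hLI
    have hpeq : p = MvPolynomial.C (π α) + MvPolynomial.C (π δ) * MvPolynomial.X 0 +
        MvPolynomial.C (π ψ) * MvPolynomial.X 1 := by
      ext n
      rw [hpc]
      simp only [L, MvPolynomial.coeff_add, MvPolynomial.coeff_C_mul, MvPolynomial.coeff_C,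
        MvPolynomial.coeff_X', map_add, mul_ite, mul_one, mul_zero, apply_ite π, map_zero]
    obtain ⟨-, h1, h2'⟩ := hlin _ _ _ (hpeq ▸ hp)
    rcases ht with rfl | rfl
    · exact hπ h1
    · exact hπ h2'

end Groth.Agent.S1601
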