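import Groth.Statements.S16234
import Mathlib

set_option autoImplicit false
universe u v
open CAlg

namespace Groth.Agent.S16234

/-- For a finitely generated module M over a Noetherian commutative ring A, every prime ideal in the
support of M is a maximal ideal if and only if M has finite length. -/
theorem result (A : Type u) [CommRing A] [IsNoetherianRing A]
    (M : Type v) [AddCommGroup M] [Module A M] [Module.Finite A M] :
    (∀ p ∈ Module.support A M, p.asIdeal.IsMaximal) ↔ IsFiniteLength A M := by
  constructor
  · intro h
    rw [isFiniteLength_iff_isNoetherian_isArtinian]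
    refine ⟨inferInstance, ?_⟩
    revert h
    refine IsNoetherianRing.induction_on_isQuotientEquivQuotientPrime A
      (M := M) inferInstance (motive := fun N _ _ _ =>
        (∀ p ∈ Module.support A N, p.asIdeal.IsMaximal) → IsArtinian A N) ?_ ?_ ?_
    · intro N _ _ _ _ _
      infer_instance
    · intro N _ _ _ p e hN
      have hp : p ∈ Module.support A N := by
        rw [Module.support_eq_zeroLocus, e.annihilator_eq, Ideal.annihilator_quotient]
        exact (PrimeSpectrum.mem_zeroLocus _ _).2 le_rfl
      have : IsSimpleModule A N := isSimpleModule_iff_quot_maximal.2 ⟨_, hN p hp, ⟨e⟩⟩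
      infer_instance
    · intro N₁ _ _ _ N₂ _ _ _ N₃ _ _ _ f g hf hg hfg h1 h3 h2
      rw [Module.support_of_exact hfg hf hg] at h2
      have := h1 fun p hp => h2 p (Or.inl hp)
      have := h3 fun p hp => h2 p (Or.inr hp)
      exact isArtinian_of_range_eq_ker f g (LinearMap.exact_iff.1 hfg).symm
  · intro h
    clear ‹Module.Finite A M›
    induction h with
    | of_subsingleton =>
      intro p hp
      rename_i N _ _ _
      rw [Module.support_eq_empty] at hp
      exact hp.elim
    | @of_simple_quotient N _ _ K _ _ ih =>
      intro p hp
      rw [Module.support_of_exact (LinearMap.exact_subtype_mkQ K) K.subtype_injective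
        K.mkQ_surjective] at hp
      rcases hp with hp | hp
      · exact ih p hp
      · obtain ⟨I, hI, ⟨e⟩⟩ := isSimpleModule_iff_quot_maximal.1 ‹IsSimpleModule A (_ ⧸ K)›
        have := Module.Finite.equiv e.symm
        rw [Module.support_eq_zeroLocus, e.annihilator_eq, Ideal.annihilator_quotient] at hp
        rw [← hI.eq_of_le p.2.ne_top hp]
        exact hI

end Groth.Agent.S16234
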