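import Groth.Statements.S0544
import Mathlib

set_option autoImplicit false
universe u
open CAlg

namespace Groth.Agent.S0544

/-- Let `R` be complete with respect to an ideal `I` and `M` an `R`-module which is `I`-adically
separated and such that `M/IM` is finitely generated. Then `M` is a finitely generated `R`-module. -/
theorem result (R : Type u) [CommRing R]
    (I : Ideal R) [IsAdicComplete I R] (M : Type u) [AddCommGroup M] [Module R M] [IsHausdorff I M]
    (h : Module.Finite R (M ⧸ (I • ⊤ : Submodule R M))) : Module.Finite R M := by
  classical
  obtain ⟨n, g, hg⟩ := Module.Finite.exists_fin (R := R) (M := M ⧸ (I • ⊤ : Submodule R M))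
  choose m hm using fun i => Submodule.mkQ_surjective (I • ⊤ : Submodule R M) (g i)
  let φ : (Fin n → R) →ₗ[R] M := Fintype.linearCombination R m
  haveI : IsPrecomplete I (Fin n → R) := by
    refine ⟨fun f hf => ?_⟩
    choose L hL using fun i => IsPrecomplete.prec (inferInstance : IsPrecomplete I R)
      (f := fun k => f k i) (fun {a b} hab => by
        have := (hf hab).map (LinearMap.proj i : (Fin n → R) →ₗ[R] R)
        exact this.mono (by rw [Submodule.map_smul'']; exact Submodule.smul_mono le_rfl le_top))
    refine ⟨L, fun a => ?_⟩
    rw [SModEq.sub_mem, ← Finset.univ_sum_single (f a - L)]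
    refine Submodule.sum_mem _ fun i _ => ?_
    have h1 : (f a - L) i ∈ I ^ a := by
      simpa [SModEq.sub_mem] using hL i a
    rw [show (Pi.single i ((f a - L) i) : Fin n → R) = ((f a - L) i) • Pi.single i 1 by
      rw [← Pi.single_smul', smul_eq_mul, mul_one]]
    exact Submodule.smul_mem_smul h1 Submodule.mem_top
  refine Module.Finite.of_surjective φ (surjective_of_mkQ_comp_surjective (I := I) ?_)
  rw [← LinearMap.range_eq_top, LinearMap.range_comp, Fintype.range_linearCombination,
    Submodule.map_span, ← Set.range_comp, ← hg]
  congr 2
  funext i
  exact hm i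

end Groth.Agent.S0544
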