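import Groth.Statements.S3694
import Groth.Agent.Pi1X.FEtFull

set_option autoImplicit false
universe u
open SGA1

namespace Groth.Agent.S3694

open AlgebraicGeometry CategoryTheory CategoryTheory.Limits in
/-- A morphism which is etale and universally injective (radicial) is an open immersion. (The converse
is immediate.) -/
theorem result {X Y : Scheme.{u}} (f : X ⟶ Y) [Etale f] [UniversallyInjective f] :
    IsOpenImmersion f := by
  exact Pi1X.isOpenImmersion_of_etale_universallyInjective f

end Groth.Agent.S3694
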