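import Mathlib
import Groth.Agent.S0560
import Groth.Statements.S16547
-- import your own Groth.Agent.* helpers here

set_option autoImplicit false
universe u
open CAlg
open scoped Pointwise

namespace Groth.Agent.S16547

section helpers

open scoped Pointwise

variable {A B : Type u} [CommRing A] [CommRing B] [Algebra B A]

lemma fg_of_lt [Module.Finite B A] (P : Submodule B A)
    (hquot : ∀ x : B, algebraMap B A x ≠ 0 → IsNoetherian B (A ⧸ Ideal.span {algebraMap B A x}))
    (hfaith : ∀ W : Submodule B A, P < W → ∃ x : B, algebraMap B A x ≠ 0 ∧ ∀ a : A, x • a ∈ W)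
    (W : Submodule B A) (hW : P < W) : W.FG := by
  obtain ⟨x, hx, hxW⟩ := hfaith W hW
  haveI := hquot x hx
  set J : Submodule B A := (Ideal.span {algebraMap B A x}).restrictScalars B
  have hJ : J ≤ W := by
    intro a ha
    obtain ⟨c, rfl⟩ := Ideal.mem_span_singleton'.mp ha
    rw [mul_comm, ← Algebra.smul_def]
    exact hxW c
  have hJ' : J = Submodule.map (x • LinearMap.id : A →ₗ[B] A) ⊤ := by
    ext a
    rw [Submodule.restrictScalars_mem, Ideal.mem_span_singleton', Submodule.mem_map]
    constructor
    · rintro ⟨c, rfl⟩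
      refine ⟨c, trivial, ?_⟩
      rw [LinearMap.smul_apply, LinearMap.id_apply, Algebra.smul_def, mul_comm]
    · rintro ⟨c, -, rfl⟩
      refine ⟨c, ?_⟩
      rw [LinearMap.smul_apply, LinearMap.id_apply, Algebra.smul_def, mul_comm]
  let q : A →ₗ[B] A ⧸ Ideal.span {algebraMap B A x} :=
    (Submodule.mkQ (Ideal.span {algebraMap B A x})).restrictScalars B
  refine Submodule.fg_of_fg_map_of_fg_inf_ker q (IsNoetherian.noetherian _) ?_
  have hk : W ⊓ LinearMap.ker q = J := by
    ext a
    simp only [Submodule.mem_inf, LinearMap.mem_ker, q, LinearMap.restrictScalars_apply,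
      Submodule.mkQ_apply, Submodule.Quotient.mk_eq_zero]
    exact ⟨fun h => h.2, fun h => ⟨hJ h, h⟩⟩
  rw [hk, hJ']
  exact Submodule.FG.map _ Module.Finite.fg_top

/-- Formanek's step in the proof of the Eakin–Nagata theorem -/
lemma isNoetherian_of_quotients [Module.Finite B A]
    (hquot : ∀ x : B, algebraMap B A x ≠ 0 → IsNoetherian B (A ⧸ Ideal.span {algebraMap B A x})) :
    IsNoetherian B A := by
  classical
  obtain ⟨s, hs⟩ := (Module.Finite.fg_top (R := B) (M := A))
  let Q : Set (Submodule B A) := {P | ∀ x : B, (∀ a : A, x • a ∈ P) → algebraMap B A x = 0}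
  have hQ0 : ⊥ ∈ Q := fun x hx => by
    have := hx 1
    rwa [Submodule.mem_bot, Algebra.smul_def, mul_one] at this
  obtain ⟨P, -, hP⟩ := zorn_le_nonempty₀ Q (fun c hc hchain y hy => by
    refine ⟨sSup c, fun x hx => ?_, fun z hz => le_sSup hz⟩
    have hdir : DirectedOn (· ≤ ·) c := hchain.directedOn
    obtain ⟨P, hPc, hPle⟩ : ∃ P ∈ c, ∀ a ∈ s, x • a ∈ P := by
      clear hs
      induction s using Finset.induction_on with
      | empty => exact ⟨y, hy, fun a ha => absurd ha (Finset.notMem_empty a)⟩
      | insert b t _ ih =>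
          obtain ⟨P, hPc, hP⟩ := ih
          obtain ⟨P', hPc', hb⟩ := (Submodule.mem_sSup_of_directed ⟨y, hy⟩ hdir).mp (hx b)
          obtain ⟨P'', hc'', h1, h2⟩ := hdir P hPc P' hPc'
          refine ⟨P'', hc'', fun a ha => ?_⟩
          rcases Finset.mem_insert.mp ha with rfl | ha
          exacts [h2 hb, h1 (hP a ha)]
    refine hc hPc x fun a => ?_
    have ha : a ∈ Submodule.span B (s : Set A) := by rw [hs]; trivial
    induction ha using Submodule.span_induction with
    | mem a ha => exact hPle a ha
    | zero => rw [smul_zero]; exact zero_mem _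
    | add a b _ _ iha ihb => rw [smul_add]; exact add_mem iha ihb
    | smul r a _ iha => rw [smul_comm]; exact Submodule.smul_mem _ r iha) ⊥ hQ0
  have hfaith : ∀ W : Submodule B A, P < W → ∃ x : B, algebraMap B A x ≠ 0 ∧ ∀ a : A, x • a ∈ W := by
    intro W hW
    by_contra h
    push Not at h
    refine hW.not_ge (hP.le_of_ge (fun x hx => ?_) hW.le)
    by_contra hne
    obtain ⟨a, ha⟩ := h x hne
    exact ha (hx a)
  haveI : IsNoetherian B (A ⧸ P) := by
    refine ⟨fun W => ?_⟩
    rcases eq_or_ne W ⊥ with rfl | hW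
    · exact Submodule.fg_bot
    have hlt : P < W.comap P.mkQ := by
      refine lt_of_le_of_ne (fun a ha => ?_) fun h => hW ?_
      · rw [Submodule.mem_comap, Submodule.mkQ_apply, (Submodule.Quotient.mk_eq_zero P).mpr ha]
        exact zero_mem _
      · rw [← Submodule.map_comap_eq_of_surjective P.mkQ_surjective W, ← h,
          Submodule.mkQ_map_self]
    rw [← Submodule.map_comap_eq_of_surjective P.mkQ_surjective W]
    exact (fg_of_lt P hquot hfaith _ hlt).map _
  -- the image of `B` in `A` is Noetherian
  let ψ : B →ₗ[B] (s → A ⧸ P) := LinearMap.pi fun g => LinearMap.toSpanSingleton B _ (P.mkQ g.1)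
  have hker : LinearMap.ker ψ ≤ LinearMap.ker (Algebra.linearMap B A) := fun x hx => by
    refine hP.prop x fun a => ?_
    have ha : a ∈ Submodule.span B (s : Set A) := by rw [hs]; trivial
    induction ha using Submodule.span_induction with
    | mem a ha =>
        have := congrFun hx ⟨a, ha⟩
        simpa [ψ, ← map_smul, Submodule.Quotient.mk_eq_zero, ← Submodule.Quotient.mk_smul] using this
    | zero => rw [smul_zero]; exact zero_mem _
    | add a b _ _ iha ihb => rw [smul_add]; exact add_mem iha ihb
    | smul r a _ iha => rw [smul_comm]; exact Submodule.smul_mem _ r iha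
  haveI : IsNoetherian B (B ⧸ LinearMap.ker ψ) := isNoetherian_of_linearEquiv ψ.quotKerEquivRange.symm
  let χ : (s → B ⧸ LinearMap.ker ψ) →ₗ[B] A :=
    LinearMap.lsum B (fun _ : s => B ⧸ LinearMap.ker ψ) B fun g =>
      (LinearMap.ker ψ).liftQ (LinearMap.toSpanSingleton B A g.1) fun x hx => by
        have := hker hx
        simp only [LinearMap.mem_ker, Algebra.linearMap_apply] at this
        simp [Algebra.smul_def, this]
  refine isNoetherian_of_surjective χ ?_
  refine eq_top_iff.mpr ?_
  rw [← hs, Submodule.span_le]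
  intro g hg
  refine ⟨Pi.single ⟨g, hg⟩ (Submodule.Quotient.mk 1), ?_⟩
  simp [χ, Pi.single_apply, apply_ite, Finset.sum_ite_eq']
  exact one_smul B g

lemma isNoetherianRing_of_finite [IsNoetherianRing A] [Module.Finite B A] [FaithfulSMul B A] :
    IsNoetherianRing B := by
  suffices h : IsNoetherian B A by
    haveI := h
    exact isNoetherian_of_injective (Algebra.linearMap B A) (FaithfulSMul.algebraMap_injective B A)
  by_contra h
  let S : Set (Ideal A) := {J | ∃ I : Ideal B, J = I.map (algebraMap B A) ∧ ¬ IsNoetherian B (A ⧸ J)}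
  have h0 : ⊥ ∈ S := ⟨⊥, Ideal.map_bot.symm, fun h' => h (by
    haveI := h'
    exact isNoetherian_of_linearEquiv ((Submodule.quotEquivOfEqBot (⊥ : Ideal A) rfl).restrictScalars B))⟩
  obtain ⟨J, ⟨I, rfl, hJ⟩, hmax⟩ := set_has_maximal_iff_noetherian.mpr
    (inferInstance : IsNoetherian A A) S ⟨⊥, h0⟩
  set J := I.map (algebraMap B A) with hJdef
  haveI : Module.Finite B (A ⧸ J) :=
    Module.Finite.of_surjective (Ideal.Quotient.mkₐ B J).toLinearMap Ideal.Quotient.mk_surjective
  refine hJ (isNoetherian_of_quotients fun x hx => ?_)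
  have hlt : J < (I ⊔ Ideal.span {x}).map (algebraMap B A) := by
    refine lt_of_le_of_ne (Ideal.map_mono le_sup_left) fun he => hx ?_
    rw [IsScalarTower.algebraMap_apply B A (A ⧸ J)]
    refine Ideal.Quotient.eq_zero_iff_mem.mpr ?_
    rw [he]
    exact Ideal.mem_map_of_mem _ (Ideal.mem_sup_right (Ideal.mem_span_singleton_self x))
  by_contra hn
  refine hmax _ ⟨I ⊔ Ideal.span {x}, rfl, fun h' => hn ?_⟩ hlt
  haveI := h'
  let e : ((A ⧸ J) ⧸ Ideal.span {algebraMap B (A ⧸ J) x}) ≃ₐ[B]
      A ⧸ (I ⊔ Ideal.span {x}).map (algebraMap B A) :=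
    (Ideal.quotientEquivAlgOfEq B (by
      rw [Ideal.map_span, Set.image_singleton]
      rfl)).trans ((DoubleQuot.quotQuotEquivQuotSupₐ B J (Ideal.span {algebraMap B A x})).trans
        (Ideal.quotientEquivAlgOfEq B (by
          rw [Ideal.map_sup, Ideal.map_span, Set.image_singleton])))
  exact isNoetherian_of_linearEquiv e.toLinearEquiv.symm

variable {G : Type u} [Group G] [Finite G] [MulSemiringAction G A] [FaithfulSMul G A]
  [SMulCommClass G B A]

lemma smul_algebraMap' (g : G) (b : B) : g • algebraMap B A b = algebraMap B A b := by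
  rw [Algebra.algebraMap_eq_smul_one, smul_comm, smul_one]

lemma smul_span_singleton' (g : G) (a : A) : g • Ideal.span {a} = Ideal.span {g • a} := by
  rw [Ideal.pointwise_smul_def, Ideal.map_span, Set.image_singleton]
  rfl

omit [SMulCommClass G B A] in
/-- the fixed subring of a subgroup, as a `B`-subalgebra -/
def fixedAlg (H : Subgroup G) [SMulCommClass G B A] : Subalgebra B A where
  carrier := {a | ∀ h ∈ H, h • a = a}
  mul_mem' {a b} ha hb := fun h hh => by rw [smul_mul', ha h hh, hb h hh]
  add_mem' {a b} ha hb := fun h hh => by rw [smul_add, ha h hh, hb h hh]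
  algebraMap_mem' b := fun h _ => smul_algebraMap' h b

lemma card_le_of_residue_trivial [IsDomain A] [Module.Finite B A] {π : A} (hπ : Prime π)
    (hres : ∀ a : A, ∃ b c : B, ¬ π ∣ algebraMap B A c ∧ π ∣ algebraMap B A c * a - algebraMap B A b)
    (H : Subgroup G) [Fintype H] (hH : ∀ h ∈ H, ∀ a : A, π ∣ h • a → π ∣ a)
    {x : B} {u : A} {e : ℕ} (he : e ≠ 0) (hu : ¬ π ∣ u) (hx : algebraMap B A x = π ^ e * u) :
    Fintype.card H ≤ e := by
  classical
  set C := fixedAlg (B := B) (A := A) H
  haveI : Module.Finite C A := Module.Finite.of_restrictScalars_finite B C A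
  -- approximate expansion in powers of π
  have step : ∀ (j : ℕ) (a : A), ∃ (c : B) (f : Fin j → B), ¬ π ∣ algebraMap B A c ∧
      π ^ j ∣ algebraMap B A c * a - ∑ i, algebraMap B A (f i) * π ^ (i : ℕ) := by
    intro j
    induction j with
    | zero => exact fun a => ⟨1, fun i => i.elim0, by simpa using hπ.not_dvd_one, by simp⟩
    | succ j ih =>
        intro a
        obtain ⟨c, f, hc, a', ha'⟩ := ih a
        obtain ⟨b, c', hc', a'', ha''⟩ := hres a'
        refine ⟨c' * c, Fin.snoc (fun i => c' * f i) b, ?_, a'', ?_⟩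
        · rw [map_mul]
          exact fun h => (hπ.dvd_or_dvd h).elim hc' hc
        · rw [Fin.sum_univ_castSucc]
          simp only [Fin.snoc_castSucc, Fin.snoc_last, Fin.val_castSucc, Fin.val_last, map_mul,
            mul_assoc, ← Finset.mul_sum]
          linear_combination (algebraMap B A c') * ha' + π ^ j * ha''
  let Nu : A := ∏ h : H, (h : G) • u
  have hNu : Nu ∈ C := fun k hk => by
    simp only [Nu, Finset.smul_prod', smul_smul]
    exact Fintype.prod_equiv (Equiv.mulLeft (⟨k, hk⟩ : H)) _ _ fun h => rfl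
  have hNu' : ¬ π ∣ Nu := fun h => by
    obtain ⟨k, -, hk⟩ := hπ.exists_mem_finset_dvd h
    exact hu (hH _ k.2 u hk)
  obtain ⟨r, hr⟩ : u ∣ Nu := by
    have := Finset.dvd_prod_of_mem (fun h : H => (h : G) • u) (Finset.mem_univ (1 : H))
    simpa using this
  -- span of powers
  let M : Submodule C A := Submodule.span C (Set.range fun i : Fin e => π ^ (i : ℕ))
  let xC : C := ⟨algebraMap B A x, C.algebraMap_mem x⟩
  let I : Ideal C := Ideal.span {xC}
  have key : ∀ a : A, ∃ d : C, ¬ π ∣ (d : A) ∧ ∃ m ∈ M, ∃ a', (d : A) * a = m + (xC : A) * a' := by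
    intro a
    obtain ⟨c, f, hc, a', ha'⟩ := step e a
    refine ⟨⟨Nu * algebraMap B A c, mul_mem hNu (C.algebraMap_mem c)⟩,
      fun h => (hπ.dvd_or_dvd h).elim hNu' hc,
      Nu * ∑ i, algebraMap B A (f i) * π ^ (i : ℕ), ?_, r * a', ?_⟩
    · rw [Finset.mul_sum]
      refine Submodule.sum_mem _ fun i _ => ?_
      rw [← mul_assoc]
      exact Submodule.smul_mem M (⟨_, mul_mem hNu (C.algebraMap_mem (f i))⟩ : C)
        (Submodule.subset_span ⟨i, rfl⟩)
    · simp only [xC, hx]
      linear_combination Nu * ha' + (π ^ e * a') * hr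
  obtain ⟨s, hs⟩ := (Module.Finite.fg_top (R := C) (M := A))
  choose dd hdd mm hmm aa haa using key
  let D : C := ∏ a ∈ s, dd a
  have hD : ¬ π ∣ (D : A) := fun h => by
    rw [SubmonoidClass.coe_finsetProd] at h
    obtain ⟨k, -, hk⟩ := hπ.exists_mem_finset_dvd h
    exact hdd k hk
  have hDA : ∀ a : A, D • a ∈ M ⊔ I • (⊤ : Submodule C A) := by
    intro a
    have ha : a ∈ Submodule.span C (s : Set A) := by rw [hs]; trivial
    induction ha using Submodule.span_induction with
    | mem a ha =>
        have : D = (∏ b ∈ s.erase a, dd b) * dd a := (Finset.prod_erase_mul _ _ ha).symm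
        rw [this, mul_smul]
        refine Submodule.smul_mem _ _ ?_
        rw [show dd a • a = mm a + xC • aa a from haa a]
        exact add_mem (Submodule.mem_sup_left (hmm a)) (Submodule.mem_sup_right
          (Submodule.smul_mem_smul (Ideal.mem_span_singleton_self _) Submodule.mem_top))
    | zero => rw [smul_zero]; exact zero_mem _
    | add a b _ _ iha ihb => rw [smul_add]; exact add_mem iha ihb
    | smul r a _ iha => rw [smul_comm]; exact Submodule.smul_mem _ r iha
  obtain ⟨P, hmon, -, hco, hP⟩ := LinearMap.exists_monic_and_coeff_mem_pow_and_aeval_eq_zero_of_range_le_smul C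
    (algebraMap C (Module.End C (A ⧸ M)) D) I (by
      rintro _ ⟨y, rfl⟩
      obtain ⟨a, rfl⟩ := M.mkQ_surjective y
      obtain ⟨m, hm, z, hz, hmz⟩ := Submodule.mem_sup.mp (hDA a)
      rw [Module.algebraMap_end_apply, ← map_smul, ← hmz, map_add,
        show M.mkQ m = 0 from (Submodule.Quotient.mk_eq_zero M).mpr hm, zero_add]
      have := Submodule.mem_map_of_mem (f := M.mkQ) hz
      rw [Submodule.map_smul''] at this
      exact Submodule.smul_mono le_rfl le_top this)
  let d : C := P.eval D
  have hd : ∀ a : A, d • a ∈ M := fun a => by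
    have := LinearMap.congr_fun hP (M.mkQ a)
    rw [Polynomial.aeval_algebraMap_apply_eq_algebraMap_eval, Module.algebraMap_end_apply,
      LinearMap.zero_apply, ← map_smul] at this
    exact (Submodule.Quotient.mk_eq_zero M).mp this
  have hd0 : ¬ π ∣ (d : A) := by
    intro h
    have hdiff : π ∣ (d : A) - (D : A) ^ P.natDegree := by
      rw [show (d : A) = ((∑ i ∈ Finset.range (P.natDegree + 1), P.coeff i * D ^ i : C) : A) from
        congrArg Subtype.val (Polynomial.eval_eq_sum_range D), Finset.sum_range_succ, hmon.coeff_natDegree]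
      simp only [one_mul, AddMemClass.coe_add, SubmonoidClass.coe_pow, add_sub_cancel_right,
        AddSubmonoidClass.coe_finsetSum, MulMemClass.coe_mul]
      refine Finset.dvd_sum fun i hi => Dvd.dvd.mul_right ?_ _
      have hmem : P.coeff i ∈ I :=
        Ideal.pow_le_self (by have := Finset.mem_range.mp hi; omega) (hco i)
      obtain ⟨c, hc⟩ := Ideal.mem_span_singleton.mp hmem
      rw [hc, MulMemClass.coe_mul]
      refine Dvd.dvd.mul_right ?_ _
      rw [show (xC : A) = π ^ e * u from hx]
      exact Dvd.dvd.mul_right (dvd_pow_self π he) u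
    exact hD (hπ.dvd_of_dvd_pow ((dvd_sub_right h).mp hdiff))
  -- independence of characters
  by_contra hlt
  push Not at hlt
  let K := FractionRing A
  let χ : H → (A →* K) := fun h =>
    ((algebraMap A K).comp (MulSemiringAction.toRingHom G A (h : G))).toMonoidHom
  have hχ : Function.Injective χ := fun h k hk => by
    refine Subtype.ext (eq_of_smul_eq_smul fun a : A => ?_)
    exact IsFractionRing.injective A K (DFunLike.congr_fun hk a)
  let w : H → (Fin e → K) := fun h i => χ h (π ^ (i : ℕ))
  have hw : ¬ LinearIndependent K w := fun h => by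
    have := h.fintype_card_le_finrank
    rw [Module.finrank_fin_fun] at this
    omega
  obtain ⟨l, hl, h0, hl0⟩ := Fintype.not_linearIndependent_iff.mp hw
  refine hl0 ?_
  refine Fintype.linearIndependent_iff.mp ((linearIndependent_monoidHom A K).comp χ hχ) l ?_ h0
  funext a
  have hdne : algebraMap A K (d : A) ≠ 0 := fun h => hd0 (by
    rw [IsFractionRing.injective A K (h.trans (map_zero _).symm)]
    exact dvd_zero π)
  have hlin : ∀ b ∈ M, ∑ h : H, l h * χ h b = 0 := by
    intro b hb
    induction hb using Submodule.span_induction with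
    | mem b hb =>
        obtain ⟨i, rfl⟩ := hb
        have := congrFun hl i
        simpa [w] using this
    | zero => simp [χ]
    | add a b _ _ iha ihb => simp [χ, mul_add, Finset.sum_add_distrib] at iha ihb ⊢; simp [iha, ihb]
    | smul r a _ iha =>
        have : ∀ h : H, χ h (r • a) = algebraMap A K (r : A) * χ h a := fun h => by
          change algebraMap A K ((h : G) • ((r : A) * a)) = algebraMap A K (r : A) * algebraMap A K ((h : G) • a)
          rw [smul_mul', r.2 _ h.2, map_mul]
        simp only [this, mul_left_comm (l _), ← Finset.mul_sum, iha, mul_zero]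
  have := hlin _ (hd a)
  have hsm : ∀ h : H, χ h (d • a) = algebraMap A K (d : A) * χ h a := fun h => by
    change algebraMap A K ((h : G) • ((d : A) * a)) = algebraMap A K (d : A) * algebraMap A K ((h : G) • a)
    rw [smul_mul', d.2 _ h.2, map_mul]
  simp only [hsm, mul_left_comm (l _), ← Finset.mul_sum, mul_eq_zero, hdne, false_or] at this
  simpa [Finset.sum_apply] using this

end helpers

/-- Let A be a Noetherian factorial local domain and G a finite group acting faithfully on A by ring
automorphisms; let B be a ring with an injective ring map to A whose image is exactly the ring of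
invariants of G, and assume A is a finite B-module. Let q be a prime ideal of B of height one and p
a prime ideal of A lying over q such that the extension of residue fields of the local rings B_q and
A_p is trivial (every element of A is congruent modulo p to some c⁻¹b with b, c in B, c outside q).
Then q is a principal ideal; and if moreover B/q is a regular local ring, then B is a regular local
ring. -/
theorem result
    {A B G : Type u} [CommRing A] [IsDomain A] [IsNoetherianRing A] [IsLocalRing A]
    [UniqueFactorizationMonoid A]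
    [CommRing B] [Algebra B A] [FaithfulSMul B A] [Module.Finite B A]
    [Group G] [Finite G] [MulSemiringAction G A] [FaithfulSMul G A] [SMulCommClass G B A]
    [Algebra.IsInvariant B A G]
    (q : Ideal B) [q.IsPrime] (hq : q.height = 1) (p : Ideal A) [p.IsPrime] [p.LiesOver q]
    (hres : ∀ a : A, ∃ b c : B, c ∉ q ∧ algebraMap B A c * a - algebraMap B A b ∈ p) :
    Submodule.IsPrincipal q ∧ (IsRegularLocalRing (B ⧸ q) → IsRegularLocalRing B) := by
  classical
  haveI : Fintype G := Fintype.ofFinite G
  haveI : Algebra.IsIntegral B A := Algebra.IsIntegral.of_finite B A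
  have hinj := FaithfulSMul.algebraMap_injective B A
  haveI : IsDomain B := Function.Injective.isDomain (algebraMap B A) hinj
  haveI : IsNoetherianRing B := isNoetherianRing_of_finite (A := A)
  have hpq : ∀ b : B, algebraMap B A b ∈ p ↔ b ∈ q := fun b => (p.mem_of_liesOver q b).symm
  have hq0 : q ≠ ⊥ := fun h => by
    rw [Ideal.height_eq_zero_iff_eq_bot.mpr h] at hq
    exact zero_ne_one hq
  have hp0 : p ≠ ⊥ := fun h => hq0 (by
    rw [eq_bot_iff]
    intro b hb
    have := (hpq b).mpr hb
    rw [h, Ideal.mem_bot, ← map_zero (algebraMap B A)] at this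
    exact hinj this)
  obtain ⟨π, hπp, hπ⟩ := Ideal.IsPrime.exists_mem_prime_of_ne_bot ‹_› hp0
  haveI hP0 : (Ideal.span {π}).IsPrime := (Ideal.span_singleton_prime hπ.ne_zero).mpr hπ
  have hpπ : p = Ideal.span {π} := by
    by_contra hne
    have hle : Ideal.span {π} ≤ p := (Ideal.span_singleton_le_iff_mem _).mpr hπp
    obtain ⟨y, hy, hy'⟩ := SetLike.exists_of_lt (lt_of_le_of_ne hle (Ne.symm hne))
    have hlt := Ideal.comap_lt_comap_of_integral_mem_sdiff (R := B) hle ⟨hy, hy'⟩
      (Algebra.IsIntegral.isIntegral y)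
    rw [show p.comap (algebraMap B A) = q from Ideal.ext hpq] at hlt
    have h1 := Ideal.height_strict_mono_of_isPrime (I := (Ideal.span {π}).comap (algebraMap B A)) hlt
    rw [hq, Order.lt_one_iff, Ideal.height_eq_zero_iff_eq_bot] at h1
    refine hπ.ne_zero ?_
    have := Ideal.eq_bot_of_comap_eq_bot (R := B) h1
    rwa [Ideal.span_singleton_eq_bot] at this
  have hmem : ∀ a, a ∈ p ↔ π ∣ a := fun a => by rw [hpπ, Ideal.mem_span_singleton]
  let H : Subgroup G := MulAction.stabilizer G p
  have hH : ∀ h ∈ H, ∀ a : A, π ∣ h • a → π ∣ a := fun h hh a ha => by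
    rw [← hmem] at ha ⊢
    rw [← show h • p = p from MulAction.mem_stabilizer_iff.mp hh] at ha
    exact Ideal.smul_mem_pointwise_smul_iff.mp ha
  have hdiv : ∀ x ∈ q, ∀ g : G, (g • π) ^ Fintype.card H ∣ algebraMap B A x := by
    intro x hx g
    suffices h : π ^ Fintype.card H ∣ algebraMap B A x by
      obtain ⟨r, hr⟩ := h
      exact ⟨g • r, by rw [← smul_pow', ← smul_mul', ← hr, smul_algebraMap']⟩
    rcases eq_or_ne x 0 with rfl | hx0
    · rw [map_zero]; exact dvd_zero _
    obtain ⟨e, u, hu, hxu⟩ := WfDvdMonoid.max_power_factor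
      (show algebraMap B A x ≠ 0 from fun h => hx0 (hinj (h.trans (map_zero _).symm))) hπ.irreducible
    have he : e ≠ 0 := fun h => hu (by
      have := (hmem _).mp ((hpq x).mpr hx)
      rwa [hxu, h, pow_zero, one_mul] at this)
    refine (pow_dvd_pow π (card_le_of_residue_trivial hπ (fun a => ?_) H hH he hu hxu)).trans ⟨u, hxu⟩
    obtain ⟨b, c, hc, hbc⟩ := hres a
    exact ⟨b, c, fun h => hc ((hpq c).mp ((hmem _).mpr h)), (hmem _).mp hbc⟩
  -- the norm of π
  obtain ⟨n, hn⟩ := Algebra.IsInvariant.isInvariant (A := B) (G := G) (∏ g : G, g • π) (fun k => by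
    rw [Finset.smul_prod']
    exact Fintype.prod_equiv (Equiv.mulLeft k) _ _ fun g => smul_smul k g π)
  have hnq : n ∈ q := by
    rw [← hpq, hn]
    exact Ideal.IsPrime.prod_mem_iff.mpr ⟨1, Finset.mem_univ _, by rwa [one_smul]⟩
  have hn0 : algebraMap B A n ≠ 0 := by
    rw [hn, Finset.prod_ne_zero_iff]
    exact fun g _ h => hπ.ne_zero (by simpa using congrArg (g⁻¹ • ·) h)
  have hprime : ∀ g : G, Prime (g • π) := fun g =>
    (MulEquiv.prime_iff (MulSemiringAction.toRingEquiv G A g).toMulEquiv).mpr hπ
  have hdvd : ∀ x ∈ q, algebraMap B A n ∣ algebraMap B A x := by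
    intro x hx
    rw [hn, ← Finset.prod_fiberwise_of_maps_to (t := Finset.univ.image fun g : G => g • p)
      (g := fun g : G => g • p) (fun g _ => Finset.mem_image_of_mem _ (Finset.mem_univ g))]
    refine Finset.prod_dvd_of_isRelPrime (fun P hP P' hP' hne => ?_) (fun P hP => ?_)
    · refine IsRelPrime.prod_left fun g hg => IsRelPrime.prod_right fun g' hg' => ?_
      refine (hprime g).irreducible.isRelPrime_iff_not_dvd.mpr fun h => hne ?_
      rw [← (Finset.mem_filter.mp hg).2, ← (Finset.mem_filter.mp hg').2, hpπ, smul_span_singleton',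
        smul_span_singleton']
      exact Ideal.span_singleton_eq_span_singleton.mpr ((hprime g).associated_of_dvd (hprime g') h)
    · obtain ⟨g0, -, rfl⟩ := Finset.mem_image.mp hP
      refine dvd_trans ?_ (hdiv x hx g0)
      refine (Finset.prod_dvd_prod_of_dvd _ (fun _ => g0 • π) fun g hg => ?_).trans ?_
      · have h1 := (Finset.mem_filter.mp hg).2
        rw [hpπ, smul_span_singleton', smul_span_singleton', Ideal.span_singleton_eq_span_singleton] at h1
        exact h1.dvd
      · rw [Finset.prod_const]
        refine pow_dvd_pow _ (le_of_eq ?_)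
        rw [← Finset.card_univ]
        refine Finset.card_bij (fun g hg => (⟨g0⁻¹ * g, MulAction.mem_stabilizer_iff.mpr (by
          rw [mul_smul, (Finset.mem_filter.mp hg).2, inv_smul_smul])⟩ : H))
          (fun _ _ => Finset.mem_univ _) (fun a _ b _ h => mul_left_cancel (congrArg Subtype.val h))
          (fun h _ => ⟨g0 * h, Finset.mem_filter.mpr ⟨Finset.mem_univ _, by
            rw [mul_smul, show (h : G) • p = p from MulAction.mem_stabilizer_iff.mp h.2]⟩,
            Subtype.ext (inv_mul_cancel_left g0 h)⟩)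
  have hqn : q = Ideal.span {n} := by
    refine le_antisymm (fun x hx => ?_) ((Ideal.span_singleton_le_iff_mem _).mpr hnq)
    obtain ⟨a, ha⟩ := hdvd x hx
    obtain ⟨b, rfl⟩ := Algebra.IsInvariant.isInvariant (A := B) (G := G) a (fun g => by
      refine mul_left_cancel₀ hn0 ?_
      rw [← ha]
      nth_rewrite 1 [← smul_algebraMap' g n]
      rw [← smul_mul', ← ha, smul_algebraMap'])
    exact Ideal.mem_span_singleton.mpr ⟨b, hinj (by rw [map_mul]; exact ha)⟩
  refine ⟨⟨⟨n, hqn⟩⟩, fun hreg => ?_⟩
  haveI : Nontrivial B := inferInstance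
  haveI : IsLocalRing B := by
    haveI hl : IsLocalHom (algebraMap B A) := RingHom.IsIntegral.isLocalHom
      (fun a => Algebra.IsIntegral.isIntegral a) hinj
    exact IsLocalRing.of_nonunits_add fun a b ha hb h => by
      rcases IsLocalRing.isUnit_or_isUnit_of_isUnit_add (by
        rw [← map_add]; exact h.map (algebraMap B A) :
          IsUnit (algebraMap B A a + algebraMap B A b)) with h' | h'
      exacts [ha (isUnit_of_map_unit _ _ h'), hb (isUnit_of_map_unit _ _ h')]
  haveI : IsRegularLocalRing (B ⧸ Ideal.span ({n} : Set B)) := by rw [← hqn]; exact hreg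
  refine Groth.Agent.S0560.result B n (IsLocalRing.le_maximalIdeal ‹q.IsPrime›.ne_top hnq)
    (mem_nonZeroDivisors_of_ne_zero fun h => hn0 ?_)
  rw [h, map_zero]

end Groth.Agent.S16547
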