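import Groth.Statements.S16438
import Groth.Agent.HenselConn.Lift
import Groth.Agent.EssEtLib.Trans
import Mathlib

set_option autoImplicit false
universe u
open EGA4loc

namespace Groth.Agent.S16438

open IsLocalRing

open IsLocalRing in
/-- Let A be a Noetherian local ring with maximal ideal m, S a strict henselization of A, and D an
A-subalgebra of S which is a local ring dominated by S (the inclusion is local), essentially of
finite type over A, and such that m D is the maximal ideal of D. Then D is an essentially etale
local A-algebra: A-isomorphic to the localization of an etale A-algebra at a prime over m. (The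
published statement also assumes the total ring of fractions of D finitely generated over that of A;
for D essentially of finite type over A and dominated by S this is automatic, D then lying in a
local etale subextension of S, so that hypothesis is omitted here.) -/
theorem result
    (A S : Type u) [CommRing A] [IsLocalRing A] [IsNoetherianRing A]
    [CommRing S] [IsLocalRing S] [Algebra A S] [IsLocalHom (algebraMap A S)]
    [Hensel.IsStrictHenselization A S] (D : Subalgebra A S) [IsLocalRing D]
    [IsLocalHom (algebraMap D S)] [Algebra.EssFiniteType A D]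
    (hm : Ideal.map (algebraMap A D) (maximalIdeal A) = maximalIdeal D) :
    EGA4loc.IsEssentiallyEtale A D := by
  haveI hloc : IsLocalHom (algebraMap A D) := ⟨fun a ha => by
    have := ha.map (algebraMap D S)
    rw [← IsScalarTower.algebraMap_apply] at this
    exact (isUnit_map_iff (algebraMap A S) a).1 this⟩
  haveI := (Hensel.IsStrictHenselization.isSepClosure (R := A) (S := S)).separable
  let j : ResidueField D →ₐ[ResidueField A] ResidueField S :=
    { IsLocalRing.ResidueField.map (algebraMap D S) with
      commutes' := fun r => by
        obtain ⟨r, rfl⟩ := residue_surjective r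
        change IsLocalRing.ResidueField.map (algebraMap D S) (residue D (algebraMap A D r)) = residue S (algebraMap A S r)
        rw [IsLocalRing.ResidueField.map_residue, ← IsScalarTower.algebraMap_apply] }
  haveI : Algebra.IsSeparable (ResidueField A) (ResidueField D) := Algebra.IsSeparable.of_algHom _ _ j
  haveI : Algebra.FormallyUnramified A D := Algebra.FormallyUnramified.iff_map_maximalIdeal_eq.2 ⟨inferInstance, hm⟩
  let C := Algebra.EssFiniteType.subalgebra A D
  haveI : IsLocalization.AtPrime D ((maximalIdeal D).comap (algebraMap C D)) :=
    Groth.Agent.EssEtLib.atPrime_of_isLocalization (Algebra.EssFiniteType.submonoid A D)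
  let Q := (maximalIdeal D).comap (algebraMap C D)
  haveI : Algebra.IsUnramifiedAt A Q :=
    Algebra.FormallyUnramified.of_equiv ((IsLocalization.algEquiv Q.primeCompl D (Localization.AtPrime Q)).restrictScalars A)
  obtain ⟨f, hfQ, P, φ, hφ⟩ := Algebra.IsUnramifiedAt.exists_hasStandardEtaleSurjectionOn (R := A) (Q := Q)
  let σ : Localization.Away f →ₐ[A] D := IsLocalization.liftAlgHom (M := Submonoid.powers f)
    (f := IsScalarTower.toAlgHom A C D) (fun y => by
      obtain ⟨n, hn⟩ := y.2
      rw [← hn, map_pow]
      exact (IsLocalization.map_units D (⟨f, hfQ⟩ : Q.primeCompl)).pow n)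
  have hσ : ∀ c, σ (algebraMap C _ c) = algebraMap C D c := fun c => by
    simp [σ]
  let ρ : P.Ring →ₐ[A] D := σ.comp φ
  let q := (maximalIdeal D).comap ρ.toRingHom
  have hqA : q.comap (algebraMap A P.Ring) = maximalIdeal A := by
    rw [Ideal.comap_comap, show ρ.toRingHom.comp (algebraMap A P.Ring) = algebraMap A D from ρ.comp_algebraMap]
    exact IsLocalRing.maximalIdeal_comap (algebraMap A D)
  let ρE : Localization.AtPrime q →ₐ[A] D := IsLocalization.liftAlgHom (M := q.primeCompl) (f := ρ)
    (fun y => IsLocalRing.notMem_maximalIdeal.1 y.2)
  have hρE : ∀ x, ρE (algebraMap _ _ x) = ρ x := fun x => by simp [ρE]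
  have hρsurj : Function.Surjective ρE := by
    intro d
    obtain ⟨⟨c, s⟩, hcs⟩ := IsLocalization.surj Q.primeCompl d
    obtain ⟨pc, hpc⟩ := hφ (algebraMap C _ c)
    obtain ⟨ps, hps⟩ := hφ (algebraMap C _ (s : C))
    have e1 : ρ pc = algebraMap C D c := by simp only [ρ, AlgHom.comp_apply, hpc, hσ]
    have e2 : ρ ps = algebraMap C D s := by simp only [ρ, AlgHom.comp_apply, hps, hσ]
    have hu : ps ∈ q.primeCompl := by
      show ¬ ρ ps ∈ maximalIdeal D
      rw [e2]
      exact IsLocalRing.notMem_maximalIdeal.2 (IsLocalization.map_units D s)
    refine ⟨IsLocalization.mk' (Localization.AtPrime q) pc ⟨ps, hu⟩, ?_⟩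
    have hm' := congrArg ρE (IsLocalization.mk'_spec (Localization.AtPrime q) pc ⟨ps, hu⟩)
    rw [map_mul, hρE, hρE, e1, e2] at hm'
    exact (IsLocalization.map_units D s).mul_right_cancel (hm'.trans hcs.symm)
  letI : Algebra (Localization.AtPrime q) S := ((algebraMap D S).comp ρE.toRingHom).toAlgebra
  haveI : IsScalarTower A (Localization.AtPrime q) S := IsScalarTower.of_algebraMap_eq fun a => by
    change algebraMap A S a = algebraMap D S (ρE (algebraMap A _ a))
    rw [ρE.commutes, ← IsScalarTower.algebraMap_apply]
  haveI : IsLocalHom ρE.toRingHom := hρsurj.isLocalHom ρE.toRingHom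
  haveI : IsLocalHom (algebraMap (Localization.AtPrime q) S) := RingHom.isLocalHom_comp _ _
  haveI : Algebra.Etale A P.Ring := inferInstance
  haveI : Algebra.FormallyUnramified P.Ring (Localization.AtPrime q) :=
    Algebra.FormallyUnramified.of_isLocalization q.primeCompl
  haveI : Algebra.FormallyUnramified A (Localization.AtPrime q) := Algebra.FormallyUnramified.comp A P.Ring _
  haveI : Algebra.EssFiniteType P.Ring (Localization.AtPrime q) :=
    Algebra.EssFiniteType.of_isLocalization _ q.primeCompl
  haveI : Algebra.EssFiniteType A (Localization.AtPrime q) := Algebra.EssFiniteType.comp A P.Ring _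
  haveI : Module.Flat A S := Groth.Agent.HenselConn.flat_strict A S
  haveI : Module.Flat (Localization.AtPrime q) S :=
    Algebra.FormallyUnramified.flat_of_restrictScalars A (Localization.AtPrime q) S
  haveI : Module.FaithfullyFlat (Localization.AtPrime q) S := Module.FaithfullyFlat.of_flat_of_isLocalHom
  have hinj : Function.Injective ρE := fun x y h =>
    FaithfulSMul.algebraMap_injective (Localization.AtPrime q) S (congrArg (algebraMap D S) h)
  exact ⟨P.Ring, inferInstance, inferInstance, q, inferInstance, inferInstance, hqA,
    ⟨(AlgEquiv.ofBijective ρE ⟨hinj, hρsurj⟩).symm⟩⟩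

end Groth.Agent.S16438
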