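import Groth.Statements.S2136
import Mathlib
import Groth.Agent.UnibEtale.Surj

set_option autoImplicit false
universe u
open CAlg

namespace Groth.Agent.S2136

/-- Let `A` be a domain, `A → B` a ring map of finite type, and `𝔮` a prime of `B` lying over `𝔭 ⊆ A`,
with `A_𝔭` geometrically unibranch, `A → B` unramified at `𝔮` and `A_𝔭 → B_𝔮` injective. Then `B_g`
is étale over `A` for some `g ∉ 𝔮`. (`B` is assumed of finite type over `A` throughout; the
published statement needs this only after inverting an element outside `𝔮`.) -/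
theorem result {A B : Type u} [CommRing A] [IsDomain A] [CommRing B]
    [Algebra A B] (q : Ideal B) [q.IsPrime] (p : Ideal A) [p.IsPrime] [q.LiesOver p]
    (hA : CAlg2.IsGeomUnibranch (Localization.AtPrime p)) [Algebra.FiniteType A B] [Algebra.IsUnramifiedAt A q]
    (hinj : Function.Injective (Localization.localRingHom p q (algebraMap A B) (q.over_def p))) :
    ∃ g : B, g ∉ q ∧ Algebra.Etale A (Localization.Away g) := by
  classical
  haveI hd : IsDomain (Localization.AtPrime p) :=
    IsLocalization.isDomain_of_atPrime (Localization.AtPrime p) p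
  obtain ⟨f, hf, P, φ, q', hq', hφ, hker, hp', hrel, -, -, -⟩ :=
    UnibEtale.unramified_point A B q p (q.over_def p) hd hA hinj
  haveI := hq'
  haveI hLd : IsDomain (Localization.AtPrime q') := (UnibEtale.atPrime_of_etale A P.Ring p q' hp' hA).2 hd
  -- the étale algebra is reduced with finitely many minimal primes
  let T := TensorProduct A P.Ring (FractionRing A)
  let j : P.Ring →+* T := Algebra.TensorProduct.includeLeftRingHom
  have hj : Function.Injective j :=
    Algebra.TensorProduct.includeLeft_injective (R := A) (S := A) (B := FractionRing A)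
      (IsFractionRing.injective A (FractionRing A))
  letI : Algebra (FractionRing A) T := Algebra.TensorProduct.rightAlgebra
  haveI : Algebra.Etale (FractionRing A) T := Algebra.Etale.of_equiv
    (Algebra.TensorProduct.commRight A (FractionRing A) P.Ring)
  haveI : Module.Finite (FractionRing A) T := Algebra.FormallyUnramified.finite_of_free (FractionRing A) T
  haveI : IsArtinianRing T := isArtinian_of_tower (FractionRing A) inferInstance
  haveI : IsReduced T := Algebra.FormallyUnramified.isReduced_of_field (FractionRing A) T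
  haveI : IsReduced P.Ring := isReduced_of_injective j hj
  have hfin : (minimalPrimes P.Ring).Finite := by
    refine ((Set.finite_range (fun Q : PrimeSpectrum T => Q.asIdeal.comap j))).subset fun p0 hp0 => ?_
    have h0 : (⊥ : Ideal T).comap j = ⊥ := (RingHom.injective_iff_ker_eq_bot j).1 hj
    obtain ⟨Q, hQ, hQp⟩ := Ideal.exists_minimalPrimes_comap_eq (I := (⊥ : Ideal T)) j p0 (by rwa [h0])
    exact ⟨⟨Q, hQ.1.1⟩, hQp⟩
  -- the kernel of the map to the local ring is killed by an element outside `q'`
  set K := RingHom.ker (algebraMap P.Ring (Localization.AtPrime q')) with hK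
  haveI : K.IsPrime := RingHom.ker_isPrime _
  obtain ⟨e, he, heK⟩ : ∃ e, e ∉ q' ∧ ∀ x ∈ K, e * x = 0 := by
    have hmin : ∀ p0 : Ideal P.Ring, ¬ p0 ≤ q' → ∃ c, c ∈ p0 ∧ c ∉ q' := fun p0 h =>
      SetLike.not_le_iff_exists.1 h
    choose! c hc hc' using hmin
    refine ⟨∏ p0 ∈ hfin.toFinset with ¬ p0 ≤ q', c p0, fun h => ?_, fun x hx => ?_⟩
    · obtain ⟨p0, hp0, hcp⟩ := Ideal.IsPrime.prod_mem_iff.1 h
      rw [Finset.mem_filter] at hp0
      exact hc' p0 hp0.2 hcp
    · refine IsNilpotent.eq_zero (mem_nilradical.1 ?_)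
      rw [nilradical_eq_sInf, Submodule.mem_sInf]
      intro (p0 : Ideal P.Ring) hp0'
      haveI : p0.IsPrime := hp0'
      obtain ⟨m, hm, hmle⟩ := Ideal.exists_minimalPrimes_le (I := (⊥ : Ideal P.Ring)) (J := p0) bot_le
      refine hmle ?_
      by_cases hle : m ≤ q'
      · refine m.mul_mem_left _ ?_
        obtain ⟨d, hd'⟩ := (IsLocalization.map_eq_zero_iff q'.primeCompl (Localization.AtPrime q') x).1 hx
        exact (hm.1.1.mem_or_mem (hd' ▸ m.zero_mem : (d : P.Ring) * x ∈ m)).resolve_left fun h => d.2 (hle h)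
      · refine m.mul_mem_right _ ?_
        have hmem : m ∈ hfin.toFinset.filter (fun p0 => ¬ p0 ≤ q') := Finset.mem_filter.2 ⟨hfin.mem_toFinset.2 hm, hle⟩
        exact Ideal.prod_mem m hmem (hc m hle)
  -- the basic open
  obtain ⟨⟨s, ⟨_, k, rfl⟩⟩, hs⟩ := IsLocalization.surj (Submonoid.powers f) (φ e)
  have hsq : s ∉ q := fun h => he ((hrel e s k hs).1 h)
  refine ⟨f * s, fun h => (Ideal.IsPrime.mem_or_mem ‹q.IsPrime› h).elim hf hsq, ?_⟩
  -- `B_(fs)` is a localization of the étale algebra
  let Bf := Localization.Away f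
  let Bg := Localization.Away (algebraMap B Bf s)
  letI : Algebra P.Ring Bg := ((algebraMap Bf Bg).comp φ.toRingHom).toAlgebra
  haveI : IsScalarTower A P.Ring Bg := .of_algebraMap_eq fun a =>
    (IsScalarTower.algebraMap_apply A Bf Bg a).trans (congrArg _ (φ.commutes a).symm)
  haveI : IsLocalization.Away (φ e) Bg := by
    refine IsLocalization.Away.of_associated (r := algebraMap B Bf s) ?_
    exact ⟨((IsLocalization.Away.algebraMap_isUnit (S := Bf) f).pow k).unit⁻¹, by
      rw [Units.mul_inv_eq_iff_eq_mul, IsUnit.unit_spec, ← map_pow]; exact hs.symm⟩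
  haveI : IsLocalization.Away e Bg := by
    refine { map_units := ?_, surj := fun z => ?_, exists_of_eq := fun {x y} hxy => ?_ }
    · rintro ⟨_, n, rfl⟩
      change IsUnit (algebraMap Bf Bg (φ (e ^ n)))
      rw [map_pow, map_pow]
      exact (IsLocalization.Away.algebraMap_isUnit (φ e)).pow n
    · obtain ⟨⟨w, ⟨_, n, rfl⟩⟩, hw⟩ := IsLocalization.surj (Submonoid.powers (φ e)) z
      obtain ⟨x, rfl⟩ := hφ w
      exact ⟨(x, ⟨e ^ n, n, rfl⟩), by
        change z * algebraMap Bf Bg (φ (e ^ n)) = algebraMap Bf Bg (φ x)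
        rw [map_pow]; exact hw⟩
    · obtain ⟨⟨_, n, rfl⟩, hn⟩ := IsLocalization.exists_of_eq (M := Submonoid.powers (φ e)) (S := Bg)
        (x := φ x) (y := φ y) hxy
      refine ⟨⟨e ^ (n + 1), n + 1, rfl⟩, sub_eq_zero.1 ?_⟩
      change e ^ (n + 1) * x - e ^ (n + 1) * y = 0
      rw [show e ^ (n + 1) * x - e ^ (n + 1) * y = e * (e ^ n * x - e ^ n * y) by ring]
      refine heK _ (hker _ ?_)
      rw [map_sub, map_mul, map_mul, map_pow, sub_eq_zero]
      exact hn
  haveI : Algebra.Etale P.Ring Bg := Algebra.Etale.of_isLocalizationAway e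
  haveI : Algebra.Etale A Bg := Algebra.Etale.comp A P.Ring Bg
  haveI : IsLocalization.Away (f * s) Bg := inferInstance
  exact Algebra.Etale.of_equiv
    ((IsLocalization.algEquiv (Submonoid.powers (f * s)) Bg (Localization.Away (f * s))).restrictScalars A)

end Groth.Agent.S2136
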