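import Groth.Statements.S0385
import Mathlib
import Groth.Agent.QCohAlg.FinFactor

set_option autoImplicit false
universe u
open FlatMor

namespace Groth.Agent.S0385

open AlgebraicGeometry CategoryTheory Limits in
/-- Zariski's Main Theorem in its finite-factorization form (Mathlib already has the open immersion into
the integral relative normalization; the content here is replacing integral by finite): a
quasi-finite separated morphism (locally of finite type, quasi-compact, with finite fibres) to a
quasi-compact quasi-separated scheme is a quasi-compact open immersion followed by a finite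
morphism. -/
theorem result {X S : Scheme.{u}} (f : X ⟶ S) [CompactSpace S] [QuasiSeparatedSpace S] [LocallyQuasiFinite f] [LocallyOfFiniteType f] [QuasiCompact f] [IsSeparated f] :
    ∃ (T : Scheme.{u}) (j : X ⟶ T) (π : T ⟶ S), IsOpenImmersion j ∧ QuasiCompact j ∧ IsFinite π ∧ j ≫ π = f := by
  haveI : CompactSpace X := QuasiCompact.compactSpace_of_compactSpace f
  set W := f.toNormalization.opensRange with hWdef
  have hWc : IsCompact (W : Set f.normalization) := by
    rw [hWdef, Scheme.Hom.coe_opensRange]; exact isCompact_range f.toNormalization.continuous
  haveI : LocallyOfFiniteType (W.ι ≫ f.fromNormalization) := by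
    have e : W.ι ≫ f.fromNormalization = f.toNormalization.isoOpensRange.inv ≫ f := by
      rw [Iso.eq_inv_comp]
      show f.toNormalization.isoOpensRange.hom ≫ f.toNormalization.opensRange.ι ≫ _ = _
      rw [Scheme.Hom.isoOpensRange_hom_ι_assoc, Scheme.Hom.toNormalization_fromNormalization]
    rw [e]; infer_instance
  obtain ⟨T, r, p, W', hp, hrp, hW, hiso, -⟩ := Groth.Agent.QCohAlg.exists_finite_factor f.fromNormalization W hWc
  haveI := hp
  haveI := hiso
  have ho : IsOpenImmersion (W.ι ≫ r) := by
    rw [← hW, ← morphismRestrict_ι]; infer_instance
  haveI : IsOpenImmersion (f.toNormalization ≫ r) := by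
    rw [← Scheme.Hom.isoOpensRange_hom_ι f.toNormalization, Category.assoc]
    exact MorphismProperty.RespectsIso.precomp (P := @IsOpenImmersion) _ _ ho
  haveI : QuasiSeparatedSpace T := quasiSeparatedSpace_of_quasiSeparated p
  refine ⟨T, f.toNormalization ≫ r, p, inferInstance, inferInstance, hp, ?_⟩
  rw [Category.assoc, hrp, Scheme.Hom.toNormalization_fromNormalization]

end Groth.Agent.S0385
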