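import Groth.Statements.S0653
import Groth.Agent.EtFound.FiniteStalk
import Groth.Agent.EtFound.AbRecollement
import Groth.Agent.EtFound.ExtZeroBC
import Groth.Agent.EtFound.ExtZeroExact
import Mathlib.FieldTheory.IsAlgClosed.AlgebraicClosure
-- import your own Groth.Agent.* helpers here

set_option autoImplicit false
open CategoryTheory CategoryTheory.Limits AlgebraicGeometry Opposite
universe u
open EtCore

namespace Groth.Agent.S0653

/-- Consider a cartesian square U = X x_Y V with f : X -> Y finite, j : V -> Y an open immersion, j' : U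
-> X and g : U -> V the projections. Then for every abelian sheaf F on the small etale site of U,
f_* j'_! F is isomorphic to j_! g_* F. (The source also asserts functoriality in F; only the
objectwise isomorphism is stated.) (Continuity of the composition functor of etale sites, which
always holds, is carried as an instance hypothesis.) -/
theorem result {U X V Y : Scheme.{u}} (f : X ⟶ Y) [IsFinite f] (j : V ⟶ Y)
    [IsOpenImmersion j] [AlgebraicGeometry.Etale j] [EtShriek.JCont j] (j' : U ⟶ X) [IsOpenImmersion j']
    [AlgebraicGeometry.Etale j'] [EtShriek.JCont j'] (g : U ⟶ V) (h : IsPullback j' g f j) (F : EtCoh.Ab U) :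
    Nonempty ((EtCoh.push f).obj ((EtShriek.extZero j').obj F) ≅ (EtShriek.extZero j).obj ((EtCoh.push g).obj F)) := by
  let G := (EtCoh.push f).obj ((EtShriek.extZero j').obj F)
  have hc : IsIso ((EtShriek.extZeroAdj j).counit.app G) := EtFound.extZero_iso_of_outside j G fun Ω₀ _ _ ξ₀ hξ₀ => by
    let Ω := AlgebraicClosure Ω₀
    let l : Spec (CommRingCat.of Ω) ⟶ Spec (CommRingCat.of Ω₀) :=
      Spec.map (CommRingCat.ofHom (algebraMap Ω₀ Ω))
    refine IsZero.of_iso ?_ ((EtFound.stalkExtIso AddCommGrpCat.{u + 1} ξ₀ l).app G)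
    have hsub : Subsingleton ((EtCoh.stalk (l ≫ ξ₀)).obj G) := by
      refine ⟨fun a b => EtFound.pushStalkAt_injective f _ (funext fun ξ => ?_)⟩
      have hout : ξ.1.base (default : Spec (CommRingCat.of Ω)) ∉ Set.range j'.base := by
        rintro ⟨x, hx⟩
        refine hξ₀ ⟨g.base x, ?_⟩
        calc j.base (g.base x) = f.base (j'.base x) := by
              rw [← Scheme.Hom.comp_apply, ← h.w, Scheme.Hom.comp_apply]
          _ = (ξ.1 ≫ f).base (default : Spec (CommRingCat.of Ω)) := by rw [hx, Scheme.Hom.comp_apply]
          _ = ξ₀.base default := by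
            rw [ξ.2, Scheme.Hom.comp_apply]
            exact congrArg _ (Subsingleton.elim _ _)
      have := AddCommGrpCat.subsingleton_of_isZero (EtFound.isZero_stalk_extZero j' ξ.1 hout F)
      exact Subsingleton.elim _ _
    exact @AddCommGrpCat.isZero_of_subsingleton _ hsub
  have hu : IsIso ((EtShriek.extZeroAdj j').unit.app F) :=
    (EtFound.isIso_iff_stalks _).2 fun Ω _ _ z => EtFound.isIso_stalk_unit (A := AddCommGrpCat.{u + 1}) j' F z
  let e : EtShriek.restrAlong j' ⋙ EtCoh.push g ≅ EtCoh.push f ⋙ EtShriek.restrAlong j :=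
    NatIso.ofComponents (fun G => (fullyFaithfulSheafToPresheaf _ _).preimageIso
      (Functor.isoWhiskerRight (NatIso.op (EtFound.bcCompEtaleIso j f j' g h).symm) G.obj)) fun {G G'} a =>
        Sheaf.hom_ext (NatTrans.ext (funext fun W => (a.hom.naturality _).symm))
  exact ⟨(asIso ((EtShriek.extZeroAdj j).counit.app G)).symm ≪≫
    (EtShriek.extZero j).mapIso ((e.app _).symm ≪≫ (EtCoh.push g).mapIso (asIso ((EtShriek.extZeroAdj j').unit.app F)).symm)⟩

end Groth.Agent.S0653
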