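import Groth.Statements.S5161
import Groth.Agent.PunctAffine.Basic
-- import your own Groth.Agent.* helpers here

set_option autoImplicit false
universe u
open AlgebraicGeometry
open LocCoh

namespace Groth.Agent.S5161

/-- Let A be a Noetherian ring, X = Spec A and Y ⊆ X a closed subset whose complement U is an affine
open. Then every irreducible component of Y has codimension ≤ 1 in X, i.e. the generic point of each
irreducible component of Y is a prime of height at most 1. -/
theorem result (A : Type u) [CommRing A] [IsNoetherianRing A] (U : (Spec (CommRingCat.of A)).Opens) (hU : IsAffineOpen U) (p : PrimeSpectrum A) (hpU : (p : (Spec (CommRingCat.of A) : Type u)) ∉ (U : Set (Spec (CommRingCat.of A) : Type u))) (hmin : ∀ q : PrimeSpectrum A, q.asIdeal ≤ p.asIdeal → (q : (Spec (CommRingCat.of A) : Type u)) ∉ (U : Set (Spec (CommRingCat.of A) : Type u)) → q = p) : p.asIdeal.height ≤ 1 := by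
  haveI := p.isPrime
  have hV := hU.preimage (Spec.map (CommRingCat.ofHom (algebraMap A (Localization.AtPrime p.asIdeal))))
  have e : Spec.map (CommRingCat.ofHom (algebraMap A (Localization.AtPrime p.asIdeal))) ⁻¹ᵁ U =
      FEt.puncturedSpec (Localization.AtPrime p.asIdeal) := by
    refine TopologicalSpace.Opens.ext (Set.ext fun q => ?_)
    change PrimeSpectrum.comap (algebraMap A (Localization.AtPrime p.asIdeal)) q ∈ U ↔
      ¬ (q = IsLocalRing.closedPoint _)
    constructor
    · rintro hq rfl
      have e : PrimeSpectrum.comap (algebraMap A (Localization.AtPrime p.asIdeal)) (IsLocalRing.closedPoint _) = p :=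
        PrimeSpectrum.ext (IsLocalization.AtPrime.comap_maximalIdeal (Localization.AtPrime p.asIdeal) p.asIdeal)
      exact hpU ((congrArg (fun z : (Spec (CommRingCat.of A) : Type u) => z ∈ U) e).mp hq)
    · intro hne
      by_contra hq
      refine hne (PrimeSpectrum.ext ?_)
      have hle : (PrimeSpectrum.comap (algebraMap A (Localization.AtPrime p.asIdeal)) q).asIdeal ≤ p.asIdeal :=
        (Ideal.comap_mono (IsLocalRing.le_maximalIdeal (q : PrimeSpectrum _).isPrime.ne_top)).trans_eq
          (IsLocalization.AtPrime.comap_maximalIdeal _ p.asIdeal)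
      have := congrArg PrimeSpectrum.asIdeal (hmin _ hle hq)
      exact (IsLocalization.map_comap p.asIdeal.primeCompl (Localization.AtPrime p.asIdeal)
        (q : PrimeSpectrum _).asIdeal).symm.trans ((congrArg (Ideal.map _) this).trans
          Localization.AtPrime.map_eq_maximalIdeal)
  rw [e] at hV
  have hd := Groth.Agent.PunctAffine.dim_le_one _ hV
  rw [IsLocalization.AtPrime.ringKrullDim_eq_height p.asIdeal] at hd
  exact WithBot.coe_le_coe.1 hd


end Groth.Agent.S5161
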