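import Groth.Statements.S3389
import Groth.Agent.FibDim.Basic

set_option autoImplicit false
open CategoryTheory AlgebraicGeometry
universe u
open EGA43

namespace Groth.Agent.S3389

/-- Let Y be a quasi-compact scheme and f : X ⟶ Y a morphism of finite type. Then there is a natural
number n bounding the dimension of every fibre of f. -/
theorem result {X Y : Scheme.{u}} [CompactSpace Y] (f : X ⟶ Y)
    [LocallyOfFiniteType f] [QuasiCompact f] :
    ∃ n : ℕ, ∀ y : Y, topologicalKrullDim ↥(f.fiber y) ≤ n := by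
  haveI : CompactSpace X := QuasiCompact.compactSpace_of_compactSpace f
  have hb : ∀ x : X, ∃ n : ℕ, ∃ U : X.Opens, x ∈ U ∧ ∀ z ∈ U, FibDim.rd f z ≤ n := fun x => by
    obtain ⟨z, -, -, -, he⟩ := FibDim.exists_fibMax_generization f x
    exact ⟨_, FibDim.exists_nhd_rd_le f x _ he.le⟩
  choose n U hxU hU using hb
  obtain ⟨t, ht⟩ := isCompact_univ.elim_finite_subcover (fun x => (U x : Set X))
    (fun x => (U x).isOpen) (fun x _ => Set.mem_iUnion.2 ⟨x, hxU x⟩)
  refine ⟨t.sup n, fun y => ?_⟩
  rw [FibDim.topologicalKrullDim_fiber f]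
  refine iSup_le fun z => ?_
  obtain ⟨x, hx, hz⟩ := Set.mem_iUnion₂.1 (ht (Set.mem_univ z.1))
  exact_mod_cast (hU x z.1 hz).trans (Finset.le_sup hx)

end Groth.Agent.S3389
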