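import Groth.Statements.S0157
import Groth.Agent.ProperBC13.Main
-- import your own Groth.Agent.* helpers here

set_option autoImplicit false
universe u
open CategoryTheory CategoryTheory.Limits AlgebraicGeometry Opposite
open EtPBC

namespace Groth.Agent.S0157

/-- For a cartesian square X' = Y' x_Y X with f : X -> Y proper and any abelian sheaf F on X_et, g^* f_*
F ≅ f'_* g'^* F. The source proves the canonical base change map is an isomorphism (for sheaves of
sets as well); stated as: the canonical degree-zero base change map is an isomorphism. -/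
theorem result {X Y X' Y' : Scheme.{u}} (f : X ⟶ Y) [IsProper f]
    (f' : X' ⟶ Y') (g' : X' ⟶ X) (g : Y' ⟶ Y) (h : IsPullback g' f' f g)
    [EtCoh.BCCont f] [EtCoh.BCCont f'] [EtCoh.BCCont g] [EtCoh.BCCont g'] (F : EtCoh.Ab X) :
    IsIso (EtCoh.baseChange0 f g f' g' h.w F) := by
  exact Groth.Agent.ProperBC13.isIso_baseChange0 f g f' g' h F

end Groth.Agent.S0157
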