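import Groth.Statements.S0675
import Groth.Agent.WLocalLib.LocRetract
import Groth.Agent.WLocalLib.EtaleProd
import Groth.Agent.EtFound.LiftEtaleLoc
import Mathlib.RingTheory.Flat.FaithfullyFlat.Algebra
import Mathlib.RingTheory.Spectrum.Prime.Chevalley
import Mathlib.RingTheory.Henselian
-- import your own Groth.Agent.* helpers here

set_option autoImplicit false
open CategoryTheory CategoryTheory.Limits AlgebraicGeometry Opposite Topology
universe u
open ProEtW

open Polynomial
open scoped TensorProduct

namespace Groth.Agent.S0675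

theorem exists_monic_lift (R : Type u) [CommRing R] [IsLocalRing R]
    (p : (IsLocalRing.ResidueField R)[X]) (hp : p.Monic) :
    ∃ f : R[X], f.Monic ∧ f.map (IsLocalRing.residue R) = p := by
  obtain ⟨g, hg⟩ := Polynomial.map_surjective (IsLocalRing.residue R) IsLocalRing.residue_surjective p
  have hl : p ∈ Polynomial.lifts (IsLocalRing.residue R) := ⟨g, hg⟩
  obtain ⟨f, hf, -, hfm⟩ := Polynomial.lifts_and_natDegree_eq_and_monic hl hp
  exact ⟨f, hfm, hf⟩

theorem isSepClosed_residue {R : Type u} [CommRing R] [IsLocalRing R]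
    (H : ∀ f : R[X], f.Monic → Irreducible (f.map (IsLocalRing.residue R)) →
      (f.map (IsLocalRing.residue R)).Separable →
      ∃ a : IsLocalRing.ResidueField R, (f.map (IsLocalRing.residue R)).eval a = 0) :
    IsSepClosed (IsLocalRing.ResidueField R) :=
  IsSepClosed.of_exists_root _ fun p hp hirr hsep => by
    obtain ⟨f, hfm, hf⟩ := exists_monic_lift R p hp
    rw [← hf] at hirr hsep ⊢
    exact H f hfm hirr hsep

/-- standard etale algebras over `A_m` with a point over the closed point have sections -/
theorem exists_section {A : Type u} [CommRing A] (h : ProEtW.HasEtaleRetractions A) (m : Ideal A) [m.IsMaximal]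
    {C K : Type u} [CommRing C] [Algebra (Localization.AtPrime m) C]
    [Algebra.IsStandardEtale (Localization.AtPrime m) C] [Field K]
    (ψ : C →+* K) (φ : IsLocalRing.ResidueField (Localization.AtPrime m) →+* K)
    (hψ : ψ.comp (algebraMap _ C) = φ.comp (IsLocalRing.residue _)) :
    Nonempty (C →ₐ[Localization.AtPrime m] Localization.AtPrime m) := by
  obtain ⟨P, ⟨e⟩⟩ := EtFound.exists_standardEtale_lift_loc (A := A) (C := C) (T := Localization.AtPrime m) m.primeCompl
  let pm : PrimeSpectrum A := ⟨m, inferInstance⟩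
  let U := Set.range (PrimeSpectrum.comap (algebraMap A P.Ring))
  have hU : IsOpen U :=
    (PrimeSpectrum.isOpenMap_comap_of_hasGoingDown_of_finitePresentation (R := A) (S := P.Ring)).isOpen_range
  let r : P.Ring →+* K := (ψ.comp e.toAlgHom.toRingHom).comp Algebra.TensorProduct.includeRight.toRingHom
  have hr : r.comp (algebraMap A P.Ring) = φ.comp ((IsLocalRing.residue _).comp (algebraMap A _)) := by
    rw [← RingHom.comp_assoc, ← hψ]
    ext a
    simp [r, ← IsScalarTower.algebraMap_apply]
    exact congrArg ψ (e.commutes _)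
  have hm : pm ∈ U := by
    refine ⟨⟨RingHom.ker r, RingHom.ker_isPrime r⟩, PrimeSpectrum.ext ?_⟩
    change (RingHom.ker r).comap (algebraMap A P.Ring) = m
    rw [RingHom.comap_ker, hr, RingHom.ker_comp_of_injective _ φ.injective, ← RingHom.comap_ker,
      IsLocalRing.ker_residue]
    exact IsLocalization.AtPrime.comap_maximalIdeal _ m
  obtain ⟨J, hJ⟩ := (PrimeSpectrum.isClosed_iff_zeroLocus_ideal _).1 (isClosed_compl_iff.2 hU)
  have hJm : m ⊔ J = ⊤ := by
    by_contra hne
    have hle : J ≤ m := le_sup_right.trans_eq (Ideal.IsMaximal.eq_of_le ‹m.IsMaximal› hne le_sup_left).symm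
    exact hJ.ge hle hm
  obtain ⟨f, hfI, j, hjJ, hfj⟩ := Submodule.mem_sup.1 ((Ideal.eq_top_iff_one _).1 hJm)
  haveI := WLocalLib.etale_prod (A := A) (S := P.Ring) (T := Localization.Away f)
  haveI : Module.Flat A (P.Ring × Localization.Away f) := Algebra.Smooth.flat A _
  haveI : Module.FaithfullyFlat A (P.Ring × Localization.Away f) := Module.FaithfullyFlat.of_comap_surjective fun x => by
    by_cases hfx : f ∈ x.asIdeal
    · obtain ⟨y, hy⟩ : x ∈ U := by
        by_contra hx
        exact x.2.ne_top ((Ideal.eq_top_iff_one _).2 (hfj ▸ add_mem hfx (hJ.le hx hjJ)))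
      exact ⟨PrimeSpectrum.comap (RingHom.fst P.Ring (Localization.Away f)) y,
        (PrimeSpectrum.comap_comp_apply (algebraMap A (P.Ring × Localization.Away f)) _ y).symm.trans hy⟩
    · obtain ⟨y, rfl⟩ := (PrimeSpectrum.localization_away_comap_range (Localization.Away f) f).ge
        (show x ∈ (PrimeSpectrum.basicOpen f : Set (PrimeSpectrum A)) from hfx)
      exact ⟨PrimeSpectrum.comap (RingHom.snd P.Ring (Localization.Away f)) y,
        (PrimeSpectrum.comap_comp_apply (algebraMap A (P.Ring × Localization.Away f)) _ y).symm⟩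
  obtain ⟨σ⟩ := h (P.Ring × Localization.Away f) inferInstance inferInstance
  have hσ : σ (0, 1) ∈ m := by
    have h1 : ((0, 1) : P.Ring × Localization.Away f) = f • ((0, IsLocalization.Away.invSelf f) : P.Ring × Localization.Away f) :=
      Prod.ext (smul_zero f).symm ((IsLocalization.Away.mul_invSelf f).symm.trans (Algebra.smul_def _ _).symm)
    rw [h1, map_smul, smul_eq_mul]
    exact Ideal.mul_mem_right _ _ hfI
  obtain ⟨τ⟩ := WLocalLib.exists_algHom_of_retraction (B := Localization.AtPrime m) σ (by
    rw [IsLocalRing.jacobson_eq_maximalIdeal ⊥ bot_ne_top]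
    rw [← IsLocalization.AtPrime.comap_maximalIdeal (Localization.AtPrime m) m] at hσ
    exact hσ)
  exact ⟨(Algebra.TensorProduct.lift (AlgHom.id _ _) τ (fun _ _ => .all _ _)).comp e.symm.toAlgHom⟩


/-- local rings over which standard etale algebras with a closed point have sections -/
theorem strictlyHenselian_of_sections (B : Type u) [CommRing B] [IsLocalRing B]
    (hsec : ∀ {C K : Type u} [CommRing C] [Algebra B C] [Algebra.IsStandardEtale B C] [Field K]
      (ψ : C →+* K) (φ : IsLocalRing.ResidueField B →+* K),
      ψ.comp (algebraMap B C) = φ.comp (IsLocalRing.residue B) → Nonempty (C →ₐ[B] B)) :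
    EtCoh.IsStrictlyHenselianLocalRing B := by
  have hsc : IsSepClosed (IsLocalRing.ResidueField B) := isSepClosed_residue fun f hfm hirr hsep => ?_
  refine ⟨((HenselianLocalRing.TFAE B).out 0 1).2 fun f hf a₀ h0 h1 => ?_, hsc⟩
  · obtain ⟨q0, hq0⟩ := Polynomial.dvd_iff_isRoot.2 (show (f.map (IsLocalRing.residue B)).IsRoot a₀ by
      rwa [IsRoot, eval_map, ← IsLocalRing.ResidueField.algebraMap_eq, ← aeval_def])
    obtain ⟨q, hq⟩ := Polynomial.map_surjective _ IsLocalRing.residue_surjective q0
    have hd : eval a₀ q0 ≠ 0 := by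
      have := congrArg (fun g => eval a₀ (derivative g)) hq0
      simp [derivative_mul, eval_map, derivative_map] at this
      rw [← this]
      exact h1
    let P : StandardEtalePair B :=
      ⟨f, hf, q * derivative f, q, 0, 1, by rw [mul_zero, add_zero, pow_one]; ring⟩
    have ha : P.HasMap (S := IsLocalRing.ResidueField B) a₀ := ⟨h0, by
      rw [map_mul, isUnit_iff_ne_zero, mul_ne_zero_iff]
      exact ⟨by rwa [aeval_def, IsLocalRing.ResidueField.algebraMap_eq, ← eval_map, hq], h1⟩⟩
    obtain ⟨s⟩ := hsec (C := P.Ring) (K := IsLocalRing.ResidueField B)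
      (P.lift a₀ ha).toRingHom (RingHom.id _) (RingHom.ext fun b => (P.lift a₀ ha).commutes b)
    have hs := P.hasMap_X.map s
    refine ⟨s P.X, by simpa [IsRoot, coe_aeval_eq_eval] using hs.1, ?_⟩
    have h2 := hs.2.map (IsLocalRing.residue B)
    have h3 : (f.map (IsLocalRing.residue B)).eval (IsLocalRing.residue B (s P.X)) = 0 := by
      rw [eval_map, eval₂_at_apply, show f.eval (s P.X) = 0 by simpa [coe_aeval_eq_eval] using hs.1, map_zero]
    rw [hq0, eval_mul, mul_eq_zero] at h3
    rcases h3 with h3 | h3
    · simpa [sub_eq_zero] using h3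
    · refine absurd h3 ?_
      rw [← hq, eval_map, eval₂_at_apply]
      simp [P, coe_aeval_eq_eval] at h2
      exact (h2.1.map (IsLocalRing.residue B)).ne_zero
  · let p := f.map (IsLocalRing.residue B)
    have hf : f.map (IsLocalRing.residue B) = p := rfl
    let P : StandardEtalePair B :=
      ⟨f, hfm, derivative f, 1, 0, 1, by rw [mul_zero, add_zero, pow_one, mul_one]⟩
    haveI : Fact (Irreducible p) := ⟨hirr⟩
    have hroot : aeval (AdjoinRoot.root p) p = 0 := by rw [AdjoinRoot.aeval_eq, AdjoinRoot.mk_self]
    have hev : ∀ g : B[X], aeval (AdjoinRoot.root p) g = aeval (AdjoinRoot.root p) (g.map (IsLocalRing.residue B)) := fun g => by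
      rw [aeval_def, aeval_def, eval₂_map]
      rfl
    have ha : P.HasMap (S := AdjoinRoot p) (AdjoinRoot.root p) :=
      ⟨(hev f).trans (by rw [hf]; exact hroot), isUnit_iff_ne_zero.2 (fun h0 => by
        have h1 := (hev (derivative f)).symm.trans h0
        rw [← derivative_map, hf] at h1
        exact hsep.aeval_derivative_ne_zero hroot h1)⟩
    obtain ⟨s⟩ := hsec (C := P.Ring) (K := AdjoinRoot p) (P.lift _ ha).toRingHom
      (AdjoinRoot.of p) (RingHom.ext fun b => (P.lift _ ha).commutes b)
    refine ⟨IsLocalRing.residue B (s P.X), ?_⟩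
    show p.eval _ = 0
    rw [← hf, eval_map, eval₂_at_apply, show f.eval (s P.X) = 0 by
      simpa [coe_aeval_eq_eval] using (P.hasMap_X.map s).1, map_zero]


/-- If every faithfully flat etale A-algebra has an A-algebra retraction, then for every maximal ideal m
of A the localization A_m is a strictly henselian local ring (henselian with separably closed
residue field). -/
theorem result (A : Type u) [CommRing A]
    (h : ProEtW.HasEtaleRetractions A) (m : Ideal A) [m.IsMaximal] :
    EtCoh.IsStrictlyHenselianLocalRing (Localization.AtPrime m) := by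
  exact strictlyHenselian_of_sections _ (fun ψ φ e => exists_section h m ψ φ e)

end Groth.Agent.S0675
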