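import Groth.Statements.S0676
import Groth.Agent.EtFound.LiftEtale
import Mathlib.RingTheory.Etale.Pi
import Mathlib.RingTheory.TensorProduct.Pi
import Mathlib.RingTheory.Flat.FaithfullyFlat.Algebra
import Mathlib.RingTheory.Spectrum.Prime.Chevalley
-- import your own Groth.Agent.* helpers here

set_option autoImplicit false
open CategoryTheory CategoryTheory.Limits AlgebraicGeometry Opposite Topology
universe u
open ProEtW
open scoped TensorProduct

namespace Groth.Agent.S0676

open scoped TensorProduct in
/-- around each point of `Spec A`, a lift of (a piece of) the covering -/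
theorem exists_piece {A : Type u} [CommRing A] (I : Ideal A) (B : Type u) [CommRing B] [Algebra (A ⧸ I) B]
    [Algebra.Etale (A ⧸ I) B] [Module.FaithfullyFlat (A ⧸ I) B] (p : PrimeSpectrum A) :
    ∃ (M : Type u) (_ : CommRing M) (_ : Algebra A M),
      Algebra.Etale A M ∧ Nonempty (B →ₐ[A ⧸ I] (A ⧸ I) ⊗[A] M) ∧
        p ∈ Set.range (PrimeSpectrum.comap (algebraMap A M)) := by
  letI : Algebra A B := ((algebraMap (A ⧸ I) B).comp (algebraMap A (A ⧸ I))).toAlgebra
  haveI : IsScalarTower A (A ⧸ I) B := IsScalarTower.of_algebraMap_eq fun _ => rfl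
  have hT : Function.Surjective (algebraMap A (A ⧸ I)) := Ideal.Quotient.mk_surjective
  by_cases hI : I ≤ p.asIdeal
  · obtain ⟨t, ht⟩ : p ∈ Set.range (PrimeSpectrum.comap (algebraMap A (A ⧸ I))) := by
      rw [range_comap_of_surjective _ _ hT, PrimeSpectrum.mem_zeroLocus]
      exact fun a ha => hI (Ideal.Quotient.eq_zero_iff_mem.1 ha)
    obtain ⟨q, hq⟩ := PrimeSpectrum.comap_surjective_of_faithfullyFlat (A := A ⧸ I) (B := B) t
    obtain ⟨f, hfq, hf⟩ := Algebra.IsEtaleAt.exists_isStandardEtale (R := A ⧸ I) q.asIdeal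
    haveI := hf
    obtain ⟨P, ⟨e⟩⟩ := EtFound.exists_standardEtale_lift (C := Localization.Away f) hT
    refine ⟨P.Ring, inferInstance, inferInstance, inferInstance,
      ⟨e.symm.toAlgHom.comp (IsScalarTower.toAlgHom (A ⧸ I) B (Localization.Away f))⟩, ?_⟩
    obtain ⟨q', hq'⟩ : q ∈ Set.range (PrimeSpectrum.comap (algebraMap B (Localization.Away f))) := by
      rw [PrimeSpectrum.localization_away_comap_range _ f]; exact hfq
    let r : P.Ring →ₐ[A] Localization.Away f :=
      (e.toAlgHom.restrictScalars A).comp Algebra.TensorProduct.includeRight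
    refine ⟨PrimeSpectrum.comap r.toRingHom q', ?_⟩
    rw [← ht, ← hq, ← hq', ← PrimeSpectrum.comap_comp_apply, ← PrimeSpectrum.comap_comp_apply,
      ← PrimeSpectrum.comap_comp_apply]
    refine congrArg (fun h => PrimeSpectrum.comap h q') ?_
    ext a
    exact (r.commutes a).trans (by simp only [RingHom.comp_apply]; rw [← IsScalarTower.algebraMap_apply A (A ⧸ I) B,
      ← IsScalarTower.algebraMap_apply A B (Localization.Away f)])
  · obtain ⟨g, hgI, hgp⟩ := SetLike.not_le_iff_exists.1 hI
    refine ⟨Localization.Away g, inferInstance, inferInstance, inferInstance, ?_, ?_⟩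
    · haveI : Subsingleton ((A ⧸ I) ⊗[A] Localization.Away g) := by
        refine subsingleton_of_zero_eq_one ?_
        obtain ⟨v, hv⟩ := (IsLocalization.Away.algebraMap_isUnit (S := Localization.Away g) g).exists_right_inv
        have h0 : (1 : A ⧸ I) ⊗ₜ[A] algebraMap A (Localization.Away g) g = 0 := by
          rw [Algebra.algebraMap_eq_smul_one, ← TensorProduct.smul_tmul, ← Algebra.algebraMap_eq_smul_one,
            Ideal.Quotient.algebraMap_eq, Ideal.Quotient.eq_zero_iff_mem.2 hgI, TensorProduct.zero_tmul]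
        have h1 := congrArg (· * ((1 : A ⧸ I) ⊗ₜ[A] v)) h0
        simp only [Algebra.TensorProduct.tmul_mul_tmul, hv, one_mul, zero_mul] at h1
        exact h1.symm
      exact ⟨{ toFun := fun _ => 0, map_one' := Subsingleton.elim _ _, map_mul' := fun _ _ => Subsingleton.elim _ _,
               map_zero' := rfl, map_add' := fun _ _ => Subsingleton.elim _ _, commutes' := fun _ => Subsingleton.elim _ _ }⟩
    · rw [PrimeSpectrum.localization_away_comap_range _ g]; exact hgp


/-- If every faithfully flat etale A-algebra has an A-algebra retraction, then the same holds for the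
quotient ring A/I for every ideal I. -/
theorem result (A : Type u) [CommRing A]
    (h : ProEtW.HasEtaleRetractions A) (I : Ideal A) :
    ProEtW.HasEtaleRetractions (A ⧸ I) := by
  classical
  intro B _ _ hff het
  haveI := hff
  haveI := het
  choose M i1 i2 hM φ hmem using fun p : PrimeSpectrum A => exists_piece I B p
  letI := i1
  letI := i2
  haveI : ∀ p, Algebra.Etale A (M p) := hM
  obtain ⟨s, hs⟩ := isCompact_univ.elim_finite_subcover
    (fun p => Set.range (PrimeSpectrum.comap (algebraMap A (M p))))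
    (fun p => (PrimeSpectrum.isOpenMap_comap_of_hasGoingDown_of_finitePresentation
      (R := A) (S := M p)).isOpen_range)
    (fun p _ => Set.mem_iUnion.2 ⟨p, hmem p⟩)
  let N := ∀ p : s, M p
  haveI : Module.FaithfullyFlat A N := Module.FaithfullyFlat.of_comap_surjective fun x => by
    obtain ⟨p, hp⟩ := Set.mem_iUnion.1 (hs (Set.mem_univ x))
    obtain ⟨hps, y, hy⟩ := Set.mem_iUnion.1 hp
    exact ⟨PrimeSpectrum.comap (Pi.evalRingHom (fun p : s => M p) ⟨p, hps⟩) y,
      (PrimeSpectrum.comap_comp_apply _ _ _).symm.trans hy⟩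
  obtain ⟨σ⟩ := h N inferInstance inferInstance
  let ψ : B →ₐ[A ⧸ I] (A ⧸ I) ⊗[A] N :=
    (Algebra.TensorProduct.piRight A (A ⧸ I) (A ⧸ I) (fun p : s => M p)).symm.toAlgHom.comp
      (Pi.algHom _ _ fun p : s => (φ p).some)
  exact ⟨(Algebra.TensorProduct.lift (AlgHom.id (A ⧸ I) (A ⧸ I))
    ((Ideal.Quotient.mkₐ A I).comp σ) (fun _ _ => .all _ _)).comp ψ⟩

end Groth.Agent.S0676
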