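import Groth.Statements.S7529
import Mathlib.Topology.Spectral.Basic
import Mathlib.Topology.Separation.Basic
import Mathlib.Topology.Compactness.Compact

set_option autoImplicit false
set_option backward.isDefEq.respectTransparency false
set_option backward.isDefEq.respectTransparency.types false
universe u
open SpecSp

namespace Groth.Agent.S7529

/-- The product X × Y of two spectral spaces X and Y is a spectral space. -/
theorem result (X Y : Type u) [TopologicalSpace X] [TopologicalSpace Y]
    [SpectralSpace X] [SpectralSpace Y] : SpectralSpace (X × Y) := by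
  let B : Set (Set (X × Y)) := Set.image2 (· ×ˢ ·) {U | IsOpen U ∧ IsCompact U} {V | IsOpen V ∧ IsCompact V}
  have hB : TopologicalSpace.IsTopologicalBasis B := PrespectralSpace.isTopologicalBasis.prod PrespectralSpace.isTopologicalBasis
  have hBc : ∀ W ∈ B, IsCompact W := by rintro _ ⟨U, hU, V, hV, rfl⟩; exact hU.2.prod hV.2
  haveI : PrespectralSpace (X × Y) := PrespectralSpace.of_isTopologicalBasis hB hBc
  haveI : QuasiSeparatedSpace (X × Y) := by
    refine ⟨fun P Q hP hP' hQ hQ' => ?_⟩
    have hB' : TopologicalSpace.IsTopologicalBasis (Set.range (Subtype.val : B → Set (X × Y))) := by rwa [Subtype.range_coe]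
    obtain ⟨S, hS, rfl⟩ := (isCompact_open_iff_eq_finite_iUnion_of_isTopologicalBasis _ hB' (fun i => hBc _ i.2) P).1 ⟨hP', hP⟩
    obtain ⟨T, hT, rfl⟩ := (isCompact_open_iff_eq_finite_iUnion_of_isTopologicalBasis _ hB' (fun i => hBc _ i.2) Q).1 ⟨hQ', hQ⟩
    simp only [Set.iUnion_inter, Set.inter_iUnion]
    refine hT.isCompact_biUnion fun i _ => hS.isCompact_biUnion fun j _ => ?_
    obtain ⟨i, U, hU, V, hV, rfl⟩ := i
    obtain ⟨j, U', hU', V', hV', rfl⟩ := j
    rw [Set.prod_inter_prod]
    exact (QuasiSeparatedSpace.inter_isCompact _ _ hU'.1 hU'.2 hU.1 hU.2).prod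
      (QuasiSeparatedSpace.inter_isCompact _ _ hV'.1 hV'.2 hV.1 hV.2)
  haveI : QuasiSober (X × Y) := ⟨fun {Z} hZ hZc => by
    have ha := (hZ.image _ continuous_fst.continuousOn).isGenericPoint_genericPoint_closure
    have hb := (hZ.image _ continuous_snd.continuousOn).isGenericPoint_genericPoint_closure
    generalize (hZ.image _ continuous_fst.continuousOn).genericPoint = a at ha
    generalize (hZ.image _ continuous_snd.continuousOn).genericPoint = b at hb
    refine ⟨(a, b), ?_⟩
    have hx : (a, b) ∈ Z := by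
      suffices h : (a, b) ∈ closure Z by rwa [hZc.closure_eq] at h
      rw [hB.mem_closure_iff]
      rintro _ ⟨U, hU, V, hV, rfl⟩ ⟨hau, hbv⟩
      obtain ⟨_, h1, z, hz, rfl⟩ := mem_closure_iff.1 ha.mem U hU.1 hau
      obtain ⟨_, h2, w, hw, rfl⟩ := mem_closure_iff.1 hb.mem V hV.1 hbv
      obtain ⟨t, ht, t1, t2⟩ := hZ.2 (Prod.fst ⁻¹' U) (Prod.snd ⁻¹' V) (hU.1.preimage continuous_fst)
        (hV.1.preimage continuous_snd) ⟨z, hz, h1⟩ ⟨w, hw, h2⟩
      exact ⟨t, ⟨t1, t2⟩, ht⟩
    refine Set.Subset.antisymm (hZc.closure_subset_iff.2 (Set.singleton_subset_iff.2 hx)) fun z hz => ?_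
    rw [← specializes_iff_mem_closure]
    exact (ha.specializes (subset_closure ⟨z, hz, rfl⟩)).prod (hb.specializes (subset_closure ⟨z, hz, rfl⟩))⟩
  exact {}

end Groth.Agent.S7529
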