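import Groth.Statements.S7566


set_option autoImplicit false
set_option backward.isDefEq.respectTransparency false
set_option backward.isDefEq.respectTransparency.types false
universe u
open PtTop

namespace Groth.Agent.S7566

/-- Let X be a quasi-compact topological space whose quasi-compact opens form a basis, any two of them
meeting in a quasi-compact set. Then for every x ∈ X the connected component of x equals the
intersection of every clopen subset of X that contains x. -/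
theorem result {X : Type u} [TopologicalSpace X]
    [CompactSpace X] [PrespectralSpace X] [QuasiSeparatedSpace X] (x : X) :
    connectedComponent x = ⋂₀ {Z : Set X | IsClopen Z ∧ x ∈ Z} := by
  let Q : Set X := ⋂₀ {Z : Set X | IsClopen Z ∧ x ∈ Z}
  have hQc : IsClosed Q := isClosed_sInter fun Z hZ => hZ.1.isClosed
  refine Set.Subset.antisymm (fun y hy Z hZ => hZ.1.connectedComponent_subset hZ.2 hy) ?_
  refine IsPreconnected.subset_connectedComponent ?_ (Set.mem_sInter.2 fun Z hZ => hZ.2)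
  rw [isPreconnected_closed_iff]
  intro A B hA hB hcov hnA hnB
  by_contra hne
  rw [Set.not_nonempty_iff_eq_empty] at hne
  -- separate the two pieces by quasi-compact opens
  have sep : ∀ A B : Set X, IsClosed A → IsClosed B → Q ⊆ A ∪ B → Q ∩ (A ∩ B) = ∅ →
      ∃ W : Set X, IsOpen W ∧ IsCompact W ∧ Q ∩ A ⊆ W ∧ Q ∩ B ∩ W = ∅ := by
    intro A B hA hB _ hne
    obtain ⟨W, hW, hW', h1, h2⟩ := PrespectralSpace.exists_isCompact_and_isOpen_between
      ((hQc.inter hA).isCompact) (hQc.inter hB).isOpen_compl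
      (fun z hz hz' => Set.eq_empty_iff_forall_notMem.1 hne z ⟨hz.1, hz.2, hz'.2⟩)
    exact ⟨W, hW', hW, h1, Set.eq_empty_iff_forall_notMem.2 fun z hz => h2 hz.2 hz.1⟩
  obtain ⟨W, hW, hW', hAW, hBW⟩ := sep A B hA hB hcov hne
  obtain ⟨V, hV, hV', hBV, hAV⟩ := sep B A hB hA (Set.union_comm A B ▸ hcov) (by rwa [Set.inter_comm B A])
  have hK : IsCompact ((W ∩ V) ∪ (W ∪ V)ᶜ) :=
    (QuasiSeparatedSpace.inter_isCompact _ _ hW hW' hV hV').union (hW.union hV).isClosed_compl.isCompact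
  haveI : Nonempty {Z : Set X // IsClopen Z ∧ x ∈ Z} := ⟨⟨Set.univ, isClopen_univ, trivial⟩⟩
  obtain ⟨Z, hZ⟩ := hK.elim_directed_family_closed (fun Z : {Z : Set X // IsClopen Z ∧ x ∈ Z} => Z.1)
    (fun Z => Z.2.1.isClosed) (by
      rw [Set.eq_empty_iff_forall_notMem]
      rintro z ⟨hz, hzQ⟩
      have hzQ' : z ∈ Q := Set.mem_sInter.2 fun Z hZ => Set.mem_iInter.1 hzQ ⟨Z, hZ⟩
      rcases hz with ⟨h1, h2⟩ | h
      · rcases hcov hzQ' with h | h
        · exact Set.eq_empty_iff_forall_notMem.1 hAV z ⟨⟨hzQ', h⟩, h2⟩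
        · exact Set.eq_empty_iff_forall_notMem.1 hBW z ⟨⟨hzQ', h⟩, h1⟩
      · rcases hcov hzQ' with h' | h'
        · exact h (.inl (hAW ⟨hzQ', h'⟩))
        · exact h (.inr (hBV ⟨hzQ', h'⟩)))
    (fun Z Z' => ⟨⟨Z.1 ∩ Z'.1, Z.2.1.inter Z'.2.1, Z.2.2, Z'.2.2⟩, Set.inter_subset_left, Set.inter_subset_right⟩)
  rw [Set.eq_empty_iff_forall_notMem] at hZ
  have hmem : ∀ z ∈ Z.1, (z ∈ W ∧ z ∉ V) ∨ (z ∉ W ∧ z ∈ V) := fun z hz => by
    by_cases h1 : z ∈ W <;> by_cases h2 : z ∈ V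
    · exact absurd ⟨.inl ⟨h1, h2⟩, hz⟩ (hZ z)
    · exact .inl ⟨h1, h2⟩
    · exact .inr ⟨h1, h2⟩
    · exact absurd ⟨.inr (fun h => h.elim h1 h2), hz⟩ (hZ z)
  have hclopen : ∀ W V : Set X, IsOpen W → IsOpen V → (∀ z ∈ Z.1, (z ∈ W ∧ z ∉ V) ∨ (z ∉ W ∧ z ∈ V)) → IsClopen (Z.1 ∩ W) := by
    intro W V hW hV h
    have e : Z.1 ∩ W = Z.1 ∩ Vᶜ := by
      ext z
      exact ⟨fun ⟨a, b⟩ => ⟨a, fun c => (h z a).elim (fun d => d.2 c) (fun d => d.1 b)⟩,
        fun ⟨a, b⟩ => ⟨a, (h z a).elim (fun d => d.1) (fun d => absurd d.2 b)⟩⟩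
    exact ⟨e ▸ Z.2.1.isClosed.inter hV.isClosed_compl, Z.2.1.isOpen.inter hW⟩
  have hQZ : Q ⊆ Z.1 := Set.sInter_subset_of_mem Z.2
  rcases hmem x Z.2.2 with ⟨h, -⟩ | ⟨-, h⟩
  · obtain ⟨b, hbQ, hb⟩ := hnB
    exact Set.eq_empty_iff_forall_notMem.1 hBW b ⟨⟨hbQ, hb⟩, (Set.mem_sInter.1 hbQ _ ⟨hclopen W V hW hV hmem, Z.2.2, h⟩).2⟩
  · obtain ⟨a, haQ, ha⟩ := hnA
    exact Set.eq_empty_iff_forall_notMem.1 hAV a ⟨⟨haQ, ha⟩, (Set.mem_sInter.1 haQ _
      ⟨hclopen V W hV hW (fun z hz => (hmem z hz).symm.imp And.symm And.symm), Z.2.2, h⟩).2⟩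

end Groth.Agent.S7566
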