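import Groth.Statements.S7584


set_option autoImplicit false
set_option backward.isDefEq.respectTransparency false
set_option backward.isDefEq.respectTransparency.types false
universe u
open PtTop

namespace Groth.Agent.S7584

/-- Let X be a quasi-compact topological space in which each connected component equals the intersection
of all clopen sets that contain it. Then π₀(X), the set of connected components with the quotient
topology, is Hausdorff. The published statement concludes that π₀(X) is profinite; this row records
the Hausdorff property, quasi-compactness and total disconnectedness of the quotient being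
automatic. -/
theorem result (X : Type u) [TopologicalSpace X] [CompactSpace X]
    (h : ∀ x : X, connectedComponent x = ⋂₀ {Z : Set X | IsClopen Z ∧ x ∈ Z}) :
    T2Space (ConnectedComponents X) := by
  refine ⟨fun a b hab => ?_⟩
  obtain ⟨x, rfl⟩ := ConnectedComponents.surjective_coe a
  obtain ⟨y, rfl⟩ := ConnectedComponents.surjective_coe b
  have hne : y ∉ connectedComponent x := fun h' => hab (ConnectedComponents.coe_eq_coe.2 (connectedComponent_eq h'))
  rw [h x, Set.mem_sInter] at hne
  push Not at hne
  obtain ⟨Z, ⟨hZ, hxZ⟩, hyZ⟩ := hne
  have hpre : ∀ W : Set X, IsClopen W → ConnectedComponents.mk ⁻¹' (ConnectedComponents.mk '' W) = W := fun W hW => by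
    rw [connectedComponents_preimage_image, hW.biUnion_connectedComponent_eq]
  refine ⟨ConnectedComponents.mk '' Z, ConnectedComponents.mk '' Zᶜ, ?_, ?_, ⟨x, hxZ, rfl⟩, ⟨y, hyZ, rfl⟩, ?_⟩
  · rw [← ConnectedComponents.isQuotientMap_coe.isOpen_preimage, hpre Z hZ]
    exact hZ.isOpen
  · rw [← ConnectedComponents.isQuotientMap_coe.isOpen_preimage, hpre Zᶜ hZ.compl]
    exact hZ.compl.isOpen
  · rw [Set.disjoint_left]
    rintro _ ⟨a, ha, rfl⟩ ⟨b, hb, hab'⟩
    exact hb ((hpre Z hZ).le (⟨a, ha, hab'.symm⟩ : b ∈ ConnectedComponents.mk ⁻¹' (ConnectedComponents.mk '' Z)))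

end Groth.Agent.S7584
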