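import Groth.Statements.S0703
import Groth.Agent.WLocalLib.FibreProd
-- import your own Groth.Agent.* helpers here

set_option autoImplicit false
open Topology
universe u
open ProEtW

namespace Groth.Agent.S0703

/-- Let X be a spectral space, T a profinite space and g : T -> pi_0(X) continuous; let Y be the fibre
product of X and T over pi_0(X) (pairs (x, t) with [x] = g t, subspace topology). Then Y is spectral
and the projection Y -> T induces a homeomorphism pi_0(Y) = T. -/
theorem result (X T : Type u) [TopologicalSpace X] [SpectralSpace X]
    [TopologicalSpace T] [CompactSpace T] [T2Space T] [TotallyDisconnectedSpace T]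
    (g : C(T, _root_.ConnectedComponents X)) :
    SpectralSpace {p : X × T // _root_.ConnectedComponents.mk p.1 = g p.2} ∧
      ∃ e : _root_.ConnectedComponents {p : X × T // _root_.ConnectedComponents.mk p.1 = g p.2} ≃ₜ T,
        ∀ y : {p : X × T // _root_.ConnectedComponents.mk p.1 = g p.2}, e (_root_.ConnectedComponents.mk y) = y.1.2 := by
  haveI := WLocalLib.spectralSpace_fibreProd g
  refine ⟨inferInstance, ?_⟩
  have hs : Continuous fun z : {p : X × T // _root_.ConnectedComponents.mk p.1 = g p.2} => z.1.2 :=
    continuous_snd.comp continuous_subtype_val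
  have hb : Function.Bijective hs.connectedComponentsLift := by
    refine ⟨fun a b h => ?_, fun t => ?_⟩
    · obtain ⟨y, rfl⟩ := ConnectedComponents.surjective_coe a
      obtain ⟨y', rfl⟩ := ConnectedComponents.surjective_coe b
      rw [hs.connectedComponentsLift_apply_coe, hs.connectedComponentsLift_apply_coe] at h
      exact (WLocalLib.mk_eq_mk_fibreProd g).2 h
    · obtain ⟨x, hx⟩ := ConnectedComponents.surjective_coe (g t)
      exact ⟨ConnectedComponents.mk ⟨(x, t), hx⟩, hs.connectedComponentsLift_apply_coe _⟩
  exact ⟨hs.connectedComponentsLift_continuous.homeoOfEquivCompactToT2 (f := Equiv.ofBijective _ hb),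
    fun y => hs.connectedComponentsLift_apply_coe y⟩

end Groth.Agent.S0703
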