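import Groth.Statements.S0704
import Groth.Agent.WLocalLib.FibreProd
import Groth.Agent.WLocalLib.Retraction
-- import your own Groth.Agent.* helpers here

set_option autoImplicit false
open Topology
universe u
open ProEtW

namespace Groth.Agent.S0704

/-- With X, T, g and the fibre product Y of X and T over pi_0(X) as in the first part, if X is moreover
w-local then Y is w-local, the projection Y -> X is w-local, and the closed points of Y are exactly
the points mapping to closed points of X. -/
theorem result (X T : Type u) [TopologicalSpace X]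
    [TopologicalSpace T] [CompactSpace T] [T2Space T] [TotallyDisconnectedSpace T]
    (hX : ProEtW.IsWLocal X) (g : C(T, _root_.ConnectedComponents X)) :
    ProEtW.IsWLocal {p : X × T // _root_.ConnectedComponents.mk p.1 = g p.2} ∧
      ProEtW.IsWLocalMap (fun y : {p : X × T // _root_.ConnectedComponents.mk p.1 = g p.2} => y.1.1) ∧
      ProEtW.closedPoints {p : X × T // _root_.ConnectedComponents.mk p.1 = g p.2} =
        (fun y : {p : X × T // _root_.ConnectedComponents.mk p.1 = g p.2} => y.1.1) ⁻¹' ProEtW.closedPoints X := by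
  haveI := hX.1
  have hfst := WLocalLib.isSpectralMap_fst g
  have hspec : ∀ {y y' : {p : X × T // _root_.ConnectedComponents.mk p.1 = g p.2}},
      y ⤳ y' ↔ y.1.1 ⤳ y'.1.1 ∧ y.1.2 = y'.1.2 := fun {y y'} =>
    (subtype_specializes_iff y y').trans ((specializes_prod).trans (and_congr_right fun _ => specializes_iff_eq))
  have hret : ∀ y : {p : X × T // _root_.ConnectedComponents.mk p.1 = g p.2},
      _root_.ConnectedComponents.mk (WLocalLib.ret hX y.1.1) = g y.1.2 := fun y => by
    rw [← y.2, WLocalLib.mk_eq_mk_iff hX, WLocalLib.ret_eq_self hX (WLocalLib.ret_closed hX _)]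
  have hclosed : ∀ y : {p : X × T // _root_.ConnectedComponents.mk p.1 = g p.2},
      IsClosed ({y} : Set {p : X × T // _root_.ConnectedComponents.mk p.1 = g p.2}) ↔
        IsClosed ({y.1.1} : Set X) := fun y => by
    constructor
    · intro h
      have hsp : y ⤳ ⟨(WLocalLib.ret hX y.1.1, y.1.2), hret y⟩ :=
        hspec.2 ⟨WLocalLib.specializes_ret hX _, rfl⟩
      have e : (⟨(WLocalLib.ret hX y.1.1, y.1.2), hret y⟩ :
          {p : X × T // _root_.ConnectedComponents.mk p.1 = g p.2}) ∈ ({y} : Set _) := hsp.mem_closed h rfl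
      rw [← congrArg (fun z => z.1.1) (Set.mem_singleton_iff.1 e)]
      exact WLocalLib.ret_closed hX _
    · intro h
      have : ({y} : Set {p : X × T // _root_.ConnectedComponents.mk p.1 = g p.2}) =
          Subtype.val ⁻¹' (({y.1.1} : Set X) ×ˢ ({y.1.2} : Set T)) := by
        ext z
        simp [Subtype.ext_iff, Prod.ext_iff]
      rw [this]
      exact (h.prod isClosed_singleton).preimage continuous_subtype_val
  refine ⟨⟨WLocalLib.spectralSpace_fibreProd g, ?_, fun y => ?_⟩, ⟨hfst, fun y hy => (hclosed y).1 hy⟩, Set.ext hclosed⟩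
  · have : {y : {p : X × T // _root_.ConnectedComponents.mk p.1 = g p.2} | IsClosed ({y} : Set _)} =
        (fun y => y.1.1) ⁻¹' {x : X | IsClosed ({x} : Set X)} := Set.ext hclosed
    rw [this]
    exact hX.2.1.preimage hfst.continuous
  · refine ⟨⟨(WLocalLib.ret hX y.1.1, y.1.2), hret y⟩,
      ⟨(hclosed _).2 (WLocalLib.ret_closed hX _), hspec.2 ⟨WLocalLib.specializes_ret hX _, rfl⟩⟩, ?_⟩
    rintro z ⟨hz, hyz⟩
    obtain ⟨h1, h2⟩ := hspec.1 hyz
    exact Subtype.ext (Prod.ext (WLocalLib.ret_unique hX ((hclosed z).1 hz) h1).symm h2.symm)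

end Groth.Agent.S0704
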