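import Groth.Statements.S0696
import Groth.Agent.ProfLib.Realize
import Groth.Agent.AwLib.IndZar
import Groth.Agent.IndZarLib.Away
import Groth.Agent.WLocalLib.Homeo
import Groth.Agent.S0704
import Groth.Agent.ProfLib.Cover
-- import your own Groth.Agent.* helpers here

set_option autoImplicit false
open CategoryTheory CategoryTheory.Limits AlgebraicGeometry Opposite Topology
universe u
open ProEtW

namespace Groth.Agent.S0696

/-- Every ring A admits a faithfully flat ind-Zariski extension B whose spectrum is w-local with
extremally disconnected space of connected components. -/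
theorem result (A : Type u) [CommRing A] :
    ∃ (B : Type u) (_ : CommRing B) (_ : Algebra A B),
      Module.FaithfullyFlat A B ∧ EtPBC.IsIndZariski A B ∧ ProEtW.IsWLocal (PrimeSpectrum B) ∧
        ExtremallyDisconnected (_root_.ConnectedComponents (PrimeSpectrum B)) := by
  let W := AwLib.Aw A
  haveI := WLocalLib.t2Space_components (PrimeSpectrum W)
  haveI : CompactSpace (ProfLib.Pi0 W) := Quotient.compactSpace
  obtain ⟨T, _, _, _, _, _, g, hg⟩ := ProfLib.exists_extremallyDisconnected_cover (ProfLib.Pi0 W)
  letI : Algebra A (ProfLib.realize g) := ((algebraMap W (ProfLib.realize g)).comp (algebraMap A W)).toAlgebra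
  haveI : IsScalarTower A W (ProfLib.realize g) := IsScalarTower.of_algebraMap_eq fun _ => rfl
  have hZ : EtPBC.IsIndZariski A (ProfLib.realize g) :=
    IndZarLib.isIndZariski_trans_of_pi (AwLib.isIndZariski A) fun P _ _ _ φ => ProfLib.exists_pi_factor g P φ
  haveI := IndZarLib.flat_of_isIndZariski A (ProfLib.realize g) hZ
  obtain ⟨e, -⟩ := ProfLib.exists_components_homeo g
  refine ⟨ProfLib.realize g, inferInstance, inferInstance, Module.FaithfullyFlat.of_comap_surjective fun p => ?_, hZ,
    WLocalLib.isWLocal_homeo (ProfLib.homeoFibre g) (S0704.result _ T AwLib.isWLocal g).1,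
    extremallyDisconnected_of_homeo e.symm⟩
  obtain ⟨t, ht⟩ := hg (_root_.ConnectedComponents.mk (AwLib.cl p))
  obtain ⟨Q, hQ⟩ : ((AwLib.cl p, t) : PrimeSpectrum W × T) ∈ Set.range (ProfLib.toProd g) := by
    rw [ProfLib.range_toProd]; exact ht.symm
  refine ⟨Q, ?_⟩
  rw [← AwLib.comap_cl p, ← show PrimeSpectrum.comap (algebraMap W (ProfLib.realize g)) Q = AwLib.cl p from
    congrArg Prod.fst hQ, ← PrimeSpectrum.comap_comp_apply]
  rfl

end Groth.Agent.S0696
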