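import Groth.Statements.S0678
import Groth.Agent.WLocalLib.Section
import Groth.Agent.IndZarLib.LocalRing
import Groth.Agent.S0696
import Groth.Agent.S0738
import Groth.Agent.AwLib.IndZar
-- import your own Groth.Agent.* helpers here

set_option autoImplicit false
open CategoryTheory CategoryTheory.Limits AlgebraicGeometry Opposite Topology
universe u
open ProEtW

namespace Groth.Agent.S0678

/-- For a ring A, every faithfully flat ind-Zariski A-algebra (filtered colimit of local isomorphisms)
has an A-algebra retraction if and only if Spec A is w-local and the space of connected components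
of Spec A is extremally disconnected. -/
theorem result (A : Type u) [CommRing A] :
    ProEtW.HasIndZariskiRetractions A ↔
      (ProEtW.IsWLocal (PrimeSpectrum A) ∧
        ExtremallyDisconnected (_root_.ConnectedComponents (PrimeSpectrum A))) := by
  refine ⟨fun h => ?_, fun ⟨hW, hE⟩ => ?_⟩
  · have hW : ProEtW.IsWLocal (PrimeSpectrum A) := by
      obtain ⟨r⟩ := h (AwLib.Aw A) (AwLib.faithfullyFlat A) (AwLib.isIndZariski A)
      have hr : Function.Surjective r.toRingHom := fun a => ⟨algebraMap A _ a, r.commutes a⟩
      have hc := PrimeSpectrum.isClosedEmbedding_comap_of_surjective _ r.toRingHom hr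
      exact WLocalLib.isWLocal_homeo hc.isEmbedding.toHomeomorph
        (S0738.result _ AwLib.isWLocal _ hc.isClosed_range)
    refine ⟨hW, ?_⟩
    obtain ⟨B, _, _, hff, hZ, hWB, hEB⟩ := S0696.result A
    obtain ⟨r⟩ := h B hff hZ
    have := hW.1
    have := WLocalLib.t2Space_components (PrimeSpectrum A)
    have : CompactSpace (_root_.ConnectedComponents (PrimeSpectrum A)) := Quotient.compactSpace
    have := hWB.1
    have := WLocalLib.t2Space_components (PrimeSpectrum B)
    have : CompactSpace (_root_.ConnectedComponents (PrimeSpectrum B)) := Quotient.compactSpace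
    refine CompactT2.Projective.extremallyDisconnected fun {Y Z} _ _ _ _ _ _ {φ g} hφ hg hgs => ?_
    let p := (PrimeSpectrum.continuous_comap (algebraMap A B)).connectedComponentsMap
    let ι := (PrimeSpectrum.continuous_comap r.toRingHom).connectedComponentsMap
    obtain ⟨k, hk, hgk⟩ := CompactT2.ExtremallyDisconnected.projective (A := _root_.ConnectedComponents (PrimeSpectrum B))
      (hφ.comp (Continuous.connectedComponentsMap_continuous (PrimeSpectrum.continuous_comap (algebraMap A B)))) hg hgs
    refine ⟨k ∘ ι, hk.comp (Continuous.connectedComponentsMap_continuous _), funext fun c => ?_⟩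
    obtain ⟨x, rfl⟩ := ConnectedComponents.surjective_coe c
    refine (congrFun hgk _).trans (congrArg φ ?_)
    change ConnectedComponents.mk (PrimeSpectrum.comap (algebraMap A B) (PrimeSpectrum.comap r.toRingHom x)) = _
    rw [← PrimeSpectrum.comap_comp_apply, show r.toRingHom.comp (algebraMap A B) = algebraMap A A from r.comp_algebraMap]
    rfl
  · intro B _ _ hff hZ
    have := hE
    exact WLocalLib.exists_retraction_of_local hW (PrimeSpectrum.comap_surjective_of_faithfullyFlat)
      fun q _ => IndZarLib.identifiesLocalRings_of_isIndZariski hZ q

end Groth.Agent.S0678
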