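import Groth.Statements.S0677
import Groth.Agent.S0678
import Groth.Agent.S0675
import Groth.Agent.S0736
import Groth.Agent.WEtLib.Olivier
import Groth.Agent.WLocalLib.WEtale
-- import your own Groth.Agent.* helpers here

set_option autoImplicit false
open CategoryTheory CategoryTheory.Limits AlgebraicGeometry Opposite Topology
universe u
open ProEtW

namespace Groth.Agent.S0677

/-- A ring A is w-contractible (every faithfully flat weakly etale A-algebra has a retraction) if and
only if (a) Spec A is w-local, (b) the space of connected components of Spec A is extremally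
disconnected, and (c) A_m is strictly henselian for every maximal ideal m. -/
theorem result (A : Type u) [CommRing A] :
    EtPBC.IsWContractible A ↔
      (ProEtW.IsWLocal (PrimeSpectrum A) ∧
        ExtremallyDisconnected (_root_.ConnectedComponents (PrimeSpectrum A)) ∧
        ∀ (m : Ideal A) [m.IsMaximal], EtCoh.IsStrictlyHenselianLocalRing (Localization.AtPrime m)) := by
  refine ⟨fun h => ?_, fun ⟨hW, hE, hH⟩ => ?_⟩
  · have hZ : ProEtW.HasIndZariskiRetractions A := fun B _ _ hff hB =>
      h B hff (S0736.result A B (IndZarLib.isIndEtale_of_isIndZariski hB))
    obtain ⟨hW, hE⟩ := (S0678.result A).1 hZ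
    refine ⟨hW, hE, fun m hm => ?_⟩
    refine S0675.result A (fun B _ _ hff hB => ?_) m
    exact h B hff inferInstance
  · intro B _ _ hff hB
    have := hE
    refine WLocalLib.exists_retraction_of_local hW (PrimeSpectrum.comap_surjective_of_faithfullyFlat) fun q hq => ?_
    let p := q.asIdeal.comap (algebraMap A B)
    have hp : p.IsMaximal := (PrimeSpectrum.isClosed_singleton_iff_isMaximal _).1 hq
    obtain ⟨_, _⟩ := hH p
    letI : Algebra (Localization.AtPrime p) (Localization.AtPrime q.asIdeal) :=
      (Localization.localRingHom p q.asIdeal (algebraMap A B) rfl).toAlgebra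
    have : IsScalarTower A (Localization.AtPrime p) (Localization.AtPrime q.asIdeal) :=
      IsScalarTower.of_algebraMap_eq fun a => ((Localization.localRingHom_to_map p q.asIdeal (algebraMap A B) rfl a).trans
        (IsScalarTower.algebraMap_apply A B (Localization.AtPrime q.asIdeal) a).symm).symm
    have := WLocalLib.weaklyEtale_localization p.primeCompl (Localization.AtPrime p)
    have := WLocalLib.weaklyEtale_localization q.asIdeal.primeCompl (Localization.AtPrime q.asIdeal)
    have : Algebra.WeaklyEtale A (Localization.AtPrime q.asIdeal) := Algebra.WeaklyEtale.trans A B _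
    have := WEtLib.cancel (A := A) (B := Localization.AtPrime p) (Localization.AtPrime q.asIdeal)
    have : IsLocalHom (algebraMap (Localization.AtPrime p) (Localization.AtPrime q.asIdeal)) :=
      Localization.isLocalHom_localRingHom p q.asIdeal (algebraMap A B) rfl
    exact WEtLib.bijective_algebraMap (A := Localization.AtPrime p) (B := Localization.AtPrime q.asIdeal)

end Groth.Agent.S0677
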