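import Groth.Statements.S0701
import Groth.Agent.SpecLib.T1Profinite
-- import your own Groth.Agent.* helpers here

set_option autoImplicit false
open CategoryTheory CategoryTheory.Limits AlgebraicGeometry Opposite Topology
universe u
open ProEtW

namespace Groth.Agent.S0701

/-- Let Spec A be profinite (quasi-compact, Hausdorff, totally disconnected) and A -> B a ring map such
that two distinct primes of B over the same prime of A are never comparable. Then Spec B is
profinite. -/
theorem result (A B : Type u) [CommRing A] [CommRing B]
    [Algebra A B] [T2Space (PrimeSpectrum A)] [TotallyDisconnectedSpace (PrimeSpectrum A)]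
    (h : ∀ q q' : PrimeSpectrum B, q.asIdeal.comap (algebraMap A B) = q'.asIdeal.comap (algebraMap A B) →
      q.asIdeal ≤ q'.asIdeal → q = q') :
    ProEtW.IsProfinite (PrimeSpectrum B) := by
  haveI : T1Space (PrimeSpectrum B) := by
    refine t1Space_iff_specializes_imp_eq.2 fun q q' hqq => ?_
    have hle : q.asIdeal ≤ q'.asIdeal := (PrimeSpectrum.le_iff_specializes q q').2 hqq
    have hs : PrimeSpectrum.comap (algebraMap A B) q ⤳ PrimeSpectrum.comap (algebraMap A B) q' :=
      hqq.map (PrimeSpectrum.continuous_comap _)
    exact h q q' (congrArg PrimeSpectrum.asIdeal (specializes_iff_eq.1 hs)) hle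
  exact SpecLib.profinite_of_t1 _

end Groth.Agent.S0701
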