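import Groth.Statements.S0750
import Groth.Agent.S0701
import Mathlib.RingTheory.QuasiFinite.Basic
import Mathlib.RingTheory.Kaehler.Basic
import Mathlib.RingTheory.Spectrum.Prime.Chevalley
import Mathlib.FieldTheory.PurelyInseparable.Basic
import Mathlib.FieldTheory.IsAlgClosed.AlgebraicClosure
import Mathlib.Topology.ExtremallyDisconnected
import Mathlib.Topology.Separation.Profinite
-- import your own Groth.Agent.* helpers here

set_option autoImplicit false
open CategoryTheory CategoryTheory.Limits AlgebraicGeometry Opposite Topology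
open scoped TensorProduct
universe u
open ProEtW

namespace Groth.Agent.S0750

/-- Let A -> B be quasi-finite and of finite presentation. Suppose all residue fields of A (at every
prime) are separably closed, and Spec A is a Hausdorff, extremally disconnected space. Then Spec B
is also extremally disconnected. -/
theorem result (A B : Type u) [CommRing A]
    [CommRing B] [Algebra A B] [Algebra.QuasiFinite A B] [Algebra.FinitePresentation A B]
    (hres : ∀ p : PrimeSpectrum A, IsSepClosed p.asIdeal.ResidueField)
    [T2Space (PrimeSpectrum A)] [ExtremallyDisconnected (PrimeSpectrum A)] :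
    ExtremallyDisconnected (PrimeSpectrum B) := by
  classical
  let f := PrimeSpectrum.comap (algebraMap A B)
  have hA : TotallyDisconnectedSpace (PrimeSpectrum A) := inferInstance
  have hprof : ∀ (C : Type u) [CommRing C] [Algebra A C] [Algebra.QuasiFinite A C],
      CompactSpace (PrimeSpectrum C) ∧ T2Space (PrimeSpectrum C) ∧ TotallyDisconnectedSpace (PrimeSpectrum C) :=
    fun C _ _ _ => S0701.result A C fun q q' he hle =>
      PrimeSpectrum.ext (Algebra.QuasiFinite.eq_of_le_of_under_eq (R := A) _ _ hle he)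
  obtain ⟨hc, ht, htd⟩ := hprof B
  have : Algebra.QuasiFinite A (B ⊗[A] B) := Algebra.QuasiFinite.trans A B _
  obtain ⟨hc2, ht2, htd2⟩ := hprof (B ⊗[A] B)
  have hclopen : ∀ {X : Type u} [TopologicalSpace X] [CompactSpace X] [T2Space X] {E : Set X},
      IsConstructible E → IsClopen E := fun {X} _ _ _ {E} hE => by
    induction hE using IsConstructible.empty_union_induction with
    | open_retrocompact U hU hr => exact ⟨hr.isCompact.isClosed, hU⟩
    | union s hs t ht hs' ht' => exact hs'.union ht'
    | compl s hs hs' => exact hs'.compl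
  have hf : Continuous f := PrimeSpectrum.continuous_comap _
  have himg : ∀ W : Set (PrimeSpectrum B), IsClopen W → IsClopen (f '' W) := fun W hW => by
    obtain ⟨e, he, rfl⟩ := PrimeSpectrum.exists_idempotent_basicOpen_eq_of_isClopen hW
    exact hclopen (PrimeSpectrum.isConstructible_comap_image
      (RingHom.finitePresentation_algebraMap.mpr inferInstance) PrimeSpectrum.isConstructible_basicOpen)
  -- local injectivity
  have hinj : ∀ q : PrimeSpectrum B, ∃ W, IsClopen W ∧ q ∈ W ∧ Set.InjOn f W := fun q => by
    let J : Ideal (B ⊗[A] B) := KaehlerDifferential.ideal A B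
    obtain ⟨G, hG⟩ := KaehlerDifferential.ideal_fg A B
    have hJ : IsOpen (PrimeSpectrum.zeroLocus (R := B ⊗[A] B) (J : Set (B ⊗[A] B))) := by
      have : J = Ideal.span (G : Set (B ⊗[A] B)) := hG.symm
      rw [this, PrimeSpectrum.zeroLocus_span, ← Set.biUnion_of_singleton (G : Set (B ⊗[A] B)),
        PrimeSpectrum.zeroLocus_iUnion₂]
      refine G.finite_toSet.isOpen_biInter fun g _ => ?_
      rw [← isClosed_compl_iff, ← PrimeSpectrum.basicOpen_eq_zeroLocus_compl]
      exact (PrimeSpectrum.isCompact_basicOpen g).isClosed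
    let p₁ := PrimeSpectrum.comap (Algebra.TensorProduct.includeLeftRingHom (R := A) (A := B) (B := B))
    let p₂ := PrimeSpectrum.comap (Algebra.TensorProduct.includeRight (R := A) (A := B) (B := B)).toRingHom
    let P := fun x => (p₁ x, p₂ x)
    have hP : Continuous P := (PrimeSpectrum.continuous_comap _).prodMk (PrimeSpectrum.continuous_comap _)
    let K := P '' (PrimeSpectrum.zeroLocus (R := B ⊗[A] B) (J : Set (B ⊗[A] B)))ᶜ
    have hK : IsClosed K := (hJ.isClosed_compl.isCompact.image hP).isClosed
    -- over `(q, q)` only the diagonal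
    have hqq : (q, q) ∉ K := by
      rintro ⟨x, hx, hxq⟩
      refine hx ?_
      have h1 : p₁ x = q := congrArg Prod.fst hxq
      have h2 : p₂ x = q := congrArg Prod.snd hxq
      let p := q.asIdeal.under A
      have : q.asIdeal.LiesOver p := ⟨rfl⟩
      let := Localization.AtPrime.algebraOfLiesOver p q.asIdeal
      have : Module.Finite p.ResidueField q.asIdeal.ResidueField := inferInstance
      have := hres ⟨p, inferInstance⟩
      have h1' : q.asIdeal = x.asIdeal.comap (Algebra.TensorProduct.includeLeftRingHom (R := A) (A := B) (B := B)) :=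
        (congrArg PrimeSpectrum.asIdeal h1).symm
      have h2' : q.asIdeal = x.asIdeal.comap (Algebra.TensorProduct.includeRight (R := A) (A := B) (B := B)).toRingHom :=
        (congrArg PrimeSpectrum.asIdeal h2).symm
      let g₁ := Ideal.ResidueField.map q.asIdeal x.asIdeal _ h1'
      let g₂ := Ideal.ResidueField.map q.asIdeal x.asIdeal _ h2'
      let := (g₁.comp (algebraMap p.ResidueField q.asIdeal.ResidueField)).toAlgebra
      let i₁ : q.asIdeal.ResidueField →ₐ[p.ResidueField] x.asIdeal.ResidueField := { g₁ with commutes' := fun _ => rfl }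
      let i₂ : q.asIdeal.ResidueField →ₐ[p.ResidueField] x.asIdeal.ResidueField := { g₂ with
        commutes' := fun a => RingHom.congr_fun (IsFractionRing.ringHom_ext (A := A ⧸ p)
          (f1 := g₂.comp (algebraMap p.ResidueField q.asIdeal.ResidueField))
          (f2 := g₁.comp (algebraMap p.ResidueField q.asIdeal.ResidueField)) fun z => by
            obtain ⟨z, rfl⟩ := Ideal.Quotient.mk_surjective z
            rw [RingHom.comp_apply, RingHom.comp_apply]
            rw [Ideal.algebraMap_quotient_residueField_mk, ← IsScalarTower.algebraMap_apply,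
              IsScalarTower.algebraMap_apply A B q.asIdeal.ResidueField]
            simp only [g₁, g₂]
            rw [Ideal.ResidueField.map_algebraMap, Ideal.ResidueField.map_algebraMap]
            congr 1
            exact (Algebra.TensorProduct.includeRight (R := A) (A := B) (B := B)).commutes z) a }
      have hi : i₁ = i₂ := Subsingleton.elim _ _
      rw [PrimeSpectrum.mem_zeroLocus]
      change (KaehlerDifferential.ideal A B : Set (B ⊗[A] B)) ⊆ _
      rw [← KaehlerDifferential.span_range_eq_ideal, SetLike.coe_subset_coe, Ideal.span_le]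
      rintro _ ⟨b, rfl⟩
      rw [SetLike.mem_coe, ← Ideal.algebraMap_residueField_eq_zero, map_sub, sub_eq_zero]
      have h := AlgHom.congr_fun hi (algebraMap B _ b)
      change g₁ _ = g₂ _ at h
      simp only [g₁, g₂] at h
      rw [Ideal.ResidueField.map_algebraMap, Ideal.ResidueField.map_algebraMap] at h
      exact h.symm
    obtain ⟨U, V, hU, hV, hqU, hqV, hUV⟩ := isOpen_prod_iff.1 hK.isOpen_compl q q hqq
    obtain ⟨W, hW, hqW, hWUV⟩ := compact_exists_isClopen_in_isOpen (hU.inter hV) ⟨hqU, hqV⟩
    refine ⟨W, hW, hqW, fun y hy y' hy' hyy => by_contra fun hne => ?_⟩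
    have h0 : (y, y') ∉ K := hUV ⟨(hWUV hy).1, (hWUV hy').2⟩
    -- a point of the fibre product over `(y, y')`
    let p := y.asIdeal.under A
    have : y.asIdeal.LiesOver p := ⟨rfl⟩
    have : y'.asIdeal.LiesOver p := ⟨congrArg PrimeSpectrum.asIdeal hyy⟩
    let := Localization.AtPrime.algebraOfLiesOver p y.asIdeal
    let := Localization.AtPrime.algebraOfLiesOver p y'.asIdeal
    have : Module.Finite p.ResidueField y.asIdeal.ResidueField := inferInstance
    have : Module.Finite p.ResidueField y'.asIdeal.ResidueField := inferInstance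
    let Ω := AlgebraicClosure p.ResidueField
    let g : B ⊗[A] B →ₐ[A] Ω := Algebra.TensorProduct.lift
      (((IsAlgClosed.lift : y.asIdeal.ResidueField →ₐ[p.ResidueField] Ω).restrictScalars A).comp
        (IsScalarTower.toAlgHom A B y.asIdeal.ResidueField))
      (((IsAlgClosed.lift : y'.asIdeal.ResidueField →ₐ[p.ResidueField] Ω).restrictScalars A).comp
        (IsScalarTower.toAlgHom A B y'.asIdeal.ResidueField)) fun _ _ => .all _ _
    let x : PrimeSpectrum (B ⊗[A] B) := ⟨RingHom.ker g, RingHom.ker_isPrime g⟩
    have hx1 : p₁ x = y := PrimeSpectrum.ext (Ideal.ext fun b => by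
      change g (b ⊗ₜ 1) = 0 ↔ _
      simp [g, Ideal.algebraMap_residueField_eq_zero])
    have hx2 : p₂ x = y' := PrimeSpectrum.ext (Ideal.ext fun b => by
      change g (1 ⊗ₜ b) = 0 ↔ _
      simp [g, Ideal.algebraMap_residueField_eq_zero])
    refine h0 ⟨x, fun hxJ => hne ?_, Prod.ext hx1 hx2⟩
    rw [← hx1, ← hx2]
    refine PrimeSpectrum.ext (Ideal.ext fun b => ?_)
    have := hxJ (KaehlerDifferential.one_smul_sub_smul_one_mem_ideal A b)
    change _ ∈ x.asIdeal at this
    change b ⊗ₜ[A] (1 : B) ∈ x.asIdeal ↔ (1 : B) ⊗ₜ[A] b ∈ x.asIdeal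
    exact ⟨fun h => by simpa using x.asIdeal.add_mem this h, fun h => by simpa using x.asIdeal.sub_mem h this⟩
  refine ⟨fun U hU => isOpen_iff_forall_mem_open.2 fun q hq => ?_⟩
  obtain ⟨W, hW, hqW, hWi⟩ := hinj q
  have hO : IsOpen (f '' (U ∩ W)) := by
    have : f '' (U ∩ W) = f '' W \ f '' (W \ U) := by
      ext a
      constructor
      · rintro ⟨z, ⟨hzU, hzW⟩, rfl⟩
        exact ⟨⟨z, hzW, rfl⟩, fun ⟨z', ⟨hz'W, hz'U⟩, he⟩ => hz'U (hWi hz'W hzW he ▸ hzU)⟩
      · rintro ⟨⟨z, hzW, rfl⟩, hne⟩
        exact ⟨z, ⟨by_contra fun hzU => hne ⟨z, ⟨hzW, hzU⟩, rfl⟩, hzW⟩, rfl⟩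
    rw [this]
    exact (himg W hW).2.sdiff ((hW.1.sdiff hU).isCompact.image hf).isClosed
  refine ⟨W ∩ f ⁻¹' closure (f '' (U ∩ W)), ?_, hW.2.inter ((ExtremallyDisconnected.open_closure _ hO).preimage hf),
    hqW, image_closure_subset_closure_image hf ⟨q, hW.isOpen.closure_inter ⟨hq, hqW⟩, rfl⟩⟩
  rintro y ⟨hyW, hy⟩
  rw [Set.mem_preimage, ← image_closure_of_isCompact isClosed_closure.isCompact hf.continuousOn] at hy
  obtain ⟨z, hz, he⟩ := hy
  have hz' := closure_inter_subset_inter_closure U W hz
  rw [← hWi (hW.1.closure_eq ▸ hz'.2) hyW he]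
  exact hz'.1

end Groth.Agent.S0750
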