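import Groth.Statements.S0679
import Groth.Agent.S0677
import Groth.Agent.S0750
import Groth.Agent.WLocalLib.PiZero
import Groth.Agent.Hensel.IntegralStrict
import Groth.Agent.Hensel.HenselizationProps
import Groth.Agent.Hensel.Henselization
-- import your own Groth.Agent.* helpers here

set_option autoImplicit false
open CategoryTheory CategoryTheory.Limits AlgebraicGeometry Opposite Topology
universe u
open ProEtW

namespace Groth.Agent.S0679

/-- If A → B is a finite ring map of finite presentation and A is w-contractible, then B is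
w-contractible. -/
theorem result (A B : Type u) [CommRing A] [CommRing B]
    [Algebra A B] [Module.Finite A B] [Algebra.FinitePresentation A B]
    (h : EtPBC.IsWContractible A) : EtPBC.IsWContractible B := by
  obtain ⟨hW, hE, hH⟩ := (S0677.result A).1 h
  refine (S0677.result B).2 ?_
  have hint : Algebra.IsIntegral A B := Algebra.IsIntegral.of_finite A B
  let f := PrimeSpectrum.comap (algebraMap A B)
  -- closed points
  have hcl : ∀ Q : PrimeSpectrum B, IsClosed ({Q} : Set (PrimeSpectrum B)) ↔ IsClosed ({f Q} : Set (PrimeSpectrum A)) := fun Q => by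
    rw [PrimeSpectrum.isClosed_singleton_iff_isMaximal, PrimeSpectrum.isClosed_singleton_iff_isMaximal]
    exact ⟨fun _ => Ideal.isMaximal_comap_of_isIntegral_of_isMaximal Q.asIdeal,
      fun h => Ideal.isMaximal_of_isIntegral_of_isMaximal_comap (R := A) Q.asIdeal h⟩
  have hset : {Q : PrimeSpectrum B | IsClosed ({Q} : Set (PrimeSpectrum B))} = f ⁻¹' {x | IsClosed ({x} : Set (PrimeSpectrum A))} :=
    Set.ext hcl
  have hWB : ProEtW.IsWLocal (PrimeSpectrum B) := by
    refine ⟨inferInstance, by rw [hset]; exact hW.2.1.preimage (PrimeSpectrum.continuous_comap _), fun q => ?_⟩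
    let m := WLocalLib.ret hW (f q)
    have hm : m.asIdeal.IsMaximal := (PrimeSpectrum.isClosed_singleton_iff_isMaximal _).1 (WLocalLib.ret_closed hW _)
    obtain ⟨_, _⟩ := hH m.asIdeal
    -- `B ⧸ q` is integral over the henselian local ring at `m`
    have hu : ∀ y : m.asIdeal.primeCompl, IsUnit (algebraMap A (B ⧸ q.asIdeal) y) := fun y => by
      by_contra hy
      obtain ⟨Q, hQ, hyQ⟩ := exists_max_ideal_of_mem_nonunits hy
      let Q' : PrimeSpectrum B := PrimeSpectrum.comap (Ideal.Quotient.mk q.asIdeal) ⟨Q, hQ.isPrime⟩
      have hQ' : IsClosed ({f Q'} : Set (PrimeSpectrum A)) := (hcl Q').1 ((PrimeSpectrum.isClosed_singleton_iff_isMaximal _).2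
        (Ideal.comap_isMaximal_of_surjective _ Ideal.Quotient.mk_surjective))
      have hle : q ⤳ Q' := (PrimeSpectrum.le_iff_specializes _ _).1 fun z hz => by
        show Ideal.Quotient.mk q.asIdeal z ∈ Q
        rw [Ideal.Quotient.eq_zero_iff_mem.2 hz]
        exact zero_mem _
      have : m = f Q' := WLocalLib.ret_unique hW hQ' (hle.map (PrimeSpectrum.continuous_comap _))
      exact y.2 ((SetLike.ext_iff.1 (congrArg PrimeSpectrum.asIdeal this) (y : A)).2 hyQ)
    let := (IsLocalization.lift (S := Localization.AtPrime m.asIdeal) hu).toAlgebra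
    have : IsScalarTower A (Localization.AtPrime m.asIdeal) (B ⧸ q.asIdeal) :=
      IsScalarTower.of_algebraMap_eq fun a => (IsLocalization.lift_eq hu a).symm
    have : Algebra.IsIntegral (Localization.AtPrime m.asIdeal) (B ⧸ q.asIdeal) := Algebra.IsIntegral.tower_top A
    have hloc := Hensel.isLocalRing_of_isIntegral_domain (Localization.AtPrime m.asIdeal) (B ⧸ q.asIdeal)
    let Q : PrimeSpectrum B := PrimeSpectrum.comap (Ideal.Quotient.mk q.asIdeal) ⟨IsLocalRing.maximalIdeal _, inferInstance⟩
    refine ⟨Q, ⟨(PrimeSpectrum.isClosed_singleton_iff_isMaximal _).2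
        (Ideal.comap_isMaximal_of_surjective _ Ideal.Quotient.mk_surjective), ?_⟩, ?_⟩
    · refine (PrimeSpectrum.le_iff_specializes _ _).1 fun z hz => ?_
      show Ideal.Quotient.mk q.asIdeal z ∈ IsLocalRing.maximalIdeal _
      rw [Ideal.Quotient.eq_zero_iff_mem.2 hz]
      exact zero_mem _
    · rintro Q₁ ⟨hQ₁, hle⟩
      rw [← PrimeSpectrum.le_iff_specializes] at hle
      have hQ₁' := (PrimeSpectrum.isClosed_singleton_iff_isMaximal _).1 hQ₁
      have hmax : (Q₁.asIdeal.map (Ideal.Quotient.mk q.asIdeal)).IsMaximal :=
        (Ideal.map_eq_top_or_isMaximal_of_surjective _ Ideal.Quotient.mk_surjective hQ₁').resolve_left fun ht => by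
          refine hQ₁'.ne_top ?_
          rw [← Ideal.comap_map_mk hle, ht, Ideal.comap_top]
      refine PrimeSpectrum.ext ?_
      change Q₁.asIdeal = (IsLocalRing.maximalIdeal _).comap _
      rw [← IsLocalRing.eq_maximalIdeal hmax, Ideal.comap_map_mk hle]
  refine ⟨hWB, ?_, fun Q hQ => ?_⟩
  · let I := PrimeSpectrum.vanishingIdeal {x : PrimeSpectrum A | IsClosed ({x} : Set (PrimeSpectrum A))}
    have hI : PrimeSpectrum.zeroLocus (R := A) I = {x : PrimeSpectrum A | IsClosed ({x} : Set (PrimeSpectrum A))} := by
      rw [PrimeSpectrum.zeroLocus_vanishingIdeal_eq_closure]; exact hW.2.1.closure_eq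
    let eA : PrimeSpectrum (A ⧸ I) ≃ₜ {x : PrimeSpectrum A | IsClosed ({x} : Set (PrimeSpectrum A))} :=
      (PrimeSpectrum.isClosedEmbedding_comap_of_surjective _ _ Ideal.Quotient.mk_surjective).isEmbedding.toHomeomorph.trans
        (Homeomorph.setCongr (by rw [range_comap_of_surjective _ _ Ideal.Quotient.mk_surjective, Ideal.mk_ker, hI]))
    have := (WLocalLib.isProfinite_closedPoints hW).2.1
    have : T2Space (PrimeSpectrum (A ⧸ I)) := eA.symm.t2Space
    have : ExtremallyDisconnected (PrimeSpectrum (A ⧸ I)) :=
      extremallyDisconnected_of_homeo ((WLocalLib.componentsHomeo hW).trans eA.symm)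
    have hres : ∀ p : PrimeSpectrum (A ⧸ I), IsSepClosed p.asIdeal.ResidueField := fun p => by
      let P := p.asIdeal.comap (Ideal.Quotient.mk I)
      have hP : P.IsMaximal := (PrimeSpectrum.isClosed_singleton_iff_isMaximal _).1 (show
        PrimeSpectrum.comap (Ideal.Quotient.mk I) p ∈ {x : PrimeSpectrum A | IsClosed ({x} : Set (PrimeSpectrum A))} by
          rw [← hI, PrimeSpectrum.mem_zeroLocus]
          intro z hz
          change Ideal.Quotient.mk I z ∈ p.asIdeal
          rw [Ideal.Quotient.eq_zero_iff_mem.2 hz]
          exact zero_mem _)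
      obtain ⟨_, hsep⟩ := hH P
      exact Hensel.isSepClosed_of_ringEquiv (RingEquiv.ofBijective (Ideal.ResidueField.map P p.asIdeal (Ideal.Quotient.mk I) rfl)
        (RingHom.SurjectiveOnStalks.residueFieldMap_bijective (RingHom.surjectiveOnStalks_of_surjective Ideal.Quotient.mk_surjective) P p.asIdeal rfl))
    have : Module.Finite (A ⧸ I) (B ⧸ I.map (algebraMap A B)) := Module.Finite.of_restrictScalars_finite A _ _
    have : Algebra.FinitePresentation (A ⧸ I) (B ⧸ I.map (algebraMap A B)) :=
      Algebra.FinitePresentation.equiv (Algebra.TensorProduct.quotIdealMapEquivQuotTensor B I).symm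
    have := S0750.result (A ⧸ I) (B ⧸ I.map (algebraMap A B)) hres
    refine extremallyDisconnected_of_homeo (X := PrimeSpectrum (B ⧸ I.map (algebraMap A B)))
      ((Homeomorph.trans (Y := Set.range (PrimeSpectrum.comap (Ideal.Quotient.mk (I.map (algebraMap A B))))) ?_ ?_).trans
        (WLocalLib.componentsHomeo hWB).symm)
    · exact (PrimeSpectrum.isClosedEmbedding_comap_of_surjective _ _ Ideal.Quotient.mk_surjective).isEmbedding.toHomeomorph
    · refine Homeomorph.setCongr ?_
      rw [range_comap_of_surjective _ _ Ideal.Quotient.mk_surjective, Ideal.mk_ker, hset, ← hI,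
        PrimeSpectrum.preimage_comap_zeroLocus, Ideal.map, PrimeSpectrum.zeroLocus_span]
  · let m := Q.comap (algebraMap A B)
    have hm : m.IsMaximal := Ideal.isMaximal_comap_of_isIntegral_of_isMaximal Q
    obtain ⟨_, _⟩ := hH m
    let S := Algebra.algebraMapSubmonoid B m.primeCompl
    let : Algebra (Localization.AtPrime m) (Localization S) := localizationAlgebra m.primeCompl B
    have : IsScalarTower A (Localization.AtPrime m) (Localization S) := isScalarTower_localizationAlgebra m.primeCompl B
    have : Module.Finite (Localization.AtPrime m) (Localization S) :=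
      Module.Finite.of_isLocalization A B m.primeCompl
    have hd : Disjoint (S : Set B) Q := Set.disjoint_left.2 fun z hz hzQ => by
      obtain ⟨a, ha, rfl⟩ := hz
      exact ha hzQ
    have hM : (Q.map (algebraMap B (Localization S))).IsPrime :=
      IsLocalization.isPrime_of_isPrime_disjoint S _ Q hQ.isPrime hd
    let M := Q.map (algebraMap B (Localization S))
    have hMQ : M.comap (algebraMap B (Localization S)) = Q :=
      IsLocalization.under_map_of_isPrime_disjoint S (Localization S) hQ.isPrime hd
    have hMmax : M.IsMaximal := by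
      refine Ideal.isMaximal_of_isIntegral_of_isMaximal_comap (R := Localization.AtPrime m) M ?_
      have : M.comap (algebraMap (Localization.AtPrime m) (Localization S)) = IsLocalRing.maximalIdeal _ := by
        refine (IsLocalization.orderEmbedding m.primeCompl (Localization.AtPrime m)).injective ?_
        change Ideal.comap (algebraMap A _) _ = Ideal.comap (algebraMap A _) _
        rw [Ideal.comap_comap, ← IsScalarTower.algebraMap_eq, IsScalarTower.algebraMap_eq A B (Localization S),
          ← Ideal.comap_comap, hMQ]
        exact (IsLocalization.AtPrime.under_maximalIdeal (Localization.AtPrime m) m).symm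
      rw [this]
      infer_instance
    obtain ⟨_, e, he, heM⟩ := Hensel.exists_idempotents_of_henselian (Localization.AtPrime m) (Localization S)
    let M' : MaximalSpectrum (Localization S) := ⟨M, hMmax⟩
    have hC := Hensel.isLocalization_atPrime_quotient_one_sub he.idem heM M'
    let C := Localization S ⧸ Ideal.span {1 - e M'}
    have : IsLocalRing C := Hensel.isLocalRing_quotient_one_sub he.idem heM M'
    have : HenselianLocalRing C := Hensel.henselianLocalRing_of_finite (Localization.AtPrime m) C
    have : IsLocalHom (algebraMap (Localization.AtPrime m) C) := Hensel.isLocalHom_of_isIntegral_local _ _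
    have hsep := (Hensel.residueField_of_isIntegral (Localization.AtPrime m) C).1
    have : IsLocalization.AtPrime C Q := by
      have h := IsLocalization.isLocalization_isLocalization_atPrime_isLocalization (M := S) (S := Localization S) C M
      convert h using 1
      exact hMQ.symm
    let eq : C ≃+* Localization.AtPrime Q := (IsLocalization.algEquiv Q.primeCompl C (Localization.AtPrime Q)).toRingEquiv
    exact ⟨Hensel.henselianLocalRing_of_ringEquiv eq, Hensel.isSepClosed_of_ringEquiv (IsLocalRing.ResidueField.mapEquiv eq)⟩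

end Groth.Agent.S0679
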