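import Groth.Statements.S0706
-- import your own Groth.Agent.* helpers here

set_option autoImplicit false
open CategoryTheory CategoryTheory.Limits AlgebraicGeometry Opposite Topology
universe u
open ProEtW

namespace Groth.Agent.S0706

/-- Let f be an element and I an ideal of A, and Z the intersection of D(f) and V(I) in Spec A. There is
a multiplicative subset S of A for which the image of Spec(S^{-1}A) in Spec A consists precisely of
the points having a specialization in Z. -/
theorem result (A : Type u) [CommRing A] (f : A) (I : Ideal A) :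
    ∃ S : Submonoid A,
      Set.range (PrimeSpectrum.comap (algebraMap A (Localization S))) =
        {x | ∃ z : PrimeSpectrum A,
          z ∈ (PrimeSpectrum.basicOpen f : Set (PrimeSpectrum A)) ∩ PrimeSpectrum.zeroLocus I ∧ x ⤳ z} := by
  let M : Submonoid A :=
          { carrier := {a | ∀ z ∈ (PrimeSpectrum.basicOpen f : Set (PrimeSpectrum A)) ∩
              PrimeSpectrum.zeroLocus I, a ∉ z.asIdeal}
            one_mem' := fun z _ h => z.2.ne_top ((Ideal.eq_top_iff_one _).2 h)
            mul_mem' := fun ha hb z hz h => (z.2.mem_or_mem h).elim (ha z hz) (hb z hz) }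
  refine ⟨M, (PrimeSpectrum.localization_comap_range (Localization M) M).trans ?_⟩
  ext x
  simp only [Set.mem_setOf_eq, Set.disjoint_left]
  constructor
  · intro h
    by_contra hne
    have hmem : f ∈ (x.asIdeal ⊔ I).radical := by
      rw [Ideal.radical_eq_sInf, Ideal.mem_sInf]
      rintro J ⟨hJ, hJp⟩
      by_contra hf
      exact hne ⟨⟨J, hJp⟩, ⟨hf, (le_sup_right.trans hJ)⟩,
        (PrimeSpectrum.le_iff_specializes x ⟨J, hJp⟩).1 (le_sup_left.trans hJ)⟩
    obtain ⟨n, hn⟩ := hmem
    obtain ⟨a, ha, i, hi, hai⟩ := Submodule.mem_sup.1 hn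
    refine h ?_ ha
    intro z hz haz
    have : f ^ n ∈ z.asIdeal := hai ▸ z.asIdeal.add_mem haz (hz.2 hi)
    exact hz.1 (z.2.mem_of_pow_mem n this)
  · rintro ⟨z, hz, hxz⟩ a ha hax
    exact ha z hz ((PrimeSpectrum.le_iff_specializes x z).2 hxz hax)

end Groth.Agent.S0706
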