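import Groth.Statements.S0742
import Mathlib.CategoryTheory.Adjunction.Triple
import Mathlib.CategoryTheory.Monad.Adjunction
-- import your own Groth.Agent.* helpers here

set_option autoImplicit false
open CategoryTheory CategoryTheory.Limits AlgebraicGeometry Opposite
universe u
open ProEtS

namespace Groth.Agent.S0742

/-- For an open immersion j : U -> X, the unit F -> j^{-1} j_! F and the counit j^{-1} j_* G -> G are
isomorphisms on abelian pro-etale sheaves (so j_! and j_* are fully faithful; continuity binders
assumed). -/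
theorem result {U X : Scheme.{u}} (j : U ⟶ X) [IsOpenImmersion j]
    [ProEtS.JPCont j] [ProEtS.PCont j] (F G : ProEtS.AbP U) :
    IsIso ((ProEtS.extZeroPAdj j).unit.app F) ∧ IsIso ((ProEtS.pullPushAdjP j).counit.app G) := by
  let adj : ProEtS.compP j ⊣ ProEtS.bcP j :=
    MorphismProperty.Over.mapPullbackAdj (@WeaklyEtale) ⊤ j inferInstance trivial
  let adjP : ProEtS.restrP j ⊣ ProEtS.pushP j :=
    adj.sheafPushforwardContinuous (E := AddCommGrpCat.{u + 1}) (Scheme.ProEt.topology U) (Scheme.ProEt.topology X)
  have hu : ∀ V : U.ProEt, IsIso (adj.unit.app V) := fun V => by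
    have hw : pullback.fst (V.hom ≫ j) j ≫ V.hom = pullback.snd (V.hom ≫ j) j := by
      rw [← cancel_mono j, Category.assoc]; exact pullback.condition
    refine ⟨⟨MorphismProperty.Over.homMk (pullback.fst (V.hom ≫ j) j) hw,
      MorphismProperty.Over.Hom.ext ?_, MorphismProperty.Over.Hom.ext ?_⟩⟩
    · exact pullback.lift_fst _ _ _
    · change pullback.fst (V.hom ≫ j) j ≫ pullback.lift (𝟙 _) V.hom _ = 𝟙 _
      apply pullback.hom_ext
      · rw [Category.assoc, pullback.lift_fst, Category.id_comp]; exact Category.comp_id _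
      · rw [Category.assoc, pullback.lift_snd, Category.id_comp]; exact hw
  have : IsIso adj.unit := NatIso.isIso_of_isIso_app adj.unit
  let e : ProEtS.compP j ⋙ ProEtS.bcP j ≅ 𝟭 _ := (asIso adj.unit).symm
  have := Functor.isContinuous_comp (ProEtS.compP j) (ProEtS.bcP j) (Scheme.ProEt.topology U)
    (Scheme.ProEt.topology X) (Scheme.ProEt.topology U)
  let i : ProEtS.pushP j ⋙ ProEtS.restrP j ≅ 𝟭 _ :=
    Functor.sheafPushforwardContinuousComp' e AddCommGrpCat.{u + 1} (Scheme.ProEt.topology U)
      (Scheme.ProEt.topology X) (Scheme.ProEt.topology U) ≪≫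
        Functor.sheafPushforwardContinuousId _ _
  let hH := adjP.fullyFaithfulROfCompIsoId i
  have := hH.full
  have := hH.faithful
  let t : Adjunction.Triple (ProEtS.extZeroP j) (ProEtS.restrP j) (ProEtS.pushP j) :=
    ⟨ProEtS.extZeroPAdj j, adjP⟩
  have := (t.fullyFaithfulEquiv.symm hH).full
  have := (t.fullyFaithfulEquiv.symm hH).faithful
  exact ⟨inferInstance, inferInstance⟩

end Groth.Agent.S0742
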