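import Groth.Statements.S7289
import Groth.Agent.IndEtLib.Sys
-- import your own Groth.Agent.* helpers here

set_option autoImplicit false
open CategoryTheory CategoryTheory.Limits AlgebraicGeometry Opposite
universe u
open ProEtW

namespace Groth.Agent.S7289

/-- Ind-etale A-algebras are stable under filtered colimits, i.e. any colimit over a filtered index
category of such algebras is again ind-etale over A. Concretely: if D is a filtered diagram of rings
under A all of whose values are ind-etale A-algebras, and the A-algebra B is a colimit of D in the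
category of rings under A, then B is ind-etale over A. -/
theorem result (A B : Type u) [CommRing A] [CommRing B] [Algebra A B]
    {J : Type u} [SmallCategory J] [IsFiltered J] (D : J ⥤ Under (CommRingCat.of A))
    (hD : ∀ j, letI := (D.obj j).hom.hom.toAlgebra; EtPBC.IsIndEtale A ↥(D.obj j).right)
    (c : Cocone D) (hc : IsColimit c)
    (e : c.pt ≅ Under.mk (CommRingCat.ofHom (algebraMap A B))) :
    EtPBC.IsIndEtale A B := by
  refine Groth.Agent.IndEtLib.isIndEtale_of_factor fun P _ _ _ φ => ?_
  let S : Groth.Agent.IndEtLib.Sys (CommRingCat.of A) := ⟨J, D, c, hc⟩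
  let eB : S.pt ≃ₐ[A] B := AlgEquiv.ofRingEquiv
    (f := ((Under.forget _).mapIso e).commRingCatIsoToRingEquiv)
    fun a => ConcreteCategory.congr_hom (CategoryTheory.Under.w e.hom) a
  obtain ⟨j, ψ, hψ⟩ := S.exists_lift P (eB.symm.toAlgHom.comp φ)
  obtain ⟨T, hT, ⟨eT⟩⟩ := Groth.Agent.IndEtLib.exists_sys (hD j)
  obtain ⟨k, α, hα⟩ := T.exists_lift P (eT.symm.toAlgHom.comp ψ)
  refine ⟨T.A k, inferInstance, inferInstance, hT k, α,
    eB.toAlgHom.comp ((S.ι j).comp (eT.toAlgHom.comp (T.ι k))), AlgHom.ext fun p => ?_⟩
  change eB (S.ι j (eT (T.ι k (α p)))) = φ p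
  rw [show T.ι k (α p) = eT.symm (ψ p) from AlgHom.congr_fun hα p, eT.apply_symm_apply,
    show S.ι j (ψ p) = eB.symm (φ p) from AlgHom.congr_fun hψ p, eB.apply_symm_apply]

end Groth.Agent.S7289
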