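import Groth.Statements.S7157
import Mathlib
-- import your own Groth.Agent.* helpers here

set_option autoImplicit false
set_option linter.style.haveILetI false
universe u
open EtAlg

open Polynomial

namespace Groth.Agent.S7157

theorem totallyRamified_of_pow {A : Type u} [CommRing A] [IsLocalRing A] (π : A)
    (hπ : IsLocalRing.maximalIdeal A = Ideal.span {π}) {B : Type u} [CommRing B] [IsDomain B]
    [IsDiscreteValuationRing B] [Algebra A B] (r : B) (hr : IsLocalRing.maximalIdeal B = Ideal.span {r})
    (n : ℕ) (hn : n ≠ 0) (u : B) (v : B) (hrn : r ^ n = algebraMap A B π * u) (hπr : algebraMap A B π = r ^ n * v) [Algebra.IsIntegral A B]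
    (hsplit : ∀ b : B, ∃ a : A, ∃ b' : B, b = algebraMap A B a + r * b')
    (K₁ : Type u) [Field K₁] [Algebra B K₁] [IsFractionRing B K₁] :
    EtRam.IsTotallyRamified A ((algebraMap B K₁).comp (algebraMap A B)) := by
  set g := (algebraMap B K₁).comp (algebraMap A B)
  have hrπ : algebraMap B K₁ r ^ n = g π * algebraMap B K₁ u := by
    rw [← map_pow, hrn, map_mul]; rfl
  have hπr' : g π = algebraMap B K₁ r ^ n * algebraMap B K₁ v := by
    rw [← map_pow, ← map_mul, ← hπr]; rfl
  have hr0 : algebraMap B K₁ r ≠ 0 := by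
    rw [Ne, IsFractionRing.to_map_eq_zero_iff]
    intro h
    exact IsDiscreteValuationRing.not_a_field B (by rw [hr, h]; simp)
  have inj := IsFractionRing.injective B K₁
  let V₀ : ValuationSubring K₁ :=
    ⟨(algebraMap B K₁).range, fun x => by
      rcases ValuationRing.isInteger_or_isInteger B x with ⟨b, hb⟩ | ⟨b, hb⟩
      · exact Or.inl ⟨b, hb⟩
      · exact Or.inr ⟨b, hb⟩⟩
  have hmem : ∀ x, x ∈ V₀ ↔ ∃ b, algebraMap B K₁ b = x := fun x => Iff.rfl
  -- everything dominating `A` is `V₀`
  have huniq : ∀ V : ValuationSubring K₁, EtRam.Dominates A g V →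
      V.valuation (algebraMap B K₁ r) < 1 ∧ V = V₀ := by
    intro V hV
    have hπV := hV.2 π (hπ ▸ Ideal.mem_span_singleton_self π)
    have hB : ∀ b, algebraMap B K₁ b ∈ V := by
      intro b
      obtain ⟨P, hP, hPb⟩ := Algebra.IsIntegral.isIntegral (R := A) b
      let g' : A →+* V := g.codRestrict V hV.1
      have : IsIntegral V (algebraMap B K₁ b) := by
        refine ⟨P.map g', hP.map g', ?_⟩
        rw [eval₂_map]
        have : (algebraMap V K₁).comp g' = (algebraMap B K₁).comp (algebraMap A B) := RingHom.ext fun _ => rfl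
        rw [this, ← hom_eval₂, hPb, map_zero]
      obtain ⟨v, hv⟩ := IsIntegrallyClosed.isIntegral_iff.1 this
      rw [← hv]; exact v.2
    have hrV : V.valuation (algebraMap B K₁ r) < 1 := by
      have h1 : V.valuation (algebraMap B K₁ r) ^ n < 1 := by
        rw [← map_pow, hrπ, map_mul]
        exact mul_lt_one_of_lt_of_le hπV ((V.valuation_le_one_iff _).2 (hB u))
      by_contra hlt
      exact (not_lt.2 (one_le_pow₀ (not_lt.1 hlt))) h1
    refine ⟨hrV, ?_⟩
    ext x
    refine ⟨fun hx => ?_, fun ⟨b, hb⟩ => hb ▸ hB b⟩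
    rcases ValuationRing.isInteger_or_isInteger B x with ⟨b, hb⟩ | ⟨b, hb⟩
    · exact ⟨b, hb⟩
    rcases eq_or_ne x 0 with rfl | hx0
    · exact zero_mem V₀
    by_cases hu : IsUnit b
    · obtain ⟨u, rfl⟩ := hu
      refine ⟨↑u⁻¹, ?_⟩
      rw [map_units_inv, hb, inv_inv]
    · exfalso
      have hbm : b ∈ Ideal.span {r} := hr ▸ (IsLocalRing.mem_maximalIdeal b).2 hu
      obtain ⟨c, rfl⟩ := Ideal.mem_span_singleton.1 hbm
      have h1 : algebraMap B K₁ r * (algebraMap B K₁ c * x) = 1 := by
        rw [← mul_assoc, ← map_mul, hb, inv_mul_cancel₀ hx0]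
      have h2 := congrArg V.valuation h1
      rw [map_mul, map_one] at h2
      have h3 : V.valuation (algebraMap B K₁ c * x) ≤ 1 :=
        (V.valuation_le_one_iff _).2 (mul_mem (hB c) hx)
      exact absurd h2 (ne_of_lt (mul_lt_one_of_lt_of_le hrV h3))
  refine ⟨⟨V₀, fun a => ⟨algebraMap A B a, rfl⟩, fun a ha => ?_⟩, fun V V' h h' =>
    (huniq V h).2.trans (huniq V' h').2.symm, fun V hV x => ?_⟩
  · rw [hπ, Ideal.mem_span_singleton] at ha
    obtain ⟨c, rfl⟩ := ha
    have hrlt : V₀.valuation (algebraMap B K₁ r) < 1 := by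
      let r' : V₀ := ⟨_, r, rfl⟩
      refine (V₀.valuation_lt_one_iff r').1 ((IsLocalRing.mem_maximalIdeal _).2 fun hu => ?_)
      obtain ⟨⟨y, b, rfl⟩, hy⟩ := hu.exists_left_inv
      have : algebraMap B K₁ (b * r) = algebraMap B K₁ 1 := by
        rw [map_mul, map_one]; exact congrArg Subtype.val hy
      exact (IsLocalRing.mem_maximalIdeal r).1 (hr ▸ Ideal.mem_span_singleton_self r)
        (IsUnit.of_mul_eq_one_right _ (inj this))
    rw [map_mul, map_mul, hπr', map_mul, map_pow]
    exact mul_lt_one_of_lt_of_le (mul_lt_one_of_lt_of_le (pow_lt_one₀ zero_le hrlt hn)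
      ((V₀.valuation_le_one_iff _).2 ⟨v, rfl⟩)) ((V₀.valuation_le_one_iff _).2 ⟨algebraMap A B c, rfl⟩)
  · obtain ⟨hrV, e⟩ := huniq V hV
    obtain ⟨⟨v, hv⟩, rfl⟩ := IsLocalRing.residue_surjective x
    obtain ⟨b, rfl⟩ := (hmem v).1 (e ▸ hv)
    obtain ⟨a, b', rfl⟩ := hsplit b
    refine ⟨a, ?_⟩
    have hmemV : ∀ c, algebraMap B K₁ c ∈ V := fun c => by
      rw [e]; exact ⟨c, rfl⟩
    symm
    rw [← sub_eq_zero, ← map_sub, IsLocalRing.residue_eq_zero_iff, V.valuation_lt_one_iff]
    have : ((⟨_, hv⟩ - RingHom.codRestrict g V hV.1 a : V) : K₁) = algebraMap B K₁ r * algebraMap B K₁ b' := by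
      push_cast
      simp [g, RingHom.codRestrict]
    rw [this, map_mul]
    exact mul_lt_one_of_lt_of_le hrV ((V.valuation_le_one_iff _).2 (hmemV b'))


/-- Let A be a discrete valuation ring, π a uniformizer, K its field of fractions, and suppose the
residue field of A has characteristic p > 0. For every n > 1 and every power q of p there is a
separable degree-q extension L/K that is totally ramified with respect to A and whose ring of
integers B (the integral closure of A in L) contains elements π_B, b, b' with π_B^q = π + πⁿ·b and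
π_B^q = π + π_B^(nq)·b' (π_B is then a uniformizer of B and the ramification index is q). -/
theorem result (p : ℕ) (hp : p.Prime) (A K : Type u)
    [CommRing A] [IsDomain A] [IsDiscreteValuationRing A] [Field K] [Algebra A K] [IsFractionRing A K]
    [CharP (IsLocalRing.ResidueField A) p] (π : A) (hπ : IsLocalRing.maximalIdeal A = Ideal.span {π})
    (n : ℕ) (hn : 1 < n) (k : ℕ) :
    ∃ (L : Type u) (_ : Field L) (_ : Algebra K L) (_ : Algebra A L) (_ : IsScalarTower A K L),
      Module.finrank K L = p ^ k ∧ Algebra.IsSeparable K L ∧ EtRam.IsTotallyRamified A (algebraMap A L) ∧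
      ∃ πB b b' : L, πB ∈ integralClosure A L ∧ b ∈ integralClosure A L ∧ b' ∈ integralClosure A L ∧
        πB ^ (p ^ k) = algebraMap A L π + algebraMap A L π ^ n * b ∧
        πB ^ (p ^ k) = algebraMap A L π + πB ^ (n * p ^ k) * b' := by
  classical
  have hirrπ : Irreducible π := (IsDiscreteValuationRing.irreducible_iff_uniformizer π).2 hπ
  have hπ0 : π ≠ 0 := hirrπ.ne_zero
  rcases Nat.eq_zero_or_pos k with rfl | hk
  · refine ⟨K, inferInstance, inferInstance, inferInstance, inferInstance, by simp, inferInstance, ?_,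
      algebraMap A K π, 0, 0, isIntegral_algebraMap, zero_mem _, zero_mem _, by simp, by simp⟩
    exact totallyRamified_of_pow π hπ π hπ 1 one_ne_zero 1 1 (by simp) (by simp)
      (fun b => ⟨b, 0, by simp⟩) K
  set q := p ^ k with hq
  have hq2 : 2 ≤ q := le_trans hp.two_le (Nat.le_self_pow hk.ne' p)
  set m := IsLocalRing.maximalIdeal A with hm
  have hπm : π ∈ m := hπ ▸ Ideal.mem_span_singleton_self π
  set f : A[X] := X ^ q + C (π ^ n) * X - C π with hf
  have hlow : (C (π ^ n) * X - C π : A[X]).degree < (q : WithBot ℕ) :=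
    lt_of_le_of_lt ((degree_sub_le _ _).trans (max_le ((degree_C_mul_X_le _).trans le_rfl)
      (degree_C_le.trans (by norm_num)))) (by exact_mod_cast (show 1 < q by omega))
  have hfe : f = X ^ q + (C (π ^ n) * X - C π) := by rw [hf]; ring
  have hmonic : f.Monic := hfe ▸ monic_X_pow_add hlow
  have hdeg : f.natDegree = q := by
    refine natDegree_eq_of_degree_eq_some ?_
    rw [hfe, degree_add_eq_left_of_degree_lt (by rw [degree_X_pow]; exact hlow), degree_X_pow]
  have hcoeff : ∀ i, i < q → f.coeff i = (if i = 1 then π ^ n else 0) - (if i = 0 then π else 0) := by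
    intro i hi
    simp only [hf, coeff_sub, coeff_add, coeff_X_pow, coeff_C_mul, coeff_X, coeff_C]
    rw [if_neg (by omega : ¬ i = q)]
    by_cases h1 : i = 1
    · subst h1; simp
    · simp [h1, Ne.symm h1]
  have heis : f.IsEisensteinAt m := by
    refine hmonic.isEisensteinAt_of_mem_of_notMem (Ideal.IsPrime.ne_top inferInstance) (fun {i} hi => ?_) ?_
    · rw [hcoeff i (hdeg ▸ hi)]
      refine sub_mem ?_ ?_ <;> split
      · exact Ideal.pow_mem_of_mem _ hπm n (by omega)
      · exact zero_mem _
      · exact hπm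
      · exact zero_mem _
    · rw [hcoeff 0 (by omega), if_neg (by omega), if_pos rfl, zero_sub, neg_mem_iff, hπ,
        Ideal.span_singleton_pow, Ideal.mem_span_singleton]
      intro ⟨c, hc⟩
      have h1 : π * (π * c) = π * 1 := by rw [mul_one, ← mul_assoc, ← sq]; exact hc.symm
      exact hirrπ.not_isUnit (IsUnit.of_mul_eq_one _ (mul_left_cancel₀ hπ0 h1))
  have hirr : Irreducible f := heis.irreducible inferInstance hmonic.isPrimitive (by omega)
  let B := AdjoinRoot f
  haveI : IsDomain B := AdjoinRoot.isDomain_of_prime hirr.prime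
  haveI : Module.Finite A B := hmonic.finite_adjoinRoot
  haveI : IsNoetherianRing B := IsNoetherianRing.of_finite A B
  set r : B := AdjoinRoot.root f with hr
  obtain ⟨n', rfl⟩ : ∃ n', n = n' + 2 := ⟨n - 2, by omega⟩
  set u : B := 1 - algebraMap A B π ^ (n' + 1) * r with hu
  have hrq : r ^ q = algebraMap A B π * u := by
    have h := AdjoinRoot.eval₂_root f
    simp only [hf, eval₂_sub, eval₂_add, eval₂_mul, eval₂_pow, eval₂_X, eval₂_C] at h
    change r ^ q + algebraMap A B (π ^ (n' + 2)) * r - algebraMap A B π = 0 at h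
    rw [map_pow] at h
    rw [hu]; linear_combination h
  have hinj : Function.Injective (algebraMap A B) :=
    AdjoinRoot.of.injective_of_degree_ne_zero (by
      rw [degree_eq_natDegree hmonic.ne_zero, hdeg]; exact_mod_cast (show q ≠ 0 by omega))
  have hsplit : ∀ b : B, ∃ a : A, ∃ b' : B, b = algebraMap A B a + r * b' := by
    intro b
    obtain ⟨P, rfl⟩ := AdjoinRoot.mk_surjective b
    refine ⟨P.coeff 0, AdjoinRoot.mk f P.divX, ?_⟩
    conv_lhs => rw [← X_mul_divX_add P, map_add, map_mul, AdjoinRoot.mk_X, AdjoinRoot.mk_C]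
    rw [add_comm]; rfl
  haveI : Algebra.IsIntegral A B := Algebra.IsIntegral.of_finite A B
  have hπmem : ∀ M : Ideal B, M.IsMaximal → algebraMap A B π ∈ M := fun M hM => by
    have hc : (M.comap (algebraMap A B)).IsMaximal := Ideal.isMaximal_comap_of_isIntegral_of_isMaximal M
    rw [← Ideal.mem_comap, IsLocalRing.eq_maximalIdeal hc]; exact hπm
  have huu : IsUnit u := by
    by_contra h
    obtain ⟨M, hM, hMu⟩ := exists_max_ideal_of_mem_nonunits h
    refine hM.ne_top ((Ideal.eq_top_iff_one _).2 ?_)
    have h1 : algebraMap A B π ^ (n' + 1) * r ∈ M :=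
      Ideal.mul_mem_right _ _ (Ideal.pow_mem_of_mem _ (hπmem M hM) _ (by omega))
    simpa [hu] using add_mem hMu h1
  obtain ⟨v, hv⟩ := huu.exists_right_inv
  have hπr : algebraMap A B π = r ^ q * v := by rw [hrq, mul_assoc, hv, mul_one]
  have hmax : ∀ M : Ideal B, M.IsMaximal → M = Ideal.span {r} := by
    intro M hM
    have hc : (M.comap (algebraMap A B)).IsMaximal := Ideal.isMaximal_comap_of_isIntegral_of_isMaximal M
    have hcm : M.comap (algebraMap A B) = m := IsLocalRing.eq_maximalIdeal hc
    have hrM : r ∈ M := hM.isPrime.mem_of_pow_mem q (hrq ▸ Ideal.mul_mem_right _ _ (hπmem M hM))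
    refine le_antisymm (fun b hb => ?_) ((Ideal.span_singleton_le_iff_mem _).2 hrM)
    obtain ⟨a, b', rfl⟩ := hsplit b
    have ha : a ∈ m := hcm ▸ Ideal.mem_comap.2 ((Ideal.add_mem_iff_left M (Ideal.mul_mem_right _ _ hrM)).1 hb)
    rw [hπ, Ideal.mem_span_singleton] at ha
    obtain ⟨c, rfl⟩ := ha
    refine add_mem ?_ (Ideal.mul_mem_right _ _ (Ideal.mem_span_singleton_self r))
    rw [map_mul, hπr, Ideal.mem_span_singleton]
    exact ((dvd_pow_self r (show q ≠ 0 by omega)).mul_right _).mul_right _
  haveI : IsLocalRing B := by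
    obtain ⟨M, hM⟩ := Ideal.exists_maximal B
    exact IsLocalRing.of_unique_max_ideal ⟨M, hM, fun M' hM' => (hmax M' hM').trans (hmax M hM).symm⟩
  have hmaxB : IsLocalRing.maximalIdeal B = Ideal.span {r} := hmax _ inferInstance
  have hnf : ¬ IsField B := by
    rw [IsLocalRing.isField_iff_maximalIdeal_eq, hmaxB, Ideal.span_singleton_eq_bot]
    intro h
    rw [h, zero_pow (show q ≠ 0 by omega), zero_mul] at hπr
    exact hπ0 (hinj (by rw [hπr, map_zero]))
  haveI : IsDiscreteValuationRing B :=
    (((IsDiscreteValuationRing.TFAE B hnf).out 4 0 :) : (IsLocalRing.maximalIdeal B).IsPrincipal ↔ IsDiscreteValuationRing B).1 ⟨⟨r, hmaxB⟩⟩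
  let L := FractionRing B
  have hAL : Function.Injective (algebraMap A L) := by
    rw [IsScalarTower.algebraMap_eq A B L]; exact (IsFractionRing.injective B L).comp hinj
  letI : Algebra K L := (IsFractionRing.lift hAL : K →+* L).toAlgebra
  haveI : IsScalarTower A K L :=
    IsScalarTower.of_algebraMap_eq fun a => (IsFractionRing.lift_algebraMap hAL a).symm
  set x : L := algebraMap B L r with hx
  set fK : K[X] := f.map (algebraMap A K) with hfK
  have hfKirr : Irreducible fK := hmonic.irreducible_iff_irreducible_map_fraction_map.1 hirr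
  have hfA : aeval x f = 0 := by
    rw [hx, aeval_algebraMap_apply, AdjoinRoot.aeval_eq, AdjoinRoot.mk_self, map_zero]
  have hfKx : aeval x fK = 0 := by rw [hfK, aeval_map_algebraMap]; exact hfA
  have hmin : minpoly K x = fK :=
    (minpoly.eq_of_irreducible_of_monic hfKirr hfKx (hmonic.map _)).symm
  have hxint : IsIntegral K x := ⟨fK, hmonic.map _, hfKx⟩
  have hB : ∀ b : B, algebraMap B L b ∈ IntermediateField.adjoin K {x} := fun b => by
    obtain ⟨P, rfl⟩ := AdjoinRoot.mk_surjective b
    have h1 : algebraMap B L (AdjoinRoot.mk f P) = aeval x (P.map (algebraMap A K)) := by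
      rw [aeval_map_algebraMap, hx, aeval_algebraMap_apply, AdjoinRoot.aeval_eq]
    rw [h1]
    exact IntermediateField.algebra_adjoin_le_adjoin K _ (aeval_mem_adjoin_singleton K x)
  have htop : IntermediateField.adjoin K {x} = (⊤ : IntermediateField K L) := by
    refine eq_top_iff.2 fun z _ => ?_
    obtain ⟨a, b, hb, rfl⟩ := IsFractionRing.div_surjective (A := B) z
    exact div_mem (hB a) (hB b)
  have hfin : Module.finrank K L = q := by
    rw [← IntermediateField.finrank_top', ← htop, IntermediateField.adjoin.finrank hxint, hmin, hfK,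
      hmonic.natDegree_map, hdeg]
  have hsepf : fK.Separable := by
    rw [separable_iff_derivative_ne_zero hfKirr] 
    intro h0
    have hd : fK.derivative = C (q : K) * X ^ (q - 1) + C (algebraMap A K π ^ (n' + 2)) := by
      simp [hfK, hf, derivative_X_pow, derivative_pow]
    rw [hd] at h0
    have := congrArg (fun P : K[X] => P.coeff 0) h0
    simp only [coeff_add, coeff_C_mul, coeff_X_pow, if_neg (show ¬ 0 = q - 1 by omega), mul_zero,
      coeff_C_zero, zero_add, coeff_zero] at this
    exact hπ0 ((map_eq_zero_iff _ (IsFractionRing.injective A K)).1 (eq_zero_of_pow_eq_zero this))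
  have hsep : Algebra.IsSeparable K L := by
    haveI : Algebra.IsSeparable K (IntermediateField.adjoin K {x}) :=
      (IntermediateField.isSeparable_adjoin_simple_iff_isSeparable K L).2 (show (minpoly K x).Separable from hmin ▸ hsepf)
    exact Algebra.IsSeparable.of_algHom K (IntermediateField.adjoin K {x})
      ((IntermediateField.equivOfEq htop).symm.toAlgHom.comp IntermediateField.topEquiv.symm.toAlgHom)
  have htot : EtRam.IsTotallyRamified A (algebraMap A L) := by
    rw [IsScalarTower.algebraMap_eq A B L]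
    exact totallyRamified_of_pow π hπ r hmaxB q (by omega) u v hrq hπr hsplit L
  have hi : ∀ b : B, algebraMap B L b ∈ integralClosure A L := fun b =>
    (Algebra.IsIntegral.isIntegral b).algebraMap
  refine ⟨L, inferInstance, inferInstance, inferInstance, inferInstance, hfin, hsep, htot,
    x, algebraMap B L (-r), algebraMap B L (-r * v ^ (n' + 2)), hi _, hi _, hi _, ?_, ?_⟩
  · rw [IsScalarTower.algebraMap_apply A B L, hx, ← map_pow, ← map_pow, ← map_mul, ← map_add]
    congr 1
    rw [hrq, hu]; ring
  · rw [IsScalarTower.algebraMap_apply A B L, hx, ← map_pow, ← map_pow, ← map_mul, ← map_add]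
    congr 1
    rw [pow_mul', mul_left_comm, ← mul_pow, ← hπr, hrq, hu]; ring

end Groth.Agent.S7157
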