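import Groth.Statements.S1990
import Mathlib
import Groth.Agent.EtRam7.Tower
-- import your own Groth.Agent.* helpers here

set_option autoImplicit false
universe u
open EtAlg

namespace Groth.Agent.S1990

/-- Let K be the fraction field of a discrete valuation ring A, and K ⊂ L ⊂ M finite separable
extensions. If L/K is tamely ramified (resp. unramified) with respect to A and M/L is tamely
ramified (resp. unramified) with respect to every valuation subring of L dominating A, then M/K is
tamely ramified (resp. unramified) with respect to A. -/
theorem result (A K : Type u) [CommRing A] [IsDomain A] [IsDiscreteValuationRing A] [Field K] [Algebra A K] [IsFractionRing A K] (L M : Type u) [Field L] [Field M]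
    [Algebra K L] [Algebra K M] [Algebra L M] [IsScalarTower K L M] [FiniteDimensional K M] [Algebra.IsSeparable K M] :
    (EtRam.IsTamelyRamified A ((algebraMap K L).comp (algebraMap A K)) →
      (∀ (V : ValuationSubring L), EtRam.Dominates A ((algebraMap K L).comp (algebraMap A K)) V →
        EtRam.IsTamelyRamified V ((algebraMap L M).comp V.subtype)) →
      EtRam.IsTamelyRamified A ((algebraMap K M).comp (algebraMap A K))) ∧
    (EtRam.IsUnramifiedExt A ((algebraMap K L).comp (algebraMap A K)) →
      (∀ (V : ValuationSubring L), EtRam.Dominates A ((algebraMap K L).comp (algebraMap A K)) V →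
        EtRam.IsUnramifiedExt V ((algebraMap L M).comp V.subtype)) →
      EtRam.IsUnramifiedExt A ((algebraMap K M).comp (algebraMap A K))) := by
  have hg : (algebraMap K M).comp (algebraMap A K) = (algebraMap L M).comp ((algebraMap K L).comp (algebraMap A K)) := by
    exact RingHom.ext fun a => IsScalarTower.algebraMap_apply K L M _
  haveI : Algebra.IsSeparable K L := Algebra.isSeparable_tower_bot_of_isSeparable K L M
  haveI : FiniteDimensional K L := Module.Finite.of_injective (IsScalarTower.toAlgHom K L M).toLinearMap (algebraMap L M).injective
  constructor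
  all_goals
    intro hL hLM W hW
    letI : Algebra A W := (((algebraMap K M).comp (algebraMap A K)).codRestrict W hW.1).toAlgebra
    intro hloc
    have hV : EtRam.Dominates A ((algebraMap K L).comp (algebraMap A K)) (W.comap (algebraMap L M)) :=
      EtRam7.dominates_comap _ _ _ (hg ▸ hW)
    letI : Algebra A (W.comap (algebraMap L M)) :=
      (((algebraMap K L).comp (algebraMap A K)).codRestrict (W.comap (algebraMap L M)) hV.1).toAlgebra
    haveI : IsLocalHom (algebraMap A (W.comap (algebraMap L M))) := EtRam7.isLocalHom_of_dominates _ _ hV
    have hVW := EtRam7.dominates_self_comap (algebraMap L M) W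
    letI : Algebra (W.comap (algebraMap L M)) W :=
      (((algebraMap L M).comp (W.comap (algebraMap L M)).subtype).codRestrict W hVW.1).toAlgebra
    haveI : IsLocalHom (algebraMap (W.comap (algebraMap L M)) W) := EtRam7.isLocalHom_of_dominates _ _ hVW
    haveI : IsScalarTower A (W.comap (algebraMap L M)) W := IsScalarTower.of_algebraMap_eq fun a =>
      Subtype.ext (RingHom.congr_fun hg a)
    haveI : IsScalarTower (IsLocalRing.ResidueField A) (IsLocalRing.ResidueField (W.comap (algebraMap L M)))
        (IsLocalRing.ResidueField W) := IsScalarTower.of_algebraMap_eq fun x => by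
      obtain ⟨a, rfl⟩ := IsLocalRing.residue_surjective x
      exact congrArg (IsLocalRing.residue W) (IsScalarTower.algebraMap_apply A (W.comap (algebraMap L M)) W a)
    obtain ⟨h1, h2⟩ := hL _ hV
    obtain ⟨h3, h4⟩ := hLM _ hV W hVW
  · refine ⟨Algebra.IsSeparable.trans _ (IsLocalRing.ResidueField (W.comap (algebraMap L M))) _, fun p hp hc => ?_⟩
    haveI := EtRam7.isDiscreteValuationRing_of_dominates _ hV
    haveI := EtRam7.isDiscreteValuationRing_of_dominates _ hW
    haveI : CharP (IsLocalRing.ResidueField (W.comap (algebraMap L M))) p :=
      charP_of_injective_ringHom (algebraMap (IsLocalRing.ResidueField A) _).injective p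
    rw [EtRam7.ramificationIdx'_mul (A := A) (B := W.comap (algebraMap L M)) (C := W)]
    · intro hd
      rcases hp.dvd_mul.1 hd with hd | hd
      · exact h2 p hp hc hd
      · exact h4 p hp inferInstance hd
    · exact fun a b e => IsFractionRing.injective A K ((algebraMap K L).injective (congrArg Subtype.val e))
    · exact fun a b e => Subtype.ext ((algebraMap L M).injective (congrArg Subtype.val e))
  · exact ⟨EtRam7.isWeaklyUnramified_trans h1 h3,
      Algebra.IsSeparable.trans _ (IsLocalRing.ResidueField (W.comap (algebraMap L M))) _⟩

end Groth.Agent.S1990
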