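import Groth.Statements.S9307
import Groth.Agent.EtRam7.TameBC
-- import your own Groth.Agent.* helpers here

set_option autoImplicit false
universe u
open EtRam

namespace Groth.Agent.S9307

open TensorProduct in
/-- Let A → B be an injective local homomorphism of discrete valuation rings with fraction fields K ⊆ L,
and let K' be a finite separable extension of K that is tamely ramified relative to A. Then every
field F onto which K' ⊗_K L surjects is, as an extension of L, tamely ramified relative to B. (The
published statement also records that K' ⊗_K L is a finite product of fields, whose factors are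
these F; this row does not state that part.) -/
theorem result (A B K L K' : Type u) [CommRing A] [IsDomain A]
    [IsDiscreteValuationRing A] [CommRing B] [IsDomain B] [IsDiscreteValuationRing B] [Algebra A B]
    [IsLocalHom (algebraMap A B)] (hinj : Function.Injective (algebraMap A B))
    [Field K] [Field L] [Field K'] [Algebra A K] [IsFractionRing A K] [Algebra B L] [IsFractionRing B L]
    [Algebra K L] [Algebra A L] [IsScalarTower A K L] [IsScalarTower A B L]
    [Algebra K K'] [FiniteDimensional K K'] [Algebra.IsSeparable K K']
    (h : EtRam.IsTamelyRamified A ((algebraMap K K').comp (algebraMap A K)))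
    (F : Type u) [Field F] [Algebra (K' ⊗[K] L) F] (hF : Function.Surjective (algebraMap (K' ⊗[K] L) F)) :
    EtRam.IsTamelyRamified B ((algebraMap (K' ⊗[K] L) F).comp
      ((Algebra.TensorProduct.includeRight : L →ₐ[K] K' ⊗[K] L).toRingHom.comp (algebraMap B L))) := by
  let qK : K' →+* F := (algebraMap (K' ⊗[K] L) F).comp Algebra.TensorProduct.includeLeftRingHom
  let qL : L →+* F := (algebraMap (K' ⊗[K] L) F).comp (Algebra.TensorProduct.includeRight : L →ₐ[K] K' ⊗[K] L).toRingHom
  letI : Algebra K' F := qK.toAlgebra
  letI : Algebra L F := qL.toAlgebra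
  letI : Algebra B F := (qL.comp (algebraMap B L)).toAlgebra
  haveI : IsScalarTower B L F := IsScalarTower.of_algebraMap_eq fun _ => rfl
  letI : Algebra A K' := ((algebraMap K K').comp (algebraMap A K)).toAlgebra
  haveI : IsScalarTower A K K' := IsScalarTower.of_algebraMap_eq fun _ => rfl
  have hgen : ∀ z : F, z ∈ Algebra.adjoin L (Set.range (algebraMap K' F)) := by
    intro z
    obtain ⟨t, rfl⟩ := hF z
    induction t using TensorProduct.induction_on with
    | zero => rw [map_zero]; exact zero_mem _
    | add a b ha hb => rw [map_add]; exact add_mem ha hb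
    | tmul c l =>
      rw [show c ⊗ₜ[K] l = (c ⊗ₜ[K] (1 : L)) * ((1 : K') ⊗ₜ[K] l) by simp, map_mul]
      exact mul_mem (Algebra.subset_adjoin ⟨c, rfl⟩) (Subalgebra.algebraMap_mem _ l)
  have hc : ∀ c : K, algebraMap K' F (algebraMap K K' c) = algebraMap L F (algebraMap K L c) := fun c => by
    show algebraMap (K' ⊗[K] L) F (algebraMap K K' c ⊗ₜ[K] (1 : L)) = algebraMap (K' ⊗[K] L) F ((1 : K') ⊗ₜ[K] algebraMap K L c)
    rw [Algebra.TensorProduct.tmul_one_eq_one_tmul]
  have hsep : ∀ x : K', IsSeparable L (algebraMap K' F x) := by
    intro x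
    refine (Polynomial.Separable.map (f := algebraMap K L) (Algebra.IsSeparable.isSeparable K x)).of_dvd
      (minpoly.dvd L _ ?_)
    rw [Polynomial.aeval_def, Polynomial.eval₂_map,
      show (algebraMap L F).comp (algebraMap K L) = (algebraMap K' F).comp (algebraMap K K') from
        RingHom.ext fun c => (hc c).symm, ← Polynomial.hom_eval₂, ← Polynomial.aeval_def, minpoly.aeval, map_zero]
  haveI : Algebra.IsSeparable L F := ⟨fun z => by
    rw [← mem_separableClosure_iff]
    exact Algebra.adjoin_le (S := (separableClosure L F).toSubalgebra)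
      (fun y hy => by obtain ⟨x, rfl⟩ := hy; exact mem_separableClosure_iff.2 (hsep x)) (hgen z)⟩
  haveI : FiniteDimensional L F := by
    classical
    let b := Module.Free.chooseBasis K K'
    refine ⟨⟨Finset.univ.image fun i => algebraMap K' F (b i), top_le_iff.1 fun z _ => ?_⟩⟩
    obtain ⟨t, rfl⟩ := hF z
    induction t using TensorProduct.induction_on with
    | zero => rw [map_zero]; exact zero_mem _
    | add a c ha hc' => rw [map_add]; exact add_mem (ha trivial) (hc' trivial)
    | tmul c l =>
      rw [← b.sum_repr c, TensorProduct.sum_tmul, map_sum]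
      refine Submodule.sum_mem _ fun i _ => ?_
      rw [TensorProduct.smul_tmul, show (b i) ⊗ₜ[K] (b.repr c i • l) = ((b i) ⊗ₜ[K] (1 : L)) * ((1 : K') ⊗ₜ[K] (b.repr c i • l)) by simp,
        map_mul, mul_comm]
      rw [show algebraMap (K' ⊗[K] L) F ((1 : K') ⊗ₜ[K] (b.repr c i • l)) * algebraMap (K' ⊗[K] L) F (b i ⊗ₜ[K] (1 : L)) =
        (b.repr c i • l) • algebraMap K' F (b i) from (@Algebra.smul_def L F _ _ _ (b.repr c i • l) (algebraMap K' F (b i))).symm]
      exact Submodule.smul_mem _ _ (Submodule.subset_span (by simp))
  exact Groth.Agent.EtRam7.isTamelyRamified_baseChange hinj hc hgen h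

end Groth.Agent.S9307
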