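import Groth.Statements.S1983
import Groth.Agent.EtRam7.WeakSolMain
-- import your own Groth.Agent.* helpers here

set_option autoImplicit false
universe u
open EtAlg

namespace Groth.Agent.S1983

/-- Suppose A -> B makes the discrete valuation ring B an extension of the discrete valuation ring A,
with fraction fields K ⊂ L, and that this extension is weakly unramified with separable, i.e.
geometrically reduced and possibly transcendental, residue field extension (formally smooth for the
adic topology). Then every finite extension K₁/K is a solution for A -> B. -/
theorem result (A B K L : Type u) [CommRing A] [IsDomain A] [IsDiscreteValuationRing A]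
    [CommRing B] [IsDomain B] [IsDiscreteValuationRing B] [Algebra A B] [IsLocalHom (algebraMap A B)]
    (hinj : Function.Injective (algebraMap A B))
    [Field K] [Field L] [Algebra A K] [IsFractionRing A K] [Algebra B L] [IsFractionRing B L]
    [Algebra K L] [Algebra A L] [IsScalarTower A K L] [IsScalarTower A B L]
    (hw : EtRam.IsWeaklyUnramified A B) [Algebra.IsGeometricallyReduced (IsLocalRing.ResidueField A) (IsLocalRing.ResidueField B)]
    (K₁ : Type u) [Field K₁] [Algebra K K₁] [FiniteDimensional K K₁] : EtRam.IsSolution B K L K₁ := by
  exact Groth.Agent.EtRam7.isSolution_of_weaklyUnramified_separable A B K L hw K₁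

end Groth.Agent.S1983
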