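import Groth.Statements.S9262
import Groth.Agent.Hensel.HenselizationDescent
import Groth.Agent.RegLoc6.Basic
import Mathlib.RingTheory.DiscreteValuationRing.TFAE
-- import your own Groth.Agent.* helpers here

set_option autoImplicit false
universe u
open Hensel

namespace Groth.Agent.S9262

theorem dvr_iff (A : Type u) [CommRing A] [IsLocalRing A] [IsNoetherianRing A] :
    (∃ _ : IsDomain A, IsDiscreteValuationRing A) ↔ IsRegularLocalRing A ∧ ringKrullDim A = 1 := by
  refine ⟨fun ⟨_, _⟩ => ⟨inferInstance, IsDiscreteValuationRing.ringKrullDim_eq_one A⟩, fun ⟨hr, hd⟩ => ?_⟩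
  have := Groth.Agent.RegLoc6.isDomain_of_isRegularLocalRing A
  have hf : ¬ IsField A := fun h => by
    rw [ringKrullDim_eq_zero_of_isField h] at hd
    exact zero_ne_one hd
  refine ⟨this, ((IsDiscreteValuationRing.TFAE A hf).out 0 5).mpr ?_⟩
  have := (IsRegularLocalRing.iff_finrank_cotangentSpace A).mp hr
  rw [hd] at this
  exact_mod_cast this

/-- Let R be a Noetherian local ring with henselization S and strict henselization T. Then R is a
discrete valuation ring exactly when S is one, and exactly when T is one. -/
theorem result (R S T : Type u)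
    [CommRing R] [IsLocalRing R] [IsNoetherianRing R] [CommRing S] [IsLocalRing S] [Algebra R S]
    [IsLocalHom (algebraMap R S)] [Hensel.IsHenselization R S] [CommRing T] [IsLocalRing T]
    [Algebra R T] [IsLocalHom (algebraMap R T)] [Hensel.IsStrictHenselization R T] :
    ((∃ _ : IsDomain R, IsDiscreteValuationRing R) ↔ (∃ _ : IsDomain S, IsDiscreteValuationRing S)) ∧
      ((∃ _ : IsDomain R, IsDiscreteValuationRing R) ↔
        (∃ _ : IsDomain T, IsDiscreteValuationRing T)) := by
  have h := Groth.Agent.Hensel.isHenzLike_of_isHenselization R S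
  have h' := Groth.Agent.Hensel.isHenzLike_of_isStrictHenselization R T
  have := h.isNoetherianRing_iff.mp inferInstance
  have := h'.isNoetherianRing_iff.mp inferInstance
  rw [dvr_iff R, dvr_iff S, dvr_iff T, h.ringKrullDim_eq, h'.ringKrullDim_eq]
  exact ⟨and_congr_left' h.isRegularLocalRing_iff, and_congr_left' h'.isRegularLocalRing_iff⟩

end Groth.Agent.S9262
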