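import Groth.Statements.S7162
import Mathlib
import Groth.Agent.Hensel.HenselizationProps
import Groth.Agent.Hensel.Henselization
import Groth.Agent.S9262
import Groth.Agent.EtRam7.Reflect
-- import your own Groth.Agent.* helpers here

set_option autoImplicit false
set_option linter.style.haveILetI false
set_option maxHeartbeats 1000000
universe u
open EtAlg

namespace Groth.Agent.S7162

open IsLocalRing TensorProduct

/-- Elements coming from a formally unramified algebra of finite type over a field are separable. -/
theorem isSeparable_of_hom {K E F : Type u} [Field K] [CommRing E] [Field F] [Algebra K E] [Algebra K F]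
    [Algebra.FormallyUnramified K E] [Algebra.EssFiniteType K E] (h : E →ₐ[K] F) (z : E) : IsSeparable K (h z) := by
  haveI : Module.Finite K E := Algebra.FormallyUnramified.finite_of_free K E
  haveI : Module.Finite K h.range := Module.Finite.range h.toLinearMap
  haveI : Algebra.FormallyUnramified K h.range :=
    Algebra.FormallyUnramified.of_surjective h.rangeRestrict h.rangeRestrict_surjective
  letI : Field h.range := (Algebra.IsIntegral.isField_iff_isField (R := K) (S := h.range)
    (algebraMap K h.range).injective).1 (Field.toIsField K) |>.toField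
  haveI : Algebra.IsSeparable K h.range := Algebra.FormallyUnramified.isSeparable K h.range
  have := Algebra.IsSeparable.isSeparable K (h.rangeRestrict z)
  show (minpoly K (h.range.val (h.rangeRestrict z))).Separable
  rwa [minpoly.algHom_eq h.range.val Subtype.val_injective]

/-- The fraction field of a henselization neighbourhood colimit is separable algebraic. -/
theorem isSeparable_frac_henz (A k K K' : Type u) [CommRing A] [CommRing k] [Algebra A k]
    [Field K] [Algebra A K] [IsFractionRing A K] [Field K'] [Algebra (Hensel.Henz A k) K']
    [IsFractionRing (Hensel.Henz A k) K'] [Algebra K K'] [Algebra A K'] [IsScalarTower A K K']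
    [IsScalarTower A (Hensel.Henz A k) K'] : Algebra.IsSeparable K K' := by
  refine ⟨fun x => ?_⟩
  rw [← mem_separableClosure_iff]
  obtain ⟨a, b, -, rfl⟩ := IsFractionRing.div_surjective (A := Hensel.Henz A k) x
  have h : ∀ z : Hensel.Henz A k, algebraMap _ K' z ∈ separableClosure K K' := by
    intro z
    obtain ⟨N, y, rfl⟩ := Hensel.Henz.exists_of z
    let φ : N.B →ₐ[A] K' := (IsScalarTower.toAlgHom A (Hensel.Henz A k) K').comp
      ((Hensel.Henz.of N).comp (IsScalarTower.toAlgHom A N.B N.Stage))
    have hN : ∀ c : N.B, φ c ∈ separableClosure K K' := fun c => by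
      rw [mem_separableClosure_iff]
      have h1 : φ c = Algebra.TensorProduct.lift (Algebra.ofId K K') φ (fun _ _ => Commute.all _ _) ((1 : K) ⊗ₜ[A] c) := by
        simp
      rw [h1]
      exact isSeparable_of_hom _ _
    obtain ⟨⟨c, s⟩, hcs⟩ := IsLocalization.surj N.S y
    have h1 : algebraMap _ K' (Hensel.Henz.of N y) * φ s = φ c := by
      show algebraMap _ K' (Hensel.Henz.of N y) * algebraMap _ K' (Hensel.Henz.of N (algebraMap N.B N.Stage s)) = _
      rw [← map_mul, ← map_mul, hcs]
      rfl
    have hs : φ (s : N.B) ≠ 0 :=
      (((IsLocalization.map_units N.Stage s).map (Hensel.Henz.of N)).map (algebraMap _ K')).ne_zero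
    rw [eq_div_of_mul_eq hs h1]
    exact div_mem (hN c) (hN _)
  exact div_mem (h a) (h b)

/-- Strict henselizations of discrete valuation rings. -/
theorem dvr_strictHenz (A : Type u) [CommRing A] [IsDomain A] [IsDiscreteValuationRing A] :
    ∃ _ : IsDomain (Hensel.StrictHenz A), IsDiscreteValuationRing (Hensel.StrictHenz A) := by
  have h' := Hensel.isHenzLike_of_isStrictHenselization A (Hensel.StrictHenz A)
  have := h'.isNoetherianRing_iff.mp inferInstance
  rw [S9262.dvr_iff, h'.ringKrullDim_eq, ← h'.isRegularLocalRing_iff, ← S9262.dvr_iff]
  exact ⟨inferInstance, inferInstance⟩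


/-- Let A → B be an injective local homomorphism of discrete valuation rings whose fields of fractions
are K ⊆ L. There is a commutative square of such extensions A ⊆ A', B ⊆ B', A' ⊆ B' (with fraction
fields K', L') such that (1) K'/K and L'/L are separable algebraic, (2) the residue field of A' is a
separable algebraic closure of that of A, and likewise for B' over B, and (3) whenever A' ⊆ B'
admits a solution (respectively a separable solution), so does A ⊆ B. (The published statement
asserts (3) for weak solutions as well; that clause is left out here: a weak solution for A' ⊆ B'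
descends to a finite extension of K but controls only those local extensions attached to embeddings
compatible with K ⊆ K', and weak solutions, unlike solutions, are not preserved under passing to a
normal closure; the clause can fail when the residue field of A is not separably closed in that of
B.) -/
theorem result (A B K L : Type u) [CommRing A] [IsDomain A]
    [IsDiscreteValuationRing A] [CommRing B] [IsDomain B] [IsDiscreteValuationRing B] [Algebra A B]
    (hinj : Function.Injective (algebraMap A B)) [IsLocalHom (algebraMap A B)]
    [Field K] [Field L] [Algebra A K] [IsFractionRing A K] [Algebra B L] [IsFractionRing B L]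
    [Algebra K L] [Algebra A L] [IsScalarTower A K L] [IsScalarTower A B L] :
    ∃ (A' B' K' L' : Type u) (_ : CommRing A') (_ : IsDomain A') (_ : IsDiscreteValuationRing A')
      (_ : CommRing B') (_ : IsDomain B') (_ : IsDiscreteValuationRing B') (_ : Field K') (_ : Field L')
      (_ : Algebra A A') (_ : Algebra B B') (_ : Algebra A' B') (_ : Algebra A B')
      (_ : IsScalarTower A B B') (_ : IsScalarTower A A' B')
      (_ : Algebra A' K') (_ : IsFractionRing A' K') (_ : Algebra B' L') (_ : IsFractionRing B' L')
      (_ : Algebra K' L') (_ : Algebra A' L') (_ : IsScalarTower A' K' L') (_ : IsScalarTower A' B' L')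
      (_ : Algebra K K') (_ : Algebra A K') (_ : IsScalarTower A K K') (_ : IsScalarTower A A' K')
      (_ : Algebra L L') (_ : Algebra B L') (_ : IsScalarTower B L L') (_ : IsScalarTower B B' L')
      (hA : IsLocalHom (algebraMap A A')) (hB : IsLocalHom (algebraMap B B')) (_ : IsLocalHom (algebraMap A' B')),
      Function.Injective (algebraMap A A') ∧ Function.Injective (algebraMap B B') ∧
      Function.Injective (algebraMap A' B') ∧
      Algebra.IsSeparable K K' ∧ Algebra.IsSeparable L L' ∧
      (letI := (IsLocalRing.ResidueField.map (algebraMap A A')).toAlgebra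
       IsSepClosure (IsLocalRing.ResidueField A) (IsLocalRing.ResidueField A')) ∧
      (letI := (IsLocalRing.ResidueField.map (algebraMap B B')).toAlgebra
       IsSepClosure (IsLocalRing.ResidueField B) (IsLocalRing.ResidueField B')) ∧
      ((∃ (K₁ : Type u) (_ : Field K₁) (_ : Algebra K' K₁), FiniteDimensional K' K₁ ∧ EtRam.IsSolution B' K' L' K₁) →
        ∃ (K₁ : Type u) (_ : Field K₁) (_ : Algebra K K₁), FiniteDimensional K K₁ ∧ EtRam.IsSolution B K L K₁) ∧
      ((∃ (K₁ : Type u) (_ : Field K₁) (_ : Algebra K' K₁), FiniteDimensional K' K₁ ∧ Algebra.IsSeparable K' K₁ ∧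
          EtRam.IsSolution B' K' L' K₁) →
        ∃ (K₁ : Type u) (_ : Field K₁) (_ : Algebra K K₁), FiniteDimensional K K₁ ∧ Algebra.IsSeparable K K₁ ∧
          EtRam.IsSolution B K L K₁) := by
  classical
  haveI : Algebra.IsSeparable (ResidueField A) (ResidueField (Hensel.StrictHenz A)) :=
    (Groth.Agent.Hensel.isStrictHenselization_strictHenz A).isSepClosure.separable
  let A' := Hensel.StrictHenz A
  let B' := Hensel.StrictHenz B
  obtain ⟨_, _⟩ := dvr_strictHenz A
  obtain ⟨_, _⟩ := dvr_strictHenz B
  haveI hshA : Hensel.IsStrictHenselization A A' := Groth.Agent.Hensel.isStrictHenselization_strictHenz A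
  haveI hshB : Hensel.IsStrictHenselization B B' := Groth.Agent.Hensel.isStrictHenselization_strictHenz B
  haveI : HenselianLocalRing B' := hshB.henselian
  haveI : IsSepClosed (ResidueField B') := hshB.isSepClosure.sep_closed
  haveI : IsLocalHom ((algebraMap B B').comp (algebraMap A B)) := RingHom.isLocalHom_comp _ _
  let f : A →+* B' := (algebraMap B B').comp (algebraMap A B)
  letI : Algebra (ResidueField A) (ResidueField B') := (ResidueField.map f).toAlgebra
  let τ : ResidueField A' →ₐ[ResidueField A] ResidueField B' := IsSepClosed.lift
  obtain ⟨g, ⟨hg, hgr⟩, -⟩ := hshA.universal B' f τ.toRingHom (RingHom.ext τ.commutes)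
  haveI hgloc : IsLocalHom g := ⟨fun x hx => by
    by_contra hxu
    have h1 : residue B' (g x) = 0 := by
      rw [hgr, (residue_eq_zero_iff x).2 hxu, map_zero]
    exact (residue_eq_zero_iff _).1 h1 hx⟩
  letI : Algebra A' B' := g.toAlgebra
  haveI : IsLocalHom (algebraMap A' B') := hgloc
  letI : Algebra A B' := f.toAlgebra
  haveI : IsScalarTower A B B' := IsScalarTower.of_algebraMap_eq fun _ => rfl
  haveI : IsScalarTower A A' B' := IsScalarTower.of_algebraMap_eq fun a => (RingHom.congr_fun hg a).symm
  have hAA' : Function.Injective (algebraMap A A') := by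
    haveI := Groth.Agent.Hensel.faithfullyFlat_of_isStrictHenselization (R := A) (S := A')
    exact FaithfulSMul.algebraMap_injective A A'
  have hBB' : Function.Injective (algebraMap B B') := by
    haveI := Groth.Agent.Hensel.faithfullyFlat_of_isStrictHenselization (R := B) (S := B')
    exact FaithfulSMul.algebraMap_injective B B'
  have hA'B' : Function.Injective (algebraMap A' B') := by
    rw [injective_iff_map_eq_zero]
    intro x hx
    by_contra hx0
    obtain ⟨π, hπ⟩ := IsDiscreteValuationRing.exists_irreducible A
    obtain ⟨ϖ, hϖ⟩ := IsDiscreteValuationRing.exists_irreducible A'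
    obtain ⟨n, u, hu⟩ := IsDiscreteValuationRing.eq_unit_mul_pow_irreducible hx0 hϖ
    rw [hu, map_mul, map_pow, mul_eq_zero] at hx
    have h1 : algebraMap A' B' ϖ = 0 := eq_zero_of_pow_eq_zero (hx.resolve_left (u.isUnit.map _).ne_zero)
    obtain ⟨c, hc⟩ : ϖ ∣ algebraMap A A' π := by
      rw [← Ideal.mem_span_singleton, ← hϖ.maximalIdeal_eq]
      exact map_nonunit (algebraMap A A') π hπ.1
    have h2 : algebraMap B B' (algebraMap A B π) = 0 := by
      rw [← IsScalarTower.algebraMap_apply A B B', IsScalarTower.algebraMap_apply A A' B', hc, map_mul, h1, zero_mul]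
    exact hπ.ne_zero (hinj ((hBB' (h2.trans (map_zero _).symm)).trans (map_zero _).symm))
  let K' := FractionRing A'
  let L' := FractionRing B'
  have hA'L' : Function.Injective ((algebraMap B' L').comp (algebraMap A' B')) :=
    (IsFractionRing.injective B' L').comp hA'B'
  letI : Algebra K' L' := (IsFractionRing.lift hA'L').toAlgebra
  haveI : IsScalarTower A' K' L' :=
    IsScalarTower.of_algebraMap_eq fun a => ((IsFractionRing.lift_algebraMap hA'L' a).trans (IsScalarTower.algebraMap_apply A' B' L' a).symm).symm
  letI : Algebra K K' :=
    (IsFractionRing.lift (show Function.Injective ((algebraMap A' K').comp (algebraMap A A')) from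
      (IsFractionRing.injective A' K').comp hAA')).toAlgebra
  haveI : IsScalarTower A K K' := IsScalarTower.of_algebraMap_eq fun a =>
    (IsScalarTower.algebraMap_apply A A' K' a).trans (IsFractionRing.lift_algebraMap (A := A) (K := K) (show Function.Injective ((algebraMap A' K').comp (algebraMap A A')) from (IsFractionRing.injective A' K').comp hAA') a).symm
  letI : Algebra L L' :=
    (IsFractionRing.lift (show Function.Injective ((algebraMap B' L').comp (algebraMap B B')) from
      (IsFractionRing.injective B' L').comp hBB')).toAlgebra
  haveI : IsScalarTower B L L' := IsScalarTower.of_algebraMap_eq fun a =>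
    (IsScalarTower.algebraMap_apply B B' L' a).trans (IsFractionRing.lift_algebraMap (A := B) (K := L) (show Function.Injective ((algebraMap B' L').comp (algebraMap B B')) from (IsFractionRing.injective B' L').comp hBB') a).symm
  have hsepK : Algebra.IsSeparable K K' := isSeparable_frac_henz A (SeparableClosure (ResidueField A)) K K'
  have hsepL : Algebra.IsSeparable L L' := isSeparable_frac_henz B (SeparableClosure (ResidueField B)) L L'
  have hw : EtRam.IsWeaklyUnramified A A' :=
    Groth.Agent.Hensel.map_maximalIdeal_of_isStrictHenselization (R := A) (S := A')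
  haveI : Algebra.IsGeometricallyReduced (ResidueField A) (ResidueField A') :=
    EtRam7.isGeometricallyReduced_of_isSeparable _ _
  have hsq : ∀ b, algebraMap B' L' (algebraMap B B' b) = algebraMap L L' (algebraMap B L b) := fun b => by
    rw [← IsScalarTower.algebraMap_apply, ← IsScalarTower.algebraMap_apply]
  have hsqA : ∀ a, algebraMap B' L' (algebraMap A' B' a) = algebraMap K' L' (algebraMap A' K' a) := fun a => by
    rw [← IsScalarTower.algebraMap_apply, ← IsScalarTower.algebraMap_apply]
  have hcomm : ∀ x : K, algebraMap K' L' (algebraMap K K' x) = algebraMap L L' (algebraMap K L x) := by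
    refine RingHom.congr_fun (IsLocalization.ringHom_ext (nonZeroDivisors A)
      (j := (algebraMap K' L').comp (algebraMap K K')) (k := (algebraMap L L').comp (algebraMap K L)) (RingHom.ext fun a => ?_))
    show algebraMap K' L' (algebraMap K K' (algebraMap A K a)) = algebraMap L L' (algebraMap K L (algebraMap A K a))
    rw [← IsScalarTower.algebraMap_apply A K K', IsScalarTower.algebraMap_apply A A' K', ← hsqA,
      ← IsScalarTower.algebraMap_apply A K L, IsScalarTower.algebraMap_apply A B L, ← hsq,
      ← IsScalarTower.algebraMap_apply A A' B', ← IsScalarTower.algebraMap_apply A B B']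
  refine ⟨A', B', K', L', inferInstance, inferInstance, inferInstance, inferInstance, inferInstance, inferInstance,
    inferInstance, inferInstance, inferInstance, inferInstance, inferInstance, inferInstance, inferInstance,
    inferInstance, inferInstance, inferInstance, inferInstance, inferInstance, inferInstance, inferInstance,
    inferInstance, inferInstance, inferInstance, inferInstance, inferInstance, inferInstance, inferInstance,
    inferInstance, inferInstance, inferInstance, inferInstance, inferInstance, inferInstance,
    hAA', hBB', hA'B', hsepK, hsepL,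
    (by convert hshA.isSepClosure
        refine Algebra.algebra_ext _ _ fun r => ?_
        obtain ⟨r, rfl⟩ := residue_surjective r
        rfl),
    (by convert hshB.isSepClosure
        refine Algebra.algebra_ext _ _ fun r => ?_
        obtain ⟨r, rfl⟩ := residue_surjective r
        rfl), ?_, ?_⟩
  · rintro ⟨K₁', _, _, _, hsol⟩
    obtain ⟨K₁, _, _, hfin, -, hK₁⟩ :=
      EtRam7.exists_solution_of_extension hBB' hsq hsqA hcomm hw K₁' hsol
    exact ⟨K₁, inferInstance, inferInstance, hfin, hK₁⟩
  · rintro ⟨K₁', _, _, _, hsep, hsol⟩
    obtain ⟨K₁, _, _, hfin, hs, hK₁⟩ :=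
      EtRam7.exists_solution_of_extension hBB' hsq hsqA hcomm hw K₁' hsol
    exact ⟨K₁, inferInstance, inferInstance, hfin, hs hsepK hsep, hK₁⟩

end Groth.Agent.S7162
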