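import Groth.Statements.S13360
import Mathlib

set_option autoImplicit false
universe u
open UltraProd

namespace Groth.Agent.S13360

/-- If (R_i) is a nonempty family of valuation rings, then the localization of the product ring ∏ R_i at
any prime ideal is a valuation ring: a domain in which, of any two elements, one divides the other. -/
theorem result {ι : Type u} [Nonempty ι] (R : ι → Type u)
    [∀ i, CommRing (R i)] [∀ i, IsDomain (R i)] [∀ i, ValuationRing (R i)]
    (P : Ideal (∀ i, R i)) [P.IsPrime] :
    IsDomain (Localization.AtPrime P) ∧ PreValuationRing (Localization.AtPrime P) := by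
  classical
  let S := Localization.AtPrime P
  let φ := algebraMap (∀ i, R i) S
  have he : ∀ e : ∀ i, R i, e * e = e → IsUnit (φ e) ∨ IsUnit (φ (1 - e)) := by
    intro e h
    by_cases hP : e ∈ P
    · refine Or.inr (IsLocalization.map_units S (⟨1 - e, fun h1 => ?_⟩ : P.primeCompl))
      exact ‹P.IsPrime›.ne_top ((Ideal.eq_top_iff_one _).2 (by simpa using P.add_mem h1 hP))
    · exact Or.inl (IsLocalization.map_units S (⟨e, hP⟩ : P.primeCompl))
  have hdvd : ∀ x : S, ∃ a, Associated (φ a) x := fun x => by
    obtain ⟨a, s, rfl⟩ := IsLocalization.exists_mk'_eq P.primeCompl x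
    exact ⟨a, ⟨(IsLocalization.map_units S s).unit⁻¹, by
      rw [IsLocalization.eq_mk'_iff_mul_eq, mul_assoc, IsUnit.val_inv_mul, mul_one]⟩⟩
  have hzero : ∀ a b : ∀ i, R i, φ a * φ b = 0 → φ a = 0 ∨ φ b = 0 := by
    intro a b h
    rw [← map_mul, IsLocalization.map_eq_zero_iff P.primeCompl] at h
    obtain ⟨c, hc⟩ := h
    let e : ∀ i, R i := fun i => if a i = 0 then 1 else 0
    have hee : e * e = e := by funext i; by_cases hi : a i = 0 <;> simp [e, hi]
    have h1 : φ e * φ a = 0 := by
      rw [← map_mul, show e * a = 0 by funext i; by_cases hi : a i = 0 <;> simp [e, hi], map_zero]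
    have h2 : φ (1 - e) * φ (c * b) = 0 := by
      rw [← map_mul]
      convert map_zero φ
      funext i
      have hi' := congrFun hc i
      by_cases hi : a i = 0
      · simp [e, hi]
      · simp only [Pi.mul_apply, Pi.zero_apply] at hi'
        rcases mul_eq_zero.mp hi' with h' | h' <;> simp_all [e]
    rcases he e hee with h' | h'
    · exact Or.inl (h'.mul_right_eq_zero.mp h1)
    · have := h'.mul_right_eq_zero.mp h2
      rw [map_mul] at this
      exact Or.inr ((IsLocalization.map_units S c).mul_right_eq_zero.mp this)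
  have hval : ∀ a b : ∀ i, R i, φ a ∣ φ b ∨ φ b ∣ φ a := by
    intro a b
    let e : ∀ i, R i := fun i => if a i ∣ b i then 1 else 0
    have hee : e * e = e := by funext i; by_cases hi : a i ∣ b i <;> simp [e, hi]
    rcases he e hee with h' | h'
    · refine Or.inl (h'.dvd_mul_left.mp ?_)
      rw [← map_mul]
      refine map_dvd φ ⟨fun i => if hi : a i ∣ b i then hi.choose else 0, funext fun i => ?_⟩
      by_cases hi : a i ∣ b i
      · simp only [e, Pi.mul_apply, dif_pos hi, if_pos hi, one_mul]; exact hi.choose_spec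
      · simp [e, hi]
    · refine Or.inr (h'.dvd_mul_left.mp ?_)
      rw [← map_mul]
      refine map_dvd φ ⟨fun i => if hi : b i ∣ a i then (if a i ∣ b i then 0 else hi.choose) else 0, funext fun i => ?_⟩
      by_cases hi : a i ∣ b i
      · by_cases hi2 : b i ∣ a i <;> simp [e, hi, hi2]
      · have hi2 : b i ∣ a i := (ValuationRing.dvd_total (a i) (b i)).resolve_left hi
        simp only [e, Pi.mul_apply, Pi.sub_apply, Pi.one_apply, dif_pos hi2, if_neg hi, sub_zero, one_mul]
        exact hi2.choose_spec
  haveI : Nontrivial S := IsLocalRing.toNontrivial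
  haveI : NoZeroDivisors S := ⟨fun {x y} h => by
    obtain ⟨a, ha⟩ := hdvd x
    obtain ⟨b, hb⟩ := hdvd y
    rw [← ha.eq_zero_iff, ← hb.eq_zero_iff]
    exact hzero a b ((ha.mul_mul hb).eq_zero_iff.mpr h)⟩
  refine ⟨NoZeroDivisors.to_isDomain S, ⟨fun x y => ?_⟩⟩
  obtain ⟨a, ha⟩ := hdvd x
  obtain ⟨b, hb⟩ := hdvd y
  rcases hval a b with h | h
  · obtain ⟨c, hc⟩ := (ha.symm.dvd.trans h).trans hb.dvd
    exact ⟨c, Or.inl hc.symm⟩
  · obtain ⟨c, hc⟩ := (hb.symm.dvd.trans h).trans ha.dvd
    exact ⟨c, Or.inr hc.symm⟩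

end Groth.Agent.S13360
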