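import Groth.Statements.S0429
import Mathlib
import Groth.Agent.FlatValCrit.Global

set_option autoImplicit false
universe u
open FlatMor

namespace Groth.Agent.S0429

open AlgebraicGeometry CategoryTheory Limits in
/-- A flat morphism locally of finite type to an integral scheme is locally of finite presentation. -/
theorem result {X S : Scheme.{u}} (f : X ⟶ S) [IsIntegral S] [Flat f] [LocallyOfFiniteType f] : LocallyOfFinitePresentation f := by
  rw [HasRingHomProperty.iff_appLE (P := @LocallyOfFinitePresentation)]
  intro U V e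
  have hft : (f.appLE U V e).hom.FiniteType :=
    (HasRingHomProperty.iff_appLE (P := @LocallyOfFiniteType)).1 ‹_› U V e
  have hfl : (f.appLE U V e).hom.Flat := (HasRingHomProperty.iff_appLE (P := @Flat)).1 ‹_› U V e
  by_cases hU : Nonempty U.1
  · algebraize [(f.appLE U V e).hom]
    show Algebra.FinitePresentation Γ(S, U) Γ(X, V)
    obtain ⟨n, φ, hφ⟩ := Algebra.FiniteType.iff_quotient_mvPolynomial''.1 ‹Algebra.FiniteType Γ(S, U) Γ(X, V)›
    let := φ.toRingHom.toAlgebra
    have : IsScalarTower Γ(S, U) (MvPolynomial (Fin n) Γ(S, U)) Γ(X, V) :=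
      IsScalarTower.of_algebraMap_eq fun r => (φ.commutes r).symm
    have : Module.Finite (MvPolynomial (Fin n) Γ(S, U)) Γ(X, V) :=
      Module.Finite.of_surjective (Algebra.linearMap _ Γ(X, V)) hφ
    have : Module.FinitePresentation (MvPolynomial (Fin n) Γ(S, U)) Γ(X, V) :=
      Groth.Agent.FlatValCrit.finitePresentation_of_flat (R := Γ(S, U))
    exact Algebra.FinitePresentation.of_surjective hφ
      (Module.FinitePresentation.fg_ker (Algebra.linearMap (MvPolynomial (Fin n) Γ(S, U)) Γ(X, V)) hφ)
  · have hbot : U.1 = ⊥ := by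
      rw [← TopologicalSpace.Opens.coe_eq_empty, Set.eq_empty_iff_forall_notMem]
      exact fun x hx => hU ⟨⟨x, hx⟩⟩
    have : Subsingleton Γ(S, U) := CommRingCat.subsingleton_of_isTerminal (hbot ▸ S.sheaf.isTerminalOfEmpty)
    exact (RingHom.FinitePresentation.of_finiteType).1 hft

end Groth.Agent.S0429
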