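import Groth.Statements.S14359
import Mathlib
import Groth.Agent.FlatLoc6.SerreNormal

set_option autoImplicit false
universe u
open CAlg

namespace Groth.Agent.S14359

/-- Let A be a Noetherian integrally closed integral domain and b a nonzero element of A. Then every
associated prime of the A-module A/(b) has height one, so that A/(b) has no embedded associated
primes. -/
theorem result
    (A : Type u) [CommRing A] [IsDomain A] [IsNoetherianRing A] [IsIntegrallyClosed A]
    (b : A) (hb : b ≠ 0) (p : Ideal A) (hp : p ∈ associatedPrimes A (A ⧸ Ideal.span {b})) :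
    p.height = 1 := by
  haveI hpp : p.IsPrime := hp.isPrime
  have hS := (Groth.Agent.FlatLoc6.R1_S2_of_normal (R := A) fun q _ =>
    ⟨inferInstance, isIntegrallyClosed_of_isLocalization (Localization.AtPrime q) q.primeCompl
      q.primeCompl_le_nonZeroDivisors⟩).2
  have hbp : b ∈ p := by
    have h := IsAssociatedPrime.annihilator_le hp
    rw [Submodule.annihilator_top, Ideal.annihilator_quotient] at h
    exact h (Ideal.mem_span_singleton_self b)
  have hreg : IsSMulRegular A b := fun x y h => mul_left_cancel₀ hb h
  open scoped Pointwise in
  have heq : (b • (⊤ : Submodule A A)) = Ideal.span {b} := by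
    rw [← Submodule.ideal_span_singleton_smul, Ideal.smul_eq_mul, Ideal.mul_top]
  have hq : p ∈ associatedPrimes A (QuotSMulTop b A) := by
    rw [LinearEquiv.AssociatedPrimes.eq (Submodule.quotEquivOfEq _ _ heq)]
    exact hp
  refine le_antisymm (Groth.Agent.FlatLoc6.height_le_one_of_mem_ass_quot hS hreg hbp hq) ?_
  rw [Order.one_le_iff_ne_zero]
  intro h0
  rw [Ideal.height_eq_zero_iff, IsDomain.minimalPrimes_eq_singleton_bot] at h0
  exact hb (by simpa [Set.mem_singleton_iff.1 h0] using hbp)

end Groth.Agent.S14359
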