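import Groth.Statements.S13824
import Groth.Agent.EtaPtLib.Rel


set_option autoImplicit false
universe u
open EtaPt

namespace Groth.Agent.S13824

open Groth.Agent.EtaPtLib

/-- For a commutative ring A and f ∈ A, N_η(A)[1/t_A(f)] → N_η(A_f) is bijective: every element of
N_η(A_f) times a power of the image of f comes from N_η(A), and an element of N_η(A) dies in
N_η(A_f) only if a power of t_A(f) kills it. Here η is a natural transformation from the identity of
the category of fields to an endofunctor F with F(η_K) bijective and η_K purely inseparable for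
every field K, N_η(A) is the product of the F(k(p)) over the primes p of A with diagonal map t_A,
and M_η(A) ⊆ N_η(A) is the subring of elements sent into the range of t_R by every ring map from A
to a valuation ring R at whose fraction field η is bijective; q_A : A → M_η(A) is the corestriction
of t_A. -/
theorem result (η : EtaPt.FieldEndo.{u}) (A : Type u) [CommRing A] (f : A) :
    (∀ y : η.N (Localization.Away f), ∃ (x : η.N A) (n : ℕ),
        y * η.t (Localization.Away f) (algebraMap A (Localization.Away f) f) ^ n =
          η.Nmap (algebraMap A (Localization.Away f)) x) ∧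
      ∀ x : η.N A, η.Nmap (algebraMap A (Localization.Away f)) x = 0 → ∃ n : ℕ, η.t A f ^ n * x = 0 := by
  classical
  let ι := algebraMap A (Localization.Away f)
  have hinj : Function.Injective (PrimeSpectrum.comap ι) :=
    PrimeSpectrum.localization_comap_injective (Localization.Away f) (Submonoid.powers f)
  have hbij : ∀ q : PrimeSpectrum (Localization.Away f), Function.Bijective
      (η.map (Ideal.ResidueField.map (PrimeSpectrum.comap ι q).asIdeal q.asIdeal ι rfl)) :=
    fun q => map_bijective_of_bijective η _
      ((RingHom.surjectiveOnStalks_of_isLocalization (Submonoid.powers f) (Localization.Away f)).residueFieldMap_bijective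
        (PrimeSpectrum.comap ι q).asIdeal q.asIdeal rfl)
  refine ⟨fun y => ?_, fun x hx => ⟨1, ?_⟩⟩
  · have key : ∀ P : PrimeSpectrum A, ∃ v : η.obj P.asIdeal.ResidueField,
        ∀ (q : PrimeSpectrum (Localization.Away f)) (σ : P.asIdeal.ResidueField →+* q.asIdeal.ResidueField),
          σ.comp (algebraMap A _) = (algebraMap _ _).comp ι → η.map σ v = y q := by
      intro P
      by_cases hP : ∃ q, PrimeSpectrum.comap ι q = P
      · obtain ⟨q₀, rfl⟩ := hP
        obtain ⟨v, hv⟩ := (hbij q₀).2 (y q₀)
        refine ⟨v, fun q σ hσ => ?_⟩
        have : PrimeSpectrum.comap ι q₀ = PrimeSpectrum.comap ι q := PrimeSpectrum.ext (by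
          rw [← ker_of_factor _ σ, hσ, ← RingHom.comap_ker, Ideal.ker_algebraMap_residueField]
          rfl)
        obtain rfl := hinj this
        obtain rfl : σ = Ideal.ResidueField.map (PrimeSpectrum.comap ι q₀).asIdeal q₀.asIdeal ι rfl :=
          Ideal.ResidueField.ringHom_ext (hσ.trans (RingHom.ext fun a =>
            (Ideal.ResidueField.map_algebraMap (PrimeSpectrum.comap ι q₀).asIdeal q₀.asIdeal ι rfl a).symm))
        exact hv
      · exact ⟨0, fun q σ hσ => absurd ⟨q, PrimeSpectrum.ext (by
          rw [← ker_of_factor _ σ, hσ, ← RingHom.comap_ker, Ideal.ker_algebraMap_residueField]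
          rfl)⟩ hP⟩
    choose x hx using key
    refine ⟨x, 0, ?_⟩
    rw [pow_zero, mul_one]
    exact (funext fun q => hx _ q _ (RingHom.ext fun a =>
      Ideal.ResidueField.map_algebraMap (PrimeSpectrum.comap ι q).asIdeal q.asIdeal ι rfl a)).symm
  · funext P
    rw [pow_one, Pi.mul_apply, Pi.zero_apply, mul_eq_zero]
    by_cases hP : f ∈ P.asIdeal
    · left
      change η.eta _ (algebraMap A P.asIdeal.ResidueField f) = 0
      rw [map_eq_zero, Ideal.algebraMap_residueField_eq_zero]
      exact hP
    · right
      have hr : P ∈ Set.range (PrimeSpectrum.comap ι) := by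
        rw [PrimeSpectrum.localization_away_comap_range (Localization.Away f) f]
        exact hP
      obtain ⟨q, rfl⟩ := hr
      exact (η.map _).injective ((congrFun hx q).trans (map_zero _).symm)

end Groth.Agent.S13824
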