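import Groth.Statements.S0563
import Groth.Agent.RegLoc6.Serre
import Groth.Agent.CAlgGlobalDim.Basic

set_option autoImplicit false
universe u
open CategoryTheory
open CAlg

namespace Groth.Agent.S0563

/-- Over a regular local ring R of Krull dimension d, every R-module has projective dimension at most d
(encoded as `HasProjectiveDimensionLT _ (d + 1)`). -/
theorem result (R : Type u) [CommRing R]
    [IsRegularLocalRing R] (d : ℕ) (hd : ringKrullDim R = d) (M : Type u) [AddCommGroup M]
    [Module R M] : HasProjectiveDimensionLT (ModuleCat.of R M) (d + 1) := by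
  have hd' : (IsLocalRing.maximalIdeal R).spanFinrank = d := by
    have h1 := (isRegularLocalRing_iff R).mp inferInstance
    rw [hd] at h1
    exact_mod_cast h1
  exact Groth.Agent.CAlgGlobalDim.hasProjectiveDimensionLT_of_forall_cyclic d
    (fun I => hd' ▸ Groth.Agent.RegLoc6.pdLE_of_isRegularLocalRing R (R ⧸ I)) (ModuleCat.of R M)

end Groth.Agent.S0563
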