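import Groth.Statements.S10560
import Groth.Agent.AlgSpLib.Descent2
import Groth.Agent.AlgSpLib.EtLocalInst
import Groth.Agent.SrcDescent.SmoothFppf
import Groth.Agent.SrcDescent.Scheme

set_option backward.isDefEq.respectTransparency false
set_option backward.isDefEq.respectTransparency.types false
-- import your own Groth.Agent.* helpers here

set_option autoImplicit false
universe u
open CategoryTheory CategoryTheory.Limits AlgebraicGeometry
open AlgSp

namespace Groth.Agent.S10560

/-- Let f : X ⟶ Y and q : Y ⟶ B be morphisms of algebraic spaces over S with f surjective, flat and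
locally of finite presentation. If f ≫ q is smooth then q is smooth; if f ≫ q is etale then q is
etale. -/
theorem result {S : Scheme.{u}} {X Y B : AlgSp.Space S} (f : X ⟶ Y) (q : Y ⟶ B)
    (hs : AlgSp.IsSurjectiveMor f.hom) (hfl : AlgSp.LocP @Flat f.hom)
    (hfp : AlgSp.LocP @LocallyOfFinitePresentation f.hom) :
    (AlgSp.LocP @Smooth (f ≫ q).hom → AlgSp.LocP @Smooth q.hom) ∧
    (AlgSp.IsEtaleMor (f ≫ q).hom → AlgSp.IsEtaleMor q.hom) := by
  have key : ∀ {U V : Over S} (a : (AlgSp.yon S).obj U ⟶ Y.obj) (b : (AlgSp.yon S).obj V ⟶ B.obj) (h : U ⟶ V),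
      AlgSp.RepWith @Etale a → AlgSp.RepWith @Etale b → a ≫ q.hom = (AlgSp.yon S).map h ≫ b →
      ∃ (W : Over S) (v : W ⟶ U) (w : (AlgSp.yon S).obj W ⟶ X.obj), AlgSp.RepWith @Etale w ∧
        Flat v.left ∧ LocallyOfFinitePresentation v.left ∧ Surjective v.left ∧
        w ≫ (f ≫ q).hom = (AlgSp.yon S).map (v ≫ h) ≫ b := by
    intro U V a b h ha hb w
    obtain ⟨U', a', ha', ha''⟩ := X.property.atlas
    have hr : AlgSp.Representable a := ha.rep
    let r := hr.snd (a' ≫ f.hom)
    let v := hr.fst' (a' ≫ f.hom)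
    have hre : Etale r.left := ha.property_snd _
    have hwa : AlgSp.RepWith @Etale ((AlgSp.yon S).map r ≫ a') :=
      Groth.Agent.AlgSpLib.repWith_comp ((AlgSp.repWith_yon_map_iff _ _).2 hre) ha'
    have hw : ((AlgSp.yon S).map r ≫ a') ≫ f.hom = (AlgSp.yon S).map v ≫ a := by
      rw [Category.assoc, Functor.relativelyRepresentable.map_fst', hr.w]
    refine ⟨_, v, _, hwa, hfl _ a v hwa ha hw, hfp _ a v hwa ha hw, ⟨fun x => ?_⟩, ?_⟩
    · obtain ⟨z, hz⟩ := hs (AlgSp.Points.ofPt a x)
      obtain ⟨u, rfl⟩ := Groth.Agent.AlgSpLib.surjective_ofPt ha'' z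
      rw [AlgSp.Points.map_ofPt] at hz
      obtain ⟨y, hy, -⟩ := Groth.Agent.AlgSpLib.exists_ofPt_of_eq (hr.isPullback' (a' ≫ f.hom)) hz.symm
      exact ⟨y, hy⟩
    · show _ ≫ f.hom ≫ q.hom = _
      rw [← Category.assoc, hw, Category.assoc, w, ← Category.assoc, Functor.map_comp]
  refine ⟨fun hfq U V a b h ha hb w => ?_, fun hfq => ?_⟩
  · obtain ⟨W, v, c, hc, _, _, _, hw⟩ := key a b h ha hb w
    have : Smooth (v.left ≫ h.left) := hfq c b (v ≫ h) hc hb hw
    exact Groth.Agent.SrcDescent.smooth_of_fppf_comp v.left h.left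
  · rw [Groth.Agent.AlgSpLib.isEtaleMor_iff_locP Y.property B.property]
    rw [Groth.Agent.AlgSpLib.isEtaleMor_iff_locP X.property B.property] at hfq
    intro U V a b h ha hb w
    obtain ⟨W, v, c, hc, _, _, _, hw⟩ := key a b h ha hb w
    have : Etale (v.left ≫ h.left) := hfq c b (v ≫ h) hc hb hw
    obtain ⟨_, hu, _⟩ := Etale.iff_flat_and_formallyUnramified.1 this
    have : FormallyUnramified v.left := FormallyUnramified.of_comp v.left h.left
    have : Etale v.left := Etale.iff_flat_and_formallyUnramified.2 ⟨‹_›, ‹_›, ‹_›⟩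
    exact Groth.Agent.SrcDescent.etale_of_etale_comp v.left h.left ‹_›
end Groth.Agent.S10560
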