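import Groth.Statements.S12609
import Groth.Agent.FFLib.SV.OrdersAt
import Groth.Agent.FFLib.Gaps
import Groth.Agent.FFLib.RR

set_option autoImplicit false
open Groth.Agent
open FunFld

namespace Groth.Agent.S12609

/-- Over an algebraically closed constant field, let `φ` be the canonical map (a basis of `L(C)`, `C`
canonical), normalized at the place `P` after multiplication by `y ≠ 0`, and `t` a local parameter
at `P`. For `j ≥ 1`: the canonical orders at `P` include `j` exactly when `j + 1` is a gap number at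
`P`, i.e. `L((j+1)P) = L(jP)`. -/
theorem result
    (k K : Type*) [Field k] [IsAlgClosed k] [Field K] [Algebra k K]
    (hK : FunFld.IsFunctionField k K) (C : FunFld.Divisor k K) (hC : FunFld.IsCanonical k K C)
    {n : ℕ} (φ : Fin (n + 1) → K) (hφ : LinearIndependent k φ)
    (hspan : Submodule.span k (Set.range φ) = FunFld.L C)
    (P : FunFld.Place k K) (y : K) (hy : y ≠ 0)
    (heff : (1 : K) ∈ Submodule.span k (Set.range (y • φ))) (hnorm : ∀ i, P.1 (y * φ i) ≤ 1)
    (t : K) (ht : P.1 t = WithZero.exp (-1))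
    (Ht : K →ₐ[k] PowerSeries K) (hHt : LocRes.IsHasseFamily t Ht) (j : ℕ) (hj : 1 ≤ j) :
    FunFld.IsJump (IsLocalRing.ResidueField P.O) (FunFld.hcolAt P Ht (y • φ)) (j + 1) ↔
      FunFld.L (Finsupp.single P ((j : ℤ) + 1)) = FunFld.L (Finsupp.single P (j : ℤ)) := by
  classical
  obtain ⟨ψ, hψ, hψt⟩ := FFLib.exists_expansion' hK P ht
  have hint : ∀ i, P.1 ((y • φ) i) ≤ 1 := hnorm
  rw [FFLib.isJump_hcolAt hψ hint hK hψt hHt, FFLib.isJump_pcol_succ, and_iff_right (by omega),
    ← FFLib.exists_val_iff_jump hψ hint]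
  have hmap : Submodule.span k (Set.range (y • φ)) = (FunFld.L C).map (LinearMap.mulLeft k y) := by
    rw [← hspan, Submodule.map_span, ← Set.range_comp]
    rfl
  rw [hmap] at heff
  obtain ⟨g₀, hg₀, hg₀y⟩ := Submodule.mem_map.mp heff
  have hg₀y' : y * g₀ = 1 := hg₀y
  have hg₀0 : g₀ ≠ 0 := fun e => by rw [e, mul_zero] at hg₀y'; exact zero_ne_one hg₀y'
  have hord : P.ord g₀ = -P.ord y := by
    have h := FFLib.ord_mul P hy hg₀0
    rw [hg₀y', show (1 : K) = algebraMap k K 1 from (map_one _).symm, FFLib.ord_algebraMap] at h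
    omega
  have hall : ∀ g ∈ FunFld.L C, g ≠ 0 → 0 ≤ P.ord y + P.ord g := fun g hg hg0 => by
    have h := FFLib.val_le_one_of_mem_span hint (f := y * g) (hmap ▸ Submodule.mem_map_of_mem hg)
    rwa [FFLib.val_le_one_iff P (mul_ne_zero hy hg0), FFLib.ord_mul P hy hg0] at h
  have hP : P.deg = 1 := FFLib.deg_eq_one hK.1 P
  have hg : 0 < FunFld.genus k K := by
    rw [← FFLib.ell_canonical hK hC]
    have := FFLib.L_finite hK.1 C
    exact Module.finrank_pos_iff_exists_ne_zero.mpr ⟨⟨g₀, hg₀⟩, fun e => hg₀0 (congrArg Subtype.val e)⟩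
  have ha : C P = P.ord y := by
    have h1 := (FFLib.mem_L_iff_ord hg₀0).mp hg₀ P
    by_contra hne
    have hL : FunFld.L (C - Finsupp.single P 1) = FunFld.L C := by
      refine le_antisymm (fun g hg' => ((FFLib.mem_L_sub_single zero_le_one).mp hg').1)
        fun g hg' => (FFLib.mem_L_sub_single zero_le_one).mpr ⟨hg', ?_⟩
      rcases eq_or_ne g 0 with rfl | hg0
      · simp
      · rw [FFLib.val_le_exp_iff P hg0]
        have := hall g hg' hg0
        omega
    have h2 := FFLib.riemann_roch hK hC (Finsupp.single P 1)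
    rw [FFLib.ell_single_one hK hg hP, FFLib.Divisor.deg_single, hP] at h2
    have h3 := FFLib.ell_canonical hK hC
    simp only [FunFld.ell] at h2 h3
    rw [hL, h3] at h2
    omega
  have hex : (∃ f ∈ Submodule.span k (Set.range (y • φ)), P.1 f = WithZero.exp (-(j : ℤ))) ↔
      ¬ FunFld.L (C - Finsupp.single P (j : ℤ)) ≤ FunFld.L (C - Finsupp.single P ((j : ℤ) + 1)) := by
    rw [hmap, SetLike.not_le_iff_exists]
    constructor
    · rintro ⟨f, hf, hv⟩
      obtain ⟨g, hg', rfl⟩ := Submodule.mem_map.mp hf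
      have hg0 : g ≠ 0 := fun e => by
        rw [e, map_zero, map_zero] at hv
        exact WithZero.exp_ne_zero hv.symm
      have hord' := FFLib.ord_of_val_eq P (x := y * g) hv
      rw [FFLib.ord_mul P hy hg0] at hord'
      refine ⟨g, (FFLib.mem_L_sub_single (Int.natCast_nonneg j)).mpr ⟨hg', ?_⟩, fun h => ?_⟩
      · rw [FFLib.val_le_exp_iff P hg0]; omega
      · have h' := ((FFLib.mem_L_sub_single (by omega)).mp h).2
        rw [FFLib.val_le_exp_iff P hg0] at h'
        omega
    · rintro ⟨g, hg1, hg2⟩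
      obtain ⟨hg', hv⟩ := (FFLib.mem_L_sub_single (Int.natCast_nonneg j)).mp hg1
      have hg0 : g ≠ 0 := fun e => hg2 (e ▸ Submodule.zero_mem _)
      rw [FFLib.mem_L_sub_single (by omega), not_and, FFLib.val_le_exp_iff P hg0] at hg2
      have h2 := hg2 hg'
      rw [FFLib.val_le_exp_iff P hg0] at hv
      refine ⟨y * g, Submodule.mem_map.mpr ⟨g, hg', rfl⟩, ?_⟩
      rw [FFLib.val_eq_exp P (mul_ne_zero hy hg0), FFLib.ord_mul P hy hg0]
      congr 1
      omega
  rw [hex]
  have hle : FunFld.L (C - Finsupp.single P ((j : ℤ) + 1)) ≤ FunFld.L (C - Finsupp.single P (j : ℤ)) :=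
    FFLib.L_mono (sub_le_sub_left (Finsupp.single_le_single.mpr (by omega)) C)
  have hle' : FunFld.L (Finsupp.single P (j : ℤ)) ≤ FunFld.L (Finsupp.single P ((j : ℤ) + 1)) :=
    FFLib.L_mono (Finsupp.single_le_single.mpr (by omega))
  have r1 := FFLib.riemann_roch hK hC (Finsupp.single P (j : ℤ))
  have r2 := FFLib.riemann_roch hK hC (Finsupp.single P ((j : ℤ) + 1))
  rw [FFLib.Divisor.deg_single, hP] at r1 r2
  have s1 := FFLib.ell_single_step hK hP j
  have hfin := FFLib.L_finite hK.1 (Finsupp.single P ((j : ℤ) + 1))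
  have hfin' := FFLib.L_finite hK.1 (C - Finsupp.single P (j : ℤ))
  have m1 := Submodule.finrank_mono hle'
  simp only [FunFld.ell] at r1 r2 s1
  constructor
  · intro h
    refine (Submodule.eq_of_le_of_finrank_eq hle' ?_).symm
    have hne : FunFld.L (C - Finsupp.single P ((j : ℤ) + 1)) < FunFld.L (C - Finsupp.single P (j : ℤ)) :=
      lt_of_le_not_ge hle h
    have := Submodule.finrank_lt_finrank_of_lt hne
    push_cast at r1 r2
    omega
  · intro h hge
    rw [le_antisymm hge hle] at r1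
    rw [h] at r2
    push_cast at r1 r2
    omega

end Groth.Agent.S12609
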