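import Groth.Statements.S0392
import Groth.Agent.LocalCrit.Fibre
import Mathlib.RingTheory.Nakayama
import Mathlib.RingTheory.Flat.FaithfullyFlat.Algebra


set_option autoImplicit false
universe u
open FlatMor

namespace Groth.Agent.S0392

open TensorProduct in
/-- Fibrewise criterion of flatness, Noetherian local form: for local homomorphisms R → S → S' of
Noetherian local rings and a nonzero finite S'-module M that is flat over R and whose reduction
modulo the maximal ideal of R is flat over the corresponding fibre ring of S, the ring S is flat
over R and M is flat over S. -/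
theorem result {R S S' M : Type u} [CommRing R] [CommRing S] [CommRing S'] [IsLocalRing R] [IsLocalRing S] [IsLocalRing S']
    [IsNoetherianRing R] [IsNoetherianRing S] [IsNoetherianRing S'] [Algebra R S] [Algebra S S'] [Algebra R S'] [IsScalarTower R S S']
    [IsLocalHom (algebraMap R S)] [IsLocalHom (algebraMap S S')]
    [AddCommGroup M] [Module S' M] [Module S M] [Module R M] [IsScalarTower S S' M] [IsScalarTower R S M]
    [Module.Finite S' M] [Nontrivial M] [Module.Flat R M]
    (h : Module.Flat (S ⧸ ((IsLocalRing.maximalIdeal R).map (algebraMap R S))) ((S ⧸ ((IsLocalRing.maximalIdeal R).map (algebraMap R S))) ⊗[S] M)) :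
    Module.Flat R S ∧ Module.Flat S M := by
  set 𝔞 := (IsLocalRing.maximalIdeal R).map (algebraMap R S)
  have hS : 𝔞 ≤ IsLocalRing.maximalIdeal S :=
    IsLocalRing.map_maximalIdeal_le (algebraMap R S)
  have hflat : Module.Flat S M :=
    LocalCrit.flat_of_le_jacobson (B := S') 𝔞
      ((Ideal.map_mono hS).trans ((IsLocalRing.map_maximalIdeal_le (algebraMap S S')).trans (IsLocalRing.maximalIdeal_le_jacobson _)))
      (LocalCrit.rTensor_map_injective _) (LocalCrit.keepsInjective_of_flat 𝔞 M)
  refine ⟨?_, hflat⟩
  -- `M` is faithfully flat over `S` by Nakayama over `S'`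
  have : Module.FaithfullyFlat S M := by
    refine ⟨fun m hm htop => ?_⟩
    obtain rfl := IsLocalRing.eq_maximalIdeal hm
    have h1 : (IsLocalRing.maximalIdeal S').jacobson = IsLocalRing.maximalIdeal S' :=
      IsLocalRing.jacobson_eq_maximalIdeal _ Ideal.IsPrime.ne_top'
    have h2 : (⊤ : Submodule S' M) ≤ IsLocalRing.maximalIdeal S' • ⊤ := by
      intro x _
      have hx : x ∈ IsLocalRing.maximalIdeal S • (⊤ : Submodule S M) := by rw [htop]; trivial
      induction hx using Submodule.smul_induction_on' with
      | smul a ha y _ =>
        rw [← IsScalarTower.algebraMap_smul S' a y]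
        exact Submodule.smul_mem_smul (by simpa using ha) Submodule.mem_top
      | add p _ q _ hp hq => exact add_mem (hp trivial) (hq trivial)
    have : (⊤ : Submodule S' M) = ⊥ :=
      Submodule.eq_bot_of_le_smul_of_le_jacobson_bot _ _ Module.Finite.fg_top h2
        (IsLocalRing.maximalIdeal_le_jacobson _)
    exact not_subsingleton M ((Submodule.subsingleton_iff S').mp (subsingleton_of_bot_eq_top this.symm))
  rw [Module.Flat.iff_lTensor_preserves_injective_linearMap]
  intro N N' _ _ _ _ f hf
  let g : S ⊗[R] N →ₗ[S] S ⊗[R] N' := f.baseChange S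
  suffices Function.Injective g from this
  refine (Module.FaithfullyFlat.lTensor_injective_iff_injective S M g).mp ?_
  let e : ∀ (P : Type u) [AddCommGroup P] [Module R P], M ⊗[S] (S ⊗[R] P) ≃ₗ[S] M ⊗[R] P :=
    fun P _ _ => AlgebraTensorModule.cancelBaseChange R S S M P
  have h2 : ∀ x, e N' (g.lTensor M x) = f.lTensor M (e N x) := by
    intro x
    induction x using TensorProduct.induction_on with
    | zero => simp
    | add x y hx hy => simp only [map_add, hx, hy]
    | tmul m y =>
      induction y using TensorProduct.induction_on with
      | zero => simp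
      | add y z hy hz => simp only [tmul_add, map_add, hy, hz]
      | tmul c n => simp [e, g]
  intro x y hxy
  have := congrArg (e N') hxy
  rw [h2, h2] at this
  exact (e N).injective (Module.Flat.lTensor_preserves_injective_linearMap f hf this)

end Groth.Agent.S0392
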