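import Groth.Statements.S14435
import Groth.Agent.LC.DepthLoc

set_option autoImplicit false
universe u
open LocCoh

namespace Groth.Agent.S14435

/-- Let (A, m) be a Noetherian local ring, φ : A → B a finite homomorphism of commutative rings, a ⊆ m
an ideal and M a finitely generated B-module. Then depth(a, M), computed over A, equals depth(aB,
M), computed over B (depths by regular sequences, ⊤ when aM = M). -/
theorem result {A B : Type u} [CommRing A] [IsNoetherianRing A] [IsLocalRing A]
    [CommRing B] [Algebra A B] [Module.Finite A B] (a : Ideal A) (ha : a ≤ IsLocalRing.maximalIdeal A)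
    (M : Type u) [AddCommGroup M] [Module B M] [Module A M] [IsScalarTower A B M] [Module.Finite B M] :
    LocCoh.idealDepth a M = LocCoh.idealDepth (a.map (algebraMap A B)) M := by
  have : IsNoetherianRing B := IsNoetherianRing.of_finite A B
  have : Module.Finite A M := Module.Finite.trans B M
  refine Groth.Agent.LC.enat_eq_of_nat_le_iff fun n => ?_
  rw [Groth.Agent.LC.le_idealDepth_iff_H, Groth.Agent.LC.le_idealDepth_iff_H]
  refine forall₂_congr fun i _ => ?_
  obtain ⟨φ, -⟩ := Groth.Agent.LC.exists_indep (R' := B) a i M
  exact φ.toEquiv.subsingleton_congr.symm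

end Groth.Agent.S14435
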