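import Groth.Statements.S4863
import Groth.Agent.FlatStrat.Sheaf
import Groth.Agent.FlatModel.Open

set_option autoImplicit false
universe u
open EGA43

namespace Groth.Agent.S4863

open AlgebraicGeometry CategoryTheory Limits in
/-- First assertion, for a module: let f : X ⟶ Y be locally of finite presentation and F a
quasi-coherent O_X-module of finite presentation. Then the set of points of X at which F is f-flat
is open. -/
theorem result {X Y : Scheme.{u}} (f : X ⟶ Y)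
    [LocallyOfFinitePresentation f] (F : X.Modules) [Coh.IsQCoh F] (hF : CohB1.IsFP F) :
    IsOpen {x : X | FlatMod.IsFlatOverAt f F x} := by
  classical
  rw [isOpen_iff_forall_mem_open]
  intro x hx
  obtain ⟨_, ⟨V, hV, rfl⟩, hxV, -⟩ :=
    Y.isBasis_affineOpens.exists_subset_of_mem_open (Set.mem_univ (f.base x)) isOpen_univ
  obtain ⟨_, ⟨U, hU, rfl⟩, hxU, hle⟩ :=
    X.isBasis_affineOpens.exists_subset_of_mem_open (show x ∈ f ⁻¹ᵁ V from hxV) (f ⁻¹ᵁ V).2
  letI : Algebra Γ(Y, V) Γ(X, U) := (f.appLE V U hle).hom.toAlgebra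
  letI : Module Γ(Y, V) Γ(F, U) := Module.compHom _ (f.appLE V U hle).hom
  haveI : IsScalarTower Γ(Y, V) Γ(X, U) Γ(F, U) := IsScalarTower.of_algebraMap_smul fun _ _ => rfl
  haveI : Algebra.FinitePresentation Γ(Y, V) Γ(X, U) := f.finitePresentation_appLE hV hU hle
  haveI : Module.FinitePresentation Γ(X, U) Γ(F, U) := Groth.Agent.QCoh.finitePresentation_of_isFP hF hU
  have key : ∀ y (hy : y ∈ U), FlatMod.IsFlatOverAt f F y ↔
      Module.Flat Γ(Y, V) (LocalizedModule (hU.primeIdealOf ⟨y, hy⟩).asIdeal.primeCompl Γ(F, U)) := by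
    intro y hy
    rw [Groth.Agent.QCoh.isFlatOverAt_iff f hV hle hy]
    letI := Groth.Agent.QCoh.stalkModule F hy
    letI : Module Γ(Y, V) (F.presheaf.stalk y) :=
      Module.compHom _ ((f.appLE V U hle) ≫ X.presheaf.germ U y hy).hom
    haveI : IsScalarTower Γ(Y, V) Γ(X, U) (F.presheaf.stalk y) :=
      IsScalarTower.of_algebraMap_smul fun _ _ => rfl
    haveI := Groth.Agent.QCoh.isLocalizedModule_germLin ‹Coh.IsQCoh F› hU hy
    let e := (IsLocalizedModule.iso (hU.primeIdealOf ⟨y, hy⟩).asIdeal.primeCompl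
      (Groth.Agent.QCoh.germLin F hy)).restrictScalars Γ(Y, V)
    exact ⟨fun h => Module.Flat.of_linearEquiv e, fun h => Module.Flat.of_linearEquiv e.symm⟩
  obtain ⟨g, hg, hW⟩ := Groth.Agent.FlatModel.exists_flat_nhd (R := Γ(Y, V)) Γ(F, U)
    (hU.primeIdealOf ⟨x, hxU⟩).asIdeal ((key x hxU).1 hx)
  have hb : ∀ y (hy : y ∈ U), y ∈ X.basicOpen g ↔ g ∉ (hU.primeIdealOf ⟨y, hy⟩).asIdeal := by
    intro y hy
    have hy' := hU.fromSpec_primeIdealOf ⟨y, hy⟩
    have h2 := SetLike.ext_iff.1 (hU.fromSpec_preimage_basicOpen g) (hU.primeIdealOf ⟨y, hy⟩)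
    change hU.fromSpec (hU.primeIdealOf ⟨y, hy⟩) = y at hy'
    change hU.fromSpec (hU.primeIdealOf ⟨y, hy⟩) ∈ X.basicOpen g ↔ _ at h2
    rw [hy'] at h2
    exact h2
  refine ⟨X.basicOpen g, fun y hy => ?_, (X.basicOpen g).2, (hb x hxU).2 hg⟩
  exact (key y (X.basicOpen_le g hy)).2 (hW _ ((hb y (X.basicOpen_le g hy)).1 hy))

end Groth.Agent.S4863
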