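import Groth.Statements.S4796
import Groth.Agent.ConsPropLib.GenExactModel
import Groth.Agent.MorLib.LimCons

set_option autoImplicit false
universe u
open TensorProduct
open Cons9

namespace Groth.Agent.S4796

/-- Let R be a commutative ring, B an R-algebra of finite presentation, F, G, H three B-modules of
finite presentation and u : F → G, v : G → H homomorphisms of B-modules. Then the set of prime
ideals p of R for which the sequence of fibres κ(p) ⊗_R F → κ(p) ⊗_R G → κ(p) ⊗_R H is exact is a
constructible subset of Spec R. Affine form: S = Spec R, X = Spec B with B a finitely presented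
R-algebra, the modules finitely presented B-modules, and the fibre of a module M at a prime p taken
as κ(p) ⊗_R M; the published statement, for a morphism of finite presentation and quasi-coherent
modules of finite presentation, is local on S and on X and reduces to this one. -/
theorem result {R B : Type u} [CommRing R] [CommRing B] [Algebra R B] [Algebra.FinitePresentation R B]
    {F G H : Type u} [AddCommGroup F] [Module B F] [Module R F] [IsScalarTower R B F] [Module.FinitePresentation B F]
    [AddCommGroup G] [Module B G] [Module R G] [IsScalarTower R B G] [Module.FinitePresentation B G]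
    [AddCommGroup H] [Module B H] [Module R H] [IsScalarTower R B H] [Module.FinitePresentation B H]
    (u : F →ₗ[B] G) (v : G →ₗ[B] H) :
    Topology.IsConstructible {p : PrimeSpectrum R |
      Function.Exact ((u.restrictScalars R).baseChange p.asIdeal.ResidueField) ((v.restrictScalars R).baseChange p.asIdeal.ResidueField)} := by
  obtain ⟨R₀, _, n, a, b, b', c, c', U, AG, V, AH, hmodel⟩ := Groth.Agent.ConsPropLib.exists_exactMat_model (R := R) u v
  let E : Set (PrimeSpectrum R₀) := {q | Groth.Agent.ConsPropLib.ExactMat (algebraMap R₀ q.asIdeal.ResidueField) U AG V AH}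
  have hE : Topology.IsConstructible E := by
    refine Groth.Agent.ConsPropLib.isConstructible_primeSpectrum_of_dichotomy E fun q => ?_
    obtain ⟨r, hr, hd⟩ := Groth.Agent.ConsPropLib.exactMat_iff_of_ker_eq U AG V AH q.asIdeal
    refine ⟨r, hr, hd.imp (fun h p hqp hrp => ?_) fun h p hqp hrp he => ?_⟩
    · exact h _ _ (fun x hx => Ideal.algebraMap_residueField_eq_zero.2 (hqp hx))
        (mt Ideal.algebraMap_residueField_eq_zero.1 hrp)
    · exact h _ _ (fun x hx => Ideal.algebraMap_residueField_eq_zero.2 (hqp hx))
        (mt Ideal.algebraMap_residueField_eq_zero.1 hrp) he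
  let π : AlgebraicGeometry.Spec (CommRingCat.of R) ⟶ AlgebraicGeometry.Spec (CommRingCat.of R₀) :=
    AlgebraicGeometry.Spec.map (CommRingCat.ofHom R₀.subtype)
  haveI : AlgebraicGeometry.IsAffineHom π := AlgebraicGeometry.isAffineHom_of_isAffine _
  have key := Groth.Agent.MorLib.LimCons.isConstructible_preimage π hE
  refine (congrArg (@Topology.IsConstructible (PrimeSpectrum R) _) (Set.ext fun p => ?_)).mp key
  let q : PrimeSpectrum R₀ := PrimeSpectrum.comap R₀.subtype p
  change q ∈ E ↔ _
  refine Iff.trans ?_ (hmodel _).symm
  obtain ⟨r, hr, hd⟩ := Groth.Agent.ConsPropLib.exactMat_iff_of_ker_eq U AG V AH q.asIdeal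
  have h1 : q.asIdeal ≤ RingHom.ker ((algebraMap R p.asIdeal.ResidueField).comp R₀.subtype) :=
    fun x hx => Ideal.algebraMap_residueField_eq_zero.2 hx
  have h2 : q.asIdeal ≤ RingHom.ker (algebraMap R₀ q.asIdeal.ResidueField) :=
    fun x hx => Ideal.algebraMap_residueField_eq_zero.2 hx
  have h3 : ((algebraMap R p.asIdeal.ResidueField).comp R₀.subtype) r ≠ 0 :=
    fun h => hr (Ideal.algebraMap_residueField_eq_zero (I := p.asIdeal).1 h)
  have h4 : algebraMap R₀ q.asIdeal.ResidueField r ≠ 0 :=
    fun h => hr (Ideal.algebraMap_residueField_eq_zero.1 h)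
  rcases hd with hd | hd
  · exact iff_of_true (hd _ _ h2 h4) (hd _ _ h1 h3)
  · exact iff_of_false (hd _ _ h2 h4) (hd _ _ h1 h3)

end Groth.Agent.S4796
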