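import Groth.Statements.S9406
import Mathlib
import Groth.Agent.RegLoc6.Descent

set_option autoImplicit false
universe u
open CAlg

namespace Groth.Agent.S9406

/-- Regularity descends along faithfully flat ring maps: whenever S is a faithfully flat R-algebra whose
underlying ring is regular, the base ring R is regular as well. -/
theorem result (R : Type u) [CommRing R] (S : Type u) [CommRing S]
    [Algebra R S] [Module.FaithfullyFlat R S] [IsRegularRing S] : IsRegularRing R := by
  have hN : IsNoetherianRing R :=
    Submodule.IsNoetherian.of_isNoetherian_tensorProduct_of_faithfullyFlat (R := R) (M := R) (A := S)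
      (isNoetherian_of_linearEquiv (TensorProduct.AlgebraTensorModule.rid R S S).symm)
  rw [isRegularRing_iff]
  intro p _
  obtain ⟨q, hq⟩ := PrimeSpectrum.comap_surjective_of_faithfullyFlat (A := R) (B := S) ⟨p, ‹_›⟩
  have : q.asIdeal.LiesOver p := ⟨(congrArg PrimeSpectrum.asIdeal hq).symm⟩
  have : IsRegularLocalRing (Localization.AtPrime q.asIdeal) :=
    IsRegularRing.isRegularLocalRing_localization q.asIdeal
  let := Localization.AtPrime.algebraOfLiesOver p q.asIdeal
  have : IsLocalHom (algebraMap (Localization.AtPrime p) (Localization.AtPrime q.asIdeal)) :=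
    Localization.isLocalHom_localRingHom p q.asIdeal (algebraMap R S) Ideal.LiesOver.over
  exact RegLoc6.isRegularLocalRing_of_flat (B := Localization.AtPrime q.asIdeal)


end Groth.Agent.S9406
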