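import Groth.Statements.S9206
import Mathlib

set_option autoImplicit false
universe u
open CategoryTheory AlgebraicGeometry
open Lim

namespace Groth.Agent.S9206

open AlgebraicGeometry CategoryTheory Limits

theorem exists_fraction {X : Scheme.{u}} [IsAffine X] (x : X) (z : X.residueField x) :
    ∃ a b : Γ(X, ⊤), X.Γevaluation x b ≠ 0 ∧ z * X.Γevaluation x b = X.Γevaluation x a := by
  obtain ⟨w, rfl⟩ := X.residue_surjective x z
  letI := TopCat.Presheaf.algebra_section_stalk X.presheaf (U := (⊤ : X.Opens)) ⟨x, trivial⟩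
  haveI := (isAffineOpen_top X).isLocalization_stalk ⟨x, trivial⟩
  obtain ⟨⟨a, b⟩, hab⟩ :=
    IsLocalization.surj ((isAffineOpen_top X).primeIdealOf ⟨x, trivial⟩).asIdeal.primeCompl w
  have hu := IsLocalization.map_units (X.presheaf.stalk x) b
  refine ⟨a, b.1, (hu.map (X.residue x).hom).ne_zero, ?_⟩
  exact ((map_mul (X.residue x).hom _ _).symm.trans (congrArg (X.residue x).hom hab))

theorem affine_case {J : Type u} [SmallCategory J] [IsCofiltered J] (E : J ⥤ Scheme.{u}) (e : Cone E)
    (he : IsLimit e) [∀ j, IsAffine (E.obj j)] [IsAffine e.pt] (s : e.pt) (z : e.pt.residueField s) :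
    ∃ (j : J), z ∈ Set.range ((e.π.app j).residueFieldMap s) := by
  obtain ⟨a, b, hb, hab⟩ := exists_fraction s z
  obtain ⟨j₁, a₁, rfl⟩ := exists_appTop_π_eq_of_isAffine_of_isLimit E e he a
  obtain ⟨j₂, b₁, rfl⟩ := exists_appTop_π_eq_of_isAffine_of_isLimit E e he b
  let j := IsCofiltered.min j₁ j₂
  refine ⟨j, (E.obj j).Γevaluation _ ((E.map (IsCofiltered.minToLeft j₁ j₂)).appTop a₁) /
    (E.obj j).Γevaluation _ ((E.map (IsCofiltered.minToRight j₁ j₂)).appTop b₁), ?_⟩
  have h1 : ∀ {k : J} (m : j ⟶ k) (t : Γ(E.obj k, ⊤)),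
      (e.π.app j).residueFieldMap s ((E.obj j).Γevaluation _ ((E.map m).appTop t)) =
        e.pt.Γevaluation s ((e.π.app k).appTop t) := fun m t => by
    rw [Scheme.Γevaluation_naturality_apply, ← e.w m, Scheme.Hom.comp_appTop]
    rfl
  rw [map_div₀, h1, h1, div_eq_iff hb]
  exact hab.symm

theorem comp_congr {X Y Y' Z : Scheme.{u}} {f : X ⟶ Y} {g : Y ⟶ Z} {f' : X ⟶ Y'} {g' : Y' ⟶ Z}
    (e : f ≫ g = f' ≫ g') (s : X) (b : Z.residueField (g (f s))) :
    ∃ b', f'.residueFieldMap s (g'.residueFieldMap (f' s) b') = f.residueFieldMap s (g.residueFieldMap (f s) b) := by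
  have h1 := Scheme.residueFieldMap_comp f g s
  have h2 := Scheme.residueFieldMap_comp f' g' s
  have : f.residueFieldMap s (g.residueFieldMap (f s) b) ∈ Set.range ((f' ≫ g').residueFieldMap s) := by
    have : f.residueFieldMap s (g.residueFieldMap (f s) b) ∈ Set.range ((f ≫ g).residueFieldMap s) :=
      ⟨b, by rw [h1]; rfl⟩
    generalize f.residueFieldMap s (g.residueFieldMap (f s) b) = z at this ⊢
    revert this z
    clear h1 h2 b
    generalize hk : f' ≫ g' = k at e
    subst e
    exact fun z h => h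
  obtain ⟨b', hb'⟩ := this
  exact ⟨b', by rw [← hb', h2]; rfl⟩

/-- Let S = lim S_i be a cofiltered limit of schemes with affine transition morphisms and let s be a
point of S with images s_i in S_i. Then the residue field κ(s) is the colimit of the residue fields
κ(s_i): every element of κ(s) is the image of an element of κ(s_i) for some i under the map of
residue fields induced by S → S_i (the maps κ(s_i) → κ(s) being injective, this says that the
canonical map from the colimit is an isomorphism). -/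
theorem result {I : Type u} [SmallCategory I] [IsCofiltered I]
    (D : I ⥤ Scheme.{u}) (c : Limits.Cone D) (hc : Limits.IsLimit c)
    [∀ (i j : I) (f : i ⟶ j), IsAffineHom (D.map f)] (s : c.pt) (a : c.pt.residueField s) :
    ∃ (i : I) (b : (D.obj i).residueField ((c.π.app i).base s)), ((c.π.app i).residueFieldMap s).hom b = a := by
  obtain ⟨i⟩ := IsCofiltered.nonempty (C := I)
  haveI := isAffineHom_π_app D c hc i
  obtain ⟨V, hV, hsV, -⟩ :=
    exists_isAffineOpen_mem_and_subset (x := c.π.app i s) (U := ⊤) trivial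
  haveI : IsAffine (c.π.app i ⁻¹ᵁ V : Scheme.{u}) := hV.preimage (c.π.app i)
  haveI : ∀ j, IsAffine ((opensDiagram D i V).obj j) := fun j => hV.preimage (D.map j.hom)
  haveI : IsAffine (opensCone D c i V).pt := ‹IsAffine (c.π.app i ⁻¹ᵁ V : Scheme.{u})›
  let s' : (c.π.app i ⁻¹ᵁ V : Scheme.{u}) := ⟨s, hsV⟩
  let U := c.π.app i ⁻¹ᵁ V
  obtain ⟨j, b', hb'⟩ := affine_case (opensDiagram D i V) (opensCone D c i V)
    (isLimitOpensCone D c hc i V) s' (U.ι.residueFieldMap s' a)
  refine ⟨j.left, ?_⟩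
  have e : (opensCone D c i V).π.app j ≫ (D.map j.hom ⁻¹ᵁ V).ι = U.ι ≫ c.π.app j.left :=
    Scheme.Hom.resLE_comp_ι _ _
  haveI := (inferInstance : ∀ x, IsIso ((D.map j.hom ⁻¹ᵁ V).ι.residueFieldMap x))
    ((opensCone D c i V).π.app j s')
  obtain ⟨b'', rfl⟩ := (ConcreteCategory.bijective_of_isIso
    ((D.map j.hom ⁻¹ᵁ V).ι.residueFieldMap ((opensCone D c i V).π.app j s'))).2 b'
  obtain ⟨b, hb⟩ := comp_congr e s' b''
  exact ⟨b, (U.ι.residueFieldMap s').hom.injective (hb.trans hb')⟩

end Groth.Agent.S9206
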