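import Groth.Statements.S0398
import Mathlib.RingTheory.Artinian.Ring
import Mathlib.RingTheory.Flat.Localization
import Mathlib.RingTheory.LocalRing.Module
import Mathlib.LinearAlgebra.TensorProduct.Quotient

set_option autoImplicit false
universe u
open FlatMor

namespace Groth.Agent.S0398

open TensorProduct in
/-- Nakayama for a nilpotent ideal. -/
theorem eq_top_of_nilpotent {R M : Type u} [CommRing R] [AddCommGroup M] [Module R M] {I : Ideal R}
    (hI : IsNilpotent I) (N : Submodule R M) (h : (⊤ : Submodule R M) ≤ N ⊔ I • ⊤) : N = ⊤ := by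
  obtain ⟨n, hn⟩ := hI
  have : ∀ k, (⊤ : Submodule R M) ≤ N ⊔ I ^ k • ⊤ := by
    intro k
    induction k with
    | zero => simp [Ideal.one_eq_top]
    | succ k ih =>
      calc ⊤ ≤ N ⊔ I • ⊤ := h
        _ ≤ N ⊔ I • (N ⊔ I ^ k • ⊤) := sup_le_sup_left (Submodule.smul_mono le_rfl ih) _
        _ ≤ N ⊔ I ^ (k + 1) • ⊤ := by
          rw [Submodule.smul_sup, pow_succ', Submodule.mul_smul, ← sup_assoc]
          exact sup_le_sup_right (sup_le le_rfl Submodule.smul_le_right) _
  simpa [hn] using this n

open TensorProduct in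
/-- A surjection onto a flat module which is injective modulo a nilpotent ideal is injective. -/
theorem ker_eq_bot_of_flat {S F P : Type u} [CommRing S] [AddCommGroup F] [Module S F]
    [AddCommGroup P] [Module S P] [Module.Flat S P] {I : Ideal S} (hI : IsNilpotent I)
    (g : F →ₗ[S] P) (hg : Function.Surjective g)
    (h : LinearMap.ker g ≤ I • (⊤ : Submodule S F)) : LinearMap.ker g = ⊥ := by
  have hinj : Function.Injective ((LinearMap.ker g).subtype.lTensor (S ⧸ I)) :=
    lTensor_injective_of_exact_of_exact_of_rTensor_injective (f₁ := Submodule.subtype I)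
      (f₂ := Submodule.mkQ I) (g₁ := (LinearMap.ker g).subtype) (g₂ := g) (LinearMap.exact_subtype_mkQ I)
      (Submodule.mkQ_surjective _) (LinearMap.exact_subtype_ker_map g) hg
      (Module.Flat.rTensor_preserves_injective_linearMap _ Subtype.val_injective)
      (Module.Flat.lTensor_preserves_injective_linearMap _ Subtype.val_injective)
  have htop : (⊤ : Submodule S (LinearMap.ker g)) ≤ ⊥ ⊔ I • ⊤ := by
    intro z _
    rw [bot_sup_eq, ← Submodule.Quotient.mk_eq_zero]
    have e : (LinearMap.ker g).subtype.lTensor (S ⧸ I) ((1 : S ⧸ I) ⊗ₜ z) = 0 := by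
      apply (TensorProduct.quotTensorEquivQuotSMul _ I).injective
      rw [LinearMap.lTensor_tmul, map_zero, TensorProduct.quotTensorEquivQuotSMul_mk_one_tmul,
        Submodule.Quotient.mk_eq_zero]
      exact h z.2
    have e2 := congrArg (TensorProduct.quotTensorEquivQuotSMul _ I) (hinj (e.trans (map_zero _).symm))
    rwa [TensorProduct.quotTensorEquivQuotSMul_mk_one_tmul, map_zero] at e2
  have := eq_top_of_nilpotent hI (⊥ : Submodule S (LinearMap.ker g)) htop
  rw [eq_bot_iff]
  intro z hz
  have hz' : (⟨z, hz⟩ : LinearMap.ker g) ∈ (⊥ : Submodule S (LinearMap.ker g)) := this ▸ Submodule.mem_top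
  exact congrArg Subtype.val ((Submodule.mem_bot S).1 hz')

open TensorProduct in
/-- The local case. -/
theorem local_case {R S M : Type u} [CommRing R] [CommRing S] [IsArtinianRing R] [IsLocalRing R] [Algebra R S]
    (hinj : Function.Injective (algebraMap R S))
    [AddCommGroup M] [Module R M] [Module.Flat S (S ⊗[R] M)] : Module.Flat R M := by
  have hnil : IsNilpotent (IsLocalRing.maximalIdeal R) := by
    rw [← IsLocalRing.jacobson_eq_maximalIdeal ⊥ bot_ne_top]
    exact IsArtinianRing.isNilpotent_jacobson_bot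
  let m := IsLocalRing.maximalIdeal R
  letI : Field (R ⧸ m) := Ideal.Quotient.field m
  let b := Module.Basis.ofVectorSpace (R ⧸ m) (M ⧸ m • (⊤ : Submodule R M))
  choose x hx using fun i => Submodule.mkQ_surjective (m • (⊤ : Submodule R M)) (b i)
  let g := Finsupp.linearCombination R x
  have hg : Function.Surjective g := by
    rw [← LinearMap.range_eq_top]
    refine eq_top_of_nilpotent hnil _ fun y _ => ?_
    obtain ⟨c, hc⟩ : ∃ c : _ →₀ R, (m • (⊤ : Submodule R M)).mkQ (g c) = (m • (⊤ : Submodule R M)).mkQ y := by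
      suffices h : ∀ z : M ⧸ m • (⊤ : Submodule R M), z ∈ LinearMap.range ((m • (⊤ : Submodule R M)).mkQ ∘ₗ g) from h _
      intro z
      rw [← b.linearCombination_repr z, Finsupp.linearCombination_apply]
      refine Submodule.sum_mem _ fun i _ => ?_
      obtain ⟨r, hr⟩ := Ideal.Quotient.mk_surjective (b.repr z i)
      rw [← hr]
      exact ⟨Finsupp.single i r, by simp [g, ← hx]⟩
    refine Submodule.mem_sup.2 ⟨g c, LinearMap.mem_range_self _ _, y - g c, ?_, add_sub_cancel _ _⟩
    exact (Submodule.Quotient.eq _).1 hc.symm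
  let I : Ideal S := m.map (algebraMap R S)
  have hI : IsNilpotent I := by
    obtain ⟨n, hn⟩ := hnil
    exact ⟨n, by rw [← Ideal.map_pow, hn]; exact Ideal.map_bot⟩
  let g' := g.baseChange S
  have hg' : Function.Surjective g' := LinearMap.lTensor_surjective S hg
  let Q := (S ⊗[R] (_ →₀ R)) ⧸ I • (⊤ : Submodule S (S ⊗[R] (Module.Basis.ofVectorSpaceIndex (R ⧸ m) (M ⧸ m • (⊤ : Submodule R M)) →₀ R)))
  let q := fun i => (Submodule.Quotient.mk (1 ⊗ₜ Finsupp.single i 1) : Q)
  let h1 : _ → ((R ⧸ m) →ₗ[R] Q) := fun i => Submodule.liftQ m (LinearMap.toSpanSingleton R Q (q i)) fun r hr => by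
    rw [LinearMap.mem_ker, LinearMap.toSpanSingleton_apply, ← algebraMap_smul S r (q i)]
    simp only [q]
    rw [← Submodule.Quotient.mk_smul, Submodule.Quotient.mk_eq_zero]
    exact Submodule.smul_mem_smul (Ideal.mem_map_of_mem _ hr) Submodule.mem_top
  let h0 : M →ₗ[R] Q := Finsupp.lsum R h1 ∘ₗ b.repr.toLinearMap.restrictScalars R ∘ₗ (m • (⊤ : Submodule R M)).mkQ
  let h : S ⊗[R] M →ₗ[S] Q := LinearMap.liftBaseChange S h0
  have hh : h ∘ₗ g' = (I • ⊤ : Submodule S _).mkQ := by
    ext i
    simp [h, g', g, h0, hx, h1, q]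
    exact (Submodule.liftQ_apply m _ (1 : R)).trans (LinearMap.toSpanSingleton_apply_one R Q _)
  have hker : LinearMap.ker g' = ⊥ := ker_eq_bot_of_flat hI g' hg' fun z hz => by
    rw [← Submodule.Quotient.mk_eq_zero, ← Submodule.mkQ_apply, ← hh, LinearMap.comp_apply,
      LinearMap.mem_ker.1 hz, map_zero]
  have hgi : Function.Injective g := by
    intro c d hcd
    have e : g' (1 ⊗ₜ c) = g' (1 ⊗ₜ d) := by simp [g', hcd]
    have e2 := LinearMap.ker_eq_bot.1 hker e
    haveI : FaithfulSMul R S := (faithfulSMul_iff_algebraMap_injective R S).2 hinj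
    exact Module.Flat.tensorProduct_mk_injective _ _ _ e2
  exact Module.Flat.of_linearEquiv (LinearEquiv.ofBijective g ⟨hgi, hg⟩).symm

open TensorProduct in
/-- For an injective ring map R → S with R Artinian and an R-module M, if S ⊗ M is flat over S then M is
flat over R. -/
theorem result {R S M : Type u} [CommRing R] [CommRing S] [IsArtinianRing R] [Algebra R S] (hinj : Function.Injective (algebraMap R S))
    [AddCommGroup M] [Module R M] [Module.Flat S (S ⊗[R] M)] : Module.Flat R M := by
  refine Module.flat_of_isLocalized_maximal R M (fun P hP => TensorProduct R (Localization.AtPrime P) M)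
    (fun P hP => TensorProduct.mk R (Localization.AtPrime P) M 1) fun P hP => ?_
  let L := Localization.AtPrime P
  haveI : IsArtinianRing L := (IsArtinianRing.localization_surjective P.primeCompl L).isArtinianRing
  letI : Algebra L (S ⊗[R] L) := Algebra.TensorProduct.rightAlgebra
  have hinj' : Function.Injective (algebraMap L (S ⊗[R] L)) :=
    Algebra.TensorProduct.includeRight_injective (R := R) (A := S) (B := L) hinj
  haveI : Module.Flat (S ⊗[R] L) ((S ⊗[R] L) ⊗[R] M) :=
    .of_linearEquiv (TensorProduct.AlgebraTensorModule.cancelBaseChange R S (S ⊗[R] L) (S ⊗[R] L) M).symm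
  haveI : Module.Flat (S ⊗[R] L) ((S ⊗[R] L) ⊗[L] (L ⊗[R] M)) :=
    .of_linearEquiv (TensorProduct.AlgebraTensorModule.cancelBaseChange R L (S ⊗[R] L) (S ⊗[R] L) M)
  haveI : Module.Flat L (L ⊗[R] M) := local_case hinj'
  exact Module.Flat.trans R L _

end Groth.Agent.S0398
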