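import Groth.Statements.S9349
import Groth.Agent.QCoh.FlatOver
import Groth.Agent.QCoh.Qcqs

set_option autoImplicit false
universe u
open FlatMod

namespace Groth.Agent.S9349
open AlgebraicGeometry CategoryTheory Groth.Agent.QCoh

theorem flat_sections {X Y S : Scheme.{u}} (f : X ⟶ Y) (q : Y ⟶ S) (F : X.Modules) (W : Y.Opens)
    (V : S.Opens) (hle : W ≤ q ⁻¹ᵁ V) (hle' : f ⁻¹ᵁ W ≤ (f ≫ q) ⁻¹ᵁ V) :
    (letI : Module Γ(S, V) Γ(F, f ⁻¹ᵁ W) := Module.compHom _ ((f ≫ q).appLE V (f ⁻¹ᵁ W) hle').hom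
     Module.Flat Γ(S, V) Γ(F, f ⁻¹ᵁ W)) ↔
    (letI : Module Γ(S, V) Γ((Coh.push f).obj F, W) := Module.compHom _ (q.appLE V W hle).hom
     Module.Flat Γ(S, V) Γ((Coh.push f).obj F, W)) := by
  letI : Module Γ(S, V) Γ(F, f ⁻¹ᵁ W) := Module.compHom _ ((f ≫ q).appLE V (f ⁻¹ᵁ W) hle').hom
  letI : Module Γ(S, V) Γ((Coh.push f).obj F, W) := Module.compHom _ (q.appLE V W hle).hom
  have hcomp : (f ≫ q).appLE V (f ⁻¹ᵁ W) hle' = q.appLE V W hle ≫ f.app W := by
    rw [Scheme.Hom.app_eq_appLE, Scheme.Hom.appLE_comp_appLE]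
  let e : Γ(F, f ⁻¹ᵁ W) ≃ₗ[Γ(S, V)] Γ((Coh.push f).obj F, W) :=
    { toFun := fun x => x
      invFun := fun x => x
      map_add' := fun _ _ => rfl
      left_inv := fun _ => rfl
      right_inv := fun _ => rfl
      map_smul' := fun r x => by
        refine Eq.trans ?_ (pushforward_smul f W ((q.appLE V W hle).hom r) x).symm
        show ((f ≫ q).appLE V (f ⁻¹ᵁ W) hle').hom r • x = _
        rw [hcomp]
        rfl }
  exact Module.Flat.equiv_iff e


open AlgebraicGeometry CategoryTheory in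
/-- Let f : X → Y be an affine morphism of S-schemes, with q : Y → S, and F a quasi-coherent O_X-module.
Flatness of F over S (along f ≫ q) is equivalent to flatness of f_*F over S (along q). -/
theorem result {X Y S : Scheme.{u}} (f : X ⟶ Y) [IsAffineHom f] (q : Y ⟶ S)
    (F : X.Modules) (hF : Coh.IsQCoh F) :
    FlatMod.IsFlatOver (f ≫ q) F ↔ FlatMod.IsFlatOver q ((Coh.push f).obj F) := by
  have hq : Coh.IsQCoh ((Coh.push f).obj F) := Groth.Agent.QCoh.isQCoh_pushforward f hF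
  constructor
  · intro h
    rw [Groth.Agent.QCoh.isFlatOver_iff q hq]
    intro W V hle hW hV
    have hle' : f ⁻¹ᵁ W ≤ (f ≫ q) ⁻¹ᵁ V := fun x hx => hle hx
    exact (flat_sections f q F W V hle hle').1
      ((Groth.Agent.QCoh.isFlatOver_iff (f ≫ q) hF).1 h (f ⁻¹ᵁ W) V hle' (hW.preimage f) hV)
  · intro h x
    obtain ⟨_, ⟨V, hV, rfl⟩, hxV, -⟩ :=
      S.isBasis_affineOpens.exists_subset_of_mem_open (Set.mem_univ ((f ≫ q).base x)) isOpen_univ
    obtain ⟨_, ⟨W, hW, rfl⟩, hxW, hle⟩ :=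
      Y.isBasis_affineOpens.exists_subset_of_mem_open (show f.base x ∈ q ⁻¹ᵁ V from hxV) (q ⁻¹ᵁ V).2
    have hle' : f ⁻¹ᵁ W ≤ (f ≫ q) ⁻¹ᵁ V := fun y hy => hle hy
    exact (Groth.Agent.QCoh.flat_appLE_iff (f ≫ q) hF (IsAffineOpen.preimage hW f) hV hle').1
      ((flat_sections f q F W V hle hle').2 ((Groth.Agent.QCoh.isFlatOver_iff q hq).1 h W V hle hW hV)) x hxW


end Groth.Agent.S9349
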