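import Groth.Statements.S4706
import Groth.Agent.FlatLoc6.GeomComp
import Groth.Agent.S4696

set_option autoImplicit false
universe u
open EGA4

namespace Groth.Agent.S4706

/-- Let A → A' be a local homomorphism of Noetherian local rings which is normal (flat, with
geometrically normal fibres). If the completion map of A' is regular (the formal fibres of A' are
geometrically regular), then the formal fibres of A are geometrically normal. -/
theorem result (A A' : Type u) [CommRing A] [CommRing A']
    [IsNoetherianRing A] [IsNoetherianRing A'] [IsLocalRing A] [IsLocalRing A'] [Algebra A A']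
    [IsLocalHom (algebraMap A A')] (hf : EGA4.IsNormalHom A A') (hA' : CAlg.IsRegularHom A' (EGA4.Cpl A')) :
    EGA4.HasGeomNormalFormalFibres A := by
    haveI := hf.1
    haveI := FlatLoc6.isNoetherianRing_cpl A
    haveI := FlatLoc6.isNoetherianRing_cpl A'
    obtain ⟨_, _, _⟩ := FlatLoc6.exists_cplHom A A'
    have hAC := S4696.result A A' (EGA4.Cpl A') hf (FlatLoc6.isNormalHom_of_isRegularHom A' _ hA')
    intro p _ L _ _ hL
    haveI := FlatLoc6.isNoetherianRing_fiber (B := EGA4.Cpl A') p
    exact (FlatLoc6.permanence_normal.cancel A (EGA4.Cpl A) (EGA4.Cpl A') p L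
      ⟨haveI := hL; FlatLoc6.isNoetherianRing_tensor_finite p.ResidueField L _, hAC.2 p L hL⟩).2

end Groth.Agent.S4706
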