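import Groth.Statements.S1213
import Mathlib

set_option autoImplicit false
set_option linter.style.haveILetI false
universe u
open scoped Classical
open FlatMor

namespace Groth.Agent.S1213

open TensorProduct IsLocalRing in
/-- Let R be a local ring, S an R-algebra and N an S-module which, as an R-module, is an internal direct
sum of finite R-submodules. Then for every R-module M and every prime q of S which is the
annihilator of an element of the S-module N ⊗_R M we have q + 𝔪_R S ≠ S. -/
theorem result {R S : Type u} [CommRing R] [IsLocalRing R] [CommRing S] [Algebra R S]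
    (N : Type u) [AddCommGroup N] [Module S N] [Module R N] [IsScalarTower R S N]
    (ι : Type u) (F : ι → Submodule R N) (hF : DirectSum.IsInternal F) (hfin : ∀ i, Module.Finite R (F i))
    (M : Type u) [AddCommGroup M] [Module R M]
    (q : Ideal S) [q.IsPrime] (hq : q ∈ FlatCA.ass S (N ⊗[R] M)) :
    q ⊔ (maximalIdeal R).map (algebraMap R S) ≠ ⊤ := by
  classical
  intro htop
  obtain ⟨hqp, z, hz⟩ := hq
  obtain ⟨s, hs, j, hj, hsj⟩ := Submodule.mem_sup.1 (htop.ge (Submodule.mem_top (x := (1 : S))))
  have hsz : s • z = 0 := by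
    rw [hz] at hs
    exact Submodule.mem_annihilator_span_singleton _ _ |>.1 hs
  have hjz : j • z = z := by
    conv_rhs => rw [← one_smul S z, ← hsj, add_smul, hsz, zero_add]
  let φ : N →ₗ[R] N := (LinearMap.lsmul S N j).restrictScalars R
  have hφ : ∀ n, φ n ∈ maximalIdeal R • (⊤ : Submodule R N) := by
    show ∀ n : N, j • n ∈ maximalIdeal R • (⊤ : Submodule R N)
    refine Submodule.span_induction (p := fun j _ => ∀ n : N, j • n ∈ maximalIdeal R • (⊤ : Submodule R N))
      ?_ ?_ ?_ ?_ hj
    · rintro _ ⟨r, hr, rfl⟩ n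
      rw [algebraMap_smul]
      exact Submodule.smul_mem_smul hr Submodule.mem_top
    · intro n
      rw [zero_smul]
      exact zero_mem _
    · intro a b _ _ ha hb n
      rw [add_smul]
      exact add_mem (ha n) (hb n)
    · intro a b _ hb n
      rw [smul_eq_mul, mul_comm, mul_smul]
      exact hb _
  have hφz : (φ.rTensor M) z = j • z := by
    clear * -
    induction z using TensorProduct.induction_on with
    | zero => simp
    | tmul n m => rw [LinearMap.rTensor_tmul, TensorProduct.smul_tmul']; simp only [φ, LinearMap.restrictScalars_apply, LinearMap.lsmul_apply]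
    | add a b ha hb => rw [map_add, smul_add, ha, hb]
  obtain ⟨I, hI⟩ : ∃ I : Finset ι, z ∈ LinearMap.range ((⨆ i ∈ I, F i).subtype.rTensor M) := by
    clear * - hF
    induction z using TensorProduct.induction_on with
    | zero => exact ⟨∅, zero_mem _⟩
    | tmul n m =>
      obtain ⟨I, hI⟩ := Submodule.exists_finset_of_mem_iSup F (hF.submodule_iSup_eq_top.ge (Submodule.mem_top (x := n)))
      exact ⟨I, ⟨⟨n, hI⟩ ⊗ₜ m, by rw [LinearMap.rTensor_tmul, Submodule.subtype_apply]⟩⟩
    | add a b ha hb =>
      obtain ⟨I, hI⟩ := ha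
      obtain ⟨J, hJ⟩ := hb
      have hm : ∀ K L : Finset ι, K ⊆ L → ∀ w ∈ LinearMap.range ((⨆ i ∈ K, F i).subtype.rTensor M),
          w ∈ LinearMap.range ((⨆ i ∈ L, F i).subtype.rTensor M) := by
        rintro K L hKL _ ⟨v, rfl⟩
        refine ⟨(Submodule.inclusion (biSup_mono fun i hi => hKL hi)).rTensor M v, ?_⟩
        rw [← LinearMap.rTensor_comp_apply, Submodule.subtype_comp_inclusion]
      exact ⟨I ∪ J, add_mem (hm _ _ Finset.subset_union_left _ hI) (hm _ _ Finset.subset_union_right _ hJ)⟩
  set G := ⨆ i ∈ I, F i with hG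
  haveI : Module.Finite R G := by
    rw [Module.Finite.iff_fg]
    exact Submodule.fg_biSup I _ fun i _ => Module.Finite.iff_fg.1 (hfin i)
  have hc : IsCompl G (⨆ i ∈ (↑I : Set ι)ᶜ, F i) := by
    refine ⟨hF.submodule_iSupIndep.disjoint_biSup_biSup disjoint_compl_right, codisjoint_iff.2 ?_⟩
    rw [eq_top_iff, ← hF.submodule_iSup_eq_top]
    refine iSup_le fun i => ?_
    by_cases hi : i ∈ I
    · exact le_sup_of_le_left (le_biSup F hi)
    · exact le_sup_of_le_right (le_biSup F (show i ∈ (↑I : Set ι)ᶜ from hi))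
  let π := G.linearProjOfIsCompl _ hc
  have hπ : π ∘ₗ G.subtype = LinearMap.id :=
    LinearMap.ext fun g => Submodule.linearProjOfIsCompl_apply_left hc g
  let ψ : G →ₗ[R] G := π ∘ₗ φ ∘ₗ G.subtype
  have hψ : ∀ g, ψ g ∈ maximalIdeal R • (⊤ : Submodule R G) := fun g => by
    have h1 : π (φ g) ∈ (maximalIdeal R • (⊤ : Submodule R N)).map π := Submodule.mem_map_of_mem (hφ g)
    rw [Submodule.map_smul''] at h1
    exact Submodule.smul_mono le_rfl le_top h1
  have hsurj : Function.Surjective (LinearMap.id - ψ : G →ₗ[R] G) := by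
    rw [← LinearMap.range_eq_top, eq_top_iff]
    refine Submodule.le_of_le_smul_of_le_jacobson_bot Module.Finite.fg_top (maximalIdeal_le_jacobson _) ?_
    intro g _
    exact Submodule.mem_sup.2 ⟨_, LinearMap.mem_range_self _ g, ψ g, hψ g, sub_add_cancel g (ψ g)⟩
  obtain ⟨w, hw⟩ := hI
  have hw0 : (LinearMap.id - ψ : G →ₗ[R] G).rTensor M w = 0 := by
    rw [LinearMap.rTensor_sub, LinearMap.sub_apply, LinearMap.rTensor_id, LinearMap.id_apply, sub_eq_zero]
    have h1 : (ψ.rTensor M) w = (π.rTensor M) ((φ.rTensor M) z) := by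
      rw [← hw, ← LinearMap.rTensor_comp_apply, ← LinearMap.rTensor_comp_apply, LinearMap.comp_assoc]
    rw [h1, hφz, hjz, ← hw, ← LinearMap.rTensor_comp_apply, hπ, LinearMap.rTensor_id, LinearMap.id_apply]
  have hbij : Function.Bijective (LinearMap.id - ψ : G →ₗ[R] G) :=
    OrzechProperty.bijective_of_surjective_endomorphism _ hsurj
  have hwz : w = 0 := by
    have hi : Function.Injective ((LinearMap.id - ψ : G →ₗ[R] G).rTensor M) := by
      refine Function.LeftInverse.injective (g := (LinearEquiv.ofBijective _ hbij).symm.toLinearMap.rTensor M) fun v => ?_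
      rw [← LinearMap.rTensor_comp_apply]
      have hid : (LinearEquiv.ofBijective _ hbij).symm.toLinearMap ∘ₗ (LinearMap.id - ψ : G →ₗ[R] G) = LinearMap.id :=
        LinearMap.ext fun g => (LinearEquiv.ofBijective _ hbij).symm_apply_apply g
      rw [hid, LinearMap.rTensor_id, LinearMap.id_apply]
    exact hi (hw0.trans (map_zero _).symm)
  refine hqp.ne_top ?_
  rw [hz, ← hw, hwz, map_zero]
  simp [Submodule.annihilator_bot]

end Groth.Agent.S1213
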