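import Groth.Statements.S1212
import Groth.Agent.S0582
import Groth.Agent.S1213

set_option autoImplicit false
universe u
open FlatMor

namespace Groth.Agent.S1212

open TensorProduct IsLocalRing in
/-- Let R be a local ring, S an R-algebra and N an S-module which is projective as an R-module, such
that the closed fibre ring of S is Noetherian and the closed fibre module of N is finite over it.
Then every prime q of S, over p in R, which is an associated prime (the annihilator of an element)
of the S-module N ⊗_R κ(p) satisfies q + 𝔪_R S ≠ S. -/
theorem result {R S : Type u} [CommRing R] [IsLocalRing R] [CommRing S] [Algebra R S]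
    (N : Type u) [AddCommGroup N] [Module S N] [Module R N] [IsScalarTower R S N] [Module.Projective R N]
    [IsNoetherianRing ((maximalIdeal R).Fiber S)]
    [Module.Finite ((maximalIdeal R).Fiber S) (FlatCA.fiberMod (maximalIdeal R) S N)]
    (p : Ideal R) [p.IsPrime] (q : Ideal S) [q.IsPrime] [q.LiesOver p]
    (hq : q ∈ FlatCA.ass S (N ⊗[R] p.ResidueField)) :
    q ⊔ (maximalIdeal R).map (algebraMap R S) ≠ ⊤ := by
  classical
  haveI : Module.Free R N := S0582.result R N
  let b := Module.Free.chooseBasis R N
  exact S1213.result N (Module.Free.ChooseBasisIndex R N) (fun i => Submodule.span R {b i})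
    (DirectSum.isInternal_submodule_of_iSupIndep_of_iSup_eq_top b.linearIndependent.iSupIndep_span_singleton
      (by rw [← Submodule.span_range_eq_iSup]; exact b.span_eq))
    (fun i => Module.Finite.span_of_finite R (Set.finite_singleton _)) p.ResidueField q hq

end Groth.Agent.S1212
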