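import Groth.Statements.S8999
import Groth.Agent.ZClosLib.PurityBC

set_option autoImplicit false
set_option linter.style.haveILetI false
universe u
open FlatMor

namespace Groth.Agent.S8999

open TensorProduct Groth.Agent.ZClosLib

attribute [local instance] Algebra.TensorProduct.rightAlgebra

section

variable {R S : Type u} [CommRing R] [CommRing S] [Algebra R S] (p : Ideal R) [p.IsPrime]
  (M : Type u) [AddCommGroup M] [Module S M] [Module R M] [IsScalarTower R S M]

/-- Associated primes of the fibre module, read on the module itself. -/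
theorem mem_ass_iff (P : Ideal S) : P ∈ FlatCA.ass S (FlatCA.fiberMod p S M) ↔
    P.IsPrime ∧ ∃ n : M, ∀ b : S, b ∈ P ↔ ∃ r ∉ p, r • (b • n) ∈ p • (⊤ : Submodule R M) := by
  constructor
  · rintro ⟨hP, x, hx⟩
    have hloc := AssFiber.isLocalizedModule_quotToFiber p (S := S) M
    obtain ⟨⟨nb, s⟩, hs⟩ := IsLocalizedModule.surj (Algebra.algebraMapSubmonoid S p.primeCompl)
      (AssFiber.quotToFiber p (S := S) M) x
    obtain ⟨n, rfl⟩ := Submodule.Quotient.mk_surjective _ nb
    obtain ⟨r₀, hr₀, hr₀s⟩ := s.2
    replace hs : algebraMap R S r₀ • x = FlatCA.toFiberMod p (S := S) M n := by rw [hr₀s]; exact hs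
    refine ⟨hP, n, fun b => ?_⟩
    rw [← PurityBC.toFiberMod_eq_zero_iff (S := S) p M (b • n), map_smul, ← hs, hx, Submodule.mem_annihilator_span_singleton, smul_comm]
    constructor
    · intro h; rw [h, smul_zero]
    · intro h
      rw [← AssFiber.algebraMap_smul_fiberMod] at h
      exact (PurityBC.isUnit_algebraMap_fiber p hr₀).smul_left_cancel.1 (h.trans (smul_zero _).symm)
  · rintro ⟨hP, n, hn⟩
    refine ⟨hP, FlatCA.toFiberMod p (S := S) M n, ?_⟩
    ext b
    rw [hn, Submodule.mem_annihilator_span_singleton, ← map_smul, PurityBC.toFiberMod_eq_zero_iff (S := S) p M (b • n)]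

theorem exists_ass_of_assoc [Algebra.FiniteType R S] {P : Ideal S}
    (h : FlatCA.fiberIdeal p P ∈ associatedPrimes (p.Fiber S) (FlatCA.fiberMod p S M)) :
    ∃ Q, P ≤ Q ∧ Q ∈ FlatCA.ass S (FlatCA.fiberMod p S M) := by
  haveI : IsNoetherianRing (p.Fiber S) := Algebra.FiniteType.isNoetherianRing p.ResidueField _
  refine ⟨(FlatCA.fiberIdeal p P).comap
    (Algebra.TensorProduct.includeRight (R := R) (A := p.ResidueField) (B := S)).toRingHom, Ideal.le_comap_map, ?_⟩
  rw [AssFiber.ass_fiberMod_eq]
  exact ⟨_, FibAssIdeal.mem_ass_of_mem_associatedPrimes h, rfl⟩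

theorem assoc_of_ass {Q : Ideal S} (h : Q ∈ FlatCA.ass S (FlatCA.fiberMod p S M)) :
    Q.LiesOver p ∧ FlatCA.fiberIdeal p Q ∈ associatedPrimes (p.Fiber S) (FlatCA.fiberMod p S M) := by
  rw [AssFiber.ass_fiberMod_eq] at h
  obtain ⟨Qh, hQh, rfl⟩ := h
  haveI := hQh.1
  refine ⟨PurityBC.liesOver_comap p Qh, ?_⟩
  rw [← FibAssIdeal.eq_fiberIdeal p rfl]
  exact FibAssIdeal.mem_associatedPrimes_of_mem_ass hQh

end

/-- The comparison of impurities on two corresponding base changes. -/
theorem core {A B C : Type u} [CommRing A] [CommRing B] [CommRing C] [Algebra A B] [Algebra B C] [Algebra A C]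
    [IsScalarTower A B C] [Algebra.FiniteType A B] (hBC : Function.Surjective (algebraMap B C))
    {N : Type u} [AddCommGroup N] [Module C N] [Module B N] [IsScalarTower B C N] {p : Ideal A} [p.IsPrime]
    {A' B' N' : Type u} [CommRing A'] [CommRing B'] [Algebra A A'] [Algebra B B'] [Algebra A' B'] [Algebra A B']
    [IsScalarTower A B B'] [IsScalarTower A A' B'] [AddCommGroup N'] [Module B' N'] [Module B N']
    [IsScalarTower B B' N'] [Module A' N'] [IsScalarTower A' B' N'] [hB : Algebra.IsPushout A B A' B']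
    {f : N →ₗ[B] N'} (hf : IsBaseChange B' f)
    {C' N'' : Type u} [CommRing C'] [Algebra C C'] [Algebra A' C'] [Algebra A C']
    [IsScalarTower A C C'] [IsScalarTower A A' C'] [AddCommGroup N''] [Module C' N''] [Module C N'']
    [IsScalarTower C C' N''] [Module A' N''] [IsScalarTower A' C' N''] [hC : Algebra.IsPushout A C A' C']
    {f' : N →ₗ[C] N''} (hf' : IsBaseChange C' f') (t' t : Ideal A') [t'.IsPrime] [t.IsPrime] :
    (∃ (P : Ideal B') (_ : P.IsPrime), FlatCA.IsImpurity A B N p A' B' N' f t' t P) ↔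
      ∃ (P : Ideal C') (_ : P.IsPrime), FlatCA.IsImpurity A C N p A' C' N'' f' t' t P := by
  let ψ : B' →ₐ[A] C' := Algebra.pushoutDesc (R := A) (S := B) (R' := A') B'
    ((IsScalarTower.toAlgHom A C C').comp (IsScalarTower.toAlgHom A B C))
    (IsScalarTower.toAlgHom A A' C') fun _ _ => mul_comm _ _
  letI : Algebra B' C' := ψ.toRingHom.toAlgebra
  letI : Algebra B C' := ((algebraMap C C').comp (algebraMap B C)).toAlgebra
  haveI : IsScalarTower B C C' := IsScalarTower.of_algebraMap_eq fun _ => rfl
  haveI : IsScalarTower B B' C' := IsScalarTower.of_algebraMap_eq fun x =>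
    (Algebra.pushoutDesc_left B' ((IsScalarTower.toAlgHom A C C').comp (IsScalarTower.toAlgHom A B C))
      (IsScalarTower.toAlgHom A A' C') (fun _ _ => mul_comm _ _) x).symm
  haveI : IsScalarTower A' B' C' := IsScalarTower.of_algebraMap_eq fun x =>
    (Algebra.pushoutDesc_right B' ((IsScalarTower.toAlgHom A C C').comp (IsScalarTower.toAlgHom A B C))
      (IsScalarTower.toAlgHom A A' C') (fun _ _ => mul_comm _ _) x).symm
  have hsurj : Function.Surjective (algebraMap B' C') := fun z => by
    refine hC.symm.out.inductionOn z (fun z => ∃ y, algebraMap B' C' y = z) ⟨0, map_zero _⟩ (fun c => ?_) (fun a z hz => ?_) (fun z w hz hw => ?_)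
    · obtain ⟨b, rfl⟩ := hBC c
      exact ⟨algebraMap B B' b, by rw [← IsScalarTower.algebraMap_apply B B' C']; rfl⟩
    · obtain ⟨y, rfl⟩ := hz
      exact ⟨algebraMap A' B' a * y, by rw [map_mul, ← IsScalarTower.algebraMap_apply A' B' C', Algebra.smul_def]⟩
    · obtain ⟨y, rfl⟩ := hz
      obtain ⟨w', rfl⟩ := hw
      exact ⟨y + w', map_add _ _ _⟩
  letI : Module B' N'' := Module.compHom N'' (algebraMap B' C')
  haveI : IsScalarTower B' C' N'' := IsScalarTower.of_algebraMap_smul fun _ _ => rfl
  haveI : IsScalarTower A' B' N'' := IsScalarTower.of_algebraMap_smul fun a z => by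
    show algebraMap B' C' (algebraMap A' B' a) • z = a • z
    rw [← IsScalarTower.algebraMap_apply, algebraMap_smul]
  letI : Module B N'' := Module.compHom N'' (algebraMap B C)
  haveI : IsScalarTower B C N'' := IsScalarTower.of_algebraMap_smul fun _ _ => rfl
  haveI : IsScalarTower B B' N'' := IsScalarTower.of_algebraMap_smul fun b z => by
    show algebraMap B' C' (algebraMap B B' b) • z = algebraMap B C b • z
    rw [← IsScalarTower.algebraMap_apply B B' C', IsScalarTower.algebraMap_apply B C C', algebraMap_smul]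
  letI : Module A N := Module.compHom N (algebraMap A B)
  haveI : IsScalarTower A B N := IsScalarTower.of_algebraMap_smul fun _ _ => rfl
  haveI : IsScalarTower A C N := IsScalarTower.of_algebraMap_smul fun a n => by
    show algebraMap A C a • n = algebraMap A B a • n
    rw [IsScalarTower.algebraMap_apply A B C, algebraMap_smul]
  letI : Module A N' := Module.compHom N' (algebraMap A A')
  haveI : IsScalarTower A A' N' := IsScalarTower.of_algebraMap_smul fun _ _ => rfl
  haveI : IsScalarTower A B N' := IsScalarTower.of_algebraMap_smul fun a z => by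
    show algebraMap A B a • z = algebraMap A A' a • z
    rw [← algebraMap_smul B' (algebraMap A B a) z, ← IsScalarTower.algebraMap_apply,
      IsScalarTower.algebraMap_apply A A' B', algebraMap_smul]
  letI : Module A N'' := Module.compHom N'' (algebraMap A A')
  haveI : IsScalarTower A A' N'' := IsScalarTower.of_algebraMap_smul fun _ _ => rfl
  haveI : IsScalarTower A C N'' := IsScalarTower.of_algebraMap_smul fun a z => by
    show algebraMap A C a • z = algebraMap A A' a • z
    rw [← algebraMap_smul C' (algebraMap A C a) z, ← IsScalarTower.algebraMap_apply,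
      IsScalarTower.algebraMap_apply A A' C', algebraMap_smul]
  haveI : IsScalarTower A B N'' := IsScalarTower.of_algebraMap_smul fun a z => by
    show algebraMap B C (algebraMap A B a) • z = a • z
    rw [← IsScalarTower.algebraMap_apply, algebraMap_smul]
  haveI : Algebra.IsPushout A A' B B' := hB.symm
  haveI : Algebra.IsPushout A A' C C' := hC.symm
  have hF := Groth.Agent.QCart13.isBaseChange_of_pushout (A := A) (B := B) (C := A') (D := B') f hf
  have hF' := Groth.Agent.QCart13.isBaseChange_of_pushout (A := A) (B := C) (C := A') (D := C') f' hf'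
  let g : N' →ₗ[B'] N'' := hf.lift (f'.restrictScalars B)
  have hgb : Function.Bijective g := by
    let e := hF.equiv.symm.trans hF'.equiv
    suffices ∀ z, g z = e z by
      rw [show ⇑g = e from funext this]
      exact e.bijective
    intro z
    refine hF.inductionOn z _ ?_ ?_ ?_ ?_
    · rw [map_zero, map_zero]
    · intro m
      show g (f m) = e (f m)
      rw [hf.lift_eq]
      show f' m = hF'.equiv (hF.equiv.symm ((f.restrictScalars A) m))
      rw [hF.equiv_symm_apply, hF'.equiv_tmul, one_smul]
      rfl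
    · intro a y hy
      rw [g.map_smul_of_tower, map_smul, hy]
    · intro y w hy hw
      rw [map_add, map_add, hy, hw]
  have htop : ∀ z : N', z ∈ t' • (⊤ : Submodule A' N') ↔ g z ∈ t' • (⊤ : Submodule A' N'') := by
    intro z
    have : t' • (⊤ : Submodule A' N'') = (t' • (⊤ : Submodule A' N')).map (g.restrictScalars A') := by
      rw [Submodule.map_smul'', Submodule.map_top, LinearMap.range_eq_top.2 (show Function.Surjective (g.restrictScalars A') from hgb.2)]
    rw [this]
    exact (Function.Injective.mem_set_image hgb.1).symm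
  haveI : Algebra.FiniteType A C :=
    (inferInstance : Algebra.FiniteType A B).of_surjective (IsScalarTower.toAlgHom A B C) hBC
  haveI : Algebra.FiniteType A' B' := PurityBC.finiteType_of_isPushout A B A' B'
  haveI : Algebra.FiniteType A' C' := PurityBC.finiteType_of_isPushout A C A' C'
  constructor
  · rintro ⟨P, hP, -, -, htt, htp, -, hass, hno⟩
    obtain ⟨Q, hPQ, hQ⟩ := exists_ass_of_assoc t' N' hass
    obtain ⟨hQp, n, hn⟩ := (mem_ass_iff t' N' Q).1 hQ
    have hker : RingHom.ker (algebraMap B' C') ≤ Q := fun b hb => by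
      refine (hn b).2 ⟨1, fun h => ‹t'.IsPrime›.ne_top ((Ideal.eq_top_iff_one _).2 h), ?_⟩
      rw [show b • n = 0 from hgb.1 (by rw [map_smul, map_zero, ← algebraMap_smul C' b (g n),
        RingHom.mem_ker.1 hb, zero_smul]), smul_zero]
      exact zero_mem _
    haveI : (Q.map (algebraMap B' C')).IsPrime := Ideal.map_isPrime_of_surjective hsurj hker
    have hQ' : Q.map (algebraMap B' C') ∈ FlatCA.ass C' (FlatCA.fiberMod t' C' N'') := by
      refine (mem_ass_iff t' N'' _).2 ⟨inferInstance, g n, fun c => ?_⟩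
      obtain ⟨b, rfl⟩ := hsurj c
      rw [← Ideal.mem_comap, Ideal.comap_map_of_surjective _ hsurj, ← RingHom.ker_eq_comap_bot, sup_eq_left.2 hker, hn]
      simp only [algebraMap_smul, ← g.map_smul_of_tower, ← htop]
    obtain ⟨h1, h2⟩ := assoc_of_ass t' N'' hQ'
    refine ⟨_, inferInstance, hC, hf', htt, htp, h1, h2, fun P'' _ hle hP'' => ?_⟩
    refine hno (P''.comap (algebraMap B' C')) (hPQ.trans (Ideal.map_le_iff_le_comap.1 hle)) ⟨?_⟩
    rw [Ideal.under_def, Ideal.comap_comap, ← IsScalarTower.algebraMap_eq]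
    exact hP''.over
  · rintro ⟨P, hP, -, -, htt, htp, -, hass, hno⟩
    obtain ⟨Q, hPQ, hQ⟩ := exists_ass_of_assoc t' N'' hass
    obtain ⟨hQp, n'', hn⟩ := (mem_ass_iff t' N'' Q).1 hQ
    obtain ⟨n, rfl⟩ := hgb.2 n''
    have hQ' : Q.comap (algebraMap B' C') ∈ FlatCA.ass B' (FlatCA.fiberMod t' B' N') := by
      refine (mem_ass_iff t' N' _).2 ⟨inferInstance, n, fun b => ?_⟩
      rw [Ideal.mem_comap, hn]
      simp only [algebraMap_smul, htop, g.map_smul_of_tower]
    obtain ⟨h1, h2⟩ := assoc_of_ass t' N' hQ'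
    refine ⟨_, inferInstance, hB, hf, htt, htp, h1, h2, fun P'' _ hle hP'' => ?_⟩
    have hker : RingHom.ker (algebraMap B' C') ≤ P'' := fun b hb => hle (by
      rw [Ideal.mem_comap, RingHom.mem_ker.1 hb]; exact zero_mem _)
    haveI : (P''.map (algebraMap B' C')).IsPrime := Ideal.map_isPrime_of_surjective hsurj hker
    refine hno (P''.map (algebraMap B' C')) ?_ ⟨?_⟩
    · rw [← Ideal.map_comap_of_surjective _ hsurj P]
      exact Ideal.map_mono ((Ideal.comap_mono hPQ).trans hle)
    · rw [Ideal.under_def, IsScalarTower.algebraMap_eq A' B' C', ← Ideal.comap_comap,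
        Ideal.comap_map_of_surjective _ hsurj, ← RingHom.ker_eq_comap_bot, sup_eq_left.2 hker]
      exact hP''.over

section

variable {A B C : Type u} [CommRing A] [CommRing B] [CommRing C] [Algebra A B] [Algebra B C] [Algebra A C]
  [IsScalarTower A B C] [Algebra.FiniteType A B] (hBC : Function.Surjective (algebraMap B C))
  {N : Type u} [AddCommGroup N] [Module C N] [Module B N] [IsScalarTower B C N] {p : Ideal A} [p.IsPrime]

include hBC in
theorem to_quot {A' B' N' : Type u} [CommRing A'] [CommRing B'] [Algebra A A'] [Algebra B B'] [Algebra A' B'] [Algebra A B']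
    [IsScalarTower A B B'] [IsScalarTower A A' B'] [AddCommGroup N'] [Module B' N'] [Module B N']
    [IsScalarTower B B' N'] [Module A' N'] [IsScalarTower A' B' N'] {f : N →ₗ[B] N'} {t' t : Ideal A'}
    [t'.IsPrime] [t.IsPrime] {P : Ideal B'} [P.IsPrime] (h : FlatCA.IsImpurity A B N p A' B' N' f t' t P) :
    ∃ (C' N'' : Type u) (_ : CommRing C') (_ : Algebra C C') (_ : Algebra A' C') (_ : Algebra A C')
      (_ : IsScalarTower A C C') (_ : IsScalarTower A A' C') (_ : AddCommGroup N'') (_ : Module C' N'')
      (_ : Module C N'') (_ : IsScalarTower C C' N'') (_ : Module A' N'') (_ : IsScalarTower A' C' N'')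
      (f' : N →ₗ[C] N'') (P' : Ideal C') (_ : P'.IsPrime), FlatCA.IsImpurity A C N p A' C' N'' f' t' t P' := by
  let C' := A' ⊗[A] C
  let N'' := C' ⊗[C] N
  haveI := h.1
  haveI : Algebra.IsPushout A C A' C' := Algebra.IsPushout.symm inferInstance
  obtain ⟨P', hP', h'⟩ := (core hBC h.2.1 (C' := C') (TensorProduct.isBaseChange C N C') t' t).1 ⟨P, ‹_›, h⟩
  exact ⟨C', N'', inferInstance, inferInstance, inferInstance, inferInstance, inferInstance, inferInstance,
    inferInstance, inferInstance, inferInstance, inferInstance, inferInstance, inferInstance, _, P', hP', h'⟩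

include hBC in
theorem of_quot {A' C' N'' : Type u} [CommRing A'] [CommRing C'] [Algebra A A'] [Algebra C C'] [Algebra A' C'] [Algebra A C']
    [IsScalarTower A C C'] [IsScalarTower A A' C'] [AddCommGroup N''] [Module C' N''] [Module C N'']
    [IsScalarTower C C' N''] [Module A' N''] [IsScalarTower A' C' N''] {f' : N →ₗ[C] N''} {t' t : Ideal A'}
    [t'.IsPrime] [t.IsPrime] {P : Ideal C'} [P.IsPrime] (h : FlatCA.IsImpurity A C N p A' C' N'' f' t' t P) :
    ∃ (B' N' : Type u) (_ : CommRing B') (_ : Algebra B B') (_ : Algebra A' B') (_ : Algebra A B')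
      (_ : IsScalarTower A B B') (_ : IsScalarTower A A' B') (_ : AddCommGroup N') (_ : Module B' N')
      (_ : Module B N') (_ : IsScalarTower B B' N') (_ : Module A' N') (_ : IsScalarTower A' B' N')
      (f : N →ₗ[B] N') (P' : Ideal B') (_ : P'.IsPrime), FlatCA.IsImpurity A B N p A' B' N' f t' t P' := by
  let B' := A' ⊗[A] B
  let N' := B' ⊗[B] N
  haveI := h.1
  haveI : Algebra.IsPushout A B A' B' := Algebra.IsPushout.symm inferInstance
  obtain ⟨P', hP', h'⟩ := (core hBC (TensorProduct.isBaseChange B N B') (C' := C') h.2.1 t' t).2 ⟨P, ‹_›, h⟩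
  exact ⟨B', N', inferInstance, inferInstance, inferInstance, inferInstance, inferInstance, inferInstance,
    inferInstance, inferInstance, inferInstance, inferInstance, inferInstance, inferInstance, _, P', hP', h'⟩

end

/-- For affine finite type schemes over Spec A: purity and universal purity along a fibre of a finite
module are unchanged when the module is pushed forward along a closed immersion Spec C → Spec B (a
surjective algebra map B → C). -/
theorem result {A B C : Type u} [CommRing A] [CommRing B] [CommRing C] [Algebra A B] [Algebra B C] [Algebra A C] [IsScalarTower A B C] [Algebra.FiniteType A B] (hBC : Function.Surjective (algebraMap B C)) (N : Type u) [AddCommGroup N] [Module C N] [Module B N] [IsScalarTower B C N] [Module.Finite C N] (p : Ideal A) [p.IsPrime] : (FlatCA.IsPureAlong A C N p ↔ FlatCA.IsPureAlong A B N p) ∧ (FlatCA.IsUnivPureAlong A C N p ↔ FlatCA.IsUnivPureAlong A B N p) := by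
  refine ⟨⟨fun h => ?_, fun h => ?_⟩, ⟨fun h => ?_, fun h => ?_⟩⟩
  · intro A' B' N' _ _ _ _ _ _ _ _ _ _ _ _ _ _ f t' t _ _ P _ het himp
    obtain ⟨C', N'', _, _, _, _, _, _, _, _, _, _, _, _, f', P', _, h'⟩ := to_quot hBC himp
    exact h A' C' N'' f' t' t P' het h'
  · intro A' B' N' _ _ _ _ _ _ _ _ _ _ _ _ _ _ f t' t _ _ P _ het himp
    obtain ⟨C', N'', _, _, _, _, _, _, _, _, _, _, _, _, f', P', _, h'⟩ := of_quot hBC himp
    exact h A' C' N'' f' t' t P' het h'
  · intro A' B' N' _ _ _ _ _ _ _ _ _ _ _ _ _ _ f t' t _ _ P _ himp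
    obtain ⟨C', N'', _, _, _, _, _, _, _, _, _, _, _, _, f', P', _, h'⟩ := to_quot hBC himp
    exact h A' C' N'' f' t' t P' h'
  · intro A' B' N' _ _ _ _ _ _ _ _ _ _ _ _ _ _ f t' t _ _ P _ himp
    obtain ⟨C', N'', _, _, _, _, _, _, _, _, _, _, _, _, f', P', _, h'⟩ := of_quot hBC himp
    exact h A' C' N'' f' t' t P' h'

end Groth.Agent.S8999
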