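import Groth.Statements.S1219
import Groth.Agent.RG.PureCrit
import Groth.Agent.MorLib.ProjLocal
-- import your own Groth.Agent.* helpers here

set_option autoImplicit false
universe u
open FlatMor

namespace Groth.Agent.S1219

set_option backward.isDefEq.respectTransparency false
set_option linter.style.haveILetI false

open TensorProduct

/-- For a finitely presented A-algebra B and a finitely presented B-module N flat over A, projectivity
of N over A is equivalent to purity of N, viewed on Spec B, over Spec A. -/
theorem result {A B : Type u} [CommRing A] [CommRing B] [Algebra A B] [Algebra.FinitePresentation A B]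
    (N : Type u) [AddCommGroup N] [Module B N] [Module A N] [IsScalarTower A B N] [Module.FinitePresentation B N] [Module.Flat A N] :
    Module.Projective A N ↔ FlatCA.IsPure A B N := by
  constructor
  · intro hP p _
    haveI := hP
    exact RG.isPureAlong_of_isUnivPureAlong (RG.isUnivPureAlong_of_projective N p (Localization.AtPrime p))
  · intro hpure
    choose g hg hproj using fun p : PrimeSpectrum A =>
      haveI := p.isPrime
      RG.exists_projective_away_of_pure N p.asIdeal (hpure p.asIdeal)
    refine MorLib.projective_of_span N (Set.range g) ?_ fun r => ?_
    · by_contra hne
      obtain ⟨m, hm, hle⟩ := Ideal.exists_le_maximal _ hne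
      exact hg ⟨m, hm.isPrime⟩ (hle (Ideal.subset_span ⟨_, rfl⟩))
    · obtain ⟨p, hp⟩ := r.2
      rw [← hp]
      exact hproj p

end Groth.Agent.S1219
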