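import Groth.Statements.S5385
import Groth.Agent.CMPointLib.Basic
-- import your own Groth.Agent.* helpers here

set_option autoImplicit false
universe u
open CategoryTheory CategoryTheory.Limits MonoidalCategory CartesianMonoidalCategory MonObj GrpObj AlgebraicGeometry
open SGA3

namespace Groth.Agent.S5385

/-- Let A be an artinian ring and X a nonempty scheme locally of finite type over A. Then X has a closed
point whose local ring is Cohen–Macaulay. -/
theorem result (A : Type u) [CommRing A] [IsArtinianRing A] (X : Scheme.{u})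
    (f : X ⟶ Spec (CommRingCat.of A)) [LocallyOfFiniteType f] [Nonempty X] :
    ∃ x : X, IsClosed ({x} : Set X) ∧ LocCoh.IsCohenMacaulayLocalRing (X.presheaf.stalk x) := by
  obtain ⟨x₀⟩ := ‹Nonempty X›
  haveI : JacobsonSpace X := LocallyOfFiniteType.jacobsonSpace f
  obtain ⟨U, hU, hxU, -⟩ := exists_isAffineOpen_mem_and_subset (X := X) (x := x₀) (U := ⊤) trivial
  let C := Γ(X, U)
  let φ : A →+* C := (f.appLE ⊤ U le_top).hom.comp (Scheme.ΓSpecIso (CommRingCat.of A)).inv.hom
  letI : Algebra A C := φ.toAlgebra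
  haveI : Algebra.FiniteType A C := (f.finiteType_appLE (isAffineOpen_top _) hU le_top).comp
    (RingHom.FiniteType.of_surjective _ (Scheme.ΓSpecIso (CommRingCat.of A)).commRingCatIsoToRingEquiv.symm.surjective)
  haveI : Nontrivial C := by
    haveI : Nonempty (U : Scheme) := ⟨⟨x₀, hxU⟩⟩
    exact inferInstance
  obtain ⟨m, hm, hCM⟩ := CMPointLib.exists_isMaximal_isCMLocal' A C
  have hmem : hU.fromSpec ⟨m, hm.isPrime⟩ ∈ U := by
    rw [← SetLike.mem_coe, ← hU.range_fromSpec]; exact ⟨_, rfl⟩
  refine ⟨hU.fromSpec ⟨m, hm.isPrime⟩, ?_, ?_⟩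
  · refine isClosed_singleton_of_isLocallyClosed_singleton ?_
    rw [← Set.image_singleton]
    exact (((PrimeSpectrum.isClosed_singleton_iff_isMaximal (R := C) _).mpr hm).isLocallyClosed).image
      hU.fromSpec.isOpenEmbedding.isInducing hU.fromSpec.isOpenEmbedding.isOpen_range.isLocallyClosed
  · letI := TopCat.Presheaf.algebra_section_stalk X.presheaf ⟨hU.fromSpec ⟨m, hm.isPrime⟩, hmem⟩
    haveI : IsLocalization m.primeCompl (X.presheaf.stalk (hU.fromSpec ⟨m, hm.isPrime⟩)) :=
      hU.isLocalization_stalk' ⟨m, hm.isPrime⟩ hmem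
    haveI : IsNoetherianRing C := Algebra.FiniteType.isNoetherianRing A C
    haveI : IsNoetherianRing (X.presheaf.stalk (hU.fromSpec ⟨m, hm.isPrime⟩)) :=
      IsLocalization.isNoetherianRing m.primeCompl _ inferInstance
    exact LC.Liaison.isCMLocal_of_ringEquiv (IsLocalization.algEquiv m.primeCompl (Localization.AtPrime m)
      (X.presheaf.stalk (hU.fromSpec ⟨m, hm.isPrime⟩))).toRingEquiv

end Groth.Agent.S5385
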