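import Groth.Statements.S3029
import Groth.Agent.S5385
import Groth.Agent.S9152
import Groth.Agent.S9768
import Groth.Agent.GrpSchLib.HomFlatLft
-- import your own Groth.Agent.* helpers here

set_option autoImplicit false
universe u
open CategoryTheory MonoidalCategory CartesianMonoidalCategory MonObj GrpObj AlgebraicGeometry TensorProduct
open SGA3

namespace Groth.Agent.S3029

open scoped CategoryTheory.Obj

/-- On a scheme locally of finite type over a field, the Cohen–Macaulay property at closed points
gives it at all points. -/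
theorem cm_of_closedPoints (k : Type u) [Field k] (X : Scheme.{u}) (f : X ⟶ Spec (CommRingCat.of k))
    [LocallyOfFiniteType f]
    (h : ∀ x : X, IsClosed ({x} : Set X) → LocCoh.IsCohenMacaulayLocalRing (X.presheaf.stalk x)) (x : X) :
    LocCoh.IsCohenMacaulayLocalRing (X.presheaf.stalk x) := by
  haveI : JacobsonSpace X := LocallyOfFiniteType.jacobsonSpace f
  haveI : IsLocallyNoetherian X := LocallyOfFiniteType.isLocallyNoetherian f
  obtain ⟨U, hU, hxU, -⟩ := exists_isAffineOpen_mem_and_subset (X := X) (x := x) (U := ⊤) trivial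
  let C := Γ(X, U)
  let φ : k →+* C := (f.appLE ⊤ U le_top).hom.comp (Scheme.ΓSpecIso (CommRingCat.of k)).inv.hom
  letI : Algebra k C := φ.toAlgebra
  haveI : Algebra.FiniteType k C := (f.finiteType_appLE (isAffineOpen_top _) hU le_top).comp
    (RingHom.FiniteType.of_surjective _ (Scheme.ΓSpecIso (CommRingCat.of k)).commRingCatIsoToRingEquiv.symm.surjective)
  haveI : IsNoetherianRing C := Algebra.FiniteType.isNoetherianRing k C
  have key : ∀ q : PrimeSpectrum C, LocCoh.IsCohenMacaulayLocalRing (Localization.AtPrime q.asIdeal) ↔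
      LocCoh.IsCohenMacaulayLocalRing (X.presheaf.stalk (hU.fromSpec q)) := by
    intro q
    have hq : hU.fromSpec q ∈ U := by
      rw [← SetLike.mem_coe, ← hU.range_fromSpec]; exact ⟨_, rfl⟩
    letI := TopCat.Presheaf.algebra_section_stalk X.presheaf ⟨hU.fromSpec q, hq⟩
    haveI : IsLocalization q.asIdeal.primeCompl (X.presheaf.stalk (hU.fromSpec q)) :=
      hU.isLocalization_stalk' q hq
    let e := (IsLocalization.algEquiv q.asIdeal.primeCompl (Localization.AtPrime q.asIdeal)
      (X.presheaf.stalk (hU.fromSpec q))).toRingEquiv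
    exact ⟨fun hh => by haveI := hh; exact LC.Liaison.isCMLocal_of_ringEquiv e,
      fun hh => by haveI := hh; exact LC.Liaison.isCMLocal_of_ringEquiv e.symm⟩
  let O := {q : PrimeSpectrum C | LocCoh.IsCohenMacaulayLocalRing (Localization.AtPrime q.asIdeal)}
  have hO : IsOpen O := S9152.result k C
  obtain ⟨q, rfl⟩ : x ∈ Set.range hU.fromSpec := by rw [hU.range_fromSpec]; exact hxU
  refine (key q).mp ?_
  by_contra hq
  obtain ⟨m, hm, hle⟩ := Ideal.exists_le_maximal q.asIdeal q.isPrime.ne_top
  refine hq (((PrimeSpectrum.le_iff_specializes q ⟨m, hm.isPrime⟩).mp hle).mem_open hO ((key ⟨m, hm.isPrime⟩).mpr (h _ ?_)))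
  refine isClosed_singleton_of_isLocallyClosed_singleton ?_
  rw [← Set.image_singleton]
  exact (((PrimeSpectrum.isClosed_singleton_iff_isMaximal (R := C) _).mpr hm).isLocallyClosed).image
    hU.fromSpec.isOpenEmbedding.isInducing hU.fromSpec.isOpenEmbedding.isOpen_range.isLocallyClosed

/-- Translations carry one closed point to any other over an algebraically closed field. -/
theorem cm_algClosed (K : Type u) [Field K] [IsAlgClosed K] (G : Over (Spec (CommRingCat.of K))) [GrpObj G]
    [LocallyOfFiniteType G.hom] (x : G.left) : LocCoh.IsCohenMacaulayLocalRing (G.left.presheaf.stalk x) := by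
  haveI : Nonempty G.left := ⟨η[G].left (IsLocalRing.closedPoint K)⟩
  obtain ⟨x₀, hx₀, hcm⟩ := S5385.result K G.left G.hom
  haveI : IsLocallyNoetherian G.left := LocallyOfFiniteType.isLocallyNoetherian G.hom
  have hpt : ∀ y : G.left, IsClosed {y} → ∃ a : 𝟙_ (Over (Spec (CommRingCat.of K))) ⟶ G,
      a.left (IsLocalRing.closedPoint K) = y := fun y hy => by
    let s := (pointEquivClosedPoint G.hom).symm ⟨y, hy⟩
    exact ⟨Over.homMk s.1 s.2, congrArg Subtype.val ((pointEquivClosedPoint G.hom).apply_symm_apply ⟨y, hy⟩)⟩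
  refine cm_of_closedPoints K G.left G.hom (fun y hy => ?_) x
  obtain ⟨a₀, ha₀⟩ := hpt x₀ hx₀
  obtain ⟨a, ha⟩ := hpt y hy
  let T := Agent.GrpSchLib.HomFlatLft.rTrans (a₀⁻¹ * a)
  haveI : IsIso T.hom.left := ((Over.forget _).mapIso T).isIso_hom
  have hT : T.hom.left x₀ = y := by
    have e : a₀ ≫ T.hom = a := by
      simp only [T, Agent.GrpSchLib.HomFlatLft.rTrans, MonObj.comp_mul, Category.comp_id, ← Category.assoc, comp_toUnit,
        toUnit_unique (toUnit (𝟙_ (Over (Spec (CommRingCat.of K))))) (𝟙 _), Category.id_comp]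
      exact mul_inv_cancel_left a₀ a
    rw [← ha₀, ← ha, ← e]
    rfl
  rw [← hT]
  haveI := hcm
  exact LC.Liaison.isCMLocal_of_ringEquiv
    (asIso (T.hom.left.stalkMap x₀)).commRingCatIsoToRingEquiv.symm

/-- Let G be a group scheme locally of finite type over a field k and x a point of G. Then the local
ring of G at x is Cohen–Macaulay. (This is the case of a base field; the published statement treats
flat groups over a local Artinian ring.) -/
theorem result (k : Type u) [Field k] (G : Over (Spec (CommRingCat.of k))) [GrpObj G]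
    [LocallyOfFiniteType G.hom] (x : G.left) :
    LocCoh.IsCohenMacaulayLocalRing (G.left.presheaf.stalk x) := by
  let K : Type u := AlgebraicClosure k
  let τ : Spec (CommRingCat.of K) ⟶ Spec (CommRingCat.of k) :=
    Spec.map (CommRingCat.ofHom (algebraMap k K))
  haveI : Flat τ := by
    rw [HasRingHomProperty.Spec_iff (P := @Flat)]
    exact RingHom.Flat.of_isField (Field.toIsField k) _
  haveI : Surjective τ := ⟨Function.surjective_to_subsingleton (α := Spec (CommRingCat.of K))
    (β := Spec (CommRingCat.of k)) _⟩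
  let GK := (Over.pullback τ).obj G
  haveI : LocallyOfFiniteType GK.hom := inferInstanceAs (LocallyOfFiniteType (Limits.pullback.snd G.hom τ))
  haveI : IsLocallyNoetherian GK.left := LocallyOfFiniteType.isLocallyNoetherian GK.hom
  haveI : IsLocallyNoetherian G.left := LocallyOfFiniteType.isLocallyNoetherian G.hom
  let p : GK.left ⟶ G.left := Limits.pullback.fst G.hom τ
  haveI : Flat p := inferInstanceAs (Flat (Limits.pullback.fst G.hom τ))
  haveI : Surjective p := inferInstanceAs (Surjective (Limits.pullback.fst G.hom τ))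
  obtain ⟨z, hz⟩ := p.surjective x
  rw [← hz]
  exact (S9768.result p (fun y => cm_algClosed K GK y) z).2

end Groth.Agent.S3029
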