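import Groth.Statements.S9149
import Mathlib
import Groth.Agent.Synt29.Comp

set_option backward.isDefEq.respectTransparency.types false

set_option autoImplicit false
universe u
open Synt

namespace Groth.Agent.S9149

theorem isSyntomic_self (A : Type u) [CommRing A] : Synt.IsSyntomic A A :=
  Synt29.isSyntomic_of_flat_of_isLCI (Synt29.isLCI_of_local (MvPolynomial.isEmptyAlgEquiv A (Fin 0)) (AlgHom.id A A)
    Function.surjective_id [] (by rw [Ideal.ofList_nil]; exact RingHom.ker_eq_bot_iff_eq_zero _ |>.2 fun x hx => hx)
    (fun q _ _ => RingTheory.Sequence.IsWeaklyRegular.nil _ _))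

open Polynomial in
theorem isSyntomic_adjoinRoot {A : Type u} [CommRing A] {P : A[X]} (hP : P.Monic) :
    Synt.IsSyntomic A (AdjoinRoot P) := by
  haveI := hP.free_adjoinRoot
  refine Synt29.isSyntomic_of_flat_of_isLCI (Synt29.isLCI_of_local (MvPolynomial.uniqueAlgEquiv A (Fin 1))
    (AdjoinRoot.mkₐ P) AdjoinRoot.mk_surjective [P] ?_ fun q _ _ => ?_)
  · rw [Ideal.ofList_singleton]
    exact Ideal.mk_ker
  · rw [List.map_singleton, RingTheory.Sequence.isWeaklyRegular_singleton_iff]
    haveI : Module.Flat A[X] (Localization.AtPrime q) := IsLocalization.flat _ q.primeCompl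
    have h := Module.Flat.isSMulRegular_of_nonZeroDivisors (R := A[X]) (M := Localization.AtPrime q)
      (r := P) (mem_nonZeroDivisors_iff_right.2 fun z hz => hP.mul_left_eq_zero_iff.1 hz)
    intro x y e
    exact h (by simpa [Algebra.smul_def] using e)

open Polynomial in
theorem splitting (n : ℕ) : ∀ (A : Type u) [CommRing A] (P : A[X]), P.Monic → P.natDegree ≤ n →
    ∃ (A' : Type u) (_ : CommRing A') (_ : Algebra A A'),
      Synt.IsSyntomic A A' ∧ Module.Finite A A' ∧ Module.Free A A' ∧ Module.FaithfullyFlat A A' ∧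
        ∃ s : Multiset A', P.map (algebraMap A A') = (s.map fun b => X - C b).prod := by
  induction n with
  | zero =>
    intro A _ P hP hn
    refine ⟨A, inferInstance, inferInstance, isSyntomic_self A, inferInstance, inferInstance, inferInstance, 0, ?_⟩
    rw [hP.natDegree_eq_zero.1 (Nat.le_zero.1 hn)]
    simp
  | succ n ih =>
    intro A _ P hP hn
    by_cases h0 : P.natDegree ≤ n
    · exact ih A P hP h0
    let A1 := AdjoinRoot P
    let pb := AdjoinRoot.powerBasis' hP
    haveI : Module.Finite A A1 := hP.finite_adjoinRoot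
    haveI : Module.Free A A1 := hP.free_adjoinRoot
    haveI : Nonempty (Fin pb.dim) := ⟨⟨0, by show 0 < P.natDegree; omega⟩⟩
    haveI : Module.FaithfullyFlat A A1 := Module.FaithfullyFlat.of_linearEquiv _ _ pb.basis.repr
    let P1 := P.map (algebraMap A A1)
    let a := AdjoinRoot.root P
    let Q := P1 /ₘ (X - C a)
    have hPQ : (X - C a) * Q = P1 := mul_divByMonic_eq_iff_isRoot.2 (AdjoinRoot.isRoot_root P)
    have hQ : Q.Monic := (monic_X_sub_C a).of_mul_monic_left (hPQ ▸ hP.map _)
    have hQn : Q.natDegree ≤ n := by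
      rcases subsingleton_or_nontrivial A1 with hs | hs
      · rw [Subsingleton.elim Q 0, natDegree_zero]; exact Nat.zero_le _
      · have h1 := (monic_X_sub_C a).natDegree_mul hQ
        rw [hPQ, natDegree_X_sub_C, hP.natDegree_map] at h1
        omega
    obtain ⟨A', _, _, hS, hfin, hfree, hff, s, hs⟩ := ih A1 Q hQ hQn
    letI : Algebra A A' := ((algebraMap A1 A').comp (algebraMap A A1)).toAlgebra
    haveI : IsScalarTower A A1 A' := .of_algebraMap_eq fun _ => rfl
    refine ⟨A', inferInstance, inferInstance, Synt29.isSyntomic_trans (isSyntomic_adjoinRoot hP) hS,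
      Module.Finite.trans A1 A', Module.Free.trans (S := A1), Module.FaithfullyFlat.trans A A1 A',
      algebraMap A1 A' a ::ₘ s, ?_⟩
    rw [Multiset.map_cons, Multiset.prod_cons, ← hs, IsScalarTower.algebraMap_eq A A1 A', ← Polynomial.map_map]
    show P1.map _ = _
    rw [← hPQ, Polynomial.map_mul, Polynomial.map_sub, map_X, map_C]

open Polynomial in
/-- A monic polynomial over a ring A splits into linear factors over some A-algebra A' that is syntomic,
finite free and faithfully flat over A. -/
theorem result (A : Type u) [CommRing A] (P : A[X]) (hP : P.Monic) :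
    ∃ (A' : Type u) (_ : CommRing A') (_ : Algebra A A'),
      Synt.IsSyntomic A A' ∧ Module.Finite A A' ∧ Module.Free A A' ∧ Module.FaithfullyFlat A A' ∧
        ∃ s : Multiset A', P.map (algebraMap A A') = (s.map fun b => X - C b).prod := by
  exact splitting P.natDegree A P hP le_rfl
end Groth.Agent.S9149
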