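import Groth.Statements.S10213
import Groth.Agent.AlgSpPts.OpenSub
-- import your own Groth.Agent.* helpers here

set_option autoImplicit false
universe u
open CategoryTheory CategoryTheory.Limits AlgebraicGeometry Topology TopologicalSpace
open AlgSp

namespace Groth.Agent.S10213

set_option backward.isDefEq.respectTransparency false
set_option backward.isDefEq.respectTransparency.types false

open AlgSp Groth.Agent.AlgSpLib Groth.Agent.AlgSpPts

/-- For an algebraic space X over a scheme S there is a surjective etale map h_U ⟶ X where U is a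
disjoint union of affine schemes, each of which maps into an affine open of S. -/
theorem result {S : Scheme.{u}} (X : AlgSp.Space S) :
    ∃ (ι : Type u) (V : ι → Scheme.{u}) (_ : ∀ i, IsAffine (V i)) (q : (∐ V) ⟶ S)
      (p : (AlgSp.yon S).obj (Over.mk q) ⟶ X.obj),
      AlgSp.RepWith @Etale p ∧ AlgSp.RepWith @Surjective p ∧
        ∀ i, ∃ W : S.Opens, IsAffineOpen W ∧ ∀ v : ↥(V i), (Sigma.ι V i ≫ q) v ∈ W :=  by
  obtain ⟨U, a, ha, ha'⟩ := X.property.atlas
  let ι := {O : U.left.affineOpens // ∃ W : S.Opens, IsAffineOpen W ∧ ∀ v : ↥U.left, v ∈ O.1 → U.hom v ∈ W}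
  let V : ι → Scheme := fun O => O.1.1
  let d : (∐ V) ⟶ U.left := Sigma.desc fun O => O.1.1.ι
  have hd : Etale d := IsZariskiLocalAtSource.sigmaDesc (fun O => inferInstanceAs (Etale O.1.1.ι))
  have hd' : Surjective d := Surjective.sigmaDesc_of_union_range_eq_univ (by
    refine Set.eq_univ_of_forall fun u => ?_
    obtain ⟨W, hW, huW, -⟩ := exists_isAffineOpen_mem_and_subset (U := (⊤ : S.Opens)) (x := U.hom u) trivial
    obtain ⟨O, hO, hu, hOW⟩ := exists_isAffineOpen_mem_and_subset (U := U.hom ⁻¹ᵁ W) (x := u) huW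
    refine Set.mem_iUnion.2 ⟨⟨⟨O, hO⟩, W, hW, fun v hv => hOW hv⟩, ?_⟩
    exact (Scheme.Opens.range_ι O).symm.subset hu)
  let δ : Over.mk (d ≫ U.hom) ⟶ U := Over.homMk d rfl
  refine ⟨ι, V, fun O => O.1.2, d ≫ U.hom, (yon S).map δ ≫ a,
    repWith_comp ((repWith_yon_map_iff _ δ).2 hd) ha, repWith_comp ((repWith_yon_map_iff _ δ).2 hd') ha', ?_⟩
  intro O
  obtain ⟨W, hW, hOW⟩ := O.2
  refine ⟨W, hW, fun v => ?_⟩
  rw [← Category.assoc, Sigma.ι_desc, Scheme.Hom.comp_apply]
  exact hOW _ ((Scheme.Opens.range_ι O.1.1).subset (Set.mem_range_self v))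


end Groth.Agent.S10213
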