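import Groth.Statements.S4871
import Groth.Agent.UnivSep5.FPScheme
import Groth.Agent.PicClLib.Basic
import Groth.Agent.PnCoh.Unit

set_option autoImplicit false
universe u
open CategoryTheory AlgebraicGeometry
open EGA43

namespace Groth.Agent.S4871

open CategoryTheory.Limits in
/-- Let f : X ⟶ S be flat and locally of finite presentation and U an open subscheme of X. Then U is
universally schematically dense in X relative to S, i.e. for every base change S' ⟶ S the preimage
of U in X ×_S S' is schematically dense, if and only if for every point s of S the trace U_s of U on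
the fibre X_s is schematically dense in X_s. -/
theorem result {X S : Scheme.{u}} (f : X ⟶ S) [Flat f]
    [LocallyOfFinitePresentation f] (U : X.Opens) :
    (∀ (S' : Scheme.{u}) (g : S' ⟶ S), CInt.IsSchematicallyDense ((pullback.fst f g) ⁻¹ᵁ U)) ↔
      ∀ s : S, CInt.IsSchematicallyDense ((f.fiberι s) ⁻¹ᵁ U) := by
  refine ⟨fun h s => h (Spec (S.residueField s)) (S.fromSpecResidueField s), fun h S' g V => ?_⟩
  let F := Coh.structureModule X
  have hF : Coh.IsQCoh F := Groth.Agent.PnCoh.isQCoh_structureModule X
  have hfp : CohB1.IsFP F := Groth.Agent.QCoh.isFP_of_finitePresentation hF (fun U : X.affineOpens => U.1)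
    (iSup_affineOpens_eq_top X) (fun U => U.2) fun U => by
      change Module.FinitePresentation Γ(X, U.1) Γ(X, U.1)
      infer_instance
  have hflat : FlatMod.IsFlatOver f F := (Groth.Agent.QCoh.isFlatOver_iff f hF).2 fun U W hle hU hW =>
    f.flat_appLE hW hU hle
  have hiso : ∀ {Y : Scheme.{u}} (a : Y ⟶ X) (O : Y.Opens),
      (Function.Injective (((Scheme.Modules.pullback a).obj F).presheaf.map
          (homOfLE (inf_le_left : O ⊓ a ⁻¹ᵁ U ≤ O)).op) ↔
        Function.Injective (Y.presheaf.map (homOfLE (inf_le_left : O ⊓ a ⁻¹ᵁ U ≤ O)).op)) := by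
    intro Y a O
    obtain ⟨e⟩ := Groth.Agent.PicClLib.nonempty_pullback_structureModule a
    have hinv : ∀ (W : Y.Opens) x, e.inv.app W (e.hom.app W x) = x := fun W x =>
      (congrArg (fun φ : ((Scheme.Modules.pullback a).obj F ⟶ (Scheme.Modules.pullback a).obj F) => φ.app W x) e.hom_inv_id)
    have hhom : ∀ (W : Y.Opens) x, e.hom.app W (e.inv.app W x) = x := fun W x =>
      (congrArg (fun φ : (Coh.structureModule Y ⟶ Coh.structureModule Y) => φ.app W x) e.inv_hom_id)
    constructor
    · intro hi x y hxy
      have h1 := hi (a₁ := e.inv.app O x) (a₂ := e.inv.app O y) (by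
        rw [← Groth.Agent.QCoh.map_app_comm, ← Groth.Agent.QCoh.map_app_comm]
        exact congrArg (e.inv.app _) hxy)
      exact (hhom O x).symm.trans ((congrArg (e.hom.app O) h1).trans (hhom O y))
    · intro hi x y hxy
      have h1 := hi (a₁ := e.hom.app O x) (a₂ := e.hom.app O y) (by
        refine (Groth.Agent.QCoh.map_app_comm e.hom _ x).symm.trans ?_
        exact (congrArg (e.hom.app _) hxy).trans (Groth.Agent.QCoh.map_app_comm e.hom _ y))
      exact (hinv O x).symm.trans ((congrArg (e.inv.app O) h1).trans (hinv O y))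
  exact (hiso (Limits.pullback.fst f g) V).1 (Groth.Agent.UnivSep5.restriction_injective hF hfp hflat U
    (fun s W => (hiso _ W).2 (h s W)) g V)

end Groth.Agent.S4871
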