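import Groth.Statements.S11546
import Mathlib.RingTheory.Flat.TorsionFree
import Mathlib.RingTheory.AdicCompletion.AsTensorProduct
import Mathlib.RingTheory.Polynomial.Basic
import Mathlib.RingTheory.Valuation.ValuationRing

set_option autoImplicit false
universe u
open AdicRing

namespace Groth.Agent.S11546

/-- Let R be a base ring of class (N) or (V) for the ideal I. Then the restricted power series ring
R⟨ζ_1, ..., ζ_n⟩ is flat over R. -/
theorem result
    (R : Type u) [CommRing R] (I : Ideal R) (hR : AdicRing.IsBase R I) (n : ℕ) :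
    Module.Flat R (AdicRing.RPow R I n) := by
  classical
  obtain ⟨hc, ⟨hN, -⟩ | ⟨hD, hV, hK, t, ht, rfl⟩⟩ := hR
  · exact Module.Flat.trans R (MvPolynomial (Fin n) R) _
  have : ValuationRing R := { }
  refine Module.Flat.flat_iff_torsion_eq_bot_of_isBezout.mpr (eq_bot_iff.mpr ?_)
  rintro x ⟨⟨a, ha⟩, hax⟩
  have hna : a ≠ 0 := nonZeroDivisors.ne_zero ha
  have htm : t ∈ IsLocalRing.maximalIdeal R := by
    rw [IsLocalRing.mem_maximalIdeal]
    intro hu
    have h1 : (1 : R) = 0 := hc.toIsHausdorff.haus 1 fun k => by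
      rw [SModEq.sub_mem, Ideal.span_singleton_eq_top.mpr hu, Ideal.top_pow, Ideal.smul_eq_mul, Ideal.top_mul]
      trivial
    exact one_ne_zero h1
  have hrad : t ∈ (Ideal.span {a}).radical := by
    rw [Ideal.radical_eq_sInf, Submodule.mem_sInf]
    intro P hPmem
    obtain ⟨hP, hPp⟩ := (hPmem : Ideal.span {a} ≤ P ∧ Ideal.IsPrime P)
    have haP : a ∈ P := hP (Ideal.mem_span_singleton_self a)
    have hmax : Ideal.IsMaximal P := Ideal.IsPrime.isMaximal_of_ne_bot hPp fun h => hna ((Submodule.mem_bot R).mp (h ▸ haP))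
    rwa [IsLocalRing.eq_maximalIdeal hmax]
  obtain ⟨k, hk⟩ := hrad
  obtain ⟨c, hc'⟩ := Ideal.mem_span_singleton'.mp hk
  have htx : t ^ k • x = 0 := by
    rw [← hc', mul_smul]
    exact (congrArg (c • ·) hax).trans (smul_zero c)
  obtain ⟨y, rfl⟩ := AdicCompletion.mk_surjective _ (MvPolynomial (Fin n) R) x
  refine (Submodule.mem_bot R).mpr (AdicCompletion.ext fun m => ?_)
  have hJ : ∀ e : ℕ, ((Ideal.span {t}).map (MvPolynomial.C : R →+* MvPolynomial (Fin n) R)) ^ e •
      (⊤ : Submodule (MvPolynomial (Fin n) R) (MvPolynomial (Fin n) R)) = Ideal.span {MvPolynomial.C t ^ e} :=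
    fun e => by
      rw [Ideal.map_span, Set.image_singleton, Ideal.span_singleton_pow, smul_eq_mul, Ideal.mul_top]
  rw [← IsScalarTower.algebraMap_smul (MvPolynomial (Fin n) R) (t ^ k)] at htx
  have h1 := congr(AdicCompletion.eval _ _ (m + k) $htx)
  rw [map_smul, map_zero] at h1
  change Submodule.Quotient.mk (algebraMap R (MvPolynomial (Fin n) R) (t ^ k) • y (m + k)) = _ at h1
  erw [Submodule.Quotient.mk_eq_zero] at h1
  rw [hJ, Ideal.mem_span_singleton, MvPolynomial.algebraMap_eq, smul_eq_mul, map_pow, pow_add,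
    mul_comm ((MvPolynomial.C t) ^ m)] at h1
  have h2 := (mul_dvd_mul_iff_left (pow_ne_zero k ((MvPolynomial.C_ne_zero).mpr ht))).mp h1
  show Submodule.Quotient.mk (y m) = 0
  have h3 := (y.2 (Nat.le_add_right m k))
  rw [SModEq] at h3
  refine h3.trans ((Submodule.Quotient.mk_eq_zero _).mpr ?_)
  rw [hJ, Ideal.mem_span_singleton]
  exact h2


end Groth.Agent.S11546
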