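import Groth.Statements.S2461
import Groth.Agent.EGA41Lib.Adic
import Mathlib

set_option autoImplicit false
universe u
open EGA41

namespace Groth.Agent.S2461

/-- Let A carry the 𝔞-adic topology and let B be a Noetherian A-algebra with the 𝔟-adic topology. Then B
is formally smooth over A if and only if the 𝔟-adic completion of B, with the adic topology of the
extended ideal, is formally smooth over A. -/
theorem result {A B : Type u} [CommRing A] (𝔞 : Ideal A) [CommRing B] [IsNoetherianRing B] [Algebra A B] (𝔟 : Ideal B) :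
    EGA41.IsFormallySmoothAdic A 𝔞 B 𝔟 ↔
      EGA41.IsFormallySmoothAdic A 𝔞 (AdicCompletion 𝔟 B) (𝔟.map (algebraMap B (AdicCompletion 𝔟 B))) := by
  haveI : IsScalarTower A B (AdicCompletion 𝔟 B) := IsScalarTower.of_algebraMap_eq fun a => rfl
  set J' := 𝔟.map (algebraMap B (AdicCompletion 𝔟 B)) with hJ'
  have hker : ∀ (n : ℕ) (x : AdicCompletion 𝔟 B), x ∈ J' ^ n ↔ AdicCompletion.evalₐ 𝔟 n x = 0 := by
    intro n x
    have hle : 𝔟 ^ n ≤ 𝔟 ^ n • (⊤ : Ideal B) := by rw [smul_eq_mul, Ideal.mul_top]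
    rw [hJ', ← Ideal.map_pow,
      show x ∈ (𝔟 ^ n).map (algebraMap B (AdicCompletion 𝔟 B)) ↔ x ∈ 𝔟 ^ n • (⊤ : Submodule B (AdicCompletion 𝔟 B)) by
        rw [Ideal.smul_top_eq_map]; rfl,
      AdicCompletion.pow_smul_top_eq_ker_eval 𝔟.fg_of_isNoetherianRing, LinearMap.mem_ker,
      ← AdicCompletion.factor_evalₐ_eq_eval 𝔟 x hle]
    obtain ⟨b, hb⟩ := Ideal.Quotient.mk_surjective (AdicCompletion.evalₐ 𝔟 n x)
    rw [← hb, Ideal.Quotient.eq_zero_iff_mem]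
    show Ideal.Quotient.mk (𝔟 ^ n • (⊤ : Ideal B)) b = 0 ↔ _
    rw [Ideal.Quotient.eq_zero_iff_mem, smul_eq_mul, Ideal.mul_top]
  have hev : ∀ (n : ℕ) (b : B), AdicCompletion.evalₐ 𝔟 n (algebraMap B (AdicCompletion 𝔟 B) b) = Ideal.Quotient.mk (𝔟 ^ n) b :=
    fun n b => (AdicCompletion.evalₐ 𝔟 n).commutes b
  constructor
  · intro h C _ _ J hJ hA u hu
    obtain ⟨k, hk⟩ := hu
    let ι : B →ₐ[A] AdicCompletion 𝔟 B := (Algebra.ofId B (AdicCompletion 𝔟 B)).restrictScalars A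
    obtain ⟨v', hv'⟩ := h C J hJ hA (u.comp ι) ⟨k, fun x hx => hk _ (by
      rw [hJ', ← Ideal.map_pow]; exact Ideal.mem_map_of_mem _ hx)⟩
    obtain ⟨N₀, hN₀⟩ := Groth.Agent.EGA41Lib.kills_power_of_nilpotent v' hJ ⟨k, fun x hx => by
      have h1 : Ideal.Quotient.mk J (v' x) = u (ι x) := AlgHom.congr_fun hv' x
      rw [h1]
      exact hk _ (by rw [hJ', ← Ideal.map_pow]; exact Ideal.mem_map_of_mem _ hx)⟩
    let N := max N₀ k
    let v : AdicCompletion 𝔟 B →ₐ[A] C :=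
      (Ideal.Quotient.liftₐ (𝔟 ^ N) v' fun a ha => hN₀ a (Ideal.pow_le_pow_right (le_max_left _ _) ha)).comp
        ((AdicCompletion.evalₐ 𝔟 N).restrictScalars A)
    refine ⟨v, AlgHom.ext fun x => ?_⟩
    obtain ⟨b, hb⟩ := Ideal.Quotient.mk_surjective (AdicCompletion.evalₐ 𝔟 N x)
    have h1 : x - ι b ∈ J' ^ N := (hker N _).mpr (by
      rw [map_sub]
      show _ - AdicCompletion.evalₐ 𝔟 N (algebraMap B _ b) = 0
      rw [hev, hb, sub_self])
    have h2 := hk _ (Ideal.pow_le_pow_right (le_max_right _ _) h1)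
    rw [map_sub, sub_eq_zero] at h2
    show Ideal.Quotient.mk J (Ideal.Quotient.liftₐ (𝔟 ^ N) v' (fun a ha => hN₀ a (Ideal.pow_le_pow_right (le_max_left _ _) ha)) (AdicCompletion.evalₐ 𝔟 N x)) = u x
    rw [← hb, h2]
    exact AlgHom.congr_fun hv' b
  · intro h C _ _ J hJ hA u hu
    obtain ⟨k, hk⟩ := hu
    let u' : AdicCompletion 𝔟 B →ₐ[A] C ⧸ J :=
      (Ideal.Quotient.liftₐ (𝔟 ^ k) u hk).comp ((AdicCompletion.evalₐ 𝔟 k).restrictScalars A)
    obtain ⟨v, hv⟩ := h C J hJ hA u' ⟨k, fun x hx => by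
      show Ideal.Quotient.liftₐ (𝔟 ^ k) u hk (AdicCompletion.evalₐ 𝔟 k x) = 0
      rw [(hker k x).mp hx, map_zero]⟩
    refine ⟨v.comp ((Algebra.ofId B (AdicCompletion 𝔟 B)).restrictScalars A), AlgHom.ext fun b => ?_⟩
    have h1 : Ideal.Quotient.mk J (v (algebraMap B _ b)) = u' (algebraMap B _ b) := AlgHom.congr_fun hv _
    show Ideal.Quotient.mk J (v (algebraMap B _ b)) = u b
    rw [h1]
    show Ideal.Quotient.liftₐ (𝔟 ^ k) u hk (AdicCompletion.evalₐ 𝔟 k (algebraMap B _ b)) = u b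
    rw [hev]
    rfl

end Groth.Agent.S2461
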