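import Groth.Statements.S11435
-- import your own Groth.Agent.* helpers here
import Groth.Agent.OrbitProper.Basic

set_option autoImplicit false
universe u
open CategoryTheory MonoidalCategory CartesianMonoidalCategory MonObj GrpObj AlgebraicGeometry Topology
open GIT

namespace Groth.Agent.S11435

/-- Over an algebraically closed field k, let a group scheme G of finite type act on a scheme X of
finite type and let x be a k-rational point of X. Then the orbit morphism ψ_x : G × Spec k → X ×
Spec k, g ↦ (g · x, pt), is proper if and only if the orbit of x (the image of ψ_x) is closed and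
the stabilizer of x (the fibre of ψ_x over (x, pt)) is proper over k. -/
theorem result (k : Type u) [Field k] [IsAlgClosed k]
    (G X : Over (Spec (CommRingCat.of k))) [GrpObj G] [LocallyOfFiniteType G.hom] [QuasiCompact G.hom]
    [LocallyOfFiniteType X.hom] [QuasiCompact X.hom] (a : AlgGrp.Action G X)
    (x : 𝟙_ (Over (Spec (CommRingCat.of k))) ⟶ X) :
    IsProper (GIT.psi a x).left ↔
      IsClosed (Set.range (GIT.psi a x).left.base) ∧
        IsProper (Limits.pullback.snd (GIT.psi a x).left (lift x (𝟙 (𝟙_ (Over (Spec (CommRingCat.of k)))))).left ≫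
          (𝟙_ (Over (Spec (CommRingCat.of k)))).hom) := by
  let f := a.orbitMap x
  let e₁ : G ⊗ 𝟙_ (Over (Spec (CommRingCat.of k))) ≅ G :=
    { hom := fst _ _, inv := lift (𝟙 G) (toUnit G)
      hom_inv_id := by
        apply CartesianMonoidalCategory.hom_ext
        · simp
        · exact toUnit_unique _ _
      inv_hom_id := by simp }
  let e₂ : X ⊗ 𝟙_ (Over (Spec (CommRingCat.of k))) ≅ X :=
    { hom := fst _ _, inv := lift (𝟙 X) (toUnit X)
      hom_inv_id := by
        apply CartesianMonoidalCategory.hom_ext
        · simp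
        · exact toUnit_unique _ _
      inv_hom_id := by simp }
  have hpsi : GIT.psi a x ≫ e₂.hom = e₁.hom ≫ f := by
    show GIT.psi a x ≫ fst _ _ = fst _ _ ≫ lift (𝟙 G) (toUnit G ≫ x) ≫ a.act
    rw [GIT.psi, lift_fst, ← Category.assoc, comp_lift, Category.comp_id, ← Category.assoc,
      toUnit_unique (fst G (𝟙_ _) ≫ toUnit G) (snd G (𝟙_ _))]
    congr 1
  haveI : IsIso e₂.hom.left := ((Over.forget _).mapIso e₂).isIso_hom
  haveI : IsIso e₁.hom.left := ((Over.forget _).mapIso e₁).isIso_hom
  have hleft : (GIT.psi a x).left ≫ e₂.hom.left = e₁.hom.left ≫ f.left := congrArg CommaMorphism.left hpsi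
  have hprop : IsProper (GIT.psi a x).left ↔ IsProper f.left := by
    rw [← MorphismProperty.cancel_right_of_respectsIso (P := @IsProper) (GIT.psi a x).left e₂.hom.left, hleft,
      MorphismProperty.cancel_left_of_respectsIso (P := @IsProper)]
  have hclosed : IsClosed (Set.range (GIT.psi a x).left.base) ↔ IsClosed (Set.range f.left) := by
    have h1 : Set.range f.left = e₂.hom.left.homeomorph '' Set.range (GIT.psi a x).left.base := by
      have h2 : Set.range ((GIT.psi a x).left ≫ e₂.hom.left) = Set.range (e₁.hom.left ≫ f.left) := by rw [hleft]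
      rw [Scheme.Hom.comp_base, Scheme.Hom.comp_base, TopCat.coe_comp, TopCat.coe_comp,
        Set.range_comp, Set.range_comp, Set.range_eq_univ.mpr e₁.hom.left.surjective, Set.image_univ] at h2
      exact h2.symm
    rw [h1, Homeomorph.isClosed_image]
  have sqO := IsPullback.of_hasPullback f x
  have hl : lift x (𝟙 _) ≫ e₂.hom = 𝟙 _ ≫ x := by
    show lift x (𝟙 _) ≫ fst _ _ = _
    simp
  have sq : IsPullback (((Limits.pullback.fst f x) ≫ e₁.inv).left) (Limits.pullback.snd f x).left
      (GIT.psi a x).left (lift x (𝟙 (𝟙_ (Over (Spec (CommRingCat.of k)))))).left := by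
    have h : IsPullback (Limits.pullback.fst f x ≫ e₁.inv) (Limits.pullback.snd f x) (GIT.psi a x)
        (lift x (𝟙 (𝟙_ (Over (Spec (CommRingCat.of k)))))) := by
      refine IsPullback.of_iso sqO (Iso.refl _) e₁.symm (Iso.refl _) e₂.symm (by simp) (by simp) ?_ ?_
      · rw [Iso.symm_hom, Iso.symm_hom, Iso.comp_inv_eq, Category.assoc, hpsi, Iso.inv_hom_id_assoc]
      · rw [Iso.symm_hom, Iso.refl_hom, Iso.comp_inv_eq, Category.assoc, hl, Category.id_comp, Category.id_comp]
    exact IsPullback.map (Over.forget _) h
  have hP : IsProper (Limits.pullback.snd (GIT.psi a x).left (lift x (𝟙 (𝟙_ (Over (Spec (CommRingCat.of k)))))).left ≫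
      (𝟙_ (Over (Spec (CommRingCat.of k)))).hom) ↔ IsProper (Limits.pullback f x).hom := by
    rw [← sq.isoPullback_inv_snd, Category.assoc, MorphismProperty.cancel_left_of_respectsIso (P := @IsProper),
      Over.w (Limits.pullback.snd f x)]
  rw [hprop, hclosed, hP]
  constructor
  · intro h
    haveI := h
    refine ⟨f.left.isClosedMap.isClosed_range, ?_⟩
    have h' : IsProper (Limits.pullback.snd f x).left :=
      MorphismProperty.of_isPullback (P := @IsProper) (sqO.map (Over.forget _)) h
    rw [← Over.w (Limits.pullback.snd f x)]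
    haveI := h'
    haveI : IsIso (𝟙_ (Over (Spec (CommRingCat.of k)))).hom := inferInstanceAs (IsIso (𝟙 _))
    infer_instance
  · rintro ⟨h1, h2⟩
    exact OrbitProper.isProper_orbitMap a x h1 h2.toUniversallyClosed

end Groth.Agent.S11435
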