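import Groth.Statements.S16130
import Groth.Agent.GrpSchLib.OrbitDim
import Groth.Agent.FibDim.BaseField


set_option autoImplicit false
universe u
open CategoryTheory MonoidalCategory CartesianMonoidalCategory MonObj GrpObj AlgebraicGeometry CategoryTheory.Limits
open AlgGrp

namespace Groth.Agent.S16130

theorem isPullback_fst_whiskerRight {C : Type*} [Category C] [CartesianMonoidalCategory C] {A B : C} (α : A ⟶ B) (P : C) :
    IsPullback (CartesianMonoidalCategory.fst A P) (α ▷ P) α (CartesianMonoidalCategory.fst B P) :=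
  IsPullback.of_isLimit' ⟨by simp⟩ (Limits.PullbackCone.IsLimit.mk _
    (fun s => lift s.fst (s.snd ≫ CartesianMonoidalCategory.snd B P))
    (fun s => by simp)
    (fun s => by
      apply CartesianMonoidalCategory.hom_ext
      · simpa using s.condition
      · simp)
    (fun s m h1 h2 => by
      apply CartesianMonoidalCategory.hom_ext
      · simpa using h1
      · rw [lift_snd, ← h2]; simp))

theorem pullback_translate {C : Type*} [Category C] [CartesianMonoidalCategory C] {A B P Q : C} (α : A ⟶ B)
    (t : IsPullback (CartesianMonoidalCategory.fst A P) (α ▷ P) α (CartesianMonoidalCategory.fst B P))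
    (c c' : P ⟶ B) (q : Q ⟶ A) (r : Q ⟶ P) (sq : IsPullback q r α c) (S : A ⊗ P ≅ A ⊗ P) (T : B ⊗ P ≅ B ⊗ P)
    (hST : S.hom ≫ α ▷ P = α ▷ P ≫ T.hom) (hc : lift c (𝟙 P) ≫ T.hom = lift c' (𝟙 P)) :
    ∃ q' : Q ⟶ A, IsPullback q' r α c' := by
  have s1 : IsPullback (lift q r) r (α ▷ P) (lift c (𝟙 P)) := by
    refine IsPullback.of_right ?_ ?_ t
    · simpa using sq
    · apply CartesianMonoidalCategory.hom_ext
      · simp [sq.w]
      · simp
  have s2 := (s1.paste_horiz (IsPullback.of_horiz_isIso ⟨hST⟩)).paste_horiz t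
  rw [hc, lift_fst] at s2
  exact ⟨_, s2⟩

theorem dim_fibre {k : Type u} [Field k] [IsAlgClosed k] {G X : Over (Spec (CommRingCat.of k))} [GrpObj G]
    [LocallyOfFiniteType G.hom] [LocallyOfFiniteType X.hom]
    (a : AlgGrp.Action G X) (x : 𝟙_ (Over (Spec (CommRingCat.of k))) ⟶ X) [LocallyOfFiniteType (a.orbitMap x).left]
    (y : X.left) (hy : y ∈ Set.range (a.orbitMap x).left) :
    topologicalKrullDim ↥((a.orbitMap x).left.fiber y) =
      topologicalKrullDim ↥(Limits.pullback (a.orbitMap x).left x.left) := by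
  let α := a.orbitMap x
  let K := AlgebraicClosure (X.left.residueField y)
  let ιK : Spec (CommRingCat.of K) ⟶ Spec (X.left.residueField y) :=
    Spec.map (CommRingCat.ofHom (algebraMap (X.left.residueField y) K))
  let φ := Spec.preimage (X.left.fromSpecResidueField y ≫ X.hom)
  letI : Algebra k K := ((algebraMap (X.left.residueField y) K).comp φ.hom).toAlgebra
  let PK : Over (Spec (CommRingCat.of k)) := Over.mk (Spec.map (CommRingCat.ofHom (algebraMap k K)))
  have hPK : ιK ≫ X.left.fromSpecResidueField y ≫ X.hom = PK.hom := by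
    rw [← Spec.map_preimage (X.left.fromSpecResidueField y ≫ X.hom)]
    exact (Spec.map_comp _ _).symm.trans rfl
  let yK : PK ⟶ X := Over.homMk (ιK ≫ X.left.fromSpecResidueField y) (by rw [Category.assoc]; exact hPK)
  haveI : Subsingleton ↥(Spec (CommRingCat.of K)) := FibDim.subsingleton_spec_field K
  haveI : Subsingleton ↥(Spec (CommRingCat.of k)) := FibDim.subsingleton_spec_field k
  haveI : Subsingleton ↥(Spec (X.left.residueField y)) := FibDim.subsingleton_spec_field (X.left.residueField y)
  haveI : Nonempty ↥(Spec (CommRingCat.of K)) := ⟨IsLocalRing.closedPoint K⟩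
  obtain ⟨g, hg⟩ : ∃ g : PK ⟶ G, g ≫ α = yK := by
    let q := Limits.pullback.snd α.left (ιK ≫ X.left.fromSpecResidueField y)
    haveI : LocallyOfFiniteType q := inferInstance
    haveI : JacobsonSpace ↥(Limits.pullback α.left (ιK ≫ X.left.fromSpecResidueField y)) :=
      LocallyOfFiniteType.jacobsonSpace q
    obtain ⟨z, hz⟩ := hy
    obtain ⟨p, -, -⟩ := Scheme.Pullback.exists_preimage_pullback (f := α.left) (g := ιK ≫ X.left.fromSpecResidueField y)
      z (IsLocalRing.closedPoint K) (by
        show α.left z = _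
        refine hz.trans ?_
        exact (Scheme.fromSpecResidueField_apply y (ιK (IsLocalRing.closedPoint K))).symm)
    obtain ⟨c, -, hc⟩ := nonempty_inter_closedPoints (Z := (Set.univ : Set ↥(Limits.pullback α.left (ιK ≫ X.left.fromSpecResidueField y))))
      ⟨p, trivial⟩ isOpen_univ.isLocallyClosed
    let s := (pointEquivClosedPoint q).symm ⟨c, hc⟩
    refine ⟨Over.homMk (s.1 ≫ Limits.pullback.fst _ _) ?_, Over.OverMorphism.ext ?_⟩
    · rw [Category.assoc, ← Over.w α, ← Category.assoc (Limits.pullback.fst _ _), Limits.pullback.condition]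
      rw [show s.1 ≫ (q ≫ ιK ≫ X.left.fromSpecResidueField y) ≫ X.hom = (s.1 ≫ q) ≫ PK.hom by
        rw [← hPK]; simp only [Category.assoc]]
      rw [s.2]; exact Category.id_comp _
    · show (s.1 ≫ Limits.pullback.fst _ _) ≫ α.left = ιK ≫ X.left.fromSpecResidueField y
      rw [Category.assoc, Limits.pullback.condition, ← Category.assoc, s.2, Category.id_comp]
  obtain ⟨S, T, hST, -, hS⟩ := GrpSchLib.orbitMap_homogeneous a x (toUnit PK ≫ η[G]) g
  let xK : PK ⟶ X := toUnit PK ≫ x
  have hw : (toUnit PK ≫ η[G]) ≫ α = xK := by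
    show (toUnit PK ≫ η[G]) ≫ a.orbitMap x = toUnit PK ≫ x
    rw [AlgGrp.Action.orbitMap, ← Category.assoc, comp_lift, Category.comp_id, ← Category.assoc, comp_toUnit,
      show toUnit PK ≫ η[G] = (1 : PK ⟶ G) from (Hom.one_def).symm, GrpSchLib.act_one]
  have hc : lift xK (𝟙 PK) ≫ T.hom = lift yK (𝟙 PK) := by
    rw [← hw, ← hg, ← lift_whiskerRight, Category.assoc, ← hST, ← Category.assoc, hS, lift_whiskerRight]
  obtain ⟨q', hq'⟩ := pullback_translate α (isPullback_fst_whiskerRight α PK) xK yK _ _
    (IsPullback.of_hasPullback α xK) S T hST hc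
  have h1 := (IsPullback.of_hasPullback α xK).map (Over.forget _)
  have h2 := hq'.map (Over.forget _)
  -- the stabilizer
  have hx : xK.left = PK.hom ≫ x.left := rfl
  have e1 : topologicalKrullDim ↥(Limits.pullback α.left xK.left) = topologicalKrullDim ↥(Limits.pullback α.left x.left) := by
    have t := IsPullback.of_right' (IsPullback.of_hasPullback α.left xK.left) (IsPullback.of_hasPullback α.left x.left)
    haveI : LocallyOfFiniteType (Limits.pullback.snd α.left x.left) := inferInstance
    haveI : LocallyOfFiniteType (Limits.pullback.snd α.left xK.left) := inferInstance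
    haveI : Subsingleton ↥(𝟙_ (Over (Spec (CommRingCat.of k)))).left := FibDim.subsingleton_spec_field k
    haveI : Subsingleton ↥PK.left := FibDim.subsingleton_spec_field K
    haveI : Nonempty ↥PK.left := ⟨IsLocalRing.closedPoint K⟩
    exact FibDim.topologicalKrullDim_baseChange t
  have e2 : topologicalKrullDim ↥(Limits.pullback α.left yK.left) = topologicalKrullDim ↥(α.left.fiber y) := by
    have t := IsPullback.of_right' (IsPullback.of_hasPullback α.left (ιK ≫ X.left.fromSpecResidueField y))
      (IsPullback.of_hasPullback α.left (X.left.fromSpecResidueField y))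
    haveI hA : LocallyOfFiniteType α.left := ‹_›
    let qq := Limits.pullback.snd α.left (ιK ≫ X.left.fromSpecResidueField y)
    haveI : LocallyOfFiniteType qq := inferInstance
    exact @FibDim.topologicalKrullDim_baseChange _ _ _ _ _ _ _ _ (inferInstanceAs (LocallyOfFiniteType (α.left.fiberToSpecResidueField y))) this inferInstance inferInstance inferInstance t
  refine e2.symm.trans (Eq.trans ?_ e1)
  refine (IsHomeomorph.topologicalKrullDim_eq _ (Scheme.homeoOfIso (h2.isoPullback.symm ≪≫ h1.isoPullback)).isHomeomorph)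


/-- Over an algebraically closed field k, let G be an algebraic group (a smooth k-group scheme of finite
type, not necessarily connected) acting on a variety X (a reduced separated k-scheme of finite
type), and let x be a k-point of X with orbit map α_x : G → X. Then dim G = dim(G · x) + dim(G_x),
where G · x is the image of α_x with its subspace topology and G_x is the stabilizer, the fibre of
α_x over x; all dimensions are Krull dimensions of topological spaces. (The published statement also
asserts that the irreducible components of G · x are precisely the G⁰-orbits it contains, all of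
that dimension; that clause is not stated here.) -/
theorem result (k : Type u) [Field k] [IsAlgClosed k]
    (G X : Over (Spec (CommRingCat.of k))) [GrpObj G] [Smooth G.hom] [QuasiCompact G.hom]
    [IsReduced X.left] [IsSeparated X.hom] [LocallyOfFiniteType X.hom] [QuasiCompact X.hom]
    (a : AlgGrp.Action G X) (x : 𝟙_ (Over (Spec (CommRingCat.of k))) ⟶ X) :
    topologicalKrullDim ↥G.left =
      topologicalKrullDim ↥(Set.range (a.orbitMap x).left.base) +
        topologicalKrullDim ↥(Limits.pullback (a.orbitMap x).left x.left) := by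
  classical
  let α := a.orbitMap x
  haveI : LocallyOfFiniteType G.hom := inferInstance
  haveI : LocallyOfFiniteType α.left := by
    have : LocallyOfFiniteType (α.left ≫ X.hom) := by rw [Over.w α]; infer_instance
    exact locallyOfFiniteType_of_comp α.left X.hom
  haveI : CompactSpace G.left := (quasiCompact_iff_compactSpace G.hom).mp inferInstance
  haveI : Nonempty G.left := ⟨(η[G] : 𝟙_ _ ⟶ G).left (IsLocalRing.closedPoint k)⟩
  let p := G.hom
  let q := X.hom
  obtain ⟨η₀, -, hN, hdim⟩ := VarDim.exists_deg_eq_topologicalKrullDim (p := p)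
  let d : G.left → ℕ := fun g => VarDim.fdeg α.left g
  have hdeg : ∀ g, VarDim.deg p g = VarDim.deg q (α.left g) + d g := fun g => VarDim.deg_eq_add α.left q (Over.w α) g
  have hR : IsLocallyClosed (Set.range α.left) := GrpSchLib.OrbitDim.isLocallyClosed_orbit a x
  have hRW : Set.range α.left = coborder (Set.range α.left) ∩ closure (Set.range α.left) := (coborder_inter_closure).symm
  obtain ⟨g₁, hg₁⟩ : ∃ g₁, ∀ g, VarDim.deg q (α.left g) ≤ VarDim.deg q (α.left g₁) := by
    have hfin : (Set.range fun g => VarDim.deg q (α.left g)).Finite := (Set.finite_Iic (VarDim.deg p η₀)).subset (by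
      rintro _ ⟨g, rfl⟩
      exact (Nat.le_add_right _ _).trans ((hdeg g).ge.trans (hN g)))
    obtain ⟨_, ⟨g₁, rfl⟩, hm⟩ := hfin.exists_maximal (Set.range_nonempty _)
    exact ⟨g₁, fun g => (le_total (VarDim.deg q (α.left g)) (VarDim.deg q (α.left g₁))).elim id (fun h => hm ⟨g, rfl⟩ h)⟩
  have hdimR : topologicalKrullDim ↥(Set.range α.left) = ((VarDim.deg q (α.left g₁) : ℕ∞) : WithBot ℕ∞) := by
    rw [hRW, FibDim.topologicalKrullDim_locClosed_eq_iSup_deg q hR.isOpen_coborder isClosed_closure]
    refine le_antisymm (iSup_le ?_) ?_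
    · rintro ⟨z, hz⟩
      obtain ⟨g, rfl⟩ := hRW.ge hz
      exact WithBot.coe_le_coe.mpr (Nat.cast_le.mpr (hg₁ g))
    · exact le_iSup (fun z : ↥(coborder (Set.range α.left) ∩ closure (Set.range α.left)) => ((VarDim.deg q z.1 : ℕ∞) : WithBot ℕ∞))
        ⟨α.left g₁, hRW.le ⟨g₁, rfl⟩⟩
  obtain ⟨g₂, hg₂e, hg₂⟩ : ∃ g₂, α.left g₂ = α.left g₁ ∧ ∀ g, α.left g = α.left g₁ → d g ≤ d g₂ := by
    have hfin : (d '' (α.left ⁻¹' {α.left g₁})).Finite := (Set.finite_Iic (VarDim.deg p η₀)).subset (by
      rintro _ ⟨g, -, rfl⟩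
      exact (Nat.le_add_left _ _).trans ((hdeg g).ge.trans (hN g)))
    obtain ⟨_, ⟨g₂, hg₂, rfl⟩, hm⟩ := hfin.exists_maximal (Set.Nonempty.image _ (⟨g₁, rfl⟩ : (α.left ⁻¹' {α.left g₁}).Nonempty))
    exact ⟨g₂, hg₂, fun g hg => (le_total (d g) (d g₂)).elim id (fun h => hm ⟨g, hg, rfl⟩ h)⟩
  have hstab : topologicalKrullDim ↥(Limits.pullback α.left x.left) = ((d g₂ : ℕ∞) : WithBot ℕ∞) := by
    rw [← dim_fibre a x (α.left g₁) ⟨g₁, rfl⟩, VarDim.topologicalKrullDim_fiber α.left]
    refine le_antisymm (iSup_le fun z => WithBot.coe_le_coe.mpr (Nat.cast_le.mpr (hg₂ z.1 z.2))) ?_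
    exact le_iSup (fun z : α.left ⁻¹' {α.left g₁} => ((d z.1 : ℕ∞) : WithBot ℕ∞)) ⟨g₂, hg₂e⟩
  have hd : ∀ g, d g ≤ d g₂ := fun g => by
    have h1 := dim_fibre a x (α.left g) ⟨g, rfl⟩
    rw [VarDim.topologicalKrullDim_fiber α.left, hstab] at h1
    have h2 : ((d g : ℕ∞) : WithBot ℕ∞) ≤ ((d g₂ : ℕ∞) : WithBot ℕ∞) :=
      h1 ▸ le_iSup (fun z : α.left ⁻¹' {α.left g} => ((d z.1 : ℕ∞) : WithBot ℕ∞)) ⟨g, rfl⟩
    exact Nat.cast_le.mp (WithBot.coe_le_coe.mp h2)
  change topologicalKrullDim ↥G.left = topologicalKrullDim ↥(Set.range α.left) + topologicalKrullDim ↥(Limits.pullback α.left x.left)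
  rw [hdimR, hstab, VarDim.topologicalKrullDim_eq_iSup_deg p, ← WithBot.coe_add, ← Nat.cast_add]
  refine le_antisymm (iSup_le fun g => WithBot.coe_le_coe.mpr (Nat.cast_le.mpr ?_))
    (le_iSup_of_le g₂ (WithBot.coe_le_coe.mpr (Nat.cast_le.mpr ?_)))
  · rw [hdeg g]; exact add_le_add (hg₁ g) (hd g)
  · rw [hdeg g₂, hg₂e]


end Groth.Agent.S16130
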