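import Groth.Statements.S4945
import Groth.Agent.UnivOpen.Conditions

set_option autoImplicit false
open CategoryTheory AlgebraicGeometry
universe u v w
open EGA43

namespace Groth.Agent.S4945

/-- Let Y be an irreducible locally Noetherian scheme with generic point η, f : X ⟶ Y a morphism locally
of finite type and y a geometrically unibranch point of Y. The following are equivalent: a) f is
universally open at every point of X_y; b) f is open at every point of X_y; c) for every maximal
point z of X_y there is an irreducible component Z of X containing z and dominating Y with dim_z(Z ∩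
X_y) = dim(Z ∩ X_η); d) for every point x closed in X_y there are an irreducible reduced scheme T
and an immersion T ⟶ X with image containing x such that T ⟶ Y is quasi-finite and dominant. -/
theorem result {X Y : Scheme.{u}} [IrreducibleSpace Y]
    [IsLocallyNoetherian Y] (f : X ⟶ Y) [LocallyOfFiniteType f] (y : Y) (hy : CAlg2.IsGeomUnibranch (Y.presheaf.stalk y)) :
    List.TFAE [∀ x : X, f.base x = y → EGA43.IsUnivOpenAt f x,
      ∀ x : X, f.base x = y → EGA43.IsOpenAt f.base x,
      ∀ z : X, ∀ hzy : f.base z = y, (∀ z' : X, f.base z' = y → z ∈ closure {z'} → z' = z) →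
        ∃ Z ∈ irreducibleComponents (X : Type u), ∃ hz : z ∈ Z, Dense (f.base '' Z) ∧
          FlatMor.localDim ↥(Z ∩ f.base ⁻¹' {y}) ⟨z, ⟨hz, hzy⟩⟩ = topologicalKrullDim ↥(Z ∩ f.base ⁻¹' {genericPoint Y}),
      ∀ x : X, f.base x = y → (∀ x' : X, f.base x' = y → x ⤳ x' → x' = x) →
        ∃ (T : Scheme.{u}) (i : T ⟶ X), IsImmersion i ∧ IrreducibleSpace ↥T ∧ IsReduced T ∧ x ∈ Set.range i.base ∧
        LocallyOfFiniteType (i ≫ f) ∧ LocallyQuasiFinite (i ≫ f) ∧ QuasiCompact (i ≫ f) ∧ IsDominant (i ≫ f)] := by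
    have hgy : genericPoint Y ⤳ y := (genericPoint_spec Y).specializes (Set.mem_univ y)
    have hfm : ∀ {z : X}, f z = y → ((∀ z' : X, f z' = y → z ∈ closure {z'} → z' = z) ↔ FibDim.FibMax f z) :=
      fun {z} hz => ⟨fun h v hv hfv => h v (hfv.trans hz) (specializes_iff_mem_closure.1 hv),
        fun h v hfv hv => h v (specializes_iff_mem_closure.2 hv) (hfv.trans hz.symm)⟩
    tfae_have 1 → 2 := fun h x hx => UnivOpen.isOpenAt_of_isUnivOpenAt (h x hx)
    tfae_have 2 → 1 := fun h x hx => UnivOpen.isUnivOpenAt_fibre f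
      (fun z hz hm => UnivOpen.isUnivOpenAt_of_isOpenAt f (by rw [hz]; exact hy) hm (h z hz)) x hx
    tfae_have 2 → 3 := fun h z hzy hm => by
      have hm' := (hfm hzy).1 hm
      obtain ⟨η, hη, hmax, hfη, hr⟩ := UnivOpen.exists_witness_of_isOpenAt f hm' (h z hzy) (genericPoint Y)
        (by rw [hzy]; exact hgy) fun b hb => UnivOpen.genericPoint_maximal hb
      obtain ⟨Z, hZ, hzZ, hcl, hd⟩ := UnivOpen.component_of_witness f (z := z) specializes_rfl rfl
        (fun v hv hfv => (hm' v hv hfv) ▸ le_rfl) hη hmax hr hfη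
      refine ⟨Z, hZ, hzZ, dense_iff_closure_eq.2 (hcl.trans (genericPoint_spec Y).def), ?_⟩
      subst hzy
      exact hd
    tfae_have 3 → 1 := fun h x hx => UnivOpen.isUnivOpenAt_fibre f (fun z hz hm => by
      obtain ⟨Z, hZ, hzZ, hcl, hd⟩ := h z hz ((hfm hz).2 hm)
      subst hz
      obtain ⟨η, hη, hηm, hfη, hr⟩ := UnivOpen.witness_of_localDim f hm hZ hzZ
        (hcl.closure_eq.trans (genericPoint_spec Y).def.symm) hd
      exact UnivOpen.isUnivOpenAt_of_witness f hy hm hη hηm (fun b hb => by
        rw [hfη] at hb ⊢; exact UnivOpen.genericPoint_maximal hb) hr) x hx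
    tfae_have 2 → 4 := fun h x hx hcl => UnivOpen.exists_quasiSection_of_univOpen f
      (fun z hz => h z (hz.trans hx)) fun x' hx' => hcl x' (hx'.trans hx)
    tfae_have 4 → 2 := fun h => UnivOpen.isOpenAt_fibre_of_closed f fun x hx hcl => by
      obtain ⟨T, i, hi⟩ := h x hx hcl
      exact UnivOpen.isOpenAt_of_quasiSection f (hx ▸ hy) hi
    tfae_finish

end Groth.Agent.S4945
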