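import Groth.Statements.S19426
import Groth.Agent.EqIntLib.StabFibre
import Groth.Agent.GrpSchLib.FibreDimGrp
import Groth.Prelude.Def_AlgSt5
-- import your own Groth.Agent.* helpers here

set_option autoImplicit false
universe u
open CategoryTheory MonoidalCategory CartesianMonoidalCategory MonObj AlgebraicGeometry Topology
open GIT
open CategoryTheory.Limits

namespace Groth.Agent.S19426

/-- Let k be an algebraically closed field, G an affine group scheme of finite type over k acting on a
k-scheme X locally of finite type, and for a point x of X let G_x denote its stabiliser, the group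
scheme over the residue field of x obtained as the fibre of (g, t) ↦ (g · x(t), t) over (x, id).
Then for every n the set of points x of X with dim G_x ≥ n is closed: the stabiliser dimension is an
upper semicontinuous function on X. (Stated at all points of the scheme X; the published statement
is for the closed points of a variety, and also phrases it through the orbit dimension dim G − dim
G_x, which is not restated here.) -/
theorem result
    (k : Type u) [Field k] [IsAlgClosed k]
    (G X : Over (Spec (CommRingCat.of k))) [GrpObj G] [IsAffine G.left] [LocallyOfFiniteType G.hom]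
    [LocallyOfFiniteType X.hom]
    (a : AlgGrp.Action G X) (n : WithBot ℕ∞) :
    IsClosed {x : X.left | n ≤ topologicalKrullDim
      (GLinSh.stab a (Over.homMk (X.left.fromSpecResidueField x) rfl :
        Over.mk (X.left.fromSpecResidueField x ≫ X.hom) ⟶ X))} := by
  let H : Over X.left := Over.mk (pullback.snd (Groth.Agent.EqIntLib.stabHom a) (𝟙 X.left))
  letI : GrpObj H := Groth.Agent.EqIntLib.fibreGrpObj a (𝟙 X.left)
  haveI : LocallyOfFiniteType (GIT.psi a (𝟙 X)).left := by
    haveI : LocallyOfFiniteType ((GIT.psi a (𝟙 X)).left ≫ (X ⊗ X).hom) := by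
      rw [Over.w, ← Over.w (snd G X)]
      exact inferInstanceAs (LocallyOfFiniteType (pullback.snd G.hom X.hom ≫ X.hom))
    exact locallyOfFiniteType_of_comp _ (X ⊗ X).hom
  haveI : LocallyOfFiniteType H.hom :=
    inferInstanceAs (LocallyOfFiniteType (pullback.snd (pullback.snd (GIT.psi a (𝟙 X)).left _) (𝟙 X.left)))
  have key : ∀ x : X.left, topologicalKrullDim
      (GLinSh.stab a (Over.homMk (X.left.fromSpecResidueField x) rfl :
        Over.mk (X.left.fromSpecResidueField x ≫ X.hom) ⟶ X)) = topologicalKrullDim ↥(H.hom ⁻¹' {x}) := by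
    intro x
    let T : Over (Spec (CommRingCat.of k)) := Over.mk (X.left.fromSpecResidueField x ≫ X.hom)
    let f : T ⟶ X := Over.homMk (X.left.fromSpecResidueField x) rfl
    show topologicalKrullDim (GLinSh.stab a f) = _
    have sq : IsPullback (G ◁ f) (GIT.psi a f) (GIT.psi a (𝟙 X)) (X ◁ f) := by
      refine IsPullback.of_bot ?_ ?_ (AlgSt.isPullback_whiskerLeft (G := X) f)
      · rw [GIT.psi, GIT.psi, lift_snd, lift_snd]
        exact AlgSt.isPullback_whiskerLeft f
      · ext <;> simp [GIT.psi]
    have sqA : IsPullback (pullback.fst (GIT.psi a f).left (lift f (𝟙 T)).left ≫ (G ◁ f).left)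
        (pullback.snd (GIT.psi a f).left (lift f (𝟙 T)).left) (GIT.psi a (𝟙 X)).left
        ((lift f (𝟙 T)).left ≫ (X ◁ f).left) :=
      (IsPullback.of_hasPullback _ _).paste_horiz (sq.map (Over.forget _))
    rw [show (lift f (𝟙 T)).left ≫ (X ◁ f).left = f.left ≫ (lift (𝟙 X) (𝟙 X)).left by
      rw [← Over.comp_left, ← Over.comp_left, lift_whiskerLeft, comp_lift, Category.id_comp, Category.comp_id]] at sqA
    have sqB := ((IsPullback.of_hasPullback H.hom f.left).flip.paste_vert
      (IsPullback.of_hasPullback (Groth.Agent.EqIntLib.stabHom a) (𝟙 X.left)).flip).flip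
    rw [Category.comp_id] at sqB
    have sqC := sqB.paste_horiz (IsPullback.of_hasPullback (GIT.psi a (𝟙 X)).left (lift (𝟙 X) (𝟙 X)).left)
    rw [← (H.hom.fiberHomeo x).isHomeomorph.topologicalKrullDim_eq]
    exact (Scheme.homeoOfIso (sqA.isoIsPullback _ _ sqC)).isHomeomorph.topologicalKrullDim_eq
  simp only [key]
  exact upperSemicontinuous_iff_isClosed_preimage.1
    (Groth.Agent.GrpSchLib.FibreDimGrp.upperSemicontinuous H) n

end Groth.Agent.S19426
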