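import Groth.Statements.S14693
import Groth.Agent.SekSuwaLib.Points
import Mathlib.CategoryTheory.Limits.Shapes.Pullback.IsPullback.Basic
-- import your own Groth.Agent.* helpers here

set_option autoImplicit false
universe u
open CategoryTheory AlgebraicGeometry
open SekSuwa

namespace Groth.Agent.S14693

open CategoryTheory.Limits MonoidalCategory CartesianMonoidalCategory MonObj

/-- For any commutative ring R, λ ∈ R and N such that λ is a non-zero-divisor and λ^N divides (1 + λX)^N
− 1 in R[X] with quotient P_{λ,N}, the closed subgroup scheme G_{λ,N} = Spec R[T]/(P_{λ,N}(T)) of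
the affine R-group G^(λ) = Spec R[T, 1/(1+λT)] (group law s + t + λst) is the kernel of the
homomorphism ψ_{λ,N} : G^(λ) → G^(λ^N), T ↦ P_{λ,N}(T): the square with sides the inclusion G_{λ,N}
→ G^(λ), ψ_{λ,N}, the unit section of G^(λ^N) and G_{λ,N} → Spec R is cartesian. (The published
text, over a discrete valuation ring and with N = p^n, introduces G_{λ,n} as the kernel of the
isogeny ψ_{λ,n}; this row is that assertion for every N, including the degenerate N = 0 where ψ is
trivial and G_{λ,0} = G^(λ).) -/
theorem result (R : Type u) [CommRing R] (lam : R) (N : ℕ) (h : SekSuwa.DivCond lam N) :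
    AlgGrp.IsKernel (SekSuwa.incl R lam N h) (SekSuwa.psi R lam N h) := by
  have hmk : Function.Surjective (AK.mkHom R lam N h) := Ideal.Quotient.mk_surjective
  have hinj : ∀ {T : Over (Spec (CommRingCat.of R))} (a b : T ⟶ GK R lam N h),
      a ≫ incl R lam N h = b ≫ incl R lam N h → a = b := by
    intro T a b hab
    apply SekSuwaLib.ptRingHom_injective
    ext x
    obtain ⟨y, rfl⟩ := hmk x
    have := congrArg (fun m => SekSuwaLib.ptRingHom m y) hab
    simp only [SekSuwa.incl, SekSuwaLib.ptRingHom_comp_specHom] at this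
    exact this
  have hex : ∀ {T : Over (Spec (CommRingCat.of R))} (a : T ⟶ G R lam),
      a ≫ psi R lam N h = toUnit T ≫ η[G R (lam ^ N)] → ∃ b : T ⟶ GK R lam N h, b ≫ incl R lam N h = a := by
    intro T a ha
    have h1 : SekSuwaLib.ptRingHom a (kerGen lam N h) = 0 := by
      have := congrArg (fun m => SekSuwaLib.ptRingHom m (A.t : A R (lam ^ N))) ha
      simp only [SekSuwa.psi, SekSuwaLib.ptRingHom_comp_specHom, psiHom_t, SekSuwaLib.ptRingHom_one, A.counit_t,
        map_zero] at this
      exact this
    let φ : AK R lam N h →+* Γ(T.left, ⊤) := Ideal.Quotient.lift (kerIdeal lam N h) (SekSuwaLib.ptRingHom a)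
      (fun z hz => by
        obtain ⟨c, rfl⟩ := Ideal.mem_span_singleton'.mp hz
        rw [map_mul, h1, mul_zero])
    have hφ : ∀ r, φ (algebraMap R (AK R lam N h) r) = SekSuwaLib.strHom T r := fun r =>
      SekSuwaLib.ptRingHom_algebraMap a r
    refine ⟨SekSuwaLib.ofRingHom φ hφ, ?_⟩
    apply SekSuwaLib.ptRingHom_injective
    ext x
    rw [SekSuwa.incl, SekSuwaLib.ptRingHom_comp_specHom, SekSuwaLib.ptRingHom_ofRingHom]
    rfl
  have w : incl R lam N h ≫ psi R lam N h = toUnit (GK R lam N h) ≫ η[G R (lam ^ N)] :=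
    SekSuwa.incl_psi R lam N h
  refine ⟨⟨w⟩, ⟨PullbackCone.IsLimit.mk w (fun s => (hex s.fst (s.condition.trans (by
      congr 1; exact toUnit_unique _ _))).choose) (fun s => ?_) (fun s => toUnit_unique _ _) (fun s m hm _ => ?_)⟩⟩
  · exact (hex s.fst (s.condition.trans (by congr 1; exact toUnit_unique _ _))).choose_spec
  · refine hinj _ _ (hm.trans ?_)
    exact ((hex s.fst (s.condition.trans (by congr 1; exact toUnit_unique _ _))).choose_spec).symm

end Groth.Agent.S14693
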