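import Groth.Statements.S12911
import Groth.Agent.EagonN.Main
import Groth.Agent.H26.IdealCl

set_option autoImplicit false
set_option linter.style.haveILetI false
set_option backward.isDefEq.respectTransparency false
set_option backward.isDefEq.respectTransparency.types false
set_option synthInstance.maxHeartbeats 400000
set_option maxHeartbeats 1600000
universe u
open CategoryTheory CategoryTheory.Limits AlgebraicGeometry
open Variety Groth.Agent

noncomputable section

namespace Groth.Agent.S12911

/-- Let k be a field and φ : O(-1)^n → O^m a morphism of modules on P^r_k, that is an m × n matrix of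
linear forms; let F be its cokernel and I = Fitt_0(F) the zeroth Fitting ideal sheaf of F, the
quasi-coherent ideal sheaf generated locally by the m × m minors of φ. If the closed subset of P^r_k
cut out by I has Krull dimension at most 1, then I, viewed as an O-module, is m-regular: H^j(P^r_k,
I(m - j)) = 0 for 1 ≤ j ≤ r. -/
theorem result (k : Type u) [Field k] (r m n : ℕ)
    (φ : (∐ fun _ : Fin n => Twist.twistProjSpace r k (-1)) ⟶ FlatMod.freeMod (CohB1.ProjSpace r k) m)
    (hdim : topologicalKrullDim ((Fitt.sheafIdeal (cokernel φ) 0).support : Set (CohB1.ProjSpace r k)) ≤ 1) :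
    Curv2.IsMRegular k r (ClSub.idealMod (Fitt.sheafIdeal (cokernel φ) 0)) m := by
  intro i hi hin
  haveI : (Proj (CohB1.polyGrading r k)).Over (Spec (CommRingCat.of k)) :=
    inferInstanceAs ((CohB1.ProjSpace r k).Over (Spec (CommRingCat.of k)))
  rcases Nat.eq_zero_or_pos m with rfl | hm
  · have hS := EagonN.isCoh_sum k r (Fin n) (-((1 : ℕ) : ℤ))
    have hF := EagonN.isCoh_free k r (m := 0)
    have hC : Coh.IsCoh (cokernel φ) := QCoh.isCoh_cokernel hS.1 hF φ
    have hz : IsZero (cokernel φ) := by
      have h0 : IsZero (FlatMod.freeMod (CohB1.ProjSpace r k) 0) :=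
        (IsZero.iff_id_eq_zero _).2 (Sigma.hom_ext _ _ fun a => a.elim0)
      refine (IsZero.iff_id_eq_zero _).2 ?_
      rw [← cancel_epi (cokernel.π φ)]
      exact h0.eq_of_src _ _
    rw [SeesawX.sheafIdeal_zero_of_isZero hC.1 hC.2 hz]
    obtain ⟨e⟩ := H26.IdealCl.nonempty_iso_of_range (𝟙 (Coh.structureModule (CohB1.ProjSpace r k))) ⊤ fun U => by
      ext c
      simp only [Scheme.IdealSheafData.ideal_top]
      exact ⟨fun _ => trivial, fun _ => (EagonN.fnLin (X := CohB1.ProjSpace r k) U.1).surjective c⟩
    obtain ⟨u⟩ := RegEpi.unitIso (k := k) (n := r)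
    obtain ⟨v⟩ := PnCoh.Finite.twist_tensor_iso (ProjRegular.coords k r) ProjRegular.coords_mem
      ProjRegular.coords_cover 0 (((0 : ℕ) : ℤ) - i)
    exact QCoh.subsingleton_HH_of_iso ((RegEpi.twF (((0 : ℕ) : ℤ) - i)).mapIso (e.symm ≪≫ u) ≪≫ v).symm i
      (S0844.result k r _ i (fun h => by omega) (fun h => by omega))
  · obtain ⟨L, hL, hφ⟩ := EagonN.exists_linear k r φ (hi.trans hin)
    exact EagonN.regular_pos k r φ L hL hφ hm hdim i hi

end Groth.Agent.S12911
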