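import Groth.Statements.S7409
import Groth.Agent.Chow17.Main

set_option autoImplicit false
set_option backward.isDefEq.respectTransparency false
set_option backward.isDefEq.respectTransparency.types false
set_option linter.style.haveILetI false
universe u
open CategoryTheory AlgebraicGeometry
open Lim

namespace Groth.Agent.S7409

/-- Chow's lemma for finite type morphisms over a quasi-compact quasi-separated base: let `S` be
quasi-compact and quasi-separated and `f : X → S` separated of finite type. Then for some `n` there
are a scheme `X'`, a proper surjective `π : X' → X` and an immersion `X' → P^n_S` compatible with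
the maps to `S`. -/
theorem result {X S : Scheme.{u}} (f : X ⟶ S) [CompactSpace S] [QuasiSeparatedSpace S]
    [IsSeparated f] [LocallyOfFiniteType f] [QuasiCompact f] :
    ∃ (n : ℕ) (X' : Scheme.{u}) (π : X' ⟶ X) (j : X' ⟶ CohB1.ProjSpaceOver n S),
      IsImmersion j ∧ j ≫ CohB1.ProjSpaceOver.toBase n S = π ≫ f ∧ IsProper π ∧ Surjective π := by
  exact Groth.Agent.Chow17.chow f

end Groth.Agent.S7409
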