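import Groth.Statements.S0161
import Groth.Agent.EtFound.IntegralBaseChange
import Groth.Agent.EtFound.PushExact
import Groth.Agent.SiteBase.LerayTop
-- import your own Groth.Agent.* helpers here

set_option autoImplicit false
universe u
open CategoryTheory CategoryTheory.Limits AlgebraicGeometry Opposite
open EtPBC

namespace Groth.Agent.S0161

/-- For a finite morphism f : X -> Y, cohomology commutes with base change: for every cartesian square
and torsion abelian F on X_et and every q, g^* R^q f_* F ≅ R^q f'_* g'^* F (abstract-isomorphism
form). -/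
theorem result {X Y : Scheme.{u}} (f : X ⟶ Y) [IsFinite f] [EtCoh.BCCont f] :
    EtPBC.CohCommutesWithBC f := by
  intro X' Y' f' g' g _ _ _ h F _ q
  have : IsFinite f' := MorphismProperty.of_isPullback h ‹IsFinite f›
  have := EtFound.push_preservesFiniteLimits f
  have := EtFound.push_preservesFiniteLimits f'
  cases q with
  | zero =>
    have : IsIso (EtCoh.baseChange0 f g f' g' h.w F) :=
      EtFound.isIso_baseChange_of_integral h F _ (EtFound.baseChange0_unit f g f' g' h.w F)
    exact ⟨(EtCoh.pull g).mapIso ((EtCoh.push f).rightDerivedZeroIsoSelf.app F) ≪≫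
      asIso (EtCoh.baseChange0 f g f' g' h.w F) ≪≫ ((EtCoh.push f').rightDerivedZeroIsoSelf.app _).symm⟩
  | succ n =>
    have := EtFound.push_preservesFiniteColimits f
    have := EtFound.push_preservesFiniteColimits f'
    have : (EtCoh.pull g).IsLeftAdjoint := (EtCoh.pullPushAdj g).isLeftAdjoint
    have h1 := (EtCoh.pull g).map_isZero (LerayDegen.isZero_rightDerived_of_exact (EtCoh.push f) F n)
    have h2 := LerayDegen.isZero_rightDerived_of_exact (EtCoh.push f') ((EtCoh.pull g').obj F) n
    exact ⟨h1.iso h2⟩

end Groth.Agent.S0161
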