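import Groth.Statements.S1654
import Groth.Agent.GeomField.Orbit

set_option autoImplicit false
universe u
open CategoryTheory CategoryTheory.Limits AlgebraicGeometry
open Variety

namespace Groth.Agent.S1654


set_option backward.isDefEq.respectTransparency false
set_option backward.isDefEq.respectTransparency.types false

open GeomField in
theorem exists_field {k : Type u} [Field k] {X : Scheme.{u}} [X.Over (Spec (CommRingCat.of k))]
    [LocallyOfFiniteType (X ↘ Spec (CommRingCat.of k))]
    (hirr : (irreducibleComponents (X : Type u)).Finite) :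
    ∃ (F : IntermediateField k (SeparableClosure k)), FiniteDimensional k F ∧
      ∀ T ∈ irreducibleComponents (Curv2.bc k X F : Type u),
        IsIrreducible (FBaseLib.bcMap (X ↘ Spec (CommRingCat.of k)) F (SeparableClosure k) ⁻¹' T) := by
  classical
  let K := SeparableClosure k
  let f := X ↘ Spec (CommRingCat.of k)
  let C := irreducibleComponents (Curv2.bc k X K : Type u)
  have hfin : C.Finite := by
    refine ((hirr.biUnion fun T hT => components_over_finite (k := k) (X := X) K hT)).subset fun Z hZ => ?_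
    exact Set.mem_iUnion₂.2 ⟨_, image_component K hZ, hZ, subset_rfl⟩
  have hsep : ∀ Z : C, ∃ (V : Set (Curv2.bc k X K)), IsOpen V ∧ ∃ η, IsGenericPoint η Z.1 ∧ η ∈ V ∧
      ∀ (Z' : C) (η' : Curv2.bc k X K), IsGenericPoint η' Z'.1 → η' ∈ V → Z' = Z := by
    intro Z
    obtain ⟨η, hη, hmax⟩ := maximal_of_component Z.2
    refine ⟨(⋃ Z' ∈ C \ {Z.1}, Z')ᶜ, (Set.Finite.isClosed_biUnion (hfin.subset Set.diff_subset)
      fun Z' hZ' => isClosed_of_mem_irreducibleComponents Z' hZ'.1).isOpen_compl, η, hη, ?_, ?_⟩
    · simp only [Set.mem_compl_iff, Set.mem_iUnion, not_exists]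
      rintro Z' ⟨hZ', hne⟩ h
      obtain ⟨η', hη', -⟩ := maximal_of_component hZ'
      exact hne (show Z' = Z.1 by rw [← hη'.def, ← hη.def, hmax η' (hη'.specializes h)])
    · intro Z' η' hη' hmem
      by_contra hne
      exact hmem (Set.mem_iUnion₂.2 ⟨Z'.1, ⟨Z'.2, fun h => hne (Subtype.ext h)⟩, hη'.mem⟩)
  choose V hV η hη hηV huniq using hsep
  choose F₁ hF₁ hd using fun Z : C => exists_open_descend (k := k) (hV Z) (hηV Z)
  have : Finite C := hfin.to_subtype
  let _ : Fintype C := Fintype.ofFinite C
  let F : IntermediateField k K := Finset.univ.sup F₁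
  refine ⟨F, Finset.sup_induction (p := fun E : IntermediateField k K => FiniteDimensional k E) inferInstance
    (fun a ha b hb => by have := ha; have := hb; infer_instance) (fun Z _ => hF₁ Z), fun T hT => ?_⟩
  let q : Curv2.bc k X K ⟶ Curv2.bc k X F := FBaseLib.bcMap f F K
  have hgen : GeneralizingMap q := Flat.generalizingMap (FBaseLib.bcMap f F K)
  obtain ⟨τ, hτ, hτmax⟩ := maximal_of_component hT
  obtain ⟨y₀, hy₀⟩ := (FBaseLib.bcMap f F K).surjective τ
  obtain ⟨η₁, hη₁, -, hZ⟩ := exists_maximal_component y₀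
  let Z : C := ⟨_, hZ⟩
  have hηZ : η Z = η₁ := (hη Z).eq isGenericPoint_closure
  have hqη : q (η Z) = τ := hτmax _ (hηZ ▸ hy₀ ▸ hη₁.map q.continuous)
  obtain ⟨V', -, hV'1, hV'2⟩ := hd Z F (Finset.le_sup (Finset.mem_univ Z))
  have key : ∀ y, q y = τ → y ∈ Z.1 := fun y hy => by
    obtain ⟨η', hη', -, hZ'⟩ := exists_maximal_component y
    have h1 : q η' = τ := hτmax _ (hy ▸ hη'.map q.continuous)
    have h2 : η' ∈ V Z := hV'2 (show q η' ∈ V' by rw [h1, ← hqη]; exact hV'1)
    have h3 := huniq Z ⟨_, hZ'⟩ η' isGenericPoint_closure h2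
    exact h3 ▸ hη'.mem_closure
  have heq : q ⁻¹' T = Z.1 := by
    refine subset_antisymm (fun y hy => ?_) fun y hy => ?_
    · obtain ⟨y', hy'y, hy'⟩ := hgen (hτ.specializes hy)
      exact hy'y.mem_closed (isClosed_of_mem_irreducibleComponents _ Z.2) (key y' hy')
    · show q y ∈ T
      rw [← hτ.def, ← hqη]
      exact (((hη Z).specializes hy).map q.continuous).mem_closure
  show IsIrreducible (q ⁻¹' T)
  rw [heq]
  exact Z.2.1

/-- Let X be a k-scheme locally of finite type, having only finitely many irreducible components. There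
is then a finite separable extension k' of k such that every irreducible component of X_{k'}, with
its reduced induced structure, is geometrically irreducible over k'. -/
theorem result (k : Type u) [Field k] (X : Scheme.{u}) [X.Over (Spec (CommRingCat.of k))] [LocallyOfFiniteType (X ↘ (Spec (CommRingCat.of k)))]
    (hirr : (irreducibleComponents (X : Type u)).Finite) :
    ∃ (k' : Type u) (_ : Field k') (_ : Algebra k k'), FiniteDimensional k k' ∧ Algebra.IsSeparable k k' ∧
      ∀ (T : Set (Curv2.bc k X k')) (hT : T ∈ irreducibleComponents (Curv2.bc k X k' : Type u)),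
        GeometricallyIrreducible
          ((Scheme.IdealSheafData.vanishingIdeal ⟨T, isClosed_of_mem_irreducibleComponents T hT⟩).subschemeι ≫
            Curv2.bcSnd k X k') := by
  obtain ⟨F, hF, hFT⟩ := exists_field (k := k) hirr
  refine ⟨F, inferInstance, inferInstance, hF, inferInstance, fun T hT => ?_⟩
  let Y := Curv2.bc k X F
  letI : Y.Over (Spec (CommRingCat.of F)) := ⟨Curv2.bcSnd k X F⟩
  let K := SeparableClosure k
  have hK : IsIrreducible (Curv2.bcFst F Y K ⁻¹' T) := by
    let e := (FBaseLib.bcTower (X ↘ Spec (CommRingCat.of k)) F K).symm.hom.homeomorph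
    have h := (hFT T hT).image e e.continuous.continuousOn
    have h2 : e '' (FBaseLib.bcMap (X ↘ Spec (CommRingCat.of k)) F K ⁻¹' T) = Curv2.bcFst F Y K ⁻¹' T :=
      e.image_preimage (Curv2.bcFst F Y K ⁻¹' T)
    rwa [h2] at h
  let ι := (Scheme.IdealSheafData.vanishingIdeal
    (⟨T, isClosed_of_mem_irreducibleComponents T hT⟩ : TopologicalSpace.Closeds Y)).subschemeι
  refine ⟨geometrically_iff_of_commRing_of_isClosedUnderIsomorphisms.mpr fun L _ _ => ?_⟩
  haveI : Algebra.IsAlgebraic F K := Algebra.IsAlgebraic.tower_top (K := k) F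
  haveI : IsSepClosed K := SeparableClosure.isSepClosed k
  have hL := GeomField.isIrreducible_preimage_of_sepClosed (k := F) (X := Y) K hK L
  let p := Curv2.bcFst F Y L
  have hr : Set.range (pullback.snd ι p) = p ⁻¹' T := by
    rw [Scheme.Pullback.range_snd, Scheme.IdealSheafData.range_subschemeι,
      Scheme.IdealSheafData.coe_support_vanishingIdeal]
    rfl
  haveI : IsPreimmersion (pullback.snd ι p) := MorphismProperty.pullback_snd _ _ inferInstance
  rw [← hr, ← Set.image_univ, GeomField.isIrreducible_image_iff (pullback.snd ι p).isEmbedding.isInducing,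
    ← Set.top_eq_univ, ← irreducibleSpace_def] at hL
  exact (pullbackRightPullbackFstIso (Curv2.bcSnd k X F) (Spec.map (CommRingCat.ofHom (algebraMap F L))) ι).hom.homeomorph.irreducibleSpace_iff.1 hL

end Groth.Agent.S1654
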