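import Groth.Statements.S4626
import Groth.Agent.FBaseLib.Basic

set_option autoImplicit false
open CategoryTheory AlgebraicGeometry
universe u
open FBase

namespace Groth.Agent.S4626

open Groth.Agent CategoryTheory.Limits

/-- Let X be a scheme over a field k and K an extension field of k. Then X is geometrically reduced over
k if and only if X ⊗_k K, with its structure of K-scheme, is geometrically reduced over K. -/
theorem result {k K : Type u} [Field k] [Field K] [Algebra k K]
    {X : Scheme.{u}} (f : X ⟶ Spec (CommRingCat.of k)) :
    GeometricallyReduced f ↔ GeometricallyReduced (FBase.bcStr f K) := by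
  haveI := GrpSchLib.surjective_spec_map_field (algebraMap k K)
  refine ⟨fun _ => MorphismProperty.pullback_snd _ _ inferInstance, fun h => ⟨?_⟩⟩
  exact FBaseLib.geometrically_of_surjective (fun q _ _ hz => @FBaseLib.isReduced_of_flat_surjective _ _ q _ _ hz) f
    (Spec.map (CommRingCat.ofHom (algebraMap k K))) h.1

end Groth.Agent.S4626
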