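import Groth.Statements.S4627
import Groth.Agent.FBaseLib.Basic
import Groth.Agent.S4626

set_option autoImplicit false
open CategoryTheory AlgebraicGeometry
universe u
open FBase

namespace Groth.Agent.S4627

open Groth.Agent CategoryTheory.Limits

/-- Let X be a scheme over a field k and K an extension field of k. Then X is geometrically integral
over k if and only if X ⊗_k K, with its structure of K-scheme, is geometrically integral over K. -/
theorem result {k K : Type u} [Field k] [Field K] [Algebra k K]
    {X : Scheme.{u}} (f : X ⟶ Spec (CommRingCat.of k)) :
    GeometricallyIntegral f ↔ GeometricallyIntegral (FBase.bcStr f K) := by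
  haveI := GrpSchLib.surjective_spec_map_field (algebraMap k K)
  refine ⟨fun _ => MorphismProperty.pullback_snd _ _ inferInstance, fun h => ?_⟩
  haveI : GeometricallyReduced f :=
    (Groth.Agent.S4626.result f (K := K)).mpr inferInstance
  haveI : GeometricallyIrreducible f := ⟨FBaseLib.geometrically_of_surjective
    (fun q _ _ hz => @FBaseLib.irreducibleSpace_of_surjective _ _ q _ hz) f
    (Spec.map (CommRingCat.ofHom (algebraMap k K))) (inferInstance : GeometricallyIrreducible (FBase.bcStr f K)).1⟩
  exact GeometricallyIntegral.of_geometricallyReduced_of_geometricallyIrreducible f

end Groth.Agent.S4627
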