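import Groth.Statements.S1324
import Groth.Agent.GeomConn5.Comp
import Mathlib

set_option autoImplicit false
universe u
open FlatMor

set_option backward.isDefEq.respectTransparency false
set_option backward.isDefEq.respectTransparency.types false
set_option linter.style.haveILetI false

namespace Groth.Agent.S1324

open AlgebraicGeometry CategoryTheory Limits in
/-- Let f have a section s and form, for every point of the target, the connected component of the fibre
containing the value of the section; call the union of these the section components of (f, s). For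
any base change of f with the induced section, the section components upstairs are exactly the
preimage of the section components downstairs. -/
theorem result {X Y X' Y' : Scheme.{u}} (f : X ⟶ Y) (s : Y ⟶ X) (hs : s ≫ f = 𝟙 Y)
    (f' : X' ⟶ Y') (g' : X' ⟶ X) (g : Y' ⟶ Y) (hc : IsPullback g' f' f g)
    (s' : Y' ⟶ X') (hs' : s' ≫ f' = 𝟙 Y') (hs'g : s' ≫ g' = g ≫ s) :
    MoreMor.sectionComponents f' s' = g' ⁻¹' MoreMor.sectionComponents f s := by
  ext x'
  let y' := f' x'
  let y := g y'
  have hfy : f (g' x') = y := by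
    show (g' ≫ f) x' = (f' ≫ g) x'
    rw [hc.w]
  let k := Y.residueField y
  let K := Y'.residueField y'
  letI : Algebra k K := (g.residueFieldMap y').hom.toAlgebra
  let Xy := f.fiber y
  letI : Xy.Over (Spec (CommRingCat.of k)) := ⟨f.fiberToSpecResidueField y⟩
  let π : Curv2.bc k Xy K ⟶ Spec (Y'.residueField y') :=
    pullback.snd (f.fiberToSpecResidueField y) (Spec.map (CommRingCat.ofHom (algebraMap k K)))
  have hbc : IsPullback (Curv2.bcFst k Xy K) π (f.fiberToSpecResidueField y) (Spec.map (g.residueFieldMap y')) :=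
    IsPullback.of_hasPullback _ _
  let j : Curv2.bc k Xy K ⟶ f'.fiber y' := pullback.lift
    (hc.lift (Curv2.bcFst k Xy K ≫ f.fiberι y) (π ≫ Y'.fromSpecResidueField y') (by
      have h1 : f.fiberι y ≫ f = f.fiberToSpecResidueField y ≫ Y.fromSpecResidueField y := pullback.condition
      rw [Category.assoc, h1, reassoc_of% hbc.w, Category.assoc,
        Scheme.Hom.SpecMap_residueFieldMap_fromSpecResidueField]))
    π (hc.lift_snd _ _ _)
  have hjι : j ≫ f'.fiberι y' ≫ g' = Curv2.bcFst k Xy K ≫ f.fiberι y := by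
    show pullback.lift _ _ _ ≫ pullback.fst _ _ ≫ g' = _
    rw [pullback.lift_fst_assoc, hc.lift_fst]
  haveI : IsIso j := by
    have h1 : IsPullback (Curv2.bcFst k Xy K ≫ f.fiberι y) π f
        (Spec.map (g.residueFieldMap y') ≫ Y.fromSpecResidueField y) :=
      hbc.paste_horiz (IsPullback.of_hasPullback f (Y.fromSpecResidueField y))
    have h2 : IsPullback (f'.fiberι y' ≫ g') (f'.fiberToSpecResidueField y') f
        (Spec.map (g.residueFieldMap y') ≫ Y.fromSpecResidueField y) := by
      have := (IsPullback.of_hasPullback f' (Y'.fromSpecResidueField y')).paste_horiz hc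
      rwa [← Scheme.Hom.SpecMap_residueFieldMap_fromSpecResidueField] at this
    have e : j = (h1.isoIsPullback _ _ h2).hom := by
      refine h2.hom_ext ?_ ?_
      · rw [IsPullback.isoIsPullback_hom_fst]
        exact hjι
      · rw [IsPullback.isoIsPullback_hom_snd]
        exact pullback.lift_snd _ _ _
    rw [e]
    infer_instance
  have hJ : ∀ z, g' (f'.fiberι y' (j z)) = f.fiberι y (Curv2.bcFst k Xy K z) := fun z => by
    show (j ≫ f'.fiberι y' ≫ g') z = (Curv2.bcFst k Xy K ≫ f.fiberι y) z
    rw [hjι]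
  -- the rational point of the fibre
  let σ : Spec (CommRingCat.of k) ⟶ Xy := pullback.lift (Y.fromSpecResidueField y ≫ s) (𝟙 _)
    (by rw [Category.assoc, hs, Category.comp_id, Category.id_comp])
  let pt : Spec (CommRingCat.of k) := IsLocalRing.closedPoint k
  let x₀ : Xy := σ pt
  have hx₀ : f.fiberι y x₀ = s y := by
    show (σ ≫ f.fiberι y) pt = _
    have h1 : σ ≫ f.fiberι y = Y.fromSpecResidueField y ≫ s := pullback.lift_fst _ _ _
    rw [h1, Scheme.Hom.comp_apply]
    exact congrArg s (Scheme.fromSpecResidueField_apply _ _)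
  let σ' : Spec (Y'.residueField y') ⟶ Curv2.bc k Xy K :=
    pullback.lift (Spec.map (g.residueFieldMap y') ≫ σ) (𝟙 _) (by
      rw [Category.assoc, show σ ≫ Xy ↘ Spec (CommRingCat.of k) = 𝟙 _ from pullback.lift_snd _ _ _]
      exact (Category.comp_id _).trans (Category.id_comp _).symm)
  have hσ' : IsPullback σ' (Spec.map (g.residueFieldMap y')) (Curv2.bcFst k Xy K) σ := by
    refine IsPullback.of_right ?_ (pullback.lift_fst _ _ _) hbc.flip
    rw [show σ' ≫ π = 𝟙 _ from pullback.lift_snd _ _ _,
      show σ ≫ f.fiberToSpecResidueField y = 𝟙 _ from pullback.lift_snd _ _ _]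
    exact IsPullback.of_horiz_isIso ⟨(Category.id_comp _).trans (Category.comp_id _).symm⟩
  have hfib : Curv2.bcFst k Xy K ⁻¹' {x₀} ⊆ Set.range σ' := by
    intro z hz
    obtain ⟨o, ho, -⟩ := Scheme.exists_preimage_of_isPullback hσ' z pt hz
    exact ⟨o, ho⟩
  have hsub : (Set.range σ').Subsingleton := by
    rintro _ ⟨a, rfl⟩ _ ⟨b, rfl⟩
    exact congrArg σ' (Subsingleton.elim (α := PrimeSpectrum K) a b)
  have hconn := GeomConn5.isConnected_preimage_connectedComponent (k := k) (X := Xy) K x₀
    hsub.isPreconnected hfib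
  have hcomp : ∀ {W T : Scheme.{u}} (h : W ⟶ T) (t : T) (a b : ↥(h.fiber t)),
      h.fiberι t b ∈ connectedComponentIn (h ⁻¹' {t}) (h.fiberι t a) ↔ b ∈ connectedComponent a := by
    intro W T h t a b
    have hr : Set.range (h.fiberι t) = h ⁻¹' {t} := Scheme.Hom.range_fiberι h t
    have hA : h.fiberι t a ∈ h ⁻¹' {t} := hr.le ⟨a, rfl⟩
    rw [connectedComponentIn_eq_image hA]
    constructor
    · rintro ⟨⟨w, hw⟩, hwc, hwb⟩
      have h2 := ((h.fiberHomeo t).symm.continuous.image_connectedComponent_subset _) ⟨_, hwc, rfl⟩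
      rw [show (⟨h.fiberι t a, hA⟩ : ↥(h ⁻¹' {t})) = h.fiberHomeo t a from Subtype.ext rfl,
        show (⟨w, hw⟩ : ↥(h ⁻¹' {t})) = h.fiberHomeo t b from Subtype.ext hwb,
        Homeomorph.symm_apply_apply, Homeomorph.symm_apply_apply] at h2
      exact h2
    · intro hb
      exact ⟨h.fiberHomeo t b, ((h.fiberHomeo t).continuous.image_connectedComponent_subset a) ⟨b, hb, rfl⟩, rfl⟩
  obtain ⟨z, hz⟩ : ∃ z, f'.fiberι y' (j z) = x' := by
    obtain ⟨w, hw⟩ : x' ∈ Set.range (f'.fiberι y') := by rw [Scheme.Hom.range_fiberι]; rfl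
    obtain ⟨z, rfl⟩ := j.surjective w
    exact ⟨z, hw⟩
  obtain ⟨z₀, hz₀⟩ : ∃ z₀, f'.fiberι y' (j z₀) = s' y' := by
    obtain ⟨w, hw⟩ : s' y' ∈ Set.range (f'.fiberι y') := by
      rw [Scheme.Hom.range_fiberι]
      show (s' ≫ f') y' = y'
      rw [hs']; rfl
    obtain ⟨z, rfl⟩ := j.surjective w
    exact ⟨z, hw⟩
  have hz₀x : Curv2.bcFst k Xy K z₀ = x₀ := by
    apply (f.fiberι y).isEmbedding.injective
    rw [← hJ, hz₀, hx₀]
    show (s' ≫ g') y' = (g ≫ s) y'
    rw [hs'g]
  show x' ∈ connectedComponentIn (f' ⁻¹' {f' x'}) (s' (f' x')) ↔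
    g' x' ∈ connectedComponentIn (f ⁻¹' {f (g' x')}) (s (f (g' x')))
  have hgx : g' x' = f.fiberι y (Curv2.bcFst k Xy K z) := by rw [← hJ, hz]
  rw [hfy, hgx, ← hx₀, hcomp f y]
  change x' ∈ connectedComponentIn (f' ⁻¹' {y'}) (s' y') ↔ _
  rw [← hz, ← hz₀, hcomp f' y']
  have hjc : j z ∈ connectedComponent (j z₀) ↔ z ∈ connectedComponent z₀ := by
    constructor
    · intro h
      have := ((inv j).continuous.image_connectedComponent_subset _) ⟨_, h, rfl⟩
      have e : ∀ w, inv j (j w) = w := fun w => by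
        show (j ≫ inv j) w = _
        rw [IsIso.hom_inv_id]; rfl
      rwa [e, e] at this
    · exact fun h => (j.continuous.image_connectedComponent_subset z₀) ⟨z, h, rfl⟩
  rw [hjc]
  constructor
  · intro h
    have := ((Curv2.bcFst k Xy K).continuous.image_connectedComponent_subset z₀) ⟨z, h, rfl⟩
    rwa [hz₀x] at this
  · intro h
    exact (hconn.isPreconnected.subset_connectedComponent (show z₀ ∈ _ from hz₀x ▸ mem_connectedComponent)) h

end Groth.Agent.S1324
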