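import Groth.Statements.S6333
import Mathlib.FieldTheory.IntermediateField.Adjoin.Algebra
import Mathlib.RingTheory.AlgebraicIndependent.AlgebraicClosure
import Mathlib.RingTheory.AlgebraicIndependent.TranscendenceBasis
import Mathlib.FieldTheory.AlgebraicClosure
import Mathlib.RingTheory.Localization.Module

set_option autoImplicit false
universe u
open Fields

namespace Groth.Agent.S6333
open scoped IntermediateField.algebraAdjoinAdjoin

/-- For a finitely generated field extension K/k, the algebraic closure of k inside K is a finite
extension of k. -/
theorem result {k K : Type u} [Field k] [Field K] [Algebra k K]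
    (hfg : (⊤ : IntermediateField k K).FG) :
    FiniteDimensional k (algebraicClosure k K) := by
  classical
  obtain ⟨ι, T, hT⟩ := exists_isTranscendenceBasis' k K
  let F := IntermediateField.adjoin k (Set.range T)
  haveI : Algebra.IsAlgebraic F K := hT.isAlgebraic_field
  haveI : Algebra.EssFiniteType k K := IntermediateField.fg_top_iff.1 hfg
  haveI : Algebra.EssFiniteType F K := Algebra.EssFiniteType.of_comp k F K
  haveI : Module.Finite F K := Algebra.finite_of_essFiniteType_of_isAlgebraic
  let E := algebraicClosure k K
  haveI : Algebra.IsAlgebraic k E := algebraicClosure.isAlgebraic k K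
  have hTE : AlgebraicIndependent E T := hT.1.algebraicClosure
  let b := Module.Basis.ofVectorSpace k E
  have hli : LinearIndependent F (fun i => (b i : K)) := by
    refine (LinearIndependent.iff_fractionRing (Algebra.adjoin k (Set.range T)) F).1 ?_
    rw [linearIndependent_iff']
    intro s g hg i hi
    have hP : ∀ j, ∃ P : MvPolynomial ι k, MvPolynomial.aeval T P = (g j : K) := fun j => by
      exact (Algebra.adjoin_range_eq_range_aeval k T).le (g j).2
    choose P hP using hP
    let Q : MvPolynomial ι E := ∑ j ∈ s, MvPolynomial.C (b j) * MvPolynomial.map (algebraMap k E) (P j)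
    have hQ : MvPolynomial.aeval T Q = 0 := by
      rw [map_sum, ← hg]
      refine Finset.sum_congr rfl fun j _ => ?_
      rw [map_mul, MvPolynomial.aeval_C, MvPolynomial.aeval_map_algebraMap, hP, mul_comm]
      rfl
    have hQ0 : Q = 0 := hTE.eq_zero_of_aeval_eq_zero Q hQ
    have hPi : P i = 0 := by
      ext d
      have h := congrArg (MvPolynomial.coeff d) hQ0
      simp only [Q, MvPolynomial.coeff_sum, MvPolynomial.coeff_C_mul, MvPolynomial.coeff_map, MvPolynomial.coeff_zero] at h
      have := linearIndependent_iff'.1 b.linearIndependent s (fun j => (P j).coeff d) (by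
        rw [← h]
        exact Finset.sum_congr rfl fun j _ => by rw [Algebra.smul_def, mul_comm]) i hi
      simpa using this
    exact Subtype.ext (by rw [← hP i, hPi, map_zero]; rfl)
  haveI : Finite (Module.Basis.ofVectorSpaceIndex k E) := hli.finite
  exact Module.Finite.of_basis b

end Groth.Agent.S6333
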