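import Groth.Statements.S0419
import Groth.Agent.GeomComp5.NonNoeth
import Groth.Agent.GeomField.Irreducible
-- import your own Groth.Agent.* helpers here

set_option autoImplicit false
universe u
open FlatMor

namespace Groth.Agent.S0419

set_option backward.isDefEq.respectTransparency false
set_option backward.isDefEq.respectTransparency.types false

open AlgebraicGeometry CategoryTheory Limits in
/-- For a morphism of finite type to an irreducible scheme whose generic fibre is geometrically
irreducible, all fibres over some nonempty open of the target are geometrically irreducible. -/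
theorem result {X Y : Scheme.{u}} (f : X ⟶ Y) [IrreducibleSpace ↑Y] [LocallyOfFiniteType f] [QuasiCompact f]
    (h : GeometricallyIrreducible (f.fiberToSpecResidueField (genericPoint ↑Y))) :
    ∃ V : Y.Opens, (V : Set ↑Y).Nonempty ∧ GeometricallyIrreducible (f ∣_ V) := by
  haveI := h
  obtain ⟨U, hU, hηU, hUc⟩ := GeomComp5.near_generic_irreducible f
  refine ⟨⟨U, hU⟩, ⟨_, hηU⟩, (GeometricallyIrreducible.iff_geometricallyIrreducible_fiber _).2 fun t => ?_⟩
  let V : Y.Opens := ⟨U, hU⟩
  have h1 : MoreMor.nGeomIrredComp f (genericPoint ↑Y) = 1 := by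
    haveI : IrreducibleSpace ↥(MoreMor.geomFiber f (genericPoint ↑Y)) :=
      GeometricallyIrreducible.geometrically_irreducibleSpace (f := f.fiberToSpecResidueField _) _ _ _
        (.of_hasPullback _ _)
    show (irreducibleComponents ↥(MoreMor.geomFiber f (genericPoint ↑Y))).encard = 1
    rw [irreducibleComponents_eq_singleton]
    exact Set.encard_singleton _
  have h2 : MoreMor.nGeomIrredComp (f ∣_ V) t = 1 := by
    rw [S1334.result f _ _ _ (isPullback_morphismRestrict f V).flip t]
    exact (hUc _ t.2).1.trans h1
  letI : ((f ∣_ V).fiber t).Over (Spec (CommRingCat.of (V.toScheme.residueField t))) :=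
    ⟨(f ∣_ V).fiberToSpecResidueField t⟩
  refine GeomField.geometricallyIrreducible_of_separableClosure (k := V.toScheme.residueField t)
    (X := (f ∣_ V).fiber t) ?_
  show IrreducibleSpace ↥(MoreMor.geomFiber (f ∣_ V) t)
  obtain ⟨C, hC⟩ := Set.encard_eq_one.1 h2
  have hcov : C = Set.univ := by
    refine Set.eq_univ_of_forall fun z => ?_
    have : irreducibleComponent z = C := by
      simpa [hC] using irreducibleComponent_mem_irreducibleComponents z
    exact this ▸ mem_irreducibleComponent
  exact irreducibleSpace_def _ |>.2 (Set.top_eq_univ.symm ▸ hcov ▸ (hC.ge rfl : C ∈ irreducibleComponents _).1)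

end Groth.Agent.S0419
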