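import Groth.Statements.S3410
import Groth.Agent.Equidim5.Branch
-- import your own Groth.Agent.* helpers here

set_option autoImplicit false
open CategoryTheory AlgebraicGeometry
universe u
open EGA43

namespace Groth.Agent.S3410

set_option backward.isDefEq.respectTransparency false
set_option backward.isDefEq.respectTransparency.types false

/-- Let Y be locally Noetherian, f : X ⟶ Y locally of finite type, x a point of X and y = f x. Suppose f
is universally open at the generic point of every irreducible component of X_y through x, X_y is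
geometrically pointwise integral at x, and O_{Y,y} is geometrically unibranch. Then x lies on
exactly one irreducible component of X. If moreover O_{Y,y} is a domain, then O_{X,x} is a domain
and O_{Y,y} ⟶ O_{X,x} is flat. -/
theorem result {X Y : Scheme.{u}} [IsLocallyNoetherian Y]
    (f : X ⟶ Y) [LocallyOfFiniteType f] (x : X)
    (hopen : ∀ z : ↥(f.fiber (f.base x)), f.asFiber x ∈ closure {z} →
      (∀ z' : ↥(f.fiber (f.base x)), z ∈ closure {z'} → z' = z) →
      EGA43.IsUnivOpenAt f ((f.fiberι (f.base x)).base z))
    (hint : FBase.IsGeomPtIntegralAt (f.fiberToSpecResidueField (f.base x)) (f.asFiber x))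
    (hY : CAlg2.IsGeomUnibranch (Y.presheaf.stalk (f.base x))) :
    (∃! Z : Set X, Z ∈ irreducibleComponents (X : Type u) ∧ x ∈ Z) ∧
      (IsDomain (Y.presheaf.stalk (f.base x)) → IsDomain (X.presheaf.stalk x) ∧ (f.stalkMap x).hom.Flat) := by
  haveI := LocallyOfFiniteType.isLocallyNoetherian f
  obtain ⟨η, hη, hηmax⟩ := FibDim.exists_maximal_generization x
  refine ⟨⟨closure {η}, ⟨FDescent.closure_mem_irreducibleComponents hηmax, specializes_iff_mem_closure.1 hη⟩, ?_⟩,
    Equidim5.isDomain_stalk_and_flat f x hopen hint hY⟩
  rintro Z ⟨hZ, hxZ⟩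
  obtain ⟨η', rfl, hη'max⟩ := FDescent.exists_maximal_of_mem_irreducibleComponents hZ
  rw [Equidim5.eq_of_maximal f x hopen hint hY hη (specializes_iff_mem_closure.2 hxZ) hηmax hη'max]

end Groth.Agent.S3410
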