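import Groth.Statements.S4631
import Groth.Agent.FBaseLib.Point

set_option autoImplicit false
open CategoryTheory AlgebraicGeometry
universe u
open FBase

namespace Groth.Agent.S4631

open Groth.Agent CategoryTheory.Limits

/-- Let X be a scheme over an algebraically closed field k and x a point of X. Then X is geometrically
pointwise integral at x over k if and only if the local ring of X at x is a domain. -/
theorem result {k : Type u} [Field k] [IsAlgClosed k] {X : Scheme.{u}}
    (f : X ⟶ Spec (CommRingCat.of k)) (x : X) :
    FBase.IsGeomPtIntegralAt f x ↔ IsDomain ↑(X.presheaf.stalk x) := by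
  refine ⟨fun h => ?_, fun h K _ _ x' hx' => FBaseLib.isDomain_stalk_bc f K x' (hx'.symm ▸ h)⟩
  haveI : IsIso (FBase.bcπ f k) := by
    haveI : IsIso (Spec.map (CommRingCat.ofHom (algebraMap k k))) := by
      rw [Algebra.algebraMap_self, CommRingCat.ofHom_id, Spec.map_id]
      infer_instance
    exact MorphismProperty.pullback_fst (P := MorphismProperty.isomorphisms Scheme) _ _ (inferInstance : IsIso (Spec.map (CommRingCat.ofHom (algebraMap k k))))
  obtain ⟨x', hx'⟩ := (FBaseLib.surjective_bcπ f k).surj x
  exact hx' ▸ (FBaseLib.isDomain_stalk_iff_of_isOpenImmersion (FBase.bcπ f k) x').mpr (h k x' hx')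

end Groth.Agent.S4631
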