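import Groth.Agent.IsoNatLib.TriRep
import Groth.Agent.AlgStLib.SepDiag
import Groth.Agent.AlgStLib.DiagLFT
import Groth.Agent.GrpSchLib.Affinization
import Groth.Agent.AlgSpLib.LocP
import Groth.Prelude.Def_StGerb2

/-!
# Stabilizers of stacks with quasi-affine diagonal are affine
-/

set_option autoImplicit false
set_option backward.isDefEq.respectTransparency false
set_option backward.isDefEq.respectTransparency.types false

universe u

open CategoryTheory CategoryTheory.Functor CategoryTheory.Limits AlgebraicGeometry Opposite AlgSp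
  Groth.Agent.FibBase Groth.Agent.AlgSpLib Groth.Agent.AlgStLib

namespace Groth.Agent.GerbAffineStab

variable {S : Scheme.{u}} {𝒳 : AlgSt.Cat S} [FibCat.IsFibGrpd 𝒳.p]

/-- An automorphism, in the fibre over the named base object. -/
noncomputable def toFib {V : Over S} {x : FibCat.overCat V ⥤ᵇ 𝒳} {T : Over S} {h : T ⟶ V}
    (α : Gerb.AutO (x.obj (Over.mk h))) :
    @Iso (𝒳.p.Fiber T) _ (IsoNatLib.fib x (Over.mk h)) (IsoNatLib.fib x (Over.mk h)) :=
  fiberIsoMk (a := IsoNatLib.fib x (Over.mk h)) (b := IsoNatLib.fib x (Over.mk h)) (ofFiberIso (a := Gerb.fib (x.obj (Over.mk h))) (b := Gerb.fib (x.obj (Over.mk h))) α)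
    (isHomLift_id_congr (x.w_obj (Over.mk h)) α.hom.2)

/-- An automorphism in the fibre, as an automorphism of the object. -/
noncomputable def ofFib {V : Over S} {x : FibCat.overCat V ⥤ᵇ 𝒳} {T : Over S} {h : T ⟶ V}
    (δ : @Iso (𝒳.p.Fiber T) _ (IsoNatLib.fib x (Over.mk h)) (IsoNatLib.fib x (Over.mk h))) :
    Gerb.AutO (x.obj (Over.mk h)) :=
  fiberIsoMk (a := Gerb.fib (x.obj (Over.mk h))) (b := Gerb.fib (x.obj (Over.mk h))) (ofFiberIso (a := IsoNatLib.fib x (Over.mk h)) (b := IsoNatLib.fib x (Over.mk h)) δ)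
    (isHomLift_id_congr (x.w_obj (Over.mk h)).symm δ.hom.2)

theorem toFib_ofFib {V : Over S} {x : FibCat.overCat V ⥤ᵇ 𝒳} {T : Over S} {h : T ⟶ V}
    (δ : @Iso (𝒳.p.Fiber T) _ (IsoNatLib.fib x (Over.mk h)) (IsoNatLib.fib x (Over.mk h))) :
    toFib (ofFib δ) = δ := Iso.ext (Subtype.ext rfl)

theorem toFib_injective {V : Over S} {x : FibCat.overCat V ⥤ᵇ 𝒳} {T : Over S} {h : T ⟶ V} :
    Function.Injective (toFib (x := x) (h := h)) := fun _ _ e =>
  Aut.ext (Subtype.ext (congrArg (fun i => i.hom.1) e : _))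

theorem iso_of_autRep {V : Over S} {x : FibCat.overCat V ⥤ᵇ 𝒳} (G : Over V.left) [GrpObj G]
    (r : Gerb.AutRep x (Gerb.ptsGrp V G)) (R : IsoNatLib.AutRep x) :
    ∃ e : (yon S).obj (Over.mk (G.hom ≫ V.hom)) ≅ R.F.obj,
      e.hom ≫ R.a = (yon S).map (Over.homMk G.hom rfl) := by
  let Gs : Over S := Over.mk (G.hom ≫ V.hom)
  let g0 : Gs ⟶ V := Over.homMk G.hom rfl
  let T0 : Over V := Over.mk g0
  let a0 : (Gerb.ptsGrp V G).obj (op T0) :=
    (Over.homMk (𝟙 G.left) (Category.id_comp _) : (Over.iteratedSliceForward V).obj T0 ⟶ G)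
  let t0 : IsoNatLib.Tri x x Gs := ⟨g0, g0, toFib (r.iso T0 a0)⟩
  have keyres : ∀ {T : Over S} (φ : T ⟶ Gs), t0.res φ =
      ⟨φ ≫ g0, φ ≫ g0, toFib (r.iso (Over.mk (φ ≫ g0))
        ((Gerb.ptsGrp V G).map (IsoNatLib.ovHom φ g0).op a0))⟩ := by
    intro T φ
    refine (IsoNatLib.IsRes.eq (t := t0) (t' := ⟨φ ≫ g0, φ ≫ g0, toFib (r.iso (Over.mk (φ ≫ g0))
        ((Gerb.ptsGrp V G).map (IsoNatLib.ovHom φ g0).op a0))⟩) ⟨IsoNatLib.ovHom φ g0, IsoNatLib.ovHom φ g0, rfl, rfl, ?_⟩).symm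
    exact r.natural (IsoNatLib.ovHom φ g0) a0
  have hpt : ∀ {T : Over S} (φ : T ⟶ Gs), (yon S).map φ ≫ R.pt t0 rfl = R.pt (t0.res φ) rfl :=
    fun φ => (R.pt_res t0 rfl φ).symm
  let κ : (yon S).obj Gs ⟶ R.F.obj := R.pt t0 rfl
  have hbij : ∀ T : Over S, Function.Bijective (fun m : (yon S).obj T ⟶ (yon S).obj Gs => m ≫ κ) := by
    intro T
    constructor
    · intro m m' h
      obtain ⟨φ, rfl⟩ := (yon S).map_surjective m
      obtain ⟨φ', rfl⟩ := (yon S).map_surjective m'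
      have h2 : R.pt (t0.res φ) rfl = R.pt (t0.res φ') rfl := by rw [← hpt, ← hpt]; exact h
      have h3 := R.pt_inj h2
      rw [keyres, keyres] at h3
      have hh : φ ≫ g0 = φ' ≫ g0 := congrArg IsoNatLib.Tri.h h3
      refine congrArg _ (Over.OverMorphism.ext ?_)
      have : ∀ (h₁ h₂ : T ⟶ V) (_ : h₁ = h₂) (α : T.left ⟶ G.left) (α' : T.left ⟶ G.left)
          (hα : α ≫ G.hom = h₁.left) (hα' : α' ≫ G.hom = h₂.left),
          (⟨h₁, h₁, toFib (r.iso (Over.mk h₁) (Over.homMk α hα))⟩ : IsoNatLib.Tri x x T) =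
            ⟨h₂, h₂, toFib (r.iso (Over.mk h₂) (Over.homMk α' hα'))⟩ → α = α' := by
        rintro h₁ _ rfl α α' hα hα' e
        injection e with _ _ e
        exact congrArg (fun t => t.left) ((r.iso (Over.mk h₁)).injective (toFib_injective (eq_of_heq (heq_of_eq e))))
      exact this _ _ hh _ _ rfl rfl (by
        convert h3 using 3
        · exact congrArg _ (Over.OverMorphism.ext (Category.comp_id _).symm)
        · exact congrArg _ (Over.OverMorphism.ext (Category.comp_id _).symm))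
    · intro τ
      obtain ⟨⟨h, g, δ⟩, e, rfl⟩ := R.pt_surj τ
      dsimp only at e
      subst e
      let a : (Over.iteratedSliceForward V).obj (Over.mk g) ⟶ G := (r.iso (Over.mk g)).symm (ofFib δ)
      let φ : T ⟶ Gs := Over.homMk a.left (by
        show a.left ≫ G.hom ≫ V.hom = T.hom
        rw [← Category.assoc, Over.w a]
        exact Over.w g)
      have hφ : φ ≫ g0 = g := Over.OverMorphism.ext (Over.w a)
      refine ⟨(yon S).map φ, ?_⟩
      show (yon S).map φ ≫ κ = _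
      rw [hpt]
      congr 1
      refine (IsoNatLib.IsRes.eq (t := t0) (t' := ⟨g, g, δ⟩) ⟨Over.homMk (U := Over.mk g) (V := T0) φ hφ, Over.homMk (U := Over.mk g) (V := T0) φ hφ, rfl, rfl, ?_⟩).symm
      have := r.natural (Over.homMk φ hφ : Over.mk g ⟶ T0) a0
      have hp : (Gerb.ptsGrp V G).map (Over.homMk φ hφ : Over.mk g ⟶ T0).op a0 = a :=
        Over.OverMorphism.ext (Category.comp_id _)
      rw [hp, show r.iso (Over.mk g) a = ofFib δ from (r.iso (Over.mk g)).apply_symm_apply (ofFib δ)] at this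
      exact this
  have : IsIso κ := by
    have hnat : ∀ T : (Over S)ᵒᵖ, IsIso (κ.hom.app T) := by
      rintro ⟨T⟩
      rw [CategoryTheory.isIso_iff_bijective]
      let E : ((yon S).obj T ⟶ (yon S).obj Gs) ≃ ((yon S).obj Gs).obj.obj (op T) := (J S).uliftYonedaEquiv
      let E' : ((yon S).obj T ⟶ R.F.obj) ≃ R.F.obj.obj.obj (op T) := (J S).uliftYonedaEquiv
      have : (κ.hom.app (op T) : _ → _) = fun s => E' (E.symm s ≫ κ) := funext fun s => by
        simp only [E, E', GrothendieckTopology.uliftYonedaEquiv_comp, Equiv.apply_symm_apply]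
      rw [this]
      exact E'.bijective.comp ((hbij T).comp E.symm.bijective)
    have : IsIso κ.hom := NatIso.isIso_of_isIso_app _
    have : IsIso ((sheafToPresheaf (J S) (Type (u + 1))).map κ) := ‹IsIso κ.hom›
    exact isIso_of_reflects_iso κ (sheafToPresheaf (J S) (Type (u + 1)))
  exact ⟨asIso κ, R.pt_a t0 rfl⟩

theorem isAffine_stabilizer (h𝒳 : AlgSt.IsAlgStack Scheme.fppfPrecoverage 𝒳)
    (hΔ : AlgSt.RepByAlgSpWith AlgSp.IsQuasiAffineMor (FibCat.diag (FibCat.toSelf 𝒳)))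
    (k : Type u) [Field k] (p : Spec (CommRingCat.of k) ⟶ S)
    (x : FibCat.overCat (Over.mk p) ⥤ᵇ 𝒳) (G : Over (Over.mk p).left) [GrpObj G]
    (r : Gerb.AutRep x (Gerb.ptsGrp (Over.mk p) G)) :
    IsAffine G.left ∧ LocallyOfFiniteType G.hom := by
  obtain ⟨R₁, hR₁⟩ := IsoNatLib.exists_autRep (v := x) (repByAlgSpWith_inertiaToBase _ hΔ)
  obtain ⟨R₂, hR₂⟩ := IsoNatLib.exists_autRep (v := x)
    (repByAlgSpWith_inertiaToBase _ (repByAlgSpWith_lft_diag_toSelf h𝒳.diag h𝒳.atlas))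
  obtain ⟨e₁, he₁⟩ := iso_of_autRep G r R₁
  obtain ⟨e₂, he₂⟩ := iso_of_autRep G r R₂
  have hlft : LocallyOfFiniteType G.hom := by
    have : LocP @LocallyOfFiniteType (e₂.hom ≫ R₂.a) :=
      locP_of_isPullback (IsPullback.of_horiz_isIso ⟨by simp⟩ : IsPullback e₂.hom (e₂.hom ≫ R₂.a) R₂.a (𝟙 _))
        R₂.F.property (IsAlgSpace.yon_obj _) (IsAlgSpace.yon_obj _) hR₂
    rw [he₂] at this
    exact locP_yon_map (P := @LocallyOfFiniteType) this
  refine ⟨?_, hlft⟩
  obtain ⟨W, i, fst, sq, hW⟩ := hR₁ (Z := Over.mk p) (inferInstanceAs (IsAffine (Spec _))) (𝟙 _)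
  have : IsIso fst := sq.isIso_fst_of_isIso
  obtain ⟨w, hw⟩ := (yon S).map_surjective (fst ≫ e₁.inv)
  have : IsIso ((yon S).map w) := hw ▸ inferInstance
  have : IsIso w := isIso_of_fully_faithful (yon S) w
  have hq : G.left.IsQuasiAffine := by
    have : W.left.IsQuasiAffine := hW
    have : IsIso w.left := inferInstanceAs (IsIso ((Over.forget S).map w))
    have : CompactSpace W.left := (by infer_instance)
    have : CompactSpace G.left := (w.left.homeomorph).compactSpace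
    exact Scheme.IsQuasiAffine.of_isImmersion (inv w).left
  have : CompactSpace G.left := hq.toCompactSpace
  have : QuasiCompact G.hom := (HasAffineProperty.iff_of_isAffine (P := @QuasiCompact) (Y := Spec (CommRingCat.of k)) (f := G.hom)).2 (show CompactSpace G.left from inferInstance)
  haveI := hlft
  have hs : Surjective G.left.toSpecΓ := (GrpSchLib.Affinization.toSpecΓ_flat_surjective (k := k) G).1
  have : IsOpenImmersion G.left.toSpecΓ := inferInstance
  have : Function.Surjective G.left.toSpecΓ := hs.surj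
  have : IsIso G.left.toSpecΓ := (isIso_iff_isOpenImmersion_and_epi_base _).2
    ⟨inferInstance, (TopCat.epi_iff_surjective _).2 this⟩
  exact IsAffine.of_isIso G.left.toSpecΓ

end Groth.Agent.GerbAffineStab
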