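import Groth.Agent.VarDim.Proj
import Groth.Agent.HSLib.Samuel
import Groth.Agent.TFCurvLib.ExtOne
import Groth.Statements.S10907
-- import your own Groth.Agent.* helpers here

set_option autoImplicit false
universe u
open Polynomial
open ProjDeg

noncomputable section

namespace Groth.Agent.S10907

section helpers

open MvPolynomial Groth.Agent Finset

variable {k : Type u} [Field k] {n : ℕ}

local notation "R" => MvPolynomial (Fin (n + 1)) k
local notation "G" => homogeneousSubmodule (Fin (n + 1)) k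
local notation "𝔪" => VarDim.ProjN.vertex k n

lemma vertex_eq : 𝔪 = idealOfVars (Fin (n + 1)) k := by
  ext p
  rw [VarDim.ProjN.vertex, RingHom.mem_ker]
  conv_rhs => rw [← pow_one (idealOfVars (Fin (n + 1)) k), mem_pow_idealOfVars_iff']
  constructor
  · intro h x hx
    rw [(Finsupp.degree_eq_zero_iff x).mp (by omega)]
    exact h
  · intro h
    exact h 0 (by simp)

instance finite_piece (j : ℕ) : Module.Finite k (G j) := by
  haveI : Module.Finite k (restrictTotalDegree (Fin (n + 1)) k j) := inferInstance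
  exact Submodule.finiteDimensional_of_le (S₂ := restrictTotalDegree (Fin (n + 1)) k j) fun p hp => by
    rw [mem_restrictTotalDegree]
    exact IsHomogeneous.totalDegree_le hp

/-- The graded piece of a quotient. -/
abbrev piece (I : Ideal R) (j : ℕ) : Type u := ↥(G j) ⧸ (Submodule.restrictScalars k I).comap (G j).subtype

/-- The first `t` graded pieces of a class. -/
def comps (I : Ideal R) (t : ℕ) : R →ₗ[k] ((j : Fin t) → piece I j.1) :=
  LinearMap.pi fun j => (Submodule.mkQ _).comp
    ((homogeneousComponent j.1).codRestrict (G j.1) fun p => homogeneousComponent_mem j.1 p)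

lemma comps_apply (I : Ideal R) (t : ℕ) (p : R) (j : Fin t) :
    comps I t p j = Submodule.Quotient.mk ⟨homogeneousComponent j.1 p, homogeneousComponent_mem j.1 p⟩ := rfl

lemma comps_surjective (I : Ideal R) (t : ℕ) : Function.Surjective (comps I t) := by
  classical
  intro v
  choose a ha using fun j : Fin t => Submodule.Quotient.mk_surjective _ (v j)
  refine ⟨∑ j, (a j : R), funext fun j => ?_⟩
  rw [comps_apply, ← ha j]
  congr 1
  apply Subtype.ext
  show homogeneousComponent j.1 (∑ i, (a i : R)) = a j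
  rw [map_sum, Finset.sum_eq_single j (fun i _ hij => ?_) (fun h => absurd (mem_univ j) h),
    homogeneousComponent_of_mem (a j).2, if_pos rfl]
  rw [homogeneousComponent_of_mem (a i).2, if_neg fun h => hij (Fin.ext h).symm]

lemma ker_comps (I : Ideal R) (hI : I.IsHomogeneous (CohB1.polyGrading n k)) (t : ℕ) (p : R) :
    comps I t p = 0 ↔ p ∈ I ⊔ 𝔪 ^ t := by
  rw [funext_iff]
  constructor
  · intro h
    rw [← sum_homogeneousComponent p]
    refine Ideal.sum_mem _ fun i _ => ?_
    rcases Nat.lt_or_ge i t with hi | hi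
    · refine Ideal.mem_sup_left ?_
      have := h ⟨i, hi⟩
      rw [comps_apply, Pi.zero_apply, Submodule.Quotient.mk_eq_zero] at this
      exact this
    · refine Ideal.mem_sup_right ?_
      rw [vertex_eq, mem_pow_idealOfVars_iff']
      intro x hx
      rw [coeff_homogeneousComponent, if_neg (by omega)]
  · intro h j
    obtain ⟨a, ha, b, hb, rfl⟩ := Submodule.mem_sup.mp h
    rw [comps_apply, Pi.zero_apply, Submodule.Quotient.mk_eq_zero]
    show homogeneousComponent j.1 (a + b) ∈ I
    rw [vertex_eq, mem_pow_idealOfVars_iff'] at hb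
    have hb0 : homogeneousComponent j.1 b = 0 := homogeneousComponent_eq_zero' _ _ fun x hx => by
      have := mem_support_iff.mp hx
      intro hd
      exact this (hb x (by omega))
    rw [map_add, hb0, add_zero, ← VarDim.ProjN.proj_apply]
    exact hI j.1 ha

lemma finrank_piece (I : Ideal R) (j : ℕ) : (Module.finrank k (piece I j) : ℚ) =
    (Module.finrank k ↥(G j) : ℚ) - Module.finrank k ↥(Submodule.restrictScalars k I ⊓ G j) := by
  have h := Submodule.finrank_quotient_add_finrank ((Submodule.restrictScalars k I).comap (G j).subtype)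
  have e : Module.finrank k ↥((Submodule.restrictScalars k I).comap (G j).subtype) =
      Module.finrank k ↥(Submodule.restrictScalars k I ⊓ G j) := by
    rw [← Submodule.finrank_map_subtype_eq, Submodule.map_comap_subtype, inf_comm]
  rw [e] at h
  rw [← h]
  push_cast
  ring

lemma nonempty_equiv_of_ker_eq {K : Type*} [Semiring K] {V W₁ W₂ : Type*} [AddCommGroup V] [Module K V]
    [AddCommMonoid W₁] [Module K W₁] [AddCommMonoid W₂] [Module K W₂] (ψ : V →ₗ[K] W₁) (φ : V →ₗ[K] W₂)
    (hψ : Function.Surjective ψ) (hφ : Function.Surjective φ)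
    (h : ∀ a, ψ a = 0 ↔ φ a = 0) :
    Nonempty (W₁ ≃ₗ[K] W₂) := by
  have trans : ∀ a b, ψ a = ψ b → φ a = φ b := fun a b e => by
    have h0 : ψ (a - b) + ψ b = ψ b := by rw [← map_add, sub_add_cancel, e]
    obtain ⟨c, hc⟩ := hψ (ψ a)
    have h1 : ψ (a - b) = 0 := by
      have hz : ψ b + ψ (-b) = 0 := by rw [← map_add, add_neg_cancel, map_zero]
      calc ψ (a - b) = ψ (a - b) + (ψ b + ψ (-b)) := by rw [hz, add_zero]
        _ = ψ b + ψ (-b) := by rw [← add_assoc, h0]
        _ = 0 := hz
    rw [← sub_add_cancel a b, map_add, (h _).mp h1, zero_add]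
  have trans' : ∀ a b, φ a = φ b → ψ a = ψ b := fun a b e => by
    have hz : φ b + φ (-b) = 0 := by rw [← map_add, add_neg_cancel, map_zero]
    have h1 : φ (a - b) = 0 := by rw [sub_eq_add_neg, map_add, e, hz]
    rw [← sub_add_cancel a b, map_add, (h _).mpr h1, zero_add]
  let T : W₁ →ₗ[K] W₂ :=
    { toFun := fun w => φ (Function.surjInv hψ w)
      map_add' := fun x y => by
        rw [← map_add]
        exact trans _ _ (by rw [map_add, Function.surjInv_eq hψ, Function.surjInv_eq hψ, Function.surjInv_eq hψ])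
      map_smul' := fun c x => by
        rw [RingHom.id_apply, ← map_smul]
        exact trans _ _ (by rw [map_smul, Function.surjInv_eq hψ, Function.surjInv_eq hψ]) }
  refine ⟨LinearEquiv.ofBijective T ⟨fun x y e => ?_, fun w => ?_⟩⟩
  · rw [← Function.surjInv_eq hψ x, ← Function.surjInv_eq hψ y]
    exact trans' _ _ e
  · obtain ⟨v, rfl⟩ := hφ w
    exact ⟨ψ v, trans _ _ (Function.surjInv_eq hψ (ψ v))⟩

lemma finrank_pieces (I : Ideal R) (t : ℕ) : Module.finrank k ((j : Fin t) → piece I j.1) =
    ∑ j ∈ Finset.range t, Module.finrank k (piece I j) := by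
  haveI : ∀ i : Fin t, Module.Free k (piece I i.1) := fun i => Module.Free.of_divisionRing k (piece I i.1)
  rw [Module.finrank_pi_fintype, Fin.sum_univ_eq_sum_range (fun j => Module.finrank k (piece I j))]

/-- The local ring of the vertex modulo `I`. -/
abbrev locQuot (I : Ideal R) : Type u :=
  Localization.AtPrime 𝔪 ⧸ I.map (algebraMap R (Localization.AtPrime 𝔪))

set_option maxHeartbeats 800000 in
lemma hs_eq (I : Ideal R) (hI : I.IsHomogeneous (CohB1.polyGrading n k)) (hIm : I ≤ 𝔪) (t : ℕ) :
    HSLib.hs (Ring.jacobson (Localization.AtPrime 𝔪)) (locQuot I) t =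
      ∑ j ∈ Finset.range t, Module.finrank k (piece I j) := by
  classical
  set A := Localization.AtPrime 𝔪 with hA
  rcases Nat.eq_zero_or_pos t with rfl | ht
  · haveI : Subsingleton (locQuot I ⧸ (Ring.jacobson A ^ 0 • (⊤ : Submodule A (locQuot I)))) :=
      Submodule.Quotient.subsingleton_iff.mpr (by simp)
    simp [HSLib.hs, Module.length_eq_zero]
  let f := algebraMap R A
  let S : Ideal A := I.map f ⊔ IsLocalRing.maximalIdeal A ^ t
  have hsmul : Ring.jacobson A ^ t • (⊤ : Submodule A (locQuot I)) =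
      Submodule.map (I.map f).mkQ (IsLocalRing.maximalIdeal A ^ t) := by
    rw [IsLocalRing.ringJacobson_eq_maximalIdeal, ← Submodule.map_top (I.map f).mkQ |>.trans (Submodule.range_mkQ _),
      ← Submodule.map_smul'', Ideal.smul_eq_mul, Ideal.mul_top]
  have hlen : Module.length A (locQuot I ⧸ (Ring.jacobson A ^ t • (⊤ : Submodule A (locQuot I)))) =
      Module.length A (A ⧸ S) :=
    ((Submodule.quotEquivOfEq _ _ hsmul).trans
      (Submodule.quotientQuotientEquivQuotientSup (I.map f) (IsLocalRing.maximalIdeal A ^ t))).length_eq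
  have hS : S = (I ⊔ 𝔪 ^ t).map f := by
    rw [Ideal.map_sup, Ideal.map_pow, Localization.AtPrime.map_eq_maximalIdeal]
  let ψ : R →ₗ[k] A ⧸ S := ((Ideal.Quotient.mkₐ k S).comp (IsScalarTower.toAlgHom k R A)).toLinearMap
  have hψ : ∀ a, ψ a = Ideal.Quotient.mk S (f a) := fun a => rfl
  have hinv : ∀ s : R, s ∉ 𝔪 → ∃ s', s * s' - 1 ∈ I ⊔ 𝔪 ^ t := by
    intro s hs
    have htop : Ideal.span {s} ⊔ 𝔪 ^ t = ⊤ := by
      refine Ideal.sup_pow_eq_top ?_
      exact VarDim.ProjN.vertex_isMaximal.1.2 _ (lt_of_le_of_ne le_sup_right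
        fun h => hs (h ▸ Ideal.mem_sup_left (Ideal.mem_span_singleton_self s)))
    obtain ⟨y, hy, z, hz, hyz⟩ := Submodule.mem_sup.mp ((Ideal.eq_top_iff_one _).mp htop)
    obtain ⟨s', rfl⟩ := Ideal.mem_span_singleton'.mp hy
    exact ⟨s', Ideal.mem_sup_right (by rw [show s * s' - 1 = -z by rw [← hyz]; ring]; exact neg_mem hz)⟩
  have hker : LinearMap.ker ψ = LinearMap.ker (comps I t) := by
    ext a
    rw [LinearMap.mem_ker, LinearMap.mem_ker, ker_comps I hI, hψ, Ideal.Quotient.eq_zero_iff_mem, hS]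
    refine ⟨fun h => ?_, fun h => Ideal.mem_map_of_mem f h⟩
    obtain ⟨⟨⟨i, hi⟩, s⟩, h⟩ := (IsLocalization.mem_map_algebraMap_iff (𝔪).primeCompl A).mp h
    rw [← map_mul] at h
    obtain ⟨c, hc⟩ := (IsLocalization.eq_iff_exists (𝔪).primeCompl A).mp h
    have hu : (c : R) * s ∉ 𝔪 := (𝔪).primeCompl.mul_mem c.2 s.2
    obtain ⟨w, hw⟩ := hinv _ hu
    rw [show a = (c * (a * s)) * w - ((c : R) * s * w - 1) * a by ring]
    refine sub_mem (Ideal.mul_mem_right _ _ ?_) (Ideal.mul_mem_right _ _ hw)
    rw [hc]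
    exact Ideal.mul_mem_left _ _ hi
  have hsurj : Function.Surjective ψ := by
    intro x
    obtain ⟨x, rfl⟩ := Ideal.Quotient.mk_surjective x
    obtain ⟨a, s, rfl⟩ := IsLocalization.exists_mk'_eq (𝔪).primeCompl x
    obtain ⟨s', hs'⟩ := hinv s s.2
    refine ⟨a * s', ?_⟩
    rw [hψ, Ideal.Quotient.eq, map_mul,
      show f a = IsLocalization.mk' A a s * f s from (IsLocalization.mk'_spec A a s).symm,
      show IsLocalization.mk' A a s * f s * f s' - IsLocalization.mk' A a s =
        IsLocalization.mk' A a s * f (s * s' - 1) by rw [map_sub, map_mul, map_one]; ring]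
    exact Ideal.mul_mem_left _ _ (hS ▸ Ideal.mem_map_of_mem f hs')
  obtain ⟨E⟩ := nonempty_equiv_of_ker_eq (K := k) (V := R) (W₁ := A ⧸ S) (W₂ := (j : Fin t) → piece I j.1) ψ (comps I t) hsurj (comps_surjective I t) (fun a => SetLike.ext_iff.mp hker a)
  haveI : Module.Finite k (A ⧸ S) := Module.Finite.equiv E.symm
  have hc0 : ∀ y : (𝔪).primeCompl, IsUnit (constantCoeff (y : R)) := fun y => isUnit_iff_ne_zero.mpr y.2
  let χ : A →ₐ[k] k :=
    { IsLocalization.lift (M := (𝔪).primeCompl) (g := (constantCoeff : R →+* k)) hc0 with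
      commutes' := fun c => by
        show IsLocalization.lift (M := (𝔪).primeCompl) (g := (constantCoeff : R →+* k)) hc0 (algebraMap k A c) = c
        rw [IsScalarTower.algebraMap_apply k R A, IsLocalization.lift_eq, MvPolynomial.algebraMap_eq, constantCoeff_C] }
  have hχ : ∀ a, χ a ≠ 0 → IsUnit a := fun x hx => by
    obtain ⟨a, s, rfl⟩ := IsLocalization.exists_mk'_eq (𝔪).primeCompl x
    refine (IsLocalization.AtPrime.isUnit_mk'_iff A 𝔪 a s).mpr fun ha => hx ?_
    show IsLocalization.lift (M := (𝔪).primeCompl) (g := (constantCoeff : R →+* k)) hc0 (IsLocalization.mk' A a s) = 0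
    rw [IsLocalization.lift_mk'_spec, mul_zero]
    exact ha
  rw [HSLib.hs, hlen, TFCurvLib.length_eq_finrank χ hχ, ENat.toNat_coe, E.finrank_eq]
  exact finrank_pieces I t

set_option backward.isDefEq.respectTransparency false in
lemma dim_locQuot (I : Ideal R) (hI : I.IsHomogeneous (CohB1.polyGrading n k)) (hIm : I ≤ 𝔪) :
    ringKrullDim (locQuot I) = ringKrullDim (R ⧸ I) := by
  set A := Localization.AtPrime 𝔪
  let I' := I.map (algebraMap R A)
  apply le_antisymm
  · let g : R ⧸ I →+* locQuot I := Ideal.quotientMap I' (algebraMap R A) Ideal.le_comap_map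
    have hinj : Function.Injective (@PrimeSpectrum.comap (R ⧸ I) (locQuot I) _ _ g) := by
      intro x y h
      have := congrArg (PrimeSpectrum.comap (Ideal.Quotient.mk I)) h
      rw [← PrimeSpectrum.comap_comp_apply, ← PrimeSpectrum.comap_comp_apply,
        show g.comp (Ideal.Quotient.mk I) = (Ideal.Quotient.mk I').comp (algebraMap R A) from Ideal.quotientMap_comp_mk _,
        PrimeSpectrum.comap_comp_apply, PrimeSpectrum.comap_comp_apply] at this
      exact PrimeSpectrum.comap_injective_of_surjective _ Ideal.Quotient.mk_surjective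
        (PrimeSpectrum.localization_comap_injective A (𝔪).primeCompl this)
    exact Order.krullDim_le_of_strictMono (@PrimeSpectrum.comap (R ⧸ I) (locQuot I) _ _ g)
      (Monotone.strictMono_of_injective (fun x y h => Ideal.comap_mono h) hinj)
  · refine iSup_le fun l => ?_
    let l' : LTSeries (PrimeSpectrum R) := l.map (PrimeSpectrum.comap (Ideal.Quotient.mk I))
      (Monotone.strictMono_of_injective (fun x y h => Ideal.comap_mono h)
        (PrimeSpectrum.comap_injective_of_surjective _ Ideal.Quotient.mk_surjective))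
    have hIl : I ≤ l'.head.asIdeal := fun x hx => by
      show Ideal.Quotient.mk I x ∈ l.head.asIdeal
      rw [Ideal.Quotient.eq_zero_iff_mem.mpr hx]
      exact zero_mem _
    obtain ⟨q, hq, hql⟩ := Ideal.exists_minimalPrimes_le hIl
    haveI := hq.1.1
    have hqm : q ≤ 𝔪 := VarDim.ProjN.le_vertex_of_isHomogeneous
      (VarDim.ProjN.minimalPrimes_isHomogeneous hI hq) hq.1.1.ne_top
    have h1 : ((l.length : ℕ) : WithBot ℕ∞) ≤ ringKrullDim (R ⧸ q) := by
      rw [← VarDim.coheight_eq_ringKrullDim_quotient ⟨q, hq.1.1⟩]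
      exact WithBot.coe_le_coe.mpr (Order.length_le_coheight (p := l') hql)
    refine h1.trans ?_
    haveI : IsDomain (R ⧸ q) := Ideal.Quotient.isDomain q
    obtain ⟨mbar, hmbar⟩ : ∃ M : Ideal (R ⧸ q), M = (𝔪).map (Ideal.Quotient.mk q) := ⟨_, rfl⟩
    have hcm : mbar.comap (Ideal.Quotient.mk q) = 𝔪 := by
      rw [hmbar, Ideal.comap_map_of_surjective _ Ideal.Quotient.mk_surjective, ← RingHom.ker_eq_comap_bot,
        Ideal.mk_ker, sup_eq_left.mpr hqm]
    haveI hbar : mbar.IsMaximal := hmbar ▸ (Ideal.map_eq_top_or_isMaximal_of_surjective (Ideal.Quotient.mk q)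
      Ideal.Quotient.mk_surjective VarDim.ProjN.vertex_isMaximal).resolve_left fun h =>
        VarDim.ProjN.vertex_isMaximal.ne_top (by rw [← hcm, hmbar, h, Ideal.comap_top])
    haveI : mbar.IsPrime := hbar.isPrime
    obtain ⟨d, hd, -⟩ := VarDim.exists_dim_eq_trdeg k (R ⧸ q)
    have h2 := VarDim.height_add_coheight_eq k d (R ⧸ q) hd ⟨mbar, inferInstance⟩
    have hco : Order.coheight (⟨mbar, inferInstance⟩ : PrimeSpectrum (R ⧸ q)) = 0 :=
      Order.coheight_eq_zero.2 fun Q hQ => (show mbar = Q.asIdeal from hbar.eq_of_le Q.2.ne_top hQ).ge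
    rw [hco, add_zero, ← PrimeSpectrum.height_eq_orderHeight] at h2
    have h3 : ringKrullDim (Localization.AtPrime mbar) = ringKrullDim (R ⧸ q) := by
      rw [IsLocalization.AtPrime.ringKrullDim_eq_height mbar (Localization.AtPrime mbar), hd]
      exact congrArg _ h2
    rw [← h3]
    let φ : A →+* Localization.AtPrime mbar := Localization.localRingHom 𝔪 mbar (Ideal.Quotient.mk q) hcm.symm
    have hφ : Function.Surjective φ := fun x => by
      obtain ⟨a, s, rfl⟩ := IsLocalization.exists_mk'_eq mbar.primeCompl x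
      obtain ⟨a, rfl⟩ := Ideal.Quotient.mk_surjective a
      obtain ⟨s', hs'⟩ := Ideal.Quotient.mk_surjective (s : R ⧸ q)
      refine ⟨IsLocalization.mk' A a (⟨s', fun h => s.2 (hs' ▸ hmbar ▸ Ideal.mem_map_of_mem _ h)⟩ : (𝔪).primeCompl), ?_⟩
      rw [Localization.localRingHom_mk']
      exact congrArg _ (Subtype.ext hs')
    have hI0 : I' ≤ RingHom.ker φ := Ideal.map_le_iff_le_comap.mpr fun x hx => by
      show φ (algebraMap R A x) = 0
      rw [Localization.localRingHom_to_map, Ideal.Quotient.eq_zero_iff_mem.mpr (hq.1.2 hx), map_zero]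
    exact ringKrullDim_le_of_surjective (Ideal.Quotient.lift I' φ hI0)
      (Ideal.Quotient.lift_surjective_of_surjective I' hI0 hφ)

end helpers

/-- Let k be a field, R = k[X_0, …, X_n] graded by degree, and I a homogeneous ideal whose Hilbert
polynomial P (a rational polynomial with P(m) = dim_k R_m − dim_k (I ∩ R_m) for all large m) is
nonzero, i.e. the projective scheme V_+(I) ⊆ P^n_k is nonempty. Then the Krull dimension of R/I (the
affine cone) equals deg P + 1; the dimension of V_+(I) itself is deg P. -/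
theorem result (k : Type u) [Field k]
    (n : ℕ) (I : Ideal (MvPolynomial (Fin (n + 1)) k)) (hIh : I.IsHomogeneous (CohB1.polyGrading n k))
    (P : ℚ[X]) (hP0 : P ≠ 0)
    (hP : ∃ m₀ : ℕ, ∀ m : ℕ, m₀ ≤ m → P.eval (m : ℚ) =
      (Module.finrank k ↥(CohB1.polyGrading n k m) : ℚ) -
        Module.finrank k ↥(Submodule.restrictScalars k I ⊓ CohB1.polyGrading n k m)) :
    ringKrullDim (MvPolynomial (Fin (n + 1)) k ⧸ I) = (P.natDegree : WithBot ℕ∞) + 1 := by
  classical
  obtain ⟨m₀, hP⟩ := hP
  have hev : ∀ m, m₀ ≤ m → P.eval (m : ℚ) = (Module.finrank k (piece I m) : ℚ) := fun m hm => by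
    rw [hP m hm, finrank_piece]
  have hI1 : I ≠ ⊤ := fun h => hP0 (Polynomial.eq_zero_of_infinite_isRoot P
    (((Set.Ici_infinite m₀).image Nat.cast_injective.injOn).mono (by
      rintro _ ⟨m, hm, rfl⟩
      haveI : Subsingleton (piece I m) := Submodule.Quotient.subsingleton_iff.mpr (by rw [h]; simp)
      show P.eval (m : ℚ) = 0
      rw [hev m hm, Module.finrank_zero_of_subsingleton, Nat.cast_zero])))
  have hIm : I ≤ VarDim.ProjN.vertex k n := VarDim.ProjN.le_vertex_of_isHomogeneous hIh hI1
  let g := fun t => ∑ j ∈ Finset.range t, Module.finrank k (piece I j)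
  obtain ⟨Q, hQd, hQ⟩ := HSLib.exists_evPoly_of_diff (g := g) (P := P) (s := P.natDegree + 1)
    (lt_of_le_of_lt Polynomial.degree_le_natDegree (by exact_mod_cast Nat.lt_succ_self _))
    (Filter.eventually_atTop.mpr ⟨m₀, fun m hm => by simp [g, Finset.sum_range_succ, hev m hm]⟩)
  have hdiff : Q.comp (Polynomial.X - Polynomial.C (-1)) - Q = P := by
    obtain ⟨N, hN⟩ := Filter.eventually_atTop.mp hQ
    refine Polynomial.eq_of_infinite_eval_eq _ _ (((Set.Ici_infinite (max N m₀)).image Nat.cast_injective.injOn).mono ?_)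
    rintro _ ⟨m, hm, rfl⟩
    show (Q.comp (Polynomial.X - Polynomial.C (-1)) - Q).eval (m : ℚ) = P.eval (m : ℚ)
    rw [Polynomial.eval_sub, Polynomial.eval_comp, Polynomial.eval_sub, Polynomial.eval_X, Polynomial.eval_C,
      sub_neg_eq_add, ← Nat.cast_one (R := ℚ), ← Nat.cast_add, ← hN _ (le_trans (le_max_left _ _) (Set.mem_Ici.mp hm)),
      ← hN _ (le_trans (le_trans (le_max_left _ _) (Set.mem_Ici.mp hm)) (Nat.le_succ _)),
      hev m (le_trans (le_max_right _ _) (Set.mem_Ici.mp hm))]
    simp [g, Finset.sum_range_succ]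
  have hQd' : Q.natDegree = P.natDegree + 1 := by
    have hQ0 : Q ≠ 0 := fun h => hP0 (by rw [← hdiff, h]; simp)
    have hle : Q.natDegree < P.natDegree + 1 + 1 := (Polynomial.natDegree_lt_iff_degree_lt hQ0).mpr hQd
    have hpos : 0 < Q.natDegree := Nat.pos_of_ne_zero fun h0 => hP0 (by
      rw [← hdiff, Polynomial.eq_C_of_natDegree_eq_zero h0, Polynomial.C_comp, sub_self])
    have hlt := HSLib.natDegree_shift_lt Q (-1) hpos
    rw [← Polynomial.natDegree_neg, neg_sub, hdiff] at hlt
    omega
  haveI : Nontrivial (locQuot I) := Ideal.Quotient.nontrivial_iff.mpr fun h =>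
    (IsLocalRing.maximalIdeal.isMaximal (Localization.AtPrime (VarDim.ProjN.vertex k n))).ne_top (top_le_iff.mp
      (h.symm.le.trans ((Ideal.map_mono hIm).trans (Localization.AtPrime.map_eq_maximalIdeal).le)))
  have hS := HSLib.supportDim_eq (A := Localization.AtPrime (VarDim.ProjN.vertex k n)) (locQuot I) Q
    (by
      have : HSLib.hs (Ring.jacobson _) (locQuot I) = g := funext fun t => hs_eq I hIh hIm t
      rw [this]
      exact hQ)
  rw [Module.supportDim_eq_ringKrullDim_quotient_annihilator, Ideal.annihilator_quotient,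
    dim_locQuot I hIh hIm, hQd'] at hS
  rw [← hS]
  norm_cast

end Groth.Agent.S10907
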