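import Groth.Statements.S0328
import Groth.Agent.LC.TopDim3

set_option autoImplicit false
universe u v
open LocCoh

namespace Groth.Agent.S0328

/-- In a Noetherian local ring, if a prime p and a proper ideal I together have radical the maximal
ideal and dim R/p = d ≥ 1, then local cohomology with support in I does not vanish in all degrees ≥
d. -/
theorem result (R : Type u) [CommRing R] [IsLocalRing R] [IsNoetherianRing R] (I : Ideal R) (hI : I ≠ ⊤) (p : Ideal R) [p.IsPrime] (hpI : (p ⊔ I).radical = IsLocalRing.maximalIdeal R) (d : ℕ) (hd : ringKrullDim (R ⧸ p) = d) (hd1 : 1 ≤ d) : ¬ LocCoh.CdLE R I (d - 1) := by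
  intro hcd
  have : IsLocalRing (R ⧸ p) := IsLocalRing.of_surjective' _ Ideal.Quotient.mk_surjective
  have hA := Groth.Agent.LC.cdLE_map I (R ⧸ p) hcd (R ⧸ p) d (by omega)
  have hrad : (I.map (algebraMap R (R ⧸ p))).radical = (IsLocalRing.maximalIdeal (R ⧸ p)).radical := by
    rw [(IsLocalRing.maximalIdeal.isMaximal (R ⧸ p)).isPrime.isRadical.radical]
    have hm : (IsLocalRing.maximalIdeal R).map (Ideal.Quotient.mk p) = IsLocalRing.maximalIdeal (R ⧸ p) :=
      IsLocalRing.eq_maximalIdeal (by
        refine (Ideal.map_eq_top_or_isMaximal_of_surjective _ Ideal.Quotient.mk_surjective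
          (IsLocalRing.maximalIdeal.isMaximal R)).resolve_left ?_
        intro h
        have h2 := congrArg (Ideal.comap (Ideal.Quotient.mk p)) h
        rw [Ideal.comap_map_of_surjective _ Ideal.Quotient.mk_surjective, Ideal.comap_top,
          ← RingHom.ker_eq_comap_bot, Ideal.mk_ker,
          sup_eq_left.2 (IsLocalRing.le_maximalIdeal (Ideal.IsPrime.ne_top ‹_›))] at h2
        exact (IsLocalRing.maximalIdeal.isMaximal R).ne_top h2)
    refine le_antisymm ((Ideal.radical_mono (Ideal.map_mono (IsLocalRing.le_maximalIdeal hI))).trans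
      (le_of_eq ?_)) ?_
    · rw [Ideal.Quotient.algebraMap_eq, hm, (IsLocalRing.maximalIdeal.isMaximal (R ⧸ p)).isPrime.isRadical.radical]
    · rw [← hm, ← hpI, Ideal.Quotient.algebraMap_eq]
      refine (Ideal.map_radical_le _).trans (Ideal.radical_mono ?_)
      rw [Ideal.map_sup, Ideal.map_quotient_self, bot_sup_eq]
  exact not_subsingleton_iff_nontrivial.2 (Groth.Agent.LC.nontrivial_and_not_finite_H d (R ⧸ p)
    ((Module.supportDim_self_eq_ringKrullDim (R := _)).trans hd)).1
      (Groth.Agent.LC.subsingleton_H_of_radical_eq hrad d _ hA)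

end Groth.Agent.S0328
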