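import Groth.Statements.S0329
import Groth.Agent.LC.Finiteness

set_option autoImplicit false
universe u v
open LocCoh

namespace Groth.Agent.S0329

/-- Part (1): ⇔(2) with T = V(I) (Faltings): for a finite module M over a Noetherian ring, the local
cohomology modules H^i_I(M) for i ≤ n are all finitely generated exactly when some ideal J with I
contained in the radical of J kills all of them. -/
theorem result (R : Type u) [CommRing R] [IsNoetherianRing R] (I : Ideal R) (M : Type u) [AddCommGroup M] [Module R M] [Module.Finite R M] (n : ℕ) : (∀ i : ℕ, i ≤ n → Module.Finite R (LocCoh.H I i M)) ↔ ∃ J : Ideal R, I ≤ J.radical ∧ ∀ i : ℕ, i ≤ n → ∀ a ∈ J, ∀ x : LocCoh.H I i M, a • x = 0 := by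
  constructor
  · intro h
    choose m hm using fun i : Fin (n + 1) =>
      have := h i.1 (Nat.le_of_lt_succ i.2)
      Groth.Agent.LC.exists_pow_smul_eq_zero_of_finite I (LocCoh.H I i.1 M)
        (Groth.Agent.LC.isPowerTorsion_obj I i.1 (ModuleCat.of R M))
    refine ⟨I ^ (Finset.univ.sup m + 1), by rw [Ideal.radical_pow _ (Nat.succ_ne_zero _)]; exact Ideal.le_radical,
      fun i hi a ha x => ?_⟩
    exact hm ⟨i, Nat.lt_succ_of_le hi⟩ a (Ideal.pow_le_pow_right
      ((Finset.le_sup (Finset.mem_univ (⟨i, Nat.lt_succ_of_le hi⟩ : Fin (n + 1)))).trans (Nat.le_succ _)) ha) x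
  · rintro ⟨J, hJ, hk⟩
    exact Groth.Agent.LC.finite_H_of_kill I n M J hJ hk

end Groth.Agent.S0329
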