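import Groth.Statements.S9661
import Groth.Agent.S10907

set_option autoImplicit false
universe u
attribute [local instance] MvPolynomial.gradedAlgebra
open CAlg

namespace Groth.Agent.S9661
open Polynomial in
theorem existsPoly {k : Type u} [Field k] (n : ℕ) (I : Ideal (MvPolynomial (Fin (n + 1)) k))
    (hI : I.IsHomogeneous (CohB1.polyGrading n k)) (hne : I ≠ ⊥) :
    ∃ P : ℚ[X], P.degree < (n : WithBot ℕ) ∧ ∃ N : ℕ, ∀ m : ℕ, N ≤ m →
      (Module.finrank k ↥(MvPolynomial.homogeneousSubmodule (Fin (n + 1)) k m) : ℚ) -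
        Module.finrank k ↥(I.restrictScalars k ⊓ MvPolynomial.homogeneousSubmodule (Fin (n + 1)) k m) =
        P.eval (m : ℚ) := by
  classical
  rcases eq_or_ne I ⊤ with rfl | hI1
  · refine ⟨0, by simp, 0, fun m _ => ?_⟩
    rw [Submodule.restrictScalars_top, top_inf_eq, sub_self, eval_zero]
  have hIm : I ≤ Groth.Agent.VarDim.ProjN.vertex k n :=
    Groth.Agent.VarDim.ProjN.le_vertex_of_isHomogeneous hI hI1
  obtain ⟨Q, hQ⟩ := Groth.Agent.HSLib.exists_poly_jacobson
    (A := Localization.AtPrime (Groth.Agent.VarDim.ProjN.vertex k n)) (Groth.Agent.S10907.locQuot I)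
  obtain ⟨N, hN⟩ := Filter.eventually_atTop.mp hQ
  have hev : ∀ m, N ≤ m →
      (Module.finrank k ↥(MvPolynomial.homogeneousSubmodule (Fin (n + 1)) k m) : ℚ) -
        Module.finrank k ↥(I.restrictScalars k ⊓ MvPolynomial.homogeneousSubmodule (Fin (n + 1)) k m) =
        (Q.comp (X + 1) - Q).eval (m : ℚ) := fun m hm => by
    have h1 := hN (m + 1) (hm.trans (Nat.le_succ m))
    have h2 := hN m hm
    rw [Groth.Agent.S10907.hs_eq I hI hIm] at h1 h2
    rw [Finset.sum_range_succ] at h1
    push_cast at h1 h2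
    rw [← Groth.Agent.S10907.finrank_piece, eval_sub, eval_comp, eval_add, eval_X, eval_one, ← h1, ← h2]
    ring
  refine ⟨Q.comp (X + 1) - Q, ?_, N, hev⟩
  set P := Q.comp (X + 1) - Q
  rcases eq_or_ne P 0 with h0 | h0
  · rw [h0, degree_zero]
    exact WithBot.bot_lt_coe n
  have hdim := Groth.Agent.S10907.result k n I hI P h0 ⟨N, fun m hm => (hev m hm).symm⟩
  obtain ⟨r, hr, hr0⟩ := Submodule.exists_mem_ne_zero_of_ne_bot hne
  have h1 : ringKrullDim (MvPolynomial (Fin (n + 1)) k ⧸ I) + 1 ≤ ringKrullDim (MvPolynomial (Fin (n + 1)) k) := by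
    refine le_trans (add_le_add (ringKrullDim_le_of_surjective
      (Ideal.Quotient.factor ((Ideal.span_singleton_le_iff_mem I).2 hr)) (Ideal.Quotient.factor_surjective _)) le_rfl)
      (ringKrullDim_quotient_succ_le_of_nonZeroDivisor (mem_nonZeroDivisors_of_ne_zero hr0))
  rw [hdim, MvPolynomial.ringKrullDim_of_isNoetherianRing, ringKrullDim_eq_zero_of_field, zero_add,
    Nat.card_fin] at h1
  have h2 : P.natDegree + 1 + 1 ≤ n + 1 := by exact_mod_cast h1
  rw [degree_eq_natDegree h0]
  exact_mod_cast (by omega : P.natDegree < n)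


/-- Let k be a field, d ≥ 1, and I a nonzero homogeneous ideal of the standard-graded polynomial ring
k[X_1, …, X_d]; put M = k[X_1, …, X_d]/I. Then the function n ↦ dim_k M_n (equal to dim_k of the
degree-n part of the polynomial ring minus dim_k of the degree-n part of I) coincides for all large
n with a polynomial of degree < d - 1, the zero polynomial if d = 1. -/
theorem result {k : Type u} [Field k] (d : ℕ) (hd : 0 < d)
    (I : HomogeneousIdeal (MvPolynomial.homogeneousSubmodule (Fin d) k)) (hI : I ≠ ⊥) :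
    ∃ P : Polynomial ℚ, P.degree < ((d - 1 : ℕ) : WithBot ℕ) ∧ ∃ N : ℕ, ∀ n : ℕ, N ≤ n →
      ((Module.finrank k ↥(MvPolynomial.homogeneousSubmodule (Fin d) k n) : ℚ) -
        (Module.finrank k ↥(I.toIdeal.restrictScalars k ⊓ MvPolynomial.homogeneousSubmodule (Fin d) k n) : ℚ)) = P.eval (n : ℚ) := by
  obtain ⟨n, rfl⟩ : ∃ n, d = n + 1 := ⟨d - 1, by omega⟩
  exact existsPoly n I.toIdeal I.isHomogeneous
    fun h => hI (HomogeneousIdeal.ext (h.trans HomogeneousIdeal.toIdeal_bot.symm))


end Groth.Agent.S9661
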