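import Groth.Statements.S18636
import Groth.Agent.GrLib8.BassShift
-- import your own Groth.Agent.* helpers here

set_option autoImplicit false
universe u
open GrLC

namespace Groth.Agent.S18636

/-- Let R be a commutative Noetherian ℤ-graded ring, M a graded R-module (not necessarily finitely
generated) and p a prime ideal of R which is not graded; write p* for the largest graded ideal
contained in p (a graded prime). Then μ_0(p, M) = 0 and μ_{i+1}(p, M) = μ_i(p*, M) for every i ≥ 0.
(Bass numbers μ_i(q, M) are taken as the k(q)-dimension of Ext^i over R_q of k(q) into M_q, as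
extended natural numbers; the published text also recalls their description as multiplicities in a
minimal injective resolution, and the two agree over a Noetherian ring.) -/
theorem result (R : Type u) [CommRing R] [IsNoetherianRing R] (𝒜 : ℤ → AddSubgroup R) [GradedRing 𝒜] (M : Type u) [AddCommGroup M] [Module R M] (ℳ : ℤ → AddSubgroup M) [DirectSum.Decomposition ℳ] [SetLike.GradedSMul 𝒜 ℳ] (p : Ideal R) [p.IsPrime] (hp : ¬ Ideal.IsHomogeneous 𝒜 p) [(Ideal.homogeneousCore 𝒜 p).toIdeal.IsPrime] : GrLC.bassNum p M 0 = 0 ∧ ∀ i : ℕ, GrLC.bassNum p M (i + 1) = GrLC.bassNum (Ideal.homogeneousCore 𝒜 p).toIdeal M i := by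
  classical
  have hle : (Ideal.homogeneousCore 𝒜 p).toIdeal ≤ p := Ideal.toIdeal_homogeneousCore_le 𝒜 p
  let P := (Ideal.homogeneousCore 𝒜 p).toIdeal
  have hcore : ∀ (i : ℤ) (r : R), r ∈ 𝒜 i → r ∈ p → r ∈ P := fun i r hr hrp =>
    Ideal.mem_homogeneousCore_of_homogeneous_of_mem ⟨i, hr⟩ hrp
  haveI hpb : (p.map (Ideal.Quotient.mk P)).IsPrime :=
    Ideal.map_isPrime_of_surjective Ideal.Quotient.mk_surjective (by rwa [Ideal.mk_ker])
  have hcomap : (p.map (Ideal.Quotient.mk P)).comap (Ideal.Quotient.mk P) = p := by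
    rw [Ideal.comap_map_of_surjective _ Ideal.Quotient.mk_surjective, ← RingHom.ker_eq_comap_bot, Ideal.mk_ker]
    exact sup_eq_left.2 hle
  obtain ⟨hreg, hdim⟩ := GrLib8.isRegularLocalRing_quot (𝒜 := 𝒜) P p (Ideal.homogeneousCore 𝒜 p).isHomogeneous
    hcore _ hcomap
  rw [IsLocalization.AtPrime.ringKrullDim_eq_height (p.map (Ideal.Quotient.mk P)), Module.finrank_self] at hdim
  have hle1 : (p.map (Ideal.Quotient.mk P)).height ≤ 1 := by exact_mod_cast hdim
  have hne : p.map (Ideal.Quotient.mk P) ≠ ⊥ := by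
    intro h0
    refine hp ?_
    have heq : p = P := le_antisymm (fun x hx => Ideal.Quotient.eq_zero_iff_mem.1 (by
      have hmem := Ideal.mem_map_of_mem (Ideal.Quotient.mk P) hx
      rwa [h0, Ideal.mem_bot] at hmem)) hle
    rw [heq]
    exact (Ideal.homogeneousCore 𝒜 p).isHomogeneous
  have h1 : (p.map (Ideal.Quotient.mk P)).height = ((1 : ℕ) : ℕ∞) := by
    refine le_antisymm hle1 ?_
    rw [Nat.cast_one, Order.one_le_iff_pos, pos_iff_ne_zero, Ne, Ideal.height_eq_zero_iff]
    intro hmin
    rw [IsDomain.minimalPrimes_eq_singleton_bot] at hmin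
    exact hne hmin
  obtain ⟨ha, hb⟩ := GrLib8.bassNum_shift ℳ (Ideal.homogeneousCore 𝒜 p) p hle hcore 1 h1
  exact ⟨ha 0 zero_lt_one, fun i => hb i⟩

end Groth.Agent.S18636
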