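import Groth.Statements.S7060
import Groth.Agent.H9Misc.DRingAdicCompl

set_option autoImplicit false
universe u
attribute [local instance] HasDerivedCategory.standard
open CategoryTheory
open DRing

namespace Groth.Agent.S7060

/-- Let A be a Noetherian commutative ring and I an ideal, and assume the derived completion functor
(left adjoint to the inclusion of derived complete objects) exists. If K is an object of D(A) whose
cohomology modules are all finite A-modules, then for every n there is an A-linear isomorphism from
the n-th cohomology module of the derived completion K^∧ of K to the I-adic completion of H^n(K)
which carries the map H^n(K) → H^n(K^∧) induced by the canonical morphism K → K^∧ to the canonical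
map from H^n(K) to its I-adic completion. -/
theorem result {A : Type u} [CommRing A] [IsNoetherianRing A]
    (I : Ideal A) [DRing.HasDerivedCompletion I] (K : Dual.D A)
    (hK : ∀ n : ℤ, Module.Finite A (Dual.HD A K n)) (n : ℤ) :
    ∃ e : Dual.HD A ((DRing.derivedCompletion I).obj K).obj n ≃ₗ[A] AdicCompletion I (Dual.HD A K n),
      ∀ x : Dual.HD A K n,
        e (((DerivedCategory.homologyFunctor (ModuleCat.{u} A) n).map (DRing.toDerivedCompletion I K)).hom x) =
          AdicCompletion.of I (Dual.HD A K n) x := by
  exact Groth.Agent.H9Misc.DRingAdicCompl.homology_completion I K hK n

end Groth.Agent.S7060
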