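import Groth.Statements.S1812
import Groth.Agent.KFlatLib.Ring.RgammaHDI
-- import your own Groth.Agent.* helpers here

set_option autoImplicit false
universe u
open CategoryTheory
attribute [local instance] HasDerivedCategory.standard
open LocCoh

namespace Groth.Agent.S1812

/-- Let A be a ring, I a finitely generated ideal and K an object of D(A); assume the total right
derived functor RΓ_I of the I-power torsion functor exists. Then for every q the A-module
H^q(RΓ_I(K)) is isomorphic to the direct limit over n of the A-modules of maps A/I^n → K[q] in D(A). -/
theorem result (A : Type u) [CommRing A] (I : Ideal A) (hI : I.FG) [DRing.HasRgammaI I] (K : Dual.D A) (q : ℤ) : Nonempty (Dual.HD A ((DRing.RgammaI I).obj K) q ≃ₗ[A] Dual2.HDI A I K q) := by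
  exact Groth.Agent.KFlatLib.RgammaHDI.nonempty_hd_equiv I K q

end Groth.Agent.S1812
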