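import Groth.Statements.S0978
import Groth.Agent.TriCat.CompactFactor
import Groth.Agent.TriCat.CellResolution

set_option autoImplicit false
universe v u
open CategoryTheory
open CohDer

namespace Groth.Agent.S0978

open CategoryTheory.Limits in
/-- Let D be a triangulated category with all small direct sums and E a compact object. Then E generates
D (an object admitting only zero maps from all shifts of E is zero) if and only if D is compactly
generated and every compact object lies in the triangulated envelope of E (objects reachable from E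
by shifts, finite sums, direct summands and extensions). -/
theorem result {D : Type u} [Category.{v} D] [Preadditive D] [Limits.HasZeroObject D] [HasShift D ℤ]
    [∀ n : ℤ, (shiftFunctor D n).Additive] [Pretriangulated D] [IsTriangulated D] [HasCoproducts.{v} D]
    [HasColimitsOfShape (Discrete ℕ) D]
    (E : D) (hE : CohDer.IsCompactObject E) :
    CohDer.Generates (fun _ : Unit => E) ↔
      (CohDer.IsCompactlyGenerated D ∧ ∀ X : D, CohDer.IsCompactObject X → ObjectProperty.triangEnvelope (fun Y : D => Y = E) X) := by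
  open Groth.Agent.TriCat CategoryTheory.Category CategoryTheory.Limits CategoryTheory.Pretriangulated in
  constructor
  · intro hg
    refine ⟨⟨PUnit, fun _ => E, fun _ => hE, fun X h => hg X fun _ n f => h ⟨⟩ n f⟩, fun X hX => ?_⟩
    let E' : PUnit.{v + 1} → D := fun _ => E
    obtain ⟨F, inc, hL, ⟨κ, a, ⟨e⟩⟩, ht⟩ := exists_cell_resolution (shiftClosure E')
      (countPerfect_shiftClosure (countPerfect_of_compact fun _ => hE)) (shiftClosure_stable E')
      (isZero_of_generates fun X h => hg X fun _ n f => h ⟨⟩ n f) X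
    obtain ⟨n, g, hg'⟩ := IsHocolim.exists_factor hL hX (𝟙 X)
    obtain ⟨s, -, E₁, g₁, h₁, hE₁, hgh⟩ := envFactors_of_cell E' (fun _ => hE) F.obj
      (fun n => F.map (homOfLE (Nat.le_succ n))) ⟨κ, fun k => (a k).1, fun k => (a k).2, ⟨e⟩⟩
      (fun n => by
        obtain ⟨κ', a', y, z, h⟩ := ht n
        exact ⟨κ', fun k => (a' k).1, fun k => (a' k).2, y, z, h⟩) n X hX g
    have hE₂ : ObjectProperty.triangEnvelope (fun Y : D => Y = E) E₁ :=
      ObjectProperty.monotone_triangEnvelope (fun Y ⟨_, _, h⟩ => h) _ hE₁
    exact ObjectProperty.prop_of_retract _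
      { i := g₁, r := h₁ ≫ inc n, retract := by rw [← assoc, hgh, hg'] } hE₂
  · rintro ⟨⟨κ, E', hc, hg⟩, hX⟩ K hK
    refine hg K fun i n f => ?_
    let Q : ObjectProperty D := fun Y => ∀ (m : ℤ) (f : Y ⟶ K⟦m⟧), f = 0
    have : Q.IsStableUnderRetracts := ⟨fun {Y Y'} r h m f => by
      rw [← id_comp f, ← r.retract, assoc, h m (r.r ≫ f), comp_zero]⟩
    have : Q.ContainsZero := ⟨⟨_, isZero_zero D, fun m f => (isZero_zero D).eq_of_src _ _⟩⟩
    have : Q.IsStableUnderShift ℤ := ⟨fun a => ⟨fun Y h m f => by
      obtain ⟨f', hf'⟩ := (shiftFunctor D a).map_surjective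
        (f ≫ (shiftFunctorAdd' D (m - a) a m (by omega)).hom.app K)
      rw [← cancel_mono ((shiftFunctorAdd' D (m - a) a m (by omega)).hom.app K), ← hf', h _ f',
        Functor.map_zero, zero_comp]⟩⟩
    have : Q.IsTriangulatedClosed₂ := ObjectProperty.IsTriangulatedClosed₂.mk' fun T hT h₁ h₃ m f => by
      obtain ⟨g, rfl⟩ := Triangle.yoneda_exact₂ T hT f (h₁ m _)
      rw [h₃ m g, comp_zero]
    have : Q.IsTriangulated := { }
    exact (ObjectProperty.triangEnvelope_le_iff (fun Y : D => Y = E) (Q := Q)).2
      (fun Y hY => hY ▸ fun m f => hK () m f) _ (hX _ (hc i)) n f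

end Groth.Agent.S0978
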