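import Groth.Statements.S7096
import Groth.Agent.H9Misc.OrthLocal
import Mathlib.Algebra.Category.ModuleCat.AB

set_option autoImplicit false
universe u
attribute [local instance] HasDerivedCategory.standard
open DRing

namespace Groth.Agent.S7096

/-- For a commutative ring A and a finitely generated ideal I, the inclusion of the full subcategory of
I-derived complete objects into D(A) is a right adjoint, i.e. derived completion with respect to I
exists. -/
theorem result {A : Type u} [CommRing A] (I : Ideal A) (hI : I.FG) :
    DRing.HasDerivedCompletion I := by
  refine Groth.Agent.H9Misc.OrthLocal.isRightAdjoint (A := ModuleCat.{u} A)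
    (fun f : I => (CochainComplex.singleFunctor (ModuleCat.{u} A) 0).obj
      (ModuleCat.of A (Localization.Away (f : A)))) _ fun K => ⟨fun h p n => ?_, fun h f hf n => ?_⟩
  · exact @Equiv.subsingleton _ _
      ((DerivedCategory.singleFunctorIsoCompQ (ModuleCat.{u} A) 0).symm.app _).homFromEquiv
      (h p.1 p.2 n)
  · exact @Equiv.subsingleton _ _
      ((DerivedCategory.singleFunctorIsoCompQ (ModuleCat.{u} A) 0).app _).homFromEquiv
      (h ⟨f, hf⟩ n)

end Groth.Agent.S7096
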