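import Groth.Statements.S1712
import Groth.Agent.KFlatLib.Ring.DualizingSerre
-- import your own Groth.Agent.* helpers here

set_option autoImplicit false
universe u
open CategoryTheory
attribute [local instance] HasDerivedCategory.standard
open Dual

namespace Groth.Agent.S1712

/-- Let A be a Noetherian local ring with a normalized dualizing complex ω, M a finite A-module and E^j
the A-module of maps M → ω[-j] in D(A). A prime p is in the support of one of E^0, …, E^i if and
only if the depth of M_p over A_p plus the dimension of A/p is at most i. -/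
theorem result (A : Type u) [CommRing A] [IsLocalRing A] [IsNoetherianRing A] (ω : Dual.D A) (hω : Dual.IsDualizing A ω) (hn : Dual.IsNormalized A ω) (M : Type u) [AddCommGroup M] [Module A M] [Module.Finite A M] (i : ℕ) (p : PrimeSpectrum A) : (∃ j : ℕ, j ≤ i ∧ p ∈ Module.support A (Dual.inD A M ⟶ ω⟦(-(j : ℤ))⟧)) ↔ ((LocCoh.depth (Localization.AtPrime p.asIdeal) (LocalizedModule p.asIdeal.primeCompl M) : ℕ∞) : WithBot ℕ∞) + ringKrullDim (A ⧸ p.asIdeal) ≤ (i : WithBot ℕ∞) := by
  obtain ⟨n, hdeg, -, -, -, hdim⟩ := KFlatLib.exists_normalized_degree hω hn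
  obtain ⟨e, he, he'⟩ := hdim p
  rw [he]
  constructor
  · rintro ⟨j, hji, hj⟩
    obtain ⟨δ, d, hδ, hd⟩ := KFlatLib.exists_depth_dim p M (KFlatLib.support_hom_subset M _ hj)
    obtain ⟨h1, -, -⟩ := KFlatLib.localized_ext_range hω hdeg p M δ d hδ hd
    have := h1 _ hj
    rw [hδ]
    exact_mod_cast (show δ + e ≤ i by omega)
  · intro h
    by_cases hp : p ∈ Module.support A M
    · obtain ⟨δ, d, hδ, hd⟩ := KFlatLib.exists_depth_dim p M hp
      obtain ⟨-, -, h3⟩ := KFlatLib.localized_ext_range hω hdeg p M δ d hδ hd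
      rw [hδ] at h
      have hle : δ + e ≤ i := by exact_mod_cast h
      refine ⟨δ + e, hle, ?_⟩
      rw [show -(((δ + e : ℕ)) : ℤ) = n p - δ by omega]
      exact h3
    · haveI := Module.notMem_support_iff.1 hp
      rw [show LocCoh.depth (Localization.AtPrime p.asIdeal) (LocalizedModule p.asIdeal.primeCompl M) = ⊤ by
        rw [LocCoh.depth, LocCoh.idealDepth, if_pos (Subsingleton.elim _ _)]] at h
      rw [← WithBot.coe_natCast, ← WithBot.coe_natCast, ← WithBot.coe_add, top_add, WithBot.coe_le_coe] at h
      exact absurd (top_le_iff.1 h) (ENat.natCast_ne_top i)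

end Groth.Agent.S1712
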