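import Groth.Statements.S7040
import Mathlib.Algebra.Homology.ShortComplex.ModuleCat

set_option autoImplicit false
universe u
open CategoryTheory
open LocCoh

namespace Groth.Agent.S7040

/-- For a finitely generated ideal I of a commutative ring R, the property of being an I-power torsion
module (every element killed by a power of I) is a Serre class in the category of R-modules: it
holds for 0 and is closed under subobjects, quotients and extensions. -/
theorem result {R : Type u} [CommRing R] (I : Ideal R) (hI : I.FG) :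
    ObjectProperty.IsSerreClass (C := ModuleCat.{u} R) (fun M => LocCoh.IsPowerTorsion I M) := by
  refine { toContainsZero := ⟨?_⟩, toIsClosedUnderSubobjects := ⟨?_⟩, toIsClosedUnderQuotients := ⟨?_⟩, toIsClosedUnderExtensions := ⟨?_⟩ }
  · exact ⟨ModuleCat.of R PUnit.{u+1}, ModuleCat.isZero_of_subsingleton _, fun m => ⟨0, fun a _ => Subsingleton.elim _ _⟩⟩
  · intro X Y f hf hY m
    rw [ModuleCat.mono_iff_injective] at hf
    obtain ⟨n, hn⟩ := hY (f.hom m)
    exact ⟨n, fun a ha => hf (by rw [map_smul, map_zero]; exact hn a ha)⟩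
  · intro X Y f hf hX m
    rw [ModuleCat.epi_iff_surjective] at hf
    obtain ⟨x, rfl⟩ := hf m
    obtain ⟨n, hn⟩ := hX x
    exact ⟨n, fun a ha => by rw [← map_smul, hn a ha, map_zero]⟩
  · intro S hS h₁ h₃ m
    have hle : I ≤ ((R ∙ m).annihilator).radical := by
      intro x hx
      obtain ⟨n, hn⟩ := h₃ (S.g.hom m)
      have h0 : S.g.hom (x ^ n • m) = 0 := by rw [map_smul]; exact hn _ (Ideal.pow_mem_pow hx n)
      obtain ⟨y, hy⟩ := (ShortComplex.moduleCat_exact_iff S).1 hS.exact _ h0
      obtain ⟨k, hk⟩ := h₁ y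
      refine ⟨k + n, (Submodule.mem_annihilator_span_singleton m _).2 ?_⟩
      rw [pow_add, mul_smul, ← hy]
      erw [← map_smul, hk _ (Ideal.pow_mem_pow hx k), map_zero]
    obtain ⟨n, hn⟩ := Ideal.exists_pow_le_of_le_radical_of_fg hle hI
    exact ⟨n, fun a ha => (Submodule.mem_annihilator_span_singleton m a).1 (hn ha)⟩


end Groth.Agent.S7040
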