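import Groth.Statements.S6024
import Groth.Prelude.Def_LocCohZ

set_option autoImplicit false
universe u
open CategoryTheory CategoryTheory.Limits TopologicalSpace
open LocCohZ

namespace Groth.Agent.S6024

/-- Consider a topological space X carrying a sheaf of abelian groups F, and assume that H^1_Z(X, F)
vanishes for each closed subset Z of X (writing Z = X − U with U open). Under this assumption, F is
flasque. -/
theorem result {X : TopCat.{u}} (F : CohTop.Ab X)
    (h : ∀ U : Opens X, Subsingleton (LocCohZ.HZc F 1 U)) : TopCat.Sheaf.IsFlasque F := by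
  open CategoryTheory CategoryTheory.Limits Opposite TopologicalSpace in
  have key : ∀ (W : Opens X) (s : F.obj.obj (op W)),
      ∃ t : F.obj.obj (op (⊤ : Opens X)), F.obj.map (homOfLE (le_top : W ≤ ⊤)).op t = s := fun W s => by
    have hS := LocCohZ.zqSeq_shortExact (le_top : W ≤ ⊤)
    haveI := h W
    let x : Abelian.Ext.{u} (LocCohZ.zqSeq (le_top : W ≤ ⊤)).X₁ F 0 :=
      Abelian.Ext.mk₀ (CohFree.ofSect (Opens.grothendieckTopology X) W F s)
    obtain ⟨y, hy⟩ := Abelian.Ext.contravariant_sequence_exact₁ hS F (n₀ := 0) x (n₁ := 1) rfl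
      (@Subsingleton.elim (LocCohZ.HZc F 1 W) (h W) _ _)
    obtain ⟨ψ, rfl⟩ := (Abelian.Ext.mk₀_bijective _ _).2 y
    rw [Abelian.Ext.mk₀_comp_mk₀] at hy
    have h2 := (Abelian.Ext.mk₀_bijective _ _).1 hy
    refine ⟨CohFree.evalGen (Opens.grothendieckTopology X) (⊤ : Opens X) F ψ, ?_⟩
    rw [← CohFree.evalGen_ofSect (Opens.grothendieckTopology X) W F s, ← h2]
    exact (CohFree.evalGen_freeSheafMap_comp _ _ _ _).symm
  constructor
  intro U V i
  rw [AddCommGrpCat.epi_iff_surjective]
  intro s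
  obtain ⟨t, rfl⟩ := key V.unop s
  refine ⟨F.obj.map (CategoryTheory.homOfLE (le_top : U.unop ≤ ⊤)).op t, ?_⟩
  rw [← CategoryTheory.ConcreteCategory.comp_apply, ← F.obj.map_comp]
  rfl

end Groth.Agent.S6024
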