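import Groth.Statements.S5778
import Groth.Agent.HSLib.Regular
import Groth.Agent.CAlgGlobalDim.RegSeq
import Mathlib

set_option autoImplicit false
universe u
open EGA41

namespace Groth.Agent.S5778

/-- Let A be a Noetherian local ring with maximal ideal m, residue field k, and let r be the dimension
of the k-vector space m/m². Then A is regular if and only if the canonical surjection of graded
k-algebras from the symmetric algebra of m/m² onto the associated graded ring of A for the m-adic
filtration is bijective. Since that surjection is bijective exactly when source and target have the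
same length in every degree, the condition is expressed here as: length_A(A/m^(s+1)) equals the
binomial coefficient C(s+r, r) for every s ≥ 0. -/
theorem result (A : Type u) [CommRing A] [IsLocalRing A]
    [IsNoetherianRing A] :
    IsRegularLocalRing A ↔
      ∀ s : ℕ, Module.length A (A ⧸ IsLocalRing.maximalIdeal A ^ (s + 1)) =
        ((s + Module.finrank (IsLocalRing.ResidueField A) (IsLocalRing.CotangentSpace A)).choose s : ℕ∞) := by
  classical
  have hr := IsLocalRing.spanFinrank_maximalIdeal_eq_finrank_cotangentSpace (R := A)
  rw [← hr]
  have hfg : (IsLocalRing.maximalIdeal A).FG := (IsLocalRing.maximalIdeal A).fg_of_isNoetherianRing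
  constructor
  · intro hreg s
    have fin := Submodule.FG.finite_generators hfg
    haveI := fin.fintype
    have hcard : Fintype.card ↥(Submodule.generators (IsLocalRing.maximalIdeal A)) =
        (IsLocalRing.maximalIdeal A).spanFinrank := by
      rw [← Nat.card_eq_fintype_card, Nat.card_coe_set_eq, Submodule.FG.generators_ncard hfg]
    let e := (Fintype.equivFinOfCardEq hcard).symm
    let a : Fin (IsLocalRing.maximalIdeal A).spanFinrank → A := fun i => (e i).1
    have ha : Ideal.span (Set.range a) = IsLocalRing.maximalIdeal A := by
      rw [show Set.range a = Submodule.generators (IsLocalRing.maximalIdeal A) by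
        ext y; exact ⟨fun ⟨i, hi⟩ => hi ▸ (e i).2, fun hy => ⟨e.symm ⟨y, hy⟩, by simp [a]⟩⟩]
      exact Submodule.span_generators _
    have hw := Groth.Agent.CAlgGlobalDim.isWeaklyRegular_of_generators _ A (List.ofFn a) (List.length_ofFn)
      (by rw [Groth.Agent.CAlgGlobalDim.ofList_ofFn, ha]) le_rfl
    exact Groth.Agent.HSLib.length_regular a hw ha s
  · intro h
    set r := (IsLocalRing.maximalIdeal A).spanFinrank with hrdef
    let P : Polynomial ℚ := Polynomial.C ((r.factorial : ℚ)⁻¹) * ascPochhammer ℚ r
    have hP : Groth.Agent.HSLib.EvPoly (Groth.Agent.HSLib.hs (Ring.jacobson A) A) P := by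
      refine Filter.eventually_atTop.mpr ⟨1, fun t ht => ?_⟩
      obtain ⟨s, rfl⟩ : ∃ s, t = s + 1 := ⟨t - 1, by omega⟩
      rw [Groth.Agent.HSLib.hs, IsLocalRing.ringJacobson_eq_maximalIdeal, smul_eq_mul, Ideal.mul_top, h s,
        ENat.toNat_natCast, Polynomial.eval_mul, Polynomial.eval_C,
        ← ascPochhammer_eval_cast, ascPochhammer_nat_eq_ascFactorial,
        Nat.ascFactorial_eq_factorial_mul_choose', Nat.cast_mul, inv_mul_cancel_left₀
          (by exact_mod_cast r.factorial_ne_zero), show s + 1 + r - 1 = s + r by omega,
        ← Nat.choose_symm (Nat.le_add_left r s), Nat.add_sub_cancel]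
    have hd := Groth.Agent.HSLib.supportDim_eq A P hP
    rw [Polynomial.natDegree_C_mul (inv_ne_zero (by exact_mod_cast r.factorial_ne_zero)),
      ascPochhammer_natDegree, Module.supportDim_self_eq_ringKrullDim] at hd
    exact IsRegularLocalRing.of_spanFinrank_maximalIdeal_le _ hd.le

end Groth.Agent.S5778
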