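import Groth.Statements.S15815
import Groth.Agent.LC.KoszulScale
-- import your own Groth.Agent.* helpers here

set_option autoImplicit false
universe u
open CategoryTheory
open Koszul

namespace Groth.Agent.S15815

/-- Let A be a commutative ring, f = (f_1, …, f_n) a finite sequence in A with Koszul complex K(f)
(cohomological, in degrees -n, …, 0) and differentials ∂^q : K(f)^q → K(f)^{q+1}, and let x be a
non-zero-divisor of A. Then for every integer q the q-th cohomology module of the Koszul complex of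
the sequence (x f_1, …, x f_n) is isomorphic as an A-module to Ker(∂^q) / (x · Im(∂^{q-1})), the
q-cocycles of K(f) modulo x times the q-coboundaries (existence of an A-linear isomorphism; the
Koszul complex is the iterated mapping-cone model). -/
theorem result (A : Type u) [CommRing A] (l : List A) (x : A)
    (hx : x ∈ nonZeroDivisors A) (q : ℤ) :
    Nonempty ((Koszul.koszul A (l.map (fun f => x * f))).homology q ≅
      ModuleCat.of A (↥(LinearMap.ker ((Koszul.koszul A l).d q (q + 1)).hom) ⧸
        Submodule.comap (LinearMap.ker ((Koszul.koszul A l).d q (q + 1)).hom).subtype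
          (Ideal.span {x} • LinearMap.range ((Koszul.koszul A l).d (q - 1) q).hom))) := by
  open CategoryTheory CategoryTheory.Limits Groth.Agent.LC in
  obtain ⟨e, he⟩ := KScale.exists_scale_iso x l
  let K := Koszul.koszul A l
  let K' := Koszul.koszul A (l.map fun f => x * f)
  let Z := LinearMap.ker (K.d q (q + 1)).hom
  let Z' := LinearMap.ker (K'.d q (q + 1)).hom
  have hcomm : ∀ i j, i + 1 = j → ∀ z, (e j).hom ((K'.d i j) z) = x • (K.d i j) ((e i).hom z) := fun i j h z =>
    ConcreteCategory.congr_hom (he i j h) z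
  have hker : ∀ z, z ∈ Z' ↔ (e q).toLinearEquiv z ∈ Z := fun z => by
    show (K'.d q (q + 1)) z = 0 ↔ (K.d q (q + 1)) ((e q).hom z) = 0
    constructor
    · intro hz
      refine isSMulRegular_iff_right_eq_zero_of_smul.1 (KScale.isSMulRegular_X hx l (q + 1)) _ ?_
      rw [← hcomm q (q + 1) rfl z, hz, map_zero]
    · intro hz
      apply (e (q + 1)).toLinearEquiv.injective
      exact (hcomm q (q + 1) rfl z).trans (by rw [hz, smul_zero, map_zero])
  have hZ : Z'.map (e q).toLinearEquiv.toLinearMap = Z := by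
    ext w
    constructor
    · rintro ⟨z, hz, rfl⟩; exact (hker z).1 hz
    · intro hw
      exact ⟨(e q).toLinearEquiv.symm w, (hker _).2 (by rwa [LinearEquiv.apply_symm_apply]),
        LinearEquiv.apply_symm_apply _ w⟩
  let eZ : Z' ≃ₗ[A] Z := ((e q).toLinearEquiv.submoduleMap Z').trans (LinearEquiv.ofEq _ _ hZ)
  have hB : ∀ w : K.X q, w ∈ Ideal.span {x} • LinearMap.range (K.d (q - 1) q).hom ↔
      ∃ y, x • (K.d (q - 1) q) y = w := by
    intro w
    rw [Submodule.ideal_span_singleton_smul, Submodule.mem_smul_pointwise_iff_exists]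
    exact ⟨fun ⟨_, ⟨y, hy⟩, hw⟩ => ⟨y, by rw [← hw, ← hy]⟩, fun ⟨y, hy⟩ => ⟨_, ⟨y, rfl⟩, hy⟩⟩
  let S := K'.sc' (q - 1) q (q + 1)
  have hmap : (LinearMap.range S.moduleCatToCycles).map eZ.toLinearMap =
      Submodule.comap Z.subtype (Ideal.span {x} • LinearMap.range (K.d (q - 1) q).hom) := by
    ext w
    rw [Submodule.mem_comap, hB]
    constructor
    · rintro ⟨_, ⟨y, rfl⟩, rfl⟩
      exact ⟨(e (q - 1)).hom y, (hcomm (q - 1) q (by omega) y).symm⟩
    · rintro ⟨y, hy⟩
      refine ⟨_, ⟨(e (q - 1)).toLinearEquiv.symm y, rfl⟩, Subtype.ext ?_⟩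
      show (e q).hom ((K'.d (q - 1) q) ((e (q - 1)).toLinearEquiv.symm y)) = (w : K.X q)
      rw [hcomm (q - 1) q (by omega)]
      exact (congrArg (fun t => x • (K.d (q - 1) q) t) ((e (q - 1)).toLinearEquiv.apply_symm_apply y)).trans hy
  exact ⟨K'.homologyIsoSc' (q - 1) q (q + 1) (by simp) (by simp) ≪≫ S.moduleCatHomologyIso ≪≫
    (Submodule.Quotient.equiv _ _ eZ hmap).toModuleIso⟩

end Groth.Agent.S15815
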