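import Groth.Statements.S0591
import Groth.Agent.ConsPropLib.Approx

set_option autoImplicit false
universe u
open CategoryTheory AlgebraicGeometry
open Lim

namespace Groth.Agent.S0591

/-- Let `S` be the limit of a cofiltered system of quasi-compact quasi-separated schemes with affine
transition morphisms. Any morphism `X → S` of finite presentation (locally of finite presentation,
quasi-compact, quasi-separated) is the base change of a morphism of finite presentation `Xᵢ → Sᵢ`
for some index `i`. -/
theorem result {I : Type u} [SmallCategory I] [IsCofiltered I]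
    (D : I ⥤ Scheme.{u}) (c : Limits.Cone D) (hc : Limits.IsLimit c)
    [∀ (i j : I) (f : i ⟶ j), IsAffineHom (D.map f)] [∀ i, CompactSpace (D.obj i)]
    [∀ i, QuasiSeparatedSpace (D.obj i)] (X : Scheme.{u}) (f : X ⟶ c.pt)
    [LocallyOfFinitePresentation f] [QuasiCompact f] [QuasiSeparated f] :
    ∃ (i : I) (Xi : Scheme.{u}) (fi : Xi ⟶ D.obj i) (g : X ⟶ Xi),
      LocallyOfFinitePresentation fi ∧ QuasiCompact fi ∧ QuasiSeparated fi ∧
      IsPullback g f fi (c.π.app i) := by
  haveI : ∀ {i j : I} (f : i ⟶ j), IsAffineHom (D.map f) := fun {i j} f => inferInstance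
  obtain ⟨i, Xi, fi, g, h⟩ := Groth.Agent.ConsPropLib.hasModel hc f
  exact ⟨i, Xi, fi, g, h.lfp, h.qc, h.qs, h.sq⟩

end Groth.Agent.S0591
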