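import Groth.Statements.S12073
import Groth.Agent.S0591
import Groth.Agent.LimSm.Descend
import Groth.Agent.MorLib.DescendCI

set_option autoImplicit false
universe u
open CategoryTheory CategoryTheory.Limits AlgebraicGeometry
open Pi1

namespace Groth.Agent.S12073

/-- Let X = lim X_i be the limit of a cofiltered system of quasi-compact quasi-separated schemes with
affine transition morphisms, given by a limit cone. Then: (1) every finite étale cover of X is
isomorphic, over X, to the base change of a finite étale cover of some X_i; (2) if two morphisms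
between finite étale covers of some X_i have the same base change to X, then they have the same base
change to some X_j with j → i. (Fullness — every morphism over X between base changes comes from
some stage — is part of the published statement and is not stated here; nor is the consequence on
fundamental groups.) -/
theorem result {I : Type u} [SmallCategory I] [IsCofiltered I]
    (D : I ⥤ Scheme.{u}) (c : Limits.Cone D) (hc : Limits.IsLimit c)
    [∀ (i j : I) (f : i ⟶ j), IsAffineHom (D.map f)] [∀ i, CompactSpace (D.obj i)]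
    [∀ i, QuasiSeparatedSpace (D.obj i)] :
    (∀ V : FEt.Cat c.pt, ∃ (i : I) (Vi : FEt.Cat (D.obj i)), Nonempty ((FEt.restrict (c.π.app i)).obj Vi ≅ V)) ∧
    (∀ (i : I) (Vi Wi : FEt.Cat (D.obj i)) (φ ψ : Vi ⟶ Wi),
      (FEt.restrict (c.π.app i)).map φ = (FEt.restrict (c.π.app i)).map ψ →
      ∃ (j : I) (a : j ⟶ i), (FEt.restrict (D.map a)).map φ = (FEt.restrict (D.map a)).map ψ) := by
  haveI : ∀ {i j : I} (f : i ⟶ j), IsAffineHom (D.map f) := fun {i j} f => inferInstance
  haveI : MorphismProperty.RespectsIso (@LocallyOfFinitePresentation : MorphismProperty Scheme.{u}) :=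
    MorphismProperty.IsStableUnderBaseChange.respectsIso
  refine ⟨fun V => ?_, fun i Vi Wi φ ψ h => ?_⟩
  · haveI : IsFinite V.hom := V.prop.1
    haveI : Etale V.hom := V.prop.2
    obtain ⟨i, Xi, fi, g, hlfp, hqc, hqs, hsq⟩ := Groth.Agent.S0591.result D c hc V.left V.hom
    haveI := hlfp
    haveI := hqc
    haveI := hqs
    obtain ⟨j₁, φ₁, h₁⟩ := Groth.Agent.MorLib.Desc.descend D c hc i (P := @Etale)
      (Q := @LocallyOfFinitePresentation) Groth.Agent.LimSm.core_etale fi hlfp
      (Groth.Agent.MorLib.Desc.of_two @Etale hsq (IsPullback.of_hasPullback _ _) inferInstance)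
    obtain ⟨j₂, φ₂, h₂⟩ := Groth.Agent.MorLib.Desc.descend D c hc i (P := @IsFinite)
      (Q := @LocallyOfFiniteType) Groth.Agent.MorLib.Desc.core_isFinite fi inferInstance
      (Groth.Agent.MorLib.Desc.of_two @IsFinite hsq (IsPullback.of_hasPullback _ _) inferInstance)
    obtain ⟨j, a, b, hab⟩ := IsCofiltered.cospan φ₁ φ₂
    haveI hE : Etale (Limits.pullback.snd fi (D.map (a ≫ φ₁))) :=
      Groth.Agent.MorLib.Desc.of_factor @Etale h₁ (a := D.map a) (by rw [← D.map_comp])
        (IsPullback.of_hasPullback _ _)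
    haveI hF : IsFinite (Limits.pullback.snd fi (D.map (a ≫ φ₁))) :=
      Groth.Agent.MorLib.Desc.of_factor @IsFinite h₂ (a := D.map b) (by rw [← D.map_comp, hab])
        (IsPullback.of_hasPullback _ _)
    let W : FEt.Cat (D.obj j) :=
      MorphismProperty.Over.mk ⊤ (Limits.pullback.snd fi (D.map (a ≫ φ₁))) ⟨hF, hE⟩
    have hp := (IsPullback.of_hasPullback (Limits.pullback.snd fi (D.map (a ≫ φ₁)))
      (c.π.app j)).paste_horiz (IsPullback.of_hasPullback fi (D.map (a ≫ φ₁)))
    rw [c.w] at hp
    exact ⟨j, W, ⟨MorphismProperty.Over.isoMk (hp.isoIsPullback _ _ hsq)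
      (hp.isoIsPullback_hom_snd _ _ hsq)⟩⟩
  · haveI : IsFinite Vi.hom := Vi.prop.1
    haveI : IsFinite Wi.hom := Wi.prop.1
    let v : Vi.left ⟶ D.obj i := Vi.hom
    haveI : QuasiCompact v := inferInstanceAs (QuasiCompact Vi.hom)
    haveI : QuasiSeparated v := inferInstanceAs (QuasiSeparated Vi.hom)
    haveI : CompactSpace Vi.left := QuasiCompact.compactSpace_of_compactSpace v
    haveI : QuasiSeparatedSpace Vi.left := quasiSeparatedSpace_of_quasiSeparated v
    haveI : CompactSpace ↥((𝟭 Scheme.{u}).obj Vi.left) := ‹CompactSpace Vi.left›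
    haveI : QuasiSeparatedSpace ↥((𝟭 Scheme.{u}).obj Vi.left) := ‹QuasiSeparatedSpace Vi.left›
    let B := Groth.Agent.MorLib.BC.diag D Vi.hom
    haveI : ∀ {j k : Over i} (f : j ⟶ k), IsAffineHom (B.map f) := fun f =>
      Groth.Agent.MorLib.BC.isAffineHom_map D Vi.hom f
    haveI : ∀ j, CompactSpace (B.obj j) := fun j => Groth.Agent.MorLib.BC.compactSpace_obj D Vi.hom j
    haveI : ∀ j, QuasiSeparatedSpace (B.obj j) := fun j =>
      Groth.Agent.MorLib.BC.quasiSeparatedSpace_obj D Vi.hom j
    let hX := IsPullback.of_hasPullback Vi.hom (c.π.app i)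
    let T : Over i := Over.mk (𝟙 i)
    have hq : Limits.pullback.fst Vi.hom (c.π.app i) ≫ φ.left =
        Limits.pullback.fst Vi.hom (c.π.app i) ≫ ψ.left := by
      have := congrArg (fun e => e.left ≫ Limits.pullback.fst Wi.hom (c.π.app i)) h
      exact ((Limits.pullback.lift_fst _ _ _).symm.trans this).trans (Limits.pullback.lift_fst _ _ _)
    obtain ⟨k, f, hf⟩ := Scheme.exists_hom_comp_eq_comp_of_locallyOfFiniteType B
      (Groth.Agent.MorLib.BC.toStart D Vi.hom ≫ (Functor.const (Over i)).map Vi.hom) Wi.hom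
      (Groth.Agent.MorLib.BC.cone D Vi.hom hX) (Groth.Agent.MorLib.BC.isLimitCone D Vi.hom hX hc)
      (i := T)
      ((Groth.Agent.MorLib.BC.toStart D Vi.hom).app T ≫ φ.left)
      ((Groth.Agent.MorLib.BC.toStart D Vi.hom).app T ≫ ψ.left)
      (by simp [MorphismProperty.Over.w])
      (by simp [MorphismProperty.Over.w])
      (((Category.assoc _ _ _).symm.trans (congrArg (· ≫ φ.left)
        (Groth.Agent.MorLib.BC.proj_fst D Vi.hom hX T))).trans
        (hq.trans ((congrArg (· ≫ ψ.left) (Groth.Agent.MorLib.BC.proj_fst D Vi.hom hX T)).symm.trans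
          (Category.assoc _ _ _))))
    refine ⟨k.left, k.hom, ?_⟩
    have hk : Limits.pullback.fst Vi.hom (D.map k.hom) ≫ φ.left =
        Limits.pullback.fst Vi.hom (D.map k.hom) ≫ ψ.left := by
      have e := Groth.Agent.MorLib.BC.map_fst D Vi.hom f
      exact (((congrArg (· ≫ φ.left) e).symm.trans (Category.assoc _ _ _)).trans hf).trans
        ((Category.assoc _ _ _).symm.trans (congrArg (· ≫ ψ.left) e))
    ext
    apply Limits.pullback.hom_ext
    · exact ((Limits.pullback.lift_fst _ _ _).trans hk).trans (Limits.pullback.lift_fst _ _ _).symm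
    · exact (Limits.pullback.lift_snd _ _ _).trans (Limits.pullback.lift_snd _ _ _).symm

end Groth.Agent.S12073
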