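import Groth.Agent.SiteBase.Top
import Groth.Statements.S0453
-- import your own Groth.Agent.* helpers here

set_option autoImplicit false
universe u
open CategoryTheory
open CohTop

namespace Groth.Agent.S0453

/-- A flasque abelian sheaf F on X has H^(n+1)(X, F) = 0. -/
theorem result {X : TopCat.{u}} (F : CohTop.Ab X) [TopCat.Sheaf.IsFlasque F]
    (n : ℕ) : Subsingleton (CohTop.H F (n + 1)) := by
  exact Groth.Agent.SiteBase.subsingleton_H_of_isFlasque F n

end Groth.Agent.S0453
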