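import Groth.Statements.S0238
import Groth.Agent.S0118
import Groth.Agent.S1305
import Groth.Agent.Pi1X.FEtFull

set_option autoImplicit false
universe u
open Pi1

namespace Groth.Agent.S0238

open AlgebraicGeometry CategoryTheory CategoryTheory.Limits in
/-- For a thickening, i.e. a closed immersion which is surjective on points, pulling back finite etale
covers is an equivalence of categories. -/
theorem result {X X' : Scheme.{u}} (i : X ⟶ X') [IsClosedImmersion i] [Surjective i] :
    (FEt.restrict i).IsEquivalence := by
  obtain ⟨hfull, hfaith⟩ := Groth.Agent.Pi1X.restrict_fullyFaithful_of_homeo i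
  haveI : (FEt.restrict i).EssSurj := ⟨fun U => by
    haveI := (Groth.Agent.S0118.result i)
    let U₀ : X.Etale := MorphismProperty.Over.mk ⊤ U.hom U.prop.2
    let V := (EtCoh.bc i).objPreimage U₀
    let e : (EtCoh.bc i).obj V ≅ U₀ := (EtCoh.bc i).objObjPreimageIso U₀
    haveI : IsFinite U.hom := U.prop.1
    haveI hV : Etale V.hom := V.prop
    let el : pullback V.hom i ≅ U.left :=
      ⟨e.hom.left, e.inv.left, congrArg (fun k => k.left) e.hom_inv_id, congrArg (fun k => k.left) e.inv_hom_id⟩
    have hel : el.hom ≫ U.hom = pullback.snd V.hom i := MorphismProperty.Over.w e.hom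
    haveI : IsIntegralHom (pullback.snd V.hom i) := by
      rw [← hel]
      exact @MorphismProperty.comp_mem _ _ @IsIntegralHom _ _ _ _ el.hom U.hom
        (@MorphismProperty.of_isIso _ _ @IsIntegralHom _ _ _ _ el.hom el.isIso_hom) inferInstance
    haveI : Surjective (pullback.fst V.hom i) := MorphismProperty.pullback_fst (P := @Surjective) V.hom i ‹_›
    haveI : IsIntegralHom V.hom :=
      (Groth.Agent.S1305.result (pullback.fst V.hom i) i (pullback.snd V.hom i) V.hom
        ⟨inferInstance, inferInstance⟩ ⟨inferInstance, inferInstance⟩ pullback.condition).1 inferInstance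
    have hfin : IsFinite V.hom := (IsFinite.iff_isIntegralHom_and_locallyOfFiniteType _).2 ⟨inferInstance, inferInstance⟩
    exact ⟨MorphismProperty.Over.mk ⊤ V.hom ⟨hfin, hV⟩, ⟨MorphismProperty.Over.isoMk el hel⟩⟩⟩
  exact { }

end Groth.Agent.S0238
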