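import Groth.Statements.S2062
import Mathlib
import Groth.Agent.FlatLoc6.Depth

set_option autoImplicit false
universe u
open CAlg

namespace Groth.Agent.S2062

open TensorProduct in
/-- Let `R → S` be a local homomorphism of Noetherian local rings, `M` a finite `R`-module and `N` a
finite `S`-module flat over `R`. Then the depth of the `S`-module `N ⊗_R M` is the depth of `M` plus
the depth of the `S`-module `N/𝔪_R N`. -/
theorem result {R S M N : Type u} [CommRing R] [CommRing S] [IsLocalRing R] [IsLocalRing S]
    [IsNoetherianRing R] [IsNoetherianRing S] [Algebra R S] [IsLocalHom (algebraMap R S)]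
    [AddCommGroup M] [Module R M] [Module.Finite R M] [AddCommGroup N] [Module S N] [Module R N]
    [IsScalarTower R S N] [Module.Finite S N] [Module.Flat R N] :
    LocCoh.depth S (N ⊗[R] M) =
      LocCoh.depth R M + LocCoh.depth S
        (N ⧸ (IsLocalRing.maximalIdeal R).map (algebraMap R S) • (⊤ : Submodule S N)) := by
  have htop : ∀ (A : Type u) [CommRing A] [IsLocalRing A] (P : Type u) [AddCommGroup P] [Module A P] [Subsingleton P],
      LocCoh.depth A P = ⊤ := fun A _ _ P _ _ _ => by
    unfold LocCoh.depth LocCoh.idealDepth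
    rw [if_pos (Subsingleton.elim _ _)]
  rcases subsingleton_or_nontrivial N with hN | hN
  · haveI : Subsingleton (N ⊗[R] M) := inferInstance
    rw [htop S (N ⊗[R] M), htop S (N ⧸ _), add_top]
  rcases subsingleton_or_nontrivial M with hM | hM
  · haveI : Subsingleton (N ⊗[R] M) := inferInstance
    rw [htop S (N ⊗[R] M), htop R M, top_add]
  haveI := Groth.Agent.FlatLoc6.nontrivial_quot_mN (A := R) (B := S) N
  obtain ⟨a, ha⟩ := LC.exists_depth_eq_nat (R := R) M
  obtain ⟨b, hb⟩ := LC.exists_depth_eq_nat (R := S) (N ⧸ Groth.Agent.FlatLoc6.mN R S N)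
  rw [Groth.Agent.FlatLoc6.depth_tensor_aux (a + b) M N a b rfl ha hb, Nat.cast_add]
  exact (congrArg₂ (· + ·) ha hb).symm

end Groth.Agent.S2062
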