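import Groth.Statements.S9280
import Groth.Agent.CplFib6.NorLocus
import Groth.Agent.S0566
import Groth.Agent.N12Aux.Nagata
import Groth.Agent.RegLoc6.J2Crit
import Groth.Agent.RegLoc6.Normal

set_option autoImplicit false
universe u
open EGA4

namespace Groth.Agent.S9280

theorem isRegularLocalRing_of_dimensionLEOne (T : Type u) [CommRing T] [IsDomain T] [IsNoetherianRing T]
    [IsLocalRing T] [IsIntegrallyClosed T] [Ring.DimensionLEOne T] : IsRegularLocalRing T := by
  haveI : IsDedekindDomain T :=
    (isDedekindDomain_iff T (FractionRing T)).mpr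
      ⟨inferInstance, inferInstance, inferInstance, fun hx => IsIntegrallyClosed.isIntegral_iff.mp hx⟩
  haveI : IsPrincipalIdealRing T := IsPrincipalIdealRing.of_finite_maximals
    (by rw [show {P : Ideal T | P.IsMaximal} = {IsLocalRing.maximalIdeal T} from
      Set.ext fun P => ⟨IsLocalRing.eq_maximalIdeal, fun h => h ▸ IsLocalRing.maximalIdeal.isMaximal T⟩]
        exact Set.finite_singleton _)
  infer_instance

/-- A Nagata ring of dimension 1 is J-2, that is, every finite type algebra over it has open regular
locus. -/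
theorem result (R : Type u) [CommRing R] (hR : CAlg.IsNagata R)
    (hdim : ringKrullDim R = 1) : EGA4.IsJ2 R := by
  haveI := hR.1
  intro S _ _ hft
  haveI := hft
  refine Groth.Agent.RegLoc6.isOpen_regular_of_finite_j0 R (fun A' _ _ _ hfin => ?_) S
  haveI := hfin
  haveI : IsNoetherianRing A' := IsNoetherianRing.of_finite R A'
  have hA' : CAlg.IsNagata A' := S0566.result R hR A'
  obtain ⟨s, hs0, hs⟩ := CplFib6.exists_denominator A' (N12Aux.isN2_of_isNagata hA' (FractionRing A') inferInstance)
  refine ⟨s, hs0, fun Q _ hQ => ?_⟩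
  haveI := CplFib6.isIntegrallyClosed_of_denominator A' s hs Q hQ
  haveI : IsDomain (Localization.AtPrime Q) :=
    IsLocalization.isDomain_localization Q.primeCompl_le_nonZeroDivisors
  haveI : IsNoetherianRing (Localization.AtPrime Q) := IsLocalization.isNoetherianRing Q.primeCompl _ inferInstance
  haveI : Algebra.IsIntegral R A' := Algebra.IsIntegral.of_finite R A'
  have hh : ringKrullDim A' ≤ 1 := by
    refine le_trans ?_ hdim.le
    exact Order.krullDim_le_of_strictMono (PrimeSpectrum.comap (algebraMap R A')) fun p p' hlt =>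
      Ideal.IsIntegral.comap_lt_comap (R := R) hlt
  haveI : Ring.DimensionLEOne A' := ⟨fun {p} hp0 hp => by
    by_contra hmax
    obtain ⟨M, hM, hpM⟩ := Ideal.exists_le_maximal p hp.ne_top
    have hlt : p < M := lt_of_le_of_ne hpM fun h => hmax (h ▸ hM)
    haveI := hp
    haveI := hM.isPrime
    have h1 := Ideal.height_add_one_le_of_lt_of_isPrime (bot_lt_iff_ne_bot.mpr hp0)
    have h2 := Ideal.height_add_one_le_of_lt_of_isPrime hlt
    have h3 : (M.height : WithBot ℕ∞) ≤ 1 := (Ideal.height_le_ringKrullDim_of_ne_top hM.ne_top).trans hh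
    have h4 : M.height ≤ 1 := by exact_mod_cast h3
    have h5 : (2 : ℕ∞) ≤ M.height := le_trans
      ((show (2 : ℕ∞) = 0 + 1 + 1 by norm_num).trans_le (add_le_add_left (add_le_add_left zero_le 1) 1))
      ((add_le_add_left h1 1).trans h2)
    exact absurd (h5.trans h4) (by decide)⟩
  haveI : Ring.DimensionLEOne (Localization.AtPrime Q) :=
    Ring.DimensionLEOne.localization (Localization.AtPrime Q) Q.primeCompl_le_nonZeroDivisors
  exact isRegularLocalRing_of_dimensionLEOne (Localization.AtPrime Q)

end Groth.Agent.S9280
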