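import Groth.Statements.S2454
import Groth.Agent.RegFS6.FlatConv
import Groth.Agent.EGA41Lib.FieldFS
import Groth.Agent.CplFib6.Quot

set_option autoImplicit false
universe u
open EGA41

namespace Groth.Agent.S2454

open IsLocalRing in
/-- Let A → B be a local homomorphism of Noetherian local rings making B a Cohen A-algebra. Then B, with
its adic topology, is formally smooth over A with its adic topology. -/
theorem result {A B : Type u} [CommRing A] [IsLocalRing A] [CommRing B] [IsLocalRing B]
    [Algebra A B] [IsLocalHom (algebraMap A B)] (h : EGA41.IsCohenAlgebra A B) :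
    EGA41.IsFormallySmoothAdic A (maximalIdeal A) B (maximalIdeal B) := by
    obtain ⟨_, _, _, hflat, hm, hsep⟩ := h
    haveI := hflat
    have hfs : CAlgX.IsAdicFormallySmooth A B (maximalIdeal B) := by
      haveI : IsRegularLocalRing (B ⧸ (maximalIdeal A).map (algebraMap A B)) := by
        rw [hm]
        letI := Ideal.Quotient.field (maximalIdeal B)
        infer_instance
      refine RegFS6.fs_of_flat fun E _ _ hE J hJ ψ hψ => ?_
      haveI := hsep
      haveI := EGA41Lib.FieldFS.formallySmooth_of_isGeometricallyReduced (ResidueField A) (ResidueField B)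
      let f : ResidueField A →+* E := Ideal.Quotient.lift _ (algebraMap A E) hE
      letI : Algebra (ResidueField A) E := f.toAlgebra
      haveI : IsScalarTower A (ResidueField A) E := IsScalarTower.of_algebraMap_eq fun _ => rfl
      let ψ₀ : ResidueField B →+* E ⧸ J := Ideal.Quotient.lift _ ψ.toRingHom hψ
      have hc : ∀ z, ψ₀ (algebraMap (ResidueField A) (ResidueField B) z) = algebraMap (ResidueField A) (E ⧸ J) z := fun z => by
        obtain ⟨a, rfl⟩ := residue_surjective z
        show ψ (algebraMap A B a) = _
        rw [AlgHom.commutes]
        exact (IsScalarTower.algebraMap_apply A (ResidueField A) (E ⧸ J) a)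
      obtain ⟨χ, hχ⟩ := Algebra.FormallySmooth.exists_lift (R := ResidueField A) J ⟨2, by rw [hJ, Ideal.zero_eq_bot]⟩
        ({ ψ₀ with commutes' := hc } : ResidueField B →ₐ[ResidueField A] E ⧸ J)
      have hc2 : ∀ a, χ (residue B (algebraMap A B a)) = algebraMap A E a := fun a => by
        rw [← ResidueField.algebraMap_eq, ← IsScalarTower.algebraMap_apply A B (ResidueField B),
          IsScalarTower.algebraMap_apply A (ResidueField A) (ResidueField B), AlgHom.commutes,
          ← IsScalarTower.algebraMap_apply]
      exact ⟨{ χ.toRingHom.comp (residue B) with commutes' := hc2 }, AlgHom.ext fun b => AlgHom.congr_fun hχ (residue B b)⟩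
    intro C _ _ J hJ _ u hu
    exact EGA41Lib.lift_of_isAdicFormallySmooth hfs J hJ u hu

end Groth.Agent.S2454
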