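import Groth.Statements.S0272
import Groth.Agent.SGA10.CI
import Groth.Agent.Hensel.DepthFlat
-- import your own Groth.Agent.* helpers here

set_option autoImplicit false
set_option backward.isDefEq.respectTransparency false
set_option backward.isDefEq.respectTransparency.types false
set_option linter.style.haveILetI false
universe u
open Pi1

namespace Groth.Agent.S0272

open AlgebraicGeometry CategoryTheory CategoryTheory.Limits in
/-- Let A be a Noetherian local ring which is a complete intersection (its completion is a regular local
ring modulo a regular sequence) of dimension at least 3. Then every finite etale cover of the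
punctured spectrum of A extends to Spec A. -/
theorem result (A : Type u) [CommRing A] [IsNoetherianRing A] [IsLocalRing A] (hA : Pi1.IsCompleteIntersection A)
    (hd : (3 : WithBot ℕ∞) ≤ ringKrullDim A) : FEt.PurityHolds A := by
  obtain ⟨R, _, _, rs, hmem, hreg, ⟨e⟩⟩ := hA
  let C := AdicCompletion (IsLocalRing.maximalIdeal A) A
  haveI := Groth.Agent.LC.Canon.isNoetherianRing_completion (R := A)
  haveI : Module.Flat A C := AdicCompletion.flat_of_isNoetherian _
  haveI : IsLocalHom (algebraMap A C) :=
    AdicCompletion.algebraMap_isLocalHom_of_fg (IsNoetherian.noetherian _)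
  have hmax : (IsLocalRing.maximalIdeal A).map (algebraMap A C) = IsLocalRing.maximalIdeal C :=
    (AdicCompletion.maximalIdeal_eq_map (R := A)).symm
  let e' : C ≃+* R ⧸ Ideal.ofList rs := e
  haveI : Nontrivial (R ⧸ Ideal.ofList rs) := e'.symm.toEquiv.nontrivial
  haveI : IsLocalRing (R ⧸ Ideal.ofList rs) := .of_surjective' (Ideal.Quotient.mk _) Ideal.Quotient.mk_surjective
  have hdim : (3 : WithBot ℕ∞) ≤ ringKrullDim (R ⧸ Ideal.ofList rs) := by
    rw [← ringKrullDim_eq_of_ringEquiv e', CILib.ringKrullDim_adicCompletion]; exact hd
  refine SGA10.purityHolds_of_flat (algebraMap A C) (RingHom.flat_algebraMap_iff.2 inferInstance) hmax ?_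
    (SGA10.purityHolds_of_equiv e'.symm (SGA10.pure_ci rs.length R rs rfl hmem hreg.toIsWeaklyRegular hdim))
  have h3 := SGA11.le_depth_ofList hreg.toIsWeaklyRegular hmem (n := 3) (by exact_mod_cast hdim)
  rw [← RamSam24.depth_eq_of_ringEquiv e', Groth.Agent.Hensel.depth_eq_of_flat_of_map_maximalIdeal_eq C hmax] at h3
  exact le_trans (by norm_num) h3

end Groth.Agent.S0272
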