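import Groth.Statements.S5182
import Groth.Agent.NFlat6.Powers

set_option autoImplicit false
universe u
open CInt

namespace Groth.Agent.S5182

/-- In the local algebraic form to which its proof reduces. Let A be a Noetherian local ring, J a proper
ideal such that A is normally flat along J, i.e. every J^k/J^{k+1} is a flat (equivalently free)
A/J-module, and f_1, …, f_r elements of A whose images form a weakly regular sequence on A/J (each
f_i a non-zero-divisor on A/J modulo the preceding ones). Then for every k ≥ 0 the f_i form a weakly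
regular sequence on the A-module J^k and on the A-module J^k/J^{k+1}; in particular (k = 0) on A
itself, so that they are regular on the Rees algebra ⊕ J^k and on the associated graded ring ⊕
J^k/J^{k+1}. -/
theorem result (A : Type u) [CommRing A] [IsLocalRing A] [IsNoetherianRing A] (J : Ideal A) (hJ : J ≠ ⊤) (hflat : ∀ k : ℕ, Module.Flat (A ⧸ J) (↥(J ^ k) ⧸ (J • (⊤ : Submodule A ↥(J ^ k))))) (fs : List A) (hreg : RingTheory.Sequence.IsWeaklyRegular (A ⧸ J) fs) (k : ℕ) : RingTheory.Sequence.IsWeaklyRegular (↥(J ^ k)) fs ∧ RingTheory.Sequence.IsWeaklyRegular (↥(J ^ k) ⧸ (J • (⊤ : Submodule A ↥(J ^ k)))) fs := by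
  open Groth.Agent.NFlat6 in
  let e : ∀ i, ↥(Pw J A i) ≃ₗ[A] ↥(J ^ i : Ideal A) := fun i =>
    LinearEquiv.ofEq _ _ ((Ideal.smul_eq_mul _ _).trans (Ideal.mul_top _))
  let e' : ∀ i, Groth.Agent.NFlat6.Pc J A i ≃ₗ[A] ↥(J ^ i : Ideal A) ⧸ (J • (⊤ : Submodule A ↥(J ^ i))) :=
    fun i => Submodule.Quotient.equiv _ _ (e i) (by
      rw [Submodule.map_smul'', Submodule.map_top, LinearMap.range_eq_top.mpr (e i).surjective])
  have hp : Groth.Agent.NFlat6.RegPieces J fs A :=
    Groth.Agent.NFlat6.regPieces_of_nf fs hreg fun i =>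
      haveI := hflat i
      Groth.Agent.NFlat6.flat_of_linearEquiv' (e' i)
  have hjac : J ≤ (⊥ : Ideal A).jacobson := by
    rw [IsLocalRing.jacobson_eq_maximalIdeal ⊥ bot_ne_top]
    exact IsLocalRing.le_maximalIdeal hJ
  exact ⟨((e k).isWeaklyRegular_congr fs).mp (Groth.Agent.NFlat6.isWeaklyRegular_Pw hjac fs A hp k),
    ((e' k).isWeaklyRegular_congr fs).mp (hp k)⟩

end Groth.Agent.S5182
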