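import Groth.Statements.S9382

set_option autoImplicit false
universe u
open QCohSub

namespace Groth.Agent.S9382

open AlgebraicGeometry CategoryTheory in
/-- For closed subschemes Z, Y ⊆ X with ideal sheaves I, J, the scheme-theoretic intersection (ideal
sheaf I ⊔ J) together with its inclusions into Z and Y forms a cartesian square over X. -/
theorem result (X : Scheme.{u}) (I J : X.IdealSheafData) :
    IsPullback (Scheme.IdealSheafData.inclusion (le_sup_left : I ≤ I ⊔ J))
      (Scheme.IdealSheafData.inclusion (le_sup_right : J ≤ I ⊔ J)) I.subschemeι J.subschemeι := by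
  refine IsPullback.of_isLimit' ⟨by simp⟩ (Limits.PullbackCone.IsLimit.mk _
    (fun c => IsClosedImmersion.lift (I ⊔ J).subschemeι (c.fst ≫ I.subschemeι) ?_) ?_ ?_ ?_)
  · rw [Scheme.IdealSheafData.ker_subschemeι]
    refine sup_le ?_ ?_
    · simpa using Scheme.Hom.le_ker_comp c.fst I.subschemeι
    · rw [c.condition]
      simpa using Scheme.Hom.le_ker_comp c.snd J.subschemeι
  · intro c
    rw [← cancel_mono I.subschemeι]
    simp
  · intro c
    rw [← cancel_mono J.subschemeι]
    simp [← c.condition]
  · intro c m hm _
    rw [← cancel_mono (I ⊔ J).subschemeι]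
    simp [← hm]

end Groth.Agent.S9382
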