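import Groth.Statements.S9383
import Groth.Agent.S9382
import Mathlib.AlgebraicGeometry.Morphisms.ClosedImmersion
import Mathlib.AlgebraicGeometry.Morphisms.Immersion

set_option autoImplicit false
universe u
open QCohSub

namespace Groth.Agent.S9383
open CategoryTheory CategoryTheory.Limits AlgebraicGeometry TopologicalSpace
namespace Aux

theorem range_union {P X Y : Scheme.{u}} (i : X ⟶ P) (j : Y ⟶ P) [IsClosedImmersion i] [IsClosedImmersion j]
    (h : i.ker ⊓ j.ker = ⊥) (z : P) : z ∈ Set.range i ∨ z ∈ Set.range j := by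
  obtain ⟨U, hU, hzU, -⟩ := exists_isAffineOpen_mem_and_subset (U := (⊤ : P.Opens)) (x := z) trivial
  let p := hU.primeIdealOf ⟨z, hzU⟩
  have key : ∀ K : P.IdealSheafData, K.ideal ⟨U, hU⟩ ≤ p.asIdeal → z ∈ K.support := fun K hK => by
    rw [K.mem_support_iff_of_mem (U := ⟨U, hU⟩) hzU]
    have := (hU.fromSpec_image_zeroLocus (K.ideal ⟨U, hU⟩ : Set Γ(P, U))).le
      ⟨p, hK, hU.fromSpec_primeIdealOf ⟨z, hzU⟩⟩
    exact this.1
  have hle : i.ker.ideal ⟨U, hU⟩ ⊓ j.ker.ideal ⟨U, hU⟩ ≤ p.asIdeal := by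
    rw [← Pi.inf_apply, ← Scheme.IdealSheafData.ideal_inf, h]
    simp
  rcases (p.isPrime.inf_le).1 hle with h1 | h1
  · left
    have := key _ h1
    rw [← SetLike.mem_coe, Scheme.Hom.support_ker] at this
    rwa [i.isClosedEmbedding.isClosed_range.closure_eq] at this
  · right
    have := key _ h1
    rw [← SetLike.mem_coe, Scheme.Hom.support_ker] at this
    rwa [j.isClosedEmbedding.isClosed_range.closure_eq] at this

theorem eq_of_union {P X Y T : Scheme.{u}} (i : X ⟶ P) (j : Y ⟶ P) [IsClosedImmersion i] [IsClosedImmersion j]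
    (h : i.ker ⊓ j.ker = ⊥) (m₁ m₂ : P ⟶ T) (hi : i ≫ m₁ = i ≫ m₂) (hj : j ≫ m₁ = j ≫ m₂) : m₁ = m₂ := by
  let e := pullback.fst (pullback.lift (f := terminal.from T) (g := terminal.from T) m₁ m₂ (terminal.hom_ext _ _))
    (pullback.diagonal (terminal.from T))
  have he : e ≫ m₁ = e ≫ m₂ := by
    have := pullback.condition (f := pullback.lift (f := terminal.from T) (g := terminal.from T) m₁ m₂
      (terminal.hom_ext _ _)) (g := pullback.diagonal (terminal.from T))
    have h1 := congr($this ≫ pullback.fst _ _)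
    have h2 := congr($this ≫ pullback.snd _ _)
    simp only [Category.assoc, pullback.lift_fst, pullback.lift_snd, pullback.diagonal_fst,
      pullback.diagonal_snd, Category.comp_id] at h1 h2
    exact h1.trans h2.symm
  haveI : IsImmersion e := MorphismProperty.pullback_fst _ _ inferInstance
  have key : ∀ {W : Scheme.{u}} (g : W ⟶ P), g ≫ m₁ = g ≫ m₂ → ∃ l, l ≫ e = g := fun {W} g hg => by
    refine ⟨pullback.lift g (g ≫ m₁) ?_, pullback.lift_fst _ _ _⟩
    apply pullback.hom_ext <;> simp only [Category.assoc, pullback.diagonal_fst, pullback.diagonal_snd, Category.comp_id]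
    · exact congr(g ≫ $(pullback.lift_fst _ _ _))
    · exact congr(g ≫ $(pullback.lift_snd _ _ _)).trans hg.symm
  obtain ⟨li, hli⟩ := key i hi
  obtain ⟨lj, hlj⟩ := key j hj
  have hs : Set.range e = Set.univ := Set.eq_univ_of_forall fun z => by
    rcases range_union i j h z with ⟨w, rfl⟩ | ⟨w, rfl⟩
    · exact ⟨li w, by rw [← Scheme.Hom.comp_apply, hli]⟩
    · exact ⟨lj w, by rw [← Scheme.Hom.comp_apply, hlj]⟩
  haveI : IsClosedImmersion e := .of_isPreimmersion e (hs ▸ isClosed_univ)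
  haveI : IsIso e := IsClosedImmersion.isIso_iff_ker_eq_bot.2 (le_bot_iff.1 (h ▸ le_inf
    (hli ▸ li.le_ker_comp e) (hlj ▸ lj.le_ker_comp e)))
  exact (cancel_epi e).1 he

variable {S : Scheme.{u}} (I J : S.IdealSheafData)

theorem ker_inclusion_inf :
    (Scheme.IdealSheafData.inclusion (inf_le_left : I ⊓ J ≤ I)).ker ⊓
      (Scheme.IdealSheafData.inclusion (inf_le_right : I ⊓ J ≤ J)).ker = ⊥ := by
  set kI := (Scheme.IdealSheafData.inclusion (inf_le_left : I ⊓ J ≤ I)).ker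
  set kJ := (Scheme.IdealSheafData.inclusion (inf_le_right : I ⊓ J ≤ J)).ker
  let ι := (I ⊓ J).subschemeι
  have gen : ∀ (K : S.IdealSheafData) (h : I ⊓ J ≤ K),
      ((Scheme.IdealSheafData.inclusion h).ker.subschemeι ≫ ι).ker = K := fun K h => by
    let g := Scheme.IdealSheafData.inclusion h
    have e1 : g.toImage ≫ g.imageι ≫ ι = K.subschemeι :=
      (Category.assoc _ _ _).symm.trans ((congrArg (· ≫ ι) g.toImage_imageι).trans
        (Scheme.IdealSheafData.inclusion_subschemeι h))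
    exact ((Scheme.Hom.ker_comp_of_isIso g.toImage (g.imageι ≫ ι)).symm.trans (congrArg Scheme.Hom.ker e1)).trans
      K.ker_subschemeι
  have h1 : (kI.subschemeι ≫ ι).ker = I := gen I inf_le_left
  have h2 : (kJ.subschemeι ≫ ι).ker = J := gen J inf_le_right
  let e := (kI ⊓ kJ).subschemeι
  have hle : (e ≫ ι).ker = ι.ker := by
    refine le_antisymm ?_ (e.le_ker_comp ι)
    rw [Scheme.IdealSheafData.ker_subschemeι]
    refine le_inf ?_ ?_
    · conv_rhs => rw [← h1]
      rw [← Scheme.IdealSheafData.inclusion_subschemeι (inf_le_left : kI ⊓ kJ ≤ kI), Category.assoc]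
      exact Scheme.Hom.le_ker_comp _ _
    · conv_rhs => rw [← h2]
      rw [← Scheme.IdealSheafData.inclusion_subschemeι (inf_le_right : kI ⊓ kJ ≤ kJ), Category.assoc]
      exact Scheme.Hom.le_ker_comp _ _
  haveI : IsIso e := IsClosedImmersion.isIso_of_ker_eq (e ≫ ι) ι e rfl hle
  exact (Scheme.IdealSheafData.ker_subschemeι (kI ⊓ kJ)).symm.trans e.ker_eq_bot_of_isIso

theorem comap_inf_of_isOpenImmersion {X Y : Scheme.{u}} (f : X ⟶ Y) [IsOpenImmersion f] (K L : Y.IdealSheafData) :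
    (K ⊓ L).comap f = K.comap f ⊓ L.comap f := by
  refine Scheme.IdealSheafData.ext (funext fun U => ?_)
  simp only [Scheme.IdealSheafData.ideal_comap_of_isOpenImmersion, Scheme.IdealSheafData.ideal_inf,
    Pi.inf_apply, Ideal.comap_inf]

theorem comap_bot' {X Y : Scheme.{u}} (f : X ⟶ Y) : (⊥ : Y.IdealSheafData).comap f = ⊥ := by
  simp

variable {T : Scheme.{u}} (a : I.subscheme ⟶ T) (b : J.subscheme ⟶ T)
  (hab : Scheme.IdealSheafData.inclusion (le_sup_left : I ≤ I ⊔ J) ≫ a =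
    Scheme.IdealSheafData.inclusion (le_sup_right : J ≤ I ⊔ J) ≫ b)

include hab in
theorem exists_chart (z : (I ⊓ J).subscheme) :
    ∃ (U : S.affineOpens) (V : T.affineOpens), (I ⊓ J).subschemeι z ∈ U.1 ∧
      I.subschemeι ⁻¹ᵁ U.1 ≤ a ⁻¹ᵁ V.1 ∧ J.subschemeι ⁻¹ᵁ U.1 ≤ b ⁻¹ᵁ V.1 := by
  set x := (I ⊓ J).subschemeι z
  have hboth : ∀ q r, I.subschemeι q = x → J.subschemeι r = x → a q = b r := fun q r hq hr => by
    have hP := Groth.Agent.S9382.result S I J
    obtain ⟨w, hw1, hw2⟩ := Scheme.Pullback.exists_preimage_pullback (f := I.subschemeι) (g := J.subschemeι) q r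
      (hq.trans hr.symm)
    have e1 := congr(($(hP.isoPullback_inv_fst) ≫ a) w)
    have e2 := congr(($(hP.isoPullback_inv_snd) ≫ b) w)
    rw [Category.assoc] at e1 e2
    rw [hab] at e1
    rw [← hw1, ← hw2]
    exact e1.symm.trans e2
  obtain ⟨V, hq, hr⟩ : ∃ V : T.affineOpens, (∀ q, I.subschemeι q = x → a q ∈ V.1) ∧
      ∀ r, J.subschemeι r = x → b r ∈ V.1 := by
    rcases range_union _ _ (ker_inclusion_inf I J) z with ⟨q, hq⟩ | ⟨r, hr⟩
    · have hqx : I.subschemeι q = x := by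
        rw [← Scheme.IdealSheafData.inclusion_subschemeι (inf_le_left : I ⊓ J ≤ I), Scheme.Hom.comp_apply, hq]
      obtain ⟨V, hV, hmem, -⟩ := exists_isAffineOpen_mem_and_subset (U := (⊤ : T.Opens)) (x := a q) trivial
      refine ⟨⟨V, hV⟩, fun q' hq' => ?_, fun r hr => ?_⟩
      · obtain rfl := I.subschemeι.isClosedEmbedding.injective (hq'.trans hqx.symm)
        exact hmem
      · rw [← hboth q r hqx hr]
        exact hmem
    · have hrx : J.subschemeι r = x := by
        rw [← Scheme.IdealSheafData.inclusion_subschemeι (inf_le_right : I ⊓ J ≤ J), Scheme.Hom.comp_apply, hr]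
      obtain ⟨V, hV, hmem, -⟩ := exists_isAffineOpen_mem_and_subset (U := (⊤ : T.Opens)) (x := b r) trivial
      refine ⟨⟨V, hV⟩, fun q hq => ?_, fun r' hr' => ?_⟩
      · rw [hboth q r hq hrx]
        exact hmem
      · obtain rfl := J.subschemeι.isClosedEmbedding.injective (hr'.trans hrx.symm)
        exact hmem
  let C : Set S := I.subschemeι '' ((a ⁻¹ᵁ V.1 : I.subscheme.Opens) : Set I.subscheme)ᶜ ∪
    J.subschemeι '' ((b ⁻¹ᵁ V.1 : J.subscheme.Opens) : Set J.subscheme)ᶜ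
  have hC : IsClosed C := (I.subschemeι.isClosedEmbedding.isClosedMap _ (a ⁻¹ᵁ V.1).2.isClosed_compl).union
    (J.subschemeι.isClosedEmbedding.isClosedMap _ (b ⁻¹ᵁ V.1).2.isClosed_compl)
  have hxC : x ∈ (⟨Cᶜ, hC.isOpen_compl⟩ : S.Opens) := by
    rintro (⟨q, hq', he⟩ | ⟨r, hr', he⟩)
    · exact hq' (hq q he)
    · exact hr' (hr r he)
  obtain ⟨U, hU, hxU, hUC⟩ := exists_isAffineOpen_mem_and_subset hxC
  refine ⟨⟨U, hU⟩, V, hxU, fun q hqU => ?_, fun r hrU => ?_⟩
  · by_contra hn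
    exact hUC hqU (Or.inl ⟨q, hn, rfl⟩)
  · by_contra hn
    exact hUC hrU (Or.inr ⟨r, hn, rfl⟩)

include hab in
theorem exists_local (U : S.affineOpens) (V : T.affineOpens) (ha : I.subschemeι ⁻¹ᵁ U.1 ≤ a ⁻¹ᵁ V.1)
    (hb : J.subschemeι ⁻¹ᵁ U.1 ≤ b ⁻¹ᵁ V.1) :
    ∃ m : Spec Γ((I ⊓ J).subscheme, (I ⊓ J).subschemeι ⁻¹ᵁ U.1) ⟶ T,
      (∀ h : I.subschemeι ⁻¹ᵁ U.1 ≤ Scheme.IdealSheafData.inclusion (inf_le_left : I ⊓ J ≤ I) ⁻¹ᵁ ((I ⊓ J).subschemeι ⁻¹ᵁ U.1),
        Spec.map ((Scheme.IdealSheafData.inclusion (inf_le_left : I ⊓ J ≤ I)).appLE _ _ h) ≫ m =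
          (U.2.preimage I.subschemeι).fromSpec ≫ a) ∧
      (∀ h : J.subschemeι ⁻¹ᵁ U.1 ≤ Scheme.IdealSheafData.inclusion (inf_le_right : I ⊓ J ≤ J) ⁻¹ᵁ ((I ⊓ J).subschemeι ⁻¹ᵁ U.1),
        Spec.map ((Scheme.IdealSheafData.inclusion (inf_le_right : I ⊓ J ≤ J)).appLE _ _ h) ≫ m =
          (U.2.preimage J.subschemeι).fromSpec ≫ b) := by
  set ιZ := (I ⊓ J).subschemeι
  set iX := Scheme.IdealSheafData.inclusion (inf_le_left : I ⊓ J ≤ I)
  set iY := Scheme.IdealSheafData.inclusion (inf_le_right : I ⊓ J ≤ J)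
  have hX : I.subschemeι ⁻¹ᵁ U.1 ≤ iX ⁻¹ᵁ (ιZ ⁻¹ᵁ U.1) := by
    rw [← Scheme.Hom.comp_preimage, Scheme.IdealSheafData.inclusion_subschemeι]
  have hY : J.subschemeι ⁻¹ᵁ U.1 ≤ iY ⁻¹ᵁ (ιZ ⁻¹ᵁ U.1) := by
    rw [← Scheme.Hom.comp_preimage, Scheme.IdealSheafData.inclusion_subschemeι]
  let ρX := (iX.appLE _ _ hX).hom
  let ρY := (iY.appLE _ _ hY).hom
  have eX : ∀ s, ρX (ιZ.app U.1 s) = I.subschemeι.app U.1 s := fun s => by
    have h := Scheme.Hom.appLE_comp_appLE iX ιZ U.1 (ιZ ⁻¹ᵁ U.1) (I.subschemeι ⁻¹ᵁ U.1) le_rfl hX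
    simp only [iX, ιZ, Scheme.IdealSheafData.inclusion_subschemeι] at h
    rw [← Scheme.Hom.app_eq_appLE, ← Scheme.Hom.app_eq_appLE] at h
    exact congr($h s)
  have eY : ∀ s, ρY (ιZ.app U.1 s) = J.subschemeι.app U.1 s := fun s => by
    have h := Scheme.Hom.appLE_comp_appLE iY ιZ U.1 (ιZ ⁻¹ᵁ U.1) (J.subschemeι ⁻¹ᵁ U.1) le_rfl hY
    simp only [iY, ιZ, Scheme.IdealSheafData.inclusion_subschemeι] at h
    rw [← Scheme.Hom.app_eq_appLE, ← Scheme.Hom.app_eq_appLE] at h
    exact congr($h s)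
  have hinj : Function.Injective (RingHom.prod ρX ρY) := (injective_iff_map_eq_zero _).2 fun w hw => by
    obtain ⟨s, rfl⟩ := (I ⊓ J).subschemeι_app_surjective U w
    have h1 : ρX (ιZ.app U.1 s) = 0 := congr_arg Prod.fst hw
    have h2 : ρY (ιZ.app U.1 s) = 0 := congr_arg Prod.snd hw
    rw [eX] at h1
    rw [eY] at h2
    rw [← RingHom.mem_ker, (I ⊓ J).ker_subschemeι_app U]
    exact ⟨(I.ker_subschemeι_app U).le h1, (J.ker_subschemeι_app U).le h2⟩
  have hlift : ∀ t : Γ(T, V.1), ∃ w, ρX w = a.appLE V.1 _ ha t ∧ ρY w = b.appLE V.1 _ hb t := fun t => by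
    obtain ⟨x, hx⟩ := I.subschemeι_app_surjective U (a.appLE V.1 _ ha t)
    obtain ⟨y, hy⟩ := J.subschemeι_app_surjective U (b.appLE V.1 _ hb t)
    let lI := Scheme.IdealSheafData.inclusion (le_sup_left : I ≤ I ⊔ J)
    let lJ := Scheme.IdealSheafData.inclusion (le_sup_right : J ≤ I ⊔ J)
    let ιP := (I ⊔ J).subschemeι
    have hl : ιP ⁻¹ᵁ U.1 ≤ lI ⁻¹ᵁ (I.subschemeι ⁻¹ᵁ U.1) := by
      rw [← Scheme.Hom.comp_preimage, Scheme.IdealSheafData.inclusion_subschemeι]
    have hr : ιP ⁻¹ᵁ U.1 ≤ lJ ⁻¹ᵁ (J.subschemeι ⁻¹ᵁ U.1) := by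
      rw [← Scheme.Hom.comp_preimage, Scheme.IdealSheafData.inclusion_subschemeι]
    have h1 : ιP.app U.1 x = lI.appLE _ _ hl (a.appLE V.1 _ ha t) := by
      rw [← hx]
      have h := Scheme.Hom.appLE_comp_appLE lI I.subschemeι U.1 (I.subschemeι ⁻¹ᵁ U.1) (ιP ⁻¹ᵁ U.1) le_rfl hl
      simp only [lI, ιP, Scheme.IdealSheafData.inclusion_subschemeι] at h
      rw [← Scheme.Hom.app_eq_appLE, ← Scheme.Hom.app_eq_appLE] at h
      exact congr($h x).symm
    have h2 : ιP.app U.1 y = lJ.appLE _ _ hr (b.appLE V.1 _ hb t) := by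
      rw [← hy]
      have h := Scheme.Hom.appLE_comp_appLE lJ J.subschemeι U.1 (J.subschemeι ⁻¹ᵁ U.1) (ιP ⁻¹ᵁ U.1) le_rfl hr
      simp only [lJ, ιP, Scheme.IdealSheafData.inclusion_subschemeι] at h
      rw [← Scheme.Hom.app_eq_appLE, ← Scheme.Hom.app_eq_appLE] at h
      exact congr($h y).symm
    have h3 : x - y ∈ I.ideal U ⊔ J.ideal U := by
      rw [← Pi.sup_apply, ← Scheme.IdealSheafData.ideal_sup, ← (I ⊔ J).ker_subschemeι_app U, RingHom.mem_ker]
      rw [map_sub, sub_eq_zero]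
      refine h1.trans (Eq.trans ?_ h2.symm)
      have e1 := Scheme.Hom.appLE_comp_appLE lI a V.1 _ (ιP ⁻¹ᵁ U.1) ha hl
      have e2 := Scheme.Hom.appLE_comp_appLE lJ b V.1 _ (ιP ⁻¹ᵁ U.1) hb hr
      simp only [lI, lJ, hab] at e1
      exact congr($(e1.trans e2.symm) t)
    obtain ⟨p, hp, q, hq, hpq⟩ := Submodule.mem_sup.1 h3
    refine ⟨ιZ.app U.1 (x - p), ?_, ?_⟩
    · rw [eX, map_sub, hx, RingHom.mem_ker.1 ((I.ker_subschemeι_app U).ge hp), sub_zero]
    · rw [eY, show x - p = y + q by linear_combination -hpq, map_add, hy,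
        RingHom.mem_ker.1 ((J.ker_subschemeι_app U).ge hq), add_zero]
  choose φ hφX hφY using hlift
  let Φ : Γ(T, V.1) →+* Γ((I ⊓ J).subscheme, ιZ ⁻¹ᵁ U.1) :=
    { toFun := φ
      map_one' := hinj (Prod.ext (by simp [hφX]) (by simp [hφY]))
      map_mul' := fun s t => hinj (Prod.ext (by simp [hφX]) (by simp [hφY]))
      map_zero' := hinj (Prod.ext (by simp [hφX]) (by simp [hφY]))
      map_add' := fun s t => hinj (Prod.ext (by simp [hφX]) (by simp [hφY])) }
  refine ⟨Spec.map (CommRingCat.ofHom Φ) ≫ V.2.fromSpec, fun h => ?_, fun h => ?_⟩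
  · rw [← Spec.map_comp_assoc, ← IsAffineOpen.SpecMap_appLE_fromSpec a V.2 (U.2.preimage I.subschemeι) ha]
    congr 2
    ext t
    exact hφX t
  · rw [← Spec.map_comp_assoc, ← IsAffineOpen.SpecMap_appLE_fromSpec b V.2 (U.2.preimage J.subschemeι) hb]
    congr 2
    ext t
    exact hφY t

include hab in
theorem exists_desc : ∃ m : (I ⊓ J).subscheme ⟶ T,
    Scheme.IdealSheafData.inclusion (inf_le_left : I ⊓ J ≤ I) ≫ m = a ∧
      Scheme.IdealSheafData.inclusion (inf_le_right : I ⊓ J ≤ J) ≫ m = b := by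
  set iX := Scheme.IdealSheafData.inclusion (inf_le_left : I ⊓ J ≤ I)
  set iY := Scheme.IdealSheafData.inclusion (inf_le_right : I ⊓ J ≤ J)
  choose U V hzU ha hb using exists_chart I J a b hab
  choose m hmX hmY using fun z => exists_local I J a b hab (U z) (V z) (ha z) (hb z)
  let hW := fun z => (U z).2.preimage (I ⊓ J).subschemeι
  let 𝒰 : (I ⊓ J).subscheme.OpenCover := Scheme.Cover.mkOfCovers (I ⊓ J).subscheme
    (fun z => Spec Γ((I ⊓ J).subscheme, (I ⊓ J).subschemeι ⁻¹ᵁ (U z).1)) (fun z => (hW z).fromSpec)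
    (fun z => ⟨z, by
      obtain ⟨w, hw⟩ := (hW z).range_fromSpec.ge (show z ∈ (I ⊓ J).subschemeι ⁻¹ᵁ (U z).1 from hzU z)
      exact ⟨w, hw⟩⟩) (fun z => inferInstance)
  have hpre : ∀ {X : Scheme.{u}} (i : X ⟶ (I ⊓ J).subscheme) (ι : X ⟶ S), i ≫ (I ⊓ J).subschemeι = ι →
      ∀ z, ι ⁻¹ᵁ (U z).1 ≤ i ⁻¹ᵁ ((I ⊓ J).subschemeι ⁻¹ᵁ (U z).1) := fun i ι h z => by
    rw [← Scheme.Hom.comp_preimage, h]
  have agreeX : ∀ z, pullback.fst (hW z).fromSpec iX ≫ m z = pullback.snd (hW z).fromSpec iX ≫ a := fun z => by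
    have hle := hpre iX I.subschemeι (Scheme.IdealSheafData.inclusion_subschemeι _) z
    have hVf := IsAffineOpen.SpecMap_appLE_fromSpec iX (hW z) ((U z).2.preimage I.subschemeι) hle
    have hr : Set.range (pullback.snd (hW z).fromSpec iX) ⊆ Set.range ((U z).2.preimage I.subschemeι).fromSpec := by
      rw [Scheme.Pullback.range_snd, IsAffineOpen.range_fromSpec, IsAffineOpen.range_fromSpec]
      intro q hq
      show I.subschemeι q ∈ (U z).1
      rw [← Scheme.IdealSheafData.inclusion_subschemeι (inf_le_left : I ⊓ J ≤ I)]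
      exact hq
    let l := IsOpenImmersion.lift _ (pullback.snd (hW z).fromSpec iX) hr
    have hl : l ≫ _ = _ := IsOpenImmersion.lift_fac _ _ hr
    have h1 : pullback.fst (hW z).fromSpec iX = l ≫ Spec.map (iX.appLE _ _ hle) := by
      rw [← cancel_mono (hW z).fromSpec, Category.assoc, hVf, ← Category.assoc, hl, pullback.condition]
    rw [h1, Category.assoc, hmX z hle, ← Category.assoc, hl]
  have agreeY : ∀ z, pullback.fst (hW z).fromSpec iY ≫ m z = pullback.snd (hW z).fromSpec iY ≫ b := fun z => by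
    have hle := hpre iY J.subschemeι (Scheme.IdealSheafData.inclusion_subschemeι _) z
    have hVf := IsAffineOpen.SpecMap_appLE_fromSpec iY (hW z) ((U z).2.preimage J.subschemeι) hle
    have hr : Set.range (pullback.snd (hW z).fromSpec iY) ⊆ Set.range ((U z).2.preimage J.subschemeι).fromSpec := by
      rw [Scheme.Pullback.range_snd, IsAffineOpen.range_fromSpec, IsAffineOpen.range_fromSpec]
      intro q hq
      show J.subschemeι q ∈ (U z).1
      rw [← Scheme.IdealSheafData.inclusion_subschemeι (inf_le_right : I ⊓ J ≤ J)]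
      exact hq
    let l := IsOpenImmersion.lift _ (pullback.snd (hW z).fromSpec iY) hr
    have hl : l ≫ _ = _ := IsOpenImmersion.lift_fac _ _ hr
    have h1 : pullback.fst (hW z).fromSpec iY = l ≫ Spec.map (iY.appLE _ _ hle) := by
      rw [← cancel_mono (hW z).fromSpec, Category.assoc, hVf, ← Category.assoc, hl, pullback.condition]
    rw [h1, Category.assoc, hmY z hle, ← Category.assoc, hl]
  have hg : ∀ z z', pullback.fst (hW z).fromSpec (hW z').fromSpec ≫ m z =
      pullback.snd (hW z).fromSpec (hW z').fromSpec ≫ m z' := fun z z' => by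
    let p := pullback.fst (hW z).fromSpec (hW z').fromSpec ≫ (hW z).fromSpec
    have hp' : p = pullback.snd (hW z).fromSpec (hW z').fromSpec ≫ (hW z').fromSpec := pullback.condition
    refine eq_of_union (pullback.fst p iX) (pullback.fst p iY) ?_ _ _ ?_ ?_
    · rw [Scheme.IdealSheafData.ker_fst_of_isClosedImmersion, Scheme.IdealSheafData.ker_fst_of_isClosedImmersion,
        ← comap_inf_of_isOpenImmersion, ker_inclusion_inf, comap_bot']
    · have c : (pullback.fst p iX ≫ pullback.fst _ _) ≫ (hW z).fromSpec = pullback.snd p iX ≫ iX := by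
        rw [Category.assoc]; exact pullback.condition
      have c' : (pullback.fst p iX ≫ pullback.snd _ _) ≫ (hW z').fromSpec = pullback.snd p iX ≫ iX := by
        rw [Category.assoc, ← hp']; exact pullback.condition
      have e := congr(pullback.lift _ _ c ≫ $(agreeX z))
      have e' := congr(pullback.lift _ _ c' ≫ $(agreeX z'))
      simp only [← Category.assoc, pullback.lift_fst, pullback.lift_snd] at e e'
      exact (Category.assoc _ _ _).symm.trans ((e.trans e'.symm).trans (Category.assoc _ _ _))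
    · have c : (pullback.fst p iY ≫ pullback.fst _ _) ≫ (hW z).fromSpec = pullback.snd p iY ≫ iY := by
        rw [Category.assoc]; exact pullback.condition
      have c' : (pullback.fst p iY ≫ pullback.snd _ _) ≫ (hW z').fromSpec = pullback.snd p iY ≫ iY := by
        rw [Category.assoc, ← hp']; exact pullback.condition
      have e := congr(pullback.lift _ _ c ≫ $(agreeY z))
      have e' := congr(pullback.lift _ _ c' ≫ $(agreeY z'))
      simp only [← Category.assoc, pullback.lift_fst, pullback.lift_snd] at e e'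
      exact (Category.assoc _ _ _).symm.trans ((e.trans e'.symm).trans (Category.assoc _ _ _))
  let mm := 𝒰.glueMorphisms m hg
  have hm : ∀ z, (hW z).fromSpec ≫ mm = m z := fun z => Scheme.Cover.ι_glueMorphisms 𝒰 m hg z
  refine ⟨mm, ?_, ?_⟩
  · refine Scheme.Cover.hom_ext (𝒰.pullback₁ iX) _ _ fun z => ?_
    show pullback.fst iX (hW z).fromSpec ≫ iX ≫ mm = pullback.fst iX (hW z).fromSpec ≫ a
    rw [pullback.condition_assoc, hm z, ← pullbackSymmetry_hom_comp_fst iX (hW z).fromSpec, Category.assoc,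
      agreeX z, ← Category.assoc, pullbackSymmetry_hom_comp_snd]
  · refine Scheme.Cover.hom_ext (𝒰.pullback₁ iY) _ _ fun z => ?_
    show pullback.fst iY (hW z).fromSpec ≫ iY ≫ mm = pullback.fst iY (hW z).fromSpec ≫ b
    rw [pullback.condition_assoc, hm z, ← pullbackSymmetry_hom_comp_fst iY (hW z).fromSpec, Category.assoc,
      agreeY z, ← Category.assoc, pullbackSymmetry_hom_comp_snd]

noncomputable def desc : (I ⊓ J).subscheme ⟶ T := (exists_desc I J a b hab).choose

theorem desc_spec : Scheme.IdealSheafData.inclusion (inf_le_left : I ⊓ J ≤ I) ≫ desc I J a b hab = a ∧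
    Scheme.IdealSheafData.inclusion (inf_le_right : I ⊓ J ≤ J) ≫ desc I J a b hab = b :=
  (exists_desc I J a b hab).choose_spec
end Aux

open AlgebraicGeometry CategoryTheory in
/-- For closed subschemes X, Y ⊆ S with ideal sheaves I, J, the scheme-theoretic union (ideal sheaf I ⊓
J) is the pushout, in the category of schemes, of X and Y along the scheme-theoretic intersection
(ideal sheaf I ⊔ J). The exact sequence 0 → O_{X∪Y} → O_X × O_Y → O_{X∩Y} → 0 is not stated. -/
theorem result (S : Scheme.{u}) (I J : S.IdealSheafData) :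
    IsPushout (Scheme.IdealSheafData.inclusion (le_sup_left : I ≤ I ⊔ J))
      (Scheme.IdealSheafData.inclusion (le_sup_right : J ≤ I ⊔ J))
      (Scheme.IdealSheafData.inclusion (inf_le_left : I ⊓ J ≤ I))
      (Scheme.IdealSheafData.inclusion (inf_le_right : I ⊓ J ≤ J)) := by
  refine ⟨⟨?_⟩, ⟨?_⟩⟩
  · simp
  refine PushoutCocone.IsColimit.mk _ (fun c => Aux.desc I J c.inl c.inr c.condition)
    (fun c => (Aux.desc_spec I J c.inl c.inr c.condition).1) (fun c => (Aux.desc_spec I J c.inl c.inr c.condition).2)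
    fun c m h1 h2 => ?_
  obtain ⟨d1, d2⟩ := Aux.desc_spec I J c.inl c.inr c.condition
  exact Aux.eq_of_union (Scheme.IdealSheafData.inclusion inf_le_left) (Scheme.IdealSheafData.inclusion inf_le_right)
    (Aux.ker_inclusion_inf I J) _ _ (h1.trans d1.symm) (h2.trans d2.symm)

end Groth.Agent.S9383
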