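import Groth.Statements.S14520
import Groth.Agent.SurfRows.StrictT
import Groth.Agent.PnCoh.Chow.Proper
import Groth.Agent.RegBlow6.Regular
import Groth.Agent.Lib.BlowUpInt
import Groth.Agent.CurveCohLib.RegularCurve

set_option autoImplicit false
set_option backward.isDefEq.respectTransparency false
set_option backward.isDefEq.respectTransparency.types false
set_option linter.style.haveILetI false
set_option linter.unusedSectionVars false
set_option maxHeartbeats 800000
universe u
open CategoryTheory CategoryTheory.Limits AlgebraicGeometry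
open Surf

namespace Groth.Agent.S14520

open Groth.Agent.H23
attribute [local instance] PicMul.clMonoid

variable (k : Type u) [Field k] [IsAlgClosed k]

theorem fdeg_open {A B : Scheme.{u}} (j : A ⟶ B) [IsOpenImmersion j] (z : A) : VarDim.fdeg j z = 0 := by
  rw [VarDim.fdeg, VarDim.rdeg_preimmersion, map_zero]

theorem deg_birational {A B : Scheme.{u}} (f : A ⟶ B) (q : B ⟶ Spec (CommRingCat.of k)) [LocallyOfFiniteType (f ≫ q)]
    [LocallyOfFiniteType q] (U : B.Opens) [IsIso (f ∣_ U)] (x : A) (hx : x ∈ f ⁻¹ᵁ U) :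
    VarDim.deg (f ≫ q) x = VarDim.deg q (f x) := by
  have e1 := VarDim.deg_comp_eq (f ⁻¹ᵁ U).ι (f ≫ q) ⟨x, hx⟩
  have e2 := VarDim.deg_comp_eq ((f ∣_ U) ≫ U.ι) q ⟨x, hx⟩
  rw [fdeg_open, add_zero] at e1 e2
  have e4 : ((f ∣_ U) ≫ U.ι) ⟨x, hx⟩ = f x := by rw [morphismRestrict_ι]; rfl
  have e3 : VarDim.deg ((f ⁻¹ᵁ U).ι ≫ f ≫ q) ⟨x, hx⟩ = VarDim.deg (((f ∣_ U) ≫ U.ι) ≫ q) ⟨x, hx⟩ :=
    VarDim.deg_congr (by rw [morphismRestrict_ι, Category.assoc]) _
  rw [e1, e2, e4] at e3
  exact e3

theorem blowUp_geometry (X : Scheme.{u}) [X.Over (Spec (CommRingCat.of k))] [IsIntegral X]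
    [Smooth (X ↘ (Spec (CommRingCat.of k)))] (hdim : topologicalKrullDim X = 2) (P : X) (hP : IsClosed ({P} : Set X))
    (X' : Scheme.{u}) (f : X' ⟶ X) (hf : BlowUp.IsBlowUp f (Scheme.IdealSheafData.vanishingIdeal ⟨{P}, hP⟩))
    {N : ℕ} (ι : X ⟶ CohB1.ProjSpace N k) [IsClosedImmersion ι] [IsProper (X ↘ Spec (CommRingCat.of k))] :
    Smooth (f ≫ (X ↘ (Spec (CommRingCat.of k)))) ∧ IsProper (f ≫ (X ↘ (Spec (CommRingCat.of k)))) ∧ IsIntegral X' := by
  haveI := CurveCohLib.isNoetherian_of_proper (k := k) (X := X)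
  haveI : IsProper f := BlowUpLib.isProper_of_isBlowUp _ hf fun U => by
    haveI : IsNoetherianRing Γ(X, U.1) := IsLocallyNoetherian.component_noetherian U
    exact IsNoetherian.noetherian _
  letI : X'.Over (Spec (CommRingCat.of k)) := ⟨f ≫ (X ↘ (Spec (CommRingCat.of k)))⟩
  haveI hpr : IsProper (X' ↘ Spec (CommRingCat.of k)) := show IsProper (f ≫ (X ↘ (Spec (CommRingCat.of k)))) from inferInstance
  haveI := CurveCohLib.isNoetherian_of_proper (k := k) (X := X')
  obtain ⟨i, hi, hicl, hiker, -, hireg, -⟩ := SurfRows.exists_point_section k hdim P hP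
  haveI := hicl
  let U : X.Opens := ⟨({P} : Set X)ᶜ, hP.isOpen_compl⟩
  haveI : IsIso (f ∣_ U) := BlowUpLib.isIso_restrict hf _ fun x hx hmem => by
    rw [Scheme.IdealSheafData.coe_support_vanishingIdeal] at hmem
    exact hx (by simpa using hmem)
  have hne : Nonempty X' := by
    have hη : genericPoint X ∈ U := by
      intro hh
      have hs : ∀ z : X, z = P := fun z => (genericPoint_specializes z).mem_closed hP hh
      haveI : Subsingleton X := ⟨fun a b => (hs a).trans (hs b).symm⟩
      have h1 : topologicalKrullDim X ≤ 0 := topologicalKrullDim_zero_of_discreteTopology _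
      rw [hdim] at h1
      exact absurd h1 (by decide)
    obtain ⟨w, -⟩ := (f ∣_ U).surjective (⟨_, hη⟩ : U)
    exact ⟨w.1⟩
  rcases Lib.BlowUpInt.isEmpty_or_birational hf with hE | ⟨hint, -, -⟩
  · exact (hE.false hne.some).elim
  have hreg : ∀ x : X', IsRegularLocalRing (X'.presheaf.stalk x) := by
    intro x
    by_cases hx : f x ∈ U
    · haveI := GrpSchLib.isRegularLocalRing_stalk_of_smooth (X ↘ Spec (CommRingCat.of k)) (f x)
      haveI : IsIso (f.stalkMap x) := by
        have h1 : IsIso (((f ⁻¹ᵁ U).ι ≫ f).stalkMap ⟨x, hx⟩) := by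
          rw [Scheme.Hom.stalkMap_congr_hom _ ((f ∣_ U) ≫ U.ι) (morphismRestrict_ι f U).symm, Scheme.Hom.stalkMap_comp]
          infer_instance
        rw [Scheme.Hom.stalkMap_comp] at h1
        exact @IsIso.of_isIso_comp_right _ _ _ _ _ _ _ inferInstance h1
      exact IsRegularLocalRing.of_ringEquiv (asIso (f.stalkMap x)).commRingCatIsoToRingEquiv
    · let E := BlowUp.exceptional f i.ker
      have hxE : x ∈ E.support := by
        show x ∈ ((BlowUp.exceptional f i.ker).support : Set X')
        rw [Scheme.IdealSheafData.support_comap, TopologicalSpace.Closeds.coe_preimage, hiker,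
          Scheme.IdealSheafData.coe_support_vanishingIdeal]
        exact not_not.1 hx
      obtain ⟨y, rfl⟩ : x ∈ Set.range E.subschemeι := by rw [Scheme.IdealSheafData.range_subschemeι]; exact hxE
      obtain ⟨g, hg⟩ : ∃ g : E.subscheme ⟶ Spec (CommRingCat.of k), g ≫ i = E.subschemeι ≫ f := by
        refine ⟨(i.ker.comapIso f).hom ≫ pullback.snd f i.ker.subschemeι ≫ inv i.toImage, ?_⟩
        rw [Category.assoc, Category.assoc, IsIso.inv_comp_eq _ |>.2 (i.toImage_imageι).symm]
        show (i.ker.comapIso f).hom ≫ pullback.snd f i.ker.subschemeι ≫ i.ker.subschemeι = _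
        rw [← pullback.condition, ← Category.assoc, Scheme.IdealSheafData.comapIso_hom_fst]
      haveI : Smooth g := RegBlow6.smooth_exceptional i hireg f (by rw [hiker]; exact hf) g hg
      haveI := GrpSchLib.isRegularLocalRing_stalk_of_smooth g y
      exact RegBlow6.isRegularLocalRing_of_effCartier
        (show BlowUp.IsEffCartierIdeal E by simp only [E, BlowUp.exceptional, hiker]; exact hf.1) y
  exact ⟨CurveCohLib.RegularCurve.smooth_of_regular k fun x _ => hreg x, hpr, hint⟩

theorem blowUp_dim (X : Scheme.{u}) [X.Over (Spec (CommRingCat.of k))] [IsIntegral X]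
    [Smooth (X ↘ (Spec (CommRingCat.of k)))] (hdim : topologicalKrullDim X = 2) (P : X) (hP : IsClosed ({P} : Set X))
    (X' : Scheme.{u}) (f : X' ⟶ X) (hf : BlowUp.IsBlowUp f (Scheme.IdealSheafData.vanishingIdeal ⟨{P}, hP⟩))
    [IsProper (X ↘ Spec (CommRingCat.of k))] [IsProper (f ≫ (X ↘ Spec (CommRingCat.of k)))] [IsIntegral X'] :
    topologicalKrullDim X' = 2 := by
  let U : X.Opens := ⟨({P} : Set X)ᶜ, hP.isOpen_compl⟩
  haveI : IsIso (f ∣_ U) := BlowUpLib.isIso_restrict hf _ fun x hx hmem => by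
    rw [Scheme.IdealSheafData.coe_support_vanishingIdeal] at hmem
    exact hx (by simpa using hmem)
  have hη : genericPoint X ∈ U := by
    intro hh
    have hs : ∀ z : X, z = P := fun z => (genericPoint_specializes z).mem_closed hP hh
    haveI : Subsingleton X := ⟨fun a b => (hs a).trans (hs b).symm⟩
    have h1 : topologicalKrullDim X ≤ 0 := topologicalKrullDim_zero_of_discreteTopology _
    rw [hdim] at h1
    exact absurd h1 (by decide)
  obtain ⟨w, hw⟩ := (f ∣_ U).surjective (⟨_, hη⟩ : U)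
  have hw' : f w.1 = genericPoint X := by
    have h := congrArg Subtype.val hw
    rw [morphismRestrict_base] at h
    exact h
  have hmem : genericPoint X' ∈ f ⁻¹ᵁ U := (genericPoint_specializes w.1).mem_open (f ⁻¹ᵁ U).2 w.2
  have hgen : f (genericPoint X') = genericPoint X :=
    ((hw' ▸ (genericPoint_specializes w.1).map f.continuous :
      f (genericPoint X') ⤳ genericPoint X).antisymm (genericPoint_specializes _)).eq
  have e := deg_birational k f (X ↘ Spec (CommRingCat.of k)) U (genericPoint X') hmem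
  rw [hgen] at e
  rw [VarDim.topologicalKrullDim_eq_deg_genericPoint (X ↘ Spec (CommRingCat.of k))] at hdim
  rw [VarDim.topologicalKrullDim_eq_deg_genericPoint (f ≫ (X ↘ Spec (CommRingCat.of k))), e]
  exact hdim

theorem genus_eq {X : Scheme.{u}} [X.Over (Spec (CommRingCat.of k))] [IsProper (X ↘ Spec (CommRingCat.of k))]
    [Smooth (X ↘ Spec (CommRingCat.of k))] [IsIntegral X] (hdim : topologicalKrullDim X = 2) {C : Scheme.{u}}
    [oC : C.Over (Spec (CommRingCat.of k))] [IsIntegral C] (j : C ⟶ X) [IsClosedImmersion j]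
    (hj : j ≫ (X ↘ (Spec (CommRingCat.of k))) = (C ↘ (Spec (CommRingCat.of k)))) (hdimC : topologicalKrullDim C = 1)
    {W : X.Modules} (hW : ExtPow.IsExtPow 2 (Omega.sheaf (X ↘ Spec (CommRingCat.of k))) W)
    (hI : PicF.IsInvertible (ClSub.idealMod j.ker)) :
    2 - 2 * (Curv2.genus k C : ℤ) = SurfPairing.pair k (PicF.cl (ClSub.idealMod j.ker)) (PicF.cl W) -
      SurfPairing.pair k (PicF.cl (ClSub.idealMod j.ker)) (PicF.cl (ClSub.idealMod j.ker)) := by
  obtain ⟨q⟩ := oC
  change j ≫ (X ↘ (Spec (CommRingCat.of k))) = q at hj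
  subst hj
  letI : C.Over (Spec (CommRingCat.of k)) := ⟨j ≫ (X ↘ (Spec (CommRingCat.of k)))⟩
  haveI : IsProper (C ↘ Spec (CommRingCat.of k)) :=
    show IsProper (j ≫ (X ↘ (Spec (CommRingCat.of k)))) from inferInstance
  have h := CurveOnSurf.euler_ideal (k := k) j
  have h2 := SurfAdj.rr k hdim hW hI
  rw [SurfAdj.euler_curve_eq k C hdimC.le] at h
  unfold Curv2.genus
  linarith

theorem curve_data (X : Scheme.{u}) [X.Over (Spec (CommRingCat.of k))] [IsProper (X ↘ Spec (CommRingCat.of k))]
    [Smooth (X ↘ Spec (CommRingCat.of k))] [IsIntegral X] (hdim : topologicalKrullDim X = 2) {C : Scheme.{u}}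
    [C.Over (Spec (CommRingCat.of k))] [IsIntegral C] (j : C ⟶ X) [IsClosedImmersion j]
    (hj : j ≫ (X ↘ (Spec (CommRingCat.of k))) = (C ↘ (Spec (CommRingCat.of k)))) (hdimC : topologicalKrullDim C = 1)
    (W : X.Modules) (hW : ExtPow.IsExtPow 2 (Omega.sheaf (X ↘ Spec (CommRingCat.of k))) W) :
    PicF.IsInvertible (ClSub.idealMod j.ker) ∧ topologicalKrullDim (j.ker.support : Set X) = 1 ∧
    2 - 2 * (Curv2.genus k C : ℤ) = SurfPairing.pair k (PicF.cl (ClSub.idealMod j.ker)) (PicF.cl W) -
      SurfPairing.pair k (PicF.cl (ClSub.idealMod j.ker)) (PicF.cl (ClSub.idealMod j.ker)) ∧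
    IsIntegral j.ker.subscheme := by
  have hI := CurveOnSurf.isInvertible_ideal (X ↘ Spec (CommRingCat.of k)) hdim (SurfHodge.regular k) j hdimC
  haveI : Nonempty j.ker.subscheme := ⟨j.toImage (genericPoint C)⟩
  haveI hint : IsIntegral j.ker.subscheme := isIntegral_of_isOpenImmersion (inv j.toImage)
  refine ⟨hI, ?_, genus_eq k hdim j hj hdimC hW hI, hint⟩
  rw [← SurfRows.topologicalKrullDim_subscheme (C := j.ker), ← hdimC]
  exact IsHomeomorph.topologicalKrullDim_eq _ (inv j.toImage).homeomorph.isHomeomorph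

theorem generic_ker {X C : Scheme.{u}} [IsIntegral C] (j : C ⟶ X) [IsClosedImmersion j] [IsIntegral j.ker.subscheme] :
    j.ker.subschemeι (genericPoint j.ker.subscheme) = j (genericPoint C) := by
  have h2 : j.toImage (genericPoint C) = genericPoint j.ker.subscheme := genericPoint_eq_of_isOpenImmersion j.toImage
  rw [← h2, ← Scheme.Hom.comp_apply]
  exact congrArg (fun g : C ⟶ X => g (genericPoint C)) j.toImage_imageι

/-- Let k be an algebraically closed field, X a smooth projective surface over k (integral, smooth over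
k, of dimension two, with a closed immersion over k into some projective space), P a closed point of
X with ideal m_P, f : X' → X the blow-up of X at P (universal property), and C ⊆ X a curve (an
integral closed subscheme of dimension one, closed immersion j) of multiplicity m = ord_P(C) at P:
the ideal of C is contained in m_P^m and not in m_P^{m+1}. Let C' ⊆ X' be the strict transform of C:
an integral closed subscheme of dimension one (closed immersion j') whose generic point is mapped by
f to the generic point of C. Then p_a(C') = p_a(C) − m(m−1)/2, written 2 p_a(C') + m(m−1) = 2 p_a(C)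
with p_a = dim_k H^1(O). -/
theorem result (k : Type u) [Field k] [IsAlgClosed k]
    (X : Scheme.{u}) [X.Over (Spec (CommRingCat.of k))] [IsIntegral X] [Smooth (X ↘ (Spec (CommRingCat.of k)))] (hdim : topologicalKrullDim X = 2)
    (hprojX : ∃ (N : ℕ) (ι : X ⟶ CohB1.ProjSpace N k), IsClosedImmersion ι ∧ ι ≫ CohB1.ProjSpace.toSpec N k = (X ↘ (Spec (CommRingCat.of k))))
    (P : X) (hP : IsClosed ({P} : Set X))
    (X' : Scheme.{u}) (f : X' ⟶ X) (hf : BlowUp.IsBlowUp f (Scheme.IdealSheafData.vanishingIdeal ⟨{P}, hP⟩))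
    (C : Scheme.{u}) [C.Over (Spec (CommRingCat.of k))] [IsIntegral C] (hdimC : topologicalKrullDim C = 1)
    (j : C ⟶ X) [IsClosedImmersion j] (hj : j ≫ (X ↘ (Spec (CommRingCat.of k))) = (C ↘ (Spec (CommRingCat.of k))))
    (m : ℕ) (hm : j.ker ≤ Scheme.IdealSheafData.vanishingIdeal ⟨{P}, hP⟩ ^ m)
    (hm' : ¬ j.ker ≤ Scheme.IdealSheafData.vanishingIdeal ⟨{P}, hP⟩ ^ (m + 1))
    (C' : Scheme.{u}) [C'.Over (Spec (CommRingCat.of k))] [IsIntegral C'] (hdimC' : topologicalKrullDim C' = 1)
    (j' : C' ⟶ X') [IsClosedImmersion j'] (hj' : j' ≫ f ≫ (X ↘ (Spec (CommRingCat.of k))) = (C' ↘ (Spec (CommRingCat.of k))))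
    (hgen : f (j' (genericPoint C')) = j (genericPoint C)) :
    2 * Curv2.genus k C' + m * (m - 1) = 2 * Curv2.genus k C := by
  obtain ⟨N, ι, hι, hfac⟩ := hprojX
  haveI := hι
  haveI := PnCoh.Chow.isProper_toSpec N k
  haveI : IsProper (X ↘ Spec (CommRingCat.of k)) := by
    rw [← hfac]
    infer_instance
  haveI := CurveCohLib.isNoetherian_of_proper (k := k) (X := X)
  letI : X'.Over (Spec (CommRingCat.of k)) := ⟨f ≫ (X ↘ (Spec (CommRingCat.of k)))⟩
  obtain ⟨hsm, hpr, hint⟩ := blowUp_geometry k X hdim P hP X' f hf ι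
  haveI : Smooth (X' ↘ Spec (CommRingCat.of k)) := hsm
  haveI : IsProper (X' ↘ Spec (CommRingCat.of k)) := hpr
  haveI := hint
  have hdim' : topologicalKrullDim X' = 2 := blowUp_dim k X hdim P hP X' f hf
  haveI := CurveFin.smoothOfRelativeDimension_of_dim (f := X ↘ Spec (CommRingCat.of k)) (d := 2) hdim
  obtain ⟨W, -, hW⟩ := H28.ExtSh.exists_extPow (m := 2)
    (Synt29.DRVanish.isFinLocFree_omega (X ↘ Spec (CommRingCat.of k)))
  obtain ⟨W', -, hW'⟩ := H28.ExtSh.exists_extPow (m := 2)
    (Synt29.DRVanish.isFinLocFree_omega (X' ↘ Spec (CommRingCat.of k)))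
  obtain ⟨hCi, hCd, hgC, hCint⟩ := curve_data k X hdim j hj hdimC W hW
  obtain ⟨hC'i, hC'd, hgC', hC'int⟩ := curve_data k X' hdim' j' hj' hdimC' W' hW'
  haveI := hCint
  haveI := hC'int
  have htot := SurfRows.blowPt_total k P hP f rfl hf hdim hdim' j.ker hCd j'.ker hC'd (by
    rw [generic_ker j, generic_ker j']
    exact hgen) m hm hm'
  have h := SurfRows.blowPt_strict_adj k P hP f rfl hf hdim hdim' hW hW' j.ker hCi j'.ker hC'i m htot
  have h' : (2 : ℤ) * Curv2.genus k C' + (m : ℤ) * ((m : ℤ) - 1) = 2 * Curv2.genus k C := by linarith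
  rcases Nat.eq_zero_or_pos m with rfl | hm0
  · simp at h' ⊢
    exact_mod_cast h'
  · zify [hm0]
    push_cast [Nat.cast_sub hm0]
    exact_mod_cast h'

end Groth.Agent.S14520
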