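import Groth.Statements.S18647
import Groth.Agent.GrLib8.SegreRing
import Groth.Agent.GrLib8.HomNN
import Groth.Agent.GrLib8.SegrePoly
-- import your own Groth.Agent.* helpers here

set_option autoImplicit false
universe u
open scoped TensorProduct
open GrSegre

namespace Groth.Agent.S18647

/-- Let R and S be graded rings defined over a field k with dim R = r ≥ 1 and dim S = s ≥ 1. Then the
Segre product T = R # S has Krull dimension r + s − 1. Here a graded ring defined over k is a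
commutative k-algebra of finite type, graded in nonnegative degrees by k-subspaces with degree-zero
part k·1; the Segre product T = R # S = ⊕_n R_n ⊗_k S_n (graded by T_n = R_n ⊗_k S_n) is presented
abstractly as a graded k-algebra T with an injective k-algebra homomorphism ψ : T → R ⊗_k S carrying
T_n onto the k-span of the elementary tensors a ⊗ b with a ∈ R_n, b ∈ S_n, for every n. -/
theorem result (k : Type u) [Field k] (R : Type u) [CommRing R] [Algebra k R] (𝒜 : ℤ → Submodule k R) [GradedAlgebra 𝒜] (hposR : ∀ n : ℤ, n < 0 → 𝒜 n = ⊥) (h0R : 𝒜 0 = Submodule.span k {(1 : R)}) [Algebra.FiniteType k R] (S : Type u) [CommRing S] [Algebra k S] (ℬ : ℤ → Submodule k S) [GradedAlgebra ℬ] (hposS : ∀ n : ℤ, n < 0 → ℬ n = ⊥) (h0S : ℬ 0 = Submodule.span k {(1 : S)}) [Algebra.FiniteType k S] (T : Type u) [CommRing T] [Algebra k T] (𝒯 : ℤ → Submodule k T) [GradedAlgebra 𝒯] (ψ : T →ₐ[k] TensorProduct k R S) (hψ : Function.Injective ψ) (hdegT : ∀ n : ℤ, (𝒯 n).map ψ.toLinearMap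 = Submodule.span k {x : TensorProduct k R S | ∃ a ∈ 𝒜 n, ∃ b ∈ ℬ n, x = a ⊗ₜ[k] b}) (r s : ℕ) (hr : ringKrullDim R = r) (hs : ringKrullDim S = s) (h1r : 1 ≤ r) (h1s : 1 ≤ s) : ringKrullDim T = ((r + s - 1 : ℕ) : WithBot ℕ∞) := by
  classical
  have hT : GrSeg.IsSegreRing 𝒜 ℬ 𝒯 ψ := ⟨hψ, hdegT⟩
  obtain ⟨D₁, hD₁, hR⟩ := GrLib8.HomNN.exists_normalization 𝒜 hposR h0R r hr
  obtain ⟨D₂, hD₂, hS⟩ := GrLib8.HomNN.exists_normalization ℬ hposS h0S s hs
  obtain ⟨f, hf, hfinj, hffin⟩ := hR (D₁ * D₂) (Nat.mul_pos hD₁ hD₂) (dvd_mul_right _ _)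
  obtain ⟨g, hg, hginj, hgfin⟩ := hS (D₁ * D₂) (Nat.mul_pos hD₁ hD₂) (dvd_mul_left _ _)
  set D := D₁ * D₂ with hDdef
  have hD : 0 < D := Nat.mul_pos hD₁ hD₂
  let Φ : MvPolynomial (Fin r ⊕ Fin s) k →ₐ[k] TensorProduct k R S :=
    MvPolynomial.aeval (Sum.elim (fun i => f i ⊗ₜ[k] (1 : S)) (fun j => (1 : R) ⊗ₜ[k] g j))
  have hΦl : ∀ p : MvPolynomial (Fin r) k, Φ (MvPolynomial.rename Sum.inl p) = MvPolynomial.aeval f p ⊗ₜ[k] (1 : S) := by
    intro p
    have : Φ.comp (MvPolynomial.rename Sum.inl) =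
        (Algebra.TensorProduct.includeLeft : R →ₐ[k] TensorProduct k R S).comp (MvPolynomial.aeval f) := by
      refine MvPolynomial.algHom_ext fun i => ?_
      simp [Φ]
    exact DFunLike.congr_fun this p
  have hΦr : ∀ p : MvPolynomial (Fin s) k, Φ (MvPolynomial.rename Sum.inr p) = (1 : R) ⊗ₜ[k] MvPolynomial.aeval g p := by
    intro p
    have : Φ.comp (MvPolynomial.rename Sum.inr) =
        (Algebra.TensorProduct.includeRight : S →ₐ[k] TensorProduct k R S).comp (MvPolynomial.aeval g) := by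
      refine MvPolynomial.algHom_ext fun i => ?_
      simp [Φ]
    exact DFunLike.congr_fun this p
  have hΦinj : Function.Injective Φ := by
    let split : MvPolynomial (Fin r ⊕ Fin s) k →ₐ[k] TensorProduct k (MvPolynomial (Fin r) k) (MvPolynomial (Fin s) k) :=
      MvPolynomial.aeval (Sum.elim (fun i => MvPolynomial.X i ⊗ₜ[k] 1) (fun j => 1 ⊗ₜ[k] MvPolynomial.X j))
    let merge : TensorProduct k (MvPolynomial (Fin r) k) (MvPolynomial (Fin s) k) →ₐ[k] MvPolynomial (Fin r ⊕ Fin s) k :=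
      Algebra.TensorProduct.lift (MvPolynomial.rename Sum.inl) (MvPolynomial.rename Sum.inr) fun _ _ => Commute.all _ _
    have hms : merge.comp split = AlgHom.id k _ := by
      refine MvPolynomial.algHom_ext fun a => ?_
      rcases a with i | j <;> simp [merge, split]
    have heq : Φ = (Algebra.TensorProduct.map (MvPolynomial.aeval f) (MvPolynomial.aeval g)).comp split := by
      refine MvPolynomial.algHom_ext fun a => ?_
      rcases a with i | j <;> simp [Φ, split]
    rw [heq, AlgHom.coe_comp]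
    refine Function.Injective.comp ?_ (Function.LeftInverse.injective fun x => DFunLike.congr_fun hms x)
    exact TensorProduct.map_injective_of_flat_flat (MvPolynomial.aeval f).toLinearMap (MvPolynomial.aeval g).toLinearMap hfinj hginj
  have hint : ∀ z : TensorProduct k R S, Φ.toRingHom.IsIntegralElem z := by
    intro z
    induction z using TensorProduct.induction_on with
    | zero => exact Φ.toRingHom.isIntegralElem_zero
    | add a b ha hb => exact ha.add _ hb
    | tmul a b =>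
      rw [show a ⊗ₜ[k] b = (a ⊗ₜ[k] (1 : S)) * ((1 : R) ⊗ₜ[k] b) by simp]
      refine RingHom.IsIntegralElem.mul _ ?_ ?_
      · obtain ⟨p, hp, hp0⟩ := hffin.to_isIntegral a
        refine ⟨p.map (MvPolynomial.rename (Sum.inl : Fin r → Fin r ⊕ Fin s)).toRingHom, hp.map _, ?_⟩
        have h := congrArg (Algebra.TensorProduct.includeLeft : R →ₐ[k] TensorProduct k R S).toRingHom hp0
        rw [map_zero, Polynomial.hom_eval₂] at h
        rw [Polynomial.eval₂_map]
        refine Eq.trans (Polynomial.eval₂_congr (RingHom.ext fun x => ?_) rfl rfl) h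
        exact hΦl x
      · obtain ⟨p, hp, hp0⟩ := hgfin.to_isIntegral b
        refine ⟨p.map (MvPolynomial.rename (Sum.inr : Fin s → Fin r ⊕ Fin s)).toRingHom, hp.map _, ?_⟩
        have h := congrArg (Algebra.TensorProduct.includeRight : S →ₐ[k] TensorProduct k R S).toRingHom hp0
        rw [map_zero, Polynomial.hom_eval₂] at h
        rw [Polynomial.eval₂_map]
        refine Eq.trans (Polynomial.eval₂_congr (RingHom.ext fun x => ?_) rfl rfl) h
        exact hΦr x
  -- the subalgebra of `T` generated by the products of parameters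
  have hgen : ∀ p : Fin r × Fin s, ∃ t : T, ψ t = f p.1 ⊗ₜ[k] g p.2 := fun p => by
    obtain ⟨t, -, ht⟩ := (hdegT (D : ℤ)).ge (Submodule.subset_span ⟨_, hf p.1, _, hg p.2, rfl⟩ :
      f p.1 ⊗ₜ[k] g p.2 ∈ Submodule.span k {x | ∃ a ∈ 𝒜 (D : ℤ), ∃ b ∈ ℬ (D : ℤ), x = a ⊗ₜ[k] b})
    exact ⟨t, ht⟩
  choose t ht using hgen
  let B := Algebra.adjoin k (Set.range t)
  have hBmap : B.map ψ = (GrLib8.SegPoly.B0 k r s).map Φ := by
    simp only [B, GrLib8.SegPoly.B0, AlgHom.map_adjoin, ← Set.range_comp]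
    congr 2
    funext p
    simp [Φ, ht]
  let diag := GrLib8.Seg.diag 𝒜 ℬ (GrLib8.addPieces 𝒜) (GrLib8.addPieces ℬ)
  have hSM := GrLib8.Seg.isSegreMod_self 𝒜 ℬ 𝒯 ψ hT
  have hdiagψ : ∀ u : T, diag (ψ u) = ψ u := fun u =>
    GrLib8.Seg.diag_apply 𝒜 ℬ (GrLib8.addPieces 𝒜) (GrLib8.addPieces ℬ) (GrLib8.addPieces 𝒯) hSM u
  have hdiagmul : ∀ (z : TensorProduct k R S) (u : T), diag (z * ψ u) = diag z * ψ u := fun z u => by
    rw [mul_comm z, mul_comm (diag z), ← GrLib8.Seg.act_eq_mul, ← GrLib8.Seg.act_eq_mul]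
    exact GrLib8.Seg.diag_act 𝒜 ℬ (GrLib8.addPieces 𝒜) (GrLib8.addPieces ℬ) 𝒯 ψ hT.2 u z
  have hmon : ∀ α : Fin r ⊕ Fin s →₀ ℕ, Φ (MvPolynomial.monomial α 1) =
      (∏ i, f i ^ α (Sum.inl i)) ⊗ₜ[k] (∏ j, g j ^ α (Sum.inr j)) := by
    intro α
    have h1 : ∀ (m : Finset (Fin r)), (∏ i ∈ m, (f i ⊗ₜ[k] (1 : S)) ^ α (Sum.inl i)) = (∏ i ∈ m, f i ^ α (Sum.inl i)) ⊗ₜ[k] (1 : S) := by
      intro m
      induction m using Finset.induction_on with
      | empty => simp [Algebra.TensorProduct.one_def]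
      | insert a m ha ih => rw [Finset.prod_insert ha, Finset.prod_insert ha, ih, Algebra.TensorProduct.tmul_pow, Algebra.TensorProduct.tmul_mul_tmul, one_pow, one_mul]
    have h2 : ∀ (m : Finset (Fin s)), (∏ j ∈ m, ((1 : R) ⊗ₜ[k] g j) ^ α (Sum.inr j)) = (1 : R) ⊗ₜ[k] (∏ j ∈ m, g j ^ α (Sum.inr j)) := by
      intro m
      induction m using Finset.induction_on with
      | empty => simp [Algebra.TensorProduct.one_def]
      | insert a m ha ih => rw [Finset.prod_insert ha, Finset.prod_insert ha, ih, Algebra.TensorProduct.tmul_pow, Algebra.TensorProduct.tmul_mul_tmul, one_pow, one_mul]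
    simp only [Φ, MvPolynomial.aeval_monomial, map_one, one_mul]
    rw [Finsupp.prod_fintype _ _ (fun a => pow_zero _), Fintype.prod_sum_type]
    simp only [Sum.elim_inl, Sum.elim_inr]
    rw [h1, h2, Algebra.TensorProduct.tmul_mul_tmul, mul_one, one_mul]
  have hpieceR : ∀ α : Fin r → ℕ, (∏ i, f i ^ α i) ∈ 𝒜 ((D : ℤ) * (∑ i, α i : ℕ)) := fun α => by
    have := SetLike.prod_mem_graded (A := 𝒜) (fun i => α i • (D : ℤ)) (fun i => f i ^ α i) (F := Finset.univ) fun i _ => SetLike.pow_mem_graded _ (hf i)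
    rwa [← Finset.sum_smul, nsmul_eq_mul, mul_comm] at this
  have hpieceS : ∀ α : Fin s → ℕ, (∏ i, g i ^ α i) ∈ ℬ ((D : ℤ) * (∑ i, α i : ℕ)) := fun α => by
    have := SetLike.prod_mem_graded (A := ℬ) (fun i => α i • (D : ℤ)) (fun i => g i ^ α i) (F := Finset.univ) fun i _ => SetLike.pow_mem_graded _ (hg i)
    rwa [← Finset.sum_smul, nsmul_eq_mul, mul_comm] at this
  have hproj : ∀ c : MvPolynomial (Fin r ⊕ Fin s) k, ∃ b ∈ B, ψ b = diag (Φ c) := by
    intro c
    induction c using MvPolynomial.induction_on' with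
    | monomial α a =>
      rw [show MvPolynomial.monomial α a = a • MvPolynomial.monomial α (1 : k) by rw [MvPolynomial.smul_monomial, smul_eq_mul, mul_one],
        map_smul, map_smul, hmon,
        GrLib8.Seg.diag_tmul_of_mem 𝒜 ℬ (GrLib8.addPieces 𝒜) (GrLib8.addPieces ℬ) (hpieceR fun i => α (Sum.inl i))]
      have hy := hpieceS fun j => α (Sum.inr j)
      by_cases he : (∑ i, α (Sum.inl i)) = ∑ j, α (Sum.inr j)
      · rw [← he] at hy
        rw [DirectSum.decompose_of_mem_same (GrLib8.addPieces ℬ) (show _ ∈ GrLib8.addPieces ℬ _ from hy)]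
        have hmem : Φ (MvPolynomial.monomial α 1) ∈ B.map ψ := hBmap ▸
          Subalgebra.mem_map.2 ⟨_, GrLib8.SegPoly.monomial_mem _ α rfl he.symm, rfl⟩
        obtain ⟨b, hb, hbe⟩ := Subalgebra.mem_map.1 hmem
        exact ⟨a • b, B.smul_mem hb a, by rw [map_smul, hbe, hmon]⟩
      · refine ⟨0, zero_mem _, ?_⟩
        rw [map_zero, DirectSum.decompose_of_mem_ne (GrLib8.addPieces ℬ) (show _ ∈ GrLib8.addPieces ℬ _ from hy) (fun h => he ?_),
          TensorProduct.tmul_zero, smul_zero]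
        exact_mod_cast (mul_left_cancel₀ (by exact_mod_cast hD.ne' : (D : ℤ) ≠ 0) h.symm)
    | add p q hp hq =>
      obtain ⟨b, hb, hbe⟩ := hp
      obtain ⟨b', hb', hbe'⟩ := hq
      exact ⟨b + b', add_mem hb hb', by rw [map_add, hbe, hbe', map_add, map_add]⟩
  choose β hβ hβe using hproj
  haveI : Algebra.IsIntegral B T := ⟨fun u => by
    obtain ⟨p, hp, hp0⟩ := hint (ψ u)
    let q : Polynomial B := Polynomial.X ^ p.natDegree + ∑ l ∈ Finset.range p.natDegree,
      Polynomial.C (⟨β (p.coeff l), hβ _⟩ : B) * Polynomial.X ^ l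
    refine ⟨q, Polynomial.monic_X_pow_add ?_, hψ ?_⟩
    · refine lt_of_le_of_lt (Polynomial.degree_sum_le _ _) ((Finset.sup_lt_iff (WithBot.bot_lt_coe _)).2 fun l hl => ?_)
      exact lt_of_le_of_lt (Polynomial.degree_C_mul_X_pow_le l _) (WithBot.coe_lt_coe.2 (Finset.mem_range.1 hl))
    · have h := congrArg diag hp0
      rw [map_zero, Polynomial.eval₂_eq_sum_range, map_sum, Finset.sum_range_succ, hp.coeff_natDegree, map_one, one_mul,
        ← map_pow, hdiagψ] at h
      simp only [q, Polynomial.eval₂_add, Polynomial.eval₂_X_pow, Polynomial.eval₂_finsetSum, Polynomial.eval₂_mul,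
        Polynomial.eval₂_C, map_add, map_sum, map_mul, map_zero]
      rw [add_comm]
      refine Eq.trans ?_ h
      congr 1
      refine Finset.sum_congr rfl fun l _ => ?_
      rw [← map_pow ψ, hdiagmul]
      exact congrArg (fun z => z * ψ (u ^ l)) (hβe (p.coeff l))⟩
  haveI : FaithfulSMul B T := (faithfulSMul_iff_algebraMap_injective _ _).2 Subtype.val_injective
  rw [VarDim.ringKrullDim_eq_of_isIntegral (R := B) (S := T), ← GrLib8.SegPoly.ringKrullDim_B0 k h1r h1s]
  exact ringKrullDim_eq_of_ringEquiv ((B.equivMapOfInjective ψ hψ).trans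
    ((Subalgebra.equivOfEq _ _ hBmap).trans ((GrLib8.SegPoly.B0 k r s).equivMapOfInjective Φ hΦinj).symm)).toRingEquiv

end Groth.Agent.S18647
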