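import Groth.Statements.S18654
import Groth.Agent.GrLib8.StarField
import Groth.Agent.GrLib8.StarDepth
import Groth.Agent.LC.CohTorsion
-- import your own Groth.Agent.* helpers here

set_option autoImplicit false
universe u
open GrLC

namespace Groth.Agent.S18654

/-- Let R be a graded ring defined over a field k = R_0 which is Cohen–Macaulay and generated over k by
R_1, with dim R ≥ 1, and write H(n, R) = dim_k R_n. Then H(n + 1, R) ≥ H(n, R) for every integer n.
Here 'graded ring defined over a field' means R = ⊕_{n ≥ 0} R_n is Noetherian with R_0 a field, and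
m = R_+ is its unique graded maximal ideal. -/
theorem result (R : Type u) [CommRing R] [LocCoh.IsCohenMacaulayRing R] (𝒜 : ℤ → AddSubgroup R) [GradedRing 𝒜] (hpos : ∀ n : ℤ, n < 0 → 𝒜 n = ⊥) (h0 : IsField (GrLC.deg0 𝒜)) (hstd : Ideal.span (⋃ n ∈ Set.Ioi (0 : ℤ), (𝒜 n : Set R)) = Ideal.span ((𝒜 1 : AddSubgroup R) : Set R)) (h1 : 1 ≤ ringKrullDim R) (n : ℤ) : Module.finrank (GrLC.deg0 𝒜) (GrLC.comp 𝒜 𝒜 n) ≤ Module.finrank (GrLC.deg0 𝒜) (GrLC.comp 𝒜 𝒜 (n + 1)) := by
  classical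
  have hm := GrLib8.isStarLocal_irrel hpos h0
  have hdepth := GrLib8.idealDepth_eq_ringKrullDim hpos hm
  rw [← hdepth] at h1
  have hH0 : Subsingleton (LocCoh.H (GrSyz.irrel 𝒜).toIdeal 0 R) :=
    (LC.le_idealDepth_iff_H (GrSyz.irrel 𝒜).toIdeal R 1).1
      (by rw [Nat.cast_one]; exact WithBot.coe_le_coe.1 h1) 0 one_pos
  haveI := hH0
  haveI : Subsingleton (DRing.torsionSub (GrSyz.irrel 𝒜).toIdeal R) :=
    (LC.H0Equiv (GrSyz.irrel 𝒜).toIdeal (ModuleCat.of R R)).symm.toEquiv.subsingleton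
  obtain ⟨s, x, hx, hspan⟩ : ∃ (s : ℕ) (x : Fin s → R), (∀ j, x j ∈ 𝒜 1) ∧
      (GrSyz.irrel 𝒜).toIdeal ≤ Ideal.span (Set.range x) := by
    obtain ⟨T, hT, hTeq⟩ := Submodule.fg_span_iff_fg_span_finset_subset ((𝒜 1 : AddSubgroup R) : Set R) |>.1
      (IsNoetherian.noetherian (Ideal.span ((𝒜 1 : AddSubgroup R) : Set R)))
    refine ⟨T.card, fun j => (T.equivFin.symm j : R), fun j => hT (T.equivFin.symm j).2, ?_⟩
    rw [GrLib8.irrel_toIdeal_eq, hstd]
    refine hTeq.le.trans (Submodule.span_mono fun y hy => ⟨T.equivFin ⟨y, hy⟩, by simp⟩)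
  refine GrLib8.finrank_comp_le_succ hpos h0 x hx (fun r hr => ?_) n
  have hmem : r ∈ DRing.torsionSub (GrSyz.irrel 𝒜).toIdeal R := by
    refine ⟨1, fun y hy => ?_⟩
    rw [pow_one] at hy
    have hy' := hspan hy
    clear hy
    induction hy' using Submodule.span_induction with
    | mem y hy =>
      obtain ⟨j, rfl⟩ := hy
      rw [smul_eq_mul, mul_comm]; exact hr j
    | zero => rw [zero_smul]
    | add y y' _ _ e1 e2 => rw [add_smul, e1, e2, add_zero]
    | smul c y _ e1 => rw [smul_assoc, e1, smul_zero]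
  exact congrArg Subtype.val (Subsingleton.elim (⟨r, hmem⟩ : DRing.torsionSub (GrSyz.irrel 𝒜).toIdeal R) 0)

end Groth.Agent.S18654
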