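import Groth.Statements.S19754
import Groth.Agent.GrLib8.SegDimRows
-- import your own Groth.Agent.* helpers here

set_option autoImplicit false
universe u
open scoped TensorProduct
open GrSegre

namespace Groth.Agent.S19754

/-- Let R and S be graded rings defined over a field k, T = R # S, M a finitely generated graded
Cohen–Macaulay R-module of dimension r ≥ 1 and N a finitely generated graded Cohen–Macaulay S-module
of dimension s ≥ 1. Then either M # N = 0 or dim (M # N) = r + s − 1. The letters r and s stand here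
for the dimensions of the modules M and N themselves and are not assumed to equal dim R and dim S;
the proof by homogeneous parameter systems of M and N establishes this general form. Here a graded
ring defined over k is a commutative k-algebra of finite type, graded in nonnegative degrees by
k-subspaces with degree-zero part k·1; the Segre product T = R # S = ⊕_n R_n ⊗_k S_n is presented
abstractly as a graded k-algebra T with an injective k-algebra homomorphism ψ : T → R ⊗_k S carrying
T_n onto the k-span of the elementary tensors a ⊗ b with a ∈ R_n, b ∈ S_n; the Segre product M # N =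
⊕_n M_n ⊗_k N_n of a graded R-module M and a graded S-module N is presented abstractly as a graded
T-module P with an injective k-linear map φ : P → M ⊗_k N carrying P_n onto the k-span of the
tensors x ⊗ y with x ∈ M_n, y ∈ N_n and turning the action of t ∈ T into that of ψ(t) (acting
factorwise on M ⊗_k N); a module over a ring is called Cohen–Macaulay when each of its localizations
at a prime ideal is zero or a Cohen–Macaulay module over the local ring (dimension of the support
equal to the depth), and the dimension of a module is the Krull dimension of its support. -/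
theorem result (k : Type u) [Field k] (R : Type u) [CommRing R] [Algebra k R] (𝒜 : ℤ → Submodule k R) [GradedAlgebra 𝒜] (hposR : ∀ n : ℤ, n < 0 → 𝒜 n = ⊥) (h0R : 𝒜 0 = Submodule.span k {(1 : R)}) [Algebra.FiniteType k R] (S : Type u) [CommRing S] [Algebra k S] (ℬ : ℤ → Submodule k S) [GradedAlgebra ℬ] (hposS : ∀ n : ℤ, n < 0 → ℬ n = ⊥) (h0S : ℬ 0 = Submodule.span k {(1 : S)}) [Algebra.FiniteType k S] (T : Type u) [CommRing T] [Algebra k T] (𝒯 : ℤ → Submodule k T) [GradedAlgebra 𝒯] (ψ : T →ₐ[k] TensorProduct k R S) (hT : GrSeg.IsSegreRing 𝒜 ℬ 𝒯 ψ) (M : Type u) [AddCommGroup M] [Module R M] [Module k M] [IsScalarTower k R M] (ℳ : ℤ → AddSubgroup M) [DirectSum.Decomposition ℳ] [SetLike.GradedSMul 𝒜 ℳ] [Module.Finite R M] (N : Type u) [AddCommGroup N] [Module S N] [Module k N] [IsScalarTower k S N] (𝒩 : ℤ → AddSubgroup N) [DirectSum.Decomposition 𝒩] [SetLike.GradedSMul ℬ 𝒩] [Module.Finite S N] (P : Type u) [AddCommGroup P] [Module T P] [Module k P] [IsScalarTower k T P] (𝒬 : ℤ → AddSubgroup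 P) [DirectSum.Decomposition 𝒬] (φ : P →ₗ[k] TensorProduct k M N) (hP : GrSeg.IsSegreMod ψ ℳ 𝒩 𝒬 φ) (r s : ℕ) (h1r : 1 ≤ r) (h1s : 1 ≤ s) (hdM : Module.supportDim R M = r) (hdN : Module.supportDim S N = s) (hMcm : (∀ (q : Ideal R) [q.IsPrime], Subsingleton (LocalizedModule q.primeCompl M) ∨ LocCoh.IsCohenMacaulayModule (Localization.AtPrime q) (LocalizedModule q.primeCompl M))) (hNcm : (∀ (q : Ideal S) [q.IsPrime], Subsingleton (LocalizedModule q.primeCompl N) ∨ LocCoh.IsCohenMacaulayModule (Localization.AtPrime q) (LocalizedModule q.primeCompl N))) : Module.supportDim T P = ((r + s - 1 : ℕ) : WithBot ℕ∞) ∨ Subsingleton P := by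
  classical
  haveI : IsNoetherianRing R := Algebra.FiniteType.isNoetherianRing k R
  haveI : IsNoetherianRing S := Algebra.FiniteType.isNoetherianRing k S
  haveI := GrLib8.Seg.isNoetherian_segre 𝒜 ℬ ℳ 𝒩 𝒯 𝒬 hT.2 hP
  haveI : Module.Finite T P := Module.Finite.of_fg_top (IsNoetherian.noetherian ⊤)
  rcases subsingleton_or_nontrivial P with hP0 | hP0
  · exact Or.inr hP0
  refine Or.inl ?_
  obtain ⟨D₁, hD₁, hR⟩ := GrLib8.SegDim.exists_mod_params 𝒜 hposR h0R ℳ r hdM
  obtain ⟨D₂, hD₂, hS⟩ := GrLib8.SegDim.exists_mod_params ℬ hposS h0S 𝒩 s hdN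
  obtain ⟨f, hf, hfinj, hffin⟩ := hR (D₁ * D₂) (Nat.mul_pos hD₁ hD₂) (dvd_mul_right _ _)
  obtain ⟨g, hg, hginj, hgfin⟩ := hS (D₁ * D₂) (Nat.mul_pos hD₁ hD₂) (dvd_mul_left _ _)
  obtain ⟨p, hp⟩ := exists_ne (0 : P)
  obtain ⟨d, hd⟩ : ∃ d, (DirectSum.decompose 𝒬 p d : P) ≠ 0 := by
    by_contra h
    push Not at h
    exact hp (by rw [← DirectSum.sum_support_decompose 𝒬 p]; exact Finset.sum_eq_zero fun d _ => h d)
  have hne : GrSeg.segrePiece k ℳ 𝒩 d ≠ ⊥ := by
    intro h
    have h1 : φ (DirectSum.decompose 𝒬 p d : P) ∈ (GrSeg.segrePiece k ℳ 𝒩 d : Set (TensorProduct k M N)) :=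
      (hP.image_piece d).le ⟨_, SetLike.coe_mem _, rfl⟩
    rw [h] at h1
    exact hd (hP.injective (((Submodule.mem_bot k).1 h1).trans (map_zero φ).symm))
  obtain ⟨x, hx, y, hy, hxy⟩ : ∃ x ∈ ℳ d, ∃ y ∈ 𝒩 d, x ⊗ₜ[k] y ≠ 0 := by
    by_contra h
    push Not at h
    refine hne (Submodule.span_eq_bot.2 ?_)
    rintro _ ⟨x, hx, y, hy, rfl⟩
    exact h x hx y hy
  have hx0 : x ≠ 0 := fun h => hxy (by rw [h, TensorProduct.zero_tmul])
  have hy0 : y ≠ 0 := fun h => hxy (by rw [h, TensorProduct.tmul_zero])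
  haveI : Nontrivial M := ⟨⟨x, 0, hx0⟩⟩
  haveI : Nontrivial R := Module.nontrivial R M
  haveI : Nontrivial N := ⟨⟨y, 0, hy0⟩⟩
  haveI : Nontrivial S := Module.nontrivial S N
  exact GrLib8.SegDim.supportDim_eq 𝒜 ℬ 𝒯 ℳ 𝒩 𝒬 f g (Nat.mul_pos hD₁ hD₂) hf hg hfinj hginj hffin hgfin hT hP
    h1r h1s hx hy (GrLib8.SegDim.free_of_isCM 𝒜 hposR h0R ℳ hdM hMcm f hffin hx0)
    (GrLib8.SegDim.free_of_isCM ℬ hposS h0S 𝒩 hdN hNcm g hgfin hy0)

end Groth.Agent.S19754
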