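import Groth.Statements.S1689
import Groth.Agent.CAlgOdd.ReflexiveCore
import Groth.Agent.RegLoc6.Serre
import Groth.Agent.RegLoc6.Basic
import Groth.Agent.QCoh.LocFree
import Groth.Agent.SchTop.Closed
-- import your own Groth.Agent.* helpers here

set_option autoImplicit false
universe u
open CategoryTheory CategoryTheory.Limits AlgebraicGeometry TopologicalSpace
open SDiv

namespace Groth.Agent.S1689

/-- Let X be a locally Noetherian scheme of dimension at most 2 all of whose local rings are regular,
and F a coherent module on X. Then F is reflexive (every stalk is a reflexive module over the local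
ring) if and only if F is finite locally free. -/
theorem result (X : Scheme.{u}) [IsLocallyNoetherian X]
    (hreg : ∀ x : ↥X, IsRegularLocalRing (X.presheaf.stalk x)) (hdim : topologicalKrullDim ↥X ≤ 2) (F : X.Modules)
    (hF : Coh.IsCoh F) : (∀ x : ↥X, Module.IsReflexive (X.presheaf.stalk x) (F.presheaf.stalk x)) ↔ FlatMod.IsFinLocFree F := by
  constructor
  · intro h
    refine Groth.Agent.QCoh.isFinLocFree_iff.2 ⟨Groth.Agent.QCoh.isCoh_iff_isFP.1 hF, fun x => ?_⟩
    haveI := hreg x
    haveI := Groth.Agent.RegLoc6.isDomain_of_isRegularLocalRing (X.presheaf.stalk x)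
    haveI := Groth.Agent.QCoh.finite_stalk_of_isFT hF.1 hF.2 x
    haveI := h x
    obtain ⟨n, m, f, g, hf, hfg⟩ :=
      Groth.Agent.CAlgOdd.Refl.exists_exact_free (R := X.presheaf.stalk x) (M := F.presheaf.stalk x)
    have h2 : (IsLocalRing.maximalIdeal (X.presheaf.stalk x)).spanFinrank ≤ 2 := by
      have h1 := (IsRegularLocalRing.spanFinrank_maximalIdeal (R := X.presheaf.stalk x)).trans_le
        ((Groth.Agent.SchTop.ringKrullDim_stalk_le x).trans hdim)
      exact_mod_cast h1
    -- the cokernel of `g` has projective dimension at most two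
    let q := (LinearMap.range g).mkQ
    have hQ : Groth.Agent.RegLoc6.PdLE (X.presheaf.stalk x) 2 ((Fin m → X.presheaf.stalk x) ⧸ LinearMap.range g) :=
      Groth.Agent.RegLoc6.pdLE_mono h2 (Groth.Agent.RegLoc6.pdLE_of_isRegularLocalRing _ _)
    rw [Groth.Agent.RegLoc6.pdLE_succ_iff q (Submodule.mkQ_surjective _)] at hQ
    have hR : Groth.Agent.RegLoc6.PdLE (X.presheaf.stalk x) 1 (LinearMap.range g) :=
      Groth.Agent.RegLoc6.pdLE_of_equiv (LinearEquiv.ofEq _ _ (LinearMap.range g).ker_mkQ) hQ
    rw [Groth.Agent.RegLoc6.pdLE_succ_iff g.rangeRestrict g.surjective_rangeRestrict] at hR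
    have hM : Groth.Agent.RegLoc6.PdLE (X.presheaf.stalk x) 0 (F.presheaf.stalk x) :=
      Groth.Agent.RegLoc6.pdLE_of_equiv
        ((LinearEquiv.ofEq _ _ ((LinearMap.ker_rangeRestrict g).trans hfg.linearMap_ker_eq)).trans
          (LinearEquiv.ofInjective f hf).symm) hR
    haveI := Groth.Agent.RegLoc6.pdLE_zero_iff.1 hM
    exact Module.free_of_flat_of_isLocalRing
  · intro h x
    haveI := Groth.Agent.QCoh.free_stalk_of_isFinLocFree h x
    haveI := Groth.Agent.QCoh.finite_stalk_of_isFT hF.1 hF.2 x
    infer_instance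

end Groth.Agent.S1689
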