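import Groth.Statements.S11198
import Groth.Agent.GrpSchLib.UnitsScheme
import Groth.Agent.GrpSchLib.Descent
import Groth.Agent.FBaseLib.Basic
import Mathlib.AlgebraicGeometry.Morphisms.Proper


set_option autoImplicit false
universe u
open CategoryTheory MonoidalCategory CartesianMonoidalCategory MonObj GrpObj AlgebraicGeometry
open scoped TensorProduct
open AGF

namespace Groth.Agent.S11198

open CategoryTheory MonoidalCategory CartesianMonoidalCategory MonObj AlgebraicGeometry Limits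
open Groth.Agent.GrpSchLib

variable {k : Type u} [Field k] [IsAlgClosed k]

/-- Right invariance under `H₁` propagates to `H₂` when `H₂/H₁` is proper and irreducible. -/
theorem le_rTransInv
    {G H₂ H₁ : Over (Spec (CommRingCat.of k))} [GrpObj G] [IsAffine G.left] [Smooth G.hom]
    [GrpObj H₂] [Smooth H₂.hom] (i₂ : H₂ ⟶ G) [IsMonHom i₂] [IsClosedImmersion i₂.left]
    [GrpObj H₁] (i₁ : H₁ ⟶ H₂) [IsMonHom i₁]
    {X : Over (Spec (CommRingCat.of k))} (a : AlgGrp.Action H₂ X) (o : 𝟙_ (Over (Spec (CommRingCat.of k))) ⟶ X)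
    (hX : AGF.IsQuotient i₁ X a o) [IsProper X.hom] [IrreducibleSpace X.left] :
    AGF.rTransInv (i₁ ≫ i₂) ≤ AGF.rTransInv i₂ := by
  intro f hf
  obtain ⟨-, hfl, hsur, hpb⟩ := hX
  haveI := hfl
  haveI := hsur
  haveI : IsAffine H₂.left := isAffine_of_isAffineHom i₂.left
  haveI : IsReduced H₂.left := isReduced_of_smooth_field H₂.hom
  haveI : IsReduced X.left := FBaseLib.isReduced_of_flat_surjective (a.orbitMap o).left
  haveI : IsIntegral X.left := isIntegral_of_irreducibleSpace_of_isReduced _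
  haveI : QuasiCompact ((a.orbitMap o).left ≫ X.hom) := by rw [Over.w (a.orbitMap o)]; infer_instance
  haveI : QuasiCompact (a.orbitMap o).left := QuasiCompact.of_comp _ X.hom
  haveI : Smooth (G ⊗ H₂).hom := inferInstanceAs (Smooth (pullback.fst G.hom H₂.hom ≫ G.hom))
  haveI : LocallyOfFiniteType (G ⊗ H₂).hom := inferInstance
  haveI : IsReduced (G ⊗ H₂).left := isReduced_of_smooth_field (G ⊗ H₂).hom
  have hk : Function.Surjective (algebraMap k (Kunneth.Fn X)) := by
    haveI := Kunneth.isDomain_fn X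
    haveI : Module.Finite k (Kunneth.Fn X) := (finite_appTop_of_universallyClosed k X.hom).comp
      (RingHom.Finite.of_surjective _ (ConcreteCategory.bijective_of_isIso (Scheme.ΓSpecIso (CommRingCat.of k)).inv).2)
    haveI : Algebra.IsIntegral k (Kunneth.Fn X) := Algebra.IsIntegral.of_finite k _
    exact (IsAlgClosed.algebraMap_bijective_of_isIntegral (k := k) (K := Kunneth.Fn X)).2
  let R := AGF.rTransInv (i₁ ≫ i₂)
  let β : G.left ⟶ Spec (CommRingCat.of R) := G.left.toSpecΓ ≫ Spec.map (CommRingCat.ofHom R.subtype)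
  have hinv : ((G ◁ (i₁ ≫ i₂)) ≫ μ[G]).left ≫ β = (fst G H₁).left ≫ β := by
    simp only [β, Scheme.toSpecΓ_naturality_assoc, ← Spec.map_comp]
    congr 2
    ext ⟨s, hs⟩
    exact hs
  rw [AGF.mem_rTransInv_iff]
  show Kunneth.ev ((G ◁ i₂) ≫ μ[G]) f = Kunneth.ev (fst G H₂) f
  refine sub_eq_zero.mp (Kunneth.eq_zero_of_forall_evPt _ fun y => ?_)
  rw [map_sub, sub_eq_zero, Kunneth.evPt_comp, Kunneth.evPt_comp]
  let g := y ≫ fst G H₂
  let h := y ≫ snd G H₂
  let φ : H₂ ⟶ G := (toUnit H₂ ≫ g) * i₂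
  have hy : y ≫ (G ◁ i₂) ≫ μ[G] = h ≫ φ := by
    have : (G ◁ i₂) ≫ μ[G] = fst G H₂ * (snd G H₂ ≫ i₂) := by
      rw [Hom.mul_def]
      congr 1
    rw [this]
    simp only [φ, g, h, MonObj.comp_mul, Category.assoc, toUnit_unique (y ≫ snd G H₂ ≫ toUnit H₂) (𝟙 _),
      ← Category.assoc _ (toUnit H₂)]
    simp [toUnit_unique (toUnit (𝟙_ (Over (Spec (CommRingCat.of k))))) (𝟙 _)]
  have hy0 : y ≫ fst G H₂ = (η[H₂] : 𝟙_ _ ⟶ H₂) ≫ φ := by
    simp only [φ, MonObj.comp_mul, ← Category.assoc, IsMonHom.one_hom, ← Hom.one_def,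
      toUnit_unique ((η[H₂] : 𝟙_ _ ⟶ H₂) ≫ toUnit H₂) (𝟙 _), Category.id_comp, g]
    simp [Hom.one_def, toUnit_unique (toUnit (𝟙_ (Over (Spec (CommRingCat.of k))))) (𝟙 _), ← Category.assoc]
  -- descend `φ ≫ β` along the orbit map
  let l : X.left ⟶ Spec (CommRingCat.of R) := EffectiveEpi.desc (a.orbitMap o).left (φ.left ≫ β) fun {Z} g₁ g₂ e => by
    let Z' : Over (Spec (CommRingCat.of k)) := Over.mk (g₁ ≫ H₂.hom)
    let G₁ : Z' ⟶ H₂ := Over.homMk g₁ rfl
    let G₂ : Z' ⟶ H₂ := Over.homMk g₂ (by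
      show g₂ ≫ H₂.hom = g₁ ≫ H₂.hom
      rw [← Over.w (a.orbitMap o), ← Category.assoc, ← Category.assoc, e])
    obtain ⟨w, hw1, hw2⟩ := hpb.exists_lift G₁ G₂ (Over.OverMorphism.ext e)
    have e2 : G₂ ≫ φ = lift (G₁ ≫ φ) (w ≫ snd H₂ H₁) ≫ (G ◁ (i₁ ≫ i₂)) ≫ μ[G] := by
      have hmu : (H₂ ◁ i₁) ≫ μ[H₂] = fst H₂ H₁ * (snd H₂ H₁ ≫ i₁) := by
        rw [Hom.mul_def]
        congr 1
      rw [lift_whiskerLeft_assoc, ← Hom.mul_def]
      rw [hmu, MonObj.comp_mul, hw1] at hw2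
      have h3 : G₂ ≫ i₂ = (G₁ ≫ i₂) * ((w ≫ snd H₂ H₁) ≫ i₁ ≫ i₂) := by
        rw [← hw2, MonObj.mul_comp]
        simp only [Category.assoc]
      simp only [φ, MonObj.comp_mul, ← Category.assoc, comp_toUnit]
      simp only [Category.assoc] at h3 ⊢
      rw [h3, _root_.mul_assoc]
    have := congrArg (fun t => (lift (G₁ ≫ φ) (w ≫ snd H₂ H₁)).left ≫ t) hinv
    simp only [← Category.assoc, ← Over.comp_left, lift_fst] at this
    rw [Category.assoc, ← e2] at this
    show (g₁ ≫ φ.left ≫ β) = g₂ ≫ φ.left ≫ β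
    rw [← Category.assoc, ← Category.assoc]
    exact this.symm
  have hl : (a.orbitMap o).left ≫ l = φ.left ≫ β := EffectiveEpi.fac _ _ _
  let s : Γ(Spec (CommRingCat.of R), ⊤) := (Scheme.ΓSpecIso (CommRingCat.of R)).inv ⟨f, hf⟩
  have hs : β.appTop s = f := by
    have : (Scheme.ΓSpecIso (CommRingCat.of R)).inv ≫ β.appTop = CommRingCat.ofHom R.subtype := by
      simp only [β, Scheme.Hom.comp_appTop, Scheme.toSpecΓ_appTop]
      rw [← Category.assoc, ← Scheme.ΓSpecIso_inv_naturality]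
      simp
    exact congrArg (fun t : CommRingCat.of R ⟶ Γ(G.left, ⊤) => t ⟨f, hf⟩) this
  obtain ⟨c, hc⟩ := hk (l.appTop s)
  have hconst : Kunneth.ev φ f = algebraMap k _ c := by
    rw [← AlgHom.commutes (Kunneth.ev (a.orbitMap o)), hc, ← hs, Kunneth.ev_apply, Kunneth.ev_apply,
      ← CommRingCat.comp_apply β.appTop, ← CommRingCat.comp_apply l.appTop, ← Scheme.Hom.comp_appTop,
      ← Scheme.Hom.comp_appTop, hl]
  rw [hy, hy0, ← Kunneth.evPt_comp h φ, ← Kunneth.evPt_comp η[H₂] φ, hconst, AlgHom.commutes, AlgHom.commutes]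


/-- Let k be an algebraically closed field, G a linear algebraic group over k and H₁ ⊆ H₂ ⊆ G closed
subgroups (smooth closed subgroup schemes i₁ : H₁ → H₂, i₂ : H₂ → G), such that the quotient H₂/H₁
(the scheme X with H₂-action a and base point o) is proper over k and irreducible. Then a global
function on G is invariant under right translation by H₁ if and only if it is invariant under right
translation by H₂. -/
theorem result (k : Type u) [Field k] [IsAlgClosed k]
    (G : Over (Spec (CommRingCat.of k))) [GrpObj G] [IsAffine G.left] [Smooth G.hom]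
    (H₂ : Over (Spec (CommRingCat.of k))) [GrpObj H₂] [Smooth H₂.hom] (i₂ : H₂ ⟶ G) [IsMonHom i₂] [IsClosedImmersion i₂.left]
    (H₁ : Over (Spec (CommRingCat.of k))) [GrpObj H₁] [Smooth H₁.hom] (i₁ : H₁ ⟶ H₂) [IsMonHom i₁] [IsClosedImmersion i₁.left]
    (X : Over (Spec (CommRingCat.of k))) (a : AlgGrp.Action H₂ X) (o : 𝟙_ (Over (Spec (CommRingCat.of k))) ⟶ X) (hX : AGF.IsQuotient i₁ X a o)
    [IsProper X.hom] [IrreducibleSpace X.left] :
    AGF.rTransInv (i₁ ≫ i₂) = AGF.rTransInv i₂ := by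
  refine le_antisymm (le_rTransInv i₂ i₁ a o hX) fun f hf => ?_
  rw [AGF.mem_rTransInv_iff] at hf ⊢
  have key := congrArg (fun t => (G ◁ i₁).left.appTop t) hf
  show ((G ◁ (i₁ ≫ i₂)) ≫ μ[G]).left.appTop f = (fst G H₁).left.appTop f
  rw [MonoidalCategory.whiskerLeft_comp, Category.assoc, ← whiskerLeft_fst G i₁, Over.comp_left,
    Over.comp_left (f := G ◁ i₁) (g := fst G H₂), Scheme.Hom.comp_appTop, Scheme.Hom.comp_appTop,
    CommRingCat.comp_apply, CommRingCat.comp_apply]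
  exact key


end Groth.Agent.S11198
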