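import Groth.Statements.S18068
import Groth.Agent.GrpSchLib.AntiAffineHom
import Groth.Agent.GrpSchLib.SmoothRegular
import Groth.Agent.GrpSchLib.SmoothReduced
import Groth.Agent.RegLoc6.Normal
import Groth.Agent.VarGeom.Normal
import Mathlib.FieldTheory.Minpoly.IsIntegrallyClosed
import Mathlib.AlgebraicGeometry.Morphisms.Finite
import Mathlib.AlgebraicGeometry.Morphisms.Integral
import Mathlib.AlgebraicGeometry.Morphisms.SchemeTheoreticallyDominant

set_option autoImplicit false
set_option linter.style.haveILetI false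
universe u
open CategoryTheory MonoidalCategory CartesianMonoidalCategory MonObj GrpObj AlgebraicGeometry CategoryTheory.Limits TopologicalSpace

namespace Groth.Agent.S18068

variable {k : Type u} [Field k]

theorem isIntegral_grp (G : Over (Spec (CommRingCat.of k))) [GrpObj G] [Smooth G.hom] [ConnectedSpace G.left] :
    IsIntegral G.left := by
  obtain ⟨g, hg, hge⟩ := GrpSchLib.exists_isMaxPt (η[G].left (IsLocalRing.closedPoint k))
  have h := GrpSchLib.connectedComponent_one hg hge
  rw [PreconnectedSpace.connectedComponent_eq_univ] at h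
  haveI : IrreducibleSpace G.left := by
    rw [irreducibleSpace_def, Set.top_eq_univ, h]
    exact isIrreducible_singleton.closure
  haveI := GrpSchLib.isReduced_of_smooth_field G.hom
  exact isIntegral_of_irreducibleSpace_of_isReduced _

/-- A function on the source of an integral dominant map to a normal scheme with only constant
functions is algebraic over the constants. -/
theorem exists_monic {X Y S : Scheme.{u}} [IsIntegral X] [IsIntegral Y] (f : X ⟶ Y) [IsFinite f] [Surjective f]
    (s : Y ⟶ S) (hY : ∀ y : Y, IsIntegrallyClosed (Y.presheaf.stalk y))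
    (hs : Function.Surjective s.appTop) (a : Γ(X, ⊤)) : (f ≫ s).appTop.hom.IsIntegralElem a := by
  let η' := genericPoint X
  have hη : f η' = genericPoint Y := by
    have hg : IsGenericPoint (f η') Set.univ := by
      have := (genericPoint_spec X).image f.continuous
      rwa [Set.image_univ, f.surjective.range_eq, closure_univ] at this
    exact hg.eq (genericPoint_spec Y)
  let φ : Y.functionField ⟶ X.functionField :=
    Y.presheaf.stalkSpecializes (specializes_of_eq hη) ≫ f.stalkMap η'
  have hφ : ∀ (U : Y.Opens) [Nonempty U] (hU : η' ∈ f ⁻¹ᵁ U) (c : Γ(Y, U)),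
      φ (Y.germToFunctionField U c) = X.presheaf.germ (f ⁻¹ᵁ U) η' hU (f.app U c) := by
    intro U _ hU c
    show f.stalkMap η' (Y.presheaf.stalkSpecializes (specializes_of_eq hη) (Y.presheaf.germ U (genericPoint Y) _ c)) = _
    rw [TopCat.Presheaf.germ_stalkSpecializes_apply]
    exact Scheme.Hom.germ_stalkMap_apply f U η' hU c
  have hηU : ∀ (U : Y.Opens), (U : Set Y).Nonempty → η' ∈ f ⁻¹ᵁ U := fun U hU => by
    show f η' ∈ U
    rw [hη]
    exact ((genericPoint_spec Y).mem_open_set_iff U.isOpen).2 (by simpa using hU)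
  letI := φ.hom.toAlgebra
  haveI : Nonempty (⊤ : X.Opens) := ⟨⟨η', trivial⟩⟩
  let aL : X.functionField := X.germToFunctionField ⊤ a
  let p := minpoly Y.functionField aL
  have key : ∀ y : Y, (∀ i, p.coeff i ∈ (algebraMap (Y.presheaf.stalk y) Y.functionField).range) ∧ p.Monic := by
    intro y
    obtain ⟨_, ⟨U, hU, rfl⟩, hyU, -⟩ :=
      Y.isBasis_affineOpens.exists_subset_of_mem_open (Set.mem_univ y) isOpen_univ
    have hne : (U : Set Y).Nonempty := ⟨y, hyU⟩
    haveI : Nonempty U := ⟨⟨y, hyU⟩⟩
    letI := ((φ.hom).comp (algebraMap (Y.presheaf.stalk y) Y.functionField)).toAlgebra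
    haveI : IsScalarTower (Y.presheaf.stalk y) Y.functionField X.functionField :=
      IsScalarTower.of_algebraMap_eq' rfl
    have hi : _root_.IsIntegral (Y.presheaf.stalk y) aL := by
      obtain ⟨q, hq, hq0⟩ := IsIntegralHom.isIntegral_app (f := f) U hU
        (X.presheaf.map (homOfLE le_top : f ⁻¹ᵁ U ⟶ ⊤).op a)
      refine ⟨q.map (Y.presheaf.germ U y hyU).hom, hq.map _, ?_⟩
      rw [Polynomial.eval₂_map]
      have he : (algebraMap (Y.presheaf.stalk y) X.functionField).comp (Y.presheaf.germ U y hyU).hom =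
          (X.presheaf.germ (f ⁻¹ᵁ U) η' (hηU U hne)).hom.comp (f.app U).hom := by
        ext c
        show φ (algebraMap (Y.presheaf.stalk y) Y.functionField (Y.presheaf.germ U y hyU c)) = _
        rw [Scheme.algebraMap_germ_eq_germToFunctionField, hφ U (hηU U hne)]
        rfl
      have ha : aL = (X.presheaf.germ (f ⁻¹ᵁ U) η' (hηU U hne)).hom
          (X.presheaf.map (homOfLE le_top : f ⁻¹ᵁ U ⟶ ⊤).op a) :=
        (X.presheaf.germ_res_apply (homOfLE le_top : f ⁻¹ᵁ U ⟶ ⊤) η' (hηU U hne) a).symm
      rw [he, ha, ← Polynomial.hom_eval₂, hq0, map_zero]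
    haveI := hY y
    have hp := minpoly.isIntegrallyClosed_eq_field_fractions' Y.functionField hi
    refine ⟨fun i => ⟨(minpoly (Y.presheaf.stalk y) aL).coeff i, ?_⟩, ?_⟩
    · show _ = p.coeff i
      rw [show p = _ from hp, Polynomial.coeff_map]
    · rw [show p = _ from hp]
      exact (minpoly.monic hi).map _
  obtain ⟨y₀⟩ : Nonempty Y := inferInstance
  haveI : Nonempty (⊤ : Y.Opens) := ⟨⟨y₀, trivial⟩⟩
  haveI : Nonempty (⊤ : X.Opens) := ⟨⟨η', trivial⟩⟩
  have hgl : ∀ i, p.coeff i ∈ Set.range (Y.germToFunctionField ⊤).hom := by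
    intro i
    have hloc : ∀ y : Y, ∃ (V : Y.Opens) (hy : y ∈ V) (s : Γ(Y, V)),
        Y.presheaf.germ V (genericPoint Y)
          (((genericPoint_spec Y).mem_open_set_iff V.isOpen).2 ⟨y, trivial, hy⟩) s = p.coeff i := by
      intro y
      obtain ⟨z, hz⟩ := (key y).1 i
      obtain ⟨V, hyV, t, rfl⟩ := Y.presheaf.exists_germ_eq (x := y) z
      haveI : Nonempty V := ⟨⟨y, hyV⟩⟩
      exact ⟨V, hyV, t, by rw [← hz, Scheme.algebraMap_germ_eq_germToFunctionField]⟩
    choose V hyV t ht using hloc
    have hgen : ∀ y, genericPoint Y ∈ V y := fun y =>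
      ((genericPoint_spec Y).mem_open_set_iff (V y).isOpen).2 ⟨y, trivial, hyV y⟩
    have hcompat : TopCat.Presheaf.IsCompatible Y.presheaf V t := by
      intro i j
      have hg : genericPoint Y ∈ V i ⊓ V j := ⟨hgen i, hgen j⟩
      apply germ_injective_of_isIntegral Y (genericPoint Y) hg
      rw [Y.presheaf.germ_res_apply, Y.presheaf.germ_res_apply, ht, ht]
    obtain ⟨g, hg, -⟩ := Y.sheaf.existsUnique_gluing' V ⊤ (fun i => homOfLE le_top)
      (fun z _ => Opens.mem_iSup.2 ⟨z, hyV z⟩) t hcompat
    refine ⟨g, ?_⟩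
    rw [← ht y₀, ← hg y₀]
    exact (Y.presheaf.germ_res_apply _ _ (hgen y₀) g).symm
  have hS : ∀ i, p.coeff i ∈ Set.range ((Y.germToFunctionField ⊤).hom.comp s.appTop.hom) := by
    intro i
    obtain ⟨c, hc⟩ := hgl i
    obtain ⟨d, rfl⟩ := hs c
    exact ⟨d, hc⟩
  obtain ⟨q, hq, -, hqm⟩ := Polynomial.lifts_and_degree_eq_and_monic
    (f := (Y.germToFunctionField ⊤).hom.comp s.appTop.hom) (p := p)
    ((Polynomial.lifts_iff_coeff_lifts p).2 hS) (key y₀).2
  refine ⟨q, hqm, Scheme.germToFunctionField_injective X ⊤ ?_⟩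
  rw [map_zero, Polynomial.hom_eval₂]
  have h1 : (X.germToFunctionField ⊤).hom.comp (f ≫ s).appTop.hom =
      φ.hom.comp ((Y.germToFunctionField ⊤).hom.comp s.appTop.hom) := by
    ext c
    exact (hφ ⊤ trivial (s.appTop c)).symm
  rw [h1, ← Polynomial.eval₂_map, hq]
  have := minpoly.aeval Y.functionField aL
  rw [Polynomial.aeval_def] at this
  exact this

/-- Let k be a field and f : G → H an isogeny (a surjective homomorphism with finite kernel, i.e.
surjective and finite) of connected commutative algebraic groups over k. Then G is anti-affine (O(G)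
= k) if and only if H is anti-affine. -/
theorem result (k : Type u) [Field k]
    (G H : Over (Spec (CommRingCat.of k))) [GrpObj G] [Smooth G.hom] [QuasiCompact G.hom] [ConnectedSpace ↥G.left] [IsCommMonObj G]
    [GrpObj H] [Smooth H.hom] [QuasiCompact H.hom] [ConnectedSpace ↥H.left] [IsCommMonObj H]
    (f : G ⟶ H) [IsMonHom f] [Surjective f.left] [IsFinite f.left] :
    Function.Bijective ((Scheme.ΓSpecIso (CommRingCat.of k)).inv ≫ G.hom.appTop).hom ↔
      Function.Bijective ((Scheme.ΓSpecIso (CommRingCat.of k)).inv ≫ H.hom.appTop).hom := by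
  haveI := isIntegral_grp G
  haveI := isIntegral_grp H
  haveI : IsDominant f.left := ⟨f.left.surjective.denseRange⟩
  rw [GrpSchLib.AntiAffine.bijective_appTop_iff, GrpSchLib.AntiAffine.bijective_appTop_iff]
  have hw : G.hom.appTop = H.hom.appTop ≫ f.left.appTop := by
    rw [← Scheme.Hom.comp_appTop, Over.w f]
  haveI := IsSchemeTheoreticallyDominant.of_isDominant f.left
  have hinj : Function.Injective f.left.appTop := f.left.app_injective ⊤
  constructor
  · intro h
    rw [hw] at h
    have hc : Function.Bijective (f.left.appTop ∘ H.hom.appTop) := h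
    exact ⟨hc.1.of_comp, fun y => by
      obtain ⟨x, hx⟩ := hc.2 (f.left.appTop y)
      exact ⟨x, hinj hx⟩⟩
  · intro h
    have hY : ∀ y : H.left, IsIntegrallyClosed (H.left.presheaf.stalk y) := fun y => by
      haveI := GrpSchLib.isRegularLocalRing_stalk_of_smooth H.hom y
      exact RegLoc6.isIntegrallyClosed_of_isRegularLocalRing _
    have hint : ∀ a, G.hom.appTop.hom.IsIntegralElem a := fun a => by
      have := exists_monic f.left H.hom hY h.2 a
      rwa [Over.w f] at this
    let e := (η[G] : 𝟙_ _ ⟶ G).left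
    have he : G.hom.appTop ≫ e.appTop = 𝟙 _ := by
      rw [← Scheme.Hom.comp_appTop, Over.w (η[G] : 𝟙_ _ ⟶ G)]
      exact Scheme.Hom.id_appTop
    have hleft : ∀ c, e.appTop (G.hom.appTop c) = c := fun c => congrArg (fun φ => φ c) he
    haveI : Nonempty (⊤ : G.left.Opens) := ⟨⟨genericPoint G.left, trivial⟩⟩
    have hK : IsField Γ(G.left, ⊤) := by
      letI := G.hom.appTop.hom.toAlgebra
      haveI : Algebra.IsIntegral Γ(Spec (CommRingCat.of k), ⊤) Γ(G.left, ⊤) := ⟨hint⟩
      exact isField_of_isIntegral_of_isField' ((Scheme.ΓSpecIso (CommRingCat.of k)).commRingCatIsoToRingEquiv.toMulEquiv.isField (Field.toIsField k))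
    letI := hK.toField
    refine ⟨Function.LeftInverse.injective hleft, fun a => ⟨e.appTop a, ?_⟩⟩
    haveI : Nontrivial Γ((𝟙_ (Over (Spec (CommRingCat.of k)))).left, ⊤) :=
      (Scheme.ΓSpecIso (CommRingCat.of k)).commRingCatIsoToRingEquiv.toEquiv.nontrivial
    exact e.appTop.hom.injective (hleft (e.appTop a))

end Groth.Agent.S18068
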