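import Groth.Statements.S11192
import Groth.Agent.S18068
import Mathlib.AlgebraicGeometry.Morphisms.Flat
import Mathlib.RingTheory.Flat.TorsionFree


set_option autoImplicit false
universe u
open CategoryTheory MonoidalCategory CartesianMonoidalCategory MonObj GrpObj AlgebraicGeometry
open scoped TensorProduct
open AGF

namespace Groth.Agent.S11192

theorem subring_isIntegrallyClosed {A L : Type*} [CommRing A] [IsDomain A] [IsIntegrallyClosed A] [Field L]
    [Algebra A L] [IsFractionRing A L] (R : Subring A)
    (hR : ∀ y b : A, b ∈ R → b ≠ 0 → y * b ∈ R → y ∈ R) :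
    IsIntegrallyClosed R := by
  refine (isIntegrallyClosed_iff (FractionRing R)).2 fun {x} hx => ?_
  let em : FractionRing R →+* L := IsFractionRing.lift (g := (algebraMap A L).comp R.subtype)
    ((IsFractionRing.injective A L).comp Subtype.val_injective : Function.Injective ((algebraMap A L).comp R.subtype))
  obtain ⟨a, b, hb, rfl⟩ := IsFractionRing.div_surjective (A := R) x
  have hint : _root_.IsIntegral A (em (algebraMap R _ a / algebraMap R _ b)) := by
    obtain ⟨p, hp, hp0⟩ := hx
    refine ⟨p.map R.subtype, hp.map _, ?_⟩
    have h := congrArg em hp0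
    rw [Polynomial.hom_eval₂, map_zero] at h
    rw [Polynomial.eval₂_map]
    rw [show (algebraMap A L).comp R.subtype = em.comp (algebraMap R (FractionRing R)) from
      RingHom.ext fun r => (IsFractionRing.lift_algebraMap (g := (algebraMap A L).comp R.subtype)
        ((IsFractionRing.injective A L).comp Subtype.val_injective) r).symm]
    exact h
  obtain ⟨y, hy⟩ := IsIntegrallyClosed.isIntegral_iff.1 hint
  have hb0 : (b : A) ≠ 0 := fun h => nonZeroDivisors.ne_zero hb (Subtype.ext h)
  rw [map_div₀, IsFractionRing.lift_algebraMap, IsFractionRing.lift_algebraMap,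
    eq_div_iff (by simpa using hb0)] at hy
  have hab : y * (b : A) = a := IsFractionRing.injective A L (by rw [map_mul]; exact hy)
  have hyR : y ∈ R := hR y b b.2 hb0 (hab.symm ▸ a.2)
  refine ⟨⟨y, hyR⟩, ?_⟩
  rw [eq_div_iff (IsFractionRing.to_map_ne_zero_of_mem_nonZeroDivisors hb), ← map_mul]
  exact congrArg _ (Subtype.ext hab)

/-- Let k be an algebraically closed field, G a linear algebraic group over k (an affine smooth group
scheme over k) and H a closed subgroup of G (a smooth closed subgroup scheme, i : H → G), with G
connected. Then the ring of global functions on G invariant under right translation by H is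
integrally closed. -/
theorem result (k : Type u) [Field k] [IsAlgClosed k]
    (G : Over (Spec (CommRingCat.of k))) [GrpObj G] [IsAffine G.left] [Smooth G.hom]
    (H : Over (Spec (CommRingCat.of k))) [GrpObj H] [Smooth H.hom] (i : H ⟶ G) [IsMonHom i]
    [IsClosedImmersion i.left] [ConnectedSpace G.left] :
    IsIntegrallyClosed ↥(AGF.rTransInv i) := by
  haveI := Groth.Agent.S18068.isIntegral_grp G
  haveI : IsAffine H.left := isAffine_of_isAffineHom i.left
  haveI : IsAffine (G ⊗ H).left := inferInstanceAs (IsAffine (Limits.pullback G.hom H.hom))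
  haveI : Flat (fst G H).left := by
    rw [Over.fst_left]; exact MorphismProperty.pullback_fst (P := @Flat) G.hom H.hom inferInstance
  set ψ := (fst G H).left.appTop.hom
  have hψ : ψ.Flat := HasRingHomProperty.appTop (P := @Flat) (fst G H).left inferInstance
  haveI : Nonempty (⊤ : G.left.Opens) := ⟨⟨genericPoint G.left, trivial⟩⟩
  haveI : IsDomain Γ(G.left, ⊤) := inferInstance
  haveI : IsIntegrallyClosed Γ(G.left, ⊤) := by
    haveI := functionField_isFractionRing_of_isAffineOpen G.left ⊤ (isAffineOpen_top G.left)
    refine (isIntegrallyClosed_iff G.left.functionField).2 fun {c} hc => ?_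
    exact Groth.Agent.VarGeom.exists_global_of_isIntegral (fun x => by
      haveI := GrpSchLib.isRegularLocalRing_stalk_of_smooth G.hom x
      exact RegLoc6.isIntegrallyClosed_of_isRegularLocalRing _) c hc
  letI := ψ.toAlgebra
  haveI : Module.Flat Γ(G.left, ⊤) Γ((G ⊗ H).left, ⊤) := hψ
  refine subring_isIntegrallyClosed (L := FractionRing Γ(G.left, ⊤)) (AGF.rTransInv i) fun y b hb hb0 hyb => ?_
  have h1 : _ = ψ (y * b) := hyb
  have h2 : _ = ψ b := hb
  rw [map_mul, map_mul, h2, mul_comm _ (ψ b), mul_comm (ψ y)] at h1
  exact Module.Flat.isSMulRegular_of_isRegular (IsRegular.of_ne_zero hb0) h1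

end Groth.Agent.S11192
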