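import Groth.Statements.S11202
import Groth.Agent.AGFLib.ObsRadical
-- import your own Groth.Agent.* helpers here

set_option autoImplicit false
universe u
open CategoryTheory MonoidalCategory CartesianMonoidalCategory MonObj GrpObj AlgebraicGeometry
open scoped TensorProduct
open AGF

namespace Groth.Agent.S11202

open Groth.Agent

set_option backward.isDefEq.respectTransparency false
set_option backward.isDefEq.respectTransparency.types false


/-- A group without subtori maps trivially to a torus. -/
theorem hom_torus_eq_one {k : Type u} [Field k] [IsAlgClosed k] {R T : Over (Spec (CommRingCat.of k))} [GrpObj R] [GrpObj T]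
    [IsAffine R.left] [Smooth R.hom] [ConnectedSpace R.left] (hR : Red.HasNoSubtorus k R) (hT : Red.IsTorus T)
    (χ : R ⟶ T) [IsMonHom χ] : χ = 1 := by
  obtain ⟨haT, hsT, -, -⟩ := SolvGrp.torus_props hT
  haveI := haT
  haveI := hsT
  haveI : IsReduced R.left := GrpSchLib.isReduced_of_smooth_field R.hom
  haveI : IsReduced T.left := GrpSchLib.isReduced_of_smooth_field T.hom
  haveI : IsSeparated T.hom := GrpSchLib.AntiAffine.isSeparated_grp T
  refine LiftUnique.hom_ext_pts (toUnit _) (toUnit_unique _ _) fun g => ?_
  rw [MonObj.comp_one]
  refine SolvGrp.eq_one_of_isSsPt_isUnipPt ?_ ((SolvGrp.map_isSsPt_isUnipPt χ g).2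
    (SolvGrp.isUnipPt_of_hasNoSubtorus hR g))
  rw [← Category.comp_id (g ≫ χ)]
  exact SolvGrp.isSsPt_of_torus hT (𝟙 _) (g ≫ χ)

/-- Let k be an algebraically closed field, G a linear algebraic group over k (an affine smooth group
scheme over k) and H a closed subgroup of G (a smooth closed subgroup scheme, i : H → G). If the
radical of H is unipotent — every smooth connected solvable closed normal subgroup of H contains no
non-trivial subtorus — then H is observable in G. -/
theorem result (k : Type u) [Field k] [IsAlgClosed k]
    (G : Over (Spec (CommRingCat.of k))) [GrpObj G] [IsAffine G.left] [Smooth G.hom]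
    (H : Over (Spec (CommRingCat.of k))) [GrpObj H] [Smooth H.hom] (i : H ⟶ G) [IsMonHom i]
    [IsClosedImmersion i.left]
    (hrad : ∀ (R : Over (Spec (CommRingCat.of k))) [GrpObj R] (r : R ⟶ H) [IsMonHom r], IsClosedImmersion r.left → Smooth R.hom →
      ConnectedSpace R.left → AlgGrp.IsNormalHom r → Red.IsSolvableGrp R → Red.HasNoSubtorus k R) :
    AGF.IsObservableIn k i := by
  haveI : IsAffine H.left := isAffine_of_isAffineHom i.left
  refine AGFLib.isObservableIn_of_radical i fun R _ _ _ r _ _ hn hsol _ => ?_
  haveI : IsAffine R.left := isAffine_of_isAffineHom r.left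
  haveI : IsClosedImmersion (r ≫ i).left := inferInstanceAs (IsClosedImmersion (r.left ≫ i.left))
  refine S11200.result k G R (r ≫ i) fun χ _ => ?_
  exact hom_torus_eq_one (hrad R r inferInstance inferInstance inferInstance hn hsol)
    HMTorus.isTorus_Gm χ

end Groth.Agent.S11202
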