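import Groth.Statements.S11241
import Groth.Agent.SolvGrp.Unip
import Groth.Agent.AGFLib.Stab

set_option autoImplicit false
universe u
open CategoryTheory MonoidalCategory CartesianMonoidalCategory MonObj GrpObj AlgebraicGeometry
open scoped TensorProduct
open AGF

namespace Groth.Agent.S11241

set_option backward.isDefEq.respectTransparency false
set_option backward.isDefEq.respectTransparency.types false

open GrpSchLib GrpSchLib.Kunneth GrpSchLib.LineGroups WeilCmp.Unip AGFLib SolvGrp

/-- A nilpotent group of unipotent operators fixes a non-zero vector of every finite stable space. -/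
theorem exists_fixed {k V Γ : Type*} [Field k] [AddCommGroup V] [Module k V] [Group Γ] [Group.IsNilpotent Γ]
    (π : Γ →* Module.End k V) (W : Submodule k V) [Module.Finite k W] (hW : W ≠ ⊥)
    (hst : ∀ g, ∀ v ∈ W, π g v ∈ W) (hu : ∀ g, ∀ v ∈ W, ∃ n : ℕ, ((π g - 1) ^ n) v = 0) :
    ∃ v ∈ W, v ≠ 0 ∧ ∀ g, π g v = v := by
  classical
  have hex : ∃ d, ∃ W' : Submodule k V, W' ≤ W ∧ W' ≠ ⊥ ∧ (∀ g, ∀ v ∈ W', π g v ∈ W') ∧ Module.finrank k W' = d :=
    ⟨_, W, le_rfl, hW, hst, rfl⟩
  obtain ⟨W', hle, hne, hst', hd⟩ := Nat.find_spec hex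
  haveI : Module.Finite k W' := Submodule.finiteDimensional_of_le hle
  have key : ∀ i : ℕ, ∀ z ∈ Subgroup.upperCentralSeries Γ i, ∀ v ∈ W', π z v = v := by
    intro i
    induction i with
    | zero =>
      intro z hz v _
      rw [Subgroup.upperCentralSeries_zero, Subgroup.mem_bot] at hz
      rw [hz, map_one, Module.End.one_apply]
    | succ i ih =>
      intro z hz v hv
      rw [Subgroup.mem_upperCentralSeries_succ_iff] at hz
      have hcomm : ∀ g, ∀ v ∈ W', π z (π g v) = π g (π z v) := fun g v hv => by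
        rw [← Module.End.mul_apply, ← map_mul, show z * g = (z * g * z⁻¹ * g⁻¹) * (g * z) by group, map_mul,
          Module.End.mul_apply, ih (z * g * z⁻¹ * g⁻¹) (hz g) _ (hst' _ _ hv), map_mul, Module.End.mul_apply]
      let X : Submodule k V := W'.map (π z - 1)
      have hXle : X ≤ W' := by
        rintro _ ⟨u, hu', rfl⟩
        exact W'.sub_mem (hst' z u hu') hu'
      have hXst : ∀ g, ∀ u ∈ X, π g u ∈ X := by
        rintro g _ ⟨u, hu', rfl⟩
        exact ⟨π g u, hst' g u hu', by
          simp only [LinearMap.sub_apply, Module.End.one_apply, map_sub, hcomm g u hu']⟩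
      by_contra hzv
      have hXne : X ≠ ⊥ := fun e => hzv (sub_eq_zero.mp (by
        have h1 : (π z - 1) v ∈ X := ⟨v, hv, rfl⟩
        rwa [e, Submodule.mem_bot] at h1))
      have hXeq : X = W' := by
        refine Submodule.eq_of_le_of_finrank_le hXle ?_
        haveI : Module.Finite k X := Submodule.finiteDimensional_of_le hXle
        exact hd ▸ Nat.find_min' hex ⟨X, hXle.trans hle, hXne, hXst, rfl⟩
      let f : W' →ₗ[k] W' := (π z - 1).restrict fun u hu' => hXle ⟨u, hu', rfl⟩
      have hsurj : Function.Surjective f := fun w => by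
        obtain ⟨u, hu', he⟩ := (hXeq.symm ▸ w.2 : (w : V) ∈ X)
        exact ⟨⟨u, hu'⟩, Subtype.ext he⟩
      have hinj := LinearMap.injective_iff_surjective.mpr hsurj
      obtain ⟨n, hn⟩ := hu z v (hle hv)
      have hp : ∀ m : ℕ, ∀ u : W', ((π z - 1) ^ m) (u : V) = 0 → u = 0 := by
        intro m
        induction m with
        | zero => exact fun u h => Subtype.ext (by simpa using h)
        | succ m ihm =>
          intro u h
          rw [pow_succ, Module.End.mul_apply] at h
          exact hinj ((ihm (f u) h).trans (map_zero f).symm)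
      have hv0 := congrArg Subtype.val (hp n ⟨v, hv⟩ hn)
      exact hzv (by rw [show v = 0 from hv0, map_zero])
  obtain ⟨c, hc⟩ := Group.IsNilpotent.nilpotent (G := Γ)
  obtain ⟨v, hv, hv0⟩ := Submodule.exists_mem_ne_zero_of_ne_bot hne
  exact ⟨v, hle hv, hv0, fun g => key c g (hc ▸ Subgroup.mem_top g) v hv⟩

variable {k : Type u} [Field k] [IsAlgClosed k] {H : Over (Spec (CommRingCat.of k))} [GrpObj H] [IsAffine H.left]
  [Smooth H.hom] {A : Type u} [AddCommGroup A] [Module k A]

local notation "PT" => 𝟙_ (Over (Spec (CommRingCat.of k)))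

/-- A rational point as a point of the affine test scheme. -/
noncomputable def up (x : 𝟙_ (Over (Spec (CommRingCat.of k))) ⟶ H) : VecGrp.pt k k ⟶ H := toUnit _ ≫ x

omit [IsAlgClosed k] [GrpObj H] [IsAffine H.left] [Smooth H.hom] in
theorem pullFn_up (x : PT ⟶ H) (f : Fn H) : pullFn (up x) f = vl x f := by
  have h : ev (up x) f = algebraMap k (Fn (VecGrp.pt k k)) (vl x f) := by
    show ev (toUnit _ ≫ x) f = _
    rw [← ev_ev]
    conv_lhs => rw [← AGFLib.ProjAct.algebraMap_toK (k := k) (ev x f)]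
    exact AlgHom.commutes _ _
  rw [pullFn_apply, h]
  exact (spEquiv (k := k) k).symm.commutes _

/-- The action of the rational points. -/
noncomputable def act (ρ : VecGrp.GMod H A) : (𝟙_ (Over (Spec (CommRingCat.of k))) ⟶ H) →* Module.End k A where
  toFun x := (TensorProduct.lid k A).toLinearMap ∘ₗ (ρ.ρ k (up x)).toLinearMap ∘ₗ
    (TensorProduct.lid k A).symm.toLinearMap
  map_one' := by
    refine LinearMap.ext fun a => ?_
    simp [up, MonObj.comp_one]
  map_mul' x y := by
    refine LinearMap.ext fun a => ?_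
    simp [up, MonObj.comp_mul]

omit [IsAlgClosed k] [IsAffine H.left] [Smooth H.hom] in
theorem rho_eq (ρ : VecGrp.GMod H A) (x : PT ⟶ H) (a : A) :
    ρ.ρ k (up x) ((1 : k) ⊗ₜ[k] a) = (1 : k) ⊗ₜ[k] act ρ x a := by
  have h : act ρ x a = TensorProduct.lid k A (ρ.ρ k (up x) ((1 : k) ⊗ₜ[k] a)) := by
    show TensorProduct.lid k A (ρ.ρ k (up x) ((TensorProduct.lid k A).symm a)) = _
    rw [TensorProduct.lid_symm_apply]
  rw [h]
  exact ((TensorProduct.lid k A).symm_apply_apply _).symm.trans (TensorProduct.lid_symm_apply _)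

theorem vl_matCoeff (ρ : VecGrp.GMod H A) (a : A) (l : A →ₗ[k] k) (x : PT ⟶ H) :
    vl x (matCoeff ρ a l) = l (act ρ x a) := by
  rw [← pullFn_up, pullFn_matCoeff, rho_eq, formB_tmul, smul_eq_mul, _root_.mul_one]

/-- Unipotent points act unipotently. -/
theorem act_unip (ρ : VecGrp.GMod H A) {g : PT ⟶ H} (hg : IsUnipPt g) (W : Submodule k A) [Module.Finite k W]
    (hst : ∀ g, ∀ v ∈ W, act ρ g v ∈ W) (v : A) (hv : v ∈ W) : ∃ n : ℕ, ((act ρ g - 1) ^ n) v = 0 := by
  classical
  haveI : IsReduced H.left := isReduced_of_smooth_field H.hom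
  obtain ⟨π, hπ⟩ := LinearMap.exists_leftInverse_of_injective W.subtype W.ker_subtype
  let b := Module.finBasis k W
  let l : Fin (Module.finrank k W) → A →ₗ[k] k := fun j => (b.coord j).comp π
  have hstep : ∀ j (w : A), rl g (matCoeff ρ w (l j)) = matCoeff ρ (act ρ g w) (l j) := fun j w => eq_of_vl fun x => by
    show vl x (rt g _) = _
    rw [vl_rt, vl_matCoeff, vl_matCoeff, map_mul, Module.End.mul_apply]
  have hp : ∀ (n : ℕ) j, ((rl g - 1) ^ n) (matCoeff ρ v (l j)) = matCoeff ρ (((act ρ g - 1) ^ n) v) (l j) := by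
    intro n j
    induction n with
    | zero => simp
    | succ n ih =>
      rw [pow_succ', pow_succ', Module.End.mul_apply, Module.End.mul_apply, ih, LinearMap.sub_apply,
        Module.End.one_apply, hstep]
      refine eq_of_vl fun x => ?_
      simp only [map_sub, vl_matCoeff, LinearMap.sub_apply, Module.End.one_apply]
  choose N hN using fun j => hg (matCoeff ρ v (l j))
  refine ⟨Finset.univ.sup N, ?_⟩
  generalize hw : ((act ρ g - 1) ^ Finset.univ.sup N) v = w
  have hwW : w ∈ W := by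
    rw [← hw]
    clear hw hN hp
    generalize Finset.univ.sup N = n
    induction n with
    | zero => simpa using hv
    | succ n ih =>
      rw [pow_succ', Module.End.mul_apply]
      exact W.sub_mem (hst g _ ih) ih
  have h0 : ∀ j, l j w = 0 := fun j => by
    have h1 : ((rl g - 1) ^ Finset.univ.sup N) (matCoeff ρ v (l j)) = 0 := by
      obtain ⟨d, hd⟩ := Nat.exists_eq_add_of_le (Finset.le_sup (f := N) (Finset.mem_univ j))
      rw [hd, add_comm, pow_add, Module.End.mul_apply, hN, map_zero]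
    rw [hp, hw] at h1
    have h2 := congrArg (vl (1 : PT ⟶ H)) h1
    rwa [vl_matCoeff, map_one, Module.End.one_apply, map_zero] at h2
  have h3 : (⟨w, hwW⟩ : W) = 0 := b.forall_coord_eq_zero_iff.mp fun j => by
    have h4 := h0 j
    show b.coord j ⟨w, hwW⟩ = 0
    rw [← show π w = ⟨w, hwW⟩ from LinearMap.congr_fun hπ ⟨w, hwW⟩]
    exact h4
  exact congrArg Subtype.val h3

omit [IsAlgClosed k] [Smooth H.hom] in
/-- The rational points move a vector in a finite space. -/
theorem exists_finite_orbit (ρ : VecGrp.GMod H A) (v : A) :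
    ∃ S : Submodule k A, Module.Finite k S ∧ ∀ g : PT ⟶ H, act ρ g v ∈ S := by
  classical
  obtain ⟨s, hs⟩ := TensorProduct.exists_finset (R := k) (ρ.ρ (Fn H) (univ H) ((1 : Fn H) ⊗ₜ[k] v))
  refine ⟨Submodule.span k ((s.image Prod.snd : Finset A) : Set A), inferInstance, fun g => ?_⟩
  have h := congrArg (VecGrp.Wmap (pullFn (up g))) hs
  rw [ρ.naturality, ← eq_ptMap_univ, VecGrp.Wmap_tmul, map_one, rho_eq, map_sum] at h
  have h2 := congrArg (TensorProduct.lid k A) h
  rw [TensorProduct.lid_tmul, one_smul, map_sum] at h2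
  rw [h2]
  refine Submodule.sum_mem _ fun p hp => ?_
  rw [VecGrp.Wmap_tmul, TensorProduct.lid_tmul]
  exact Submodule.smul_mem _ _ (Submodule.subset_span (Finset.mem_coe.mpr (Finset.mem_image_of_mem _ hp)))

/-- Let k be an algebraically closed field and H a connected unipotent linear algebraic group over k
(affine, smooth, connected, with no nontrivial subtorus), acting rationally by algebra automorphisms
on a commutative k-algebra A which is an integral domain. An H-invariant element of the fraction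
field of A is a quotient of two H-invariant elements of A: if a₀, b₀ ∈ A with b₀ ≠ 0 satisfy
(h·a₀)·b₀ = a₀·(h·b₀) for every point h of H (invariance of a₀/b₀), then there are a, b ∈ A^H with b
≠ 0 and a·b₀ = b·a₀. (The published statement allows any unipotent H; this row takes H connected.) -/
theorem result (k : Type u) [Field k] [IsAlgClosed k]
    (H : Over (Spec (CommRingCat.of k))) [GrpObj H] [IsAffine H.left] [Smooth H.hom] [ConnectedSpace H.left]
    (hH : Red.HasNoSubtorus k H)
    (A : Type u) [CommRing A] [IsDomain A] [Algebra k A] (ρ : VecGrp.GMod H A) (hρ : ρ.IsMult)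
    (a₀ b₀ : A) (hb₀ : b₀ ≠ 0)
    (hinv : ∀ (B : Type u) [CommRing B] [Algebra k B] (h : VecGrp.pt k B ⟶ H),
      ρ.ρ B h ((1 : B) ⊗ₜ[k] a₀) * ((1 : B) ⊗ₜ[k] b₀) = ((1 : B) ⊗ₜ[k] a₀) * ρ.ρ B h ((1 : B) ⊗ₜ[k] b₀)) :
    ∃ a b : A, a ∈ ρ.fixedUnder (𝟙 H) ∧ b ∈ ρ.fixedUnder (𝟙 H) ∧ b ≠ 0 ∧ a * b₀ = b * a₀ := by
  classical
  haveI : IsReduced H.left := isReduced_of_smooth_field H.hom
  haveI : Group.IsNilpotent (𝟙_ (Over (Spec (CommRingCat.of k))) ⟶ H) :=
    isNilpotent_pts (isUnipPt_of_hasNoSubtorus hH)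
  have hmul : ∀ g a b, act ρ g (a * b) = act ρ g a * act ρ g b := fun g a b => by
    have h1 := (hρ k (up g)).1 ((1 : k) ⊗ₜ[k] a) ((1 : k) ⊗ₜ[k] b)
    rw [Algebra.TensorProduct.tmul_mul_tmul, _root_.one_mul, rho_eq, rho_eq, rho_eq,
      Algebra.TensorProduct.tmul_mul_tmul, _root_.one_mul] at h1
    have h2 := congrArg (TensorProduct.lid k A) h1
    simpa using h2
  have hinv' : ∀ g, act ρ g a₀ * b₀ = a₀ * act ρ g b₀ := fun g => by
    have h1 := hinv k (up g)
    rw [rho_eq, rho_eq, Algebra.TensorProduct.tmul_mul_tmul, Algebra.TensorProduct.tmul_mul_tmul, _root_.one_mul] at h1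
    have h2 := congrArg (TensorProduct.lid k A) h1
    simpa using h2
  let I : Submodule k A :=
    { carrier := {b | ∃ c, b * a₀ = c * b₀}
      add_mem' := fun {x y} ⟨c, hc⟩ ⟨d, hd⟩ => ⟨c + d, by rw [add_mul, add_mul, hc, hd]⟩
      zero_mem' := ⟨0, by simp⟩
      smul_mem' := fun r x ⟨c, hc⟩ => ⟨r • c, by rw [smul_mul_assoc, hc, smul_mul_assoc]⟩ }
  have hI : ∀ g, ∀ b ∈ I, act ρ g b ∈ I := by
    rintro g b ⟨c, hc⟩
    refine ⟨act ρ g c, ?_⟩
    have hb₀' : act ρ g b₀ ≠ 0 := fun e => hb₀ (by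
      have h1 := congrArg (act ρ g⁻¹) e
      rwa [← Module.End.mul_apply, ← map_mul, inv_mul_cancel, map_one, Module.End.one_apply, map_zero] at h1)
    refine mul_right_cancel₀ hb₀' ?_
    have h1 := congrArg (act ρ g) hc
    rw [hmul, hmul] at h1
    calc act ρ g b * a₀ * act ρ g b₀ = act ρ g b * (a₀ * act ρ g b₀) := by ring
      _ = act ρ g b * (act ρ g a₀ * b₀) := by rw [hinv']
      _ = (act ρ g b * act ρ g a₀) * b₀ := by ring
      _ = act ρ g c * b₀ * act ρ g b₀ := by rw [h1]; ring
  obtain ⟨S, hS, hSmem⟩ := exists_finite_orbit ρ b₀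
  let W : Submodule k A := Submodule.span k (Set.range fun g => act ρ g b₀)
  haveI : Module.Finite k W := Submodule.finiteDimensional_of_le (show W ≤ S from Submodule.span_le.mpr (by
    rintro _ ⟨g, rfl⟩; exact hSmem g))
  have hWst : ∀ g, ∀ v ∈ W, act ρ g v ∈ W := fun g v hv => by
    induction hv using Submodule.span_induction with
    | mem x hx =>
      obtain ⟨h, rfl⟩ := hx
      exact Submodule.subset_span ⟨g * h, by simp only [map_mul, Module.End.mul_apply]⟩
    | zero => rw [map_zero]; exact W.zero_mem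
    | add x y _ _ hx hy => rw [map_add]; exact W.add_mem hx hy
    | smul r x _ hx => rw [map_smul]; exact W.smul_mem r hx
  have hWI : W ≤ I := Submodule.span_le.mpr (by
    rintro _ ⟨g, rfl⟩
    exact hI g b₀ ⟨a₀, _root_.mul_comm _ _⟩)
  have hb₀W : b₀ ∈ W := Submodule.subset_span ⟨1, by simp⟩
  obtain ⟨b, hbW, hb, hbfix⟩ := exists_fixed (act ρ) W (fun e => hb₀ (by rwa [e, Submodule.mem_bot] at hb₀W)) hWst
    fun g v hv => act_unip ρ (isUnipPt_of_hasNoSubtorus hH g) W hWst v hv
  obtain ⟨a, ha⟩ := hWI hbW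
  have hfix : ∀ c : A, (∀ g, act ρ g c = c) → c ∈ ρ.fixedUnder (𝟙 H) := fun c hc =>
    mem_fixedUnder_of_pts (𝟙 H) ρ fun x => by
      have e : x = up (AGFLib.toPt _ ≫ x) := by
        rw [up, ← Category.assoc, hom_pt_ext (toUnit (VecGrp.pt k k) ≫ toPt _), ← hom_pt_ext (𝟙 _), Category.id_comp]
      rw [Category.comp_id, e, rho_eq, hc]
  refine ⟨a, b, hfix a fun g => ?_, hfix b hbfix, hb, ha.symm⟩
  have h1 := congrArg (act ρ g) ha
  rw [hmul, hmul, hbfix] at h1
  have hb₀' : act ρ g b₀ ≠ 0 := fun e => hb₀ (by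
      have h1 := congrArg (act ρ g⁻¹) e
      rwa [← Module.End.mul_apply, ← map_mul, inv_mul_cancel, map_one, Module.End.one_apply, map_zero] at h1)
  refine mul_right_cancel₀ (mul_ne_zero hb₀' hb₀) ?_
  calc act ρ g a * (act ρ g b₀ * b₀) = (act ρ g a * act ρ g b₀) * b₀ := by ring
    _ = b * (act ρ g a₀ * b₀) := by rw [← h1]; ring
    _ = b * a₀ * act ρ g b₀ := by rw [hinv']; ring
    _ = a * (act ρ g b₀ * b₀) := by rw [ha]; ring

end Groth.Agent.S11241
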