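import Groth.Statements.S1864
import Groth.Agent.GrpSchLib.FieldAllComp


set_option autoImplicit false
universe u v
open CategoryTheory MonoidalCategory CartesianMonoidalCategory MonObj GrpObj AlgebraicGeometry
open GrpSch

set_option linter.style.haveILetI false

namespace Groth.Agent.S1864

/-- Let G be a group scheme locally of finite type over an algebraically closed field and g₁, …, g_n
finitely many closed points of G. Then some affine open of G contains all the g_i. -/
theorem result (K : Type u) [Field K] [IsAlgClosed K] (G : Over (Spec (CommRingCat.of K))) [GrpObj G] [LocallyOfFiniteType G.hom] (n : ℕ) (g : Fin n → G.left) (hg : ∀ i, IsClosed ({g i} : Set G.left)) : ∃ U : G.left.Opens, IsAffineOpen U ∧ ∀ i, g i ∈ U := by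
  classical
  haveI : IsLocallyNoetherian G.left := LocallyOfFiniteType.isLocallyNoetherian G.hom
  haveI : JacobsonSpace G.left := LocallyOfFiniteType.jacobsonSpace G.hom
  obtain ⟨_, ⟨U, hU, rfl⟩, heU, -⟩ := G.left.isBasis_affineOpens.exists_subset_of_mem_open
    (Set.mem_univ (η[G].left (IsLocalRing.closedPoint K))) isOpen_univ
  have hpt : ∀ x : G.left, IsClosed ({x} : Set G.left) →
      ∃ a : 𝟙_ (Over (Spec (CommRingCat.of K))) ⟶ G, a.left (IsLocalRing.closedPoint K) = x := fun x hx => by
    let s := (pointEquivClosedPoint G.hom).symm ⟨x, hx⟩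
    exact ⟨Over.homMk s.1 s.2, congrArg Subtype.val ((pointEquivClosedPoint G.hom).apply_symm_apply ⟨x, hx⟩)⟩
  choose a ha using fun i => hpt (g i) (hg i)
  let C : Fin n → Set G.left := fun i => connectedComponent (g i)
  let R : Fin n → (G ⟶ G) := fun i => 𝟙 G * (toUnit G ≫ a i)⁻¹
  let A : Fin n → Set G.left := fun i => (R i).left ⁻¹' (U : Set G.left)
  have hA : ∀ i, g i ∈ A i := fun i => by
    show (R i).left (g i) ∈ U
    rw [← ha i, ← Scheme.Hom.comp_apply, ← Over.comp_left]
    have : a i ≫ R i = η[G] := by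
      simp [R, MonObj.comp_mul, GrpObj.comp_inv, MonObj.one_eq_one]
    rw [this]
    exact heU
  -- one translate for each component
  have key : ∀ S ∈ Set.range C, ∃ W : G.left.Opens, IsAffineOpen W ∧ (W : Set G.left) ⊆ S ∧ ∀ i, C i = S → g i ∈ W := by
    rintro _ ⟨i₀, rfl⟩
    obtain ⟨c, hc, hcx⟩ := GrpSchLib.exists_isMaxPt (g i₀)
    have hirr : IsIrreducible (C i₀) := by
      show IsIrreducible (connectedComponent (g i₀))
      rw [GrpSchLib.connectedComponent_eq_closure hc hcx]
      exact isIrreducible_singleton.closure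
    have hopen : IsOpen (C i₀) := GrpSchLib.isOpen_connectedComponent _
    let J := Finset.univ.filter fun i => C i = C i₀
    have hne := (isIrreducible_iff_sInter.mp hirr) (J.image A) (fun V hV => by
        obtain ⟨i, -, rfl⟩ := Finset.mem_image.mp hV
        exact U.2.preimage (R i).left.continuous) (fun V hV => by
        obtain ⟨i, hi, rfl⟩ := Finset.mem_image.mp hV
        refine ⟨g i, ?_, hA i⟩
        rw [← (Finset.mem_filter.mp hi).2]
        exact mem_connectedComponent)
    obtain ⟨z', hz', hzc⟩ := nonempty_inter_closedPoints hne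
      ((hopen.inter (isOpen_iff_forall_mem_open.mpr fun x hx => ⟨_, subset_rfl,
        (J.image A).finite_toSet.isOpen_sInter (fun V hV => by
          obtain ⟨i, -, rfl⟩ := Finset.mem_image.mp hV
          exact U.2.preimage (R i).left.continuous), hx⟩)).isLocallyClosed)
    obtain ⟨z, rfl⟩ := hpt z' hzc
    let V : G.left.Opens := (GrpSchLib.divIso z).hom.left ⁻¹ᵁ U
    have hV : IsAffineOpen V := hU.preimage_of_isIso _
    let W : G.left.Opens := V ⊓ ⟨C i₀, hopen⟩
    refine ⟨W, ?_, fun x hx => hx.2, fun i hi => ⟨?_, ?_⟩⟩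
    · haveI : IsAffine V.toScheme := hV
      haveI : IsClosedImmersion (G.left.homOfLE (inf_le_left : W ≤ V)) := by
        refine IsClosedImmersion.of_isPreimmersion _ ?_
        have : Set.range (G.left.homOfLE (inf_le_left : W ≤ V)) = V.ι ⁻¹' C i₀ := by
          ext x
          constructor
          · rintro ⟨w, rfl⟩
            show V.ι ((G.left.homOfLE (inf_le_left : W ≤ V)) w) ∈ C i₀
            rw [← Scheme.Hom.comp_apply, Scheme.homOfLE_ι]
            exact w.2.2
          · intro hx
            refine ⟨⟨x.1, x.2, hx⟩, Subtype.ext ?_⟩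
            show V.ι ((G.left.homOfLE (inf_le_left : W ≤ V)) _) = x.1
            rw [← Scheme.Hom.comp_apply, Scheme.homOfLE_ι]
            rfl
        rw [this]
        exact isClosed_connectedComponent.preimage V.ι.continuous
      exact isAffine_of_isAffineHom (G.left.homOfLE (inf_le_left : W ≤ V))
    · show (GrpSchLib.divIso z).hom.left (g i) ∈ U
      have hzi : (R i).left (z.left (IsLocalRing.closedPoint K)) ∈ U := by
        have := hz'.2 (A i) (Finset.mem_image.mpr ⟨i, Finset.mem_filter.mpr ⟨Finset.mem_univ _, hi⟩, rfl⟩)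
        exact this
      rw [← Scheme.Hom.comp_apply, ← Over.comp_left] at hzi
      rw [← ha i, ← Scheme.Hom.comp_apply, ← Over.comp_left]
      convert hzi using 4
      simp [R, GrpSchLib.divIso, MonObj.comp_mul, GrpObj.comp_inv]
    · show g i ∈ C i₀
      rw [← hi]
      exact mem_connectedComponent
  choose W hW hWS hWg using key
  refine ⟨⨆ S : Set.range C, W S.1 S.2, IsAffineOpen.iSup_of_disjoint (fun S => hW _ S.2) ?_,
    fun i => TopologicalSpace.Opens.mem_iSup.mpr ⟨⟨C i, i, rfl⟩, hWg _ _ i rfl⟩⟩
  intro S T hST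
  show Disjoint (W S.1 S.2) (W T.1 T.2)
  rw [← TopologicalSpace.Opens.coe_disjoint]
  refine Set.disjoint_left.mpr fun x hx hx' => hST (Subtype.ext ?_)
  obtain ⟨_, i, rfl⟩ := S
  obtain ⟨_, j, rfl⟩ := T
  show connectedComponent (g i) = connectedComponent (g j)
  rw [connectedComponent_eq (hWS _ _ hx), connectedComponent_eq (hWS _ _ hx')]

end Groth.Agent.S1864
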