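import Groth.Statements.S7389
import Mathlib
import Groth.Agent.GrpdLib.InvOpen

set_option autoImplicit false
universe u
open CategoryTheory AlgebraicGeometry
open Mor

namespace Groth.Agent.S7389

/-- Let `X` be a scheme admitting an immersion into an affine scheme. Then any finite set of points of
`X` is contained in an affine open of `X`. -/
theorem result {X Y : Scheme.{u}} [IsAffine Y] (ι : X ⟶ Y)
    [IsImmersion ι] (E : Set X) (hE : E.Finite) :
    ∃ U : X.Opens, IsAffineOpen U ∧ E ⊆ U := by
  obtain ⟨r, hr, hrW⟩ := Groth.Agent.GrpdLib.exists_basicOpen_of_finite (isAffineOpen_top Y)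
    (hE.image ι) ι.coborderRange (fun _ _ => trivial)
    (by rintro _ ⟨x, -, rfl⟩; exact subset_coborder ⟨x, rfl⟩)
  refine ⟨ι ⁻¹ᵁ Y.basicOpen r, ?_, fun x hx => hr ⟨x, hx, rfl⟩⟩
  rw [← ι.liftCoborder_ι, Scheme.Hom.comp_preimage]
  exact (((isAffineOpen_top Y).basicOpen r).preimage_of_isOpenImmersion ι.coborderRange.ι
    (by rwa [Scheme.Opens.opensRange_ι])).preimage ι.liftCoborder

end Groth.Agent.S7389
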