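import Groth.Statements.S5380
import Mathlib.RingTheory.Localization.BaseChange
import Mathlib.RingTheory.Flat.Stability
import Mathlib.RingTheory.Flat.Localization
import Mathlib.LinearAlgebra.TensorProduct.RightExactness
import Mathlib.LinearAlgebra.TensorProduct.Quotient
import Mathlib.RingTheory.DiscreteValuationRing.Basic

set_option autoImplicit false
universe u
open scoped TensorProduct
open SGA3

namespace Groth.Agent.S5380

/-- Let R be a discrete valuation ring with uniformizer π, A a flat commutative R-algebra and M an
A-module which is flat over R. Suppose that M/πM is a flat module over A/πA and that M ⊗_R K is a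
flat module over A ⊗_R K, K the fraction field of R (equivalently, M[1/π] is flat over A[1/π], the
form used here). Then M is a flat A-module. -/
theorem result (R : Type u) [CommRing R] [IsDomain R] [IsDiscreteValuationRing R]
    (π : R) (hπ : Irreducible π) (A : Type u) [CommRing A] [Algebra R A] [Module.Flat R A]
    (M : Type u) [AddCommGroup M] [Module A M] [Module R M] [IsScalarTower R A M] [Module.Flat R M]
    (h1 : Module.Flat (A ⧸ Ideal.span {algebraMap R A π}) (M ⧸ (Ideal.span {algebraMap R A π} • (⊤ : Submodule A M))))
    (h2 : Module.Flat (Localization.Away (algebraMap R A π)) (LocalizedModule (Submonoid.powers (algebraMap R A π)) M)) :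
    Module.Flat A M := by
  set a : A := algebraMap R A π with ha
  -- `a` is regular on `A` and on `M`
  have hreg : ∀ (N : Type u) [AddCommGroup N] [Module A N] [Module R N] [IsScalarTower R A N]
      [Module.Flat R N] (x : N), a • x = 0 → x = 0 := by
    intro N _ _ _ _ _ x hx
    rw [ha, algebraMap_smul] at hx
    have hR : Function.Injective (LinearMap.lsmul R R π) := mul_right_injective₀ hπ.ne_zero
    have hi := Module.Flat.rTensor_preserves_injective_linearMap (M := N) _ hR
    have : (1 : R) ⊗ₜ[R] x = 0 := by
      refine hi ?_
      rw [map_zero, LinearMap.rTensor_tmul]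
      show (π • (1 : R)) ⊗ₜ[R] x = 0
      rw [TensorProduct.smul_tmul, hx, TensorProduct.tmul_zero]
    simpa using congrArg (TensorProduct.lid R N) this
  have hA : ∀ x : A, a • x = 0 → x = 0 := hreg A
  have hM : ∀ x : M, a • x = 0 → x = 0 := hreg M
  let B := A ⧸ Ideal.span {a}
  haveI : Module.Flat B (B ⊗[A] M) :=
    haveI := h1
    Module.Flat.of_linearEquiv ((TensorProduct.quotTensorEquivQuotSMul M (Ideal.span {a})).extendScalarsOfSurjective
      (Ideal.Quotient.mk_surjective))
  let L := Localization.Away a
  haveI : Module.Flat A (L ⊗[A] M) :=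
    haveI : Module.Flat L (L ⊗[A] M) :=
      haveI := h2
      Module.Flat.of_linearEquiv (LocalizedModule.equivTensorProduct (Submonoid.powers a) M).symm
    Module.Flat.trans A L (L ⊗[A] M)
  refine Module.Flat.iff_rTensor_injective'.mpr fun I => ?_
  let P := I →₀ A
  let q : P →ₗ[A] I := Finsupp.linearCombination A _root_.id
  have hq : Function.Surjective q := Finsupp.linearCombination_id_surjective A I
  let K : Submodule A (I →₀ A) := LinearMap.ker q
  letI : AddCommGroup ↥K := Submodule.addCommGroup K
  -- `K` stays inside `P` modulo `a`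
  have hK : Function.Injective (K.subtype.baseChange B) := by
    rw [injective_iff_map_eq_zero]
    intro z hz
    obtain ⟨x, rfl⟩ := TensorProduct.mk_surjective A K B Ideal.Quotient.mk_surjective z
    have h0 : TensorProduct.quotTensorEquivQuotSMul P (Ideal.span {a}) ((1 : B) ⊗ₜ[A] (x : P)) = 0 := by
      rw [show (1 : B) ⊗ₜ[A] (x : P) = 0 from hz, map_zero]
    rw [show (1 : B) = Ideal.Quotient.mk _ (1 : A) from rfl, TensorProduct.quotTensorEquivQuotSMul_mk_tmul,
      one_smul, Submodule.Quotient.mk_eq_zero, Submodule.ideal_span_singleton_smul,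
      Submodule.mem_smul_pointwise_iff_exists] at h0
    obtain ⟨p, -, hp⟩ := h0
    have hpK : p ∈ K := by
      rw [LinearMap.mem_ker]
      refine Subtype.ext (hA _ ?_)
      have := congrArg Subtype.val (show q (a • p) = 0 by rw [hp]; exact x.2)
      simpa using this
    rw [show x = a • ⟨p, hpK⟩ from Subtype.ext hp.symm, TensorProduct.mk_apply, ← TensorProduct.smul_tmul,
      show a • (1 : B) = 0 from by
        rw [Algebra.smul_def, mul_one]; exact Ideal.Quotient.eq_zero_iff_mem.mpr (Ideal.mem_span_singleton_self a),
      TensorProduct.zero_tmul]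
  have hKM : Function.Injective ((K.subtype.baseChange B).restrictScalars A |>.rTensor M) := by
    have hi := Module.Flat.rTensor_preserves_injective_linearMap (M := B ⊗[A] M) _ hK
    let e₁ := TensorProduct.AlgebraTensorModule.cancelBaseChange A B B (B ⊗[A] K) M
    let e₂ := TensorProduct.AlgebraTensorModule.cancelBaseChange A B B (B ⊗[A] P) M
    have : ∀ z, ((K.subtype.baseChange B).restrictScalars A).rTensor M (e₁ z) =
        e₂ ((K.subtype.baseChange B).rTensor (B ⊗[A] M) z) := by
      intro z
      induction z using TensorProduct.induction_on with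
      | zero => simp
      | add u v hu hv => simp only [map_add, hu, hv]
      | tmul u v =>
        induction v using TensorProduct.induction_on with
        | zero => simp
        | add v w hv hw => simp only [TensorProduct.tmul_add, map_add, hv, hw]
        | tmul b m => simp [e₁, e₂]
    intro u v huv
    obtain ⟨u, rfl⟩ := e₁.surjective u
    obtain ⟨v, rfl⟩ := e₁.surjective v
    rw [this, this] at huv
    rw [hi (e₂.injective huv)]
  -- `a` is regular on `I ⊗ M`
  have hIM : ∀ z : I ⊗[A] M, a • z = 0 → z = 0 := by
    intro z hz
    obtain ⟨w, rfl⟩ := LinearMap.rTensor_surjective M hq z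
    have hex : Function.Exact (K.subtype.rTensor M) (q.rTensor M) := by
      have he : Function.Exact K.subtype q :=
        fun y => ⟨fun h => ⟨⟨y, h⟩, rfl⟩, by rintro ⟨x, rfl⟩; exact x.2⟩
      exact rTensor_exact M he hq
    obtain ⟨v, hv⟩ := (hex (a • w)).mp (by rw [map_smul, hz])
    have hv0 : (TensorProduct.mk A B (K ⊗[A] M) 1) v = 0 := by
      refine (TensorProduct.assoc A B K M).symm.injective ?_
      rw [map_zero]
      refine hKM ?_
      rw [map_zero]
      have hnat : ∀ v : K ⊗[A] M, ((K.subtype.baseChange B).restrictScalars A).rTensor M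
          ((TensorProduct.assoc A B K M).symm ((1 : B) ⊗ₜ[A] v)) =
          (TensorProduct.assoc A B P M).symm ((1 : B) ⊗ₜ[A] K.subtype.rTensor M v) := by
        intro v
        induction v using TensorProduct.induction_on with
        | zero => simp
        | add u v hu hv => simp only [TensorProduct.tmul_add, map_add, hu, hv]
        | tmul k m => simp
      rw [TensorProduct.mk_apply, hnat, hv, ← TensorProduct.smul_tmul,
        show a • (1 : B) = 0 from by
          rw [Algebra.smul_def, mul_one]; exact Ideal.Quotient.eq_zero_iff_mem.mpr (Ideal.mem_span_singleton_self a),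
        TensorProduct.zero_tmul, map_zero]
    have h0 : TensorProduct.quotTensorEquivQuotSMul (K ⊗[A] M) (Ideal.span {a}) ((1 : B) ⊗ₜ[A] v) = 0 := by
      rw [show (1 : B) ⊗ₜ[A] v = 0 from hv0, map_zero]
    rw [show (1 : B) = Ideal.Quotient.mk _ (1 : A) from rfl, TensorProduct.quotTensorEquivQuotSMul_mk_tmul,
      one_smul, Submodule.Quotient.mk_eq_zero, Submodule.ideal_span_singleton_smul,
      Submodule.mem_smul_pointwise_iff_exists] at h0
    obtain ⟨v', -, hv'⟩ := h0
    have hreg' : a • (w - K.subtype.rTensor M v') = 0 := by rw [smul_sub, ← map_smul, hv', hv, sub_self]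
    have hw : w - K.subtype.rTensor M v' = 0 := by
      classical
      refine (TensorProduct.finsuppScalarLeft A M I).injective ?_
      rw [map_zero]
      ext i
      refine hM _ ?_
      rw [← Finsupp.smul_apply, ← map_smul, hreg']
      simp
    rw [sub_eq_zero.mp hw]
    exact hex.apply_apply_eq_zero v'
  -- the kernel of `I ⊗ M → A ⊗ M` is `a`-power torsion
  rw [injective_iff_map_eq_zero]
  intro z hz
  have hinj := Module.Flat.rTensor_preserves_injective_linearMap (M := L ⊗[A] M) I.subtype I.injective_subtype
  let eI := TensorProduct.leftComm A L I M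
  let eA := TensorProduct.leftComm A L A M
  have hnat : ∀ z : I ⊗[A] M, I.subtype.rTensor (L ⊗[A] M) (eI ((1 : L) ⊗ₜ[A] z)) =
      eA ((1 : L) ⊗ₜ[A] I.subtype.rTensor M z) := by
    intro z
    induction z using TensorProduct.induction_on with
    | zero => simp
    | add u v hu hv => simp only [TensorProduct.tmul_add, map_add, hu, hv]
    | tmul i m => simp [eI, eA]
  have h0 : (TensorProduct.mk A L (I ⊗[A] M) 1) z = 0 := by
    refine eI.injective (hinj ?_)
    rw [TensorProduct.mk_apply, hnat, hz, TensorProduct.tmul_zero, map_zero, map_zero, map_zero]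
  obtain ⟨⟨_, n, rfl⟩, hn⟩ :=
    (IsLocalizedModule.eq_zero_iff (Submonoid.powers a) (TensorProduct.mk A L (I ⊗[A] M) 1)).mp h0
  replace hn : a ^ n • z = 0 := hn
  clear h0 hz
  induction n generalizing z with
  | zero => simpa using hn
  | succ n ih => exact hIM z (ih (a • z) (by rw [smul_smul, ← pow_succ, hn]))
end Groth.Agent.S5380
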