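import Groth.Statements.S6041
import Groth.Agent.AlgSpDec.LqfSplitZ
import Groth.Agent.AlgStLib.QuotShEff

set_option backward.isDefEq.respectTransparency false
set_option backward.isDefEq.respectTransparency.types false
-- import your own Groth.Agent.* helpers here

set_option autoImplicit false
open CategoryTheory CategoryTheory.Limits AlgebraicGeometry MonoidalCategory
universe u
open GrpQ

set_option linter.style.haveILetI false

namespace Groth.Agent.S6041

open CartesianMonoidalCategory in
/-- For schemes and the fppf topology, easy direction: let `s, t : R ⇉ U` be a pair of morphisms of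
schemes over `S` (in the source an equivalence relation), `T` a scheme over `S` and `i : Z ⟶ U ×_S
T` such that `Z ⟶ T` is flat, surjective and locally of finite presentation and any two points of
`Z` over the same point of `T` have `R`-related images in `U`. Then the composite `h_Z ⟶ h_U ⟶ U/R`
descends to exactly one section of the fppf quotient sheaf `U/R` over `T`. -/
theorem result {S : Scheme.{u}} {R U : Over S} (s t : R ⟶ U)
    (T Z : Over S) (i : Z ⟶ U ⊗ T)
    [Flat (i ≫ snd U T).left] [Surjective (i ≫ snd U T).left] [LocallyOfFinitePresentation (i ≫ snd U T).left]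
    (hZZ : ∀ (T' : Over S) (z₁ z₂ : T' ⟶ Z), z₁ ≫ i ≫ snd U T = z₂ ≫ i ≫ snd U T →
      ∃ r : T' ⟶ R, r ≫ s = z₁ ≫ i ≫ fst U T ∧ r ≫ t = z₂ ≫ i ≫ fst U T) :
    ∃! σ : QuotSh.rep Scheme.fppfPrecoverage T ⟶ QuotSh.quot Scheme.fppfPrecoverage s t,
      QuotSh.repMap Scheme.fppfPrecoverage (i ≫ fst U T) ≫ QuotSh.quotπ Scheme.fppfPrecoverage s t =
        QuotSh.repMap Scheme.fppfPrecoverage (i ≫ snd U T) ≫ σ :=  by
  open Groth.Agent.AlgSpDec Groth.Agent.AlgSpLib Groth.Agent.AlgStLib.QuotShEff in
  let K := Scheme.fppfPrecoverage.{u}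
  let q : Z ⟶ T := i ≫ snd U T
  let e : ∀ V : Over S, QuotSh.rep K V ≅ (AlgSp.yon S).obj V := fun V => QuotSh.repIsoUliftYoneda K V
  have he : ∀ {V W : Over S} (g : V ⟶ W), (e V).hom ≫ (AlgSp.yon S).map g = QuotSh.repMap K g ≫ (e W).hom :=
    fun g => repMap_iso K g
  have hq : AlgSp.RepWith fppf ((AlgSp.yon S).map q) :=
    (AlgSp.repWith_yon_map_iff _ q).2 (fppf_of q.left)
  haveI : Sheaf.IsLocallySurjective ((AlgSp.yon S).map q) := isLocallySurjective_of_repWith hq
  have sq := (IsPullback.of_hasPullback q q).map (AlgSp.yon S)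
  let f : (AlgSp.yon S).obj Z ⟶ QuotSh.quot K s t :=
    (e Z).inv ≫ QuotSh.repMap K (i ≫ fst U T) ≫ QuotSh.quotπ K s t
  have hinv : ∀ {V W : Over S} (g : V ⟶ W), (AlgSp.yon S).map g ≫ (e W).inv = (e V).inv ≫ QuotSh.repMap K g :=
    fun g => by rw [Iso.comp_inv_eq, Category.assoc, ← he, Iso.inv_hom_id_assoc]
  have hf : (AlgSp.yon S).map (Limits.pullback.fst q q) ≫ f = (AlgSp.yon S).map (Limits.pullback.snd q q) ≫ f := by
    obtain ⟨r, hr₁, hr₂⟩ := hZZ _ (Limits.pullback.fst q q) (Limits.pullback.snd q q) Limits.pullback.condition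
    have hm : ∀ {A B C : Over S} (g : A ⟶ B) (g' : B ⟶ C),
        QuotSh.repMap K (g ≫ g') = QuotSh.repMap K g ≫ QuotSh.repMap K g' := fun g g' => by
      simp only [QuotSh.repMap, Functor.map_comp, Functor.whiskerRight_comp]
    simp only [f, ← Category.assoc, hinv]
    simp only [Category.assoc]
    rw [← Category.assoc (QuotSh.repMap K (Limits.pullback.fst q q)), ← hm,
      ← Category.assoc (QuotSh.repMap K (Limits.pullback.snd q q)), ← hm, ← hr₁, ← hr₂, hm, hm, Category.assoc,
      Category.assoc, QuotSh.quot_condition]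
  obtain ⟨g, hg⟩ := exists_desc_of_kernelPair sq f hf
  haveI : Epi ((AlgSp.yon S).map q) := (Sheaf.isLocallySurjective_iff_epi _).1 inferInstance
  refine ⟨(e T).hom ≫ g, ?_, fun σ hσ => ?_⟩
  · change _ = QuotSh.repMap K q ≫ (e T).hom ≫ g
    rw [← Category.assoc, ← he, Category.assoc, hg]
    simp [f]
    rfl
  · rw [← Iso.inv_comp_eq, ← cancel_epi ((AlgSp.yon S).map q), hg, ← Category.assoc, hinv, Category.assoc]
    exact congrArg ((e Z).inv ≫ ·) hσ.symm
end Groth.Agent.S6041
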