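import Groth.Statements.S18474
import Groth.Agent.GrpSchLib.EigenTensor
import Groth.Agent.S18468


set_option autoImplicit false
universe u
open OortTate

namespace Groth.Agent.S18474

/-- Let p be a prime, R a commutative ring containing u with u(p − 1) = 1, and χ a homomorphism from the
units of ℤ/p to the units of R such that χ(m) − 1 is a unit for every m ≠ 1 (the situation of an
algebra over the subring Λ_p of the p-adic integers generated by the Teichmüller values and 1/(p(p −
1)), with χ the Teichmüller character, which is the published setting); assume moreover χ(m) ≡ m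
modulo pR for every m. Let A be a commutative Hopf algebra over R which is finitely generated and
projective as an R-module, of rank p at every prime of R (a group scheme of order p over Spec R; it
is commutative and killed by p, so that the power map [m] of A depends only on the unit m of ℤ/p),
and let I_1 ⊆ A be the submodule of those f with ε(f) = 0 and [m]f = χ(m)f for every unit m of ℤ/p
(an invertible R-module, with I_1^p ⊆ I_1). Then the R-algebra homomorphism from the tensor algebra
of I_1 to A extending the inclusion I_1 ⊆ A is surjective, and its kernel is the ideal generated by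
the elements ι(x_1)⋯ι(x_p) − ι(g) with x_1, …, x_p, g ∈ I_1 and g = x_1⋯x_p in A. (The source states
this for the symmetric algebra of I_1; for an invertible module the tensor algebra is commutative
and is its symmetric algebra.) The published argument obtains commutativity and p-torsion of G over
a locally Noetherian base; this row allows any commutative ring R, over which both still hold. -/
theorem result
    (p : ℕ) [Fact p.Prime] (R : Type u) [CommRing R] (u : R) (hu : u * ((p - 1 : ℕ) : R) = 1)
    (χ : (ZMod p)ˣ →* Rˣ) (hχ : ∀ m : (ZMod p)ˣ, m ≠ 1 → IsUnit ((χ m : R) - 1))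
    (hχp : ∀ m : (ZMod p)ˣ, ((χ m : Rˣ) : R) - (((m : ZMod p).val : ℕ) : R) ∈ Ideal.span ({(p : R)} : Set R))
    (A : Type u) [CommRing A] [HopfAlgebra R A] [Module.Finite R A] [Module.Projective R A]
    (hrk : ∀ q : PrimeSpectrum R, Module.rankAtStalk A q = p) :
    Function.Surjective (TensorAlgebra.lift R (OortTate.eigenAug R A p χ 1).subtype) ∧
      RingHom.ker (TensorAlgebra.lift R (OortTate.eigenAug R A p χ 1).subtype) =
        Ideal.span {x : TensorAlgebra R (OortTate.eigenAug R A p χ 1) |
          ∃ (f : Fin p → OortTate.eigenAug R A p χ 1) (g : OortTate.eigenAug R A p χ 1),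
            (g : A) = ∏ i, (f i : A) ∧
            x = (List.ofFn fun i => TensorAlgebra.ι R (f i)).prod - TensorAlgebra.ι R g} := by
  classical
  have hp2 : 2 ≤ p := (Fact.out : p.Prime).two_le
  have hpk := GrpSchLib.pow_eq_one_of_rank (A := A) hrk
  obtain ⟨-, hsup, -⟩ := S18468.result p R u hu χ hχ A hpk
  set I := OortTate.eigenAug R A p χ 1 with hI
  let L := TensorAlgebra.lift R I.subtype
  have hLι : ∀ x : I, L (TensorAlgebra.ι R x) = (x : A) := fun x => TensorAlgebra.lift_ι_apply _ _
  let V := LinearMap.range (TensorAlgebra.ι R (M := I))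
  have hmap : V.map L.toLinearMap = I := by
    rw [← LinearMap.range_comp]
    convert I.range_subtype using 2
    exact LinearMap.ext hLι
  have hmapn : ∀ n, (V ^ n).map L.toLinearMap = I ^ n := fun n => by rw [Submodule.map_pow, hmap]
  have hIt : ∀ t, 1 ≤ t → t ≤ p - 1 → I ^ t = OortTate.eigenAug R A p χ t :=
    GrpSchLib.eigenAug_one_pow hrk u hu χ hχ hχp
  have hmod : ∀ i : Fin (p - 1), ∃ t, 1 ≤ t ∧ t ≤ p - 1 ∧
      OortTate.eigenAug R A p χ t = OortTate.eigenAug R A p χ (i : ℕ) := fun i => by
    rcases Nat.eq_zero_or_pos (i : ℕ) with h | h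
    · exact ⟨p - 1, by omega, le_rfl, by rw [GrpSchLib.eigenAug_mod, Nat.mod_self, h]⟩
    · exact ⟨i, h, i.2.le, rfl⟩
  have hsurj : Function.Surjective L := by
    intro a
    have hmem : a - algebraMap R A (Bialgebra.counitAlgHom R A a) ∈ L.range.toSubmodule := by
      have h0 : a - algebraMap R A (Bialgebra.counitAlgHom R A a) ∈
          LinearMap.ker (Bialgebra.counitAlgHom R A).toLinearMap := by simp
      rw [← hsup] at h0
      refine (iSup_le (fun i => ?_) : (⨆ i : Fin (p - 1), OortTate.eigenAug R A p χ (i : ℕ)) ≤ L.range.toSubmodule) h0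
      obtain ⟨t, h1, h2, he⟩ := hmod i
      rw [← he, ← hIt t h1 h2, ← hmapn]
      rintro _ ⟨w, -, rfl⟩
      exact ⟨w, rfl⟩
    obtain ⟨w, hw⟩ := hmem
    exact ⟨w + algebraMap R _ (Bialgebra.counitAlgHom R A a), by
      rw [map_add, AlgHom.commutes, show L w = _ from hw, sub_add_cancel]⟩
  refine ⟨hsurj, ?_⟩
  set J := Ideal.span {x : TensorAlgebra R I |
          ∃ (f : Fin p → I) (g : I),
            (g : A) = ∏ i, (f i : A) ∧
            x = (List.ofFn fun i => TensorAlgebra.ι R (f i)).prod - TensorAlgebra.ι R g}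
  have hJker : J ≤ RingHom.ker L := by
    rw [Ideal.span_le]
    rintro _ ⟨f, g, hg, rfl⟩
    show L _ = 0
    rw [map_sub, map_list_prod, List.map_ofFn, hLι, hg, List.prod_ofFn]
    simp [hLι]
  refine le_antisymm (fun z hz => ?_) hJker
  -- normal forms
  let P : Submodule R (TensorAlgebra R I) := (1 : Submodule R (TensorAlgebra R I)) ⊔
    ⨆ t : Fin (p - 1), V ^ ((t : ℕ) + 1)
  let JR : Submodule R (TensorAlgebra R I) := J.restrictScalars R
  have hofFn : ∀ n, V ^ n ≤ Submodule.span R
      (Set.range fun f : Fin n → I => (List.ofFn fun i => TensorAlgebra.ι R (f i)).prod) := by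
    intro n
    induction n with
    | zero =>
      rw [pow_zero, Submodule.one_eq_span]
      refine Submodule.span_mono ?_
      rintro _ rfl
      exact ⟨Fin.elim0, by simp⟩
    | succ n ih =>
      rw [pow_succ', Submodule.mul_le]
      rintro _ ⟨x, rfl⟩ b hb
      have hle : Submodule.span R (Set.range fun f : Fin n → I => (List.ofFn fun i => TensorAlgebra.ι R (f i)).prod) ≤
          (Submodule.span R (Set.range fun f : Fin (n + 1) → I => (List.ofFn fun i => TensorAlgebra.ι R (f i)).prod)).comap
            (LinearMap.mulLeft R (TensorAlgebra.ι R x)) := by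
        rw [Submodule.span_le]
        rintro _ ⟨f, rfl⟩
        exact Submodule.subset_span ⟨Fin.cons x f, by simp [List.ofFn_succ]⟩
      exact hle (ih hb)
  have hVp : V ^ p ≤ P ⊔ JR := by
    refine (hofFn p).trans (Submodule.span_le.mpr ?_)
    rintro _ ⟨f, rfl⟩
    have hg : ∏ i, (f i : A) ∈ I := by
      have h := Submodule.pow_subset_pow (M := I) (n := p)
        (Set.mem_pow.mpr ⟨fun i => ⟨(f i : A), (f i).2⟩, rfl⟩)
      rw [List.prod_ofFn] at h
      have h2 : I ^ p ≤ I := by
        rw [show p = (p - 1) + 1 by omega, pow_succ, hIt (p - 1) (by omega) le_rfl, Submodule.mul_le]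
        intro a ha b hb
        have := GrpSchLib.eigenAug_mul χ ha hb
        rw [GrpSchLib.eigenAug_mod, Nat.add_mod_left, ← GrpSchLib.eigenAug_mod] at this
        exact this
      exact h2 h
    let g : I := ⟨_, hg⟩
    have e : (List.ofFn fun i => TensorAlgebra.ι R (f i)).prod =
        TensorAlgebra.ι R g + ((List.ofFn fun i => TensorAlgebra.ι R (f i)).prod - TensorAlgebra.ι R g) :=
      (add_sub_cancel _ _).symm
    show (List.ofFn fun i => TensorAlgebra.ι R (f i)).prod ∈ P ⊔ JR
    rw [e]
    refine Submodule.add_mem_sup (Submodule.mem_sup_right ?_) (Ideal.subset_span ⟨f, g, rfl, rfl⟩)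
    exact Submodule.mem_iSup_of_mem ⟨0, by omega⟩ (by simp only [zero_add, pow_one]; exact ⟨g, rfl⟩)
  have hVP : ∀ t, 1 ≤ t → t ≤ p - 1 → V ^ t ≤ P := fun t h1 h2 => by
    refine le_trans ?_ le_sup_right
    refine le_trans ?_ (le_iSup _ (⟨t - 1, by omega⟩ : Fin (p - 1)))
    rw [show t - 1 + 1 = t by omega]
  have hVmul : V * P ≤ P ⊔ JR := by
    rw [Submodule.mul_sup, mul_one, Submodule.mul_iSup]
    refine sup_le ?_ (iSup_le fun t => ?_)
    · exact ((pow_one V).ge.trans (hVP 1 le_rfl (by omega))).trans le_sup_left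
    · rw [← pow_succ']
      rcases lt_or_eq_of_le (show (t : ℕ) + 1 + 1 ≤ p by have := t.2; omega) with h | h
      · exact (hVP _ (by omega) (by omega)).trans le_sup_left
      · rw [h]; exact hVp
  have hall : ∀ a : TensorAlgebra R I, ∀ b ∈ P ⊔ JR, a * b ∈ P ⊔ JR := by
    intro a
    induction a using TensorAlgebra.induction with
    | algebraMap r => intro b hb; rw [← Algebra.smul_def]; exact Submodule.smul_mem _ _ hb
    | ι x =>
      intro b hb
      obtain ⟨b₁, hb₁, b₂, hb₂, rfl⟩ := Submodule.mem_sup.mp hb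
      rw [mul_add]
      exact add_mem (hVmul (Submodule.mul_mem_mul ⟨x, rfl⟩ hb₁)) (Submodule.mem_sup_right (J.mul_mem_left _ hb₂))
    | mul a a' ha ha' => intro b hb; rw [mul_assoc]; exact ha _ (ha' b hb)
    | add a a' ha ha' => intro b hb; rw [add_mul]; exact add_mem (ha b hb) (ha' b hb)
  have hz' := hall z 1 (Submodule.mem_sup_left (Submodule.mem_sup_left (Submodule.one_le.mp le_rfl)))
  rw [mul_one] at hz'
  obtain ⟨y, hy, w, hw, rfl⟩ := Submodule.mem_sup.mp hz'
  have hy0 : L y = 0 := by
    have h : L (y + w) = 0 := hz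
    rwa [map_add, show L w = 0 from hJker hw, add_zero] at h
  suffices y = 0 by rw [this, zero_add]; exact hw
  obtain ⟨c0, hc0, y', hy', rfl⟩ := Submodule.mem_sup.mp hy
  obtain ⟨c, rfl⟩ := Submodule.mem_one.mp hc0
  obtain ⟨yt, hyt, hsum⟩ := (Submodule.mem_iSup_iff_exists_finsupp _ _).mp hy'
  have hLyt : ∀ t : Fin (p - 1), L (yt t) ∈ OortTate.eigenAug R A p χ ((t : ℕ) + 1) := fun t => by
    rw [← hIt _ (by omega) (by have := t.2; omega), ← hmapn]
    exact ⟨_, hyt t, rfl⟩
  rw [Finsupp.sum_fintype _ _ (fun _ => rfl)] at hsum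
  have hc : c = 0 := by
    have h := congrArg (Bialgebra.counitAlgHom R A) hy0
    rw [map_add, AlgHom.commutes, ← hsum, map_sum, map_add, AlgHom.commutes, map_sum, map_zero] at h
    rw [Finset.sum_eq_zero (fun t _ => ((GrpSchLib.mem_eigenAug χ).mp (hLyt t)).1), add_zero] at h
    simpa using h
  rw [hc, map_zero, zero_add] at hy0 ⊢
  rw [← hsum] at hy0 ⊢
  rw [map_sum] at hy0
  refine Finset.sum_eq_zero fun t _ => ?_
  let i : Fin (p - 1) → ℕ := fun s => ((s : ℕ) + 1) % (p - 1)
  have hi : ∀ s, i s < p - 1 := fun s => Nat.mod_lt _ (by omega)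
  have hinj : ∀ s, i s = i t → s = t := fun s h => by
    apply Fin.ext
    have h' : (s : ℕ) ≡ (t : ℕ) [MOD (p - 1)] := Nat.ModEq.add_right_cancel' 1 h
    exact (Nat.mod_eq_of_lt s.2).symm.trans (Eq.trans h' (Nat.mod_eq_of_lt t.2))
  have hLi : ∀ s, L (yt s) ∈ OortTate.eigenAug R A p χ (i s) := fun s => by
    have := hLyt s
    rwa [GrpSchLib.eigenAug_mod] at this
  have h := congrArg (OortTate.proj R A p u χ (i t)) hy0
  rw [map_sum, map_zero, Finset.sum_eq_single t] at h
  · rw [GrpSchLib.proj_of_eigen u χ hχ hu (hi t) (hi t) (hLi t), if_pos rfl] at h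
    have ht1 : 1 ≤ (t : ℕ) + 1 := by omega
    have ht2 : (t : ℕ) + 1 ≤ p - 1 := t.2
    haveI := (GrpSchLib.finite_projective_eigenAug hrk u hu χ hχ hχp 1).1
    haveI := (GrpSchLib.finite_projective_eigenAug hrk u hu χ hχ hχp 1).2
    haveI : Module.Finite R (I ^ ((t : ℕ) + 1) : Submodule R A) := by
      rw [hIt _ ht1 ht2]; exact (GrpSchLib.finite_projective_eigenAug hrk u hu χ hχ hχp _).1
    haveI : Module.Projective R (I ^ ((t : ℕ) + 1) : Submodule R A) := by
      rw [hIt _ ht1 ht2]; exact (GrpSchLib.finite_projective_eigenAug hrk u hu χ hχ hχp _).2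
    exact GrpSchLib.eq_zero_of_lift_eq_zero I (GrpSchLib.rankAtStalk_eigenAug hrk u hu χ hχ hχp 1) ((t : ℕ) + 1)
      (by rw [hIt _ ht1 ht2]; exact GrpSchLib.rankAtStalk_eigenAug hrk u hu χ hχ hχp _) (hyt t) h
  · intro s _ hs
    rw [GrpSchLib.proj_of_eigen u χ hχ hu (hi s) (hi t) (hLi s), if_neg (fun e => hs (hinj s e))]
  · simp

end Groth.Agent.S18474
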