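import Groth.Statements.S18471
import Groth.Agent.GrpSchLib.EigenAug
-- import your own Groth.Agent.* helpers here

set_option autoImplicit false
universe u
open OortTate

namespace Groth.Agent.S18471

/-- Let p be a prime, R a commutative ring containing u with u(p − 1) = 1, and χ a homomorphism from the
units of ℤ/p to the units of R such that χ(m) − 1 is a unit for every m ≠ 1 (the situation of an
algebra over the subring Λ_p of the p-adic integers generated by the Teichmüller values and 1/(p(p −
1)), with χ the Teichmüller character, which is the published setting). Let A be a commutative and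
cocommutative Hopf algebra over R, finitely generated and projective as an R-module, such that the
p-th convolution power of the identity of A is the neutral element (a finite locally free
commutative group killed by p), and let A^D = Hom_R(A, R) be its dual Hopf algebra (the Cartier
dual). For i ≥ 0 let I_i(A) ⊆ A and I_i(A^D) ⊆ A^D be the submodules of elements f of the respective
augmentation ideals with [m]f = χ(m)^i f for every unit m of ℤ/p, [m] the power map. Then
restriction of linear forms to I_i(A) is a bijection from I_i(A^D) onto the dual module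
Hom_R(I_i(A), R). (The published statement is for a group scheme of order p over a Λ_p-algebra and
asserts an isomorphism of R-modules; the map here is the one its proof uses.) -/
theorem result
    (p : ℕ) [Fact p.Prime] (R : Type u) [CommRing R] (u : R) (hu : u * ((p - 1 : ℕ) : R) = 1)
    (χ : (ZMod p)ˣ →* Rˣ) (hχ : ∀ m : (ZMod p)ˣ, m ≠ 1 → IsUnit ((χ m : R) - 1))
    (A : Type u) [CommRing A] [HopfAlgebra R A] [Coalgebra.IsCocomm R A]
    [Module.Finite R A] [Module.Projective R A]
    (hp : (WithConv.toConv (AlgHom.id R A)) ^ p = 1) (i : ℕ) :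
    Function.Bijective (fun f : OortTate.eigenAug R (CartDual.D R A) p χ i =>
      ((CartDual.toDual R A) (f : CartDual.D R A)).comp (OortTate.eigenAug R A p χ i).subtype) := by
  have hp1 : 0 < p - 1 := Nat.sub_pos_of_lt (Fact.out : p.Prime).one_lt
  have hmodE : ∀ (B : Type u) [CommRing B] [HopfAlgebra R B],
      OortTate.eigenAug R B p χ i = OortTate.eigenAug R B p χ (i % (p - 1)) := by
    intro B _ _
    ext x
    simp only [GrpSchLib.mem_eigenAug]
    have : ∀ m : (ZMod p)ˣ, (χ m : R) ^ i = (χ m : R) ^ (i % (p - 1)) := fun m => by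
      conv_lhs => rw [← Nat.mod_add_div i (p - 1)]
      rw [pow_add, pow_mul, ← Units.val_pow_eq_pow_val (χ m) (p - 1), ← map_pow,
        ZMod.units_pow_card_sub_one_eq_one, map_one, Units.val_one, one_pow, _root_.mul_one]
    simp only [this]
  let j := i % (p - 1)
  have hj : j < p - 1 := Nat.mod_lt _ hp1
  let ε := Bialgebra.counitAlgHom R A
  let red : A →ₗ[R] A := LinearMap.id - ε.toLinearMap.smulRight 1
  have hred : ∀ a, red a = a - ε a • 1 := fun a => rfl
  have hε : ∀ a, ε (red a) = 0 := fun a => by simp [hred, ε]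
  let P : A →ₗ[R] A := OortTate.proj R A p u χ j ∘ₗ red
  have hP : ∀ a, P a ∈ OortTate.eigenAug R A p χ i := fun a => by
    rw [hmodE A]
    exact (GrpSchLib.mem_eigenAug χ).mpr ⟨GrpSchLib.counit_proj u χ _ (hε a), fun m => GrpSchLib.pw_proj hp u χ m _ _⟩
  have hpw1 : ∀ m : (ZMod p)ˣ, GrpSchLib.pw (R := R) m (1 : A) = 1 := fun m =>
    map_one (SGA3b.powConv R A (m : ZMod p).val)
  have hD : ∀ (f : CartDual.D R A), f ∈ OortTate.eigenAug R (CartDual.D R A) p χ i ↔
      f 1 = 0 ∧ ∀ (m : (ZMod p)ˣ) (a : A), f (GrpSchLib.pw (R := R) m a) = (χ m : R) ^ i * f a := by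
    intro f
    rw [GrpSchLib.mem_eigenAug]
    refine and_congr Iff.rfl (forall_congr' fun m => ⟨fun h a => ?_, fun h => ?_⟩)
    · have := congrArg (fun g : CartDual.D R A => g a) h
      rw [show GrpSchLib.pw (R := R) m f a = f (GrpSchLib.pw (R := R) m a) from GrpSchLib.dual_powConv _ f a] at this
      exact this
    · apply WithConv.ofConv_injective
      apply LinearMap.ext
      intro a
      exact (GrpSchLib.dual_powConv _ f a).trans (h a)
  have hpm : ∀ m : (ZMod p)ˣ, (χ m : R) ^ i = (χ m : R) ^ j := fun m => by
    conv_lhs => rw [← Nat.mod_add_div i (p - 1)]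
    rw [pow_add, pow_mul, ← Units.val_pow_eq_pow_val (χ m) (p - 1), ← map_pow,
      ZMod.units_pow_card_sub_one_eq_one, map_one, Units.val_one, one_pow, _root_.mul_one]
  have hfP : ∀ f ∈ OortTate.eigenAug R (CartDual.D R A) p χ i, ∀ a, f (P a) = f a := by
    intro f hf a
    obtain ⟨h1, h2⟩ := (hD f).mp hf
    have e : f (OortTate.proj R A p u χ j (red a)) = f (red a) := by
      rw [GrpSchLib.proj_apply, map_smul, map_sum]
      simp only [map_smul, h2, hpm, smul_eq_mul, ← _root_.mul_assoc, GrpSchLib.char_inv_pow_mul, _root_.one_mul,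
        Finset.sum_const, Finset.card_univ, ZMod.card_units p, nsmul_eq_mul]
      rw [hu, _root_.one_mul]
    refine e.trans ?_
    rw [hred, map_sub, map_smul, h1, smul_zero, sub_zero]
  refine ⟨fun f g h => ?_, fun φ => ?_⟩
  · apply Subtype.ext
    apply WithConv.ofConv_injective
    apply LinearMap.ext
    intro a
    exact (hfP _ f.2 a).symm.trans ((LinearMap.congr_fun h ⟨P a, hP a⟩).trans (hfP _ g.2 a))
  · let Pc : A →ₗ[R] OortTate.eigenAug R A p χ i := P.codRestrict _ hP
    refine ⟨⟨WithConv.toConv (φ ∘ₗ Pc), (hD _).mpr ⟨?_, fun m a => ?_⟩⟩, ?_⟩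
    · show φ (Pc 1) = 0
      rw [show Pc 1 = 0 from Subtype.ext (show P 1 = 0 by simp [P, hred, ε]), map_zero]
    · show φ (Pc (GrpSchLib.pw (R := R) m a)) = (χ m : R) ^ i * φ (Pc a)
      rw [← smul_eq_mul, ← map_smul]
      congr 1
      apply Subtype.ext
      show P (GrpSchLib.pw (R := R) m a) = (χ m : R) ^ i • P a
      simp only [P, LinearMap.comp_apply]
      rw [hpm, show red (GrpSchLib.pw (R := R) m a) = GrpSchLib.pw (R := R) m (red a) by
        rw [hred, hred, map_sub, map_smul, hpw1, show ε (GrpSchLib.pw (R := R) m a) = ε a from GrpSchLib.counit_pw m a],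
        ← GrpSchLib.pw_proj hp u χ m j]
      simp only [GrpSchLib.proj_apply, map_smul, map_sum, GrpSchLib.pw_mul hp, mul_comm m]
    · apply LinearMap.ext
      rintro ⟨x, hx⟩
      show φ (Pc x) = φ ⟨x, hx⟩
      congr 1
      apply Subtype.ext
      show P x = x
      have hx' := hx
      rw [hmodE A] at hx'
      simp only [P, LinearMap.comp_apply, hred, ε, ((GrpSchLib.mem_eigenAug χ).mp hx').1, zero_smul, sub_zero]
      rw [GrpSchLib.proj_of_eigen u χ hχ hu hj hj hx', if_pos rfl]

end Groth.Agent.S18471
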