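import Groth.Statements.S5338
import Mathlib.RingTheory.Flat.EquationalCriterion
import Mathlib.RingTheory.FinitePresentation

set_option autoImplicit false
universe u
open CategoryTheory CategoryTheory.Limits MonoidalCategory CartesianMonoidalCategory MonObj GrpObj AlgebraicGeometry
open SGA3

namespace Groth.Agent.S5338

/-- Nakayama for a nilpotent ideal. -/
theorem le_of_le_sup_smul {A M : Type u} [CommRing A] [AddCommGroup M] [Module A M] {n : Ideal A} (hn : IsNilpotent n)
    {N K : Submodule A M} (h : K ≤ N ⊔ n • K) : K ≤ N := by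
  obtain ⟨k, hk⟩ := hn
  have : ∀ m, K ≤ N ⊔ n ^ m • K := fun m => by
    induction m with
    | zero => simp
    | succ m ih =>
      refine ih.trans (sup_le le_sup_left ((smul_mono_right _ h).trans ?_))
      rw [Submodule.smul_sup, ← Submodule.mul_smul, ← pow_succ]
      exact sup_le (Submodule.smul_le_right.trans le_sup_left) le_sup_right
  simpa [hk] using this k

/-- Flatness of the quotient makes the kernel meet `nP` in `nK`. -/
theorem ker_inf_smul_top_le {A P C : Type u} [CommRing A] [AddCommGroup P] [Module A P] [AddCommGroup C] [Module A C]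
    [Module.Flat A C] (φ : P →ₗ[A] C) (hφ : Function.Surjective φ) (n : Ideal A) :
    LinearMap.ker φ ⊓ n • (⊤ : Submodule A P) ≤ n • LinearMap.ker φ := by
  rintro z ⟨hz, hzn⟩
  obtain ⟨l, a, p, ha, rfl⟩ : ∃ (l : ℕ) (a : Fin l → A) (p : Fin l → P), (∀ j, a j ∈ n) ∧ ∑ j, a j • p j = z := by
    refine Submodule.smul_induction_on hzn (fun r hr y _ => ⟨1, fun _ => r, fun _ => y, fun _ => hr, by simp⟩) ?_
    rintro _ _ ⟨l₁, a₁, p₁, h₁, rfl⟩ ⟨l₂, a₂, p₂, h₂, rfl⟩
    exact ⟨l₁ + l₂, Fin.append a₁ a₂, Fin.append p₁ p₂, fun j => by induction j using Fin.addCases <;> simp [h₁, h₂],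
      by simp [Fin.sum_univ_add]⟩
  have he : ∑ j, a j • φ (p j) = 0 := by simpa using hz
  obtain ⟨L, c, y, hy, hc⟩ := Module.Flat.isTrivialRelation_of_sum_smul_eq_zero he
  choose q hq using fun i => hφ (y i)
  have e : ∑ j, a j • p j = ∑ j, a j • (p j - ∑ i, c j i • q i) := by
    simp only [smul_sub, Finset.smul_sum, Finset.sum_sub_distrib, smul_smul]
    rw [Finset.sum_comm]
    simp only [← Finset.sum_smul, hc, zero_smul, Finset.sum_const_zero, sub_zero]
  rw [e]
  refine Submodule.sum_mem _ fun j _ => Submodule.smul_mem_smul (ha j) ?_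
  simp [hy j, hq]

theorem exists_mem_of_quotient_eq {A C : Type u} [CommRing A] [CommRing C] [Algebra A C] (n : Ideal A)
    (J : Ideal C) (hJ : J = n.map (algebraMap A C)) {x : C} (hx : x ∈ J) : x ∈ n • (⊤ : Submodule A C) := by
  rw [Ideal.smul_top_eq_map]
  exact hJ ▸ hx

/-- Let A → B → C be homomorphisms of commutative rings and n a nilpotent ideal of A; write nB and nC
for the extended ideals. (i) If C/nC is a (B/nB)-algebra of finite type, then C is a B-algebra of
finite type. (ii) If moreover C is flat over A and C/nC is a (B/nB)-algebra of finite presentation,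
then C is a B-algebra of finite presentation. -/
theorem result (A B C : Type u) [CommRing A] [CommRing B] [CommRing C]
    [Algebra A B] [Algebra B C] [Algebra A C] [IsScalarTower A B C] (n : Ideal A) (hn : IsNilpotent n) :
    (Algebra.FiniteType (B ⧸ n.map (algebraMap A B)) (C ⧸ (n.map (algebraMap A B)).map (algebraMap B C)) →
      Algebra.FiniteType B C) ∧
    (Module.Flat A C →
      Algebra.FinitePresentation (B ⧸ n.map (algebraMap A B)) (C ⧸ (n.map (algebraMap A B)).map (algebraMap B C)) →
      Algebra.FinitePresentation B C) := by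
  classical
  have hJ : (n.map (algebraMap A B)).map (algebraMap B C) = n.map (algebraMap A C) := by
    rw [Ideal.map_map, ← IsScalarTower.algebraMap_eq]
  have hFT : Algebra.FiniteType (B ⧸ n.map (algebraMap A B)) (C ⧸ (n.map (algebraMap A B)).map (algebraMap B C)) →
      Algebra.FiniteType B C := fun h => by
    obtain ⟨s, hs⟩ := (inferInstance : Algebra.FiniteType B (B ⧸ n.map (algebraMap A B))).trans h |>.out
    choose f hf using fun x : C ⧸ (n.map (algebraMap A B)).map (algebraMap B C) => Ideal.Quotient.mk_surjective x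
    let T := Algebra.adjoin B (f '' (s : Set (C ⧸ (n.map (algebraMap A B)).map (algebraMap B C))))
    have h1 : ∀ c : C, ∃ t ∈ T, c - t ∈ n • (⊤ : Submodule A C) := fun c => by
      have hc : Ideal.Quotient.mk ((n.map (algebraMap A B)).map (algebraMap B C)) c ∈
          T.map (Ideal.Quotient.mkₐ B ((n.map (algebraMap A B)).map (algebraMap B C))) := by
        rw [AlgHom.map_adjoin, ← Set.image_comp, show (⇑(Ideal.Quotient.mkₐ B ((n.map (algebraMap A B)).map (algebraMap B C))) ∘ f) = id from funext hf, Set.image_id, hs]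
        trivial
      obtain ⟨t, ht, e⟩ := hc
      exact ⟨t, ht, exists_mem_of_quotient_eq n ((n.map (algebraMap A B)).map (algebraMap B C)) hJ (Ideal.Quotient.eq.mp e.symm)⟩
    have h2 : (⊤ : Submodule A C) ≤ (Subalgebra.toSubmodule T).restrictScalars A ⊔ n • ⊤ := fun c _ => by
      obtain ⟨t, ht, e⟩ := h1 c
      exact Submodule.mem_sup.mpr ⟨t, ht, c - t, e, add_sub_cancel t c⟩
    refine ⟨⟨s.image f, eq_top_iff.mpr fun c _ => ?_⟩⟩
    rw [Finset.coe_image]
    exact le_of_le_sup_smul hn h2 (Submodule.mem_top : c ∈ ⊤)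
  refine ⟨hFT, fun _ h => ?_⟩
  haveI := h
  haveI := hFT inferInstance
  obtain ⟨m, φ, hφ⟩ := Algebra.FiniteType.iff_quotient_mvPolynomial''.mp ‹Algebra.FiniteType B C›
  let J := (n.map (algebraMap A B)).map (algebraMap B C)
  let P := MvPolynomial (Fin m) B
  let I : Ideal P := n.map (algebraMap A P)
  let ψ : P →ₐ[B] C ⧸ J := (Ideal.Quotient.mkₐ B J).comp φ
  have hI : I = (n.map (algebraMap A B)).map (algebraMap B P) := by rw [Ideal.map_map, ← IsScalarTower.algebraMap_eq]
  let χ : MvPolynomial (Fin m) (B ⧸ n.map (algebraMap A B)) →ₐ[B ⧸ n.map (algebraMap A B)] C ⧸ J :=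
    MvPolynomial.aeval fun i => ψ (MvPolynomial.X i)
  let π : P →+* MvPolynomial (Fin m) (B ⧸ n.map (algebraMap A B)) := MvPolynomial.map (Ideal.Quotient.mk _)
  have hπ : ∀ x, χ (π x) = ψ x := fun x => by
    have : (χ.toRingHom.comp π) = ψ.toRingHom := MvPolynomial.ringHom_ext (fun b => by
      simp [χ, π]
      exact (ψ.commutes b).symm) fun i => by simp [χ, π]
    exact RingHom.congr_fun this x
  have hπs : Function.Surjective π := MvPolynomial.map_surjective _ Ideal.Quotient.mk_surjective
  have hχs : Function.Surjective χ := fun y => by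
    obtain ⟨c, rfl⟩ := Ideal.Quotient.mk_surjective y
    obtain ⟨x, rfl⟩ := hφ c
    exact ⟨π x, hπ x⟩
  obtain ⟨G, hG⟩ := Algebra.FinitePresentation.ker_fG_of_surjective χ hχs
  have hlift : ∀ g : G, ∃ x : P, π x = g ∧ φ x = 0 := fun g => by
    obtain ⟨x, hx⟩ := hπs g
    have h0 : χ g = 0 := RingHom.mem_ker.mp (hG ▸ Ideal.subset_span g.2 : (g : MvPolynomial _ _) ∈ RingHom.ker χ.toRingHom)
    have hxJ : φ x ∈ n • (⊤ : Submodule A C) := exists_mem_of_quotient_eq n _ hJ
      (Ideal.Quotient.eq_zero_iff_mem.mp ((hπ x).symm.trans (hx ▸ h0)))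
    have e : n • (⊤ : Submodule A C) = (n • (⊤ : Submodule A P)).map (φ.restrictScalars A).toLinearMap := by
      rw [Submodule.map_smul'', Submodule.map_top, LinearMap.range_eq_top.mpr hφ]
    rw [e] at hxJ
    obtain ⟨y, hy, hyx⟩ := hxJ
    have hy0 : π y = 0 := by
      rw [SetLike.mem_coe, Ideal.smul_top_eq_map, Submodule.restrictScalars_mem] at hy
      have : I ≤ RingHom.ker π := by
        rw [hI, Ideal.map_le_iff_le_comap, MvPolynomial.algebraMap_eq]
        intro b hb
        show MvPolynomial.map (Ideal.Quotient.mk _) (MvPolynomial.C b) = 0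
        rw [MvPolynomial.map_C, Ideal.Quotient.eq_zero_iff_mem.mpr hb, map_zero]
      exact this hy
    exact ⟨x - y, by rw [map_sub, hy0, sub_zero, hx],
      by rw [map_sub, sub_eq_zero]; exact hyx.symm⟩
  choose x hx hx0 using hlift
  refine Algebra.FinitePresentation.of_surjective (f := φ) hφ ?_
  let K : Ideal P := Ideal.span (Finset.univ.image x : Finset P)
  have hK : RingHom.ker φ ≤ K := fun z hz => by
    refine le_of_le_sup_smul (A := A) hn (N := K.restrictScalars A)
      (K := LinearMap.ker (φ.restrictScalars A).toLinearMap) (fun w hw => ?_) hz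
    have hw' : π w ∈ K.map π := by
      have : π w ∈ RingHom.ker χ.toRingHom := RingHom.mem_ker.mpr ((hπ w).trans (by
        show Ideal.Quotient.mk J (φ w) = 0
        rw [show φ w = 0 from hw, map_zero]))
      rw [← hG] at this
      refine Ideal.span_le.mpr (fun g hg => ?_) this
      rw [show g = π (x ⟨g, hg⟩) from (hx ⟨g, hg⟩).symm]
      exact Ideal.mem_map_of_mem π (Ideal.subset_span (by simp))
    obtain ⟨k, hk, e⟩ := (Ideal.mem_map_iff_of_surjective π hπs).mp hw'
    have hkφ : φ k = 0 := by
      have : K ≤ RingHom.ker φ := Ideal.span_le.mpr fun t ht => by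
        obtain ⟨g, -, rfl⟩ := Finset.mem_image.mp (Finset.mem_coe.mp ht)
        exact hx0 g
      exact this hk
    have hwk : w - k ∈ n • (⊤ : Submodule A P) := by
      have : w - k ∈ RingHom.ker π := by rw [RingHom.mem_ker, map_sub, e, sub_self]
      rw [MvPolynomial.ker_map, Ideal.mk_ker, ← MvPolynomial.algebraMap_eq, ← hI] at this
      rw [Ideal.smul_top_eq_map]
      exact this
    exact Submodule.mem_sup.mpr ⟨k, hk, w - k,
      ker_inf_smul_top_le (φ.restrictScalars A).toLinearMap hφ n ⟨by
        show φ (w - k) = 0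
        rw [map_sub, show φ w = 0 from hw, hkφ, sub_zero], hwk⟩, add_sub_cancel k w⟩
  refine ⟨Finset.univ.image x, le_antisymm ?_ hK⟩
  exact Ideal.span_le.mpr fun t ht => by
    obtain ⟨g, -, rfl⟩ := Finset.mem_image.mp (Finset.mem_coe.mp ht)
    exact hx0 g

end Groth.Agent.S5338
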