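import Groth.Statements.S7464
import Groth.Agent.GrpdLib.Affine

set_option backward.isDefEq.respectTransparency false
set_option backward.isDefEq.respectTransparency.types false
-- import your own Groth.Agent.* helpers here

set_option autoImplicit false
universe u
open CategoryTheory CategoryTheory.Limits AlgebraicGeometry
open Grpd

namespace Groth.Agent.S7464

/-- Let (U, R, s, t, c) be a groupoid scheme over S with s and t finite, and let u, u' be distinct
points of U in the same orbit, say u = s(r) and u' = t(r). Then u' does not lie in the closure of u.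
(The published statement calls u, u' points of R; this row takes them to be points of U, as the
orbit condition and the proof require.) (A groupoid scheme carries U, R, s, t, c, e, i over S with
the groupoid axioms on T-points; c is defined on the fibre product of s and t and sends a pair (a,
b) with s(a) = t(b) to a composed with b.) -/
theorem result (S : Scheme.{u}) (G : Grpd.GroupoidScheme S) [IsFinite G.s] [IsFinite G.t] (r : G.R) (hne : G.s r ≠ G.t r) : ¬ (G.s r ⤳ G.t r) := by
  intro hsp
  -- a finite morphism does not identify a point with a proper specialization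
  have hinc : ∀ (f : G.R ⟶ G.U) [IsFinite f] (a b : G.R), a ⤳ b → f a = f b → a = b := by
    intro f _ a b hab hf
    have hd := (f.isDiscrete_preimage_singleton (f b)).to_subtype
    have h1 : (⟨a, hf⟩ : f ⁻¹' {f b}) ⤳ ⟨b, rfl⟩ := (subtype_specializes_iff _ _).2 hab
    exact congrArg Subtype.val h1.eq
  -- the orbit
  let O : Set G.U := G.t '' (G.s ⁻¹' {G.s r})
  have hfin : O.Finite := (G.s.finite_preimage_singleton (G.s r)).image _
  have hsO : G.s r ∈ O := by
    refine ⟨G.e (G.s r), ?_, ?_⟩
    · show G.s (G.e (G.s r)) = G.s r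
      rw [← Scheme.Hom.comp_apply, G.e_s]; rfl
    · rw [← Scheme.Hom.comp_apply, G.e_t]; rfl
  -- every point of the orbit has a proper specialization in the orbit
  have hstep : ∀ v ∈ O, ∃ w ∈ O, v ⤳ w ∧ v ≠ w := by
    rintro v ⟨a, ha, rfl⟩
    have ha' : G.s a = G.s r := ha
    obtain ⟨a', hb, hb'⟩ : ∃ a', a ⤳ a' ∧ G.s a' = G.t r := by
      have hcl := G.s.isClosedMap _ (isClosed_closure (s := ({a} : Set G.R)))
      have hsub : closure ({G.s r} : Set G.U) ⊆ G.s '' closure {a} := by
        refine closure_minimal ?_ hcl
        rw [Set.singleton_subset_iff]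
        exact ⟨a, subset_closure rfl, ha'⟩
      obtain ⟨a', h1, h2⟩ := hsub hsp.mem_closure
      exact ⟨a', specializes_iff_mem_closure.2 h1, h2⟩
    refine ⟨G.t a', ?_, hb.map G.t.continuous, fun heq => hne ?_⟩
    · -- `t a'` is joined to `s r`
      obtain ⟨q, hq1, hq2⟩ := Scheme.exists_preimage_of_isPullback (IsPullback.of_hasPullback G.s G.t) a' r hb'
      refine ⟨G.c q, ?_, ?_⟩
      · show G.s (G.c q) = G.s r
        rw [← Scheme.Hom.comp_apply, Groth.Agent.GrpdLib.c_s, Scheme.Hom.comp_apply, hq2]
      · rw [← Scheme.Hom.comp_apply, Groth.Agent.GrpdLib.c_t, Scheme.Hom.comp_apply, hq1]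
    · rw [← ha', hinc G.t a a' hb heq, hb']
  -- no such finite set
  obtain ⟨m, hm, hmin⟩ := hfin.exists_minimalFor (fun v => closure ({v} : Set G.U)) O ⟨_, hsO⟩
  obtain ⟨w, hw, hvw, hne'⟩ := hstep m hm
  have h1 : closure ({w} : Set G.U) ⊆ closure {m} := hvw.closure_subset
  exact hne' (hvw.antisymm (specializes_iff_closure_subset.2 (hmin hw h1))).eq
end Groth.Agent.S7464
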