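import Groth.Statements.S1342
import Groth.Agent.CMBCAny.Basic

set_option autoImplicit false
universe u
open FlatMor

set_option backward.isDefEq.respectTransparency false
set_option backward.isDefEq.respectTransparency.types false

namespace Groth.Agent.S1342

open AlgebraicGeometry CategoryTheory Limits in
/-- For a flat morphism locally of finite presentation, the formation of the Cohen–Macaulay locus
commutes with arbitrary base change: in a cartesian square the Cohen–Macaulay locus of the
base-changed morphism is the preimage of the Cohen–Macaulay locus of f. -/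
theorem result {X S X' S' : Scheme.{u}} (f : X ⟶ S) [Flat f] [LocallyOfFinitePresentation f]
    (f' : X' ⟶ S') (g' : X' ⟶ X) (g : S' ⟶ S) (hc : IsPullback g' f' f g) :
    {x' : ↑X' | MoreMor.IsCMAt f' x'} = g' ⁻¹' {x : ↑X | MoreMor.IsCMAt f x} := by
  ext x'
  simp only [Set.mem_setOf_eq, Set.mem_preimage]
  rw [Triage.CMMor.isCMAt_iff_sm f' x' (f' x') rfl, Triage.CMMor.isCMAt_iff_sm f (g' x') (f (g' x')) rfl]
  have hflat : (f.stalkMap (g' x')).hom.Flat := Flat.stalkMap f (g' x')
  refine and_congr (iff_of_true ?_ ((FibFlat.sm_flat_iff f (g' x') (f (g' x')) rfl).2 hflat))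
    (CMBCAny.isCM_fibre_iff hc x')
  exact (FibFlat.sm_flat_iff f' x' (f' x') rfl).2 (Triage.CMBC.flat_stalk_of_isPullback hc x' hflat)

end Groth.Agent.S1342
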