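import Groth.Statements.S4961
import Groth.Agent.CMOpen5.Open

set_option autoImplicit false
open CategoryTheory AlgebraicGeometry
universe u v w
open EGA43

namespace Groth.Agent.S4961

/-- Let f : X ⟶ Y be a morphism locally of finite presentation. The set of points x of X at which f is
Cohen–Macaulay (f flat at x and the local ring at x of the fibre through x Cohen–Macaulay) is open
in X. -/
theorem result {X Y : Scheme.{u}} (f : X ⟶ Y)
    [LocallyOfFinitePresentation f] : IsOpen {x : X | MoreMor.IsCMAt f x} := by
  exact CMOpen5.isOpen_isCMAt f

end Groth.Agent.S4961
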