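import Groth.Agent.EtPrimeFilt11.Step
import Groth.Agent.BCCrit13.Basic
import Groth.Agent.EtMVLib.PullSec
import Groth.Agent.EtMVLib.ExtTools
import Groth.Agent.EtFound.FLCAb

/-! classes of degree one of finite locally constant sheaves die on finite etale covers -/

universe u

open CategoryTheory CategoryTheory.Limits AlgebraicGeometry Opposite CategoryTheory.Abelian

namespace Groth.Agent.H1Kill11

set_option backward.isDefEq.respectTransparency false
set_option backward.isDefEq.respectTransparency.types false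

open EtMVLib EtPrimeFilt11

variable {Y : Scheme.{u}}

/-- the section classifying a morphism from the constant sheaf `ℤ` -/
noncomputable def val {C : EtCoh.Ab Y} (a : EtCoh.const Y ℤ ⟶ C) : C.obj.obj (op (EtCoh.top Y)) :=
  ((EtCore.constAdj Y).homEquiv _ _ a) (ULift.up (1 : ℤ))

theorem val_comp {C D : EtCoh.Ab Y} (a : EtCoh.const Y ℤ ⟶ C) (m : C ⟶ D) :
    val (a ≫ m) = m.hom.app (op (EtCoh.top Y)) (val a) :=
  (ConcreteCategory.congr_hom ((EtCore.constAdj Y).homEquiv_naturality_right a m) _).trans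
    (ConcreteCategory.comp_apply _ _ _)

/-- morphisms out of `ℤ` are determined by one section -/
theorem val_injective {C : EtCoh.Ab Y} {a b : EtCoh.const Y ℤ ⟶ C} (h : val a = val b) : a = b := by
  refine ((EtCore.constAdj Y).homEquiv _ _).injective (AddCommGrpCat.hom_ext (AddMonoidHom.ext fun m => ?_))
  obtain ⟨m⟩ := m
  have hm : (ULift.up m : ULift.{u + 1} ℤ) = m • ULift.up (1 : ℤ) := ULift.ext _ _ (by simp)
  rw [hm, map_zsmul, map_zsmul]
  exact congrArg (m • ·) h

theorem exists_val_eq {C : EtCoh.Ab Y} (s : C.obj.obj (op (EtCoh.top Y))) : ∃ a : EtCoh.const Y ℤ ⟶ C, val a = s := by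
  refine ⟨((EtCore.constAdj Y).homEquiv _ _).symm (AddCommGrpCat.ofHom
    ((zmultiplesHom _ s).comp AddEquiv.ulift.toAddMonoidHom)), ?_⟩
  rw [val, Equiv.apply_symm_apply]
  exact one_zsmul s

/-- degree one cohomology of the torsion of an injective vanishes -/
theorem eq_zero_H1_torsN (J : EtCoh.Ab Y) [Injective J] {n : ℕ} (hn : 0 < n)
    (α : Ext.{u + 1} (EtCoh.const Y ℤ) (BCCrit13.torsN J n) 1) : α = 0 := by
  have hS := BCCrit13.torsNSeq_shortExact J hn
  haveI : Injective (BCCrit13.torsNSeq J n).X₂ := inferInstanceAs (Injective J)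
  obtain ⟨β, rfl⟩ := Ext.covariant_sequence_exact₁ _ hS α (Ext.eq_zero_of_injective _) (rfl : 0 + 1 = 1)
  obtain ⟨b, rfl⟩ := (Ext.mk₀_bijective _ _).2 β
  obtain ⟨t, ht⟩ := BCCrit13.surjective_nsmul_injective J hn (EtCoh.top Y) (val b)
  obtain ⟨b', hb'⟩ := exists_val_eq t
  have e : b = b' ≫ (BCCrit13.torsNSeq J n).g := val_injective (by
    refine Eq.trans ?_ (val_comp b' _).symm
    rw [hb']
    exact ht.symm)
  rw [e, ← Ext.mk₀_comp_mk₀, Ext.comp_assoc_of_second_deg_zero, hS.comp_extClass, Ext.comp_zero]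

/-- a section over a finite etale piece splits the pulled back morphism -/
theorem exists_lift_of_section {Y' : Scheme.{u}} (g : Y' ⟶ Y) [AlgebraicGeometry.Etale g] {E C : EtCoh.Ab Y}
    (m : E ⟶ C) (a : EtCoh.const Y ℤ ⟶ C) (s : E.obj.obj (op (Scheme.Etale.mk g)))
    (h : m.hom.app (op (Scheme.Etale.mk g)) s =
      C.obj.map ((EtCore.topIsTerminal Y).from (Scheme.Etale.mk g)).op (val a)) :
    ∃ σ : EtCoh.const Y' ℤ ⟶ (EtCoh.pull g).obj E,
      σ ≫ (EtCoh.pull g).map m = (EtCore.pullConst g ℤ).inv ≫ (EtCoh.pull g).map a := by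
  let V : Y.Etale := Scheme.Etale.mk g
  let δ : EtCoh.top Y' ⟶ (EtCoh.bc g).obj V :=
    MorphismProperty.Over.homMk (pullback.lift (𝟙 _) (𝟙 _) rfl) (pullback.lift_snd _ _ _) trivial
  obtain ⟨σ, hσ⟩ := exists_val_eq (((EtCoh.pull g).obj E).obj.map δ.op
    (((EtCoh.pullPushAdj g).unit.app E).hom.app (op V) s))
  refine ⟨σ, val_injective ?_⟩
  rw [val_comp, hσ]
  have hr : val ((EtCore.pullConst g ℤ).inv ≫ (EtCoh.pull g).map a) = (pullSec g).app C (val a) := by
    rw [val, Adjunction.homEquiv_naturality_right, homEquiv_pullConst_inv]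
    exact (congr($((pullSec g).naturality a) ((EtCore.constAdj Y).unit.app _ (ULift.up (1 : ℤ))))).symm.trans
      (congrArg ((pullSec g).app C) (ConcreteCategory.congr_hom
        ((EtCore.constAdj Y).homEquiv_unit _ _ a).symm (ULift.up (1 : ℤ))))
  rw [hr]
  refine (NatTrans.naturality_apply ((EtCoh.pull g).map m).hom δ.op _).trans ?_
  have hn := congr(($((EtCoh.pullPushAdj g).unit.naturality m)).hom.app (op V) s)
  refine (congrArg (((EtCoh.pull g).obj C).obj.map δ.op) hn.symm).trans ?_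
  change ((EtCoh.pull g).obj C).obj.map δ.op
    (((EtCoh.pullPushAdj g).unit.app C).hom.app (op V) (m.hom.app (op V) s)) =
    ((EtCoh.pull g).obj C).obj.map (EtCore.bcTopIso g).inv.op
      (((EtCoh.pullPushAdj g).unit.app C).hom.app (op (EtCoh.top Y)) (val a))
  refine (congrArg (fun q => ((EtCoh.pull g).obj C).obj.map δ.op
    (((EtCoh.pullPushAdj g).unit.app C).hom.app (op V) q)) h).trans ?_
  refine (congrArg (((EtCoh.pull g).obj C).obj.map δ.op)
    (NatTrans.naturality_apply ((EtCoh.pullPushAdj g).unit.app C).hom ((EtCore.topIsTerminal Y).from V).op (val a))).trans ?_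
  refine (Functor.map_comp_apply _ _ _ _).symm.trans ?_
  exact congrArg (fun q => ((EtCoh.pull g).obj C).obj.map (Quiver.Hom.op q)
      (((EtCoh.pullPushAdj g).unit.app C).hom.app (op (EtCoh.top Y)) (val a)))
    ((EtCore.bcTopIsTerminal g).hom_ext (δ ≫ (EtCoh.bc g).map ((EtCore.topIsTerminal Y).from V)) (EtCore.bcTopIso g).inv)

theorem exists_zmod_factor {C : EtCoh.Ab Y} {n : ℕ} (hC : EtCoh.KilledBy n C) (a : EtCoh.const Y ℤ ⟶ C) :
    ∃ (one : (EtCoh.const Y (ZMod n)).obj.obj (op (EtCoh.top Y))) (a' : EtCoh.const Y (ZMod n) ⟶ C),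
      a'.hom.app (op (EtCoh.top Y)) one = val a := by
  have hz : zmultiplesHom _ (val a) (n : ℤ) = 0 := by
    rw [zmultiplesHom_apply, natCast_zsmul]
    exact hC _ (val a)
  let φ₀ : AddCommGrpCat.of (ULift.{u + 1} (ZMod n)) ⟶ (EtCore.gsec Y).obj C :=
    AddCommGrpCat.ofHom ((ZMod.lift n ⟨zmultiplesHom _ (val a), hz⟩).comp AddEquiv.ulift.toAddMonoidHom)
  refine ⟨(EtCore.constAdj Y).unit.app (AddCommGrpCat.of (ULift.{u + 1} (ZMod n))) (ULift.up (1 : ZMod n)),
    ((EtCore.constAdj Y).homEquiv _ _).symm φ₀, ?_⟩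
  have e := (((EtCore.constAdj Y).homEquiv _ _).apply_symm_apply φ₀)
  rw [Adjunction.homEquiv_unit] at e
  refine (ConcreteCategory.congr_hom e (ULift.up (1 : ZMod n))).trans ?_
  have h := ZMod.lift_coe n ⟨zmultiplesHom _ (val a), hz⟩ 1
  rw [Int.cast_one] at h
  refine h.trans ?_
  rw [zmultiplesHom_apply, one_zsmul]

/-- the pullback of a short exact sequence -/
theorem pullback_shortExact {A : Type*} [Category A] [Abelian A] {F J Q C : A} (i : F ⟶ J) (m : J ⟶ Q) (w : i ≫ m = 0)
    (hS : (ShortComplex.mk i m w).ShortExact) (a : C ⟶ Q) :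
    (ShortComplex.mk (pullback.lift i (0 : F ⟶ C) (by rw [w, zero_comp])) (pullback.snd m a)
      (pullback.lift_snd _ _ _)).ShortExact := by
  haveI : Epi m := hS.epi_g
  haveI : Mono i := hS.mono_f
  haveI : Mono (pullback.lift i (0 : F ⟶ C) (by rw [w, zero_comp] : i ≫ m = 0 ≫ a)) :=
    mono_of_mono_fac (pullback.lift_fst _ _ _)
  refine { exact := ShortComplex.exact_of_f_is_kernel _ (KernelFork.IsLimit.ofι _ _ (fun k hk =>
    (KernelFork.IsLimit.lift' hS.fIsKernel (k ≫ pullback.fst m a) (by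
      show (k ≫ pullback.fst m a) ≫ m = 0
      rw [Category.assoc, pullback.condition, reassoc_of% hk, zero_comp])).1) (fun k hk => ?_)
    (fun k hk l hl => ?_)) }
  · refine pullback.hom_ext ?_ ?_
    · rw [Category.assoc, pullback.lift_fst]
      exact (KernelFork.IsLimit.lift' hS.fIsKernel (k ≫ pullback.fst m a) _).2
    · rw [Category.assoc, pullback.lift_snd, comp_zero, hk]
  · refine (cancel_mono i).1 ?_
    refine Eq.trans ?_ (KernelFork.IsLimit.lift' hS.fIsKernel (k ≫ pullback.fst m a) _).2.symm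
    rw [← hl, Category.assoc, pullback.lift_fst]

/-- the finite etale cover on which a surjection of finite locally constant sheaves gets a section over a given one -/
theorem exists_cover_section {E C : EtCoh.Ab Y} (hE : EtCoh.IsFiniteLocallyConstant E)
    (hC : EtCoh.IsFiniteLocallyConstant C) (p : E ⟶ C) [Epi p] (one : C.obj.obj (op (EtCoh.top Y))) :
    ∃ (Y' : Scheme.{u}) (g : Y' ⟶ Y) (_ : AlgebraicGeometry.Etale g), IsFinite g ∧ Surjective g ∧
      ∃ s : E.obj.obj (op (Scheme.Etale.mk g)), p.hom.app (op (Scheme.Etale.mk g)) s =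
        C.obj.map ((EtCore.topIsTerminal Y).from (Scheme.Etale.mk g)).op one := by
  obtain ⟨U, hfU, ⟨eE⟩⟩ := S0107.result E hE
  obtain ⟨U', hfU', ⟨eC⟩⟩ := S0107.result C hC
  obtain ⟨q, hq⟩ := (map_univSec_bijective eC U).2 (p.hom.app (op U) (univSec eE))
  obtain ⟨z, hz⟩ := (map_univSec_bijective eC (EtCoh.top Y)).2 one
  haveI : AlgebraicGeometry.Etale U.hom := U.prop
  haveI : AlgebraicGeometry.Etale U'.hom := U'.prop
  have hzs : z.left ≫ U'.hom = 𝟙 Y := CategoryTheory.Over.w z.toCommaMorphism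
  haveI hoz : IsOpenImmersion z.left := EtFound.isOpenImmersion_section U'.hom z.left hzs
  let O : U'.left.Opens := ⟨Set.range z.left.base, z.left.isOpenEmbedding.isOpen_range⟩
  let O' : U.left.Opens := q.left ⁻¹ᵁ O
  haveI : IsClosedImmersion O'.ι := IsClosedImmersion.of_isPreimmersion O'.ι (by
    rw [Scheme.Opens.range_ι]
    exact (EtFound.isClosed_range_section U'.hom z.left hzs).preimage q.left.continuous)
  let g : O'.toScheme ⟶ Y := O'.ι ≫ U.hom
  haveI : AlgebraicGeometry.Etale g := inferInstanceAs (AlgebraicGeometry.Etale (O'.ι ≫ U.hom))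
  have hfin : IsFinite g := inferInstanceAs (IsFinite (O'.ι ≫ U.hom))
  let w : Scheme.Etale.mk g ⟶ U := MorphismProperty.Over.homMk O'.ι rfl
  have hwq : w ≫ q = (EtCore.topIsTerminal Y).from (Scheme.Etale.mk g) ≫ z := by
    apply MorphismProperty.Over.Hom.ext
    show O'.ι ≫ q.left = ((EtCore.topIsTerminal Y).from (Scheme.Etale.mk g)).left ≫ z.left
    have hr : Set.range (O'.ι ≫ q.left).base ⊆ Set.range z.left.base := by
      rintro _ ⟨x, rfl⟩
      rw [Scheme.Hom.comp_apply]
      exact x.2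
    have hl := IsOpenImmersion.lift_fac z.left (O'.ι ≫ q.left) hr
    rw [← hl]
    refine congrArg (fun r => r ≫ z.left) ?_
    have h2 : ((EtCore.topIsTerminal Y).from (Scheme.Etale.mk g)).left = g :=
      ((Category.comp_id _).symm.trans (CategoryTheory.Over.w ((EtCore.topIsTerminal Y).from (Scheme.Etale.mk g)).toCommaMorphism))
    rw [h2]
    refine Eq.trans ((Category.comp_id _).symm.trans ((congrArg (fun r => IsOpenImmersion.lift z.left (O'.ι ≫ q.left) hr ≫ r) hzs.symm).trans
      ((Category.assoc _ _ _).symm.trans ((congrArg (fun r => r ≫ U'.hom) hl).trans (Category.assoc _ _ _))))) ?_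
    exact congrArg (fun r => O'.ι ≫ r) (CategoryTheory.Over.w q.toCommaMorphism)
  refine ⟨_, g, inferInstance, hfin, ?_, E.obj.map w.op (univSec eE), ?_⟩
  · refine ⟨fun y => ?_⟩
    obtain ⟨Ω, _, _, ξ, v, hv⟩ := EtFound.exists_algClosed_point (EtCoh.top Y) y
    let Φ := Scheme.pointSmallEtale ξ
    obtain ⟨t, ht⟩ := (EtFound.epi_iff_stalks p).1 inferInstance Ω ξ (Φ.toPresheafFiber _ v C.obj one)
    obtain ⟨x, rfl⟩ := (germ_univSec_bijective eE ξ).2 t
    have h1 : Φ.fiber.map q x = Φ.fiber.map z v := by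
      refine (germ_univSec_bijective eC ξ).1 ?_
      refine (Φ.toPresheafFiber_w_apply q x C.obj (univSec eC)).symm.trans ?_
      refine Eq.trans ?_ (Φ.toPresheafFiber_w_apply z v C.obj (univSec eC))
      refine (congrArg (fun r => Φ.toPresheafFiber U x C.obj r) hq).trans ?_
      refine Eq.trans ?_ (congrArg (fun r => Φ.toPresheafFiber (EtCoh.top Y) v C.obj r) hz).symm
      exact (Φ.toPresheafFiber_naturality_apply p.hom U x (univSec eE)).symm.trans ht
    let u₀ := (x.left : Spec (CommRingCat.of Ω) ⟶ U.left).base (default : Spec (CommRingCat.of Ω))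
    have h2 := congrArg (fun r : Φ.fiber.obj U' => (r.left : Spec (CommRingCat.of Ω) ⟶ U'.left).base (default : Spec (CommRingCat.of Ω))) h1
    have hu₀ : q.left.base u₀ ∈ Set.range z.left.base :=
      ⟨(v.left : Spec (CommRingCat.of Ω) ⟶ (EtCoh.top Y).left).base (default : Spec (CommRingCat.of Ω)),
        ((Scheme.Hom.comp_apply _ _ _).symm.trans h2.symm).trans (Scheme.Hom.comp_apply _ _ _)⟩
    refine ⟨⟨u₀, hu₀⟩, ?_⟩
    have h3 := congrArg (fun r : Spec (CommRingCat.of Ω) ⟶ Y => r.base (default : Spec (CommRingCat.of Ω)))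
      ((CategoryTheory.Over.w x).trans (CategoryTheory.Over.w v).symm)
    refine (Scheme.Hom.comp_apply _ _ _).trans ?_
    refine ((Scheme.Hom.comp_apply _ _ _).symm.trans h3).trans ?_
    exact (Scheme.Hom.comp_apply _ _ _).trans hv
  · refine (NatTrans.naturality_apply p.hom w.op (univSec eE)).trans ?_
    refine (congrArg (C.obj.map w.op) hq.symm).trans ?_
    refine Eq.trans ?_ (congrArg (C.obj.map ((EtCore.topIsTerminal Y).from (Scheme.Etale.mk g)).op) hz)
    refine (Functor.map_comp_apply _ _ _ _).symm.trans (Eq.trans ?_ (Functor.map_comp_apply _ _ _ _))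
    exact congrArg (fun r => C.obj.map (Quiver.Hom.op r) (univSec eC)) hwq

/-- classes of degree one die on a finite etale cover -/
theorem exists_cover_kill {F : EtCoh.Ab Y} (hF : EtCoh.IsFiniteLocallyConstant F) {n : ℕ} (hn : 0 < n)
    (hk : EtCoh.KilledBy n F) (ζ : EtCoh.H Y F 1) :
    ∃ (Y' : Scheme.{u}) (g : Y' ⟶ Y), IsFinite g ∧ AlgebraicGeometry.Etale g ∧ Surjective g ∧
      ∀ [PreservesFiniteLimits (EtCoh.pull g)], EtCore.Hpull g F 1 ζ = 0 := by
  let J := BCCrit13.torsN (Injective.under F) n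
  let i : F ⟶ J := BCCrit13.toTorsN hk (Injective.ι F)
  haveI : Mono i := mono_of_mono_fac (BCCrit13.toTorsN_ι hk (Injective.ι F))
  have hS : (ShortComplex.mk i (cokernel.π i) (cokernel.condition i)).ShortExact :=
    { exact := ShortComplex.exact_of_g_is_cokernel _ (cokernelIsCokernel _) }
  obtain ⟨α, rfl⟩ := Ext.covariant_sequence_exact₁ _ hS ζ (eq_zero_H1_torsN _ hn _) (rfl : 0 + 1 = 1)
  obtain ⟨a, rfl⟩ := (Ext.mk₀_bijective _ _).2 α
  have hQ : EtCoh.KilledBy n (cokernel i) := killedBy_of_epi (cokernel.π i) (BCCrit13.killedBy_torsN _ _)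
  obtain ⟨one, a', ha'⟩ := exists_zmod_factor hQ a
  haveI : NeZero n := ⟨hn.ne'⟩
  have hC : EtCoh.IsFiniteLocallyConstant (EtCoh.const Y (ZMod n)) := isFiniteLocallyConstant_const _
  have hSE := pullback_shortExact i (cokernel.π i) (cokernel.condition i) hS a'
  have hE := EtFound.isFiniteLocallyConstant_of_extension hSE hF hC
  haveI : Epi (pullback.snd (cokernel.π i) a') := hSE.epi_g
  obtain ⟨Y', g, _, hfin, hsurj, s, hs⟩ := exists_cover_section hE hC (pullback.snd (cokernel.π i) a') one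
  refine ⟨Y', g, hfin, inferInstance, hsurj, ?_⟩
  intro _
  obtain ⟨σ, hσ⟩ := exists_lift_of_section g (cokernel.π i) a
    ((pullback.fst (cokernel.π i) a').hom.app (op (Scheme.Etale.mk g)) s) (by
      refine (congr(($(pullback.condition (f := cokernel.π i) (g := a'))).hom.app (op (Scheme.Etale.mk g)) s)).trans ?_
      change a'.hom.app (op (Scheme.Etale.mk g)) ((pullback.snd (cokernel.π i) a').hom.app (op (Scheme.Etale.mk g)) s) = _
      rw [hs]
      refine (NatTrans.naturality_apply a'.hom _ one).trans ?_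
      exact congrArg ((cokernel i).obj.map ((EtCore.topIsTerminal Y).from (Scheme.Etale.mk g)).op) ha')
  haveI : PreservesFiniteColimits (EtCoh.pull g) := BCCrit13.pull_preservesFiniteColimits g
  haveI : (EtCoh.pull g).Additive := BCCrit13.pull_additive g
  change (Ext.mk₀ (EtCore.pullConst g ℤ).inv).comp
    (((Ext.mk₀ a).comp hS.extClass (zero_add 1)).mapExactFunctor (EtCoh.pull g)) (zero_add 1) = 0
  rw [Ext.mapExactFunctor_comp, Ext.mapExactFunctor_mk₀, Ext.mapExactFunctor_extClass, Ext.mk₀_comp_mk₀_assoc, ← hσ,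
    ← Ext.mk₀_comp_mk₀_assoc]
  exact (congrArg (fun t => (Ext.mk₀ σ).comp t (zero_add 1)) (hS.map_of_exact (EtCoh.pull g)).comp_extClass).trans
    (Ext.comp_zero _ _ _ _ _)

end Groth.Agent.H1Kill11
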