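import Groth.Statements.S1944
import Groth.Agent.H23.HomotopyFibre
-- import your own Groth.Agent.* helpers here

set_option autoImplicit false
universe u
open CategoryTheory AlgebraicGeometry
open Cyc

namespace Groth.Agent.S1944

/-- Let f : X → Y be flat, locally of finite type, of relative dimension r, such that every point of Y
has an open neighbourhood U over which f⁻¹(U) → U is isomorphic to affine r-space 𝔸^r_U → U. Then
f^* : CH_k(Y) → CH_{k+r}(X) is surjective: every (k + r)-cycle on X is rationally equivalent to the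
flat pullback (taken coefficientwise) of some k-cycle on Y. A pair (X, δ) with Cyc.IsSetup plays the
role of a scheme locally of finite type over a fixed base with a dimension function (X locally
Noetherian with universally catenary local rings, δ a dimension function), and Cyc.DeltaCompat
records that the dimension function upstairs is the induced one. -/
theorem result (X Y : Scheme.{u}) (δX : X → ℤ) (δY : Y → ℤ) (hX : Cyc.IsSetup X δX) (hY : Cyc.IsSetup Y δY) (f : X ⟶ Y) [Flat f] [LocallyOfFiniteType f] (r : ℕ) (hr : Cyc.HasRelDim f r) (hδ : Cyc.DeltaCompat f δX δY) (hloc : ∀ y : Y, ∃ U : Y.Opens, y ∈ U ∧ ∃ e : (↑(f ⁻¹ᵁ U) : Scheme.{u}) ≅ 𝔸(ULift.{u} (Fin r); (↑U : Scheme.{u})), e.hom ≫ (𝔸(ULift.{u} (Fin r); (↑U : Scheme.{u})) ↘ (↑U : Scheme.{u})) = f ∣_ U) (k : ℤ) (β : AlgebraicCycle X ℤ) (hβ : β ∈ Cyc.Zk X δX (k + r)) : ∃ (α : AlgebraicCycle Y ℤ) (β' : AlgebraicCycle X ℤ), α ∈ Cyc.Zk Y δY k ∧ ⇑β' = Cyc.pullFun f δX δY r ⇑α ∧ Cyc.RatEquiv δX (k + r) β β' := by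
  
  haveI := hX.1
  haveI := hY.1
  choose U hU e he using hloc
  haveI : QuasiCompact f := by
    refine IsZariskiLocalAtTarget.of_iSup_eq_top U (eq_top_iff.2 fun y _ => TopologicalSpace.Opens.mem_iSup.2 ⟨y, hU y⟩)
      fun y => ?_
    rw [← he y]
    infer_instance
  have hdX := hX.2.2
  have hc := H23.FlatShift.hasShift_of_hasRelDim f hr hδ
  have hA : ∀ y, H23.Homotopy.AffFib f (ULift.{u} (Fin r)) y := fun y => by
    have hr' : Set.range (Y.fromSpecResidueField y) ⊆ Set.range (U y).ι := by
      rw [Scheme.range_fromSpecResidueField, Scheme.Opens.range_ι]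
      exact Set.singleton_subset_iff.2 (hU y)
    let g := IsOpenImmersion.lift (U y).ι (Y.fromSpecResidueField y) hr'
    refine ⟨AffineSpace.map _ g ≫ (e y).inv ≫ (f ⁻¹ᵁ U y).ι, ?_⟩
    rw [← Category.assoc, ← IsOpenImmersion.lift_fac (U y).ι (Y.fromSpecResidueField y) hr']
    refine CategoryTheory.IsPullback.paste_horiz ?_ (isPullback_morphismRestrict f (U y)).flip
    exact (AffineSpace.isPullback_map g).of_iso (Iso.refl _) (e y).symm (Iso.refl _) (Iso.refl _)
      (by simp) (by simp) (by simp [← he y]) (by simp [g])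
  exact H23.Homotopy.exists_pull_ratEquiv hdX hY.2.2 hc
    (H23.Homotopy.fibreData_of_affFib f hdX hδ r hc k _ hA fun y => H23.Homotopy.vanish r _) β hβ

end Groth.Agent.S1944
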