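import Groth.Statements.S17573
import Groth.Agent.H23.SelfInt
import Groth.Agent.H23.ProjBd.ZeroSection
-- import your own Groth.Agent.* helpers here

set_option autoImplicit false
universe u
open CategoryTheory AlgebraicGeometry
open Bivar
open Groth.Agent Groth.Agent.H23

namespace Groth.Agent.S17573

/-- Let L be an invertible O_X-module and c_1(L) ∈ A^1(X) its first Chern class. Then c_1(L) is in the
centre of the ring A^*(X) of operational classes: for every operational class d ∈ A^q(X), every test
scheme g : Y → X locally of finite type (with induced dimension function) and every x ∈ CH_k(Y) one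
has c_1(L) ∩ (d ∩ x) = d ∩ (c_1(L) ∩ x) in CH_{k−q−1}(Y). Here c_1(L) is given through the binder
Bivar.IsC1Class (on every test scheme it caps a cycle class to the class of c_1(g^*L) ∩ α computed
with any nowhere-zero rational sections), and the two sides, of weights k − q − 1 and k − 1 − q, are
compared through the transport Bivar.chCast. Here a pair (X, δ) with Cyc.IsSetup plays the role of a
scheme locally of finite type over the base (S, δ) (X locally Noetherian with universally catenary
local rings, δ a dimension function), Cyc.DeltaCompat records that a dimension function is the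
induced one, and bivariant classes are taken in the operational sense of the prelude: additive
operations on the Chow groups CH_k (k-cycles modulo rational equivalence) of all test schemes,
compatible with proper pushforward, flat pullback and the Gysin maps of zero schemes of sections of
invertible modules in representative form (Bivar.Cl for A^p(X → Y), Bivar.OpCl for A^p(X)). -/
theorem result (X : Scheme.{u}) (δX : X → ℤ) (hX : Cyc.IsSetup X δX) (L : X.Modules) (c : Bivar.OpCl 1 X δX) (hc : Bivar.IsC1Class L c) (q : ℤ) (d : Bivar.OpCl q X δX) (s : Bivar.OSq X δX) (k : ℤ) (x : ChowOps.CH s.Y s.δ k) : c.op s (k - q) (d.op s k x) = Bivar.chCast s.Y s.δ (sub_right_comm k 1 q) (d.op s (k - 1) (c.op s k x)) := by  classical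
  obtain ⟨α, hα, rfl⟩ := Bivar.exists_rep x
  have hs := ChowDesc.isSetup_osq hX s
  haveI := hs.1
  have hLs := PicClLib.isInvertible_pullback s.g hc.1
  obtain ⟨P, p, M, σ, o, hp, hM, ho, hop, hD, ⟨e⟩⟩ :=
    ProjBd.ZeroSection.exists_data (InvEnd.isFinLocFreeOfRank_one hLs)
  haveI := hp
  haveI := ho
  haveI := s.lft
  let δP : P → ℤ := fun z => s.δ (p z) + FibDim.rd p z
  have hδP : Cyc.DeltaCompat p δP s.δ := ChowDesc.deltaCompat_rd p s.δ
  let t : Bivar.OSq X δX := ⟨P, p ≫ s.g, inferInstance, δP, Bivar.deltaCompat_comp p s.g _ _ _ hδP s.compat⟩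
  have hPs : Cyc.IsSetup P δP := ChowDesc.isSetup_osq hX t
  haveI := hPs.1
  have w₁ : o ≫ t.g = s.g := by show o ≫ p ≫ s.g = s.g; rw [← Category.assoc, hop, Category.id_comp]
  have hδ : s.δ = fun d => δP (o d) := ChowDesc.delta_closedImmersion (s := t) (t := s) o w₁
  have hoα := Bivar.cycMap_mem_Zk o s.δ δP k hα
  obtain ⟨β, hβ, e1, e2⟩ := d.push t s o w₁ k α hα
  obtain ⟨β', hβ', e3, e4⟩ := d.gysin t s o w₁ M hM σ hD k _ hoα
  obtain ⟨w, hw⟩ := RatSec.exists_sections hM
  let γ := GysinLib.gysinCycle hM hPs.2.2 o σ (AlgebraicCycle.map o s.δ δP α) hw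
  have hγk : γ ∈ Cyc.Zk s.Y s.δ (k - 1) := GysinClass.gysinCycle_mem hM hPs.2.2 hδ hoα hw
  let ζ₂ := GysinLib.gysinCycle hM hPs.2.2 o σ (AlgebraicCycle.map o s.δ δP β) hw
  have hζ₂ : ζ₂ ∈ Cyc.Zk s.Y s.δ (k - q - 1) :=
    GysinClass.gysinCycle_mem hM hPs.2.2 hδ (Bivar.cycMap_mem_Zk o s.δ δP (k - q) hβ) hw
  obtain ⟨ζ, hζ, hζe, e5⟩ := e4 w hw γ (fun _ => rfl) hγk
  rw [e1, SelfInt.c1Class_cl hX hc s hPs hM hD hδ e hα hw (γ := γ) (fun _ => rfl) hγk, e5,
    SelfInt.c1Class_cl hX hc s hPs hM hD hδ e hβ hw (γ := ζ₂) (fun _ => rfl) hζ₂, Bivar.chCast_cl]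
  refine ChowDesc.cl_eq_of_ratEquiv hζ₂ _ ?_
  exact SelfInt.gysin_congr hM hPs.2.2 hD hδ hw
    (ClEq.ratEquiv_of_cl_eq hPs.2.2 (e2.symm.trans e3)) (fun _ => rfl) hζe


end Groth.Agent.S17573
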