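import Groth.Statements.S12662
import Groth.Agent.H23.Chern.Comm
-- import your own Groth.Agent.* helpers here

set_option autoImplicit false
universe u
open CategoryTheory CategoryTheory.Limits AlgebraicGeometry
open Cyc
open Groth.Agent Groth.Agent.H23

namespace Groth.Agent.S12662

/-- For E, F finite locally free of ranks r, s on X and α ∈ CH_k(X), c_i(E) ∩ c_j(F) ∩ α = c_j(F) ∩
c_i(E) ∩ α in CH_{k-i-j}(X). Both bundles enter through their projective bundles (P, O_P(1)), (Q,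
O_Q(1)); the iterated caps are represented by nested tuples (a tuple for F over the i-th component
of a tuple for E over α, and symmetrically). (The published statement also asserts that c_j(E) is
central in the bivariant ring A^*(X) and commutes with every bivariant class of a morphism X' → X;
only the displayed consequence for two Chern classes is stated here.) Setting: (X, δ) with
Cyc.IsSetup stands for a scheme locally of finite type over the base (S, δ) (X locally Noetherian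
with universally catenary local rings, δ a dimension function); (p : P → X, O_P(1), q) is the
projective bundle of E given by its universal property (KRR.IsProjBundle), p is proper and δP is the
induced dimension function (Cyc.DeltaCompat); a tuple γ with Cyc.IsChernCap represents (c_0(E) ∩ α,
…, c_r(E) ∩ α) through the defining relation Σ_i (-1)^i c_1(O_P(1))^i ∩ p^*(γ_{r-i}) ∼_rat 0 on P,
and classes are compared up to rational equivalence of representing cycles. -/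
theorem result (X : Scheme.{u}) (δ : X → ℤ) (hX : Cyc.IsSetup X δ) (r s : ℕ) (E : X.Modules) (hPE : FlatMod.IsFinLocFreeOfRank r E) (P : Scheme.{u}) (p : P ⟶ X) (O1 : P.Modules) (q : (Scheme.Modules.pullback p).obj E ⟶ O1) (hP : KRR.IsProjBundle p E O1 q) [IsProper p] (δP : P → ℤ) (hPs : Cyc.IsSetup P δP) (hδ : Cyc.DeltaCompat p δP δ) (F : X.Modules) (hQE : FlatMod.IsFinLocFreeOfRank s F) (Q : Scheme.{u}) (p' : Q ⟶ X) (O1' : Q.Modules) (q' : (Scheme.Modules.pullback p').obj F ⟶ O1') (hQ : KRR.IsProjBundle p' F O1' q') [IsProper p'] (δQ : Q → ℤ) (hQs : Cyc.IsSetup Q δQ) (hδ' : Cyc.DeltaCompat p' δQ δ) (k : ℤ) (α : AlgebraicCycle X ℤ) (hα : α ∈ Cyc.Zk X δ k) (i : Fin (r + 1)) (j : Fin (s + 1)) (γ : Fin (r + 1) → AlgebraicCycle X ℤ) (hγ : Cyc.IsChernCap p δ δP O1 r k α γ) (ε : Fin (s + 1) → AlgebraicCycle X ℤ) (hε : Cyc.IsChernCap p' δ δQ O1' s (k - ((i : ℕ) : ℤ)) (γ i) ε) (φ : Fin (s + 1) → AlgebraicCycle X ℤ) (hφ : Cyc.IsChernCap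 p' δ δQ O1' s k α φ) (ψ : Fin (r + 1) → AlgebraicCycle X ℤ) (hψ : Cyc.IsChernCap p δ δP O1 r (k - ((j : ℕ) : ℤ)) (φ j) ψ) : Cyc.RatEquiv δ (k - ((i : ℕ) : ℤ) - ((j : ℕ) : ℤ)) (ε j) (ψ i) := by  classical
  haveI := hX.1
  haveI := hPs.1
  haveI := hQs.1
  have huniq : ∀ {r' : ℕ} {G : X.Modules} (_ : FlatMod.IsFinLocFreeOfRank r' G) {R : Scheme.{u}} {π : R ⟶ X}
      [IsProper π] {O : R.Modules} {qq : (Scheme.Modules.pullback π).obj G ⟶ O} (_ : KRR.IsProjBundle π G O qq)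
      {δR : R → ℤ} (_ : Cyc.IsSetup R δR) (_ : Cyc.DeltaCompat π δR δ) {K : ℤ} {a a' : AlgebraicCycle X ℤ}
      {u u' : Fin (r' + 1) → AlgebraicCycle X ℤ} (_ : Cyc.IsChernCap π δ δR O r' K a u)
      (_ : Cyc.IsChernCap π δ δR O r' K a' u') (_ : Cyc.RatEquiv δ K a a') (l : Fin (r' + 1)),
      Cyc.RatEquiv δ (K - ((l : ℕ) : ℤ)) (u l) (u' l) := by
    intro r' G hG R π _ O qq hR δR hRs hδR K a a' u u' hu hu' haa l
    haveI := hRs.1
    cases r' with
    | zero =>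
      obtain rfl : l = 0 := Fin.fin_one_eq_zero l
      rw [hu.1, hu'.1]
      simpa using haa
    | succ n =>
      have hc := ProjBd.hasCoords_of_projBundle hR hG
      exact Chern.unique hc hRs.2.2 hδR hX hRs hu.2.1 hu'.2.1 (Chern.relSum_mem hc hRs.2.2 hδR K a u hu)
        (Chern.relSum_mem hc hRs.2.2 hδR K a' u' hu') (by rw [hu.1, hu'.1]; exact haa) l
  have hrfl : ∀ {K : ℤ} (a : AlgebraicCycle X ℤ), Cyc.RatEquiv δ K a a := fun a =>
    RatOn.ratEquiv (T := Set.univ) (RatOn.congr (RatOn.zero _) fun x => sub_self _)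
  by_cases hi0 : i = 0
  · subst hi0
    have h := huniq hQE hQ hQs hδ' (K := k) (a := γ 0) (a' := α) (u := ε)
      (by simpa using hε) hφ (by rw [hγ.1]; exact hrfl α) j
    rw [hψ.1]
    simpa using h
  by_cases hj0 : j = 0
  · subst hj0
    rw [hε.1]
    have h := huniq hPE hP hPs hδ (K := k) (a := α) (a' := φ 0) hγ (u' := ψ) (by simpa using hψ)
      (by rw [hφ.1]; exact hrfl α) i
    simpa using h
  obtain ⟨n, rfl⟩ : ∃ n, r = n + 1 := ⟨r - 1, by have := i.2; have : (i : ℕ) ≠ 0 := fun h => hi0 (Fin.ext h); omega⟩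
  obtain ⟨m, rfl⟩ : ∃ m, s = m + 1 := ⟨s - 1, by have := j.2; have : (j : ℕ) ≠ 0 := fun h => hj0 (Fin.ext h); omega⟩
  let d := Chern.opCh hX hPE i
  let B : Chern.Bdl δ E := ⟨P, p, O1, q, hP, δP, hδ⟩
  have hEi : FlatMod.IsFinLocFreeOfRank (n + 1) ((Scheme.Modules.pullback (𝟙 X)).obj E) :=
    GrassFlag.rank_pullback (𝟙 X) hPE
  have hd : ∀ {K : ℤ} {a : AlgebraicCycle X ℤ} {u : Fin (n + 2) → AlgebraicCycle X ℤ} (ha : a ∈ Cyc.Zk X δ K)
      (hu : Cyc.IsChernCap p δ δP O1 (n + 1) K a u),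
      d.op (Bivar.OSq.self X δ) K (ChowOps.cl a ha) = ChowOps.cl (u i) (hu.2.1 i) := fun {K a u} ha hu => by
    refine Chern.chCH_cl _ hEi i K ha (fun B' => ?_) _
    exact Chern.isChernCap_congr hX hPE hEi B B' ((Scheme.Modules.pullbackId X).app E).symm hu
  choose ξ hξ he using fun l : Fin (m + 2) =>
    Bivar.exists_rep (d.op (Bivar.OSq.self X δ) (k - ((l : ℕ) : ℤ)) (ChowOps.cl (φ l) (hφ.2.1 l)))
  have hcQ := ProjBd.hasCoords_of_projBundle hQ hQE
  have hcap := Chern.isChernCap_op hcQ hX hQs hδ' d hφ ξ hξ (fun l => (he l).symm)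
  have h0 : Cyc.RatEquiv δ (k - ((i : ℕ) : ℤ)) (ξ 0) (γ i) := by
    refine ClEq.ratEquiv_of_cl_eq hX.2.2 (hα := ?_) (hβ := hγ.2.1 i) ?_
    · simpa using hξ 0
    have e := he 0
    have key : ∀ (K : ℤ) (_ : K = k) (a : AlgebraicCycle X ℤ) (_ : a = α) (ha : a ∈ Cyc.Zk X δ K)
        (hb : ξ 0 ∈ Cyc.Zk X δ (K - ((i : ℕ) : ℤ))) (hb' : ξ 0 ∈ Cyc.Zk X δ (k - ((i : ℕ) : ℤ))),
        ChowOps.cl (ξ 0) hb = d.op (Bivar.OSq.self X δ) K (ChowOps.cl a ha) →
          ChowOps.cl (ξ 0) hb' = ChowOps.cl (γ i) (hγ.2.1 i) := by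
      rintro K rfl a rfl ha hb hb' h
      rw [h, hd ha hγ]
    exact key _ (by simp) _ hφ.1 _ (hξ 0) _ e
  have h1 := huniq hQE hQ hQs hδ' hcap hε h0 j
  have h2 : Cyc.RatEquiv δ (k - ((j : ℕ) : ℤ) - ((i : ℕ) : ℤ)) (ξ j) (ψ i) :=
    ClEq.ratEquiv_of_cl_eq hX.2.2 ((he j).trans (hd (hφ.2.1 j) hψ))
  rw [sub_right_comm] at h2
  have hd' := hX.2.2
  have h := (ProjBd.ratZero hd' _).sub_mem (show _ ∈ ProjBd.ratZero hd' _ from h2)
    (show _ ∈ ProjBd.ratZero hd' _ from h1)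
  rw [sub_sub_sub_cancel_left] at h
  exact h


end Groth.Agent.S12662
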