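import Groth.Statements.S1952
import Groth.Agent.H23.P1Proper
-- import your own Groth.Agent.* helpers here

set_option autoImplicit false
universe u
open CategoryTheory CategoryTheory.Limits AlgebraicGeometry
attribute [local instance] HasDerivedCategory.standard
open IntMult
open Groth.Agent Groth.Agent.H23

namespace Groth.Agent.S1952

/-- Let α be a (k + 1)-cycle on P^1_X (X a nonsingular variety, P^1_X of dimension n + 1 with dimension
function δP) intersecting the divisors X × 0 and X × ∞ (the images of the two sections, as prime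
cycles) properly. Then pr_{X,*}(α · [X × 0] − α · [X × ∞]) ∼_rat 0 as a k-cycle on X (the source's
two distinct closed points a, b of P^1 are taken to be 0 and ∞), for any cycle on P^1_X with the
coefficients of α · [X × 0] − α · [X × ∞]. Here X is a nonsingular variety over the algebraically
closed field K (smooth, separated, quasi-compact, integral) with dimension function δ (transcendence
degree) and n = dim X; cycles are Mathlib AlgebraicCycles with Cyc.Zk membership, proper
intersection is IntMult.IntersectProperly and α · β is the Tor-formula intersection product on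
coefficient functions (IntMult.interProd), bundled where needed as 'any cycle with these
coefficients'. -/
theorem result (K : Type u) [Field K] [IsAlgClosed K] (X : Scheme.{u}) (f : X ⟶ Spec (CommRingCat.of K)) [Smooth f] [IsSeparated f] [QuasiCompact f] [IsIntegral X] (δ : X → ℤ) (hX : Cyc.IsSetup X δ) (hδ : Cyc.DeltaCompat f δ (fun _ => 0)) (n : ℤ) (hn : δ (genericPoint X) = n) (δP : ↥(CohB1.ProjSpaceOver 1 X) → ℤ) (hPX : Cyc.IsSetup (CohB1.ProjSpaceOver 1 X) δP) (hP : Cyc.DeltaCompat (CohB1.ProjSpaceOver.toBase 1 X) δP δ) [QuasiCompact (CohB1.ProjSpaceOver.toBase 1 X)] (k : ℤ) (α : AlgebraicCycle (CohB1.ProjSpaceOver 1 X) ℤ) (hα : α ∈ Cyc.Zk _ δP (k + 1)) (h0 : IntMult.IntersectProperly δP (n + 1) ⇑α (Set.indicator {P1.sect X 0 (genericPoint X)} 1)) (h1 : IntMult.IntersectProperly δP (n + 1) ⇑α (Set.indicator {P1.sect X 1 (genericPoint X)} 1)) (γ : AlgebraicCycle (CohB1.ProjSpaceOver 1 X) ℤ) (hγ : ⇑γ = IntMult.interProd δP (n + 1) ⇑α (Set.indicator {P1.sect X 0 (genericPoint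 X)} 1) - IntMult.interProd δP (n + 1) ⇑α (Set.indicator {P1.sect X 1 (genericPoint X)} 1)) : Cyc.RatEquivZero δ k (AlgebraicCycle.map (CohB1.ProjSpaceOver.toBase 1 X) δP δ γ) := by  classical
  haveI := hX.1
  haveI := hPX.1
  haveI := P1Proper.isIntegral f
  have hdP := hPX.2.2
  have hαr : ∀ ξ, α ξ ≠ 0 → δP ξ = k + 1 := fun ξ h => by_contra fun hne => h (hα ξ hne)
  have hA : ∀ ξ, δP ξ ≠ k + 1 → α ξ = 0 := fun ξ h => hα ξ h
  have hoff : ∀ (i : Fin (1 + 1)) (ξ : CohB1.ProjSpaceOver 1 X),
      IntMult.IntersectProperly δP (n + 1) ⇑α (Set.indicator {P1.sect X i (genericPoint X)} 1) →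
        α ξ ≠ 0 → ξ ∉ Set.range (P1.sect X i) := by
    rintro i _ hi hne ⟨x, rfl⟩
    have h := hi (P1.sect X i x) (P1.sect X i (genericPoint X)) (P1.sect X i x) hne (by simp) specializes_rfl
      ((genericPoint_specializes x).map (P1.sect X i).continuous)
    rw [P1Fam.delta_sect hP i (genericPoint X), hn] at h
    omega
  let D := RatSec.c1CapCycle (InvX.isInvertible_structureModule (X := CohB1.ProjSpaceOver 1 X)) hdP α
    (P1Fam.csec 0) (P1Fam.csec_ne_zero 0)
  have hrat : Cyc.RatEquivZero δP k D := by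
    have h := RatSec.ratEquiv_c1Cap (InvX.isInvertible_structureModule (X := CohB1.ProjSpaceOver 1 X)) hdP
      (α := ⇑α) hA (fun z => α.locallyFiniteSupport z) (P1Fam.csec_ne_zero 0) (fun ξ => C1Desc.oneSec_ne_zero ξ)
      (γ := D) (γ' := 0) rfl (by
        funext x
        refine (finsum_eq_zero_of_forall_eq_zero fun ξ => ?_).symm
        rw [C1Desc.secDivFun_one hdP, mul_zero])
    change Cyc.RatEquivZero δP k (D - 0) at h
    rwa [sub_zero] at h
  suffices hD : D = γ by
    rw [← hD]
    exact CycLib.ratEquivZero_map _ hPX hX hP hrat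
  ext p
  show Cyc.c1CapFun δP (Coh.structureModule _) ⇑α (P1Fam.csec 0) p = γ p
  have hfin := InterBilin.finite_gen (S := Function.support ⇑α)
    (fun z => by
      obtain ⟨U, hU, hf⟩ := α.locallyFiniteSupport z
      obtain ⟨W, hWU, hWo, hzW⟩ := mem_nhds_iff.1 hU
      exact ⟨⟨W, hWo⟩, hzW, hf.subset fun y hy => ⟨hWU hy.2, hy.1⟩⟩) p
  have hI : ∀ y : CohB1.ProjSpaceOver 1 X, CycleClassK.LFPts (Function.support (Set.indicator {y} (1 : ↥(CohB1.ProjSpaceOver 1 X) → ℤ))) :=
    fun y z => ⟨⊤, trivial, (Set.finite_singleton y).subset fun w hw => by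
      by_contra h
      exact hw.1 (Set.indicator_of_notMem h _)⟩
  have hexp : ∀ i : Fin (1 + 1), IntMult.interProd δP (n + 1) ⇑α (Set.indicator {P1.sect X i (genericPoint X)} 1) p =
      ∑ ξ ∈ hfin.toFinset, α ξ * IntMult.interProd δP (n + 1) (Set.indicator {ξ} 1)
        (Set.indicator {P1.sect X i (genericPoint X)} 1) p := fun i => by
    rw [InterBilin.interProd_expand p hfin.toFinset ({()} : Finset Unit) (fun ξ => α ξ) (fun _ => 1)
      (fun ξ => Set.indicator {ξ} 1) (fun _ => Set.indicator {P1.sect X i (genericPoint X)} 1) _ _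
      (fun y hy => InterBilin.eq_sum_indicator p hfin hy) (fun y _ => by simp) (fun ξ _ => hI ξ) (fun _ _ => hI _)]
    simp
  rw [congrFun hγ p, Pi.sub_apply, hexp 0, hexp 1, ← Finset.sum_sub_distrib, Cyc.c1CapFun,
    finsum_eq_sum_of_support_subset _ (s := hfin.toFinset) ?_]
  swap
  · intro ξ hξ
    rw [Finset.mem_coe, Set.Finite.mem_toFinset]
    refine ⟨left_ne_zero_of_mul hξ, by_contra fun hn' => right_ne_zero_of_mul hξ ?_⟩
    exact dif_neg fun h => hn' h.1
  refine Finset.sum_congr rfl fun ξ hξ => ?_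
  have hne : α ξ ≠ 0 := ((Set.Finite.mem_toFinset _).1 hξ).1
  rw [← mul_sub]
  congr 1
  have hsingle : ∀ i : Fin (1 + 1), Cyc.c1CapFun δP (Coh.structureModule _) (Set.indicator {ξ} 1) (P1Fam.csec i) p =
      Cyc.secDivFun δP (Coh.structureModule _) ξ (P1Fam.csec i ξ) p := fun i => by
    rw [Cyc.c1CapFun, finsum_eq_single _ ξ fun y hy => by rw [Set.indicator_of_notMem (by simpa using hy), zero_mul],
      Set.indicator_of_mem (Set.mem_singleton ξ), Pi.one_apply, one_mul]
  rw [← hsingle 0]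
  have h := fun i => P1Proper.interProd_sect f hδ hP hX hn (hαr ξ hne) (hoff 0 ξ h0 hne) (hoff 1 ξ h1 hne) i p
  by_cases hp0 : p ∈ Set.range (P1.sect X 0)
  · have hp1 : p ∉ Set.range (P1.sect X 1) := by
      rintro ⟨y, rfl⟩
      obtain ⟨x, hx⟩ := hp0
      exact P1Fam.sect_ne 0 x (hx ▸ P1Sect.sect_mem X 1 y)
    rw [(h 0).1 hp0, ((h 1).2 hp1).1, sub_zero]
  by_cases hp1 : p ∈ Set.range (P1.sect X 1)
  · rw [((h 0).2 hp0).1, (h 1).1 hp1, P1Fam.cap_one_eq hdP, zero_sub, neg_neg]
  rw [((h 0).2 hp0).1, ((h 1).2 hp1).1, sub_zero]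
  obtain ⟨j, hj⟩ := P1Sect.cover' X p
  have hj01 : j = 0 ∨ j = 1 := by fin_cases j <;> simp
  rcases hj01 with rfl | rfl
  · exact ((h 0).2 hp0).2 hj
  · have := ((h 1).2 hp1).2 hj
    rwa [P1Fam.cap_one_eq hdP, neg_eq_zero] at this


end Groth.Agent.S1952
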