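import Groth.Statements.S1948
import Groth.Agent.H23.MoveProd
import Groth.Agent.H23.P1Graph
-- import your own Groth.Agent.* helpers here

set_option autoImplicit false
set_option linter.style.haveILetI false
universe u
open CategoryTheory CategoryTheory.Limits AlgebraicGeometry
attribute [local instance] HasDerivedCategory.standard
open IntMult
open Groth.Agent.H23

namespace Groth.Agent.S1948

/-- Let X be a nonsingular projective variety over an algebraically closed field K: X is integral and
smooth, separated and quasi-compact over K, given with a closed immersion over K into some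
projective space P^N_K; let δ be its dimension function (transcendence degree) and n = dim X. Let α
be an r-cycle and β an s-cycle on X which intersect properly, with α rationally equivalent to zero.
Then the intersection product α · β is rationally equivalent to zero as an (r + s − n)-cycle.
Rational equivalence is taken in the sense of Chow homology (this agrees with the definition through
families of cycles parametrised by P¹); cycles are Mathlib AlgebraicCycles with Cyc.Zk membership,
proper intersection is IntMult.IntersectProperly, and α · β is the Tor-formula intersection product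
on coefficient functions (IntMult.interProd), the conclusion being stated for any cycle γ with these
coefficients. -/
theorem result (K : Type u) [Field K] [IsAlgClosed K] (X : Scheme.{u}) (f : X ⟶ Spec (CommRingCat.of K)) [Smooth f] [IsSeparated f] [QuasiCompact f] [IsIntegral X] (δ : X → ℤ) (hX : Cyc.IsSetup X δ) (hδ : Cyc.DeltaCompat f δ (fun _ => 0)) (n : ℤ) (hn : δ (genericPoint X) = n) (N : ℕ) (ι : X ⟶ CohB1.ProjSpace N K) [IsClosedImmersion ι] (hι : ι ≫ CohB1.ProjSpace.toSpec N K = f) (r s : ℤ) (α β : AlgebraicCycle X ℤ) (hα : α ∈ Cyc.Zk X δ r) (hβ : β ∈ Cyc.Zk X δ s) (hprop : IntMult.IntersectProperly δ n ⇑α ⇑β) (h0 : Cyc.RatEquivZero δ r α) (γ : AlgebraicCycle X ℤ) (hγ : ⇑γ = IntMult.interProd δ n ⇑α ⇑β) : Cyc.RatEquivZero δ (r + s - n) γ := by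
  classical
  haveI := hX.1
  haveI : CompactSpace ↥X := QuasiCompact.compactSpace_of_compactSpace f
  have hnat : ∀ x, ∃ a : ℕ, δ x = a := fun x => ⟨_, PointPrime.deg_eq f hδ x⟩
  have hαfin : (Function.support ⇑α).Finite := MoveFam.finite_of_lfPts (CycleClassK.lfPts_cycle α)
  have hβfin : (Function.support ⇑β).Finite := MoveFam.finite_of_lfPts (CycleClassK.lfPts_cycle β)
  have triv : (∀ a, α a = 0) ∨ (∀ b, β b = 0) → Cyc.RatEquivZero δ (r + s - n) γ := fun h => by
    refine RatOn.ratEquivZero (RatOn.congr (RatOn.zero Set.univ) fun x => ?_)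
    rw [hγ]
    refine finsum_eq_zero_of_forall_eq_zero fun p => ?_
    rcases h with h | h
    · rw [h, zero_mul, zero_mul]
    · rw [h, mul_zero, zero_mul]
  by_cases hα0 : ∀ a, α a = 0
  · exact triv (Or.inl hα0)
  by_cases hβ0 : ∀ b, β b = 0
  · exact triv (Or.inr hβ0)
  obtain ⟨a, ha⟩ := not_forall.1 hα0
  obtain ⟨b, hb⟩ := not_forall.1 hβ0
  obtain ⟨r', rfl⟩ : ∃ r' : ℕ, r = r' := by
    obtain ⟨m, hm⟩ := hnat a
    exact ⟨m, (not_not.1 fun h => ha (hα a fun e => h e.symm)).trans hm⟩
  obtain ⟨s', rfl⟩ : ∃ s' : ℕ, s = s' := by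
    obtain ⟨m, hm⟩ := hnat b
    exact ⟨m, (not_not.1 fun h => hb (hβ b fun e => h e.symm)).trans hm⟩
  obtain ⟨n', hn'⟩ := hnat (genericPoint X)
  obtain rfl : n = n' := hn.symm.trans hn'
  -- the families
  obtain ⟨J, ξ, g, hξ, hg, hloc, hαeq⟩ := h0
  haveI : Finite J := by
    choose U hUo hxU hUf using hloc
    obtain ⟨t, ht⟩ := isCompact_univ.elim_finite_subcover U hUo fun x _ => Set.mem_iUnion.2 ⟨x, hxU x⟩
    refine Set.finite_univ_iff.1 ((t.finite_toSet.biUnion fun x _ => hUf x).subset fun j _ => ?_)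
    obtain ⟨x, hx, hjx⟩ := Set.mem_iUnion₂.1 (ht (Set.mem_univ (ξ j)))
    exact Set.mem_biUnion (x := x) hx ⟨ξ j, subset_closure rfl, hjx⟩
  have hδ₁ := ChowDesc.deltaCompat_rd (CohB1.ProjSpaceOver.toBase 1 X) δ
  have hfam := fun j => P1Graph.exists_family hX hδ₁ (k := (r' : ℤ)) (ξ j) (hξ j) (g j) (hg j)
  choose W hW l hl hWd hWr hWeq using hfam
  have hnr : ∀ (w : J) (j : Fin (1 + 1)), l w (genericPoint ↥(W w)) ∉ Set.range (P1.sect X j) := fun w j => by
    have hj01 : j = 0 ∨ j = 1 := by fin_cases j <;> simp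
    rcases hj01 with rfl | rfl
    · exact (hWd w).2.1
    · exact (hWd w).2.2
  let G : Fin (1 + 1) → J → X → ℤ := fun i w => Cyc.subschemeFun δ r' (pullback.snd (l w) (P1.sect X i))
  have hGfin : ∀ i w, (Function.support (G i w)).Finite := fun i w =>
    MoveLemma.finite_fibre hX hδ₁ (l w) (hWd w).1 i (hnr w i)
  have hαdec : ∀ x, α x = (∑ᶠ w, (1 : ℤ) * G 0 w x) - ∑ᶠ w, (1 : ℤ) * G 1 w x := fun x => by
    rw [hαeq, ← finsum_sub_distrib (Set.toFinite _) (Set.toFinite _)]
    exact finsum_congr fun w => by rw [hWeq w x, one_mul, one_mul]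
  -- the list of components
  have hSfin : (⋃ p : Fin (1 + 1) × J, Function.support (G p.1 p.2)).Finite :=
    Set.finite_iUnion fun p => hGfin p.1 p.2
  let e := hSfin.toFinset.equivFin
  let T : Fin hSfin.toFinset.card → X := fun i => (e.symm i).1
  have hTs : ∀ i, δ (T i) = r' := fun i => by
    obtain ⟨p, hp⟩ := Set.mem_iUnion.1 (hSfin.mem_toFinset.1 (e.symm i).2)
    exact by_contra fun h => hp (if_neg h)
  have hT : ∀ (j : Fin (1 + 1)) (w : J) (b : X), G j w b ≠ 0 → ∃ i, T i = b := fun j w b hb =>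
    ⟨e ⟨b, hSfin.mem_toFinset.2 (Set.mem_iUnion.2 ⟨(j, w), hb⟩)⟩, by simp [T]⟩
  have hzero : ∀ z ∈ hβfin.toFinset, RatOn.ZeroOn δ ((s' : ℤ) + r' - n') Set.univ fun x =>
      IntMult.interProd δ n' (Set.indicator {z} 1) ⇑α x := fun z hz => by
    have hzs : δ z = s' := by_contra fun h => (hβfin.mem_toFinset.1 hz) (hβ z h)
    refine MoveProd.zeroOn_main f hX hδ hn' hδ₁ ι hι W l (fun w => (hWd w).1) hnr ⇑α hαdec T hTs hT _ z hzs le_rfl
      fun a ha y hzy hay => ?_
    have := hprop a z y ha (hβfin.mem_toFinset.1 hz) hay hzy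
    have : δ a = r' := by_contra fun h => ha (hα a h)
    omega
  have hsum : RatOn.ZeroOn δ ((s' : ℤ) + r' - n') Set.univ fun x =>
      ∑ᶠ z : (Function.support ⇑β), β z * IntMult.interProd δ n' (Set.indicator {(z : X)} 1) ⇑α x := by
    haveI := hβfin.to_subtype
    exact RatOn.sum hX.2.2 _ _ (fun _ => Set.univ) (fun _ => le_rfl) (fun z => hzero z.1 (hβfin.mem_toFinset.2 z.2))
      fun x => ⟨Set.univ, isOpen_univ, trivial, Set.toFinite _⟩
  rw [show (r' : ℤ) + s' - n' = s' + r' - n' by ring]
  refine RatOn.ratEquivZero (RatOn.congr hsum fun x => ?_)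
  rw [hγ, InterAssoc.interProd_comm δ (n' : ℤ), MoveProd.expand_left (δ := δ) hβfin.toFinset ⇑β ⇑α
    (fun a ha => hβfin.mem_toFinset.2 ha) (MoveProd.lfPts_finite hαfin) x]
  exact (MoveProd.finsum_coe hβfin (fun z => β z * IntMult.interProd δ n' (Set.indicator {z} 1) ⇑α x)).symm

end Groth.Agent.S1948
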