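import Groth.Statements.S6450
import Groth.Agent.H23.InterAssoc
-- import your own Groth.Agent.* helpers here

set_option autoImplicit false
universe u
open CategoryTheory CategoryTheory.Limits AlgebraicGeometry
attribute [local instance] HasDerivedCategory.standard
open IntMult
open Groth.Agent Groth.Agent.H23

namespace Groth.Agent.S6450

/-- Let X be a nonsingular variety of dimension n and U, V, W closed subvarieties, with generic points
ξU, ξV, ξW, which intersect properly pairwise and with dim(U ∩ V ∩ W) ≤ dim U + dim V + dim W − 2n.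
Then U · (V · W) = (U · V) · W as cycles on X. The prime cycle [U] is the indicator function of the
generic point ξU. Here X is a nonsingular variety over the algebraically closed field K (smooth,
separated, quasi-compact, integral) with dimension function δ (transcendence degree over K, recorded
by Cyc.DeltaCompat to Spec K with value 0, together with Cyc.IsSetup) and n = dim X = δ of the
generic point; cycles are coefficient functions X → ℤ, proper intersection is
IntMult.IntersectProperly and α · β is the Tor-formula intersection product on coefficient functions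
(IntMult.interProd). -/
theorem result (K : Type u) [Field K] [IsAlgClosed K] (X : Scheme.{u}) (f : X ⟶ Spec (CommRingCat.of K)) [Smooth f] [IsSeparated f] [QuasiCompact f] [IsIntegral X] (δ : X → ℤ) (hX : Cyc.IsSetup X δ) (hδ : Cyc.DeltaCompat f δ (fun _ => 0)) (n : ℤ) (hn : δ (genericPoint X) = n) (ξU ξV ξW : X) (hUV : IntMult.IntersectProperly δ n (Set.indicator {ξU} 1) (Set.indicator {ξV} 1)) (hVW : IntMult.IntersectProperly δ n (Set.indicator {ξV} 1) (Set.indicator {ξW} 1)) (hUW : IntMult.IntersectProperly δ n (Set.indicator {ξU} 1) (Set.indicator {ξW} 1)) (hUVW : ∀ ζ : X, ξU ⤳ ζ → ξV ⤳ ζ → ξW ⤳ ζ → δ ζ ≤ δ ξU + δ ξV + δ ξW - 2 * n) : IntMult.interProd δ n (Set.indicator {ξU} 1) (IntMult.interProd δ n (Set.indicator {ξV} 1) (Set.indicator {ξW} 1)) = IntMult.interProd δ n (IntMult.interProd δ n (Set.indicator {ξU} 1) (Set.indicator {ξV} 1)) (Set.indicator {ξW} 1) := by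
  have ind : ∀ a : X, Set.indicator {a} (1 : X → ℤ) a ≠ 0 := fun a => by simp
  have h12 : ∀ y, ξU ⤳ y → ξV ⤳ y → δ y ≤ δ ξU + δ ξV - n := fun y h1 h2 => hUV ξU ξV y (ind _) (ind _) h1 h2
  have h23 : ∀ y, ξV ⤳ y → ξW ⤳ y → δ y ≤ δ ξV + δ ξW - n := fun y h1 h2 => hVW ξV ξW y (ind _) (ind _) h1 h2
  rw [InterAssoc.interProd_comm δ n (IntMult.interProd δ n _ _) (Set.indicator {ξW} 1),
    InterAssoc.interProd_comm δ n (Set.indicator {ξU} 1) (Set.indicator {ξV} 1)]
  have h21 : ∀ y, ξV ⤳ y → ξU ⤳ y → δ y ≤ δ ξV + δ ξU - n := fun y h1 h2 => by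
    have := h12 y h2 h1; omega
  have hWVU : ∀ y, ξW ⤳ y → ξV ⤳ y → ξU ⤳ y → δ y ≤ δ ξW + δ ξV + δ ξU - 2 * n := fun y h1 h2 h3 => by
    have := hUVW y h3 h2 h1; omega
  funext ζ
  by_cases h : ξU ⤳ ζ ∧ ξV ⤳ ζ ∧ ξW ⤳ ζ ∧ δ ζ = δ ξU + δ ξV + δ ξW - 2 * n
  · obtain ⟨hu, hv, hw, hζ⟩ := h
    obtain ⟨g1, v1, e1⟩ := InterAssoc.interProd_triple f hX.2.2 hδ hn ξU ξV ξW h23 hUVW hu hv hw hζ
    obtain ⟨g2, v2, e2⟩ := InterAssoc.interProd_triple f hX.2.2 hδ hn ξW ξV ξU h21 hWVU hw hv hu (by omega)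
    rw [e1, e2]
    exact AssocAlg.chi_assoc _ _ _ _ v1 v2 g1 g2
  · rw [InterAssoc.interProd_triple_eq_zero ξU ξV ξW (fun h' => h h'),
      InterAssoc.interProd_triple_eq_zero ξW ξV ξU (fun ⟨a, b, c, d⟩ => h ⟨c, b, a, by omega⟩)]


end Groth.Agent.S6450
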