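import Groth.Statements.S5012
import Groth.Agent.EGA41Lib.FieldFS

set_option autoImplicit false
set_option linter.style.haveILetI false
universe u
open Unram17

namespace Groth.Agent.S5012

theorem isGeometricallyReduced_of_smoothAt_minimal (k A : Type u) [Field k] [CommRing A] [Algebra k A]
    [Algebra.FiniteType k A] (p : Ideal A) [p.IsPrime] (hp : p ∈ minimalPrimes A) [Algebra.IsSmoothAt k p] :
    Algebra.IsGeometricallyReduced k (Localization.AtPrime p) := by
  haveI : IsNoetherianRing A := Algebra.FiniteType.isNoetherianRing k A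
  haveI : IsNoetherianRing (Localization.AtPrime p) := IsLocalization.isNoetherianRing p.primeCompl _ inferInstance
  haveI : Ring.KrullDimLE 0 (Localization.AtPrime p) := by
    rw [Ring.krullDimLE_iff, IsLocalization.AtPrime.ringKrullDim_eq_height p]
    have h0 : p.height = 0 := Ideal.height_eq_zero_iff.2 hp
    rw [h0]; simp
  haveI : IsArtinianRing (Localization.AtPrime p) :=
    isArtinianRing_iff_isNoetherianRing_krullDimLE_zero.2 ⟨inferInstance, inferInstance⟩
  haveI : Algebra.FormallySmooth k (Localization.AtPrime p) := ‹Algebra.IsSmoothAt k p›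
  haveI : IsReduced (Localization.AtPrime p) := by
    obtain ⟨q, hq⟩ := CharP.exists k
    rcases CharP.char_is_prime_or_zero k q with hqq | hq0
    · haveI := Fact.mk hqq
      letI : Algebra (ZMod q) k := ZMod.algebra k q
      letI : Algebra (ZMod q) (Localization.AtPrime p) :=
        ((algebraMap k (Localization.AtPrime p)).comp (algebraMap (ZMod q) k)).toAlgebra
      haveI : IsScalarTower (ZMod q) k (Localization.AtPrime p) := IsScalarTower.of_algebraMap_eq' rfl
      haveI : Algebra.FormallySmooth (ZMod q) k := Groth.Agent.CoeffField.formallySmooth_of_perfectField (ZMod q) k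
      haveI : Algebra.FormallySmooth (ZMod q) (Localization.AtPrime p) :=
        Algebra.FormallySmooth.comp (ZMod q) k (Localization.AtPrime p)
      exact Groth.Agent.EGA41Lib.FieldFS.isReduced_of_formallySmooth (ZMod q)
    · subst hq0
      haveI := CharP.charP_to_charZero k
      exact Groth.Agent.EGA41Lib.FieldFS.isReduced_of_formallySmooth k
  have hf : IsField (Localization.AtPrime p) :=
    IsArtinianRing.isField_of_isReduced_of_isLocalRing _
  letI := hf.toField
  exact Groth.Agent.EGA41Lib.FieldFS.isGeometricallyReduced_of_formallySmooth k (Localization.AtPrime p)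

theorem smoothAt_of_isGeometricallyReduced (k A : Type u) [Field k] [CommRing A] [Algebra k A]
    [Algebra.FiniteType k A] (p : Ideal A) [p.IsPrime] (hp : p ∈ minimalPrimes A)
    [Algebra.IsGeometricallyReduced k (Localization.AtPrime p)] : Algebra.IsSmoothAt k p := by
  haveI : IsNoetherianRing A := Algebra.FiniteType.isNoetherianRing k A
  haveI : IsNoetherianRing (Localization.AtPrime p) := IsLocalization.isNoetherianRing p.primeCompl _ inferInstance
  haveI : Ring.KrullDimLE 0 (Localization.AtPrime p) := by
    rw [Ring.krullDimLE_iff, IsLocalization.AtPrime.ringKrullDim_eq_height p]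
    have h0 : p.height = 0 := Ideal.height_eq_zero_iff.2 hp
    rw [h0]; simp
  haveI : IsArtinianRing (Localization.AtPrime p) :=
    isArtinianRing_iff_isNoetherianRing_krullDimLE_zero.2 ⟨inferInstance, inferInstance⟩
  haveI : IsReduced (Localization.AtPrime p) :=
    Algebra.isReduced_of_isGeometricallyReduced k
  have hf : IsField (Localization.AtPrime p) := IsArtinianRing.isField_of_isReduced_of_isLocalRing _
  letI := hf.toField
  exact Groth.Agent.EGA41Lib.FieldFS.formallySmooth_of_isGeometricallyReduced k (Localization.AtPrime p)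

/-- Let A be an algebra of finite type over a field k. Then Spec A has a dense open subset consisting of
points at which A is smooth over k if and only if, for every minimal prime p of A, the local ring
A_p is geometrically reduced over k (that is, A_p is a field and a separable extension of k). -/
theorem result (k A : Type u) [Field k] [CommRing A] [Algebra k A]
    [Algebra.FiniteType k A] :
    (∃ U : TopologicalSpace.Opens (PrimeSpectrum A), Dense (U : Set (PrimeSpectrum A)) ∧
        ∀ p ∈ U, Algebra.IsSmoothAt k p.asIdeal) ↔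
      ∀ (p : Ideal A) [p.IsPrime], p ∈ minimalPrimes A →
        Algebra.IsGeometricallyReduced k (Localization.AtPrime p) := by
  haveI : IsNoetherianRing A := Algebra.FiniteType.isNoetherianRing k A
  haveI : Algebra.FinitePresentation k A := Algebra.FinitePresentation.of_finiteType.1 inferInstance
  constructor
  · rintro ⟨U, hU, hUs⟩ p hp hpmin
    let P : PrimeSpectrum A := ⟨p, hp⟩
    let W : Set (PrimeSpectrum A) := (⋃ q ∈ minimalPrimes A \ {p}, PrimeSpectrum.zeroLocus (q : Set A))ᶜ
    have hW : IsOpen W := (((minimalPrimes.finite_of_isNoetherianRing A).diff).isClosed_biUnion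
      fun q _ => PrimeSpectrum.isClosed_zeroLocus _).isOpen_compl
    have hPW : P ∈ W := by
      simp only [W, Set.mem_compl_iff, Set.mem_iUnion₂, not_exists]
      rintro q ⟨hq, hne⟩ hle
      exact hne (le_antisymm (SetLike.coe_subset_coe.1 hle) (hpmin.2 ⟨hq.1.1, bot_le⟩ (SetLike.coe_subset_coe.1 hle)))
    obtain ⟨Q, hQW, hQU⟩ := hU.inter_open_nonempty W hW ⟨P, hPW⟩
    obtain ⟨q, hq, hqQ⟩ := Ideal.exists_minimalPrimes_le (J := Q.asIdeal) (bot_le : (⊥ : Ideal A) ≤ Q.asIdeal)
    have hqp : q = p := by
      by_contra hne
      exact hQW (Set.mem_iUnion₂.2 ⟨q, ⟨hq, hne⟩, SetLike.coe_subset_coe.2 hqQ⟩)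
    have hPU : P ∈ U := ((PrimeSpectrum.le_iff_specializes P Q).1 (show p ≤ Q.asIdeal from hqp ▸ hqQ)).mem_open U.isOpen hQU
    haveI := hUs P hPU
    exact isGeometricallyReduced_of_smoothAt_minimal k A p hpmin
  · intro h
    refine ⟨⟨Algebra.smoothLocus k A, Algebra.isOpen_smoothLocus⟩, ?_, fun p hp => hp⟩
    intro x
    obtain ⟨q, hq, hqx⟩ := Ideal.exists_minimalPrimes_le (J := x.asIdeal) (bot_le : (⊥ : Ideal A) ≤ x.asIdeal)
    haveI : q.IsPrime := hq.1.1
    haveI := h q hq
    have hQ : (⟨q, hq.1.1⟩ : PrimeSpectrum A) ∈ Algebra.smoothLocus k A := smoothAt_of_isGeometricallyReduced k A q hq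
    exact closure_mono (Set.singleton_subset_iff.2 hQ)
      (specializes_iff_mem_closure.1 ((PrimeSpectrum.le_iff_specializes ⟨q, hq.1.1⟩ x).1 hqx))

end Groth.Agent.S5012
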