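import Groth.Statements.S4999
import Groth.Agent.S2790
import Groth.Agent.S5012
import Groth.Agent.VarDim.Basic

set_option autoImplicit false
set_option linter.style.haveILetI false
universe u
open Unram17 KaehlerDifferential

open scoped IntermediateField.algebraAdjoinAdjoin TensorProduct

namespace Groth.Agent.S4999

/-- A field of fractions of a domain of finite type has transcendence degree the dimension. -/
theorem ringKrullDim_eq_trdeg (k D K : Type u) [Field k] [CommRing D] [IsDomain D] [Algebra k D]
    [Algebra.FiniteType k D] [Field K] [Algebra D K] [IsFractionRing D K] [Algebra k K] [IsScalarTower k D K]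
    (r : ℕ) (hr : Algebra.trdeg k K = r) : ringKrullDim D = r := by
  obtain ⟨n, h1, h2⟩ := Groth.Agent.VarDim.exists_dim_eq_trdeg k D
  haveI : Algebra.IsAlgebraic D K := IsLocalization.isAlgebraic _ (nonZeroDivisors D)
  haveI : FaithfulSMul D K := (faithfulSMul_iff_algebraMap_injective _ _).2 (IsFractionRing.injective D K)
  have h3 : (n : Cardinal) = r := by rw [← hr, ← trdeg_add_eq k D, h2, trdeg_eq_zero, add_zero]
  rw [h1, show n = r from Nat.cast_injective h3]

/-- For a separable finitely generated field extension the differentials have rank the transcendence degree. -/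
theorem trdeg_eq_finrank_kaehler (k K : Type u) [Field k] [Field K] [Algebra k K] [Algebra.EssFiniteType k K]
    [Algebra.IsGeometricallyReduced k K] : Algebra.trdeg k K = (Module.finrank K Ω[K⁄k] : ℕ) := by
  obtain ⟨s, hs, H⟩ := Groth.Agent.RegLoc6.exists_separating_transcendence k K
  have : Algebra.IsSeparable (↥(IntermediateField.adjoin k (Set.range ((↑) : s → K)))) K := by
    convert! H <;> simp
  let A := Algebra.adjoin k (Set.range ((↑) : s → K))
  let M := IntermediateField.adjoin k (Set.range ((↑) : s → K))
  have : Algebra.FormallyEtale A M := Algebra.FormallyEtale.of_isLocalization (nonZeroDivisors A)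
  have : Algebra.FormallyEtale M K := Algebra.FormallyEtale.of_isSeparable _ K
  have : Algebra.FormallyEtale A K := Algebra.FormallyEtale.comp A M K
  let ev : MvPolynomial s k ≃ₐ[k] A := hs.1.aevalEquiv
  letI : Algebra (MvPolynomial s k) A := ev.toAlgHom.toRingHom.toAlgebra
  letI : Algebra (MvPolynomial s k) K := ((algebraMap A K).comp ev.toAlgHom.toRingHom).toAlgebra
  haveI : IsScalarTower (MvPolynomial s k) A K := IsScalarTower.of_algebraMap_eq' rfl
  haveI : IsScalarTower k (MvPolynomial s k) K := IsScalarTower.of_algebraMap_eq fun r => by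
    show algebraMap k K r = algebraMap A K (ev (algebraMap k _ r))
    rw [ev.commutes, ← IsScalarTower.algebraMap_apply k A K]
  haveI : Algebra.FormallyEtale (MvPolynomial s k) A :=
    Algebra.FormallyEtale.of_equiv
      ({ ev with commutes' := fun r => rfl } : MvPolynomial s k ≃ₐ[MvPolynomial s k] A)
  haveI : Algebra.FormallyEtale (MvPolynomial s k) K := Algebra.FormallyEtale.comp _ A K
  let b : Module.Basis s K Ω[K⁄k] :=
    ((KaehlerDifferential.mvPolynomialBasis k s).baseChange K).map
      (KaehlerDifferential.tensorKaehlerEquivOfFormallyEtale k (MvPolynomial s k) K)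
  rw [Module.finrank_eq_card_basis b, ← hs.cardinalMk_eq_trdeg]
  simp

/-- The rank of the localised differentials, as a rank of differentials. -/
theorem finrank_kaehler_localization (k A : Type u) [Field k] [CommRing A] [Algebra k A] (p : Ideal A) [p.IsPrime] :
    Module.finrank (Localization.AtPrime p) Ω[Localization.AtPrime p⁄k] =
      Module.rankAtStalk (R := A) Ω[A⁄k] ⟨p, inferInstance⟩ :=
  ((IsLocalizedModule.iso p.primeCompl (KaehlerDifferential.map k k A (Localization.AtPrime p))).extendScalarsOfIsLocalization
    p.primeCompl (Localization.AtPrime p)).finrank_eq.symm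

theorem dim_away_eq (k A : Type u) [Field k] [CommRing A] [Algebra k A] [Algebra.FiniteType k A]
    [Module.Projective A Ω[A⁄k]] (hgr : ∀ (p : Ideal A) [p.IsPrime], p ∈ minimalPrimes A →
      Algebra.IsGeometricallyReduced k (Localization.AtPrime p)) (g : A) (r : ℕ)
    (q : Ideal A) [q.IsPrime] (hq : q ∈ minimalPrimes A) (hgq : g ∉ q)
    (hr : Module.rankAtStalk (R := A) Ω[A⁄k] ⟨q, inferInstance⟩ = r) :
    ringKrullDim (Localization.Away g ⧸ q.map (algebraMap A (Localization.Away g))) = r := by
  haveI : IsNoetherianRing A := Algebra.FiniteType.isNoetherianRing k A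
  haveI := hgr q hq
  haveI : IsReduced (Localization.AtPrime q) := Algebra.isReduced_of_isGeometricallyReduced k
  haveI : Ring.KrullDimLE 0 (Localization.AtPrime q) := by
    rw [Ring.krullDimLE_iff, IsLocalization.AtPrime.ringKrullDim_eq_height q, Ideal.height_eq_zero_iff.2 hq]
    simp
  have hf : IsField (Localization.AtPrime q) := Ring.KrullDimLE.isField_of_isReduced
  letI := hf.toField
  haveI : Algebra.EssFiniteType k (Localization.AtPrime q) := Algebra.EssFiniteType.comp k A _
  have ht : Algebra.trdeg k (Localization.AtPrime q) = (r : ℕ) := by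
    rw [trdeg_eq_finrank_kaehler, finrank_kaehler_localization, hr]
  let B := Localization.Away g
  set J := q.map (algebraMap A B) with hJ
  have hdisj : Disjoint (Submonoid.powers g : Set A) q :=
    (Ideal.disjoint_powers_iff_notMem g (Ideal.IsPrime.isRadical inferInstance)).2 hgq
  haveI : J.IsPrime := IsLocalization.isPrime_of_isPrime_disjoint (Submonoid.powers g) B q inferInstance hdisj
  have hcomap : J.comap (algebraMap A B) = q :=
    IsLocalization.under_map_of_isPrime_disjoint (Submonoid.powers g) B inferInstance hdisj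
  let π : B →ₐ[A] Localization.AtPrime q :=
    IsLocalization.liftAlgHom (M := Submonoid.powers g) (f := Algebra.ofId A (Localization.AtPrime q))
      (by rintro ⟨_, n, rfl⟩; exact IsLocalization.map_units (Localization.AtPrime q) (⟨g ^ n, fun h => hgq (Ideal.IsPrime.mem_of_pow_mem inferInstance n h)⟩ : q.primeCompl))
  have hkerA : ∀ a, algebraMap A (Localization.AtPrime q) a = 0 ↔ a ∈ q := fun a => by
    constructor
    · intro h
      by_contra ha
      exact (IsLocalization.map_units (Localization.AtPrime q) (⟨a, ha⟩ : q.primeCompl)).ne_zero h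
    · intro ha
      have hm := IsLocalization.AtPrime.map_eq_maximalIdeal q (Localization.AtPrime q)
      have h2 := hm ▸ Ideal.mem_map_of_mem (algebraMap A (Localization.AtPrime q)) ha
      rwa [(IsLocalRing.isField_iff_maximalIdeal_eq).1 hf, Ideal.mem_bot] at h2
  have hker : ∀ b, π b = 0 ↔ b ∈ J := fun b => by
    obtain ⟨a, s, rfl⟩ := IsLocalization.exists_mk'_eq (Submonoid.powers g) b
    have hs : π (IsLocalization.mk' B a s) * π (algebraMap A B s) = algebraMap A (Localization.AtPrime q) a := by
      rw [← map_mul, IsLocalization.mk'_spec, π.commutes]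
    have hu : IsUnit (π (algebraMap A B s)) := (IsLocalization.map_units B s).map π
    rw [IsLocalization.mk'_mem_iff, ← Ideal.mem_comap, hcomap, ← hkerA, ← hs]
    exact hu.mul_left_eq_zero.symm
  let ι : B ⧸ J →ₐ[A] Localization.AtPrime q := Ideal.Quotient.liftₐ J π fun a ha => (hker a).2 ha
  letI : Algebra (B ⧸ J) (Localization.AtPrime q) := ι.toRingHom.toAlgebra
  haveI : IsScalarTower A (B ⧸ J) (Localization.AtPrime q) :=
    IsScalarTower.of_algebraMap_eq fun c => (ι.commutes c).symm
  haveI : IsScalarTower k (B ⧸ J) (Localization.AtPrime q) := IsScalarTower.of_algebraMap_eq fun c =>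
    ((ι.restrictScalars k).commutes c).symm
  haveI : FaithfulSMul (B ⧸ J) (Localization.AtPrime q) := (faithfulSMul_iff_algebraMap_injective _ _).2 (by
    rw [injective_iff_map_eq_zero]
    intro a ha
    obtain ⟨a, rfl⟩ := Ideal.Quotient.mk_surjective a
    exact Ideal.Quotient.eq_zero_iff_mem.2 ((hker a).1 ha))
  haveI : IsFractionRing (B ⧸ J) (Localization.AtPrime q) := by
    refine IsFractionRing.of_field _ _ fun z => ?_
    obtain ⟨⟨a, s⟩, has⟩ := IsLocalization.surj q.primeCompl z
    refine ⟨algebraMap A (B ⧸ J) a, algebraMap A (B ⧸ J) s, ?_⟩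
    rw [← IsScalarTower.algebraMap_apply, ← IsScalarTower.algebraMap_apply]
    exact eq_div_of_mul_eq (IsLocalization.map_units _ s).ne_zero has
  haveI : Algebra.FiniteType k B :=
    haveI : Algebra.FiniteType A B := IsLocalization.finiteType_of_monoid_fg (Submonoid.powers g) B
    Algebra.FiniteType.trans (S := A) inferInstance inferInstance
  exact ringKrullDim_eq_trdeg k (B ⧸ J) (Localization.AtPrime q) r ht

theorem localDim_eq (k A : Type u) [Field k] [CommRing A] [Algebra k A] [Algebra.FiniteType k A]
    [Module.Projective A Ω[A⁄k]] (hgr : ∀ (p : Ideal A) [p.IsPrime], p ∈ minimalPrimes A →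
      Algebra.IsGeometricallyReduced k (Localization.AtPrime p)) (p : PrimeSpectrum A) :
    FlatMor.localDim (PrimeSpectrum A) p = ((Module.rankAtStalk (R := A) Ω[A⁄k] p : ℕ) : WithBot ℕ∞) := by
  haveI : IsNoetherianRing A := Algebra.FiniteType.isNoetherianRing k A
  haveI : Module.FinitePresentation A Ω[A⁄k] := Module.finitePresentation_of_projective A _
  set r := Module.rankAtStalk (R := A) Ω[A⁄k] p with hr
  have hlc := Module.isLocallyConstant_rankAtStalk (R := A) (M := Ω[A⁄k])
  have hgen : ∀ q : PrimeSpectrum A, q ≤ p → Module.rankAtStalk (R := A) Ω[A⁄k] q = r := fun q hqp =>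
    ((PrimeSpectrum.le_iff_specializes q p).1 hqp).mem_open (hlc.isOpen_fiber r) rfl
  have hdim : ∀ g : A, topologicalKrullDim ↥(PrimeSpectrum.basicOpen g : Set (PrimeSpectrum A)) =
      ringKrullDim (Localization.Away g) := fun g => by
    rw [← PrimeSpectrum.topologicalKrullDim_eq_ringKrullDim]
    exact (((PrimeSpectrum.localization_away_isOpenEmbedding (Localization.Away g) g).isEmbedding.toHomeomorph).trans
      (Homeomorph.setCongr (PrimeSpectrum.localization_away_comap_range _ g))).isHomeomorph.topologicalKrullDim_eq.symm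
  refine le_antisymm ?_ (le_iInf fun W => ?_)
  · have hS : {q : Ideal A | q ∈ minimalPrimes A ∧ ¬ q ≤ p.asIdeal}.Finite :=
      (minimalPrimes.finite_of_isNoetherianRing A).subset fun q hq => hq.1
    have hC : IsClosed (⋃ q ∈ {q : Ideal A | q ∈ minimalPrimes A ∧ ¬ q ≤ p.asIdeal},
        PrimeSpectrum.zeroLocus (q : Set A)) := hS.isClosed_biUnion fun q _ => PrimeSpectrum.isClosed_zeroLocus _
    have hp : p ∉ ⋃ q ∈ {q : Ideal A | q ∈ minimalPrimes A ∧ ¬ q ≤ p.asIdeal},
        PrimeSpectrum.zeroLocus (q : Set A) := fun hmem => by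
      obtain ⟨q, hq, hqp⟩ := Set.mem_iUnion₂.1 hmem
      exact hq.2 hqp
    obtain ⟨_, ⟨g, rfl⟩, hpg, hgC⟩ := PrimeSpectrum.isTopologicalBasis_basic_opens.exists_subset_of_mem_open hp hC.isOpen_compl
    refine iInf_le_of_le ⟨PrimeSpectrum.basicOpen g, hpg⟩ ((hdim g).le.trans ?_)
    unfold ringKrullDim
    haveI : Nontrivial (Localization.Away g) := by
      obtain ⟨P, -⟩ : p ∈ Set.range (PrimeSpectrum.comap (algebraMap A (Localization.Away g))) := by
        rw [PrimeSpectrum.localization_away_comap_range _ g]; exact hpg
      exact PrimeSpectrum.nontrivial P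
    rw [Order.krullDim_eq_iSup_coheight]
    refine iSup_le fun x => ?_
    obtain ⟨Q, hQ, hQx⟩ := Ideal.exists_minimalPrimes_le (bot_le : (⊥ : Ideal (Localization.Away g)) ≤ x.asIdeal)
    haveI : Q.IsPrime := hQ.1.1
    set q := Q.comap (algebraMap A (Localization.Away g)) with hqdef
    have hq : q ∈ minimalPrimes A := by
      have h := IsLocalization.minimalPrimes_map (Submonoid.powers g) (Localization.Away g) (⊥ : Ideal A)
      rw [Ideal.map_bot] at h
      exact h.le hQ
    have hgq : g ∉ q := fun h =>
      (inferInstance : Q.IsPrime).ne_top (Q.eq_top_of_isUnit_mem h (IsLocalization.Away.algebraMap_isUnit g))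
    have hqp : q ≤ p.asIdeal := by
      by_contra hne
      exact hgC (show (⟨q, inferInstance⟩ : PrimeSpectrum A) ∈ PrimeSpectrum.basicOpen g from hgq)
        (Set.mem_iUnion₂.2 ⟨q, ⟨hq, hne⟩, fun _ h => h⟩)
    have hd := dim_away_eq k A hgr g r q hq hgq (hgen ⟨q, inferInstance⟩ hqp)
    rw [hqdef, IsLocalization.map_under (Submonoid.powers g) (Localization.Away g) Q] at hd
    refine le_trans (WithBot.coe_le_coe.2 (Order.coheight_anti (show (⟨Q, inferInstance⟩ : PrimeSpectrum _) ≤ x from hQx))) ?_
    rw [VarDim.coheight_eq_ringKrullDim_quotient, hd]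
  · obtain ⟨⟨W, hW⟩, hpW⟩ := W
    obtain ⟨_, ⟨g, rfl⟩, hpg, hgW⟩ := PrimeSpectrum.isTopologicalBasis_basic_opens.exists_subset_of_mem_open hpW hW
    obtain ⟨q, hq, hqp⟩ := Ideal.exists_minimalPrimes_le (bot_le : (⊥ : Ideal A) ≤ p.asIdeal)
    haveI : q.IsPrime := hq.1.1
    refine le_trans ?_ (Topology.IsEmbedding.inclusion hgW).isInducing.topologicalKrullDim_le
    rw [hdim g]
    refine le_trans ?_ (ringKrullDim_le_of_surjective (Ideal.Quotient.mk (q.map (algebraMap A (Localization.Away g)))) Ideal.Quotient.mk_surjective)
    rw [dim_away_eq k A hgr g r q hq (fun h => hpg (hqp h)) (hgen ⟨q, inferInstance⟩ hqp)]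

/-- A is smooth at every prime. -/
theorem isSmoothAt_of (k A : Type u) [Field k] [CommRing A] [Algebra k A] [Algebra.FiniteType k A]
    [Module.Projective A Ω[A⁄k]] (hgr : ∀ (p : Ideal A) [p.IsPrime], p ∈ minimalPrimes A →
      Algebra.IsGeometricallyReduced k (Localization.AtPrime p)) (p : PrimeSpectrum A) :
    Algebra.IsSmoothAt k p.asIdeal := by
  haveI : IsNoetherianRing A := Algebra.FiniteType.isNoetherianRing k A
  haveI : Algebra.FinitePresentation k A := Algebra.FinitePresentation.of_finiteType.1 inferInstance
  haveI : Module.FinitePresentation A Ω[A⁄k] := Module.finitePresentation_of_projective A _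
  let S := Localization.AtPrime p.asIdeal
  haveI : IsNoetherianRing S := IsLocalization.isNoetherianRing p.asIdeal.primeCompl _ inferInstance
  haveI : Algebra.EssFiniteType k S := Algebra.EssFiniteType.comp k A S
  haveI : Module.FinitePresentation S Ω[S⁄k] := Module.finitePresentation_of_finite S _
  haveI : Module.Flat S Ω[S⁄k] := Module.Flat.isBaseChange A S Ω[A⁄k] (h := IsLocalizedModule.isBaseChange p.asIdeal.primeCompl S (KaehlerDifferential.map k k A S))
  obtain ⟨κ, a, b, hb⟩ := Module.exists_basis_of_span_of_flat _
    (KaehlerDifferential.span_range_map_derivation_of_isLocalization k _ S p.asIdeal.primeCompl)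
  haveI : Fintype κ := @Fintype.ofFinite κ (Module.Finite.finite_basis b)
  let n := Fintype.card κ
  let e := Fintype.equivFin κ
  letI algP : Algebra (MvPolynomial (Fin n) k) A := (MvPolynomial.aeval fun i => (a (e.symm i))).toRingHom.toAlgebra
  haveI : IsScalarTower k (MvPolynomial (Fin n) k) A :=
    .of_algebraMap_eq' (MvPolynomial.aeval fun i => (a (e.symm i))).comp_algebraMap.symm
  have hn : FlatMor.localDim (PrimeSpectrum A) p = (n : WithBot ℕ∞) := by
    rw [localDim_eq k A hgr p, show Module.rankAtStalk (R := A) Ω[A⁄k] p = n from by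
      rw [← finrank_kaehler_localization k A p.asIdeal, Module.finrank_eq_card_basis b]]
  haveI : Algebra.IsEtaleAt (MvPolynomial (Fin n) k) p.asIdeal := by
    refine (Groth.Agent.S2790.result k A n p.asIdeal hn).2 ?_
    rw [eq_top_iff, ← b.span_eq, Submodule.span_le]
    rintro _ ⟨i, rfl⟩
    refine Submodule.subset_span ⟨e i, ?_⟩
    show KaehlerDifferential.D k S (algebraMap A S (MvPolynomial.aeval (fun i => a (e.symm i)) (MvPolynomial.X (e i)))) = b i
    rw [MvPolynomial.aeval_X, Equiv.symm_apply_apply, hb]
    simp
  haveI : Algebra.FormallyEtale (MvPolynomial (Fin n) k) S := ‹Algebra.IsEtaleAt _ _›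
  exact Algebra.FormallySmooth.comp k (MvPolynomial (Fin n) k) S

/-- Let A be an algebra of finite type over a field k. Then A is smooth over k if and only if the module
of differentials of A over k is projective (locally free) and, at every minimal prime p of A, the
local ring A_p is geometrically reduced over k, which for this Artinian local ring says that A_p is
a field and a separable (not necessarily algebraic) extension of k. -/
theorem result (k A : Type u) [Field k] [CommRing A]
    [Algebra k A] [Algebra.FiniteType k A] :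
    Algebra.Smooth k A ↔
      Module.Projective A (KaehlerDifferential k A) ∧
        ∀ (p : Ideal A) [p.IsPrime], p ∈ minimalPrimes A →
          Algebra.IsGeometricallyReduced k (Localization.AtPrime p) := by
  haveI : Algebra.FinitePresentation k A := by
    haveI : IsNoetherianRing A := Algebra.FiniteType.isNoetherianRing k A
    exact Algebra.FinitePresentation.of_finiteType.1 inferInstance
  constructor
  · intro h
    refine ⟨inferInstance, fun p _ hp => ?_⟩
    haveI : Algebra.IsSmoothAt k p := Algebra.FormallySmooth.comp k A (Localization.AtPrime p)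
    exact Groth.Agent.S5012.isGeometricallyReduced_of_smoothAt_minimal k A p hp
  · rintro ⟨h1, h2⟩
    haveI : Algebra.FormallySmooth k A :=
      Algebra.smoothLocus_eq_univ_iff.1 (Set.eq_univ_of_forall fun p => isSmoothAt_of k A h2 p)
    exact ⟨inferInstance, inferInstance⟩

end Groth.Agent.S4999
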