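import Groth.Statements.S10869
import Groth.Agent.AmpleX.CounitEpi
import Groth.Agent.GGDesc7.Main
import Groth.Agent.QCoh.Qcqs

set_option autoImplicit false
universe u
open Coh

namespace Groth.Agent.S10869
set_option backward.isDefEq.respectTransparency false
set_option backward.isDefEq.respectTransparency.types false
open Groth.Agent in

open CategoryTheory AlgebraicGeometry in
/-- For f : X → S quasi-compact and quasi-separated and F a quasi-coherent O_X-module, the counit
f^*f_*F → F is an epimorphism iff F is a quotient of f^*G for some quasi-coherent O_S-module G, iff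
the restriction of F to the inverse image of every affine open of S is globally generated. -/
theorem result {X S : Scheme.{u}} (f : X ⟶ S) [QuasiCompact f] [QuasiSeparated f]
    (F : X.Modules) (hF : Coh.IsQCoh F) :
    (Epi ((Scheme.Modules.pullbackPushforwardAdjunction f).counit.app F) ↔
      ∃ G : S.Modules, Coh.IsQCoh G ∧ ∃ φ : (Scheme.Modules.pullback f).obj G ⟶ F, Epi φ) ∧
    (Epi ((Scheme.Modules.pullbackPushforwardAdjunction f).counit.app F) ↔
      ∀ U : S.Opens, IsAffineOpen U → Curv2.IsGloballyGenerated (F.restrict (f ⁻¹ᵁ U).ι)) := by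
  let adj := Scheme.Modules.pullbackPushforwardAdjunction f
  refine ⟨⟨fun h => ⟨_, QCoh.isQCoh_pushforward f hF, _, h⟩, fun ⟨G, _, φ, hφ⟩ => ?_⟩,
    ⟨fun h U hU => ?_, fun h => AmpleX.epi_counit_of_generated f F fun x => ?_⟩⟩
  · have e : (Scheme.Modules.pullback f).map (adj.homEquiv _ _ φ) ≫ adj.counit.app F = φ :=
      (adj.homEquiv_counit _ _ _).symm.trans ((adj.homEquiv _ _).symm_apply_apply φ)
    haveI : Epi ((Scheme.Modules.pullback f).map (adj.homEquiv _ _ φ) ≫ adj.counit.app F) := by rw [e]; exact hφ
    exact epi_of_epi ((Scheme.Modules.pullback f).map (adj.homEquiv _ _ φ)) _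
  · haveI := h
    let ι := (f ⁻¹ᵁ U).ι
    haveI : IsAffine (U : Scheme.{u}) := hU
    let G := (Scheme.Modules.pushforward f).obj F
    have h1 : Curv2.IsGloballyGenerated ((Scheme.Modules.pullback (f ∣_ U)).obj ((Scheme.Modules.pullback U.ι).obj G)) :=
      GGDesc7.pullback_gg (f ∣_ U) (AmpleX.isGloballyGenerated_of_isQuasiAffine
        (QCoh.isQCoh_pullback U.ι (QCoh.isQCoh_pushforward f hF)))
    obtain ⟨κ, p, hp⟩ := AmpleX.isGloballyGenerated_of_iso
      ((Scheme.Modules.pullbackComp (f ∣_ U) U.ι).app G ≪≫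
        (Scheme.Modules.pullbackCongr (morphismRestrict_ι f U)).app G ≪≫
        ((Scheme.Modules.pullbackComp ι f).app G).symm) h1
    haveI : Epi ((Scheme.Modules.pullback ι).map (adj.counit.app F)) :=
      haveI := (Scheme.Modules.pullbackPushforwardAdjunction ι).leftAdjoint_preservesColimits
      inferInstance
    exact AmpleX.isGloballyGenerated_of_iso ((Scheme.Modules.restrictFunctorIsoPullback ι).app F).symm
      ⟨κ, p ≫ (Scheme.Modules.pullback ι).map (adj.counit.app F), epi_comp _ _⟩
  · obtain ⟨_, ⟨V, hV, rfl⟩, hxV, -⟩ :=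
      S.isBasis_affineOpens.exists_subset_of_mem_open (Set.mem_univ (f x)) isOpen_univ
    exact ⟨V, hxV, h V hV⟩

end Groth.Agent.S10869
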