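import Groth.Statements.S1639
import Groth.Agent.NormAmpleX.Absolute
import Groth.Agent.NormAmpleX.Normal

set_option autoImplicit false
universe u
open CategoryTheory CategoryTheory.Limits AlgebraicGeometry
open Divisors

namespace Groth.Agent.S1639

/-- Let π : X → Y be finite and surjective, with Y integral and normal. If X has an ample invertible
module then so does Y. -/
theorem result {X Y : Scheme.{u}} (π : X ⟶ Y) [IsFinite π] [Surjective π]
    [IsIntegral Y] (hY : Pi1.IsNormalScheme Y) (L : X.Modules) (hL : CohB1.IsAmple L) :
    ∃ M : Y.Modules, CohB1.IsAmple M := by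
  have hG : (genericPoints (Y : Type u)).Finite := genericPoints.finite (by
    rw [irreducibleComponents_eq_singleton]; exact Set.finite_singleton _)
  obtain ⟨d⟩ := Groth.Agent.NormAmpleX.nonempty_normData_of_normal (g := π) hG (fun y => Or.inl (hY y)) ⊤
  exact Groth.Agent.NormAmpleX.exists_isAmple_of_mulNorm π d.toMulNorm hL

end Groth.Agent.S1639
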