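import Groth.Statements.S1950
import Groth.Agent.H23.ProjFormula
-- import your own Groth.Agent.* helpers here

set_option autoImplicit false
universe u
open CategoryTheory CategoryTheory.Limits AlgebraicGeometry
attribute [local instance] HasDerivedCategory.standard
open IntMult
open Groth.Agent Groth.Agent.H23

namespace Groth.Agent.S1950

/-- Let f : X → Y be proper and flat, where X and Y are nonsingular varieties over K of dimensions n and
m, e = n − m, α an r-cycle on X and β an s-cycle on Y such that α and f^*β intersect properly. The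
pushforward f_*α then meets β properly, and on Y the cycle f_*α · β equals f_*(α · f^*β) (flat
pullback and products taken coefficientwise; f_* is Mathlib's pushforward, applied to any cycle with
the coefficients of α · f^*β). Here X is a nonsingular variety over the algebraically closed field K
(smooth, separated, quasi-compact, integral) with dimension function δ (transcendence degree) and n
= dim X; cycles are Mathlib AlgebraicCycles with Cyc.Zk membership, proper intersection is
IntMult.IntersectProperly and α · β is the Tor-formula intersection product on coefficient functions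
(IntMult.interProd), bundled where needed as 'any cycle with these coefficients'. -/
theorem result (K : Type u) [Field K] [IsAlgClosed K] (X Y : Scheme.{u}) (f : X ⟶ Y) (gX : X ⟶ Spec (CommRingCat.of K)) (gY : Y ⟶ Spec (CommRingCat.of K)) (hf : f ≫ gY = gX) [Smooth gX] [IsSeparated gX] [QuasiCompact gX] [IsIntegral X] [Smooth gY] [IsSeparated gY] [QuasiCompact gY] [IsIntegral Y] [Flat f] [IsProper f] (δX : X → ℤ) (δY : Y → ℤ) (hX : Cyc.IsSetup X δX) (hY : Cyc.IsSetup Y δY) (hδX : Cyc.DeltaCompat gX δX (fun _ => 0)) (hδY : Cyc.DeltaCompat gY δY (fun _ => 0)) (hδ : Cyc.DeltaCompat f δX δY) (n m : ℤ) (hn : δX (genericPoint X) = n) (hm : δY (genericPoint Y) = m) (e : ℕ) (he : (e : ℤ) = n - m) (hrel : Cyc.HasRelDim f e) (r s : ℤ) (α : AlgebraicCycle X ℤ) (β : AlgebraicCycle Y ℤ) (hα : α ∈ Cyc.Zk X δX r) (hβ : β ∈ Cyc.Zk Y δY s) (hprop : IntMult.IntersectProperly δX n ⇑α (Cyc.pullFun f δX δY e ⇑β)) (γ : AlgebraicCycle X ℤ) (hγ : ⇑γ = IntMult.interProd δX n ⇑α (Cyc.pullFun f δX δY e ⇑β)) : IntMult.IntersectProperly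 δY m ⇑(AlgebraicCycle.map f δX δY α) ⇑β ∧ IntMult.interProd δY m ⇑(AlgebraicCycle.map f δX δY α) ⇑β = ⇑(AlgebraicCycle.map f δX δY γ) := by  classical
  haveI : IsLocallyNoetherian X := hX.1
  haveI : IsLocallyNoetherian Y := hY.1
  have hdX : Cyc.IsDimFun X δX := hX.2.2
  have hdY : Cyc.IsDimFun Y δY := hY.2.2
  have hle : ∀ x, δX x ≤ δY (f x) + (e : ℤ) := FlatShift.le_of_hasRelDim f hrel hδ
  have hIY : ∀ y : Y, Cyc.sheafFun δY (δY y) (Cyc.closureStructureSheaf y) = Set.indicator {y} 1 :=
    InterBilin.sheafFun_closure hdY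
  have hIdim : ∀ y w : Y, Nontrivial ((Cyc.closureStructureSheaf y).presheaf.stalk w) → δY w ≤ δY y := fun y w h =>
    CycLib.delta_le hdY (SkyPoint.specializes_of_nontrivial_closure h)
  have hJ := fun y : Y => FlatShift.sheafFun_pullback f δX δY hle (δY y) _ (hIdim y)
  have hJlf : ∀ y : Y, CycleClassK.LFPts (Function.support (Cyc.pullFun f δX δY e (Set.indicator {y} 1))) := fun y => by
    rw [← hIY y, (hJ y).2]
    exact CycleClassK.lfPts_sheafFun hdX ⟨ZClosLib.isCoh_pullback f (SkyPoint.isCoh_closure y), (hJ y).1⟩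
  have hαr : ∀ x, α x ≠ 0 → δX x = r := fun x h => by_contra fun hne => h (hα x hne)
  have hβs : ∀ y, β y ≠ 0 → δY y = s := fun y h => by_contra fun hne => h (hβ y hne)
  have hpull : ∀ v, Cyc.pullFun f δX δY e ⇑β v ≠ 0 → δX v = s + e := fun v h => by
    rw [Cyc.pullFun] at h
    split_ifs at h with hv
    · rw [hv, hβs (f v) (left_ne_zero_of_mul h)]
    · exact absurd rfl h
  have key : ∀ x y z, α x ≠ 0 → β y ≠ 0 → x ⤳ z → y ⤳ f z → δX z ≤ r + s - m := by
    intro x y z hx hy hxz hyz
    obtain ⟨w, hw, rfl⟩ := CycLib.exists_generization f hyz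
    obtain ⟨v, hv, hvw, hmax⟩ := FlatShift.exists_fibMax_gen f w
    have hδv : δX v = δY (f v) + e := (FlatShift.hasShift_of_hasRelDim f hrel hδ).eq_of_fibMax hmax
    have hlen := FlatShift.length_stalk_pullback f (Cyc.closureStructureSheaf (f v)) v
    rw [SkyPoint.length_closure_self, one_mul] at hlen
    have h02 : Ideal.map (f.stalkMap v).hom (IsLocalRing.maximalIdeal (Y.presheaf.stalk (f v))) ≤
        IsLocalRing.maximalIdeal (X.presheaf.stalk v) :=
      ((IsLocalRing.local_hom_TFAE (f.stalkMap v).hom).out 0 2).1 (inferInstance : IsLocalHom (f.stalkMap v).hom)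
    haveI hnt : Nontrivial (X.presheaf.stalk v ⧸ Ideal.map (f.stalkMap v).hom
        (IsLocalRing.maximalIdeal (Y.presheaf.stalk (f v)))) :=
      Ideal.Quotient.nontrivial_iff.2 (ne_top_of_le_ne_top (IsLocalRing.maximalIdeal.isMaximal _).ne_top h02)
    have hne : Cyc.pullFun f δX δY e ⇑β v ≠ 0 := by
      rw [Cyc.pullFun, if_pos hδv]
      refine mul_ne_zero (by rwa [hvw]) (Nat.cast_ne_zero.2 fun h0 => ?_)
      rcases ENat.toNat_eq_zero.1 h0 with h0 | h0
      · exact not_subsingleton _ (Module.length_eq_zero_iff.1 h0)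
      · refine (CycLib.length_stalk_lt_top _ (ZClosLib.isCoh_pullback f (SkyPoint.isCoh_closure (f v)))
          fun u hu huv => CycLib.eq_of_delta_le hdX huv ?_).ne (hlen.trans h0)
        have := (hJ (f v)).1 u hu
        omega
    have := hprop x v z hx hne hxz (hv.trans hw)
    have := hαr x hx
    have := hpull v hne
    omega
  have hmapne : ∀ y, AlgebraicCycle.map f δX δY α y ≠ 0 → ∃ x, f x = y ∧ α x ≠ 0 ∧ δY y = r := fun y h => by
    rw [CycLib.map_apply'] at h
    obtain ⟨x, hxy, hne⟩ := exists_ne_zero_of_finsum_mem_ne_zero h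
    have hxy' : f x = y := hxy
    have hx := left_ne_zero_of_mul hne
    refine ⟨x, hxy', hx, ?_⟩
    have hc := right_ne_zero_of_mul hne
    rw [Nat.cast_ne_zero, AlgebraicCycle.mapCoeff, ne_eq, ite_eq_right_iff, Classical.not_imp] at hc
    rw [← hxy', ← hαr x hx]
    exact hc.1.symm
  refine ⟨fun η ξ ζ hη hξ hηζ hξζ => ?_, funext fun ζ => ?_⟩
  · obtain ⟨x, rfl, hx, hr⟩ := hmapne η hη
    obtain ⟨z, hxz, hz⟩ := f.isClosedMap.specializingMap hηζ
    have h1 := key x ξ z hx hξ hxz (hz.symm ▸ hξζ)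
    have h2 := CycLib.le_of_deltaCompat f hδ z
    rw [hz] at h2
    have := hβs ξ hξ
    omega
  rw [CycLib.map_apply']
  by_cases hζ : δY ζ = r + s - m
  swap
  · refine Eq.trans (finsum_eq_zero_of_forall_eq_zero fun p => ?_)
      (finsum_mem_eq_zero_of_forall_eq_zero fun z hz => ?_).symm
    · by_contra h
      refine hζ ?_
      obtain ⟨⟨η, ξ⟩, _, _, hp⟩ := p
      obtain ⟨x, -, -, hr⟩ := hmapne η (left_ne_zero_of_mul (left_ne_zero_of_mul h))
      have := hβs ξ (right_ne_zero_of_mul (left_ne_zero_of_mul h))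
      simp only at hp
      omega
    · by_contra h
      refine hζ ?_
      have hz' : f z = ζ := hz
      have hc := right_ne_zero_of_mul h
      rw [Nat.cast_ne_zero, AlgebraicCycle.mapCoeff, ne_eq, ite_eq_right_iff, Classical.not_imp] at hc
      have hg := left_ne_zero_of_mul h
      rw [hγ, IntMult.interProd] at hg
      obtain ⟨⟨⟨a, b⟩, _, _, hab⟩, hne⟩ := not_forall.1 fun hall => hg (finsum_eq_zero_of_forall_eq_zero hall)
      have := hαr a (left_ne_zero_of_mul (left_ne_zero_of_mul hne))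
      have := hpull b (right_ne_zero_of_mul (left_ne_zero_of_mul hne))
      have := hc.1
      simp only at hab
      rw [← hz']
      omega
  have hSfin : {x : X | α x ≠ 0 ∧ f x ⤳ ζ}.Finite := by
    obtain ⟨U, hU, hy, -⟩ := exists_isAffineOpen_mem_and_subset (x := ζ) (U := ⊤) trivial
    have hcpt : IsCompact (f ⁻¹' (U : Set Y)) := (quasiCompact_iff f).1 inferInstance U U.isOpen hU.isCompact
    exact (α.locallyFiniteSupport.finite_inter_support_of_isCompact hcpt).subset
      fun x hx => ⟨hx.2.mem_open U.2 hy, hx.1⟩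
  have hT := InterBilin.finite_gen (CycleClassK.lfPts_cycle β) ζ
  let S := hSfin.toFinset
  have hS : ∀ x, x ∈ S ↔ α x ≠ 0 ∧ f x ⤳ ζ := fun x => hSfin.mem_toFinset
  let T := hT.toFinset
  have hTm : ∀ y, y ∈ T ↔ β y ≠ 0 ∧ y ⤳ ζ := fun y => hT.mem_toFinset
  have hmapα : ∀ w, w ⤳ ζ → AlgebraicCycle.map f δX δY α w =
      ∑ x ∈ S, α x * ((AlgebraicCycle.mapCoeff f δX δY x : ℤ) • Set.indicator {f x} (1 : Y → ℤ)) w := by
    intro w hw
    rw [CycLib.map_apply', finsum_mem_eq_sum_of_inter_support_eq (t := S.filter fun x => f x = w), Finset.sum_filter]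
    · refine Finset.sum_congr rfl fun x _ => ?_
      by_cases h : f x = w
      · subst h; simp
      · simp [h, Ne.symm h]
    · ext x
      simp only [Set.mem_inter_iff, Set.mem_preimage, Set.mem_singleton_iff, Function.mem_support, Finset.mem_coe,
        Finset.mem_filter, hS]
      exact ⟨fun h => ⟨⟨⟨left_ne_zero_of_mul h.2, h.1.symm ▸ hw⟩, h.1⟩, h.2⟩, fun h => ⟨h.1.2, h.2⟩⟩
  have hlfS : ∀ x : X, CycleClassK.LFPts (Function.support
      ((AlgebraicCycle.mapCoeff f δX δY x : ℤ) • Set.indicator {f x} (1 : Y → ℤ))) := fun x p =>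
    ⟨⊤, trivial, ((Set.finite_singleton (f x)).subset fun w hw => by_contra fun h => hw.1 (by
      rw [Pi.smul_apply, Set.indicator_of_notMem h, smul_zero]))⟩
  have hlfX : ∀ x : X, CycleClassK.LFPts (Function.support (Set.indicator {x} (1 : X → ℤ))) := fun x p =>
    ⟨⊤, trivial, ((Set.finite_singleton x).subset fun w hw => Set.support_indicator_subset hw.1)⟩
  have hlfY : ∀ y : Y, CycleClassK.LFPts (Function.support (Set.indicator {y} (1 : Y → ℤ))) := fun y p =>
    ⟨⊤, trivial, ((Set.finite_singleton y).subset fun w hw => Set.support_indicator_subset hw.1)⟩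
  rw [InterBilin.interProd_expand ζ S T (fun x => α x) (fun y => β y) _ (fun y => Set.indicator {y} 1)
    _ ⇑β hmapα (fun w hw => InterBilin.eq_sum_indicator ζ hT hw) (fun x _ => hlfS x) (fun y _ => hlfY y)]
  have hpair := fun x (hx : x ∈ S) y (hy : y ∈ T) =>
    ProjFormula.pair f gX gY hdX hdY hδX hδY hδ hn hm he hle (hαr x ((hS x).1 hx).1) (hβs y ((hTm y).1 hy).1)
      (fun z h1 h2 => key x y z ((hS x).1 hx).1 ((hTm y).1 hy).1 h1 h2) hζ ((hS x).1 hx).2 ((hTm y).1 hy).2
  let term : X → Y → X → ℤ := fun x y z => IntMult.interProd δX n (Set.indicator {x} 1)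
    (Cyc.pullFun f δX δY e (Set.indicator {y} 1)) z * (AlgebraicCycle.mapCoeff f δX δY z : ℤ)
  let F : Finset X := S.attach.biUnion fun x => T.attach.biUnion fun y => (hpair x.1 x.2 y.1 y.2).1.toFinset
  have hF : ↑F ⊆ f ⁻¹' {ζ} := fun z hz => by
    simp only [F, Finset.mem_coe, Finset.mem_biUnion, Set.Finite.mem_toFinset] at hz
    obtain ⟨_, -, _, -, -, h⟩ := hz
    exact h
  have hγz : ∀ z, f z = ζ → γ z * (AlgebraicCycle.mapCoeff f δX δY z : ℤ) =
      ∑ x ∈ S, ∑ y ∈ T, α x * β y * term x y z := by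
    intro z hz
    rw [hγ, InterBilin.interProd_expand z S T (fun x => α x) (fun y => β y) (fun x => Set.indicator {x} 1)
      (fun y => Cyc.pullFun f δX δY e (Set.indicator {y} 1)) ⇑α _ (fun w hw => ?_) (fun w hw => ?_)
      (fun x _ => hlfX x) (fun y _ => hJlf y), Finset.sum_mul]
    · refine Finset.sum_congr rfl fun x _ => ?_
      rw [Finset.sum_mul]
      exact Finset.sum_congr rfl fun y _ => mul_assoc _ _ _
    · rw [Finset.sum_eq_single w (fun x _ hne => by
        rw [Set.indicator_of_notMem (fun h => hne (Set.mem_singleton_iff.1 h).symm), mul_zero]) fun hn' => ?_,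
        Set.indicator_of_mem (Set.mem_singleton w), Pi.one_apply, mul_one]
      rw [show α w = 0 from by_contra fun hne => hn' ((hS w).2 ⟨hne, hz ▸ hw.map f.continuous⟩), zero_mul]
    · simp only [Cyc.pullFun]
      split_ifs
      · rw [InterBilin.eq_sum_indicator ζ hT (hz ▸ hw.map f.continuous), Finset.sum_mul]
        exact Finset.sum_congr rfl fun y _ => mul_assoc _ _ _
      · simp
  refine Eq.trans ?_ (finsum_mem_eq_sum_of_subset (fun z => γ z * (AlgebraicCycle.mapCoeff f δX δY z : ℤ))
    (t := F) ?_ hF).symm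
  · rw [Finset.sum_congr rfl fun z hz => hγz z (hF hz)]
    refine (Finset.sum_congr rfl fun x hx => ?_).trans Finset.sum_comm
    refine (Finset.sum_congr rfl fun y hy => ?_).trans Finset.sum_comm
    rw [(hpair x hx y hy).2, ← Finset.mul_sum]
    congr 1
    refine finsum_mem_eq_sum_of_subset _ (fun z hz => ?_) hF
    simp only [F, Finset.mem_coe, Finset.mem_biUnion, Set.Finite.mem_toFinset]
    exact ⟨⟨x, hx⟩, Finset.mem_attach _ _, ⟨y, hy⟩, Finset.mem_attach _ _, hz.2, hz.1⟩
  · rintro z ⟨hz, hne⟩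
    by_contra hzF
    refine hne ((hγz z hz).trans (Finset.sum_eq_zero fun x hx => Finset.sum_eq_zero fun y hy => ?_))
    by_contra h
    refine hzF ?_
    simp only [F, Finset.mem_coe, Finset.mem_biUnion, Set.Finite.mem_toFinset]
    exact ⟨⟨x, hx⟩, Finset.mem_attach _ _, ⟨y, hy⟩, Finset.mem_attach _ _, right_ne_zero_of_mul h, hz⟩


end Groth.Agent.S1950
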