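import Groth.Statements.S6451
import Groth.Agent.H23.InterPullCycle
-- import your own Groth.Agent.* helpers here

set_option autoImplicit false
universe u
open CategoryTheory CategoryTheory.Limits AlgebraicGeometry
attribute [local instance] HasDerivedCategory.standard
open IntMult

namespace Groth.Agent.S6451

/-- For a flat morphism f : X → Y between nonsingular varieties, with e = dim X − dim Y (every fibre
component has dimension e), and for cycles α ∈ Z_r(Y) and β ∈ Z_s(Y) meeting properly, the flat
pullbacks f^*α and f^*β again meet properly and pulling back commutes with the product: f^*(α · β) =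
f^*α · f^*β, coefficientwise (flat pullback is Cyc.pullFun with relative dimension e). Here X is a
nonsingular variety over the algebraically closed field K (smooth, separated, quasi-compact,
integral) with dimension function δ (transcendence degree over K, recorded by Cyc.DeltaCompat to
Spec K with value 0, together with Cyc.IsSetup) and n = dim X = δ of the generic point; cycles are
Mathlib AlgebraicCycles with Cyc.Zk membership, proper intersection is IntMult.IntersectProperly and
α · β is the Tor-formula intersection product on coefficient functions (IntMult.interProd). The same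
holds for Y with δY and m = dim Y. -/
theorem result (K : Type u) [Field K] [IsAlgClosed K] (X Y : Scheme.{u}) (f : X ⟶ Y) (gX : X ⟶ Spec (CommRingCat.of K)) (gY : Y ⟶ Spec (CommRingCat.of K)) (hf : f ≫ gY = gX) [Smooth gX] [IsSeparated gX] [QuasiCompact gX] [IsIntegral X] [Smooth gY] [IsSeparated gY] [QuasiCompact gY] [IsIntegral Y] [Flat f] (δX : X → ℤ) (δY : Y → ℤ) (hX : Cyc.IsSetup X δX) (hY : Cyc.IsSetup Y δY) (hδX : Cyc.DeltaCompat gX δX (fun _ => 0)) (hδY : Cyc.DeltaCompat gY δY (fun _ => 0)) (hδ : Cyc.DeltaCompat f δX δY) (n m : ℤ) (hn : δX (genericPoint X) = n) (hm : δY (genericPoint Y) = m) (e : ℕ) (he : (e : ℤ) = n - m) (hrel : Cyc.HasRelDim f e) (r s : ℤ) (α β : AlgebraicCycle Y ℤ) (hα : α ∈ Cyc.Zk Y δY r) (hβ : β ∈ Cyc.Zk Y δY s) (hprop : IntMult.IntersectProperly δY m ⇑α ⇑β) : IntMult.IntersectProperly δX n (Cyc.pullFun f δX δY e ⇑α) (Cyc.pullFun f δX δY e ⇑β) ∧ Cyc.pullFun f δX δY e (IntMult.interProd δY m ⇑α ⇑β) = IntMult.interProd δX n (Cyc.pullFun f δX δY e ⇑α) (Cyc.pullFun f δX δY e ⇑β) := by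
  haveI := hX.1
  haveI : LocallyOfFiniteType f := by
    haveI : LocallyOfFiniteType (f ≫ gY) := hf ▸ inferInstance
    exact locallyOfFiniteType_of_comp f gY
  exact Groth.Agent.H23.InterPullCycle.pullFun_interProd f gX gY hX.2.2 hY.2.2 hδX hδY hn hm he
    (Groth.Agent.H23.FlatShift.le_of_hasRelDim f hrel hδ) (Groth.Agent.H23.CycleClassK.lfPts_cycle α)
    (Groth.Agent.H23.CycleClassK.lfPts_cycle β) hprop


end Groth.Agent.S6451
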