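import Groth.Statements.S9824
import Groth.Agent.QCoh.LocFree
import Mathlib.AlgebraicGeometry.Properties
import Mathlib.RingTheory.LocalRing.Module
import Mathlib.LinearAlgebra.Dimension.OrzechProperty
set_option autoImplicit false
set_option backward.isDefEq.respectTransparency false
set_option backward.isDefEq.respectTransparency.types false
set_option linter.style.haveILetI false
set_option maxHeartbeats 800000
universe u
open CategoryTheory CategoryTheory.Limits AlgebraicGeometry TopologicalSpace Opposite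
open Props

namespace Groth.Agent.S9824

section
open CategoryTheory AlgebraicGeometry TopologicalSpace Opposite
open Groth.Agent.QCoh
variable {X : Scheme.{u}} {M : X.Modules}

theorem exists_common_sections {κ : Type} [Finite κ] (x : X) (V : X.Opens) (hx : x ∈ V) (v : κ → M.presheaf.stalk x) :
    ∃ (W : X.Opens) (hW : x ∈ W), W ≤ V ∧ ∀ i, ∃ s : Γ(M, W), M.presheaf.germ W x hW s = v i := by
  cases nonempty_fintype κ
  choose U hU s hs using fun i => TopCat.Presheaf.exists_germ_eq M.presheaf (v i)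
  let W : X.Opens := V ⊓ Finset.univ.inf U
  have hW : x ∈ W := ⟨hx, by show x ∈ ((Finset.univ.inf U : X.Opens) : Set X); rw [Opens.coe_finset_inf]; simpa using hU⟩
  refine ⟨W, hW, inf_le_left, fun i => ⟨M.presheaf.map (homOfLE (inf_le_right.trans (Finset.inf_le (Finset.mem_univ i)))).op (s i), ?_⟩⟩
  rw [M.presheaf.germ_res_apply, hs]

theorem exists_common_scalars {κ : Type} [Finite κ] (x : X) (V : X.Opens) (hx : x ∈ V) (v : κ → X.presheaf.stalk x) :
    ∃ (W : X.Opens) (hW : x ∈ W), W ≤ V ∧ ∀ i, ∃ s : Γ(X, W), X.presheaf.germ W x hW s = v i := by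
  cases nonempty_fintype κ
  choose U hU s hs using fun i => TopCat.Presheaf.exists_germ_eq X.presheaf (v i)
  let W : X.Opens := V ⊓ Finset.univ.inf U
  have hW : x ∈ W := ⟨hx, by show x ∈ ((Finset.univ.inf U : X.Opens) : Set X); rw [Opens.coe_finset_inf]; simpa using hU⟩
  refine ⟨W, hW, inf_le_left, fun i => ⟨X.presheaf.map (homOfLE (inf_le_right.trans (Finset.inf_le (Finset.mem_univ i)))).op (s i), ?_⟩⟩
  rw [X.presheaf.germ_res_apply, hs]

theorem germ_sum {V : X.Opens} {y : X} (hy : y ∈ V) {n : ℕ} (c : Fin n → Γ(X, V)) (v : Fin n → Γ(M, V)) :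
    M.presheaf.germ V y hy (∑ i, c i • v i) =
      ∑ i, X.presheaf.germ V y hy (c i) • M.presheaf.germ V y hy (v i) :=
  (map_sum (M.presheaf.germ V y hy).hom _ _).trans (Finset.sum_congr rfl fun i _ => germ_smul' M hy _ _)

theorem exists_nhd_rel {V : X.Opens} {x : X} (hx : x ∈ V) {n : ℕ} (c : Fin n → Γ(X, V)) (v : Fin n → Γ(M, V))
    (r : Γ(M, V)) (h : M.presheaf.germ V x hx r = ∑ i, X.presheaf.germ V x hx (c i) • M.presheaf.germ V x hx (v i)) :
    ∃ (W : X.Opens) (hW : W ≤ V), x ∈ W ∧ ∀ (y : X) (hy : y ∈ W), M.presheaf.germ V y (hW hy) r =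
      ∑ i, X.presheaf.germ V y (hW hy) (c i) • M.presheaf.germ V y (hW hy) (v i) := by
  rw [← germ_sum hx c v] at h
  obtain ⟨W, hW, i, j, hij⟩ := TopCat.Presheaf.germ_eq (C := AddCommGrpCat.{u}) M.presheaf x hx hx _ _ h
  refine ⟨W, i.le, hW, fun y hy => ?_⟩
  rw [← germ_sum (i.le hy) c v, ← M.presheaf.germ_res_apply i y hy r, hij, M.presheaf.germ_res_apply j y hy]

theorem span_germ (hM : Coh.IsQCoh M) {U : X.Opens} (hU : IsAffineOpen U) {y : X} (hy : y ∈ U)
    (s : Finset Γ(M, U)) (hs : Submodule.span Γ(X, U) (s : Set Γ(M, U)) = ⊤) :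
    Submodule.span (X.presheaf.stalk y) ((fun m => M.presheaf.germ U y hy m) '' (s : Set Γ(M, U))) = ⊤ := by
  letI := stalkAlg (X := X) hy
  letI := stalkModule M hy
  haveI := isScalarTower_stalk M hy
  haveI := isLocalization_stalk' hU hy
  haveI := isLocalizedModule_germLin hM hU hy
  refine eq_top_iff.2 fun z _ => ?_
  obtain ⟨⟨m, t⟩, ht⟩ := IsLocalizedModule.surj (hU.primeIdealOf ⟨y, hy⟩).asIdeal.primeCompl (germLin M hy) z
  have hm : germLin M hy m ∈ Submodule.span (X.presheaf.stalk y) ((fun m => M.presheaf.germ U y hy m) '' (s : Set Γ(M, U))) := by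
    have := Submodule.apply_mem_span_image_of_mem_span (germLin M hy) (show m ∈ Submodule.span Γ(X, U) (s : Set Γ(M, U)) by rw [hs]; trivial)
    exact Submodule.span_le_restrictScalars Γ(X, U) (X.presheaf.stalk y) _ this
  rw [← ht] at hm
  obtain ⟨u, hu⟩ := IsLocalization.map_units (X.presheaf.stalk y) t
  have hm' : (u : X.presheaf.stalk y) • z ∈ Submodule.span (X.presheaf.stalk y) ((fun m => M.presheaf.germ U y hy m) '' (s : Set Γ(M, U))) := by
    rw [hu, algebraMap_smul]; exact hm
  exact (Submodule.smul_mem_iff_of_isUnit _ u.isUnit).1 hm'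

theorem free_stalk_of_const [IsReduced X] (hM : Coh.IsQCoh M) (hft : CohB1.IsFT M)
    (hc : IsLocallyConstant (fun x : X => Module.finrank (IsLocalRing.ResidueField (X.presheaf.stalk x))
      (TensorProduct (X.presheaf.stalk x) (IsLocalRing.ResidueField (X.presheaf.stalk x)) (M.presheaf.stalk x))))
    (x : X) : Module.Free (X.presheaf.stalk x) (M.presheaf.stalk x) := by
  obtain ⟨C, hC, hxC, hconst⟩ := (IsLocallyConstant.iff_exists_open _).1 hc x
  obtain ⟨_, ⟨U, hU', rfl⟩, hxU, hUC⟩ := X.isBasis_affineOpens.exists_subset_of_mem_open hxC hC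
  have hU : IsAffineOpen U := hU'
  haveI := finite_stalk_of_isFT hM hft x
  haveI := finite_of_isFT hM hft hU
  obtain ⟨gens, hgens⟩ := (Module.Finite.fg_top : (⊤ : Submodule Γ(X, U) Γ(M, U)).FG)
  let n := Module.finrank (IsLocalRing.ResidueField (X.presheaf.stalk x))
    (TensorProduct (X.presheaf.stalk x) (IsLocalRing.ResidueField (X.presheaf.stalk x)) (M.presheaf.stalk x))
  let b := Module.finBasis (IsLocalRing.ResidueField (X.presheaf.stalk x))
    (TensorProduct (X.presheaf.stalk x) (IsLocalRing.ResidueField (X.presheaf.stalk x)) (M.presheaf.stalk x))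
  choose v hv using fun i => TensorProduct.mk_surjective (X.presheaf.stalk x) (M.presheaf.stalk x)
    (IsLocalRing.ResidueField (X.presheaf.stalk x)) IsLocalRing.residue_surjective (b i)
  have hspan : Submodule.span (X.presheaf.stalk x) (Set.range v) = ⊤ := IsLocalRing.span_eq_top_of_tmul_eq_basis v b hv
  refine Module.Free.of_basis (Module.Basis.mk (Fintype.linearIndependent_iff.2 fun c hc0 => ?_) hspan.ge)
  have hd : ∀ e : (gens : Set Γ(M, U)), ∃ d : Fin n → X.presheaf.stalk x,
      M.presheaf.germ U x hxU e.1 = ∑ i, d i • v i := fun e => by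
    obtain ⟨d, hd⟩ := (Submodule.mem_span_range_iff_exists_fun _).1 (show M.presheaf.germ U x hxU e.1 ∈
      Submodule.span (X.presheaf.stalk x) (Set.range v) by rw [hspan]; trivial)
    exact ⟨d, hd.symm⟩
  choose d hd using hd
  obtain ⟨W₁, hx₁, hW₁, hs⟩ := exists_common_sections x U hxU v
  choose s hs using hs
  obtain ⟨W₂, hx₂, hW₂, hc'⟩ := exists_common_scalars x W₁ hx₁ c
  choose c' hc' using hc'
  let s' := fun i => M.presheaf.map (homOfLE hW₂).op (s i)
  have hs' : ∀ i, M.presheaf.germ W₂ x hx₂ (s' i) = v i := fun i => by rw [M.presheaf.germ_res_apply, hs]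
  obtain ⟨W₃, hW₃, hx₃, hrel⟩ := exists_nhd_rel hx₂ c' s' 0 (by rw [map_zero]; simp only [hc', hs']; exact hc0.symm)
  have hgen : ∀ e : (gens : Set Γ(M, U)), ∃ Z : X.Opens, x ∈ Z ∧ ∀ (y : X) (hyU : y ∈ U) (hy : y ∈ W₂), y ∈ Z →
      M.presheaf.germ U y hyU e.1 ∈ Submodule.span (X.presheaf.stalk y) (Set.range fun i => M.presheaf.germ W₂ y hy (s' i)) := fun e => by
    obtain ⟨W₄, hx₄, hW₄, hd'⟩ := exists_common_scalars x W₂ hx₂ (d e)
    choose d' hd' using hd'
    obtain ⟨Z, hZ, hxZ, hr⟩ := exists_nhd_rel hx₄ d' (fun i => M.presheaf.map (homOfLE hW₄).op (s' i))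
      (M.presheaf.map (homOfLE (hW₄.trans (hW₂.trans hW₁))).op e.1) (by
        simp only [M.presheaf.germ_res_apply, hd', hs']; exact hd e)
    refine ⟨Z, hxZ, fun y hyU hy hyZ => ?_⟩
    have h := hr y hyZ
    simp only [M.presheaf.germ_res_apply] at h
    rw [h]
    exact Submodule.sum_mem _ fun i _ => Submodule.smul_mem _ _ (Submodule.subset_span ⟨i, rfl⟩)
  choose Z hxZ hZ using hgen
  let W : X.Opens := W₃ ⊓ Finset.univ.inf Z
  have hxW : x ∈ W := ⟨hx₃, by show x ∈ ((Finset.univ.inf Z : X.Opens) : Set X); rw [Opens.coe_finset_inf]; simpa using fun e h => hxZ ⟨e, h⟩⟩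
  have hzero : ∀ i, X.presheaf.map (homOfLE (inf_le_left.trans hW₃ : W ≤ W₂)).op (c' i) = 0 := fun i => by
    refine eq_zero_of_basicOpen_eq_bot _ (eq_bot_iff.2 fun y hy => ?_)
    have hyW : y ∈ W := X.basicOpen_le _ hy
    have hy2 : y ∈ W₂ := hW₃ hyW.1
    have hyU : y ∈ U := hW₁ (hW₂ hy2)
    have hy' := (X.mem_basicOpen _ y hyW).1 hy
    rw [X.presheaf.germ_res_apply] at hy'
    haveI := finite_stalk_of_isFT hM hft y
    let w := fun i => M.presheaf.germ W₂ y hy2 (s' i)
    have hw : Submodule.span (X.presheaf.stalk y) (Set.range w) = ⊤ := by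
      refine eq_top_iff.2 ((span_germ hM hU hyU gens hgens).ge.trans (Submodule.span_le.2 ?_))
      rintro _ ⟨e, he, rfl⟩
      exact hZ ⟨e, he⟩ y hyU hy2 ((Finset.inf_le (Finset.mem_univ (⟨e, he⟩ : (gens : Set Γ(M, U)))) : _ ≤ Z ⟨e, he⟩) hyW.2)
    have hwi : LinearIndependent (IsLocalRing.ResidueField (X.presheaf.stalk y)) fun i =>
        ((1 : IsLocalRing.ResidueField (X.presheaf.stalk y)) ⊗ₜ[X.presheaf.stalk y] w i) := by
      refine linearIndependent_of_top_le_span_of_card_eq_finrank ?_ ((Fintype.card_fin n).trans (hconst y (hUC hyU)).symm)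
      rintro z -
      induction z using TensorProduct.induction_on with
      | zero => exact zero_mem _
      | add a b ha hb => exact add_mem ha hb
      | tmul a m =>
        obtain ⟨f, rfl⟩ := (Submodule.mem_span_range_iff_exists_fun _).1 (show m ∈ Submodule.span _ (Set.range w) by rw [hw]; trivial)
        rw [TensorProduct.tmul_sum]
        refine sum_mem fun i _ => ?_
        have : a ⊗ₜ[X.presheaf.stalk y] (f i • w i) = (f i • a) • ((1 : IsLocalRing.ResidueField (X.presheaf.stalk y)) ⊗ₜ[X.presheaf.stalk y] w i) := by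
          rw [TensorProduct.smul_tmul', smul_eq_mul, mul_one, TensorProduct.smul_tmul]
        rw [this]
        exact Submodule.smul_mem _ _ (Submodule.subset_span ⟨i, rfl⟩)
    have h0 := hrel y hyW.1
    rw [map_zero] at h0
    have h1 := congrArg (fun m => (1 : IsLocalRing.ResidueField (X.presheaf.stalk y)) ⊗ₜ[X.presheaf.stalk y] m) h0
    simp only [TensorProduct.tmul_zero, TensorProduct.tmul_sum] at h1
    have h2 := Fintype.linearIndependent_iff.1 hwi (fun j => IsLocalRing.residue _ (X.presheaf.germ W₂ y hy2 (c' j))) (by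
      refine Eq.trans (Finset.sum_congr rfl fun j _ => ?_) h1.symm
      rw [TensorProduct.smul_tmul', ← TensorProduct.smul_tmul]
      congr 1) i
    exact ((IsLocalRing.residue_ne_zero_iff_isUnit _).2 hy') h2
  intro i
  rw [← hc' i, ← X.presheaf.germ_res_apply (homOfLE (inf_le_left.trans hW₃ : W ≤ W₂)) x hxW, hzero i, map_zero]

end


/-- Over a reduced scheme, a quasi-coherent module is finite locally free if and only if it is of finite
type and its fibre rank (the dimension of the stalk tensored with the residue field) is a locally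
constant function. -/
theorem result (X : Scheme.{u}) [IsReduced X]
    (M : X.Modules) [Coh.IsQCoh M] :
    FlatMod.IsFinLocFree M ↔ CohB1.IsFT M ∧
      IsLocallyConstant (fun x : X => Module.finrank (IsLocalRing.ResidueField (X.presheaf.stalk x))
          (TensorProduct (X.presheaf.stalk x) (IsLocalRing.ResidueField (X.presheaf.stalk x)) (M.presheaf.stalk x))) := by
  have hM : Coh.IsQCoh M := inferInstance
  refine ⟨fun h => ⟨((Groth.Agent.QCoh.isFinLocFree_iff_rank hM).1 h).1, ((Groth.Agent.QCoh.isFinLocFree_iff_rank hM).1 h).2.2⟩, fun h => (Groth.Agent.QCoh.isFinLocFree_iff_rank hM).2 ⟨h.1, free_stalk_of_const hM h.1 h.2, h.2⟩⟩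

end Groth.Agent.S9824
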