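import Groth.Statements.S17858
import Groth.Agent.PiPts7.Chart

set_option autoImplicit false
open CategoryTheory AlgebraicGeometry
universe u
open Algz

namespace Groth.Agent.S17858

theorem isAffineOpen_inf_pullback {W Y B : Scheme.{u}} (j : W ⟶ Y) (g : B ⟶ Y) {A : W.Opens}
    {D : B.Opens} {V : Y.Opens} (hA : IsAffineOpen A) (hD : IsAffineOpen D) (hV : IsAffineOpen V)
    (hAV : A ≤ j ⁻¹ᵁ V) (hDV : D ≤ g ⁻¹ᵁ V) :
    IsAffineOpen (Limits.pullback.fst j g ⁻¹ᵁ A ⊓ Limits.pullback.snd j g ⁻¹ᵁ D) := by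
  have : IsAffine A.toScheme := hA
  have : IsAffine D.toScheme := hD
  have : IsAffine V.toScheme := hV
  let φ := Limits.pullback.map (j.resLE V A hAV) (g.resLE V D hDV) j g A.ι D.ι V.ι
    (Scheme.Hom.resLE_comp_ι _ _) (Scheme.Hom.resLE_comp_ι _ _)
  have e : Limits.pullback.fst j g ⁻¹ᵁ A ⊓ Limits.pullback.snd j g ⁻¹ᵁ D = φ.opensRange := by
    apply TopologicalSpace.Opens.ext
    rw [Scheme.Hom.coe_opensRange]
    refine Eq.trans ?_ (Scheme.Pullback.range_map _ _ _ _ _ _ _ _ _).symm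
    simp
  rw [e]
  exact isAffineOpen_opensRange φ

/-- Finitely many functions adapted to a finite cover of the target. -/
theorem exists_functions {Y B : Scheme.{u}} [IsAffine B] (g : B ⟶ Y) {L : Finset Y} (V : Y → Y.Opens)
    (hL : Set.univ ⊆ ⋃ y ∈ L, (V y : Set Y)) :
    ∃ u : L → Γ(B, ⊤), (∀ l, B.basicOpen (u l) ≤ g ⁻¹ᵁ V l.1) ∧
      ∀ x : B, ∃ l, x ∈ B.basicOpen (u l) := by
  classical
  let I : L → Ideal Γ(B, ⊤) := fun l =>
    { carrier := {a | B.basicOpen a ≤ g ⁻¹ᵁ V l.1}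
      zero_mem' := by simp
      add_mem' := fun ha hb => (B.basicOpen_add_le _ _).trans (sup_le ha hb)
      smul_mem' := fun c a ha => by
        simp only [smul_eq_mul, Set.mem_ofPred_eq, Scheme.basicOpen_mul]
        exact inf_le_right.trans ha }
  have h1 : (1 : Γ(B, ⊤)) ∈ ⨆ l, I l := by
    by_contra h
    obtain ⟨p, hp, hle⟩ := Ideal.exists_le_maximal (⨆ l, I l) ((Ideal.ne_top_iff_one _).2 h)
    obtain ⟨z, hz⟩ : ∃ z : B, B.isoSpec.hom z = (⟨p, hp.isPrime⟩ : PrimeSpectrum _) :=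
      B.isoSpec.hom.homeomorph.surjective _
    obtain ⟨y, hy, hzy⟩ := Set.mem_iUnion₂.1 (hL (Set.mem_univ (g z)))
    obtain ⟨a, ha, hza⟩ := (isAffineOpen_top B).exists_basicOpen_le (⟨z, hzy⟩ : (g ⁻¹ᵁ V y : B.Opens)) trivial
    have hnot : a ∉ p := by
      intro hap
      have h3 : B.isoSpec.hom z ∈ PrimeSpectrum.basicOpen a := by
        have := B.toSpecΓ_preimage_basicOpen a
        rw [← this] at hza
        exact hza
      rw [hz] at h3
      exact h3 hap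
    exact hnot (hle (Submodule.mem_iSup_of_mem (⟨y, hy⟩ : L) ha))
  obtain ⟨v, hv, hsum⟩ := (Submodule.mem_iSup_iff_exists_finsupp I _).1 h1
  rw [Finsupp.sum_fintype _ _ (fun _ => rfl)] at hsum
  refine ⟨fun l => v l, fun l => hv l, fun x => ?_⟩
  have hx : x ∈ B.basicOpen (∑ l, v l) := by
    rw [hsum, Scheme.basicOpen_of_isUnit _ isUnit_one]; trivial
  obtain ⟨l, -, hl⟩ := Groth.Agent.PiPts7.exists_mem_basicOpen_of_mem_sum _ _ x hx
  exact ⟨l, hl⟩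

theorem exists_uniform {W Y : Scheme.{u}} (j : W ⟶ Y)
    [CompactSpace W] [CompactSpace Y] [QuasiSeparatedSpace Y] :
    ∃ m : ℕ, ∀ (B : CommRingCat.{u}) (g : Spec B ⟶ Y),
      ∃ U : Fin m → (Limits.pullback j g).Opens, (∀ k, IsAffineOpen (U k)) ∧ ⨆ k, U k = ⊤ := by
  classical
  have hcov : ∀ y : Y, ∃ V : Y.Opens, IsAffineOpen V ∧ y ∈ V := fun y => by
    obtain ⟨V, hV, hy, -⟩ := exists_isAffineOpen_mem_and_subset (x := y) (U := ⊤) trivial
    exact ⟨V, hV, hy⟩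
  choose V hV hyV using hcov
  obtain ⟨L, hL⟩ := isCompact_univ.elim_finite_subcover (fun y : Y => (V y : Set Y)) (fun y => (V y).2)
    (fun y _ => Set.mem_iUnion.2 ⟨y, hyV y⟩)
  have hA' : ∀ w : W, ∀ l : L, w ∈ j ⁻¹ᵁ V l.1 → ∃ A : W.Opens, IsAffineOpen A ∧ w ∈ A ∧ A ≤ j ⁻¹ᵁ V l.1 :=
    fun w l hw => by
      obtain ⟨A, hA, hwA, hle⟩ := exists_isAffineOpen_mem_and_subset (x := w) (U := j ⁻¹ᵁ V l.1) hw
      exact ⟨A, hA, hwA, hle⟩
  have hpieces : ∀ l : L, ∃ (r : Finset W) (A : W → W.Opens),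
      (∀ w ∈ r, IsAffineOpen (A w) ∧ A w ≤ j ⁻¹ᵁ V l.1) ∧ ∀ w ∈ j ⁻¹ᵁ V l.1, ∃ w' ∈ r, w ∈ A w' := by
    intro l
    have : QuasiCompact j := QuasiCompact.of_comp j (Limits.terminal.from Y)
    have hc : IsCompact ((j ⁻¹ᵁ V l.1 : W.Opens) : Set W) := j.isCompact_preimage (hV l.1).isCompact
    have : ∀ w : W, ∃ A : W.Opens, w ∈ j ⁻¹ᵁ V l.1 → IsAffineOpen A ∧ w ∈ A ∧ A ≤ j ⁻¹ᵁ V l.1 := fun w => by
      by_cases hw : w ∈ j ⁻¹ᵁ V l.1
      · obtain ⟨A, h⟩ := hA' w l hw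
        exact ⟨A, fun _ => h⟩
      · exact ⟨⊥, fun h => absurd h hw⟩
    choose A hAw using this
    obtain ⟨r, hr⟩ := hc.elim_finite_subcover (fun w : {w : W // w ∈ j ⁻¹ᵁ V l.1} => (A w.1 : Set W))
      (fun w => (A w.1).2) (fun w hw => Set.mem_iUnion.2 ⟨⟨w, hw⟩, (hAw w hw).2.1⟩)
    refine ⟨r.image Subtype.val, A, fun w hw => ?_, fun w hw => ?_⟩
    · obtain ⟨w', -, rfl⟩ := Finset.mem_image.1 hw
      exact ⟨(hAw w' w'.2).1, (hAw w' w'.2).2.2⟩
    · obtain ⟨w', hw', hww'⟩ := Set.mem_iUnion₂.1 (hr hw)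
      exact ⟨w', Finset.mem_image_of_mem _ hw', hww'⟩
  choose r A hrA hrcov using hpieces
  let e := (Fintype.equivFin (Σ l : L, r l)).symm
  refine ⟨Fintype.card (Σ l : L, r l), fun B g => ?_⟩
  obtain ⟨u, hu, hucov⟩ := exists_functions g V hL
  refine ⟨fun k => Limits.pullback.fst j g ⁻¹ᵁ A (e k).1 (e k).2 ⊓
    Limits.pullback.snd j g ⁻¹ᵁ (Spec B).basicOpen (u (e k).1), fun k => ?_, ?_⟩
  · exact isAffineOpen_inf_pullback j g (hrA _ _ (e k).2.2).1 ((isAffineOpen_top _).basicOpen _) (hV _)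
      (hrA _ _ (e k).2.2).2 (hu _)
  · refine eq_top_iff.2 fun x _ => TopologicalSpace.Opens.mem_iSup.2 ?_
    obtain ⟨l, hl⟩ := hucov (Limits.pullback.snd j g x)
    have h1 : j (Limits.pullback.fst j g x) ∈ V l.1 := by
      rw [← Scheme.Hom.comp_apply, Limits.pullback.condition]
      exact hu l hl
    obtain ⟨w', hw', hx⟩ := hrcov l _ h1
    refine ⟨e.symm ⟨l, ⟨w', hw'⟩⟩, ?_⟩
    dsimp only
    rw [Equiv.apply_symm_apply]
    exact ⟨hx, hl⟩

/-- Let `j : W ⟶ Y` be a quasi-affine morphism of quasi-compact quasi-separated schemes. There is a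
natural number `m` such that for every commutative ring `B` and every morphism `Spec B ⟶ Y`, the
fibre product `W ×_Y Spec B` is the union of `m` affine open subschemes. -/
theorem result {W Y : Scheme.{u}} (j : W ⟶ Y)
    [CompactSpace W] [QuasiSeparatedSpace W] [CompactSpace Y] [QuasiSeparatedSpace Y]
    (hj : Mor2.IsQuasiAffine j) :
    ∃ m : ℕ, ∀ (B : CommRingCat.{u}) (g : Spec B ⟶ Y),
      ∃ U : Fin m → (Limits.pullback j g).Opens, (∀ k, IsAffineOpen (U k)) ∧ ⨆ k, U k = ⊤ := by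
  exact exists_uniform j

end Groth.Agent.S17858
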