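import Groth.Statements.S0042
import Groth.Agent.AmpleVan.FibreDim
set_option autoImplicit false
universe u
open Coherent

namespace Groth.Agent.S0042

open AlgebraicGeometry CategoryTheory in
/-- Let Y be a locally Noetherian scheme, f : X → Y a proper morphism, and y a point of Y whose fibre
X_y has dimension at most d. Then for every coherent 𝒪_X-module F and every p > d, the stalk of R^p
f_* F at y is zero. -/
theorem result {X Y : Scheme.{u}} (f : X ⟶ Y)
    [IsProper f] [IsLocallyNoetherian Y] (y : Y) (d : ℕ) (hd : topologicalKrullDim ↥(f.fiber y) ≤ d)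
    (M : X.Modules) (hM : Coh.IsCoh M) (p : ℕ) (hp : d < p) :
    Limits.IsZero (TopCat.Presheaf.stalk ((Coh.RpushAb f p).obj (Coh.toAb M)).obj y) := by
  exact Groth.Agent.AmpleVan.FibreVanish.isZero_stalk_RpushAb_of_fibre_dim f y d hd hM p hp

end Groth.Agent.S0042
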