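import Groth.Statements.S1900
import Groth.Agent.H23.P1Closed
-- import your own Groth.Agent.* helpers here

set_option autoImplicit false
universe u
open CategoryTheory AlgebraicGeometry
open CategoryTheory.Limits
open Cyc

namespace Groth.Agent.S1900

/-- Let W → P^1_X be a closed immersion with W integral of δ-dimension k + 1 (for the dimension function
on P^1_X induced from δ on X), whose generic point lies neither over the zero section nor over the
section at infinity. Let W_0, W_∞ → X be the pullbacks of W along the two sections X → P^1_X (closed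
subschemes of X). Then [W_0]_k ∼_rat [W_∞]_k on X. A pair (X, δ) with Cyc.IsSetup plays the role of
a scheme locally of finite type over a fixed base with a dimension function (X locally Noetherian
with universally catenary local rings, δ a dimension function), and Cyc.DeltaCompat records that the
dimension function upstairs is the induced one. -/
theorem result (X : Scheme.{u}) (δ : X → ℤ) (hX : Cyc.IsSetup X δ) (δP : ↥(CohB1.ProjSpaceOver 1 X) → ℤ) (hP : Cyc.DeltaCompat (CohB1.ProjSpaceOver.toBase 1 X) δP δ) (k : ℤ) (W : Scheme.{u}) [IsIntegral W] (ι : W ⟶ CohB1.ProjSpaceOver 1 X) [IsClosedImmersion ι] (hW : δP (ι (genericPoint W)) = k + 1) (h0 : ι (genericPoint W) ∉ Set.range ⇑(P1.sect X 0)) (h1 : ι (genericPoint W) ∉ Set.range ⇑(P1.sect X 1)) (α β : AlgebraicCycle X ℤ) (hα : ⇑α = Cyc.subschemeFun δ k (pullback.snd ι (P1.sect X 0))) (hβ : ⇑β = Cyc.subschemeFun δ k (pullback.snd ι (P1.sect X 1))) : Cyc.RatEquiv δ k α β := by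
  
  open Groth.Agent in
  have hdP := (H23.SetupLFT.isSetup (CohB1.ProjSpaceOver.toBase 1 X) hX hP).2.2
  haveI := (Groth.Agent.H23.SetupLFT.isSetup (CohB1.ProjSpaceOver.toBase 1 X) hX hP).1
  haveI := LocallyOfFiniteType.isLocallyNoetherian ι
  have hg : ∀ z : W, ι (genericPoint W) ⤳ ι z := fun z =>
    ((genericPoint_spec W).specializes trivial).map ι.continuous
  refine Groth.Agent.H23.P1Closed.ratEquiv hX hP ι (fun z => hW ▸ Groth.Agent.CycLib.delta_le hdP (hg z))
    (fun z hz => ?_) (fun z hz => Or.inl ?_) α β hα hβ
  · have hne : ι (genericPoint W) ≠ ι z := fun e => by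
      rcases hz with hz | hz
      · exact h0 (e ▸ hz)
      · exact h1 (e ▸ hz)
    have := Groth.Agent.CycLib.delta_lt hdP (hg z) hne
    omega
  · rw [Groth.Agent.H23.P1Closed.eq_genericPoint_of_associated hz]
    exact fun h => h.elim h0 h1

end Groth.Agent.S1900
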