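import Groth.Statements.S6492
import Groth.Agent.H23.MoveLineMain
import Groth.Agent.H23.P1Vert
import Groth.Agent.PnCoh.Chow.Proper
-- import your own Groth.Agent.* helpers here

set_option autoImplicit false
universe u
open CategoryTheory CategoryTheory.Limits AlgebraicGeometry
attribute [local instance] HasDerivedCategory.standard
open IntMult
open Groth.Agent Groth.Agent.H23

namespace Groth.Agent.S6492

/-- Let C ⊂ P^N be a closed subvariety, X ⊂ P^N a closed subvariety and T_i ⊂ X (i ∈ I finite) closed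
subvarieties, with C and X intersecting properly. Then one can find a closed subvariety C' of P^N ×
P^1 with the following properties: (1) the projection from C' to P^1 is dominant, (2) as schemes,
the fibre C'_0 coincides with C, (3) the intersection of C' with X × P^1 is proper, (4) every T_i
meets the fibre C'_∞ properly. Encoding: P^N = CohB1.ProjSpace N K and P^N × P^1 =
CohB1.ProjSpaceOver 1 P^N with dimension functions δP, δ' (transcendence degree); subvarieties by
generic points, dimensions c = δP(ξ_C), n, d_i; (1) is recorded as dim C' = c + 1, which together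
with (2) is equivalent to dominance; (2) says the pullback of C' along the zero section is reduced
with support the closure of ξ_C; proper intersection is the dimension inequality IntMult.ProperInt
in the ambient P^N × P^1 (dim N + 1), resp. P^N. -/
theorem result (K : Type u) [Field K] [IsAlgClosed K] (N : ℕ) (δP : ↥(CohB1.ProjSpace N K) → ℤ) (hP : Cyc.IsSetup (CohB1.ProjSpace N K) δP) (hδP : Cyc.DeltaCompat (CohB1.ProjSpace.toSpec N K) δP (fun _ => 0)) (δ' : ↥(CohB1.ProjSpaceOver 1 (CohB1.ProjSpace N K)) → ℤ) (hP' : Cyc.IsSetup (CohB1.ProjSpaceOver 1 (CohB1.ProjSpace N K)) δ') (hδ' : Cyc.DeltaCompat (CohB1.ProjSpaceOver.toBase 1 (CohB1.ProjSpace N K)) δ' δP) (ξC : ↥(CohB1.ProjSpace N K)) (c : ℕ) (hc : δP ξC = c) (X : Scheme.{u}) [IsIntegral X] (ι : X ⟶ CohB1.ProjSpace N K) [IsClosedImmersion ι] (n : ℕ) (hn : δP (ι (genericPoint X)) = n) (m : ℕ) (T : Fin m → X) (d : Fin m → ℕ) (hd : ∀ i, δP (ι (T i)) = d i) (hCX : IntMult.ProperInt (closure {ξC}) (Set.range ⇑ι)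 N c n) : ∃ (C' : Scheme.{u}) (_ : IsIntegral C') (ι' : C' ⟶ CohB1.ProjSpaceOver 1 (CohB1.ProjSpace N K)) (_ : IsClosedImmersion ι'), δ' (ι' (genericPoint C')) = c + 1 ∧ IsReduced (pullback ι' (P1.sect (CohB1.ProjSpace N K) 0)) ∧ Set.range ⇑(pullback.snd ι' (P1.sect (CohB1.ProjSpace N K) 0)) = closure {ξC} ∧ IntMult.ProperInt (closure {ι' (genericPoint C')}) (⇑(CohB1.ProjSpaceOver.toBase 1 (CohB1.ProjSpace N K)) ⁻¹' Set.range ⇑ι) (N + 1) (c + 1) (n + 1) ∧ ∀ i : Fin m, IntMult.ProperInt (Set.range ⇑(pullback.snd ι' (P1.sect (CohB1.ProjSpace N K) 1))) (closure {ι (T i)}) N c (d i) := by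
  classical
  haveI := PnCoh.Chow.isProper_toSpec N K
  haveI : LocallyOfFiniteType (CohB1.ProjSpace.toSpec N K) := inferInstance
  haveI : LocallyOfFiniteType (CohB1.ProjSpaceOver.toBase 1 (CohB1.ProjSpace N K) ≫ CohB1.ProjSpace.toSpec N K) :=
    inferInstance
  have hδ'' := P1Proper.deltaCompat_comp (CohB1.ProjSpace.toSpec N K) hδP hδ'
  -- coordinates of the point
  obtain ⟨j0, pC, rfl⟩ := MoveLine.exists_pj N K ξC
  let D := MoveLine.Pj N K j0 ⧸ pC.asIdeal
  let L0 := FractionRing D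
  let a : Fin (N + 1) → L0 := fun l =>
    algebraMap D L0 (Ideal.Quotient.mk _ (PnChart.dh N K j0 (MvPolynomial.X l)))
  have ha : a j0 = 1 := by simp [a, MoveLine.dh_X_self]
  have hev : ∀ p, MoveLine.evj (K := K) j0 a p = algebraMap D L0 (Ideal.Quotient.mk _ p) := fun p => by
    refine AlgHom.congr_fun (MvPolynomial.algHom_ext (f := MoveLine.evj (K := K) j0 a)
      (g := (IsScalarTower.toAlgHom K D L0).comp (Ideal.Quotient.mkₐ K pC.asIdeal)) fun l => ?_) p
    simp only [MoveLine.evj, MvPolynomial.aeval_X, ha, div_one]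
    show a l.down.1 = algebraMap D L0 (Ideal.Quotient.mk _ (MvPolynomial.X l))
    simp [a, PnChart.dh, l.down.2]
  have hpnt : MoveLine.pnt (K := K) j0 a (IsLocalRing.closedPoint L0) = MoveLine.pj N K j0 pC := by
    show MoveLine.pj N K j0 _ = _
    congr 1
    refine PrimeSpectrum.ext ?_
    show Ideal.comap (MoveLine.evj (K := K) j0 a).toRingHom (IsLocalRing.maximalIdeal L0) = _
    rw [IsLocalRing.maximalIdeal_eq_bot]
    ext p
    show MoveLine.evj (K := K) j0 a p = 0 ↔ _
    rw [hev, map_eq_zero_iff _ (IsFractionRing.injective D L0), Ideal.Quotient.eq_zero_iff_mem]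
  haveI : Algebra.FiniteType K D :=
    Algebra.FiniteType.of_surjective (Ideal.Quotient.mkₐ K pC.asIdeal) Ideal.Quotient.mk_surjective
  have htr : Algebra.trdeg K L0 = c := by
    obtain ⟨b, hb, hb'⟩ := MoveLine.delta_pj hδP j0 pC
    obtain ⟨b', hb1, hb2⟩ := VarDim.exists_dim_eq_trdeg K D
    rw [hc] at hb'
    obtain rfl : c = b := by exact_mod_cast hb'
    obtain rfl : b' = c := by exact_mod_cast hb1.symm.trans hb
    haveI : Algebra.IsAlgebraic D L0 := IsLocalization.isAlgebraic _ (nonZeroDivisors D)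
    rw [← trdeg_add_eq K D (A := L0), trdeg_eq_zero (R := D) (A := L0), add_zero, hb2]
  have hgen : ∀ x : L0, ∃ p q : MoveLine.Pj N K j0, MoveLine.evj (K := K) j0 a q ≠ 0 ∧
      x * MoveLine.evj (K := K) j0 a q = MoveLine.evj (K := K) j0 a p := fun x => by
    obtain ⟨p, q, hq, rfl⟩ := IsFractionRing.div_surjective (A := D) x
    obtain ⟨p, rfl⟩ := Ideal.Quotient.mk_surjective p
    obtain ⟨q, rfl⟩ := Ideal.Quotient.mk_surjective q
    have hne : algebraMap D L0 (Ideal.Quotient.mk _ q) ≠ 0 :=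
      (map_ne_zero_iff _ (IsFractionRing.injective D L0)).2 (nonZeroDivisors.ne_zero hq)
    exact ⟨p, q, by rw [hev]; exact hne, by rw [hev, hev, div_mul_cancel₀ _ hne]⟩
  have hc' : δP (MoveLine.pnt (K := K) j0 a (IsLocalRing.closedPoint L0)) = c := by rw [hpnt, hc]
  -- a general matrix
  obtain ⟨h1, h1ne, H1⟩ := MoveLine.exists_bound a j0 ha hδP hδ' hc' (ι (genericPoint X)) hn PUnit.{u + 1}
    (MvPolynomial.X PUnit.unit) (e := c + n + 2 - N) (by rw [Fintype.card_punit]; omega)
  have HT := fun i => MoveLine.exists_bound a j0 ha hδP hδ' hc' (ι (T i)) (hd i) PEmpty.{u + 1}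
    (0 : MvPolynomial PEmpty.{u + 1} K) (e := c + d i + 1 - N) (by rw [Fintype.card_pempty]; omega)
  choose hT hTne HT using HT
  obtain ⟨g0, hg0⟩ := MoveLine.exists_eval_ne_zero (k := K)
    (fun o : Option (Fin m) => o.elim h1 hT) (by rintro (_ | i); exacts [h1ne, hTne i])
  let g : Fin (N + 1) → Fin (N + 1) → K := fun l q => g0 ⟨(l, q)⟩
  let ξ := MoveLine.xi g a j0
  let ι' := (IntMult.ptIdeal ξ).subschemeι
  haveI : IsIntegral (IntMult.ptIdeal ξ).subscheme := QCoh.isIntegral_closure_point ξ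
  have hr : Set.range ι' = closure {ξ} := SkyPoint.range_ptIdeal ξ
  have hgp : ι' (genericPoint ↥(IntMult.ptIdeal ξ).subscheme) = ξ := by
    refine (specializes_iff_mem_closure.2 (hr ▸ Set.mem_range_self _)).antisymm ?_ |> Inseparable.eq |> Eq.symm
    obtain ⟨w, hw⟩ : ξ ∈ Set.range ι' := hr.ge (subset_closure rfl)
    conv_rhs => rw [← hw]
    exact (genericPoint_specializes w).map ι'.continuous
  have hξ : δ' ξ = c + 1 := MoveLine.delta_xi g a j0 ha hδP hδ' c htr hgen
  have hX : ∀ y, ι (genericPoint X) ⤳ y ↔ y ∈ Set.range ι := fun y => by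
    refine ⟨fun h => h.mem_closed ι.isClosedEmbedding.isClosed_range ⟨_, rfl⟩, ?_⟩
    rintro ⟨x, rfl⟩
    exact (genericPoint_specializes x).map ι.continuous
  have hdimP : ∀ {S : Set ↥(CohB1.ProjSpace N K)}, IsClosed S → ∀ {b : ℕ}, (∀ y ∈ S, δP y ≤ b) →
      topologicalKrullDim ↥S ≤ (b : WithBot ℕ∞) := fun {S} hS {b} hb => by
    rw [VarDim.topologicalKrullDim_set_eq_iSup_deg (CohB1.ProjSpace.toSpec N K) hS]
    refine iSup_le fun y => ?_
    have := hb y.1 y.2
    rw [PointPrime.deg_eq (CohB1.ProjSpace.toSpec N K) hδP] at this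
    exact_mod_cast this
  refine ⟨(IntMult.ptIdeal ξ).subscheme, inferInstance, ι', inferInstance, by rw [hgp, hξ],
    MoveLine.isReduced_fibre_zero g a j0 ha ι' hr, ?_, ?_, ?_⟩
  · rw [Scheme.Pullback.range_snd, hr, ← hpnt]
    ext y
    show P1.sect _ 0 y ∈ closure {ξ} ↔ _
    rw [← specializes_iff_mem_closure, ← specializes_iff_mem_closure]
    exact MoveLine.specializes_sect_zero_iff g a j0 ha y
  · rw [hgp]
    intro hne
    have key : ∀ z ∈ closure {ξ} ∩ ⇑(CohB1.ProjSpaceOver.toBase 1 (CohB1.ProjSpace N K)) ⁻¹' Set.range ⇑ι,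
        N + 1 ≤ c + n + 2 ∧ δ' z ≤ ((c + 1 + (n + 1) - (N + 1) : ℕ) : ℤ) := by
      rintro z ⟨hz, hzX⟩
      rw [← specializes_iff_mem_closure] at hz
      by_cases h0 : z ∈ Set.range (P1.sect (CohB1.ProjSpace N K) 0)
      · obtain ⟨y, rfl⟩ := h0
        rw [Set.mem_preimage, ← Scheme.Hom.comp_apply, P1Sect.sect_toBase] at hzX
        have hy : y ∈ closure {MoveLine.pj N K j0 pC} ∩ Set.range ι := by
          rw [← hpnt]
          exact ⟨specializes_iff_mem_closure.1 ((MoveLine.specializes_sect_zero_iff g a j0 ha y).1 hz), hzX⟩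
        obtain ⟨hNc, hdim⟩ := hCX ⟨y, hy⟩
        rw [VarDim.topologicalKrullDim_set_eq_iSup_deg (CohB1.ProjSpace.toSpec N K)
          (isClosed_closure.inter ι.isClosedEmbedding.isClosed_range)] at hdim
        have h := le_trans (le_iSup (fun z : ↥(closure {MoveLine.pj N K j0 pC} ∩ Set.range ι) =>
          ((VarDim.deg (CohB1.ProjSpace.toSpec N K) z.1 : ℕ∞) : WithBot ℕ∞)) ⟨y, hy⟩) hdim
        have h' : VarDim.deg (CohB1.ProjSpace.toSpec N K) y ≤ c + n - N :=
          Nat.cast_le.1 (WithBot.coe_le_coe.1 h)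
        rw [P1Fam.delta_sect hδ' 0 y, PointPrime.deg_eq _ hδP]
        exact ⟨by omega, by omega⟩
      · obtain ⟨mz, hmz, hlt⟩ := H1 g (hg0 none) z hz ((hX _).2 hzX) h0
          (fun j q _ L _ _ v _ => ⟨fun _ => v Polynomial.X, MvPolynomial.aeval_X _ _⟩)
        rw [hmz]
        exact ⟨by omega, by omega⟩
    refine ⟨by obtain ⟨z, hz⟩ := hne; have := (key z hz).1; omega, ?_⟩
    rw [VarDim.topologicalKrullDim_set_eq_iSup_deg
      (CohB1.ProjSpaceOver.toBase 1 (CohB1.ProjSpace N K) ≫ CohB1.ProjSpace.toSpec N K)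
      (isClosed_closure.inter (ι.isClosedEmbedding.isClosed_range.preimage
        (CohB1.ProjSpaceOver.toBase 1 (CohB1.ProjSpace N K)).continuous))]
    refine iSup_le fun z => ?_
    have := (key z.1 z.2).2
    rw [PointPrime.deg_eq _ hδ''] at this
    exact WithBot.coe_le_coe.2 (Nat.cast_le.2 (Int.ofNat_le.1 this))
  · intro i hne
    rw [Scheme.Pullback.range_snd, hr] at hne ⊢
    have key : ∀ y ∈ P1.sect (CohB1.ProjSpace N K) 1 ⁻¹' closure {ξ} ∩ closure {ι (T i)},
        N ≤ c + d i ∧ δP y ≤ ((c + d i - N : ℕ) : ℤ) := by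
      rintro y ⟨hy, hyT⟩
      rw [Set.mem_preimage, ← specializes_iff_mem_closure] at hy
      rw [← specializes_iff_mem_closure] at hyT
      obtain ⟨mz, hmz, hlt⟩ := HT i g (hg0 (some i)) _ hy
        (by rwa [← Scheme.Hom.comp_apply, P1Sect.sect_toBase]) (fun ⟨x, hx⟩ => P1Vert.sect_ne_sect _ _ hx)
        (fun j q hq L _ _ v hv => ⟨fun e => e.elim, by
          have hX' : Polynomial.X ∈ RingHom.ker v.toRingHom :=
            hv ▸ MoveLine.X_mem_of_mem_range_sect j 1 q ⟨y, hq.symm⟩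
          rw [map_zero]
          exact (hX' : v Polynomial.X = 0).symm⟩)
      rw [P1Fam.delta_sect hδ' 1 y] at hmz
      rw [hmz]
      exact ⟨by omega, by omega⟩
    refine ⟨by obtain ⟨y, hy⟩ := hne; exact (key y hy).1, ?_⟩
    exact hdimP ((isClosed_closure.preimage (P1.sect (CohB1.ProjSpace N K) 1).continuous).inter isClosed_closure)
      fun y hy => (key y hy).2

end Groth.Agent.S6492
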