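import Groth.Statements.S1868
import Groth.Agent.H23.FiniteFlatDeg
import Groth.Agent.FibDim.AffineSpaceFibre
-- import your own Groth.Agent.* helpers here

set_option autoImplicit false
universe u
open CategoryTheory AlgebraicGeometry
open Cyc

namespace Groth.Agent.S1868

/-- Let f : X → Y be finite locally free of constant degree d (finite, flat, rank function constantly
d). Then f has relative dimension 0 and for every k-cycle α on Y, f_*(f^*α) = d·α (for any cycle
f^*α on X with the flat-pullback coefficients). Here a pair (X, δ) with Cyc.IsSetup plays the role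
of a scheme locally of finite type over a fixed base with a dimension function (X locally Noetherian
with universally catenary local rings, δ a dimension function), and Cyc.DeltaCompat records that the
dimension function upstairs is the induced one. -/
theorem result (X Y : Scheme.{u}) (δX : X → ℤ) (δY : Y → ℤ) (hX : Cyc.IsSetup X δX) (hY : Cyc.IsSetup Y δY) (f : X ⟶ Y) [IsFinite f] [Flat f] (d : ℕ) (hd : ∀ y : Y, f.finrank y = d) (hδ : Cyc.DeltaCompat f δX δY) (k : ℤ) : Cyc.HasRelDim f 0 ∧ ∀ (α : AlgebraicCycle Y ℤ), α ∈ Cyc.Zk Y δY k → ∀ α' : AlgebraicCycle X ℤ, ⇑α' = Cyc.pullFun f δX δY 0 ⇑α → AlgebraicCycle.map f δX δY α' = d • α := by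
  have hz : ∀ x : X, Groth.Agent.FibDim.rd f x = 0 := Groth.Agent.FibDim.rd_eq_zero_of_quasiFinite f
  refine ⟨(Groth.Agent.CycLib.hasRelDim_iff f).2 fun x _ => hz x, fun α _ α' hα' => ?_⟩
  ext y
  rw [Groth.Agent.CycLib.map_apply']
  have hfib := Groth.Agent.H23.FiniteFibreSum.sum_finrank f y
  have e : ∀ x ∈ f ⁻¹' {y}, α' x * (AlgebraicCycle.mapCoeff f δX δY x : ℤ) =
      α y * ((f.residueDegree x * (Groth.Agent.H23.FiniteFibreSum.fibreLen f x).toNat : ℕ) : ℤ) := by
    rintro x (rfl : f x = y)
    have h1 := Groth.Agent.CycLib.deltaCompat_eq f hδ x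
    rw [hz x] at h1
    rw [congrFun hα' x, AlgebraicCycle.mapCoeff, if_pos (by simpa using h1)]
    simp only [Cyc.pullFun, Groth.Agent.H23.FiniteFibreSum.fibreLen]
    rw [if_pos (by simpa using h1)]
    push_cast
    ring
  rw [finsum_mem_congr rfl e, ← mul_finsum_mem,
    show (∑ᶠ x ∈ f ⁻¹' {y}, ((f.residueDegree x * (Groth.Agent.H23.FiniteFibreSum.fibreLen f x).toNat : ℕ) : ℤ)) =
      ((d : ℕ) : ℤ) from
      ((Nat.castAddMonoidHom ℤ).map_finsum_mem _ hfib.1).symm.trans (congrArg Nat.cast (hfib.2.trans (hd y)))]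
  simp [mul_comm]

end Groth.Agent.S1868
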