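import Groth.Statements.S1167
import Groth.Agent.HilbDLib.Separated
-- import your own Groth.Agent.* helpers here

set_option autoImplicit false
open CategoryTheory CategoryTheory.Limits AlgebraicGeometry
universe u
open HilbD

namespace Groth.Agent.S1167

/-- Let f : X → S be a separated morphism of schemes and let (H, Z) represent the Hilbert functor of
points of degree d of X over S (Z the universal object on H). Then H → S is separated. -/
theorem result {X S : Scheme.{u}} (f : X ⟶ S) [IsSeparated f] (d : ℕ)
    (H : Over S) (Z : HilbD.Obj f d H) (hZ : HilbD.IsUniversal f d H Z) : IsSeparated H.hom := by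
  exact HilbDLib.isSeparated_of_isUniversal f d H Z hZ

end Groth.Agent.S1167
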