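import Groth.Statements.S13117
import Groth.Agent.MiscAlg16.NormPi

set_option autoImplicit false
universe u
open HilbChow

namespace Groth.Agent.S13117

/-- Let k be an algebraically closed field, A a finite-dimensional commutative k-algebra (the coordinate
ring of a zero-dimensional subscheme Z of length dim_k A) and f ∈ A. Then the determinant of
multiplication by f on A is the product over the points x of Z — the k-algebra homomorphisms A → k —
of the value f(x) raised to the length of the local ring of Z at x, that length being the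
k-dimension of the localisation of A at the corresponding maximal ideal. This is the formula by
which the Hilbert-to-Chow morphism for zero-cycles sends Z to its fundamental cycle Σ ℓ(O_{Z,x})[x]. -/
theorem result
    (k A : Type u) [Field k] [IsAlgClosed k] [CommRing A] [Algebra k A] [Module.Finite k A] (f : A) :
    Algebra.norm k f =
      ∏ᶠ φ : A →ₐ[k] k, φ f ^ Module.finrank k (Localization.AtPrime (Ideal.comap φ ⊥)) := by
  classical
  haveI : IsArtinianRing A := IsArtinianRing.of_finite k A
  haveI hfin : ∀ p : PrimeSpectrum A, Module.Finite k (Localization.AtPrime p.asIdeal) := fun p =>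
    Module.Finite.of_surjective (Algebra.algHom k A (Localization.AtPrime p.asIdeal)).toLinearMap
      (IsArtinianRing.localization_surjective p.asIdeal.primeCompl (Localization.AtPrime p.asIdeal))
  letI : Fintype (PrimeSpectrum A) := Fintype.ofFinite _
  have hbij : ∀ p : PrimeSpectrum A, Function.Bijective (algebraMap k (A ⧸ p.asIdeal)) := fun p =>
    IsAlgClosed.algebraMap_bijective_of_isIntegral
  let Φ : PrimeSpectrum A → (A →ₐ[k] k) := fun p =>
    ((AlgEquiv.ofBijective (Algebra.ofId k (A ⧸ p.asIdeal)) (hbij p)).symm.toAlgHom).comp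
      (Ideal.Quotient.mkₐ k p.asIdeal)
  have hker : ∀ p, Ideal.comap (Φ p) ⊥ = p.asIdeal := fun p => by
    ext a
    rw [Ideal.mem_comap, Ideal.mem_bot, ← Ideal.Quotient.eq_zero_iff_mem]
    exact map_eq_zero_iff (AlgEquiv.ofBijective (Algebra.ofId k (A ⧸ p.asIdeal)) (hbij p)).symm
      (AlgEquiv.injective _)
  have hΦ : Function.Bijective Φ := by
    refine ⟨fun p q h => PrimeSpectrum.ext (by rw [← hker p, ← hker q, h]), fun φ => ?_⟩
    refine ⟨⟨Ideal.comap φ ⊥, Ideal.comap_isPrime φ ⊥⟩, AlgHom.ext fun a => ?_⟩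
    have h1 : a - algebraMap k A (φ a) ∈ Ideal.comap φ ⊥ := by
      rw [Ideal.mem_comap, Ideal.mem_bot, map_sub, AlgHom.commutes]; exact sub_self _
    rw [show Ideal.comap φ ⊥ = Ideal.comap (Φ ⟨Ideal.comap φ ⊥, Ideal.comap_isPrime φ ⊥⟩) ⊥ from
      (hker ⟨Ideal.comap φ ⊥, Ideal.comap_isPrime φ ⊥⟩).symm, Ideal.mem_comap, Ideal.mem_bot, map_sub,
      AlgHom.commutes, sub_eq_zero] at h1
    exact h1
  letI : Fintype (A →ₐ[k] k) := Fintype.ofBijective Φ hΦ
  rw [finprod_eq_prod_of_fintype,
    ← Algebra.norm_eq_of_algEquiv ((PrimeSpectrum.toPiLocalizationEquiv A).restrictScalars k) f]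
  rw [Groth.Agent.MiscAlg16.norm_pi, ← (Equiv.ofBijective Φ hΦ).prod_comp]
  refine Finset.prod_congr rfl fun p _ => ?_
  show Algebra.norm k (algebraMap A (Localization.AtPrime p.asIdeal) f) =
    Φ p f ^ Module.finrank k (Localization.AtPrime (Ideal.comap (Φ p) ⊥))
  have hfr : ∀ (q : Ideal A) [q.IsPrime], q = p.asIdeal →
      Module.finrank k (Localization.AtPrime q) = Module.finrank k (Localization.AtPrime p.asIdeal) := by
    intro q _ h; subst h; rfl
  rw [hfr _ (hker p)]
  refine Groth.Agent.MiscAlg16.norm_of_isNilpotent_sub _ _ ?_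
  have hm : f - algebraMap k A (Φ p f) ∈ p.asIdeal := by
    rw [← hker p, Ideal.mem_comap, Ideal.mem_bot, map_sub, AlgHom.commutes]; exact sub_self _
  rw [IsScalarTower.algebraMap_apply k A (Localization.AtPrime p.asIdeal), ← map_sub]
  refine Ring.KrullDimLE.isNilpotent_iff_mem_maximalIdeal.2 ?_
  rw [← Localization.AtPrime.map_eq_maximalIdeal]
  exact Ideal.mem_map_of_mem _ hm

end Groth.Agent.S13117
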