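import Groth.Statements.S13168
-- import your own Groth.Agent.* helpers here

set_option autoImplicit false
universe u
open AlgebraicGeometry
open ZeroCyc

namespace Groth.Agent.S13168

/-- Let B be a graded R-algebra generated by homogeneous elements f_1, …, f_s of positive degrees d_1,
…, d_s, let l be the least common multiple of the d_i and X = Proj B. For n = a l with a ≥ 1, X is
the union of the opens D_+(g), g ∈ B_n. -/
theorem result {R A : Type u} [CommRing R] [CommRing A] [Algebra R A] (𝒜 : ℕ → Submodule R A) [GradedAlgebra 𝒜]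
    {s : ℕ} (f : Fin s → A) (deg : Fin s → ℕ) (hdeg : ∀ i, 0 < deg i) (hf : ∀ i, f i ∈ 𝒜 (deg i))
    (hgen : Algebra.adjoin R (Set.range f) = ⊤) (a : ℕ) (ha : 0 < a) :
    (⨆ g : 𝒜 (a * Finset.univ.lcm deg), Proj.basicOpen 𝒜 (g : A)) = ⊤ := by
  rw [eq_top_iff]
  rintro x -
  rw [TopologicalSpace.Opens.mem_iSup]
  obtain ⟨i, hi⟩ : ∃ i, f i ∉ x.asHomogeneousIdeal := by
    by_contra! h
    apply x.not_irrelevant_le
    intro b hb
    rw [HomogeneousIdeal.mem_irrelevant_iff, GradedRing.proj_apply] at hb
    have key : ∀ c ∈ Algebra.adjoin R (Set.range f), ∃ r : R, c - algebraMap R A r ∈ x.asHomogeneousIdeal.toIdeal := by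
      intro c hc
      induction hc using Algebra.adjoin_induction with
      | mem c hc =>
        obtain ⟨i, rfl⟩ := hc
        exact ⟨0, by simpa using h i⟩
      | algebraMap r => exact ⟨r, by simp⟩
      | add c d _ _ hc hd =>
        obtain ⟨r, hr⟩ := hc
        obtain ⟨t, ht⟩ := hd
        refine ⟨r + t, ?_⟩
        have := add_mem hr ht
        rw [map_add]
        convert this using 1
        ring
      | mul c d _ _ hc hd =>
        obtain ⟨r, hr⟩ := hc
        obtain ⟨t, ht⟩ := hd
        refine ⟨r * t, ?_⟩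
        have := add_mem (Ideal.mul_mem_right d _ hr) (Ideal.mul_mem_left _ (algebraMap R A r) ht)
        rw [map_mul]
        convert this using 1
        ring
    obtain ⟨r, hr⟩ := key b (by rw [hgen]; trivial)
    have h0 := x.asHomogeneousIdeal.isHomogeneous 0 hr
    have hr0 : algebraMap R A r ∈ 𝒜 0 := SetLike.algebraMap_mem_graded 𝒜 r
    rw [DirectSum.decompose_sub, DirectSum.sub_apply, AddSubgroupClass.coe_sub, hb,
      DirectSum.decompose_of_mem_same 𝒜 hr0, zero_sub, neg_mem_iff] at h0
    have := add_mem hr h0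
    rwa [sub_add_cancel] at this
  obtain ⟨c, hc⟩ : deg i ∣ a * Finset.univ.lcm deg := Dvd.dvd.mul_left (Finset.dvd_lcm (Finset.mem_univ i)) a
  refine ⟨⟨f i ^ c, by
    have := SetLike.pow_mem_graded c (hf i)
    rwa [smul_eq_mul, mul_comm c, ← hc] at this⟩, ?_⟩
  exact fun hmem => hi (x.isPrime.mem_of_pow_mem c hmem)

end Groth.Agent.S13168
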