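import Groth.Statements.S7388
import Groth.Agent.S7389
import Mathlib.AlgebraicGeometry.ProjectiveSpectrum.Basic

set_option autoImplicit false
set_option backward.isDefEq.respectTransparency false
set_option backward.isDefEq.respectTransparency.types false
universe u
open CategoryTheory AlgebraicGeometry
open Mor

namespace Groth.Agent.S7388

variable {R A : Type u} [CommRing R] [CommRing A] [Algebra R A] {𝒜 : ℕ → Submodule R A} [GradedAlgebra 𝒜]

theorem exists_not_mem (x : ProjectiveSpectrum 𝒜) :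
    ∃ n h, 0 < n ∧ h ∈ 𝒜 n ∧ h ∉ x.asHomogeneousIdeal := by
  classical
  by_contra hc
  push Not at hc
  refine x.not_irrelevant_le fun a ha => ?_
  rw [← DirectSum.sum_support_decompose 𝒜 a]
  refine Ideal.sum_mem x.asHomogeneousIdeal.toIdeal fun i _ => ?_
  rcases Nat.eq_zero_or_pos i with rfl | hi
  · have h0 : GradedRing.proj 𝒜 0 a = 0 := ha
    rw [GradedRing.proj_apply] at h0
    rw [h0]
    exact zero_mem _
  · exact hc i _ hi (DirectSum.decompose 𝒜 a i).2

theorem avoid (T : Finset (ProjectiveSpectrum 𝒜)) :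
    ∃ n f, 0 < n ∧ f ∈ 𝒜 n ∧ ∀ x ∈ T, f ∉ x.asHomogeneousIdeal := by
  classical
  induction T using Finset.strongInductionOn with
  | _ T ih =>
    rcases T.eq_empty_or_nonempty with rfl | ⟨r, hr⟩
    · exact ⟨1, 0, Nat.one_pos, zero_mem _, fun x hx => absurd hx (Finset.notMem_empty _)⟩
    by_cases hcomp : ∃ a ∈ T, ∃ b ∈ T, a ≠ b ∧ a.asHomogeneousIdeal ≤ b.asHomogeneousIdeal
    · obtain ⟨a, ha, b, hb, hab, hle⟩ := hcomp
      obtain ⟨n, f, hn, hf, hfT⟩ := ih (T.erase a) (Finset.erase_ssubset ha)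
      refine ⟨n, f, hn, hf, fun x hx => ?_⟩
      by_cases hxa : x = a
      · subst hxa
        exact fun h => hfT b (Finset.mem_erase.2 ⟨fun h => hab h.symm, hb⟩) (hle h)
      · exact hfT x (Finset.mem_erase.2 ⟨hxa, hx⟩)
    obtain ⟨n, f, hn, hf, hfT⟩ := ih (T.erase r) (Finset.erase_ssubset hr)
    by_cases hfr : f ∈ r.asHomogeneousIdeal
    swap
    · refine ⟨n, f, hn, hf, fun x hx => ?_⟩
      by_cases hxr : x = r
      · subst hxr; exact hfr
      · exact hfT x (Finset.mem_erase.2 ⟨hxr, hx⟩)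
    have hsel : ∀ x ∈ T.erase r, ∃ d g, g ∈ 𝒜 d ∧ g ∈ x.asHomogeneousIdeal ∧ g ∉ r.asHomogeneousIdeal := by
      intro x hx
      obtain ⟨hxr, hxT⟩ := Finset.mem_erase.1 hx
      have hnle : ¬ x.asHomogeneousIdeal ≤ r.asHomogeneousIdeal := fun h => hcomp ⟨x, hxT, r, hr, hxr, h⟩
      by_contra hc
      push Not at hc
      refine hnle fun a ha => ?_
      rw [← DirectSum.sum_support_decompose 𝒜 a]
      exact Ideal.sum_mem r.asHomogeneousIdeal.toIdeal fun i _ =>
        hc i _ (DirectSum.decompose 𝒜 a i).2 (x.asHomogeneousIdeal.isHomogeneous i ha)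
    choose! d g hg hgx hgr using hsel
    obtain ⟨m, h, hm, hh, hhr⟩ := exists_not_mem r
    have he : h * ∏ x ∈ T.erase r, g x ∈ 𝒜 (m + ∑ x ∈ T.erase r, d x) :=
      SetLike.mul_mem_graded hh (SetLike.prod_mem_graded 𝒜 d g fun x hx => hg x hx)
    let e := h * ∏ x ∈ T.erase r, g x
    let M := m + ∑ x ∈ T.erase r, d x
    have her : e ∉ r.asHomogeneousIdeal := fun h' => by
      rcases r.isPrime.mem_or_mem h' with h' | h'
      · exact hhr h'
      · obtain ⟨x, hx, hx'⟩ := r.isPrime.prod_mem_iff.1 h'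
        exact hgr x hx hx'
    have hex : ∀ x ∈ T.erase r, e ∈ x.asHomogeneousIdeal := fun x hx =>
      Ideal.mul_mem_left _ h (Ideal.mem_of_dvd _ (Finset.dvd_prod_of_mem g hx) (hgx x hx))
    refine ⟨M * n, f ^ M + e ^ n, Nat.mul_pos (Nat.add_pos_left hm _) hn, ?_, fun x hx => ?_⟩
    · refine add_mem ?_ ?_
      · simpa [smul_eq_mul] using SetLike.pow_mem_graded M hf
      · have := SetLike.pow_mem_graded n he
        simpa [smul_eq_mul, mul_comm n] using this
    · by_cases hxr : x = r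
      · subst hxr
        intro hmem
        have h1 : f ^ M ∈ x.asHomogeneousIdeal.toIdeal :=
          Ideal.pow_mem_of_mem _ hfr _ (Nat.add_pos_left hm _)
        exact her (x.isPrime.mem_of_pow_mem n ((Ideal.add_mem_iff_right _ h1).1 hmem))
      · intro hmem
        have hx' : x ∈ T.erase r := Finset.mem_erase.2 ⟨hxr, hx⟩
        have h1 : e ^ n ∈ x.asHomogeneousIdeal.toIdeal := Ideal.pow_mem_of_mem _ (hex x hx') _ hn
        exact hfT x hx' (x.isPrime.mem_of_pow_mem M ((Ideal.add_mem_iff_left _ h1).1 hmem))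


/-- Let `X` be a scheme admitting an immersion into `Proj S` for some graded ring `S`. Then any finite
set of points of `X` is contained in an affine open of `X`. -/
theorem result {R A : Type u} [CommRing R] [CommRing A] [Algebra R A]
    (𝒜 : ℕ → Submodule R A) [GradedAlgebra 𝒜] {X : Scheme.{u}} (ι : X ⟶ Proj 𝒜) [IsImmersion ι]
    (E : Set X) (hE : E.Finite) :
    ∃ U : X.Opens, IsAffineOpen U ∧ E ⊆ U := by
  classical
  obtain ⟨n, f, hn, hf, hfE⟩ := avoid ((hE.image ι).toFinset : Finset (ProjectiveSpectrum 𝒜))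
  let D : (Proj 𝒜).Opens := Proj.basicOpen 𝒜 f
  have hD : IsAffineOpen D := Proj.isAffineOpen_basicOpen 𝒜 f hf hn
  haveI : IsAffine (D : Scheme.{u}) := hD
  haveI : IsImmersion (ι ∣_ D) := IsZariskiLocalAtTarget.restrict ‹IsImmersion ι› D
  have hED : ∀ x ∈ E, x ∈ ι ⁻¹ᵁ D := fun x hx => by
    show ι x ∈ D
    rw [Proj.mem_basicOpen]
    exact hfE _ ((hE.image ι).mem_toFinset.2 ⟨x, hx, rfl⟩)
  obtain ⟨U, hU, hEU⟩ := Groth.Agent.S7389.result (ι ∣_ D) ((ι ⁻¹ᵁ D).ι ⁻¹' E)
    (hE.preimage (ι ⁻¹ᵁ D).ι.isEmbedding.injective.injOn)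
  refine ⟨(ι ⁻¹ᵁ D).ι ''ᵁ U, hU.image_of_isOpenImmersion _, fun x hx => ⟨⟨x, hED x hx⟩, hEU hx, rfl⟩⟩

end Groth.Agent.S7388
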