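import Groth.Statements.S1509
import Groth.Agent.PerfMor.Scheme
import Groth.Agent.KRegLib.Perfect
import Groth.Agent.S15821

set_option autoImplicit false
universe u
attribute [local instance] HasDerivedCategory.standard
open FlatMor

namespace Groth.Agent.S1509

open AlgebraicGeometry CategoryTheory Limits in
/-- A regular closed immersion (kernel ideal locally generated by a regular sequence) is a perfect
morphism. -/
theorem result {Z X : Scheme.{u}} (i : Z ⟶ X) (hi : Mor2.IsRegularClosedImmersion i) : MoreMor.IsPerfectMor i := by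
  haveI := hi.1
  rw [Groth.Agent.PerfMor.perfMor_iff_exists]
  intro z
  obtain ⟨U, hU, hz, rs, hrs, hI⟩ := hi.2 z
  refine ⟨⟨U, hU⟩, ⟨i ⁻¹ᵁ U, hU.preimage i⟩, hz, le_rfl, ?_⟩
  show Groth.Agent.PerfMor.PQ (i.appLE U (i ⁻¹ᵁ U) le_rfl).hom
  rw [← Scheme.Hom.app_eq_appLE]
  let A := Γ(X, U)
  let B := Γ(Z, i ⁻¹ᵁ U)
  letI : Algebra A B := (i.app U).hom.toAlgebra
  have hs : Function.Surjective (algebraMap A B) := i.app_surjective U hU
  rw [Scheme.Hom.ker_apply] at hI
  have hker : RingHom.ker (algebraMap A B) = Ideal.span {x | x ∈ rs} := hI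
  have hp : DRing.IsPerfectModule A B := by
    refine Groth.Agent.KRegLib.isPerfectModule_congr ?_
      (Groth.Agent.KRegLib.isPerfectModule_of_seq rs (Groth.Agent.S15821.result A rs hrs.toIsWeaklyRegular).1)
    exact ((Ideal.quotientEquivAlgOfEq A hker.symm).trans
      (Ideal.quotientKerAlgEquivOfSurjective (f := Algebra.ofId A B) hs)).toLinearEquiv
  haveI : Module.Finite A B := Module.Finite.of_surjective (Algebra.linearMap A B) hs
  show Groth.Agent.PerfMor.PQ (algebraMap A B)
  exact ⟨Groth.Agent.PCMor.q_iff_of_finite.2 ((Groth.Agent.H9Misc.DRingPerfect.isPerfect_iff _).1 hp).1,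
    Groth.Agent.PerfMor.ftd_algebraMap_iff.2 (Groth.Agent.KRegLib.hasFiniteTorDim_of_perfect B hp)⟩

end Groth.Agent.S1509
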