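import Groth.Statements.S1515
import Groth.Agent.KRegLib.Closed
import Groth.Agent.S1509
import Groth.Agent.S2206
import Groth.Agent.PerfMor.Scheme

set_option autoImplicit false
universe u
attribute [local instance] HasDerivedCategory.standard
open FlatMor

namespace Groth.Agent.S1515

open AlgebraicGeometry CategoryTheory Limits in
/-- (1) ⇔ (2) ⇔ (4): let f : X → Y be separated and of finite type between locally Noetherian schemes,
with diagonal Δ (a closed immersion). Then f is smooth iff f is flat and Δ is a regular closed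
immersion, iff f is flat and Δ is a perfect morphism. -/
theorem result {X Y : Scheme.{u}} (f : X ⟶ Y) [IsSeparated f] [LocallyOfFiniteType f] [QuasiCompact f] [IsLocallyNoetherian X] [IsLocallyNoetherian Y] :
    (Smooth f ↔ Flat f ∧ Mor2.IsRegularClosedImmersion (pullback.diagonal f)) ∧
    (Smooth f ↔ Flat f ∧ MoreMor.IsPerfectMor (pullback.diagonal f)) := by
  open Groth.Agent in
  have h1 : Smooth f → Flat f ∧ Mor2.IsRegularClosedImmersion (pullback.diagonal f) := by
    intro hs
    haveI := hs
    haveI : Smooth (pullback.fst f f) := inferInstance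
    haveI : IsLocallyNoetherian (pullback f f) := LocallyOfFiniteType.isLocallyNoetherian (pullback.fst f f)
    refine ⟨inferInstance, KRegLib.regClosed_of_isKoszulAt _
      (KRegLib.isKoszulAt_of_comp_smooth (pullback.diagonal f) (pullback.fst f f) ?_)⟩
    rw [pullback.diagonal_fst]
    refine (KRegLib.forall_isKoszulAt_iff (𝟙 X)).2 ?_
    rw [HasRingHomProperty.iff_appLE (P := KRegLib.IsLCI'.{u})]
    intro U V e
    letI := ((𝟙 X : X ⟶ X).appLE U V e).hom.toAlgebra
    haveI : Algebra.Smooth Γ(X, U) Γ(X, V) := (𝟙 X : X ⟶ X).smooth_appLE U.2 V.2 e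
    exact KRegLib.isLCI_of_smooth
  have h2 : Flat f → MoreMor.IsPerfectMor (pullback.diagonal f) → Smooth f := by
    intro hfl hp
    haveI := hfl
    rw [HasRingHomProperty.iff_appLE (P := @Smooth)]
    rintro ⟨V, hV⟩ ⟨U, hU⟩ e
    let A := Γ(Y, V)
    let B := Γ(X, U)
    letI : Algebra A B := (f.appLE V U e).hom.toAlgebra
    haveI : Module.Flat A B := HasRingHomProperty.appLE @Flat f inferInstance ⟨V, hV⟩ ⟨U, hU⟩ e
    haveI : Algebra.FiniteType A B :=
      HasRingHomProperty.appLE @LocallyOfFiniteType f inferInstance ⟨V, hV⟩ ⟨U, hU⟩ e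
    haveI : IsNoetherianRing A := IsLocallyNoetherian.component_noetherian ⟨V, hV⟩
    let φ := Spec.map (CommRingCat.ofHom (algebraMap A B))
    let j : Spec (CommRingCat.of B) ⟶ X := hU.fromSpec
    let k : Spec (CommRingCat.of A) ⟶ Y := hV.fromSpec
    haveI : IsOpenImmersion j := hU.isOpenImmersion_fromSpec
    haveI : IsOpenImmersion k := hV.isOpenImmersion_fromSpec
    have hw : φ ≫ k = j ≫ f := IsAffineOpen.SpecMap_appLE_fromSpec f hV hU e
    let m := pullback.map φ φ f f j j k hw hw
    have hm1 : m ≫ pullback.fst f f = pullback.fst φ φ ≫ j := pullback.lift_fst _ _ _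
    have hm2 : m ≫ pullback.snd f f = pullback.snd φ φ ≫ j := pullback.lift_snd _ _ _
    have hsq : IsPullback j (pullback.diagonal φ) (pullback.diagonal f) m := by
      refine ⟨⟨by ext <;> simp [hm1, hm2, pullback.diagonal_fst_assoc, pullback.diagonal_snd_assoc]⟩, ⟨PullbackCone.IsLimit.mk _ (fun s => s.snd ≫ pullback.fst _ _) ?_ ?_ ?_⟩⟩
      · intro s
        have h1 := congrArg (· ≫ pullback.fst f f) s.condition
        simp only [hm1, hm2, Category.assoc, pullback.diagonal_fst, Category.comp_id, pullback.lift_fst] at h1
        rw [Category.assoc]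
        exact h1.symm
      · intro s
        have h1 := congrArg (· ≫ pullback.fst f f) s.condition
        have h2 := congrArg (· ≫ pullback.snd f f) s.condition
        simp only [hm1, hm2, Category.assoc, pullback.diagonal_fst, pullback.diagonal_snd, Category.comp_id,
          pullback.lift_fst, pullback.lift_snd] at h1 h2
        ext
        · simp
        · rw [Category.assoc, Category.assoc, pullback.diagonal_snd, Category.comp_id, ← cancel_mono j,
            Category.assoc, ← h1, h2, Category.assoc]
      · intro s a h1 h2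
        rw [← h2]
        simp
    haveI : Flat m := by
      haveI : IsOpenImmersion m := inferInstance
      infer_instance
    have h3 : MoreMor.IsPerfectMor (pullback.diagonal φ) := PerfMor.perfMor_baseChange _ _ j m hsq hp
    rw [show pullback.diagonal φ = _ from diagonal_SpecMap A B] at h3
    have h4 : PerfMor.PerfP (Spec.map (CommRingCat.ofHom
        (Algebra.TensorProduct.lmul' A : TensorProduct A B B →ₐ[A] B).toRingHom) ≫
          (pullbackSpecIso A B B).inv) := h3
    rw [MorphismProperty.cancel_right_of_respectsIso (P := PerfMor.PerfP),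
      HasRingHomProperty.Spec_iff (P := PerfMor.PerfP)] at h4
    letI : Algebra (TensorProduct A B B) B :=
      (Algebra.TensorProduct.lmul' A : TensorProduct A B B →ₐ[A] B).toRingHom.toAlgebra
    show (algebraMap A B).Smooth
    rw [RingHom.smooth_algebraMap]
    exact Groth.Agent.S2206.result (fun x y => Algebra.TensorProduct.lmul'_apply_tmul x y)
      (PerfMor.ftd_algebraMap_iff.1 h4.2)
  exact ⟨⟨h1, fun h => h2 h.1 (Groth.Agent.S1509.result _ h.2)⟩,
    ⟨fun hs => ⟨(h1 hs).1, Groth.Agent.S1509.result _ (h1 hs).2⟩, fun h => h2 h.1 h.2⟩⟩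

end Groth.Agent.S1515
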