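import Groth.Statements.S8657
import Groth.Agent.KRegLib.TwoImm
import Groth.Agent.RegImmLib.Basic
import Groth.Agent.RegConormal.Split2

set_option autoImplicit false
universe u
open CategoryTheory CategoryTheory.Limits AlgebraicGeometry
open Synt

namespace Groth.Agent.S8657

/-- Let i : X ⟶ V and j : X ⟶ V' be immersions and p : V' ⟶ V a smooth morphism with j ≫ p = i. Then i
is a Koszul-regular immersion if and only if j is. -/
theorem result {X V V' : Scheme.{u}} (i : X ⟶ V) [IsImmersion i] (j : X ⟶ V') [IsImmersion j]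
    (p : V' ⟶ V) [Smooth p] (h : j ≫ p = i) :
    RegImm.IsRegularImmersion .koszul i ↔ RegImm.IsRegularImmersion .koszul j := by
  have hkey : ∀ {U P : Scheme.{u}} (f : U ⟶ P) [IsImmersion f] (u : U),
      (∃ O : U.Opens, u ∈ O ∧ RegImm.IsRegularImmersion .koszul (O.ι ≫ f)) → RegImm.IsRegularImmersionAt .koszul f u := by
    rintro U P f _ u ⟨O, huO, -, hreg⟩
    obtain ⟨O₁, hO₁, hO₁O⟩ := f.isEmbedding.isInducing.isOpen_iff.1 O.2
    obtain ⟨W, hW, huW, hWO, hci⟩ := KRegLib.exists_affine_isClosedImmersion_restrict f u ⟨O₁, hO₁⟩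
      (hO₁O.ge huO : u ∈ f ⁻¹' O₁)
    haveI := hci
    have hWV : f ⁻¹ᵁ W ≤ O := fun y hy => hO₁O.le (hWO hy)
    haveI := KRegLib.isClosedImmersion_restrict_comp_ι f O hWV
    have h1 := KRegLib.kReg_of_regImmAt (O.ι ≫ f) ⟨u, huO⟩ (hreg ⟨u, huO⟩) hW (show f u ∈ W from huW)
    rw [KRegLib.ker_app_comp_ι f O hWV] at h1
    have h1' : KRegLib.KReg (RingHom.ker (f.app W).hom) (hW.primeIdealOf ⟨f u, huW⟩).asIdeal := h1
    obtain ⟨G, hG, hon⟩ := h1'.exists_on
    letI : Algebra Γ(P, W) Γ(P, P.basicOpen G) := (P.presheaf.map (homOfLE (P.basicOpen_le G)).op).hom.toAlgebra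
    haveI : IsLocalization.Away G Γ(P, P.basicOpen G) := hW.isLocalization_basicOpen G
    haveI : Module.Flat Γ(P, W) Γ(P, P.basicOpen G) := IsLocalization.flat _ (Submonoid.powers G)
    obtain ⟨n, fs, hfs, hfI⟩ := hon Γ(P, P.basicOpen G) (IsLocalization.Away.algebraMap_isUnit G)
    exact RegConormal.at_of_basicOpen f u .koszul hW huW hci G hG fs
      (KoszulFlatLib.isKoszulRegularSeq_of_isExact hfs) hfI
  haveI : IsIso (⊤ : X.Opens).ι := by rw [← Scheme.topIso_hom]; infer_instance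
  constructor
  · intro hi
    refine ⟨inferInstance, fun x => hkey j x (KRegLib.exists_regImm_transfer i (𝟙 V) p i j (Category.comp_id i) h x
      ⟨⊤, trivial, inferInstance, fun y => ?_⟩)⟩
    obtain ⟨n, hn⟩ := (RegImmLib.isRegularImmersionAt_iff i _).1 (hi.2 ((⊤ : X.Opens).ι y))
    exact (RegImmLib.isRegularImmersionAt_iff _ y).2 ⟨n, RegImmLib.IsKoszulAtLength.baseChange (g := 𝟙 V)
      (IsPullback.of_horiz_isIso ⟨by rw [Category.comp_id]⟩) y hn⟩
  · intro hj
    refine ⟨inferInstance, fun x => hkey i x (KRegLib.exists_regImm_transfer i p (𝟙 V) j i h (Category.comp_id i) x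
      ⟨⊤, trivial, inferInstance, fun y => ?_⟩)⟩
    obtain ⟨n, hn⟩ := (RegImmLib.isRegularImmersionAt_iff j _).1 (hj.2 ((⊤ : X.Opens).ι y))
    exact (RegImmLib.isRegularImmersionAt_iff _ y).2 ⟨n, RegImmLib.IsKoszulAtLength.baseChange (g := 𝟙 V')
      (IsPullback.of_horiz_isIso ⟨by rw [Category.comp_id]⟩) y hn⟩


end Groth.Agent.S8657
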