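import Groth.Statements.S16491
import Groth.Agent.H23.PrincipalGlobal
import Groth.Agent.S2821
-- import your own Groth.Agent.* helpers here

set_option autoImplicit false
universe u
open CategoryTheory CategoryTheory.Limits AlgebraicGeometry TopologicalSpace
open VBPn

set_option backward.isDefEq.respectTransparency false
set_option backward.isDefEq.respectTransparency.types false

namespace Groth.Agent.S16491

/-- Let X be an integral locally Noetherian scheme all of whose local rings are regular, and F a
coherent O_X-module which is reflexive (the canonical map F → F^** is an isomorphism) and of rank 1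
(F restricts to an invertible module on some dense open subset of X). Then F is invertible: every
point has an open neighbourhood on which F is isomorphic to the structure sheaf. The published
statement is for reflexive coherent analytic sheaves of rank 1 on a complex manifold; this row is
its statement on a regular integral locally Noetherian scheme, whose local rings are factorial as
the argument requires. -/
theorem result (X : Scheme.{u}) [IsIntegral X] [IsLocallyNoetherian X]
    (hreg : ∀ x : X, IsRegularLocalRing (X.presheaf.stalk x)) (F : X.Modules) (hF : Coh.IsCoh F)
    (hrefl : RefHull.IsReflexive F) (hrk : RefHull.GenInvertible F) :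
    PicF.IsInvertible F := by
  have hU : ∀ x : X, UniqueFactorizationMonoid (X.presheaf.stalk x) := fun x => by
    haveI := hreg x
    exact (Groth.Agent.S2821.result (X.presheaf.stalk x)).2
  have hX := Groth.Agent.H23.PrincipalGlobal.normal_of_ufd hU
  have hR : RefHull.IsRef1 F := ⟨hF, hrefl, hrk⟩
  obtain ⟨U, hη, e, he⟩ := Groth.Agent.RefX.hasFrames_of_isRef1 hX hR (genericPoint X)
    (by rw [Groth.Agent.RefX.coheight_genericPoint]; exact zero_le)
  let D : X → ℤ := fun z => Cyc.secOrdAt F (genericPoint X) z (Groth.Agent.RefX.specializes_genericPoint z)
    (Groth.Agent.RefX.clsη F (F.presheaf.germ U (genericPoint X) hη e))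
  have hfin : Groth.Agent.H23.PrincipalAt.LocFin D := by
    intro V hV
    refine (Groth.Agent.RefX.finite_coheight_one_notMem hV (W := U) hη).subset ?_
    rintro z ⟨hzV, hz1, hz⟩
    refine ⟨hzV, hz1, fun hzU => hz ?_⟩
    have h1 := Groth.Agent.RefX.secOrd_frame he hzU hz1 (one_ne_zero (α := X.functionField))
    have h3 := Scheme.ord_mul (x := z) (one_ne_zero (α := X.functionField)) one_ne_zero
    rw [mul_one] at h3
    refine Eq.trans ?_ (h1.trans (by linarith))
    show Cyc.secOrdAt F _ z _ _ = _
    congr 2
    exact (one_smul (X.presheaf.stalk (genericPoint X)) _).symm
  exact Groth.Agent.H23.PrincipalAt.isInvertible_of_principal hX hR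
    (Groth.Agent.RefX.germ_frame_ne_zero he hη) (D := D) (fun z _ => rfl) hfin
    (Groth.Agent.H23.PrincipalAt.principalAt_of_ufd hX hU hfin)


end Groth.Agent.S16491
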