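import Groth.Statements.S9773
import Mathlib
import Groth.Agent.Synt29.KoszulLocal

set_option autoImplicit false
universe u
open FlatMor

namespace Groth.Agent.S9773

open AlgebraicGeometry CategoryTheory Limits in
/-- A regular immersion of schemes, and likewise a Koszul-regular immersion, is a local complete
intersection morphism (Koszul at every point). -/
theorem result {Z X : Scheme.{u}} (i : Z ⟶ X) (k : RegImm.Kind)
    (hk : k = RegImm.Kind.regular ∨ k = RegImm.Kind.koszul) (hi : RegImm.IsRegularImmersion k i) (z : Z) :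
    Synt.IsKoszulAt i z := by
  have hk' : RegImm.IsRegularImmersion .koszul i := by
    rcases hk with rfl | rfl
    · refine ⟨hi.1, fun z => ?_⟩
      obtain ⟨U, hU, hc, rs, hrs, hker⟩ := hi.2 z
      refine ⟨U, hU, hc, rs, ?_, hker⟩
      refine Groth.Agent.Synt29.isKoszulRegularSeq_of_local rs fun q hq _ => ?_
      intro _
      have h1 : RingTheory.Sequence.IsWeaklyRegular Γ(X, U.1) rs :=
        (hrs : RingTheory.Sequence.IsRegular Γ(X, U.1) rs).toIsWeaklyRegular
      exact h1.of_isLocalization (Localization.AtPrime q) q.primeCompl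
    · exact hi
  haveI := hi.1
  haveI : IsIso (⊤ : Z.Opens).ι := by rw [← Scheme.topIso_hom]; infer_instance
  refine ⟨⊤, X, (⊤ : Z.Opens).ι ≫ i, 𝟙 X, trivial, inferInstance, ⟨inferInstance, fun z => ?_⟩,
    inferInstance, Category.comp_id _⟩
  obtain ⟨U, hU, hc, rs, hrs, hker⟩ := hk'.2 ((⊤ : Z.Opens).ι z)
  refine ⟨U, hU, ?_, rs, hrs, ?_⟩
  · rw [morphismRestrict_comp]
    haveI := hc
    haveI : IsIso ((⊤ : Z.Opens).ι ∣_ i ⁻¹ᵁ U.1) :=
      IsZariskiLocalAtTarget.restrict (P := MorphismProperty.isomorphisms Scheme.{u}) ‹IsIso (⊤ : Z.Opens).ι› _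
    exact (MorphismProperty.cancel_left_of_respectsIso @IsClosedImmersion ((⊤ : Z.Opens).ι ∣_ i ⁻¹ᵁ U.1)
      (i ∣_ U.1)).2 hc
  · rw [← hker]
    have hinj := (ConcreteCategory.bijective_of_isIso ((⊤ : Z.Opens).ι.app (i ⁻¹ᵁ U.1))).1
    ext a
    refine ⟨fun h => hinj ((?_ : _ = _).trans (map_zero _).symm), fun h => ?_⟩
    · exact h
    · show (⊤ : Z.Opens).ι.app (i ⁻¹ᵁ U.1) (i.app U.1 a) = 0
      have h' : i.app U.1 a = 0 := h
      exact (congrArg _ h').trans (map_zero _)

end Groth.Agent.S9773
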