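import Groth.Statements.S1533
import Groth.Agent.CurveCohLib.GlobGen
-- import your own Groth.Agent.* helpers here

set_option autoImplicit false
universe u
open CategoryTheory CategoryTheory.Limits AlgebraicGeometry
open Curves

namespace Groth.Agent.S1533

/-- Let X be a proper integral one-dimensional scheme over k whose global functions are k, of genus g.
Every invertible module of degree at least 2g is globally generated. -/
theorem result (k : Type u) [Field k] (X : Scheme.{u}) [X.Over (Spec (CommRingCat.of k))]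
    [IsProper (X ↘ (Spec (CommRingCat.of k)))] [IsIntegral X] (hdim : topologicalKrullDim X = 1)
    (h0 : Module.finrank k (Coh.HH X (Coh.structureModule X) 0) = 1)
    (L : X.Modules) (hL : PicF.IsInvertible L) (hdeg : 2 * (Curv2.genus k X : ℤ) ≤ Curv2.deg k X L 1) :
    Curv2.IsGloballyGenerated L := by
  haveI := Groth.Agent.CurveCohLib.isNoetherian_of_proper (k := k) (X := X)
  have hLc := Groth.Agent.CurveDeg.isCoh_of_isInvertible hL
  have hO := Groth.Agent.CurveCohLib.Nonspecial.euler_structure k hdim h0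
  have hh := Groth.Agent.CurveRR.euler_eq_h0_sub_h1 k hdim.le hLc.1
  have hdeg' := hdeg
  unfold Curv2.deg at hdeg'
  push_cast at hdeg'
  have hbig : Curv2.genus k X < Module.finrank k (Coh.HH X L 0) := by omega
  refine Groth.Agent.CurveCohLib.GlobGen.isGloballyGenerated k hdim hL
    (Groth.Agent.CurveRR.exists_hom_ne_zero (P := L) k (by omega)) fun x hx => ?_
  by_contra hall
  simp only [not_exists, not_not] at hall
  set Z := Scheme.IdealSheafData.vanishingIdeal ⟨{x}, hx⟩ with hZ
  have hsupp : (Z.support : Set X) = {x} := by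
    rw [hZ]
    simp [Scheme.IdealSheafData.coe_support_vanishingIdeal]
  have hL1 := Groth.Agent.InvEnd.isFinLocFreeOfRank_one hL
  have hLf : FlatMod.IsFinLocFree L := fun y => let ⟨W, hy, he⟩ := hL1 y; ⟨W, 1, hy, he⟩
  have hS := Groth.Agent.CurveTensor.shortExact_tensor hLf _ _ _ (Groth.Agent.CurveCohLib.Nonspecial.ideal_shortExact Z)
  have hker := Groth.Agent.CurveCohLib.ker_mapLin_g k hS 0
  haveI := Groth.Agent.CurveCohLib.finite_HH (k := k) (Groth.Agent.CurveCohLib.Nonspecial.isCoh_twist k Z hL) 0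
  have hsurj : LinearMap.range (Groth.Agent.PnCoh.Finite.mapLin k ((DCoh.tensorBi.obj L).map (ClSub.idealModι Z)) 0) = ⊤ := by
    refine eq_top_iff.2 fun t _ => ?_
    exact hker.le (LinearMap.mem_ker.2 (hall t))
  have hle := LinearMap.finrank_range_le (Groth.Agent.PnCoh.Finite.mapLin k ((DCoh.tensorBi.obj L).map (ClSub.idealModι Z)) 0)
  rw [hsurj, finrank_top, (Groth.Agent.CurveCohLib.hhEquiv (k := k) (Groth.Agent.KFlatLib.tensorUnitIso L) 0).finrank_eq] at hle
  haveI := Groth.Agent.CurveCohLib.Nonspecial.h1_of_sections k hdim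
    (Groth.Agent.CurveCohLib.Nonspecial.isCoh_twist k Z hL)
    (Groth.Agent.CurveCohLib.Nonspecial.section_twist k Z hL) (lt_of_lt_of_le hbig hle)
  have hQc := Groth.Agent.CurveTensor.isCoh_tensor hLf (Groth.Agent.ParShLib.isCoh_quotMod Z)
  have hclQ : ∀ y ∈ CohB1.support (ClSub.quotMod Z), IsClosed ({y} : Set X) := fun y hy => by
    have hy' : y ∈ (Z.support : Set X) := not_not.1 fun h => hy (Groth.Agent.ParShLib.subsingleton_stalk_quotMod Z h)
    rw [hsupp] at hy'
    rwa [Set.mem_singleton_iff.1 hy']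
  have hclT : ∀ y ∈ CohB1.support ((DCoh.tensorBi.obj L).obj (ClSub.quotMod Z)), IsClosed ({y} : Set X) :=
    fun y hy => hclQ y (Groth.Agent.CurveTensor.support_tensor_subset hy)
  haveI : Subsingleton (Coh.HH X ((DCoh.tensorBi.obj L).obj (ClSub.quotMod Z)) 0) := by
    refine subsingleton_of_forall_eq 0 fun q => ?_
    obtain ⟨t, rfl⟩ := (Groth.Agent.CurveCohLib.ker_deltaLin k hS 0).le (LinearMap.mem_ker.2
      (Subsingleton.elim (Groth.Agent.PnCoh.Finite.deltaLin k hS 0 q) 0))
    exact hall t
  have hχ := Groth.Agent.CurveCohLib.euler_eq_finrank_zero (k := k) hQc hclT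
  rw [Module.finrank_zero_of_subsingleton (M := Coh.HH X ((DCoh.tensorBi.obj L).obj (ClSub.quotMod Z)) 0),
    Groth.Agent.CurveTensor.euler_tensor_torsion k hL1 (Groth.Agent.ParShLib.isCoh_quotMod Z) hclQ] at hχ
  have hQ0 := Groth.Agent.CurveCohLib.isZero_of_euler_eq_zero (k := k) (Groth.Agent.ParShLib.isCoh_quotMod Z) hclQ (by simpa using hχ)
  refine Groth.Agent.CurveCohLib.GlobGen.nontrivial_stalk_quotMod Z (x := x) ?_ ?_
  · show x ∈ (Z.support : Set X)
    rw [hsupp]; rfl
  · exact ModuleCat.subsingleton_of_isZero ((DerSch.stalkFunctor X x).map_isZero hQ0)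

end Groth.Agent.S1533
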