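import Groth.Statements.S3254
import Groth.Agent.H26.Castel.Main
import Groth.Agent.SchTop.Closed
import Groth.Agent.ProjNorm6.Basic

set_option autoImplicit false
universe u
open AlgebraicGeometry CategoryTheory CategoryTheory.Limits
open ArSurf

namespace Groth.Agent.S3254

/-- Castelnuovo's criterion, existence of the contraction: let R be a discrete valuation ring with
residue field k, X an arithmetic surface over Spec R, and E a vertical prime divisor of X over the
closed point such that, for some finite field extension k' of k, E is k-isomorphic to the projective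
line over k', and E · E = −[k' : k], where E · E = deg_k(L|_E) for an invertible L with L ⊗ I(E) ≅
O_X. Then there are an arithmetic surface Y over Spec R, an R-morphism f : X → Y and a closed point
y of Y such that f maps E onto y, the inverse image of Y minus y is exactly X minus E, and f
restricts to an isomorphism from X minus E onto Y minus y. -/
theorem result (R : Type u) [CommRing R] [IsDomain R] [IsDiscreteValuationRing R]
    (X : Over (Spec (CommRingCat.of R))) (hX : ArSurf.IsArithSurface R X) (E : ArSurf.VertComp R X)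
    (k' : Type u) [Field k'] [Algebra (IsLocalRing.ResidueField R) k'] [FiniteDimensional (IsLocalRing.ResidueField R) k']
    (e : E.curve.left ≅ CohB1.ProjSpace 1 k')
    (he : e.hom ≫ (CohB1.ProjSpace 1 k' ↘ Spec (CommRingCat.of k')) ≫
      Spec.map (CommRingCat.ofHom (algebraMap (IsLocalRing.ResidueField R) k')) = E.curve.hom)
    (L : X.left.Modules) (hL : ClSub.IsInverseOf L (ClSub.idealMod E.ι.ker))
    (hself : ArSurf.inter R X L E = -(Module.finrank (IsLocalRing.ResidueField R) k' : ℤ)) :
    ∃ (Y : Over (Spec (CommRingCat.of R))) (f : X ⟶ Y) (y : Y.left) (hy : IsClosed ({y} : Set Y.left)),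
      ArSurf.IsArithSurface R Y ∧ Set.range (E.ι ≫ f.left) = {y} ∧
      (f.left ⁻¹ᵁ (⟨{y}ᶜ, hy.isOpen_compl⟩ : Y.left.Opens) : Set X.left) = (Set.range E.ι)ᶜ ∧
      IsIso (f.left ∣_ (⟨{y}ᶜ, hy.isOpen_compl⟩ : Y.left.Opens)) := by
  obtain ⟨Y, f, y, hy, hint, hnor, hdim, hflat, hproj, hrange, hpre, hiso, hcot⟩ :=
    (Groth.Agent.H26.Castel.isNegLine_of_iso hX E k' e he L hL 1 le_rfl (by simpa using hself)).exists_contraction'
  refine ⟨Y, f, y, hy, ⟨fun q => ?_, hint, hdim, hflat, hproj⟩, hrange, hpre, hiso⟩
  haveI := hint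
  obtain ⟨n, i, hi, hc⟩ := hproj
  haveI := hi
  haveI := Groth.Agent.H23.MultiP1.isProper_toBase (X := Spec (CommRingCat.of R)) n
  haveI : IsProper Y.hom := hc ▸ inferInstance
  haveI : IsLocallyNoetherian Y.left := LocallyOfFiniteType.isLocallyNoetherian Y.hom
  by_cases hq : q = y
  · subst hq
    haveI := hnor q
    by_cases h1 : ringKrullDim (Y.left.presheaf.stalk q) ≤ 1
    · exact Groth.Agent.ProjNorm6.isRegularLocalRing_of_dim_le_one _ h1
    refine (IsRegularLocalRing.iff_finrank_cotangentSpace _).2 ?_
    rw [hcot]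
    have h2 := (Groth.Agent.SchTop.ringKrullDim_stalk_le q).trans hdim.le
    generalize ringKrullDim (Y.left.presheaf.stalk q) = D at h1 h2 ⊢
    induction D with
    | bot => exact absurd bot_le h1
    | coe D =>
      replace h1 : (1 : ℕ∞) < D := WithBot.coe_lt_coe.1 (lt_of_not_ge h1)
      have h2' : D ≤ (2 : ℕ∞) := WithBot.coe_le_coe.1 h2
      obtain rfl : D = 2 := le_antisymm h2' (Order.add_one_le_of_lt h1)
      rfl
  · haveI := hiso
    obtain ⟨x, hx⟩ := (f.left ∣_ (⟨{y}ᶜ, hy.isOpen_compl⟩ : Y.left.Opens)).homeomorph.surjective ⟨q, hq⟩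
    have hxq : f.left x.1 = q :=
      (morphismRestrict_base_coe f.left _ x).symm.trans (congrArg Subtype.val hx)
    haveI : IsIso (f.left.stalkMap x.1) :=
      ((MorphismProperty.isomorphisms CommRingCat).arrow_mk_iso_iff (morphismRestrictStalkMap f.left _ x)).1
        (inferInstanceAs (IsIso _))
    haveI := hX.1 x.1
    have h3 : IsRegularLocalRing (Y.left.presheaf.stalk (f.left x.1)) :=
      IsRegularLocalRing.of_ringEquiv (asIso (f.left.stalkMap x.1)).commRingCatIsoToRingEquiv.symm
    rw [hxq] at h3
    exact h3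

end Groth.Agent.S3254
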