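import Groth.Statements.S1641
import Groth.Agent.Lib.DegComp
import Groth.Agent.H23.ClosedPushLen

set_option autoImplicit false
set_option backward.isDefEq.respectTransparency false
set_option backward.isDefEq.respectTransparency.types false
set_option linter.style.haveILetI false
set_option linter.unusedSectionVars false
set_option maxHeartbeats 400000
universe u
open CategoryTheory CategoryTheory.Limits AlgebraicGeometry
open Variety

namespace Groth.Agent.S1641

open Groth.Agent Topology

/-- Let X be proper of dimension at most one over k and E finite locally free of rank n. Then deg E is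
the sum, over the irreducible components C of X of dimension one with their reduced induced
structure, of m_C · deg(E|_C), where m_C is the length of the local ring of X at the generic point
of C. -/
theorem result (k : Type u) [Field k] (X : Scheme.{u}) [X.Over (Spec (CommRingCat.of k))] [IsProper (X ↘ (Spec (CommRingCat.of k)))] [IsNoetherian X] (hdim : topologicalKrullDim X ≤ 1)
    (n : ℕ) (E : X.Modules) (hE : FlatMod.IsFinLocFreeOfRank n E) :
    Curv2.deg k X E n = ∑ᶠ Z : irreducibleComponents (X : Type u),
      (if topologicalKrullDim (Z.1 : Set X) = 1 then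
        ((Module.length (X.presheaf.stalk Z.2.1.genericPoint) (X.presheaf.stalk Z.2.1.genericPoint)).toNat : ℤ) *
          @Curv2.deg k _ (X.irreducibleComponentIdeal Z.1 Z.2).radical.subscheme ⟨(X.irreducibleComponentIdeal Z.1 Z.2).radical.subschemeι ≫ (X ↘ (Spec (CommRingCat.of k)))⟩ ((Scheme.Modules.pullback (X.irreducibleComponentIdeal Z.1 Z.2).radical.subschemeι).obj E) n
      else 0) := by
  classical
  have hO : Coh.IsCoh (Coh.structureModule X) := QCoh.isCoh_structureModule'
  have hd : topologicalKrullDim ↥(CohB1.support (Coh.structureModule X)) ≤ 1 :=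
    (Topology.IsInducing.subtypeVal).topologicalKrullDim_le.trans hdim
  have key := DegComp.euler_sum k hE hO hd
  rw [CurveCohLib.euler_congr (k := k)
    (CurveTensor.commIso E (Coh.structureModule X) ≪≫ CurveTensor.structureTensorIso E)] at key
  refine key.trans ?_
  have hgen : ∀ Z : irreducibleComponents (X : Type u), closure ({Z.2.1.genericPoint} : Set X) = Z.1 := fun Z => by
    rw [(IsIrreducible.isGenericPoint_genericPoint_closure Z.2.1).def, (isClosed_of_mem_irreducibleComponents Z.1 Z.2).closure_eq]
  let g : irreducibleComponents (X : Type u) → X := fun Z => Z.2.1.genericPoint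
  have hinj : Function.Injective g := fun A B h => Subtype.ext (by rw [← hgen A, ← hgen B]; exact congrArg (fun p => closure ({p} : Set X)) h)
  rw [← finsum_mem_univ, ← finsum_mem_inter_support_eq' _ (Set.range g) Set.univ fun ξ hξ => ?_,
    finsum_mem_range hinj]
  · refine finsum_congr fun Z => ?_
    rw [hgen]
    by_cases h : topologicalKrullDim (Z.1 : Set X) = 1
    · rw [if_pos h, if_pos h]
      have hI : (X.irreducibleComponentIdeal Z.1 Z.2).radical = IntMult.ptIdeal (g Z) := by
        rw [← Scheme.IdealSheafData.vanishingIdeal_support, IntMult.ptIdeal]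
        congr 1
        exact TopologicalSpace.Closeds.ext (hgen Z).symm
      rw [hI, H23.ClosedPushLen.length_structureModule]
      rfl
    · rw [if_neg h, if_neg h]
  · refine ⟨fun _ => trivial, fun _ => ?_⟩
    simp only [Function.mem_support, ne_eq, ite_eq_right_iff, not_forall] at hξ
    obtain ⟨hdim1, -⟩ := hξ
    let C : Set X := closure {ξ}
    obtain ⟨W, hW1, hW2, hW3⟩ := exists_preirreducible C (isIrreducible_singleton.closure).2
    have hW : W ∈ irreducibleComponents X :=
      ⟨⟨(Set.singleton_nonempty ξ).mono (subset_closure.trans hW2), hW1⟩, fun T hT hle => (hW3 T hT.2 hle).le⟩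
    refine ⟨⟨W, hW⟩, ?_⟩
    have hsp : g ⟨W, hW⟩ ⤳ ξ := specializes_iff_mem_closure.2 (by
      rw [show closure ({g ⟨W, hW⟩} : Set X) = W from hgen ⟨W, hW⟩]; exact hW2 (subset_closure rfl))
    by_contra hne
    have hlt := CycLib.delta_lt (SnapLead.isDimFun k) hsp hne
    have h1 := SnapLead.dim_closure k (g ⟨W, hW⟩)
    have h2 := SnapLead.dim_closure k ξ
    rw [hdim1] at h2
    have h3 : topologicalKrullDim ↥(closure ({g ⟨W, hW⟩} : Set X)) ≤ 1 :=
      (Topology.IsInducing.subtypeVal).topologicalKrullDim_le.trans hdim
    rw [h1] at h3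
    simp only [SnapLead.δ] at hlt
    have h4 : FibDim.rd (X ↘ Spec (CommRingCat.of k)) (g ⟨W, hW⟩) ≤ 1 := by exact_mod_cast h3
    have h5 : FibDim.rd (X ↘ Spec (CommRingCat.of k)) ξ = 1 := by exact_mod_cast h2.symm
    omega

end Groth.Agent.S1641
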