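import Groth.Statements.S4799
import Groth.Agent.FlatStrat.Sheaf

set_option autoImplicit false
universe u
open CategoryTheory AlgebraicGeometry
open Lim8

namespace Groth.Agent.S4799

open AlgebraicGeometry CategoryTheory TopologicalSpace Groth.Agent TensorProduct

set_option backward.isDefEq.respectTransparency false in
set_option backward.isDefEq.respectTransparency.types false in
theorem flat_over_basicOpen {X Y : Scheme.{u}} (f : X ⟶ Y) (F : X.Modules) (hF : Coh.IsQCoh F)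
    {V : Y.Opens} (hV : IsAffineOpen V) {U : X.Opens} (hU : IsAffineOpen U) (hle : U ≤ f ⁻¹ᵁ V)
    (g : Γ(Y, V))
    (hg : @FlatStrat.Triv Γ(Y, V) _ Γ(F, U) _ (Module.compHom _ (f.appLE V U hle).hom) ⊥ g)
    {x : X} (hx : x ∈ U) (hxg : f x ∈ Y.basicOpen g) : FlatMod.IsFlatOverAt f F x := by
  let φ := f.appLE V U hle
  have hU' : X.basicOpen (φ g) ≤ f ⁻¹ᵁ Y.basicOpen g := by
    rw [Scheme.basicOpen_appLE]
    exact inf_le_right
  have hxU' : x ∈ X.basicOpen (φ g) := by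
    rw [Scheme.basicOpen_appLE]
    exact ⟨hx, hxg⟩
  letI : Algebra Γ(Y, V) Γ(X, U) := φ.hom.toAlgebra
  letI : Module Γ(Y, V) Γ(F, U) := Module.compHom _ φ.hom
  haveI : IsScalarTower Γ(Y, V) Γ(X, U) Γ(F, U) := .of_algebraMap_smul fun _ _ => rfl
  letI : Algebra Γ(Y, V) Γ(Y, Y.basicOpen g) := (Y.presheaf.map (homOfLE (Y.basicOpen_le g)).op).hom.toAlgebra
  haveI : IsLocalization.Away g Γ(Y, Y.basicOpen g) := hV.isLocalization_basicOpen g
  letI := QCoh.basicModule (φ g) F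
  haveI := QCoh.isLocalizedModule_basicRes (φ g) hF hU
  letI : Module Γ(Y, Y.basicOpen g) Γ(F, X.basicOpen (φ g)) :=
    Module.compHom _ (f.appLE (Y.basicOpen g) (X.basicOpen (φ g)) hU').hom
  letI : Module Γ(Y, V) Γ(F, X.basicOpen (φ g)) :=
    Module.compHom _ ((algebraMap Γ(X, U) Γ(X, X.basicOpen (φ g))).comp φ.hom)
  haveI : IsScalarTower Γ(Y, V) Γ(X, U) Γ(F, X.basicOpen (φ g)) := .of_algebraMap_smul fun _ _ => rfl
  haveI : IsScalarTower Γ(Y, V) Γ(Y, Y.basicOpen g) Γ(F, X.basicOpen (φ g)) := by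
    refine .of_algebraMap_smul fun a m => ?_
    show (f.appLE (Y.basicOpen g) (X.basicOpen (φ g)) hU') (algebraMap Γ(Y, V) Γ(Y, Y.basicOpen g) a) • m =
      (algebraMap Γ(X, U) Γ(X, X.basicOpen (φ g)) (φ a)) • m
    refine congrArg (· • m) ?_
    show (f.appLE (Y.basicOpen g) (X.basicOpen (φ g)) hU') (Y.presheaf.map (homOfLE (Y.basicOpen_le g)).op a) =
      X.presheaf.map (homOfLE (X.basicOpen_le (φ g))).op (φ a)
    rw [← CommRingCat.comp_apply, ← CommRingCat.comp_apply, Scheme.Hom.map_appLE, Scheme.Hom.appLE_map]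
  haveI : IsLocalizedModule (Submonoid.powers (algebraMap Γ(Y, V) Γ(X, U) g)) (QCoh.basicRes (φ g) F) :=
    QCoh.isLocalizedModule_basicRes (φ g) hF hU
  haveI := IsLocalizedModule.restrictScalars_powers (A := Γ(X, U)) g (QCoh.basicRes (φ g) F)
  have hb := IsLocalizedModule.isBaseChange (Submonoid.powers g) Γ(Y, Y.basicOpen g)
    ((QCoh.basicRes (φ g) F).restrictScalars Γ(Y, V))
  have hA : Module.Flat Γ(Y, Y.basicOpen g) (Γ(Y, Y.basicOpen g) ⊗[Γ(Y, V)] Γ(F, U)) :=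
    hg _ (fun a ha => by rw [(Ideal.mem_bot).1 ha, map_zero]) (IsLocalization.Away.algebraMap_isUnit g)
  exact (QCoh.flat_appLE_iff f hF (hU.basicOpen (φ g)) (hV.basicOpen g) hU').1
    (Module.Flat.of_linearEquiv hb.equiv.symm) x hxU'

/-- Generic flatness without Noetherian hypotheses: let Y be an integral scheme, u : X ⟶ Y a
quasi-compact morphism locally of finite presentation, and F a quasi-coherent O_X-module of finite
presentation. Then there is a nonempty open subset U of Y such that F restricted to u⁻¹(U) is flat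
over U, i.e. the stalk F_x is flat over O_{Y, u(x)} for every x with u(x) ∈ U. -/
theorem result {X Y : Scheme.{u}} (u : X ⟶ Y) [IsIntegral Y]
    [LocallyOfFinitePresentation u] [QuasiCompact u] (F : X.Modules) [Coh.IsQCoh F] (hF : CohB1.IsFP F) :
    ∃ U : Y.Opens, (U : Set Y).Nonempty ∧ ∀ x : X, u.base x ∈ U → FlatMod.IsFlatOverAt u F x := by
  classical
  obtain ⟨y₀⟩ : Nonempty Y := inferInstance
  obtain ⟨V, hV, hyV, -⟩ := exists_isAffineOpen_mem_and_subset (U := (⊤ : Y.Opens)) (x := y₀) trivial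
  haveI : Nonempty (V : TopologicalSpace.Opens Y) := ⟨⟨y₀, hyV⟩⟩
  obtain ⟨t, ht⟩ := (u.isCompact_preimage hV.isCompact).elim_finite_subcover
    (fun U : { U : X.affineOpens // U.1 ≤ u ⁻¹ᵁ V } => ((U.1.1 : X.Opens) : Set X)) (fun U => U.1.1.2) (fun x hx => by
      obtain ⟨U, hU, hxU, hle⟩ := exists_isAffineOpen_mem_and_subset (U := u ⁻¹ᵁ V) (x := x) hx
      exact Set.mem_iUnion.mpr ⟨⟨⟨U, hU⟩, hle⟩, hxU⟩)
  let P : { U : X.affineOpens // U.1 ≤ u ⁻¹ᵁ V } → Ideal Γ(Y, V) → Γ(Y, V) → Prop := fun U p g =>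
    @FlatStrat.Triv Γ(Y, V) _ Γ(F, U.1.1) _ (Module.compHom _ (u.appLE V U.1.1 U.2).hom) p g
  obtain ⟨L, hL, hcov⟩ := FlatStrat.exists_common_cover t P (fun U p g p' g' h =>
      @FlatStrat.Triv.mono _ _ _ _ (Module.compHom _ (u.appLE V U.1.1 U.2).hom) p p' g g' h) (by
    rintro ⟨⟨U, hU⟩, hle⟩ -
    letI : Algebra Γ(Y, V) Γ(X, U) := (u.appLE V U hle).hom.toAlgebra
    letI : Module Γ(Y, V) Γ(F, U) := Module.compHom _ (u.appLE V U hle).hom
    haveI : IsScalarTower Γ(Y, V) Γ(X, U) Γ(F, U) := IsScalarTower.of_algebraMap_smul fun _ _ => rfl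
    haveI : Algebra.FinitePresentation Γ(Y, V) Γ(X, U) := u.finitePresentation_appLE hV hU hle
    haveI : Module.FinitePresentation Γ(X, U) Γ(F, U) := QCoh.finitePresentation_of_isFP hF hU
    exact FlatStrat.exists_triv_cover (S := Γ(X, U)) Γ(F, U))
  obtain ⟨⟨p, g⟩, hx, hp, hg⟩ := hcov ⊥ Ideal.isPrime_bot
  obtain rfl : p = ⊥ := le_bot_iff.1 hp
  refine ⟨Y.basicOpen g, ?_, fun x hx' => ?_⟩
  · refine Set.nonempty_iff_ne_empty.mpr fun h => hg (Ideal.mem_bot.2 ?_)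
    rw [← basicOpen_eq_bot_iff]
    exact SetLike.coe_injective (by simpa using h)
  · obtain ⟨U, hUt, hxU⟩ := Set.mem_iUnion₂.1 (ht (show x ∈ _ from Y.basicOpen_le g hx'))
    exact flat_over_basicOpen u F ‹_› hV U.1.2 U.2 g ((hL _ hx).2 U hUt) hxU hx'

end Groth.Agent.S4799
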