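import Groth.Statements.S0488
import Groth.Agent.SiteBase.KInjAdj
import Groth.Agent.SiteBase.CofreeFam
import Mathlib.Topology.Sheaves.Over

set_option autoImplicit false
universe u
open CohTop

namespace Groth.Agent.S0488

open TopologicalSpace CategoryTheory in
/-- For an open U of X, restriction to U sends K-injective complexes of abelian sheaves on X to
K-injective complexes on U. -/
theorem result {X : TopCat.{u}} (U : Opens X) (I : CochainComplex (CohTop.Ab X) ℤ)
    (h : I.IsKInjective) :
    CochainComplex.IsKInjective (((CohTop.restrFunctor U).mapHomologicalComplex (ComplexShape.up ℤ)).obj I) := by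
  let P := (Opens.grothendieckTopology X).overPullback AddCommGrpCat.{u} U
  let E : Sheaf ((Opens.grothendieckTopology X).over U) AddCommGrpCat.{u} ≌ CohTop.Ab (TopCat.of U) :=
    U.sheafEquivOver
  let R := P ⋙ E.functor
  let adj : E.inverse ⋙ (Over.forget U).sheafPullback AddCommGrpCat.{u} ((Opens.grothendieckTopology X).over U)
      (Opens.grothendieckTopology X) ⊣ R := E.symm.toAdjunction.comp
    ((Over.forget U).sheafAdjunctionContinuous AddCommGrpCat.{u} ((Opens.grothendieckTopology X).over U)
      (Opens.grothendieckTopology X))
  have : R.Additive := inferInstanceAs (CohTop.restrFunctor U).Additive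
  have hR : ∀ J : CohTop.Ab X, Injective J → Injective (R.obj J) := fun J _ =>
    have := Groth.Agent.SiteBase.injective_over (J := Opens.grothendieckTopology X) U J
    @Injective.injective_of_adjoint _ _ _ _ _ _ inferInstance E.symm.toAdjunction _ this
  have := adj.left_adjoint_additive
  have := Groth.Agent.SiteBase.preservesFiniteLimits_leftAdjoint adj hR
  have : Limits.PreservesColimitsOfSize.{0, 0} (E.inverse ⋙ (Over.forget U).sheafPullback AddCommGrpCat.{u}
      ((Opens.grothendieckTopology X).over U) (Opens.grothendieckTopology X)) :=
    adj.leftAdjoint_preservesColimits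
  have : Limits.PreservesFiniteColimits (E.inverse ⋙ (Over.forget U).sheafPullback AddCommGrpCat.{u}
      ((Opens.grothendieckTopology X).over U) (Opens.grothendieckTopology X)) := ⟨fun _ => inferInstance⟩
  exact Groth.Agent.SiteBase.isKInjective_map adj I

end Groth.Agent.S0488
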