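import Groth.Statements.S0057
import Groth.Agent.FFun.GenPowers

set_option autoImplicit false
universe u
open Coherent

namespace Groth.Agent.S0057

open AlgebraicGeometry CategoryTheory in
/-- Let A be Noetherian, I an ideal, X proper over Spec A and F coherent on X. For each p there is c ≥ 0
such that for all n ≥ c the kernel of H^p(X, F) → H^p(X, F/I^(n+1)F) is contained in I^(n-c) H^p(X,
F). (An index shift by one relative to the published statement is absorbed in c.) -/
theorem result (A : Type u) [CommRing A] [IsNoetherianRing A]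
    (I : Ideal A) (X : Scheme.{u}) [X.Over (Spec (CommRingCat.of A))]
    [IsProper (X ↘ Spec (CommRingCat.of A))] (M : X.Modules) (hM : Coh.IsCoh M) (p : ℕ) :
    ∃ c : ℕ, ∀ n : ℕ, c ≤ n →
      ((Formal.toHHmodPow I M p n).ker : Set (Coh.HH X M p)) ⊆
        ((I ^ (n - c) • (⊤ : Submodule A (Coh.HH X M p)) : Submodule A (Coh.HH X M p)) : Set (Coh.HH X M p)) := by
  obtain ⟨d, hd⟩ := Groth.Agent.FFun.Gen.exists_powBound hM I p
  refine ⟨d, fun n hn x hx => ?_⟩
  obtain ⟨y, rfl⟩ := (Groth.Agent.FFun.Gen.mem_ker_toHHmodPow n x).1 hx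
  have h : ∀ k m, m = 0 + k → ∀ y : Coh.HH X (Formal2.idealPowMod I m M) p,
      Groth.Agent.FFun.Gen.inclH I M (Nat.zero_le m) p y ∈
        I ^ (k - (d - 0)) • (⊤ : Submodule A (Coh.HH X (Formal2.idealPowMod I 0 M) p)) := by
    rintro k _ rfl y
    exact Groth.Agent.FFun.Gen.range_inclH_le hd 0 k (Nat.zero_le _) (LinearMap.mem_range_self _ y)
  have h1 := Submodule.mem_map_of_mem (f := Groth.Agent.FFun.Gen.ιH I M 0 p)
    (h (n + 1) (n + 1) (Nat.zero_add _).symm y)
  rw [Groth.Agent.FFun.Gen.ιH_inclH, Submodule.map_smul''] at h1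
  exact Submodule.smul_mono (Ideal.pow_le_pow_right (by omega)) le_top h1

end Groth.Agent.S0057
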