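import Groth.Statements.S17018
import Groth.Agent.H23.GysinPb

set_option autoImplicit false
universe u
open CategoryTheory CategoryTheory.Limits AlgebraicGeometry
open scoped TensorProduct
open Models

namespace Groth.Agent.S17018

/-- Let R be a discrete valuation ring with algebraically closed residue field and f : X → Spec R a
proper flat morphism whose generic fibre (base change to the fraction field of R) is smooth of
relative dimension 1 and connected and whose special fibre (base change to the residue field) is
connected and reduced; let ξ be the generic point of an irreducible component of the special fibre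
and B a discrete valuation ring given with an isomorphism from the local ring of X at ξ under which
R → B is the map induced by f. Then the maximal ideal of B is the extension of the maximal ideal of
R: a uniformizer of R maps to a uniformizer of B. (The published setting takes everything
essentially of finite type over a field of characteristic zero; the printed argument does not use
this and it is not imposed here.) -/
theorem result
    (R : Type u) [CommRing R] [IsDomain R] [IsDiscreteValuationRing R]
    [IsAlgClosed (IsLocalRing.ResidueField R)]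
    (X : Scheme.{u}) (f : X ⟶ Spec (CommRingCat.of R)) [IsProper f] [Flat f]
    (XK : Scheme.{u}) (gK : XK ⟶ X) (fK : XK ⟶ Spec (CommRingCat.of (FractionRing R)))
    (hK : IsPullback gK fK f (Spec.map (CommRingCat.ofHom (algebraMap R (FractionRing R)))))
    [SmoothOfRelativeDimension 1 fK] [ConnectedSpace XK]
    (Xs : Scheme.{u}) (gs : Xs ⟶ X) (fs : Xs ⟶ Spec (CommRingCat.of (IsLocalRing.ResidueField R)))
    (hs : IsPullback gs fs f (Spec.map (CommRingCat.ofHom (IsLocalRing.residue R))))
    [ConnectedSpace Xs] [IsReduced Xs]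
    (ξ : Xs) (hξ : closure ({ξ} : Set Xs) ∈ irreducibleComponents Xs)
    (B : Type u) [CommRing B] [IsDomain B] [IsDiscreteValuationRing B] [Algebra R B]
    (e : X.presheaf.stalk (gs.base ξ) ≅ CommRingCat.of B)
    (he : e.hom.hom.comp ((X.presheaf.germ ⊤ (gs.base ξ) trivial).hom.comp (Coh.toGlobal f)) =
      algebraMap R B) :
    IsLocalRing.maximalIdeal B = Ideal.map (algebraMap R B) (IsLocalRing.maximalIdeal R) := by
  let i := Spec.map (CommRingCat.ofHom (IsLocalRing.residue R))
  haveI : IsClosedImmersion i := IsClosedImmersion.spec_of_surjective _ IsLocalRing.residue_surjective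
  haveI : IsClosedImmersion gs := MorphismProperty.of_isPullback hs.flip inferInstance
  let ρ : R →+* X.presheaf.stalk (gs.base ξ) := (X.presheaf.germ ⊤ (gs.base ξ) trivial).hom.comp (Coh.toGlobal f)
  -- the kernel of the map to the fibre is generated by the maximal ideal of the base
  have hker : RingHom.ker (gs.stalkMap ξ).hom ≤ (IsLocalRing.maximalIdeal R).map ρ := by
    let a := hs.isoPullback.hom
    suffices h : ∀ g : Xs ⟶ X, a ≫ pullback.fst f i = g → RingHom.ker (g.stalkMap ξ).hom ≤
        (IsLocalRing.maximalIdeal R).map ((X.presheaf.germ ⊤ (g.base ξ) trivial).hom.comp (Coh.toGlobal f)) from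
      h gs hs.isoPullback_hom_fst
    rintro g rfl t ht
    have ht' : t ∈ RingHom.ker ((pullback.fst f i).stalkMap (a ξ)).hom := by
      rw [RingHom.mem_ker, Scheme.Hom.stalkMap_comp] at ht
      exact RingHom.mem_ker.2 ((ConcreteCategory.bijective_of_isIso (a.stalkMap ξ)).1 (ht.trans (map_zero _).symm))
    rw [Groth.Agent.H23.GysinPb.ker_stalkMap_fst] at ht'
    set d := pullback.snd f i (a ξ) with hd
    have hle : RingHom.ker (i.stalkMap d).hom ≤ IsLocalRing.maximalIdeal _ :=
      IsLocalRing.le_maximalIdeal (RingHom.ker_ne_top _)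
    have ht2 := Ideal.map_mono hle ht'
    let y : Spec (CommRingCat.of R) := i d
    haveI : y.asIdeal.IsPrime := y.isPrime
    letI : Algebra R ((Spec (CommRingCat.of R)).presheaf.stalk y) :=
      StructureSheaf.stalkAlgebra R y
    haveI : IsLocalization.AtPrime ((Spec (CommRingCat.of R)).presheaf.stalk y) y.asIdeal :=
      StructureSheaf.IsLocalization.to_stalk (CommRingCat.of R) y
    rw [← IsLocalization.AtPrime.map_eq_maximalIdeal y.asIdeal ((Spec (CommRingCat.of R)).presheaf.stalk y),
      ] at ht2
    erw [Ideal.map_map] at ht2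
    have hcomp : (Groth.Agent.H23.GysinPb.baseMap f i (a ξ)).hom.comp
        (algebraMap R ((Spec (CommRingCat.of R)).presheaf.stalk y)) =
        (X.presheaf.germ ⊤ (pullback.fst f i (a ξ)) trivial).hom.comp (Coh.toGlobal f) := by
      have h0 : algebraMap R ((Spec (CommRingCat.of R)).presheaf.stalk y) =
          ((Scheme.ΓSpecIso (CommRingCat.of R)).inv ≫ (Spec (CommRingCat.of R)).presheaf.germ ⊤ y trivial).hom := rfl
      rw [h0]
      refine (congrArg CommRingCat.Hom.hom (?_ : ((Scheme.ΓSpecIso (CommRingCat.of R)).inv ≫
        (Spec (CommRingCat.of R)).presheaf.germ ⊤ y trivial) ≫ Groth.Agent.H23.GysinPb.baseMap f i (a ξ) =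
        ((Scheme.ΓSpecIso (CommRingCat.of R)).inv ≫ f.appTop) ≫ X.presheaf.germ ⊤ (pullback.fst f i (a ξ)) trivial))
      simp only [Groth.Agent.H23.GysinPb.baseMap, Category.assoc, y]
      erw [TopCat.Presheaf.germ_stalkSpecializes_assoc, Scheme.Hom.germ_stalkMap]
      rfl
    erw [hcomp] at ht2
    exact Ideal.map_mono (IsLocalRing.le_maximalIdeal y.isPrime.ne_top) ht2
  -- the stalk of the fibre at a maximal point is a field
  have hfld : IsField (Xs.presheaf.stalk ξ) := by
    haveI : Subsingleton (PrimeSpectrum (Xs.presheaf.stalk ξ)) := by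
      refine ⟨fun p q => ?_⟩
      have key : ∀ p : PrimeSpectrum (Xs.presheaf.stalk ξ), Xs.fromSpecStalk ξ p = ξ := by
        intro p
        have hp : Xs.fromSpecStalk ξ p ⤳ ξ := by
          have : Xs.fromSpecStalk ξ p ∈ Set.range (Xs.fromSpecStalk ξ) := ⟨p, rfl⟩
          rw [Scheme.range_fromSpecStalk] at this
          exact this
        have hle : closure ({ξ} : Set Xs) ⊆ closure {Xs.fromSpecStalk ξ p} :=
          closure_minimal (Set.singleton_subset_iff.2 (specializes_iff_mem_closure.1 hp)) isClosed_closure
        have heq := hξ.2 isIrreducible_singleton.closure hle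
        exact (hp.antisymm (specializes_iff_mem_closure.2 (heq (subset_closure rfl)))).eq
      exact (Xs.fromSpecStalk ξ).isEmbedding.injective ((key p).trans (key q).symm)
    haveI : Ring.KrullDimLE 0 (Xs.presheaf.stalk ξ) := Ring.KrullDimLE.mk₀ fun I hI => by
      have := Subsingleton.elim (⟨I, hI⟩ : PrimeSpectrum (Xs.presheaf.stalk ξ))
        ⟨IsLocalRing.maximalIdeal _, inferInstance⟩
      rw [show I = IsLocalRing.maximalIdeal _ from congrArg PrimeSpectrum.asIdeal this]
      infer_instance
    exact Ring.KrullDimLE.isField_of_isReduced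
  have hm : IsLocalRing.maximalIdeal (X.presheaf.stalk (gs.base ξ)) ≤ (IsLocalRing.maximalIdeal R).map ρ := by
    refine le_trans (fun t ht => ?_) hker
    letI := hfld.toField
    rw [RingHom.mem_ker]
    by_contra h
    exact (IsLocalRing.mem_maximalIdeal t).1 ht (isUnit_of_map_unit (gs.stalkMap ξ).hom t (Ne.isUnit h))
  -- transport to `B`
  let E : X.presheaf.stalk (gs.base ξ) ≃+* B := e.commRingCatIsoToRingEquiv
  refine le_antisymm (fun b hb => ?_) (IsLocalRing.le_maximalIdeal ?_)
  · have hb' : E.symm b ∈ IsLocalRing.maximalIdeal (X.presheaf.stalk (gs.base ξ)) := by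
      rw [IsLocalRing.mem_maximalIdeal] at hb ⊢
      exact fun h => hb (by simpa using h.map E)
    have h2 := Ideal.mem_map_of_mem (E : X.presheaf.stalk (gs.base ξ) →+* B) (hm hb')
    rw [Ideal.map_map] at h2
    rw [← he]
    have h3 : b ∈ Ideal.map ((E : X.presheaf.stalk (gs.base ξ) →+* B).comp ρ) (IsLocalRing.maximalIdeal R) := by
      simpa using h2
    exact h3
  · have hlt : (IsLocalRing.maximalIdeal R).map ρ ≤ IsLocalRing.maximalIdeal (X.presheaf.stalk (gs.base ξ)) := by
      refine Ideal.map_le_iff_le_comap.2 fun r hr => ?_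
      have hfx : f (gs.base ξ) = IsLocalRing.closedPoint R := by
        rw [← Scheme.Hom.comp_apply, hs.w, Scheme.Hom.comp_apply]
        refine PrimeSpectrum.ext ?_
        refine ((IsLocalRing.maximalIdeal.isMaximal R).eq_of_le (PrimeSpectrum.isPrime _).ne_top ?_).symm
        intro a ha
        show IsLocalRing.residue R a ∈ (fs ξ).asIdeal
        rw [(IsLocalRing.residue_eq_zero_iff a).2 ha]
        exact zero_mem _
      intro hu
      have hu1 : IsUnit ((f.stalkMap (gs.base ξ)).hom (((Scheme.ΓSpecIso (CommRingCat.of R)).inv ≫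
          (Spec (CommRingCat.of R)).presheaf.germ ⊤ (f (gs.base ξ)) trivial).hom r)) := by
        have h1 : ((Scheme.ΓSpecIso (CommRingCat.of R)).inv ≫
            (Spec (CommRingCat.of R)).presheaf.germ ⊤ (f (gs.base ξ)) trivial) ≫ f.stalkMap (gs.base ξ) =
            ((Scheme.ΓSpecIso (CommRingCat.of R)).inv ≫ f.appTop) ≫ X.presheaf.germ ⊤ (gs.base ξ) trivial := by
          rw [Category.assoc, Category.assoc]
          erw [Scheme.Hom.germ_stalkMap]
          rfl
        exact (congrArg (fun φ => φ.hom r) h1).symm ▸ hu
      have hu2 := isUnit_of_map_unit (f.stalkMap (gs.base ξ)).hom _ hu1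
      letI : Algebra R ((Spec (CommRingCat.of R)).presheaf.stalk (f (gs.base ξ))) :=
        StructureSheaf.stalkAlgebra R (f (gs.base ξ))
      haveI : (f (gs.base ξ)).asIdeal.IsPrime := (f (gs.base ξ)).isPrime
      haveI : IsLocalization.AtPrime ((Spec (CommRingCat.of R)).presheaf.stalk (f (gs.base ξ))) (f (gs.base ξ)).asIdeal :=
        StructureSheaf.IsLocalization.to_stalk (CommRingCat.of R) (f (gs.base ξ))
      have hu3 := (IsLocalization.AtPrime.isUnit_to_map_iff
        ((Spec (CommRingCat.of R)).presheaf.stalk (f (gs.base ξ))) (f (gs.base ξ)).asIdeal r).1 hu2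
      exact hu3 (by rw [hfx]; exact hr)
    intro htop
    refine (IsLocalRing.maximalIdeal.isMaximal (X.presheaf.stalk (gs.base ξ))).ne_top (top_le_iff.1 ?_)
    refine le_trans ?_ hlt
    rw [← he, ← Ideal.map_map] at htop
    have := congrArg (Ideal.map (E.symm : B →+* X.presheaf.stalk (gs.base ξ))) htop
    rw [Ideal.map_map, Ideal.map_top] at this
    refine this.ge.trans (le_of_eq ?_)
    rw [show ((E.symm : B →+* X.presheaf.stalk (gs.base ξ)).comp e.hom.hom) = RingHom.id _ from RingHom.ext fun a => E.symm_apply_apply a,
      Ideal.map_id]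

end Groth.Agent.S17018
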