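import Groth.Statements.S2325
import Groth.Agent.AmpleX.Generated

set_option autoImplicit false
universe u
open CategoryTheory CategoryTheory.Limits AlgebraicGeometry
open EGA2

namespace Groth.Agent.S2325

/-- Let X be a quasi-compact separated scheme (the source also allows a prescheme with Noetherian
underlying space), L an ample invertible module, and let F be an O_X-module that is quasi-coherent
and of finite type. For some n₀, the twist F ⊗ L^{⊗n} is generated by its global sections whenever n
≥ n₀. -/
theorem result (X : Scheme.{u}) [CompactSpace X] [X.IsSeparated] (L : X.Modules) (hL : CohB1.IsAmple L)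
    (F : X.Modules) (hF : Coh.IsCoh F) :
    ∃ n₀ : ℕ, ∀ n, n₀ ≤ n → Curv2.IsGloballyGenerated (CohB1.tensorMod F (CohB1.tensorPow L n)) := by
  exact AmpleX.eventually_isGloballyGenerated hL hF.1 hF.2

end Groth.Agent.S2325
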