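import Groth.Statements.S7603
import Groth.Agent.GeomField.Irreducible
import Mathlib.AlgebraicGeometry.Geometrically.Connected
import Mathlib.AlgebraicGeometry.Noetherian
import Mathlib.AlgebraicGeometry.Morphisms.Proper

set_option autoImplicit false
universe u
open CategoryTheory CategoryTheory.Limits AlgebraicGeometry
open Variety

namespace Groth.Agent.S7603


set_option backward.isDefEq.respectTransparency.types false

theorem irreducibleSpace_of_isDomain_stalk {Y : Scheme.{u}} [IsNoetherian Y] [ConnectedSpace Y]
    (h : ∀ y, IsDomain (Y.presheaf.stalk y)) : IrreducibleSpace Y := by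
  have hfin : (irreducibleComponents (Y : Type u)).Finite :=
    TopologicalSpace.NoetherianSpace.finite_irreducibleComponents
  have hdisj : ∀ Z ∈ irreducibleComponents (Y : Type u), ∀ Z' ∈ irreducibleComponents (Y : Type u),
      ∀ y ∈ Z, y ∈ Z' → Z = Z' := by
    intro Z hZ Z' hZ' y hy hy'
    obtain ⟨η, hη, hmax⟩ := GeomField.maximal_of_component hZ
    obtain ⟨η', hη', hmax'⟩ := GeomField.maximal_of_component hZ'
    haveI := h y
    haveI : IrreducibleSpace (PrimeSpectrum (Y.presheaf.stalk y)) := inferInstance
    obtain ⟨a, ha⟩ : η ∈ Set.range (Y.fromSpecStalk y) := by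
      rw [Scheme.range_fromSpecStalk]; exact hη.specializes hy
    obtain ⟨b, hb⟩ : η' ∈ Set.range (Y.fromSpecStalk y) := by
      rw [Scheme.range_fromSpecStalk]; exact hη'.specializes hy'
    haveI : IrreducibleSpace ↥(Spec (Y.presheaf.stalk y)) := ‹IrreducibleSpace (PrimeSpectrum _)›
    let g := Y.fromSpecStalk y (genericPoint ↥(Spec (Y.presheaf.stalk y)))
    have h1 : g = η := hmax g (ha ▸ (genericPoint_specializes a).map (Y.fromSpecStalk y).continuous)
    have h2 : g = η' := hmax' g (hb ▸ (genericPoint_specializes b).map (Y.fromSpecStalk y).continuous)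
    rw [← hη.def, ← hη'.def, ← h1, h2]
  obtain ⟨y₀⟩ := (inferInstance : Nonempty Y)
  obtain ⟨η, -, -, hc⟩ := GeomField.exists_maximal_component y₀
  have hopen : IsOpen (closure ({η} : Set Y)) := by
    have h1 : (closure ({η} : Set Y))ᶜ = ⋃ Z ∈ irreducibleComponents (Y : Type u) \ {closure {η}}, Z := by
      ext z
      simp only [Set.mem_compl_iff, Set.mem_iUnion, Set.mem_sdiff, Set.mem_singleton_iff, exists_prop]
      refine ⟨fun hz => ?_, ?_⟩
      · obtain ⟨ζ, hζ, -, hζc⟩ := GeomField.exists_maximal_component z
        exact ⟨_, ⟨hζc, fun e => hz (e ▸ hζ.mem_closure)⟩, hζ.mem_closure⟩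
      · rintro ⟨Z, ⟨hZ, hne⟩, hz⟩ hz'
        exact hne (hdisj Z hZ _ hc z hz hz')
    rw [← isClosed_compl_iff, h1]
    exact (hfin.subset Set.diff_subset).isClosed_biUnion fun Z hZ => isClosed_of_mem_irreducibleComponents Z hZ.1
  have h2 : closure ({η} : Set Y) = Set.univ :=
    IsClopen.eq_univ ⟨isClosed_closure, hopen⟩ ⟨η, subset_closure rfl⟩
  rw [irreducibleSpace_def, Set.top_eq_univ, ← h2]
  exact isIrreducible_singleton.closure

/-- (2) ⇔ (3): let X be a proper scheme over a field k which is geometrically normal (X_K is a normal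
scheme for every extension field K of k). Then X is geometrically connected over k exactly when it
is geometrically irreducible over k. (The published statement lists geometric integrality as a
further equivalent condition; given geometric normality it is equivalent to geometric irreducibility
by a direct argument, so this row omits it.) -/
theorem result (k : Type u) [Field k] (X : Scheme.{u}) [X.Over (Spec (CommRingCat.of k))] [IsProper (X ↘ (Spec (CommRingCat.of k)))]
    (hX : ∀ (K : Type u) [Field K] [Algebra k K], Pi1.IsNormalScheme (Curv2.bc k X K)) :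
    GeometricallyConnected (X ↘ (Spec (CommRingCat.of k))) ↔ GeometricallyIrreducible (X ↘ (Spec (CommRingCat.of k))) := by
  constructor
  · intro h
    refine ⟨geometrically_iff_of_commRing_of_isClosedUnderIsomorphisms.mpr fun K _ _ => ?_⟩
    haveI : ConnectedSpace (Curv2.bc k X K) := pullback_of_geometrically h.geometrically_connectedSpace K _
    haveI : IsProper (Curv2.bcSnd k X K) := inferInstance
    haveI : IsLocallyNoetherian (Curv2.bc k X K) := LocallyOfFiniteType.isLocallyNoetherian (Curv2.bcSnd k X K)
    haveI : CompactSpace (Curv2.bc k X K) := QuasiCompact.compactSpace_of_compactSpace (Curv2.bcSnd k X K)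
    haveI : IsNoetherian (Curv2.bc k X K) := ⟨⟩
    exact irreducibleSpace_of_isDomain_stalk fun y => (hX K y).1
  · intro h
    refine ⟨geometrically_iff_of_commRing_of_isClosedUnderIsomorphisms.mpr fun K _ _ => ?_⟩
    haveI := GeomField.irreducibleSpace_bc (k := k) (X := X) K
    exact IrreducibleSpace.connectedSpace _

end Groth.Agent.S7603
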