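import Groth.Statements.S1923
import Groth.Agent.CycLib.Div
import Groth.Agent.QCoh.Stalk
import Groth.Agent.H23.FibreDegSum
import Groth.Agent.CycLib.DivMap
-- import your own Groth.Agent.* helpers here

set_option autoImplicit false
universe u
open CategoryTheory AlgebraicGeometry
open Cyc

namespace Groth.Agent.S1923

/-- Let X be integral with δ(η) = n, L an invertible O_X-module and s a global section of L whose germ
at η is nonzero. Then div_L(s) = [Z(s)]_{n−1} as (n − 1)-cycles, where s is viewed as a rational
section through its image in L(η). Here L(ξ) = L_ξ/𝔪_ξ L_ξ is the space of rational sections of L on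
the closure of ξ, div_{L|W}(s) and c_1(L) ∩ α are computed as coefficient functions from chosen
nonzero rational sections (Cyc.secDivFun, Cyc.c1CapFun), and results are compared up to rational
equivalence for any cycles with those coefficients. A pair (X, δ) with Cyc.IsSetup plays the role of
a scheme locally of finite type over a fixed base with a dimension function (X locally Noetherian
with universally catenary local rings, δ a dimension function), and Cyc.DeltaCompat records that the
dimension function upstairs is the induced one. -/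
theorem result (X : Scheme.{u}) [IsIntegral X] (δ : X → ℤ) (hX : Cyc.IsSetup X δ) (n : ℤ) (hn : δ (genericPoint X) = n) (L : X.Modules) (hL : PicF.IsInvertible L) (s : L.presheaf.obj (Opposite.op ⊤)) (hs : (L.presheaf.germ ⊤ (genericPoint X) trivial) s ≠ 0) : Cyc.secDivFun δ L (genericPoint X) (Submodule.Quotient.mk ((L.presheaf.germ ⊤ (genericPoint X) trivial) s)) = Cyc.zeroSectionFun δ (n - 1) L s := by
  classical
  haveI := hX.1
  set η := genericPoint X
  have key : ∀ {x : X} (h : η ⤳ x) (a : X.presheaf.stalk x) (m : L.presheaf.stalk x),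
      L.presheaf.stalkSpecializes h (a • m) = X.presheaf.stalkSpecializes h a • L.presheaf.stalkSpecializes h m := by
    intro x h a m
    obtain ⟨U, hU, b, rfl⟩ := X.presheaf.exists_germ_eq (x := x) a
    obtain ⟨V, hV, v, rfl⟩ := L.presheaf.germ_exist m
    have hW : x ∈ U ⊓ V := ⟨hU, hV⟩
    rw [← X.presheaf.germ_res_apply (homOfLE inf_le_left : U ⊓ V ⟶ U) x hW b,
      ← L.presheaf.germ_res_apply (homOfLE inf_le_right : U ⊓ V ⟶ V) x hW v, ← Groth.Agent.QCoh.germ_smul',
      TopCat.Presheaf.germ_stalkSpecializes_apply]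
    refine (Groth.Agent.QCoh.germ_smul' L (h.mem_open (U ⊓ V).isOpen hW) _ _).trans ?_
    exact congrArg₂ (fun p q => p • q) (TopCat.Presheaf.germ_stalkSpecializes_apply X.presheaf hW h _).symm
      (TopCat.Presheaf.germ_stalkSpecializes_apply L.presheaf hW h _).symm
  funext x
  have h : η ⤳ x := (genericPoint_spec X).specializes (Set.mem_univ x)
  by_cases hx : δ x + 1 = δ η
  swap
  · have hx' : δ x ≠ n - 1 := fun e => hx (by omega)
    simp only [Cyc.secDivFun, Cyc.zeroSectionFun]
    rw [if_neg hx', dif_neg (fun hh => hx hh.2)]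
  rw [show Cyc.secDivFun δ L η (Submodule.Quotient.mk ((L.presheaf.germ ⊤ η trivial) s)) x =
    Cyc.secOrdAt L η x h (Submodule.Quotient.mk ((L.presheaf.germ ⊤ η trivial) s)) from dif_pos ⟨h, hx⟩]
  simp only [Cyc.secOrdAt, Cyc.zeroSectionFun, if_pos (show δ x = n - 1 by omega)]
  by_cases ht : ∃ t : L.presheaf.stalk x, Submodule.span (X.presheaf.stalk x) {t} = ⊤
  swap
  · rw [dif_neg ht, dif_neg ht]
  rw [dif_pos ht, dif_pos ht]
  have hf : ∃ f : X.presheaf.stalk x, (L.presheaf.germ ⊤ x trivial) s = f • Classical.choose ht := by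
    obtain ⟨f, hf⟩ := Submodule.mem_span_singleton.mp
      ((Classical.choose_spec ht).ge (Submodule.mem_top : (L.presheaf.germ ⊤ x trivial) s ∈ ⊤))
    exact ⟨f, hf.symm⟩
  set t := Classical.choose ht
  rw [dif_pos hf]
  have hfs := Classical.choose_spec hf
  set f := Classical.choose hf
  have hη : (L.presheaf.germ ⊤ η trivial) s =
      X.presheaf.stalkSpecializes h f • L.presheaf.stalkSpecializes h t := by
    rw [← key, ← hfs]
    exact (TopCat.Presheaf.germ_stalkSpecializes_apply L.presheaf (U := ⊤) trivial h s).symm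
  have hφ : ∃ φ : X.presheaf.stalk η, (Submodule.Quotient.mk ((L.presheaf.germ ⊤ η trivial) s) : Cyc.secFibre L η) =
      φ • (Submodule.Quotient.mk (L.presheaf.stalkSpecializes h t) : Cyc.secFibre L η) :=
    ⟨X.presheaf.stalkSpecializes h f, by rw [← Submodule.Quotient.mk_smul, hη]⟩
  rw [dif_pos hφ]
  have hφs := Classical.choose_spec hφ
  set φ := Classical.choose hφ
  letI : Field (X.presheaf.stalk η) := (inferInstanceAs (Field X.functionField))
  have hm : IsLocalRing.maximalIdeal (X.presheaf.stalk η) = ⊥ := IsLocalRing.maximalIdeal_eq_bot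
  rw [← Submodule.Quotient.mk_smul, Submodule.Quotient.eq, hm, Submodule.bot_smul, Submodule.mem_bot, hη,
    ← sub_smul, smul_eq_zero, sub_eq_zero] at hφs
  have hne : X.presheaf.stalkSpecializes h f ≠ 0 := fun h0 => hs (by
    rw [show (L.presheaf.germ ⊤ η trivial) s = X.presheaf.stalkSpecializes h f • L.presheaf.stalkSpecializes h t from hη,
      h0, zero_smul])
  have hφ' : φ = X.presheaf.stalkSpecializes h f :=
    (hφs.resolve_right fun h0 => hs (by
      rw [show (L.presheaf.germ ⊤ η trivial) s = X.presheaf.stalkSpecializes h f • L.presheaf.stalkSpecializes h t from hη,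
        h0, smul_zero])).symm
  rw [hφ']
  show Cyc.ordAt x η h (Cyc.specMap x η h f) = _
  have hker : RingHom.ker (Cyc.specMap x η h) = ⊥ := by
    refine (RingHom.injective_iff_ker_eq_bot _).1 fun a b hab => ?_
    have h1 : X.presheaf.stalkSpecializes h a - X.presheaf.stalkSpecializes h b ∈
        IsLocalRing.maximalIdeal (X.presheaf.stalk η) := Ideal.Quotient.eq.mp hab
    rw [hm, Ideal.mem_bot, sub_eq_zero] at h1
    exact IsFractionRing.injective (X.presheaf.stalk x) X.functionField h1
  have hf0 : f ∉ RingHom.ker (Cyc.specMap x η h) := by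
    rw [hker, Ideal.mem_bot]
    intro h0
    exact hne (by rw [h0]; exact map_zero _)
  rw [← Groth.Agent.CycLib.algebraMap_locQuot_mk, Groth.Agent.CycLib.ordAt_algebraMap hX.2.2 h hx
    (fun h0 => hf0 (Ideal.Quotient.eq_zero_iff_mem.mp h0))]
  let e : X.presheaf.stalk x ≃+* Cyc.LocQuot x η h :=
    (RingEquiv.quotientBot _).symm.trans (Ideal.quotEquivOfEq hker.symm)
  rw [show Ideal.Quotient.mk _ f = e f from rfl, Groth.Agent.CycLib.ord_ringEquiv e f]
  rfl

end Groth.Agent.S1923
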