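import Groth.Statements.S11377
import Groth.Agent.Lib.RegularResolution
import Groth.Agent.SheafHomX.Coherent
import Groth.Agent.AmpleVan.Vanish
set_option autoImplicit false
universe u
open CategoryTheory CategoryTheory.Limits AlgebraicGeometry TopologicalSpace
open CohDim

namespace Groth.Agent.S11377

open Groth.Agent.H23.PicMul
namespace Aux
open Groth.Agent Groth.Agent.AmpleVan Groth.Agent.H23.PicMul
attribute [local instance] Groth.Agent.QCoh.hasFiniteBiproducts

set_option maxHeartbeats 1000000 in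
theorem exists_quot {X : Scheme.{u}} [IsNoetherian X] {L M : X.Modules} (hL : CohB1.IsAmple L)
    (hM : PicF.IsInvertible M) (hinv : PicF.cl L * PicF.cl M = 1) (m₀ : ℕ) {F : X.Modules} (hF : Coh.IsCoh F) :
    ∃ (c n : ℕ) (p : twSum (CohB1.tensorPow M n) c ⟶ F), m₀ ≤ n ∧ Epi p := by
  haveI := AmpleX.isSeparated_of_isAmple hL
  obtain ⟨N, hN⟩ := AmpleX.eventually_generated hL hF.1 hF.2
  obtain ⟨G, φ, ι, s, hs⟩ := hN (max N m₀) (le_max_left _ _)
  have hG : Coh.IsCoh G := SheafHomX.isCoh_of_iso φ.symm (AmpleVan.isCoh_tensor hF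
    (KZ.LFRes.flf_isCoh (KZ.QuasiProj.flf_of_invertible (InvX.isInvertible_tensorPow hL.1 _))))
  obtain ⟨c, f, hf⟩ := exists_fin_generatedBy hG s hs
  obtain ⟨g, hg⟩ := InvX.exists_epi_freeMod hf
  let P := CohB1.tensorPow M (max N m₀)
  haveI := isEquivalence_tw (InvX.isInvertible_tensorPow hM (max N m₀))
  obtain ⟨ψ⟩ : Nonempty ((tw P).obj G ≅ F) := cl_eq_iff.1 (by
    show PicF.cl (CohB1.tensorMod G P) = _
    rw [cl_tensor, cl_eq_iff.2 ⟨φ⟩, cl_tensor, cl_tensorPow, cl_tensorPow, mul_assoc, ← mul_pow, hinv,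
      one_pow, mul_one])
  let q₀ : (⨁ fun _ : Fin c => Coh.structureModule X) ⟶ G :=
    (biproduct.isoCoproduct (fun _ : Fin c => Coh.structureModule X)).hom ≫ g
  haveI : Epi q₀ := epi_comp _ g
  let q : twSum P c ⟶ F := (tw P).map q₀ ≫ ψ.hom
  haveI : Epi q := epi_comp _ _
  exact ⟨c, max N m₀, q, le_max_right _ _, inferInstance⟩

end Aux


/-- Let S be an integral scheme, separated and of finite type over an algebraically closed field k, with
all local rings regular, let L be an ample invertible O_S-module with tensor inverse M (so S is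
quasi-projective and M^{⊗m} plays the role of O_S(-m)), and let r ≥ 0. If there is m₀ such that
H^i(S, M^{⊗m}) = 0 for every i > r and every m ≥ m₀, then H^i(S, F) = 0 for every i > r and every
coherent O_S-module F. (The published statement takes O_S(1) from a quasi-projective embedding; the
printed proof uses only that F ⊗ O_S(m) is generated by finitely many global sections for m ≫ 0,
which holds for any ample L.) -/
theorem result (k : Type u) [Field k] [IsAlgClosed k] (S : Scheme.{u})
    [S.Over (Spec (CommRingCat.of k))] [IsSeparated (S ↘ (Spec (CommRingCat.of k)))]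
    [LocallyOfFiniteType (S ↘ (Spec (CommRingCat.of k)))] [QuasiCompact (S ↘ (Spec (CommRingCat.of k)))]
    [IsIntegral S] (hreg : ∀ x : S, IsRegularLocalRing (S.presheaf.stalk x))
    (L M : S.Modules) (hL : CohB1.IsAmple L) (hM : ClSub.IsInverseOf M L) (r : ℕ)
    (hneg : ∃ m₀ : ℕ, ∀ m : ℕ, m₀ ≤ m → ∀ i : ℕ, r < i → Subsingleton (Coh.HH S (CohB1.tensorPow M m) i))
    (F : S.Modules) (hF : Coh.IsCoh F) (i : ℕ) (hi : r < i) :
    Subsingleton (Coh.HH S F i) := by

    haveI : IsLocallyNoetherian S := LocallyOfFiniteType.isLocallyNoetherian (S ↘ (Spec (CommRingCat.of k)))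
    haveI : CompactSpace S := QuasiCompact.compactSpace_of_compactSpace (S ↘ (Spec (CommRingCat.of k)))
    haveI : IsNoetherian S := {}
    haveI : S.IsSeparated := ⟨by rw [← terminal.comp_from (S ↘ (Spec (CommRingCat.of k)))]; infer_instance⟩
    open Groth.Agent.H23.PicMul in
    obtain ⟨e⟩ := hM
    obtain ⟨m₀, hm₀⟩ := hneg
    have hinv : PicF.cl L * PicF.cl M = 1 := by
      rw [mul_comm, ← Groth.Agent.H23.PicMul.cl_tensor, Groth.Agent.H23.PicMul.one_def]
      exact Groth.Agent.H23.PicMul.cl_eq_iff.2 ⟨e⟩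
    obtain ⟨D, hD, hd⟩ := Groth.Agent.H23.PicInv.exists_inverse hL.1
    have hd' : PicF.cl L * PicF.cl D = 1 := by
      rw [← Groth.Agent.H23.PicMul.cl_tensor, Groth.Agent.H23.PicMul.one_def]
      exact Groth.Agent.H23.PicMul.cl_eq_iff.2 hd
    obtain ⟨eMD⟩ : Nonempty (D ≅ M) := Groth.Agent.H23.PicMul.cl_eq_iff.1 (by
      rw [← one_mul (PicF.cl D), ← hinv, mul_comm (PicF.cl L), mul_assoc, hd', mul_one])
    have hMi : PicF.IsInvertible M := Groth.Agent.H23.PicMul.isInvertible_of_iso eMD hD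
    refine Groth.Agent.RegularResolution.subsingleton_HH_of_quot r (fun F hF => ?_) F hF i hi
    obtain ⟨c, n, p, hn, hp⟩ := Aux.exists_quot hL hMi hinv m₀ hF
    have hP := Groth.Agent.InvX.isInvertible_tensorPow hMi n
    exact ⟨_, p, Groth.Agent.KZ.LFRes.flf_isCoh (Groth.Agent.AmpleVan.isFinLocFree_twSum hP c), hp,
      fun i hi => Groth.Agent.AmpleVan.subsingleton_HH_twSum hP c i (hm₀ n hn i hi)⟩

end Groth.Agent.S11377
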