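import Groth.Statements.S1028
import Groth.Agent.H28.VectPerf
import Groth.Agent.KFlatLib.Scheme.CohExtend
-- import your own Groth.Agent.* helpers here

set_option autoImplicit false
universe u
open CategoryTheory CategoryTheory.Limits AlgebraicGeometry
attribute [local instance] HasDerivedCategory.standard
open KZero

namespace Groth.Agent.S1028

/-- Let the scheme X be quasi-compact, quasi-separated and have the resolution property. There is an
isomorphism between K₀(Vect(X)) (free abelian group on finite locally free O_X-modules modulo short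
exact sequences of such) and K₀(X) = K₀(D_perf(O_X)) (free abelian group on perfect objects of
D(O_X) modulo distinguished triangles of perfect objects) sending the class of a finite locally free
module E to the class of E placed in degree 0. -/
theorem result (X : Scheme.{u}) [CompactSpace ↥X] [QuasiSeparatedSpace ↥X] (hX : PerfAux.HasResolutionProperty X) :
    ∃ φ : KZero.K0sub (fun M : X.Modules => FlatMod.IsFinLocFree M) ≃+ KZero.K0tr (fun K : DCoh.D X => DCoh.IsPerfect K),
      ∀ E : X.Modules, FlatMod.IsFinLocFree E →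
        φ (KZero.clSub (fun M : X.Modules => FlatMod.IsFinLocFree M) E) = KZero.clTr (fun K : DCoh.D X => DCoh.IsPerfect K) (DCoh.inD X E) := by
  let P : ObjectProperty X.Modules := fun M => FlatMod.IsFinLocFree M
  have hP : Groth.Agent.H28.VectPerf.ECls P :=
    ⟨fun e h => Groth.Agent.H23.PullPush.isFinLocFree_of_iso e h, fun _ h => Groth.Agent.KFlatLib.isFinLocFree_of_isZero h,
      fun _ _ h h' => Groth.Agent.KFlatLib.isFinLocFree_biprod h h', fun S hS h₂ h₃ => by
        haveI := hS.epi_g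
        exact Groth.Agent.H23.PullPush.isFinLocFree_of_iso (IsLimit.conePointUniqueUpToIso hS.fIsKernel (kernelIsKernel S.g)).symm
          (Groth.Agent.KFlatLib.isFinLocFree_kernel S.g h₂ h₃)⟩
  have hb : ∀ E : CochainComplex X.Modules ℤ, Groth.Agent.H28.VectPerf.BdP P E ↔ DCoh.IsStrictlyPerfect E :=
    fun E => ⟨fun ⟨h, hz⟩ => ⟨hz, h⟩, fun ⟨hz, h⟩ => ⟨h, hz⟩⟩
  have hr : Groth.Agent.H28.VectPerf.HasRoofs P := fun E F hE hF α => by
    obtain ⟨G, g, h, hG, hg, he⟩ := Groth.Agent.S1037.result X hX E F ((hb E).1 hE) ((hb F).1 hF) α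
    exact ⟨G, g, h, (hb G).2 hG, hg, he⟩
  have hR : ∀ K : DCoh.D X, DCoh.IsPerfect K ↔ Groth.Agent.H28.VectPerf.IsPerf P K := fun K => by
    refine ⟨fun hK => ?_, ?_⟩
    · obtain ⟨E, hE, he⟩ := Groth.Agent.S1036.result X hX K hK
      exact ⟨E, (hb E).2 hE, he⟩
    · rintro ⟨E, hE, ⟨e⟩⟩
      refine (Groth.Agent.KFlatLib.isPerfect_iff K).2 fun x => ⟨X, 𝟙 X, inferInstance, ⟨x, rfl⟩, E, (hb E).1 hE, ?_⟩
      obtain ⟨e'⟩ := Groth.Agent.KFlatLib.CohExtend.nonempty_rho_id K
      exact ⟨e ≪≫ e'.symm⟩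
  obtain ⟨φ, hφ, -⟩ := Groth.Agent.H28.VectPerf.exists_equiv_perf (P := P) (fun K : DCoh.D X => DCoh.IsPerfect K) hR hP hr
  exact ⟨φ, hφ⟩

end Groth.Agent.S1028
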