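import Groth.Statements.S4039
import Groth.Agent.HypSmooth.Points
import Groth.Agent.HypSmooth.QuadForm
import Groth.Agent.LefPenLib.Nondeg
import Groth.Agent.S2768
import Mathlib.FieldTheory.IsAlgClosed.AlgebraicClosure

set_option backward.isDefEq.respectTransparency false
set_option backward.isDefEq.respectTransparency.types false

set_option autoImplicit false
universe u
open CategoryTheory CategoryTheory.Limits AlgebraicGeometry
open LefPen

namespace Groth.Agent.S4039

theorem ne_zero_of_smoothRelDim (k : Type u) [Field k] (n : ℕ) (Q : LefPen.Form (n + 1) k 2)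
    [h : SmoothOfRelativeDimension n ((LefPen.hypIdeal Q).subschemeι ≫ CohB1.ProjSpace.toSpec (n + 1) k)] :
    Q.1 ≠ 0 := by
  intro hQ
  have hb : LefPen.hypIdeal Q = ⊥ := by
    refine Scheme.IdealSheafData.ext_of_iSup_eq_top (fun i => LefPenLib.chartAff i)
      LefPenLib.iSup_chart fun i => ?_
    rw [LefPenLib.hypIdeal_chart, LefPenLib.dehom_eq, hQ, map_zero, map_zero,
      Ideal.span_singleton_eq_bot.2 rfl]
    rfl
  haveI := (Scheme.isIso_subschemeι_iff_eq_bot _).2 hb
  haveI : SmoothOfRelativeDimension n (CohB1.ProjSpace.toSpec (n + 1) k) := by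
    haveI : SmoothOfRelativeDimension 0 (inv (LefPen.hypIdeal Q).subschemeι) := inferInstance
    have h2 : SmoothOfRelativeDimension (0 + n) (inv (LefPen.hypIdeal Q).subschemeι ≫
        (LefPen.hypIdeal Q).subschemeι ≫ CohB1.ProjSpace.toSpec (n + 1) k) := inferInstance
    rwa [IsIso.inv_hom_id_assoc, zero_add] at h2
  haveI := LefPenLib.smoothRelDim_toSpec (m := n + 1) (k := k)
  haveI := LefPenLib.isIntegral_ps (m := n + 1) (k := k)
  obtain ⟨x⟩ : Nonempty (CohB1.ProjSpace (n + 1) k) := inferInstance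
  have := (S2768.result n (CohB1.ProjSpace.toSpec (n + 1) k) x).symm.trans
    (S2768.result (n + 1) (CohB1.ProjSpace.toSpec (n + 1) k) x)
  norm_cast at this
  omega


/-- Let k be a finite field with q elements, n ≥ 0, and Q a quadratic form in n + 2 variables over k
whose zero scheme X = V(Q) ⊆ P^{n+1}_k is smooth over k of relative dimension n (a smooth quadric of
dimension n over k). Then the number of k-rational points of X is Σ_{i=0}^{n} q^i if n is odd, and
Σ_{i=0}^{n} q^i + ε q^{n/2} with ε = 1 or ε = -1 if n is even, where ε = 1 exactly when X is split,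
i.e. contains a k-rational linear subspace of dimension n/2 (Q vanishes on a subspace of k^{n+2} of
dimension n/2 + 1). -/
theorem result (k : Type u) [Field k] [Fintype k] (n : ℕ) (Q : LefPen.Form (n + 1) k 2)
    [SmoothOfRelativeDimension n ((LefPen.hypIdeal Q).subschemeι ≫ CohB1.ProjSpace.toSpec (n + 1) k)] :
    (Odd n → (SgaExt.pointCount ((LefPen.hypIdeal Q).subschemeι ≫ CohB1.ProjSpace.toSpec (n + 1) k) k : ℤ) =
      ∑ i ∈ Finset.range (n + 1), (Fintype.card k : ℤ) ^ i) ∧
    (Even n → ∃ ε : ℤ, (ε = 1 ∨ ε = -1) ∧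
      (SgaExt.pointCount ((LefPen.hypIdeal Q).subschemeι ≫ CohB1.ProjSpace.toSpec (n + 1) k) k : ℤ) =
        (∑ i ∈ Finset.range (n + 1), (Fintype.card k : ℤ) ^ i) + ε * (Fintype.card k : ℤ) ^ (n / 2) ∧
      (ε = 1 ↔ ∃ W : Submodule k (Fin (n + 1 + 1) → k), Module.finrank k ↥W = n / 2 + 1 ∧
        ∀ w ∈ W, MvPolynomial.eval w Q.1 = 0)) := by
  classical
  have hne := ne_zero_of_smoothRelDim k n Q
  have hhom : Q.1.IsHomogeneous 2 := (MvPolynomial.mem_homogeneousSubmodule 2 _).1 Q.2
  obtain ⟨φ, hφ, hpol⟩ := HypSmooth.exists_quadraticForm Q.1 hhom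
  haveI : Smooth ((LefPen.hypIdeal Q).subschemeι ≫ CohB1.ProjSpace.toSpec (n + 1) k) :=
    SmoothOfRelativeDimension.smooth n _
  have hnd : HypSmooth.QNondeg φ := by
    intro v hv h0
    have halg : ∀ p : MvPolynomial (Fin (n + 1 + 1)) k,
        MvPolynomial.aeval (fun l => algebraMap k (AlgebraicClosure k) (v l)) p =
          algebraMap k (AlgebraicClosure k) (MvPolynomial.eval v p) := fun p => by
      rw [show (fun l => algebraMap k (AlgebraicClosure k) (v l)) = (algebraMap k (AlgebraicClosure k)) ∘ v from rfl,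
        MvPolynomial.aeval_algebraMap_apply, MvPolynomial.aeval_eq_eval]
    obtain ⟨l, hl⟩ := (HypSmooth.smooth_hyp_iff Q hne (AlgebraicClosure k)).1 ‹_›
      (fun l => algebraMap k (AlgebraicClosure k) (v l))
      (fun h => hv (funext fun l => (algebraMap k (AlgebraicClosure k)).injective
        ((congrFun h l).trans (map_zero _).symm)))
      (by rw [halg, ← hφ, h0, map_zero])
    refine ⟨Pi.single l 1, ?_⟩
    rw [hpol, Finset.sum_eq_single l (fun l' _ hl' => by rw [Pi.single_eq_of_ne hl', zero_mul])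
      (fun h => absurd (Finset.mem_univ l) h), Pi.single_eq_same, one_mul]
    intro h
    rw [halg, h, map_zero] at hl
    exact hl rfl
  have hcone := HypSmooth.card_cone (k := k) (N := n + 1) (fun v => MvPolynomial.eval v Q.1 = 0)
    (by rw [← hφ, QuadraticMap.map_zero])
    (fun c v hc => by rw [← hφ, ← hφ, QuadraticMap.map_smul, smul_eq_mul, mul_eq_zero,
      or_iff_right (mul_ne_zero hc hc)])
  rw [← HypSmooth.card_points Q, Nat.card_eq_fintype_card (α := k)] at hcone
  have hq : (1 : ℤ) < Fintype.card k := by exact_mod_cast Fintype.one_lt_card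
  have hN : (HypSmooth.zeroCount φ : ℤ) = ((Fintype.card k : ℤ) - 1) *
      (SgaExt.pointCount ((LefPen.hypIdeal Q).subschemeι ≫ CohB1.ProjSpace.toSpec (n + 1) k) k : ℤ) + 1 := by
    rw [show HypSmooth.zeroCount φ = Nat.card {v : Fin (n + 1 + 1) → k // MvPolynomial.eval v Q.1 = 0} from
      Nat.card_congr (Equiv.subtypeEquivRight fun v => by rw [hφ]), hcone]
    push_cast [Nat.cast_sub Fintype.card_pos]
    rfl
  have hdim : Module.finrank k (Fin (n + 1 + 1) → k) = n + 2 := by simp
  generalize (SgaExt.pointCount ((LefPen.hypIdeal Q).subschemeι ≫ CohB1.ProjSpace.toSpec (n + 1) k) k : ℤ) = P at hN ⊢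
  have hgeom := geom_sum_mul (Fintype.card k : ℤ) (n + 1)
  have hq1 : ((Fintype.card k : ℤ) - 1) ≠ 0 := by linarith
  constructor
  · intro hn
    obtain ⟨l, rfl⟩ := hn
    have h := HypSmooth.zeroCount_odd (l + 1) φ hnd (by rw [hdim]; ring)
    rw [hN] at h
    refine mul_left_cancel₀ hq1 ?_
    rw [show 2 * l + 1 + 1 = 2 * (l + 1) by ring] at hgeom ⊢
    linear_combination h - hgeom
  · intro hn
    obtain ⟨m, rfl⟩ := hn
    rw [show (m + m) / 2 = m by omega]
    have h := HypSmooth.zeroCount_even m φ hnd (by rw [hdim]; ring)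
    have hiso : HypSmooth.HasIso φ (m + 1) ↔ ∃ W : Submodule k (Fin (m + m + 1 + 1) → k),
        Module.finrank k ↥W = m + 1 ∧ ∀ w ∈ W, MvPolynomial.eval w Q.1 = 0 := by
      simp only [HypSmooth.HasIso, hφ]
    rw [← hiso]
    rw [show m + m + 1 = 2 * m + 1 by ring] at hgeom
    by_cases hs : HypSmooth.HasIso φ (m + 1)
    · have h1 := h.1 hs
      rw [hN] at h1
      refine ⟨1, Or.inl rfl, mul_left_cancel₀ hq1 ?_, iff_of_true rfl hs⟩
      rw [show m + m + 1 = 2 * m + 1 by ring]
      linear_combination h1 - hgeom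
    · have h1 := h.2 hs
      rw [hN] at h1
      refine ⟨-1, Or.inr rfl, mul_left_cancel₀ hq1 ?_, iff_of_false (by norm_num) hs⟩
      rw [show m + m + 1 = 2 * m + 1 by ring]
      linear_combination h1 - hgeom

end Groth.Agent.S4039
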