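import Groth.Statements.S5020
import Groth.Agent.Synt29.ConormalStalk
import Mathlib

set_option autoImplicit false
universe u
open CategoryTheory CategoryTheory.Limits AlgebraicGeometry TopologicalSpace
open Unram17

namespace Groth.Agent.S5020

/-- Let j : X' ⟶ X be a quasi-compact immersion and f : X ⟶ Y a morphism with j ≫ f formally smooth. Let
(Ω', d) be a sheaf of differentials of X over Y (d universal) and φ the canonical map from the
conormal sheaf of j to the pullback of Ω' along j (the O_{X'}-linear map sending the class of a
local section s of the ideal of j to the pullback of d s). Then φ is a monomorphism. (The published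
statement allows any immersion j and also asserts that the sequence conormal sheaf → pullback of Ω'
→ differentials of X' over Y is short exact and locally split; this row assumes j quasi-compact, the
case in which the conormal sheaf used here is known to be the conormal sheaf of j, and states only
that the first map is injective.) -/
theorem result {X' X Y : Scheme.{u}} (j : X' ⟶ X)
    [IsImmersion j] [QuasiCompact j] (f : X ⟶ Y) (hf : MoreMor.IsFormallySmoothHom (j ≫ f))
    (Ω' : X.Modules) (d : OmegaSh.Der f Ω') (hd : OmegaSh.IsUniversal d)
    (φ : Omega.conormal j ⟶ (Scheme.Modules.pullback j).obj Ω') (hφ : OmegaSh.IsConormalDiff j d φ) :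
    Mono φ := by
  
  exact Groth.Agent.Synt29.ConormalStalk.mono_conormalDiff j f hf Ω' d hd φ hφ

end Groth.Agent.S5020
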