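import Groth.Statements.S1928
import Groth.Agent.H23.IntNumCycle
import Groth.Agent.H23.SetupLFT
import Groth.Agent.H23.PicInv
import Groth.Agent.H23.FundCycle
import Groth.Agent.H23.GysinComm
import Groth.Agent.H23.ClosedPushLen
-- import your own Groth.Agent.* helpers here

set_option autoImplicit false
universe u
open CategoryTheory AlgebraicGeometry
open Cyc

namespace Groth.Agent.S1928

/-- Let X be proper over a field k with dim X ≤ 1 and L an invertible O_X-module. Then deg(L) := χ(X, L)
− χ(X, O_X) equals the degree Σ_x [κ(x) : k] · n_x of the 0-cycle c_1(L) ∩ [X]_1 = Σ n_x [x],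
computed with any nonzero rational sections (the degree is independent of the choice). Dimension
function: transcendence degree over k. (The source treats finite locally free modules of any
constant rank via c_1 of a vector bundle; only the invertible case is stated.) Here L(ξ) = L_ξ/𝔪_ξ
L_ξ is the space of rational sections of L on the closure of ξ, div_{L|W}(s) and c_1(L) ∩ α are
computed as coefficient functions from chosen nonzero rational sections (Cyc.secDivFun,
Cyc.c1CapFun), and results are compared up to rational equivalence for any cycles with those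
coefficients. -/
theorem result (k : Type u) [Field k] (X : Scheme.{u}) [X.Over (Spec (CommRingCat.of k))] [IsProper (X ↘ Spec (CommRingCat.of k))] (hdim : topologicalKrullDim X ≤ 1) (δ : X → ℤ) (hδ : Cyc.DeltaCompat (X ↘ Spec (CommRingCat.of k)) δ (fun _ => 0)) (L : X.Modules) (hL : PicF.IsInvertible L) (s : (ξ : X) → Cyc.secFibre L ξ) (hs : ∀ ξ, s ξ ≠ 0) : Curv2.deg k X L 1 = ∑ᶠ x : X, ((X ↘ Spec (CommRingCat.of k)).residueDegree x : ℤ) * Cyc.c1CapFun δ L (Cyc.subschemeFun δ 1 (𝟙 X)) s x := by  classical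
  have hX : Cyc.IsSetup X δ := Groth.Agent.H23.SetupLFT.isSetup (X ↘ Spec (CommRingCat.of k))
    (Groth.Agent.CycLib.isSetup_spec_field k) hδ
  haveI := hX.1
  haveI := Groth.Agent.CurveCohLib.isNoetherian_of_proper (k := k) (X := X)
  haveI := Groth.Agent.FibDim.subsingleton_spec_field k
  obtain ⟨D, hD, ⟨eD⟩⟩ := Groth.Agent.H23.PicInv.exists_inverse hL
  let O := Coh.structureModule X
  have hdle : ∀ x : X, δ x ≤ 1 := fun x => by
    have h1 : topologicalKrullDim ↥(closure ({x} : Set X)) ≤ (1 : WithBot ℕ∞) :=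
      (Topology.IsEmbedding.subtypeVal.isInducing.topologicalKrullDim_le).trans hdim
    rw [Groth.Agent.FibDim.topologicalKrullDim_closure (X ↘ Spec (CommRingCat.of k))] at h1
    rw [Groth.Agent.CycLib.deltaCompat_eq (X ↘ Spec (CommRingCat.of k)) hδ x, zero_add]
    exact_mod_cast h1
  have hO : Cyc.CohLe δ 1 O := ⟨Groth.Agent.QCoh.isCoh_structureModule', fun x _ => hdle x⟩
  let F := (Groth.Agent.H23.K0TensorInv.ten L).obj O
  have hF : Cyc.CohLe δ 1 F := Groth.Agent.H23.K0TensorInv.cohLe_ten hL hO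
  let eF : F ≅ L := Groth.Agent.CurveTensor.structureTensorIso L
  have hfun : Cyc.sheafFun δ 1 F = Cyc.subschemeFun δ 1 (𝟙 X) := by
    rw [Groth.Agent.H23.K0TensorInv.sheafFun_ten hL]
    funext x
    rw [Groth.Agent.H23.FundCycle.subschemeFun_id]
    simp only [Cyc.sheafFun, O, Groth.Agent.H23.ClosedPushLen.length_structureModule]
  obtain ⟨a, ha⟩ : ∃ a : AlgebraicCycle X ℤ, ⇑a = Cyc.sheafFun δ 1 F :=
    ⟨⟨_, fun _ _ => Set.mem_univ _, fun z _ => Groth.Agent.H23.P1Fam.locFin_sheafFun hX.2.2 hF.1 hF.2 z⟩, rfl⟩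
  let b := Groth.Agent.H23.RatSec.c1CapCycle hL hX.2.2 a s hs
  let γ : ℕ → AlgebraicCycle X ℤ := fun i => if i = 0 then a else b
  have hM : Nonempty (CohB1.tensorMod D L ≅ O) := ⟨Groth.Agent.CurveTensor.commIso D L ≪≫ eD⟩
  have h := Groth.Agent.H23.IntNumCycle.main k hX hδ 1 (fun _ => D) (fun _ => L) (fun _ => hD) (fun _ => hL)
    (fun _ => hM) (fun _ => s) (fun _ => hs) F hF γ ha (fun i hi => by
      obtain rfl : i = 0 := by omega
      rfl)
  have e2 : CohB1.tensorMod F D ≅ O := PicGrp.tensorModIso eF (Iso.refl D) ≪≫ eD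
  have h' : Curv2.euler k X F - Curv2.euler k X (CohB1.tensorMod F D) =
      Groth.Agent.H23.IntNumCycle.degHom k δ b := h
  rw [Groth.Agent.CurveCohLib.euler_congr (k := k) eF, Groth.Agent.CurveCohLib.euler_congr (k := k) e2,
    Groth.Agent.H23.IntNumCycle.degHom_apply] at h'
  have hd1 : Curv2.deg k X L 1 = Curv2.euler k X L - Curv2.euler k X O := by simp [Curv2.deg, O]
  rw [hd1, h']
  refine finsum_congr fun x => ?_
  have hb : b x = Cyc.c1CapFun δ L (Cyc.subschemeFun δ 1 (𝟙 X)) s x := by
    rw [← hfun, ← ha]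
    rfl
  rw [hb]
  by_cases hx : δ x = 0
  · rw [if_pos hx, mul_comm]
  · rw [if_neg hx, mul_zero, Groth.Agent.H23.GysinLib.c1CapFun_degree (k := 1) _ (fun ξ hξ => ?_) _ (by omega), mul_zero]
    simp [Cyc.subschemeFun, hξ]


end Groth.Agent.S1928
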