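import Groth.Statements.S12672
import Groth.Agent.H23.DegDet
import Groth.Agent.S1928
import Groth.Agent.H23.Chern.Rank
import Groth.Agent.H23.GysinComm
-- import your own Groth.Agent.* helpers here

set_option autoImplicit false
universe u
open CategoryTheory CategoryTheory.Limits AlgebraicGeometry
open Cyc

namespace Groth.Agent.S12672

/-- Let X be proper over a field K with dim X ≤ 1 and E a finite locally free O_X-module of constant
rank r. Then deg(E) = deg(c_1(E) ∩ [X]_1), where deg(E) = χ(X, E) - r·χ(X, O_X) (Curv2.deg) and the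
right side is the degree (ChowOps.deg, pushforward to the point) of a representative of c_1(E) ∩
[X]_1, [X]_1 being the 1-cycle of X (Cyc.subschemeFun); for r = 0 both sides are 0. Dimension
function: transcendence degree over K. (This is the general constant-rank case; the invertible case
is a separate result stated with c_1(L) ∩ - of an invertible module.) Setting: (X, δ) with
Cyc.IsSetup stands for a scheme locally of finite type over the base (S, δ) (X locally Noetherian
with universally catenary local rings, δ a dimension function); (p : P → X, O_P(1), q) is the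
projective bundle of E given by its universal property (KRR.IsProjBundle), p is proper and δP is the
induced dimension function (Cyc.DeltaCompat); a tuple γ with Cyc.IsChernCap represents (c_0(E) ∩ α,
…, c_r(E) ∩ α) through the defining relation Σ_i (-1)^i c_1(O_P(1))^i ∩ p^*(γ_{r-i}) ∼_rat 0 on P,
and classes are compared up to rational equivalence of representing cycles. -/
theorem result (K : Type u) [Field K] (X : Scheme.{u}) [X.Over (Spec (CommRingCat.of K))] [IsProper (X ↘ Spec (CommRingCat.of K))] (hdim : topologicalKrullDim X ≤ 1) (δ : X → ℤ) (hX : Cyc.IsSetup X δ) (hK : Cyc.DeltaCompat (X ↘ Spec (CommRingCat.of K)) δ (fun _ => 0)) (r : ℕ) (E : X.Modules) (hPE : FlatMod.IsFinLocFreeOfRank r E) (P : Scheme.{u}) (p : P ⟶ X) (O1 : P.Modules) (q : (Scheme.Modules.pullback p).obj E ⟶ O1) (hP : KRR.IsProjBundle p E O1 q) [IsProper p] (δP : P → ℤ) (hPs : Cyc.IsSetup P δP) (hδ : Cyc.DeltaCompat p δP δ) (α : AlgebraicCycle X ℤ) (hα : ⇑α = Cyc.subschemeFun δ 1 (𝟙 X)) (γ : Fin (r + 1) → AlgebraicCycle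 X ℤ) (hγ : Cyc.IsChernCap p δ δP O1 r 1 α γ) : Curv2.deg K X E r = (if h : 1 ≤ r then ChowOps.deg (X ↘ Spec (CommRingCat.of K)) δ (γ ⟨1, Nat.lt_succ_of_le h⟩) else 0) := by  classical
  haveI := hX.1
  haveI := Groth.Agent.FibDim.subsingleton_spec_field K
  let l := Groth.Agent.H28.KvbModel.lf_of_rank hPE
  let D := Groth.Agent.H28.ExtBase.L E r
  have hDE : ExtPow.IsExtPow r E D := Groth.Agent.H28.ExtSh.isExtPow_L r l
  have hD : PicF.IsInvertible D := Groth.Agent.H28.PBCores.isInvertible_iff_rank.2 (Groth.Agent.H28.PBCores.rank_top hPE)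
  have hαm : α ∈ Cyc.Zk X δ 1 := fun x hx => by rw [hα]; simp [Cyc.subschemeFun, hx]
  have hC := Groth.Agent.H23.Chern.isC_of hX hPE hP hδ hγ
  have hdet := Groth.Agent.H23.Chern.fstC_det hX hPE hD hDE hαm hC
  obtain ⟨t, ht⟩ := Groth.Agent.H23.RatSec.exists_sections hD
  let b := Groth.Agent.H23.RatSec.c1CapCycle hD hX.2.2 α t ht
  have hb := Groth.Agent.H23.Chern.trans' hX hdet (Groth.Agent.H23.Chern.c1v_eq hX hD hαm
    (Groth.Agent.H23.Chern.ratEquiv_rfl α) ht (Groth.Agent.H23.RatSec.coe_c1CapCycle hD hX.2.2 α t ht))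
  rw [sub_self] at hb
  have hpt := Groth.Agent.CycLib.isSetup_spec_field K
  have hmap := Groth.Agent.CycLib.ratEquiv_map (X ↘ Spec (CommRingCat.of K)) hX hpt hK hb
  have hdeg : ChowOps.deg (X ↘ Spec (CommRingCat.of K)) δ (Groth.Agent.H23.Chern.fstC γ) =
      ChowOps.deg (X ↘ Spec (CommRingCat.of K)) δ b := by
    obtain ⟨ι, ξ, f, hξ, -, -, hs⟩ := hmap
    haveI : IsEmpty ι := ⟨fun i => absurd (hξ i) (by simp)⟩
    have h := hs (IsLocalRing.closedPoint K)
    rw [finsum_of_isEmpty, Function.locallyFinsuppWithin.coe_sub, Pi.sub_apply, sub_eq_zero] at h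
    exact h
  rw [Groth.Agent.H23.DegDet.deg_det K hdim hPE hDE, Groth.Agent.S1928.result K X hdim δ hK D hD t ht]
  trans ChowOps.deg (X ↘ Spec (CommRingCat.of K)) δ b
  · show _ = Groth.Agent.H23.IntNumCycle.degHom K δ b
    rw [Groth.Agent.H23.IntNumCycle.degHom_apply]
    refine finsum_congr fun x => ?_
    have hbx : b x = Cyc.c1CapFun δ D (Cyc.subschemeFun δ 1 (𝟙 X)) t x := by rw [← hα]; rfl
    rw [← hbx]
    by_cases hx : δ x = 0
    · rw [if_pos hx, mul_comm]
    · rw [if_neg hx, mul_zero, hbx, Groth.Agent.H23.GysinLib.c1CapFun_degree (k := 1) _ (fun ξ hξ => ?_) _ (by omega),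
        mul_zero]
      simp [Cyc.subschemeFun, hξ]
  rw [← hdeg]
  unfold Groth.Agent.H23.Chern.fstC
  by_cases h : 1 ≤ r
  · rw [dif_pos h, dif_pos (by omega)]
  · rw [dif_neg h, dif_neg (by omega)]
    exact map_zero (Groth.Agent.H23.IntNumCycle.degHom K δ)


end Groth.Agent.S12672
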