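import Groth.Statements.S3795
import Groth.Agent.Lambda.SymmEval
-- import your own Groth.Agent.* helpers here

set_option autoImplicit false
universe v u
open CategoryTheory CategoryTheory.Limits AlgebraicGeometry
attribute [local instance] HasDerivedCategory.standard
open KRR

namespace Groth.Agent.S3795

open Groth.Agent.Lambda

/-- Let K be a λ-ring with positive structure having the splitting property, j ≥ 2, n ≥ 0 and x ∈ K. If
ψ^j(x) - j^n x lies in ℚF^{n+1} (some positive multiple lies in F^{n+1}, γ-filtration), then x lies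
in ℚF^n (some positive multiple of x lies in F^n). -/
theorem result (K : Type v) [CommRing K] [LambdaRing.LambdaOps K] (P : LambdaRing.PosStructure K) (hK : LambdaRing.HasSplitting K P) (j : ℕ) (hj : 2 ≤ j) (n : ℕ) (x : K)
    (hx : ∃ N : ℕ, 1 ≤ N ∧ (N : K) * (LambdaRing.adams P j x - (j : K) ^ n * x) ∈ LambdaRing.gammaFiltration P (n + 1)) :
    ∃ N : ℕ, 1 ≤ N ∧ (N : K) * x ∈ LambdaRing.gammaFiltration P n := by
  obtain ⟨N, hN, hx⟩ := hx
  suffices h : ∀ i, i ≤ n → ∃ M : ℕ, 1 ≤ M ∧ (M : K) * x ∈ LambdaRing.gammaFiltration P i from h n le_rfl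
  intro i
  induction i with
  | zero => exact fun _ => ⟨1, le_rfl, by rw [gammaFiltration_zero]; trivial⟩
  | succ i ih =>
    intro hi
    obtain ⟨M, hM, hMx⟩ := ih (by omega)
    have h1 := adams_sub_pow_mul_mem hK j i hMx
    have hadd : LambdaRing.adams P j ((M : K) * x) = (M : K) * LambdaRing.adams P j x := by
      rw [← nsmul_eq_mul, ← adamsHom_apply, map_nsmul, nsmul_eq_mul, adamsHom_apply]
    have h2 := gammaFiltration_anti (show i + 1 ≤ n + 1 by omega) (mul_mem_left (M : K) hx)
    have h3 := sub_mem (mul_mem_left (N : K) h1) h2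
    have hlt : j ^ i < j ^ n := Nat.pow_lt_pow_right (by omega) (by omega)
    refine ⟨N * M * (j ^ n - j ^ i), ?_, ?_⟩
    · exact Nat.one_le_iff_ne_zero.mpr (by simp only [ne_eq, mul_eq_zero]; omega)
    · convert h3 using 1
      rw [hadd, Nat.cast_mul, Nat.cast_mul, Nat.cast_sub hlt.le, Nat.cast_pow, Nat.cast_pow]
      ring

end Groth.Agent.S3795
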