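import Groth.Statements.S16759
import Groth.Agent.H23.SeesawGlobal
import Groth.Agent.H23.RigidApply
import Groth.Agent.H23.PullPush
import Groth.Agent.S2393
set_option autoImplicit false
universe u
open PicF

namespace Groth.Agent.S16759

set_option backward.isDefEq.respectTransparency false
set_option backward.isDefEq.respectTransparency.types false
set_option linter.style.haveILetI false

open AlgebraicGeometry CategoryTheory CategoryTheory.Limits

section Aux

open Groth.Agent

variable {X Y : Scheme.{u}} (f : X ⟶ Y)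

theorem bijective_of_finrank {y : Y} (h : Module.finrank (Y.residueField y) Γ(f.fiber y, ⊤) = 1) :
    Function.Bijective (algebraMap (Y.residueField y) Γ(f.fiber y, ⊤)) := by
  haveI : Nontrivial Γ(f.fiber y, ⊤) := Module.nontrivial_of_finrank_pos (R := Y.residueField y) (by omega)
  refine ⟨RingHom.injective _, fun z => ?_⟩
  obtain ⟨c, hc⟩ := exists_smul_eq_of_finrank_eq_one h (one_ne_zero (α := Γ(f.fiber y, ⊤))) z
  exact ⟨c, by rw [← hc, Algebra.smul_def, mul_one]⟩

theorem constFibres (h : ∀ y : Y, Module.finrank (Y.residueField y) Γ(f.fiber y, ⊤) = 1) :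
    H23.RigidApply.ConstFibres f := fun y => by
  have hy := bijective_of_finrank f (h y)
  have h2 := hy.comp (ConcreteCategory.bijective_of_isIso (Scheme.ΓSpecIso (Y.residueField y)).hom)
  show Function.Bijective (f.fiberToSpecResidueField y).appTop
  convert h2 using 1
  funext z
  show _ = (f.fiberToSpecResidueField y).appTop ((Scheme.ΓSpecIso (Y.residueField y)).inv _)
  exact (congrArg _ ((Scheme.ΓSpecIso (Y.residueField y)).hom_inv_id_apply z)).symm

theorem fieldH0 [QuasiCompact f] [QuasiSeparated f] (h : H23.RigidApply.ConstFibres f) (y : Y) :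
    H23.SeesawGlobal.FieldH0 f y := by
  intro K _ k hk
  subst hk
  let φ := Scheme.descResidueField (Scheme.stalkClosedPointTo k)
  let a := Y.fromSpecResidueField (k (IsLocalRing.closedPoint K))
  have hfac : Spec.map φ ≫ a = k := Scheme.descResidueField_stalkClosedPointTo_fromSpecResidueField K Y k
  let e : pullback f k ≅ pullback (pullback.snd f a) (Spec.map φ) :=
    pullback.congrHom rfl hfac.symm ≪≫ (pullbackLeftPullbackSndIso f a (Spec.map φ)).symm
  have he : pullback.snd f k = e.hom ≫ pullback.snd (pullback.snd f a) (Spec.map φ) := by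
    simp [e, pullback.congrHom, pullback.map, pullback.lift_snd, pullbackLeftPullbackSndIso_inv_snd_snd]
  have hv := Groth.Agent.H23.Rigid.bijective_app_snd_of_bijective (pullback.snd f a) (Spec.map φ) (h _)
  rw [he, Scheme.Hom.comp_appTop]
  have : IsIso (e.hom.app ⊤) := inferInstance
  exact (@ConcreteCategory.bijective_of_isIso _ _ _ _ _ _ _ _ e.hom.appTop this).comp (hv ⊤)

theorem bijective_app [IsProper f] [Flat f] [IsLocallyNoetherian Y]
    (h : ∀ y : Y, Module.finrank (Y.residueField y) Γ(f.fiber y, ⊤) = 1) (W : Y.Opens) :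
    Function.Bijective (f.app W) := by
  choose U hy hU using fun y : Y => S2393.result f y (bijective_of_finrank f (h y))
  let u : Coh.structureModule Y ⟶ (Scheme.Modules.pushforward f).obj (Coh.structureModule X) :=
    SheafOfModules.unitToPushforwardObjUnit f.toRingCatSheafHom
  have hB : TopologicalSpace.Opens.IsBasis {V : Y.Opens | ∃ y, V ≤ U y} :=
    TopologicalSpace.Opens.isBasis_iff_nbhd.2 fun {V x} hx => ⟨V ⊓ U x, ⟨x, inf_le_right⟩, ⟨hx, hy x⟩, inf_le_left⟩
  haveI : IsIso u := Groth.Agent.QCoh.isIso_of_isBasis u hB fun V ⟨y, hVy⟩ => by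
    haveI := hU y V hVy
    exact ConcreteCategory.bijective_of_isIso (f.app V)
  exact ((ConcreteCategory.isIso_iff_bijective _).1 (Scheme.Modules.Hom.isIso_iff_isIso_app.1 this W) :)

theorem of_local (hf : ∀ W : Y.Opens, Function.Bijective (f.app W)) (L : X.Modules)
    (h : ∀ y : Y, ∃ V : Y.Opens, y ∈ V ∧ ∃ s : Γ(L, f ⁻¹ᵁ V), InvX.IsFrame s) :
    PicF.IsInvertible ((Scheme.Modules.pushforward f).obj L) ∧
      IsIso ((Scheme.Modules.pullbackPushforwardAdjunction f).counit.app L) := by
  refine ⟨fun y => ?_, ?_⟩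
  · obtain ⟨V, hy, s, hs⟩ := h y
    obtain ⟨φ⟩ := InvX.nonempty_iso_of_isFrame hs
    exact ⟨V, hy, ⟨asIso ((H23.PullPush.pushRestrict f V).app L) ≪≫ (Scheme.Modules.pushforward (f ∣_ V)).mapIso φ ≪≫
      (H23.PullPush.structureModuleIsoPush (f ∣_ V) (H23.PullPush.app_morphismRestrict_bijective f hf V)).symm⟩⟩
  · refine H23.ModLoc.isIso_of_locally _ fun x => ?_
    obtain ⟨V, hy, s, hs⟩ := h (f x)
    obtain ⟨φ⟩ := InvX.nonempty_iso_of_isFrame hs
    refine ⟨f ⁻¹ᵁ V, hy, H23.PullPush.isIso_restrict_counit f V L ?_⟩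
    exact (NatTrans.isIso_app_iff_of_iso _ φ).mpr
      (H23.PullPush.isIso_counit_structureModule (f ∣_ V) (H23.PullPush.app_morphismRestrict_bijective f hf V))

end Aux



open AlgebraicGeometry CategoryTheory CategoryTheory.Limits in
/-- Let f : X → Y be proper and flat with Y locally Noetherian and reduced, assume dim_{κ(y)} H⁰(X_y,
O_{X_y}) = 1 for every y, and let L be an invertible O_X-module. Then L ≅ f^*M for some invertible
O_Y-module M if and only if L|_{X_y} ≅ O_{X_y} for every point y of Y; moreover, when this holds,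
f_*L is invertible and the counit f^*f_*L → L of the pullback–pushforward adjunction is an
isomorphism (so one may take M = f_*L). (The published statement takes X and Y Noetherian; only
local Noetherianity of Y is used.) -/
theorem result {X Y : Scheme.{u}} (f : X ⟶ Y)
    [IsProper f] [Flat f] [IsLocallyNoetherian Y] [IsReduced Y]
    (h0 : ∀ y : Y, Module.finrank (Y.residueField y) Γ(f.fiber y, ⊤) = 1)
    (L : X.Modules) (hL : PicF.IsInvertible L) :
    ((∃ M : Y.Modules, PicF.IsInvertible M ∧ Nonempty ((Scheme.Modules.pullback f).obj M ≅ L)) ↔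
        ∀ y : Y, Nonempty (CohIII.fiberMod f L y ≅ Coh.structureModule (f.fiber y))) ∧
      ((∀ y : Y, Nonempty (CohIII.fiberMod f L y ≅ Coh.structureModule (f.fiber y))) →
        PicF.IsInvertible ((Scheme.Modules.pushforward f).obj L) ∧
          IsIso ((Scheme.Modules.pullbackPushforwardAdjunction f).counit.app L)) := by

  have hcf := constFibres f h0
  have hf := bijective_app f h0
  have key : (∀ y : Y, Nonempty (CohIII.fiberMod f L y ≅ Coh.structureModule (f.fiber y))) →
      PicF.IsInvertible ((Scheme.Modules.pushforward f).obj L) ∧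
        IsIso ((Scheme.Modules.pullbackPushforwardAdjunction f).counit.app L) := fun hy =>
    of_local f hf L (Groth.Agent.H23.SeesawGlobal.exists_frame_of_isReduced f hL
      (fieldH0 f hcf) (fun y => (Groth.Agent.H23.SeesawGlobal.fieldTriv_iff_residueField y).2 (hy y)))
  refine ⟨⟨?_, fun hy => ?_⟩, key⟩
  · rintro ⟨M, hM, ⟨e⟩⟩ y
    obtain ⟨V, hyV, ⟨φ⟩⟩ := hM y
    refine ⟨(Scheme.Modules.pullback (f.fiberι y)).mapIso e.symm ≪≫ (Scheme.Modules.pullbackComp (f.fiberι y) f).app M ≪≫ ?_⟩
    let t : Spec (Y.residueField y) ⟶ (V : Scheme.{u}) := IsOpenImmersion.lift V.ι (Y.fromSpecResidueField y) (by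
      rw [Scheme.range_fromSpecResidueField, Scheme.Opens.range_ι]
      exact Set.singleton_subset_iff.2 hyV)
    have ht : (f.fiberToSpecResidueField y ≫ t) ≫ V.ι = f.fiberι y ≫ f := by
      rw [Category.assoc, IsOpenImmersion.lift_fac]
      exact (pullback.condition).symm
    exact (Scheme.Modules.pullbackCongr ht.symm).app M ≪≫ ((Scheme.Modules.pullbackComp (f.fiberToSpecResidueField y ≫ t) V.ι).app M).symm ≪≫
      (Scheme.Modules.pullback _).mapIso (((Scheme.Modules.restrictFunctorIsoPullback V.ι).app M).symm ≪≫ φ) ≪≫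
      @asIso _ _ _ _ (show (Scheme.Modules.pullback (f.fiberToSpecResidueField y ≫ t)).obj (Coh.structureModule _) ⟶ Coh.structureModule _ from
          SheafOfModules.pullbackObjUnitToUnit (f.fiberToSpecResidueField y ≫ t).toRingCatSheafHom)
        (inferInstanceAs (IsIso (SheafOfModules.pullbackObjUnitToUnit (f.fiberToSpecResidueField y ≫ t).toRingCatSheafHom)))
  · obtain ⟨h1, h2⟩ := key hy
    exact ⟨_, h1, ⟨asIso ((Scheme.Modules.pullbackPushforwardAdjunction f).counit.app L)⟩⟩

end Groth.Agent.S16759
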