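import Groth.Statements.S5165
import Groth.Agent.RegLoc6.Serre
import Mathlib.RingTheory.Spectrum.Prime.FreeLocus
-- import your own Groth.Agent.* helpers here

set_option autoImplicit false
universe u
open CategoryTheory
open LocCoh

namespace Groth.Agent.S5165

/-- Suppose A is a regular Noetherian ring and consider a finitely generated A-module M. Then some
natural number d bounds the projective dimension of M (equivalently, p ↦ proj.dim M_p stays bounded
as p ranges over Spec A, and this holds even if the Krull dimension of A is infinite). -/
theorem result (A : Type u) [CommRing A] [IsRegularRing A] (M : Type u) [AddCommGroup M] [Module A M] [Module.Finite A M] : ∃ d : ℕ, HasProjectiveDimensionLE (ModuleCat.of A M) d := by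
  open Groth.Agent.RegLoc6 in
  classical
  let U : ℕ → ∀ (N : Type u) [AddCommGroup N] [Module A N], Set (PrimeSpectrum A) := fun d N _ _ =>
    {p | PdLE (Localization.AtPrime p.asIdeal) d (LocalizedModule p.asIdeal.primeCompl N)}
  have key : ∀ (d : ℕ) (N : Type u) [AddCommGroup N] [Module A N] [Module.Finite A N],
      IsOpen (U d N) ∧ (U d N = Set.univ → PdLE A d N) := by
    intro d
    induction d with
    | zero =>
      intro N _ _ _
      have : Module.FinitePresentation A N := Module.finitePresentation_of_finite A N
      have hU : U 0 N = Module.freeLocus A N := by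
        ext p
        haveI : Module.Finite (Localization.AtPrime p.asIdeal) (LocalizedModule p.asIdeal.primeCompl N) :=
          Module.Finite.of_isLocalizedModule p.asIdeal.primeCompl (LocalizedModule.mkLinearMap p.asIdeal.primeCompl N)
        show PdLE _ 0 _ ↔ Module.Free _ _
        rw [pdLE_zero_iff]
        exact ⟨fun h => Module.free_of_flat_of_isLocalRing, fun h => .of_free⟩
      rw [hU]
      exact ⟨Module.isOpen_freeLocus, fun h => pdLE_zero_iff.2 (Module.freeLocus_eq_univ_iff.1 h)⟩
    | succ d ih =>
      intro N _ _ _
      obtain ⟨k, g, hg⟩ := exists_presentation (R := A) (M := N)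
      obtain ⟨ho, hu⟩ := ih (LinearMap.ker g)
      have hU : U (d + 1) N = U d (LinearMap.ker g) := by
        ext p
        let S := p.asIdeal.primeCompl
        let fS := LocalizedModule.map S (LinearMap.ker g).subtype
        let gS := LocalizedModule.map S g
        have hgS : Function.Surjective gS := LocalizedModule.map_surjective S g hg
        have hfS : Function.Injective fS := LocalizedModule.map_injective S _ (LinearMap.ker g).injective_subtype
        have hex : Function.Exact fS gS := LocalizedModule.map_exact S _ _ (LinearMap.exact_subtype_ker_map g)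
        show PdLE _ (d + 1) _ ↔ PdLE _ d _
        rw [pdLE_succ_iff gS hgS]
        let e : LocalizedModule S (LinearMap.ker g) ≃ₗ[Localization S] LinearMap.ker gS :=
          (LinearEquiv.ofInjective fS hfS).trans (LinearEquiv.ofEq _ _ (LinearMap.exact_iff.1 hex).symm)
        exact ⟨pdLE_of_equiv e.symm, pdLE_of_equiv e⟩
      rw [hU]
      exact ⟨ho, fun h => (pdLE_succ_iff g hg).2 (hu h)⟩
  have hmono : Monotone fun d => U d M := fun a b hab p hp => pdLE_mono hab hp
  have hcov : (Set.univ : Set (PrimeSpectrum A)) ⊆ ⋃ d, U d M := fun p _ => by
    haveI := IsRegularRing.isRegularLocalRing_localization p.asIdeal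
    haveI : Module.Finite (Localization.AtPrime p.asIdeal) (LocalizedModule p.asIdeal.primeCompl M) :=
      Module.Finite.of_isLocalizedModule p.asIdeal.primeCompl (LocalizedModule.mkLinearMap p.asIdeal.primeCompl M)
    exact Set.mem_iUnion.2 ⟨_, pdLE_of_isRegularLocalRing _ _⟩
  obtain ⟨d, hd⟩ := isCompact_univ.elim_directed_cover (fun d => U d M) (fun d => (key d M).1) hcov
    hmono.directed_le
  exact ⟨d, (key d M).2 (Set.univ_subset_iff.1 hd)⟩

end Groth.Agent.S5165
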