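import Groth.Statements.S1954
import Groth.Agent.H23.InterSheaf
import Groth.Agent.H23.InterPull
import Groth.Agent.H23.SpClosed
import Groth.Agent.H23.RegPair
import Groth.Agent.H23.MultCM
import Groth.Agent.H23.CMTor
import Groth.Agent.H23.GysinLen
import Groth.Agent.S1899
-- import your own Groth.Agent.* helpers here

set_option autoImplicit false
universe u
open CategoryTheory CategoryTheory.Limits AlgebraicGeometry
attribute [local instance] HasDerivedCategory.standard
open IntMult
open Groth.Agent Groth.Agent.H23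
open scoped TensorProduct

namespace Groth.Agent.S1954

/-- Let Y, Z → X be closed immersions into a nonsingular variety with δ ≤ r on Y and δ ≤ s on Z, such
that [Y]_r and [Z]_s intersect properly, and let τ be a point of δ-dimension r + s − n lying under Y
and Z (the generic point of a component of the intersection of components of dimension r and s) at
which the scheme-theoretic intersection Y ×_X Z has multiplicity 1 (its local ring there has length
1). Then the coefficient of the closure of τ in [Y]_r · [Z]_s is 1, and the local rings of Y and Z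
at the points over τ are regular. (The published statement has further parts, not restated here.)
Here X is a nonsingular variety over the algebraically closed field K (smooth, separated,
quasi-compact, integral) with dimension function δ (transcendence degree) and n = dim X; cycles are
Mathlib AlgebraicCycles with Cyc.Zk membership, proper intersection is IntMult.IntersectProperly and
α · β is the Tor-formula intersection product on coefficient functions (IntMult.interProd), bundled
where needed as 'any cycle with these coefficients'. -/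
theorem result (K : Type u) [Field K] [IsAlgClosed K] (X : Scheme.{u}) (f : X ⟶ Spec (CommRingCat.of K)) [Smooth f] [IsSeparated f] [QuasiCompact f] [IsIntegral X] (δ : X → ℤ) (hX : Cyc.IsSetup X δ) (hδ : Cyc.DeltaCompat f δ (fun _ => 0)) (n : ℤ) (hn : δ (genericPoint X) = n) (Y Z : Scheme.{u}) (ιY : Y ⟶ X) (ιZ : Z ⟶ X) [IsClosedImmersion ιY] [IsClosedImmersion ιZ] (r s : ℤ) (hY : ∀ y : Y, δ (ιY y) ≤ r) (hZ : ∀ z : Z, δ (ιZ z) ≤ s) (hprop : IntMult.IntersectProperly δ n (Cyc.subschemeFun δ r ιY) (Cyc.subschemeFun δ s ιZ)) (τ : X) (hτ : δ τ = r + s - n) (hξ : ∃ ξ η : X, Cyc.subschemeFun δ r ιY ξ ≠ 0 ∧ Cyc.subschemeFun δ s ιZ η ≠ 0 ∧ ξ ⤳ τ ∧ η ⤳ τ) (hmult : Cyc.subschemeFun δ (r + s - n) (pullback.fst ιY ιZ ≫ ιY) τ = 1) : IntMult.interProd δ n (Cyc.subschemeFun δ r ιY) (Cyc.subschemeFun δ s ιZ) τ = 1 ∧ (∀ y : Y, ιY y = τ → IsRegularLocalRing (Y.presheaf.stalk y)) ∧ (∀ z : Z, ιZ z = τ → IsRegularLocalRing (Z.presheaf.stalk z)) := by  classical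
  haveI : IsLocallyNoetherian X := hX.1
  obtain ⟨ξ, η, hξ0, hη0, hξτ, hητ⟩ := hξ
  have hrange : ∀ {W : Scheme.{u}} (ι : W ⟶ X) [IsClosedImmersion ι] (k : ℤ) (x : X),
      Cyc.subschemeFun δ k ι x ≠ 0 → δ x = k ∧ x ∈ Set.range ι := fun ι _ k x h => by
    rw [Cyc.subschemeFun] at h
    split_ifs at h with hk
    · obtain ⟨w, hw, -⟩ := exists_ne_zero_of_finsum_mem_ne_zero h
      exact ⟨hk, w, hw⟩
    · exact absurd rfl h
  obtain ⟨hξr, y', hy'⟩ := hrange ιY r ξ hξ0
  obtain ⟨hηs, z', hz'⟩ := hrange ιZ s η hη0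
  obtain ⟨y, hy⟩ := hξτ.mem_closed ιY.isClosedEmbedding.isClosed_range ⟨y', hy'⟩
  obtain ⟨z, hz⟩ := hητ.mem_closed ιZ.isClosedEmbedding.isClosed_range ⟨z', hz'⟩
  subst hy
  let A := X.presheaf.stalk (ιY y)
  haveI := GrpSchLib.isRegularLocalRing_stalk_of_smooth f (ιY y)
  let φ : A →+* Z.presheaf.stalk z :=
    (ιZ.stalkMap z).hom.comp (X.presheaf.stalkSpecializes (specializes_of_eq hz)).hom
  let I : Ideal A := RingHom.ker (ιY.stalkMap y).hom
  let J : Ideal A := RingHom.ker φ
  have hsY : Function.Surjective (ιY.stalkMap y).hom := ιY.stalkMap_surjective y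
  have key : ∀ (t : X) (ht : ιZ z = t),
      Nonempty (((Coh.push ιZ).obj (Coh.structureModule Z)).presheaf.stalk t ≃ₗ[X.presheaf.stalk t]
        X.presheaf.stalk t ⧸ RingHom.ker ((ιZ.stalkMap z).hom.comp (X.presheaf.stalkSpecializes (specializes_of_eq ht)).hom)) ∧
      Function.Surjective ((ιZ.stalkMap z).hom.comp (X.presheaf.stalkSpecializes (specializes_of_eq ht)).hom) ∧
      (∀ (w : Z) (hw : ιZ w ⤳ t), RingHom.ker ((ιZ.stalkMap z).hom.comp
        (X.presheaf.stalkSpecializes (specializes_of_eq ht)).hom) ≤ (CDiv6.primeOf hw).asIdeal) := by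
    intro t ht
    subst ht
    have e0 : (ιZ.stalkMap z).hom.comp (X.presheaf.stalkSpecializes (specializes_of_eq (rfl : ιZ z = ιZ z))).hom =
        (ιZ.stalkMap z).hom := by
      rw [TopCat.Presheaf.stalkSpecializes_refl]
      rfl
    rw [e0]
    refine ⟨SpClosed.nonempty_quotEquiv ιZ z, ιZ.stalkMap_surjective z, fun w hw => ?_⟩
    rw [← StalkPrimes.comap_primeOf ιZ (ιZ.isEmbedding.isInducing.specializes_iff.1 hw)]
    exact fun a ha => Ideal.mem_comap.2 (by rw [show (ιZ.stalkMap z).hom a = 0 from ha]; exact zero_mem _)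
  obtain ⟨⟨eG⟩, hsZ, hleZ⟩ := key (ιY y) hz
  obtain ⟨eF⟩ := SpClosed.nonempty_quotEquiv ιY y
  let F := (Coh.push ιY).obj (Coh.structureModule Y)
  let G := (Coh.push ιZ).obj (Coh.structureModule Z)
  have hFc : Coh.IsCoh F := SpClosed.isCoh_push ιY
  have hGc : Coh.IsCoh G := SpClosed.isCoh_push ιZ
  have hlen : Module.length A (A ⧸ (I ⊔ J)) = 1 := by
    have h := hmult
    rw [Cyc.subschemeFun, if_pos hτ] at h
    have e1 : Cyc.subschemeFun (fun a => δ (ιY a)) (r + s - n) (pullback.fst ιY ιZ) y = 1 := by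
      rw [Cyc.subschemeFun, if_pos hτ, ← h]
      refine finsum_mem_congr (Set.ext fun w => ?_) fun _ _ => rfl
      exact ⟨fun hw => (congrArg ιY hw : _), fun hw => ιY.isEmbedding.injective hw⟩
    rw [SpClosed.subschemeFun_eq, Cyc.sheafFun, if_pos hτ] at e1
    have e2 := ((KFlatLib.stalkPullbackIso ιY y).app G).toLinearEquiv
    rw [show Module.length (Y.presheaf.stalk y) (((Scheme.Modules.pullback ιY).obj G).presheaf.stalk y) = _ from
      e2.length_eq] at e1
    letI : Algebra A (Y.presheaf.stalk y) := (ιY.stalkMap y).hom.toAlgebra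
    have e3 : Module.length (Y.presheaf.stalk y) (Y.presheaf.stalk y ⊗[A] G.presheaf.stalk (ιY y)) =
        Module.length A (A ⧸ (I ⊔ J)) := by
      rw [(TensorProduct.AlgebraTensorModule.congr
        (LinearEquiv.refl (Y.presheaf.stalk y) (Y.presheaf.stalk y)) eG).length_eq,
        ← (Algebra.TensorProduct.quotIdealMapEquivTensorQuot (Y.presheaf.stalk y) J).toLinearEquiv.length_eq]
      have hm : J.map (ιY.stalkMap y).hom = (I ⊔ J).map (ιY.stalkMap y).hom := by
        rw [Ideal.map_sup, Ideal.map_eq_bot_iff_le_ker (I := I) _ |>.2 le_rfl, bot_sup_eq]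
      refine (Submodule.quotEquivOfEq _ _ hm).length_eq.trans ?_
      exact GysinPb.length_quot_map _ hsY le_sup_left
    have e4 : ((Module.length A (A ⧸ (I ⊔ J))).toNat : ℤ) = 1 := by
      rw [← e3]; exact e1
    cases hl : Module.length A (A ⧸ (I ⊔ J)) with
    | top => rw [hl] at e4; simp at e4
    | coe v => rw [hl] at e4; simp at e4; simp [e4]
  haveI := (Module.length_eq_one_iff.1 hlen : IsSimpleModule A (A ⧸ (I ⊔ J)))
  have hm : I ⊔ J = IsLocalRing.maximalIdeal A :=
    IsLocalRing.eq_maximalIdeal (Ideal.isMaximal_def.2 (isSimpleModule_iff_isCoatom.1 inferInstance))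
  obtain ⟨d, hd, hd'⟩ := PointPrime.dim_stalk f hδ hn (ιY y)
  have hIξ : I ≤ (CDiv6.primeOf hξτ).asIdeal := by
    subst hy'
    rw [← StalkPrimes.comap_primeOf ιY (ιY.isEmbedding.isInducing.specializes_iff.1 hξτ)]
    exact fun a ha => Ideal.mem_comap.2 (by rw [show (ιY.stalkMap y).hom a = 0 from ha]; exact zero_mem _)
  have hJη : J ≤ (CDiv6.primeOf hητ).asIdeal := by
    subst hz'
    exact hleZ z' hητ
  have hdim : ∀ (Q : Ideal A) {x : X} (hx : x ⤳ ιY y), Q ≤ (CDiv6.primeOf hx).asIdeal →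
      ∃ a : ℕ, ringKrullDim (A ⧸ Q) = a ∧ δ x - δ (ιY y) ≤ a := by
    intro Q x hx hQ
    obtain ⟨b, hb, hb'⟩ := PointPrime.dim_quot_prime f hδ hx
    have h1 := ringKrullDim_le_of_surjective (Ideal.Quotient.factor hQ) (Ideal.Quotient.factor_surjective hQ)
    have h2 : ringKrullDim (A ⧸ Q) ≤ d := (ringKrullDim_quotient_le Q).trans hd.le
    rw [hb] at h1
    cases hq : ringKrullDim (A ⧸ Q) with
    | bot => rw [hq] at h1; simp at h1
    | coe v =>
      rw [hq] at h1 h2
      cases v with
      | top => exact absurd (top_le_iff.1 (WithBot.coe_le_coe.1 h2)) (ENat.natCast_ne_top d)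
      | coe v =>
        refine ⟨v, rfl, ?_⟩
        have : b ≤ v := by exact_mod_cast h1
        omega
  obtain ⟨a, ha, ha'⟩ := hdim I hξτ hIξ
  obtain ⟨b, hb, hb'⟩ := hdim J hητ hJη
  have hab : d ≤ a + b := by omega
  obtain ⟨hRI, hRJ⟩ := RegPair.isRegularLocalRing_quotients I J hm hd ha hb hab
  refine ⟨?_, ?_, ?_⟩
  swap
  · intro w hw
    obtain rfl := ιY.isEmbedding.injective hw
    haveI := hRI
    exact IsRegularLocalRing.of_ringEquiv (RingHom.quotientKerEquivOfSurjective hsY)
  swap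
  · intro w hw
    obtain rfl := ιZ.isEmbedding.injective (hw.trans hz.symm)
    haveI := hRJ
    exact IsRegularLocalRing.of_ringEquiv (RingHom.quotientKerEquivOfSurjective hsZ)
  have hr' : ∀ x : X, Nontrivial (F.presheaf.stalk x) → δ x ≤ r := fun x h => by
    obtain ⟨w, rfl⟩ : x ∈ Set.range ιY := by_contra fun hc =>
      not_subsingleton_iff_nontrivial.2 h (ClosedPushLen.subsingleton_stalk ιY _ hc)
    exact hY w
  have hs' : ∀ x : X, Nontrivial (G.presheaf.stalk x) → δ x ≤ s := fun x h => by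
    obtain ⟨w, rfl⟩ : x ∈ Set.range ιZ := by_contra fun hc =>
      not_subsingleton_iff_nontrivial.2 h (ClosedPushLen.subsingleton_stalk ιZ _ hc)
    exact hZ w
  rw [S1899.result X Y δ hX ιY r hY, S1899.result X Z δ hX ιZ s hZ]
  haveI := QCoh.finite_stalk_of_isFT hFc.1 hFc.2 (ιY y)
  haveI := QCoh.finite_stalk_of_isFT hGc.1 hGc.2 (ιY y)
  have hchi := InterStalk.chi_eq_interProd f hδ hn (ιY y) (F.presheaf.stalk (ιY y)) (G.presheaf.stalk (ιY y)) r s hτ.symm
    (hY y) (hz ▸ hZ z) (Cyc.sheafFun δ r F) (Cyc.sheafFun δ s G)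
    (fun x h => by rw [Cyc.sheafFun, ChiAdd.lenAt, CapSheaf.length_stalk_eq hFc.1 h])
    (fun x h => by rw [Cyc.sheafFun, ChiAdd.lenAt, CapSheaf.length_stalk_eq hGc.1 h])
    (fun x h hx => hr' x (InterSheaf.nontrivial_of_mem_support hFc.1 h hx))
    (fun x h hx => hs' x (InterSheaf.nontrivial_of_mem_support hGc.1 h hx)) (fun x h hx1 hx2 => by
      rw [Module.support_eq_zeroLocus, PrimeSpectrum.mem_zeroLocus, SetLike.coe_subset_coe, eF.annihilator_eq,
        Ideal.annihilator_quotient] at hx1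
      rw [Module.support_eq_zeroLocus, PrimeSpectrum.mem_zeroLocus, SetLike.coe_subset_coe, eG.annihilator_eq,
        Ideal.annihilator_quotient] at hx2
      refine StalkPrimes.primeOf_inj h specializes_rfl ?_
      exact (le_antisymm (IsLocalRing.le_maximalIdeal (CDiv6.primeOf h).2.ne_top) (hm ▸ sup_le hx1 hx2)).trans
        (ZeroSec.primeOf_refl' _).symm)
  rw [← hchi, InterPull.chi_congr_both eF eG,
    CMTor.chi_quot_eq_length d hd I J a b
      (MultCM.le_depth_of_cm _ (haveI := hRI; AvramovLib.isCM_of_regular _) ha)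
      (MultCM.le_depth_of_cm _ (haveI := hRJ; AvramovLib.isCM_of_regular _) hb) hab ⟨1, by rw [pow_one, hm]⟩, hlen]
  simp


end Groth.Agent.S1954
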