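import Groth.Statements.S1905
import Groth.Agent.H23.DivPull
-- import your own Groth.Agent.* helpers here

set_option autoImplicit false
universe u
open CategoryTheory AlgebraicGeometry
open Cyc

namespace Groth.Agent.S1905

/-- Let f : X → Y be a flat morphism, locally of finite type, of relative dimension r between integral
schemes, and g a nonzero rational function on Y, taken in the residue field at f(η_X) (the generic
point of Y). Then f^*(div_Y g) = div_X(g ∘ f) coefficientwise, where g ∘ f is the image of g in
κ(η_X). A pair (X, δ) with Cyc.IsSetup plays the role of a scheme locally of finite type over a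
fixed base with a dimension function (X locally Noetherian with universally catenary local rings, δ
a dimension function), and Cyc.DeltaCompat records that the dimension function upstairs is the
induced one. -/
theorem result (X Y : Scheme.{u}) [IsIntegral X] [IsIntegral Y] (δX : X → ℤ) (δY : Y → ℤ) (hX : Cyc.IsSetup X δX) (hY : Cyc.IsSetup Y δY) (f : X ⟶ Y) [Flat f] [LocallyOfFiniteType f] (r : ℕ) (hr : Cyc.HasRelDim f r) (hδ : Cyc.DeltaCompat f δX δY) (g : Y.residueField (f (genericPoint X))) (hg : g ≠ 0) : Cyc.pullFun f δX δY r (Cyc.divFun δY (f (genericPoint X)) g) = Cyc.divFun δX (genericPoint X) (f.residueFieldMap (genericPoint X) g) := by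
  haveI := hX.1
  haveI := hY.1
  funext x
  rw [Groth.Agent.H23.DivPull.pullFun_divFun f (Groth.Agent.H23.FlatShift.hasShift_of_hasRelDim f hr hδ) hY.2.2 hX.2.2 hg x]
  have hset : {z : X | f z = f (genericPoint X) ∧ Groth.Agent.FibDim.FibMax f z} = {genericPoint X} := by
    refine Set.eq_singleton_iff_unique_mem.2 ⟨⟨rfl, fun w hw _ =>
      (hw.antisymm ((genericPoint_spec X).specializes (Set.mem_univ w))).eq⟩, fun z hz => ?_⟩
    exact (hz.2 _ ((genericPoint_spec X).specializes (Set.mem_univ z)) hz.1.symm).symm
  rw [hset, finsum_mem_singleton, Groth.Agent.H23.DivPull.term, dif_pos rfl, Groth.Agent.H23.DivPull.pullRes_rfl]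
  have hlen : Groth.Agent.H23.FiniteFibreSum.fibreLen f (genericPoint X) = 1 := by
    rw [Groth.Agent.H23.FiniteFibreSum.fibreLen]
    haveI : IsField (X.presheaf.stalk (genericPoint X)) → True := fun _ => trivial
    letI : Field (X.presheaf.stalk (genericPoint X)) := (inferInstanceAs (Field X.functionField))
    have hne : Ideal.map (f.stalkMap (genericPoint X)).hom (IsLocalRing.maximalIdeal _) = ⊥ := by
      refine (Ideal.eq_bot_or_top _).resolve_right fun e => ?_
      exact (IsLocalRing.maximalIdeal.isMaximal (X.presheaf.stalk (genericPoint X))).ne_top (top_le_iff.1 (e ▸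
        Ideal.map_le_iff_le_comap.2 fun t ht hu => ht (isUnit_of_map_unit (f.stalkMap (genericPoint X)).hom t hu)))
    rw [(Submodule.quotEquivOfEqBot _ hne).length_eq, Module.length_eq_one_iff]
    infer_instance
  rw [hlen]
  simp

end Groth.Agent.S1905
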