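import Groth.Statements.S19434
import Groth.Agent.H9Misc.HypCoh
import Groth.Agent.SheafHomX.Coherent

set_option autoImplicit false
set_option backward.isDefEq.respectTransparency false
set_option backward.isDefEq.respectTransparency.types false
set_option linter.style.haveILetI false
universe u
open Coherent

namespace Groth.Agent.S19434

open CategoryTheory CategoryTheory.Limits AlgebraicGeometry in
/-- Let F be a field, d ≥ 1, k ≥ 1, P = P^{d+1}_F, and X ⊆ P a hypersurface of degree k: a closed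
subscheme (ideal sheaf I) whose ideal sheaf is isomorphic, as an O_P-module, to O_P(-k) —
equivalently X is cut out by one nonzero form q of degree k, with homogeneous coordinate ring A =
F[x_0, …, x_{d+1}]/(q), whose degree-m piece has dimension a(m) = C(m+d+1, d+1) - C(m-k+d+1, d+1) (a
binomial coefficient with a negative upper entry read as 0). For an integer n let O_X(n) denote the
O_P-module O_X ⊗ O_P(n). Then H^p(P, O_X(n)) vanishes for every p different from 0 and d, H^0(P,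
O_X(n)) is a finite-dimensional F-vector space of dimension a(n), and H^d(P, O_X(n)) is
finite-dimensional of dimension a(k-2-d-n). Only the vanishing, the finiteness and the dimensions
are stated here; the identifications of H^0(P, O_X(n)) with A_n and of H^d(P, O_X(n)) with the dual
of A_{k-2-d-n} are not. -/
theorem result (F : Type u) [Field F] (d k : ℕ)
    (hd : 1 ≤ d) (hk : 1 ≤ k) (I : (CohB1.ProjSpace (d + 1) F).IdealSheafData)
    (hI : Nonempty (ClSub.idealMod I ≅ Twist.twistProjSpace (d + 1) F (-(k : ℤ)))) (n : ℤ) :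
    (∀ p : ℕ, p ≠ 0 → p ≠ d →
      Subsingleton (Coh.HH (CohB1.ProjSpace (d + 1) F)
        (CohB1.tensorMod (ClSub.quotMod I) (Twist.twistProjSpace (d + 1) F n)) p)) ∧
    (Module.Finite F (Coh.HH (CohB1.ProjSpace (d + 1) F)
        (CohB1.tensorMod (ClSub.quotMod I) (Twist.twistProjSpace (d + 1) F n)) 0) ∧
      Module.finrank F (Coh.HH (CohB1.ProjSpace (d + 1) F)
        (CohB1.tensorMod (ClSub.quotMod I) (Twist.twistProjSpace (d + 1) F n)) 0) =
        (Nat.choose (n + ((d : ℤ) + 1)).toNat (d + 1) - Nat.choose (n - (k : ℤ) + ((d : ℤ) + 1)).toNat (d + 1))) ∧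
    (Module.Finite F (Coh.HH (CohB1.ProjSpace (d + 1) F)
        (CohB1.tensorMod (ClSub.quotMod I) (Twist.twistProjSpace (d + 1) F n)) d) ∧
      Module.finrank F (Coh.HH (CohB1.ProjSpace (d + 1) F)
        (CohB1.tensorMod (ClSub.quotMod I) (Twist.twistProjSpace (d + 1) F n)) d) =
        (Nat.choose (((k : ℤ) - 2 - (d : ℤ) - n) + ((d : ℤ) + 1)).toNat (d + 1) - Nat.choose (((k : ℤ) - 2 - (d : ℤ) - n) - (k : ℤ) + ((d : ℤ) + 1)).toNat (d + 1))) := by
  open Groth.Agent.H9Misc.HypCoh in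
  obtain ⟨S, hS, ⟨e₁⟩, ⟨e₂⟩, ⟨e₃⟩, h₃, hvan⟩ := exists_ses d k rfl I hI n
  haveI : IsNoetherian (CohB1.ProjSpace (d + 1) F) :=
    Groth.Agent.CurveCohLib.isNoetherian_of_proper (k := F)
  have h₁ : Coh.IsCoh S.X₁ := Groth.Agent.SheafHomX.isCoh_of_iso e₁.symm (Groth.Agent.H9Misc.HypCoh.isCoh_O _)
  have h₂ : Coh.IsCoh S.X₂ := Groth.Agent.SheafHomX.isCoh_of_iso e₂.symm (Groth.Agent.H9Misc.HypCoh.isCoh_O _)
  let g₁ := fun p : ℕ => Groth.Agent.CurveCohLib.hhEquiv (k := F) e₁ p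
  let g₂ := fun p : ℕ => Groth.Agent.CurveCohLib.hhEquiv (k := F) e₂ p
  let g₃ := fun p : ℕ => Groth.Agent.CurveCohLib.hhEquiv (k := F) e₃ p
  have s₁ : ∀ p, p ≠ 0 → p ≠ d + 1 → Subsingleton (Coh.HH _ S.X₁ p) := fun p hp hp' =>
    @Equiv.subsingleton _ _ (g₁ p).toEquiv
      (Groth.Agent.S0844.result F (d + 1) _ p (fun h => hp h.1) (fun h => hp' h.1))
  have s₂ : ∀ p, p ≠ 0 → p ≠ d + 1 → Subsingleton (Coh.HH _ S.X₂ p) := fun p hp hp' =>
    @Equiv.subsingleton _ _ (g₂ p).toEquiv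
      (Groth.Agent.S0844.result F (d + 1) _ p (fun h => hp h.1) (fun h => hp' h.1))
  refine ⟨fun p hp hpd => ?_, ⟨?_, ?_⟩, ?_, ?_⟩
  · refine @Equiv.subsingleton _ _ (g₃ p).symm.toEquiv ?_
    by_cases h : d + 1 ≤ p
    · exact hvan p h
    · exact Groth.Agent.H9Misc.HypCoh.subsingleton_X₃ (k := F) hS p (s₂ p hp (by omega)) (s₁ (p + 1) (by omega) (by omega))
  · haveI := Groth.Agent.CurveCohLib.finite_HH (k := F) h₃ 0
    exact Module.Finite.equiv (g₃ 0)
  · have h := Groth.Agent.H9Misc.HypCoh.finrank_zero (k := F) hS h₂ h₃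
    haveI := s₁ 1 one_ne_zero (by omega)
    rw [Module.finrank_zero_of_subsingleton (M := LinearMap.range _), (g₁ 0).finrank_eq, (g₂ 0).finrank_eq,
      (g₃ 0).finrank_eq] at h
    rw [Groth.Agent.H9Misc.HypCoh.finrank_H0 _ (by omega), Groth.Agent.H9Misc.HypCoh.finrank_H0 _ (by omega)] at h
    push_cast at h
    simp only [Groth.Agent.H9Misc.HypCoh.O] at h
    omega
  · haveI := Groth.Agent.CurveCohLib.finite_HH (k := F) h₃ d
    exact Module.Finite.equiv (g₃ d)
  · have h := Groth.Agent.H9Misc.HypCoh.finrank_top (k := F) hS d h₁ h₂ h₃ (s₂ d (by omega) (by omega))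
      (hvan (d + 1) le_rfl)
    rw [(g₁ (d + 1)).finrank_eq, (g₂ (d + 1)).finrank_eq, (g₃ d).finrank_eq] at h
    rw [Groth.Agent.H9Misc.HypCoh.finrank_Htop _ (by omega), Groth.Agent.H9Misc.HypCoh.finrank_Htop _ (by omega)] at h
    simp only [Groth.Agent.H9Misc.HypCoh.O] at h
    rw [show ((k : ℤ) - 2 - (d : ℤ) - n) + ((d : ℤ) + 1) = -(n - (k : ℤ)) - 1 by ring,
      show ((k : ℤ) - 2 - (d : ℤ) - n) - (k : ℤ) + ((d : ℤ) + 1) = -n - 1 by ring]
    omega

end Groth.Agent.S19434
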