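import Groth.Statements.S11454
import Groth.Agent.Synt29.RegSeq
import Groth.Agent.LC.Sop
import Mathlib

set_option autoImplicit false
universe u
open DefT

namespace Groth.Agent.S11454

open RingTheory.Sequence IsLocalRing

lemma ringKrullDim_quot_eq_of_le_nilradical {R : Type u} [CommRing R] (N L : Ideal R) (hN : N ≤ nilradical R) :
    ringKrullDim (R ⧸ (N ⊔ L)) = ringKrullDim (R ⧸ L) := by
  have h : PrimeSpectrum.zeroLocus ((N ⊔ L : Ideal R) : Set R) = PrimeSpectrum.zeroLocus (L : Set R) :=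
    Set.ext fun x => ⟨fun h z hz => h (Ideal.mem_sup_right hz), fun h => sup_le (hN.trans (nilradical_le_prime x.asIdeal)) h⟩
  rw [ringKrullDim_quotient, ringKrullDim_quotient, h]

/-- A nilpotent finitely generated ideal with Noetherian quotient: the ring is Noetherian. -/
lemma isNoetherianRing_of_nilpotent {R : Type u} [CommRing R] (N : Ideal R) (hfg : N.FG) (hN : IsNilpotent N)
    [IsNoetherianRing (R ⧸ N)] : IsNoetherianRing R := by
  refine IsNoetherianRing.of_prime fun q hq => ?_
  obtain ⟨n, hn⟩ := hN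
  have hle : N ≤ q := fun x hx => hq.mem_of_pow_mem n (by
    have : x ^ n ∈ N ^ n := Ideal.pow_mem_pow hx n
    rw [hn] at this
    simp [Ideal.mem_bot.1 this])
  refine Ideal.fg_of_fg_map_of_fg_inf_ker_of_surjective (f := Ideal.Quotient.mk N)
    (IsNoetherian.noetherian _) ?_ Ideal.Quotient.mk_surjective
  rw [Ideal.mk_ker, inf_eq_right.2 hle]
  exact hfg

/-- Cutting the dimension of a Cohen-Macaulay local ring by as many elements as possible gives a regular sequence. -/
lemma isWeaklyRegular_of_dim {R : Type u} [CommRing R] [LocCoh.IsCohenMacaulayLocalRing R] (rs : List R)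
    (hmem : ∀ x ∈ rs, x ∈ maximalIdeal R) (hCM : LocCoh.IsCohenMacaulayModule R R)
    (hdim : ringKrullDim (R ⧸ Ideal.ofList rs) + rs.length = ringKrullDim R) : IsWeaklyRegular R rs := by
  classical
  have hle : Ideal.ofList rs ≤ maximalIdeal R := Ideal.span_le.2 hmem
  have : Nontrivial (R ⧸ Ideal.ofList rs) :=
    Ideal.Quotient.nontrivial_iff.2 (ne_top_of_le_ne_top (maximalIdeal.isMaximal R).ne_top hle)
  have : IsLocalRing (R ⧸ Ideal.ofList rs) := IsLocalRing.of_surjective' _ Ideal.Quotient.mk_surjective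
  obtain ⟨s, hs, hcard⟩ := (maximalIdeal (R ⧸ Ideal.ofList rs)).exists_finset_card_eq_height_of_isNoetherianRing
  have hds : ((s.card : ℕ) : WithBot ℕ∞) = ringKrullDim (R ⧸ Ideal.ofList rs) := by
    rw [← IsLocalRing.maximalIdeal_height_eq_ringKrullDim, ← hcard]
    rfl
  choose g hg using Ideal.Quotient.mk_surjective (I := Ideal.ofList rs)
  have hD : ringKrullDim R = ((rs.length + s.card : ℕ) : WithBot ℕ∞) := by
    rw [← hdim, ← hds, add_comm]
    push_cast
    rfl
  have hgm : ∀ x ∈ s, g x ∈ maximalIdeal R := by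
    intro x hx hu
    have hxm : x ∈ maximalIdeal (R ⧸ Ideal.ofList rs) := hs.1.2 (Ideal.subset_span hx)
    exact hxm (hg x ▸ hu.map (Ideal.Quotient.mk _))
  have h := Groth.Agent.LC.isWeaklyRegular_of_sop hCM _ hD (rs ++ s.toList.map g) (by simp) ?_
  · exact ((isWeaklyRegular_append_iff R rs _).1 h).1
  refine le_antisymm ((maximalIdeal.isMaximal R).isPrime.radical_le_iff.2 (Ideal.span_le.2 fun x hx => ?_)) ?_
  · rcases List.mem_append.1 hx with h | h
    · exact hmem x h
    · obtain ⟨y, hy, rfl⟩ := List.mem_map.1 h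
      exact hgm y (Finset.mem_toList.1 hy)
  · rw [Ideal.radical_eq_sInf]
    refine le_sInf ?_
    rintro q ⟨hq1, hq2⟩
    have hrs : Ideal.ofList rs ≤ q := le_trans (Ideal.span_mono fun x hx => List.mem_append_left _ hx) hq1
    have hmapp : (q.map (Ideal.Quotient.mk (Ideal.ofList rs))).IsPrime :=
      Ideal.map_isPrime_of_surjective Ideal.Quotient.mk_surjective (by rwa [Ideal.mk_ker])
    have hsle : Ideal.span (s : Set _) ≤ q.map (Ideal.Quotient.mk (Ideal.ofList rs)) :=
      Ideal.span_le.2 fun x hx => hg x ▸ Ideal.mem_map_of_mem _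
        (hq1 (Ideal.subset_span (List.mem_append_right _ (List.mem_map.2 ⟨x, Finset.mem_toList.2 hx, rfl⟩))))
    have htop : maximalIdeal (R ⧸ Ideal.ofList rs) ≤ q.map (Ideal.Quotient.mk (Ideal.ofList rs)) :=
      hs.2 ⟨hmapp, hsle⟩ (le_maximalIdeal hmapp.ne_top)
    intro x hx
    have h1 : Ideal.Quotient.mk (Ideal.ofList rs) x ∈ q.map (Ideal.Quotient.mk (Ideal.ofList rs)) := htop (by
      rw [← IsLocalRing.map_maximalIdeal_of_surjective _ Ideal.Quotient.mk_surjective]
      exact Ideal.mem_map_of_mem _ hx)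
    exact (Ideal.mem_quotient_iff_mem hrs).1 h1

/-- Let C' be a local Artin ring, J ⊊ C' a proper ideal annihilated by the maximal ideal, C = C'/J, A' a
flat C'-algebra whose reduction modulo the maximal ideal of C' is a Cohen–Macaulay local ring, and A
= A'/JA'. If a'_1, …, a'_r ∈ A' have images in A forming a regular sequence with A/(a_1, …, a_r)
flat over C, then a'_1, …, a'_r is a regular sequence on A' and A'/(a'_1, …, a'_r) is flat over C'.
(Regular sequences stand in for the exactness of the Koszul complexes in the published statement;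
over a Noetherian local ring with the elements in the maximal ideal the two are equivalent.) -/
theorem result (C' : Type u) [CommRing C'] [IsLocalRing C'] [IsArtinianRing C'] (J : Ideal C')
    (hJ : IsLocalRing.maximalIdeal C' * J = ⊥) (hJne : J ≠ ⊤) (A' : Type u) [CommRing A'] [Algebra C' A'] [Module.Flat C' A']
    [LocCoh.IsCohenMacaulayLocalRing (A' ⧸ (IsLocalRing.maximalIdeal C').map (algebraMap C' A'))]
    (r : ℕ) (a' : Fin r → A')
    (hreg : RingTheory.Sequence.IsRegular (A' ⧸ J.map (algebraMap C' A'))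
      (List.ofFn (fun i => Ideal.Quotient.mk (J.map (algebraMap C' A')) (a' i))))
    [Module.Flat (C' ⧸ J) ((A' ⧸ J.map (algebraMap C' A')) ⧸
      Ideal.span (Set.range (fun i => Ideal.Quotient.mk (J.map (algebraMap C' A')) (a' i))))] :
    RingTheory.Sequence.IsRegular A' (List.ofFn a') ∧ Module.Flat C' (A' ⧸ Ideal.span (Set.range a')) := by
  classical
  set Im : Ideal A' := (IsLocalRing.maximalIdeal C').map (algebraMap C' A') with hIm
  set IJ : Ideal A' := J.map (algebraMap C' A') with hIJ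
  have hnilm : IsNilpotent Im := by
    obtain ⟨n, hn⟩ := (isArtinianRing_iff_isNilpotent_maximalIdeal C').1 inferInstance
    exact ⟨n, by rw [hIm, ← Ideal.map_pow, hn, Ideal.zero_eq_bot, Ideal.map_bot]; rfl⟩
  have hnil : Im ≤ nilradical A' := fun x hx => by
    obtain ⟨n, hn⟩ := hnilm
    exact ⟨n, by have := Ideal.pow_mem_pow hx n; rw [hn] at this; exact this⟩
  have hJm : IJ ≤ Im := Ideal.map_mono (IsLocalRing.le_maximalIdeal hJne)
  have hnoeth : IsNoetherianRing A' :=
    isNoetherianRing_of_nilpotent Im (Ideal.FG.map (IsNoetherian.noetherian _) _) hnilm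
  have hImne : Im ≠ ⊤ := Ideal.Quotient.nontrivial_iff.1 (inferInstanceAs (Nontrivial (A' ⧸ Im)))
  have hntA : Nontrivial A' := (Ideal.Quotient.mk Im).domain_nontrivial
  have hjac : Im ≤ (⊥ : Ideal A').jacobson := hnil.trans (le_sInf fun q hq => @nilradical_le_prime _ _ q hq.2.isPrime)
  have hmax : ∀ q : Ideal A', q.IsMaximal →
      q = (IsLocalRing.maximalIdeal (A' ⧸ Im)).comap (Ideal.Quotient.mk Im) := by
    intro q hq
    refine hq.eq_of_le (Ideal.IsPrime.ne_top inferInstance) fun x hx => ?_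
    have hne : q.map (Ideal.Quotient.mk Im) ≠ ⊤ := fun h => by
      have h1 := (Ideal.eq_top_iff_one _).1 h
      obtain ⟨y, hy, hy1⟩ := (Ideal.mem_map_iff_of_surjective _ Ideal.Quotient.mk_surjective).1 h1
      rw [← map_one (Ideal.Quotient.mk Im), Ideal.Quotient.eq] at hy1
      have := q.sub_mem hy ((hnil.trans (@nilradical_le_prime _ _ q hq.isPrime)) hy1)
      exact hq.ne_top ((Ideal.eq_top_iff_one _).2 (by simpa using this))
    exact IsLocalRing.le_maximalIdeal hne (Ideal.mem_map_of_mem _ hx)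
  have hloc : IsLocalRing A' :=
    IsLocalRing.of_unique_max_ideal (by
      obtain ⟨q, hq⟩ := Ideal.exists_maximal A'
      exact ⟨q, hq, fun r hr => (hmax r hr).trans (hmax q hq).symm⟩)
  have hlh : IsLocalHom (algebraMap C' A') := by
    constructor
    intro c hc
    by_contra hcu
    have h1 : algebraMap C' A' c ∈ Im := Ideal.mem_map_of_mem _ hcu
    exact hImne (Ideal.eq_top_of_isUnit_mem _ h1 hc)
  have hntB : Nontrivial (A' ⧸ IJ) := Ideal.Quotient.nontrivial_iff.2 (ne_top_of_le_ne_top hImne hJm)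
  have hlocB : IsLocalRing (A' ⧸ IJ) := IsLocalRing.of_surjective' _ Ideal.Quotient.mk_surjective
  let rs := List.ofFn a'
  have hlist : (List.ofFn fun i => Ideal.Quotient.mk IJ (a' i)) = rs.map (Ideal.Quotient.mk IJ) := by
    rw [List.map_ofFn]; rfl
  rw [hlist] at hreg
  have hmem : ∀ x ∈ rs, x ∈ IsLocalRing.maximalIdeal A' := fun x hx => by
    intro hu
    have h1 : Ideal.Quotient.mk IJ x ∈ Ideal.ofList (rs.map (Ideal.Quotient.mk IJ)) :=
      Ideal.subset_span (List.mem_map.2 ⟨x, hx, rfl⟩)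
    have h2 := Ideal.eq_top_of_isUnit_mem _ h1 (hu.map _)
    exact hreg.top_ne_smul (by rw [h2, Submodule.top_smul])
  have hB := ringKrullDim_add_length_eq_ringKrullDim_of_isRegular _ hreg
  have dimq : ∀ N : Ideal A', N ≤ nilradical A' →
      ringKrullDim ((A' ⧸ N) ⧸ Ideal.ofList (rs.map (Ideal.Quotient.mk N))) = ringKrullDim (A' ⧸ Ideal.ofList rs) ∧
      ringKrullDim (A' ⧸ N) = ringKrullDim A' := by
    intro N hN
    refine ⟨?_, ?_⟩
    · rw [← Ideal.map_ofList, ringKrullDim_eq_of_ringEquiv (DoubleQuot.quotQuotEquivQuotSup N (Ideal.ofList rs)),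
        ringKrullDim_quot_eq_of_le_nilradical N _ hN]
    · rw [← sup_bot_eq N, ringKrullDim_quot_eq_of_le_nilradical N ⊥ hN]
      exact ringKrullDim_eq_of_ringEquiv (RingEquiv.quotientBot A')
  rw [(dimq IJ (hJm.trans hnil)).1, (dimq IJ (hJm.trans hnil)).2] at hB
  have hF : RingTheory.Sequence.IsWeaklyRegular (A' ⧸ Im) (rs.map (Ideal.Quotient.mk Im)) := by
    refine isWeaklyRegular_of_dim _ ?_ ?_ ?_
    · intro x hx
      obtain ⟨y, hy, rfl⟩ := List.mem_map.1 hx
      exact (IsLocalRing.map_maximalIdeal_of_surjective _ (Ideal.Quotient.mk_surjective (I := Im))) ▸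
        Ideal.mem_map_of_mem _ (hmem y hy)
    · exact LocCoh.IsCohenMacaulayLocalRing.supportDim_eq_depth
    · rw [(dimq Im hnil).1, (dimq Im hnil).2, List.length_map]
      simpa using hB
  have hFA : RingTheory.Sequence.IsWeaklyRegular (A' ⧸ Im) rs :=
    (RingTheory.Sequence.isWeaklyRegular_map_algebraMap_iff (A' ⧸ Im) (A' ⧸ Im) rs).1 hF
  have hmN : Groth.Agent.FlatLoc6.mN C' A' A' = Im := by
    simp [Groth.Agent.FlatLoc6.mN, hIm, Ideal.mul_top]
  have hkey := Groth.Agent.Synt29.weaklyRegular_and_flat_of_fibre (A := C') rs A'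
    (((Submodule.quotEquivOfEq _ _ hmN).isWeaklyRegular_congr rs).2 hFA)
  refine ⟨RingTheory.Sequence.IsRegular.of_isWeaklyRegular_of_mem_maximalIdeal A' hmem hkey.1, ?_⟩
  have hspan : (Ideal.ofList rs • ⊤ : Submodule A' A') = Ideal.span (Set.range a') := by
    rw [Ideal.smul_eq_mul, Ideal.mul_top]
    simp [rs, Ideal.ofList, List.mem_ofFn, Set.range]
  have := hkey.2
  exact Module.Flat.of_linearEquiv ((Submodule.quotEquivOfEq _ _ hspan).restrictScalars C').symm

end Groth.Agent.S11454
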