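import Groth.Statements.S15828
import Groth.Agent.GrLib8.KoszulTensor
-- import your own Groth.Agent.* helpers here

set_option autoImplicit false
universe u
open CategoryTheory CategoryTheory.Limits MonoidalCategory
open Koszul

namespace Groth.Agent.S15828

/-- Let A be a commutative ring and f = (f_1, …, f_r), g = (g_1, …, g_s) finite sequences of elements of
A (Koszul complexes of free modules of finite rank with chosen bases). Then the tensor product of
cochain complexes K(f) ⊗ K(g) is isomorphic to the Koszul complex K(f_1, …, f_r, g_1, …, g_s) of the
concatenated sequence (existence of an isomorphism of cochain complexes of A-modules; the Koszul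
complexes are the iterated mapping-cone model and ⊗ is the tensor product of complexes). The second
assertion of the published statement, K(f, g) ≅ Cone(g : K(f) → K(f)) for a single element g, is the
defining recursion of the mapping-cone model and is not restated. -/
theorem result (A : Type u) [CommRing A] (f g : List A) :
    Nonempty ((MonoidalCategoryStruct.tensorObj (C := DRing.Cx A) (Koszul.koszul A f) (Koszul.koszul A g)) ≅
      Koszul.koszul A (f ++ g)) := by
  exact Groth.Agent.GrLib8.KoszulTensor.nonempty_iso f g

end Groth.Agent.S15828
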