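import Groth.Statements.S11488
import Groth.Agent.H28.LinePt.Main
import Groth.Agent.S11486
-- import your own Groth.Agent.* helpers here

set_option autoImplicit false
set_option backward.isDefEq.respectTransparency false
set_option backward.isDefEq.respectTransparency.types false
set_option linter.style.haveILetI false
universe u
open VBPn

namespace Groth.Agent.S11488

open CategoryTheory CategoryTheory.Limits AlgebraicGeometry in
/-- Let k be an algebraically closed field of characteristic zero, E a finite locally free O-module of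
rank r on P^n_k and x a closed point of P^n_k. If i^*E ≅ O^r for every line through x, that is for
every closed immersion of k-schemes i : P^1_k → P^n_k along which O(1) pulls back to O(1) and whose
image contains x, then E ≅ O^r. -/
theorem result (k : Type u) [Field k] [IsAlgClosed k] [CharZero k]
    (n r : ℕ) (E : (CohB1.ProjSpace n k).Modules) (hE : FlatMod.IsFinLocFreeOfRank r E) (x : ↥(CohB1.ProjSpace n k))
    (hx : IsClosed ({x} : Set ↥(CohB1.ProjSpace n k)))
    (h : ∀ (i : CohB1.ProjSpace 1 k ⟶ CohB1.ProjSpace n k) [IsClosedImmersion i],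
      i ≫ CohB1.ProjSpace.toSpec n k = CohB1.ProjSpace.toSpec 1 k →
      Nonempty ((Scheme.Modules.pullback i).obj (Twist.twistProjSpace n k 1) ≅ Twist.twistProjSpace 1 k 1) →
      x ∈ Set.range i.base →
      Nonempty ((Scheme.Modules.pullback i).obj E ≅ FlatMod.freeMod (CohB1.ProjSpace 1 k) r)) :
    Nonempty (E ≅ FlatMod.freeMod (CohB1.ProjSpace n k) r) := by
  open Groth.Agent in
  open Groth.Agent.H23.PicMul in
  induction n generalizing r with
  | zero =>
    obtain ⟨b, ⟨e⟩⟩ := (S11486.result k 0 r E hE).2 fun q d hq hq0 => absurd hq0 (by omega)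
    refine ⟨e ≪≫ Sigma.mapIso fun j => ?_⟩
    exact (Synt29.Rank2Pn.nonempty_iso_zero (b j) 0).some ≪≫ (H28.KPn.tw_zero k 0).some
  | succ n ih =>
    rcases Nat.lt_or_ge n 1 with hn | hn
    · obtain rfl : n = 0 := by omega
      obtain ⟨e⟩ := h (𝟙 _) (Category.id_comp _) ⟨(Scheme.Modules.pullbackId _).app _⟩ (by simp)
      exact ⟨((Scheme.Modules.pullbackId _).app E).symm ≪≫ e⟩
    obtain ⟨φx, hφx⟩ := H28.LinePt.exists_value x hx
    obtain ⟨s, t, hs, ht, hst⟩ := H28.LinePt.exists_pencil (by omega) φx
    refine H28.LinePt.trivial_of_pencil hn hE s t hst (fun a b hab => ?_) (fun y hy => ?_)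
    · obtain ⟨φ, hφq, hτ⟩ := Synt29.HyperIso.exists_iso k n (H28.LinePt.sect (a • s + b • t))
        (H28.LinePt.sect_ne_zero hab)
      obtain ⟨w, hw⟩ := hφx (a • s + b • t) (by simp [hs, ht])
      let j := φ.hom ≫ (PicF2.zeroScheme (Twist.twistProjSpace (n + 1) k 1)
        (H28.LinePt.sect (a • s + b • t))).subschemeι
      have hjx : j (φ.inv w) = x := by
        have : φ.inv ≫ j = (PicF2.zeroScheme (Twist.twistProjSpace (n + 1) k 1)
            (H28.LinePt.sect (a • s + b • t))).subschemeι := Iso.inv_hom_id_assoc _ _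
        rw [← Scheme.Hom.comp_apply, this]
        exact hw
      have hcl : IsClosed ({φ.inv w} : Set ↥(CohB1.ProjSpace n k)) := by
        have : ({φ.inv w} : Set ↥(CohB1.ProjSpace n k)) = j.base ⁻¹' {x} :=
          Set.ext fun z => ⟨fun hz => (congrArg j.base (Set.mem_singleton_iff.1 hz)).trans hjx,
            fun hz => j.isClosedEmbedding.injective ((Set.mem_singleton_iff.1 hz).trans hjx.symm)⟩
        rw [this]
        exact hx.preimage j.continuous
      refine ⟨j, inferInstance, hφq, ?_, hτ, ih r _ (TFOneX.isFinLocFreeOfRank_pullback j hE) (φ.inv w) hcl ?_⟩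
      · show (φ.hom ≫ _).ker = _
        rw [Scheme.Hom.ker_comp_of_isIso, Scheme.IdealSheafData.ker_subschemeι]
      · intro i _ hi hO hmem
        obtain ⟨e⟩ := h (i ≫ j) (by rw [Category.assoc, hφq, hi])
          ⟨((Scheme.Modules.pullbackComp i j).app _).symm ≪≫ (Scheme.Modules.pullback i).mapIso hτ.some ≪≫ hO.some⟩
          (by obtain ⟨z, hz⟩ := hmem; exact ⟨z, (congrArg j hz).trans hjx⟩)
        exact ⟨(Scheme.Modules.pullbackComp i j).app E ≪≫ e⟩
    · obtain ⟨φy, hφy⟩ := H28.LinePt.exists_value y hy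
      have hsupp : ∀ c, φy c = 0 → y ∈ ((PicF2.zeroScheme (Twist.twistProjSpace (n + 1) k 1)
          (H28.LinePt.sect c)).support : Set ↥(CohB1.ProjSpace (n + 1) k)) := fun c hc => by
        rw [← Scheme.IdealSheafData.range_subschemeι]
        exact hφy c hc
      by_cases h0 : φy s = 0
      · exact ⟨1, 0, fun h1 => one_ne_zero (hst 1 0 h1).1, hsupp _ (by simp [h0])⟩
      · exact ⟨-(φy t / φy s), 1, fun h1 => one_ne_zero (hst _ _ h1).2, hsupp _ (by simp [h0])⟩

end Groth.Agent.S11488
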