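import Groth.Statements.S12976
import Groth.Agent.AlgStLib.Faithful

set_option backward.isDefEq.respectTransparency false
set_option backward.isDefEq.respectTransparency.types false
-- import your own Groth.Agent.* helpers here

set_option autoImplicit false
universe u
open CategoryTheory AlgebraicGeometry
open AlgSt

namespace Groth.Agent.S12976

/-- A morphism f between algebraic stacks is representable by algebraic spaces exactly when its second
diagonal 𝒳 → 𝒳 ×_{𝒳 ×_𝒴 𝒳} 𝒳 is an isomorphism, that is an equivalence over the base. -/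
theorem result
    (S : Scheme.{u}) (𝒳 : AlgSt.Cat S) (𝒴 : AlgSt.Cat S)
    (h𝒳 : AlgSt.IsAlgStack Scheme.fppfPrecoverage 𝒳)
    (h𝒴 : AlgSt.IsAlgStack Scheme.fppfPrecoverage 𝒴)
    (f : 𝒳 ⥤ᵇ 𝒴) :
    AlgSt.RepByAlgSp1 f ↔ FibCat.IsEquivOver (FibCat.diag (FibCat.diag f)) :=  by
  refine (Groth.Agent.AlgStLib.repByAlgSp1_iff_faithful h𝒳 h𝒴 f).trans
    ((Groth.Agent.AlgStLib.faithful_iff_full_diag f).trans ?_)
  refine Iff.trans ?_ (Groth.Agent.S6399.result (FibCat.diag f) h𝒳.isStack.1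
    (Groth.Agent.FibBase.fp_isFibGrpd h𝒳.isStack.1 h𝒳.isStack.1 h𝒴.isStack.1))
  exact ⟨fun h => ⟨h, Groth.Agent.AlgStLib.faithful_diag f⟩, fun h => h.1⟩
end Groth.Agent.S12976
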