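import Groth.Statements.S12944
import Groth.Agent.AlgStLib.Imm
import Groth.Agent.S9912

set_option backward.isDefEq.respectTransparency false
set_option backward.isDefEq.respectTransparency.types false
-- import your own Groth.Agent.* helpers here

set_option autoImplicit false
universe u
open CategoryTheory AlgebraicGeometry
open AlgSt

namespace Groth.Agent.S12944

/-- For a morphism f of algebraic stacks that is representable by algebraic spaces, these three
conditions coincide: f is quasi-separated (every base change to a scheme is a quasi-separated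
morphism of algebraic spaces); the diagonal of f is quasi-compact; the diagonal of f is of finite
type. -/
theorem result
    (S : Scheme.{u}) (𝒳 : AlgSt.Cat S) (𝒴 : AlgSt.Cat S)
    (h𝒳 : AlgSt.IsAlgStack Scheme.fppfPrecoverage 𝒳)
    (h𝒴 : AlgSt.IsAlgStack Scheme.fppfPrecoverage 𝒴)
    (f : 𝒳 ⥤ᵇ 𝒴)
    (hf : AlgSt.RepByAlgSp1 f) :
    [AlgSt.RepByAlgSpWith AlgSp.IsQuasiSeparatedMor f,
      AlgSt.RepByAlgSpWith AlgSp.IsQuasiCompactMor (FibCat.diag f),
      AlgSt.RepByAlgSpWith AlgSp.IsFiniteTypeMor (FibCat.diag f)].TFAE := by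
  open Groth.Agent.AlgStLib in
  have hq := isLocalOnBase_fppf_of_fpqc (Groth.Agent.AlgSpLib.isLocalOnBase_fpqc_isQuasiCompactMor (S := S))
  have hft := Groth.Agent.AlgStLib.isLocalOnBase_fppf_of_fpqc (Groth.Agent.AlgSpLib.isLocalOnBase_fpqc_isFiniteTypeMor (S := S))
  have hb : Groth.Agent.AlgStLib.StableBC (AlgSp.IsFiniteTypeMor (S := S)) :=
    fun _ _ _ _ h1 h2 _ h4 _ _ _ _ sq h =>
      ⟨Groth.Agent.AlgSpLib.locP_of_isPullback sq h1 h2 h4 h.1, Groth.Agent.AlgSpPts.isQuasiCompactMor_of_isPullback sq h.2⟩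
  tfae_have 1 ↔ 2 := by
    refine (Groth.Agent.AlgStLib.repByAlgSpWith_diag_iff Groth.Agent.AlgStLib.stableBC_isQuasiCompactMor
      Groth.Agent.AlgStLib.stableBC_isQuasiSeparatedMor
      (fun hF hG a ha => Groth.Agent.AlgStLib.property_of_repBySpWith hq hF hG ha) hf fun a hF => ?_).symm
    exact ((Groth.Agent.S9912.result (X := ⟨_, hF⟩) (Y := ⟨_, Groth.Agent.AlgSpLib.isAlgSpace_pullback hF hF
      (AlgSp.IsAlgSpace.yon_obj _) a a⟩) (ObjectProperty.homMk (CategoryTheory.Limits.pullback.diagonal a))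
      (Groth.Agent.AlgSpLib.representable_diagonal hF a))).symm
  tfae_have 3 ↔ 1 := by
    refine Groth.Agent.AlgStLib.repByAlgSpWith_diag_iff hb Groth.Agent.AlgStLib.stableBC_isQuasiSeparatedMor
      (fun hF hG a ha => Groth.Agent.AlgStLib.property_of_repBySpWith hft hF hG ha) hf fun a hF => ?_
    obtain ⟨hr, hl, -⟩ := Groth.Agent.AlgSpPts.diagonal_package hF (AlgSp.IsAlgSpace.yon_obj _) a
    refine ⟨fun h => ?_, fun h => ⟨Groth.Agent.AlgSpLib.locP_of_repWith hl,
      Groth.Agent.AlgSpPts.isQuasiCompactMor_of_repWith h⟩⟩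
    exact ((Groth.Agent.S9912.result (X := ⟨_, hF⟩) (Y := ⟨_, Groth.Agent.AlgSpLib.isAlgSpace_pullback hF hF
      (AlgSp.IsAlgSpace.yon_obj _) a a⟩) (ObjectProperty.homMk (CategoryTheory.Limits.pullback.diagonal a))
      hr)).2 h.2
  tfae_finish
end Groth.Agent.S12944
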