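import Groth.Statements.S12980
import Groth.Agent.AlgStLib.QuasiCompactImm
import Groth.Agent.S12944

set_option backward.isDefEq.respectTransparency false
set_option backward.isDefEq.respectTransparency.types false
-- import your own Groth.Agent.* helpers here

set_option autoImplicit false
universe u
open CategoryTheory AlgebraicGeometry
open AlgSt

namespace Groth.Agent.S12980

/-- A morphism f of algebraic stacks is quasi-separated if and only if its first and second diagonals
are both quasi-compact (as morphisms representable by algebraic spaces). -/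
theorem result
    (S : Scheme.{u}) (𝒳 : AlgSt.Cat S) (𝒴 : AlgSt.Cat S)
    (h𝒳 : AlgSt.IsAlgStack Scheme.fppfPrecoverage 𝒳)
    (h𝒴 : AlgSt.IsAlgStack Scheme.fppfPrecoverage 𝒴)
    (f : 𝒳 ⥤ᵇ 𝒴) :
    AlgSt.IsQuasiSeparatedMor f ↔
      AlgSt.RepByAlgSpWith AlgSp.IsQuasiCompactMor (FibCat.diag f) ∧
        AlgSt.RepByAlgSpWith AlgSp.IsQuasiCompactMor (FibCat.diag (FibCat.diag f)) := by
  have hg : AlgSt.RepByAlgSp1 (FibCat.diag f) := Groth.Agent.AlgStLib.repByAlgSp1_diag h𝒳.diag h𝒴.diag f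
  have key := ((Groth.Agent.S12944.result S 𝒳 (FibCat.fp f f) h𝒳
    (Groth.Agent.AlgStLib.isAlgStack_fp h𝒳 h𝒳 h𝒴.isStack h𝒴.diag f f) (FibCat.diag f) hg).out 0 1)
  constructor
  · intro h
    exact ⟨Groth.Agent.AlgStLib.repByAlgSpWith_mono (fun _ _ _ h => h.1) h,
      key.1 (Groth.Agent.AlgStLib.repByAlgSpWith_mono (fun _ _ _ h => h.2) h)⟩
  · rintro ⟨h₁, h₂⟩ U y
    obtain ⟨F, e, he, hq⟩ := h₁ U y
    exact ⟨F, e, he, hq, ((show Groth.Agent.AlgStLib.RepOver AlgSp.IsQuasiSeparatedMor (FibCat.fpFst y (FibCat.diag f))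
      from key.2 h₂ U y).property_of_stableBC Groth.Agent.AlgStLib.stableBC_isQuasiSeparatedMor e he).2⟩
end Groth.Agent.S12980
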