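import Groth.Statements.S0040
import Groth.Agent.ExistSep.Closed
import Groth.Agent.AmpleVan.FibreVanish
import Groth.Agent.AmpleVan.AdicBase
set_option autoImplicit false
universe u
open Coherent

namespace Groth.Agent.S0040
set_option backward.isDefEq.respectTransparency false
set_option backward.isDefEq.respectTransparency.types false


open AlgebraicGeometry CategoryTheory CategoryTheory.Limits in
/-- Let A be a Noetherian ring complete with respect to an ideal I, X a scheme separated and of finite
type over Spec A, and X_n = X ×_{Spec A} Spec(A/I^(n+1)) for n ≥ 0. Suppose given closed immersions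
Z_n → X_n together with morphisms Z_n → Z_(n+1) forming cartesian squares with the transition maps
X_n → X_(n+1), and suppose Z_0 is proper over Spec(A/I). Then there is a closed subscheme W → X,
proper over Spec A, with compatible morphisms Z_n → W making each Z_n the pullback W ×_X X_n. (The
published statement assumes only that Z_0 → X_0 is a closed immersion; here it is assumed for every
n.) -/
theorem result (A : Type u) [CommRing A] [IsNoetherianRing A]
    (I : Ideal A) [IsAdicComplete I A] {X : Scheme.{u}} (f : X ⟶ Spec (CommRingCat.of A))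
    [IsSeparated f] [LocallyOfFiniteType f] [QuasiCompact f]
    (Z : ℕ → Scheme.{u}) (z : (n : ℕ) → (Z n ⟶ CohB1.thick f I n)) (t : (n : ℕ) → (Z n ⟶ Z (n + 1)))
    (hz : ∀ n, IsClosedImmersion (z n))
    (ht : ∀ n, IsPullback (t n) (z n) (z (n + 1)) (CohB1.thickTrans f I n))
    (hp : IsProper (z 0 ≫ CohB1.thickToBase f I 0)) :
    ∃ (W : Scheme.{u}) (i : W ⟶ X) (w : (n : ℕ) → (Z n ⟶ W)), IsClosedImmersion i ∧
      IsProper (i ≫ f) ∧ (∀ n, w n = t n ≫ w (n + 1)) ∧ ∀ n, IsPullback (w n) (z n) i (CohB1.thickι f I n) := by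
  letI : X.Over (Spec (CommRingCat.of A)) := ⟨f⟩
  haveI : IsSeparated (X ↘ Spec (CommRingCat.of A)) := ‹IsSeparated f›
  haveI : LocallyOfFiniteType (X ↘ Spec (CommRingCat.of A)) := ‹LocallyOfFiniteType f›
  haveI : QuasiCompact (X ↘ Spec (CommRingCat.of A)) := ‹QuasiCompact f›
  haveI := hz
  haveI : ∀ n, IsClosedImmersion (CohB1.thickι f I n) := fun n => by
    haveI : IsClosedImmersion (CohB1.specQuot I n) := IsClosedImmersion.spec_of_surjective _ Ideal.Quotient.mk_surjective
    exact MorphismProperty.pullback_fst (P := @IsClosedImmersion) _ _ inferInstance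
  let c : ∀ n, Z n ⟶ X := fun n => z n ≫ CohB1.thickι f I n
  let q : ∀ n, Z n ⟶ Spec (CommRingCat.of (A ⧸ I ^ (n + 1))) := fun n => z n ≫ CohB1.thickToBase f I n
  have hcq : ∀ n, c n ≫ f = q n ≫ CohB1.specQuot I n := fun n => by
    show (z n ≫ _) ≫ f = (z n ≫ _) ≫ _
    rw [Category.assoc, Category.assoc, pullback.condition]
  have htc : ∀ n, t n ≫ c (n + 1) = c n := fun n => by
    show t n ≫ z (n + 1) ≫ _ = z n ≫ _
    rw [← Category.assoc, (ht n).w, Category.assoc, Groth.Agent.AmpleVan.FibreVanish.thickTrans_ι f I n]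
  have sq : ∀ n, IsPullback (t n) (q n) (c (n + 1) ≫ f) (CohB1.specQuot I n) := fun n => by
    have h := ((ht n).paste_vert (Groth.Agent.AmpleVan.FibreVanish.cart f I n)).paste_vert
      (Groth.Agent.AmpleVan.AdicSys.square_of_mono (CohB1.specQuotTrans I n) (CohB1.specQuot I n)
        (CohB1.specQuot I (n + 1)) (CohB1.specQuotTrans_specQuot I n))
    rw [Category.comp_id, Category.assoc, ← pullback.condition, ← Category.assoc] at h
    exact h
  have hp' : IsProper (c 0 ≫ f) := by
    haveI := hp
    haveI : IsClosedImmersion (CohB1.specQuot I 0) := IsClosedImmersion.spec_of_surjective _ Ideal.Quotient.mk_surjective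
    rw [hcq]
    show IsProper ((z 0 ≫ CohB1.thickToBase f I 0) ≫ _)
    infer_instance
  obtain ⟨Y, ι, w, hι, hY, h1, h2, h3⟩ := Groth.Agent.ExistSep.exists_closedAlg_sep I X Z t c q hcq htc sq hp'
  refine ⟨Y, ι, w, hι, hY, fun n => (h1 n).symm, fun n => ?_⟩
  exact IsPullback.of_bot (v₂₁ := CohB1.thickToBase f I n) (v₂₂ := f) (h₃₁ := CohB1.specQuot I n)
    (h3 n) (h2 n) (IsPullback.of_hasPullback _ _)

end Groth.Agent.S0040
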