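import Groth.Statements.S8267
import Groth.Agent.SymAlgX.Gen
import Groth.Agent.QCoh.FT

set_option autoImplicit false
universe u
open CategoryTheory CategoryTheory.Limits AlgebraicGeometry Opposite TopologicalSpace
open EGA2

namespace Groth.Agent.S8267

/-- Let E be a quasi-coherent O_S-module of finite type and A (through j : E → A) its symmetric algebra.
Then the vector bundle V(E) = Spec(A) is of finite type over S, i.e. its (affine) structure morphism
is locally of finite type. -/
theorem result {S : Scheme.{u}} (E : S.Modules) (hE : Coh.IsCoh E)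
    (A : RelSpec.QCAlg S) (j : E ⟶ A.toModule) (hA : RelSpec.IsSymAlg E A j) :
    LocallyOfFiniteType A.π := by
  have hft : ∀ (U : S.Opens) (hU : IsAffineOpen U), (A.str.app (op U)).hom.FiniteType := fun U hU => by
    letI := (A.str.app (op U)).hom.toAlgebra
    obtain ⟨T, hT⟩ := (Groth.Agent.QCoh.finite_of_isFT hE.1 hE.2 hU).fg_top
    classical
    refine ⟨⟨T.image (Groth.Agent.SymAlgX.jv A j U), eq_top_iff.2 fun b _ => ?_⟩⟩
    have hb : b ∈ Groth.Agent.SymAlgX.genAt A j U := by
      rw [Groth.Agent.SymAlgX.genAt_eq_top hE.1 hA hU]; exact Subring.mem_top b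
    rw [← Subalgebra.mem_toSubring]
    refine (Subring.closure_le.2 ?_) hb
    rintro x (⟨a, rfl⟩ | ⟨e, rfl⟩)
    · exact Subalgebra.algebraMap_mem _ a
    · rw [SetLike.mem_coe, Subalgebra.mem_toSubring]
      have he : e ∈ Submodule.span Γ(S, U) (T : Set Γ(E, U)) := hT ▸ Submodule.mem_top
      refine Submodule.span_induction (p := fun e _ => Groth.Agent.SymAlgX.jv A j U e ∈ _) ?_ ?_ ?_ ?_ he
      · exact fun t ht => Algebra.subset_adjoin (Finset.mem_coe.2 (Finset.mem_image_of_mem _ ht))
      · rw [show Groth.Agent.SymAlgX.jv A j U 0 = 0 from map_zero (j.app U).hom]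
        exact zero_mem _
      · intro a c _ _ ha hc
        rw [show Groth.Agent.SymAlgX.jv A j U (a + c) = Groth.Agent.SymAlgX.jv A j U a + Groth.Agent.SymAlgX.jv A j U c
          from map_add (j.app U).hom a c]
        exact add_mem ha hc
      · intro r c _ hc
        rw [show Groth.Agent.SymAlgX.jv A j U (r • c) =
          (A.str.app (op U)).hom r * Groth.Agent.SymAlgX.jv A j U c from Scheme.Modules.Hom.app_smul j r c]
        exact mul_mem (Subalgebra.algebraMap_mem _ r) hc
  refine (IsZariskiLocalAtSource.iff_of_openCover (P := @LocallyOfFiniteType) A.glueData.cover).2 fun U => ?_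
  show LocallyOfFiniteType (A.ι U.1 U.2 ≫ A.π)
  rw [A.ι_π]
  haveI : LocallyOfFiniteType (Spec.map (A.str.app (op U.1))) :=
    (HasRingHomProperty.Spec_iff (P := @LocallyOfFiniteType)).2 (hft U.1 U.2)
  infer_instance

end Groth.Agent.S8267
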