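import Groth.Statements.S5616
import Groth.Agent.TriCat.ExtEff
import Mathlib

set_option autoImplicit false
universe w w' v v' u u'
open CategoryTheory CategoryTheory.Limits
open CohDer

namespace Groth.Agent.S5616

open CategoryTheory.Abelian CategoryTheory.Limits

open Abelian Limits in
lemma exists_epi_comp_eq_zero {A : Type u} [Category.{v} A] [Abelian A] [HasExt.{w} A]
    (n : ℕ) : ∀ {X Y : A} (x : Ext.{w} X Y (n + 1)),
      ∃ (X' : A) (p : X' ⟶ X), Epi p ∧ (Ext.mk₀ p).comp x (zero_add (n + 1)) = 0 := by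
  induction n with
  | zero =>
    intro X Y x
    obtain ⟨E, ι, hι, h⟩ := Groth.Agent.TriCat.exists_mono_comp_ext_eq_zero 0 x
    let S := ShortComplex.mk ι (cokernel.π ι) (cokernel.condition ι)
    have hS : S.ShortExact := { exact := ShortComplex.exact_cokernel ι }
    obtain ⟨y, rfl⟩ := Ext.covariant_sequence_exact₁ _ hS x h (zero_add 1)
    obtain ⟨g, rfl⟩ := Ext.homEquiv₀.symm.surjective y
    refine ⟨pullback S.g g, pullback.snd S.g g, ?_, ?_⟩
    · have : Epi S.g := hS.epi_g
      infer_instance
    · rw [Ext.homEquiv₀_symm_apply, Ext.mk₀_comp_mk₀_assoc, ← pullback.condition,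
        ← Ext.mk₀_comp_mk₀_assoc, hS.comp_extClass, Ext.comp_zero]
  | succ n ih =>
    intro X Y x
    obtain ⟨E, ι, hι, h⟩ := Groth.Agent.TriCat.exists_mono_comp_ext_eq_zero (n + 1) x
    let S := ShortComplex.mk ι (cokernel.π ι) (cokernel.condition ι)
    have hS : S.ShortExact := { exact := ShortComplex.exact_cokernel ι }
    obtain ⟨y, rfl⟩ := Ext.covariant_sequence_exact₁ _ hS x h rfl
    obtain ⟨X', p, hp, hy⟩ := ih y
    refine ⟨X', p, hp, ?_⟩
    rw [← Ext.comp_assoc (Ext.mk₀ p) y hS.extClass (zero_add (n + 1)) rfl (by omega), hy,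
      Ext.zero_comp]

/-- Let φ : A ⥤ B be an exact functor of abelian categories and M an object of A. The following are
equivalent: (i) for every L in A and every n, the map Ext^n_A(L, M) → Ext^n_B(φ L, φ M) induced by φ
is bijective; (ii) for every L the map Hom_A(L, M) → Hom_B(φ L, φ M) is bijective, and for every L,
every n ≥ 1 and every x ∈ Ext^n_B(φ L, φ M) there is an epimorphism L' ⟶ L of A such that x
precomposed with its image under φ vanishes. -/
theorem result
    {A : Type u} [Category.{v} A] [Abelian A] [HasExt.{w} A]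
    {B : Type u'} [Category.{v'} B] [Abelian B] [HasExt.{w'} B]
    (φ : A ⥤ B) [φ.Additive] [PreservesFiniteLimits φ] [PreservesFiniteColimits φ] (M : A) :
    (∀ (L : A) (n : ℕ), Function.Bijective (fun f : Abelian.Ext.{w} L M n => Abelian.Ext.mapExactFunctor φ f)) ↔
      ((∀ L : A, Function.Bijective (fun f : L ⟶ M => φ.map f)) ∧
        ∀ (L : A) (n : ℕ), 1 ≤ n → ∀ x : Abelian.Ext.{w'} (φ.obj L) (φ.obj M) n,
          ∃ (L' : A) (p : L' ⟶ L), Epi p ∧ (Abelian.Ext.mk₀ (φ.map p)).comp x (zero_add n) = 0) := by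
  constructor
  · intro h
    refine ⟨fun L => ?_, fun L n hn x => ?_⟩
    · have h0 := h L 0
      rw [show (fun f : Ext.{w} L M 0 => Ext.mapExactFunctor φ f) = Ext.mapExactFunctor φ from rfl,
        Ext.mapExactFunctor₀] at h0
      exact (Function.Bijective.of_comp_iff (Ext.homEquiv₀.symm ∘ fun f : L ⟶ M => φ.map f)
        Ext.homEquiv₀.bijective).1 h0 |> (Function.Bijective.of_comp_iff' Ext.homEquiv₀.symm.bijective _).1
    · obtain ⟨y, rfl⟩ := (h L n).2 x
      obtain ⟨m, rfl⟩ := Nat.exists_eq_add_of_le hn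
      obtain ⟨k, hk⟩ : ∃ k, k + 1 = 1 + m := ⟨m, add_comm _ _⟩
      revert y
      rw [← hk]
      intro y
      obtain ⟨L', p, hp, hy⟩ := exists_epi_comp_eq_zero k y
      refine ⟨L', p, hp, ?_⟩
      rw [← Ext.mapExactFunctor_mk₀, ← Ext.mapExactFunctor_comp, hy, Ext.mapExactFunctor_zero]
  · rintro ⟨h0, he⟩ L n
    induction n generalizing L with
    | zero =>
      rw [show (fun f : Ext.{w} L M 0 => Ext.mapExactFunctor φ f) = Ext.mapExactFunctor φ from rfl,
        Ext.mapExactFunctor₀]
      exact Ext.homEquiv₀.symm.bijective.comp ((h0 L).comp Ext.homEquiv₀.bijective)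
    | succ n ih =>
      constructor
      · intro y y' hyy
        obtain ⟨L', p, hp, hd⟩ := exists_epi_comp_eq_zero n (y - y')
        let S := ShortComplex.mk _ _ (kernel.condition p)
        have hS : S.ShortExact := { exact := ShortComplex.exact_kernel p }
        obtain ⟨z, hz⟩ := Ext.contravariant_sequence_exact₃ hS M (y - y') hd (add_comm 1 n)
        have h1 : (hS.map φ : (S.map φ).ShortExact).extClass.comp (z.mapExactFunctor φ) (add_comm 1 n) = 0 := by
          have : (hS.extClass.comp z (add_comm 1 n)).mapExactFunctor φ = 0 := by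
            rw [hz]
            have : φ.mapExtAddHom L M (n + 1) (y - y') = 0 := by
              rw [map_sub, sub_eq_zero]; exact hyy
            exact this
          rw [Ext.mapExactFunctor_comp, Ext.mapExactFunctor_extClass] at this
          exact this
        obtain ⟨w', hw⟩ := Ext.contravariant_sequence_exact₁ (hS.map φ) (φ.obj M) _ (add_comm 1 n) h1
        obtain ⟨w₀, rfl⟩ := (ih L').2 w'
        have h2 : (Ext.mk₀ S.f).comp w₀ (zero_add n) = z := (ih (kernel p)).1 (by
          change ((Ext.mk₀ S.f).comp w₀ (zero_add n)).mapExactFunctor φ = z.mapExactFunctor φ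
          rw [Ext.mapExactFunctor_comp, Ext.mapExactFunctor_mk₀]
          exact hw)
        rw [← sub_eq_zero, ← hz, ← h2]
        exact hS.extClass_comp_assoc _
      · intro x
        obtain ⟨L', p, hp, hd⟩ := he L (n + 1) (by omega) x
        let S := ShortComplex.mk _ _ (kernel.condition p)
        have hS : S.ShortExact := { exact := ShortComplex.exact_kernel p }
        obtain ⟨z', hz⟩ := Ext.contravariant_sequence_exact₃ (hS.map φ) (φ.obj M) x hd (add_comm 1 n)
        obtain ⟨z, rfl⟩ := (ih (kernel p)).2 z'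
        refine ⟨hS.extClass.comp z (add_comm 1 n), ?_⟩
        change (hS.extClass.comp z (add_comm 1 n)).mapExactFunctor φ = x
        rw [Ext.mapExactFunctor_comp, Ext.mapExactFunctor_extClass]
        exact hz

end Groth.Agent.S5616
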