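import Groth.Statements.S0985
import Groth.Agent.TriCat.SeqColimit
import Mathlib.Algebra.Homology.DerivedCategory.ShortExact
import Mathlib.Algebra.Homology.GrothendieckAbelian
import Mathlib.CategoryTheory.Limits.Preserves.Shapes.Products

set_option autoImplicit false
universe w v u
open CategoryTheory CategoryTheory.Limits
open DerLim

namespace Groth.Agent.S0985

/-- Let A be an abelian category in which colimits of sequences ℕ ⥤ A exist and are exact, and let L : ℕ
⥤ CochainComplex A ℤ be a sequence of complexes. Then the image in the derived category of the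
termwise colimit of L, with the canonical maps from the Lₙ, is a homotopy colimit of the images of
the Lₙ — assuming the termwise direct sum of the Lₙ exists and is preserved by the localization
functor to D(A) (a known result, carried here as a hypothesis rather than proved), and that the
direct sum of the images exists in D(A). -/
theorem result {A : Type u} [Category.{v} A] [Abelian A] [HasDerivedCategory.{w} A]
    [HasColimitsOfShape ℕ A] [HasExactColimitsOfShape ℕ A]
    (L : ℕ ⥤ CochainComplex A ℤ) [HasCoproduct L.obj] [PreservesColimit (Discrete.functor L.obj) (DerivedCategory.Q (C := A))]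
    [HasCoproduct (fun n => DerivedCategory.Q.obj (L.obj n))] :
    DerLim.IsHocolim (fun n => DerivedCategory.Q.obj (L.obj n)) (fun n => DerivedCategory.Q.map (L.map (homOfLE (Nat.le_succ n))))
      (DerivedCategory.Q.obj (colimit L)) (fun n => DerivedCategory.Q.map (colimit.ι L n)) := by
  open Groth.Agent.TriCat CategoryTheory.Category CategoryTheory.Pretriangulated in
  let Q := DerivedCategory.Q (C := A)
  let f := fun n => L.map (homOfLE (Nat.le_succ n))
  let σ : (∐ fun n => Q.obj (L.obj n)) ⟶ Q.obj (∐ L.obj) := sigmaComparison Q L.obj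
  have : IsIso σ := inferInstanceAs (IsIso (sigmaComparison Q L.obj))
  let eσ := asIso σ
  have hS := telescope_shortExact L
  have hsq : (𝟙 _ - DerLim.shiftMap (fun n => Q.obj (L.obj n)) (fun n => Q.map (f n))) ≫ σ =
      σ ≫ Q.map (𝟙 (∐ L.obj) - DerLim.shiftMap L.obj f) := by
    refine Sigma.hom_ext _ _ fun n => ?_
    rw [← assoc (Sigma.ι (fun n => Q.obj (L.obj n)) n) (𝟙 _ - DerLim.shiftMap _ _),
      ι_one_sub_shiftMap, Preadditive.sub_comp, assoc, ι_comp_sigmaComparison,
      ι_comp_sigmaComparison, ← assoc, ι_comp_sigmaComparison, ← Q.map_comp, ← Q.map_comp,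
      ι_one_sub_shiftMap, Q.map_sub]
  refine ⟨DerivedCategory.triangleOfSESδ hS ≫ (inv σ)⟦(1 : ℤ)⟧',
    isomorphic_distinguished _ (DerivedCategory.triangleOfSES_distinguished hS) _ ?_⟩
  refine Triangle.isoMk _ _ eσ eσ (Iso.refl _) hsq ?_ ?_
  · refine ((comp_id _).trans ?_)
    refine Sigma.hom_ext _ _ fun n => ?_
    refine (Sigma.ι_desc _ n).trans ?_
    symm
    refine (ι_comp_sigmaComparison_assoc _ _ _ _).trans ?_
    exact (Q.map_comp _ _).symm.trans (congrArg Q.map (Sigma.ι_desc _ n))
  · refine (assoc _ _ _).trans ?_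
    refine (congrArg _ (Functor.map_comp _ _ _).symm).trans ?_
    show _ ≫ (inv σ ≫ σ)⟦(1 : ℤ)⟧' = 𝟙 _ ≫ DerivedCategory.triangleOfSESδ hS
    rw [IsIso.inv_hom_id, CategoryTheory.Functor.map_id, comp_id, id_comp]

end Groth.Agent.S0985
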