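import Groth.Statements.S7213
import Groth.Agent.RelPC17.Rel
import Groth.Agent.KFlatLib.Scheme.PCQCoh
import Groth.Agent.QCoh.Local

set_option autoImplicit false
set_option backward.isDefEq.respectTransparency false
set_option backward.isDefEq.respectTransparency.types false
universe u
open CategoryTheory CategoryTheory.Limits AlgebraicGeometry Opposite TopologicalSpace
attribute [local instance] HasDerivedCategory.standard
open FlatMor

namespace Groth.Agent.S7213

/-- Let f : X ⟶ S be a morphism of schemes, m an integer, and E ∈ D(O_X) such that E is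
m-pseudo-coherent with respect to the morphism f (chart form; in particular f is locally of finite
type). Then for every integer i > m the cohomology sheaf H^i(E) is a quasi-coherent O_X-module. -/
theorem result {X S : Scheme.{u}} (f : X ⟶ S) (m : ℤ) (E : DCoh.D X)
    (hE : DerSch.IsPseudoCoherentRel f m E) (i : ℤ) (hi : m < i) : Coh.IsQCoh (DCoh.HD E i) := by
  haveI := hE.1
  open Groth.Agent.RelPC17 Groth.Agent.KFlatLib in
  · have key : ∀ x : X, ∃ U : X.Opens, x ∈ U ∧ Coh.IsQCoh ((DCoh.HD E i).restrict (Scheme.Opens.ι U)) := fun x => by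
      obtain ⟨_, ⟨V, hV, rfl⟩, hxV, -⟩ :=
        S.isBasis_affineOpens.exists_subset_of_mem_open (show f x ∈ (⊤ : S.Opens) from trivial) (⊤ : S.Opens).2
      obtain ⟨_, ⟨U, hU, rfl⟩, hxU, hle⟩ :=
        X.isBasis_affineOpens.exists_subset_of_mem_open (show x ∈ f ⁻¹ᵁ V from hxV) (f ⁻¹ᵁ V).2
      obtain ⟨n, φ, hφ⟩ := exists_isChart hle (finiteType_appLE hU hV hle)
      haveI := isClosedImmersion_imm hU hφ.1
      have h : LocPC m ((pD (imm U φ)).obj ((rho (Scheme.Opens.ι U)).obj E)) := rel_iff.1 hE U V hU hV hle n φ hφ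
      have hq : Coh.IsQCoh ((Scheme.Modules.pushforward (imm U φ)).obj (DCoh.HD ((rho (Scheme.Opens.ι U)).obj E) i)) :=
        isQCoh_of_iso (hdPD (imm U φ) _ i)
          (isQCoh_HD_of_pseudoCoherent ((isPseudoCoherentD_iff _ _).2 h) i hi)
      haveI := Groth.Agent.KZ.ClosedDev.isIso_counit (imm U φ) hq
      have hq' : Coh.IsQCoh (DCoh.HD ((rho (Scheme.Opens.ι U)).obj E) i) :=
        isQCoh_of_iso (asIso ((Scheme.Modules.pullbackPushforwardAdjunction (imm U φ)).counit.app _))
          (Groth.Agent.QCoh.isQCoh_pullback (imm U φ) hq)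
      exact ⟨U, hxU, isQCoh_of_iso (hdRhoIso (Scheme.Opens.ι U) E i) hq'⟩
    choose U hxU hU using key
    exact Groth.Agent.QCoh.isQCoh_of_isOpenCover U (TopologicalSpace.IsOpenCover.mk (top_le_iff.1
      fun x _ => TopologicalSpace.Opens.mem_iSup.2 ⟨x, hxU x⟩)) hU

end Groth.Agent.S7213
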