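import Groth.Statements.S1785
import Groth.Agent.KFlatLib.Ring.ShriekRange
-- import your own Groth.Agent.* helpers here

set_option autoImplicit false
universe u
open CategoryTheory
attribute [local instance] HasDerivedCategory.standard
open Dual2

namespace Groth.Agent.S1785

/-- Let R → A be a ring map of finite type between Noetherian rings, where φ^!(K) is formed from a
presentation ψ : R[x_1, …, x_n] → A as RHom_P(A, K ⊗^L_R P)[n], assuming the derived base change to
P exists and taking for RHom_P(A, −) a right adjoint of restriction of scalars along ψ, and let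
ω_{A/R} = φ^!(R). Let q be a prime of A and d the local dimension at q of the fibre of Spec A → Spec
R through q. If H^i(ω_{A/R}) localized at q is nonzero then −d ≤ i. -/
theorem result (R A : Type u) [CommRing R] [CommRing A] [IsNoetherianRing R] [IsNoetherianRing A] [Algebra R A] (n : ℕ) (ψ : MvPolynomial (Fin n) R →ₐ[R] A) (hψ : Function.Surjective ψ) [DRing.HasLBaseChange (algebraMap R (MvPolynomial (Fin n) R))] (Rψ : Dual.D (MvPolynomial (Fin n) R) ⥤ Dual.D A) (adj : DRing.restrictD ψ.toRingHom ⊣ Rψ) (q : PrimeSpectrum A) (d : ℕ) (hd : FlatMor.fibreDimAt (AlgebraicGeometry.Spec.map (CommRingCat.ofHom (algebraMap R A))) q = d) (i : ℤ) (h : Nontrivial (LocalizedModule q.asIdeal.primeCompl (Dual.HD A (Dual2.shriekVia n Rψ (Dual.inD R R)) i))) : -(d : ℤ) ≤ i := by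
  haveI : Algebra.FiniteType R A := Algebra.FiniteType.of_surjective ψ hψ
  let P := MvPolynomial (Fin n) R
  haveI := Groth.Agent.KFlatLib.hasLBase (algebraMap R P)
  obtain ⟨e₁⟩ := Groth.Agent.KFlatLib.nonempty_LBaseChange_iso (algebraMap R P)
  obtain ⟨u⟩ := Groth.Agent.KFlatLib.nonempty_LBase_unit (algebraMap R P)
  let e : (Rψ.obj (DTen.unit P))⟦(n : ℤ)⟧ ≅ Dual2.shriekVia n Rψ (Dual.inD R R) :=
    ((shiftFunctor _ (n : ℤ)).mapIso (Rψ.mapIso (e₁.app _ ≪≫ (DTen.LBase (algebraMap R P)).mapIso
      ((DerivedCategory.singleFunctorIsoCompQ (ModuleCat R) 0).app (ModuleCat.of R R)) ≪≫ u))).symm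
  by_contra hlt
  obtain ⟨c⟩ := Groth.Agent.KFlatLib.exists_hdShiftLEquiv (Rψ.obj (DTen.unit P)) (n : ℤ) i ((n : ℤ) + i) rfl
  haveI := Groth.Agent.KFlatLib.subsingleton_localized_hd_shriek_unit_of_lt ψ hψ adj q d
    (fun q' hq' => Groth.Agent.KFlatLib.fd_le_of_fibreDimAt q d hd.le q' hq') ((n : ℤ) + i) (by omega)
  let c' := (((DerivedCategory.homologyFunctor (ModuleCat A) i).mapIso e).toLinearEquiv.symm).trans c
  let P' := Dual.HD A (Rψ.obj (DTen.unit P)) ((n : ℤ) + i)
  let K' := Dual.HD A (Dual2.shriekVia n Rψ (Dual.inD R R)) i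
  have hs : Subsingleton (LocalizedModule q.asIdeal.primeCompl (Dual.HD A (Dual2.shriekVia n Rψ (Dual.inD R R)) i)) :=
    (IsLocalizedModule.mapEquiv q.asIdeal.primeCompl (LocalizedModule.mkLinearMap q.asIdeal.primeCompl K')
      (LocalizedModule.mkLinearMap q.asIdeal.primeCompl P') (Localization.AtPrime q.asIdeal) c').injective.subsingleton
  exact not_subsingleton _ hs

end Groth.Agent.S1785
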