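import Groth.Statements.S3645
import Groth.Agent.KExact.ViaPoint
import Groth.Agent.KExact.ViaAmp
import Groth.Agent.KExact.ViaCoh
import Groth.Agent.KExact.SelfHomSch
import Groth.Agent.S1790
-- import your own Groth.Agent.* helpers here

set_option autoImplicit false
set_option linter.style.haveILetI false
set_option backward.isDefEq.respectTransparency false
set_option backward.isDefEq.respectTransparency.types false

universe u
open CategoryTheory CategoryTheory.Limits AlgebraicGeometry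
attribute [local instance] HasDerivedCategory.standard
open Dual3

namespace Groth.Agent.S3645

attribute [local instance] HasDerivedCategory.standard
open Groth.Agent.KExact Groth.Agent.KFlatLib Groth.Agent


/-- Let S be a Noetherian scheme, X and Y schemes separated and of finite type over S and f : X → Y a
morphism over S; compute f^! through a compactification f = j ∘ p (j : X → X' an open immersion, p :
X' → Y proper, Rp_* on D_QCoh assumed to exist and to preserve quasi-coherence of cohomology, a a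
right adjoint of Rp_*, restriction of modules to opens assumed exact), so that f^!K = a(K)|_X.
Assume f is flat and let O be the structure sheaf of Y in degree 0. Then f^!O is Y-perfect
(pseudo-coherent and locally of finite tor dimension relative to Y), and for any complex E
representing f^!O with - ⊗^L E ⊣ RHom(E, -) assumed and any identification υ : O_X ⊗^L E ≅ E, the
map O_X → RHom(E, E) adjoint to υ is an isomorphism. -/
theorem result (S X Y : Scheme.{u}) [IsNoetherian S] (p : X ⟶ S) (q : Y ⟶ S) [Dual3.IsSepFT p] [Dual3.IsSepFT q] (f : X ⟶ Y) (w : f ≫ q = p) [Flat f] (c : DEt.Compactification f) [DCoh.HasRpush c.fbar] (hc : DCoh.RpushPreservesQCoh c.fbar) (a : DCoh.DQCoh Y ⥤ DCoh.DQCoh c.Xbar) (adj : DCoh.RpushQ c.fbar hc ⊣ a) [∀ (U V : Scheme.{u}) (j : U ⟶ V) [IsOpenImmersion j], PreservesFiniteLimits (Scheme.Modules.restrictFunctor j)] (O : DCoh.DQCoh Y) (hO : Nonempty (O.obj ≅ DCoh.inD Y (Coh.structureModule Y))) : ((∀ m : ℤ, DCoh.IsPseudoCoherentD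 m ((Dual3.shriekC c a).obj O)) ∧ DCoh.LocHasFiniteRelTorDim f ((Dual3.shriekC c a).obj O)) ∧ ∀ (E : CochainComplex X.Modules ℤ) (hE : Nonempty (DCoh.toD X E ≅ (Dual3.shriekC c a).obj O)) [DCoh.HasLTensorCx E] [DCoh.HasRSheafHom E] (υ : (DCoh.LTensorCx E).obj (DCoh.inD X (Coh.structureModule X)) ≅ DCoh.toD X E), IsIso (((DCoh.RSheafHomAdj E).homEquiv (DCoh.inD X (Coh.structureModule X)) (DCoh.toD X E)) υ.hom) := by
  haveI : ∀ (R : CommRingCat.{u}), PreservesFiniteLimits (tilde.functor R) := fun R => QCoh.tilde_preservesFiniteLimits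
  haveI : IsNoetherian Y := BCNat.isNoetherian_of_ft q
  haveI : IsNoetherian X := BCNat.isNoetherian_of_ft p
  haveI : LocallyOfFiniteType f := by
    have : LocallyOfFiniteType (f ≫ q) := by rw [w]; infer_instance
    exact locallyOfFiniteType_of_comp f q
  obtain ⟨eO⟩ := hO
  let K := (Dual3.shriekC c a).obj O
  have hcharts : ∀ x : X, ∃ (ch : ViaApp.Chart f K x) (a₀ b₀ : ℤ), a₀ ≤ b₀ ∧
      (ViaPoint.om ch).IsGE a₀ ∧ (ViaPoint.om ch).IsLE b₀ ∧
      DCoh.HasRelFlatAmplitudeIn (ch.k ≫ f) a₀ b₀ ((rho ch.k).obj K) := fun x => by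
    obtain ⟨ch⟩ := ViaApp.exists_chart c.j c.fbar adj f c.fac O eO x
    haveI := ch.flat inferInstance
    obtain ⟨⟨a₁, b₁, hab⟩, -⟩ := ViaPoint.bounds ch
    obtain ⟨a₂, b₂, hT⟩ := (Groth.Agent.S1801.result ch.R ch.A ch.n ch.ψ ch.hψ ch.Rψ ch.adj).2.2.1
    let a₀ := min a₁ a₂
    let b₀ := max (max b₁ b₂) a₀
    haveI : (ViaPoint.om ch).IsGE a₀ := (DerivedCategory.isGE_iff _ _).2 fun i hi => by
      haveI := hab i (Or.inl (lt_of_lt_of_le hi (min_le_left _ _)))
      exact @ModuleCat.isZero_of_subsingleton _ _ _ this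
    haveI : (ViaPoint.om ch).IsLE b₀ := (DerivedCategory.isLE_iff _ _).2 fun i hi => by
      haveI := hab i (Or.inr (lt_of_le_of_lt ((le_max_left _ _).trans (le_max_left _ _)) hi))
      exact @ModuleCat.isZero_of_subsingleton _ _ _ this
    have hT' : DRing.HasTorAmplitudeIn ch.R a₀ b₀ ((DRing.restrictD (algebraMap ch.R ch.A)).obj (ViaPoint.om ch)) := by
      obtain ⟨E, hE, hfl, hiso⟩ := hT
      refine ⟨E, fun i hi => hE i ?_, hfl, hiso⟩
      rcases hi with h | h
      · exact Or.inl (lt_of_lt_of_le h (min_le_right _ _))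
      · exact Or.inr (lt_of_le_of_lt ((le_max_right _ _).trans (le_max_left _ _)) h)
    refine ⟨ch, a₀, b₀, le_max_right _ _, inferInstance, inferInstance, RelTor.relAmp_of_iso ch.e.symm ?_⟩
    rw [ch.comm]
    obtain ⟨E, hE, hfl, hiso⟩ := ViaAmp.relAmp_tilde_of_torAmp (ViaPoint.om ch) a₀ b₀ (le_max_right _ _) _ hT'
    exact ⟨E, hE, fun i v => (RelTor.flatOverAt_comp_iff _ ch.i (E.X i) v).1 (hfl i v), hiso⟩
  have hcoh : DCoh.IsCohD K := CohShriek.isCohD_shriek c.j c.fbar adj O (ViaApp.isBddBelowQ_O eO)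
    (isCohD_of_iso eO.symm (ViaCoh.isCohD_structure Y))
  refine ⟨⟨fun m => ?_, ?_⟩, fun E hE _ _ υ => ?_⟩
  · refine (isPseudoCoherentD_iff _ _).2 ?_
    refine locPC_of_coh (isCohD_isQCohD hcoh) (fun k _ => hcoh k) 0 fun i hi => isZero_of_stalk _ fun x => ?_
    refine @ModuleCat.isZero_of_subsingleton _ _ _ (not_nontrivial_iff_subsingleton.1 fun h => ?_)
    obtain ⟨ch, -⟩ := hcharts x
    haveI := ch.flat inferInstance
    obtain ⟨d, hdn, hd⟩ : ∃ (d : ℕ), True ∧ FlatMor.fibreDimAt f x = d := by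
      obtain ⟨z, -, -, he, -⟩ := FibDim.exists_fibreDimAt_eq f x
      exact ⟨FibDim.rd f z, trivial, by rw [he]; norm_cast⟩
    have hd' := ch.fibreDimAt_eq ch.p
    rw [ch.hp, hd] at hd'
    have := (Groth.Agent.S1790.result ch.R ch.A ch.n ch.ψ ch.hψ ch.Rψ ch.adj d).1 ch.p hd' i
      ((ch.nontrivial_iff_at i).1 h)
    omega
  · refine (RelTor.locHasFiniteRelTorDim_iff f K).2 fun x => ?_
    obtain ⟨ch, a₀, b₀, -, -, -, h⟩ := hcharts x
    exact ⟨_, ch.k, inferInstance, ⟨ch.p, ch.hp⟩, a₀, b₀, h⟩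
  · obtain ⟨eE⟩ := hE
    refine SelfHom.isIso_homEquiv_self (K := K) (fun x => ?_) E eE υ
    obtain ⟨ch, a₀, b₀, -, hge, hle, -⟩ := hcharts x
    haveI := ch.flat inferInstance
    obtain ⟨hb, hs⟩ := (Groth.Agent.S1801.result ch.R ch.A ch.n ch.ψ ch.hψ ch.Rψ ch.adj).2.2.2.1
    exact ⟨CommRingCat.of ch.A, ch.k, inferInstance, ViaPoint.om ch, a₀, b₀, ⟨ch.p, ch.hp⟩, ch.noeA,
      (ViaPoint.bounds ch).2, hge, hle, ⟨hb, hs⟩, ⟨ch.e⟩⟩
end Groth.Agent.S3645
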