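import Groth.Statements.S0910
import Groth.Agent.KFlatLib.Perfect.Basic
-- import your own Groth.Agent.* helpers here

set_option autoImplicit false
universe u
open CategoryTheory
attribute [local instance] HasDerivedCategory.standard
open DCoh

namespace Groth.Agent.S0910

open AlgebraicGeometry in
/-- Let f : X → Y be a morphism of schemes and E an m-pseudo-coherent object of D(O_Y). Then Lf^*E is
m-pseudo-coherent. Here Lf^* is the total left derived functor of f^*, whose existence is assumed as
an instance argument. (The published statement is for morphisms of ringed spaces; stated here for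
schemes.) -/
theorem result {X Y : Scheme.{u}} (f : X ⟶ Y) [DCoh.HasLpull f] (m : ℤ) (E : DCoh.D Y)
    (hE : DCoh.IsPseudoCoherentD m E) : DCoh.IsPseudoCoherentD m ((DCoh.Lpull f).obj E) := Groth.Agent.KFlatLib.isPseudoCoherentD_lpull f hE

end Groth.Agent.S0910
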