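import Groth.Statements.S2137
import Mathlib
import Groth.Agent.S1004
import Groth.Agent.S0910
import Groth.Agent.S1055
import Groth.Agent.KFlatLib.Scheme.Derived
import Groth.Agent.QCoh.Tilde

set_option autoImplicit false
universe u
open CategoryTheory
attribute [local instance] HasDerivedCategory.standard
open CAlg

namespace Groth.Agent.S2137

/-- Let `A → B` be a ring map and `K` an `m`-pseudo-coherent object of `D(A)`. Then `K ⊗^L_A B` is
`m`-pseudo-coherent in `D(B)`. (Stated assuming the total left derived functor of base change exists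
on `D(A)`, a fact not available as a library result here.) -/
theorem result {A B : Type u} [CommRing A] [CommRing B] (φ : A →+* B) [DRing.HasLBaseChange φ]
    (K : Dual.D A) (m : ℤ) (hK : DRing.IsPseudoCoherent A m K) :
    DRing.IsPseudoCoherent B m ((DRing.LBaseChange φ).obj K) := by
  classical
  haveI : DCoh.HasLpull (AlgebraicGeometry.Spec.map (CommRingCat.ofHom φ)) := Groth.Agent.KFlatLib.hasLpull _
  haveI := Groth.Agent.QCoh.tilde_preservesFiniteLimits (R := CommRingCat.of A)
  haveI := Groth.Agent.QCoh.tilde_preservesFiniteLimits (R := CommRingCat.of B)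
  obtain ⟨e⟩ := Groth.Agent.S1055.result φ
  have h1 : DCoh.IsPseudoCoherentD m ((DCoh.tildeD (CommRingCat.of A)).obj K) :=
    (Groth.Agent.S1004.result A K m).2 hK
  have h2 := Groth.Agent.S0910.result (AlgebraicGeometry.Spec.map (CommRingCat.ofHom φ)) m _ h1
  refine (Groth.Agent.S1004.result B _ m).1 fun x => ?_
  obtain ⟨V, hx, hV⟩ := h2 x
  exact ⟨V, hx, fun F ⟨i⟩ => hV F ⟨i ≪≫ e.app K⟩⟩

end Groth.Agent.S2137
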