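import Groth.Statements.S6976
import Groth.Agent.H9Misc.DRingPerfect

set_option autoImplicit false
universe u
open CategoryTheory CategoryTheory.Limits
attribute [local instance] HasDerivedCategory.standard
open DRing

namespace Groth.Agent.S6976

/-- Let R be a commutative ring, K a pseudo-coherent object of D(R) and a, b integers. Then K is
isomorphic in D(R) to a complex of projective R-modules vanishing outside [a, b] if and only if K is
perfect with tor amplitude in [a, b]. -/
theorem result (R : Type u) [CommRing R]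
    (K : Dual.D R) (hK : DRing.IsPseudoCoherent' R K) (a b : ℤ) :
    (∃ P : DRing.Cx R, DRing.VanishesOutside P a b ∧ (∀ i : ℤ, Module.Projective R (P.X i)) ∧
        Nonempty (DRing.toD P ≅ K)) ↔ DRing.IsPerfect R K ∧ DRing.HasTorAmplitudeIn R a b K := by
  refine ⟨fun ⟨P, hz, hP, ⟨e⟩⟩ => ?_, fun ⟨_, hamp⟩ => ?_⟩
  · have hamp := Groth.Agent.H9Misc.DRingPerfect.amp_of_finProj hz hP e
    exact ⟨(Groth.Agent.H9Misc.DRingPerfect.isPerfect_iff K).2 ⟨hK, a, b, hamp⟩, hamp⟩
  · obtain ⟨P, hz, hP, he⟩ := Groth.Agent.H9Misc.DRingPerfect.exists_finProj_rep hK hamp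
    exact ⟨P, hz, fun i => (hP i).2, he⟩

end Groth.Agent.S6976
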