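import Groth.Statements.S1006
import Groth.Agent.KFlatLib.Scheme.CohD
-- import your own Groth.Agent.* helpers here

set_option autoImplicit false
universe u
open CategoryTheory CategoryTheory.Limits AlgebraicGeometry
attribute [local instance] HasDerivedCategory.standard
open Perf

namespace Groth.Agent.S1006

/-- On a Noetherian scheme X every perfect object of D(O_X) has coherent cohomology sheaves and is
bounded. -/
theorem result (X : Scheme.{u}) [IsNoetherian X] (E : DCoh.D X) (hE : DCoh.IsPerfect E) :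
    DCoh.IsCohD E ∧ ∃ a b : ℤ, E.IsGE a ∧ E.IsLE b := by
  have h := (KFlatLib.isPerfect_iff E).1 hE
  refine ⟨fun i => KFlatLib.isCoh_of_locPC
    (fun j => KFlatLib.isQCoh_HD_of_pseudoCoherent ((KFlatLib.isPseudoCoherentD_iff _ _).2
      (h.locPC (j - 1))) j (by omega)) (h.locPC i) i le_rfl, ?_⟩
  obtain ⟨b, hb⟩ := KFlatLib.exists_bound_of_locPC (h.locPC 0)
  obtain ⟨a, ha⟩ := KFlatLib.exists_lower_bound_of_locSP h
  exact ⟨a, b, (DerivedCategory.isGE_iff E a).2 ha, (DerivedCategory.isLE_iff E b).2 hb⟩

end Groth.Agent.S1006
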