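import Groth.Statements.S1116
import Groth.Agent.KFlatLib.Scheme.CohD
import Groth.Agent.KFlatLib.Scheme.RHomBounded
-- import your own Groth.Agent.* helpers here

set_option autoImplicit false
universe u
open CategoryTheory CategoryTheory.Limits AlgebraicGeometry Opposite
attribute [local instance] HasDerivedCategory.standard
open Perf

namespace Groth.Agent.S1116

/-- Let X be a locally Noetherian scheme, K a cochain complex of O_X-modules whose image in D(O_X) is
bounded above with coherent cohomology sheaves, and L ∈ D(O_X) bounded below with coherent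
cohomology sheaves. Assuming - ⊗^L K and RHom(K, -) exist, RHom(K, L) is bounded below with coherent
cohomology sheaves. -/
theorem result (X : Scheme.{u}) [IsLocallyNoetherian X] (K : CochainComplex X.Modules ℤ) (b : ℤ) [(DCoh.toD X K).IsLE b]
    (hK : DCoh.IsCohD (DCoh.toD X K)) [DCoh.HasLTensorCx K] [DCoh.HasRSheafHom K] (L : DCoh.D X) (a : ℤ) [L.IsGE a] (hL : DCoh.IsCohD L) :
    DCoh.IsCohD ((DCoh.RSheafHom K).obj L) ∧ ∃ a' : ℤ, ((DCoh.RSheafHom K).obj L).IsGE a' := by
  refine ⟨fun i => KFlatLib.isCoh_of_local fun x => ?_, a - b, KFlatLib.isGE_RSheafHom K b L a⟩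
  obtain ⟨U, j, hj, hx, h⟩ := KFlatLib.exists_local_model K L a i
    ((KFlatLib.isPseudoCoherentD_iff _ _).2 (KFlatLib.locPC_of_coh (KFlatLib.isCohD_isQCohD hK)
      (fun i _ => hK i) b ((DerivedCategory.isLE_iff _ b).1 inferInstance))) x
  haveI : IsLocallyNoetherian U := isLocallyNoetherian_of_isOpenImmersion j
  haveI : (DCoh.IsCohD (X := U)).IsClosedUnderIsomorphisms := ⟨KFlatLib.isCohD_of_iso⟩
  obtain ⟨Z, hZ, ⟨e⟩⟩ := h DCoh.IsCohD
    (fun C hC i => KFlatLib.isCoh_of_isZero (Functor.map_isZero _ hC))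
    (fun T hT h₁ h₃ => KFlatLib.isCohD_obj₂ hT h₁ h₃)
    fun n => KFlatLib.isCohD_shift (KFlatLib.isCohD_rho j hL) n
  exact ⟨U, j, hj, hx, KFlatLib.isCoh_of_iso (e ≪≫ KFlatLib.restrictHDIso j _ i) (hZ (i + 1))⟩

end Groth.Agent.S1116
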