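import Groth.Statements.S6742
import Groth.Agent.KExact.HomFinite
import Groth.Agent.S1006
import Groth.Agent.KFlatLib.Scheme.DQCohCompact

set_option autoImplicit false
universe u
open CategoryTheory AlgebraicGeometry
attribute [local instance] HasDerivedCategory.standard
open DEquiv

namespace Groth.Agent.S6742

/-- Let X be a scheme proper over a field k, let K be an object of D(O_X) which is bounded and has
coherent cohomology sheaves, and let E be a perfect object of D(O_X). Then the k-vector spaces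
Ext^i_X(E, K) = Hom(E, K⟦i⟧) (k-linear structure induced by X → Spec k) are finite-dimensional for
all i ∈ ℤ and nonzero for only finitely many i. -/
theorem result
    (k : Type u) [Field k] (X : Scheme.{u}) [X.Over (Spec (.of k))] [IsProper (X ↘ Spec (.of k))]
    (K : DCoh.D X) (hK : SGA6.cohbP X K) (E : DCoh.D X) (hE : DCoh.IsPerfect E) :
    (∀ i : ℤ, Module.Finite k (E ⟶ (shiftFunctor (DCoh.D X) i).obj K)) ∧
        Set.Finite {i : ℤ | Nontrivial (E ⟶ (shiftFunctor (DCoh.D X) i).obj K)} := by
  have hX : IsNoetherian X := Groth.Agent.KExact.BCNat.isNoetherian_of_ft (X ↘ Spec (CommRingCat.of k))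
  obtain ⟨hKc, lo, hi, hlo, hhi⟩ := hK
  haveI := hlo
  haveI := hhi
  obtain ⟨hEc, a, b, hEa, hEb⟩ := Groth.Agent.S1006.result X E hE
  haveI := hEb
  let t : CategoryTheory.Triangulated.TStructure (DCoh.D X) := DerivedCategory.TStructure.t
  have hshift : ∀ i : ℤ, DCoh.IsCohD ((shiftFunctor (DCoh.D X) i).obj K) := fun i n =>
    Groth.Agent.KFlatLib.isCoh_of_iso
      (((DerivedCategory.homologyFunctor X.Modules 0).shiftIso i n (i + n) rfl).app K).symm (hKc (i + n))
  refine ⟨fun i => ?_, ?_⟩
  · haveI : ((shiftFunctor (DCoh.D X) i).obj K).IsGE (lo - i) := t.isGE_shift K lo i (lo - i) (by omega)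
    exact Groth.Agent.KExact.HomFinite.finite_hom (A := k) E ((shiftFunctor (DCoh.D X) i).obj K) b (lo - i) hEc (hshift i)
  · obtain ⟨c, hc⟩ := Groth.Agent.KFlatLib.DQCompact.exists_bound ((Groth.Agent.KFlatLib.isPerfect_iff E).1 hE)
    refine (Set.finite_Icc (lo - b) (hi - c)).subset fun i (hi' : Nontrivial (E ⟶ (shiftFunctor (DCoh.D X) i).obj K)) => ?_
    haveI := hi'
    obtain ⟨φ, hφ⟩ := exists_ne (0 : E ⟶ (shiftFunctor (DCoh.D X) i).obj K)
    refine ⟨?_, ?_⟩
    · by_contra h
      haveI : t.IsLE E b := hEb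
      haveI : t.IsGE ((shiftFunctor (DCoh.D X) i).obj K) (lo - i) := t.isGE_shift K lo i (lo - i) (by omega)
      exact hφ (t.zero φ b (lo - i) (by omega))
    · by_contra h
      haveI h1 : t.IsLE ((shiftFunctor (DCoh.D X) i).obj K) (hi - i) := t.isLE_shift K hi i (hi - i) (by omega)
      have h2 : ((shiftFunctor (DCoh.D X) i).obj K).IsLE c := t.isLE_of_le _ (hi - i) c (by omega)
      exact hφ (hc _ (fun n => (hshift i n).1) h2 φ)

end Groth.Agent.S6742
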