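import Groth.Statements.S12886
import Groth.Agent.Lib.ExtShLocal
import Groth.Agent.Lib.ExtShCodim
import Groth.Agent.LC.DepthLoc

set_option autoImplicit false
set_option backward.isDefEq.respectTransparency false
set_option backward.isDefEq.respectTransparency.types false
set_option linter.style.haveILetI false
set_option linter.unusedSectionVars false
set_option maxHeartbeats 400000
universe u
open CategoryTheory CategoryTheory.Limits TopologicalSpace AlgebraicGeometry
open Coherent

namespace Groth.Agent.S12886

open CategoryTheory CategoryTheory.Limits AlgebraicGeometry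

/-- Let X be a locally Noetherian scheme, Y a closed subset with open complement U, F a coherent
O_X-module and n a natural number. If some coherent O_X-module G has support equal to Y and ℰxt^i(G,
F) = 0 for all i < n, then the depth of F_x over O_{X,x} is at least n for every point x of Y. (The
converse holds with G = O_Y. Internal Hom of every O_X-module and injective resolutions of
O_X-modules are the stated instance hypotheses, both true.) -/
theorem result (X : Scheme.{u}) [IsLocallyNoetherian X]
    (U : X.Opens) (F : X.Modules) (hF : Coh.IsCoh F) (n : ℕ)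
    [∀ M : X.Modules, ModSite.HasSheafHom (O := X.sheaf) M] [HasInjectiveResolutions (ModSite.Mod X.sheaf)]
    (h : ∃ G : X.Modules, Coh.IsCoh G ∧ CohB1.support G = (U : Set X)ᶜ ∧
      ∀ i : ℕ, i < n → IsZero ((ModSite.extSh (O := X.sheaf) G i).obj F))
    (x : X) (hx : x ∉ (U : Set X)) :
    (n : ℕ∞) ≤ LocCoh.depth (X.presheaf.stalk x) (F.presheaf.stalk x) := by
  obtain ⟨G, hG, hsupp, hext⟩ := h
  haveI := fun x : X => QCoh.finite_stalk_of_isFT hF.1 hF.2 x
  haveI := fun x : X => QCoh.finite_stalk_of_isFT hG.1 hG.2 x
  have hne : ¬ Subsingleton (G.presheaf.stalk x) := (hsupp.ge (show x ∈ (U : Set X)ᶜ from hx) : x ∈ CohB1.support G)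
  let R := X.presheaf.stalk x
  let I : Ideal R := Module.annihilator R (G.presheaf.stalk x)
  have hI : I ≤ IsLocalRing.maximalIdeal R := IsLocalRing.le_maximalIdeal fun htop => hne <| by
    refine subsingleton_of_forall_eq 0 fun z => ?_
    have h1 : (1 : R) ∈ I := htop ▸ Submodule.mem_top
    simpa using Module.mem_annihilator.1 h1 z
  refine le_trans ?_ (LC.idealDepth_le_of_le (I := I) (F.presheaf.stalk x) hI)
  refine (LC.le_idealDepth_iff_H I _ n).2 (LC.H_vanishing_of_ext I (ModuleCat.of R (G.presheaf.stalk x))
    (Module.support_eq_zeroLocus (R := R) (M := G.presheaf.stalk x)) n _ fun i hi => ?_)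
  exact (ExtShLocal.isZero_extSh_iff_stalk hG hF.1 i).1 (hext i hi) x

end Groth.Agent.S12886
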