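import Groth.Statements.S12885
import Groth.Agent.Lib.ExtShLocal
import Groth.Agent.Lib.ExtShCodim
import Groth.Agent.LC.DepthLoc
import Groth.Agent.ZClosLib.ClosedDepth
import Groth.Agent.AffStrat.Bounds
import Groth.Agent.S12886

set_option autoImplicit false
set_option backward.isDefEq.respectTransparency false
set_option backward.isDefEq.respectTransparency.types false
set_option linter.style.haveILetI false
set_option linter.unusedSectionVars false
set_option maxHeartbeats 400000
universe u
open CategoryTheory CategoryTheory.Limits TopologicalSpace AlgebraicGeometry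
open Coherent

namespace Groth.Agent.S12885

open CategoryTheory CategoryTheory.Limits AlgebraicGeometry

/-- Let X be a locally Noetherian scheme, Y a closed subset with open complement U, F a coherent
O_X-module and n a natural number. Then the depth of the stalk F_x over O_{X,x} is at least n for
every point x of Y if and only if for every coherent O_X-module G with support contained in Y the
local Ext sheaves ℰxt^i(G, F) vanish for all i < n. (Internal Hom of every O_X-module and injective
resolutions of O_X-modules are the stated instance hypotheses, both true.) -/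
theorem result (X : Scheme.{u}) [IsLocallyNoetherian X]
    (U : X.Opens) (F : X.Modules) (hF : Coh.IsCoh F) (n : ℕ)
    [∀ M : X.Modules, ModSite.HasSheafHom (O := X.sheaf) M] [HasInjectiveResolutions (ModSite.Mod X.sheaf)] :
    (∀ x : X, x ∉ (U : Set X) → (n : ℕ∞) ≤ LocCoh.depth (X.presheaf.stalk x) (F.presheaf.stalk x)) ↔
      ∀ G : X.Modules, Coh.IsCoh G → (∀ x ∈ CohB1.support G, x ∉ (U : Set X)) →
        ∀ i : ℕ, i < n → IsZero ((ModSite.extSh (O := X.sheaf) G i).obj F) := by
  constructor
  · intro hd G hG hsupp i hi
    rw [ExtShLocal.isZero_extSh_iff_stalk hG hF.1]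
    intro x
    obtain ⟨V, hV, hx⟩ := ExtShLocal.exists_affine x
    haveI : IsNoetherianRing Γ(X, V) := IsLocallyNoetherian.component_noetherian ⟨V, hV⟩
    haveI := QCoh.finite_of_isFT hF.1 hF.2 hV
    haveI := QCoh.finite_of_isFT hG.1 hG.2 hV
    refine (ExtStalk2.subsingleton_ext_sections_iff hG hF.1 hV i).1 ?_ x hx
    let I := Module.annihilator Γ(X, V) Γ(G, V)
    refine LC.ext_subsingleton_of_H I n _ ((LC.le_idealDepth_iff_H I _ n).1 ?_) _ ?_ i hi
    · rw [LC.idealDepth_eq_iInf_depth]
      refine le_iInf₂ fun p hp => ?_
      obtain ⟨y, hy, hyp⟩ := QCoh.exists_point hV p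
      subst hyp
      rw [ZClosLib.depth_stalk_eq hF.1 hV hy]
      refine hd y (hsupp y fun hsub => ?_)
      letI := QCoh.stalkModule G hy
      haveI := QCoh.isLocalizedModule_germLin hG.1 hV hy
      have hmem := Module.mem_support_iff_of_finite.2 hp
      rw [Module.mem_support_iff] at hmem
      haveI := hmem
      exact not_subsingleton _ (@Equiv.subsingleton _ _ (IsLocalizedModule.iso
        (hV.primeIdealOf ⟨y, hy⟩).asIdeal.primeCompl (QCoh.germLin G hy)).toEquiv hsub)
    · exact fun m => ⟨1, fun a ha => Module.mem_annihilator.1 (by rwa [pow_one] at ha) m⟩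
  · intro h x hx
    obtain ⟨Z, ι, hι, hrange⟩ := AffStrat.exists_closed_subscheme (X := X) ((U : Set X)ᶜ) U.isOpen.isClosed_compl
    haveI : IsLocallyNoetherian Z := LocallyOfFiniteType.isLocallyNoetherian ι
    have hO : Coh.IsCoh (Coh.structureModule Z) :=
      CurveDeg.isCoh_of_isInvertible InvX.isInvertible_structureModule
    have hG : Coh.IsCoh ((Coh.push ι).obj (Coh.structureModule Z)) := QCoh.isCoh_pushforward_finite ι hO
    have hsupp : CohB1.support ((Coh.push ι).obj (Coh.structureModule Z)) = (U : Set X)ᶜ := by
      rw [← hrange]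
      ext y
      constructor
      · intro hy
        by_contra hy'
        exact hy (H23.ClosedPushLen.subsingleton_stalk ι (Coh.structureModule Z) hy')
      · rintro ⟨z, rfl⟩ hsub
        letI : Module (X.presheaf.stalk (ι z)) ((Coh.structureModule Z).presheaf.stalk z) :=
          Module.compHom _ (ι.stalkMap z).hom
        obtain ⟨e⟩ := NegVanClosed.nonempty_stalk_push_equiv ι (Coh.structureModule Z) z
        haveI := e.toEquiv.symm.subsingleton (α := (Coh.structureModule Z).presheaf.stalk z)
        exact one_ne_zero (α := Z.presheaf.stalk z) (H23.UnitSec.eq_zero_of_smul_one 1 (Subsingleton.elim _ _))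
    exact S12886.result X U F hF n ⟨_, hG, hsupp, h _ hG fun y hy => hsupp.le hy⟩ x hx

end Groth.Agent.S12885
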