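import Groth.Statements.S6792
import Mathlib.Algebra.Homology.ShortComplex.QuasiIso
import Mathlib.Algebra.Homology.QuasiIso
import Mathlib.Order.Interval.Finset.Defs
import Mathlib.Data.Int.Interval


set_option autoImplicit false
open CategoryTheory CategoryTheory.Limits
universe v u
open SpSeq SpSeq.FilCx

namespace Groth.Agent.S6792

/-- For a filtered complex whose filtration is finite in each degree, the associated spectral sequence
is bounded (from page `0` on), the induced filtration on each cohomology object is finite, and the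
spectral sequence converges to the cohomology. -/
theorem result {A : Type u} [Category.{v} A] [Abelian A] (K : SpSeq.FilCx A) (hK : ∀ n : ℤ, (K.XFil n).IsFinite) : K.IsBounded 0 ∧ (∀ n : ℤ, (K.HFil n).IsFinite) ∧ K.Converges := by
  choose a ha using fun n => (hK n).1
  choose b hb using fun n => (hK n).2
  have ha' : ∀ n p, p ≤ a n → K.filX p n = ⊤ := fun n p hp =>
    top_le_iff.1 ((ha n).ge.trans (K.filX_anti n hp))
  have hb' : ∀ n p, b n ≤ p → K.filX p n = ⊥ := fun n p hp =>
    le_bot_iff.1 ((K.filX_anti n hp).trans (hb n).le)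
  have hbot : ∀ {X : A} {Z B : Subobject X} (h : B ≤ Z), Z = ⊥ → Limits.IsZero (subquot Z B h) := by
    intro X Z B h hZ
    subst hZ
    have : Limits.IsZero ((⊥ : Subobject X) : A) := by
      open ZeroObject in exact (Limits.isZero_zero A).of_iso Subobject.botCoeIsoZero
    exact (IsZero.iff_id_eq_zero _).2 (coequalizer.hom_ext (this.eq_of_src _ _))
  have htop : ∀ {X : A} {Z B : Subobject X} (h : B ≤ Z), B = ⊤ → Limits.IsZero (subquot Z B h) := by
    intro X Z B h hB
    subst hB
    obtain rfl : Z = ⊤ := top_le_iff.1 h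
    have : Epi ((⊤ : Subobject X).ofLE ⊤ h) := by rw [Subobject.ofLE_refl]; infer_instance
    exact Limits.isZero_cokernel_of_epi _
  have hpb : ∀ {X Y : A} (g : X ⟶ Y), (Subobject.pullback g).obj ⊥ = kernelSubobject g := by
    intro X Y g
    refine le_antisymm (le_kernelSubobject _ _ ?_) (kernelSubobject_le_pullback g ⊥)
    rw [← (Subobject.isPullback g ⊥).w, Subobject.bot_arrow, Limits.comp_zero]
  have hfin : ∀ n, (K.HFil n).IsFinite := by
    intro n
    refine ⟨⟨min (a (n - 1)) (min (a n) (a (n + 1))), ?_⟩, ⟨b n, ?_⟩⟩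
    · let q := min (a (n - 1)) (min (a n) (a (n + 1)))
      have hiso : ∀ m, q ≤ a m → IsIso ((K.fil q).arrow.f m) := fun m hm =>
        (Subobject.isIso_iff_mk_eq_top _).2 (ha' m q hm)
      have := hiso (n - 1) (min_le_left _ _)
      have := hiso n (le_trans (min_le_right _ _) (min_le_left _ _))
      have := hiso (n + 1) (le_trans (min_le_right _ _) (min_le_right _ _))
      have : QuasiIsoAt (K.fil q).arrow n := by
        rw [quasiIsoAt_iff' _ (n - 1) n (n + 1) (by simp) (by simp)]
        have h1 : Epi ((HomologicalComplex.shortComplexFunctor' A _ (n - 1) n (n + 1)).map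
            (K.fil q).arrow).τ₁ := inferInstanceAs (Epi ((K.fil q).arrow.f (n - 1)))
        have h2 : IsIso ((HomologicalComplex.shortComplexFunctor' A _ (n - 1) n (n + 1)).map
            (K.fil q).arrow).τ₂ := inferInstanceAs (IsIso ((K.fil q).arrow.f n))
        have h3 : Mono ((HomologicalComplex.shortComplexFunctor' A _ (n - 1) n (n + 1)).map
            (K.fil q).arrow).τ₃ := inferInstanceAs (Mono ((K.fil q).arrow.f (n + 1)))
        exact ShortComplex.quasiIso_of_epi_of_isIso_of_mono _
      rw [quasiIsoAt_iff_isIso_homologyMap] at this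
      show imageSubobject (HomologicalComplex.homologyMap (K.fil q).arrow n) = ⊤
      have : Epi (imageSubobject (HomologicalComplex.homologyMap (K.fil q).arrow n)).arrow :=
        epi_of_epi_fac (imageSubobject_arrow_comp (HomologicalComplex.homologyMap (K.fil q).arrow n))
      have := isIso_of_mono_of_epi
        (imageSubobject (HomologicalComplex.homologyMap (K.fil q).arrow n)).arrow
      exact Subobject.eq_top_of_isIso_arrow _
    · have hz : Limits.IsZero ((K.step (b n)).X n) := by
        have h := hb' n (b n) le_rfl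
        rw [filX, Subobject.mk_eq_bot_iff_zero] at h
        exact Limits.IsZero.of_mono_eq_zero _ h
      have : Limits.IsZero ((K.step (b n)).homology n) :=
        ((HomologicalComplex.exactAt_iff' _ (n - 1) n (n + 1) (by simp) (by simp)).2
          (ShortComplex.exact_of_isZero_X₂ _ hz)).isZero_homology
      show imageSubobject (HomologicalComplex.homologyMap (K.fil (b n)).arrow n) = ⊥
      rw [this.eq_of_src (HomologicalComplex.homologyMap (K.fil (b n)).arrow n) 0,
        imageSubobject_zero]
  have hreg : ∀ p n r, b (n + 1) ≤ p + (r : ℕ) → K.ZSub r p n = K.ZTop p n := fun p n r h => by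
    rw [ZSub, ZTop, hb' (n + 1) _ h, hpb]
  have hbdd : ∀ n p, ¬ Limits.IsZero (K.E 0 p n) → p ∈ Set.Icc (a n) (b n) := by
    intro n p hp
    by_contra h
    apply hp
    rw [Set.mem_Icc, not_and_or, not_le, not_le] at h
    obtain h | h := h
    · exact htop (K.BSub_le_ZSub 0 p n) (by rw [BSub, ha' n (p + 1) (by omega), sup_top_eq])
    · refine hbot (K.BSub_le_ZSub 0 p n) ?_
      rw [ZSub, hb' n p h.le, hb' n (p + 1) (by omega), bot_inf_eq, bot_sup_eq]
  refine ⟨fun n => (Set.finite_Icc (a n) (b n)).subset (hbdd n), hfin, ?_, ⟨?_, fun n => ?_⟩,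
    fun n => ?_⟩
  · intro p n
    refine ⟨(b (n + 1) - p).toNat, fun r hr => ?_⟩
    rw [hreg p n r (by omega), hreg p n _ (by omega)]
  · refine fun p n => ⟨IsLeast.isGLB ⟨⟨(b (n + 1) - p).toNat, hreg p n _ (by omega)⟩, ?_⟩,
      IsGreatest.isLUB ⟨⟨(p + 1 - a (n - 1)).toNat, ?_⟩, ?_⟩⟩
    · rintro _ ⟨r, rfl⟩
      exact sup_le_sup_right (inf_le_inf_left _ (kernelSubobject_le_pullback _ _)) _
    · show K.BSub (p + 1 - a (n - 1)).toNat p n = K.BBot p n
      have e : ∀ S : Subobject (K.obj.X (n - 1)), S = ⊤ →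
          imageSubobject (S.arrow ≫ K.obj.d (n - 1) n) = imageSubobject (K.obj.d (n - 1) n) := by
        rintro S rfl
        exact imageSubobject_iso_comp _ _
      rw [BSub, BBot, e _ (ha' (n - 1) _ (by omega))]
    · rintro _ ⟨r, rfl⟩
      exact sup_le_sup_right (inf_le_inf_left _ (imageSubobject_comp_le _ _)) _
  · obtain ⟨⟨a', ha''⟩, ⟨b', hb''⟩⟩ := hfin n
    exact ⟨IsLeast.isGLB ⟨⟨b', hb''⟩, fun _ _ => bot_le⟩,
      IsGreatest.isLUB ⟨⟨a', ha''⟩, fun _ _ => le_top⟩⟩
  · intro T f hf
    obtain ⟨q0, hq0⟩ := (hfin n).2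
    have hiso : ∀ q, q0 ≤ q → IsIso (Limits.cokernel.π ((K.HFil n).fil q).arrow) := fun q hq => by
      have : (K.HFil n).fil q = ⊥ := le_bot_iff.1 (((K.HFil n).anti hq).trans hq0.le)
      have hz : ((K.HFil n).fil q).arrow = 0 := by rw [this, Subobject.bot_arrow]
      refine ⟨cokernel.desc _ (𝟙 _) (by rw [hz, zero_comp]), cokernel.π_desc _ _ _,
        coequalizer.hom_ext ?_⟩
      exact (cokernel.π_desc_assoc _ _ _ _).trans ((Category.id_comp _).trans (Category.comp_id _).symm)
    have hπ : ∀ {p q : ℤ} (h : p ≤ q), Limits.cokernel.π ((K.HFil n).fil q).arrow ≫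
        (K.HFil n).quotMap h = Limits.cokernel.π ((K.HFil n).fil p).arrow :=
      fun h => Limits.cokernel.π_desc _ _ _
    have := hiso q0 le_rfl
    refine ⟨f q0 ≫ inv (Limits.cokernel.π ((K.HFil n).fil q0).arrow), fun p => ?_⟩
    let q := max p q0
    have := hiso q (le_max_right _ _)
    have e1 := hπ (le_max_right p q0)
    have : IsIso ((K.HFil n).quotMap (le_max_right p q0)) := IsIso.of_isIso_fac_left e1
    have e2 : f q = (f q0 ≫ inv (cokernel.π ((K.HFil n).fil q0).arrow)) ≫
        cokernel.π ((K.HFil n).fil q).arrow := by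
      rw [← cancel_mono ((K.HFil n).quotMap (le_max_right p q0)), hf, Category.assoc,
        Category.assoc, e1, IsIso.inv_hom_id, Category.comp_id]
    rw [← hf p q (le_max_left _ _), e2]
    simp only [Category.assoc, hπ]

end Groth.Agent.S6792
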