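import Groth.Statements.S1008
import Groth.Agent.KFlatLib.Scheme.Generator
-- import your own Groth.Agent.* helpers here

set_option autoImplicit false
universe u
open CategoryTheory CategoryTheory.Limits AlgebraicGeometry
attribute [local instance] HasDerivedCategory.standard
open Perf

namespace Groth.Agent.S1008

/-- Let the scheme X be quasi-compact and quasi-separated. There is a perfect object P of D(O_X) which
generates D_QCoh(O_X): an object E of D(O_X) with quasi-coherent cohomology sheaves is zero if and
only if every morphism P[n] ⟶ E, n ∈ ℤ, is zero. -/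
theorem result (X : Scheme.{u}) [CompactSpace ↥X] [QuasiSeparatedSpace ↥X] :
    ∃ P : DCoh.D X, DCoh.IsPerfect P ∧ ∀ E : DCoh.D X, DCoh.IsQCohD E →
      (IsZero E ↔ ∀ (n : ℤ) (φ : P⟦n⟧ ⟶ E), φ = 0) := by
  obtain ⟨P, hP, hgen⟩ := KFlatLib.Generator.exists_gen X
  exact ⟨P, (KFlatLib.isPerfect_iff P).2 hP, fun E hE => ⟨fun hz n φ => hz.eq_of_tgt _ _, hgen E hE⟩⟩


end Groth.Agent.S1008
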