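import Groth.Statements.S6744
import Groth.Agent.H9Misc.GraphCrit
import Groth.Agent.S6742
import Groth.Agent.S1008
import Groth.Agent.S1020
import Groth.Agent.S1021

set_option autoImplicit false
universe u
open CategoryTheory AlgebraicGeometry
attribute [local instance] HasDerivedCategory.standard
open DEquiv

namespace Groth.Agent.S6744

/-- Let X be a scheme proper over a field k which is regular (all local rings of X are regular local
rings; X is Noetherian, being of finite type over k) and let K be an object of D(O_X) with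
quasi-coherent cohomology sheaves. Then K is bounded with coherent cohomology sheaves (equivalently,
as X is regular, K is perfect) if and only if for every perfect object E of D(O_X) the k-vector
spaces Ext^i_X(E, K) = Hom(E, K⟦i⟧) are finite-dimensional for all i ∈ ℤ and nonzero for only
finitely many i. -/
theorem result
    (k : Type u) [Field k] (X : Scheme.{u}) [X.Over (Spec (.of k))] [IsProper (X ↘ Spec (.of k))]
    (hreg : Models.IsRegularScheme X)
    (K : DCoh.D X) (hK : DCoh.IsQCohD K) :
    SGA6.cohbP X K ↔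
      ∀ E : DCoh.D X, DCoh.IsPerfect E →
        (∀ i : ℤ, Module.Finite k (E ⟶ (shiftFunctor (DCoh.D X) i).obj K)) ∧
        Set.Finite {i : ℤ | Nontrivial (E ⟶ (shiftFunctor (DCoh.D X) i).obj K)} := by
  refine ⟨fun h E hE => Groth.Agent.S6742.result k X K h E hE, fun h => ?_⟩
  haveI : IsNoetherian X := Groth.Agent.KExact.BCNat.isNoetherian_of_ft (X ↘ Spec (CommRingCat.of k))
  obtain ⟨G, hG, hgen⟩ := Groth.Agent.S1008.result X
  obtain ⟨lo, hlo⟩ := (h G hG).2.bddBelow
  obtain ⟨hi, hhi⟩ := (h G hG).2.bddAbove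
  have key : ∀ i : ℤ, i < lo ∨ hi < i →
      ∀ φ : (shiftFunctor (DCoh.D X) (-i)).obj G ⟶ K, φ = 0 := fun i hi' φ => by
    refine ((shiftEquiv (DCoh.D X) i).symm.toAdjunction.homEquiv G K).injective ?_
    by_contra hne
    rcases hi' with hlt | hgt
    · exact absurd (hlo (nontrivial_of_ne _ _ hne)) (not_le.2 hlt)
    · exact absurd (hhi (nontrivial_of_ne _ _ hne)) (not_le.2 hgt)
  obtain ⟨a, ha⟩ := (Groth.Agent.S1020.result X G hG (fun E hE h0 => (hgen E hE).2 h0) K hK).2
    ⟨lo - 1, fun i hi' => key i (Or.inl (by omega))⟩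
  obtain ⟨b, hb⟩ := (Groth.Agent.S1021.result X G hG (fun E hE h0 => (hgen E hE).2 h0) K hK).2
    ⟨hi + 1, fun i hi' => key i (Or.inr (by omega))⟩
  exact ⟨Groth.Agent.H9Misc.GraphCrit.isCohD_of_fin hreg K hK h, a, b, ha, hb⟩

end Groth.Agent.S6744
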