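import Groth.Statements.S6707


set_option autoImplicit false
universe w v u
open CategoryTheory
open DEquiv

namespace Groth.Agent.S6707

open CategoryTheory.Limits in
/-- Let A be an abelian category in which every object X is the target of an epimorphism N ⟶ X with
Hom(X, N) = 0. Let f : X ⟶ X' be a morphism between bounded objects of D(A) and b an integer with
H^i(X) = 0 for i > b and H^i(X') = 0 for i ≥ b. Then there exist an object N of A and a morphism
N⟦-b⟧ ⟶ X (N placed in degree b) inducing an epimorphism N ⟶ H^b(X), with Hom(H^b(X), N) = 0, and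
whose composite with f is zero. -/
theorem result
    {A : Type u} [Category.{v} A] [Abelian A] [HasDerivedCategory.{w} A]
    (hneg : ∀ X : A, ∃ (N : A) (p : N ⟶ X), Epi p ∧ ∀ f : X ⟶ N, f = 0)
    (X X' : DerivedCategory A) (f : X ⟶ X') (a b a' : ℤ) [X.IsGE a] [X.IsLE b] [X'.IsGE a']
    [X'.IsLE (b - 1)] :
    ∃ (N : A) (g : (DerivedCategory.singleFunctor A b).obj N ⟶ X),
      Epi ((DerivedCategory.homologyFunctor A b).map g) ∧
        (∀ φ : (DerivedCategory.homologyFunctor A b).obj X ⟶ N, φ = 0) ∧ g ≫ f = 0 := by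
  obtain ⟨W, w, δ, hW⟩ := Pretriangulated.distinguished_cocone_triangle₁ f
  let H : ℤ → DerivedCategory A ⥤ A := fun n => DerivedCategory.homologyFunctor A n
  have hzero : ∀ n, b ≤ n → IsZero ((H n).obj X') := fun n hn => X'.isZero_of_isLE (b - 1) n (by omega)
  have hWle : W.IsLE b := by
    rw [DerivedCategory.isLE_iff]
    intro i hi
    obtain ⟨j, rfl⟩ : ∃ j, i = j + 1 := ⟨i - 1, by omega⟩
    refine (DerivedCategory.HomologySequence.exact₁ _ hW j (j + 1) rfl).isZero_of_both_zeros ?_ ?_
    · exact (hzero j (by omega)).eq_of_src _ _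
    · exact (X.isZero_of_isLE b (j + 1) hi).eq_of_tgt _ _
  have hepi : Epi ((H b).map w) :=
    (DerivedCategory.HomologySequence.exact₂ _ hW b).epi_f ((hzero b le_rfl).eq_of_tgt _ _)
  obtain ⟨K, hK, ⟨e⟩⟩ := DerivedCategory.exists_iso_Q_obj_of_isLE W b
  obtain ⟨N, π, hπ, hπ'⟩ := hneg (K.X b ⊞ (H b).obj X)
  let π₁ : N ⟶ K.X b := π ≫ biprod.fst
  have hd : K.d b (b + 1) = 0 := (K.isZero_of_isStrictlyLE b (b + 1) (by omega)).eq_of_tgt _ _
  let φ : (CochainComplex.singleFunctor A b).obj N ⟶ K :=
    HomologicalComplex.mkHomFromSingle π₁ (fun j hj => by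
      obtain rfl : b + 1 = j := hj
      rw [hd, Limits.comp_zero])
  let g₀ : (DerivedCategory.singleFunctor A b).obj N ⟶ W :=
    ((DerivedCategory.singleFunctorIsoCompQ A b).app N).hom ≫ DerivedCategory.Q.map φ ≫ e.inv
  refine ⟨N, g₀ ≫ w, ?_, fun ψ => ?_, ?_⟩
  · have h1 : Epi ((H b).map (DerivedCategory.Q.map φ)) := by
      haveI : Epi (HomologicalComplex.homologyMap φ b) := by
        let S := (CochainComplex.singleFunctor A b).obj N
        haveI : Epi (φ.f b) := by
          haveI : Epi π₁ := by dsimp only [π₁]; infer_instance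
          simp only [φ, HomologicalComplex.mkHomFromSingle_f]
          exact epi_comp' inferInstance ‹Epi π₁›
        haveI : IsIso (K.iCycles b) := K.isIso_iCycles b (b + 1) (by simp) hd
        have hS : S.d b (b + 1) = 0 :=
          (HomologicalComplex.isZero_single_obj_X (ComplexShape.up ℤ) b N (b + 1) (by omega)).eq_of_tgt _ _
        haveI : IsIso (S.iCycles b) := S.isIso_iCycles b (b + 1) (by simp) hS
        haveI : Epi (HomologicalComplex.cyclesMap φ b) := by
          have h := HomologicalComplex.cyclesMap_i φ b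
          rw [← IsIso.eq_comp_inv] at h
          rw [h]; infer_instance
        have h := HomologicalComplex.homologyπ_naturality φ b
        exact epi_of_epi_fac h
      exact ((MorphismProperty.epimorphisms A).arrow_mk_iso_iff
        (((Functor.mapArrowFunctor _ _).mapIso (DerivedCategory.homologyFunctorFactors A b)).app (Arrow.mk φ))).2 this
    simp only [g₀, Functor.map_comp, Category.assoc]
    infer_instance
  · have := hπ' (biprod.snd ≫ ψ)
    rwa [← cancel_epi (biprod.snd : K.X b ⊞ (H b).obj X ⟶ _), comp_zero]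
  · rw [Category.assoc, show w ≫ f = 0 from Pretriangulated.comp_distTriang_mor_zero₁₂ _ hW, comp_zero]

end Groth.Agent.S6707
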