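import Groth.Statements.S1011
import Groth.Agent.KFlatLib.Scheme.CohWindow
-- import your own Groth.Agent.* helpers here

set_option autoImplicit false
universe u
open CategoryTheory CategoryTheory.Limits AlgebraicGeometry
attribute [local instance] HasDerivedCategory.standard
open Perf

namespace Groth.Agent.S1011

/-- Let the scheme X be quasi-compact and quasi-separated and K a perfect object of D(O_X). (1) There
are integers a ≤ b such that every morphism K ⟶ L vanishes whenever L has quasi-coherent cohomology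
sheaves which are zero in all degrees of the interval [a, b]. (2) If L ∈ D_QCoh(O_X) is bounded,
then the set of n for which there is a nonzero morphism K ⟶ L[n] is finite. -/
theorem result (X : Scheme.{u}) [CompactSpace ↥X] [QuasiSeparatedSpace ↥X]
    (K : DCoh.D X) (hK : DCoh.IsPerfect K) :
    (∃ a b : ℤ, a ≤ b ∧ ∀ L : DCoh.D X, DCoh.IsQCohD L → (∀ i : ℤ, a ≤ i → i ≤ b → IsZero (DCoh.HD L i)) →
      ∀ φ : K ⟶ L, φ = 0) ∧
    ∀ (L : DCoh.D X) (a' b' : ℤ), DCoh.IsQCohD L → L.IsGE a' → L.IsLE b' →
      {n : ℤ | ∃ φ : K ⟶ L⟦n⟧, φ ≠ 0}.Finite := by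
  have hK' := (KFlatLib.isPerfect_iff _).1 hK
  refine ⟨KFlatLib.Window.exists_range hK', fun L a' b' hL hge hle => ?_⟩
  haveI := hge
  haveI := hle
  obtain ⟨a, b, _, h⟩ := KFlatLib.Window.exists_range hK'
  refine (Set.finite_Icc (a' - b) (b' - a)).subset fun n hn => ?_
  obtain ⟨φ, hφ⟩ := hn
  by_contra hc
  refine hφ (h _ (KFlatLib.isQCohD_shift hL n) (fun j hja hjb => KFlatLib.Window.isZero_hd_shift L n j ?_) φ)
  rw [Set.mem_Icc, not_and_or, not_le, not_le] at hc
  rcases hc with hc | hc
  · exact DerivedCategory.isZero_of_isGE L a' _ (by omega)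
  · exact DerivedCategory.isZero_of_isLE L b' _ (by omega)

end Groth.Agent.S1011
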