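import Groth.Statements.S1067
import Groth.Agent.KExact.AmpleGen
import Groth.Agent.Synt29.PnEuler
import Groth.Agent.AmpleX.Proj
import Groth.Agent.S1071
import Groth.Agent.KFlatLib.BrutalTrunc
-- import your own Groth.Agent.* helpers here

set_option autoImplicit false
set_option linter.style.haveILetI false
set_option backward.isDefEq.respectTransparency false
set_option backward.isDefEq.respectTransparency.types false

universe u
open CategoryTheory CategoryTheory.Limits AlgebraicGeometry
attribute [local instance] HasDerivedCategory.standard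
open Perf

namespace Groth.Agent.S1067

set_option backward.isDefEq.respectTransparency false
set_option backward.isDefEq.respectTransparency.types false
attribute [local instance] HasDerivedCategory.standard
attribute [local instance] Groth.Agent.H23.PicMul.clMonoid
attribute [local instance] MvPolynomial.gradedAlgebra
open Groth.Agent AlgebraicGeometry CategoryTheory.Pretriangulated


/-- Let R be a ring and X = P^n_R. The object O_X ⊕ O_X(-1) ⊕ … ⊕ O_X(-n) generates D_QCoh(O_X): if K ∈
D(O_X) has quasi-coherent cohomology sheaves and every morphism O_X(-d)[m] ⟶ K with 0 ≤ d ≤ n and m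
∈ ℤ is zero, then K = 0. -/
theorem result (n : ℕ) (R : Type u) [CommRing R]
    (K : DCoh.D (CohB1.ProjSpace n R)) (hK : DCoh.IsQCohD K)
    (h : ∀ (d : ℕ), d ≤ n → ∀ (m : ℤ) (φ : (DCoh.inD (CohB1.ProjSpace n R) (Twist.twistProjSpace n R (-(d : ℤ))))⟦m⟧ ⟶ K), φ = 0) :
    IsZero K := by
  classical
  let P := CohB1.ProjSpace n R
  let O := fun a : ℤ => Twist.twistProjSpace n R a
  have hcov : ⨆ f : (Finset.univ.image fun i : Fin (n + 1) => (MvPolynomial.X i : MvPolynomial (Fin (n + 1)) R) : Finset _),
      Proj.basicOpen (CohB1.polyGrading n R) (f : MvPolynomial (Fin (n + 1)) R) = ⊤ := by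
    refine top_le_iff.1 fun y _ => ?_
    obtain ⟨i, hi⟩ := TopologicalSpace.Opens.mem_iSup.1 (show y ∈ ⨆ i : Fin (n + 1),
      Proj.basicOpen (CohB1.polyGrading n R) (MvPolynomial.X i) from
        TopologicalSpace.Opens.mem_iSup.2 (ProjUPX.cov_X y))
    exact TopologicalSpace.Opens.mem_iSup.2 ⟨⟨MvPolynomial.X i, Finset.mem_image.2 ⟨i, Finset.mem_univ i, rfl⟩⟩, hi⟩
  have hamp : CohB1.IsAmple (O 1) := AmpleX.isAmple_twist_one _ _ (fun f hf => by
    obtain ⟨i, -, rfl⟩ := Finset.mem_image.1 hf
    exact ProjPt.X_mem i) hcov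
  obtain ⟨hinv, hc, hx⟩ := hamp
  haveI := hc
  choose m s hs ha using hx
  have hqs : QuasiSeparatedSpace P :=
    KExact.AmpleFamily.quasiSeparatedSpace_of_loci (fun x => CohB1.tensorPow (O 1) (m x + 1))
      (fun x => InvX.isInvertible_tensorPow hinv _) s ha (fun x => ⟨x, hs x⟩)
  have hO : ∀ d : ℕ, KExact.AmpleGen.Orth K (DCoh.inD P (O (-(d : ℤ)))) := by
    intro d
    induction d using Nat.strong_induction_on with
    | _ d ih =>
      by_cases hdn : d ≤ n
      · exact fun k φ => h d hdn k φ
      obtain ⟨C, hex, hterm, hz⟩ := Groth.Agent.S1071.result n R (-(d : ℤ))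
      have horth : ∀ i : ℤ, 1 ≤ i → KExact.AmpleGen.Orth K (DCoh.inD P (C.X i)) := fun i hi => by
        by_cases hin : (n : ℤ) + 1 < i
        · exact KExact.AmpleGen.orth_of_isZero ((DerivedCategory.singleFunctor _ 0).map_isZero (hz i (Or.inr hin)))
        obtain ⟨j, rfl⟩ := Int.eq_ofNat_of_zero_le (show (0 : ℤ) ≤ i by omega)
        obtain ⟨e⟩ := hterm j (by omega)
        refine KExact.AmpleGen.orth_of_iso ((DerivedCategory.singleFunctor _ 0).mapIso
          ((biproduct.isoCoproduct _) ≪≫ e.symm)) fun k φ => ?_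
        let F := DerivedCategory.singleFunctor P.Modules 0 ⋙ shiftFunctor (DCoh.D P) k
        haveI : PreservesFiniteBiproducts F := Functor.preservesFiniteBiproductsOfAdditive F
        refine (cancel_epi (F.mapBiproduct _).inv).1 (biproduct.hom_ext' _ _ fun l => ?_)
        rw [comp_zero, comp_zero]
        have h1 := ih (d - j) (by omega)
        have h2 : ∀ a : ℤ, a = -((d - j : ℕ) : ℤ) → KExact.AmpleGen.Orth K (DCoh.inD P (O a)) := fun a ha' => by
          rw [ha']; exact h1
        exact h2 _ (by omega) k _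
      have hS := KFlatLib.sigmaSES_shortExact C 1
      have hle := KFlatLib.isStrictlyLE_sigmaSES_X₃ C 1
      rw [CochainComplex.isStrictlyLE_iff] at hle
      have hX₁ : KExact.AmpleGen.Orth K (DerivedCategory.Q.obj (KFlatLib.sigmaSES C 1).X₁) := by
        refine KExact.AmpleGen.orth_of_terms K (n + 1) 1 _ (fun i hi => ?_) fun i => ?_
        · by_cases hi1 : i < 1
          · exact KFlatLib.isZero_stupidTrunc_of_lt C 1 i hi1
          · haveI := KFlatLib.isIso_sigmaGEι_f C 1 i (by omega)
            exact (hz i (Or.inr (by omega))).of_iso (asIso ((KFlatLib.sigmaGEι C 1).f i))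
        · by_cases hi1 : i < 1
          · exact KExact.AmpleGen.orth_of_isZero
              ((DerivedCategory.singleFunctor _ 0).map_isZero (KFlatLib.isZero_stupidTrunc_of_lt C 1 i hi1))
          · haveI := KFlatLib.isIso_sigmaGEι_f C 1 i (by omega)
            exact KExact.AmpleGen.orth_of_iso ((DerivedCategory.singleFunctor _ 0).mapIso
              (asIso ((KFlatLib.sigmaGEι C 1).f i)).symm) (horth i (by omega))
      have hC : IsZero (DerivedCategory.Q.obj C) :=
        (IsZero.iff_id_eq_zero _).2 (by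
          haveI : IsIso (0 : DerivedCategory.Q.obj C ⟶ DerivedCategory.Q.obj C) :=
            (DerivedCategory.isIso_iff (C := P.Modules) _).2 fun i => by
              have h0 : IsZero ((DerivedCategory.homologyFunctor P.Modules i).obj (DerivedCategory.Q.obj C)) :=
                ((hex i).isZero_homology).of_iso ((DerivedCategory.homologyFunctorFactors P.Modules i).app C)
              exact ⟨0, h0.eq_of_src _ _, h0.eq_of_src _ _⟩
          have h1 := IsIso.hom_inv_id (0 : DerivedCategory.Q.obj C ⟶ DerivedCategory.Q.obj C)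
          rw [zero_comp] at h1
          exact h1.symm)
      let T := DerivedCategory.triangleOfSES hS
      have hT : T ∈ distTriang _ := DerivedCategory.triangleOfSES_distinguished hS
      have h3 : KExact.AmpleGen.Orth K T.obj₃ :=
        KExact.AmpleGen.orth_obj₂ T.rotate (rot_of_distTriang _ hT)
          (KExact.AmpleGen.orth_of_isZero hC) (KExact.AmpleGen.orth_shift hX₁ 1)
      let E := (KFlatLib.sigmaSES C 1).X₃
      haveI : CochainComplex.IsStrictlyLE E 0 := by
        rw [CochainComplex.isStrictlyLE_iff]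
        exact fun i hi => hle i (by omega)
      haveI : CochainComplex.IsStrictlyGE E 0 := by
        rw [CochainComplex.isStrictlyGE_iff]
        exact fun i hi => (hz i (Or.inl hi)).of_iso (KFlatLib.nonempty_sigmaSES_X₃_iso C 1 i (by omega)).some.symm
      obtain ⟨M, ⟨eM⟩⟩ := CochainComplex.exists_iso_single E 0
      obtain ⟨e0⟩ := hterm 0 (by omega)
      obtain ⟨e3⟩ := KFlatLib.nonempty_sigmaSES_X₃_iso C 1 0 (by omega)
      let eM' : M ≅ ∐ fun _ : Fin (Nat.choose (n + 1) 0) => O (-(d : ℤ) + ((0 : ℕ) : ℤ)) :=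
        (HomologicalComplex.singleObjXSelf (ComplexShape.up ℤ) 0 M).symm ≪≫
          (HomologicalComplex.Hom.isoApp eM.symm 0) ≪≫ e3.symm ≪≫ e0
      haveI : Unique (Fin (Nat.choose (n + 1) 0)) := by rw [Nat.choose_zero_right]; infer_instance
      refine KExact.AmpleGen.orth_of_iso ?_ h3
      exact DerivedCategory.Q.mapIso eM ≪≫ ((DerivedCategory.singleFunctorIsoCompQ P.Modules 0).app M).symm ≪≫
        (DerivedCategory.singleFunctor _ 0).mapIso
          (eM' ≪≫ coproductUniqueIso _ ≪≫ eqToIso (congrArg O (by simp)))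
  refine KExact.AmpleGen.isZero_of_orth (ι := PUnit.{u + 1}) (fun _ => O 1)
    ⟨hc, hqs, fun _ => hinv, fun x => ⟨⟨⟩, m x, s x, hs x, ha x⟩⟩ K hK fun N hN => ?_
  obtain ⟨i, k, -, ⟨e⟩⟩ := id hN
  have hcl : PicF.cl N = PicF.cl (O (-(k : ℤ))) := by
    have h1 : PicF.cl N * Synt29.PnEuler.tw n R k = 1 := by
      rw [← Synt29.PnEuler.tw_pow, ← H23.PicMul.cl_tensorPow, ← H23.PicMul.cl_tensor]
      exact (H23.PicMul.cl_eq_iff.2 ⟨e⟩).trans H23.PicMul.one_def.symm
    calc PicF.cl N = PicF.cl N * (Synt29.PnEuler.tw n R k * Synt29.PnEuler.tw n R (-(k : ℤ))) := by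
          rw [Synt29.PnEuler.tw_add, add_neg_cancel, Synt29.PnEuler.tw_zero, mul_one]
      _ = _ := by rw [← mul_assoc, h1, one_mul]
  obtain ⟨e'⟩ := H23.PicMul.cl_eq_iff.1 hcl
  exact KExact.AmpleGen.orth_of_iso ((DerivedCategory.singleFunctor _ 0).mapIso e'.symm) (hO k)
end Groth.Agent.S1067
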