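import Groth.Statements.S1070
import Groth.Agent.KExact.ProjPC
-- import your own Groth.Agent.* helpers here

set_option autoImplicit false
set_option linter.style.haveILetI false
set_option backward.isDefEq.respectTransparency false
set_option backward.isDefEq.respectTransparency.types false

universe u
open CategoryTheory CategoryTheory.Limits AlgebraicGeometry Opposite
attribute [local instance] HasDerivedCategory.standard
open Perf

namespace Groth.Agent.S1070

attribute [local instance] MvPolynomial.gradedAlgebra
open Groth.Agent Groth.Agent.KFlatLib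


/-- Let A be a ring, X = P^n_A with structure morphism π : X ⟶ Spec A, and K ∈ D(O_X) with
quasi-coherent cohomology sheaves. Assuming Rπ_* and the derived functors - ⊗^L O_X(d) exist, K is
pseudo-coherent (m-pseudo-coherent for all m) if and only if Rπ_*(K ⊗^L O_X(d)) is pseudo-coherent
on Spec A for each d = 0, 1, …, n. (The source states (5) with RΓ(X, -) in D(A); on the affine
scheme Spec A the two formulations correspond under D(A) ≃ D_QCoh(Spec A).) -/
theorem result (n : ℕ) (A : Type u) [CommRing A]
    [DCoh.HasRpush (CohB1.ProjSpace.toSpec n A)] [∀ d : ℤ, DCoh.HasLTensorMod (Twist.twistProjSpace n A d)]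
    (K : DCoh.D (CohB1.ProjSpace n A)) (hK : DCoh.IsQCohD K) :
    (∀ m : ℤ, DCoh.IsPseudoCoherentD m K) ↔
      ∀ d : ℕ, d ≤ n → ∀ m : ℤ, DCoh.IsPseudoCoherentD m
        ((DCoh.Rpush (CohB1.ProjSpace.toSpec n A)).obj ((DCoh.LTensorMod (Twist.twistProjSpace n A (d : ℤ))).obj K)) := by
  haveI : IsProper (CohB1.ProjSpace.toSpec n A) := PnCoh.Chow.isProper_toSpec n A
  refine ⟨fun h d _ m => ?_, fun h => ?_⟩
  · refine (isPseudoCoherentD_iff _ _).2 ?_
    exact (KExact.ProjPC.locPC_rpush_tw (d : ℤ) K (fun k => (isPseudoCoherentD_iff _ _).1 (h k)) m).of_iso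
      ((DCoh.Rpush _).mapIso ((KExact.ProjTw.ltensorTwIso (d : ℤ)).app K).symm)
  · intro m
    refine (isPseudoCoherentD_iff _ _).2 (KExact.ProjPC.locPC_of_twists (n + 1) 0 (by omega) K hK
      (fun i hi hi' => absurd hi (by omega)) (fun l hl k => ?_) m)
    exact ((isPseudoCoherentD_iff _ _).1 (h l (by omega) k)).of_iso
      ((DCoh.Rpush _).mapIso ((KExact.ProjTw.ltensorTwIso (l : ℤ)).app K))
end Groth.Agent.S1070
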