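import Groth.Statements.S6720
import Groth.Agent.H9Misc.AffinePoint
import Groth.Agent.H9Misc.SkyHom
import Groth.Agent.KZ.RegPerf
import Groth.Agent.QCoh.Support

set_option autoImplicit false
universe u
open CategoryTheory AlgebraicGeometry
attribute [local instance] HasDerivedCategory.standard
open DEquiv

namespace Groth.Agent.S6720

/-- Let X be a scheme of finite type over a field k which is regular, x ∈ X a closed point, O_x the
skyscraper sheaf at x with value κ(x), and K a perfect object of D(O_X). If Hom(O_x, K⟦i⟧) = 0 for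
all i ∈ ℤ, then K is zero on an open neighbourhood of x; likewise if Hom(K, O_x⟦i⟧) = 0 for all i ∈
ℤ. (K zero on U is expressed as: no cohomology sheaf of K has a point of U in its support.) -/
theorem result
    (k : Type u) [Field k] (X : Scheme.{u}) [X.Over (Spec (.of k))]
    [LocallyOfFiniteType (X ↘ Spec (.of k))] [CompactSpace X]
    (hreg : Models.IsRegularScheme X) (x : X) (hx : IsClosed ({x} : Set X))
    (K : DCoh.D X) (hK : DCoh.IsPerfect K) :
    ((∀ (i : ℤ) (φ : DCoh.inD X ((Coh.push (X.fromSpecResidueField x)).obj (Coh.structureModule _)) ⟶ (shiftFunctor (DCoh.D X) i).obj K), φ = 0) →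
      ∃ U : X.Opens, x ∈ U ∧ ∀ (i : ℤ) (y : X), y ∈ U → y ∉ CohB1.support (DCoh.HD K i)) ∧
    ((∀ (i : ℤ) (φ : K ⟶ (shiftFunctor (DCoh.D X) i).obj (DCoh.inD X ((Coh.push (X.fromSpecResidueField x)).obj (Coh.structureModule _)))), φ = 0) →
      ∃ U : X.Opens, x ∈ U ∧ ∀ (i : ℤ) (y : X), y ∈ U → y ∉ CohB1.support (DCoh.HD K i)) := by
  haveI : IsLocallyNoetherian X := LocallyOfFiniteType.isLocallyNoetherian (X ↘ Spec (CommRingCat.of k))
  haveI : IsNoetherian X := {}
  obtain ⟨hc, lo, hi, hlo, hhi⟩ := (KZ.isPerfect_iff_of_regular hreg K).1 hK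
  haveI := hlo
  haveI := hhi
  -- from vanishing at the point to a neighbourhood
  have nbhd : (∀ i : ℤ, x ∉ CohB1.support (DCoh.HD K i)) →
      ∃ U : X.Opens, x ∈ U ∧ ∀ (i : ℤ) (y : X), y ∈ U → y ∉ CohB1.support (DCoh.HD K i) := by
    intro h0
    let T : Set X := ⋃ i ∈ Finset.Icc lo hi, CohB1.support (DCoh.HD K i)
    have hT : IsClosed T := Set.Finite.isClosed_biUnion (Finset.finite_toSet _) fun i _ =>
      QCoh.isClosed_support_of_isFT (hc i).1 (hc i).2
    refine ⟨⟨Tᶜ, hT.isOpen_compl⟩, fun hxT => ?_, fun i y hy hys => ?_⟩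
    · obtain ⟨i, hi', hxi⟩ := Set.mem_iUnion₂.1 hxT
      exact h0 i hxi
    · by_cases hi' : i ∈ Finset.Icc lo hi
      · exact hy (Set.mem_iUnion₂.2 ⟨i, hi', hys⟩)
      · refine hys (ModuleCat.subsingleton_of_isZero ((DerSch.stalkFunctor X y).map_isZero ?_))
        rw [Finset.mem_Icc, not_and_or, not_le, not_le] at hi'
        rcases hi' with h | h
        · exact DerivedCategory.isZero_of_isGE K lo i h
        · exact DerivedCategory.isZero_of_isLE K hi i h
  refine ⟨fun h => nbhd fun i => H9Misc.AffinePoint.notMem_support_of_hom_eq_zero x hx K hc lo h i,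
    fun h => nbhd fun i => ?_⟩
  obtain ⟨e⟩ := H9Misc.SkyPush.nonempty_push_iso x hx
  exact (H9Misc.SkyHom.forall_sky_iff x K hc hi (i - 1) e).2 (fun j _ φ => h (-j) φ) i (by omega)

end Groth.Agent.S6720
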