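import Groth.Statements.S8268
import Groth.Agent.SymAlgX.Gen
import Groth.Agent.QCoh.Support

set_option autoImplicit false
universe u
open CategoryTheory CategoryTheory.Limits AlgebraicGeometry Opposite TopologicalSpace
open EGA2

namespace Groth.Agent.S8268

/-- A surjective homomorphism E → F of quasi-coherent O_S-modules induces a closed immersion V(F) → V(E)
of the associated vector bundles (relative spectra of the symmetric algebras; the algebra map A → B
is the one extending E → F). -/
theorem result {S : Scheme.{u}} (E F : S.Modules) (hE : Coh.IsQCoh E)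
    (hF : Coh.IsQCoh F) (u : E ⟶ F) [Epi u]
    (A B : RelSpec.QCAlg S) (j : E ⟶ A.toModule) (k : F ⟶ B.toModule)
    (hA : RelSpec.IsSymAlg E A j) (hB : RelSpec.IsSymAlg F B k)
    (ψ : A ⟶ B) (hψ : j ≫ RelSpec.QCAlg.Hom.toModuleMap ψ = u ≫ k) :
    IsClosedImmersion (RelSpec.QCAlg.specMap ψ) := by
  have hsurj : ∀ (U : S.Opens) (hU : IsAffineOpen U), Function.Surjective (ψ.hom.app (op U)).hom := fun U hU b => by
    have hb : b ∈ Groth.Agent.SymAlgX.genAt B k U := by
      rw [Groth.Agent.SymAlgX.genAt_eq_top hF hB hU]; exact Subring.mem_top b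
    refine (Subring.closure_le (t := (ψ.hom.app (op U)).hom.range)).2 ?_ hb
    rintro x (⟨a, rfl⟩ | ⟨e, rfl⟩)
    · exact ⟨(A.str.app (op U)).hom a, congr($(NatTrans.congr_app ψ.comm (op U)).hom a)⟩
    · obtain ⟨e', rfl⟩ := Groth.Agent.QCoh.app_surjective_of_epi hE hF u hU e
      exact ⟨Groth.Agent.SymAlgX.jv A j U e', congrArg (fun φ : E ⟶ B.toModule => φ.app U e') hψ⟩
  refine IsZariskiLocalAtTarget.of_openCover A.glueData.cover fun U => ?_
  have hsq : IsPullback (B.ι U.1 U.2) (Spec.map (ψ.hom.app (op U.1))) (RelSpec.QCAlg.specMap ψ) (A.ι U.1 U.2) := by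
    refine (IsOpenImmersion.isPullback _ (B.ι U.1 U.2) (A.ι U.1 U.2) _ (RelSpec.QCAlg.ι_specMap U.1 U.2 ψ) ?_).flip
    rw [← B.π_preimage U.1 U.2, ← A.π_preimage U.1 U.2, ← Scheme.Hom.comp_preimage, RelSpec.QCAlg.specMap_π]
  haveI : IsClosedImmersion (Spec.map (ψ.hom.app (op U.1))) :=
    IsClosedImmersion.spec_of_surjective _ (hsurj U.1 U.2)
  exact ((MorphismProperty.cancel_left_of_respectsIso @IsClosedImmersion hsq.isoPullback.hom _)).1
    (show IsClosedImmersion (hsq.isoPullback.hom ≫ pullback.snd _ _) by rw [hsq.isoPullback_hom_snd]; infer_instance)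

end Groth.Agent.S8268
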