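import Groth.Statements.S8269
import Groth.Agent.QCoh.AlgGen
import Groth.Agent.SymAlgX.Exists
import Groth.Agent.RelSpecX.AffHom
import Groth.Agent.RelSpecX.Gamma

set_option backward.isDefEq.respectTransparency false
set_option backward.isDefEq.respectTransparency.types false
set_option linter.style.haveILetI false

set_option autoImplicit false
universe u
open CategoryTheory CategoryTheory.Limits AlgebraicGeometry Opposite TopologicalSpace
open EGA2

namespace Groth.Agent.S8269

/-- Let Y be either a quasi-compact separated scheme or a scheme with Noetherian underlying space, and X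
affine and of finite type over Y. Then X is Y-isomorphic to a closed subscheme of a vector bundle
V(E) with E a quasi-coherent O_Y-module of finite type: there are such an E, its symmetric algebra
A, and a closed immersion X → Spec(A) over Y. -/
theorem result {X Y : Scheme.{u}}
    (hY : (CompactSpace Y ∧ Y.IsSeparated) ∨ NoetherianSpace Y) (f : X ⟶ Y) [IsAffineHom f]
    [LocallyOfFiniteType f] :
    ∃ (E : Y.Modules) (_ : Coh.IsCoh E) (A : RelSpec.QCAlg Y) (j : E ⟶ A.toModule)
      (_ : RelSpec.IsSymAlg E A j) (i : X ⟶ A.spec), IsClosedImmersion i ∧ i ≫ A.π = f := by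
  haveI : CompactSpace Y := hY.elim (fun h => h.1) fun h => by haveI := h; infer_instance
  have hs : ∀ U : Y.affineOpens, QCoh.ExtStep U.1 := by
    rcases hY with ⟨h1, h2⟩ | h
    · haveI := h2
      exact fun U => QCoh.extStep_qcqs U.2.isCompact
    · haveI := h
      exact fun U => QCoh.extStep_noetherian (fun x => ⟨⊤, trivial, by
        rw [Opens.coe_top, noetherian_univ_iff]; infer_instance⟩) _
  let B : RelSpec.QCAlg Y := RelSpec.QCAlg.directImage f
  have hB : ∀ U : Y.affineOpens, (B.str.app (op (U : Y.Opens))).hom.FiniteType := fun U => by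
    show (f.app U.1).hom.FiniteType
    rw [Scheme.Hom.app_eq_appLE]
    exact f.finiteType_appLE U.2 (U.2.preimage f) _
  obtain ⟨E, j, -, hE, hEft, hgen⟩ := QCoh.exists_generating_submodule B hs hB
  let A := SymAlgX.symAlg hE
  obtain ⟨ψ, hψ, -⟩ := SymAlgX.isSymAlg_symAlg hE B j
  have hω : A.π.c ≫ A.gammaMap ≫ ψ.hom = f.c := by
    rw [← Category.assoc, A.π_c_gammaMap]
    exact ψ.comm
  let ω : AffAlg.algHoms A.π f := ⟨A.gammaMap ≫ ψ.hom, hω⟩
  let i : X ⟶ A.spec := RelSpecX.ofAlgHom A.π f ω
  have hi : i ≫ A.π = f := RelSpecX.ofAlgHom_comp A.π f ω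
  refine ⟨E, ⟨hE, hEft⟩, A, SymAlgX.symJ hE, SymAlgX.isSymAlg_symAlg hE, i, ?_, hi⟩
  have hsurj : ∀ U : Y.affineOpens, Function.Surjective (ω.1.app (op U.1)) := by
    intro U
    have h1 : Function.Surjective (ψ.hom.app (op U.1)) := by
      intro b
      have hb : b ∈ (ψ.hom.app (op U.1)).hom.range := by
        have htop : b ∈ (⊤ : Subring (B.presheaf.obj (op U.1))) := trivial
        rw [← hgen U] at htop
        refine Subring.closure_le.2 ?_ htop
        rintro _ (⟨r, rfl⟩ | ⟨e, rfl⟩)
        · exact ⟨(A.str.app (op U.1)).hom r,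
            ConcreteCategory.congr_hom (NatTrans.congr_app ψ.comm (op U.1)) r⟩
        · exact ⟨(SymAlgX.symJ hE).app U.1 e, congrArg (fun β : E ⟶ B.toModule => β.app U.1 e) hψ⟩
      exact hb
    haveI : IsIso A.gammaMap := RelSpecX.isIso_gammaMap A
    haveI : IsIso (A.gammaMap.app (op U.1)) := NatIso.isIso_app_of_isIso A.gammaMap _
    have h2 : Function.Surjective (A.gammaMap.app (op U.1)) :=
      (ConcreteCategory.bijective_of_isIso (A.gammaMap.app (op U.1))).2
    exact h1.comp h2
  haveI : IsAffineHom i := by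
    haveI : IsAffineHom (i ≫ A.π) := by rw [hi]; infer_instance
    exact IsAffineHom.of_comp i A.π
  refine IsZariskiLocalAtTarget.of_iSup_eq_top (P := @IsClosedImmersion) (fun U : Y.affineOpens => A.π ⁻¹ᵁ U.1)
    ((iSup_affineOpens_eq_top Y) |> IsOpenCover.comap (v := fun U : Y.affineOpens => U.1) (f := A.π.base.1)) fun U => ?_
  haveI : IsAffine (A.π ⁻¹ᵁ U.1 : Scheme.{u}) := U.2.preimage A.π
  haveI : IsAffine (i ⁻¹ᵁ (A.π ⁻¹ᵁ U.1) : Scheme.{u}) := (U.2.preimage A.π).preimage i
  refine IsClosedImmersion.of_surjective_of_isAffine _ ?_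
  have e := RelSpecX.preimage_eq A.π f i hi U.1
  have h3 := RelSpecX.appLE_ofAlgHom A.π f ω U e.le
  have hV : ∀ V : A.spec.Opens, V = A.π ⁻¹ᵁ U.1 → Function.Surjective (i.app V) := by
    rintro _ rfl
    have h4 : i.app (A.π ⁻¹ᵁ U.1) ≫ X.presheaf.map (homOfLE e.le).op = ω.1.app (op U.1) := h3
    haveI : IsIso (X.presheaf.map (homOfLE e.le).op) := by
      rw [show homOfLE e.le = eqToHom e from Subsingleton.elim _ _]
      infer_instance
    intro y
    obtain ⟨x, hx⟩ := hsurj U (X.presheaf.map (homOfLE e.le).op y)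
    refine ⟨x, (ConcreteCategory.bijective_of_isIso (X.presheaf.map (homOfLE e.le).op)).1 ?_⟩
    rw [← hx]
    exact ConcreteCategory.congr_hom h4 x
  rw [morphismRestrict_appTop]
  intro y
  obtain ⟨x, hx⟩ := (ConcreteCategory.bijective_of_isIso
    (X.presheaf.map (eqToHom (image_morphismRestrict_preimage i (A.π ⁻¹ᵁ U.1) ⊤)).op)).2 y
  obtain ⟨z, hz⟩ := hV _ (Scheme.Opens.ι_image_top _) x
  refine ⟨z, ?_⟩
  exact (congrArg _ hz).trans hx

end Groth.Agent.S8269
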