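import Groth.Statements.S12542
import Groth.Agent.HMCrit.Vec

set_option autoImplicit false
universe u
open TensorProduct LaurentPolynomial
open GIT

namespace Groth.Agent.S12542

/-- Let k be an algebraically closed field of characteristic zero and G = Spec A a linearly reductive
affine algebraic group (A a finitely generated commutative Hopf algebra whose finite-dimensional
comodules are all semisimple) acting linearly on affine ι-space, and let v ≠ 0 be a vector. Then v
is semistable (some invariant homogeneous polynomial of positive degree is non-zero at v) if and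
only if μ(v, λ) ≥ 0 for every one-parameter subgroup λ of G, where μ(v, λ) = m means that t^m · (v
moved by λ(t)) tends to a non-zero vector as t → 0. (The published result concerns a reductive group
acting on any proper scheme with an ample linearised invertible sheaf; this row is the case of
projective space with the hyperplane bundle, to which the published proof reduces, stated on the
affine cone.) -/
theorem result (k : Type u) [Field k] [IsAlgClosed k] [CharZero k]
    (A : Type u) [CommRing A] [HopfAlgebra k A] [Algebra.FiniteType k A] (hG : HopfRep.IsLinearlyReductive k A)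
    (ι : Type u) [Fintype ι] [HopfRep.Comod k A (MvPolynomial ι k)] [GLin.IsCoactAlg k A (MvPolynomial ι k)]
    (hlin : GLin.IsLinear k A ι) (v : ι → k) (hv : v ≠ 0) :
    GLin.IsSemistableVec k A v ↔
      ∀ (lam : A →ₐc[k] k[T;T⁻¹]) (m : ℤ), GLin.IsMu k A lam v m → 0 ≤ m := by
  constructor
  · intro hss lam m hm
    by_contra hneg
    push Not at hneg
    obtain ⟨h1, -⟩ := (Groth.Agent.ComodLib.isMu_iff lam v m).mp hm
    have hl : GLin.IsLimit k A lam (GLin.vecPt k ι v) (GLin.vecPt k ι (fun _ => (0 : k))) :=
      (Groth.Agent.ComodLib.isLimit_iff lam v _).mpr ⟨fun i n hn => h1 i n (by omega), fun i => h1 i 0 (by omega)⟩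
    exact hss fun F hF d hd hFd => Groth.Agent.HMCrit.eval_eq_zero_of_isLimit_zero lam v hl hF hd hFd
  · intro H hnull
    obtain ⟨lam, hl⟩ := Groth.Agent.HMCrit.exists_isLimit_zero_of_isNullform hG hlin v hnull
    obtain ⟨m, hm, -⟩ := Groth.Agent.ComodLib.existsUnique_isMu lam hv
    have hm0 := H lam m hm
    obtain ⟨-, i, hi⟩ := (Groth.Agent.ComodLib.isMu_iff lam v m).mp hm
    obtain ⟨h1, h2⟩ := (Groth.Agent.ComodLib.isLimit_iff lam v _).mp hl
    rcases eq_or_lt_of_le hm0 with h | h
    · exact hi (by rw [← h, neg_zero]; exact h2 i)
    · exact hi (h1 i _ (by omega))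

end Groth.Agent.S12542
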