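import Groth.Statements.S12543
import Groth.Agent.HMCrit.Vec

set_option autoImplicit false
universe u
open TensorProduct LaurentPolynomial
open GIT

namespace Groth.Agent.S12543

/-- Let k be an algebraically closed field of characteristic zero and G = Spec A a linearly reductive
affine algebraic group acting linearly on affine ι-space, and let v ≠ 0. Then v is stable for the
affine action (its orbit is closed and its stabiliser finite, i.e. the point [v] of projective space
is properly stable) if and only if μ(v, λ) > 0 for every non-trivial one-parameter subgroup λ of G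
(one that does not factor through the counit), where μ(v, λ) = m means that t^m · (v moved by λ(t))
tends to a non-zero vector as t → 0. (The published result concerns a reductive group acting on any
proper scheme with an ample linearised invertible sheaf and its properly stable points; this row is
the case of projective space with the hyperplane bundle, to which the published proof reduces,
stated on the affine cone. The published statement also lets λ range over all one-parameter
subgroups; along the trivial one μ = 0 for every v ≠ 0, so that reading fails for every stable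
vector and the trivial subgroup is excluded here, as the published proof in fact produces a
non-trivial one.) -/
theorem result (k : Type u) [Field k] [IsAlgClosed k] [CharZero k]
    (A : Type u) [CommRing A] [HopfAlgebra k A] [Algebra.FiniteType k A] (hG : HopfRep.IsLinearlyReductive k A)
    (ι : Type u) [Fintype ι] [HopfRep.Comod k A (MvPolynomial ι k)] [GLin.IsCoactAlg k A (MvPolynomial ι k)]
    (hlin : GLin.IsLinear k A ι) (v : ι → k) (hv : v ≠ 0) :
    GLin.IsStableVec k A v ↔
      ∀ lam : A →ₐc[k] k[T;T⁻¹], ¬ SGA3t2b.IsTrivialBialgHom lam →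
        ∀ m : ℤ, GLin.IsMu k A lam v m → 0 < m := by
  obtain ⟨α, hα, h1⟩ := Groth.Agent.ComodLib.exists_integral_of_isLinearlyReductive hG
  set x := GLin.vecPt k ι v with hx
  have hmu : ∀ (lam : A →ₐc[k] LaurentPolynomial k) (m : ℤ), GLin.IsMu k A lam v m →
      GLin.HasLimit k A lam x → m ≤ 0 := by
    intro lam m hm hl
    obtain ⟨-, i, hi⟩ := (Groth.Agent.ComodLib.isMu_iff lam v m).mp hm
    by_contra hpos
    exact hi ((Groth.Agent.ComodLib.hasLimit_iff lam v).mp hl i _ (by omega))
  constructor
  · rintro ⟨hcl, hst⟩ lam hne m hm
    by_contra hle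
    push Not at hle
    obtain ⟨h, hh⟩ : GLin.HasLimit k A lam x := (Groth.Agent.ComodLib.hasLimit_iff lam v).mpr fun i n hn =>
      ((Groth.Agent.ComodLib.isMu_iff lam v m).mp hm).1 i n (by omega)
    have hl : GLin.IsLimit k A lam x ((Polynomial.aeval (0 : k)).comp h) := ⟨h, hh, rfl⟩
    obtain ⟨g, hg⟩ := (Groth.Agent.ComodLib.isClosedOrbit_iff x).mp hcl _
      (Groth.Agent.HMCrit.inOrbitClosure_of_isLimit hl)
    rw [hg] at hl
    exact hne (Groth.Agent.HMCrit.isTrivial_of_limit_mem_orbit hl hst)
  · intro H
    have hnolim : ∀ (lam : A →ₐc[k] LaurentPolynomial k) (w : MvPolynomial ι k →ₐ[k] k),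
        GLin.IsLimit k A lam x w → SGA3t2b.IsTrivialBialgHom lam := by
      rintro lam w ⟨h, hh, -⟩
      by_contra hne
      obtain ⟨m, hm, -⟩ := Groth.Agent.ComodLib.existsUnique_isMu lam hv
      exact absurd (hmu lam m hm ⟨h, hh⟩) (not_le.mpr (H lam hne m hm))
    have hcl : GLin.IsClosedOrbit k A x := by
      obtain ⟨y, hy, hyall⟩ := Groth.Agent.ComodLib.exists_minimal_orbit hα h1 x
      have hxy := hyall x fun f _ => rfl
      obtain ⟨lam, g, hlim, htriv⟩ := Groth.Agent.HMCrit.exists_limit hG hxy
        (Groth.Agent.ComodLib.isClosedOrbit_of_forall_mem hy)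
      have hxeq : x = GLin.actPt k g y := htriv (hnolim lam _ hlim)
      have hkxy : RingHom.ker (GLin.orbitHom k A x) = RingHom.ker (GLin.orbitHom k A y) := by
        rw [hxeq, Groth.Agent.ComodLib.ker_orbitHom_actPt]
      refine Groth.Agent.ComodLib.isClosedOrbit_of_forall_mem fun w hw => ?_
      obtain ⟨g', rfl⟩ := hy w (by
        unfold GLin.InOrbitClosure at hw ⊢
        rwa [hkxy] at hw)
      exact Groth.Agent.ComodLib.exists_actPt_of_ker_eq (by rw [hkxy, Groth.Agent.ComodLib.ker_orbitHom_actPt])
    refine ⟨hcl, ?_⟩
    by_contra hst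
    obtain ⟨lam, g, hlim, hne⟩ := Groth.Agent.HMCrit.exists_limit_of_not_hasFiniteStab hG hcl hst
    exact hne (hnolim lam _ hlim)

end Groth.Agent.S12543
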