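import Groth.Statements.S7395
import Groth.Agent.Approx.FP

set_option autoImplicit false
universe u
open CategoryTheory AlgebraicGeometry
open Lim

namespace Groth.Agent.S7395

/-- Let `f : X → S` be separated and of finite type with `S` quasi-compact and quasi-separated. Then
there are a separated morphism `f' : X' → S` of finite presentation and a closed immersion `X → X'`
over `S`. -/
theorem result {X S : Scheme.{u}} (f : X ⟶ S) [IsSeparated f]
    [LocallyOfFiniteType f] [QuasiCompact f] [CompactSpace S] [QuasiSeparatedSpace S] :
    ∃ (X' : Scheme.{u}) (f' : X' ⟶ S) (j : X ⟶ X'), IsSeparated f' ∧ LocallyOfFinitePresentation f' ∧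
      QuasiCompact f' ∧ IsClosedImmersion j ∧ j ≫ f' = f := by
  haveI : CompactSpace X := QuasiCompact.compactSpace_of_compactSpace f
  haveI : QuasiSeparatedSpace X := quasiSeparatedSpace_of_quasiSeparated f
  obtain ⟨X', f', j, h1, h2, -, -, -, h4, h5, h6⟩ := Groth.Agent.Approx.exists_closedImmersion_fp f
  exact ⟨X', f', j, h6 inferInstance, h1, h2, h4, h5⟩

end Groth.Agent.S7395
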