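import Groth.Statements.S17609
import Groth.Agent.Hensel.Hfp
-- import your own Groth.Agent.* helpers here

set_option autoImplicit false
universe u
open Hensel

namespace Groth.Agent.S17609

/-- Let (A, I) be a Henselian pair and let B, C be Henselizations of the pairs (R, IR), (S, IS) for
finitely presented A-algebras R and S, with their induced A-algebra structures (so A → B and A → C
are Henselian finitely presented). Then every A-algebra map B → C (encoded as a B-algebra structure
on C compatible with that of A) is Henselian finitely presented: there are a finitely presented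
B-algebra T and a T-algebra structure on C compatible with that of B for which C is a Henselization
of the pair (T, IBT). -/
theorem result (A : Type u) [CommRing A] (I : Ideal A) [HenselianRing A I]
    (R : Type u) [CommRing R] [Algebra A R] [Algebra.FinitePresentation A R]
    (B : Type u) [CommRing B] [Algebra R B] [Algebra A B] [IsScalarTower A R B]
    (hB : Hens2.IsPairHenselization R (I.map (algebraMap A R)) B)
    (S : Type u) [CommRing S] [Algebra A S] [Algebra.FinitePresentation A S]
    (C : Type u) [CommRing C] [Algebra S C] [Algebra A C] [IsScalarTower A S C]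
    (hC : Hens2.IsPairHenselization S (I.map (algebraMap A S)) C)
    [Algebra B C] [IsScalarTower A B C] :
    ∃ (T : Type u) (_ : CommRing T) (_ : Algebra B T) (_ : Algebra T C) (_ : IsScalarTower B T C),
      Algebra.FinitePresentation B T ∧
      Hens2.IsPairHenselization T ((I.map (algebraMap A B)).map (algebraMap B T)) C := by
  
  classical
  open TensorProduct in
  obtain ⟨n, π, hπ, -⟩ := Algebra.FinitePresentation.out (R := A) (A := R)
  let c : Fin n → C := fun i => algebraMap B C (algebraMap R B (π (MvPolynomial.X i)))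
  obtain ⟨U, _, _, _, _, hU', hU, hu⟩ := Hensel.exists_model_finset I hC (Finset.univ.image c)
  choose u hu using fun i : Fin n => hu (c i) (Finset.mem_image_of_mem _ (Finset.mem_univ i))
  let rel : Fin n → B ⊗[A] U := fun i => algebraMap R B (π (MvPolynomial.X i)) ⊗ₜ 1 - 1 ⊗ₜ u i
  let K : Ideal (B ⊗[A] U) := Ideal.span ↑(Finset.univ.image rel)
  let T := (B ⊗[A] U) ⧸ K
  let Φ : B ⊗[A] U →ₐ[B] C := Algebra.TensorProduct.lift (Algebra.ofId B C) (IsScalarTower.toAlgHom A U C)
    fun _ _ => .all _ _
  have hΦK : ∀ x ∈ K, Φ x = 0 := fun x hx => (Ideal.span_le (I := RingHom.ker Φ)).mpr (fun y hy => by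
    obtain ⟨i, -, rfl⟩ := Finset.mem_image.mp hy
    show Φ (rel i) = 0
    simp [rel, Φ, c, hu]) hx
  let t : T →ₐ[B] C := Ideal.Quotient.liftₐ K Φ hΦK
  let : Algebra T C := t.toRingHom.toAlgebra
  have : IsScalarTower B T C := .of_algebraMap_eq fun b => (t.commutes b).symm
  have hfpT : Algebra.FinitePresentation B T := Algebra.FinitePresentation.quotient ⟨_, rfl⟩
  refine ⟨T, inferInstance, inferInstance, inferInstance, inferInstance, hfpT, ?_, fun D _ J f hD hf => ?_⟩
  · rw [Ideal.map_map, Ideal.map_map, RingHom.comp_assoc, ← RingHom.comp_assoc, ← IsScalarTower.algebraMap_eq B T C,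
      ← IsScalarTower.algebraMap_eq A B C]
    have := hU.1
    rwa [Ideal.map_map, ← IsScalarTower.algebraMap_eq] at this
  rw [Ideal.map_map, Ideal.map_map] at hf
  let incl : U →+* T := (Ideal.Quotient.mk K).comp (Algebra.TensorProduct.includeRight (R := A) (A := B)).toRingHom
  have hinclA : incl.comp (algebraMap A U) = (algebraMap B T).comp (algebraMap A B) := by
    ext a
    show Ideal.Quotient.mk K (Algebra.TensorProduct.includeRight (R := A) (A := B) (algebraMap A U a)) = _
    rw [AlgHom.commutes]
    rfl
  obtain ⟨g, hg, hguniq⟩ := hU.2 D J (f.comp incl) hD (by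
    rw [Ideal.map_map, RingHom.comp_assoc, hinclA, ← RingHom.comp_assoc]; exact hf)
  have hgA : g.comp (algebraMap A C) = f.comp ((algebraMap B T).comp (algebraMap A B)) := by
    rw [IsScalarTower.algebraMap_eq A U C, ← RingHom.comp_assoc, hg, RingHom.comp_assoc, hinclA]
  have hgR : (g.comp (algebraMap B C)).comp (algebraMap R B) = (f.comp (algebraMap B T)).comp (algebraMap R B) := by
    have key : ((g.comp (algebraMap B C)).comp (algebraMap R B)).comp π.toRingHom =
        ((f.comp (algebraMap B T)).comp (algebraMap R B)).comp π.toRingHom := by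
      refine MvPolynomial.ringHom_ext (fun a => ?_) fun i => ?_
      · simp only [RingHom.comp_apply, AlgHom.toRingHom_eq_coe, RingHom.coe_coe, ← MvPolynomial.algebraMap_eq,
          AlgHom.commutes, ← IsScalarTower.algebraMap_apply A R B, ← IsScalarTower.algebraMap_apply A B C]
        exact congr($hgA a)
      · show g (c i) = f (Ideal.Quotient.mk K (algebraMap R B (π (MvPolynomial.X i)) ⊗ₜ 1))
        rw [← hu i, ← RingHom.comp_apply g, hg]
        show f (Ideal.Quotient.mk K (1 ⊗ₜ u i)) = _
        refine congrArg f (Ideal.Quotient.eq.mpr ?_)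
        rw [← neg_sub]
        exact neg_mem (Ideal.subset_span (Finset.mem_image.mpr ⟨i, Finset.mem_univ _, rfl⟩))
    exact RingHom.ext fun r => by
      obtain ⟨q, rfl⟩ := hπ r
      exact congr($key q)
  have hgBC : g.comp (algebraMap B C) = f.comp (algebraMap B T) := by
    refine (hB.2 D J ((f.comp (algebraMap B T)).comp (algebraMap R B)) hD ?_).unique hgR rfl
    rw [Ideal.map_map, RingHom.comp_assoc, ← IsScalarTower.algebraMap_eq A R B, RingHom.comp_assoc]
    exact hf
  refine ⟨g, ?_, fun g₁ hg₁ => hguniq g₁ (RingHom.ext fun x => ?_)⟩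
  · refine Ideal.Quotient.ringHom_ext (RingHom.ext fun z => ?_)
    show g (Φ z) = f (Ideal.Quotient.mk K z)
    induction z using TensorProduct.induction_on with
    | zero => simp
    | add x y hx hy => rw [map_add, map_add, hx, hy, map_add, map_add]
    | tmul b x =>
      rw [show Φ (b ⊗ₜ x) = algebraMap B C b * algebraMap U C x by simp [Φ],
        show b ⊗ₜ[A] x = (b ⊗ₜ 1) * ((1 : B) ⊗ₜ x) by rw [Algebra.TensorProduct.tmul_mul_tmul, mul_one, one_mul],
        map_mul, map_mul, map_mul, ← RingHom.comp_apply g, hgBC, ← RingHom.comp_apply g, hg]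
      rfl
  · refine Eq.trans ?_ congr($hg₁ (incl x))
    show g₁ (algebraMap U C x) = g₁ (Φ ((1 : B) ⊗ₜ x))
    simp [Φ]

end Groth.Agent.S17609
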