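import Groth.Statements.S5242
import Groth.Agent.MultTypeLib.Sub
-- import your own Groth.Agent.* helpers here

set_option autoImplicit false
universe u
open TensorProduct SGA3b
open SGA3b

namespace Groth.Agent.S5242

/-- Let G = Spec A be an R-group of multiplicative type and of finite type and n > 0 an integer. Then
the kernel ₙG = Spec (A/J) of the n-th power map of G, J being the ideal generated by the image of
the augmentation ideal under the n-th power endomorphism (a Hopf ideal; the instance hypothesis
holds automatically for this J), is an R-group of multiplicative type which is finite over R.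
(Affine group schemes over an affine base are taken in Hopf-algebra form; base change is the tensor
product; a homomorphism of groups Spec A ⟶ Spec C is a bialgebra map C → A.) -/
theorem result (R : Type u) [CommRing R] (A : Type u) [CommRing A] [HopfAlgebra R A]
    (hft : Algebra.FiniteType R A) (h : IsMultType R A) (n : ℕ) (hn : 0 < n)
    (J : Ideal A) [J.IsHopfIdeal R] (hJ : J = torsionIdeal R A n) :
    IsMultType R (A ⧸ J) ∧ Module.Finite R (A ⧸ J) := by
  have hm := Groth.Agent.MultTypeLib.isMultType_torsion J h n hJ
  refine ⟨hm, ?_⟩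
  have : Algebra.FiniteType R (A ⧸ J) :=
    hft.of_surjective (Ideal.Quotient.mkₐ R J) Ideal.Quotient.mk_surjective
  refine Groth.Agent.MultTypeLib.finite_of_killed this hm n hn fun b => ?_
  obtain ⟨a, rfl⟩ := Ideal.Quotient.mk_surjective b
  have key : ∀ k : ℕ, (SGA3b.powConv R (A ⧸ J) k).comp (Ideal.Quotient.mkₐ R J) =
      (Ideal.Quotient.mkₐ R J).comp (SGA3b.powConv R A k) := by
    intro k
    induction k with
    | zero =>
      refine AlgHom.ext fun a => ?_
      simp only [SGA3b.powConv, pow_zero, AlgHom.comp_apply, AlgHom.convOne_apply, Ideal.Quotient.mkₐ_eq_mk,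
        Ideal.Quotient.mk_algebraMap]
      exact congrArg _ (CoalgHomClass.counit_comp_apply (Bialgebra.Quotient.mkBialgHom (R := R) J) a)
    | succ k ih =>
      simp only [SGA3b.powConv, pow_succ] at ih ⊢
      rw [AlgHom.comp_convMul_distrib, ← ih]
      exact AlgHom.convMul_comp_bialgHom_distrib _ _ (Bialgebra.Quotient.mkBialgHom (R := R) J)
  refine (AlgHom.congr_fun (key n) a).trans ?_
  have hc : Coalgebra.counit (R := R) (Ideal.Quotient.mk J a) = Coalgebra.counit (R := R) a :=
    CoalgHomClass.counit_comp_apply (Bialgebra.Quotient.mkBialgHom (R := R) J) a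
  rw [hc, ← Ideal.Quotient.mk_algebraMap, AlgHom.comp_apply, Ideal.Quotient.mkₐ_eq_mk, Ideal.Quotient.eq, hJ,
    SGA3b.torsionIdeal]
  have := Ideal.mem_map_of_mem (SGA3b.powConv R A n)
    (show a - algebraMap R A (Coalgebra.counit (R := R) a) ∈ RingHom.ker (Bialgebra.counitAlgHom R A) by
      simp [RingHom.mem_ker])
  rwa [map_sub, AlgHom.commutes] at this

end Groth.Agent.S5242
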