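import Groth.Statements.S2974
import Groth.Agent.MultTypeLib.Henselian
import Groth.Agent.MultTypeLib.Field
import Groth.Agent.MultTypeLib.Artin
import Groth.Agent.Hensel.EtaleResidueExt
-- import your own Groth.Agent.* helpers here

set_option autoImplicit false
universe u
open TensorProduct SGA3b
open SGA3b

namespace Groth.Agent.S2974

/-- Let R be a henselian local ring and H = Spec A an R-group of multiplicative type and of finite type.
Then H is isotrivial: split by a finite etale faithfully flat R-algebra. (Affine group schemes over
an affine base are taken in Hopf-algebra form; base change is the tensor product.) -/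
theorem result (R : Type u) [CommRing R] (A : Type u) [CommRing A] [HopfAlgebra R A] [HenselianLocalRing R] (hft : Algebra.FiniteType R A) (h : IsMultType R A) :
    IsIsotrivial R A := by
  obtain ⟨k', _, _, hfin, hsep, M, inst, -, e⟩ :=
    Groth.Agent.MultTypeLib.isotrivial_of_field (IsLocalRing.ResidueField R) (IsLocalRing.ResidueField R ⊗[R] A)
      inferInstance (Groth.Agent.MultTypeLib.isMultType_baseChange (IsLocalRing.ResidueField R) h)
  have hd : IsDiag k' (k' ⊗[IsLocalRing.ResidueField R] (IsLocalRing.ResidueField R ⊗[R] A)) := ⟨M, inst, e⟩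
  let _ : Algebra R k' :=
    ((algebraMap (IsLocalRing.ResidueField R) k').comp (algebraMap R (IsLocalRing.ResidueField R))).toAlgebra
  have : IsScalarTower R (IsLocalRing.ResidueField R) k' := IsScalarTower.of_algebraMap_eq fun _ => rfl
  have hd1 : IsDiag k' (k' ⊗[R] A) := Groth.Agent.MultTypeLib.isDiag_congr
    (Groth.Agent.MultTypeLib.baseChangeTrans (R := R) (IsLocalRing.ResidueField R) k' A).symm hd
  obtain ⟨E, _, _, _, _, hfE, hetE, ⟨φ⟩⟩ := Groth.Agent.Hensel.exists_finite_etale_residueField R k'
  have := Groth.Agent.Hensel.henselianLocalRing_of_finite R E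
  have : Module.Free R E := Module.free_of_flat_of_isLocalRing
  let _ : Algebra k' (IsLocalRing.ResidueField E) := φ.symm.toAlgHom.toRingHom.toAlgebra
  have : IsScalarTower R k' (IsLocalRing.ResidueField E) := IsScalarTower.of_algebraMap_eq fun r => by
    show algebraMap R (IsLocalRing.ResidueField E) r =
      φ.symm (algebraMap (IsLocalRing.ResidueField R) k' (IsLocalRing.residue R r))
    rw [AlgEquiv.commutes]
    rfl
  have hd2 : IsDiag (IsLocalRing.ResidueField E) (IsLocalRing.ResidueField E ⊗[R] A) :=
    Groth.Agent.MultTypeLib.isDiag_baseChange k' (IsLocalRing.ResidueField E) hd1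
  have hd3 : IsDiag (IsLocalRing.ResidueField E) (IsLocalRing.ResidueField E ⊗[E] (E ⊗[R] A)) :=
    Groth.Agent.MultTypeLib.isDiag_congr
      (Groth.Agent.MultTypeLib.baseChangeTrans (R := R) E (IsLocalRing.ResidueField E) A) hd2
  exact ⟨E, inferInstance, inferInstance, hetE, hfE, inferInstance,
    Groth.Agent.MultTypeLib.isDiag_of_henselian inferInstance
      (Groth.Agent.MultTypeLib.isMultType_baseChange E h) hd3⟩

end Groth.Agent.S2974
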