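import Groth.Statements.S5754
import Groth.Agent.Alg6.AssDepth
import Mathlib

set_option autoImplicit false
universe u
open EGA41

namespace Groth.Agent.S5754

/-- Let A be a Noetherian ring, M a finitely generated A-module and t an element of A which is
M-regular. For every associated prime p of M, every prime ideal minimal among those containing p +
tA is an associated prime of M/tM. -/
theorem result (A : Type u) [CommRing A]
    [IsNoetherianRing A] (M : Type u) [AddCommGroup M] [Module A M] [Module.Finite A M] (t : A)
    (ht : IsSMulRegular M t) (p : Ideal A) (hp : p ∈ associatedPrimes A M) (q : Ideal A)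
    (hq : q ∈ (p ⊔ Ideal.span {t}).minimalPrimes) : q ∈ associatedPrimes A (QuotSMulTop t M) := by
  classical
  obtain ⟨hpp, z, hz⟩ := Alg6.mem_ass_iff.mp hp
  let K : Submodule A M := Submodule.torsionBySet A M (p : Set A)
  have hzK : z ∈ K := (Submodule.mem_torsionBySet_iff (p : Set A) z).2 fun a => (hz a).1 a.2
  have hsupp : Module.support A K = PrimeSpectrum.zeroLocus (p : Set A) := by
    refine Set.Subset.antisymm (fun x hx a ha => ?_) fun x hx => ?_
    · rw [Module.mem_support_iff'] at hx
      obtain ⟨w, hw⟩ := hx
      by_contra hax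
      exact hw a hax (Subtype.ext ((Submodule.mem_torsionBySet_iff (p : Set A) (w : M)).1 w.2 ⟨a, ha⟩))
    · rw [Module.mem_support_iff_exists_annihilator]
      refine ⟨⟨z, hzK⟩, fun a ha => hx ((hz a).2 ?_)⟩
      rw [Submodule.mem_annihilator_span_singleton] at ha
      exact congrArg Subtype.val ha
  let L := K ⧸ (Ideal.span {t} • (⊤ : Submodule A K))
  have hsuppL : Module.support A L = PrimeSpectrum.zeroLocus ((p ⊔ Ideal.span {t} : Ideal A) : Set A) := by
    rw [Module.support_quotient, hsupp, PrimeSpectrum.zeroLocus_sup]
  have hmin : q ∈ (Module.annihilator A L).minimalPrimes := by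
    rw [← Ideal.radical_minimalPrimes]
    have h : PrimeSpectrum.zeroLocus ((Module.annihilator A L) : Set A) =
        PrimeSpectrum.zeroLocus ((p ⊔ Ideal.span {t} : Ideal A) : Set A) := by
      rw [← Module.support_eq_zeroLocus, hsuppL]
    rw [← PrimeSpectrum.vanishingIdeal_zeroLocus_eq_radical, h, PrimeSpectrum.vanishingIdeal_zeroLocus_eq_radical,
      Ideal.radical_minimalPrimes]
    exact hq
  have hassL := Module.associatedPrimes.minimalPrimes_annihilator_subset_associatedPrimes (R := A) (M := L) hmin
  let f : L →ₗ[A] QuotSMulTop t M := Submodule.mapQ _ _ K.subtype (by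
    rw [Submodule.ideal_span_singleton_smul]
    intro w hw
    obtain ⟨v, -, rfl⟩ := (Submodule.mem_smul_pointwise_iff_exists _ _ _).1 hw
    exact (Submodule.mem_smul_pointwise_iff_exists _ _ _).2 ⟨(v : M), trivial, rfl⟩)
  have hf : Function.Injective f := (injective_iff_map_eq_zero f).2 fun x hx => by
    obtain ⟨w, rfl⟩ := Submodule.Quotient.mk_surjective _ x
    obtain ⟨v, hv⟩ := Alg6.mem_pointwise_smul_top_iff.1 (show (Submodule.Quotient.mk (w : M) : QuotSMulTop t M) = 0 from hx)
    have hvK : v ∈ K := (Submodule.mem_torsionBySet_iff (p : Set A) v).2 fun a => by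
      refine ht ?_
      show t • ((a : A) • v) = t • 0
      rw [smul_zero, smul_comm, hv]
      exact (Submodule.mem_torsionBySet_iff (p : Set A) (w : M)).1 w.2 a
    rw [Submodule.Quotient.mk_eq_zero, Submodule.ideal_span_singleton_smul]
    exact (Submodule.mem_smul_pointwise_iff_exists _ _ _).2 ⟨⟨v, hvK⟩, trivial, Subtype.ext hv⟩
  exact associatedPrimes.subset_of_injective hf hassL

end Groth.Agent.S5754
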