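import Groth.Statements.S8384
import Mathlib.RingTheory.AdicCompletion.RingHom
-- import your own Groth.Agent.* helpers here

set_option autoImplicit false
universe u
open CategoryTheory MonoidalCategory CartesianMonoidalCategory MonObj GrpObj AlgebraicGeometry
open SGA3x

namespace Groth.Agent.S8384

theorem range_subset {A : Type u} [CommRing A] [IsLocalRing A] {X : Scheme.{u}}
    (f : Spec (CommRingCat.of A) ⟶ X) {V : X.Opens}
    (h : f.base (IsLocalRing.closedPoint A) ∈ V) : f ⁻¹ᵁ V = ⊤ :=
  top_unique fun x _ => ((IsLocalRing.specializes_closedPoint x).map f.continuous).mem_open V.2 h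

/-- Let A be a local ring, separated and complete for the topology defined by its maximal ideal m, S =
Spec A and Sₙ = Spec(A/mⁿ). Then for every scheme X the canonical map Hom(S, X) → lim Hom(Sₙ, X) is
bijective: two morphisms S → X that agree on every Sₙ are equal, and every family of morphisms Sₙ →
X compatible with the closed immersions Sₙ → Sₙ₊₁ is induced by a morphism S → X. -/
theorem result (A : Type u) [CommRing A] [IsLocalRing A]
    [IsAdicComplete (IsLocalRing.maximalIdeal A) A] (X : Scheme.{u}) :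
    (∀ f g : (Spec (CommRingCat.of A)) ⟶ X,
      (∀ n : ℕ, (Spec.map (CommRingCat.ofHom (Ideal.Quotient.mk ((IsLocalRing.maximalIdeal A) ^ n)))) ≫ f = (Spec.map (CommRingCat.ofHom (Ideal.Quotient.mk ((IsLocalRing.maximalIdeal A) ^ n)))) ≫ g) → f = g) ∧
    (∀ u : (n : ℕ) → (Spec (CommRingCat.of (A ⧸ (IsLocalRing.maximalIdeal A) ^ n)) ⟶ X),
      (∀ n : ℕ, (Spec.map (CommRingCat.ofHom (Ideal.Quotient.factor
          (Ideal.pow_le_pow_right (I := (IsLocalRing.maximalIdeal A)) (Nat.le_succ n))))) ≫ u (n + 1) = u n) →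
      ∃ f : (Spec (CommRingCat.of A)) ⟶ X, ∀ n : ℕ, (Spec.map (CommRingCat.ofHom (Ideal.Quotient.mk ((IsLocalRing.maximalIdeal A) ^ n)))) ≫ f = u n) := by
  have hne : ∀ n : ℕ, IsLocalRing.maximalIdeal A ^ (n + 1) ≠ ⊤ := fun n h =>
    (IsLocalRing.maximalIdeal.isMaximal A).ne_top (top_unique (h ▸ Ideal.pow_le_self (Nat.succ_ne_zero n)))
  have hlr : ∀ n : ℕ, IsLocalRing (A ⧸ IsLocalRing.maximalIdeal A ^ (n + 1)) := fun n =>
    haveI : Nontrivial (A ⧸ IsLocalRing.maximalIdeal A ^ (n + 1)) := Ideal.Quotient.nontrivial_iff.mpr (hne n)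
    IsLocalRing.of_surjective' _ Ideal.Quotient.mk_surjective
  refine ⟨fun f g hfg => ?_, fun u hu => ?_⟩
  · obtain ⟨V, hV, hfV, -⟩ := exists_isAffineOpen_mem_and_subset (X := X) (x := f.base (IsLocalRing.closedPoint A)) (U := ⊤) trivial
    have hgV : g.base (IsLocalRing.closedPoint A) ∈ V := by
      have := hlr 0
      have h1 := congrArg (fun φ => φ.base (IsLocalRing.closedPoint (A ⧸ IsLocalRing.maximalIdeal A ^ (0 + 1)))) (hfg (0 + 1))
      have e : (Spec.map (CommRingCat.ofHom (Ideal.Quotient.mk (IsLocalRing.maximalIdeal A ^ (0 + 1))))).base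
          (IsLocalRing.closedPoint (A ⧸ IsLocalRing.maximalIdeal A ^ (0 + 1))) = IsLocalRing.closedPoint A :=
        haveI : IsLocalHom (CommRingCat.ofHom (Ideal.Quotient.mk (IsLocalRing.maximalIdeal A ^ (0 + 1)))).hom :=
          IsLocalHom.of_surjective _ Ideal.Quotient.mk_surjective
        IsLocalRing.comap_closedPoint (CommRingCat.ofHom (Ideal.Quotient.mk (IsLocalRing.maximalIdeal A ^ (0 + 1)))).hom
      simp only [Scheme.Hom.comp_apply] at h1
      rw [← e, ← h1, e]
      exact hfV
    have : IsAffine V := hV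
    obtain ⟨f', rfl⟩ : ∃ f', f' ≫ V.ι = f := ⟨IsOpenImmersion.lift V.ι f (by
      rw [Scheme.Opens.range_ι]; rintro _ ⟨x, rfl⟩; exact SetLike.ext_iff.mp (range_subset f hfV) x |>.mpr trivial),
      IsOpenImmersion.lift_fac _ _ _⟩
    obtain ⟨g', rfl⟩ : ∃ g', g' ≫ V.ι = g := ⟨IsOpenImmersion.lift V.ι g (by
      rw [Scheme.Opens.range_ι]; rintro _ ⟨x, rfl⟩; exact SetLike.ext_iff.mp (range_subset g hgV) x |>.mpr trivial),
      IsOpenImmersion.lift_fac _ _ _⟩
    congr 1
    obtain ⟨φ, hφ⟩ := Spec.map_surjective (f' ≫ (V : Scheme.{u}).isoSpec.hom)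
    obtain ⟨ψ, hψ⟩ := Spec.map_surjective (g' ≫ (V : Scheme.{u}).isoSpec.hom)
    rw [← cancel_mono (V : Scheme.{u}).isoSpec.hom, ← hφ, ← hψ]
    congr 1
    refine CommRingCat.hom_ext (RingHom.ext fun b => sub_eq_zero.mp (IsHausdorff.haus (inferInstance : IsHausdorff (IsLocalRing.maximalIdeal A) A) _ fun n => ?_))
    rw [SModEq.zero, smul_eq_mul, Ideal.mul_top, ← Ideal.Quotient.eq_zero_iff_mem, map_sub, sub_eq_zero]
    have h2 : φ ≫ CommRingCat.ofHom (Ideal.Quotient.mk (IsLocalRing.maximalIdeal A ^ n)) =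
        ψ ≫ CommRingCat.ofHom (Ideal.Quotient.mk (IsLocalRing.maximalIdeal A ^ n)) := by
      apply Spec.map_injective
      rw [Spec.map_comp, Spec.map_comp, hφ, hψ, ← cancel_mono (V : Scheme.{u}).isoSpec.inv]
      simp only [Category.assoc, Iso.hom_inv_id, Category.comp_id]
      rw [← cancel_mono V.ι, Category.assoc, Category.assoc]
      exact hfg n
    exact congrArg (fun χ => χ.hom b) h2
  · have := hlr 0
    obtain ⟨V, hV, hxV, -⟩ := exists_isAffineOpen_mem_and_subset (X := X)
      (x := (u (0 + 1)).base (IsLocalRing.closedPoint (A ⧸ IsLocalRing.maximalIdeal A ^ (0 + 1)))) (U := ⊤) trivial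
    have hall : ∀ n : ℕ, haveI := hlr n
        (u (n + 1)).base (IsLocalRing.closedPoint (A ⧸ IsLocalRing.maximalIdeal A ^ (n + 1))) ∈ V := fun n => by
      induction n with
      | zero => exact hxV
      | succ n ih =>
        have := hlr n
        have := hlr (n + 1)
        rw [← hu (n + 1), Scheme.Hom.comp_apply] at ih
        have : IsLocalHom (Ideal.Quotient.factor
            (Ideal.pow_le_pow_right (I := IsLocalRing.maximalIdeal A) (Nat.le_succ (n + 1)))) :=
          IsLocalHom.of_surjective _ (Ideal.Quotient.factor_surjective _)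
        have e := IsLocalRing.comap_closedPoint (Ideal.Quotient.factor
            (Ideal.pow_le_pow_right (I := IsLocalRing.maximalIdeal A) (Nat.le_succ (n + 1))))
        exact e ▸ ih
    have : IsAffine V := hV
    have hr : ∀ n, Set.range (u n).base ⊆ (V : Set X) := fun n => by
      rcases n with _ | n
      · haveI : Subsingleton (A ⧸ IsLocalRing.maximalIdeal A ^ 0) :=
          Ideal.Quotient.subsingleton_iff.mpr (by rw [pow_zero, Ideal.one_eq_top])
        rintro _ ⟨x, rfl⟩
        have : Subsingleton ↑(CommRingCat.of (A ⧸ IsLocalRing.maximalIdeal A ^ 0)) := ‹_›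
        exact absurd (Subsingleton.elim x.asIdeal ⊤) x.isPrime.ne_top
      · rintro _ ⟨x, rfl⟩
        exact SetLike.ext_iff.mp (range_subset (u (n + 1)) (hall n)) x |>.mpr trivial
    let v (n : ℕ) := IsOpenImmersion.lift V.ι (u n) (by rw [Scheme.Opens.range_ι]; exact hr n) ≫
      (V : Scheme.{u}).isoSpec.hom
    have hv : ∀ n, v n ≫ (V : Scheme.{u}).isoSpec.inv ≫ V.ι = u n := fun n => by simp [v]
    choose φ hφ using fun n => Spec.map_surjective (v n)
    have hφc : ∀ n, φ (n + 1) ≫ CommRingCat.ofHom (Ideal.Quotient.factor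
        (Ideal.pow_le_pow_right (I := IsLocalRing.maximalIdeal A) (Nat.le_succ n))) = φ n := fun n => by
      apply Spec.map_injective
      rw [Spec.map_comp, hφ, hφ, ← cancel_mono ((V : Scheme.{u}).isoSpec.inv ≫ V.ι), Category.assoc, hv, hv, hu]
    have hle : ∀ {m n : ℕ}, (h : m ≤ n) →
        (Ideal.Quotient.factor (Ideal.pow_le_pow_right (I := IsLocalRing.maximalIdeal A) h)).comp (φ n).hom = (φ m).hom := by
      intro m n h
      induction n, h using Nat.le_induction with
      | base =>
                  refine RingHom.ext fun b => ?_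
                  obtain ⟨a, ha⟩ := Ideal.Quotient.mk_surjective ((φ m).hom b)
                  simp only [RingHom.comp_apply, ← ha]
                  rfl
      | succ n h ih =>
        rw [← ih, ← show (φ (n + 1) ≫ _).hom = (φ n).hom from congrArg CommRingCat.Hom.hom (hφc n)]
        refine RingHom.ext fun b => ?_
        obtain ⟨a, ha⟩ := Ideal.Quotient.mk_surjective ((φ (n + 1)).hom b)
        simp only [CommRingCat.hom_comp, CommRingCat.hom_ofHom, RingHom.comp_apply, ← ha, Ideal.Quotient.factor_mk]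
    let ψ := IsAdicComplete.liftRingHom (IsLocalRing.maximalIdeal A) (fun n => (φ n).hom) fun h => hle h
    refine ⟨Spec.map (CommRingCat.ofHom ψ) ≫ (V : Scheme.{u}).isoSpec.inv ≫ V.ι, fun n => ?_⟩
    rw [← hv n, ← hφ n, ← Category.assoc, ← Spec.map_comp]
    congr 2
    refine CommRingCat.hom_ext (RingHom.ext fun b => ?_)
    exact IsAdicComplete.mk_liftRingHom _ _ (fun h => hle h) n b

end Groth.Agent.S8384
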