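import Groth.Statements.S9405
import Groth.Agent.AdicLib.Basic

set_option autoImplicit false
universe u
open CAlg

namespace Groth.Agent.S9405

/-- A module-finite algebra S over a complete Noetherian local ring R is a finite product of complete
Noetherian local rings; precisely, S has finitely many maximal ideals, S maps bijectively onto the
product of its localizations at them, and each of these localizations is Noetherian and complete for
its maximal ideal. -/
theorem result (R : Type u) [CommRing R]
    [IsLocalRing R] [IsNoetherianRing R] [IsAdicComplete (IsLocalRing.maximalIdeal R) R]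
    (S : Type u) [CommRing S] [Algebra R S] [Module.Finite R S] :
    Finite (MaximalSpectrum S) ∧
      Function.Bijective
        (algebraMap S ((m : MaximalSpectrum S) → Localization.AtPrime m.asIdeal)) ∧
      ∀ m : MaximalSpectrum S, IsNoetherianRing (Localization.AtPrime m.asIdeal) ∧
        IsAdicComplete (IsLocalRing.maximalIdeal (Localization.AtPrime m.asIdeal))
          (Localization.AtPrime m.asIdeal) := by
  classical
  let 𝔪 := IsLocalRing.maximalIdeal R
  let J : Ideal S := 𝔪.map (algebraMap R S)
  have hcS : IsAdicComplete J S :=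
    (IsAdicComplete.map_algebraMap_iff (I := 𝔪) (S := S) (M := S)).2 (AdicLib.isAdicComplete_of_finite 𝔪 S)
  have hJjac : J ≤ (⊥ : Ideal S).jacobson := IsAdicComplete.le_jacobson_bot J
  have hJmax : ∀ P : Ideal S, P.IsMaximal → J ≤ P := fun P hP => by
    rw [Ideal.map_le_iff_le_comap]
    have := Ideal.isMaximal_comap_of_isIntegral_of_isMaximal (R := R) P
    exact le_of_eq (IsLocalRing.eq_maximalIdeal this).symm
  have : IsNoetherianRing S := IsNoetherianRing.of_finite R S
  -- the zero dimensional quotient
  have hdim : ∀ P : Ideal S, P.IsPrime → J ≤ P → P.IsMaximal := by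
    intro P hP hJP
    refine Ideal.isMaximal_of_isIntegral_of_isMaximal_comap (R := R) P ?_
    have h1 : 𝔪 ≤ P.comap (algebraMap R S) := Ideal.map_le_iff_le_comap.1 hJP
    rw [← (IsLocalRing.maximalIdeal.isMaximal R).eq_of_le (Ideal.IsPrime.comap (algebraMap R S)).ne_top h1]
    exact IsLocalRing.maximalIdeal.isMaximal R
  have : Ring.KrullDimLE 0 (S ⧸ J) := by
    refine Ring.krullDimLE_zero_iff.2 fun P hP => ?_
    have h1 := hdim (P.comap (Ideal.Quotient.mk J)) inferInstance
      (fun x hx => by simp [Ideal.mem_comap, Ideal.Quotient.eq_zero_iff_mem.2 hx])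
    have := Ideal.map_eq_top_or_isMaximal_of_surjective (Ideal.Quotient.mk J) Ideal.Quotient.mk_surjective h1
    rw [Ideal.map_comap_of_surjective _ Ideal.Quotient.mk_surjective] at this
    exact this.resolve_left hP.ne_top
  have : IsArtinianRing (S ⧸ J) := isArtinianRing_iff_krullDimLE_zero.2 inferInstance
  let toQ : MaximalSpectrum S → PrimeSpectrum (S ⧸ J) := fun n =>
    ⟨n.asIdeal.map (Ideal.Quotient.mk J),
      Ideal.map_isPrime_of_surjective Ideal.Quotient.mk_surjective
        (by rw [Ideal.mk_ker]; exact hJmax _ n.isMaximal)⟩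
  have hback : ∀ n : MaximalSpectrum S, (toQ n).asIdeal.comap (Ideal.Quotient.mk J) = n.asIdeal := fun n => by
    rw [Ideal.comap_map_of_surjective' _ Ideal.Quotient.mk_surjective, Ideal.mk_ker,
      sup_eq_left.2 (hJmax _ n.isMaximal)]
  have htoQ : Function.Injective toQ := fun a b hab => MaximalSpectrum.ext (by rw [← hback a, ← hback b, hab])
  have hfin : Finite (MaximalSpectrum S) := Finite.of_injective toQ htoQ
  -- idempotents
  have hidem : ∀ n : MaximalSpectrum S, ∃ e : S, IsIdempotentElem e ∧
      ∀ n' : MaximalSpectrum S, (e ∈ n'.asIdeal ↔ n' ≠ n) := by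
    intro n
    obtain ⟨ε, hε⟩ := (PrimeSpectrum.toPiLocalization_bijective (R := S ⧸ J)).2 (Pi.single (toQ n) 1)
    have hε2 : ε * ε = ε := (PrimeSpectrum.toPiLocalization_bijective (R := S ⧸ J)).1 (by
      rw [map_mul, hε, ← Pi.single_mul, one_mul])
    obtain ⟨e₀, rfl⟩ := Ideal.Quotient.mk_surjective ε
    have hd : IsUnit (Ideal.Quotient.mk J ((Polynomial.X ^ 2 - Polynomial.X : Polynomial S).derivative.eval e₀)) := by
      refine IsUnit.of_mul_eq_one (Ideal.Quotient.mk J (2 * e₀ - 1)) ?_
      simp only [Polynomial.derivative_sub, Polynomial.derivative_X_pow, Polynomial.derivative_X,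
        Polynomial.eval_sub, Polynomial.eval_mul, Polynomial.eval_C, Polynomial.eval_pow,
        Polynomial.eval_X, Polynomial.eval_one, map_sub, map_mul, map_one, Nat.cast_ofNat, Nat.add_one_sub_one, pow_one, map_ofNat, Polynomial.eval_ofNat]
      linear_combination (4 : S ⧸ J) * hε2
    obtain ⟨e, he, hee⟩ := HenselianRing.is_henselian (R := S) (I := J) (Polynomial.X ^ 2 - Polynomial.X)
      (Polynomial.monic_X_pow_sub (Polynomial.degree_X_le.trans_lt (by norm_num))) e₀
      (by rw [← Ideal.Quotient.eq_zero_iff_mem]; simp only [Polynomial.eval_sub, Polynomial.eval_pow, Polynomial.eval_X, map_sub, map_pow]; rw [pow_two, hε2, sub_self]) hd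
    have he' : IsIdempotentElem e := by
      have := he
      simp only [Polynomial.IsRoot, Polynomial.eval_sub, Polynomial.eval_pow, Polynomial.eval_X, sub_eq_zero] at this
      rw [pow_two] at this
      exact this
    refine ⟨e, he', fun n' => ?_⟩
    have hmk : Ideal.Quotient.mk J e = Ideal.Quotient.mk J e₀ := Ideal.Quotient.eq.2 hee
    have := (toQ n').isPrime
    rw [← hback n', Ideal.mem_comap, hmk,
      ← IsLocalization.AtPrime.to_map_mem_maximal_iff (Localization.AtPrime (toQ n').asIdeal) (toQ n').asIdeal]
    have h2 : algebraMap (S ⧸ J) (Localization.AtPrime (toQ n').asIdeal) (Ideal.Quotient.mk J e₀) =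
        Pi.single (M := fun i : PrimeSpectrum (S ⧸ J) => Localization.AtPrime i.asIdeal) (toQ n) 1 (toQ n') :=
      congrFun hε (toQ n')
    rw [h2]
    constructor
    · rintro h rfl
      rw [Pi.single_eq_same] at h
      exact (IsLocalRing.maximalIdeal.isMaximal _).ne_top ((Ideal.eq_top_iff_one _).2 h)
    · intro h
      rw [Pi.single_eq_of_ne (fun hh => h (htoQ hh))]
      exact zero_mem _
  choose e he hee using hidem
  have hzero : ∀ x : S, IsIdempotentElem x → (∀ n : MaximalSpectrum S, x ∈ n.asIdeal) → x = 0 := by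
    intro x hx hall
    by_contra hne
    have hu : IsUnit (1 - x) := by
      by_contra hnu
      obtain ⟨P, hP, hxP⟩ := exists_max_ideal_of_mem_nonunits hnu
      exact hP.ne_top ((Ideal.eq_top_iff_one _).2 (by simpa using P.add_mem (hall ⟨P, hP⟩) hxP))
    exact hne (hu.mul_left_eq_zero.1 hx.mul_one_sub_self)
  refine ⟨hfin, ⟨?_, ?_⟩, fun n => ?_⟩
  · intro x y hxy
    rw [← sub_eq_zero]
    refine MaximalSpectrum.toPiLocalization_injective S ?_
    rw [map_zero, map_sub, sub_eq_zero]
    exact hxy
  · intro v
    have := Fintype.ofFinite (MaximalSpectrum S)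
    have h1 : ∀ n : MaximalSpectrum S, ∃ x : S,
        algebraMap S (Localization.AtPrime n.asIdeal) x = v n ∧
        ∀ n' : MaximalSpectrum S, n' ≠ n → algebraMap S (Localization.AtPrime n'.asIdeal) x = 0 := by
      intro n
      obtain ⟨⟨a, s⟩, has⟩ := IsLocalization.surj n.asIdeal.primeCompl (v n)
      have hcop : Ideal.span {(s : S), 1 - e n} = ⊤ := by
        by_contra hne
        obtain ⟨P, hP, hle⟩ := Ideal.exists_le_maximal _ hne
        by_cases hPn : (⟨P, hP⟩ : MaximalSpectrum S) = n
        · exact s.2 ((SetLike.ext_iff.1 (congrArg MaximalSpectrum.asIdeal hPn) _).1 (hle (Ideal.subset_span (Set.mem_insert _ _))))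
        · exact hP.ne_top ((Ideal.eq_top_iff_one _).2 (by
            simpa using P.add_mem (hle (Ideal.subset_span (Set.mem_insert_of_mem _ rfl))) ((hee n ⟨P, hP⟩).2 hPn)))
      obtain ⟨t, u, htu⟩ := Ideal.mem_span_pair.1 (hcop ▸ Submodule.mem_top : (1 : S) ∈ Ideal.span {(s : S), 1 - e n})
      have hone : algebraMap S (Localization.AtPrime n.asIdeal) (e n) = 1 := by
        have hnot : e n ∈ n.asIdeal.primeCompl := fun h => (hee n n).1 h rfl
        have hu := IsLocalization.map_units (Localization.AtPrime n.asIdeal) (⟨e n, hnot⟩ : n.asIdeal.primeCompl)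
        exact (IsIdempotentElem.iff_eq_one_of_isUnit hu).1 ((he n).map _)
      refine ⟨a * t * e n, ?_, fun n' hn' => ?_⟩
      · refine (IsLocalization.map_units (Localization.AtPrime n.asIdeal) s).mul_left_injective ?_
        simp only [has]
        rw [← map_mul, show a * t * e n * (s : S) = a * e n * (1 - u * (1 - e n)) by linear_combination a * e n * htu,
          map_mul, map_mul, map_sub, map_mul, map_sub, map_one, hone]
        ring
      · rw [map_mul]
        have hmem : algebraMap S (Localization.AtPrime n'.asIdeal) (e n) ∈ IsLocalRing.maximalIdeal _ :=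
          (IsLocalization.AtPrime.to_map_mem_maximal_iff _ n'.asIdeal _).2 ((hee n n').2 hn')
        have hu : IsUnit (1 - algebraMap S (Localization.AtPrime n'.asIdeal) (e n)) :=
          IsLocalRing.isUnit_one_sub_self_of_mem_nonunits _ hmem
        rw [hu.mul_left_eq_zero.1 ((he n).map (algebraMap S (Localization.AtPrime n'.asIdeal))).mul_one_sub_self, mul_zero]
    choose x hx hx0 using h1
    refine ⟨∑ n, x n, funext fun n => ?_⟩
    rw [Pi.algebraMap_apply, map_sum, Finset.sum_eq_single n (fun m _ hm => hx0 m n hm.symm) (by simp), hx n]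
  · let A := Localization.AtPrime n.asIdeal
    have hsurj : Function.Surjective (algebraMap S A) := by
      intro y
      obtain ⟨⟨a, s⟩, has⟩ := IsLocalization.surj n.asIdeal.primeCompl y
      have hcop : Ideal.span {(s : S), 1 - e n} = ⊤ := by
        by_contra hne
        obtain ⟨P, hP, hle⟩ := Ideal.exists_le_maximal _ hne
        by_cases hPn : (⟨P, hP⟩ : MaximalSpectrum S) = n
        · exact s.2 ((SetLike.ext_iff.1 (congrArg MaximalSpectrum.asIdeal hPn) _).1 (hle (Ideal.subset_span (Set.mem_insert _ _))))
        · exact hP.ne_top ((Ideal.eq_top_iff_one _).2 (by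
            simpa using P.add_mem (hle (Ideal.subset_span (Set.mem_insert_of_mem _ rfl))) ((hee n ⟨P, hP⟩).2 hPn)))
      obtain ⟨t, u, htu⟩ := Ideal.mem_span_pair.1 (hcop ▸ Submodule.mem_top : (1 : S) ∈ Ideal.span {(s : S), 1 - e n})
      have hnot : e n ∈ n.asIdeal.primeCompl := fun h => (hee n n).1 h rfl
      have hone : algebraMap S A (e n) = 1 := (IsIdempotentElem.iff_eq_one_of_isUnit
        (IsLocalization.map_units A (⟨e n, hnot⟩ : n.asIdeal.primeCompl))).1 ((he n).map _)
      refine ⟨a * t, (IsLocalization.map_units A s).mul_left_injective ?_⟩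
      simp only [has]
      rw [← map_mul, show a * t * (s : S) = a * (1 - u * (1 - e n)) by linear_combination a * htu,
        map_mul, map_sub, map_mul, map_sub, map_one, hone]
      ring
    have : Module.Finite R A :=
      Module.Finite.of_surjective (IsScalarTower.toAlgHom R S A).toLinearMap hsurj
    have hc : IsAdicComplete (𝔪.map (algebraMap R A)) A :=
      (IsAdicComplete.map_algebraMap_iff (I := 𝔪) (S := A) (M := A)).2 (AdicLib.isAdicComplete_of_finite 𝔪 A)
    have hN : IsNoetherianRing A := IsNoetherianRing.of_finite R A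
    have hle : 𝔪.map (algebraMap R A) ≤ IsLocalRing.maximalIdeal A := by
      rw [IsScalarTower.algebraMap_eq R S A, ← Ideal.map_map, Ideal.map_le_iff_le_comap]
      intro z hz
      exact (IsLocalization.AtPrime.to_map_mem_maximal_iff A n.asIdeal z).2 (hJmax _ n.isMaximal hz)
    have hrad : IsLocalRing.maximalIdeal A ≤ (𝔪.map (algebraMap R A)).radical := by
      rw [Ideal.radical_eq_sInf]
      refine le_sInf fun P ⟨hP, hPp⟩ => ?_
      have := hdim (P.comap (algebraMap S A)) inferInstance (by
        rw [← Ideal.map_le_iff_le_comap, Ideal.map_map, ← IsScalarTower.algebraMap_eq]; exact hP)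
      have h2 := Ideal.map_eq_top_or_isMaximal_of_surjective (algebraMap S A) hsurj this
      rw [Ideal.map_comap_of_surjective _ hsurj] at h2
      exact le_of_eq (IsLocalRing.eq_maximalIdeal (h2.resolve_left hPp.ne_top)).symm
    obtain ⟨k, hk⟩ := Ideal.exists_radical_pow_le_of_fg _ (IsNoetherian.noetherian (𝔪.map (algebraMap R A)).radical)
    refine ⟨hN, (AdicLib.iff_of_pow_le (c := 1) (d := k + 1) one_pos k.succ_pos ?_ ?_).1 hc⟩
    · rwa [pow_one]
    · exact (Ideal.pow_le_pow_right (Nat.le_succ k)).trans ((Ideal.pow_right_mono hrad k).trans hk)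


end Groth.Agent.S9405
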