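import Groth.Statements.S8385
import Groth.Agent.S8384
import Groth.Agent.S9405
import Mathlib.AlgebraicGeometry.Limits

set_option autoImplicit false
universe u
open CategoryTheory MonoidalCategory CartesianMonoidalCategory MonObj GrpObj AlgebraicGeometry
open SGA3x

namespace Groth.Agent.S8385

open CategoryTheory.Limits in
/-- Morphisms out of the spectrum of a finite product. -/
theorem exists_desc_pi {κ : Type u} [Finite κ] {R : Type u} [CommRing R] {T : κ → Type u} [∀ i, CommRing (T i)]
    (φ : ∀ i, R →+* T i) (hφ : Function.Bijective (RingHom.pi φ)) {X : Scheme.{u}}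
    (f : ∀ i, Spec (CommRingCat.of (T i)) ⟶ X) :
    ∃! g : Spec (CommRingCat.of R) ⟶ X, ∀ i, Spec.map (CommRingCat.ofHom (φ i)) ≫ g = f i := by
  let e : CommRingCat.of R ≅ CommRingCat.of (∀ i, T i) :=
    (RingEquiv.ofBijective (RingHom.pi φ) hφ).toCommRingCatIso
  let R' : κ → CommRingCat.{u} := fun i => CommRingCat.of (T i)
  let s : (∐ fun i => Spec (R' i)) ⟶ Spec (CommRingCat.of R) := sigmaSpec R' ≫ Spec.map e.hom
  haveI : IsIso s := inferInstanceAs (IsIso (sigmaSpec R' ≫ Spec.map e.hom))
  have hs : ∀ i, Sigma.ι (fun i => Spec (R' i)) i ≫ s = Spec.map (CommRingCat.ofHom (φ i)) := fun i => by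
    show Sigma.ι _ i ≫ sigmaSpec R' ≫ Spec.map e.hom = _
    rw [ι_sigmaSpec_assoc, ← Spec.map_comp]
    rfl
  refine ⟨inv s ≫ Sigma.desc f, fun i => ?_, fun g hg => ?_⟩
  · rw [← hs i, Category.assoc, IsIso.hom_inv_id_assoc, Sigma.ι_desc]
  · rw [IsIso.eq_inv_comp]
    refine Sigma.hom_ext _ _ fun i => ?_
    rw [← Category.assoc, hs, Sigma.ι_desc, hg]

/-- Let A be a complete Noetherian local ring with maximal ideal m, S = Spec A, Sₙ = Spec(A/mⁿ), X =
Spec B a scheme finite over S (B a finite A-algebra) and Y an S-scheme. Then the canonical map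
Hom_S(X, Y) → lim Hom_{Sₙ}(Xₙ, Yₙ), Xₙ = Spec(B/mⁿB), is bijective: two S-morphisms X → Y agreeing
on every Xₙ are equal, and every family of S-morphisms Xₙ → Y compatible with the closed immersions
Xₙ → Xₙ₊₁ comes from an S-morphism X → Y. -/
theorem result (A : Type u) [CommRing A] [IsLocalRing A]
    [IsNoetherianRing A] [IsAdicComplete (IsLocalRing.maximalIdeal A) A] (B : Type u) [CommRing B] [Algebra A B]
    [Module.Finite A B] (Y : Over (Spec (CommRingCat.of A))) :
    (∀ f g : Spec (CommRingCat.of B) ⟶ Y.left, f ≫ Y.hom = Spec.map (CommRingCat.ofHom (algebraMap A B)) →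
      g ≫ Y.hom = Spec.map (CommRingCat.ofHom (algebraMap A B)) →
      (∀ n : ℕ, Spec.map (CommRingCat.ofHom (Ideal.Quotient.mk (Ideal.map (algebraMap A B) ((IsLocalRing.maximalIdeal A) ^ n)))) ≫ f =
        Spec.map (CommRingCat.ofHom (Ideal.Quotient.mk (Ideal.map (algebraMap A B) ((IsLocalRing.maximalIdeal A) ^ n)))) ≫ g) → f = g) ∧
    (∀ u : (n : ℕ) → (Spec (CommRingCat.of (B ⧸ (Ideal.map (algebraMap A B) ((IsLocalRing.maximalIdeal A) ^ n)))) ⟶ Y.left),
      (∀ n : ℕ, u n ≫ Y.hom =
        Spec.map (CommRingCat.ofHom ((Ideal.Quotient.mk (Ideal.map (algebraMap A B) ((IsLocalRing.maximalIdeal A) ^ n))).comp (algebraMap A B)))) →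
      (∀ n : ℕ, Spec.map (CommRingCat.ofHom (Ideal.Quotient.factor
          (Ideal.map_mono (Ideal.pow_le_pow_right (I := (IsLocalRing.maximalIdeal A)) (Nat.le_succ n))))) ≫ u (n + 1) = u n) →
      ∃ f : Spec (CommRingCat.of B) ⟶ Y.left, f ≫ Y.hom = Spec.map (CommRingCat.ofHom (algebraMap A B)) ∧
        ∀ n : ℕ, Spec.map (CommRingCat.ofHom (Ideal.Quotient.mk (Ideal.map (algebraMap A B) ((IsLocalRing.maximalIdeal A) ^ n)))) ≫ f = u n) := by
  classical
  obtain ⟨hfin, hbij, hloc⟩ := Groth.Agent.S9405.result A B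
  let 𝔪 := IsLocalRing.maximalIdeal A
  let L : MaximalSpectrum B → Type u := fun m => Localization.AtPrime m.asIdeal
  let M : ∀ m, Ideal (L m) := fun m => IsLocalRing.maximalIdeal (L m)
  let J : ℕ → Ideal B := fun n => Ideal.map (algebraMap A B) (𝔪 ^ n)
  let φ : ∀ m, B →+* L m := fun m => algebraMap B (L m)
  have hφ : Function.Bijective (RingHom.pi φ) := hbij
  have hcomp : ∀ m, IsAdicComplete (M m) (L m) := fun m => (hloc m).2
  have hJpow : ∀ n, J n = J 1 ^ n := fun n => by simp only [J, pow_one, Ideal.map_pow]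
  have hle : ∀ m n, (J n).map (φ m) ≤ M m ^ n := fun m n => by
    rw [hJpow, Ideal.map_pow]
    refine Ideal.pow_right_mono ?_ n
    simp only [J, pow_one]
    rw [Ideal.map_map, Ideal.map_le_iff_le_comap]
    intro a ha
    refine (IsLocalization.AtPrime.to_map_mem_maximal_iff (L m) m.asIdeal _).2 ?_
    have := Ideal.isMaximal_comap_of_isIntegral_of_isMaximal (R := A) m.asIdeal
    show a ∈ m.asIdeal.comap (algebraMap A B)
    rw [IsLocalRing.eq_maximalIdeal this]
    exact ha
  -- the opposite cofinality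
  have hge : ∀ m n, ∃ k, M m ^ k ≤ (J n).map (φ m) := fun m n => by
    haveI := (hloc m).1
    haveI : Module.Finite A (L m) := Module.Finite.of_surjective (IsScalarTower.toAlgHom A B (L m)).toLinearMap
      fun y => ⟨(hφ.2 (Pi.single m y)).choose, (congrFun (hφ.2 (Pi.single m y)).choose_spec m).trans (Pi.single_eq_same m y)⟩
    have hrad : M m ≤ ((J 1).map (φ m)).radical := by
      rw [Ideal.radical_eq_sInf]
      refine le_sInf fun P ⟨hP, hPp⟩ => ?_
      have h1 : 𝔪 ≤ P.comap (algebraMap A (L m)) := by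
        refine Ideal.map_le_iff_le_comap.1 (le_trans ?_ hP)
        simp only [J, pow_one, φ]
        rw [Ideal.map_map, ← IsScalarTower.algebraMap_eq]
      have h2 : P.IsMaximal := Ideal.isMaximal_of_isIntegral_of_isMaximal_comap (R := A) P
        (((IsLocalRing.maximalIdeal.isMaximal A).eq_of_le (Ideal.IsPrime.comap _).ne_top h1) ▸
          IsLocalRing.maximalIdeal.isMaximal A)
      exact le_of_eq (IsLocalRing.eq_maximalIdeal h2).symm
    obtain ⟨k, hk⟩ := Ideal.exists_radical_pow_le_of_fg _ (IsNoetherian.noetherian ((J 1).map (φ m)).radical)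
    refine ⟨k * n, ?_⟩
    rw [hJpow n, Ideal.map_pow, pow_mul]
    exact Ideal.pow_right_mono ((Ideal.pow_right_mono hrad k).trans hk) n
  -- the reduction of `Spec B` to the local factors
  have hres : ∀ m n, ∃ ρ : B ⧸ J n →+* L m ⧸ M m ^ n,
      ρ.comp (Ideal.Quotient.mk (J n)) = (Ideal.Quotient.mk (M m ^ n)).comp (φ m) := fun m n =>
    ⟨Ideal.quotientMap (M m ^ n) (φ m) (Ideal.map_le_iff_le_comap.mp (hle m n)), rfl⟩
  choose ρ hρ using hres
  refine ⟨fun f g _ _ hfg => ?_, fun u hu hcompat => ?_⟩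
  · refine ((exists_desc_pi φ hφ (fun m => Spec.map (CommRingCat.ofHom (φ m)) ≫ g)).unique (y₁ := f) (y₂ := g)
      (fun m => ?_) fun m => rfl)
    haveI := hcomp m
    refine (Groth.Agent.S8384.result (L m) Y.left).1 _ _ fun n => ?_
    have e : (Ideal.Quotient.mk (M m ^ n)).comp (φ m) = (ρ m n).comp (Ideal.Quotient.mk (J n)) := (hρ m n).symm
    simp only [← Category.assoc, ← Spec.map_comp, ← CommRingCat.ofHom_comp]
    erw [e]
    simp only [CommRingCat.ofHom_comp, Spec.map_comp, Category.assoc]
    exact congrArg (Spec.map (CommRingCat.ofHom (ρ m n)) ≫ ·) (hfg n)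
  · have hu' : ∀ {a b : ℕ} (h : a ≤ b), Spec.map (CommRingCat.ofHom (Ideal.Quotient.factor
        (Ideal.map_mono (f := algebraMap A B) (Ideal.pow_le_pow_right (I := 𝔪) h)))) ≫ u b = u a := fun {a b} h => by
      induction b, h using Nat.le_induction with
      | base =>
        convert Category.id_comp (u a)
        rw [← Spec.map_id]
        congr 1
        ext x
        rfl
      | succ b h ih =>
        rw [← ih]
        refine Eq.trans ?_ (congrArg _ (hcompat b))
        rw [← Category.assoc, ← Spec.map_comp, ← CommRingCat.ofHom_comp, Ideal.Quotient.factor_comp]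
    have hw : ∀ m, ∃ fm : Spec (CommRingCat.of (L m)) ⟶ Y.left,
        ∀ n, Spec.map (CommRingCat.ofHom (Ideal.Quotient.mk (M m ^ n))) ≫ fm =
          Spec.map (CommRingCat.ofHom (ρ m n)) ≫ u n := fun m => by
      haveI := hcomp m
      refine (Groth.Agent.S8384.result (L m) Y.left).2 _ fun n => ?_
      rw [← hcompat n]
      simp only [← Category.assoc, ← Spec.map_comp, ← CommRingCat.ofHom_comp]
      refine congrArg (fun χ => Spec.map (CommRingCat.ofHom χ) ≫ u (n + 1)) ?_
      refine Ideal.Quotient.ringHom_ext ?_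
      rw [RingHom.comp_assoc, RingHom.comp_assoc, Ideal.Quotient.factor_comp_mk, hρ m n, hρ m (n + 1),
        ← RingHom.comp_assoc, Ideal.Quotient.factor_comp_mk]
    choose fm hfm using hw
    obtain ⟨f, hf, -⟩ := exists_desc_pi φ hφ fm
    have hfn : ∀ n, Spec.map (CommRingCat.ofHom (Ideal.Quotient.mk (J n))) ≫ f = u n := fun n => by
      let ψ : ∀ m, B ⧸ J n →+* L m ⧸ (J n).map (φ m) := fun m =>
        Ideal.quotientMap ((J n).map (φ m)) (φ m) Ideal.le_comap_map
      have hψ : ∀ m, (ψ m).comp (Ideal.Quotient.mk (J n)) = (Ideal.Quotient.mk _).comp (φ m) := fun m => rfl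
      have hψb : Function.Bijective (RingHom.pi ψ) := by
        haveI := Fintype.ofFinite (MaximalSpectrum B)
        refine ⟨(injective_iff_map_eq_zero _).mpr fun z hz => ?_, fun v => ?_⟩
        · obtain ⟨x, rfl⟩ := Ideal.Quotient.mk_surjective z
          have hx : ∀ m, φ m x ∈ (J n).map (φ m) := fun m => Ideal.Quotient.eq_zero_iff_mem.mp (congrFun hz m)
          have hsurj : ∀ m, Function.Surjective (φ m) := fun m y =>
            ⟨(hφ.2 (Pi.single m y)).choose, (congrFun (hφ.2 (Pi.single m y)).choose_spec m).trans (Pi.single_eq_same m y)⟩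
          choose j hj hjx using fun m => (Ideal.mem_map_iff_of_surjective _ (hsurj m)).mp (hx m)
          choose ε hε using fun m => hφ.2 (Pi.single m 1)
          refine Ideal.Quotient.eq_zero_iff_mem.mpr ?_
          have : x = ∑ m, ε m * j m := hφ.1 (funext fun m => by
            show φ m x = φ m (∑ m', ε m' * j m')
            rw [map_sum, Finset.sum_eq_single m (fun m' _ hne => ?_) (by simp), map_mul, hjx,
              show φ m (ε m) = 1 from (congrFun (hε m) m).trans (Pi.single_eq_same m 1), _root_.one_mul]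
            rw [map_mul, show φ m (ε m') = 0 from (congrFun (hε m') m).trans (Pi.single_eq_of_ne hne.symm 1), zero_mul])
          rw [this]
          exact Ideal.sum_mem _ fun m _ => Ideal.mul_mem_left _ _ (hj m)
        · choose w hw using fun m => Ideal.Quotient.mk_surjective (v m)
          obtain ⟨x, hx⟩ := hφ.2 w
          exact ⟨Ideal.Quotient.mk _ x, funext fun m =>
            (congrArg (Ideal.Quotient.mk ((J n).map (φ m))) (congrFun hx m)).trans (hw m)⟩
      refine (exists_desc_pi ψ hψb (fun m => Spec.map (CommRingCat.ofHom (ψ m)) ≫ u n)).unique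
        (fun m => ?_) fun m => rfl
      obtain ⟨k, hk⟩ := hge m n
      have hk' : M m ^ max k n ≤ (J n).map (φ m) := (Ideal.pow_le_pow_right (le_max_left k n)).trans hk
      rw [← hu' (le_max_right k n)]
      simp only [← Category.assoc, ← Spec.map_comp, ← CommRingCat.ofHom_comp]
      rw [hψ, show (Ideal.Quotient.mk ((J n).map (φ m))).comp (φ m) =
          ((Ideal.Quotient.factor hk').comp (Ideal.Quotient.mk (M m ^ max k n))).comp (φ m) by
          rw [Ideal.Quotient.factor_comp_mk]]
      simp only [CommRingCat.ofHom_comp, Spec.map_comp, Category.assoc, hf, hfm]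
      simp only [← Category.assoc, ← Spec.map_comp, ← CommRingCat.ofHom_comp]
      refine congrArg (fun χ => Spec.map (CommRingCat.ofHom χ) ≫ u (max k n)) (Ideal.Quotient.ringHom_ext ?_)
      rw [RingHom.comp_assoc, RingHom.comp_assoc, Ideal.Quotient.factor_comp_mk, hρ, hψ, ← RingHom.comp_assoc,
        Ideal.Quotient.factor_comp_mk]
    refine ⟨f, ?_, hfn⟩
    obtain ⟨f', hf', huniq⟩ := exists_desc_pi φ hφ
      (fun m => Spec.map (CommRingCat.ofHom (φ m)) ≫ Spec.map (CommRingCat.ofHom (algebraMap A B)))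
    refine (huniq _ fun m => ?_).trans (huniq _ fun m => rfl).symm
    haveI := hcomp m
    rw [← Category.assoc, hf]
    refine (Groth.Agent.S8384.result (L m) _).1 _ _ fun n => ?_
    rw [← Category.assoc, hfm, Category.assoc, hu]
    simp only [← Category.assoc, ← Spec.map_comp, ← CommRingCat.ofHom_comp]
    rw [← RingHom.comp_assoc, hρ, RingHom.comp_assoc]

end Groth.Agent.S8385
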