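import Groth.Statements.S10631
import Groth.Agent.AlgSpLib.InfSpace

set_option backward.isDefEq.respectTransparency false
set_option backward.isDefEq.respectTransparency.types false
-- import your own Groth.Agent.* helpers here

set_option autoImplicit false
universe u
open CategoryTheory CategoryTheory.Limits AlgebraicGeometry
open AlgSp

namespace Groth.Agent.S10631

/-- Consider morphisms Z ⟶ Y ⟶ X of algebraic spaces over S. If (i : Z ⟶ Z', h' : Z' ⟶ Y) is, over Y, a
universal first order thickening of Z and g : Y ⟶ X is formally etale, then (i, h' ≫ g) is, over X,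
a universal first order thickening of Z. -/
theorem result {S : Scheme.{u}} {Z Z' Y X : AlgSp.Space S} (hZ : Z ⟶ Y) (g : Y ⟶ X)
    (i : Z ⟶ Z') (h' : Z' ⟶ Y) (HU : AlgSp.IsUnivFOThick hZ.hom i.hom h'.hom) (hg : AlgSp.IsFormallyEtaleMor g.hom) :
    AlgSp.IsUnivFOThick (hZ ≫ g).hom i.hom (h' ≫ g).hom := by
  refine ⟨HU.1, by rw [ObjectProperty.FullSubcategory.comp_hom, ← Category.assoc, HU.2.1]; rfl, ?_⟩
  intro T T' hT hT' j a b hj hw
  obtain ⟨c, ⟨hc₁, hc₂⟩, hc⟩ := AlgSpLib.existsUnique_lift_of_formallyEtale hg hT' hj (a ≫ hZ.hom) b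
    ((Category.assoc _ _ _).trans hw.symm)
  obtain ⟨a', ⟨h₁, h₂⟩, ha'⟩ := HU.2.2 hT hT' j a c hj hc₁
  refine ⟨a', ⟨h₁, ?_⟩, fun y hy => ha' y ⟨hy.1, hc (y ≫ h'.hom) ⟨?_, (Category.assoc _ _ _).trans hy.2⟩⟩⟩
  · exact (Category.assoc _ _ _).symm.trans ((congrArg (· ≫ g.hom) h₂).trans hc₂)
  · rw [← Category.assoc, hy.1, Category.assoc, HU.2.1]
end Groth.Agent.S10631
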