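import Groth.Statements.S4647
import Groth.Agent.SchTop.Closed

set_option autoImplicit false
open CategoryTheory AlgebraicGeometry
universe u
open FDesc

namespace Groth.Agent.S4647

/-- Let f : X → Y be a faithfully flat (flat and surjective) morphism. If all local rings of X are
domains (in particular if X is locally integral) and the underlying space of Y is locally
Noetherian, then Y is locally integral: every point of Y has an open neighbourhood which is an
integral scheme. -/
theorem result {X Y : Scheme.{u}} (f : X ⟶ Y) [Flat f] [Surjective f]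
    (hX : ∀ x : X, IsDomain ↑(X.presheaf.stalk x))
    (hY : ∀ y : Y, ∃ U : Y.Opens, y ∈ U ∧ TopologicalSpace.NoetherianSpace ↥U) (y : Y) :
    ∃ U : Y.Opens, y ∈ U ∧ IsIntegral (U : Scheme.{u}) := by
  obtain ⟨U, hyU, hU⟩ := hY y
  haveI : ∀ z : Y, IsDomain (Y.presheaf.stalk z) := fun z => by
    obtain ⟨x, rfl⟩ := f.surjective z
    letI := (f.stalkMap x).hom.toAlgebra
    haveI : Module.FaithfullyFlat (Y.presheaf.stalk (f x)) (X.presheaf.stalk x) :=
      @Module.FaithfullyFlat.of_flat_of_isLocalHom _ _ _ _ _ _ _ (Flat.stalkMap f x) (f.toLRSHom.prop x)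
    haveI := hX x
    exact (FaithfulSMul.algebraMap_injective (Y.presheaf.stalk (f x)) (X.presheaf.stalk x)).isDomain _
  have hdom : ∀ z : (U : Scheme.{u}), IsDomain ((U : Scheme.{u}).presheaf.stalk z) := fun z =>
    (MulEquiv.isDomain_iff (asIso (U.ι.stalkMap z)).commRingCatIsoToRingEquiv.toMulEquiv).1 inferInstance
  haveI : TopologicalSpace.NoetherianSpace ↥(U : Scheme.{u}) := hU
  let z : (U : Scheme.{u}) := ⟨y, hyU⟩
  have hZ := irreducibleComponent_mem_irreducibleComponents z
  let O : (U : Scheme.{u}).Opens := ⟨irreducibleComponent z, SchTop.isOpen_component_of_finite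
    TopologicalSpace.NoetherianSpace.finite_irreducibleComponents hdom hZ⟩
  refine ⟨U.ι ''ᵁ O, ⟨z, mem_irreducibleComponent, rfl⟩, ?_⟩
  haveI : ∀ t : ↥((U.ι ''ᵁ O : Y.Opens) : Scheme.{u}), _root_.IsReduced (((U.ι ''ᵁ O : Y.Opens) : Scheme.{u}).presheaf.stalk t) := fun t => by
    haveI := (MulEquiv.isDomain_iff (asIso ((U.ι ''ᵁ O).ι.stalkMap t)).commRingCatIsoToRingEquiv.toMulEquiv).1 inferInstance
    infer_instance
  refine (isIntegral_iff_irreducibleSpace_and_isReduced _).mpr ⟨?_, isReduced_of_isReduced_stalk _⟩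
  exact Subtype.irreducibleSpace (isIrreducible_irreducibleComponent.image _ U.ι.continuous.continuousOn)

end Groth.Agent.S4647
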