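import Groth.Statements.S17139
import Groth.Agent.IsocLib.Slopes
-- import your own Groth.Agent.* helpers here

set_option autoImplicit false
universe u v
open Isoc

namespace Groth.Agent.S17139

/-- Let k be a perfect field of characteristic p, a ∈ ℤ, and (N, F) a non-zero σ^a-F-isocrystal over k
of height h, with b an L-basis of N indexed by Fin h and d the p-adic order of the determinant
coefficient of F in the basis b. If M is a W(k)-lattice in N and r ∈ ℤ, s > 0 satisfy F^s(M) = p^r ·
M, then the first Newton slope λ₁(N, F) equals r/s, and r · h = s · d. (The published statement adds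
that F^h(M) = p^d · M for the same lattice M; that clause is not established by the published proof
and fails when gcd(r, s) ≠ 1 — for a = 0, N = L², M = W², F with matrix rows (p, 1), (0, p) and p
odd one has F^p(M) = p^p · M, h = d = 2, but F²(M) ≠ p² · M — so it is omitted here; the converse
direction is a separate statement.) -/
theorem result (p : ℕ) [Fact p.Prime] (k : Type u) [Field k] [CharP k p] [PerfectRing k p] (a : ℤ)
    (N : Type v) [AddCommGroup N] [Module (WittVector p k) N] [Module (FractionRing (WittVector p k)) N]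
    [IsScalarTower (WittVector p k) (FractionRing (WittVector p k)) N]
    [Nontrivial N] (F : N →ₛₗ[Isoc.frob p k a] N) (hF : Isoc.IsIsoc F)
    (h : ℕ) (b : Module.Basis (Fin h) (FractionRing (WittVector p k)) N)
    (d : ℤ) (hd : Isoc.IsOrdP (Isoc.detCoeff b F) d)
    (M : Submodule (WittVector p k) N) (hM : M.IsLattice (FractionRing (WittVector p k)))
    (r : ℤ) (s : ℕ) (hs : 0 < s) (hFM : Isoc.latImg F s M = Isoc.pPow r M) :
    Isoc.IsFirstSlope F ((r : ℝ) / s) ∧ r * h = s * d := by
    have hτ := IsocLib.good_frob (p := p) (k := k) a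
    have hdet : (h : ℤ) * r = s * d := IsocLib.det_eq_of_eq hτ F b hd hM hFM
    refine ⟨?_, by rw [← hdet, mul_comm]⟩
    obtain ⟨o, ho⟩ := IsocLib.exists_ord_fun F hF hτ hM
    obtain ⟨lam, hlim⟩ := IsocLib.exists_tendsto F hF hτ hM o fun n _ => ho n
    refine ⟨M, hM, o, fun n _ => ho n, ?_⟩
    suffices he : (r : ℝ) / s = lam by rwa [he]
    refine tendsto_nhds_unique ?_ (hlim.comp
      (Filter.Tendsto.const_mul_atTop' hs Filter.tendsto_id : Filter.Tendsto (fun q : ℕ => s * q) Filter.atTop Filter.atTop))
    refine Filter.Tendsto.congr' ?_ (tendsto_const_nhds (x := (r : ℝ) / s))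
    filter_upwards [Filter.eventually_ge_atTop 1] with q hq
    have h1 : o (s * q) = r * q :=
      IsocLib.isOrd_unique F (ho _) (IsocLib.isOrd_of_eq F hM (IsocLib.eq_iterate F hτ hFM q))
    have hq' : (q : ℝ) ≠ 0 := Nat.cast_ne_zero.2 (by omega)
    simp only [Function.comp_apply, h1, Int.cast_mul, Int.cast_natCast, Nat.cast_mul]
    exact (mul_div_mul_right _ _ hq').symm

end Groth.Agent.S17139
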