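import Groth.Statements.S17153
import Groth.Agent.IsocLib.Isoclinic
import Mathlib.Logic.Equiv.Fin.Rotate
-- import your own Groth.Agent.* helpers here

set_option autoImplicit false
universe u
open Isoc

namespace Groth.Agent.S17153

/-- Let k be a perfect field of characteristic p, W = W(k), L its fraction field, a ∈ ℤ, and λ = d/h
with h > 0 and gcd(d, h) = 1. The standard σ^a-F-isocrystal N_λ of slope λ — the space L^h with the
σ^a-semilinear F determined by F e_i = e_{i+1} (i + 1 < h) and F e_{h−1} = p^d · e_0 — is a simple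
isocrystal: an L-subspace of L^h carried into itself by F is either 0 or everything. (The source
introduces N_λ for a ≠ 0 only; the simplicity argument, via sub-isocrystals of an isoclinic
isocrystal having the same slope, does not use that restriction, and the statement is made for all
a.) -/
theorem result (p : ℕ) [Fact p.Prime] (k : Type u) [Field k] [CharP k p] [PerfectRing k p]
    (a : ℤ) (d : ℤ) (h : ℕ) (hh : 0 < h) (hdh : Int.gcd d h = 1)
    (P : Submodule (FractionRing (WittVector p k)) (Fin h → (FractionRing (WittVector p k))))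
    (hP : ∀ x ∈ P, Isoc.stdIsoc (Isoc.frob p k a) d h x ∈ P) : P = ⊥ ∨ P = ⊤ := by
    have hτ := IsocLib.good_frob (p := p) (k := k) a
    set τ := Isoc.frob p k a
    set F := Isoc.stdIsoc τ d h with hFdef
    let K := FractionRing (WittVector p k)
    have hsucc : ∀ (x : Fin h → K) (i : ℕ) (hi : i + 1 < h), F x ⟨i + 1, hi⟩ = τ (x ⟨i, by omega⟩) := by
      intro x i hi
      rw [hFdef, Isoc.stdIsoc_apply, if_neg (Nat.succ_ne_zero i), one_mul]
      congr 2
      rw [Equiv.symm_apply_eq]
      obtain ⟨n, rfl⟩ : ∃ n, h = n + 1 := ⟨h - 1, by omega⟩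
      rw [finRotate_of_lt (by omega : i < n)]
    have hzero : ∀ (x : Fin h → K), F x ⟨0, hh⟩ = (p : K) ^ d * τ (x ⟨h - 1, by omega⟩) := by
      intro x
      rw [hFdef, Isoc.stdIsoc_apply, if_pos rfl]
      congr 3
      rw [Equiv.symm_apply_eq]
      obtain ⟨n, rfl⟩ : ∃ n, h = n + 1 := ⟨h - 1, by omega⟩
      exact finRotate_last'.symm
    have hform : ∀ j, j ≤ h → ∀ (x : Fin h → K) (i : Fin h), (⇑F)^[j] x i =
        (if (i : ℕ) < j then (p : K) ^ d else 1) *
          (⇑τ)^[j] (x ⟨if (i : ℕ) < j then i + h - j else i - j, by split <;> omega⟩) := by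
      intro j
      induction j with
      | zero => intro _ x i; simp
      | succ j ih =>
        intro hj x i
        rw [Function.iterate_succ_apply']
        rcases i with ⟨_ | i, hi⟩
        · rw [hzero, ih (by omega), if_pos (Nat.succ_pos j)]
          simp only [show ¬ (h - 1 < j) by omega, if_false, if_true, Nat.succ_pos j, one_mul, Function.iterate_succ_apply']
          congr 4
          ext
          simp only
          omega
        · rw [hsucc, ih (by omega), map_mul, Function.iterate_succ_apply']
          simp only [Nat.add_lt_add_iff_right, apply_ite τ, map_one, map_zpow₀, map_natCast]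
          congr 4
          ext
          simp only
          split <;> omega
    have hFh : ∀ (x : Fin h → K) (i : Fin h), (⇑F)^[h] x i = (p : K) ^ d * (⇑τ)^[h] (x i) := by
      intro x i
      rw [hform h le_rfl, if_pos i.2]
      congr 3
      ext
      simp [i.2]
    have hF : Isoc.IsIsoc F := by
      refine ⟨inferInstance, fun x y hxy => funext fun i => hτ.bij.1 ?_, fun y => ?_⟩
      · have := congrFun hxy (finRotate h i)
        rw [hFdef, Isoc.stdIsoc_apply, Isoc.stdIsoc_apply, Equiv.symm_apply_apply] at this
        refine mul_left_cancel₀ ?_ this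
        split
        · exact IsocLib.zpow_ne d
        · exact one_ne_zero
      · choose z hz using fun i : Fin h => hτ.bij.2 (y i * (if (i : ℕ) = 0 then (p : K) ^ d else 1)⁻¹)
        refine ⟨fun i => z (finRotate h i), funext fun i => ?_⟩
        rw [hFdef, Isoc.stdIsoc_apply, Equiv.apply_symm_apply, hz, mul_comm (y i), ← mul_assoc, mul_inv_cancel₀, one_mul]
        split
        · exact IsocLib.zpow_ne d
        · exact one_ne_zero
    let b := Pi.basisFun K (Fin h)
    have hlat : IsocLib.IsoclinicOn F ⊤ ((d : ℚ) / h) := by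
      refine ⟨Submodule.span (WittVector p k) (Set.range b), Submodule.fg_span (Set.finite_range _),
        by rw [Submodule.span_span_of_tower, b.span_eq], d, h, hh, rfl, ?_⟩
      have hb : ∀ i, (⇑F)^[h] (b i) = (p : K) ^ d • b i := by
        intro i
        funext l
        rw [hFh, Pi.smul_apply, smul_eq_mul, Pi.basisFun_apply, Pi.single_apply, apply_ite (⇑τ)^[h], iterate_map_one,
          iterate_map_zero]
      refine le_antisymm ((IsocLib.latImg_le_iff F).2 fun m hm => ?_) ((IsocLib.pPow_le_iff d).2 (Submodule.span_le.2 ?_))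
      · induction hm using Submodule.span_induction with
        | mem y hy => obtain ⟨i, rfl⟩ := hy; rw [hb]; exact IsocLib.smul_mem_pPow (Submodule.subset_span ⟨i, rfl⟩)
        | zero => rw [iterate_map_zero]; exact zero_mem _
        | add y z _ _ hy hz => rw [iterate_map_add]; exact add_mem hy hz
        | smul w y _ hy =>
          obtain ⟨w', hw'⟩ := (hτ.pow h).intW w
          rw [IsocLib.smul_eq_algebraMap w, IsocLib.iterate_smul, hw', ← IsocLib.smul_eq_algebraMap]
          exact Submodule.smul_mem _ _ hy
      · rintro _ ⟨i, rfl⟩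
        rw [SetLike.mem_coe, IsocLib.mem_pPow, neg_neg, ← hb]
        exact IsocLib.mem_latImg_of_mem F (Submodule.subset_span ⟨i, rfl⟩)
    obtain ⟨M, hM, r, s, hs, hr, he⟩ :=
      (IsocLib.isIsoclinic_restrict_iff F hP _).2 (IsocLib.isoclinicOn_inf F hF hτ hP le_top hlat)
    have hFP := IsocLib.isIsoc_restrict F hF hτ hP
    set h' := Module.finrank K P
    let bP := Module.finBasis K P
    obtain ⟨d', hd'⟩ := IsocLib.ordP_exists (IsocLib.detCoeff_ne_zero hτ bP (F.restrict hP) hFP.bijective.1)
    have h1 : (h' : ℤ) * r = s * d' := IsocLib.det_eq_of_eq hτ (F.restrict hP) bP hd' hM he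
    have h2 : r * (h : ℤ) = d * s := by
      have := (IsocLib.common_slope hs hh).1.2 hr
      exact this
    have h3 : (h : ℤ) * d' = h' * d := by
      refine mul_left_cancel₀ (Int.natCast_ne_zero.2 hs.ne') ?_
      linear_combination (h' : ℤ) * h2 - (h : ℤ) * h1
    have h4 : (h : ℤ) ∣ (h' : ℤ) := by
      refine Int.dvd_of_dvd_mul_left_of_gcd_one (b := (h' : ℤ)) (c := d) ⟨d', h3.symm⟩ ?_
      rw [Int.gcd_comm]; exact hdh
    have h5 : h' ≤ h := by
      have := Submodule.finrank_le P
      simpa [K] using this
    rcases Nat.eq_zero_or_pos h' with h6 | h6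
    · exact Or.inl (Submodule.finrank_eq_zero.1 h6)
    · refine Or.inr (Submodule.eq_top_of_finrank_eq ?_)
      have h7 : h ≤ h' := Nat.le_of_dvd h6 (Int.natCast_dvd_natCast.1 h4)
      change h' = _
      rw [Module.finrank_fintype_fun_eq_card, Fintype.card_fin]
      omega

end Groth.Agent.S17153
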