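import Groth.Statements.S5766
import Groth.Agent.EGA41Lib.IntDim

set_option autoImplicit false
universe u
open EGA41

namespace Groth.Agent.S5766

/-- Let A be a Noetherian ring, ρ : A → B a ring homomorphism and M a B-module which is finitely
generated as an A-module via ρ. Then the dimension of M as an A-module equals its dimension as a
B-module. -/
theorem result (A B : Type u) [CommRing A] [CommRing B] [IsNoetherianRing A]
    [Algebra A B] (M : Type u) [AddCommGroup M] [Module B M] [Module A M] [IsScalarTower A B M]
    [Module.Finite A M] : Module.supportDim A M = Module.supportDim B M := by
  exact EGA41Lib.supportDim_eq_of_finite M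

end Groth.Agent.S5766
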