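import Groth.Statements.S3676
import Groth.Agent.KExact.AdjTensorMain
import Groth.Agent.KFlatLib.Scheme.PerfMorTor
-- import your own Groth.Agent.* helpers here

set_option autoImplicit false
set_option linter.style.haveILetI false
set_option backward.isDefEq.respectTransparency false
set_option backward.isDefEq.respectTransparency.types false

universe u
open CategoryTheory CategoryTheory.Limits AlgebraicGeometry
attribute [local instance] HasDerivedCategory.standard
open Dual3

namespace Groth.Agent.S3676

set_option linter.style.haveILetI false
set_option backward.isDefEq.respectTransparency false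
set_option backward.isDefEq.respectTransparency.types false
open Groth.Agent.KFlatLib


/-- Let X and Y be Noetherian schemes and f : X → Y a proper morphism that is perfect. Assume the
derived direct image Rf_* exists and preserves quasi-coherence of cohomology sheaves (both known
results), so that it restricts to a functor D_QCoh(O_X) → D_QCoh(O_Y), and let a : D_QCoh(O_Y) →
D_QCoh(O_X) be a right adjoint of this restricted functor. Let O be an object of D_QCoh(O_Y)
isomorphic to the structure sheaf placed in degree 0, E a complex of O_X-modules representing a(O)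
with − ⊗^L E assumed to exist, and Lf^* the derived pullback (assumed to exist). Then a ≅ Lf^*(−)
⊗^L a(O) as functors D_QCoh(O_Y) → D(O_X). -/
theorem result (X Y : Scheme.{u}) [IsNoetherian X] [IsNoetherian Y] (f : X ⟶ Y) [IsProper f] (hperf : MoreMor.IsPerfectMor f) [DCoh.HasRpush f] (hf : DCoh.RpushPreservesQCoh f) (a : DCoh.DQCoh Y ⥤ DCoh.DQCoh X) (adj : DCoh.RpushQ f hf ⊣ a) (O : DCoh.DQCoh Y) (hO : Nonempty (O.obj ≅ DCoh.inD Y (Coh.structureModule Y))) [DCoh.HasLpull f] (E : CochainComplex X.Modules ℤ) (hE : Nonempty (DCoh.toD X E ≅ (a.obj O).obj)) [DCoh.HasLTensorCx E] : Nonempty (a ⋙ ObjectProperty.ι _ ≅ ObjectProperty.ι _ ⋙ DCoh.Lpull f ⋙ DCoh.LTensorCx E) := by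
  haveI := BCLoc.rpushQ_additive f hf
  haveI : ∀ J : Type u, PreservesColimitsOfShape (Discrete J) a :=
    AdjCoprod.preservesCoproducts_rightAdjoint adj fun P hP => PerfMorTor.locSP_rpush_of_perfMor f hperf hP
  exact KExact.AdjTensor.nonempty_rightAdjoint_iso f adj O hO E hE
end Groth.Agent.S3676
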