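import Groth.Statements.S17641
import Groth.Agent.H9Misc.QCohHull
import Groth.Agent.KFlatLib.Scheme.Grothendieck
-- import your own Groth.Agent.* helpers here

set_option autoImplicit false
set_option linter.style.haveILetI false
set_option backward.isDefEq.respectTransparency false
set_option backward.isDefEq.respectTransparency.types false

universe u
open CategoryTheory CategoryTheory.Limits AlgebraicGeometry
attribute [local instance] HasDerivedCategory.standard
open DCoh

namespace Groth.Agent.S17641

/-- Let X be a Noetherian scheme, j : U ⟶ X an open immersion with closed complement Z = X ∖ j(U), and I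
a quasi-coherent O_X-module which is injective as an O_X-module. Then Γ_Z(I), the kernel of I ⟶
j_*(I|_U) (the subsheaf of sections supported in Z), is an injective O_X-module. (Injectivity is
taken in the category of all O_X-modules; on a Noetherian scheme a quasi-coherent module is
injective there exactly when it is injective among quasi-coherent modules. The published statement
works with the functor of sections killed by some power of a defining ideal, which agrees with Γ_Z
on quasi-coherent modules over a Noetherian scheme.) -/
theorem result {U X : Scheme.{u}} [IsNoetherian X]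
    (j : U ⟶ X) [IsOpenImmersion j] (I : X.Modules) (hI : Coh.IsQCoh I) [Injective I] :
    Injective ((DCoh.gammaZ j).obj I) := by
  haveI : IsGrothendieckAbelian.{u} X.Modules := inferInstance
  let R := Scheme.Modules.restrictFunctor j
  let η := (Scheme.Modules.restrictAdjunction j).unit
  let i : kernel (η.app I) ⟶ I := kernel.ι _
  obtain ⟨E, b, e, hbe, he, hb, hess, hE⟩ := H9Misc.AbHull.exists_hull i
  haveI := hb
  haveI := he
  have hK : IsZero (R.obj (kernel (η.app I))) := by
    haveI : Mono (R.map i) := inferInstance
    refine IsZero.of_mono_eq_zero (R.map i) ?_
    have h1 : R.map i ≫ R.map (η.app I) = 0 := by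
      rw [← R.map_comp, kernel.condition, R.map_zero]
    have h2 := (Scheme.Modules.restrictAdjunction j).left_triangle_components I
    rw [← Category.comp_id (R.map i), ← h2, reassoc_of% h1, zero_comp]
  have hEz : IsZero (R.obj E) := by
    haveI : Mono (R.map b ≫ (0 : R.obj E ⟶ R.obj E)) :=
      Preadditive.mono_of_cancel_zero _ fun g _ => hK.eq_of_tgt g 0
    haveI := H9Misc.QCohHull.isEss_restrict j b hess (0 : R.obj E ⟶ R.obj E) inferInstance
    exact IsZero.of_mono_eq_zero (0 : R.obj E ⟶ R.obj E) rfl
  have h0 : e ≫ η.app I = 0 := by
    refine ((Scheme.Modules.restrictAdjunction j).homEquiv E _).symm.injective ?_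
    exact hEz.eq_of_src _ _
  let s : E ⟶ kernel (η.app I) := kernel.lift _ e h0
  have hs : b ≫ s = 𝟙 _ := by
    rw [← cancel_mono i, Category.assoc, kernel.lift_ι, hbe, Category.id_comp]
  haveI := hE
  exact ({ i := b, r := s, retract := hs } : Retract _ E).injective
end Groth.Agent.S17641
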