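import Groth.Statements.S0369
import Groth.Agent.KFlatLib.Ring.DualizingBottom
-- import your own Groth.Agent.* helpers here

set_option autoImplicit false
universe u v
open CategoryTheory
attribute [local instance] HasDerivedCategory.standard
open Dual

namespace Groth.Agent.S0369

/-- For a Noetherian local ring of dimension d with normalized dualizing complex ω, the module ω_A =
H^{−d}(ω) has support equal to the union of those irreducible components of Spec A whose dimension
is d, and satisfies Serre's condition (S_2). -/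
theorem result (A : Type u) [CommRing A] [IsLocalRing A] [IsNoetherianRing A] (ω : Dual.D A) (hω : Dual.IsDualizing A ω) (hn : Dual.IsNormalized A ω) (d : ℕ) (hd : ringKrullDim A = d) : Module.support A (Dual.HD A ω (-(d : ℤ))) = {p : PrimeSpectrum A | ∃ q ∈ minimalPrimes A, q ≤ p.asIdeal ∧ ringKrullDim (A ⧸ q) = d} ∧ LocCoh.HasSk 2 A (Dual.HD A ω (-(d : ℤ))) := by
  classical
  obtain ⟨n, hdeg, -, hmono, -, hdim⟩ := KFlatLib.exists_normalized_degree hω hn
  obtain ⟨a, b, -, _, _⟩ := KFlatLib.exists_bounds_of_isDualizing hω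
  have hlow : ∀ P : PrimeSpectrum A, -(d : ℤ) ≤ n P := by
    intro P
    obtain ⟨e, he, he'⟩ := hdim P
    have h1 : ringKrullDim (A ⧸ P.asIdeal) ≤ ringKrullDim A :=
      ringKrullDim_le_of_surjective (Ideal.Quotient.mk P.asIdeal) Ideal.Quotient.mk_surjective
    rw [he, hd] at h1
    have : e ≤ d := by exact_mod_cast h1
    omega
  obtain ⟨eW⟩ := KFlatLib.exists_homRingLEquiv ω (-(d : ℤ))
  haveI : Module.Finite A (Dual.HD A ω (-(d : ℤ))) := hω.finite_cohomology _
  have hA : ∀ p : PrimeSpectrum A, p ∈ Module.support A A := fun p => by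
    rw [Module.support_eq_zeroLocus, Module.annihilator_eq_bot.2 inferInstance]
    simp
  have hdimloc : ∀ p : PrimeSpectrum A, ∃ δ D : ℕ,
      LocCoh.depth (Localization.AtPrime p.asIdeal) (LocalizedModule p.asIdeal.primeCompl A) = δ ∧
      Module.supportDim (Localization.AtPrime p.asIdeal) (LocalizedModule p.asIdeal.primeCompl A) = D ∧
      ringKrullDim (Localization.AtPrime p.asIdeal) = D ∧ -(d : ℤ) ≤ n p - D := by
    intro p
    obtain ⟨δ, D, hδ, hD⟩ := KFlatLib.exists_depth_dim p A (hA p)
    have hD' : ringKrullDim (Localization.AtPrime p.asIdeal) = D := by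
      rw [← Module.supportDim_self_eq_ringKrullDim, ← Module.supportDim_eq_of_equiv (LC.selfLoc p.asIdeal.primeCompl)]
      exact hD
    refine ⟨δ, D, hδ, hD, hD', ?_⟩
    obtain ⟨-, h2, -⟩ := KFlatLib.localized_ext_range hω hdeg p A δ D hδ hD
    by_contra hcon
    haveI := KFlatLib.subsingleton_hom_module_of_lt hdeg A (n p - D) fun P _ => by
      have := hlow P
      omega
    rw [Module.support_eq_empty] at h2
    exact h2
  refine ⟨?_, ?_⟩
  · rw [← eW.support_eq]
    ext p
    constructor
    · intro hp
      obtain ⟨δ, D, hδ, hD, hD', hlowp⟩ := hdimloc p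
      obtain ⟨h1, -, -⟩ := KFlatLib.localized_ext_range hω hdeg p A δ D hδ hD
      have hbot := (h1 _ hp).1
      obtain ⟨l, hl⟩ : ∃ l : LTSeries (PrimeSpectrum (Localization.AtPrime p.asIdeal)), l.length = D :=
        Order.le_krullDim_iff.1 (show ((D : ℕ∞) : WithBot ℕ∞) ≤ _ from hD'.ge)
      let g : PrimeSpectrum (Localization.AtPrime p.asIdeal) → PrimeSpectrum A :=
        PrimeSpectrum.comap (algebraMap A (Localization.AtPrime p.asIdeal))
      have hgle : ∀ Q, g Q ≤ p := fun Q =>
        (Ideal.comap_mono (IsLocalRing.le_maximalIdeal Q.isPrime.ne_top)).trans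
          (IsLocalization.AtPrime.comap_maximalIdeal (Localization.AtPrime p.asIdeal) p.asIdeal).le
      have hgs : StrictMono g := by
        intro Q R h
        refine lt_of_le_of_ne (Ideal.comap_mono h.le) fun e => h.ne ?_
        exact PrimeSpectrum.localization_comap_injective _ p.asIdeal.primeCompl e
      have hchain : ∀ k : ℕ, ∀ hk : k < l.length + 1, n (g l.head) + k ≤ n (g (l ⟨k, hk⟩)) := by
        intro k
        induction k with
        | zero => intro hk; simp [RelSeries.head]
        | succ k ih =>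
          intro hk
          have h2 := ih (by omega)
          have h3 := hmono (hgs (l.step ⟨k, by omega⟩))
          simp only [Fin.castSucc_mk, Fin.succ_mk] at h3
          push_cast
          omega
      have h4 := hchain l.length (by omega)
      have h5 := hmono.monotone (hgle (l ⟨l.length, by omega⟩))
      have h6 := hlow (g l.head)
      obtain ⟨Q, hQ, hQP⟩ := Ideal.exists_minimalPrimes_le (show (⊥ : Ideal A) ≤ (g l.head).asIdeal from bot_le)
      refine ⟨Q, hQ, hQP.trans (hgle l.head), ?_⟩
      obtain ⟨e, he, he'⟩ := hdim ⟨Q, hQ.1.1⟩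
      have h7 := hmono.monotone (show (⟨Q, hQ.1.1⟩ : PrimeSpectrum A) ≤ g l.head from hQP)
      have h8 := hlow ⟨Q, hQ.1.1⟩
      have he2 : ringKrullDim (A ⧸ Q) = (e : WithBot ℕ∞) := he
      rw [he2]
      exact_mod_cast (show e = d by omega)
    · rintro ⟨Q, hQ, hQp, hQd⟩
      let Q' : PrimeSpectrum A := ⟨Q, hQ.1.1⟩
      refine Module.mem_support_mono (show Q' ≤ p from hQp) ?_
      haveI := hQ.1.1
      obtain ⟨δ, D, hδ, hD, hD', hlowQ⟩ := hdimloc Q'
      obtain ⟨-, h2, -⟩ := KFlatLib.localized_ext_range hω hdeg Q' A δ D hδ hD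
      obtain ⟨e, he, he'⟩ := hdim Q'
      have hed : e = d := by
        have he2 : ringKrullDim (A ⧸ Q) = (e : WithBot ℕ∞) := he
        rw [he2] at hQd
        exact_mod_cast hQd
      rwa [show -(d : ℤ) = n Q' - D by omega]
  · intro p hp
    haveI := hp
    let q : PrimeSpectrum A := ⟨p, hp⟩
    let B := Localization.AtPrime p
    let W := Dual.HD A ω (-(d : ℤ))
    obtain ⟨δA, D, hδA, hDA, hD', hlowp⟩ := hdimloc q
    haveI := KFlatLib.hasLBase (algebraMap A B)
    haveI : Module.Flat A B := IsLocalization.flat _ p.primeCompl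
    haveI : IsNoetherianRing B := IsLocalization.isNoetherianRing p.primeCompl _ inferInstance
    haveI : Module.Finite B (LocalizedModule p.primeCompl W) :=
      Module.Finite.of_isLocalizedModule p.primeCompl (LocalizedModule.mkLinearMap _ _)
    haveI : ω.IsGE (-(d : ℤ)) := by
      refine (DerivedCategory.isGE_iff _ _).2 fun i hi => ?_
      haveI := KFlatLib.subsingleton_hom_module_of_lt hdeg A i fun P _ => by
        have := hlow P
        omega
      obtain ⟨e⟩ := KFlatLib.exists_homRingLEquiv ω i
      exact @ModuleCat.isZero_of_subsingleton _ _ _ e.symm.injective.subsingleton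
    let ωB := (DTen.LBase (algebraMap A B)).obj ω
    haveI : ωB.IsGE (-(d : ℤ)) := KFlatLib.isGE_LBase_flat (B := B) ω (-(d : ℤ))
    obtain ⟨eB⟩ := KFlatLib.exists_hdLBaseLEquiv (B := B) ω (-(d : ℤ))
    let eWB : Dual.HD B ωB (-(d : ℤ)) ≃ₗ[B] LocalizedModule p.primeCompl W :=
      eB.trans (LocalizedModule.equivTensorProduct p.primeCompl W).symm
    haveI : Module.Finite B (Dual.HD B ωB (-(d : ℤ))) := Module.Finite.equiv eWB.symm
    have key : ∀ m : ℕ, m ≤ 2 → m ≤ D → (m : ℕ∞) ≤ LocCoh.depth B (LocalizedModule p.primeCompl W) := by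
      intro m hm2 hmD
      rw [show LocCoh.depth B (LocalizedModule p.primeCompl W) =
        LocCoh.idealDepth (IsLocalRing.maximalIdeal B) (Dual.HD B ωB (-(d : ℤ))) from
        LC.idealDepth_congr _ eWB.symm]
      refine (LC.le_idealDepth_iff_ext _ _ m).2 fun s hs => ?_
      refine KFlatLib.subsingleton_ext_bottom ωB (-(d : ℤ)) _ s (by omega) ?_
      obtain ⟨e⟩ := KFlatLib.exists_localExtLEquiv (ω := ω) (-(d : ℤ)) p p (-(d : ℤ) + s)
      haveI hsub : Subsingleton (LocalizedModule p.primeCompl (Dual.inD A (A ⧸ p) ⟶ ω⟦-(d : ℤ) + s⟧)) :=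
        not_nontrivial_iff_subsingleton.1 fun h' => by
          have := (hdeg q _).1 h'
          omega
      have hh := e.subsingleton
      rwa [Localization.AtPrime.map_eq_maximalIdeal] at hh
    have hle : Module.supportDim B (LocalizedModule p.primeCompl W) ≤ (D : WithBot ℕ∞) :=
      (Module.supportDim_le_ringKrullDim _ _).trans hD'.le
    rcases le_or_gt 2 D with h2 | h2
    · refine le_trans (min_le_left _ _) ?_
      rw [← WithBot.coe_natCast]
      exact WithBot.coe_le_coe.2 (key 2 le_rfl h2)
    · refine le_trans (min_le_right _ _) (hle.trans ?_)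
      rw [← WithBot.coe_natCast]
      exact WithBot.coe_le_coe.2 (key D (by omega) le_rfl)

end Groth.Agent.S0369
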