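import Groth.Statements.S1719
import Groth.Agent.KFlatLib.Ring.DualizingLocalExt
-- import your own Groth.Agent.* helpers here

set_option autoImplicit false
universe u
open CategoryTheory
attribute [local instance] HasDerivedCategory.standard
open Dual

namespace Groth.Agent.S1719

/-- Let A be a Noetherian local ring with a normalized dualizing complex ω and p a minimal prime of A
with dim(A/p) = e. Then the cohomology module H^i(ω) localized at p is nonzero if and only if i =
−e. -/
theorem result (A : Type u) [CommRing A] [IsLocalRing A] [IsNoetherianRing A] (ω : Dual.D A) (hω : Dual.IsDualizing A ω) (hn : Dual.IsNormalized A ω) (p : Ideal A) (hp : p ∈ minimalPrimes A) (e : ℕ) (he : ringKrullDim (A ⧸ p) = e) (i : ℤ) : Nontrivial (LocalizedModule (Ideal.primeCompl p (hp := hp.1.1)) (Dual.HD A ω i)) ↔ i = -(e : ℤ) := by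
  haveI := hp.1.1
  exact Groth.Agent.KFlatLib.nontrivial_localized_hd_iff hω hn p hp e he i

end Groth.Agent.S1719
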