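import Groth.Statements.S0319
import Groth.Agent.LC.DepthExt

set_option autoImplicit false
universe u v
open CategoryTheory
open LocCoh

namespace Groth.Agent.S0319

/-- Part (1): =(2): for a finite module M over a Noetherian ring and an ideal I with IM ≠ M, the I-depth
of M is the least i with Ext^i(R/I, M) nonzero. (Close to Mathlib's Rees criterion; kept at low
weight to pin our depth to Mathlib's Ext.) -/
theorem result (R : Type u) [CommRing R] [IsNoetherianRing R] (I : Ideal R) (M : Type u) [AddCommGroup M] [Module R M] [Module.Finite R M] (hIM : I • (⊤ : Submodule R M) ≠ ⊤) (n : ℕ) : LocCoh.idealDepth I M = n ↔ ((∀ i : ℕ, i < n → Subsingleton (Abelian.Ext (ModuleCat.of R (R ⧸ I)) (ModuleCat.of R M) i)) ∧ Nontrivial (Abelian.Ext (ModuleCat.of R (R ⧸ I)) (ModuleCat.of R M) n)) := by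
  rw [← not_subsingleton_iff_nontrivial, ← Groth.Agent.LC.le_idealDepth_iff_ext, le_antisymm_iff,
    and_comm]
  refine and_congr_right fun hle => ?_
  have h1 : LocCoh.idealDepth I M ≤ n ↔ ¬ (((n + 1 : ℕ) : ℕ∞) ≤ LocCoh.idealDepth I M) := by
    rw [not_le, Nat.cast_add, Nat.cast_one, ENat.lt_add_one_iff (ENat.natCast_ne_top n)]
  rw [h1, Groth.Agent.LC.le_idealDepth_iff_ext]
  refine not_congr ⟨fun h => h n (by omega), fun h i hi => ?_⟩
  rcases Nat.lt_succ_iff_lt_or_eq.1 hi with hi | rfl
  · exact (Groth.Agent.LC.le_idealDepth_iff_ext I M n).1 hle i hi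
  · exact h

end Groth.Agent.S0319
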