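import Groth.Statements.S2141
import Mathlib
import Groth.Agent.CAlgOdd.LocalDimSpec

set_option autoImplicit false
universe u
open CAlg

namespace Groth.Agent.S2141

/-- Let `S` be of finite type over a field `k` and `𝔭` a prime of `S` whose residue field has
transcendence degree `r` over `k`. Then the local dimension of `Spec S` at `𝔭` equals `dim S_𝔭 + r`. -/
theorem result {k S : Type u} [Field k] [CommRing S] [Algebra k S] [Algebra.FiniteType k S]
    (p : Ideal S) [p.IsPrime] (r : ℕ) (hr : Algebra.trdeg k p.ResidueField = r) :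
    FlatMor.localDim (PrimeSpectrum S) ⟨p, inferInstance⟩ = ringKrullDim (Localization.AtPrime p) + (r : WithBot ℕ∞) := by
  rw [CAlgOdd.LocalDimSpec.localDim_eq_add k, IsLocalization.AtPrime.ringKrullDim_eq_height p (Localization.AtPrime p)]
  let A := S ⧸ p
  haveI : Algebra.FiniteType k A := Algebra.FiniteType.of_surjective (Ideal.Quotient.mkₐ k p) Ideal.Quotient.mk_surjective
  obtain ⟨n, hn1, hn2⟩ := VarDim.exists_dim_eq_trdeg (k := k) A
  have htr : Algebra.trdeg k p.ResidueField = n := by
    haveI : FaithfulSMul k A := (faithfulSMul_iff_algebraMap_injective _ _).2 (algebraMap k A).injective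
    rw [← trdeg_add_eq k A, hn2, trdeg_eq_zero (R := A), add_zero]
  obtain rfl : n = r := by exact_mod_cast htr.symm.trans hr
  rw [WithBot.coe_add, VarDim.coheight_eq_ringKrullDim_quotient ⟨p, inferInstance⟩, hn1,
    ← PrimeSpectrum.height_eq_orderHeight]

end Groth.Agent.S2141
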