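import Groth.Statements.S1773
import Groth.Agent.KFlatLib.Ring.DualizingShriek
-- import your own Groth.Agent.* helpers here

set_option autoImplicit false
universe u
open CategoryTheory
attribute [local instance] HasDerivedCategory.standard
open Dual

namespace Groth.Agent.S1773

/-- Let A → B be a finite local homomorphism of Noetherian local rings and ω a normalized dualizing
complex for A. If R : D(A) → D(B) is right adjoint to restriction of scalars, then R(ω) is a
normalized dualizing complex for B. -/
theorem result (A B : Type u) [CommRing A] [CommRing B] [IsLocalRing A] [IsLocalRing B] [Algebra A B] [IsLocalHom (algebraMap A B)] [IsNoetherianRing A] [IsNoetherianRing B] [Module.Finite A B] (R : Dual.D A ⥤ Dual.D B) (adj : DRing.restrictD (algebraMap A B) ⊣ R) (ω : Dual.D A) (hω : Dual.IsDualizing A ω) (hn : Dual.IsNormalized A ω) : Dual.IsDualizing B (R.obj ω) ∧ Dual.IsNormalized B (R.obj ω) := by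
  refine ⟨Groth.Agent.KFlatLib.isDualizing_shriek R adj hω, fun i hi => ?_⟩
  haveI := Groth.Agent.KFlatLib.hasLTen A
  haveI := Groth.Agent.KFlatLib.hasRHom (A := A)
  have hm : (IsLocalRing.maximalIdeal B).comap (algebraMap A B) = IsLocalRing.maximalIdeal A :=
    IsLocalRing.maximalIdeal_comap _
  obtain ⟨n, hvan, hd⟩ := Groth.Agent.KFlatLib.exists_unique_ext_point (IsLocalRing.maximalIdeal A) hω
  have h0 : n = 0 := by
    by_contra hne
    obtain ⟨e⟩ := hd
    haveI : Subsingleton (Dual.inD A (A ⧸ IsLocalRing.maximalIdeal A) ⟶ ω⟦n⟧) := hn n hne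
    haveI : Subsingleton (A ⧸ IsLocalRing.maximalIdeal A) := e.symm.injective.subsingleton
    exact not_subsingleton (IsLocalRing.ResidueField A) this
  exact (Groth.Agent.KFlatLib.exists_shriek_ext_point R adj hω (IsLocalRing.maximalIdeal B) _ hm hvan hd).1 i (h0 ▸ hi)

end Groth.Agent.S1773
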