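import Groth.Statements.S5611
import Groth.Agent.H9Misc.DRingPerfAmp

set_option autoImplicit false
universe u
open CategoryTheory CategoryTheory.Limits
attribute [local instance] HasDerivedCategory.standard
open DRing

namespace Groth.Agent.S5611

/-- For the punctual topos ringed by a commutative ring A: let K ∈ D(A) and m ≤ n. Then K has perfect
amplitude in [m, n], that is K is isomorphic in D(A) to a complex of finite projective modules
vanishing outside [m, n], if and only if K is (m - 1)-pseudo-coherent and has tor amplitude in [m,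
n] (isomorphic to a complex of flat modules vanishing outside [m, n]). -/
theorem result {A : Type u} [CommRing A]
    (K : Dual.D A) (m n : ℤ) (hmn : m ≤ n) :
    (DRing.IsPseudoCoherent A (m - 1) K ∧ DRing.HasTorAmplitudeIn A m n K) ↔
      ∃ E : DRing.Cx A, DRing.VanishesOutside E m n ∧ DRing.TermwiseFiniteProjective E ∧
        Nonempty (DRing.toD E ≅ K) := by
  refine ⟨fun ⟨hpc, hamp⟩ => ?_, fun ⟨E, hz, hE, ⟨e⟩⟩ => ?_⟩
  · have hK := Groth.Agent.H9Misc.DRingPerfAmp.isPerfect_of_amp hpc hamp
    exact Groth.Agent.H9Misc.DRingPerfect.exists_finProj_rep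
      ((Groth.Agent.H9Misc.DRingPerfect.isPerfect_iff K).1 hK).1 hamp
  · exact ⟨(Groth.Agent.H9Misc.DRingPC.pc'_iff K).1
      ((Groth.Agent.H9Misc.DRingPerfect.isPerfect_iff K).1 ⟨E, m, n, hz, hE, ⟨e⟩⟩).1 (m - 1),
      Groth.Agent.H9Misc.DRingPerfect.amp_of_finProj hz (fun i => (hE i).2) e⟩

end Groth.Agent.S5611
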