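import Groth.Statements.S7212
import Groth.Agent.RelPC17.Module
import Groth.Agent.S7213

set_option autoImplicit false
set_option backward.isDefEq.respectTransparency false
set_option backward.isDefEq.respectTransparency.types false
universe u
open CategoryTheory CategoryTheory.Limits AlgebraicGeometry Opposite TopologicalSpace
attribute [local instance] HasDerivedCategory.standard
open FlatMor

namespace Groth.Agent.S7212

set_option maxHeartbeats 1000000 in
/-- Let f : X ⟶ S be locally of finite type and M an O_X-module, viewed in degree 0 of D(O_X); relative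
pseudo-coherence is in chart form. Then (1) M is m-pseudo-coherent relative to f for every integer m
> 0; (2) M is 0-pseudo-coherent relative to f if and only if M is an O_X-module of finite type; (3)
M is (-1)-pseudo-coherent relative to f if and only if M is quasi-coherent and finitely presented
relative to f (on the members of suitable affine open covers of S and of the preimages, the module
of sections is finitely presented over the base ring through a polynomial surjection). -/
theorem result {X S : Scheme.{u}} (f : X ⟶ S)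
    [LocallyOfFiniteType f] (M : X.Modules) :
    (∀ m : ℤ, 0 < m → DerSch.IsPseudoCoherentRel f m (DCoh.inD X M)) ∧
      (DerSch.IsPseudoCoherentRel f 0 (DCoh.inD X M) ↔ CohB1.IsFT M) ∧
      (DerSch.IsPseudoCoherentRel f (-1) (DCoh.inD X M) ↔ (Coh.IsQCoh M ∧ Flatn.IsRelFP f M)) := by
  open Groth.Agent.RelPC17 Groth.Agent.KFlatLib in
  · have hpush : ∀ (m : ℤ) (U : X.Opens) (V : S.Opens) (n : ℕ)
        (φ : MvPolynomial (Fin n) Γ(S, V) →+* Γ(X, U)) [IsClosedImmersion (imm U φ)],
        PCat m (DCoh.inD X M) U φ ↔ LocPC m (DCoh.inD (Spec (CommRingCat.of (MvPolynomial (Fin n) Γ(S, V))))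
          ((Scheme.Modules.pushforward (imm U φ)).obj (M.restrict (Scheme.Opens.ι U)))) :=
      fun m U V n φ _ =>
        let e := (pD (imm U φ)).mapIso (rhoInD (Scheme.Opens.ι U) M) ≪≫ pDInD (imm U φ) _
        ⟨fun h => LocPC.of_iso e h, fun h {_} => LocPC.of_iso e.symm h⟩
    refine ⟨fun m hm => rel_iff.2 fun U V hU hV hle n φ hφ => ?_, ⟨fun h => ?_, fun h => ?_⟩,
      ⟨fun h => ?_, fun h => ?_⟩⟩
    · haveI := isClosedImmersion_imm hU hφ.1
      intro _
      exact (hpush m U V n φ).2 (locPC_of_isZero m _ fun k hk => hd_single_isZero _ k (by omega))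
    · refine isFT_of_local fun x => ?_
      obtain ⟨_, ⟨V, hV, rfl⟩, hxV, -⟩ :=
        S.isBasis_affineOpens.exists_subset_of_mem_open (show f x ∈ (⊤ : S.Opens) from trivial) (⊤ : S.Opens).2
      obtain ⟨_, ⟨U, hU, rfl⟩, hxU, hle⟩ :=
        X.isBasis_affineOpens.exists_subset_of_mem_open (show x ∈ f ⁻¹ᵁ V from hxV) (f ⁻¹ᵁ V).2
      obtain ⟨n, φ, hφ⟩ := exists_isChart hle (finiteType_appLE hU hV hle)
      haveI := isClosedImmersion_imm hU hφ.1
      exact ⟨_, Scheme.Opens.ι U, inferInstance, ⟨⟨x, hxU⟩, rfl⟩, isFT_of_isFT_push (imm U φ)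
        (isFT_of_iso' (hdSingleIso _) (isFT_top ((hpush 0 U V n φ).1 (rel_iff.1 h U V hU hV hle n φ hφ))
          fun k hk => hd_single_isZero _ k (by omega)))⟩
    · refine rel_iff.2 fun U V hU hV hle n φ hφ => ?_
      haveI := isClosedImmersion_imm hU hφ.1
      intro _
      exact (hpush 0 U V n φ).2 (Groth.Agent.KFlatLib.locPC_of_isFT _
        (isFT_push _ (isFT_restrict _ h)))
    · have hq : Coh.IsQCoh M := isQCoh_of_iso (hdSingleIso M)
        (Groth.Agent.S7213.result f (-1) _ h 0 (by omega))
      refine ⟨hq, Groth.Agent.RelFP.isRelFP_of_forall fun U V hle => ?_⟩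
      letI := (f.appLE (V : S.Opens) (U : X.Opens) hle).hom.toAlgebra
      obtain ⟨n, φ, hφ⟩ := exists_isChart hle (finiteType_appLE U.2 V.2 hle)
      haveI := isClosedImmersion_imm U.2 hφ.1
      have hT : LocPC (-1) _ := (hpush (-1) U V n φ).1 (rel_iff.1 h U V U.2 V.2 hle n φ hφ)
      have hfp : CohB1.IsFP ((Scheme.Modules.pushforward (imm (U : X.Opens) φ)).obj
          (M.restrict (Scheme.Opens.ι (U : X.Opens)))) :=
        (SheafOfModules.isFinitePresentation (Spec (CommRingCat.of
          (MvPolynomial (Fin n) Γ(S, (V : S.Opens))))).ringCatSheaf).prop_of_iso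
          (hdSingleIso ((Scheme.Modules.pushforward (imm (U : X.Opens) φ)).obj
            (M.restrict (Scheme.Opens.ι (U : X.Opens)))))
          (isFP_top hT fun i hi => hd_single_isZero _ i (by omega))
      exact ⟨n, { φ with commutes' := RingHom.congr_fun hφ.2 }, hφ.1,
        (isFP_push_imm_iff φ (Groth.Agent.QCoh.isQCoh_restrict _ hq)).1 hfp⟩
    · refine rel_iff.2 fun U V hU hV hle n φ hφ => ?_
      haveI := isClosedImmersion_imm hU hφ.1
      letI := (f.appLE V U hle).hom.toAlgebra
      haveI : Algebra.FiniteType Γ(S, V) Γ(X, U) := finiteType_appLE hU hV hle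
      intro _
      refine (hpush (-1) U V n φ).2 (locPC_of_isFP _ ?_)
      let ψ : MvPolynomial (Fin n) Γ(S, V) →ₐ[Γ(S, V)] Γ(X, U) :=
        { φ with commutes' := RingHom.congr_fun hφ.2 }
      exact (isFP_push_imm_iff φ (Groth.Agent.QCoh.isQCoh_restrict _ h.1)).2
        ((Groth.Agent.RelFP.rel_iff ψ
          (RingHom.Finite.of_surjective _ hφ.1)).1
          (Groth.Agent.RelFP.relFPOn_of_isRelFP (hF := h.1) h.2 ⟨U, hU⟩ ⟨V, hV⟩ hle))

end Groth.Agent.S7212
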