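import Groth.Statements.S1118
import Groth.Agent.KFlatLib.Scheme.ProjFormula
-- import your own Groth.Agent.* helpers here

set_option autoImplicit false
universe u
open CategoryTheory CategoryTheory.Limits AlgebraicGeometry Opposite
attribute [local instance] HasDerivedCategory.standard
open Perf

namespace Groth.Agent.S1118

/-- Let f : X ⟶ Y be quasi-compact and quasi-separated, E ∈ D(O_X) with quasi-coherent cohomology
sheaves, K a cochain complex of O_Y-modules whose image in D(O_Y) has quasi-coherent cohomology
sheaves, and M a cochain complex of O_X-modules representing Lf^*K. Assuming the derived functors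
involved exist, Rf_*(E) ⊗^L K and Rf_*(E ⊗^L M) are isomorphic in D(O_Y). (The source proves that
the canonical projection-formula map is an isomorphism; only the existence of an isomorphism is
asserted here.) -/
theorem result {X Y : Scheme.{u}} (f : X ⟶ Y) [QuasiCompact f] [QuasiSeparated f] [DCoh.HasRpush f] [DCoh.HasLpull f]
    (E : DCoh.D X) (hE : DCoh.IsQCohD E) (K : CochainComplex Y.Modules ℤ) (hK : DCoh.IsQCohD (DCoh.toD Y K)) [DCoh.HasLTensorCx K]
    (M : CochainComplex X.Modules ℤ) (hM : Nonempty (DCoh.toD X M ≅ (DCoh.Lpull f).obj (DCoh.toD Y K))) [DCoh.HasLTensorCx M] :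
    Nonempty ((DCoh.LTensorCx K).obj ((DCoh.Rpush f).obj E) ≅ (DCoh.Rpush f).obj ((DCoh.LTensorCx M).obj E)) := Groth.Agent.KFlatLib.nonempty_projection_DQCoh f E hE K hK M hM

end Groth.Agent.S1118
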