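import Groth.Statements.S1823
import Groth.Agent.KExact.BidualSch
-- import your own Groth.Agent.* helpers here

set_option autoImplicit false
set_option linter.style.haveILetI false
set_option backward.isDefEq.respectTransparency false
set_option backward.isDefEq.respectTransparency.types false

universe u
open CategoryTheory CategoryTheory.Limits AlgebraicGeometry
attribute [local instance] HasDerivedCategory.standard
open Dual

namespace Groth.Agent.S1823

open KFlatLib KExact KExact.Bidual


/-- Values in D_Coh and biduality, stated objectwise: Let X be a locally Noetherian scheme and K a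
dualizing complex on X (exactness instances for restriction and tilde assumed). Let L be a complex
of O_X-modules with coherent cohomology sheaves, with − ⊗^L L and its right adjoint RSheafHom(L, −)
assumed to exist. Then all cohomology sheaves of RSheafHom(L, K) are coherent, and for every complex
M representing RSheafHom(L, K) (with the same functors assumed for M) there is an isomorphism
RSheafHom(M, K) ≅ L in D(O_X). -/
theorem result (X : Scheme.{u}) [IsLocallyNoetherian X] [∀ (U : Scheme.{u}) (j : U ⟶ X) [IsOpenImmersion j], PreservesFiniteLimits (Scheme.Modules.restrictFunctor j)] [∀ (R : CommRingCat.{u}), PreservesFiniteLimits (tilde.functor R)] (K : DCoh.D X) (hK : Dual2.IsDualizingSch X K) (L : CochainComplex X.Modules ℤ) (hL : ∀ i : ℤ, Coh.IsCoh (DCoh.HD (DCoh.toD X L) i)) [DCoh.HasLTensorCx L] [DCoh.HasRSheafHom L] : (∀ i : ℤ, Coh.IsCoh (DCoh.HD ((DCoh.RSheafHom L).obj K) i)) ∧ ∀ (M : CochainComplex X.Modules ℤ) [DCoh.HasLTensorCx M] [DCoh.HasRSheafHom M], Nonempty (DCoh.toD X M ≅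 (DCoh.RSheafHom L).obj K) → Nonempty ((DCoh.RSheafHom M).obj K ≅ DCoh.toD X L) := by
  obtain ⟨J, hJ, hinj, ⟨eK⟩⟩ := exists_kInjective_rep K
  haveI := hJ
  haveI := hinj
  obtain ⟨eL⟩ := nonempty_RSheafHom_iso L J
  let eLK : (DCoh.RSheafHom L).obj K ≅ DerivedCategory.Q.obj ((iHom L).obj J) :=
    (DCoh.RSheafHom L).mapIso eK ≪≫ eL
  have hb : ∀ x : X, ∃ (U : Scheme.{u}) (j : U ⟶ X) (_ : IsOpenImmersion j),
      x ∈ Set.range j.base ∧ ∃ a b, DualConn.BoundedOn j J a b := fun x => by
    obtain ⟨R, j, hj, hx⟩ := Bidual.exists_chart x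
    exact ⟨_, j, hj, hx, exists_boundedOn hK eK j⟩
  refine ⟨fun i => isCoh_of_local fun x => ?_, fun M _ _ ⟨eM⟩ => ?_⟩
  · obtain ⟨R, j, hj, hx⟩ := Bidual.exists_chart x
    refine ⟨_, j, hj, hx, ?_⟩
    obtain ⟨ω, hω, ⟨eJ⟩⟩ := exists_local_dualizing hK eK j
    haveI := hω.isNoetherianRing
    obtain ⟨a, b, I, hI, hge, hle, ⟨eI⟩⟩ := exists_boundedOn hK eK j
    haveI := hI
    haveI := hge
    haveI := hle
    haveI : I.IsKInjective := CochainComplex.isKInjective_of_injective I a
    let J' : CochainComplex (Spec R).Modules ℤ := (rCx j).obj J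
    let L' : CochainComplex (Spec R).Modules ℤ := (rCx j).obj L
    haveI : J'.IsKInjective := isKInjective_rCx j J
    haveI : ∀ n, Injective (J'.X n) := injective_rCx j J
    let P := (kRes (Spec R)).obj L'
    haveI := (flatCover (Spec R)).quasiIso_ψ L'
    haveI := isIso_Q_map ((flatCover (Spec R)).ψ.app L') inferInstance
    haveI := hasLTensorCx P
    haveI := hasRSheafHom_of_isKFlat P (isKFlat_kRes _)
    let eP : DCoh.toD (Spec R) P ≅ DerivedCategory.Q.obj L' :=
      asIso (DerivedCategory.Q.map ((flatCover (Spec R)).ψ.app L'))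
    have hP : DCoh.IsCohD (DCoh.toD (Spec R) P) := fun k =>
      isCoh_of_iso ((DerivedCategory.homologyFunctor _ k).mapIso (eP ≪≫ ((rhoQ j).app L).symm) ≪≫
        restrictHDIso j _ k).symm (isCoh_restrict j (hL k))
    haveI : (tilde.functor R).Additive := tilde_additive _
    have hK' : DCoh.IsCohD (DerivedCategory.Q.obj J') := fun k =>
      isCoh_of_iso ((DerivedCategory.homologyFunctor _ k).mapIso eJ ≪≫
        (mapDCHomologyIso (tilde.functor R) k).app ω).symm ((isCoh_tilde_iff _).2 (hω.finite_cohomology k))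
    have h := (rhom_coherent_bounded I hI a b _ eI.symm hK' P hP).1 i
    obtain ⟨e₁⟩ := nonempty_rho_iHom j L J
    obtain ⟨e₂⟩ := nonempty_iHom_iso_of_iso eP J'
    obtain ⟨e₃⟩ := nonempty_RSheafHom_iso P J'
    exact isCoh_of_iso ((DerivedCategory.homologyFunctor _ i).mapIso
      ((rho j).mapIso eLK ≪≫ e₁ ≪≫ e₂.symm ≪≫ e₃.symm).symm ≪≫ restrictHDIso j _ i) h
  · obtain ⟨u⟩ := DualConn.nonempty_unitTensorIso X
    haveI := quasiIso_coevalMap_of_isCohD J (u.hom.app J) (quasiIso_transpose hK eK u) hb L hL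
    haveI := isIso_Q_map (coevalMap _ J J (u.hom.app J) L) inferInstance
    obtain ⟨e₁⟩ := nonempty_RSheafHom_iso M J
    obtain ⟨e₂⟩ := nonempty_iHom_iso_of_iso (A := M) (B := (iHom L).obj J) (eM ≪≫ eLK) J
    exact ⟨(DCoh.RSheafHom M).mapIso eK ≪≫ e₁ ≪≫ e₂ ≪≫
      (asIso (DerivedCategory.Q.map (coevalMap _ J J (u.hom.app J) L))).symm ≪≫
      DerivedCategory.Q.mapIso (u.app L)⟩
end Groth.Agent.S1823
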