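import Groth.Statements.S1789
import Groth.Agent.KFlatLib.Ring.DualizingNormalizedShriek
-- import your own Groth.Agent.* helpers here

set_option autoImplicit false
universe u
open CategoryTheory
attribute [local instance] HasDerivedCategory.standard
open Dual2

namespace Groth.Agent.S1789

/-- Let R → A be a ring map of finite type between Noetherian rings with R local, where φ^!(K) is formed
from a presentation ψ : R[x_1, …, x_n] → A as RHom_P(A, K ⊗^L_R P)[n], assuming the derived base
change to P exists and taking for RHom_P(A, −) a right adjoint of restriction of scalars along ψ.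
Let m be a maximal ideal of A lying over the maximal ideal of R and ω a normalized dualizing complex
for R. Assuming the derived base change D(A) → D(A_m) exists, the base change of φ^!(ω) to A_m is a
normalized dualizing complex for A_m. -/
theorem result (R A : Type u) [CommRing R] [CommRing A] [IsNoetherianRing R] [IsNoetherianRing A] [Algebra R A] (n : ℕ) (ψ : MvPolynomial (Fin n) R →ₐ[R] A) (hψ : Function.Surjective ψ) [DRing.HasLBaseChange (algebraMap R (MvPolynomial (Fin n) R))] (Rψ : Dual.D (MvPolynomial (Fin n) R) ⥤ Dual.D A) (adj : DRing.restrictD ψ.toRingHom ⊣ Rψ) [IsLocalRing R] (m : Ideal A) [m.IsMaximal] (hm : m.comap (algebraMap R A) = IsLocalRing.maximalIdeal R) (ω : Dual.D R) (hω : Dual.IsDualizing R ω) (hn : Dual.IsNormalized R ω) [DRing.HasLBaseChange (algebraMap A (Localization.AtPrime m))] : Dual.IsDualizing (Localization.AtPrime m) ((DRing.LBaseChange (algebraMap A (Localization.AtPrime m))).obj (Dual2.shriekVia n Rψ ω)) ∧ Dual.IsNormalized (Localization.AtPrime m) ((DRing.LBaseChange (algebraMap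 A (Localization.AtPrime m))).obj (Dual2.shriekVia n Rψ ω)) := by
  let P := MvPolynomial (Fin n) R
  let B := Localization.AtPrime m
  letI : Algebra P A := ψ.toRingHom.toAlgebra
  haveI := Groth.Agent.KFlatLib.hasLBase (algebraMap R P)
  haveI := Groth.Agent.KFlatLib.hasLBase (algebraMap A B)
  obtain ⟨e₁⟩ := Groth.Agent.KFlatLib.nonempty_LBaseChange_iso (algebraMap R P)
  let W₀ := (Rψ.obj ((DTen.LBase (algebraMap R P)).obj ω))⟦(n : ℤ)⟧
  let eW : W₀ ≅ Dual2.shriekVia n Rψ ω := ((shiftFunctor _ (n : ℤ)).mapIso (Rψ.mapIso (e₁.app ω))).symm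
  have hW : Dual.IsDualizing A (Dual2.shriekVia n Rψ ω) := Groth.Agent.KFlatLib.isDualizing_of_iso eW
    (Groth.Agent.KFlatLib.isDualizing_shriekVia n ψ.toRingHom hψ adj hω)
  haveI : Module.Flat A B := IsLocalization.flat _ m.primeCompl
  refine ⟨Groth.Agent.KFlatLib.isDualizing_LBaseChange hW fun n' _ =>
    ⟨n'.comap (algebraMap A B), IsLocalization.map_comap m.primeCompl B n'⟩, fun i hi => ?_⟩
  obtain ⟨e⟩ := Groth.Agent.KFlatLib.nonempty_LBaseChange_iso (algebraMap A B)
  obtain ⟨a, b, -, _, _⟩ := Groth.Agent.KFlatLib.exists_bounds_of_isDualizing hW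
  have hm' : (m.comap (algebraMap P A)).comap (algebraMap R P) = IsLocalRing.maximalIdeal R := by
    rw [Ideal.comap_comap, ← hm]
    exact congrArg (fun f => m.comap f) (RingHom.ext ψ.commutes)
  haveI := Groth.Agent.KFlatLib.subsingleton_hom_maximal_shriekVia hψ adj hω hn m hm' i hi
  haveI : Subsingleton (Dual.inD A (A ⧸ m) ⟶ (Dual2.shriekVia n Rψ ω)⟦i⟧) :=
    (Iso.homCongr (Iso.refl _) ((shiftFunctor (Dual.D A) i).mapIso eW)).symm.subsingleton
  obtain ⟨eI⟩ := Groth.Agent.KFlatLib.nonempty_LBase_inD_quotient (B := B) m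
  obtain ⟨eh⟩ := Groth.Agent.KFlatLib.exists_homBaseChangeLEquiv (B := B) (X := Dual.inD A (A ⧸ m))
    (Y := Dual2.shriekVia n Rψ ω) ((Groth.Agent.S6942.result A 0 (Dual2.shriekVia n Rψ ω) (A ⧸ m)).2.2 inferInstance) a i
  haveI := eh.injective.subsingleton
  rw [Localization.AtPrime.map_eq_maximalIdeal] at eI
  exact (Iso.homCongr eI ((shiftFunctor (Dual.D B) i).mapIso (e.app _).symm)).symm.subsingleton

end Groth.Agent.S1789
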