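import Groth.Statements.S1801
import Groth.Agent.KFlatLib.Ring.RelDualizing
-- import your own Groth.Agent.* helpers here

set_option autoImplicit false
universe u
open CategoryTheory
open scoped TensorProduct
attribute [local instance] HasDerivedCategory.standard
open Dual2

namespace Groth.Agent.S1801

/-- Flat case (part (2) with (1)(a)–(c) and (2)(b)). Let R → A be a ring map between Noetherian rings
which is flat and of finite type, where φ^!(K) is formed from a presentation ψ : R[x_1, …, x_n] → A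
as RHom_P(A, K ⊗^L_R P)[n], assuming the derived base change to P exists and taking for RHom_P(A, −)
a right adjoint of restriction of scalars along ψ; put ω = φ^!(R). Then: (a) ω has finitely many
nonzero cohomology modules, all finite over A; (b) after restriction of scalars to R, ω is
isomorphic to a bounded complex of flat R-modules (finite tor dimension over R); (c) a ↦ a·id is a
bijection A → End(ω) and ω has no self-maps of nonzero degree; (d) for every ring map R → k to a
field, assuming the derived base change D(A) → D(k ⊗_R A) exists, the base change of ω is a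
dualizing complex for k ⊗_R A. -/
theorem result (R A : Type u) [CommRing R] [CommRing A] [IsNoetherianRing R] [IsNoetherianRing A] [Algebra R A] [Module.Flat R A] (n : ℕ) (ψ : MvPolynomial (Fin n) R →ₐ[R] A) (hψ : Function.Surjective ψ) [DRing.HasLBaseChange (algebraMap R (MvPolynomial (Fin n) R))] (Rψ : Dual.D (MvPolynomial (Fin n) R) ⥤ Dual.D A) (adj : DRing.restrictD ψ.toRingHom ⊣ Rψ) : (∃ a b : ℤ, ∀ i : ℤ, (i < a ∨ b < i) → Subsingleton (Dual.HD A (Dual2.shriekVia n Rψ (Dual.inD R R)) i)) ∧ (∀ i : ℤ, Module.Finite A (Dual.HD A (Dual2.shriekVia n Rψ (Dual.inD R R)) i)) ∧ DRing.HasFiniteTorDimCx R ((DRing.restrictD (algebraMap R A)).obj (Dual2.shriekVia n Rψ (Dual.inD R R))) ∧ (Function.Bijective (fun a : A => a • CategoryTheory.CategoryStruct.id (Dual2.shriekVia n Rψ (Dual.inD R R))) ∧ ∀ i : ℤ, i ≠ 0 → Subsingleton (Dual2.shriekVia n Rψ (Dual.inD R R) ⟶ (Dual2.shriekVia n Rψ (Dual.inD R R))⟦i⟧)) ∧ ∀ (k : Type u) [Field k] [Algebra R k] [DRing.HasLBaseChange (Algebra.TensorProduct.includeRight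 : A →ₐ[R] k ⊗[R] A).toRingHom], Dual.IsDualizing (k ⊗[R] A) ((DRing.LBaseChange (Algebra.TensorProduct.includeRight : A →ₐ[R] k ⊗[R] A).toRingHom).obj (Dual2.shriekVia n Rψ (Dual.inD R R))) := by
  let P := MvPolynomial (Fin n) R
  haveI := Groth.Agent.KFlatLib.hasLBase (algebraMap R P)
  obtain ⟨e₁⟩ := Groth.Agent.KFlatLib.nonempty_LBaseChange_iso (algebraMap R P)
  obtain ⟨u⟩ := Groth.Agent.KFlatLib.nonempty_LBase_unit (algebraMap R P)
  let e : (Rψ.obj (DTen.unit P))⟦(n : ℤ)⟧ ≅ Dual2.shriekVia n Rψ (Dual.inD R R) :=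
    ((shiftFunctor _ (n : ℤ)).mapIso (Rψ.mapIso (e₁.app _ ≪≫ (DTen.LBase (algebraMap R P)).mapIso
      ((DerivedCategory.singleFunctorIsoCompQ (ModuleCat R) 0).app (ModuleCat.of R R)) ≪≫ u))).symm
  have hR : ψ.toRingHom.comp MvPolynomial.C = algebraMap R A := RingHom.ext fun r => ψ.commutes r
  obtain ⟨⟨p, q, hpq⟩, hfin⟩ := Groth.Agent.KFlatLib.bounded_finite_shriek_unit ψ.toRingHom hψ hR adj
  obtain ⟨a, b, E, hE₁, hE₂, ⟨eE⟩⟩ := Groth.Agent.KFlatLib.hasFiniteTorDimCx_shriek_unit ψ.toRingHom hψ hR adj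
  obtain ⟨hb, hs⟩ := Groth.Agent.KFlatLib.bijective_smul_shriek_unit ψ.toRingHom hψ hR adj
  refine ⟨⟨p, q, fun i hi => Groth.Agent.KFlatLib.subsingleton_hd_of_iso e i (hpq i hi)⟩,
    fun i => Groth.Agent.KFlatLib.finite_hd_of_iso e i (hfin i),
    ⟨a, b, E, hE₁, hE₂, ⟨eE ≪≫ (DRing.restrictD _).mapIso e⟩⟩, ⟨?_, fun i hi => ?_⟩, ?_⟩
  · let c := Linear.homCongr A e e
    have h : (fun x : A => x • CategoryStruct.id (Dual2.shriekVia n Rψ (Dual.inD R R))) =
        c ∘ fun x : A => x • CategoryStruct.id ((Rψ.obj (DTen.unit P))⟦(n : ℤ)⟧) := funext fun x => by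
      show x • CategoryStruct.id _ = c (x • CategoryStruct.id _)
      rw [map_smul]
      simp [c, Linear.homCongr]
    rw [h]
    exact c.bijective.comp hb
  · haveI := hs i hi
    exact (Linear.homCongr A e ((shiftFunctor _ i).mapIso e)).symm.toEquiv.subsingleton
  · intro k _ _ _
    haveI := Groth.Agent.KFlatLib.hasLBase (Groth.Agent.KFlatLib.incRight R k A)
    obtain ⟨e₂⟩ := Groth.Agent.KFlatLib.nonempty_LBaseChange_iso
      (Algebra.TensorProduct.includeRight : A →ₐ[R] k ⊗[R] A).toRingHom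
    exact Groth.Agent.KFlatLib.isDualizing_of_iso ((DTen.LBase _).mapIso e ≪≫ (e₂.app _).symm)
      (Groth.Agent.KFlatLib.isDualizing_fibre_shriek_unit ψ.toRingHom hψ hR adj k)


end Groth.Agent.S1801
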