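import Groth.Statements.S14612
import Groth.Agent.FlatCxLib.BoundedFlat

set_option autoImplicit false
universe u
open FlatCx

namespace Groth.Agent.S14612

open CategoryTheory CategoryTheory.Limits in
/-- Let A be a commutative ring and F a cochain complex of flat A-modules which is bounded above (F^i =
0 for all large i) and whose cohomology H^p(F) vanishes for every p > d. Then the module of
d-cocycles Z^d = ker(F^d → F^{d+1}) is flat over A; hence the truncation τ_{≤ d} F is again a
complex of flat modules (and τ_{≤ d} F → F is a quasi-isomorphism, which is not restated).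
Boundedness cannot be dropped. -/
theorem result (A : Type u) [CommRing A]
    (F : CochainComplex (ModuleCat.{u} A) ℤ) (hF : ∀ i, Module.Flat A (F.X i))
    (hb : ∃ b : ℤ, ∀ i, b < i → IsZero (F.X i)) (d : ℤ) (hac : ∀ p, d < p → IsZero (F.homology p)) :
    Module.Flat A (F.cycles d) := by
  obtain ⟨b, hb⟩ := hb
  have := Groth.Agent.FlatCxLib.flat_ker_of_boundedAbove F hF hb d
    (fun i hi => (F.exactAt_iff_isZero_homology i).2 (hac i hi)) d le_rfl
  have : Module.Flat A (HomologicalComplex.sc' F (d - 1) d (d + 1)).moduleCatLeftHomologyData.K := this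
  exact Module.Flat.of_linearEquiv ((F.cyclesIsoSc' (d - 1) d (d + 1) (by simp) (by simp)) ≪≫
    ShortComplex.moduleCatCyclesIso _).toLinearEquiv

end Groth.Agent.S14612
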