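import Groth.Statements.S2143
import Mathlib
import Groth.Agent.CAlgOdd.LocalDimSpec

set_option autoImplicit false
universe u
open CAlg

namespace Groth.Agent.S2143

/-- (1) = (3): let `S` be of finite type over a field `k` and `𝔭` a prime of `S`. The local dimension of
`Spec S` at `𝔭` is the infimum of `dim S_𝔪` over the maximal ideals `𝔪 ⊇ 𝔭`. -/
theorem result {k S : Type u} [Field k] [CommRing S] [Algebra k S] [Algebra.FiniteType k S]
    (p : Ideal S) [p.IsPrime] :
    FlatMor.localDim (PrimeSpectrum S) ⟨p, inferInstance⟩ =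
      ⨅ m : {m : Ideal S // m.IsMaximal ∧ p ≤ m}, ringKrullDim (Localization.AtPrime (hp := m.2.1.isPrime') m.1) := by
  let pp : PrimeSpectrum S := ⟨p, inferInstance⟩
  have hmax : ∀ m : {m : Ideal S // m.IsMaximal ∧ p ≤ m},
      ringKrullDim (Localization.AtPrime (hp := m.2.1.isPrime') m.1) =
        FlatMor.localDim (PrimeSpectrum S) ⟨m.1, m.2.1.isPrime'⟩ := by
    rintro ⟨m, hm, hle⟩
    haveI := hm.isPrime'
    rw [CAlgOdd.LocalDimSpec.localDim_eq_add k, IsLocalization.AtPrime.ringKrullDim_eq_height m (Localization.AtPrime m),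
      show Order.coheight (⟨m, hm.isPrime'⟩ : PrimeSpectrum S) = 0 from Order.coheight_eq_zero.2 fun q hq =>
        (PrimeSpectrum.ext (hm.eq_of_le q.2.ne_top hq)).ge,
      add_zero, ← PrimeSpectrum.height_eq_orderHeight]
  simp only [hmax]
  refine le_antisymm (le_iInf fun m => ?_) ?_
  · obtain ⟨q, hq, he⟩ := CAlgOdd.LocalDimSpec.exists_coheight_eq k pp
    rw [he]
    exact CAlgOdd.LocalDimSpec.coheight_le_of_le k (le_trans hq m.2.2)
  · obtain ⟨g, hg, hnhd⟩ := CAlgOdd.LocalDimSpec.exists_minimal_nhd k pp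
    haveI : IsJacobsonRing S := isJacobsonRing_of_finiteType (A := k)
    have hrad : p.jacobson = p := IsJacobsonRing.out inferInstance (Ideal.IsPrime.isRadical inferInstance)
    obtain ⟨m, ⟨hpm, hm⟩, hgm⟩ : ∃ m, (p ≤ m ∧ m.IsMaximal) ∧ g ∉ m := by
      by_contra hc
      push_neg at hc
      exact hg (show g ∈ p by rw [← hrad, Ideal.jacobson, Submodule.mem_sInf]; exact fun m hm => hc m hm)
    refine iInf_le_of_le ⟨m, hm, hpm⟩ ?_
    obtain ⟨q, hq, he⟩ := CAlgOdd.LocalDimSpec.exists_coheight_eq k (⟨m, hm.isPrime'⟩ : PrimeSpectrum S)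
    rw [he]
    obtain ⟨P, hP, hPq⟩ := Ideal.exists_minimalPrimes_le (bot_le : (⊥ : Ideal S) ≤ q.asIdeal)
    refine le_trans ?_ (CAlgOdd.LocalDimSpec.coheight_le_of_le k (q := ⟨P, hP.1.1⟩) (p := pp)
      (hnhd q (fun h => hgm (hq h)) P hP hPq))
    exact WithBot.coe_le_coe.2 (Order.coheight_anti (show (⟨P, hP.1.1⟩ : PrimeSpectrum S) ≤ q from hPq))

end Groth.Agent.S2143
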