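import Groth.Statements.S1718
import Groth.Agent.KFlatLib.Ring.DualizingMatlis
-- import your own Groth.Agent.* helpers here

set_option autoImplicit false
universe u
open CategoryTheory
attribute [local instance] HasDerivedCategory.standard
open Dual

namespace Groth.Agent.S1718

/-- Let A be a Noetherian local ring with maximal ideal m, residue field κ and a normalized dualizing
complex ω, and let κ → E be an injective hull. Then the degree-0 local cohomology of ω with support
in m (the direct limit of Hom(A/m^n, ω)) is isomorphic to E, and the local cohomology of ω in every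
other degree is zero. -/
theorem result (A : Type u) [CommRing A] [IsLocalRing A] [IsNoetherianRing A] (ω : Dual.D A) (hω : Dual.IsDualizing A ω) (hn : Dual.IsNormalized A ω) (E : Type u) [AddCommGroup E] [Module A E] (f : IsLocalRing.ResidueField A →ₗ[A] E) (hf : InjHull.IsInjectiveHull f) : Nonempty (Dual2.HDI A (IsLocalRing.maximalIdeal A) ω 0 ≃ₗ[A] E) ∧ ∀ i : ℤ, i ≠ 0 → Subsingleton (Dual2.HDI A (IsLocalRing.maximalIdeal A) ω i) := by
  obtain ⟨J, hJ, -⟩ := KFlatLib.exists_trace hω hn hf
  refine ⟨?_, fun i hi => ?_⟩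
  · let e₁ : Dual2.HDI A (IsLocalRing.maximalIdeal A) ω 0 ≃ₗ[A] KFlatLib.Tm ω :=
      (Limits.colim.mapIso (Functor.isoWhiskerLeft (KFlatLib.powDiag A)
        ((linearYoneda A (Dual.D A)).mapIso ((shiftFunctorZero (Dual.D A) ℤ).app ω)))).toLinearEquiv
    exact ⟨e₁.trans (LinearEquiv.ofBijective J hJ)⟩
  · haveI := KFlatLib.preservesColimitsOfShape_nat (A := A)
    refine subsingleton_of_forall_eq 0 fun w => ?_
    obtain ⟨n, u, rfl⟩ := KFlatLib.exists_toTm (ω⟦i⟧) w
    haveI := KFlatLib.subsingleton_hom_of_isFiniteLength hn _ (LC.isFiniteLength_quot_pow (R := A) n) i hi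
    rw [Subsingleton.elim u 0, map_zero]

end Groth.Agent.S1718
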