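import Groth.Statements.S6587


set_option autoImplicit false
universe v u
open CategoryTheory CategoryTheory.Limits Opposite
open CohDer

namespace Groth.Agent.S6587

open CategoryTheory.Pretriangulated in
/-- Let D be a triangulated category and let X_n → Y_n → Z_n → X_n⟦1⟧ be an inverse system of
distinguished triangles of D indexed by ℕ (levelwise maps f, g, h of inverse systems, each level
distinguished). If the inverse system (Z_n) is pro-zero, then the levelwise map f : (X_n) → (Y_n) is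
a pro-isomorphism. -/
theorem result {D : Type u} [Category.{v} D] [Preadditive D] [HasZeroObject D] [HasShift D ℤ]
    [∀ n : ℤ, (shiftFunctor D n).Additive] [Pretriangulated D] [IsTriangulated D]
    (X Y Z : ARSys.PS D) (f : X ⟶ Y) (g : Y ⟶ Z) (h : Z ⟶ X ⋙ shiftFunctor D (1 : ℤ))
    (hT : ∀ n : ℕ, Triangle.mk (f.app (op n)) (g.app (op n)) (h.app (op n)) ∈ distinguishedTriangles)
    (hZ : DerCA.IsProZero Z) :
    DerCA.IsProIso f := by
  intro n
  obtain ⟨n₁, h₁, e₁⟩ := hZ n
  obtain ⟨n₂, h₂, e₂⟩ := hZ n₁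
  have hg : ARSys.tr Y h₂ ≫ g.app (op n₁) = 0 := by
    have := g.naturality (homOfLE h₂).op
    exact this.trans (by rw [show Z.map (homOfLE h₂).op = 0 from e₂, comp_zero])
  obtain ⟨c, hc⟩ : ∃ c : Y.obj (op n₂) ⟶ X.obj (op n₁), ARSys.tr Y h₂ = c ≫ f.app (op n₁) :=
    Triangle.coyoneda_exact₂ _ (hT n₁) (ARSys.tr Y h₂) hg
  refine ⟨n₂, h₁.trans h₂, c ≫ ARSys.tr X h₁, ?_, ?_⟩
  · apply (shiftFunctor D (1 : ℤ)).map_injective
    have hd : (shiftFunctor D (1 : ℤ)).map (f.app (op n₂) ≫ c - ARSys.tr X h₂) ≫ (shiftFunctor D (1 : ℤ)).map (f.app (op n₁)) = 0 := by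
      rw [← Functor.map_comp, Preadditive.sub_comp, Category.assoc, ← hc,
        show ARSys.tr X h₂ ≫ f.app (op n₁) = f.app (op n₂) ≫ ARSys.tr Y h₂ from f.naturality _, sub_self, Functor.map_zero]
    obtain ⟨e, he⟩ : ∃ e : (shiftFunctor D (1 : ℤ)).obj (X.obj (op n₂)) ⟶ Z.obj (op n₁),
        (shiftFunctor D (1 : ℤ)).map (f.app (op n₂) ≫ c - ARSys.tr X h₂) = e ≫ h.app (op n₁) :=
      Triangle.coyoneda_exact₁ _ (hT n₁) _ hd
    have hz : h.app (op n₁) ≫ (shiftFunctor D (1 : ℤ)).map (ARSys.tr X h₁) = 0 := by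
      have := h.naturality (homOfLE h₁).op
      exact this.symm.trans (by rw [show Z.map (homOfLE h₁).op = 0 from e₁, zero_comp])
    have key : (shiftFunctor D (1 : ℤ)).map ((f.app (op n₂) ≫ c - ARSys.tr X h₂) ≫ ARSys.tr X h₁) = 0 := by
      rw [Functor.map_comp, he, Category.assoc, hz, comp_zero]
    rw [Preadditive.sub_comp, Functor.map_sub, sub_eq_zero, Category.assoc] at key
    exact key.trans (congrArg _ (by rw [← X.map_comp]; rfl))
  · rw [Category.assoc, show ARSys.tr X h₁ ≫ f.app (op n) = f.app (op n₁) ≫ ARSys.tr Y h₁ from f.naturality _,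
      ← Category.assoc, ← hc, ← Y.map_comp]
    rfl

end Groth.Agent.S6587
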