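import Groth.Statements.S7094
import Groth.Agent.KFlatLib.Ring.RelPerfectFibres
import Groth.Agent.KFlatLib.Ring.RelPerfectRows
import Groth.Agent.KFlatLib.Ring.RelDualizing
import Groth.Agent.S6940
-- import your own Groth.Agent.* helpers here

set_option autoImplicit false
universe u
attribute [local instance] HasDerivedCategory.standard
open CategoryTheory
open Dual2

namespace Groth.Agent.S7094

/-- Let R → A be a flat homomorphism of finite presentation of commutative rings and K a pseudo-coherent
object of D(A). Then K is R-perfect if and only if H^i(K) = 0 for all sufficiently negative i and,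
for each prime p of R, H^i(K ⊗^L_R κ(p)) = 0 for all sufficiently negative i; here K is viewed in
D(R) by restriction of scalars and the derived tensor product with the residue field κ(p) is the
total left derived functor, assumed to exist. -/
theorem result (R A : Type u) [CommRing R] [CommRing A] [Algebra R A]
    [Module.Flat R A] [Algebra.FinitePresentation R A]
    [∀ p : PrimeSpectrum R, DRing.HasLTensor R (ModuleCat.of R p.asIdeal.ResidueField)]
    (K : Dual.D A) (hK : DRing.IsPseudoCoherent' A K) :
    Dual2.IsRelPerfect R A K ↔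
      (∃ a : ℤ, ∀ i : ℤ, i < a → Subsingleton (Dual.HD A K i)) ∧
        ∀ p : PrimeSpectrum R, ∃ a : ℤ, ∀ i : ℤ, i < a →
          Subsingleton (Dual.HD R ((DRing.LTensor R (ModuleCat.of R p.asIdeal.ResidueField)).obj
            ((DRing.restrictD (algebraMap R A)).obj K)) i) := by
  let φ := algebraMap R A
  constructor
  · intro hKP
    obtain ⟨E, a, b, hz, -, ⟨e⟩⟩ := Groth.Agent.KFlatLib.exists_flat_fp_rep hKP
    obtain ⟨-, c, c', hamp⟩ := hKP
    refine ⟨⟨a, fun i hi => ?_⟩, fun p => ⟨c, fun i hi => ?_⟩⟩
    · refine Groth.Agent.KFlatLib.subsingleton_hd_of_iso e i (ModuleCat.subsingleton_of_isZero ?_)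
      exact (ShortComplex.isZero_homology_of_isZero_X₂ _ (hz i (Or.inl hi))).of_iso
        ((DerivedCategory.homologyFunctorFactors (ModuleCat.{u} A) i).app E)
    · haveI : ∀ M : ModuleCat.{u} R, DRing.HasLTensor R M := Groth.Agent.H9Misc.DRingTor.hasLTensor
      exact (Groth.Agent.H9Misc.DRingTor.iff_ltensor _ c c').1 hamp (ModuleCat.of R p.asIdeal.ResidueField) i (Or.inl hi)
  rintro ⟨⟨a₀, hbelow⟩, hfib⟩
  obtain ⟨d, ψ, hψ, -⟩ := ‹Algebra.FinitePresentation R A›.out
  let P := MvPolynomial (Fin d) R
  letI : Algebra P A := ψ.toRingHom.toAlgebra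
  haveI : IsScalarTower R P A := IsScalarTower.of_algebraMap_eq fun r => (ψ.commutes r).symm
  haveI : Algebra.FinitePresentation P A := Algebra.FinitePresentation.of_restrict_scalars_finitePresentation R P A
  haveI : Module.FinitePresentation P A :=
    Module.finitePresentation_of_surjective (Algebra.linearMap P A) hψ
      (Algebra.FinitePresentation.ker_fG_of_surjective (Algebra.ofId P A) hψ)
  obtain ⟨F, b, hb, hF, ⟨e⟩⟩ :=
    (Groth.Agent.S6940.result (Groth.Agent.FlatSyz5.pc' R P A) K 0).2.1 hK
  let eR : (DRing.restrictD (algebraMap R P)).obj (DerivedCategory.Q.obj F) ≅ (DRing.restrictD φ).obj K :=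
    (DRing.restrictD (algebraMap R P)).mapIso e ≪≫
      ((Groth.Agent.H9Misc.DRingRelPC.restrictDCompIso (algebraMap R P) (algebraMap P A)).app K).symm ≪≫
      (eqToIso (congrArg (fun f => DRing.restrictD f) (IsScalarTower.algebraMap_eq R P A).symm)).app K
  have hbel : ∀ i, i < a₀ → F.ExactAt i := fun i hi => by
    rw [HomologicalComplex.exactAt_iff_isZero_homology]
    haveI := hbelow i hi
    haveI hs : Subsingleton (Dual.HD P ((DRing.restrictD (algebraMap P A)).obj K) i) :=
      haveI : Subsingleton ((ModuleCat.restrictScalars (algebraMap P A)).obj ((DerivedCategory.homologyFunctor (ModuleCat.{u} A) i).obj K)) := hbelow i hi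
      ((Groth.Agent.H9Misc.DRingRestrict.HDRestrictIso (algebraMap P A) K i).toLinearEquiv).toEquiv.subsingleton
    exact (Groth.Agent.H9Misc.DRingCompl.isZ (Groth.Agent.KFlatLib.subsingleton_hd_of_iso e.symm i hs)).of_iso
      ((DerivedCategory.homologyFunctorFactors (ModuleCat.{u} P) i).app F).symm
  have hflat : DRing.TermwiseFlat ((DTen.resCx (algebraMap R P)).obj F) := fun i => by
    haveI := (hF i).2
    letI : Module R (F.X i) := Module.compHom _ (algebraMap R P)
    haveI : IsScalarTower R P (F.X i) := IsScalarTower.of_algebraMap_smul fun _ _ => rfl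
    exact Module.Flat.trans R P (F.X i)
  have hKF := Groth.Agent.H9Misc.DRingTor.isKF_of_flat hflat fun i hi =>
    (ModuleCat.restrictScalars (algebraMap R P)).map_isZero (hb i hi)
  obtain ⟨c, c', hamp⟩ := Groth.Agent.KFlatLib.finiteTorDim_of_fibres (AlgEquiv.refl : P ≃ₐ[R] P) hF b hb a₀ hbel
    fun p => by
      obtain ⟨a, ha⟩ := hfib p
      exact ⟨a, fun i hi => (Groth.Agent.H9Misc.DRingTor.exactAt_tensC_iff _ hKF
        (((DTen.resFactors (algebraMap R P)).app F).symm ≪≫ eR) i).1 (ha i hi)⟩
  exact ⟨hK, c, c', Groth.Agent.H9Misc.DRingTor.of_iso eR hamp⟩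

end Groth.Agent.S7094
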