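import Groth.Statements.S7093
import Groth.Agent.KFlatLib.Ring.RelPerfectRows
import Groth.Agent.S7073
import Groth.Agent.H9Misc.DRingTorTriangle
-- import your own Groth.Agent.* helpers here

set_option autoImplicit false
universe u
attribute [local instance] HasDerivedCategory.standard
open CategoryTheory CategoryTheory.Limits
open Dual2

namespace Groth.Agent.S7093

/-- For a flat homomorphism of finite presentation R → A of commutative rings, the R-perfect objects of
D(A) (pseudo-coherent over A, finite tor dimension over R) form a strictly full, saturated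
triangulated subcategory: the property is a triangulated object property (contains zero, stable
under shifts and under extensions in distinguished triangles), is closed under isomorphisms, and
passes to direct summands. -/
theorem result (R A : Type u) [CommRing R] [CommRing A] [Algebra R A]
    [Module.Flat R A] [Algebra.FinitePresentation R A] :
    ObjectProperty.IsTriangulated (C := Dual.D A) (fun K => Dual2.IsRelPerfect R A K) ∧
      ObjectProperty.IsClosedUnderIsomorphisms (C := Dual.D A) (fun K => Dual2.IsRelPerfect R A K) ∧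
      ∀ X Y : Dual.D A, Dual2.IsRelPerfect R A (X ⊞ Y) → Dual2.IsRelPerfect R A X ∧ Dual2.IsRelPerfect R A Y := by
  let φ := algebraMap R A
  let P : ObjectProperty (Dual.D A) := fun K => Dual2.IsRelPerfect R A K
  have hiso : ∀ {K L : Dual.D A}, (K ≅ L) → P K → P L := fun {K L} e ⟨h₁, a, b, h₂⟩ =>
    ⟨Groth.Agent.H9Misc.DRingPC.of_iso' e h₁, a, b,
      Groth.Agent.H9Misc.DRingTor.of_iso ((DRing.restrictD φ).mapIso e) h₂⟩
  haveI hcl : ObjectProperty.IsClosedUnderIsomorphisms P := ⟨fun e h => hiso e h⟩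
  haveI : P.IsStableUnderShift ℤ := ⟨fun n => ⟨fun K ⟨h₁, a, b, h₂⟩ =>
    ⟨Groth.Agent.H9Misc.DRingPC.shift' h₁ n, a - n, b - n,
      Groth.Agent.H9Misc.DRingTor.of_iso (((DRing.restrictD φ).commShiftIso n).app K).symm
        (Groth.Agent.KFlatLib.hasTorAmplitudeIn_shift h₂ n)⟩⟩⟩
  haveI : P.ContainsZero := ⟨⟨_, isZero_zero _,
    Groth.Agent.S7073.result R A _ (Groth.Agent.H9Misc.DRingPC.isPerfect_of_isZero (isZero_zero _))⟩⟩
  haveI : P.IsTriangulatedClosed₂ := ⟨fun T hT ⟨h₁, a₁, b₁, t₁⟩ ⟨h₃, a₃, b₃, t₃⟩ =>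
    P.le_isoClosure _ ⟨Groth.Agent.H9Misc.DRingPC.obj₂' T hT h₁ h₃, min a₁ a₃, max b₁ b₃,
      Groth.Agent.H9Misc.DRingTor.obj₂_of _ ((DRing.restrictD φ).map_distinguished T hT)
        (Groth.Agent.H9Misc.DRingTor.mono (min_le_left _ _) (le_max_left _ _) t₁)
        (Groth.Agent.H9Misc.DRingTor.mono (min_le_right _ _) (le_max_right _ _) t₃)⟩⟩
  refine ⟨(⟨⟩ : P.IsTriangulated), hcl, fun X Y h => ?_⟩
  obtain ⟨hpc, a, b, hamp⟩ := h
  exact ⟨⟨(Groth.Agent.H9Misc.DRingPC.summand' hpc).1, a, b,
      Groth.Agent.H9Misc.DRingTor.of_retract ((DRing.restrictD φ).map biprod.inl) ((DRing.restrictD φ).map biprod.fst)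
        (by rw [← Functor.map_comp, biprod.inl_fst, CategoryTheory.Functor.map_id]) hamp⟩,
    ⟨(Groth.Agent.H9Misc.DRingPC.summand' hpc).2, a, b,
      Groth.Agent.H9Misc.DRingTor.of_retract ((DRing.restrictD φ).map biprod.inr) ((DRing.restrictD φ).map biprod.snd)
        (by rw [← Functor.map_comp, biprod.inr_snd, CategoryTheory.Functor.map_id]) hamp⟩⟩

end Groth.Agent.S7093
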