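import Groth.Agent.EtFound.PullExt
import Groth.Agent.EtFound.PushLocConst
import Groth.Agent.EtFound.Strata
import Groth.Agent.EtFound.PushExact
import Groth.Agent.BigSiteLib.HofPushEt
import Groth.Agent.SiteBase.LerayTop
import Groth.Agent.EtLimit.PullThen
import Groth.Agent.EtPrimeFilt11.Step
import Groth.Agent.BCCrit13.Basic
import Mathlib.AlgebraicGeometry.Morphisms.QuasiFinite
import Mathlib.AlgebraicGeometry.Morphisms.UniversallyOpen

/-! vanishing of classes on finite etale covers descends and ascends -/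

universe u

open CategoryTheory CategoryTheory.Limits AlgebraicGeometry Opposite CategoryTheory.Abelian

namespace Groth.Agent.KPi1Cover11

set_option backward.isDefEq.respectTransparency false
set_option backward.isDefEq.respectTransparency.types false

/-- every class of `F` in positive degree dies on a finite etale cover -/
def Dies {X : Scheme.{u}} (F : EtCoh.Ab X) (q : ℕ) : Prop :=
  ∀ ζ : EtCoh.H X F q, ∃ (X' : Scheme.{u}) (g : X' ⟶ X), IsFinite g ∧ Etale g ∧ Surjective g ∧
    ∀ [PreservesFiniteLimits (EtCoh.pull g)], EtCore.Hpull g F q ζ = 0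

theorem comp_mk₀_eq_zero {C : Type*} [Category C] [Abelian C] [HasExt.{u + 1} C] {A B B' : C} {n : ℕ}
    (x : Ext.{u + 1} A B n) (e : B ⟶ B') [IsIso e] (h : x.comp (Ext.mk₀ e) (add_zero n) = 0) : x = 0 := by
  have h' := congrArg (fun t => Ext.comp t (Ext.mk₀ (inv e)) (add_zero n)) h
  simpa [Ext.comp_assoc_of_third_deg_zero, Ext.mk₀_comp_mk₀] using h'

variable {X Y : Scheme.{u}} (f : X ⟶ Y) [IsFinite f] [Etale f] [Surjective f]

theorem dies_of_cover (F : EtCoh.Ab Y) (q : ℕ) (h : Dies ((EtCoh.pull f).obj F) q) : Dies F q := by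
  intro ζ
  haveI := EtFound.pull_preservesFiniteLimits f
  obtain ⟨X', g, hfin, het, hsurj, hk⟩ := h (EtCore.Hpull f F q ζ)
  haveI := EtFound.pull_preservesFiniteLimits g
  refine ⟨X', g ≫ f, inferInstance, inferInstance, inferInstance, fun {_} => ?_⟩
  rw [EtFound.Hpull_comp g f (g ≫ f) rfl F q ζ, hk, Ext.zero_comp]

theorem dies_of_base (F : EtCoh.Ab X) (q : ℕ) (h : Dies ((EtCoh.push f).obj F) q) : Dies F q := by
  intro ζ
  haveI := EtFound.pull_preservesFiniteLimits f
  haveI := EtFound.push_preservesFiniteLimits f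
  haveI := EtFound.push_preservesFiniteColimits f
  obtain ⟨η, hη⟩ := (BigSiteLib.hofPush_bijective f F (fun k hk => by
    obtain ⟨m, rfl⟩ := Nat.exists_eq_succ_of_ne_zero hk.ne'
    exact LerayDegen.isZero_rightDerived_of_exact (EtCoh.push f) _ m) q).2 ζ
  obtain ⟨Y', g, hfin, het, hsurj, hk⟩ := h η
  let g' := pullback.fst f g
  let f' := pullback.snd f g
  haveI := EtFound.pull_preservesFiniteLimits g
  haveI := EtFound.pull_preservesFiniteLimits f'
  haveI := EtFound.pull_preservesFiniteLimits (g' ≫ f)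
  haveI : IsFinite g' := MorphismProperty.pullback_fst _ _ hfin
  haveI : Etale g' := MorphismProperty.pullback_fst _ _ het
  haveI : Surjective g' := MorphismProperty.pullback_fst _ _ hsurj
  refine ⟨_, g', inferInstance, inferInstance, inferInstance, fun {_} => ?_⟩
  have h1 : EtCore.Hpull (g' ≫ f) ((EtCoh.push f).obj F) q η = 0 := by
    rw [EtFound.Hpull_comp f' g (g' ≫ f) pullback.condition.symm _ q η, hk, map_zero, Ext.zero_comp]
  rw [EtFound.Hpull_comp g' f (g' ≫ f) rfl] at h1
  have h2 := comp_mk₀_eq_zero _ _ h1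
  rw [← hη]
  refine (EtLimit.Hpull_comp_mk₀ g' ((EtCoh.pullPushAdj f).counit.app F) q
    (EtCore.Hpull f ((EtCoh.push f).obj F) q η)).trans ?_
  exact (congrArg (fun t => Ext.comp t (Ext.mk₀ ((EtCoh.pull g').map ((EtCoh.pullPushAdj f).counit.app F))) (add_zero q)) h2).trans
    (Ext.zero_comp _ _ _ _ _)

omit [Surjective f] in
include f in
theorem finite_connectedComponents [CompactSpace ↥Y] (hY : Finite (_root_.ConnectedComponents ↥Y)) :
    Finite (_root_.ConnectedComponents ↥X) := by
  classical
  let s : _root_.ConnectedComponents ↥Y → ↥Y := Function.surjInv ConnectedComponents.surjective_coe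
  have hs : ∀ c, ConnectedComponents.mk (s c) = c := Function.surjInv_eq ConnectedComponents.surjective_coe
  let P : Set ↥X := f.base ⁻¹' Set.range s
  have hPfin : P.Finite := f.finite_preimage (Set.finite_range s)
  haveI : LocallyOfFinitePresentation f := inferInstance
  have hmeet : ∀ Z : Set ↥X, IsClopen Z → Z.Nonempty → ∃ p ∈ P, p ∈ Z := by
    rintro Z hZ ⟨x, hx⟩
    have hfZ : IsClopen (f.base '' Z) := ⟨f.isClosedMap Z hZ.1, f.isOpenMap Z hZ.2⟩
    have hc : s (ConnectedComponents.mk (f.base x)) ∈ f.base '' Z := by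
      refine hfZ.connectedComponent_subset (Set.mem_image_of_mem _ hx) ?_
      exact ConnectedComponents.coe_eq_coe'.1 (hs _)
    obtain ⟨p, hp, hp'⟩ := hc
    exact ⟨p, ⟨_, hp'.symm⟩, hp⟩
  let r : {Z : Set ↥X // IsClopen Z} → Set ↥P := fun Z => Subtype.val ⁻¹' Z.1
  have hr : Function.Injective r := by
    rintro ⟨Z, hZ⟩ ⟨Z', hZ'⟩ h
    refine Subtype.ext (Set.ext fun x => ?_)
    by_contra hx
    obtain ⟨p, hp, hpZ⟩ := hmeet (symmDiff Z Z') ((hZ.diff hZ').union (hZ'.diff hZ)) ⟨x, by
      rw [Set.mem_symmDiff]; tauto⟩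
    have := congrArg (fun S : Set ↥P => (⟨p, hp⟩ : ↥P) ∈ S) h
    simp only [r, Set.mem_preimage, eq_iff_iff] at this
    rw [Set.mem_symmDiff] at hpZ
    tauto
  haveI : Finite ↥P := hPfin.to_subtype
  haveI : Finite {Z : Set ↥X // IsClopen Z} := Finite.of_injective r hr
  let A : ↥X → Set ↥X := fun x => ⋂ Z : {Z : {Z : Set ↥X // IsClopen Z} // x ∈ Z.1}, Z.1.1
  have hA : ∀ x, IsClopen (A x) := fun x => isClopen_iInter_of_finite fun Z => Z.1.2
  have hxA : ∀ x, x ∈ A x := fun x => Set.mem_iInter.2 fun Z => Z.2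
  have hAc : ∀ x, A x = connectedComponent x := fun x => by
    refine subset_antisymm ?_ ((hA x).connectedComponent_subset (hxA x))
    refine IsPreconnected.subset_connectedComponent ?_ (hxA x)
    rw [isPreconnected_iff_subset_of_disjoint_closed]
    intro u v hu hv huv hdis
    have key : ∀ u v : Set ↥X, IsClosed u → IsClosed v → A x ⊆ u ∪ v → A x ∩ (u ∩ v) = ∅ → x ∈ u → A x ⊆ u := by
      intro u v hu hv huv hdis hxu
      have hcl : IsClopen (A x ∩ u) := by
        refine ⟨(hA x).1.inter hu, ?_⟩
        have e : A x ∩ u = A x ∩ vᶜ := by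
          ext y
          have h1 := @huv y
          have h2 : y ∈ A x ∩ (u ∩ v) → False := fun h => by rw [hdis] at h; exact h
          simp only [Set.mem_inter_iff, Set.mem_union, Set.mem_compl_iff] at *
          tauto
        rw [e]
        exact (hA x).2.inter hv.isOpen_compl
      exact fun y hy => (Set.mem_iInter.1 hy ⟨⟨_, hcl⟩, hxA x, hxu⟩).2
    rcases huv (hxA x) with hxu | hxv
    · exact Or.inl (key u v hu hv huv hdis hxu)
    · exact Or.inr (key v u hv hu (by rwa [Set.union_comm]) (by rwa [Set.inter_comm v u]) hxv)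
  refine Finite.of_injective (fun c : _root_.ConnectedComponents ↥X =>
    (⟨A (Function.surjInv ConnectedComponents.surjective_coe c), hA _⟩ : {Z : Set ↥X // IsClopen Z})) fun c d h => ?_
  have h' : connectedComponent (Function.surjInv ConnectedComponents.surjective_coe c) =
      connectedComponent (Function.surjInv ConnectedComponents.surjective_coe d) :=
    (hAc _).symm.trans ((congrArg Subtype.val h).trans (hAc _))
  rw [← Function.surjInv_eq ConnectedComponents.surjective_coe c,
    ← Function.surjInv_eq ConnectedComponents.surjective_coe d]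
  exact ConnectedComponents.coe_eq_coe.2 h'

end Groth.Agent.KPi1Cover11
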