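import Groth.Statements.S3194
import Groth.Agent.KZ.Basic
import Mathlib.Algebra.Homology.ShortComplex.ModuleCat
import Mathlib.Algebra.Category.ModuleCat.Abelian
import Mathlib

set_option autoImplicit false
universe u
open CategoryTheory
open SGA6

namespace Groth.Agent.S3194

/-- Let A be a principal ideal domain and K_•(Spec A) = K₀ of the category of finitely generated
A-modules (free abelian group on finitely generated modules modulo short exact sequences). The
homomorphism ℤ ⟶ K_•(Spec A) sending k to k·[A] is bijective. -/
theorem result (A : Type u) [CommRing A] [IsDomain A] [IsPrincipalIdealRing A] :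
    Function.Bijective (fun k : ℤ => k • KZero.clSub (fun M : ModuleCat.{u} A => Module.Finite A M) (ModuleCat.of A A)) := by
  classical
  let P : ObjectProperty (ModuleCat.{u} A) := fun M => Module.Finite A M
  let e : KZero.K0sub P := KZero.clSub P (ModuleCat.of A A)
  have hmk : ∀ {X Y Z : Type u} [AddCommGroup X] [AddCommGroup Y] [AddCommGroup Z]
      [Module A X] [Module A Y] [Module A Z] (f : X →ₗ[A] Y) (g : Y →ₗ[A] Z),
      Function.Injective f → Function.Surjective g → Function.Exact f g →
      Module.Finite A X → Module.Finite A Y → Module.Finite A Z →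
      KZero.clSub P (ModuleCat.of A Y) =
        KZero.clSub P (ModuleCat.of A X) + KZero.clSub P (ModuleCat.of A Z) := by
    intro X Y Z _ _ _ _ _ _ f g hf hg hfg hX hY hZ
    have hw : ModuleCat.ofHom f ≫ ModuleCat.ofHom g = 0 := by
      ext x; exact hfg.apply_apply_eq_zero x
    have hS : (ShortComplex.mk (ModuleCat.ofHom f) (ModuleCat.ofHom g) hw).ShortExact :=
      { exact := (ShortComplex.moduleCat_exact_iff _).2 (fun x hx => (hfg x).1 hx)
        mono_f := (ModuleCat.mono_iff_injective _).2 hf
        epi_g := (ModuleCat.epi_iff_surjective _).2 hg }
    exact KZ.clSub_ses P hS hX hY hZ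
  have hfree : ∀ n : ℕ, KZero.clSub P (ModuleCat.of A (Fin n → A)) = (n : ℤ) • e := by
    intro n
    induction n with
    | zero =>
      rw [KZ.clSub_isZero P (ModuleCat.isZero_of_subsingleton _)]; simp
    | succ n ih =>
      have := hmk (LinearMap.single A (fun _ : Fin (n + 1) => A) 0)
        (LinearMap.funLeft A A (Fin.succ : Fin n → Fin (n + 1)))
        (fun x y h => by simpa using congrFun h 0)
        (fun v => ⟨Fin.cons 0 v, by funext i; simp [LinearMap.funLeft]⟩)
        (fun v => ⟨fun h => ⟨v 0, by
            funext i
            refine Fin.cases ?_ ?_ i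
            · simp
            · intro j; simpa [LinearMap.funLeft] using (congrFun h j).symm⟩,
          by rintro ⟨x, rfl⟩; funext j; simp [LinearMap.funLeft]⟩)
        inferInstance inferInstance inferInstance
      rw [this, ih]
      show e + _ = _
      push_cast
      module
  refine ⟨fun a b hab => ?_, ?_⟩
  · obtain ⟨r, hr⟩ := KZ.exists_liftSub P (fun M => (Module.finrank A M : ℤ))
      (fun S hS h1 h2 h3 => by
        have : Module.Finite A S.X₁ := h1
        have : Module.Finite A S.X₂ := h2
        have : Module.Finite A S.X₃ := h3
        have hinj : Function.Injective S.f.hom := (ModuleCat.mono_iff_injective _).1 hS.mono_f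
        have hsur : Function.Surjective S.g.hom := (ModuleCat.epi_iff_surjective _).1 hS.epi_g
        have he : LinearMap.range S.f.hom = LinearMap.ker S.g.hom :=
          S.moduleCat_exact_iff_range_eq_ker.1 hS.exact
        have h := Submodule.finrank_quotient_add_finrank (LinearMap.range S.f.hom)
        have e1 := LinearMap.finrank_range_of_inj hinj
        have e2 := ((Submodule.quotEquivOfEq _ _ he).trans
          (S.g.hom.quotKerEquivOfSurjective hsur)).finrank_eq
        rw [← h, e1, e2]
        push_cast
        ring)
    have he : r (KZero.clSub P (ModuleCat.of A A)) = 1 := by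
      rw [hr _ (inferInstanceAs (Module.Finite A A))]; simp
    have := congrArg r hab
    simp only [map_zsmul, P] at this he
    rw [he] at this
    simpa using this
  · intro x
    change x ∈ (zmultiplesHom _ e).range
    induction x using QuotientAddGroup.induction_on with
    | H z =>
      induction z using FreeAbelianGroup.induction_on with
      | zero => exact zero_mem _
      | of X =>
        have : Module.Finite A X.1 := X.2
        obtain ⟨n, f, hf⟩ := Module.Finite.exists_fin' A X.1
        obtain ⟨m, b⟩ := Submodule.basisOfPid (Pi.basisFun A (Fin n)) (LinearMap.ker f)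
        have h1 := hmk ((LinearMap.ker f).subtype ∘ₗ b.equivFun.symm.toLinearMap) f
          (Subtype.val_injective.comp b.equivFun.symm.injective) hf
          (fun v => ⟨fun h => ⟨b.equivFun ⟨v, h⟩, by simp⟩,
            by rintro ⟨x, rfl⟩; exact (b.equivFun.symm x).2⟩)
          inferInstance inferInstance inferInstance
        rw [hfree, hfree] at h1
        refine ⟨(n : ℤ) - m, ?_⟩
        rw [← KZ.clSub_of_prop P X.2, zmultiplesHom_apply, sub_smul]
        exact sub_eq_iff_eq_add'.mpr h1
      | neg X hX => exact neg_mem hX
      | add a b ha hb => exact add_mem ha hb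

end Groth.Agent.S3194
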