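import Groth.Statements.S0914
import Groth.Agent.KFlatLib.Perfect.Corollaries
-- import your own Groth.Agent.* helpers here

set_option autoImplicit false
universe u
open CategoryTheory
attribute [local instance] HasDerivedCategory.standard
open DCoh

namespace Groth.Agent.S0914

open AlgebraicGeometry in
/-- An object E of D(O_X) is perfect if and only if it is m-pseudo-coherent for every m and locally has
finite tor dimension. -/
theorem result {X : Scheme.{u}} (E : DCoh.D X) :
    DCoh.IsPerfect E ↔ (∀ m : ℤ, DCoh.IsPseudoCoherentD m E) ∧ DCoh.LocHasFiniteTorDim E := by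
  constructor
  · intro h
    refine ⟨fun m => ?_, Groth.Agent.KFlatLib.locHasFiniteTorDim_of_locSP h⟩
    rw [Groth.Agent.KFlatLib.isPseudoCoherentD_iff]
    exact ((Groth.Agent.KFlatLib.isPerfect_iff E).1 h).locPC m
  · rintro ⟨hpc, htor⟩
    rw [Groth.Agent.KFlatLib.isPerfect_iff]
    exact Groth.Agent.KFlatLib.locSP_of_locPC_finTor (fun m => (Groth.Agent.KFlatLib.isPseudoCoherentD_iff m E).1 (hpc m)) htor

end Groth.Agent.S0914
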