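import Groth.Statements.S7142
import Groth.Agent.KZ.Perfect
import Mathlib.Algebra.Category.ModuleCat.Biproducts
import Mathlib.Algebra.Category.ModuleCat.Projective
import Mathlib.Algebra.Module.Projective
import Mathlib.RingTheory.Finiteness.Basic
import Mathlib.RingTheory.Finiteness.Prod
import Mathlib.LinearAlgebra.Prod

set_option autoImplicit false
universe u
open CategoryTheory CategoryTheory.Limits
attribute [local instance] HasDerivedCategory.standard
open KZero

namespace Groth.Agent.S7142

/-- Let R be a ring. There is an isomorphism K₀(R) ≅ K₀(D_perf(R)) between the Grothendieck group of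
finite projective R-modules and that of the triangulated category of perfect objects of D(R),
sending the class of a finite projective module M to the class of M placed in degree 0; under its
inverse the class of a bounded complex M^• of finite projective modules (vanishing outside [a, b])
goes to Σ_i (-1)^i [M^i]. -/
theorem result (R : Type u) [CommRing R] :
    ∃ φ : KZero.K0sub (fun M : ModuleCat.{u} R => Module.Finite R M ∧ Module.Projective R M) ≃+
        KZero.K0tr (fun K : Dual.D R => DRing.IsPerfect R K),
      (∀ (M : Type u) [AddCommGroup M] [Module R M], Module.Finite R M → Module.Projective R M →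
        φ (KZero.clSub (fun M : ModuleCat.{u} R => Module.Finite R M ∧ Module.Projective R M) (ModuleCat.of R M)) =
          KZero.clTr (fun K : Dual.D R => DRing.IsPerfect R K) (Dual.inD R M)) ∧
      ∀ (E : DRing.Cx R) (a b : ℤ), DRing.VanishesOutside E a b → DRing.TermwiseFiniteProjective E →
        φ.symm (KZero.clTr (fun K : Dual.D R => DRing.IsPerfect R K) (DRing.toD E)) =
          (Finset.Icc a b).sum (fun i => (i.negOnePow : ℤ) •
            KZero.clSub (fun M : ModuleCat.{u} R => Module.Finite R M ∧ Module.Projective R M) (E.X i)) := by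
  let P : ObjectProperty (ModuleCat.{u} R) :=
    fun M => Module.Finite R M ∧ Module.Projective R M
  have hiso : ∀ {X Y : ModuleCat.{u} R}, (X ≅ Y) → P X → P Y := fun e h => by
    rename_i X Y
    have : Module.Finite R X := h.1; have : Module.Projective R X := h.2
    exact ⟨Module.Finite.equiv e.toLinearEquiv, Module.Projective.of_equiv e.toLinearEquiv⟩
  have hP : KZ.ProjClass P :=
    { proj := fun X h => (IsProjective.iff_projective (R := R) X).1 h.2
      iso := hiso
      zero := fun X hX => by
        have : Subsingleton X := ModuleCat.isZero_iff_subsingleton.1 hX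
        exact ⟨inferInstance, Module.Projective.of_free⟩
      biprod := fun X Y hX hY => by
        have : Module.Finite R X := hX.1; have : Module.Projective R X := hX.2
        have : Module.Finite R Y := hY.1; have : Module.Projective R Y := hY.2
        have h : P (ModuleCat.of R (X × Y)) :=
          ⟨inferInstanceAs (Module.Finite R (X × Y)), inferInstanceAs (Module.Projective R (X × Y))⟩
        exact hiso (ModuleCat.biprodIsoProd X Y).symm h
      ker := fun S hS h2 h3 => by
        have : Module.Finite R S.X₂ := h2.1; have : Module.Projective R S.X₂ := h2.2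
        have : Module.Projective R S.X₃ := h3.2
        have hinj : Function.Injective S.f.hom := (ModuleCat.mono_iff_injective _).1 hS.mono_f
        have hsur : Function.Surjective S.g.hom := (ModuleCat.epi_iff_surjective _).1 hS.epi_g
        obtain ⟨s, hs⟩ := Module.projective_lifting_property S.g.hom LinearMap.id hsur
        have hex : Function.Exact S.f.hom S.g.hom :=
          (ShortComplex.ShortExact.moduleCat_exact_iff_function_exact S).1 hS.exact
        obtain ⟨-, r, hr⟩ := (hex.split_tfae'.out 0 1).1 (⟨hinj, s, hs⟩ :
          Function.Injective S.f.hom ∧ ∃ l, S.g.hom ∘ₗ l = LinearMap.id)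
        exact ⟨Module.Finite.of_surjective r (fun x => ⟨S.f.hom x, LinearMap.congr_fun hr x⟩),
          Module.Projective.of_split S.f.hom _ hr⟩ }
  obtain ⟨φ, h1, h2⟩ := KZ.exists_equiv_perf (P := P) (fun K : Dual.D R => DRing.IsPerfect R K)
    (fun K => ⟨fun ⟨E, a, b, hz, ht, e⟩ => ⟨E, ⟨ht, a, b, hz⟩, e⟩,
      fun ⟨E, ⟨ht, a, b, hz⟩, e⟩ => ⟨E, a, b, hz, ht, e⟩⟩) hP
  refine ⟨φ, fun M _ _ hf hp => h1 (ModuleCat.of R M) ⟨hf, hp⟩, fun E a b hz ht => ?_⟩
  refine (h2 E ⟨ht, a, b, hz⟩).trans ?_
  refine finsum_eq_sum_of_support_subset _ fun i hi => ?_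
  rw [Finset.coe_Icc]
  by_contra hc
  rw [Set.mem_Icc, not_and_or, not_le, not_le] at hc
  apply hi
  simp only [KZ.clSub_isZero P (hz i hc), smul_zero]

end Groth.Agent.S7142
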