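import Groth.Statements.S16235
import Mathlib.RingTheory.Ideal.KrullsHeightTheorem
import Mathlib.RingTheory.Regular.RegularSequence
import Mathlib.RingTheory.Ideal.AssociatedPrime.Localization

set_option autoImplicit false
universe u
open CAlg

namespace Groth.Agent.S16235
/-- A prime containing a weakly regular sequence has height at least its length. -/
theorem length_le_height {A : Type u} [CommRing A] [IsNoetherianRing A] {r : ℕ} (x : Fin r → A)
    (hx : RingTheory.Sequence.IsWeaklyRegular A (List.ofFn x)) (k : ℕ) (hk : k ≤ r) :
    ∀ Q : Ideal A, Q.IsPrime → Ideal.ofList ((List.ofFn x).take k) ≤ Q → (k : ℕ∞) ≤ Q.height := by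
  induction k with
  | zero => intro Q _ _; simp
  | succ k ih =>
    intro Q hQ hle
    have hlen : k < (List.ofFn x).length := by rw [List.length_ofFn]; omega
    rw [List.take_succ_eq_append_getElem hlen, Ideal.ofList_append, Ideal.ofList_singleton, sup_le_iff] at hle
    obtain ⟨q, hq, hqQ⟩ := Ideal.exists_minimalPrimes_le hle.1
    haveI := hq.isPrime
    let I : Ideal A := Ideal.ofList ((List.ofFn x).take k)
    have hreg : IsSMulRegular (A ⧸ (I • ⊤ : Submodule A A)) ((List.ofFn x)[k]) :=
      ((RingTheory.Sequence.isWeaklyRegular_iff A _).1 hx) k hlen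
    have hI : (I • ⊤ : Submodule A A) = I := by simp
    rw [hI] at hreg
    have hass : q ∈ associatedPrimes A (A ⧸ I) := by
      refine Module.associatedPrimes.minimalPrimes_annihilator_subset_associatedPrimes A (A ⧸ I) ?_
      rwa [Ideal.annihilator_quotient]
    have hnot : (List.ofFn x)[k] ∉ q := by
      intro hmem
      have := Set.mem_biUnion hass hmem (t := fun p : Ideal A => (p : Set A))
      rw [biUnion_associatedPrimes_eq_zero_divisors] at this
      obtain ⟨z, hz, hz0⟩ := this
      exact hz (hreg.right_eq_zero_of_smul hz0)
    have hlt : q < Q := lt_of_le_of_ne hqQ fun e => hnot (e ▸ (Ideal.span_singleton_le_iff_mem _).1 hle.2)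
    haveI : Q.FiniteHeight := Ideal.finiteHeight_of_isNoetherianRing Q
    have h1 := Ideal.height_strict_mono_of_isPrime_of_isPrime hlt
    have h2 := ih (by omega) q hq.isPrime hq.1.2
    push_cast
    exact Order.add_one_le_of_lt (lt_of_le_of_lt h2 h1)

/-- Let A be a Noetherian commutative ring and x_1, …, x_r a regular sequence on A (each x_i a
non-zero-divisor on A/(x_1, …, x_{i-1})) generating an ideal I ≠ A. Then the height of I, the
infimum of the heights of the minimal primes over I, equals r. -/
theorem result (A : Type u) [CommRing A] [IsNoetherianRing A]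
    (r : ℕ) (x : Fin r → A) (hx : RingTheory.Sequence.IsWeaklyRegular A (List.ofFn x))
    (hI : Ideal.span (Set.range x) ≠ ⊤) :
    (Ideal.span (Set.range x)).height = r := by
  classical
  have hspan : Ideal.ofList ((List.ofFn x).take r) = Ideal.span (Set.range x) := by
    rw [List.take_of_length_le (by rw [List.length_ofFn])]
    show Ideal.span {a | a ∈ List.ofFn x} = _
    congr 1
    ext a
    simp [List.mem_ofFn]
  apply le_antisymm
  · obtain ⟨M, hM, hMle⟩ := Ideal.exists_le_maximal _ hI
    haveI := hM.isPrime
    obtain ⟨p, hp, hpM⟩ := Ideal.exists_minimalPrimes_le hMle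
    haveI := hp.isPrime
    refine (Ideal.height_mono hp.1.2).trans ?_
    have hcoe : ((Finset.univ.image x : Finset A) : Set A) = Set.range x := by simp
    refine (Ideal.height_le_card_of_mem_minimalPrimes_span_finset (s := Finset.univ.image x) (by rwa [hcoe])).trans ?_
    exact_mod_cast (Finset.card_image_le.trans (by simp))
  · rw [Ideal.height_eq_inf_minimalPrimes]
    refine le_iInf₂ fun p hp => ?_
    exact length_le_height x hx r le_rfl p hp.isPrime (hspan.le.trans hp.1.2)

end Groth.Agent.S16235
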