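import Groth.Statements.S1352
import Mathlib

set_option autoImplicit false
universe u
open FlatMor

namespace Groth.Agent.S1352

open MvPolynomial
attribute [local instance] MvPolynomial.algebraMvPolynomial

set_option synthInstance.maxHeartbeats 400000 in
lemma exists_C_mem_of_no_point {A : Type u} [CommRing A] [IsDomain A] {σ : Type} [Finite σ]
    (I : Ideal (MvPolynomial σ A))
    (h : ∀ v : σ → AlgebraicClosure (FractionRing A), ∃ g ∈ I,
      eval₂ (algebraMap A (AlgebraicClosure (FractionRing A))) v g ≠ 0) :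
    ∃ a : A, a ≠ 0 ∧ C a ∈ I := by
  let K := FractionRing A
  have hJ : I.map (algebraMap (MvPolynomial σ A) (MvPolynomial σ K)) = ⊤ := by
    by_contra hne
    obtain ⟨m, hm, hle⟩ := Ideal.exists_le_maximal _ hne
    letI : Field (MvPolynomial σ K ⧸ m) := Ideal.Quotient.field m
    haveI : Algebra.FiniteType K (MvPolynomial σ K ⧸ m) :=
      Algebra.FiniteType.of_surjective (Ideal.Quotient.mkₐ K m) (Ideal.Quotient.mkₐ_surjective K m)
    haveI : Module.Finite K (MvPolynomial σ K ⧸ m) := finite_of_finite_type_of_isJacobsonRing _ _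
    let ψ : (MvPolynomial σ K ⧸ m) →ₐ[K] AlgebraicClosure K := IsAlgClosed.lift
    obtain ⟨g, hg, hv⟩ := h (fun i => ψ (Ideal.Quotient.mk m (X i)))
    apply hv
    have hmap : algebraMap (MvPolynomial σ A) (MvPolynomial σ K) = MvPolynomial.map (algebraMap A K) := rfl
    have h1 : (eval₂Hom (algebraMap A (AlgebraicClosure K))
        (fun i => ψ (Ideal.Quotient.mk m (X i)))) =
        (ψ.toRingHom.comp (Ideal.Quotient.mk m)).comp
          (algebraMap (MvPolynomial σ A) (MvPolynomial σ K)) := by
      rw [hmap]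
      apply MvPolynomial.ringHom_ext
      · intro r
        simp only [coe_eval₂Hom, eval₂_C, RingHom.comp_apply, map_C]
        rw [show Ideal.Quotient.mk m (C (algebraMap A K r)) =
          algebraMap K (MvPolynomial σ K ⧸ m) (algebraMap A K r) from rfl]
        simp only [AlgHom.toRingHom_eq_coe, RingHom.coe_coe, AlgHom.commutes]
        rw [← IsScalarTower.algebraMap_apply]
      · intro i
        simp
    have h2 := DFunLike.congr_fun h1 g
    simp only [coe_eval₂Hom] at h2
    rw [h2, RingHom.comp_apply, RingHom.comp_apply,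
      Ideal.Quotient.eq_zero_iff_mem.mpr (hle (Ideal.mem_map_of_mem _ hg)), map_zero]
  obtain ⟨⟨⟨g, hg⟩, ⟨s, hs⟩⟩, e⟩ :=
    (IsLocalization.mem_map_algebraMap_iff ((nonZeroDivisors A).map <| C (σ := σ)) _).mp
      (show (1 : MvPolynomial σ K) ∈ I.map (algebraMap (MvPolynomial σ A) (MvPolynomial σ K)) by
        rw [hJ]; trivial)
  obtain ⟨a, ha, rfl⟩ := hs
  refine ⟨a, nonZeroDivisors.ne_zero ha, ?_⟩
  have : C a = g := by
    apply MvPolynomial.map_injective (algebraMap A K) (IsFractionRing.injective A K)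
    rw [show algebraMap (MvPolynomial σ A) (MvPolynomial σ K) = MvPolynomial.map (algebraMap A K) from rfl] at e
    simpa using e
  rw [this]; exact hg

/-- exponents of degree at most d -/
noncomputable def expo (n d : ℕ) : Finset (Fin n →₀ ℕ) :=
  (Finset.Iic (Finsupp.equivFunOnFinite.symm fun _ => d)).filter fun α => (α.sum fun _ e => e) ≤ d

lemma mem_expo {n d : ℕ} {α : Fin n →₀ ℕ} : α ∈ expo n d ↔ (α.sum fun _ e => e) ≤ d := by
  simp only [expo, Finset.mem_filter, Finset.mem_Iic, and_iff_right_iff_imp]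
  intro h i
  simp only [Finsupp.equivFunOnFinite_symm_apply_apply]
  refine le_trans ?_ h
  rw [Finsupp.sum_fintype _ _ (fun _ => rfl)]
  exact Finset.single_le_sum (f := fun j => α j) (fun j _ => Nat.zero_le _) (Finset.mem_univ i)

lemma exists_poly {R : Type*} [CommRing R] {n d : ℕ} {G : MvPolynomial (Fin n) R}
    (h : G.totalDegree ≤ d) :
    G = ∑ α : (expo n d : Finset _), monomial (α : Fin n →₀ ℕ) (coeff (α : Fin n →₀ ℕ) G) := by
  rw [Finset.sum_coe_sort (expo n d) (fun α => monomial α (coeff α G))]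
  conv_lhs => rw [G.as_sum]
  refine Finset.sum_subset (fun α hα => mem_expo.mpr ((le_totalDegree hα).trans h)) ?_
  intro α _ hα
  rw [notMem_support_iff.mp hα, monomial_zero]

lemma poly_totalDegree {R : Type*} [CommRing R] {n d : ℕ}
    (v : ↥(expo n d) → R) :
    (∑ α : (expo n d : Finset _), monomial (α : Fin n →₀ ℕ) (v α)).totalDegree ≤ d :=
  MvPolynomial.totalDegree_finsetSum_le (s := Finset.univ) fun α _ =>
    (totalDegree_monomial_le _ _).trans (mem_expo.mp α.2)

lemma not_unit_of_totalDegree {R : Type*} [CommRing R] [IsDomain R] {n : ℕ}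
    {G : MvPolynomial (Fin n) R} (h : G.totalDegree ≠ 0) : ¬ IsUnit G := fun hu =>
  h (isUnit_iff_totalDegree_of_isReduced.mp hu).2

lemma totalDegree_pos {R : Type*} [Field R] {n : ℕ}
    {G : MvPolynomial (Fin n) R} (h : ¬ IsUnit G) (h0 : G ≠ 0) : G.totalDegree ≠ 0 := by
  intro hd
  refine h (isUnit_iff_totalDegree_of_isReduced.mpr ⟨?_, hd⟩)
  rw [isUnit_iff_ne_zero]
  intro hc
  apply h0
  rw [totalDegree_eq_zero_iff_eq_C.mp hd, hc, C_0]

lemma exists_bad {A : Type u} [CommRing A] [IsDomain A] {n : ℕ} (P : MvPolynomial (Fin n) A)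
    (d d1 : ℕ) (hd1 : d1 ∈ Finset.Ico 1 d)
    (hP : Irreducible (MvPolynomial.map (algebraMap A (AlgebraicClosure (FractionRing A))) P))
    (hd : (MvPolynomial.map (algebraMap A (AlgebraicClosure (FractionRing A))) P).totalDegree = d) :
    ∃ a : A, a ≠ 0 ∧ ∀ (κ : Type u) [Field κ] (φ : A →+* κ) (G H : MvPolynomial (Fin n) κ),
      G.totalDegree ≤ d1 → H.totalDegree ≤ d - d1 → G * H = MvPolynomial.map φ P → φ a = 0 := by
  let σ := (expo n d1 : Finset _) ⊕ (expo n (d - d1) : Finset _)
  let G₀ : MvPolynomial (Fin n) (MvPolynomial σ A) :=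
    ∑ α : (expo n d1 : Finset _), monomial (α : Fin n →₀ ℕ) (X (Sum.inl α))
  let H₀ : MvPolynomial (Fin n) (MvPolynomial σ A) :=
    ∑ α : (expo n (d - d1) : Finset _), monomial (α : Fin n →₀ ℕ) (X (Sum.inr α))
  let D := G₀ * H₀ - MvPolynomial.map C P
  let I : Ideal (MvPolynomial σ A) := Ideal.span (Set.range fun m => coeff m D)
  have key : ∀ {B : Type u} [CommRing B] (φ : A →+* B) (v : σ → B),
      MvPolynomial.map (eval₂Hom φ v) D =
        (∑ α : (expo n d1 : Finset _), monomial (α : Fin n →₀ ℕ) (v (Sum.inl α))) *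
        (∑ α : (expo n (d - d1) : Finset _), monomial (α : Fin n →₀ ℕ) (v (Sum.inr α))) -
        MvPolynomial.map φ P := by
    intro B _ φ v
    have hc : (eval₂Hom φ v).comp C = φ := by ext r; simp
    simp only [D, G₀, H₀, map_sub, map_mul, map_sum, map_monomial, coe_eval₂Hom, eval₂_X,
      MvPolynomial.map_map, hc]
  have hI : ∀ v : σ → AlgebraicClosure (FractionRing A), ∃ g ∈ I,
      eval₂ (algebraMap A (AlgebraicClosure (FractionRing A))) v g ≠ 0 := by
    intro v
    by_contra hcon
    push Not at hcon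
    have h0 : MvPolynomial.map (eval₂Hom (algebraMap A (AlgebraicClosure (FractionRing A))) v) D
        = 0 := by
      ext m
      rw [coeff_map, coeff_zero]
      exact hcon _ (Ideal.subset_span ⟨m, rfl⟩)
    rw [key, sub_eq_zero] at h0
    have hb := Finset.mem_Ico.mp hd1
    have hG := poly_totalDegree (fun α => v (Sum.inl α) : ↥(expo n d1) → _)
    have hH := poly_totalDegree (fun α => v (Sum.inr α) : ↥(expo n (d - d1)) → _)
    have hne := hP.ne_zero
    rw [← h0, mul_ne_zero_iff] at hne
    have hsum := totalDegree_mul_of_isDomain hne.1 hne.2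
    rw [h0, hd] at hsum
    rcases hP.isUnit_or_isUnit h0.symm with h | h
    · exact not_unit_of_totalDegree (by omega) h
    · exact not_unit_of_totalDegree (by omega) h
  obtain ⟨a, ha, haI⟩ := exists_C_mem_of_no_point I hI
  refine ⟨a, ha, fun κ _ φ G H hG hH hGH => ?_⟩
  let v : σ → κ := Sum.elim (fun α => coeff (α : Fin n →₀ ℕ) G) (fun α => coeff (α : Fin n →₀ ℕ) H)
  have hz : MvPolynomial.map (eval₂Hom φ v) D = 0 := by
    rw [key]
    simp only [v, Sum.elim_inl, Sum.elim_inr]
    rw [← exists_poly hG, ← exists_poly hH, hGH, sub_self]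
  have hle : I ≤ RingHom.ker (eval₂Hom φ v) := by
    rw [Ideal.span_le]
    rintro _ ⟨m, rfl⟩
    simpa [coeff_map] using congrArg (coeff m) hz
  simpa [RingHom.mem_ker] using hle haI

/-- For a domain A and a polynomial P in finitely many variables over A which is irreducible over an
algebraic closure of the fraction field of A: Then there is a nonzero f in A such that for every
ring map from A[1/f] to a field (in the same universe) the image of P is irreducible. (The source
leaves the nonvanishing of f implicit; for f = 0 the conclusion would be vacuous.) -/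
theorem result {A : Type u} [CommRing A] [IsDomain A] {n : ℕ} (P : MvPolynomial (Fin n) A)
    (hP : Irreducible (MvPolynomial.map (algebraMap A (AlgebraicClosure (FractionRing A))) P)) :
    ∃ f : A, f ≠ 0 ∧ ∀ (κ : Type u) [Field κ] (φ : Localization.Away f →+* κ),
      Irreducible (MvPolynomial.map (φ.comp (algebraMap A (Localization.Away f))) P) := by
  classical
  set ι := algebraMap A (AlgebraicClosure (FractionRing A)) with hι
  have hinj : Function.Injective ι := by
    rw [hι, IsScalarTower.algebraMap_eq A (FractionRing A) (AlgebraicClosure (FractionRing A))]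
    rw [RingHom.coe_comp]
    exact (RingHom.injective _).comp (IsFractionRing.injective A (FractionRing A) : Function.Injective (algebraMap A (FractionRing A)))
  set d := (MvPolynomial.map ι P).totalDegree with hd
  have hd0 : d ≠ 0 := totalDegree_pos hP.not_isUnit hP.ne_zero
  obtain ⟨μ, hμ, hμd⟩ : ∃ μ ∈ (MvPolynomial.map ι P).support, (μ.sum fun _ e => e) = d := by
    obtain ⟨μ, hμ, h⟩ := Finset.exists_mem_eq_sup _
      (MvPolynomial.support_nonempty.mpr hP.ne_zero) (fun s : Fin n →₀ ℕ => s.sum fun _ e => e)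
    exact ⟨μ, hμ, h.symm⟩
  rw [MvPolynomial.support_map_of_injective _ hinj] at hμ
  choose a ha hbad using fun (d1 : ℕ) (h : d1 ∈ Finset.Ico 1 d) => exists_bad P d d1 h hP rfl
  refine ⟨MvPolynomial.coeff μ P * ∏ d1 ∈ (Finset.Ico 1 d).attach, a d1.1 d1.2, ?_, ?_⟩
  · exact mul_ne_zero (MvPolynomial.mem_support_iff.mp hμ)
      (Finset.prod_ne_zero_iff.mpr fun d1 _ => ha _ _)
  intro κ _ φ
  set ψ := φ.comp (algebraMap A (Localization.Away
    (MvPolynomial.coeff μ P * ∏ d1 ∈ (Finset.Ico 1 d).attach, a d1.1 d1.2))) with hψ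
  have hu : IsUnit (ψ (MvPolynomial.coeff μ P * ∏ d1 ∈ (Finset.Ico 1 d).attach, a d1.1 d1.2)) :=
    (IsLocalization.Away.algebraMap_isUnit _).map φ
  rw [map_mul, map_prod, IsUnit.mul_iff, isUnit_iff_ne_zero, isUnit_iff_ne_zero,
    Finset.prod_ne_zero_iff] at hu
  have hμ' : μ ∈ (MvPolynomial.map ψ P).support := by
    rw [MvPolynomial.mem_support_iff, MvPolynomial.coeff_map]; exact hu.1
  have hdeg : (MvPolynomial.map ψ P).totalDegree = d := by
    refine le_antisymm ?_ (hμd ▸ MvPolynomial.le_totalDegree hμ')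
    rw [hd, MvPolynomial.totalDegree, MvPolynomial.totalDegree,
      MvPolynomial.support_map_of_injective _ hinj]
    exact Finset.sup_mono (MvPolynomial.support_map_subset ψ P)
  have hne : MvPolynomial.map ψ P ≠ 0 := MvPolynomial.support_nonempty.mp ⟨μ, hμ'⟩
  refine ⟨not_unit_of_totalDegree (by omega), fun G H hGH => ?_⟩
  by_contra hcon
  push Not at hcon
  have hne' := hne
  rw [hGH, mul_ne_zero_iff] at hne'
  have hsum := MvPolynomial.totalDegree_mul_of_isDomain hne'.1 hne'.2
  rw [← hGH, hdeg] at hsum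
  have h1 := totalDegree_pos hcon.1 hne'.1
  have h2 := totalDegree_pos hcon.2 hne'.2
  have hmem : G.totalDegree ∈ Finset.Ico 1 d := by
    rw [Finset.mem_Ico]; omega
  exact hu.2 ⟨_, hmem⟩ (Finset.mem_attach _ _)
    (hbad _ hmem κ ψ G H le_rfl (by omega) hGH.symm)

end Groth.Agent.S1352
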