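import Groth.Statements.S19773
import Groth.Agent.Lib.AVKLRank

set_option autoImplicit false
set_option backward.isDefEq.respectTransparency false
set_option backward.isDefEq.respectTransparency.types false
set_option linter.style.haveILetI false
set_option linter.unusedSectionVars false
set_option maxHeartbeats 400000
universe u
open CategoryTheory MonoidalCategory CartesianMonoidalCategory MonObj GrpObj AlgebraicGeometry
open AbVar

namespace Groth.Agent.S19773

/-- Let k be a field and f : X → Y an isogeny between abelian varieties over k (X, Y proper,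
geometrically integral k-group schemes; f a finite flat surjective homomorphism) of degree d (the
rank of f at every point of Y), and let M be a non-degenerate invertible O_Y-module: for a closed
immersion i_M : K_M → Y exhibiting K_M as K(M) (the maximal closed subscheme over which the Mumford
bundle m^*M ⊗ p_1^*M⁻¹ ⊗ p_2^*M⁻¹, restricted to Y ×_k K_M, is the inverse image of an invertible
module on K_M, with its universal property), K_M is finite over k, of rank r (the rank of K_M → Spec
k). Let L = f^*M and let i_L : K_L → X exhibit K_L as K(L). Then L is non-degenerate as well and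
rank K(L) = d² · rank K(M): K_L is finite over k and K_L → Spec k has rank d² · r. -/
theorem result (k : Type u) [Field k]
    (X Y : Over (Spec (CommRingCat.of k)))
    [GrpObj X] [IsProper X.hom] [GeometricallyIntegral X.hom]
    [GrpObj Y] [IsProper Y.hom] [GeometricallyIntegral Y.hom]
    (f : X ⟶ Y) [IsMonHom f] [IsFinite f.left] [Flat f.left] (hf : Surjective f.left)
    (d : ℕ) (hd : ∀ y : ↥Y.left, Scheme.Hom.finrank f.left y = d)
    (M : Y.left.Modules) (hM : PicF.IsInvertible M)
    (KM : Over (Spec (CommRingCat.of k))) (iM : KM ⟶ Y) (hKM : ThetaGrp.IsKL Y M iM)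
    [IsFinite KM.hom] (r : ℕ) (hr : ∀ s : ↥(Spec (CommRingCat.of k)), Scheme.Hom.finrank KM.hom s = r)
    (KL : Over (Spec (CommRingCat.of k))) (iL : KL ⟶ X)
    (hKL : ThetaGrp.IsKL X ((Scheme.Modules.pullback f.left).obj M) iL) :
    IsFinite KL.hom ∧ ∀ s : ↥(Spec (CommRingCat.of k)), Scheme.Hom.finrank KL.hom s = d ^ 2 * r := by
  have hmum : AVKLExist.mum hM (1 : 𝟙_ (Over (Spec (CommRingCat.of k))) ⟶ Y) = 1 := by
    have h := AVDualExist.mum_mul hM (1 : 𝟙_ (Over (Spec (CommRingCat.of k))) ⟶ Y) 1
    rw [_root_.one_mul] at h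
    exact mul_eq_left.1 h.symm
  obtain ⟨y₀, -⟩ := (hKM.univ _ (1 : 𝟙_ (Over (Spec (CommRingCat.of k))) ⟶ Y)).1
    ((AVKLExist.mumford_iff_mum hM _).2 ⟨_, PicLoc.isInvertible_structureModule _, by
      rw [hmum]; exact (H23.PicMul.pullCl_one _).trans rfl⟩)
  have hrk := (AVKLRank.rank_of hM hKM (Or.inl inferInstance)).2 (IsLocalRing.closedPoint k)
  rw [hr] at hrk
  haveI : IsLocallyNoetherian (Spec (CommRingCat.of k)) := inferInstance
  haveI : LocallyOfFinitePresentation KM.hom :=
    AlgStLib.locallyOfFinitePresentation_of_isLocallyNoetherian KM.hom inferInstance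
  have hrpos : 0 < r := by
    have h1 := KM.hom.one_le_finrank_map (y₀.left (IsLocalRing.closedPoint k))
    rw [hr] at h1
    exact h1
  have hdpos : 0 < d := by
    obtain ⟨d', hd', hd''⟩ := AVIndexStable.exists_degree f
    obtain ⟨x⟩ : Nonempty Y.left := ⟨η[Y].left (IsLocalRing.closedPoint k)⟩
    rw [← hd x, hd'' x]
    exact hd'
  have hfM : PicF.IsInvertible ((Scheme.Modules.pullback f.left).obj M) := PicClLib.isInvertible_pullback _ hM
  haveI := hf
  haveI : IsLocallyNoetherian Y.left := LocallyOfFiniteType.isLocallyNoetherian Y.hom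
  have he := AVEuler.euler_pullback f d hd (CurveDeg.isCoh_of_isInvertible hM)
  have hne : @Curv2.euler k _ X.left ⟨X.hom⟩ ((Scheme.Modules.pullback f.left).obj M) ≠ 0 := by
    rw [he]
    refine mul_ne_zero (by exact_mod_cast hdpos.ne') fun h => ?_
    rw [h] at hrk
    norm_num at hrk
    omega
  obtain ⟨hfin, hrank⟩ := AVKLRank.rank_of hfM hKL (Or.inr hne)
  refine ⟨hfin, fun s => ?_⟩
  have h2 := hrank s
  rw [he, mul_pow, ← hrk] at h2
  exact_mod_cast h2

end Groth.Agent.S19773
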