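import Groth.Statements.S9672
import Mathlib
import Groth.Agent.FDescent.QuasiFlat

set_option autoImplicit false
universe u
open CategoryTheory CategoryTheory.Limits AlgebraicGeometry
open Mor

namespace Groth.Agent.S9672

/-- Let f : Y ⟶ X be quasi-compact and quasi-separated, and write X' for the normalization of X relative
to Y. If x' ∈ X' is the generic point of some irreducible component of X', then there is a point y ∈
Y that is generic in an irreducible component of Y and is sent to x' by the canonical morphism Y ⟶
X'. -/
theorem result {X Y : Scheme.{u}} (f : Y ⟶ X)
    [QuasiCompact f] [QuasiSeparated f] (x' : ↥f.normalization)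
    (hx' : closure {x'} ∈ irreducibleComponents ↥f.normalization) :
    ∃ y : Y, closure {y} ∈ irreducibleComponents ↥Y ∧ f.toNormalization.base y = x' := by
  obtain ⟨y, hy⟩ := Groth.Agent.FDescent.exists_specializes_of_mem_closure_range f.toNormalization
    (f.toNormalization.denseRange x')
  have hC : IsIrreducible (irreducibleComponent y) := isIrreducible_irreducibleComponent
  obtain ⟨η, hη⟩ := QuasiSober.sober hC isClosed_irreducibleComponent
  refine ⟨η, ?_, ?_⟩
  · rw [hη.def]
    exact irreducibleComponent_mem_irreducibleComponents y
  · have h1 : f.toNormalization.base η ⤳ x' :=
      ((hη.specializes mem_irreducibleComponent).map f.toNormalization.continuous).trans hy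
    have h2 : closure {f.toNormalization.base η} ⊆ closure {x'} :=
      hx'.2 isIrreducible_singleton.closure (specializes_iff_closure_subset.1 h1)
    exact (h1.antisymm (specializes_iff_closure_subset.2 h2)).eq

end Groth.Agent.S9672
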