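import Groth.Statements.S9673
import Groth.Agent.Approx.NormChart
import Groth.Agent.S9672
import Groth.Agent.SchTop.Closed
import Groth.Agent.VarDim.IrredFibres

set_option autoImplicit false
set_option backward.isDefEq.respectTransparency false
set_option backward.isDefEq.respectTransparency.types false
universe u
open CategoryTheory CategoryTheory.Limits AlgebraicGeometry
open Mor

namespace Groth.Agent.S9673

/-- Let f : Y ⟶ X be quasi-compact and quasi-separated, with Y normal and the irreducible components of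
Y locally finite (equivalently, each quasi-compact open subset of Y meets only finitely many of
them). Let X' be the normalization of X in Y and f' : Y ⟶ X' the canonical morphism. Then X' is
normal with locally finitely many irreducible components (hence a disjoint union of normal integral
schemes), f' maps generic points of irreducible components of Y to generic points of irreducible
components of X', and over each generic point of a component of X' there lies exactly one generic
point of a component of Y. (Dominance of f' holds for every quasi-compact quasi-separated f and is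
not restated.) -/
theorem result {X Y : Scheme.{u}} (f : Y ⟶ X)
    [QuasiCompact f] [QuasiSeparated f] (hY : Pi1.IsNormalScheme Y)
    (hfin : LocallyFinite (fun Z : ↥(irreducibleComponents ↥Y) => (Z : Set ↥Y))) :
    Pi1.IsNormalScheme f.normalization ∧
    LocallyFinite (fun Z : ↥(irreducibleComponents ↥f.normalization) => (Z : Set ↥f.normalization)) ∧
    (∀ y : Y, closure {y} ∈ irreducibleComponents ↥Y →
      closure {f.toNormalization.base y} ∈ irreducibleComponents ↥f.normalization) ∧
    (∀ x' : ↥f.normalization, closure {x'} ∈ irreducibleComponents ↥f.normalization →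
      ∃! y : Y, closure {y} ∈ irreducibleComponents ↥Y ∧ f.toNormalization.base y = x') := by
  classical
  let π := f.fromNormalization
  let ι := f.toNormalization
  have hmax : ∀ {Z : Scheme.{u}} (z : Z), closure {z} ∈ irreducibleComponents ↥Z →
      Groth.Agent.MorLib.LimMax.IsMax z := fun z hz w hw =>
    (hw.antisymm (specializes_iff_closure_subset.2
      (hz.2 isIrreducible_singleton.closure (specializes_iff_closure_subset.1 hw)))).eq
  have hG : ∀ {U : X.Opens}, IsAffineOpen U →
      {η : Y | η ∈ f ⁻¹ᵁ U ∧ Groth.Agent.MorLib.LimMax.IsMax η}.Finite := fun hU =>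
    Groth.Agent.Approx.NagataNorm.finite_generic_of_compact hfin (f.isCompact_preimage hU.isCompact)
  have hιmem : ∀ {U : X.Opens} {η : Y}, η ∈ f ⁻¹ᵁ U → ι η ∈ π ⁻¹ᵁ U := fun {U η} h =>
    Groth.Agent.Approx.NormChart.preimage_le f U h
  have hchart : ∀ x' : ↥f.normalization, ∃ U : X.Opens, IsAffineOpen U ∧ x' ∈ π ⁻¹ᵁ U := fun x' => by
    obtain ⟨_, ⟨U, hU, rfl⟩, hxU, -⟩ :=
      X.isBasis_affineOpens.exists_subset_of_mem_open (Set.mem_univ (π x')) isOpen_univ
    exact ⟨U, hU, hxU⟩
  refine ⟨fun x' => ?_, fun x' => ?_, fun y hy => ?_, fun x' hx' => ?_⟩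
  · obtain ⟨U, hU, hxW⟩ := hchart x'
    haveI := (hG hU).fintype
    obtain ⟨hd, hc⟩ := Groth.Agent.Approx.SubProd.normal_atPrime _
      (Groth.Agent.Approx.NormChart.toPi_injective f hY hU)
      (Groth.Agent.Approx.NormChart.toPi_range f hY hU (hG hU))
      ((hU.preimage π).primeIdealOf ⟨x', hxW⟩).asIdeal
    obtain ⟨e⟩ := Groth.Agent.SchTop.nonempty_stalk_equiv (hU.preimage π) hxW
    haveI : IsDomain (f.normalization.presheaf.stalk x') := MulEquiv.isDomain _ e.toMulEquiv
    exact ⟨inferInstance, IsIntegrallyClosed.of_equiv e.symm⟩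
  · obtain ⟨U, hU, hxW⟩ := hchart x'
    refine ⟨π ⁻¹ᵁ U, (π ⁻¹ᵁ U).isOpen.mem_nhds hxW, ?_⟩
    refine (((hG hU).image fun η => closure {ι η}).preimage Subtype.val_injective.injOn).subset ?_
    rintro Z ⟨z, hzZ, hzW⟩
    obtain ⟨g, hg⟩ := QuasiSober.sober Z.2.1 (isClosed_of_mem_irreducibleComponents _ Z.2)
    have hgc : closure {g} ∈ irreducibleComponents ↥f.normalization := hg.def.symm ▸ Z.2
    obtain ⟨y, hy, hyg⟩ := Groth.Agent.S9672.result f g hgc
    have hgW : g ∈ π ⁻¹ᵁ U := (hg.specializes hzZ).mem_open (π ⁻¹ᵁ U).isOpen hzW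
    have hyU : y ∈ f ⁻¹ᵁ U := by
      have h : π (ι y) ∈ U := by rw [show ι y = g from hyg]; exact hgW
      rwa [← Scheme.Hom.comp_apply, f.toNormalization_fromNormalization] at h
    exact ⟨y, ⟨hyU, hmax y hy⟩, by show closure {ι y} = _; rw [show ι y = g from hyg]; exact hg.def⟩
  · obtain ⟨U, hU, hxW⟩ := hchart (ι y)
    haveI := (hG hU).fintype
    have hyU : y ∈ f ⁻¹ᵁ U := by
      have h : π (ι y) ∈ U := hxW
      rwa [← Scheme.Hom.comp_apply, f.toNormalization_fromNormalization] at h
    refine Groth.Agent.VarDim.closure_mem_irreducibleComponents fun z hz => ?_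
    have hzW : z ∈ π ⁻¹ᵁ U := hz.mem_open (π ⁻¹ᵁ U).isOpen hxW
    have hq := Groth.Agent.Approx.NormChart.ker_eq_primeIdealOf f hU ⟨y, hyU, hmax y hy⟩ hxW
    have hle := Groth.Agent.SchTop.primeIdealOf_le (hU.preimage π) hzW hxW hz
    rw [← hq] at hle
    have heq := (Groth.Agent.Approx.SubProd.eq_ker_of_le _
      (Groth.Agent.Approx.NormChart.toPi_injective f hY hU)
      (Groth.Agent.Approx.NormChart.toPi_range f hY hU (hG hU)) _ _ hle).trans hq
    have h2 := congrArg (hU.preimage π).fromSpec (PrimeSpectrum.ext heq)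
    rw [(hU.preimage π).fromSpec_primeIdealOf, (hU.preimage π).fromSpec_primeIdealOf] at h2
    exact h2
  · obtain ⟨y, hy, rfl⟩ := Groth.Agent.S9672.result f x' hx'
    refine ⟨y, ⟨hy, rfl⟩, fun y' ⟨hy', he⟩ => ?_⟩
    obtain ⟨U, hU, hxW⟩ := hchart (ι y)
    haveI := (hG hU).fintype
    have hU' : ∀ w : Y, ι w ∈ π ⁻¹ᵁ U → w ∈ f ⁻¹ᵁ U := fun w h => by
      have h' : π (ι w) ∈ U := h
      rwa [← Scheme.Hom.comp_apply, f.toNormalization_fromNormalization] at h'
    have hxW' : ι y' ∈ π ⁻¹ᵁ U := by rw [show ι y' = ι y from he]; exact hxW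
    refine congrArg Subtype.val (Groth.Agent.Approx.SubProd.ker_injective _
      (Groth.Agent.Approx.NormChart.toPi_range f hY hU (hG hU))
      ⟨y', hU' y' hxW', hmax y' hy'⟩ ⟨y, hU' y hxW, hmax y hy⟩ ?_)
    rw [Groth.Agent.Approx.NormChart.ker_eq_primeIdealOf f hU _ hxW',
      Groth.Agent.Approx.NormChart.ker_eq_primeIdealOf f hU _ hxW]
    congr 3

end Groth.Agent.S9673
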