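import Groth.Statements.S19948
import Groth.Agent.Lib.ThetaSplit

set_option autoImplicit false
set_option backward.isDefEq.respectTransparency false
set_option backward.isDefEq.respectTransparency.types false
set_option linter.style.haveILetI false
set_option linter.unusedSectionVars false
set_option maxHeartbeats 400000
universe u
open CategoryTheory MonoidalCategory CartesianMonoidalCategory MonObj GrpObj AlgebraicGeometry
open ThetaGrp

namespace Groth.Agent.S19948

open Groth.Agent Groth.Agent.ThetaPts Groth.Agent.ThetaKer Groth.Agent.GrpSchLib.AffineHopf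

/-- Let k be an algebraically closed field, f : X → Y an isogeny of abelian varieties over k (X, Y
proper, geometrically integral, commutative k-group schemes; f a finite surjective homomorphism), i
: N → X the kernel of f (a homomorphism forming a cartesian square with the unit section of Y), L an
invertible O_X-module and i_K : K → X a closed immersion exhibiting K as K(L), the maximal closed
subscheme of X over which the Mumford bundle m^*L ⊗ p_1^*L⁻¹ ⊗ p_2^*L⁻¹, restricted to X ×_k K, is
the inverse image of an invertible module on K, with its universal property. Then L is the inverse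
image of an invertible O_Y-module (there is an invertible M on Y with f^*M ≅ L) if and only if the
kernel of f lies inside K(L) as a subgroup scheme and the commutator pairing e_L is trivial on it: i
factors through i_K, and for every k-scheme T any two points (x₁, φ₁), (x₂, φ₂) of G(L)(T) whose
translations are by points of N commute. (Algebraic closedness is used for the converse; over other
fields an isotropic kernel descends in general only after a finite extension of k.) -/
theorem result (k : Type u) [Field k] [IsAlgClosed k]
    (A : Over (Spec (CommRingCat.of k))) [GrpObj A] [IsCommMonObj A] [IsProper A.hom] [GeometricallyIntegral A.hom]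
    (B : Over (Spec (CommRingCat.of k))) [GrpObj B] [IsCommMonObj B] [IsProper B.hom] [GeometricallyIntegral B.hom]
    (f : A ⟶ B) [IsMonHom f] [IsFinite f.left] (hf : Surjective f.left)
    (N : Over (Spec (CommRingCat.of k))) [GrpObj N] (i : N ⟶ A) [IsMonHom i] (hN : AlgGrp.IsKernel i f)
    (L : A.left.Modules) (hL : PicF.IsInvertible L)
    (K : Over (Spec (CommRingCat.of k))) (iK : K ⟶ A) (hK : ThetaGrp.IsKL A L iK) :
    (∃ M : B.left.Modules, PicF.IsInvertible M ∧ Nonempty ((Scheme.Modules.pullback f.left).obj M ≅ L)) ↔
      ((∃ y : N ⟶ K, y ≫ iK = i) ∧ ThetaGrp.IsIsotropic L i) := by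
  haveI := hf
  haveI hmono : Mono i := ⟨fun a b hab => hN.hom_ext hab (Subsingleton.elim _ _)⟩
  constructor
  · rintro ⟨M, hM, ⟨e⟩⟩
    have h1 : ∀ {T : Over (Spec (CommRingCat.of k))} (n : T ⟶ N), IsMumfordTriv B M ((n ≫ i) ≫ f) := fun {T} n => by
      rw [comp_kernel f hN]
      refine ThetaLift.mumford_of_eq hM ?_
      rw [MonObj.comp_one, _root_.mul_one]
    refine ⟨(hK.univ _ _).1 ?_, fun T x y β₁ β₂ hβ₁ hβ₂ =>
      commute_of_mumford f hL hM e.symm hN (h1 x) hβ₁ hβ₂⟩
    obtain ⟨d, ⟨hd, -⟩, -⟩ := existsUnique_rel f e.symm (x := i) (β := (1 : thetaPts B M N)) (by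
      rw [← Category.id_comp i, comp_kernel f hN]; exact isOverPt_one N)
    exact ThetaLift.mumford_of_eq hL (ThetaLift.eq_of_pt hL hd)
  · rintro ⟨hy, hiso⟩
    haveI : IsFinite N.hom := by
      have := MorphismProperty.of_isPullback (P := @IsFinite) (hN.map (Over.forget _)) (inferInstanceAs (IsFinite f.left))
      have h2 : (toUnit N).left = N.hom := by
        rw [← Over.w (toUnit N)]
        exact (Category.comp_id _).symm
      rw [← h2]
      exact this
    haveI : IsAffine N.left := isAffine_of_isAffineHom N.hom
    obtain ⟨R, _, _, ⟨e⟩⟩ := exists_hopf N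
    let eh : sp k R ⟶ N := e.hom.hom.hom
    let ei : N ⟶ sp k R := e.inv.hom.hom
    have hhi : eh ≫ ei = 𝟙 _ := congrArg (fun φ => φ.hom.hom) e.hom_inv_id
    have hih : ei ≫ eh = 𝟙 _ := congrArg (fun φ => φ.hom.hom) e.inv_hom_id
    haveI : IsIso eh := ⟨ei, hhi, hih⟩
    haveI : IsMonHom eh := e.hom.hom.isMonHom_hom
    haveI : IsMonHom ei := e.inv.hom.isMonHom_hom
    haveI : FiniteDimensional k R := by
      haveI : IsFinite (sp k R).hom := by
        rw [← Over.w eh]
        haveI : IsIso eh.left := inferInstanceAs (IsIso ((Over.forget _).map eh))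
        infer_instance
      exact RingHom.finite_algebraMap.1 ((IsFinite.SpecMap_iff (CommRingCat.ofHom (algebraMap k R))).1 ‹IsFinite (sp k R).hom›)
    obtain ⟨y, hy⟩ := hy
    obtain ⟨d, hd, hdm⟩ := ThetaSplit.exists_lift hL (eh ≫ i)
      ((hK.univ _ _).2 ⟨eh ≫ y, by rw [Category.assoc, hy]⟩)
      (fun T x z β₁ β₂ h₁ h₂ => hiso T (x ≫ eh) (z ≫ eh) β₁ β₂ (by simpa only [Category.assoc] using h₁)
        (by simpa only [Category.assoc] using h₂))
    refine ThetaLevel.exists_descent f hN (bc ei d) ?_ (fun T m n => ?_) hL
    · have := isOverPt_bc ei hd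
      rwa [← Category.assoc, hih, Category.id_comp] at this
    · rw [bc_bc, bc_bc, bc_bc, MonObj.mul_comp, hdm]

end Groth.Agent.S19948
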