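import Groth.Statements.S19954
import Groth.Agent.Lib.ThetaRel

set_option autoImplicit false
set_option backward.isDefEq.respectTransparency false
set_option backward.isDefEq.respectTransparency.types false
set_option linter.style.haveILetI false
set_option linter.unusedSectionVars false
set_option maxHeartbeats 400000
universe u
open CategoryTheory MonoidalCategory CartesianMonoidalCategory MonObj GrpObj AlgebraicGeometry
open ThetaGrp

namespace Groth.Agent.S19954

open Groth.Agent Groth.Agent.ThetaPts Groth.Agent.ThetaScalar Groth.Agent.ThetaLift Groth.Agent.ThetaRel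

/-- Let f : X → Y be a homomorphism of abelian varieties over a field k (proper, geometrically integral,
commutative k-group schemes), L an invertible O_Y-module, and i_K : K → Y a closed immersion
exhibiting K as K(L), the maximal closed subscheme of Y over which the Mumford bundle m^*L ⊗
p_1^*L⁻¹ ⊗ p_2^*L⁻¹, restricted to Y ×_k K, is the inverse image of an invertible module on K, with
its universal property. The identity e_{f^*L} = e_L ∘ (f, f) on f⁻¹(K(L)) is stated here through the
vanishing of the two commutator pairings: for a k-scheme H and a k-morphism i_H : H → X such that f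
∘ i_H factors through i_K, the pairing e_L is trivial on the image of H in Y — for every k-scheme T,
any two points of G(L)(T) lying over the translations by f(i_H(h₁)), f(i_H(h₂)) for T-valued points
h₁, h₂ of H commute — if and only if e_{f^*L} is trivial on H: any two points of G(f^*L)(T) lying
over the translations by i_H(h₁), i_H(h₂) commute. -/
theorem result (k : Type u) [Field k]
    (A : Over (Spec (CommRingCat.of k))) [GrpObj A] [IsCommMonObj A] [IsProper A.hom] [GeometricallyIntegral A.hom]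
    (B : Over (Spec (CommRingCat.of k))) [GrpObj B] [IsCommMonObj B] [IsProper B.hom] [GeometricallyIntegral B.hom]
    (f : A ⟶ B) [IsMonHom f]
    (L : B.left.Modules) (hL : PicF.IsInvertible L)
    (K : Over (Spec (CommRingCat.of k))) (iK : K ⟶ B) (hK : ThetaGrp.IsKL B L iK)
    (H : Over (Spec (CommRingCat.of k))) (iH : H ⟶ A) (hH : ∃ y : H ⟶ K, y ≫ iK = iH ≫ f) :
    ThetaGrp.IsIsotropic L (iH ≫ f) ↔
      ThetaGrp.IsIsotropic ((Scheme.Modules.pullback f.left).obj L) iH := by
  have hL' : PicF.IsInvertible ((Scheme.Modules.pullback f.left).obj L) := PicClLib.isInvertible_pullback f.left hL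
  obtain ⟨yH, hyH⟩ := hH
  have hloc : ∀ {U : Over (Spec (CommRingCat.of k))} (z : U ⟶ H), IsMumfordTriv B L (z ≫ iH ≫ f) := fun z =>
    (hK.univ _ _).2 ⟨z ≫ yH, by rw [Category.assoc, hyH]⟩
  constructor
  · intro hiso T x y β₁ β₂ h₁ h₂
    rw [← cm_eq_one_iff hL']
    refine units_ext_of_cover fun t => ?_
    obtain ⟨U, htU, γ₁, hγ₁⟩ := exists_local hL (hloc x) t
    obtain ⟨V, htV, γ₂, hγ₂⟩ := exists_local hL (hloc y) t
    let gU : opn T (U ⊓ V) ⟶ opn T U := Over.homMk (T.left.homOfLE (inf_le_left : U ⊓ V ≤ U)) (by simp)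
    let gV : opn T (U ⊓ V) ⟶ opn T V := Over.homMk (T.left.homOfLE (inf_le_right : U ⊓ V ≤ V)) (by simp)
    have hU : gU ≫ inc U = inc (U ⊓ V) := Over.OverMorphism.ext (T.left.homOfLE_ι (inf_le_left : U ⊓ V ≤ U))
    have hV : gV ≫ inc V = inc (U ⊓ V) := Over.OverMorphism.ext (T.left.homOfLE_ι (inf_le_right : U ⊓ V ≤ V))
    refine ⟨U ⊓ V, ⟨htU, htV⟩, ?_⟩
    rw [map_one, ← cm_bc hL']
    have e₁ : IsOverPt (bc gU γ₁) (((inc (U ⊓ V) ≫ x) ≫ iH) ≫ f) := by
      simpa only [← hU, Category.assoc] using isOverPt_bc gU hγ₁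
    have e₂ : IsOverPt (bc gV γ₂) (((inc (U ⊓ V) ≫ y) ≫ iH) ≫ f) := by
      simpa only [← hV, Category.assoc] using isOverPt_bc gV hγ₂
    obtain ⟨a₁, ⟨ha₁, r₁⟩, -⟩ := existsUnique_rel f (Iso.refl _) e₁
    obtain ⟨a₂, ⟨ha₂, r₂⟩, -⟩ := existsUnique_rel f (Iso.refl _) e₂
    have q₁ := isOverPt_bc (inc (U ⊓ V)) h₁
    have q₂ := isOverPt_bc (inc (U ⊓ V)) h₂
    rw [← Category.assoc] at q₁ q₂
    rw [cm_congr hL' ha₁ q₁ ha₂ q₂, cm_rel f hL' hL (Iso.refl _) ha₁ ha₂ r₁ r₂, cm_eq_one_iff hL]
    exact hiso _ (inc (U ⊓ V) ≫ x) (inc (U ⊓ V) ≫ y) _ _ (by simpa only [Category.assoc] using e₁)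
      (by simpa only [Category.assoc] using e₂)
  · intro hiso T x y β₁ β₂ h₁ h₂
    rw [← Category.assoc] at h₁ h₂
    obtain ⟨a₁, ⟨ha₁, r₁⟩, -⟩ := existsUnique_rel f (Iso.refl _) h₁
    obtain ⟨a₂, ⟨ha₂, r₂⟩, -⟩ := existsUnique_rel f (Iso.refl _) h₂
    rw [← cm_eq_one_iff hL, ← cm_rel f hL' hL (Iso.refl _) ha₁ ha₂ r₁ r₂, cm_eq_one_iff hL']
    exact hiso T x y _ _ ha₁ ha₂

end Groth.Agent.S19954
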