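import Groth.Statements.S9816
import Groth.Agent.S9815
import Groth.Agent.AmpleX.RelAffine
import Groth.Agent.AmpleX.Pow
import Groth.Agent.InvX.GenLocusPull
import Groth.Agent.PicClLib.Basic

set_option autoImplicit false
universe u
open CategoryTheory CategoryTheory.Limits AlgebraicGeometry TopologicalSpace
open Props

namespace Groth.Agent.S9816
set_option backward.isDefEq.respectTransparency false
set_option backward.isDefEq.respectTransparency.types false
open CategoryTheory CategoryTheory.Limits AlgebraicGeometry TopologicalSpace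
open Groth.Agent.H23.PicMul
namespace Aux
theorem cl_pullback {X Y : Scheme.{u}} (h : Y ⟶ X) (M : X.Modules) :
    PicF.cl ((Scheme.Modules.pullback h).obj M) = PicF.pullCl h (PicF.cl M) := rfl

theorem exists_pull {X Y : Scheme.{u}} (h : Y ⟶ X) {M : X.Modules} (hM : PicF.IsInvertible M)
    (s : Coh.structureModule X ⟶ M) :
    ∃ t : Coh.structureModule Y ⟶ (Scheme.Modules.pullback h).obj M,
      CohB1.genLocus _ t = h ⁻¹ᵁ CohB1.genLocus M s := by
  obtain ⟨e⟩ := PicClLib.nonempty_pullback_structureModule h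
  exact ⟨_, InvX.genLocus_pullback h hM s e.symm⟩

theorem isAmple_prod {X Y T : Scheme.{u}} [IsAffine T] (p : X ⟶ T) (q : Y ⟶ T) (L : X.Modules) (N : Y.Modules)
    (hL : CohB1.IsAmple L) (hN : CohB1.IsAmple N) :
    CohB1.IsAmple (CohB1.tensorMod ((Scheme.Modules.pullback (pullback.fst p q)).obj L)
      ((Scheme.Modules.pullback (pullback.snd p q)).obj N)) := by
  obtain ⟨hLi, hXc, hx⟩ := AmpleX.isAmple_iff.1 hL
  obtain ⟨hNi, hYc, hy⟩ := AmpleX.isAmple_iff.1 hN
  have h1 := PicClLib.isInvertible_pullback (pullback.fst p q) hLi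
  have h2 := PicClLib.isInvertible_pullback (pullback.snd p q) hNi
  haveI : CompactSpace X := hXc
  haveI : CompactSpace Y := hYc
  haveI : QuasiCompact q := inferInstance
  haveI : CompactSpace (pullback p q : Scheme.{u}) := QuasiCompact.compactSpace_of_compactSpace (pullback.fst p q)
  refine AmpleX.isAmple_iff.2 ⟨InvX.isInvertible_tensorMod h1 h2, inferInstance, fun z => ?_⟩
  obtain ⟨a, ha, s, hzs, hs⟩ := hx (pullback.fst p q z)
  obtain ⟨b, hb, t, hzt, ht⟩ := hy (pullback.snd p q z)
  obtain ⟨k, rfl⟩ := Nat.exists_eq_add_of_le' ha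
  obtain ⟨l, rfl⟩ := Nat.exists_eq_add_of_le' hb
  have hLa := InvX.isInvertible_tensorPow hLi (k + 1)
  have hNb := InvX.isInvertible_tensorPow hNi (l + 1)
  obtain ⟨s', hs'⟩ := exists_pull (pullback.fst p q) (InvX.isInvertible_tensorPow hLa (l + 1)) (InvX.powHom s (l + 1))
  obtain ⟨t', ht'⟩ := exists_pull (pullback.snd p q) (InvX.isInvertible_tensorPow hNb (k + 1)) (InvX.powHom t (k + 1))
  rw [InvX.genLocus_powHom hLa s l] at hs'
  rw [InvX.genLocus_powHom hNb t k] at ht'
  obtain ⟨r, hr⟩ := AmpleX.exists_section_of_cl_eq (B := CohB1.tensorPow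
      (CohB1.tensorMod ((Scheme.Modules.pullback (pullback.fst p q)).obj L)
        ((Scheme.Modules.pullback (pullback.snd p q)).obj N)) ((k + 1) * (l + 1)))
    (by simp only [cl_tensor, cl_tensorPow, cl_pullback, pullCl_pow, mul_pow, ← pow_mul, mul_comm (l + 1) (k + 1)])
    (InvX.mulHom s' t')
  rw [InvX.genLocus_mulHom (PicClLib.isInvertible_pullback _ (InvX.isInvertible_tensorPow hLa (l + 1)))
    (PicClLib.isInvertible_pullback _ (InvX.isInvertible_tensorPow hNb (k + 1))), hs', ht'] at hr
  refine ⟨_, Nat.mul_pos ha hb, r, hr ▸ ⟨hzs, hzt⟩, ?_⟩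
  rw [hr]
  let U := CohB1.genLocus _ s
  let V := CohB1.genLocus _ t
  haveI : IsAffine (U : Scheme.{u}) := hs
  haveI : IsAffine (V : Scheme.{u}) := ht
  let j := pullback.map (U.ι ≫ p) (V.ι ≫ q) p q U.ι V.ι (𝟙 T) (by simp) (by simp)
  have hj : j.opensRange = pullback.fst p q ⁻¹ᵁ U ⊓ pullback.snd p q ⁻¹ᵁ V := by
    refine Opens.ext ?_
    simp [j, Scheme.Pullback.range_map]
  exact hj ▸ isAffineOpen_opensRange j
end Aux
open Aux

/-- Over a quasi-separated base S, if X and Y carry ample invertible modules L and N, then the tensor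
product of their pullbacks along the two projections is an ample invertible module on the fibre
product of X and Y over S. -/
theorem result {X Y S : Scheme.{u}} [QuasiSeparatedSpace S]
    (f : X ⟶ S) (g : Y ⟶ S) (L : X.Modules) (N : Y.Modules) (hL : CohB1.IsAmple L) (hN : CohB1.IsAmple N) :
    CohB1.IsAmple (CohB1.tensorMod ((Scheme.Modules.pullback (pullback.fst f g)).obj L)
      ((Scheme.Modules.pullback (pullback.snd f g)).obj N)) := by
  have hZ := Aux.isAmple_prod (f ≫ terminal.from S) (g ≫ terminal.from S) L N hL hN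
  let m := pullback.mapDesc f g (terminal.from S)
  haveI hq : QuasiCompact m := MorphismProperty.of_isPullback (pullback_map_diagonal_isPullback f g (terminal.from S)) inferInstance
  haveI := hZ.2.1
  haveI : CompactSpace (pullback f g : Scheme.{u}) := QuasiCompact.compactSpace_of_compactSpace m
  have hm := Groth.Agent.S9815.result m m.isEmbedding _ hZ
  refine Groth.Agent.AmpleX.isAmple_of_iso (Classical.choice (cl_eq_iff.1 ?_)) hm
  simp only [cl_pullback, cl_tensor, pullCl_mul]
  rw [PicClLib.pullCl_comp m, PicClLib.pullCl_comp m,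
    show m ≫ pullback.fst _ _ = pullback.fst f g by simp [m, pullback.mapDesc],
    show m ≫ pullback.snd _ _ = pullback.snd f g by simp [m, pullback.mapDesc]]

end Groth.Agent.S9816
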