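import Groth.Statements.S4373
import Groth.Agent.AmpleX.QuasiAffine

set_option autoImplicit false
universe u
open CategoryTheory CategoryTheory.Limits AlgebraicGeometry
open EGA2

namespace Groth.Agent.S4373

/-- Let X be a quasi-affine scheme and L an invertible O_X-module. Then L is ample. (The published
statement also asserts that L is very ample for the canonical morphism to the spectrum of the global
sections; that part is not stated here.) -/
theorem result (X : Scheme.{u}) [X.IsQuasiAffine] (L : X.Modules)
    (hL : PicF.IsInvertible L) : CohB1.IsAmple L := by
  exact AmpleX.isAmple_of_isQuasiAffine hL

end Groth.Agent.S4373
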