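import Groth.Statements.S8668
import Groth.Agent.Synt29.VirtClass

set_option autoImplicit false
universe u
open CategoryTheory CategoryTheory.Limits AlgebraicGeometry
attribute [local instance] HasDerivedCategory.standard
open Synt

namespace Groth.Agent.S8668

open Groth.Agent.Synt29

/-- Let f : X ⟶ Y be a local complete intersection morphism in the factorisation sense (around each
point, locally of finite type and factoring as a Koszul-regular immersion followed by a smooth
morphism), and let f = i ≫ g = i' ≫ g' be two factorisations with g : V ⟶ Y and g' : V' ⟶ Y smooth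
and i, i' closed immersions. Let d : O_V → Ω and d' : O_{V'} → Ω' be universal Y-derivations
(sheaves of relative differentials of V and V' over Y). Then i^*Ω, i'^*Ω' and the conormal sheaves
N_i, N_{i'} are finite locally free, and in K₀ of finite locally free O_X-modules one has [i^*Ω] −
[N_i] = [i'^*Ω'] − [N_{i'}]: the virtual cotangent class of f does not depend on the factorisation. -/
theorem result {X Y V V' : Scheme.{u}} (f : X ⟶ Y) (hf : ∀ x : X, Synt.IsKoszulAt f x)
    (g : V ⟶ Y) [Smooth g] (i : X ⟶ V) [IsClosedImmersion i] (hi : i ≫ g = f)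
    (g' : V' ⟶ Y) [Smooth g'] (i' : X ⟶ V') [IsClosedImmersion i'] (hi' : i' ≫ g' = f)
    (Ω : V.Modules) (d : OmegaSh.Der g Ω) (hd : OmegaSh.IsUniversal d)
    (Ω' : V'.Modules) (d' : OmegaSh.Der g' Ω') (hd' : OmegaSh.IsUniversal d') :
    FlatMod.IsFinLocFree ((Scheme.Modules.pullback i).obj Ω) ∧ FlatMod.IsFinLocFree (Omega.conormal i) ∧
    FlatMod.IsFinLocFree ((Scheme.Modules.pullback i').obj Ω') ∧ FlatMod.IsFinLocFree (Omega.conormal i') ∧
    KRR.cl X ((Scheme.Modules.pullback i).obj Ω) - KRR.cl X (Omega.conormal i) =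
      KRR.cl X ((Scheme.Modules.pullback i').obj Ω') - KRR.cl X (Omega.conormal i') := by
  have hi0 : i ≫ g = i' ≫ g' := hi.trans hi'.symm
  obtain ⟨W, p, p', j, _, _, _, hj, hj', hpq, hiso, hiso'⟩ := CommonFact.exists_common g g' i i' hi0
  obtain ⟨Ωp, dp, hdp, a₁, b₁, w₁, hS₁⟩ := VirtClass.exists_ses p j i hj
  obtain ⟨Ωq, dq, hdq, a₂, b₂, w₂, hS₂⟩ := VirtClass.exists_ses p' j i' hj'
  obtain ⟨e₁⟩ := hiso Ω' d' hd' Ωp dp hdp
  obtain ⟨e₂⟩ := hiso' Ω d hd Ωq dq hdq
  have hN := VirtClass.isFinLocFree_conormal f hf g i hi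
  have hN' := VirtClass.isFinLocFree_conormal f hf g' i' hi'
  have hO := VirtClass.isFinLocFree_pullback_omega g i Ω d hd
  have hO' := VirtClass.isFinLocFree_pullback_omega g' i' Ω' d' hd'
  have hNj : FlatMod.IsFinLocFree (Omega.conormal j) :=
    VirtClass.isFinLocFree_conormal f hf (p ≫ g) j (by rw [← Category.assoc, hj, hi])
  have hP := H23.PullPush.isFinLocFree_of_iso e₁.symm hO'
  have hQ := H23.PullPush.isFinLocFree_of_iso e₂.symm hO
  have h1 := VirtClass.cl_ses a₁ b₁ w₁ hS₁ hN hNj hP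
  have h2 := VirtClass.cl_ses a₂ b₂ w₂ hS₂ hN' hNj hQ
  rw [VirtClass.cl_iso e₁ hP hO'] at h1
  rw [VirtClass.cl_iso e₂ hQ hO] at h2
  refine ⟨hO, hN, hO', hN', sub_eq_sub_iff_add_eq_add.2 ?_⟩
  rw [add_comm (KRR.cl X ((Scheme.Modules.pullback i').obj Ω'))]
  rw [← h1, add_comm, ← h2]

end Groth.Agent.S8668
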