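import Groth.Statements.S3747
import Groth.Agent.H28.KRRPushProp
-- import your own Groth.Agent.* helpers here

set_option autoImplicit false
universe v u
open CategoryTheory CategoryTheory.Limits AlgebraicGeometry
attribute [local instance] HasDerivedCategory.standard
open KRR

namespace Groth.Agent.S3747

/-- Let f : X ⟶ Y be a regular closed imbedding of connected Noetherian schemes, where on Y every
coherent module is a quotient of a finite locally free one. Let (KX, PX, φX), (KY, PY, φY) be models
of the λ-rings K(X), K(Y); let g : K(Y) ⟶ K(X) be the pull-back f^K ([E] ↦ [f^*E]) and h : K(X) ⟶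
K(Y) the push-forward f_K ([F] ↦ alternating sum of the terms of a finite locally free resolution of
f_*F). Then h (x · g y) = h x · y for all x, y. -/
theorem result {X Y : Scheme.{u}} (f : X ⟶ Y) (hf : Mor2.IsRegularClosedImmersion f)
    [IsNoetherian X] [ConnectedSpace ↥X] [IsNoetherian Y] [ConnectedSpace ↥Y] (hYe : KRR.HasEnoughLocFree Y)
    (KX : Type v) [CommRing KX] [LambdaRing.LambdaOps KX] (PX : LambdaRing.PosStructure KX) (φX : SGA6.Kvb X →+ KX) (hKX : KRR.IsModel X KX PX φX)
    (KY : Type v) [CommRing KY] [LambdaRing.LambdaOps KY] (PY : LambdaRing.PosStructure KY) (φY : SGA6.Kvb Y →+ KY) (hKY : KRR.IsModel Y KY PY φY)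
    (g : KY →+ KX) (hg : KRR.IsPull f φY φX g) (h : KX →+ KY) (hh : KRR.IsPushCl f φX φY h)
    (x : KX) (y : KY) : h (x * g y) = h x * y := by
  haveI := hf.1
  exact Groth.Agent.H28.KRRPushProp.push_mul_pull f φX hKX.bijective φY hYe hf hKY.bijective.2
    (fun E F hE hF => hKX.map_mul E F hE hF) (fun E F hE hF => hKY.map_mul E F hE hF) g hg h hh x y

end Groth.Agent.S3747
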