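import Groth.Statements.S3769
import Groth.Agent.H28.ExcessModel
import Groth.Agent.H28.QProjEnough
-- import your own Groth.Agent.* helpers here

set_option autoImplicit false
universe v u
open CategoryTheory CategoryTheory.Limits AlgebraicGeometry
attribute [local instance] HasDerivedCategory.standard
open KRR

namespace Groth.Agent.S3769

/-- Let S be affine Noetherian and Y, Y₁ connected schemes quasi-projective over S; let f : X ⟶ Y be a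
regular closed imbedding (X connected, conormal module C finite locally free of rank d), φ : Y₁ ⟶ Y
a morphism, and X₁ = X ×_Y Y₁ with projections f₁ : X₁ ⟶ Y₁, ψ : X₁ ⟶ X; assume f₁ is again a
regular closed imbedding (X₁ connected, conormal C₁ finite locally free of rank d₁). Let e = ψ^K[C]
- [C₁] ∈ K(X₁), the class of the excess conormal module (locally free of rank d - d₁), and λ_{-1}(e)
= Σ_{i ≤ ε(e)} (-1)^i λ^i(e). Then with models and the maps φ^K, ψ^K (pull-backs), f_K, (f₁)_K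
(push-forwards via resolutions): φ^K (f_K x) = (f₁)_K (λ_{-1}(e) · ψ^K x) for all x ∈ K(X). -/
theorem result (S : Scheme.{u}) [IsAffine S] [IsNoetherian S] {X Y X₁ Y₁ : Scheme.{u}} [IsNoetherian Y] [ConnectedSpace ↥Y] (qY : Y ⟶ S) (hqY : KRR.IsQProjOver qY)
    [IsNoetherian Y₁] [ConnectedSpace ↥Y₁] (qY₁ : Y₁ ⟶ S) (hqY₁ : KRR.IsQProjOver qY₁)
    (f : X ⟶ Y) (hf : Mor2.IsRegularClosedImmersion f) [ConnectedSpace ↥X] (d : ℕ)
    (hC : FlatMod.IsFinLocFreeOfRank d (Omega.conormal f))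
    (φ : Y₁ ⟶ Y) (f₁ : X₁ ⟶ Y₁) (ψ : X₁ ⟶ X) (hsq : IsPullback f₁ ψ φ f)
    (hf₁ : Mor2.IsRegularClosedImmersion f₁) [ConnectedSpace ↥X₁] (d₁ : ℕ)
    (hC₁ : FlatMod.IsFinLocFreeOfRank d₁ (Omega.conormal f₁))
    (KX : Type v) [CommRing KX] [LambdaRing.LambdaOps KX] (PX : LambdaRing.PosStructure KX) (φX : SGA6.Kvb X →+ KX) (hKX : KRR.IsModel X KX PX φX)
    (KY : Type v) [CommRing KY] [LambdaRing.LambdaOps KY] (PY : LambdaRing.PosStructure KY) (φY : SGA6.Kvb Y →+ KY) (hKY : KRR.IsModel Y KY PY φY)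
    (KX₁ : Type v) [CommRing KX₁] [LambdaRing.LambdaOps KX₁] (PX₁ : LambdaRing.PosStructure KX₁) (φX₁ : SGA6.Kvb X₁ →+ KX₁) (hKX₁ : KRR.IsModel X₁ KX₁ PX₁ φX₁)
    (KY₁ : Type v) [CommRing KY₁] [LambdaRing.LambdaOps KY₁] (PY₁ : LambdaRing.PosStructure KY₁) (φY₁ : SGA6.Kvb Y₁ →+ KY₁) (hKY₁ : KRR.IsModel Y₁ KY₁ PY₁ φY₁)
    (gφ : KY →+ KY₁) (hgφ : KRR.IsPull φ φY φY₁ gφ) (gψ : KX →+ KX₁) (hgψ : KRR.IsPull ψ φX φX₁ gψ)
    (gf : KX →+ KY) (hgf : KRR.IsPushCl f φX φY gf) (gf₁ : KX₁ →+ KY₁) (hgf₁ : KRR.IsPushCl f₁ φX₁ φY₁ gf₁)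
    (x : KX) :
    gφ (gf x) = gf₁ (KRR.lamAlt PX₁ (gψ (φX (KRR.cl X (Omega.conormal f))) - φX₁ (KRR.cl X₁ (Omega.conormal f₁))) * gψ x) := by
  exact H28.ExcessModel.main (H28.QProjEnough.enough qY hqY) (H28.QProjEnough.enough qY₁ hqY₁) f hf hC φ f₁ ψ hsq hf₁ hC₁
    hKX hKY hKX₁ hKY₁ gφ hgφ gψ hgψ gf hgf gf₁ hgf₁ x

end Groth.Agent.S3769
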