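import Groth.Statements.S17693
import Groth.Agent.WeilHomeo5.Main
import Groth.Agent.GrpAF5.Artinian
-- import your own Groth.Agent.* helpers here

set_option autoImplicit false
universe u
open CategoryTheory CategoryTheory.Limits AlgebraicGeometry
open WeilRes

namespace Groth.Agent.S17693

/-- Let k be a field, A a finite k-algebra and G a group scheme of finite type over Spec A, not
necessarily smooth. Then the Weil restriction of G along Spec A → Spec k is representable: there
exist a k-scheme R and an A-morphism q : R ×_k Spec A → G such that for every k-scheme T the map g ↦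
(g ×_k Spec A) ≫ q is a bijection from k-morphisms T → R onto A-morphisms T ×_k Spec A → G. (The
published statement adds that the representing k-group scheme is quasi-projective; only
representability is stated here.) -/
theorem result
    (k A : Type u) [Field k] [CommRing A] [Algebra k A] [Module.Finite k A]
    (G : Over (Spec (CommRingCat.of A))) [GrpObj G] [LocallyOfFiniteType G.hom] [QuasiCompact G.hom] :
    ∃ (R : Over (Spec (CommRingCat.of k)))
      (q : Red.bc (Spec.map (CommRingCat.ofHom (algebraMap k A))) R ⟶ G),
      WeilRes.IsWeilRes (Spec.map (CommRingCat.ofHom (algebraMap k A))) G R q := by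
  let f := Spec.map (CommRingCat.ofHom (algebraMap k A))
  haveI : IsFinite f := by
    rw [IsFinite.SpecMap_iff]
    exact RingHom.finite_algebraMap.2 inferInstance
  haveI : Flat f := inferInstance
  haveI : LocallyOfFinitePresentation f := inferInstance
  haveI : IsArtinianRing A := IsArtinianRing.of_finite k A
  haveI : Finite ↥(Spec (CommRingCat.of A)) := inferInstanceAs (Finite (PrimeSpectrum A))
  haveI : DiscreteTopology ↥(Spec (CommRingCat.of A)) := inferInstanceAs (DiscreteTopology (PrimeSpectrum A))
  obtain ⟨WX, ⟨rX⟩⟩ := Groth.Agent.WeilAff.Zar.exists_representableBy f (G.hom ≫ f) fun _ d x _ => by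
    obtain ⟨U, hU, hxU⟩ := Groth.Agent.GrpAF5.exists_affineOpen_of_finite G (Set.range x) (Set.finite_range x)
    exact ⟨U, hU, fun i => hxU ⟨i, rfl⟩⟩
  obtain ⟨WZ, ⟨rZ⟩⟩ := Groth.Agent.WeilAff.Zar.exists_representableBy f f fun _ d x _ =>
    ⟨⊤, isAffineOpen_top _, fun _ => trivial⟩
  exact Groth.Agent.WeilHomeo5.exists_isWeilRes f G rX rZ

end Groth.Agent.S17693
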