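import Groth.Statements.S9208
import Groth.Agent.LfpCrit.Scheme
-- import your own Groth.Agent.* helpers here

set_option autoImplicit false
set_option backward.isDefEq.respectTransparency false
set_option backward.isDefEq.respectTransparency.types false
universe u
open CategoryTheory AlgebraicGeometry
open Lim

namespace Groth.Agent.S9208
open CategoryTheory CategoryTheory.Limits AlgebraicGeometry Opposite in
/-- Morphisms of affine opens lift along directed colimits. -/
theorem lifts_appLE {X S : Scheme.{u}} (f : X ⟶ S)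
    (h : ∀ (J : Type u) [Preorder J] [IsDirected J (· ≤ ·)] [Nonempty J] (D : Jᵒᵖ ⥤ Scheme.{u})
      (t : D ⟶ (Functor.const Jᵒᵖ).obj S) (c : Limits.Cone D) (_ : Limits.IsLimit c),
      (∀ j, IsAffine (D.obj j)) → ∀ (j₀ : Jᵒᵖ) (g : c.pt ⟶ X), g ≫ f = c.π.app j₀ ≫ t.app j₀ →
        ∃ (j : Jᵒᵖ) (gj : D.obj j ⟶ X), gj ≫ f = t.app j ∧ c.π.app j ≫ gj = g)
    {U : S.Opens} (hU : IsAffineOpen U) {V : X.Opens} (hV : IsAffineOpen V) (e : V ≤ f ⁻¹ᵁ U) :
    LfpCrit.Lifts (f.appLE U V e) := by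
  intro J _ _ _ F α c hc g hg
  have hAE : Spec.map (f.appLE U V e) ≫ hU.fromSpec = hV.fromSpec ≫ f :=
    IsAffineOpen.SpecMap_appLE_fromSpec f hU hV e
  have hnat : ∀ {a b : J} (m : a ⟶ b), Spec.map (F.map m) ≫ Spec.map (α.app a) = Spec.map (α.app b) :=
    fun m => (Spec.map_comp _ _).symm.trans (congrArg Spec.map ((α.naturality m).symm.trans (Category.id_comp _)))
  let D : Jᵒᵖ ⥤ Scheme.{u} := F.op ⋙ Scheme.Spec
  let t : D ⟶ (Functor.const Jᵒᵖ).obj S :=
    { app := fun j => Spec.map (α.app j.unop) ≫ hU.fromSpec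
      naturality := fun a b m => by
        show Spec.map (F.map m.unop) ≫ Spec.map (α.app b.unop) ≫ hU.fromSpec = _ ≫ 𝟙 S
        rw [← Category.assoc, hnat m.unop, Category.comp_id] }
  obtain ⟨j₀⟩ := ‹Nonempty J›
  obtain ⟨⟨j⟩, φ, hφ, hφg⟩ := h J D t (Scheme.Spec.mapCone c.op) (isLimitOfPreserves Scheme.Spec hc.op)
    (fun j => inferInstanceAs (IsAffine (Spec _))) (op j₀) (Spec.map g ≫ hV.fromSpec) (by
      show _ = Spec.map (c.ι.app j₀) ≫ Spec.map (α.app j₀) ≫ hU.fromSpec
      rw [Category.assoc, ← hAE, ← Category.assoc, ← Category.assoc]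
      exact congrArg (· ≫ hU.fromSpec)
        (((Spec.map_comp _ _).symm.trans (congrArg Spec.map (hg j₀))).trans (Spec.map_comp _ _)))
  change φ ≫ f = Spec.map (α.app j) ≫ hU.fromSpec at hφ
  change Spec.map (c.ι.app j) ≫ φ = _ at hφg
  obtain ⟨k, a, hk⟩ := LfpCrit.exists_stage_range_subset hc j (φ ⁻¹ᵁ V) fun p => by
    show (Spec.map (c.ι.app j) ≫ φ) p ∈ V
    rw [hφg, Scheme.Hom.comp_apply]
    exact hV.range_fromSpec.le ⟨_, rfl⟩
  have hrange : Set.range (Spec.map (F.map a) ≫ φ) ⊆ Set.range hV.fromSpec := by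
    rw [hV.range_fromSpec]
    rintro _ ⟨p, rfl⟩
    exact hk p
  obtain ⟨g', hg'⟩ := Spec.map_surjective (IsOpenImmersion.lift hV.fromSpec (Spec.map (F.map a) ≫ φ) hrange)
  have hfac : Spec.map g' ≫ hV.fromSpec = Spec.map (F.map a) ≫ φ := by
    rw [hg', IsOpenImmersion.lift_fac]
  refine ⟨k, g', Spec.map_injective ?_, Spec.map_injective ?_⟩
  · rw [← cancel_mono hU.fromSpec, Spec.map_comp, Category.assoc, hAE, ← Category.assoc, hfac, Category.assoc,
      hφ, ← Category.assoc, hnat a]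
  · rw [← cancel_mono hV.fromSpec, Spec.map_comp, Category.assoc, hfac, ← Category.assoc, ← Spec.map_comp,
      c.w, hφg]


/-- Let f : X → S be a morphism of schemes. Suppose that for every inverse system (T_j) of affine
schemes over S indexed by a nonempty directed preordered set, with limit T, the canonical map
colim_j Mor_S(T_j, X) → Mor_S(T, X) is surjective: every S-morphism T → X is the composite of the
projection T → T_j with an S-morphism T_j → X for some j. Then f is locally of finite presentation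
(surjectivity alone suffices; bijectivity is not required). -/
theorem result {X S : Scheme.{u}} (f : X ⟶ S)
    (h : ∀ (J : Type u) [Preorder J] [IsDirected J (· ≤ ·)] [Nonempty J] (D : Jᵒᵖ ⥤ Scheme.{u})
      (t : D ⟶ (Functor.const Jᵒᵖ).obj S) (c : Limits.Cone D) (_ : Limits.IsLimit c),
      (∀ j, IsAffine (D.obj j)) → ∀ (j₀ : Jᵒᵖ) (g : c.pt ⟶ X), g ≫ f = c.π.app j₀ ≫ t.app j₀ →
        ∃ (j : Jᵒᵖ) (gj : D.obj j ⟶ X), gj ≫ f = t.app j ∧ c.π.app j ≫ gj = g) :
    LocallyOfFinitePresentation f := by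
  exact ⟨fun hU _ hV e => LfpCrit.hom_finitePresentation_of_lifts _ (lifts_appLE f h hU hV e)⟩

end Groth.Agent.S9208
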