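import Groth.Statements.S2150
import Mathlib
import Groth.Agent.CAlgOdd.GeomIrrField
import Groth.Agent.GeomField.Field

set_option autoImplicit false
universe u
open CAlg

namespace Groth.Agent.S2150

open TensorProduct in
/-- For a field extension `K/k`, the spectrum of `k' ⊗_k K` is irreducible for every field extension
`k'/k` (geometric irreducibility, extensions in the same universe) if and only if every element of
`K` which is separable algebraic over `k` lies in `k`. -/
theorem result {k K : Type u} [Field k] [Field K] [Algebra k K] :
    (∀ (k' : Type u) [Field k'] [Algebra k k'], IrreducibleSpace (PrimeSpectrum (k' ⊗[k] K))) ↔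
      ∀ α : K, IsSeparable k α → α ∈ Set.range (algebraMap k K) := by
  constructor
  · intro h α hα
    exact Groth.Agent.GeomField.mem_range_of_irreducibleSpace_tensor K hα
      (IntermediateField.adjoin k {α}) (AlgHom.id k _)
      ((PrimeSpectrum.homeomorphOfRingEquiv
        (Algebra.TensorProduct.comm k (IntermediateField.adjoin k {α}) K).toRingEquiv).irreducibleSpace_iff.mp
          (h (IntermediateField.adjoin k {α})))
  · intro h k' _ _
    exact Groth.Agent.CAlgOdd.GeomIrrField.irreducibleSpace_tensor k K h k'

end Groth.Agent.S2150
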