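import Groth.Statements.S8361
import Groth.Agent.LieSLib.Basic

set_option autoImplicit false
universe u
open CategoryTheory MonObj AlgebraicGeometry
open LieS

namespace Groth.Agent.S8361

open Groth.Agent.LieSLib

/-- Uniqueness of the bracket: for a group scheme G over a scheme S and an affine S-scheme T = Spec B:
an element of Lie(G/S)(T) is determined by its pull-back along the coordinate-multiplying map from
the iterated dual numbers over T to the dual numbers over T; in particular the bracket of x and y,
the element whose pull-back is the commutator of x read in the second dual coordinate with y read in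
the first, is unique when it exists. -/
theorem result (S : Scheme.{u}) (G : Over S) [GrpObj G] (B : Type u) [CommRing B]
    (f : Spec (CommRingCat.of B) ⟶ S) (x y z z' : LieS.Lie G B f)
    (h : LieS.IsBracket G B f x y z) (h' : LieS.IsBracket G B f x y z') : z = z' := by
  have he : mulMap B f ≫ z.1 = mulMap B f ≫ z'.1 := h.trans h'.symm
  refine Subtype.ext (Over.OverMorphism.ext ?_)
  refine ext_of_jointly_injective (J := Unit) (C := fun _ => D2 B) (fun _ => mulHom B) (fun s hs => ?_)
    (fun p => ⟨(), ?_⟩) fun _ => congrArg (fun g => g.left) he
  · have e := hs ()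
    have e1 := congrArg (fun z : D2 B => z.fst.fst) e
    have e2 := congrArg (fun z : D2 B => z.snd.snd) e
    simp [mulHom, toD2, TrivSqZeroExt.algebraMap_eq_inl'] at e1 e2
    ext
    · simpa using e1
    · simpa using e2
  · refine ⟨PrimeSpectrum.comap ((TrivSqZeroExt.fstHom B B B).toRingHom.comp
      (TrivSqZeroExt.fstHom (DualNumber B) (DualNumber B) (DualNumber B)).toRingHom)
      (PrimeSpectrum.comap (algebraMap B (DualNumber B)) p), ?_⟩
    ext x
    simp only [PrimeSpectrum.comap_asIdeal, Ideal.mem_comap]
    have hm : x - algebraMap B (DualNumber B) x.fst ∈ p.asIdeal := by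
      refine p.2.mem_of_pow_mem 2 ?_
      have : (x - algebraMap B (DualNumber B) x.fst) ^ 2 = 0 := by
        rw [sq]; ext <;> simp [TrivSqZeroExt.algebraMap_eq_inl']
      rw [this]; exact p.asIdeal.zero_mem
    simp [mulHom, toD2, TrivSqZeroExt.algebraMap_eq_inl'] at hm ⊢
    constructor
    · intro h; simpa using add_mem hm h
    · intro h; simpa using sub_mem h hm

end Groth.Agent.S8361
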