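import Groth.Statements.S4785
import Mathlib

set_option autoImplicit false
universe u
open CategoryTheory AlgebraicGeometry
open Lim8

namespace Groth.Agent.S4785

theorem isIso_stalkMap_of_lift {X Y : Scheme.{u}} (p : X ⟶ Y) [Mono p] (hp : Function.Injective p)
    (s : X) (q : Spec (Y.presheaf.stalk (p s)) ⟶ X) (hq : q ≫ p = Y.fromSpecStalk (p s)) :
    IsIso (p.stalkMap s) := by
  have hs : Spec.map (p.stalkMap s) ≫ q = X.fromSpecStalk s := by
    rw [← cancel_mono p, Category.assoc, hq, Scheme.SpecMap_stalkMap_fromSpecStalk]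
  have hqs : q (IsLocalRing.closedPoint _) = s := hp (by
    exact (congrArg (fun φ : Spec (Y.presheaf.stalk (p s)) ⟶ Y => φ (IsLocalRing.closedPoint _)) hq).trans
      Scheme.fromSpecStalk_closedPoint)
  let τ : X.presheaf.stalk s ⟶ Y.presheaf.stalk (p s) :=
    X.presheaf.stalkSpecializes (specializes_of_eq hqs) ≫ Scheme.stalkClosedPointTo q
  have hτ : Spec.map τ ≫ X.fromSpecStalk s = q := by
    rw [Spec.map_comp, Category.assoc, Scheme.SpecMap_stalkSpecializes_fromSpecStalk,
      Scheme.Spec_stalkClosedPointTo_fromSpecStalk]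
  refine ⟨⟨τ, Spec.map_injective ?_, Spec.map_injective ?_⟩⟩
  · rw [Spec.map_comp, Spec.map_id, ← cancel_mono (Y.fromSpecStalk (p s)), Category.assoc,
      Category.id_comp, Scheme.SpecMap_stalkMap_fromSpecStalk, ← Category.assoc, hτ, hq]
  · rw [Spec.map_comp, Spec.map_id, ← cancel_mono (X.fromSpecStalk s), Category.assoc,
      Category.id_comp, hτ, hs]


/-- Let S = lim S_i be a cofiltered limit of schemes whose transition maps are open immersions, so that
each S_j with j over i is an open subscheme of S_i. Then, for every index i, the projection S ⟶ S_i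
is a topological embedding and every stalk map O_{S_i, π(s)} ⟶ O_{S, s} is an isomorphism; that is,
S is the subspace ⋂_j S_j of S_i with the induced structure sheaf. -/
theorem result {I : Type u} [SmallCategory I] [IsCofiltered I]
    (D : I ⥤ Scheme.{u}) (c : Limits.Cone D) (hc : Limits.IsLimit c)
    [∀ (i j : I) (f : i ⟶ j), IsAffineHom (D.map f)]
    (hoi : ∀ (i j : I) (φ : i ⟶ j), IsOpenImmersion (D.map φ)) (i : I) :
    Topology.IsEmbedding ⇑(c.π.app i) ∧ ∀ s : c.pt, IsIso ((c.π.app i).stalkMap s) := by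
  haveI : ∀ {a b : I} (f : a ⟶ b), IsOpenImmersion (D.map f) := fun f => hoi _ _ f
  have hc' : Limits.IsLimit (c.whisker (Over.forget i)) :=
    (Functor.Initial.isLimitWhiskerEquiv (Over.forget i) c).symm hc
  have hmono : Mono (c.π.app i) := ⟨fun {T} g₁ g₂ h => hc'.hom_ext fun j => by
    show g₁ ≫ c.π.app j.left = g₂ ≫ c.π.app j.left
    rw [← cancel_mono (D.map j.hom), Category.assoc, Category.assoc, c.w, h]⟩
  have hind : Topology.IsInducing ⇑(c.π.app i) := by
    suffices h : ∀ U : Set c.pt, IsOpen U →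
        @IsOpen c.pt (TopologicalSpace.induced (fun z : c.pt => c.π.app i z) inferInstance) U from
      ⟨le_antisymm (continuous_iff_le_induced.1 (c.π.app i).continuous) h⟩
    -- every open is induced
    --⟨le_antisymm (continuous_iff_le_induced.1 (c.π.app i).continuous) ?_⟩
    intro U hU
    refine @isOpen_iff_forall_mem_open _ (TopologicalSpace.induced _ _) _ |>.2 ?_
    intro x hx
    obtain ⟨_, ⟨j, V, hV, rfl⟩, hxV, hVU⟩ :=
      TopologicalSpace.Opens.isBasis_iff_nbhd.mp (isBasis_preimage_isAffineOpen D c hc) (U := ⟨U, hU⟩) hx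
    obtain ⟨k, a, b, -⟩ := IsCofilteredOrEmpty.cone_objs (C := I) i j
    refine ⟨((c.π.app j ⁻¹ᵁ V : c.pt.Opens) : Set c.pt), hVU, isOpen_induced_iff.2
      ⟨D.map a '' (D.map b ⁻¹ᵁ V : Set (D.obj k)),
        (D.map a).isOpenEmbedding.isOpenMap _ (D.map b ⁻¹ᵁ V).2, ?_⟩, hxV⟩
    rw [show (⇑(c.π.app i) : c.pt → D.obj i) = D.map a ∘ c.π.app k by
      ext z; show c.π.app i z = D.map a (c.π.app k z); rw [← Scheme.Hom.comp_apply, c.w],
      Set.preimage_comp, (D.map a).isOpenEmbedding.injective.preimage_image]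
    ext z
    show D.map b (c.π.app k z) ∈ V ↔ c.π.app j z ∈ V
    rw [← Scheme.Hom.comp_apply, c.w]
  have hemb : Topology.IsEmbedding ⇑(c.π.app i) := hind.isEmbedding
  refine ⟨hemb, fun s => ?_⟩
  haveI : Mono (show c.pt ⟶ D.obj i from c.π.app i) := hmono
  let F := (D.obj i).fromSpecStalk (c.π.app i s)
  have hsub : ∀ j : Over i, Set.range F ⊆ Set.range (D.map j.hom) := fun j => by
    rintro _ ⟨p, rfl⟩
    have h1 : F p ⤳ c.π.app i s := (Scheme.range_fromSpecStalk (X := D.obj i)).le ⟨p, rfl⟩
    exact h1.mem_open (D.map j.hom).isOpenEmbedding.isOpen_range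
      ⟨c.π.app j.left s, by rw [← Scheme.Hom.comp_apply, c.w]⟩
  let L : ∀ j : Over i, Spec _ ⟶ D.obj j.left := fun j =>
    haveI := hoi j.left i j.hom
    IsOpenImmersion.lift (D.map j.hom) F (hsub j)
  have hL : ∀ j, L j ≫ D.map j.hom = F := fun j =>
    haveI := hoi j.left i j.hom
    IsOpenImmersion.lift_fac (D.map j.hom) F (hsub j)
  let C : Limits.Cone (Over.forget i ⋙ D) :=
    { pt := _
      π := { app := L
             naturality := fun j j' m => by
               haveI : IsOpenImmersion (D.map j'.hom) := hoi _ _ _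
               refine (Category.id_comp (L j')).trans ?_
               show L j' = L j ≫ D.map m.left
               refine (cancel_mono (D.map j'.hom)).1 ?_
               rw [Category.assoc, ← D.map_comp, Over.w m]
               exact (hL j').trans (hL j).symm } }
  let q : Spec ((D.obj i).presheaf.stalk (c.π.app i s)) ⟶ c.pt := hc'.lift C
  have hq : q ≫ c.π.app i = F := by
    refine Eq.trans (hc'.fac C (Over.mk (𝟙 i)) : q ≫ c.π.app i = L (Over.mk (𝟙 i))) ?_
    have h2 : L (Over.mk (𝟙 i)) ≫ D.map (𝟙 i) = F := hL (Over.mk (𝟙 i))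
    erw [D.map_id] at h2
    exact (Category.comp_id _).symm.trans h2
  exact isIso_stalkMap_of_lift (X := c.pt) (c.π.app i) hemb.injective s q hq

end Groth.Agent.S4785
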