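import Groth.Statements.S18197
import Groth.Agent.LocImmX.Basic
import Mathlib.AlgebraicGeometry.Morphisms.Separated
import Mathlib.RingTheory.Ideal.MinimalPrime.Basic

set_option autoImplicit false
universe u
open LocImm

namespace Groth.Agent.S18197

open TopologicalSpace CategoryTheory AlgebraicGeometry Limits

/-- Every point has an open chart on which `f` is a preimmersion. -/
theorem exists_chart {X Y : Scheme.{u}} (f : X ⟶ Y) (hf : LocImm.IsLocalizing f) (x : X) :
    ∃ (R : CommRingCat.{u}) (i : Spec R ⟶ X), IsOpenImmersion i ∧ x ∈ Set.range i ∧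
      IsPreimmersion (i ≫ f) ∧ Flat (i ≫ f) := by
  obtain ⟨U, V, hxV, e, hφ⟩ := hf x
  letI := (f.appLE U V e).hom.toAlgebra
  obtain ⟨M, hM⟩ := hφ
  have h1 : IsPreimmersion (Spec.map (f.appLE U V e)) :=
    IsPreimmersion.of_isLocalization (R := Γ(Y, U.1)) (S := Γ(X, V.1)) M
  have h2 : Flat (Spec.map (f.appLE U V e)) :=
    (HasRingHomProperty.Spec_iff (P := @Flat)).2 (IsLocalization.flat (Γ(X, V.1)) M)
  have e1 := U.2.SpecMap_appLE_fromSpec f V.2 e
  refine ⟨Γ(X, V.1), V.2.fromSpec, inferInstance, by rw [V.2.range_fromSpec]; exact hxV, ?_, ?_⟩ <;>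
    rw [← e1] <;> infer_instance

/-- Sections of a localizing morphism over local schemes. -/
theorem exists_section {X Y : Scheme.{u}} (f : X ⟶ Y) (hf : LocImm.IsLocalizing f) {x : X} {y : Y}
    (h : f x = y) : ∃ s : Spec (Y.presheaf.stalk y) ⟶ X, s ≫ f = Y.fromSpecStalk y ∧
      s (IsLocalRing.closedPoint _) = x := by
  subst h
  obtain ⟨R, i, hi, ⟨q, rfl⟩, hpre, hflat⟩ := exists_chart f hf x
  have h0 := Groth.Agent.H23.RatExtend.isIso_stalkMap (i ≫ f) q
  rw [Scheme.Hom.stalkMap_comp] at h0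
  haveI : IsIso (f.stalkMap (i q)) :=
    @IsIso.of_isIso_comp_right _ _ _ _ _ (f.stalkMap (i q)) (i.stalkMap q) inferInstance h0
  refine ⟨Spec.map (inv (f.stalkMap (i q))) ≫ X.fromSpecStalk (i q), ?_, ?_⟩
  · rw [Category.assoc, ← Scheme.SpecMap_stalkMap_fromSpecStalk f, ← Category.assoc,
      ← Spec.map_comp, IsIso.hom_inv_id, Spec.map_id, Category.id_comp]
  · have hc : Spec.map (inv (f.stalkMap (i q))) (IsLocalRing.closedPoint _) =
        IsLocalRing.closedPoint (X.presheaf.stalk (i q)) :=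
      IsLocalRing.comap_closedPoint (inv (f.stalkMap (i q))).hom
    rw [Scheme.Hom.comp_apply, hc, Scheme.fromSpecStalk_closedPoint]

theorem injective_of_injOn {X Y : Scheme.{u}} [IsNoetherian X] [IsNoetherian Y] (f : X ⟶ Y)
    (hf : LocImm.IsLocalizing f) [IsSeparated f]
    (hmax : Set.InjOn (fun x => f x) {x : X | ∀ x' : X, x' ⤳ x → x' = x}) :
    Function.Injective f.base := by
  intro x x' hxx'
  obtain ⟨y, hy⟩ : ∃ y, f x = y := ⟨_, rfl⟩
  obtain ⟨s, hs, hsx⟩ := exists_section f hf hy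
  obtain ⟨s', hs', hsx'⟩ := exists_section f hf (show f x' = y from hxx' ▸ hy)
  obtain ⟨p, hp⟩ := Ideal.nonempty_minimalPrimes (bot_ne_top (α := Ideal (Y.presheaf.stalk y)))
  haveI : p.IsPrime := hp.1.1
  let P := Y.presheaf.stalk y
  let q₀ : Spec P := (⟨p, hp.1.1⟩ : PrimeSpectrum P)
  have hgen : ∀ t : Spec P ⟶ X, t ≫ f = Y.fromSpecStalk y →
      ∀ ξ : X, ξ ⤳ t q₀ → ξ = t q₀ := by
    intro t ht ξ hξ
    have h1 : f ξ ⤳ Y.fromSpecStalk y q₀ := by
      rw [← ht, Scheme.Hom.comp_apply]; exact hξ.map f.continuous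
    obtain ⟨q', hq'⟩ : f ξ ∈ Set.range (Y.fromSpecStalk y) := by
      rw [Scheme.range_fromSpecStalk]
      exact h1.trans (by
        have : Y.fromSpecStalk y q₀ ∈ Set.range (Y.fromSpecStalk y) := ⟨q₀, rfl⟩
        rwa [Scheme.range_fromSpecStalk] at this)
    rw [← hq'] at h1
    have h2 : q' ⤳ q₀ := (Y.fromSpecStalk y).isEmbedding.isInducing.specializes_iff.1 h1
    have h3 : q' = q₀ := by
      have hle := (PrimeSpectrum.le_iff_specializes q' q₀).2 h2
      exact PrimeSpectrum.ext (le_antisymm hle (hp.2 ⟨q'.isPrime, bot_le⟩ hle))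
    obtain ⟨R, i, hi, ⟨b, hb⟩, hpre, -⟩ := exists_chart f hf (t q₀)
    obtain ⟨a, ha⟩ : ξ ∈ Set.range i :=
      hξ.mem_open i.isOpenEmbedding.isOpen_range ⟨b, hb⟩
    have : a = b := (i ≫ f).isEmbedding.injective (by
      rw [Scheme.Hom.comp_apply, Scheme.Hom.comp_apply, ha, hb, ← hq', h3, ← ht, Scheme.Hom.comp_apply])
    rw [← ha, this, hb]
  have hη : s q₀ = s' q₀ := by
    refine hmax (hgen s hs) (hgen s' hs') ?_
    show f (s q₀) = f (s' q₀)
    rw [← Scheme.Hom.comp_apply, ← Scheme.Hom.comp_apply, hs, hs']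
  obtain ⟨R, i, hi, ⟨b, hb⟩, hpre, -⟩ := exists_chart f hf (s q₀)
  -- the integral closed subscheme and its generic point
  let π : P ⟶ CommRingCat.of (P ⧸ p) := CommRingCat.ofHom (Ideal.Quotient.mk p)
  haveI : IsDomain (P ⧸ p) := Ideal.Quotient.isDomain p
  let K := FractionRing (P ⧸ p)
  let κ : CommRingCat.of (P ⧸ p) ⟶ CommRingCat.of K := CommRingCat.ofHom (algebraMap (P ⧸ p) K)
  have hpt : ∀ z : Spec (CommRingCat.of K), Spec.map π (Spec.map κ z) = q₀ := fun z => by
    refine PrimeSpectrum.ext ?_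
    show Ideal.comap (Ideal.Quotient.mk p) (Ideal.comap (algebraMap (P ⧸ p) K) z.asIdeal) = p
    rw [(Ideal.eq_bot_or_top z.asIdeal).resolve_right z.isPrime.ne_top,
      Ideal.comap_bot_of_injective _ (IsFractionRing.injective (P ⧸ p) K),
      ← RingHom.ker_eq_comap_bot, Ideal.mk_ker]
  have hmem : ∀ t : Spec P ⟶ X, t q₀ = s q₀ →
      Set.range ((Spec.map κ ≫ Spec.map π ≫ t)) ⊆ Set.range i := by
    rintro t ht _ ⟨z, rfl⟩
    rw [Scheme.Hom.comp_apply, Scheme.Hom.comp_apply, hpt, ht]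
    exact ⟨b, hb⟩
  have hK : Spec.map κ ≫ Spec.map π ≫ s = Spec.map κ ≫ Spec.map π ≫ s' := by
    rw [← IsOpenImmersion.lift_fac i _ (hmem s rfl), ← IsOpenImmersion.lift_fac i _ (hmem s' hη.symm)]
    congr 1
    rw [← cancel_mono (i ≫ f), IsOpenImmersion.lift_fac_assoc, IsOpenImmersion.lift_fac_assoc]
    simp only [Category.assoc, hs, hs']
  haveI : IsDominant (Spec.map κ) := by
    refine ⟨?_⟩
    show DenseRange (PrimeSpectrum.comap (algebraMap (P ⧸ p) K))
    rw [PrimeSpectrum.denseRange_comap_iff_ker_le_nilRadical,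
      (RingHom.injective_iff_ker_eq_bot _).1 (IsFractionRing.injective (P ⧸ p) K)]
    exact bot_le
  haveI : IsReduced (Spec (CommRingCat.of (P ⧸ p))) := inferInstance
  have hT : Spec.map π ≫ s = Spec.map π ≫ s' :=
    ext_of_isDominant_of_isSeparated f (by simp only [Category.assoc, hs, hs']) (Spec.map κ) hK
  let c : Spec (CommRingCat.of (P ⧸ p)) :=
    (⟨(IsLocalRing.maximalIdeal P).map (Ideal.Quotient.mk p),
      Ideal.map_isPrime_of_surjective Ideal.Quotient.mk_surjective (by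
        rw [Ideal.mk_ker]; exact IsLocalRing.le_maximalIdeal hp.1.1.ne_top)⟩ :
      PrimeSpectrum (P ⧸ p))
  have hc : Spec.map π c = IsLocalRing.closedPoint P := by
    refine PrimeSpectrum.ext ?_
    show Ideal.comap (Ideal.Quotient.mk p) ((IsLocalRing.maximalIdeal P).map (Ideal.Quotient.mk p)) = _
    rw [Ideal.comap_map_of_surjective _ Ideal.Quotient.mk_surjective, ← RingHom.ker_eq_comap_bot,
      Ideal.mk_ker, sup_eq_left.2 (IsLocalRing.le_maximalIdeal hp.1.1.ne_top)]
    rfl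
  rw [← hsx, ← hsx', ← hc, ← Scheme.Hom.comp_apply, ← Scheme.Hom.comp_apply, hT]

open CategoryTheory AlgebraicGeometry in
/-- Let `f : X ⟶ Y` be a localizing morphism of Noetherian schemes. Then `f` is injective on points if
and only if `f` is separated and injective on the set of maximal points of `X` (the generic points
of its irreducible components, i.e. the points with no proper generization). -/
theorem result {X Y : Scheme.{u}} [IsNoetherian X] [IsNoetherian Y] (f : X ⟶ Y) (hf : LocImm.IsLocalizing f) :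
    Function.Injective f.base ↔ (IsSeparated f ∧ Set.InjOn (fun x => f x) {x : X | ∀ x' : X, x' ⤳ x → x' = x}) := by
  refine ⟨fun hinj => ?_, fun h => ?_⟩
  · haveI := LocImmX.isPreimmersion_of_isLocImmersion f ⟨hf, hinj⟩
    exact ⟨inferInstance, fun a _ b _ hab => hinj hab⟩
  · haveI := h.1
    exact injective_of_injOn f hf h.2

end Groth.Agent.S18197
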