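import Groth.Statements.S18247
import Groth.Agent.M1CurvLib.Basic

set_option autoImplicit false
universe u
open W4c5m1nsnscurves
open Curves

namespace Groth.Agent.S18247

/-- Case n = 5: the coordinate ring of U_5 over ℤ (m = 2 indices, standing for the points 4 and 5;
generators a, c, c̄, c_4, c̄_4, c_5, c̄_5, c_{45}, c_{54} with the linear and the two quadratic
relations for the one pair of indices, and no triple) is the polynomial ring on a, c_4, c̄_4, c_5,
c̄_5, c_{45}: the ℤ-algebra map from the polynomial ring in six variables sending the variables to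
these six classes, in this order, is bijective. -/
theorem result :
    Function.Bijective (MvPolynomial.aeval (R := ℤ) (S₁ := URing ℤ 2)
      ![ugen ℤ 2 .a, ugen ℤ 2 (.ci 0), ugen ℤ 2 (.cbi 0), ugen ℤ 2 (.ci 1), ugen ℤ 2 (.cbi 1),
        ugen ℤ 2 (.cij 0 1 Fin.zero_ne_one)]) := by
  let x : Fin 6 → MvPolynomial (Fin 6) ℤ := MvPolynomial.X
  let p10 : MvPolynomial (Fin 6) ℤ := x 0 + x 1 + x 2 + x 3 + x 4 - x 5
  let g : UGen 2 → MvPolynomial (Fin 6) ℤ := fun
    | .a => x 0
    | .c => p10 * x 3 + x 5 * x 1 - x 1 * x 3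
    | .cb => p10 * x 2 + x 5 * x 4 - x 2 * x 4
    | .ci i => if i = 0 then x 1 else x 3
    | .cbi i => if i = 0 then x 2 else x 4
    | .cij i _ _ => if i = 0 then x 5 else p10
  have hg : Groth.Agent.M1CurvLib.Sat g := by
    refine ⟨fun i j h => ?_, fun i j h => ?_, fun i j h => ?_, fun i j l a b c => ?_⟩
    · fin_cases i <;> fin_cases j <;> first | exact absurd rfl h | (simp [g, p10]; try ring)
    · fin_cases i <;> fin_cases j <;> first | exact absurd rfl h | (simp [g]; try ring)
    · fin_cases i <;> fin_cases j <;> first | exact absurd rfl h | (simp [g]; try ring)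
    · exfalso; omega
  let ψ := Groth.Agent.M1CurvLib.ulift (R := ℤ) (algebraMap ℤ (MvPolynomial (Fin 6) ℤ)) g hg
  set v : Fin 6 → URing ℤ 2 := ![ugen ℤ 2 .a, ugen ℤ 2 (.ci 0), ugen ℤ 2 (.cbi 0), ugen ℤ 2 (.ci 1),
    ugen ℤ 2 (.cbi 1), ugen ℤ 2 (.cij 0 1 Fin.zero_ne_one)] with hv
  have hψ : ∀ y, ψ (ugen ℤ 2 y) = g y := Groth.Agent.M1CurvLib.ulift_ugen _ _ hg
  refine ⟨Function.LeftInverse.injective (g := ψ) fun p => ?_, fun z => ⟨ψ z, ?_⟩⟩
  · suffices h : ψ.comp (MvPolynomial.aeval (R := ℤ) v).toRingHom = RingHom.id _ from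
      congrArg (fun f => f p) h
    refine MvPolynomial.ringHom_ext (fun r => by simp) fun i => ?_
    change ψ (MvPolynomial.aeval v (MvPolynomial.X i)) = MvPolynomial.X i
    rw [MvPolynomial.aeval_X]
    fin_cases i <;> exact (hψ _).trans (by simp [g, x])
  · suffices h : (MvPolynomial.aeval (R := ℤ) v).toRingHom.comp ψ = RingHom.id _ from
      congrArg (fun f => f z) h
    refine Ideal.Quotient.ringHom_ext (MvPolynomial.ringHom_ext (fun r => by simp) fun y => ?_)
    change MvPolynomial.aeval v (ψ (ugen ℤ 2 y)) = ugen ℤ 2 y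
    rw [hψ]
    obtain ⟨h1, h2, h3, -⟩ := Groth.Agent.M1CurvLib.sat_ugen (R := ℤ) (m := 2)
    have e1 := h1 0 1 Fin.zero_ne_one
    match y with
    | .a => simp [g, x, v]
    | .c =>
      simp [g, x, v, p10]
      linear_combination h2 0 1 Fin.zero_ne_one - ugen ℤ 2 (.ci 1) * e1
    | .cb =>
      simp [g, x, v, p10]
      linear_combination h3 0 1 Fin.zero_ne_one - ugen ℤ 2 (.cbi 0) * e1
    | .ci i => fin_cases i <;> simp [g, x, v]
    | .cbi i => fin_cases i <;> simp [g, x, v]
    | .cij i j h =>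
      fin_cases i <;> fin_cases j
      · exact absurd rfl h
      · simp [g, x, v]
      · simp [g, x, v, p10]
        linear_combination (-1 : URing ℤ 2) * e1
      · exact absurd rfl h

end Groth.Agent.S18247
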