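import Groth.Statements.S19345
import Mathlib.RingTheory.AdjoinRoot
import Mathlib.RingTheory.Ideal.GoingUp
-- import your own Groth.Agent.* helpers here

set_option autoImplicit false
universe u
open CategoryTheory CategoryTheory.Limits AlgebraicGeometry TopologicalSpace
open ModPair

namespace Groth.Agent.S19345

open AlgebraicGeometry CategoryTheory CategoryTheory.Limits in
theorem mem_range_of_isAIC {A B : Type u} [CommRing A] [CommRing B] [IsDomain B] [Algebra A B]
    (hA : ∀ f : Polynomial A, f.Monic → 0 < f.natDegree → ∃ r, f.IsRoot r) (b : B) :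
    ∀ (n : ℕ) (f : Polynomial A), f.natDegree = n → f.Monic → Polynomial.aeval b f = 0 → b ∈ (algebraMap A B).range := by
  haveI : Nontrivial A := (algebraMap A B).domain_nontrivial
  intro n
  induction n with
  | zero =>
    intro f hn hf h
    rw [hf.natDegree_eq_zero.1 hn] at h
    simp at h
  | succ n ih =>
    intro f hn hf h
    obtain ⟨r, hr⟩ := hA f hf (by omega)
    have hd := Polynomial.mul_divByMonic_eq_iff_isRoot.2 hr
    rw [← hd, map_mul, mul_eq_zero] at h
    rcases h with h | h
    · exact ⟨r, by simp at h; exact (sub_eq_zero.1 h).symm⟩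
    · refine ih _ ?_ ?_ h
      · rw [Polynomial.natDegree_divByMonic f (Polynomial.monic_X_sub_C r), Polynomial.natDegree_X_sub_C]; omega
      · exact (Polynomial.monic_X_sub_C r).of_mul_monic_left (hd.symm ▸ hf)

open AlgebraicGeometry CategoryTheory CategoryTheory.Limits in
/-- A factorization of the identity of `Spec A` gives a retraction of rings. -/
theorem exists_retraction {A B : CommRingCat.{u}} (φ : A ⟶ B) (h : Spec A ⟶ Spec B) (hh : h ≫ Spec.map φ = 𝟙 _) :
    ∃ r : B →+* A, ∀ a, r (φ a) = a := by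
  obtain ⟨ψ, rfl⟩ := Spec.map_surjective h
  rw [← Spec.map_comp, ← Spec.map_id] at hh
  exact ⟨ψ.hom, fun a => ConcreteCategory.congr_hom (Spec.map_injective hh) a⟩

/-- Let P be a quasi-separated scheme. Then P is local for Zariski coverings (for every scheme X, every
jointly surjective family of quasi-compact open immersions into X and every morphism P ⟶ X, the
morphism factors through a member) and for finite coverings (the same for jointly surjective
families of finite morphisms) — which together is locality for the rqfh coverings, the finite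
composites of coverings of these two kinds — if and only if P is affine and Γ(P) is a local integral
domain in which every monic polynomial of positive degree has a root, i.e. the spectrum of an
absolutely integrally closed local domain. The published statement allows any scheme P; this row
assumes P quasi-separated. -/
theorem result (P : Scheme.{u}) [QuasiSeparatedSpace P] :
    ((∀ (X : Scheme.{u}) (R : Presieve X), R ∈ Scheme.precoverage (@IsOpenImmersion ⊓ @QuasiCompact) X →
        ∀ g : P ⟶ X, ∃ (Y : Scheme.{u}) (w : Y ⟶ X) (h : P ⟶ Y), R w ∧ h ≫ w = g) ∧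
      (∀ (X : Scheme.{u}) (R : Presieve X), R ∈ Scheme.precoverage @IsFinite X →
        ∀ g : P ⟶ X, ∃ (Y : Scheme.{u}) (w : Y ⟶ X) (h : P ⟶ Y), R w ∧ h ≫ w = g)) ↔
    (IsAffine P ∧ IsLocalRing Γ(P, ⊤) ∧ IsDomain Γ(P, ⊤) ∧ Curves.IsAIC Γ(P, ⊤)) := by
  constructor
  · rintro ⟨hz, hf⟩
    haveI : Nonempty P := by
      by_contra hP
      haveI : IsEmpty P := not_nonempty_iff.1 hP
      obtain ⟨Y, w, h, hw, -⟩ := hf P ⊥ (Scheme.bot_mem_precoverage _ P) (𝟙 P)
      exact hw
    haveI : IsAffine P := by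
      obtain ⟨Y, w, h, hw, hh⟩ := hz P (Presieve.ofArrows (fun U : P.affineOpens => (U.1 : Scheme.{u})) (fun U => U.1.ι))
        ((Scheme.ofArrows_mem_precoverage_iff _).2 ⟨fun x => by
          obtain ⟨U, hU, hxU, -⟩ := exists_isAffineOpen_mem_and_subset (U := ⊤) (Set.mem_univ x)
          exact ⟨⟨U, hU⟩, ⟨x, hxU⟩, rfl⟩, fun U => by
          haveI : IsAffine (U.1 : Scheme.{u}) := U.2
          exact ⟨inferInstance, inferInstance⟩⟩) (𝟙 P)
      obtain ⟨U⟩ := hw
      haveI : IsAffine (U.1 : Scheme.{u}) := U.2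
      haveI : IsIso h := (⟨h, U.1.ι, hh, by rw [← cancel_mono U.1.ι, Category.assoc, hh, Category.comp_id, Category.id_comp]⟩ : P ≅ (U.1 : Scheme.{u})).isIso_hom
      exact IsAffine.of_isIso h
    have key : ∀ {M : MorphismProperty Scheme.{u}} (hM : ∀ (X : Scheme.{u}) (R : Presieve X), R ∈ Scheme.precoverage M X →
        ∀ g : P ⟶ X, ∃ (Y : Scheme.{u}) (w : Y ⟶ X) (h : P ⟶ Y), R w ∧ h ≫ w = g) {ι : Type u}
        (B : ι → CommRingCat.{u}) (φ : ∀ i, Γ(P, ⊤) ⟶ B i) (hsurj : ∀ x, ∃ i, x ∈ Set.range (Spec.map (φ i)))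
        (hM' : ∀ i, M (Spec.map (φ i))), ∃ i, ∃ r : B i →+* Γ(P, ⊤), ∀ a, r (φ i a) = a := by
      intro M hM ι B φ hsurj hM'
      obtain ⟨Y, w, h, hw, hh⟩ := hM (Spec Γ(P, ⊤)) (Presieve.ofArrows _ fun i => Spec.map (φ i))
        ((Scheme.ofArrows_mem_precoverage_iff _).2 ⟨hsurj, hM'⟩) P.isoSpec.hom
      obtain ⟨i⟩ := hw
      exact ⟨i, exists_retraction (φ i) (P.isoSpec.inv ≫ h) (by rw [Category.assoc, hh, Iso.inv_hom_id])⟩
    haveI : Nontrivial Γ(P, ⊤) :=
      PrimeSpectrum.nonempty_iff_nontrivial.1 (Nonempty.map (fun x => P.isoSpec.hom x) inferInstance)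
    have hdom : IsDomain Γ(P, ⊤) := by
      obtain ⟨p, r, hr⟩ := key hf (ι := PrimeSpectrum Γ(P, ⊤)) (fun p => CommRingCat.of (Γ(P, ⊤) ⧸ p.asIdeal))
        (fun p => CommRingCat.ofHom (Ideal.Quotient.mk p.asIdeal))
        (fun x => ⟨x, ⟨⊥, Ideal.bot_prime⟩, by
          refine PrimeSpectrum.ext ?_
          exact Ideal.mk_ker⟩)
        (fun p => (IsFinite.SpecMap_iff _).2 (RingHom.Finite.of_surjective _ Ideal.Quotient.mk_surjective))
      have hp : p.asIdeal = ⊥ := eq_bot_iff.2 fun a ha => by
        have := hr a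
        change r (Ideal.Quotient.mk p.asIdeal a) = a at this
        rw [Ideal.Quotient.eq_zero_iff_mem.2 ha, map_zero] at this
        exact this.symm
      haveI : (⊥ : Ideal Γ(P, ⊤)).IsPrime := hp ▸ p.2
      exact MulEquiv.isDomain _ (RingEquiv.quotientBot Γ(P, ⊤)).toMulEquiv.symm
    refine ⟨inferInstance, IsLocalRing.of_isUnit_or_isUnit_one_sub_self fun a => ?_, hdom, fun f hf' hdeg => ?_⟩
    · obtain ⟨i, r, hr⟩ := key hz (ι := ULift.{u} Bool) (fun b => CommRingCat.of (Localization.Away (cond b.down a (1 - a))))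
        (fun b => CommRingCat.ofHom (algebraMap Γ(P, ⊤) (Localization.Away (cond b.down a (1 - a)))))
        (fun x => by
          by_cases hx : a ∈ x.asIdeal
          · refine ⟨⟨false⟩, ?_⟩
            change (x : PrimeSpectrum Γ(P, ⊤)) ∈ Set.range (PrimeSpectrum.comap (algebraMap Γ(P, ⊤) (Localization.Away (1 - a))))
            rw [PrimeSpectrum.localization_away_comap_range _ (1 - a)]
            exact fun h => x.2.ne_top ((Ideal.eq_top_iff_one _).2 (by simpa using add_mem hx h))
          · refine ⟨⟨true⟩, ?_⟩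
            change (x : PrimeSpectrum Γ(P, ⊤)) ∈ Set.range (PrimeSpectrum.comap (algebraMap Γ(P, ⊤) (Localization.Away a)))
            rw [PrimeSpectrum.localization_away_comap_range _ a]
            exact hx)
        (fun b => ⟨IsOpenImmersion.of_isLocalization (cond b.down a (1 - a)), inferInstance⟩)
      have hu := (IsLocalization.Away.algebraMap_isUnit (S := Localization.Away (cond i.down a (1 - a))) (cond i.down a (1 - a))).map r
      change IsUnit (r (algebraMap _ _ _)) at hu
      rw [show r (algebraMap _ _ (cond i.down a (1 - a))) = cond i.down a (1 - a) from hr _] at hu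
      rcases i with ⟨⟨⟩⟩
      · exact Or.inr hu
      · exact Or.inl hu
    · haveI : Module.Finite Γ(P, ⊤) (AdjoinRoot f) := hf'.finite_adjoinRoot
      obtain ⟨i, r, hr⟩ := key hf (ι := PUnit.{u + 1}) (fun _ => CommRingCat.of (AdjoinRoot f))
        (fun _ => CommRingCat.ofHom (AdjoinRoot.of f))
        (fun x => ⟨PUnit.unit, RingHom.IsIntegral.comap_surjective
          (Algebra.IsIntegral.isIntegral (R := Γ(P, ⊤)) (A := AdjoinRoot f))
          (AdjoinRoot.of.injective_of_degree_ne_zero (fun h => by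
            have := Polynomial.natDegree_eq_zero_iff_degree_le_zero.2 h.le; omega)) x⟩)
        (fun _ => (IsFinite.SpecMap_iff _).2 (RingHom.finite_algebraMap.2 inferInstance))
      refine ⟨r (AdjoinRoot.root f), ?_⟩
      have hrr : r.comp (AdjoinRoot.of f) = RingHom.id _ := RingHom.ext hr
      have := congrArg r (AdjoinRoot.eval₂_root f)
      rw [map_zero, Polynomial.hom_eval₂, hrr] at this
      exact this
  · rintro ⟨haff, hloc, hdom, haic⟩
    refine ⟨fun X R hR g => ?_, fun X R hR g => ?_⟩
    · obtain ⟨hcov, hP⟩ := hR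
      let c : P := P.isoSpec.inv (IsLocalRing.closedPoint Γ(P, ⊤))
      obtain ⟨Y, w, hw, y, hy⟩ := (Presieve.mem_comap_jointlySurjectivePrecoverage_iff Scheme.forget).1 hcov (g c)
      haveI : IsOpenImmersion w := (hP hw).1
      refine ⟨Y, w, IsOpenImmersion.lift w g ?_, hw, IsOpenImmersion.lift_fac _ _ _⟩
      rintro _ ⟨x, rfl⟩
      refine Specializes.mem_open ?_ w.opensRange.2 ⟨y, hy⟩
      refine Specializes.map ?_ g.continuous
      have h1 : P.isoSpec.hom x ⤳ IsLocalRing.closedPoint Γ(P, ⊤) := IsLocalRing.specializes_closedPoint _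
      have h2 := h1.map P.isoSpec.inv.continuous
      rwa [← Scheme.Hom.comp_apply, Iso.hom_inv_id] at h2
    · obtain ⟨hcov, hP⟩ := hR
      let η : P := P.isoSpec.inv (⟨⊥, Ideal.bot_prime⟩ : PrimeSpectrum Γ(P, ⊤))
      obtain ⟨Y, w, hw, y, hy⟩ := (Presieve.mem_comap_jointlySurjectivePrecoverage_iff Scheme.forget).1 hcov (g η)
      haveI : IsFinite w := hP hw
      let q := pullback.fst g w
      haveI : IsAffine (pullback g w) := isAffine_of_isAffineHom q
      obtain ⟨z, hz, -⟩ := Scheme.Pullback.exists_preimage_pullback η y hy.symm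
      let φ := q.appTop
      have hfin : φ.hom.Finite := q.finite_appTop
      algebraize [φ.hom]
      let z' : PrimeSpectrum Γ(pullback g w, ⊤) := (pullback g w).isoSpec.hom z
      have hz' : Spec.map φ z' = (⟨⊥, Ideal.bot_prime⟩ : PrimeSpectrum Γ(P, ⊤)) := by
        change ((pullback g w).isoSpec.hom ≫ Spec.map q.appTop) z = _
        rw [Scheme.isoSpec_hom_naturality, Scheme.Hom.comp_apply, hz, ← Scheme.Hom.comp_apply, Iso.inv_hom_id]
        rfl
      have hker : z'.asIdeal.comap φ.hom = ⊥ := congrArg PrimeSpectrum.asIdeal hz'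
      let ψ : Γ(P, ⊤) →+* Γ(pullback g w, ⊤) ⧸ z'.asIdeal := (Ideal.Quotient.mk z'.asIdeal).comp φ.hom
      have hinj : Function.Injective ψ := by
        rw [RingHom.injective_iff_ker_eq_bot, ← RingHom.comap_ker, Ideal.mk_ker]; exact hker
      have hsur : Function.Surjective ψ := fun b => by
        obtain ⟨f, hf, hfb⟩ := Algebra.IsIntegral.isIntegral (R := Γ(P, ⊤)) b
        obtain ⟨a, ha⟩ := mem_range_of_isAIC haic b _ f rfl hf hfb
        exact ⟨a, ha⟩
      let e := RingEquiv.ofBijective ψ ⟨hinj, hsur⟩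
      let σ : Γ(pullback g w, ⊤) ⟶ Γ(P, ⊤) := CommRingCat.ofHom (e.symm.toRingHom.comp (Ideal.Quotient.mk z'.asIdeal))
      have hσ : φ ≫ σ = 𝟙 _ := CommRingCat.hom_ext (RingHom.ext fun a => e.symm_apply_apply a)
      have hs : P.isoSpec.hom ≫ Spec.map σ ≫ (pullback g w).isoSpec.inv ≫ q = 𝟙 P := by
        rw [show (pullback g w).isoSpec.inv ≫ q = Spec.map φ ≫ P.isoSpec.inv from (Scheme.isoSpec_inv_naturality q).symm,
          ← Category.assoc (Spec.map σ), ← Spec.map_comp, hσ, Spec.map_id, Category.id_comp, Iso.hom_inv_id]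
      refine ⟨Y, w, P.isoSpec.hom ≫ Spec.map σ ≫ (pullback g w).isoSpec.inv ≫ pullback.snd g w, hw, ?_⟩
      simp only [Category.assoc, ← pullback.condition]
      have := congrArg (· ≫ g) hs
      simpa only [Category.assoc, Category.id_comp] using this

end Groth.Agent.S19345
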