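import Groth.Statements.S19328
import Mathlib.RingTheory.AdjoinRoot
import Mathlib.FieldTheory.IsAlgClosed.Basic
import Mathlib.RingTheory.Polynomial.ScaleRoots
import Mathlib.AlgebraicGeometry.Morphisms.Flat
import Mathlib.AlgebraicGeometry.Morphisms.FinitePresentation

set_option autoImplicit false
universe u
open CategoryTheory CategoryTheory.Limits AlgebraicGeometry
open ModPair

namespace Groth.Agent.S19328

open Polynomial


/-- Let A be a commutative ring such that Spec A is local for fppf coverings, in the sense that for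
every scheme X, every jointly surjective family of morphisms to X each of which is flat and of
finite presentation (locally of finite presentation, quasi-compact and quasi-separated), and every
morphism Spec A ⟶ X, the morphism factors through a member of the family. Then the residue field of
A at every prime ideal is algebraically closed. -/
theorem result (A : Type u) [CommRing A]
    (hloc : ∀ (X : Scheme.{u}) (R : Presieve X),
      R ∈ Scheme.precoverage (@Flat ⊓ @LocallyOfFinitePresentation ⊓ @QuasiCompact ⊓ @QuasiSeparated) X →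
      ∀ g : Spec (CommRingCat.of A) ⟶ X,
        ∃ (Y : Scheme.{u}) (v : Y ⟶ X) (h : Spec (CommRingCat.of A) ⟶ Y), R v ∧ h ≫ v = g)
    (p : Ideal A) [p.IsPrime] : IsAlgClosed p.ResidueField := by
  refine IsAlgClosed.of_exists_root _ fun f hf hirr => ?_
  obtain ⟨⟨b, hb⟩, hb'⟩ := IsLocalization.exist_integer_multiples (nonZeroDivisors (A ⧸ p))
    f.support (fun i => f.coeff i)
  obtain ⟨b, rfl⟩ := Ideal.Quotient.mk_surjective b
  set s : p.ResidueField := algebraMap A p.ResidueField b with hs
  have hs' : algebraMap (A ⧸ p) p.ResidueField (Ideal.Quotient.mk p b) = s :=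
    (IsScalarTower.algebraMap_apply A (A ⧸ p) p.ResidueField b).symm
  have hs0 : s ≠ 0 := by
    rw [← hs']
    exact fun h => nonZeroDivisors.ne_zero hb
      ((IsFractionRing.injective (A ⧸ p) p.ResidueField) (h.trans (map_zero _).symm))
  have hg : f.scaleRoots s ∈ Polynomial.lifts (algebraMap A p.ResidueField) := by
    rw [lifts_iff_coeff_lifts]
    intro i
    rw [coeff_scaleRoots]
    rcases lt_trichotomy i f.natDegree with hi | hi | hi
    · by_cases hci : f.coeff i = 0
      · exact ⟨0, by simp [hci]⟩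
      obtain ⟨c, hc⟩ := hb' i (mem_support_iff.mpr hci)
      obtain ⟨c, rfl⟩ := Ideal.Quotient.mk_surjective c
      obtain ⟨k, hk⟩ : ∃ k, f.natDegree - i = k + 1 := ⟨f.natDegree - i - 1, by omega⟩
      refine ⟨c * b ^ k, ?_⟩
      have hc' : algebraMap A p.ResidueField c = s * f.coeff i := by
        rw [Algebra.smul_def, hs'] at hc
        exact (IsScalarTower.algebraMap_apply A (A ⧸ p) p.ResidueField c).trans hc
      rw [map_mul, map_pow, hc', hk, pow_succ, ← hs]
      ring
    · exact ⟨1, by rw [hi, Polynomial.Monic.coeff_natDegree hf]; simp⟩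
    · exact ⟨0, by rw [coeff_eq_zero_of_natDegree_lt hi]; simp⟩
  obtain ⟨G, hG, hGdeg, hGm⟩ := lifts_and_degree_eq_and_monic hg
    ((monic_scaleRoots_iff s).mpr hf)
  have hdeg : 0 < G.natDegree := by
    rw [natDegree_eq_of_degree_eq hGdeg, natDegree_scaleRoots]
    exact hirr.natDegree_pos
  have := hGm.free_adjoinRoot
  have := hGm.finite_adjoinRoot
  have : Nontrivial A := ⟨⟨0, 1, fun h => ‹p.IsPrime›.ne_top
    ((Ideal.eq_top_iff_one p).mpr (h ▸ p.zero_mem))⟩⟩
  have : Nontrivial (AdjoinRoot G) := by
    refine Module.nontrivial_of_finrank_pos (R := A) ?_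
    rw [(AdjoinRoot.powerBasis' hGm).finrank]
    simpa using hdeg
  let φ : CommRingCat.of A ⟶ CommRingCat.of (AdjoinRoot G) :=
    CommRingCat.ofHom (algebraMap A (AdjoinRoot G))
  have hff : φ.hom.FaithfullyFlat := by
    show (algebraMap A (AdjoinRoot G)).FaithfullyFlat
    rw [RingHom.faithfullyFlat_algebraMap_iff]
    infer_instance
  obtain ⟨hflat, hsurj⟩ := (flat_and_surjective_SpecMap_iff φ).mpr hff
  have hfp : LocallyOfFinitePresentation (Spec.map φ) := by
    rw [HasRingHomProperty.Spec_iff (P := @LocallyOfFinitePresentation)]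
    exact RingHom.finitePresentation_algebraMap.mpr inferInstance
  obtain ⟨Y, v, h, hv, hvh⟩ := hloc _ (Presieve.singleton (Spec.map φ))
    ((Scheme.singleton_mem_precoverage_iff _ _).mpr
      ⟨hsurj.surj, ⟨⟨hflat, hfp⟩, inferInstance⟩, inferInstance⟩) (𝟙 _)
  obtain ⟨⟩ := hv
  obtain ⟨ψ, rfl⟩ := Spec.map_surjective h
  rw [← Spec.map_comp, ← Spec.map_id, Spec.map_inj] at hvh
  have hψ : ψ.hom.comp (algebraMap A (AdjoinRoot G)) = RingHom.id A := congrArg CommRingCat.Hom.hom hvh
  have hroot : G.eval (ψ.hom (AdjoinRoot.root G)) = 0 := by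
    have h0 := Polynomial.hom_eval₂ G (AdjoinRoot.of G) ψ.hom (AdjoinRoot.root G)
    rw [AdjoinRoot.eval₂_root, map_zero] at h0
    rw [Polynomial.eval, ← hψ]
    exact h0.symm
  refine ⟨s⁻¹ * algebraMap A p.ResidueField (ψ.hom (AdjoinRoot.root G)), ?_⟩
  have h1 : (f.scaleRoots s).eval (algebraMap A p.ResidueField (ψ.hom (AdjoinRoot.root G))) = 0 := by
    rw [← hG, eval_map, eval₂_hom, hroot, map_zero]
  generalize algebraMap A p.ResidueField (ψ.hom (AdjoinRoot.root G)) = y at h1 ⊢
  have h2 := scaleRoots_eval₂_mul (p := f) (RingHom.id _) (r := s⁻¹ * y) s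
  simp only [RingHom.id_apply, Polynomial.eval₂_id, ← mul_assoc, mul_inv_cancel₀ hs0, one_mul,
    h1] at h2
  exact (mul_eq_zero.mp h2.symm).resolve_left (pow_ne_zero _ hs0)

end Groth.Agent.S19328
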