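import Groth.Statements.S9332
import Mathlib
import Groth.Agent.H3Sch.AlgClosedPt

set_option autoImplicit false
universe u
open QFin

namespace Groth.Agent.S9332

open AlgebraicGeometry CategoryTheory

set_option backward.isDefEq.respectTransparency.types false
set_option backward.isDefEq.respectTransparency false


open AlgebraicGeometry CategoryTheory in
/-- Let f : X → S be locally of finite type and x ∈ X. Then x is closed in its fibre X_{f x} if and only
if κ(x) is a finite extension of κ(f x) (via the residue field map of f at x). -/
theorem result {X S : Scheme.{u}} (f : X ⟶ S) [LocallyOfFiniteType f] (x : X) :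
    IsClosed ({f.asFiber x} : Set ↑(f.fiber (f.base x))) ↔ (f.residueFieldMap x).hom.Finite := by
  constructor
  · intro h
    have : IsClosedImmersion (f.asFiberHom x) := .of_isPreimmersion _ (by rwa [f.range_asFiberHom])
    have : LocallyOfFiniteType (f.fiberToSpecResidueField (f x)) := by
      delta Scheme.Hom.fiberToSpecResidueField; infer_instance
    have h' : LocallyOfFiniteType (f.asFiberHom x ≫ f.fiberToSpecResidueField (f x)) := inferInstance
    rw [f.asFiberHom_fiberToSpecResidueField, HasRingHomProperty.Spec_iff (P := @LocallyOfFiniteType)] at h'
    algebraize [(f.residueFieldMap x).hom]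
    exact RingHom.finite_algebraMap.2 (finite_of_finite_type_of_isJacobsonRing _ _)
  · intro h
    refine H3Sch.isClosed_singleton_asFiber f x ?_
    algebraize [(f.residueFieldMap x).hom]
    exact Algebra.IsAlgebraic.of_finite _ _

end Groth.Agent.S9332
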