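import Groth.Statements.S7402
import Groth.Agent.MorLib.RingUnivHomeoTower

set_option autoImplicit false
universe u
open CategoryTheory AlgebraicGeometry
open Polynomial
open Mor

namespace Groth.Agent.S7402

/-- Let `A` be a ring and `x, y ∈ A` with `x^3 = y^2`. Then `A → B = A[t]/(t^2 - x, t^3 - y)` induces a
universal homeomorphism on spectra and isomorphisms on residue fields. -/
theorem result (A : Type u) [CommRing A] (x y : A) (h : x ^ 3 = y ^ 2) :
    FlatMor.IsUnivHomeo (Spec.map (CommRingCat.ofHom (algebraMap A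
      (A[X] ⧸ Ideal.span ({X ^ 2 - C x, X ^ 3 - C y} : Set A[X]))))) ∧
    ∀ q : Spec (CommRingCat.of (A[X] ⧸ Ideal.span ({X ^ 2 - C x, X ^ 3 - C y} : Set A[X]))),
      Function.Surjective ((Spec.map (CommRingCat.ofHom (algebraMap A
        (A[X] ⧸ Ideal.span ({X ^ 2 - C x, X ^ 3 - C y} : Set A[X]))))).residueFieldMap q) := by
  let B := A[X] ⧸ Ideal.span ({X ^ 2 - C x, X ^ 3 - C y} : Set A[X])
  let t : B := Ideal.Quotient.mk _ X
  have ht2 : t ^ 2 = algebraMap A B x := by
    rw [← sub_eq_zero]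
    exact Ideal.Quotient.eq_zero_iff_mem.mpr (Ideal.subset_span (Or.inl rfl))
  have ht3 : t ^ 3 = algebraMap A B y := by
    rw [← sub_eq_zero]
    exact Ideal.Quotient.eq_zero_iff_mem.mpr (Ideal.subset_span (Or.inr rfl))
  have gen : ∀ S : Subalgebra A B, t ∈ S → ∀ b, b ∈ S := by
    intro S hS b
    obtain ⟨f, rfl⟩ := Ideal.Quotient.mk_surjective b
    induction f using Polynomial.induction_on with
    | C a => exact S.algebraMap_mem a
    | add f g hf hg => rw [map_add]; exact add_mem hf hg
    | monomial n a _ =>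
      rw [map_mul, map_pow]
      exact mul_mem (S.algebraMap_mem a) (pow_mem hS _)
  refine ⟨(Groth.Agent.MorLib.RUH.isUnivHomeo_SpecMap_iff _).mpr ⟨?_, ?_, ?_⟩, fun q => ?_⟩
  · intro b
    exact gen (integralClosure A B) (IsIntegral.of_pow two_pos (ht2 ▸ isIntegral_algebraMap)) b
  · intro K _ f g hfg
    let S : Subalgebra A B := { RingHom.eqLocus f g with algebraMap_mem' := fun a => congr($hfg a) }
    refine RingHom.ext fun b => ?_
    refine gen S ?_ b
    change f t = g t
    exact Groth.Agent.MorLib.RUH.eq_of_sq_cube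
      (by rw [← map_pow f t, ← map_pow g t, ht2]; exact congr($hfg x))
      (by rw [← map_pow f t, ← map_pow g t, ht3]; exact congr($hfg y))
  · intro P
    let ι := algebraMap A P.asIdeal.ResidueField
    have hxy : ι x ^ 3 = ι y ^ 2 := by rw [← map_pow, ← map_pow, h]
    obtain ⟨t', h2, h3⟩ : ∃ t', t' ^ 2 = ι x ∧ t' ^ 3 = ι y := by
      by_cases hx : ι x = 0
      · refine ⟨0, by simp [hx], ?_⟩
        rw [hx] at hxy
        rw [zero_pow three_ne_zero, eq_comm, pow_eq_zero_iff two_ne_zero] at hxy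
        rw [hxy, zero_pow three_ne_zero]
      · refine ⟨ι y / ι x, ?_, ?_⟩ <;> rw [div_pow, div_eq_iff (pow_ne_zero _ hx)]
        · rw [← hxy]; ring
        · rw [hxy]; ring
    have hle : ∀ f ∈ Ideal.span ({X ^ 2 - C x, X ^ 3 - C y} : Set A[X]),
        Polynomial.eval₂RingHom ι t' f = 0 := by
      intro f hf
      rw [← RingHom.mem_ker]
      refine Ideal.span_le.mpr ?_ hf
      rintro _ (rfl | rfl)
      · simp [h2]
      · simp [h3]
    refine ⟨⟨RingHom.ker (Ideal.Quotient.lift _ (Polynomial.eval₂RingHom ι t') hle),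
      RingHom.ker_isPrime _⟩, PrimeSpectrum.ext (Ideal.ext fun a => ?_)⟩
    rw [PrimeSpectrum.comap_asIdeal, Ideal.mem_comap, RingHom.mem_ker]
    change Polynomial.eval₂RingHom ι t' (C a) = 0 ↔ _
    rw [Polynomial.coe_eval₂RingHom, Polynomial.eval₂_C]
    exact Ideal.algebraMap_residueField_eq_zero
  · let g := (Spec.map (CommRingCat.ofHom (algebraMap A B))).residueFieldMap q
    let S : Subalgebra A B :=
      { (g.hom.fieldRange.toSubring.comap (Groth.Agent.MorLib.RUH.ev q).hom) with
        algebraMap_mem' := fun a => ⟨_, Groth.Agent.MorLib.RUH.residueFieldMap_ev _ q a⟩ }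
    have ht : t ∈ S := by
      show Groth.Agent.MorLib.RUH.ev q t ∈ g.hom.fieldRange
      by_cases h0 : Groth.Agent.MorLib.RUH.ev q t = 0
      · rw [h0]; exact zero_mem _
      · have e : Groth.Agent.MorLib.RUH.ev q t =
            Groth.Agent.MorLib.RUH.ev q (t ^ 3) / Groth.Agent.MorLib.RUH.ev q (t ^ 2) := by
          rw [map_pow, map_pow, eq_div_iff (pow_ne_zero 2 h0)]
          ring
        rw [e, ht2, ht3]
        exact (g.hom.fieldRange).div_mem (S.algebraMap_mem y) (S.algebraMap_mem x)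
    intro z
    obtain ⟨b, c, -, rfl⟩ := Groth.Agent.MorLib.RUH.exists_eq_ev_div q z
    exact g.hom.fieldRange.div_mem (gen S ht b) (gen S ht c)

end Groth.Agent.S7402
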