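import Groth.Statements.S7403
import Groth.Agent.MorLib.RingUnivHomeoTower
import Mathlib.FieldTheory.IsAlgClosed.AlgebraicClosure

set_option autoImplicit false
universe u
open CategoryTheory AlgebraicGeometry
open Polynomial
open Mor

namespace Groth.Agent.S7403

/-- Let `A` be a ring, `p` a prime number and `x, y ∈ A` with `p^p x = y^p`. Then `A → B = A[t]/(t^p -
x, p t - y)` induces a universal homeomorphism on spectra. -/
theorem result (A : Type u) [CommRing A] (p : ℕ) (hp : p.Prime) (x y : A)
    (h : (p : A) ^ p * x = y ^ p) :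
    FlatMor.IsUnivHomeo (Spec.map (CommRingCat.ofHom (algebraMap A
      (A[X] ⧸ Ideal.span ({X ^ p - C x, C (p : A) * X - C y} : Set A[X]))))) := by
  let B := A[X] ⧸ Ideal.span ({X ^ p - C x, C (p : A) * X - C y} : Set A[X])
  let t : B := Ideal.Quotient.mk _ X
  have ht1 : (p : B) * t = algebraMap A B y := by
    rw [← sub_eq_zero, ← map_natCast (algebraMap A B)]
    exact Ideal.Quotient.eq_zero_iff_mem.mpr (Ideal.subset_span (Or.inr rfl))
  have ht2 : t ^ p = algebraMap A B x := by
    rw [← sub_eq_zero]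
    exact Ideal.Quotient.eq_zero_iff_mem.mpr (Ideal.subset_span (Or.inl rfl))
  have gen : ∀ S : Subalgebra A B, t ∈ S → ∀ b, b ∈ S := by
    intro S hS b
    obtain ⟨f, rfl⟩ := Ideal.Quotient.mk_surjective b
    induction f using Polynomial.induction_on with
    | C a => exact S.algebraMap_mem a
    | add f g hf hg => rw [map_add]; exact add_mem hf hg
    | monomial n a _ =>
      rw [map_mul, map_pow]
      exact mul_mem (S.algebraMap_mem a) (pow_mem hS _)
  refine (Groth.Agent.MorLib.RUH.isUnivHomeo_SpecMap_iff _).mpr ⟨?_, ?_, ?_⟩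
  · intro b
    exact gen (integralClosure A B) (IsIntegral.of_pow hp.pos (ht2 ▸ isIntegral_algebraMap)) b
  · intro K _ f g hfg
    let S : Subalgebra A B := { RingHom.eqLocus f g with algebraMap_mem' := fun a => congr($hfg a) }
    refine RingHom.ext fun b => ?_
    refine gen S ?_ b
    change f t = g t
    refine Groth.Agent.MorLib.RUH.eq_of_prime_step hp ?_ ?_
    · have : f ((p : B) * t) = g ((p : B) * t) := by rw [ht1]; exact congr($hfg y)
      simpa using this
    · rw [← map_pow f t, ← map_pow g t, ht2]; exact congr($hfg x)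
  · intro P
    let L := AlgebraicClosure P.asIdeal.ResidueField
    let ι := (algebraMap P.asIdeal.ResidueField L).comp (algebraMap A P.asIdeal.ResidueField)
    have hxy : (p : L) ^ p * ι x = ι y ^ p := by
      rw [← map_natCast ι, ← map_pow, ← map_mul, ← map_pow, h]
    obtain ⟨t', h1, h2⟩ : ∃ t' : L, t' ^ p = ι x ∧ (p : L) * t' = ι y := by
      by_cases hK : (p : L) = 0
      · obtain ⟨t', ht'⟩ := IsAlgClosed.exists_pow_nat_eq (ι x) hp.pos
        refine ⟨t', ht', ?_⟩
        rw [hK, zero_pow hp.ne_zero, zero_mul] at hxy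
        rw [hK, zero_mul, pow_eq_zero_iff hp.ne_zero |>.mp hxy.symm]
      · refine ⟨ι y / (p : L), ?_, mul_div_cancel₀ _ hK⟩
        rw [div_pow, div_eq_iff (pow_ne_zero _ hK), ← hxy, mul_comm]
    have hle : ∀ f ∈ Ideal.span ({X ^ p - C x, C (p : A) * X - C y} : Set A[X]),
        Polynomial.eval₂RingHom ι t' f = 0 := by
      intro f hf
      rw [← RingHom.mem_ker]
      refine Ideal.span_le.mpr ?_ hf
      rintro _ (rfl | rfl)
      · simp [h1]
      · simp [h2]
    refine ⟨⟨RingHom.ker (Ideal.Quotient.lift _ (Polynomial.eval₂RingHom ι t') hle),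
      RingHom.ker_isPrime _⟩, PrimeSpectrum.ext (Ideal.ext fun a => ?_)⟩
    rw [PrimeSpectrum.comap_asIdeal, Ideal.mem_comap, RingHom.mem_ker]
    change Polynomial.eval₂RingHom ι t' (C a) = 0 ↔ _
    rw [Polynomial.coe_eval₂RingHom, Polynomial.eval₂_C]
    exact (map_eq_zero_iff _ (algebraMap P.asIdeal.ResidueField L).injective).trans
      Ideal.algebraMap_residueField_eq_zero

end Groth.Agent.S7403
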