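import Groth.Statements.S5263
import Groth.Agent.HomRepLib.FiniteRep
import Groth.Agent.MultTypeQI.EtaleLocal
import Groth.Agent.TwConstEtLib.Components
-- import your own Groth.Agent.* helpers here

set_option autoImplicit false
open CategoryTheory MonoidalCategory CartesianMonoidalCategory MonObj GrpObj AlgebraicGeometry
universe u
open SGA3x

namespace Groth.Agent.S5263

/-- Let G and H be S-groups of multiplicative type which are finite over S. Then the functor of group
homomorphisms from G to H is representable by an S-scheme which is finite and etale over S (with its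
universal family of homomorphisms). -/
theorem result {S : Scheme.{u}} (G H : Over S) [GrpObj G] [GrpObj H]
    (hG : SGA3x.IsMultTypeFT G) [IsFinite G.hom] (hH : SGA3x.IsMultTypeFT H) [IsFinite H.hom] :
    ∃ (A : Over S) (υ : G ⊗ A ⟶ H), AutFam.RepresentsHom G H A υ ∧ IsFinite A.hom ∧ Etale A.hom := by
  choose U₁ f₁ hf₁ hs₁ M iM hMfg he₁ using MultTypeQI.etale_locally_diag hG
  choose U₂ f₂ hf₂ hs₂ N iN hNfg he₂ using MultTypeQI.etale_locally_diag hH
  let U : ↥S → Scheme.{u} := fun s => Limits.pullback (f₁ s) (f₂ s)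
  let f : ∀ s, U s ⟶ S := fun s => Limits.pullback.fst (f₁ s) (f₂ s) ≫ f₁ s
  haveI : ∀ s, Etale (f s) := fun s => by
    exact MorphismProperty.comp_mem @Etale _ _ (MorphismProperty.pullback_fst (P := @Etale) _ _ (hf₂ s)) (hf₁ s)
  have hf : ∀ x : S, x ∈ Set.range (f x) := fun x => by
    obtain ⟨a, ha⟩ := hs₁ x
    obtain ⟨b, hb⟩ := hs₂ x
    obtain ⟨p, hp, -⟩ := Scheme.Pullback.exists_preimage_pullback a b (ha.trans hb.symm)
    exact ⟨p, by rw [Scheme.Hom.comp_apply, hp]; exact ha⟩
  have e₁ := fun s => (HomRepLib.diag_bc (Limits.pullback.fst (f₁ s) (f₂ s)) (he₁ s).some).some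
  have e₂ : ∀ s, Grp.mk (Red.bc (f s) H) ≅ Grp.mk (Red.DS (U s) (N s)) := fun s =>
    (GrpSchLib.MultTypeBC.bc_congr Limits.pullback.condition H).some ≪≫
      (HomRepLib.diag_bc (Limits.pullback.snd (f₁ s) (f₂ s)) (he₂ s).some).some
  choose υ₀ hυ₀ hpt using fun s => haveI := hNfg s; HomRepLib.exists_representsHom_DS (U s) (M s) (N s)
  obtain ⟨A, υ, hA, hloc⟩ := HomRepLib.exists_representsHom_etale f (fun x => ⟨x, hf x⟩)
    (fun s => ULift.{u} (N s →+ M s)) _ (fun s => HomRepLib.representsHom_of_iso (e₁ s) (e₂ s) (hυ₀ s))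
  refine ⟨A, υ, hA, ?_, TwConstEtLib.etale_hom A fun s => ⟨U s, f s, inferInstance, hf s,
    ULift.{u} (N s →+ M s), ⟨(hloc s).choose⟩⟩⟩
  haveI := EtFound.fpqc_isFinite.{u}
  refine HomRepLib.prop_of_etale_cover @IsFinite f (fun x => ⟨x, hf x⟩) A.hom fun s => ?_
  rcases isEmpty_or_nonempty ↥(U s) with he | ⟨⟨x⟩⟩
  · infer_instance
  have hfin : ∀ (K : Over S) [GrpObj K] [IsFinite K.hom] (L : Type) [AddCommGroup L],
      (Grp.mk (Red.bc (f s) K) ≅ Grp.mk (Red.DS (U s) L)) → Finite L := by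
    intro K _ _ L _ e
    let ei : Red.bc (f s) K ≅ Red.DS (U s) L := (Grp.forget _).mapIso e
    haveI : IsFinite (Red.bc (f s) K).hom := inferInstanceAs (IsFinite (Limits.pullback.snd K.hom (f s)))
    haveI : IsFinite (Red.DS (U s) L).hom := by
      rw [← Over.w ei.inv]
      exact MorphismProperty.comp_mem @IsFinite _ _ (inferInstanceAs (IsFinite ei.inv.left)) ‹_›
    exact HomRepLib.finite_of_isFinite_DS x L
  haveI := hfin G (M s) (e₁ s)
  haveI := hfin H (N s) (e₂ s)
  haveI : Finite (N s → M s) := Pi.finite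
  haveI : Finite (N s →+ M s) := Finite.of_injective _ DFunLike.coe_injective
  obtain ⟨e, -⟩ := hloc s
  show IsFinite (Red.bc (f s) A).hom
  rw [← Over.w e.hom]
  exact MorphismProperty.comp_mem @IsFinite _ _ (inferInstanceAs (IsFinite e.hom.left)) (HomRepLib.isFinite_const _)

end Groth.Agent.S5263
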