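import Groth.Statements.S18485
import Groth.Agent.NQF.Alg
import Mathlib.AlgebraicGeometry.Morphisms.QuasiFinite
import Mathlib.AlgebraicGeometry.Pullbacks

set_option autoImplicit false
universe u
open CategoryTheory CategoryTheory.Limits AlgebraicGeometry MonObj
open Neron

namespace Groth.Agent.S18485

theorem piece (R : Type u) [CommRing R]
    [IsDedekindDomain R] (H : Over (Spec (CommRingCat.of R))) [Flat H.hom] [LocallyOfFiniteType H.hom]
    [LocallyQuasiFinite ((Neron.genericFibre R).obj H).hom]
    (S : CommRingCat.{u}) (j : Spec S ⟶ H.left) [IsOpenImmersion j] : LocallyQuasiFinite (j ≫ H.hom) := by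
  obtain ⟨φ, hφ⟩ := Spec.map_surjective (j ≫ H.hom)
  have hflat : Flat (Spec.map φ) := hφ ▸ inferInstance
  have hft : LocallyOfFiniteType (Spec.map φ) := hφ ▸ inferInstance
  let m : pullback (genPt R) (Spec.map φ) ⟶ pullback H.hom (genPt R) :=
    pullback.map (genPt R) (Spec.map φ) (genPt R) H.hom (𝟙 _) j (𝟙 _) (by simp) (by simp [hφ]) ≫
      (pullbackSymmetry (genPt R) H.hom).hom
  have hm : m ≫ pullback.snd H.hom (genPt R) = pullback.fst (genPt R) (Spec.map φ) := by
    simp [m, pullback.map]
    exact pullback.lift_fst _ _ _
  haveI : IsOpenImmersion m := inferInstance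
  haveI hgen : LocallyQuasiFinite (pullback.snd H.hom (genPt R)) := ‹_›
  have hfst : LocallyQuasiFinite (pullback.fst (genPt R) (Spec.map φ)) := hm ▸ inferInstance
  rw [← hφ, HasRingHomProperty.Spec_iff (P := @LocallyQuasiFinite)]
  rw [HasRingHomProperty.Spec_iff (P := @Flat)] at hflat
  rw [HasRingHomProperty.Spec_iff (P := @LocallyOfFiniteType)] at hft
  letI := φ.hom.toAlgebra
  haveI : Module.Flat R S := hflat
  haveI : Algebra.FiniteType R S := hft
  have h2 : LocallyQuasiFinite ((pullbackSpecIso R (FractionRing R) S).inv ≫
      pullback.fst (genPt R) (Spec.map φ)) := by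
    haveI := hfst
    exact MorphismProperty.comp_mem _ _ _ inferInstance hfst
  rw [show (pullbackSpecIso R (FractionRing R) S).inv ≫ pullback.fst (genPt R) (Spec.map φ) =
      Spec.map (CommRingCat.ofHom (algebraMap (FractionRing R) _)) from pullbackSpecIso_inv_fst' ..,
    HasRingHomProperty.Spec_iff (P := @LocallyQuasiFinite)] at h2
  haveI : Algebra.QuasiFinite (FractionRing R) (TensorProduct R (FractionRing R) S) :=
    RingHom.quasiFinite_algebraMap.1 h2
  haveI : Module.Finite (FractionRing R) (TensorProduct R (FractionRing R) S) := Module.Finite.of_quasiFinite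
  exact Groth.Agent.NQF.quasiFinite_of_flat_of_finite_generic (R := R) (A := S) (FractionRing R)

/-- Let R be a Dedekind domain with fraction field K and H a Spec R-scheme which is flat and locally of
finite type over Spec R. If the generic fibre H_K is locally quasi-finite over K, then H is locally
quasi-finite over Spec R. (The published statement is about the schematic closure, in an S-group
algebraic space of finite type over a connected Dedekind scheme S, of a finite subgroup of the
generic fibre, which it asserts to be a quasi-finite S-group; this row is the statement about flat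
schemes locally of finite type over an affine Dedekind base on which that rests. Locally
quasi-finite is meant here without a finite type clause, which is assumed separately.) -/
theorem result (R : Type u) [CommRing R]
    [IsDedekindDomain R] (H : Over (Spec (CommRingCat.of R))) [Flat H.hom] [LocallyOfFiniteType H.hom]
    [LocallyQuasiFinite ((Neron.genericFibre R).obj H).hom] : LocallyQuasiFinite H.hom := by
  haveI : IsZariskiLocalAtSource @LocallyQuasiFinite.{u} := HasRingHomProperty.instIsZariskiLocalAtSource
  refine (IsZariskiLocalAtSource.iff_of_openCover (P := @LocallyQuasiFinite)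
    H.left.affineOpenCover.openCover).2 fun i => ?_
  exact @piece R _ _ H _ _ _ (H.left.affineOpenCover.X i) (H.left.affineOpenCover.f i) (H.left.affineOpenCover.map_prop i)

end Groth.Agent.S18485
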