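import Groth.Statements.S4932
import Groth.Agent.FibDim.Comp

set_option autoImplicit false
open CategoryTheory AlgebraicGeometry
universe u v w
open EGA43

namespace Groth.Agent.S4932

/-- Let A be a valuation ring (not necessarily discrete), X an irreducible scheme and f : X ⟶ Spec A a
dominant morphism of finite type. If the fibre X_0 of f over the closed point is nonempty, then dim
X_0 = dim X_1, where X_1 is the fibre over the generic point. -/
theorem result {A : Type u} [CommRing A] [IsDomain A]
    [ValuationRing A] {X : Scheme.{u}} [IrreducibleSpace X] (f : X ⟶ Spec (CommRingCat.of A))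
    [LocallyOfFiniteType f] [QuasiCompact f] [IsDominant f]
    (h0 : Nonempty ↥(f.fiber (IsLocalRing.closedPoint A))) :
    topologicalKrullDim ↥(f.fiber (IsLocalRing.closedPoint A)) =
      topologicalKrullDim ↥(f.fiber (genericPoint (Spec (CommRingCat.of A)))) := by
  set η := genericPoint X
  have hη : f.base η = genericPoint (Spec (CommRingCat.of A)) := by
    have h := (genericPoint_spec X).image f.continuous
    rw [Set.image_univ, f.denseRange.closure_range] at h
    exact IsGenericPoint.eq h (genericPoint_spec _)
  have hgen : ∀ y, f η ⤳ y := fun y => by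
    rw [show f η = genericPoint (Spec (CommRingCat.of A)) from hη]; exact genericPoint_specializes y
  refine le_antisymm (FibDim.topologicalKrullDim_fiber_mono f fun z hz => ⟨η, hη, ?_⟩)
    (FibDim.topologicalKrullDim_fiber_mono f fun z hz => ?_)
  · exact FibDim.rd_le_of_valuationRing f (genericPoint_specializes z) hgen
  · obtain ⟨w⟩ := h0
    obtain ⟨u, -, -, hfu, hge⟩ := FibDim.exists_rd_ge f (x := f.fiberι (IsLocalRing.closedPoint A) w)
      (genericPoint_specializes (α := X) _)
    refine ⟨u, hfu.trans (FibDim.fiber_apply_fiberι f w), le_trans ?_ hge⟩
    exact FibDim.rd_le_of_specializes f (genericPoint_specializes z) (hη.trans hz.symm)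

end Groth.Agent.S4932
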