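import Groth.Statements.S17281
import Groth.Agent.Lib.CurveGenerated
import Groth.Agent.Lib.CurveSSVanish
import Groth.Agent.Lib.CurveCanonical
import Groth.Agent.CurveCohLib.RegularCurve
import Groth.Agent.CurveCohLib.Clifford
import Groth.Agent.H23.PicMul
-- import your own Groth.Agent.* helpers here

set_option autoImplicit false
set_option linter.style.haveILetI false
set_option backward.isDefEq.respectTransparency false
set_option backward.isDefEq.respectTransparency.types false
set_option synthInstance.maxHeartbeats 100000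
set_option maxHeartbeats 1600000
universe u
open CategoryTheory CategoryTheory.Limits AlgebraicGeometry TopologicalSpace
open Curves

namespace Groth.Agent.S17281

/-- Fix an algebraically closed field k and a regular projective curve C over it (integral, proper over
k, of dimension one, all local rings regular) of genus g = dim_k H^1(C, O_C), E a finite locally
free O_C-module that is nef in the curve-test sense (for every regular projective curve C' over k,
every k-morphism f : C' → C and every invertible quotient M of f^*E, deg M = χ(M) - χ(O_{C'}) ≥ 0),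
and H an invertible O_C-module with deg H = χ(H) - χ(O_C) ≥ 2g. Then E ⊗ H is generated by its
global sections. -/
theorem result (k : Type u) [Field k] [IsAlgClosed k]
    (X : Scheme.{u}) [X.Over (Spec (CommRingCat.of k))] [IsProper (X ↘ (Spec (CommRingCat.of k)))] [IsIntegral X]
    (hdim : topologicalKrullDim X = 1) (hreg : ∀ x : X, IsRegularLocalRing (X.presheaf.stalk x))
    (E : X.Modules) (hE : FlatMod.IsFinLocFree E)
    (hnef : ∀ (C : Scheme.{u}) [C.Over (Spec (CommRingCat.of k))] [IsProper (C ↘ (Spec (CommRingCat.of k)))] [IsIntegral C],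
      topologicalKrullDim C = 1 → (∀ x : C, IsRegularLocalRing (C.presheaf.stalk x)) →
      ∀ (f : C ⟶ X), f ≫ (X ↘ (Spec (CommRingCat.of k))) = C ↘ (Spec (CommRingCat.of k)) →
      ∀ (M : C.Modules), PicF.IsInvertible M →
      ∀ (q : (Scheme.Modules.pullback f).obj E ⟶ M), Epi q → 0 ≤ Curv2.deg k C M 1)
    (H : X.Modules) (hH : PicF.IsInvertible H)
    (hdeg : 2 * (Curv2.genus k X : ℤ) ≤ Curv2.deg k X H 1) :
    Curv2.IsGloballyGenerated (CohB1.tensorMod E H) := by
  haveI := CurveCohLib.RegularCurve.smooth_of_regular k fun x _ => hreg x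
  haveI := CurveCohLib.isNoetherian_of_proper (k := k) (X := X)
  have hH1 := InvEnd.isFinLocFreeOfRank_one hH
  have hHf := CurveStable.isFinLocFree_of_rank hH1
  have hEH : FlatMod.IsFinLocFree ((DCoh.tensorBi.obj E).obj H) := KFlatLib.isFinLocFree_tensor hE hHf
  refine CurveGenerated.isGloballyGenerated_of_h1 k (CurveBundle.isFinLocFreeOfRank_rk hEH) fun p hp => ?_
  have hI := CurvePoint.isInvertible_ptMod p hp k hdim
  let N := (DCoh.tensorBi.obj H).obj (CurvePoint.ptMod p hp)
  have hN : PicF.IsInvertible N := H23.PicMul.isInvertible_tensor hH hI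
  have hN1 := InvEnd.isFinLocFreeOfRank_one hN
  have hV : FlatMod.IsFinLocFree ((DCoh.tensorBi.obj N).obj E) :=
    KFlatLib.isFinLocFree_tensor (CurveStable.isFinLocFree_of_rank hN1) hE
  let eV : (DCoh.tensorBi.obj N).obj E ≅ (DCoh.tensorBi.obj ((DCoh.tensorBi.obj E).obj H)).obj (CurvePoint.ptMod p hp) :=
    CurveTensor.commIso N E ≪≫ (H23.PicMul.assoc E H (CurvePoint.ptMod p hp)).some.symm
  suffices h : Subsingleton (Coh.HH X ((DCoh.tensorBi.obj N).obj E) 1) by
    haveI := h
    exact (CurveCohLib.hhEquiv (k := k) eV 1).symm.injective.subsingleton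
  refine CurveDuality.subsingleton_HH_one_of_quot k (CurveCohLib.Clifford.finrank_h0_structure k) hdim hV
    fun I π hπ hK hIinv _ _ => ?_
  haveI := hπ
  obtain ⟨D, hD, hdD, ⟨e⟩⟩ := CurveDuality.exists_inverse_deg k hdim hN
  let e' : (DCoh.tensorBi.obj D).obj N ≅ Coh.structureModule X := CurveTensor.commIso D N ≪≫ e
  have hDf := CurveStable.isFinLocFree_of_rank (InvEnd.isFinLocFreeOfRank_one hD)
  haveI : Epi ((DCoh.tensorBi.obj D).map π) :=
    (CurveTensor.shortExact_tensor hDf _ _ _ (CurveSlope.shortExact_kernel_of_epi π)).epi_g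
  let q : E ⟶ (DCoh.tensorBi.obj D).obj I := (CurveRR.cancelIso e').inv.app E ≫ (DCoh.tensorBi.obj D).map π
  haveI : Epi q := epi_comp _ _
  have h0 := hnef X hdim hreg (𝟙 X) (Category.id_comp _) ((DCoh.tensorBi.obj D).obj I)
    (H23.PicMul.isInvertible_tensor hD hIinv) (((Scheme.Modules.pullbackId X).app E).hom ≫ q) (epi_comp _ _)
  have h1 := CurveRR.deg_tensor k hdim hD hIinv
  have h2 := CurveRR.deg_tensor k hdim hH hI
  have h3 := CurvePoint.deg_ptMod p hp k
  change Curv2.deg k X N 1 = _ at h2
  change Curv2.deg k X ((DCoh.tensorBi.obj D).obj I) 1 = _ at h1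
  omega

end Groth.Agent.S17281
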