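import Groth.Statements.S2331
import Groth.Agent.AmpleX.Comp

set_option autoImplicit false
universe u
open CategoryTheory CategoryTheory.Limits AlgebraicGeometry
open EGA2

namespace Groth.Agent.S2331

/-- Let Z be quasi-compact, f : X → Y and g : Y → Z quasi-compact morphisms, L an O_X-module ample
relative to f and K an O_Y-module ample relative to g. Then there is n₀ > 0 such that L ⊗
f^*(K^{⊗n}) is ample relative to g ∘ f for every n ≥ n₀. -/
theorem result {X Y Z : Scheme.{u}} [CompactSpace Z] (f : X ⟶ Y) (g : Y ⟶ Z)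
    [QuasiCompact f] [QuasiCompact g] (L : X.Modules) (K : Y.Modules)
    (hL : RelAmple.IsRelAmple f L) (hK : RelAmple.IsRelAmple g K) :
    ∃ n₀ : ℕ, 0 < n₀ ∧ ∀ n, n₀ ≤ n →
      RelAmple.IsRelAmple (f ≫ g) (CohB1.tensorMod L ((Scheme.Modules.pullback f).obj (CohB1.tensorPow K n))) := by
  exact AmpleX.eventually_isRelAmple_comp f g hL hK

end Groth.Agent.S2331
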