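import Groth.Statements.S4997
import Groth.Agent.UnramMisc.QFSmooth
import Mathlib.AlgebraicGeometry.Morphisms.QuasiFinite
import Mathlib.RingTheory.Unramified.LocalStructure

set_option autoImplicit false
universe u
open CategoryTheory CategoryTheory.Limits AlgebraicGeometry TopologicalSpace
open Unram17

namespace Groth.Agent.S4997

/-- A morphism of schemes is etale if and only if it is smooth and locally quasi-finite. -/
theorem result {X Y : Scheme.{u}} (f : X ⟶ Y) :
    Etale f ↔ Smooth f ∧ LocallyQuasiFinite f := by
  refine ⟨fun h => ⟨inferInstance, ?_⟩, fun ⟨h1, h2⟩ =>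
    Groth.Agent.UnramMisc.etale_of_smooth_of_locallyQuasiFinite f⟩
  refine ⟨fun {U} hU {V} hV e => ?_⟩
  have h' := f.etale_appLE hU hV e
  algebraize [(f.appLE U V e).hom]
  exact (inferInstance : Algebra.QuasiFinite Γ(Y, U) Γ(X, V))

end Groth.Agent.S4997
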