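import Groth.Statements.S11400
import Groth.Agent.AGFLib.QuasiComp.Albanese
import Groth.Agent.AGFLib.QuasiComp.Chevalley
import Groth.Agent.S3027
-- import your own Groth.Agent.* helpers here

set_option autoImplicit false
set_option backward.isDefEq.respectTransparency false
set_option backward.isDefEq.respectTransparency.types false
set_option linter.style.haveILetI false
universe u
open CategoryTheory MonoidalCategory CartesianMonoidalCategory MonObj GrpObj AlgebraicGeometry CategoryTheory.Limits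
open AlgGrp
open Groth.Agent

namespace Groth.Agent.S11400

/-- Over an algebraically closed field k, let G be a connected algebraic group (smooth k-group scheme of
finite type), let i : N → G be its largest connected affine normal algebraic subgroup G_aff (a
homomorphism and closed immersion from a smooth, connected, affine k-group scheme, normal in G,
through which every other such subgroup factors), and let j : Z → G be the scheme-theoretic centre
of G. Then G = Z · G_aff, in the sense that the multiplication morphism Z × G_aff → G is surjective,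
and G is commutative exactly when G_aff is. (The published statement also gives G = Z⁰_red · G_aff
and identifies the scheme-theoretic intersection Z ∩ G_aff with the centre of G_aff; those clauses
are not stated here.) -/
theorem result (k : Type u) [Field k] [IsAlgClosed k]
    (G : Over (Spec (CommRingCat.of k))) [GrpObj G] [Smooth G.hom] [QuasiCompact G.hom] [ConnectedSpace ↥G.left]
    (N : Over (Spec (CommRingCat.of k))) [GrpObj N] (i : N ⟶ G) [IsMonHom i] [IsClosedImmersion i.left]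
    [Smooth N.hom] [ConnectedSpace ↥N.left] [IsAffine N.left] (hN : AlgGrp.IsNormalHom i)
    (hNmax : ∀ (N' : Over (Spec (CommRingCat.of k))) [GrpObj N'] (i' : N' ⟶ G) [IsMonHom i'] [IsClosedImmersion i'.left]
      [Smooth N'.hom] [ConnectedSpace ↥N'.left] [IsAffine N'.left], AlgGrp.IsNormalHom i' → ∃ f : N' ⟶ N, f ≫ i = i')
    (Z : Over (Spec (CommRingCat.of k))) [GrpObj Z] (j : Z ⟶ G) (hZ : Red.IsCentre j) :
    Surjective ((j ⊗ₘ i) ≫ μ[G]).left ∧ (IsCommMonObj G ↔ IsCommMonObj N) := by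
  haveI := GrpSchLib.AntiAffine.isSeparated_grp G
  obtain ⟨A, _, α, hα, hAp, hAs, hAc, hαs, hαf, hker⟩ :=
    Groth.Agent.AGFLib.QuasiComp.exists_abelian_quot i hN hNmax
  obtain ⟨hj, hjm, hjc⟩ := hZ
  obtain ⟨Z₀, _, z, hz, hzc, hzcen, R, _, r, hr, hRa, hRl, hrf, hrs, hrk⟩ := Groth.Agent.S3027.result k G
  haveI : Mono z := by
    have : Mono z.left := inferInstance
    exact Over.mono_of_mono_left z
  haveI : Mono i := by
    have : Mono i.left := inferInstance
    exact Over.mono_of_mono_left i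
  have hcen : ∀ {T : Over (Spec (CommRingCat.of k))} (x : T ⟶ Z₀) (g : T ⟶ G), (x ≫ z) * g = g * (x ≫ z) := by
    intro T x g
    simpa using (hzcen T (x ≫ z)).1 ⟨x, rfl⟩ T (𝟙 T) g
  obtain ⟨φ, hφ⟩ := (hjc Z₀ z).2 fun X' x h => by
    rw [Category.comp_id]; exact hcen x h
  haveI : LocallyOfFiniteType Z₀.hom := by rw [← Over.w z]; infer_instance
  haveI : QuasiCompact Z₀.hom := by rw [← Over.w z]; infer_instance
  haveI : Smooth (r.left ≫ R.hom) := by rw [Over.w r]; infer_instance
  haveI : Smooth R.hom := GrpSchLib.smooth_of_flat_surjective r.left R.hom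
  haveI : ConnectedSpace R.left := r.left.surjective.connectedSpace r.left.continuous
  haveI : IrreducibleSpace A.left := AGFLib.Rosen.irreducibleSpace_of_connected
  haveI : IsReduced A.left := GrpSchLib.isReduced_of_smooth_field A.hom
  haveI : IsIntegral A.left := isIntegral_of_irreducibleSpace_of_isReduced A.left
  haveI : GeometricallyIntegral A.hom := H23.EquidimFibres.geometricallyIntegral_of_isAlgClosed
  haveI : IsCommMonObj A := isCommMonObj_of_isProper_of_geometricallyIntegral A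
  obtain ⟨J, _, pJ, m, hpJ, hm, hpm, hmc, hpf, hps, hJl, hJq⟩ := GrpSchLib.ImageFactor.exists_image (z ≫ α)
  obtain ⟨W, _, w, hw, hws, hwf, hwl, hWl, hWq, hWsep, hwker, -⟩ := GrpSchLib.GenQuot.exists_quot m
    (fun T a x => ⟨x, by rw [mul_comm a, mul_inv_cancel_right]⟩)
  haveI : QuasiCompact (w.left ≫ W.hom) := by rw [Over.w w]; infer_instance
  haveI : UniversallyClosed (w.left ≫ W.hom) := by rw [Over.w w]; infer_instance
  haveI : UniversallyClosed W.hom := UniversallyClosed.of_comp_surjective w.left W.hom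
  haveI : IsProper W.hom := {}
  haveI : LocallyOfFinitePresentation r.left := by
    haveI : LocallyOfFinitePresentation (r.left ≫ R.hom) := by rw [Over.w r]; infer_instance
    exact AlgSpPts.locallyOfFinitePresentation_of_comp r.left R.hom
  have hz1 : z ≫ α ≫ w = 1 := by
    rw [← Category.assoc, ← hpm, Category.assoc, hwker.w, ← Category.assoc, comp_toUnit]
    rfl
  obtain ⟨g', ⟨hg', hg'm⟩, -⟩ := Groth.Agent.S5237.result z
    (fun T g x => ⟨x, by rw [← hcen x g, mul_inv_cancel_right]⟩) r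
    (AGFLib.QuasiComp.isQuotient_of_kernel z r hrk) (α ≫ w) hz1
  haveI := hg'm
  have hαw : α ≫ w = 1 := by rw [← hg', AGFLib.QuasiComp.hom_eq_one g', MonObj.comp_one]
  haveI := GrpSchLib.AntiAffine.isSeparated_grp J
  have key : ∀ g : 𝟙_ (Over (Spec (CommRingCat.of k))) ⟶ G, ∃ x n, (x ≫ j) * (n ≫ i) = g := fun g => by
    let a := hwker.lift (g ≫ α) (toUnit _) (by rw [Category.assoc, hαw, MonObj.comp_one]; rfl)
    obtain ⟨x, hx⟩ := AGFLib.Gen.exists_of_mem_range pJ a (Set.mem_range.2 (hps.surj _))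
    have ha : (x ≫ z) ≫ α = g ≫ α := by
      rw [Category.assoc, ← hpm, ← Category.assoc, hx]; exact hwker.lift_fst _ _ _
    exact ⟨x ≫ φ, hker.lift ((x ≫ z)⁻¹ * g) (toUnit _) (by
      rw [MonObj.mul_comp, GrpObj.inv_comp, ha, inv_mul_cancel]; rfl),
      by rw [Category.assoc, hφ, hker.lift_fst, mul_inv_cancel_left]⟩
  have hjcomm : ∀ {T : Over (Spec (CommRingCat.of k))} (x : T ⟶ Z) (g : T ⟶ G), (x ≫ j) * g = g * (x ≫ j) := by
    intro T x g
    simpa using (hjc T (x ≫ j)).1 ⟨x, rfl⟩ T (𝟙 T) g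
  refine ⟨?_, fun _ => ⟨?_⟩, fun _ => ⟨?_⟩⟩
  · let Φ := (z ⊗ₘ i) ≫ μ[G]
    have hΦ : Φ = (fst Z₀ N ≫ z) * (snd Z₀ N ≫ i) := by
      rw [Hom.mul_def, CartesianMonoidalCategory.lift_fst_comp_snd_comp]
    haveI : LocallyOfFiniteType (Z₀ ⊗ N).hom := inferInstanceAs (LocallyOfFiniteType (pullback.fst Z₀.hom N.hom ≫ Z₀.hom))
    haveI : QuasiCompact (Z₀ ⊗ N).hom := inferInstanceAs (QuasiCompact (pullback.fst Z₀.hom N.hom ≫ Z₀.hom))
    haveI : IsMonHom Φ := by
      refine ⟨?_, ?_⟩
      · rw [hΦ, MonObj.comp_mul, ← Category.assoc, IsMonHom.one_hom, IsMonHom.one_hom, ← Category.assoc,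
          IsMonHom.one_hom, IsMonHom.one_hom, MonObj.one_eq_one, _root_.mul_one]
      · have e1 : μ[Z₀ ⊗ N] = fst _ _ * snd _ _ := MonObj.mul_eq_mul _
        rw [show (Φ ⊗ₘ Φ) ≫ μ[G] = (fst _ _ ≫ Φ) * (snd _ _ ≫ Φ) by
          rw [Hom.mul_def, CartesianMonoidalCategory.lift_fst_comp_snd_comp], e1]
        simp only [hΦ, MonObj.comp_mul, ← Category.assoc, MonObj.mul_comp]
        simp only [_root_.mul_assoc]
        congr 1
        rw [← _root_.mul_assoc, ← _root_.mul_assoc, hcen]
    haveI : QuasiCompact Φ.left := by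
      haveI : QuasiCompact (Φ.left ≫ G.hom) := by rw [Over.w Φ]; infer_instance
      exact QuasiCompact.of_comp Φ.left G.hom
    obtain ⟨ψ, hψ⟩ : ∃ ψ : Z ⟶ Z₀, ψ ≫ z = j := (hzcen Z j).2 fun T' t h => by
      rw [← hjcomm t h]
    have hall := AGFLib.Gen.eq_univ_of_forall_cp (GrpSchLib.HomClosedRange.isClosed_range Φ) fun g => by
      obtain ⟨x, n, rfl⟩ := key g
      exact ⟨AGFLib.Gen.cp (lift (x ≫ ψ) n), by
        rw [← AGFLib.Gen.cp_comp, hΦ, MonObj.comp_mul, lift_fst_assoc, lift_snd_assoc, Category.assoc, hψ]⟩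
    refine ⟨fun y => ?_⟩
    obtain ⟨v, hv⟩ := hall.ge (Set.mem_univ y)
    refine ⟨(φ ⊗ₘ 𝟙 N).left v, ?_⟩
    rw [← Scheme.Hom.comp_apply, ← Over.comp_left, ← Category.assoc, tensorHom_comp_tensorHom, hφ, Category.id_comp]
    exact hv
  · rw [← cancel_mono i, Category.assoc, IsMonHom.mul_hom i, ← BraidedCategory.braiding_naturality_assoc,
      IsCommMonObj.mul_comm]
  · haveI : Smooth (G ⊗ G).hom := inferInstanceAs (Smooth (pullback.fst G.hom G.hom ≫ G.hom))
    refine AGFLib.QuasiComp.hom_ext_of_points fun w => ?_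
    obtain ⟨x₁, n₁, h₁⟩ := key (w ≫ fst G G)
    obtain ⟨x₂, n₂, h₂⟩ := key (w ≫ snd G G)
    have e1 : w ≫ μ[G] = (w ≫ fst G G) * (w ≫ snd G G) := by
      rw [← MonObj.comp_mul, ← MonObj.mul_eq_mul]
    have e2 : w ≫ (β_ G G).hom ≫ μ[G] = (w ≫ snd G G) * (w ≫ fst G G) := by
      rw [MonObj.mul_eq_mul G, MonObj.comp_mul, MonObj.comp_mul, CartesianMonoidalCategory.braiding_hom_fst,
        CartesianMonoidalCategory.braiding_hom_snd]
    rw [e1, e2, ← h₁, ← h₂]
    have hn : (n₁ ≫ i) * (n₂ ≫ i) = (n₂ ≫ i) * (n₁ ≫ i) := by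
      rw [← MonObj.mul_comp, ← MonObj.mul_comp, mul_comm]
    rw [_root_.mul_assoc, ← _root_.mul_assoc (n₂ ≫ i), ← hjcomm x₁ (n₂ ≫ i), _root_.mul_assoc, ← hn,
      ← _root_.mul_assoc, hjcomm x₂ (x₁ ≫ j), _root_.mul_assoc, ← _root_.mul_assoc (x₂ ≫ j),
      hjcomm x₂ (n₁ ≫ i), _root_.mul_assoc, ← _root_.mul_assoc (x₁ ≫ j)]

end Groth.Agent.S11400
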