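import Groth.Statements.S9346
import Mathlib

set_option autoImplicit false
universe u
open Dom

namespace Groth.Agent.S9346

open AlgebraicGeometry CategoryTheory

theorem appLE_injective {X Y : Scheme.{u}} [AlgebraicGeometry.IsIntegral X] [AlgebraicGeometry.IsIntegral Y]
    (f : X ⟶ Y) [IsDominant f] (U : X.Opens) (V : Y.Opens) (hUV : U ≤ f ⁻¹ᵁ V) (hU : (U : Set ↑X).Nonempty) :
    Function.Injective (f.appLE V U hUV) := by
  rw [injective_iff_map_eq_zero]
  intro a ha
  rw [← basicOpen_eq_bot_iff a]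
  by_contra hne
  obtain ⟨y, hy⟩ : ((Y.basicOpen a : Y.Opens) : Set ↑Y).Nonempty := by
    rwa [Set.nonempty_iff_ne_empty, ne_eq, TopologicalSpace.Opens.coe_eq_empty]
  obtain ⟨_, hz, z, hzU, rfl⟩ := (f.denseRange.dense_image f.continuous (U.2.dense hU)).inter_open_nonempty
    _ (Y.basicOpen a).2 ⟨y, hy⟩
  have : z ∈ X.basicOpen (f.appLE V U hUV a) := by
    rw [Scheme.basicOpen_appLE]
    exact ⟨hzU, hz⟩
  rw [ha, Scheme.basicOpen_zero] at this
  exact this

theorem stalkMap_injective {X Y : Scheme.{u}} [AlgebraicGeometry.IsIntegral X] [AlgebraicGeometry.IsIntegral Y]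
    (f : X ⟶ Y) [IsDominant f] (x : X) : Function.Injective (f.stalkMap x) := by
  rw [injective_iff_map_eq_zero]
  intro t ht
  obtain ⟨V, hV, a, rfl⟩ := Y.presheaf.exists_germ_eq t
  rw [Scheme.Hom.germ_stalkMap_apply, map_eq_zero_iff _ (germ_injective_of_isIntegral _ x hV)] at ht
  have := appLE_injective f (f ⁻¹ᵁ V) V le_rfl ⟨x, hV⟩
  rw [← f.app_eq_appLE] at this
  rw [(map_eq_zero_iff _ this).1 ht, map_zero]


open AlgebraicGeometry CategoryTheory in
/-- For a morphism f : X → Y between integral schemes, these six conditions coincide: (1) f is dominant;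
(2) f sends the generic point of X to that of Y; (3) there exist affine opens U ⊆ X, V ⊆ Y with U
nonempty and U ⊆ f⁻¹V such that the induced ring map on sections is injective; (4) the same for all
such pairs; (5) for some x ∈ X the map of local rings O_{Y,f x} → O_{X,x} is injective; (6) the same
for all x. -/
theorem result {X Y : Scheme.{u}} [AlgebraicGeometry.IsIntegral X] [AlgebraicGeometry.IsIntegral Y] (f : X ⟶ Y) :
    [IsDominant f,
      f.base (genericPoint ↑X) = genericPoint ↑Y,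
      ∃ (U : X.Opens) (V : Y.Opens) (hUV : U ≤ f ⁻¹ᵁ V), IsAffineOpen U ∧ IsAffineOpen V ∧ (U : Set ↑X).Nonempty ∧
        Function.Injective (f.appLE V U hUV),
      ∀ (U : X.Opens) (V : Y.Opens) (hUV : U ≤ f ⁻¹ᵁ V), IsAffineOpen U → IsAffineOpen V → (U : Set ↑X).Nonempty →
        Function.Injective (f.appLE V U hUV),
      ∃ x : ↑X, Function.Injective (f.stalkMap x),
      ∀ x : ↑X, Function.Injective (f.stalkMap x)].TFAE := by
  tfae_have 1 → 4 := fun _ U V h _ _ hU => appLE_injective f U V h hU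
  tfae_have 1 → 6 := fun _ x => stalkMap_injective f x
  tfae_have 6 → 5 := fun h => ⟨genericPoint ↑X, h _⟩
  tfae_have 4 → 3 := fun h => by
    obtain ⟨V, hV, hfV, -⟩ := exists_isAffineOpen_mem_and_subset (TopologicalSpace.Opens.mem_top (f.base (genericPoint ↑X)))
    obtain ⟨U, hU, hxU, hUV⟩ := exists_isAffineOpen_mem_and_subset (U := f ⁻¹ᵁ V) (show genericPoint ↑X ∈ f ⁻¹ᵁ V from hfV)
    exact ⟨U, V, hUV, hU, hV, ⟨_, hxU⟩, h U V hUV hU hV ⟨_, hxU⟩⟩
  tfae_have 5 → 3 := fun ⟨x, hx⟩ => by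
    obtain ⟨V, hV, hfV, -⟩ := exists_isAffineOpen_mem_and_subset (TopologicalSpace.Opens.mem_top (f.base x))
    obtain ⟨U, hU, hxU, hUV⟩ := exists_isAffineOpen_mem_and_subset (U := f ⁻¹ᵁ V) (show x ∈ f ⁻¹ᵁ V from hfV)
    refine ⟨U, V, hUV, hU, hV, ⟨x, hxU⟩, fun a b hab => germ_injective_of_isIntegral _ (f.base x) hfV (hx ?_)⟩
    have key : Y.presheaf.germ V (f.base x) hfV ≫ f.stalkMap x = f.appLE V U hUV ≫ X.presheaf.germ U x hxU := by
      rw [Scheme.Hom.germ_stalkMap, show f.appLE V U hUV = f.app V ≫ X.presheaf.map (homOfLE hUV).op from rfl,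
        Category.assoc]
      exact congrArg _ (X.presheaf.germ_res (homOfLE hUV) x hxU).symm
    have ea := congr($(key).hom a)
    have eb := congr($(key).hom b)
    simp only [CommRingCat.hom_comp, RingHom.comp_apply] at ea eb
    rw [ea, eb, hab]
  tfae_have 3 → 2 := fun ⟨U, V, hUV, hU, hV, ⟨z, hz⟩, hinj⟩ => by
    have hηU : genericPoint ↑X ∈ U := (genericPoint_spec ↑X).mem_open_set_iff U.2 |>.2 ⟨z, trivial, hz⟩
    refine ((genericPoint_spec ↑Y).eq ?_).symm
    by_contra hne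
    let W : Y.Opens := ⟨(closure {f.base (genericPoint ↑X)})ᶜ, isClosed_closure.isOpen_compl⟩
    obtain ⟨w, hw⟩ : ((W : Set ↑Y)).Nonempty := by
      show ((closure {f.base (genericPoint ↑X)})ᶜ : Set ↑Y).Nonempty
      rw [Set.nonempty_compl]
      exact hne
    have hηV : genericPoint ↑Y ∈ V := (genericPoint_spec ↑Y).mem_open_set_iff V.2 |>.2 ⟨f.base z, trivial, hUV hz⟩
    have hηW : genericPoint ↑Y ∈ W := (genericPoint_spec ↑Y).mem_open_set_iff W.2 |>.2 ⟨w, trivial, hw⟩
    obtain ⟨a, haW, haη⟩ := hV.exists_basicOpen_le ⟨genericPoint ↑Y, hηW⟩ hηV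
    have h0 : f.appLE V U hUV a = 0 := by
      rw [← basicOpen_eq_bot_iff]
      by_contra hb
      obtain ⟨t, ht⟩ : ((X.basicOpen (f.appLE V U hUV a) : X.Opens) : Set ↑X).Nonempty := by
        rwa [Set.nonempty_iff_ne_empty, ne_eq, TopologicalSpace.Opens.coe_eq_empty]
      have hη : genericPoint ↑X ∈ X.basicOpen (f.appLE V U hUV a) :=
        (genericPoint_spec ↑X).mem_open_set_iff (X.basicOpen _).2 |>.2 ⟨t, trivial, ht⟩
      rw [Scheme.basicOpen_appLE] at hη
      exact haW hη.2 (subset_closure rfl)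
    rw [(map_eq_zero_iff _ hinj).1 h0, Scheme.basicOpen_zero] at haη
    exact haη
  tfae_have 2 → 1 := fun h => ⟨by
    rw [DenseRange, dense_iff_closure_eq]
    refine Set.eq_univ_of_univ_subset ?_
    rw [← (genericPoint_spec ↑Y).def]
    exact closure_mono (Set.singleton_subset_iff.2 ⟨_, h⟩)⟩
  tfae_finish

end Groth.Agent.S9346
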