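import Groth.Statements.S16441
import Groth.Agent.EssEtFrac5.Sub

set_option autoImplicit false
universe u
open EGA4loc

namespace Groth.Agent.S16441

open IsLocalRing

/-- Let A be a reduced local ring with finitely many minimal prime ideals, S a strict henselization of
A, and D an A-subalgebra of S which is a local ring dominated by S (local inclusion). Then the total
ring of fractions K_D of D is finitely generated over that of A — there is a finite subset t of K_D
such that every element of K_D, multiplied by (the image of) some non-zero-divisor of A, is a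
polynomial expression in t with coefficients from A — if and only if D is contained in some
A-subalgebra E of S which is a local ring and an essentially etale local A-algebra (a localization
of an etale A-algebra at a prime over the maximal ideal). -/
theorem result
    (A S : Type u) [CommRing A] [IsLocalRing A] [IsReduced A] (hmin : (minimalPrimes A).Finite)
    [CommRing S] [IsLocalRing S] [Algebra A S] [IsLocalHom (algebraMap A S)]
    [Hensel.IsStrictHenselization A S] (D : Subalgebra A S) [IsLocalRing D]
    [IsLocalHom (algebraMap D S)] :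
    (∃ t : Finset (FractionRing D), ∀ x : FractionRing D, ∃ a ∈ nonZeroDivisors A,
        algebraMap A (FractionRing D) a * x ∈ Algebra.adjoin A (t : Set (FractionRing D))) ↔
      ∃ E : Subalgebra A S, D ≤ E ∧ ∃ _ : IsLocalRing E, EGA4loc.IsEssentiallyEtale A E := by
  classical
  haveI := Groth.Agent.EssEtFrac5.isArtinianRing_fractionRing hmin
  haveI : Module.Flat A S := Groth.Agent.HenselConn.flat_strict A S
  have hAS : ∀ a ∈ nonZeroDivisors A, algebraMap A D a ∈ nonZeroDivisors D := by
    intro a ha
    refine mem_nonZeroDivisors_iff_right.2 fun y hy => ?_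
    have h : a • (y : S) = a • (0 : S) := by
      rw [smul_zero, Algebra.smul_def, mul_comm]
      exact congrArg Subtype.val hy
    exact Subtype.ext (Module.Flat.isSMulRegular_of_nonZeroDivisors (M := S) ha h)
  constructor
  · rintro ⟨t, ht⟩
    choose n d hnd using fun z : t => IsLocalization.exists_mk'_eq (nonZeroDivisors D) (z : FractionRing D)
    obtain ⟨E, hTE, hEl, hE, hff⟩ := Groth.Agent.EssEtFrac5.exists_essEtale_containing (A := A) S
      ((Finset.univ.image fun z : t => ((n z : D) : S)) ∪ (Finset.univ.image fun z : t => (((d z : D)) : S)))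
    refine ⟨E, ?_, hEl, hE⟩
    haveI : IsLocalHom (algebraMap A E) := Groth.Agent.EssEtLib.isLocalHom_algebraMap hE
    obtain ⟨hloc, hfin⟩ := Groth.Agent.S16448.result A E hmin hE
    have hunit : ∀ u : D, u ∈ nonZeroDivisors D → ∀ hu : (u : S) ∈ E,
        IsUnit (algebraMap E (FractionRing E) ⟨u, hu⟩) := by
      intro u huD hu
      refine Groth.Agent.EssEtFrac5.isUnit_map_of_mem_nonZeroDivisors hloc hfin
        (R := ↥(E.comap D.val)) ((D.val.comp (E.comap D.val).val).codRestrict E fun z => z.2) ?_ (r := ⟨u, hu⟩) ?_
      · exact fun a b h => Subtype.coe_injective (Subtype.coe_injective (show ((a : D) : S) = ((b : D) : S) from congrArg (fun z : E => (z : S)) h))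
      · refine mem_nonZeroDivisors_iff_right.2 fun y hy => Subtype.ext ?_
        exact (mem_nonZeroDivisors_iff_right.1 huD) y.1 (congrArg Subtype.val hy)
    have key : ∀ x ∈ Algebra.adjoin A (t : Set (FractionRing D)), ∃ u : D, u ∈ nonZeroDivisors D ∧ (u : S) ∈ E ∧
        ∃ e : D, (e : S) ∈ E ∧ algebraMap D _ u * x = algebraMap D _ e := by
      intro x hx
      induction hx using Algebra.adjoin_induction with
      | mem z hz =>
        refine ⟨d ⟨z, hz⟩, (d ⟨z, hz⟩).2, hTE _ (Finset.mem_union_right _ (Finset.mem_image_of_mem _ (Finset.mem_univ _))),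
          n ⟨z, hz⟩, hTE _ (Finset.mem_union_left _ (Finset.mem_image_of_mem _ (Finset.mem_univ _))), ?_⟩
        conv_lhs => arg 2; rw [show z = IsLocalization.mk' _ (n ⟨z, hz⟩) (d ⟨z, hz⟩) from (hnd ⟨z, hz⟩).symm]
        rw [IsLocalization.mk'_spec']
      | algebraMap a =>
        exact ⟨1, one_mem _, E.one_mem, algebraMap A D a, E.algebraMap_mem a, by
          rw [map_one, one_mul, IsScalarTower.algebraMap_apply A D (FractionRing D)]⟩
      | add x y _ _ hx hy =>
        obtain ⟨u, hu, huE, e, heE, he⟩ := hx
        obtain ⟨v, hv, hvE, f, hfE, hf⟩ := hy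
        exact ⟨u * v, mul_mem hu hv, E.mul_mem huE hvE, v * e + u * f,
          E.add_mem (E.mul_mem hvE heE) (E.mul_mem huE hfE), by
            rw [map_mul, map_add, map_mul, map_mul, ← he, ← hf]; ring⟩
      | mul x y _ _ hx hy =>
        obtain ⟨u, hu, huE, e, heE, he⟩ := hx
        obtain ⟨v, hv, hvE, f, hfE, hf⟩ := hy
        exact ⟨u * v, mul_mem hu hv, E.mul_mem huE hvE, e * f, E.mul_mem heE hfE, by
          rw [map_mul, map_mul, ← he, ← hf]; ring⟩
    intro x hx
    obtain ⟨a, ha, hax⟩ := ht (algebraMap D _ ⟨x, hx⟩)
    obtain ⟨u, hu, huE, e, heE, he⟩ := key _ hax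
    have hw : u * algebraMap A D a ∈ nonZeroDivisors D := mul_mem hu (hAS a ha)
    have hwE : ((u * algebraMap A D a : D) : S) ∈ E := E.mul_mem huE (E.algebraMap_mem a)
    have he' : (u * algebraMap A D a) * ⟨x, hx⟩ = e := by
      apply IsFractionRing.injective D (FractionRing D)
      rw [← he, IsScalarTower.algebraMap_apply A D (FractionRing D), map_mul, map_mul, mul_assoc]
    have heS : ((u * algebraMap A D a : D) : S) * x = (e : S) := congrArg Subtype.val he'
    set w : E := ⟨_, hwE⟩ with hw'
    have hwreg : w ∈ nonZeroDivisors E := by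
      refine mem_nonZeroDivisors_iff_right.2 fun y hy => IsFractionRing.injective E (FractionRing E) ?_
      rw [map_zero]
      refine (hunit _ hw hwE).mul_left_eq_zero.1 ?_
      rw [← map_mul, hy, map_zero]
    have hmem : (⟨(e : S), heE⟩ : E) ∈ ((Ideal.span {w}).map (algebraMap E S)).comap (algebraMap E S) := by
      rw [Ideal.mem_comap, Ideal.map_span, Set.image_singleton, Ideal.mem_span_singleton]
      exact ⟨x, heS.symm⟩
    rw [Ideal.comap_map_eq_self_of_faithfullyFlat, Ideal.mem_span_singleton] at hmem
    obtain ⟨e', he''⟩ := hmem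
    have h0 : w • (x : S) = w • (e' : S) := by
      show (w : S) * x = (w : S) * (e' : S)
      rw [hw']
      exact heS.trans (congrArg Subtype.val he'')
    rw [Module.Flat.isSMulRegular_of_nonZeroDivisors (M := S) hwreg h0]
    exact e'.2
  · rintro ⟨E, hDE, hEl, hE⟩
    haveI : IsLocalHom (algebraMap A E) := Groth.Agent.EssEtLib.isLocalHom_algebraMap hE
    obtain ⟨hloc, hfin⟩ := Groth.Agent.S16448.result A E hmin hE
    obtain ⟨t, ht⟩ := Groth.Agent.EssEtFrac5.exists_finset_fractionRing hloc hfin
      (Subalgebra.inclusion hDE) (Subalgebra.inclusion_injective hDE) hAS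
    exact ⟨t, fun x => by
      obtain ⟨a, ha, h⟩ := ht x
      exact ⟨a, ha, Algebra.span_le_adjoin A _ h⟩⟩

end Groth.Agent.S16441
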