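import Groth.Agent.RegLoc6.Seq
import Groth.Agent.RegLoc6.Basic
import Groth.Agent.LinType.Basic
import Groth.Agent.LocalCrit.Complete
import Groth.Agent.ProjPt.Poly
import Mathlib.RingTheory.DiscreteValuationRing.Basic
import Mathlib.RingTheory.AlgebraicIndependent.Basic
import Mathlib.FieldTheory.IntermediateField.Adjoin.Basic

/-!
The order valuation ring of a regular local ring.
-/

set_option autoImplicit false
set_option linter.style.haveILetI false

universe u

open IsLocalRing MvPolynomial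

namespace Groth.Agent.OrdVal

variable {A : Type u} [CommRing A] [IsRegularLocalRing A]

/-- `a` has order exactly `n`. -/
def IsOrd (a : A) (n : ℕ) : Prop := a ∈ maximalIdeal A ^ n ∧ a ∉ maximalIdeal A ^ (n + 1)

lemma IsOrd.ne_zero {a : A} {n : ℕ} (h : IsOrd a n) : a ≠ 0 := fun ha => h.2 (ha ▸ zero_mem _)

lemma exists_isOrd {a : A} (ha : a ≠ 0) : ∃ n, IsOrd a n := by
  have h := Ideal.iInf_pow_eq_bot_of_isLocalRing (maximalIdeal A) (maximalIdeal.isMaximal A).ne_top
  have hex : ∃ n, a ∉ maximalIdeal A ^ n := by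
    by_contra H
    push Not at H
    exact ha ((Submodule.mem_bot A).1 (h ▸ Submodule.mem_iInf _ |>.2 H))
  classical
  have h1 := Nat.find_spec hex
  obtain ⟨n, hn⟩ : ∃ n, Nat.find hex = n + 1 :=
    Nat.exists_eq_succ_of_ne_zero fun h0 => h1 (by rw [h0, pow_zero, Ideal.one_eq_top]; trivial)
  exact ⟨n, not_not.1 (Nat.find_min hex (by omega)), hn ▸ h1⟩

lemma IsOrd.le {a : A} {n m : ℕ} (h : IsOrd a n) (hm : a ∈ maximalIdeal A ^ m) : m ≤ n := by
  by_contra H
  exact h.2 (Ideal.pow_le_pow_right (by omega) hm)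

variable {d : ℕ} (f : Fin d → A) (hspan : Ideal.span (Set.range f) = maximalIdeal A)
  (hreg : RingTheory.Sequence.IsWeaklyRegular A (List.ofFn f))

include hspan in
lemma exists_rep {a : A} {n : ℕ} (h : a ∈ maximalIdeal A ^ n) :
    ∃ P : MvPolynomial (Fin d) A, P.IsHomogeneous n ∧ eval f P = a :=
  LocalCrit.exists_isHomogeneous_eval_eq f (hspan.symm ▸ h)

include hspan in
lemma eval_mem {P : MvPolynomial (Fin d) A} {n : ℕ} (hP : P.IsHomogeneous n) :
    eval f P ∈ maximalIdeal A ^ n :=
  hspan ▸ LocalCrit.eval_mem_pow_of_isHomogeneous f hP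

include hspan hreg in
lemma map_residue_eq_zero {P : MvPolynomial (Fin d) A} {n : ℕ} (hP : P.IsHomogeneous n)
    (h : eval f P ∈ maximalIdeal A ^ (n + 1)) : P.map (residue A) = 0 := by
  ext e
  rw [coeff_map, coeff_zero, residue_eq_zero_iff, ← hspan]
  exact LinType.quasiRegular f hreg hP (hspan.symm ▸ h) e

include hspan in
lemma map_residue_ne_zero {P : MvPolynomial (Fin d) A} {n : ℕ} (hP : P.IsHomogeneous n)
    (h : eval f P ∉ maximalIdeal A ^ (n + 1)) : P.map (residue A) ≠ 0 := fun h0 => h <| by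
  rw [P.as_sum, map_sum]
  refine Ideal.sum_mem _ fun e _ => ?_
  have hc : coeff e P ∈ maximalIdeal A := (residue_eq_zero_iff _).1 (by rw [← coeff_map, h0, coeff_zero])
  by_cases he : coeff e P = 0
  · rw [he, monomial_zero, map_zero]; exact zero_mem _
  · rw [pow_succ', ← mul_one (coeff e P), ← smul_eq_mul (coeff e P) 1, ← smul_monomial, smul_eval]
    refine Ideal.mul_mem_mul hc (eval_mem f hspan ?_)
    have := hP he
    rw [Finsupp.weight_apply] at this
    exact isHomogeneous_monomial _ (by simpa [Finsupp.degree_apply, Finsupp.sum] using this)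

include hspan hreg in
lemma IsOrd.mul {a b : A} {n m : ℕ} (ha : IsOrd a n) (hb : IsOrd b m) : IsOrd (a * b) (n + m) := by
  refine ⟨pow_add (maximalIdeal A) n m ▸ Ideal.mul_mem_mul ha.1 hb.1, fun h => ?_⟩
  obtain ⟨P, hP, rfl⟩ := exists_rep f hspan ha.1
  obtain ⟨Q, hQ, rfl⟩ := exists_rep f hspan hb.1
  rw [← map_mul] at h
  have h0 := map_residue_eq_zero f hspan hreg (hP.mul hQ) h
  rw [map_mul] at h0
  exact (mul_eq_zero.1 h0).elim (map_residue_ne_zero f hspan hP ha.2) (map_residue_ne_zero f hspan hQ hb.2)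

include hspan hreg in
lemma isOrd_coord (i : Fin d) : IsOrd (f i) 1 := by
  refine ⟨by rw [pow_one, ← hspan]; exact Ideal.subset_span ⟨i, rfl⟩, fun h => ?_⟩
  have h0 := map_residue_eq_zero f hspan hreg (isHomogeneous_X A i) (by rwa [eval_X])
  rw [map_X] at h0
  exact X_ne_zero i h0

lemma isOrd_one : IsOrd (1 : A) 0 :=
  ⟨by rw [pow_zero, Ideal.one_eq_top]; trivial,
    by rw [pow_one]; exact (maximalIdeal A).ne_top_iff_one.1 (maximalIdeal.isMaximal A).ne_top⟩

variable [IsDomain A]

/-- Fractions of non-negative order. -/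
def Mem (x : FractionRing A) : Prop :=
  ∃ a b n, IsOrd b n ∧ a ∈ maximalIdeal A ^ n ∧ x * algebraMap A (FractionRing A) b = algebraMap A (FractionRing A) a

lemma mem_algebraMap (a : A) : Mem (algebraMap A (FractionRing A) a) :=
  ⟨a, 1, 0, isOrd_one, by rw [pow_zero, Ideal.one_eq_top]; trivial, by rw [map_one, mul_one]⟩

/-- The order valuation ring. -/
def V : Subalgebra A (FractionRing A) where
  carrier := {x | Mem x}
  mul_mem' := by
    rintro x y ⟨a, b, n, hb, ha, hx⟩ ⟨a', b', m, hb', ha', hy⟩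
    refine ⟨a * a', b * b', n + m, hb.mul f hspan hreg hb', pow_add (maximalIdeal A) n m ▸ Ideal.mul_mem_mul ha ha', ?_⟩
    rw [map_mul, map_mul, ← hx, ← hy]; ring
  add_mem' := by
    rintro x y ⟨a, b, n, hb, ha, hx⟩ ⟨a', b', m, hb', ha', hy⟩
    refine ⟨a * b' + b * a', b * b', n + m, hb.mul f hspan hreg hb', add_mem ?_ ?_, ?_⟩
    · exact pow_add (maximalIdeal A) n m ▸ Ideal.mul_mem_mul ha hb'.1
    · exact pow_add (maximalIdeal A) n m ▸ Ideal.mul_mem_mul hb.1 ha'
    · rw [map_mul, map_add, map_mul, map_mul, ← hx, ← hy]; ring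
  algebraMap_mem' := mem_algebraMap

local notation "𝔎" => FractionRing A
local notation "Vv" => V f hspan hreg

lemma mem_V {x : 𝔎} : x ∈ Vv ↔ Mem x := Iff.rfl

lemma isUnit_iff {x : Vv} : IsUnit x ↔
    ∃ a b n, IsOrd b n ∧ IsOrd a n ∧ (x : 𝔎) * algebraMap A 𝔎 b = algebraMap A 𝔎 a := by
  constructor
  · rintro ⟨u, rfl⟩
    obtain ⟨a, b, n, hb, ha, hx⟩ := (u : Vv).2
    refine ⟨a, b, n, hb, ⟨ha, fun h => ?_⟩, hx⟩
    obtain ⟨c, e, m, he, hc, hy⟩ := ((↑u⁻¹ : Vv)).2
    refine (hb.mul f hspan hreg he).2 ?_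
    have h1 : a * c = b * e := IsFractionRing.injective A 𝔎 (by
      rw [map_mul, map_mul, ← hx, ← hy]
      have : ((u : Vv) : 𝔎) * ((↑u⁻¹ : Vv) : 𝔎) = 1 := by rw [← MulMemClass.coe_mul, Units.mul_inv]; rfl
      linear_combination (algebraMap A 𝔎 b * algebraMap A 𝔎 e) * this)
    rw [← h1, show n + m + 1 = n + 1 + m by omega, pow_add]
    exact Ideal.mul_mem_mul h hc
  · rintro ⟨a, b, n, hb, ha, hx⟩
    have ha0 : algebraMap A 𝔎 a ≠ 0 := (map_ne_zero_iff _ (IsFractionRing.injective A 𝔎)).2 ha.ne_zero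
    have hy : Mem (algebraMap A 𝔎 b / algebraMap A 𝔎 a) := ⟨b, a, n, ha, hb.1, div_mul_cancel₀ _ ha0⟩
    refine IsUnit.of_mul_eq_one (⟨_, hy⟩ : Vv) (Subtype.ext ?_)
    show (x : 𝔎) * (algebraMap A 𝔎 b / algebraMap A 𝔎 a) = 1
    rw [← mul_div_assoc, hx, div_self ha0]

lemma mem_nonunits {x : Vv} {a b : A} {n : ℕ} (hb : IsOrd b n)
    (ha : a ∈ maximalIdeal A ^ (n + 1)) (hx : (x : 𝔎) * algebraMap A 𝔎 b = algebraMap A 𝔎 a) :
    ¬ IsUnit x := by
  rw [isUnit_iff]
  rintro ⟨a', b', m, hb', ha', hx'⟩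
  refine (hb.mul f hspan hreg ha').2 ?_
  have h1 : b * a' = a * b' := IsFractionRing.injective A 𝔎 (by rw [map_mul, map_mul, ← hx, ← hx']; ring)
  rw [h1, show n + m + 1 = n + 1 + m by omega, pow_add]
  exact Ideal.mul_mem_mul ha hb'.1

lemma exists_unit_mul_pow (i : Fin d) {x : Vv} (hx : x ≠ 0) :
    ∃ (k : ℕ) (u : (Vv)ˣ), (algebraMap A Vv (f i)) ^ k * (u : Vv) = x := by
  obtain ⟨a, b, n, hb, ha, hxab⟩ := x.2
  have ha0 : a ≠ 0 := by
    rintro rfl
    rw [map_zero, mul_eq_zero] at hxab
    exact hxab.elim (fun h => hx (Subtype.ext h)) fun h =>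
      hb.ne_zero (IsFractionRing.injective A 𝔎 (h.trans (map_zero _).symm))
  obtain ⟨m, hm⟩ := exists_isOrd ha0
  obtain ⟨k, rfl⟩ := Nat.exists_eq_add_of_le (hm.le ha)
  have hk : ∀ k : ℕ, IsOrd (f i ^ k) k := by
    intro k
    induction k with
    | zero => rw [pow_zero]; exact isOrd_one
    | succ k ih => rw [pow_succ]; exact ih.mul f hspan hreg (isOrd_coord f hspan hreg i)
  have hf0 : algebraMap A 𝔎 (f i) ^ k ≠ 0 := pow_ne_zero _
    ((map_ne_zero_iff _ (IsFractionRing.injective A 𝔎)).2 (isOrd_coord f hspan hreg i).ne_zero)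
  have hb' : IsOrd (b * f i ^ k) (n + k) := hb.mul f hspan hreg (hk k)
  have hw : ((x : 𝔎) / algebraMap A 𝔎 (f i) ^ k) * algebraMap A 𝔎 (b * f i ^ k) = algebraMap A 𝔎 a := by
    rw [map_mul, map_pow, ← hxab]; field_simp
  have hu : IsUnit (⟨_, ⟨a, _, _, hb', hm.1, hw⟩⟩ : Vv) :=
    (isUnit_iff f hspan hreg).2 ⟨a, _, _, hb', hm, hw⟩
  refine ⟨k, hu.unit, Subtype.ext ?_⟩
  show (algebraMap A 𝔎 (f i)) ^ k * ((x : 𝔎) / algebraMap A 𝔎 (f i) ^ k) = x
  rw [mul_comm, div_mul_cancel₀ _ hf0]

lemma isDVR (i : Fin d) : IsDiscreteValuationRing Vv := by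
  apply IsDiscreteValuationRing.ofHasUnitMulPowIrreducibleFactorization
  have hnu : ¬ IsUnit (algebraMap A Vv (f i)) :=
    mem_nonunits f hspan hreg (a := f i) isOrd_one (isOrd_coord f hspan hreg i).1
      (by rw [map_one, mul_one]; rfl)
  refine ⟨algebraMap A Vv (f i), ⟨hnu, fun p q hpq => ?_⟩, fun {x} hx => ?_⟩
  · by_contra H
    push Not at H
    obtain ⟨ap, bp, n, hbp, hap, hp⟩ := p.2
    obtain ⟨aq, bq, m, hbq, haq, hq⟩ := q.2
    have h1 : ∀ {x : Vv} {a b : A} {n : ℕ}, ¬ IsUnit x → IsOrd b n → a ∈ maximalIdeal A ^ n →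
        (x : 𝔎) * algebraMap A 𝔎 b = algebraMap A 𝔎 a → a ∈ maximalIdeal A ^ (n + 1) := by
      intro x a b n hx hb ha he
      by_contra h
      exact hx ((isUnit_iff f hspan hreg).2 ⟨a, b, n, hb, ⟨ha, h⟩, he⟩)
    have hap' := h1 H.1 hbp hap hp
    have haq' := h1 H.2 hbq haq hq
    have h2 : f i * (bp * bq) = ap * aq := IsFractionRing.injective A 𝔎 (by
      rw [map_mul, map_mul, map_mul, ← hp, ← hq]
      have := congrArg Subtype.val hpq
      rw [MulMemClass.coe_mul] at this
      rw [show ((algebraMap A Vv (f i) : Vv) : 𝔎) = algebraMap A 𝔎 (f i) from rfl] at this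
      rw [this]; ring)
    refine ((isOrd_coord f hspan hreg i).mul f hspan hreg (hbp.mul f hspan hreg hbq)).2 ?_
    rw [h2, show 1 + (n + m) + 1 = (n + 1) + (m + 1) by omega, pow_add]
    exact Ideal.mul_mem_mul hap' haq'
  · obtain ⟨k, u, hu⟩ := exists_unit_mul_pow f hspan hreg i hx
    exact ⟨k, u, hu⟩

lemma isFractionRing : IsFractionRing Vv 𝔎 := by
  refine IsFractionRing.of_field Vv 𝔎 fun z => ?_
  obtain ⟨a, b, -, rfl⟩ := IsFractionRing.div_surjective (A := A) z
  exact ⟨algebraMap A Vv a, algebraMap A Vv b, rfl⟩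

/-- The main statement. -/
theorem exists_dvr (hA : ¬ IsField A) :
    ∃ (V : Subalgebra A (FractionRing A)) (_ : IsDomain V) (_ : IsDiscreteValuationRing V),
      IsFractionRing V (FractionRing A) ∧
      (IsLocalRing.maximalIdeal V).comap (algebraMap A V) = IsLocalRing.maximalIdeal A ∧
      ∃ (φ : IsLocalRing.ResidueField A →+* IsLocalRing.ResidueField V),
        φ.comp (IsLocalRing.residue A) = (IsLocalRing.residue V).comp (algebraMap A V) ∧
        letI := φ.toAlgebra
        ∃ (ι : Type u) (t : ι → IsLocalRing.ResidueField V), AlgebraicIndependent (IsLocalRing.ResidueField A) t ∧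
          IntermediateField.adjoin (IsLocalRing.ResidueField A) (Set.range t) = ⊤ := by
  classical
  obtain ⟨rs, hrs, hm⟩ := RegLoc6.exists_regularSequence_maximalIdeal A
  let g : Fin rs.length → A := rs.get
  have hg : List.ofFn g = rs := List.ofFn_get rs
  have hreg : RingTheory.Sequence.IsWeaklyRegular A (List.ofFn g) := hg.symm ▸ hrs.toIsWeaklyRegular
  have hspan : Ideal.span (Set.range g) = maximalIdeal A := by
    rw [← hm, Ideal.ofList, ← Set.range_list_get rs]
  have hd : 0 < rs.length := Nat.pos_of_ne_zero fun h => hA <| by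
    haveI : IsEmpty (Fin rs.length) := by rw [h]; infer_instance
    rw [IsLocalRing.isField_iff_maximalIdeal_eq, ← hspan, Set.range_eq_empty, Ideal.span_empty]
  let i₀ : Fin rs.length := ⟨0, hd⟩
  let W := V g hspan hreg
  haveI hdvr : IsDiscreteValuationRing W := isDVR g hspan hreg i₀
  haveI : IsLocalHom (algebraMap A W) := ⟨fun a ha => by
    by_contra hau
    exact mem_nonunits g hspan hreg (a := a) isOrd_one (by rw [zero_add, pow_one]; exact hau)
      (by rw [map_one, mul_one]; rfl) ha⟩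
  refine ⟨W, inferInstance, hdvr, isFractionRing g hspan hreg, ?_,
    ResidueField.map (algebraMap A W), ResidueField.map_comp_residue _, ?_⟩
  · ext a
    simp only [Ideal.mem_comap, mem_maximalIdeal, _root_.mem_nonunits_iff]
    exact not_congr ⟨IsUnit.of_map (algebraMap A W) a, fun h => h.map _⟩
  letI := (ResidueField.map (algebraMap A W)).toAlgebra
  let k := ResidueField A
  let κ := ResidueField W
  let ι := {j : Fin rs.length // j ≠ i₀}
  have hf0 : algebraMap A (FractionRing A) (g i₀) ≠ 0 :=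
    (map_ne_zero_iff _ (IsFractionRing.injective A _)).2 (isOrd_coord g hspan hreg i₀).ne_zero
  let T : Fin rs.length → W := fun j => ⟨algebraMap A _ (g j) / algebraMap A _ (g i₀),
    ⟨g j, g i₀, 1, isOrd_coord g hspan hreg i₀, (isOrd_coord g hspan hreg j).1, div_mul_cancel₀ _ hf0⟩⟩
  have hT0 : T i₀ = 1 := Subtype.ext (div_self hf0)
  let t : ι → κ := fun j => residue W (T j.1)
  -- the dehomogenization
  let δ : Fin rs.length → MvPolynomial ι A := fun j => if h : j = i₀ then 1 else MvPolynomial.X ⟨j, h⟩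
  have hscale : ∀ (P : MvPolynomial (Fin rs.length) A) (N : ℕ), P.IsHomogeneous N →
      algebraMap A (FractionRing A) (eval g P) =
        (aeval T P : W) * algebraMap A (FractionRing A) (g i₀) ^ N := by
    intro P N hP
    have h1 := ProjPt.eval₂Hom_scale (algebraMap A (FractionRing A)) (fun j => ((T j : W) : FractionRing A))
      (fun j => algebraMap A (FractionRing A) (g j)) (algebraMap A (FractionRing A) (g i₀))
      (fun j => (mul_div_cancel₀ _ hf0).symm) hP
    have h2 : algebraMap A (FractionRing A) (eval g P) = eval₂Hom (algebraMap A (FractionRing A))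
        (fun j => algebraMap A (FractionRing A) (g j)) P := by
      rw [← aeval_eq_eval₂Hom, ← MvPolynomial.coe_aeval_eq_eval]
      exact (MvPolynomial.aeval_algebraMap_apply (FractionRing A) g P).symm
    have h3 : ((aeval T P : W) : FractionRing A) = eval₂Hom (algebraMap A (FractionRing A))
        (fun j => ((T j : W) : FractionRing A)) P := by
      rw [← aeval_eq_eval₂Hom]
      exact (congr($(comp_aeval (f := T) W.val) P))
    rw [h2, h1, h3, mul_comm]
  have hk : ∀ k : ℕ, IsOrd (g i₀ ^ k) k := by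
    intro k
    induction k with
    | zero => rw [pow_zero]; exact isOrd_one
    | succ k ih => rw [pow_succ]; exact ih.mul g hspan hreg (isOrd_coord g hspan hreg i₀)
  have hres : ∀ P : MvPolynomial (Fin rs.length) A,
      residue W (aeval T P) = aeval (R := k) t ((aeval δ P).map (residue A)) := by
    intro P
    have : ((residue W).comp (aeval (R := A) T).toRingHom) =
        ((aeval (R := k) t).toRingHom.comp (MvPolynomial.map (residue A))).comp (aeval δ).toRingHom := by
      refine MvPolynomial.ringHom_ext (fun a => ?_) (fun j => ?_)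
      · simp only [RingHom.comp_apply, AlgHom.toRingHom_eq_coe, RingHom.coe_coe, aeval_C, algebraMap_eq, map_C]
        rfl
      · simp only [RingHom.comp_apply, AlgHom.toRingHom_eq_coe, RingHom.coe_coe, aeval_X, δ]
        split_ifs with h
        · rw [map_one, map_one, h, hT0, map_one]
        · rw [map_X, aeval_X]
    exact RingHom.congr_fun this P
  refine ⟨ULift.{u} ι, fun j => t j.down, ?_, ?_⟩
  · refine AlgebraicIndependent.comp (x := t) ?_ _ ULift.down_injective
    rw [algebraicIndependent_iff]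
    intro p hp
    obtain ⟨p', rfl⟩ := MvPolynomial.map_surjective (residue A) residue_surjective p
    let N := p'.totalDegree
    let emb : (ι →₀ ℕ) → (Fin rs.length →₀ ℕ) := fun e =>
      e.mapDomain Subtype.val + Finsupp.single i₀ (N - e.degree)
    let P : MvPolynomial (Fin rs.length) A := ∑ e ∈ p'.support, monomial (emb e) (coeff e p')
    have hP : P.IsHomogeneous N := by
      refine IsHomogeneous.sum _ _ _ fun e he => isHomogeneous_monomial _ ?_
      have hle : e.degree ≤ N := by
        simpa [Finsupp.degree_apply, Finsupp.sum] using le_totalDegree he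
      simp only [emb, map_add, Finsupp.degree_single, Finsupp.degree_mapDomain]
      omega
    have hde : aeval δ P = p' := by
      conv_rhs => rw [p'.as_sum]
      rw [map_sum]
      refine Finset.sum_congr rfl fun e _ => ?_
      rw [aeval_monomial, monomial_eq, Finsupp.prod_add_index' (fun _ => pow_zero _) (fun _ _ _ => pow_add _ _ _),
        Finsupp.prod_mapDomain_index (fun _ => pow_zero _) (fun _ _ _ => pow_add _ _ _),
        Finsupp.prod_single_index (by simp), algebraMap_eq]
      rw [show δ i₀ = 1 from dif_pos rfl, one_pow, mul_one]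
      refine congrArg _ (Finsupp.prod_congr fun j _ => ?_)
      rw [show δ j.1 = MvPolynomial.X j from dif_neg j.2]
    have hzero : residue W (aeval T P) = 0 := by rw [hres, hde]; exact hp
    have hmem : eval g P ∈ maximalIdeal A ^ (N + 1) := by
      by_contra H
      refine (residue_ne_zero_iff_isUnit _).2 ((isUnit_iff g hspan hreg).2
        ⟨eval g P, g i₀ ^ N, N, hk N, ⟨eval_mem g hspan hP, H⟩, ?_⟩) hzero
      rw [map_pow, hscale P N hP]
    have h0 := map_residue_eq_zero g hspan hreg hP hmem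
    have hmap : (aeval δ P).map (residue A) =
        aeval (fun j => (δ j).map (residue A)) (P.map (residue A)) := by
      rw [MvPolynomial.aeval_def, MvPolynomial.aeval_def, MvPolynomial.eval₂_comp_left,
        MvPolynomial.eval₂_map]
      congr 1
      ext a
      simp
    rw [← hde, hmap, h0, map_zero]
  · refine eq_top_iff.2 fun z _ => ?_
    obtain ⟨x, rfl⟩ := residue_surjective z
    by_cases hx : IsUnit x
    swap
    · rw [(residue_eq_zero_iff x).2 hx]; exact zero_mem _
    obtain ⟨a, b, n, hb, ha, hxab⟩ := (isUnit_iff g hspan hreg).1 hx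
    obtain ⟨P, hP, rfl⟩ := exists_rep g hspan ha.1
    obtain ⟨Q, hQ, rfl⟩ := exists_rep g hspan hb.1
    have hQu : IsUnit (aeval T Q) :=
      (isUnit_iff g hspan hreg).2 ⟨eval g Q, g i₀ ^ n, n, hk n, hb, by rw [map_pow, hscale Q n hQ]⟩
    have h1 : x * aeval T Q = aeval T P := by
      refine Subtype.ext (mul_right_cancel₀ (pow_ne_zero n hf0) ?_)
      rw [MulMemClass.coe_mul, mul_assoc, ← hscale Q n hQ, ← hscale P n hP]
      exact hxab
    have h2 : residue W x = residue W (aeval T P) / residue W (aeval T Q) := by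
      rw [← h1, map_mul, mul_div_cancel_right₀]
      exact (residue_ne_zero_iff_isUnit _).2 hQu
    rw [h2, hres, hres]
    have hmem : ∀ p : MvPolynomial ι k, aeval t p ∈
        IntermediateField.adjoin k (Set.range fun j : ULift.{u} ι => t j.down) := fun p => by
      refine IntermediateField.algebra_adjoin_le_adjoin _ _ ?_
      rw [Algebra.adjoin_range_eq_range_aeval]
      exact ⟨MvPolynomial.rename ULift.up p, aeval_rename _ _ _⟩
    exact div_mem (hmem _) (hmem _)

end Groth.Agent.OrdVal
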