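import Groth.Statements.S11439
import Groth.Agent.H23.RigidGamma

set_option autoImplicit false
universe u
open CategoryTheory MonoidalCategory CartesianMonoidalCategory MonObj GrpObj AlgebraicGeometry Topology
open GIT

namespace Groth.Agent.S11439

open Groth.Agent.H23

/-- Let S be locally Noetherian, G a locally Noetherian group scheme separated over S, X → S proper and
flat with κ(s) → H⁰(X_s, O_{X_s}) bijective for every s, and Y connected, locally Noetherian,
separated over S with a section over S. Then every morphism f : X ×_S Y → G over S factors as f = (g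
∘ p₁) · (h ∘ p₂) with g : X → G and h : Y → G. -/
theorem result (S : Scheme.{u}) [IsLocallyNoetherian S]
    (X Y G : Over S) [GrpObj G] [IsLocallyNoetherian G.left] [IsSeparated G.hom] [IsProper X.hom] [Flat X.hom]
    (h0 : ∀ s : S, Function.Bijective (Limits.pullback.snd X.hom (S.fromSpecResidueField s)).appTop)
    [IsLocallyNoetherian Y.left] [IsSeparated Y.hom] [ConnectedSpace Y.left] (e : 𝟙_ (Over S) ⟶ Y)
    (f : X ⊗ Y ⟶ G) :
    ∃ (g : X ⟶ G) (h : Y ⟶ G), f = (fst X Y ≫ g) * (snd X Y ≫ h) := by
  let σ : X ⟶ X ⊗ Y := lift (𝟙 X) (toUnit X ≫ e)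
  let g := σ ≫ f
  let F := (fst X Y ≫ g)⁻¹ * f
  have hσ : σ ≫ F = 1 := by
    rw [MonObj.comp_mul, GrpObj.comp_inv, ← Category.assoc, lift_fst, Category.id_comp, inv_mul_cancel]
  let p := Limits.pullback.snd X.hom Y.hom
  let gY := Limits.pullback.snd G.hom Y.hom
  let π := (lift F (snd X Y)).left
  have hπ : π ≫ gY = p := congrArg CommaMorphism.left (lift_snd F (snd X Y))
  obtain ⟨y₁⟩ := (inferInstance : Nonempty Y.left)
  let s₀ := Y.hom y₁
  have H : IsPullback σ.left X.hom p e.left := by
    refine IsPullback.of_right ?_ ?_ (IsPullback.of_hasPullback X.hom Y.hom)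
    · have e1 : σ.left ≫ Limits.pullback.fst X.hom Y.hom = 𝟙 _ := congrArg CommaMorphism.left (lift_fst (𝟙 X) _)
      have e2 : e.left ≫ Y.hom = 𝟙 _ := Over.w e
      rw [e1, e2]
      exact IsPullback.of_id_fst
    · exact (congrArg CommaMorphism.left (lift_snd (𝟙 X) (toUnit X ≫ e))).trans rfl
  have hs : e.left s₀ ∈ RigidNoeth.collapsed p π := by
    refine ⟨(lift η[G] e).left s₀, fun x hx => ?_⟩
    obtain ⟨w, hw1, hw2⟩ := Scheme.exists_preimage_of_isPullback H x s₀ hx
    have hc : σ ≫ lift F (snd X Y) = toUnit X ≫ lift η[G] e := by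
      rw [comp_lift, comp_lift, hσ, lift_snd]; rfl
    have := congr($(congrArg CommaMorphism.left hc) w)
    simp only [Over.comp_left, Scheme.Hom.comp_apply] at this
    rw [← hw1]
    exact this.trans (congrArg (lift η[G] e).left hw2)
  obtain ⟨t, ht, hfac⟩ := RigidApply.factor_of_isProper p (RigidApply.ConstFibres.baseChange h0 Y.hom) gY π hπ _ hs
  have hh : (t ≫ Limits.pullback.fst G.hom Y.hom) ≫ G.hom = Y.hom := by
    rw [Category.assoc, Limits.pullback.condition, ← Category.assoc, ht, Category.id_comp]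
  refine ⟨g, Over.homMk _ hh, ?_⟩
  have hF : F = snd X Y ≫ Over.homMk (V := G) _ hh := by
    refine Over.OverMorphism.ext ?_
    have h1 : F.left = π ≫ Limits.pullback.fst G.hom Y.hom :=
      (congrArg CommaMorphism.left (lift_fst F (snd X Y))).symm
    rw [h1, hfac, Category.assoc]
    rfl
  rw [← hF, mul_inv_cancel_left]

end Groth.Agent.S11439
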