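import Groth.Statements.S9444
import Groth.Agent.CoeffField.Smooth
import Groth.Agent.PSLib.Regular

set_option autoImplicit false
universe u
open CAlg

namespace Groth.Agent.S9444

/-- A complete regular local ring containing a field (that is, containing the prime field F_p or ℚ) is
isomorphic to a power series ring in finitely many variables over its residue field (existence of an
isomorphism only). -/
theorem result (R : Type u)
    [CommRing R] [IsRegularLocalRing R] [IsAdicComplete (IsLocalRing.maximalIdeal R) R]
    (k₀ : Type u) [Field k₀] [Algebra k₀ R] :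
    ∃ d : ℕ, Nonempty (R ≃+* MvPowerSeries (Fin d) (IsLocalRing.ResidueField R)) := by
  classical
  obtain ⟨σ, hσ⟩ := CoeffField.exists_ringHom_section k₀ R
  let : Algebra (IsLocalRing.ResidueField R) R := RingHom.toAlgebra σ
  have hsurj : Function.Surjective ((IsLocalRing.residue R).comp (algebraMap (IsLocalRing.ResidueField R) R)) :=
    fun x => ⟨x, hσ x⟩
  let 𝔪 := IsLocalRing.maximalIdeal R
  have hfg : 𝔪.FG := IsNoetherian.noetherian 𝔪
  let n := 𝔪.spanFinrank
  have hcard : 𝔪.generators.ncard = n := Submodule.FG.generators_ncard hfg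
  have hfin := Submodule.FG.finite_generators hfg
  have := hfin.to_subtype
  let e : Fin n ≃ 𝔪.generators := (Finite.equivFinOfCardEq (by rw [Nat.card_coe_set_eq, hcard])).symm
  let b : Fin n → R := fun i => e i
  have hspan : Ideal.span (Set.range b) = 𝔪 := by
    have : Set.range b = 𝔪.generators := by
      show Set.range (Subtype.val ∘ e) = _
      rw [EquivLike.range_comp, Subtype.range_coe]
    rw [this]; exact Submodule.span_generators 𝔪
  have hb : ∀ i, b i ∈ 𝔪 := fun i => hspan ▸ Ideal.subset_span ⟨i, rfl⟩
  obtain ⟨ψ, hψ⟩ := PSLib.exists_algHom (R := IsLocalRing.ResidueField R) 𝔪 b hb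
  have hs : Function.Surjective ψ := by
    refine PSLib.surjective_of_span hsurj ψ (fun i => (hψ i).symm ▸ hb i) ?_
    simp only [hψ, hspan]
    exact le_sup_left
  have hdim : ringKrullDim R = n := ((isRegularLocalRing_iff R).1 inferInstance).symm
  let ψr : MvPowerSeries (Fin n) (IsLocalRing.ResidueField R) →+* R := ψ.toRingHom
  have hs' : Function.Surjective ψr := hs
  have hbij := PSLib.bijective_of_surjective (IsLocalRing.ResidueField R) n ψr hs' hdim
  exact ⟨n, ⟨(RingEquiv.ofBijective ψr hbij).symm⟩⟩


end Groth.Agent.S9444
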