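import Groth.Statements.S0103
import Groth.Agent.EtLC12.GaAmitsur
import Groth.Agent.EtLC12.ArtinSchreier

set_option backward.isDefEq.respectTransparency false
set_option backward.isDefEq.respectTransparency.types false

set_option autoImplicit false
open CategoryTheory CategoryTheory.Limits AlgebraicGeometry Opposite
universe u
open EtBase

namespace Groth.Agent.S0103

/-- Let S be an affine scheme whose ring of global sections has prime characteristic p. Then the étale
cohomology H^q(S, Z/p) with constant Z/p coefficients vanishes for every q ≥ 2. -/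
theorem result (S : Scheme.{u}) [IsAffine S] (p : ℕ) [Fact p.Prime] [CharP Γ(S, ⊤) p]
    (q : ℕ) (hq : 2 ≤ q) : Subsingleton (EtCoh.H S (EtCoh.const S (ZMod p)) q) := by
  obtain ⟨n, rfl⟩ := Nat.exists_eq_add_of_le hq
  rw [add_comm]
  have h0 : (p : Γ(S, ⊤)) = 0 := CharP.cast_eq_zero _ p
  let T := ShortComplex.mk (kernel.ι (Agent.EtLC12.ArtinSchreier.as p h0))
    (Agent.EtLC12.ArtinSchreier.as p h0) (kernel.condition _)
  have hGa : ∀ m, Subsingleton (EtCoh.H S (EtCoh.Ga S) (m + 1)) := fun m =>
    Agent.EtLC12.AffineCartan.subsingleton_H_of_isAffAcyclic m _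
      (Agent.EtLC12.GaAmitsur.isAffAcyclic_Ga S)
  have hK : Subsingleton (EtCoh.H S T.X₁ (n + 2)) := by
    refine subsingleton_of_forall_eq 0 fun x => ?_
    obtain ⟨z, rfl⟩ := Abelian.Ext.covariant_sequence_exact₁ _
      (Agent.EtLC12.ArtinSchreier.shortExact_kernel p h0) x (@Subsingleton.elim _ (hGa (n + 1)) _ _)
      (rfl : (n + 1) + 1 = n + 2)
    haveI : Subsingleton (EtCoh.H S T.X₃ (n + 1)) := hGa n
    rw [Subsingleton.elim z 0, Abelian.Ext.zero_comp]
  haveI : Subsingleton ((EtCoh.HF S (n + 2)).obj (kernel (Agent.EtLC12.ArtinSchreier.as p h0))) := hK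
  exact ((EtCoh.HF S (n + 2)).mapIso
    (asIso (Agent.EtLC12.ArtinSchreier.constToKer p h0))).addCommGroupIsoToAddEquiv.toEquiv.subsingleton

end Groth.Agent.S0103
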