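import Groth.Agent.S0657
import Groth.Agent.S0103
import Groth.Agent.H1Kill11
import Groth.Agent.EtFound.FLCAb
import Groth.Agent.EtFound.LocConst
import Groth.Agent.CohCrit13.Formal
import Groth.Agent.GabberAff13.Vanish

/-! `p`-torsion classes on affine schemes of characteristic `p` -/

universe u

open CategoryTheory CategoryTheory.Limits AlgebraicGeometry Opposite CategoryTheory.Abelian

namespace Groth.Agent.PKPi11

set_option backward.isDefEq.respectTransparency false
set_option backward.isDefEq.respectTransparency.types false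

variable {X : Scheme.{u}}

/-- `F` has no cohomology above degree one over all finite etale covers dominating a fixed one -/
def Good (F : EtCoh.Ab X) : Prop :=
  ∃ (T : Scheme.{u}) (g : T ⟶ X), IsFinite g ∧ Etale g ∧ Surjective g ∧
    ∀ (T' : Scheme.{u}) (v : T' ⟶ T) [IsFinite v] [Etale v] (q : ℕ), 2 ≤ q →
      Subsingleton (EtCoh.H T' ((EtCoh.pull (v ≫ g)).obj F) q)

theorem subsingleton_X₂ {C : Scheme.{u}} {S : ShortComplex (EtCoh.Ab C)} (hS : S.ShortExact) (q : ℕ)
    (h1 : Subsingleton (EtCoh.H C S.X₁ q)) (h3 : Subsingleton (EtCoh.H C S.X₃ q)) :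
    Subsingleton (EtCoh.H C S.X₂ q) := by
  refine subsingleton_of_forall_eq 0 fun x => ?_
  obtain ⟨y, hy⟩ := Ext.covariant_sequence_exact₂ _ hS x (h3.elim _ _)
  rw [← hy, h1.elim y 0, Ext.zero_comp]

theorem transport {T' : Scheme.{u}} {a b : T' ⟶ X} (e : a = b) {F : EtCoh.Ab X} {q : ℕ}
    (h : Subsingleton (EtCoh.H T' ((EtCoh.pull a).obj F) q)) : Subsingleton (EtCoh.H T' ((EtCoh.pull b).obj F) q) := by
  subst e
  exact h

theorem good_X₂ {S : ShortComplex (EtCoh.Ab X)} (hS : S.ShortExact) (h1 : Good S.X₁) (h3 : Good S.X₃) : Good S.X₂ := by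
  obtain ⟨T₁, g₁, hf₁, he₁, hs₁, H₁⟩ := h1
  obtain ⟨T₃, g₃, hf₃, he₃, hs₃, H₃⟩ := h3
  let a := pullback.fst g₁ g₃
  let b := pullback.snd g₁ g₃
  haveI : IsFinite a := MorphismProperty.pullback_fst _ _ hf₃
  haveI : Etale a := MorphismProperty.pullback_fst _ _ he₃
  haveI : Surjective a := MorphismProperty.pullback_fst _ _ hs₃
  haveI : IsFinite b := MorphismProperty.pullback_snd _ _ hf₁
  haveI : Etale b := MorphismProperty.pullback_snd _ _ he₁
  refine ⟨_, a ≫ g₁, inferInstance, inferInstance, inferInstance, fun T' v _ _ q hq => ?_⟩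
  haveI := EtFound.pull_preservesFiniteLimits (v ≫ a ≫ g₁)
  haveI := BCCrit13.pull_preservesFiniteColimits (v ≫ a ≫ g₁)
  haveI := BCCrit13.pull_additive (v ≫ a ≫ g₁)
  refine subsingleton_X₂ (hS.map_of_exact (EtCoh.pull (v ≫ a ≫ g₁))) q ?_ ?_
  · exact transport (Category.assoc v a g₁) (H₁ T' (v ≫ a) q hq)
  · exact transport (show (v ≫ b) ≫ g₃ = v ≫ a ≫ g₁ by rw [Category.assoc, pullback.condition]) (H₃ T' (v ≫ b) q hq)

/-- iterated extensions of the constant sheaf `ℤ/p` -/
theorem subsingleton_pull_filt {T T' : Scheme.{u}} (v : T' ⟶ T) (p : ℕ) (hT' : ∀ q, 2 ≤ q →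
      Subsingleton (EtCoh.H T' (EtCoh.const T' (ZMod p)) q)) (G : ℕ → EtCoh.Ab T) (φ : ∀ i, G i ⟶ G (i + 1))
    (h0 : IsZero (G 0)) (n : ℕ) (h : ∀ i, i < n → Mono (φ i) ∧ Nonempty (cokernel (φ i) ≅ EtCoh.const T (ZMod p)))
    (q : ℕ) (hq : 2 ≤ q) : ∀ i, i ≤ n → Subsingleton (EtCoh.H T' ((EtCoh.pull v).obj (G i)) q) := by
  haveI := EtFound.pull_preservesFiniteLimits v
  haveI := BCCrit13.pull_preservesFiniteColimits v
  haveI := BCCrit13.pull_additive v
  intro i
  induction i with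
  | zero =>
    intro _
    have hz : IsZero ((EtCoh.pull v).obj (G 0)) := (EtCoh.pull v).map_isZero h0
    refine subsingleton_of_forall_eq 0 fun x => ?_
    rw [← Ext.comp_mk₀_id x, hz.eq_of_src (𝟙 _) 0, Ext.mk₀_zero, Ext.comp_zero]
  | succ i ih =>
    intro hi
    obtain ⟨hm, ⟨e⟩⟩ := h i (by omega)
    haveI := hm
    have hS : (ShortComplex.mk (φ i) (cokernel.π _) (cokernel.condition (φ i))).ShortExact :=
      { exact := ShortComplex.exact_of_g_is_cokernel _ (cokernelIsCokernel _) }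
    refine subsingleton_X₂ (hS.map_of_exact (EtCoh.pull v)) q (ih (by omega)) ?_
    haveI := hT' q hq
    exact (CohCrit13.hmap_bijective_of_isIso ((EtCoh.pull v).mapIso e ≪≫ EtCore.pullConst v (ZMod p)).hom q).1.subsingleton

theorem subsingleton_const {T' : Scheme.{u}} (u : T' ⟶ X) [IsFinite u] [IsAffine X] (p : ℕ) [Fact p.Prime]
    [CharP Γ(X, ⊤) p] (q : ℕ) (hq : 2 ≤ q) : Subsingleton (EtCoh.H T' (EtCoh.const T' (ZMod p)) q) := by
  haveI : IsAffine T' := isAffine_of_isAffineHom u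
  rcases isEmpty_or_nonempty ↥T' with hE | hN
  · exact GabberAff13.subsingleton_H_of_isEmpty _ q
  · have hp : (p : Γ(T', ⊤)) = 0 := by
      rw [← map_natCast u.appTop.hom, CharP.cast_eq_zero, map_zero]
    haveI : Nonempty ↥(⊤ : T'.Opens) := ⟨⟨Classical.arbitrary _, trivial⟩⟩
    haveI : Nontrivial Γ(T', ⊤) := @Scheme.component_nontrivial T' ⊤ ⟨⟨Classical.arbitrary _, trivial⟩⟩
    haveI : CharP Γ(T', ⊤) p := CharP.charP_iff_prime_eq_zero Fact.out |>.2 hp
    exact S0103.result T' p q hq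

/-- sheaves killed by a power of `p` on connected affine schemes of characteristic `p` -/
theorem good (p : ℕ) [Fact p.Prime] [IsAffine X] [ConnectedSpace ↥X] [CharP Γ(X, ⊤) p] (h : ℕ) :
    ∀ F : EtCoh.Ab X, EtCoh.IsFiniteLocallyConstant F → EtCoh.KilledBy (p ^ h) F → Good F := by
  induction h with
  | zero =>
    intro F _ hk
    rw [pow_zero] at hk
    rw [EtFound.killedBy_iff_nsmul, one_nsmul] at hk
    refine ⟨X, 𝟙 X, inferInstance, inferInstance, inferInstance, fun T' v _ _ q _ => ?_⟩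
    have hz : IsZero ((EtCoh.pull (v ≫ 𝟙 X)).obj F) := (EtCoh.pull _).map_isZero ((IsZero.iff_id_eq_zero F).2 hk)
    refine subsingleton_of_forall_eq 0 fun x => ?_
    rw [← Ext.comp_mk₀_id x, hz.eq_of_src (𝟙 _) 0, Ext.mk₀_zero, Ext.comp_zero]
  | succ h ih =>
    intro F hF hk
    rw [EtFound.killedBy_iff_nsmul] at hk
    let m : F ⟶ F := p ^ h • 𝟙 F
    let S := ShortComplex.mk (kernel.ι m) (factorThruImage m) (by
      rw [← cancel_mono (Limits.image.ι m), Category.assoc, Limits.image.fac, zero_comp, kernel.condition])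
    have hex : S.Exact := by
      let e : ShortComplex.mk (kernel.ι m) m (kernel.condition m) = ShortComplex.mk (kernel.ι m) m (kernel.condition m) := rfl
      refine ShortComplex.exact_of_f_is_kernel _ (KernelFork.IsLimit.ofι' (kernel.ι m) _ fun k hk' => ?_)
      exact ⟨kernel.lift m k (by rw [← Limits.image.fac m, reassoc_of% hk', zero_comp]), kernel.lift_ι _ _ _⟩
    have hS : S.ShortExact := { exact := hex }
    haveI : Mono S.f := inferInstanceAs (Mono (kernel.ι m))
    haveI : Epi S.g := inferInstanceAs (Epi (factorThruImage m))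
    have hk1 : EtCoh.KilledBy (p ^ h) S.X₁ := by
      rw [EtFound.killedBy_iff_nsmul]
      show p ^ h • 𝟙 (kernel m) = 0
      rw [← cancel_mono (kernel.ι m), zero_comp, Preadditive.nsmul_comp, Category.id_comp]
      have h2 := kernel.condition m
      rwa [Preadditive.comp_nsmul, Category.comp_id] at h2
    have hk3 : EtCoh.KilledBy p S.X₃ := by
      rw [EtFound.killedBy_iff_nsmul]
      show p • 𝟙 (Limits.image m) = 0
      rw [← cancel_epi (factorThruImage m), ← cancel_mono (Limits.image.ι m), comp_zero, zero_comp,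
        Preadditive.comp_nsmul, Category.comp_id, Preadditive.nsmul_comp, Limits.image.fac, smul_smul, ← pow_succ', hk]
    have h1 : EtCoh.IsFiniteLocallyConstant S.X₁ :=
      EtFound.isFiniteLocallyConstant_of_kernel (S := ShortComplex.mk (kernel.ι m) m (kernel.condition m))
        (ShortComplex.exact_of_f_is_kernel _ (kernelIsKernel _)) hF hF
    have h3 : EtCoh.IsFiniteLocallyConstant S.X₃ := EtFound.isFiniteLocallyConstant_of_cokernel hex h1 hF
    refine good_X₂ hS (ih _ h1 hk1) ?_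
    obtain ⟨T, f, hfin, het, d, hd, hcard, n, G, φ, h0, ⟨e⟩, hfl⟩ := S0657.result X p S.X₃ h3 hk3
    have hsurj : Surjective f := ⟨fun x => by
      obtain ⟨Ω, _, _, ξ, v, hv⟩ := EtFound.exists_algClosed_point (EtCoh.top X) x
      have h0' : d ≠ 0 := fun h => Nat.Prime.ne_one Fact.out (Nat.coprime_zero_right p |>.1 (h ▸ hd))
      obtain ⟨⟨t, ht⟩⟩ := (Nat.card_pos_iff.1 (Nat.pos_of_ne_zero (hcard Ω ξ ▸ h0'))).1
      refine ⟨t.base default, (Scheme.Hom.comp_apply t f default).symm.trans ?_⟩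
      rw [ht]
      exact (EtFound.base_of_point v).symm.trans hv⟩
    refine ⟨T, f, hfin, het, hsurj, fun T' v _ _ q hq => ?_⟩
    haveI := subsingleton_pull_filt v p (fun q hq => subsingleton_const (v ≫ f) p q hq) G φ h0 n hfl q hq n le_rfl
    exact (CohCrit13.hmap_bijective_of_isIso
      (((EtCore.pullComp v f).app S.X₃) ≪≫ (EtCoh.pull v).mapIso e.symm).hom q).1.subsingleton

theorem exists_cover_kill (p : ℕ) [Fact p.Prime] [IsAffine X] [ConnectedSpace ↥X] [CharP Γ(X, ⊤) p]
    {F : EtCoh.Ab X} (hF : EtCoh.IsFiniteLocallyConstant F) {h : ℕ} (hk : EtCoh.KilledBy (p ^ h) F)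
    (q : ℕ) (hq : 0 < q) (ζ : EtCoh.H X F q) :
    ∃ (X' : Scheme.{u}) (g : X' ⟶ X), IsFinite g ∧ Etale g ∧ Surjective g ∧
      ∀ [PreservesFiniteLimits (EtCoh.pull g)], EtCore.Hpull g F q ζ = 0 := by
  by_cases h1 : q = 1
  · subst h1
    exact H1Kill11.exists_cover_kill hF (Nat.pow_pos (Nat.Prime.pos Fact.out)) hk ζ
  obtain ⟨T, g, hfin, het, hsurj, H⟩ := good p h F hF hk
  refine ⟨T, g, hfin, het, hsurj, fun {_} => ?_⟩
  have hT := transport (Category.id_comp g) (H T (𝟙 T) q (by omega))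
  exact hT.elim _ _

end Groth.Agent.PKPi11
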