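import Groth.Statements.S2966
import Groth.Agent.S7966

set_option autoImplicit false
universe u
open scoped TensorProduct
open SGA3t2b

namespace Groth.Agent.S2966

open Groth.Agent.ComodLib

/-- The only group-like element of a geometric unipotent group is `1`. -/
theorem groupLike_eq_one {k K AU : Type u} [Field k] [Field K] [Algebra k K] [CommRing AU]
    [HopfAlgebra k AU] (hU : HopfRep.IsUnipotent k AU) (x : K ⊗[k] AU) (hx : IsGroupLikeElem K x) :
    x = 1 := by
  classical
  let L : ℕ → Submodule K (K ⊗[k] AU) := fun r => (uniLevel k AU r).baseChange K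
  have hex : ∃ r, x ∈ L r := by
    have hdir : Directed (· ≤ ·) L :=
      (show Monotone L from fun r s h => Submodule.baseChange_mono K (uniLevel_mono h)).directed_le
    rw [← Submodule.mem_iSup_of_directed _ hdir]
    clear hx
    induction x using TensorProduct.induction_on with
    | zero => simp
    | add p q hp hq => exact add_mem hp hq
    | tmul c a =>
      have ha : a ∈ ⨆ r, uniLevel k AU r := by rw [iSup_uniLevel_eq_top hU]; trivial
      obtain ⟨r, hr⟩ := (Submodule.mem_iSup_of_directed _ uniLevel_mono.directed_le).mp ha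
      exact le_iSup L r (Submodule.tmul_mem_baseChange_of_mem c hr)
  set r := Nat.find hex with hr
  have hxr : x ∈ L r := Nat.find_spec hex
  rcases Nat.eq_zero_or_pos r with h0 | hpos
  · rw [h0] at hxr
    have : L 0 ≤ Submodule.span K {(1 : K ⊗[k] AU)} := by
      simp only [L, uniLevel_zero, Submodule.baseChange_span, Set.image_singleton]
      exact le_of_eq rfl
    obtain ⟨c, rfl⟩ := Submodule.mem_span_singleton.mp (this hxr)
    have hc := hx.counit_eq_one
    rw [map_smul, Bialgebra.counit_one, smul_eq_mul, mul_one] at hc
    rw [hc, one_smul]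
  · exfalso
    have hx' : x ∉ L (r - 1) := Nat.find_min hex (by omega)
    obtain ⟨f, hf, hker⟩ := Submodule.exists_dual_map_eq_bot_of_notMem hx' inferInstance
    let Φ : K ⊗[k] AU →ₗ[K] K :=
      LinearMap.mul' K K ∘ₗ TensorProduct.map f f ∘ₗ CoalgebraStruct.comul
    have hzero : ∀ a ∈ uniLevel k AU r, Φ ((1 : K) ⊗ₜ[k] a) = 0 := by
      intro a ha
      let Ψ : AU ⊗[k] AU →ₗ[k] K :=
        (LinearMap.mul' K K ∘ₗ TensorProduct.map f f ∘ₗ
          (TensorProduct.AlgebraTensorModule.distribBaseChange k K AU AU).toLinearMap).restrictScalars k ∘ₗ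
          TensorProduct.mk k K (AU ⊗[k] AU) 1
      have h1 : Φ ((1 : K) ⊗ₜ[k] a) = Ψ (CoalgebraStruct.comul (R := k) a) := by
        show LinearMap.mul' K K (TensorProduct.map f f (CoalgebraStruct.comul (R := K) _)) = _
        rw [S7966.comul_one_tmul]
        rfl
      have h2 : (⨆ i ∈ Finset.range (r + 1), LinearMap.range
          (TensorProduct.mapIncl (uniLevel k AU i) (uniLevel k AU (r - i)))) ≤ LinearMap.ker Ψ := by
        refine iSup₂_le fun i hi => ?_
        rintro _ ⟨z, rfl⟩
        induction z using TensorProduct.induction_on with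
        | zero => simp
        | add p q hp hq => rw [map_add]; exact add_mem hp hq
        | tmul p q =>
          rw [LinearMap.mem_ker]
          have hv : ∀ j, j ≤ r - 1 → ∀ b ∈ uniLevel k AU j, f ((1 : K) ⊗ₜ[k] b) = 0 := fun j hj b hb => by
            have : f ((1 : K) ⊗ₜ[k] b) ∈ (L (r - 1)).map f :=
              Submodule.mem_map_of_mem (Submodule.tmul_mem_baseChange_of_mem _ (uniLevel_mono hj hb))
            exact (Submodule.mem_bot K).mp (hker ▸ this)
          show Ψ ((p : AU) ⊗ₜ[k] (q : AU)) = 0
          have e : Ψ ((p : AU) ⊗ₜ[k] (q : AU)) =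
              f ((1 : K) ⊗ₜ[k] (p : AU)) * f ((1 : K) ⊗ₜ[k] (q : AU)) := by
            simp [Ψ, TensorProduct.AlgebraTensorModule.distribBaseChange]
          rw [e]
          rcases Nat.lt_or_ge i r with h | h
          · rw [hv i (by omega) _ p.2, zero_mul]
          · rw [hv (r - i) (by omega) _ q.2, mul_zero]
      rw [h1]
      exact h2 (map_comul_uniLevel r (Submodule.mem_map_of_mem ha))
    have hLr : L r ≤ LinearMap.ker Φ := by
      simp only [L, Submodule.baseChange_eq_span, Submodule.span_le]
      rintro _ ⟨a, ha, rfl⟩
      exact hzero a ha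
    have := hLr hxr
    rw [LinearMap.mem_ker] at this
    simp only [Φ, LinearMap.comp_apply, hx.comul_eq_tmul_self, TensorProduct.map_tmul, LinearMap.mul'_apply,
      mul_eq_zero, or_self] at this
    exact hf this

/-- In Hopf-algebra form (with unipotent taken in the representation-theoretic sense: affine and every
non-zero finite-dimensional representation has a non-zero fixed vector): let k be a field, A_M the
coordinate Hopf algebra of an affine k-group M of finite type which is of multiplicative type in the
sense that it becomes diagonalisable over an algebraic closure of k, and A_U that of a unipotent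
affine k-group U of finite type. Then (i) every homomorphism M -> U and (ii) every homomorphism U ->
M is trivial: every bialgebra map A_U -> A_M, resp. A_M -> A_U, factors through the counit. -/
theorem result {k : Type u} [Field k] {AM AU : Type u} [CommRing AM] [CommRing AU]
    [HopfAlgebra k AM] [HopfAlgebra k AU] [Algebra.FiniteType k AM] [Algebra.FiniteType k AU]
    (hM : HopfRep.IsDiagonalizable (AlgebraicClosure k) (AlgebraicClosure k ⊗[k] AM)) (hU : HopfRep.IsUnipotent k AU) :
    (∀ φ : AU →ₐc[k] AM, SGA3t2b.IsTrivialBialgHom φ) ∧ (∀ ψ : AM →ₐc[k] AU, SGA3t2b.IsTrivialBialgHom ψ) := by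
  refine ⟨fun φ a => ?_, fun ψ a => ?_⟩
  · have h := S7966.result k AM AU hM hU k (Bialgebra.TensorProduct.map (BialgHom.id k k) φ) ((1 : k) ⊗ₜ[k] a)
    rw [Bialgebra.TensorProduct.map_tmul] at h
    have h2 := congrArg (TensorProduct.lid k AM) h
    simpa [Algebra.algebraMap_eq_smul_one, Algebra.TensorProduct.one_def] using h2
  · let K := AlgebraicClosure k
    let ψK := Bialgebra.TensorProduct.map (BialgHom.id K K) ψ
    have hspan : ∀ z : K ⊗[k] AM,
        ψK z = algebraMap K (K ⊗[k] AU) (CoalgebraStruct.counit (R := K) z) := by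
      intro z
      have hz : z ∈ Submodule.span K {g : K ⊗[k] AM | IsGroupLikeElem K g} :=
        hM.symm ▸ Submodule.mem_top
      induction hz using Submodule.span_induction with
      | mem g hg => rw [groupLike_eq_one hU _ (hg.map ψK), hg.counit_eq_one, map_one]
      | zero => simp
      | add x y _ _ hx hy => simp only [map_add, hx, hy]
      | smul c x _ hx =>
        rw [map_smul, map_smul, hx, smul_eq_mul, map_mul, Algebra.smul_def]
    have h := hspan ((1 : K) ⊗ₜ[k] a)
    rw [Bialgebra.TensorProduct.map_tmul, TensorProduct.counit_tmul, CommSemiring.counit_apply] at h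
    refine Algebra.TensorProduct.includeRight_injective (algebraMap k K).injective ?_
    show (1 : K) ⊗ₜ[k] ψ a = (1 : K) ⊗ₜ[k] algebraMap k AU _
    refine h.trans ?_
    simp [Algebra.algebraMap_eq_smul_one, Algebra.TensorProduct.one_def, TensorProduct.smul_tmul']

end Groth.Agent.S2966
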