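import Groth.Statements.S0250
import Groth.Agent.Pi1Ext.Spread

set_option autoImplicit false
universe u
open Pi1

namespace Groth.Agent.S0250

open AlgebraicGeometry CategoryTheory CategoryTheory.Limits in
/-- Let X be a Noetherian scheme and U ⊆ X an open subscheme such that purity holds for the local ring
𝒪_{X,x} at every point x outside U. Then restriction of finite étale covers from X to U is
essentially surjective. -/
theorem result {X : Scheme.{u}} [IsNoetherian X] (U : X.Opens)
    (h : ∀ x : X, x ∉ U → FEt.PurityHolds (X.presheaf.stalk x)) : (FEt.restrict U.ι).EssSurj := by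
  refine ⟨fun V => Groth.Agent.Pi1Ext.Spread.exists_extend_all {x | FEt.PurityHolds (X.presheaf.stalk x)}
    (fun U' V' x hx hxS hmin => Groth.Agent.Pi1Ext.Spread.exists_local_extension U' V' x hxS hx hmin) U h V⟩

end Groth.Agent.S0250
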