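import Groth.Statements.S2195
import Groth.Agent.TraceEtale.Basic

set_option autoImplicit false
universe u v
open Disc

namespace Groth.Agent.S2195

/-- Ring form of the statement: let B be an A-algebra which is finite free as an A-module with basis b.
Then A -> B is etale if and only if the discriminant of b (the determinant of the matrix of traces
Tr(b_i b_j)) is a unit of A, i.e. the discriminant locus is empty. -/
theorem result {A : Type u} {B : Type v} [CommRing A] [CommRing B]
    [Algebra A B] {ι : Type} [Fintype ι] [DecidableEq ι] (b : Module.Basis ι A B) :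
    Algebra.Etale A B ↔ IsUnit (Algebra.discr A b) := by
  haveI : Small.{u} B := small_map b.equivFun.toEquiv
  haveI : Module.Finite A B := Module.Finite.of_basis b
  let e : Shrink.{u} B ≃ₐ[A] B := Shrink.algEquiv A B
  let b' := b.map e.symm.toLinearEquiv
  haveI : Module.Finite A (Shrink.{u} B) := Module.Finite.of_basis b'
  haveI : Module.Free A (Shrink.{u} B) := Module.Free.of_basis b'
  have h1 : Algebra.discr A b' = Algebra.discr A b := by
    rw [show (⇑b' : ι → Shrink.{u} B) = e.symm ∘ b from rfl, ← Algebra.discr_eq_discr_of_algEquiv]
  rw [← h1, ← Groth.Agent.TraceEtale.bijective_traceForm_iff b',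
    ← Groth.Agent.TraceEtale.etale_iff_bijective_traceForm]
  exact ⟨fun _ => Algebra.Etale.of_equiv e.symm, fun _ => Algebra.Etale.of_equiv e⟩

end Groth.Agent.S2195
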