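import Groth.Statements.S0239
import Groth.Agent.Pi1X.FEtFull
import Groth.Agent.HensCouple7.Affine
import Groth.Agent.Hensel.FiniteEtaleLift

set_option autoImplicit false
universe u
open Pi1

namespace Groth.Agent.S0239

open AlgebraicGeometry CategoryTheory CategoryTheory.Limits in
/-- For a henselian pair (A, I) in Mathlib's sense, restricting finite etale covers from Spec A to the
closed subscheme Spec (A/I) is an equivalence of categories. -/
theorem result (A : Type u) [CommRing A] (I : Ideal A) [HenselianRing A I] :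
    (FEt.restrict (Spec.map (CommRingCat.ofHom (Ideal.Quotient.mk I)))).IsEquivalence := by
  let i := Spec.map (CommRingCat.ofHom (Ideal.Quotient.mk I))
  haveI : IsClosedImmersion i := IsClosedImmersion.spec_of_surjective _ Ideal.Quotient.mk_surjective
  have hi : Set.range i.base = PrimeSpectrum.zeroLocus (I : Set A) :=
    (range_comap_of_surjective _ _ Ideal.Quotient.mk_surjective).trans (by rw [Ideal.mk_ker])
  have hlift := (Groth.Agent.HensCouple7.henselianRing_iff_lifts A I).1 inferInstance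
  have hmeet : ∀ C : Set (Spec (CommRingCat.of A)), IsClopen C → C.Nonempty → (C ∩ Set.range i.base).Nonempty := by
    intro C hC hne
    by_contra he
    rw [Set.not_nonempty_iff_eq_empty] at he
    have h1 := hlift _ (𝟙 _) inferInstance
    obtain ⟨U, -, hu⟩ := h1 ∅ isClopen_empty
    have h2 : ∅ = U := hu ∅ ⟨isClopen_empty, rfl⟩
    have h3 : C = U := hu C ⟨hC, Set.eq_empty_iff_forall_notMem.2 fun z hz => by
      have : (z.1 : Spec (CommRingCat.of A)) ∈ C ∩ Set.range i.base := ⟨hz, hi.ge z.2⟩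
      rw [he] at this
      exact this⟩
    exact hne.ne_empty (h3.trans h2.symm)
  haveI : (FEt.restrict i).Faithful := Groth.Agent.Pi1X.restrict_faithful i hmeet
  haveI : (FEt.restrict i).Full := Groth.Agent.Pi1X.restrict_full i hmeet fun W C hC => by
    have hl := hlift W.left W.hom W.prop.1
    have hr : Set.range (pullback.fst W.hom i).base = W.hom.base ⁻¹' PrimeSpectrum.zeroLocus (I : Set A) := by
      rw [Scheme.Pullback.range_fst, hi]
    rw [← hr] at hl
    obtain ⟨G, hG, -⟩ := (Groth.Agent.HensCouple7.lifts_range_iff (pullback.fst W.hom i).isEmbedding).2 hl C hC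
    exact ⟨G, hG⟩
  haveI : (FEt.restrict i).EssSurj := ⟨fun U => by
    let u : U.left ⟶ Spec (CommRingCat.of (A ⧸ I)) := U.hom
    haveI : IsFinite u := U.prop.1
    haveI : Etale u := U.prop.2
    haveI : IsAffine U.left := isAffine_of_isAffineHom u
    let φ : CommRingCat.of (A ⧸ I) ⟶ Γ(U.left, ⊤) := (Scheme.ΓSpecIso _).inv ≫ u.appTop
    letI : Algebra (A ⧸ I) Γ(U.left, ⊤) := φ.hom.toAlgebra
    have hU : U.left.isoSpec.hom ≫ Spec.map φ = u := by
      show U.left.toSpecΓ ≫ Spec.map ((Scheme.ΓSpecIso _).inv ≫ u.appTop) = _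
      rw [Spec.map_comp, ← Category.assoc, ← Scheme.toSpecΓ_naturality, Category.assoc,
        ← SpecMap_ΓSpecIso_hom, ← Spec.map_comp, Iso.inv_hom_id, Spec.map_id, Category.comp_id]
    have hφ : FEt.prop (Spec.map φ) := by
      rw [← MorphismProperty.cancel_left_of_respectsIso FEt.prop U.left.isoSpec.hom, hU]
      exact U.prop
    haveI : Module.Finite (A ⧸ I) Γ(U.left, ⊤) :=
      RingHom.finite_algebraMap.1 (by rw [RingHom.algebraMap_toAlgebra]; exact (IsFinite.SpecMap_iff φ).1 hφ.1)
    haveI : Algebra.Etale (A ⧸ I) Γ(U.left, ⊤) := by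
      rw [← RingHom.etale_algebraMap, RingHom.algebraMap_toAlgebra]
      exact (HasRingHomProperty.Spec_iff (P := @Etale)).1 hφ.2
    obtain ⟨B, _, _, hBf, hBe, ⟨e⟩⟩ := Groth.Agent.Hensel.exists_finite_etale_lift (I := I) Γ(U.left, ⊤)
    have hY : FEt.prop (Spec.map (CommRingCat.ofHom (algebraMap A B))) :=
      ⟨(IsFinite.SpecMap_iff _).2 (RingHom.finite_algebraMap.2 hBf),
        (HasRingHomProperty.Spec_iff (P := @Etale)).2 (RingHom.etale_algebraMap.2 hBe)⟩
    refine ⟨MorphismProperty.Over.mk ⊤ _ hY, ⟨MorphismProperty.Over.isoMk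
      (pullbackSymmetry _ _ ≪≫ pullbackSpecIso A (A ⧸ I) B ≪≫
        Scheme.Spec.mapIso e.symm.toRingEquiv.toCommRingCatIso.op ≪≫ U.left.isoSpec.symm) ?_⟩⟩
    show ((pullbackSymmetry _ _).hom ≫ (pullbackSpecIso A (A ⧸ I) B).hom ≫
      Spec.map (CommRingCat.ofHom e.symm.toRingEquiv.toRingHom) ≫ U.left.isoSpec.inv) ≫ u = _
    rw [Category.assoc, Category.assoc, Category.assoc, (Iso.inv_comp_eq _).2 hU.symm, ← Spec.map_comp]
    have he : φ ≫ CommRingCat.ofHom e.symm.toRingEquiv.toRingHom =
        CommRingCat.ofHom (algebraMap (A ⧸ I) (TensorProduct A (A ⧸ I) B)) :=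
      CommRingCat.hom_ext (RingHom.ext fun a => e.symm.commutes a)
    rw [he, pullbackSpecIso_hom_fst']
    exact pullbackSymmetry_hom_comp_fst _ _⟩
  show (FEt.restrict i).IsEquivalence
  exact { }

end Groth.Agent.S0239
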