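import Groth.Statements.S0268
import Groth.Agent.Pi1X.FEtFull
import Groth.Agent.FBaseLib.Basic
import Groth.Agent.S2501
import Mathlib.AlgebraicGeometry.Geometrically.Connected
import Mathlib.AlgebraicGeometry.Morphisms.UniversallyOpen

set_option autoImplicit false
universe u
open Pi1

namespace Groth.Agent.S0268

open AlgebraicGeometry CategoryTheory CategoryTheory.Limits in
/-- Functor form of the surjectivity of pi_1(X) -> pi_1(Spec k): Let X be quasi-compact and
quasi-separated over a field k with X_{kbar} connected. Then the functor pulling back finite etale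
k-schemes to X is full and faithful. -/
theorem result (k : Type u) [Field k] {X : Scheme.{u}} (f : X ⟶ Spec (CommRingCat.of k)) [CompactSpace X]
    [QuasiSeparatedSpace X]
    [ConnectedSpace ↥(pullback f (Spec.map (CommRingCat.ofHom (algebraMap k (AlgebraicClosure k)))))] :
    (FEt.restrict f).Full ∧ (FEt.restrict f).Faithful := by
  haveI : GeometricallyConnected f := by
    let i := Spec.map (CommRingCat.ofHom (algebraMap k (AlgebraicClosure k)))
    haveI : Surjective i := Groth.Agent.GrpSchLib.surjective_spec_map_field _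
    refine ⟨Groth.Agent.FBaseLib.geometrically_of_surjective (P := (ConnectedSpace ·))
      (fun {Z W} q _ _ h => @Groth.Agent.FBaseLib.connectedSpace_of_surjective Z W q inferInstance h) f i ?_⟩
    exact (Groth.Agent.S2501.result (pullback.snd f i)).1
  haveI : Nonempty ↥(Spec (CommRingCat.of k)) := inferInstanceAs (Nonempty (PrimeSpectrum k))
  haveI : Surjective f := inferInstance
  have hC : ∀ C : Set ↥(Spec (CommRingCat.of k)), IsClopen C → C.Nonempty → (C ∩ Set.range f.base).Nonempty :=
    fun C _ hne => by rwa [f.surjective.range_eq, Set.inter_univ]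
  refine ⟨Groth.Agent.Pi1X.restrict_full f hC fun W C hWC => ?_, Groth.Agent.Pi1X.restrict_faithful f hC⟩
  let g : W.left ⟶ Spec (CommRingCat.of k) := W.hom
  let j := pullback.fst g f
  haveI : GeometricallyConnected j := inferInstance
  haveI : UniversallyOpen f := inferInstance
  haveI : UniversallyOpen j := MorphismProperty.pullback_fst g f inferInstance
  have hsat : ∀ p p', j p = j p' → p ∈ C → p' ∈ C := fun p p' he hp =>
    (j.isConnected_preimage_singleton (j p)).isPreconnected.subset_isClopen hWC ⟨p, rfl, hp⟩ he.symm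
  have hco : (j '' C)ᶜ = j '' Cᶜ := by
    ext w
    obtain ⟨p, rfl⟩ := j.surjective w
    constructor
    · exact fun h => ⟨p, fun hp => h ⟨p, hp, rfl⟩, rfl⟩
    · rintro ⟨p', hp', he⟩ ⟨q, hq, he'⟩
      exact hp' (hsat q p' (he'.trans he.symm) hq)
  refine ⟨j '' C, ⟨?_, j.isOpenMap _ hWC.2⟩, ?_⟩
  · rw [← isOpen_compl_iff, hco]
    exact j.isOpenMap _ hWC.compl.2
  · ext p
    exact ⟨fun ⟨q, hq, he⟩ => hsat q p he hq, fun hp => ⟨p, hp, rfl⟩⟩

end Groth.Agent.S0268
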