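import Groth.Statements.S0269
import Groth.Agent.Pi1Ext.GeomModel
import Groth.Agent.Pi1X.FEtBasic

set_option autoImplicit false
universe u
open Pi1

namespace Groth.Agent.S0269

open AlgebraicGeometry CategoryTheory CategoryTheory.Limits in
/-- Functor form of the injectivity of pi_1(X_{kbar}) -> pi_1(X): Let X be quasi-compact and
quasi-separated over a field k with X_{kbar} connected. Every finite etale cover of X_{kbar} admits
an open and closed immersion, over X_{kbar}, into the base change of some finite etale cover of X. -/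
theorem result (k : Type u) [Field k] {X : Scheme.{u}} (f : X ⟶ Spec (CommRingCat.of k)) [CompactSpace X]
    [QuasiSeparatedSpace X]
    [ConnectedSpace ↥(pullback f (Spec.map (CommRingCat.ofHom (algebraMap k (AlgebraicClosure k)))))]
    (V : FEt.Cat (pullback f (Spec.map (CommRingCat.ofHom (algebraMap k (AlgebraicClosure k)))))) :
    ∃ (U : FEt.Cat X) (ι : V ⟶ (FEt.restrict (pullback.fst f (Spec.map (CommRingCat.ofHom (algebraMap k (AlgebraicClosure k)))))).obj U),
      IsOpenImmersion ι.left ∧ IsClosedImmersion ι.left := by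
  let K := AlgebraicClosure k
  obtain ⟨E, _, _, _, _, j, VE, ⟨e⟩⟩ := Groth.Agent.Pi1Ext.Geom.exists_separable_model f K V
  let U : FEt.Cat X := MorphismProperty.Over.mk ⊤ (VE.hom ≫ pullback.fst f (Spec.map (CommRingCat.ofHom (algebraMap k E))))
    (FEt.prop.comp_mem _ _ VE.prop (Groth.Agent.Pi1Ext.Geom.fet_fst f E))
  let πE := pullback.fst f (Spec.map (CommRingCat.ofHom (algebraMap k E)))
  let πK := pullback.fst f (Spec.map (CommRingCat.ofHom (algebraMap k K)))
  let bj := Groth.Agent.Pi1Ext.Geom.bcm f j
  let s0 : pullback VE.hom bj ⟶ pullback (VE.hom ≫ πE) πK :=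
    pullback.lift (pullback.fst VE.hom bj) (pullback.snd VE.hom bj) (by
      rw [pullback.condition_assoc, Groth.Agent.Pi1Ext.Geom.bcm_fst])
  haveI hs0 : Mono s0 := ⟨fun p q h => by
    refine pullback.hom_ext ?_ ?_
    · have := congrArg (· ≫ pullback.fst _ _) h
      simp only [Category.assoc] at this
      exact ((congrArg (p ≫ ·) (pullback.lift_fst _ _ _).symm).trans this).trans (congrArg (q ≫ ·) (pullback.lift_fst _ _ _))
    · have := congrArg (· ≫ pullback.snd _ _) h
      simp only [Category.assoc] at this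
      exact ((congrArg (p ≫ ·) (pullback.lift_snd _ _ _).symm).trans this).trans (congrArg (q ≫ ·) (pullback.lift_snd _ _ _))⟩
  let σ : (FEt.restrict bj).obj VE ⟶ (FEt.restrict πK).obj U :=
    MorphismProperty.Over.homMk s0 (pullback.lift_snd _ _ _)
  have hσ : Mono σ.left := hs0
  let ι := e.inv ≫ σ
  have hm : Mono ι.left := by
    haveI : IsIso e.inv.left := ⟨e.hom.left, congrArg (fun m => m.left) e.inv_hom_id, congrArg (fun m => m.left) e.hom_inv_id⟩
    exact @mono_comp _ _ _ _ _ e.inv.left inferInstance σ.left hσ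
  have hp := Groth.Agent.Pi1X.prop_left ι
  haveI : IsFinite ι.left := hp.1
  haveI : Etale ι.left := hp.2
  haveI := hm
  exact ⟨U, ι, IsOpenImmersion.of_flat_of_mono _, (IsClosedImmersion.iff_isFinite_and_mono _).mpr ⟨inferInstance, hm⟩⟩

end Groth.Agent.S0269
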