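import Groth.Statements.S5117
import Groth.Agent.Pi1Ext.GeomSection
import Groth.Agent.Pi1Ext.GeomDescend
import Groth.Agent.S2501

set_option autoImplicit false
universe u
open Pi1

namespace Groth.Agent.S5117

open AlgebraicGeometry CategoryTheory CategoryTheory.Limits in
/-- (ii bis) ⇒ (i), over a field. Let k be a field with algebraic closure k̄, X a quasi-compact and
quasi-separated k-scheme such that X ×_k k̄ is connected, and X' a connected finite etale cover of
X. If the induced cover X' ×_k k̄ → X ×_k k̄ admits a section, then X' is isomorphic over X to X ×_k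
S' for some finite etale k-scheme S'. (The published statement allows the spectrum of an Artinian
local ring with residue field k as base and asks only that X be quasi-compact; this row takes a
field and X quasi-compact and quasi-separated.) -/
theorem result (k : Type u) [Field k] {X : Scheme.{u}}
    (f : X ⟶ Spec (CommRingCat.of k)) [CompactSpace X] [QuasiSeparatedSpace X]
    [ConnectedSpace ↥(pullback f (Spec.map (CommRingCat.ofHom (algebraMap k (AlgebraicClosure k)))))]
    (X' : FEt.Cat X) [ConnectedSpace X'.left]
    (σ : pullback f (Spec.map (CommRingCat.ofHom (algebraMap k (AlgebraicClosure k)))) ⟶ X'.left)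
    (hσ : σ ≫ X'.hom = pullback.fst f (Spec.map (CommRingCat.ofHom (algebraMap k (AlgebraicClosure k))))) :
    ∃ S' : FEt.Cat (Spec (CommRingCat.of k)), Nonempty ((FEt.restrict f).obj S' ≅ X') := by
  let K := AlgebraicClosure k
  haveI : Etale X'.hom := X'.prop.2
  haveI hgc : GeometricallyConnected f := by
    let i := Spec.map (CommRingCat.ofHom (algebraMap k (AlgebraicClosure k)))
    haveI : Surjective i := Groth.Agent.GrpSchLib.surjective_spec_map_field _
    refine ⟨Groth.Agent.FBaseLib.geometrically_of_surjective (P := (ConnectedSpace ·))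
      (fun {Z W} q _ _ h => @Groth.Agent.FBaseLib.connectedSpace_of_surjective Z W q inferInstance h) f i ?_⟩
    exact (Groth.Agent.S2501.result (pullback.snd f i)).1
  haveI : UniversallyOpen f := inferInstance
  obtain ⟨E, hF, hA, hfd, hsep, ι, s', hs', hs''⟩ :=
    Groth.Agent.Pi1Ext.Geom.exists_separable_section f K X'.hom σ hσ
  let V : FEt.Cat (Spec (CommRingCat.of k)) :=
    MorphismProperty.Over.mk ⊤ (Spec.map (CommRingCat.ofHom (algebraMap k E))) (Groth.Agent.Pi1Ext.Geom.fet_SpecMap E)
  let e₀ : pullback (Spec.map (CommRingCat.ofHom (algebraMap k E))) f ⟶ X'.left :=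
    (pullbackSymmetry (Spec.map (CommRingCat.ofHom (algebraMap k E))) f).hom ≫ s'
  let e : (FEt.restrict f).obj V ⟶ X' := MorphismProperty.Over.homMk e₀ (by
    refine (Category.assoc _ _ _).trans ((congrArg (_ ≫ ·) hs').trans ?_)
    exact pullbackSymmetry_hom_comp_fst _ _)
  haveI : Surjective e.left := by
    obtain ⟨y⟩ := (inferInstance : Nonempty ↥(pullback f (Spec.map (CommRingCat.ofHom (algebraMap k (AlgebraicClosure k))))))
    let z := (pullbackSymmetry (Spec.map (CommRingCat.ofHom (algebraMap k E))) f).inv.base
      ((Groth.Agent.Pi1Ext.Geom.bcm f ι).base y)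
    have hcl := Groth.Agent.Pi1X.isClopen_range (Groth.Agent.Pi1X.prop_left e)
    refine ⟨Set.range_eq_univ.1 ((isClopen_iff.1 hcl).resolve_left fun h => ?_)⟩
    exact h.le ⟨z, rfl⟩
  exact Groth.Agent.Pi1Ext.exists_iso_of_surjective f
    (fun W C hC => Groth.Agent.Pi1Ext.exists_clopen_preimage f W C hC) V e

end Groth.Agent.S5117
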