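import Groth.Statements.S2916
import Groth.Agent.S3709
import Groth.Agent.SGA1Q.Subm
import Groth.Agent.Pi1X.FEtBasic
import Mathlib.AlgebraicGeometry.Morphisms.QuasiFinite
import Mathlib.AlgebraicGeometry.Morphisms.FlatMono
import Mathlib.FieldTheory.IsAlgClosed.AlgebraicClosure
import Groth.Agent.AlgSpLib.EtLocalInst

set_option autoImplicit false
open CategoryTheory CategoryTheory.Limits AlgebraicGeometry Opposite
universe u
open SGA1

namespace Groth.Agent.S2916

/-- Let g : S' ⟶ S be universally submersive with geometrically connected fibres (the base change of S'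
to any algebraically closed field valued point of S is connected). Then S' is connected whenever S
is, and for schemes X, Y etale over S every S'-morphism between their base changes comes from
exactly one S-morphism X ⟶ Y. -/
theorem result {S' S : Scheme.{u}} (g : S' ⟶ S)
    (hg : SGA1.UnivSubmersive g)
    (hconn : ∀ (K : Type u) [Field K] [IsAlgClosed K] (ξ : Spec (CommRingCat.of K) ⟶ S), ConnectedSpace ↑(pullback g ξ)) :
    (ConnectedSpace S → ConnectedSpace S') ∧
    ∀ (X Y : Over S) [Etale X.hom] [Etale Y.hom], Function.Bijective ((Over.pullback g).map : (X ⟶ Y) → _) := by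
  classical
  have hgq : Topology.IsQuotientMap g.base := hg (𝟙 _) (𝟙 _) g (IsPullback.of_id_snd)
  -- geometric points
  have geom : ∀ {T : Scheme.{u}} (t : T), ∃ (K : Type u) (_ : Field K) (_ : IsAlgClosed K)
      (τ : Spec (CommRingCat.of K) ⟶ T), τ (IsLocalRing.closedPoint K) = t := fun {T} t =>
    ⟨AlgebraicClosure (T.residueField t), inferInstance, inferInstance,
      Spec.map (CommRingCat.ofHom (algebraMap (T.residueField t) _)) ≫ T.fromSpecResidueField t,
      Scheme.fromSpecResidueField_apply t _⟩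
  constructor
  · intro hS
    obtain ⟨s₀⟩ := (inferInstance : Nonempty ↥S)
    obtain ⟨t₀, -⟩ := hgq.surjective s₀
    haveI : Nonempty ↥S' := ⟨t₀⟩
    refine connectedSpace_iff_clopen.2 ⟨inferInstance, fun U hU => ?_⟩
    have hsat : g.base ⁻¹' (g.base '' U) = U := by
      refine Set.Subset.antisymm ?_ (Set.subset_preimage_image _ _)
      rintro b ⟨a, ha, e⟩
      obtain ⟨K, _, _, ξ, hξ⟩ := geom (g b)
      haveI := hconn K ξ
      have hr : ∀ c : S', g c = g b → c ∈ Set.range (pullback.fst g ξ).base := by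
        intro c hc
        rw [Scheme.Pullback.range_fst]
        exact ⟨_, hξ.trans hc.symm⟩
      obtain ⟨za, hza⟩ := hr a e
      obtain ⟨zb, hzb⟩ := hr b rfl
      have hcl : IsClopen ((pullback.fst g ξ).base ⁻¹' U) :=
        hU.preimage (pullback.fst g ξ).continuous
      rw [← hzb]
      show zb ∈ (pullback.fst g ξ).base ⁻¹' U
      rw [hcl.eq_univ ⟨za, by show (pullback.fst g ξ).base za ∈ U; rw [hza]; exact ha⟩]
      trivial
    have him : IsClopen (g.base '' U) := by
      constructor
      · rw [← hgq.isClosed_preimage, hsat]; exact hU.1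
      · rw [← hgq.isOpen_preimage, hsat]; exact hU.2
    rcases isClopen_iff.1 him with h | h
    · exact Or.inl (Set.image_eq_empty.1 h)
    · right; rw [← hsat, h, Set.preimage_univ]
  intro X Y _ _
  -- an etale scheme over an algebraically closed field
  have rigid : ∀ (K : Type u) [Field K] [IsAlgClosed K] (x : Spec (CommRingCat.of K) ⟶ S)
      (φ : pullback g x ⟶ Y.left) (_ : φ ≫ Y.hom = pullback.snd g x ≫ x)
      (s₁ s₂ : Spec (CommRingCat.of K) ⟶ pullback g x),
      s₁ ≫ pullback.snd g x = 𝟙 _ → s₂ ≫ pullback.snd g x = 𝟙 _ → s₁ ≫ φ = s₂ ≫ φ := by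
    intro K _ _ x φ hφ s₁ s₂ h₁ h₂
    haveI := hconn K x
    let fK := pullback.snd Y.hom x
    haveI : DiscreteTopology ↥(pullback Y.hom x) := by
      haveI : LocallyQuasiFinite fK := Groth.Agent.AlgSpLib.locallyQuasiFinite_of_formallyUnramified (pullback.snd Y.hom x)
      have h1 := fK.isDiscrete_preimage_singleton (IsLocalRing.closedPoint K)
      have e : fK ⁻¹' {IsLocalRing.closedPoint K} = Set.univ :=
        Set.eq_univ_of_forall fun z => Subsingleton.elim (α := Spec (CommRingCat.of K)) _ _
      exact isDiscrete_univ_iff.1 ((congrArg _root_.IsDiscrete e).mp h1)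
    let φ' : pullback g x ⟶ pullback Y.hom x := pullback.lift φ (pullback.snd g x) hφ
    have hsec : ∀ t : Spec (CommRingCat.of K) ⟶ pullback Y.hom x, t ≫ fK = 𝟙 _ → IsOpenImmersion t := by
      intro t ht
      haveI : Etale t := MorphismProperty.of_postcomp (W := @Etale) (W' := @Etale) t fK
        inferInstance (by rw [ht]; infer_instance)
      haveI : Mono t := mono_of_mono_fac ht
      exact IsOpenImmersion.of_flat_of_mono t
    have hf₁ : (s₁ ≫ φ') ≫ fK = 𝟙 _ := by
      rw [Category.assoc, show φ' ≫ fK = pullback.snd g x from pullback.lift_snd _ _ _, h₁]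
    have hf₂ : (s₂ ≫ φ') ≫ fK = 𝟙 _ := by
      rw [Category.assoc, show φ' ≫ fK = pullback.snd g x from pullback.lift_snd _ _ _, h₂]
    haveI := hsec _ hf₁
    haveI := hsec _ hf₂
    have hpt : ∀ z z', φ' z = φ' z' := fun z z' =>
      (isPreconnected_range φ'.continuous).subsingleton ⟨z, rfl⟩ ⟨z', rfl⟩
    have hrange : Set.range (s₁ ≫ φ').base = Set.range (s₂ ≫ φ').base := by
      apply Set.Subset.antisymm <;> rintro _ ⟨w, rfl⟩ <;> exact ⟨w, hpt _ _⟩
    have e := IsOpenImmersion.isoOfRangeEq_hom_fac (s₁ ≫ φ') (s₂ ≫ φ') hrange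
    have e1 : (IsOpenImmersion.isoOfRangeEq (s₁ ≫ φ') (s₂ ≫ φ') hrange).hom = 𝟙 _ := by
      have e' := congrArg (fun t => t ≫ fK) e
      beta_reduce at e'
      rw [Category.assoc, hf₁, hf₂, Category.comp_id] at e'
      exact e'
    rw [e1, Category.id_comp] at e
    have e2 := congrArg (fun t => t ≫ pullback.fst Y.hom x) e.symm
    beta_reduce at e2
    rw [Category.assoc, Category.assoc, show φ' ≫ pullback.fst Y.hom x = φ from pullback.lift_fst _ _ _] at e2
    exact e2
  have ext_geom : ∀ {W : Scheme.{u}} (a b : W ⟶ Y.left), a ≫ Y.hom = b ≫ Y.hom →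
      (∀ (K : Type u) [Field K] [IsAlgClosed K] (z : Spec (CommRingCat.of K) ⟶ W),
        z ≫ a = z ≫ b) → a = b := by
    intro W a b hab hz
    let W₀ : Over S := Over.mk (a ≫ Y.hom)
    let a₀ : W₀ ⟶ Y := Over.homMk a rfl
    let b₀ : W₀ ⟶ Y := Over.homMk b hab.symm
    haveI := Groth.Agent.Pi1X.isOpenImmersion_equalizer_ι_left a₀ b₀
    haveI : Surjective (equalizer.ι a₀ b₀).left := by
      refine ⟨fun w => ?_⟩
      obtain ⟨K, _, _, z, hzw⟩ := geom w
      let T : Over S := Over.mk (z ≫ a ≫ Y.hom)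
      let z₀ : T ⟶ W₀ := Over.homMk z rfl
      have hzz : z₀ ≫ a₀ = z₀ ≫ b₀ := by ext1; exact hz K z
      refine ⟨(equalizer.lift z₀ hzz).left (IsLocalRing.closedPoint K), ?_⟩
      rw [← Scheme.Hom.comp_apply, ← Over.comp_left, equalizer.lift_ι]
      exact hzw
    haveI : IsIso (equalizer.ι a₀ b₀).left :=
      (isIso_iff_isOpenImmersion_and_surjective _).2 ⟨inferInstance, inferInstance⟩
    rw [← cancel_epi (equalizer.ι a₀ b₀).left]
    exact congr($(equalizer.condition a₀ b₀).left)
  have main : ∀ (f' : pullback X.hom g ⟶ pullback Y.hom g),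
      f' ≫ pullback.snd Y.hom g = pullback.snd X.hom g →
      ∃! u : X.left ⟶ Y.left, u ≫ Y.hom = X.hom ∧
        f' ≫ pullback.fst Y.hom g = pullback.fst X.hom g ≫ u := by
    intro f' hf'
    refine Groth.Agent.S3709.result g hg X.hom Y.hom f' hf' (ext_geom _ _ ?_ fun K _ _ z => ?_)
    · simp only [Category.assoc, pullback.condition, reassoc_of% hf']
      simp only [pullback.map]
      erw [pullback.lift_snd_assoc, pullback.lift_snd_assoc]
      rw [Category.assoc, Category.assoc, pullback.condition]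
    set m₁ := pullback.map X.hom (pullback.fst g g ≫ g) X.hom g (𝟙 _) (pullback.fst g g) (𝟙 S)
      ((Category.comp_id _).trans (Category.id_comp _).symm) (Category.comp_id _)
    set m₂ := pullback.map X.hom (pullback.fst g g ≫ g) X.hom g (𝟙 _) (pullback.snd g g) (𝟙 S)
      ((Category.comp_id _).trans (Category.id_comp _).symm)
      ((Category.comp_id _).trans pullback.condition)
    have hm : m₁ ≫ pullback.fst X.hom g = m₂ ≫ pullback.fst X.hom g := by
      simp only [m₁, m₂, pullback.map, pullback.lift_fst]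
    let x₀ := z ≫ m₁ ≫ pullback.fst X.hom g
    let ψ : pullback g (x₀ ≫ X.hom) ⟶ pullback X.hom g :=
      pullback.lift (pullback.snd _ _ ≫ x₀) (pullback.fst _ _)
        ((Category.assoc _ _ _).trans pullback.condition.symm)
    have hψ : (ψ ≫ f' ≫ pullback.fst Y.hom g) ≫ Y.hom = pullback.snd g (x₀ ≫ X.hom) ≫ x₀ ≫ X.hom := by
      simp only [Category.assoc, pullback.condition, reassoc_of% hf']
      rw [← pullback.condition, ← Category.assoc,
        show ψ ≫ pullback.fst X.hom g = pullback.snd g (x₀ ≫ X.hom) ≫ x₀ from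
          pullback.lift_fst _ _ _]
      simp only [x₀, Category.assoc]
    have mk : ∀ (c : Spec (CommRingCat.of K) ⟶ pullback X.hom g),
        c ≫ pullback.fst X.hom g = x₀ →
        ∃ s : Spec (CommRingCat.of K) ⟶ pullback g (x₀ ≫ X.hom),
          s ≫ pullback.snd g (x₀ ≫ X.hom) = 𝟙 _ ∧ s ≫ ψ = c := by
      intro c hc
      refine ⟨pullback.lift (c ≫ pullback.snd X.hom g) (𝟙 _) (by
        rw [Category.assoc, Category.id_comp, ← pullback.condition, reassoc_of% hc]),
        pullback.lift_snd _ _ _, ?_⟩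
      apply pullback.hom_ext
      · rw [Category.assoc, show ψ ≫ pullback.fst X.hom g = pullback.snd _ _ ≫ x₀ from
          pullback.lift_fst _ _ _, pullback.lift_snd_assoc, Category.id_comp, hc]
      · rw [Category.assoc, show ψ ≫ pullback.snd X.hom g = pullback.fst g (x₀ ≫ X.hom) from
          pullback.lift_snd _ _ _, pullback.lift_fst]
    obtain ⟨s₁, h₁, e₁⟩ := mk (z ≫ m₁) (Category.assoc _ _ _)
    obtain ⟨s₂, h₂, e₂⟩ := mk (z ≫ m₂) (by rw [Category.assoc, ← hm])
    have := rigid K (x₀ ≫ X.hom) (ψ ≫ f' ≫ pullback.fst Y.hom g) hψ s₁ s₂ h₁ h₂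
    rw [reassoc_of% e₁, reassoc_of% e₂] at this
    exact this
  have hmap : ∀ u : X ⟶ Y, ((Over.pullback g).map u).left ≫ pullback.fst Y.hom g =
      pullback.fst X.hom g ≫ u.left := fun u => by simp [Over.pullback]; exact pullback.lift_fst _ _ _
  constructor
  · intro u v huv
    have hu := hmap u
    obtain ⟨w, -, hw⟩ := main _ (Over.w ((Over.pullback g).map u))
    ext1
    exact (hw u.left ⟨Over.w u, hu⟩).trans (hw v.left ⟨Over.w v, huv ▸ hmap v⟩).symm
  · intro φ
    obtain ⟨u, ⟨hu, hu'⟩, -⟩ := main φ.left (Over.w φ)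
    refine ⟨Over.homMk u hu, ?_⟩
    ext1
    apply pullback.hom_ext
    · exact (hmap _).trans hu'.symm
    · exact (Over.w ((Over.pullback g).map (Over.homMk u hu : X ⟶ Y))).trans (Over.w φ).symm

end Groth.Agent.S2916
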