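import Groth.Statements.S0364
import Groth.Agent.KFlatLib.Ring.DualizingPoint
-- import your own Groth.Agent.* helpers here

set_option autoImplicit false
universe u v
open CategoryTheory
attribute [local instance] HasDerivedCategory.standard
open Dual

namespace Groth.Agent.S0364

/-- For a dualizing complex ω over a Noetherian ring and a maximal ideal m with residue field κ = A/m,
the groups Hom(κ, ω[i]) in D(A) vanish except in one degree n, where the group is isomorphic to κ as
an A-module. -/
theorem result (A : Type u) [CommRing A] [IsNoetherianRing A] (ω : Dual.D A) (hω : Dual.IsDualizing A ω) (m : Ideal A) [m.IsMaximal] : ∃ n : ℤ, (∀ i : ℤ, i ≠ n → Subsingleton (Dual.inD A (A ⧸ m) ⟶ ω⟦i⟧)) ∧ Nonempty ((Dual.inD A (A ⧸ m) ⟶ ω⟦n⟧) ≃ₗ[A] (A ⧸ m)) := by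
  haveI := Groth.Agent.KFlatLib.hasLTen A
  haveI := Groth.Agent.KFlatLib.hasRHom (A := A)
  exact Groth.Agent.KFlatLib.exists_unique_ext_point m hω

end Groth.Agent.S0364
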