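import Groth.Statements.S0262
import Groth.Agent.Pi1Ext.ComplGlue
import Groth.Agent.Pi1Ext.Zigzag
import Groth.Agent.Pi1Ext.Spread

set_option autoImplicit false
universe u
open Pi1

namespace Groth.Agent.S0262

open AlgebraicGeometry CategoryTheory CategoryTheory.Limits IsLocalRing TensorProduct
open Groth.Agent.Pi1Ext.PuritySch Groth.Agent.Pi1Ext.RegPurity Groth.Agent.Pi1Ext.Spread

set_option backward.isDefEq.respectTransparency false
set_option backward.isDefEq.respectTransparency.types false
set_option linter.style.haveILetI false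

/-- Restriction along an isomorphism can be undone. -/
noncomputable def restrictCancel {S T : Scheme.{u}} (κ : S ≅ T) (E : FEt.Cat T) :
    (FEt.restrict κ.inv).obj ((FEt.restrict κ.hom).obj E) ≅ E :=
  (restrictComp κ.inv κ.hom (𝟙 T) κ.inv_hom_id.symm E).symm ≪≫ restrictId E

theorem range_comap_punctured (A A' : Type u) [CommRing A] [IsLocalRing A] [CommRing A'] [IsLocalRing A']
    [Algebra A A'] (hm : maximalIdeal A' = (maximalIdeal A).map (algebraMap A A')) (P : PrimeSpectrum A') :
    PrimeSpectrum.comap (algebraMap A A') P = IsLocalRing.closedPoint A ↔ P = IsLocalRing.closedPoint A' := by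
  constructor
  · intro h
    refine PrimeSpectrum.ext ((maximalIdeal.isMaximal A').eq_of_le P.2.ne_top ?_).symm
    rw [hm, Ideal.map_le_iff_le_comap]
    exact (congrArg PrimeSpectrum.asIdeal h).ge
  · rintro rfl
    refine PrimeSpectrum.ext ((maximalIdeal.isMaximal A).eq_of_le (Ideal.IsPrime.ne_top inferInstance) ?_).symm
    show maximalIdeal A ≤ (maximalIdeal A').comap (algebraMap A A')
    rw [← Ideal.map_le_iff_le_comap, ← hm]

open AlgebraicGeometry CategoryTheory CategoryTheory.Limits in
/-- Let A be a Noetherian local ring with completion A^, U the punctured spectrum of A and U' its base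
change to Spec A^. A finite etale cover V of U is the restriction of a finite etale cover of Spec A
if and only if the base change of V to U' is the restriction of a finite etale cover of Spec A^. -/
theorem result (A : Type u) [CommRing A] [IsNoetherianRing A] [IsLocalRing A]
    (V : FEt.Cat (FEt.puncturedSpec A : Scheme.{u})) :
    (∃ Y : FEt.Cat (Spec (CommRingCat.of A)),
      Nonempty ((FEt.restrict (FEt.puncturedSpec A).ι).obj Y ≅ V)) ↔
    (∃ Y' : FEt.Cat (Spec (CommRingCat.of (AdicCompletion (IsLocalRing.maximalIdeal A) A))),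
      Nonempty ((FEt.restrict (pullback.snd (FEt.puncturedSpec A).ι
        (Spec.map (CommRingCat.ofHom
          (algebraMap A (AdicCompletion (IsLocalRing.maximalIdeal A) A)))))).obj Y' ≅
        (FEt.restrict (pullback.fst (FEt.puncturedSpec A).ι
        (Spec.map (CommRingCat.ofHom
          (algebraMap A (AdicCompletion (IsLocalRing.maximalIdeal A) A)))))).obj V)) := by
  let s : Spec (CommRingCat.of (AdicCompletion (maximalIdeal A) A)) ⟶ Spec (CommRingCat.of A) :=
    Spec.map (CommRingCat.ofHom (algebraMap A (AdicCompletion (maximalIdeal A) A)))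
  constructor
  · rintro ⟨Y, ⟨e⟩⟩
    exact ⟨(FEt.restrict s).obj Y, ⟨restrictSquare _ s (pullback.fst (FEt.puncturedSpec A).ι s)
      (FEt.puncturedSpec A).ι pullback.condition.symm Y ≪≫
      (FEt.restrict (pullback.fst (FEt.puncturedSpec A).ι s)).mapIso e⟩⟩
  rintro ⟨Y', ⟨eY⟩⟩
  obtain ⟨C, _, _, _, hC, ⟨eV⟩⟩ := exists_finite_model V
  haveI := Groth.Agent.LC.Canon.isNoetherianRing_completion (R := A)
  let A' := AdicCompletion (maximalIdeal A) A
  have hm : maximalIdeal A' = (maximalIdeal A).map (algebraMap A A') := AdicCompletion.maximalIdeal_eq_map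
  let C' := A' ⊗[A] C
  have hC' : EtOff A' C' := etOff_baseChange hC A' hm
  -- the punctured spectrum of the completion
  let U' := pullback (FEt.puncturedSpec A).ι s
  let q₁ : U' ⟶ (FEt.puncturedSpec A : Scheme.{u}) := pullback.fst (FEt.puncturedSpec A).ι s
  let q₂ : U' ⟶ Spec (CommRingCat.of A') := pullback.snd (FEt.puncturedSpec A).ι s
  have he : Set.range q₂.base = Set.range (FEt.puncturedSpec A').ι.base := by
    rw [Scheme.Pullback.range_snd, Scheme.Opens.range_ι, Scheme.Opens.range_ι]
    ext P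
    exact not_congr (range_comap_punctured A A' hm P)
  let κ := IsOpenImmersion.isoOfRangeEq q₂ (FEt.puncturedSpec A').ι he
  have hκ : κ.inv ≫ q₂ = (FEt.puncturedSpec A').ι := IsOpenImmersion.isoOfRangeEq_inv_fac _ _ he
  -- a finite étale algebra for `Y'`
  haveI : IsAffine Y'.left := by
    haveI : IsFinite Y'.hom := Y'.prop.1
    let y : Y'.left ⟶ Spec (CommRingCat.of A') := Y'.hom
    haveI : IsFinite y := Y'.prop.1
    exact isAffine_of_isAffineHom y
  let φ : CommRingCat.of A' ⟶ Γ(Y'.left, ⊤) := Spec.preimage (Y'.left.isoSpec.inv ≫ Y'.hom)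
  let B' : Type u := Γ(Y'.left, ⊤)
  letI : Algebra A' B' := φ.hom.toAlgebra
  letI : Algebra A B' := ((algebraMap A' B').comp (algebraMap A A')).toAlgebra
  haveI : IsScalarTower A A' B' := IsScalarTower.of_algebraMap_eq fun _ => rfl
  have hφ : Y'.left.isoSpec.hom ≫ sp A' B' = Y'.hom := by
    rw [show sp A' B' = Spec.map φ from rfl, Spec.map_preimage, Iso.hom_inv_id_assoc]
  have hY : FEt.prop (sp A' B') := by
    rw [← MorphismProperty.cancel_left_of_respectsIso (P := FEt.prop) Y'.left.isoSpec.hom, hφ]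
    exact Y'.prop
  obtain ⟨hBfin, hBet⟩ := fet_sp_iff.1 hY
  haveI := hBfin
  let Yo : FEt.Cat (Spec (CommRingCat.of A')) := MorphismProperty.Over.mk ⊤ (sp A' B') hY
  let eo : Yo ≅ Y' := MorphismProperty.Over.isoMk Y'.left.isoSpec.symm (by
    show Y'.left.isoSpec.inv ≫ Y'.hom = sp A' B'
    rw [← hφ, Iso.inv_hom_id_assoc])
  have hB' : FEt.prop (rest A' B') := MorphismProperty.pullback_snd _ _ hY
  let e₁ : obj B' hB' ≅ (FEt.restrict κ.inv).obj ((FEt.restrict q₂).obj Y') :=
    (FEt.restrict (FEt.puncturedSpec A').ι).mapIso eo ≪≫ restrictComp κ.inv q₂ _ hκ.symm Y'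
  -- the base change of the model
  let k : (FEt.puncturedSpec A' : Scheme.{u}) ⟶ (FEt.puncturedSpec A : Scheme.{u}) := κ.inv ≫ q₁
  have hk : k ≫ (FEt.puncturedSpec A).ι = (FEt.puncturedSpec A').ι ≫ s := by
    rw [Category.assoc, pullback.condition, ← Category.assoc, hκ]
  have hp : IsPullback (Spec.map (CommRingCat.ofHom (Algebra.TensorProduct.includeRight : C →ₐ[A] C').toRingHom))
      (sp A' C') (sp A C) s := by
    refine IsPullback.of_iso_pullback ⟨?_⟩ ((pullbackSpecIso A A' C).symm ≪≫ pullbackSymmetry _ _) ?_ ?_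
    · rw [← Spec.map_comp, ← Spec.map_comp]
      congr 1
      ext a
      exact Algebra.TensorProduct.includeRight.commutes a
    · rw [Iso.trans_hom, Category.assoc, pullbackSymmetry_hom_comp_fst]
      exact pullbackSpecIso_inv_snd A A' C
    · rw [Iso.trans_hom, Category.assoc, pullbackSymmetry_hom_comp_snd]
      exact pullbackSpecIso_inv_fst A A' C
  have sq₁ : IsPullback (pullback.fst (rest A C) k ≫ pullback.fst (sp A C) (FEt.puncturedSpec A).ι)
      (pullback.snd (rest A C) k) (sp A C) (k ≫ (FEt.puncturedSpec A).ι) :=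
    (IsPullback.of_hasPullback (rest A C) k).paste_horiz (IsPullback.of_hasPullback (sp A C) (FEt.puncturedSpec A).ι)
  rw [hk] at sq₁
  have sq₂ : IsPullback (pullback.fst (sp A' C') (FEt.puncturedSpec A').ι ≫
      Spec.map (CommRingCat.ofHom (Algebra.TensorProduct.includeRight : C →ₐ[A] C').toRingHom))
      (rest A' C') (sp A C) ((FEt.puncturedSpec A').ι ≫ s) :=
    (IsPullback.of_hasPullback (sp A' C') (FEt.puncturedSpec A').ι).paste_horiz hp
  let e₂ : (FEt.restrict k).obj (obj C (prop_rest C hC)) ≅ obj C' (prop_rest C' hC') :=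
    MorphismProperty.Over.isoMk (sq₁.isoIsPullback _ _ sq₂) (sq₁.isoIsPullback_hom_snd _ _ sq₂)
  let e₃ : obj B' hB' ≅ obj C' (prop_rest C' hC') :=
    e₁ ≪≫ (FEt.restrict κ.inv).mapIso eY ≪≫ (restrictComp κ.inv q₁ k rfl V).symm ≪≫
      (FEt.restrict k).mapIso eV.symm ≪≫ e₂
  obtain ⟨R', _, _, _, u', v', hu', hv'⟩ :=
    Groth.Agent.Pi1Ext.Zigzag.exists_zigzag (prop_rest C' hC') hB' e₃
  obtain ⟨B, _, _, _, eB, R, _, _, _, u, v, hu, hv⟩ :=
    Groth.Agent.Pi1Ext.ComplGlue.exists_descent C B' u' v' hu' hv'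
  haveI : Module.Flat A A' := AdicCompletion.flat_of_isNoetherian _
  haveI : Module.FaithfullyFlat A A' := Module.FaithfullyFlat.of_flat_of_isLocalHom
  haveI : Algebra.Etale A' B' := hBet
  haveI : Algebra.Etale A' (A' ⊗[A] B) := Algebra.Etale.of_equiv eB.symm
  haveI : Algebra.Etale A B := Algebra.Etale.of_etale_tensorProduct_of_faithfullyFlat A'
  have hY0 : FEt.prop (sp A B) := fet_sp_iff.2 ⟨inferInstance, inferInstance⟩
  have hR : EtOff A R := fun g hg => (hu g hg).etale (hC g hg)
  obtain ⟨i₁⟩ := nonempty_iso u hu (prop_rest C hC) (prop_rest R hR)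
  obtain ⟨i₂⟩ := nonempty_iso v hv (MorphismProperty.pullback_snd _ _ hY0) (prop_rest R hR)
  exact ⟨MorphismProperty.Over.mk ⊤ (sp A B) hY0,
    ⟨MorphismProperty.Over.isoMk (Iso.refl _) (by simp) ≪≫ i₂.symm ≪≫ i₁ ≪≫ eV⟩⟩

end Groth.Agent.S0262
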