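import Groth.Statements.S5137
import Groth.Agent.SGA1Q.BaseChange

set_option autoImplicit false
open CategoryTheory CategoryTheory.Limits AlgebraicGeometry
universe u
open SGA1

namespace Groth.Agent.S5137

/-- Quotients by finite groups commute with flat base change. Let p : X ⟶ Y be a quotient of X by the
finite group G acting through ρ, let q : Y ⟶ Z and let b : Z' ⟶ Z be flat; let Y' be the fibre
product of Y and Z' over Z and X' that of X and Y' over Y, and let G act on X' compatibly with the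
projection to X and trivially over Y'. Then X' ⟶ Y' is a quotient of X' by G. -/
theorem result {X Y Z Z' X' Y' : Scheme.{u}} {G : Type u} [Group G] [Finite G]
    (ρ : G →* Aut X) (p : X ⟶ Y) (hp : SGA1.IsQuot ρ p) (q : Y ⟶ Z) (b : Z' ⟶ Z) [Flat b]
    (qY : Y' ⟶ Y) (bY : Y' ⟶ Z') (hY : IsPullback qY bY q b)
    (pX : X' ⟶ X) (p' : X' ⟶ Y') (hX : IsPullback pX p' p qY)
    (ρ' : G →* Aut X') (hρ₁ : ∀ g : G, (ρ' g).hom ≫ pX = pX ≫ (ρ g).hom) (hρ₂ : ∀ g : G, (ρ' g).hom ≫ p' = p') :
    SGA1.IsQuot ρ' p' := by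
  haveI : Flat qY := MorphismProperty.of_isPullback hY.flip inferInstance
  exact SGA1Q.isQuot_baseChange hp qY pX p' hX ρ' hρ₁ hρ₂

end Groth.Agent.S5137
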