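import Groth.Statements.S4698
import Groth.Agent.FlatLoc6.GenFlat
import Groth.Agent.QCoh.FT
import Mathlib.AlgebraicGeometry.Morphisms.FiniteType

set_option autoImplicit false
universe u
open EGA4

namespace Groth.Agent.S4698

open AlgebraicGeometry CategoryTheory in
/-- Let Y be an integral locally Noetherian scheme, u : X → Y a morphism of finite type and F a coherent
O_X-module. Then there is a nonempty open subset U of Y such that F is flat over Y at every point of
u⁻¹(U). -/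
theorem result {X Y : Scheme.{u}} (u : X ⟶ Y) [IsIntegral Y] [IsLocallyNoetherian Y]
    [LocallyOfFiniteType u] [QuasiCompact u] (F : X.Modules) (hF : Coh.IsCoh F) :
    ∃ U : Y.Opens, (U : Set Y).Nonempty ∧ ∀ x : X, u.base x ∈ U → FlatMod.IsFlatOverAt u F x := by
    classical
    obtain ⟨y₀⟩ : Nonempty Y := inferInstance
    obtain ⟨_, ⟨V, hV, rfl⟩, hyV, -⟩ :=
      Y.isBasis_affineOpens.exists_subset_of_mem_open (Set.mem_univ y₀) isOpen_univ
    haveI : Nonempty (V : TopologicalSpace.Opens Y) := ⟨⟨y₀, hyV⟩⟩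
    haveI : IsNoetherianRing Γ(Y, V) := IsLocallyNoetherian.component_noetherian ⟨V, hV⟩
    have hcomp : IsCompact ((u ⁻¹ᵁ V : X.Opens) : Set X) := u.isCompact_preimage hV.isCompact
    obtain ⟨t, ht⟩ := hcomp.elim_finite_subcover
      (fun U : { U : X.affineOpens // U.1 ≤ u ⁻¹ᵁ V } => ((U.1.1 : X.Opens) : Set X)) (fun U => U.1.1.2) (fun x hx => by
        obtain ⟨_, ⟨U, hU, rfl⟩, hxU, hle⟩ :=
          X.isBasis_affineOpens.exists_subset_of_mem_open hx (u ⁻¹ᵁ V).2
        exact Set.mem_iUnion.mpr ⟨⟨⟨U, hU⟩, hle⟩, hxU⟩)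
    have key : ∀ U : { U : X.affineOpens // U.1 ≤ u ⁻¹ᵁ V }, ∃ a : Γ(Y, V), a ≠ 0 ∧
        ∀ x ∈ U.1.1, u.base x ∈ Y.basicOpen a → FlatMod.IsFlatOverAt u F x := by
      rintro ⟨⟨U, hU⟩, hle⟩
      letI : Algebra Γ(Y, V) Γ(X, U) := (u.appLE V U hle).hom.toAlgebra
      letI : Module Γ(Y, V) Γ(F, U) := Module.compHom _ (u.appLE V U hle).hom
      haveI : IsScalarTower Γ(Y, V) Γ(X, U) Γ(F, U) := IsScalarTower.of_algebraMap_smul fun _ _ => rfl
      haveI : Algebra.FiniteType Γ(Y, V) Γ(X, U) := u.finiteType_appLE hV hU hle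
      haveI : Module.Finite Γ(X, U) Γ(F, U) := Groth.Agent.QCoh.finite_of_isFT hF.1 hF.2 hU
      obtain ⟨a, ha0, hgf⟩ := Groth.Agent.GenFree.exists_gfree (R := Γ(Y, V)) (M := Γ(F, U)) Γ(X, U)
      refine ⟨a, ha0, fun x hx hxa => ?_⟩
      rw [Groth.Agent.QCoh.isFlatOverAt_iff u hV hle hx]
      letI := Groth.Agent.QCoh.stalkModule F hx
      letI := Groth.Agent.QCoh.stalkAlg (X := X) (U := U) (x := x) hx
      letI : Module Γ(Y, V) (F.presheaf.stalk x) :=
        Module.compHom _ ((u.appLE V U hle) ≫ X.presheaf.germ U x hx).hom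
      haveI : IsScalarTower Γ(Y, V) Γ(X, U) (F.presheaf.stalk x) := IsScalarTower.of_algebraMap_smul fun _ _ => rfl
      haveI := Groth.Agent.QCoh.isLocalization_stalk' hU hx
      haveI := Groth.Agent.QCoh.isLocalizedModule_germLin hF.1 hU hx
      refine Groth.Agent.FlatLoc6.flat_of_gfree (hU.primeIdealOf ⟨x, hx⟩).asIdeal.primeCompl
        (Groth.Agent.QCoh.germLin F hx) ?_ hgf
      refine (IsLocalization.AtPrime.isUnit_to_map_iff (X.presheaf.stalk x) _ _).mp ?_
      have hx' : x ∈ X.basicOpen (u.appLE V U hle a) := by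
        rw [Scheme.basicOpen_appLE]
        exact ⟨hx, hxa⟩
      exact (Scheme.mem_basicOpen _ _ _ hx).mp hx'
    choose a ha0 ha using key
    refine ⟨Y.basicOpen (∏ i ∈ t, a i), ?_, fun x hx => ?_⟩
    · refine Set.nonempty_iff_ne_empty.mpr fun h => (Finset.prod_ne_zero_iff.mpr fun i _ => ha0 i : (∏ i ∈ t, a i) ≠ 0) ?_
      rw [← basicOpen_eq_bot_iff]
      exact SetLike.coe_injective (by simpa using h)
    · have hxV : x ∈ ((u ⁻¹ᵁ V : X.Opens) : Set X) := Y.basicOpen_le _ hx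
      obtain ⟨i, hi, hxi⟩ := Set.mem_iUnion₂.mp (ht hxV)
      refine ha i x hxi ?_
      have hdvd := Finset.dvd_prod_of_mem a hi
      obtain ⟨c, hc⟩ := hdvd
      rw [hc, Scheme.basicOpen_mul] at hx
      exact hx.1

end Groth.Agent.S4698
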