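import Groth.Statements.S1455
import Groth.Agent.FlatStrat.Sheaf
import Groth.Agent.QCoh.ExtendFT

set_option autoImplicit false
universe u
open FlatMor

namespace Groth.Agent.S1455

open AlgebraicGeometry CategoryTheory CategoryTheory.Limits TopologicalSpace Groth.Agent TensorProduct

set_option backward.isDefEq.respectTransparency false in
set_option backward.isDefEq.respectTransparency.types false in
theorem exists_good_pieces {X S : Scheme.{u}} (f : X ⟶ S) [LocallyOfFinitePresentation f] [QuasiCompact f]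
    [CompactSpace ↑S] [QuasiSeparatedSpace ↑S] (F : X.Modules) (hq : Coh.IsQCoh F) (hfp : CohB1.IsFP F)
    (V : S.affineOpens) : ∃ l : List (FlatStrat.Piece S), (∀ P ∈ l, P.Good f F) ∧
      ∀ s ∈ V.1, ∃ P ∈ l, s ∈ P.J.support ∧ s ∈ P.W := by
  classical
  obtain ⟨V, hV⟩ := V
  have hc : IsCompact ((f ⁻¹ᵁ V : X.Opens) : Set X) := f.isCompact_preimage hV.isCompact
  obtain ⟨t, ht⟩ := hc.elim_finite_subcover
    (fun U : { U : X.affineOpens // U.1 ≤ f ⁻¹ᵁ V } => ((U.1.1 : X.Opens) : Set X)) (fun U => U.1.1.2) (fun x hx => by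
      obtain ⟨U, hU, hxU, hle⟩ := exists_isAffineOpen_mem_and_subset (U := f ⁻¹ᵁ V) (x := x) hx
      exact Set.mem_iUnion.mpr ⟨⟨⟨U, hU⟩, hle⟩, hxU⟩)
  let P : { U : X.affineOpens // U.1 ≤ f ⁻¹ᵁ V } → Ideal Γ(S, V) → Γ(S, V) → Prop := fun U p g =>
    @FlatStrat.Triv Γ(S, V) _ Γ(F, U.1.1) _ (Module.compHom _ (f.appLE V U.1.1 U.2).hom) p g
  obtain ⟨L, hL, hcov⟩ := FlatStrat.exists_common_cover t P (fun U p g p' g' h =>
    @FlatStrat.Triv.mono _ _ _ _ (Module.compHom _ (f.appLE V U.1.1 U.2).hom) p p' g g' h) (by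
    rintro ⟨⟨U, hU⟩, hle⟩ -
    letI : Algebra Γ(S, V) Γ(X, U) := (f.appLE V U hle).hom.toAlgebra
    letI : Module Γ(S, V) Γ(F, U) := Module.compHom _ (f.appLE V U hle).hom
    haveI : IsScalarTower Γ(S, V) Γ(X, U) Γ(F, U) := IsScalarTower.of_algebraMap_smul fun _ _ => rfl
    haveI : Algebra.FinitePresentation Γ(S, V) Γ(X, U) := f.finitePresentation_appLE hV hU hle
    haveI : Module.FinitePresentation Γ(X, U) Γ(F, U) := QCoh.finitePresentation_of_isFP hfp hU
    exact FlatStrat.exists_triv_cover (S := Γ(X, U)) Γ(F, U))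
  have hpiece : ∀ x : L, ∃ Q : FlatStrat.Piece S, Q.W = S.basicOpen x.1.2 ∧ x.1.1 ≤ Q.J.ideal ⟨V, hV⟩ ∧
      S.zeroLocus (U := V) x.1.1 ⊆ Q.J.support :=
    fun x => FlatStrat.exists_piece hV x.1.1 (hL x.1 x.2).1 x.1.2
  choose Q hQW hQp hQs using hpiece
  refine ⟨L.attach.toList.map Q, fun P' hP' => ?_, fun s hs => ?_⟩
  · obtain ⟨x, -, rfl⟩ := List.mem_map.1 hP'
    intro T h t₀ W₁ htW₁ hW₁ hkill x' hx'
    have hW₁V : W₁.1 ≤ V := hW₁.trans ((hQW x).le.trans (S.basicOpen_le _))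
    have hfx : f (pullback.fst f h x') ∈ V := by
      rw [← Scheme.Hom.comp_apply, pullback.condition, Scheme.Hom.comp_apply, hx']
      exact hW₁V htW₁
    obtain ⟨U, hUt, hxU⟩ := Set.mem_iUnion₂.1 (ht hfx)
    obtain ⟨O, hO, htO, hOW⟩ := exists_isAffineOpen_mem_and_subset (U := h ⁻¹ᵁ W₁.1) (x := t₀) htW₁
    have hOW' : O ≤ h ⁻¹ᵁ W₁.1 := hOW
    have hOV : O ≤ h ⁻¹ᵁ V := hOW'.trans (fun s hs => hW₁V hs)
    refine FlatStrat.isFlatOverAt_pullback (IsPullback.of_hasPullback f h) hq hV U.1.2 U.2 hO hOV x' hxU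
      (by rw [hx']; exact htO) ?_
    letI : Algebra Γ(S, V) Γ(T, O) := (h.appLE V O hOV).hom.toAlgebra
    letI : Module Γ(S, V) Γ(F, U.1.1) := Module.compHom _ (f.appLE V U.1.1 U.2).hom
    have hfac : ∀ a, algebraMap Γ(S, V) Γ(T, O) a = h.appLE W₁.1 O hOW' (S.presheaf.map (homOfLE hW₁V).op a) := by
      intro a
      rw [← CommRingCat.comp_apply, Scheme.Hom.map_appLE]
      rfl
    refine (hL x.1 x.2).2 U hUt Γ(T, O) (fun a ha => ?_) ?_
    · have h1 : S.presheaf.map (homOfLE hW₁V).op a ∈ (Q x).J.ideal W₁ :=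
        (Q x).J.ideal_le_comap_ideal (U := W₁) (V := ⟨V, hV⟩) hW₁V (hQp x ha)
      rw [hfac, Scheme.Hom.appLE, CommRingCat.comp_apply, hkill _ h1, map_zero]
    · rw [hfac]
      refine IsUnit.map _ ?_
      have h2 : IsUnit (S.presheaf.map (homOfLE (S.basicOpen_le x.1.2)).op x.1.2) :=
        QCoh.isUnit_rf_basicOpen x.1.2
      have h3 := h2.map (S.presheaf.map (homOfLE (hW₁.trans (hQW x).le)).op).hom
      rw [← CommRingCat.comp_apply, ← Functor.map_comp] at h3
      exact h3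
  · obtain ⟨x, hx, hp, hg⟩ := hcov (hV.primeIdealOf ⟨s, hs⟩).asIdeal inferInstance
    refine ⟨Q ⟨x, hx⟩, List.mem_map.2 ⟨_, Finset.mem_toList.2 (Finset.mem_attach _ _), rfl⟩, ?_, ?_⟩
    · refine hQs ⟨x, hx⟩ ?_
      rw [Scheme.mem_zeroLocus_iff]
      intro a ha hb
      have h3 : hV.primeIdealOf ⟨s, hs⟩ ∈ PrimeSpectrum.basicOpen a := by
        rw [← hV.fromSpec_preimage_basicOpen]
        show hV.fromSpec (hV.primeIdealOf ⟨s, hs⟩) ∈ S.basicOpen a
        rwa [hV.fromSpec_primeIdealOf]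
      exact h3 (hp ha)
    · rw [hQW]
      have h3 : hV.primeIdealOf ⟨s, hs⟩ ∈ PrimeSpectrum.basicOpen x.2 := hg
      rw [← hV.fromSpec_preimage_basicOpen] at h3
      have h4 : hV.fromSpec (hV.primeIdealOf ⟨s, hs⟩) ∈ S.basicOpen x.2 := h3
      rwa [hV.fromSpec_primeIdealOf] at h4

theorem exists_fin_of_chain {X S : Scheme.{u}} (f : X ⟶ S) (F : X.Modules) {I₀ : S.IdealSheafData}
    (h : Relation.ReflTransGen (FlatStrat.Step f F) I₀ ⊤) :
    ∃ (t : ℕ) (I : Fin (t + 1) → S.IdealSheafData), I 0 = I₀ ∧ Monotone I ∧ I (Fin.last t) = ⊤ ∧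
      (∀ i, ∀ U : S.affineOpens, ((I i).ideal U).FG) ∧
      ∀ i : Fin t, FlatMod.IsFlatOver (pullback.snd f (FlatStrat.strat (I i.castSucc) (I i.succ)))
        ((Scheme.Modules.pullback (pullback.fst f (FlatStrat.strat (I i.castSucc) (I i.succ)))).obj F) := by
  induction h using Relation.ReflTransGen.head_induction_on with
  | refl =>
    refine ⟨0, fun _ => ⊤, rfl, monotone_const, rfl, fun _ U => ?_, fun i => i.elim0⟩
    rw [Scheme.IdealSheafData.ideal_top]
    exact ⟨{1}, by rw [Finset.coe_singleton]; exact Ideal.span_singleton_one⟩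
  | @head a b hab _ ih =>
    obtain ⟨t, I, h0, hmono, hlast, hfg, hflat⟩ := ih
    refine ⟨t + 1, Fin.cons a I, rfl, Fin.monotone_iff_le_succ.2 fun i => ?_, ?_, fun i => ?_, fun i => ?_⟩
    · induction i using Fin.cases with
      | zero => simpa [h0] using hab.1
      | succ j => simpa [← Fin.succ_castSucc] using Fin.monotone_iff_le_succ.1 hmono j
    · rw [← Fin.succ_last, Fin.cons_succ, hlast]
    · induction i using Fin.cases with
      | zero => exact hab.2.1
      | succ j => rw [Fin.cons_succ]; exact hfg j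
    · induction i using Fin.cases with
      | zero =>
        rw [Fin.castSucc_zero, Fin.cons_zero, Fin.cons_succ, h0]
        exact hab.2.2
      | succ j =>
        rw [← Fin.succ_castSucc, Fin.cons_succ, Fin.cons_succ]
        exact hflat j

open AlgebraicGeometry CategoryTheory Limits in
/-- Let f : X → S be of finite presentation with X and S quasi-compact and quasi-separated, and F a
finitely presented quasi-coherent O_X-module. Then there are t ≥ 0 and ideal sheaves I_0 ≤ I_1 ≤ ...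
≤ I_t = O_S on S, each of finite type, with I_0 cutting out a thickening of S (its support is all of
S), such that for each i the pullback of F to the part of X over the locally closed stratum
supp(I_i) ∖ supp(I_{i+1}) is flat over that stratum. -/
theorem result {X S : Scheme.{u}} (f : X ⟶ S) [LocallyOfFinitePresentation f] [QuasiCompact f] [QuasiSeparated f]
    [CompactSpace ↑S] [QuasiSeparatedSpace ↑S] (F : X.Modules) (hq : Coh.IsQCoh F) (hfp : CohB1.IsFP F) :
    ∃ (t : ℕ) (I : Fin (t + 1) → S.IdealSheafData), Monotone I ∧ I (Fin.last t) = ⊤ ∧ ((I 0).support : Set ↑S) = Set.univ ∧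
      (∀ i, ∀ U : S.affineOpens, ((I i).ideal U).FG) ∧
      ∀ i : Fin t, FlatMod.IsFlatOver
        (pullback.snd f (((I i.castSucc).subschemeι ⁻¹ᵁ (I i.succ).support.compl).ι ≫ (I i.castSucc).subschemeι))
        ((Scheme.Modules.pullback (pullback.fst f (((I i.castSucc).subschemeι ⁻¹ᵁ (I i.succ).support.compl).ι ≫ (I i.castSucc).subschemeι))).obj F) := by
  classical
  choose l hl hlcov using exists_good_pieces f F hq hfp
  obtain ⟨s, hs, hcov⟩ := isCompact_iff_finite_and_eq_biUnion_affineOpens.mp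
    (show IsCompact ((⊤ : S.Opens) : Set S) from isCompact_univ)
  have h : Relation.ReflTransGen (Groth.Agent.FlatStrat.Step f F) ⊥ ⊤ := by
    refine Groth.Agent.FlatStrat.chain_of_pieces f F (hs.toFinset.toList.flatMap l) (fun P hP => ?_) ⊥ ⊤ bot_le
      (fun _ => Submodule.fg_bot) (fun U => ?_) (fun x _ _ => ?_)
    · obtain ⟨V, -, hV⟩ := List.mem_flatMap.1 hP
      exact hl V P hV
    · rw [Scheme.IdealSheafData.ideal_top]
      exact ⟨{1}, by rw [Finset.coe_singleton]; exact Ideal.span_singleton_one⟩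
    · have hx : x ∈ ((⊤ : S.Opens) : Set S) := trivial
      rw [hcov] at hx
      simp only [TopologicalSpace.Opens.coe_iSup, Set.mem_iUnion] at hx
      obtain ⟨V, hV, hxV⟩ := hx
      obtain ⟨P, hP, h1, h2⟩ := hlcov V x hxV
      exact ⟨P, List.mem_flatMap.2 ⟨V, Finset.mem_toList.2 (hs.mem_toFinset.2 hV), hP⟩, h1, h2⟩
  obtain ⟨t, I, h0, hmono, hlast, hfg, hflat⟩ := exists_fin_of_chain f F h
  refine ⟨t, I, hmono, hlast, ?_, hfg, hflat⟩
  rw [h0, Scheme.IdealSheafData.support_bot]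
  rfl

end Groth.Agent.S1455
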