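import Groth.Statements.S6463
import Groth.Agent.S5342
import Groth.Agent.SeesawX.Unit
import Groth.Agent.H23.RigidGamma
import Groth.Agent.GrpSchLib.SmoothReduced

set_option autoImplicit false
universe u
open CategoryTheory CategoryTheory.Limits AlgebraicGeometry
open PicF

namespace Groth.Agent.S6463
set_option backward.isDefEq.respectTransparency false
set_option backward.isDefEq.respectTransparency.types false


/-- For a field k and a smooth projective curve X over k that has a k-rational point σ, the conditions
under which the Picard functor is computed through the section are met: f : X → Spec k is flat,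
proper and of finite presentation with a section, and O_T → f_{T,*} O_{X_T} is an isomorphism for
every scheme T over k. Only the last assertion is stated (the others are part of the hypotheses or
immediate): for every t : T → Spec k, the sheaf map of the base change X ×_k T → T is an
isomorphism. Proper replaces projective (they agree for curves over a field). -/
theorem result (k : Type u) [Field k] (X : Scheme.{u}) (f : X ⟶ Spec (CommRingCat.of k)) (hX : Curve.IsSmoothProperCurve k X f) (σ : Spec (CommRingCat.of k) ⟶ X) (hσ : σ ≫ f = 𝟙 (Spec (CommRingCat.of k))) (T : Scheme.{u}) (t : T ⟶ Spec (CommRingCat.of k)) : IsIso (pullback.snd f t).c := by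
  obtain ⟨hp, hs, hint, -⟩ := hX
  haveI := hp
  haveI := hs
  haveI := hint
  letI : X.Over (Spec (CommRingCat.of k)) := ⟨f⟩
  let x₀ : X := σ.base (IsLocalRing.closedPoint k)
  have hres : Function.Surjective (Curv2.resMap k X x₀) := by
    let φ : X.residueField x₀ ⟶ CommRingCat.of k := (Scheme.SpecToEquivOfField k X σ).2
    have hφ : Spec.map φ ≫ X.fromSpecResidueField x₀ = σ :=
      (Scheme.SpecToEquivOfField k X).symm_apply_apply σ
    have hf : X.fromSpecResidueField x₀ ≫ f = Spec.map (CommRingCat.ofHom (Curv2.resMap k X x₀)) := by
      have h1 : f = X.toSpecΓ ≫ Spec.map (CommRingCat.ofHom (Coh.toGlobal f)) :=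
        Groth.Agent.S5342.eq_toSpecΓ_comp f
      rw [Scheme.fromSpecResidueField, Category.assoc]
      conv_lhs => rw [h1]
      rw [Scheme.fromSpecStalk_toSpecΓ_assoc, ← Spec.map_comp, ← Spec.map_comp]
      rfl
    have hid : CommRingCat.ofHom (Curv2.resMap k X x₀) ≫ φ = 𝟙 (CommRingCat.of k) := by
      apply Spec.map_injective
      rw [Spec.map_comp, Spec.map_id, ← hf, ← Category.assoc, hφ, hσ]
    intro a
    refine ⟨φ.hom a, φ.hom.injective ?_⟩
    exact congrArg (fun m => m.hom (φ.hom a)) hid
  haveI : GeometricallyConnected f :=
    Groth.Agent.GeomField.geometricallyConnected_of_point (X := X) x₀ fun a _ => hres a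
  haveI : GeometricallyReduced f := Groth.Agent.GrpSchLib.geometricallyReduced_of_smooth f
  haveI : IsProper (pullback.snd f t) := MorphismProperty.pullback_snd (P := @IsProper) _ _ inferInstance
  have h := Groth.Agent.SeesawX.bijective_app_baseChange f (Groth.Agent.H23.RigidGamma.constFibres f)
    (g := t) (fT := pullback.snd f t) (gT := pullback.fst f t) (IsPullback.of_hasPullback f t)
  haveI : ∀ U, IsIso ((pullback.snd f t).c.app U) := fun U =>
    (ConcreteCategory.isIso_iff_bijective _).2 (h U.unop)
  exact NatIso.isIso_of_isIso_app _

end Groth.Agent.S6463
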