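import Groth.Statements.S10964
import Groth.Agent.InvX.Frame
-- import your own Groth.Agent.* helpers here

set_option autoImplicit false
universe u
open CategoryTheory AlgebraicGeometry TopologicalSpace Opposite
open PicF

namespace Groth.Agent.S10964

/-- Let X be a scheme with an open cover (U_i)_{i ∈ ι}. Let L and L' be O_X-modules with sections s_i of
L and s'_i of L' over U_i that generate there (for every open V ⊆ U_i, r ↦ r · s_i|_V is a bijection
from functions on V onto sections of L over V, and likewise for s'_i), and let η_ij, η'_ij be the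
functions on U_i ∩ U_j with s_i = η_ij · s_j and s'_i = η'_ij · s'_j there. Then L and L' are
isomorphic as O_X-modules if and only if there is a family of units u_i of the rings of functions on
the U_i with η'_ij · u_i|_{U_i ∩ U_j} = u_j|_{U_i ∩ U_j} · η_ij for all i, j. (So two invertible
modules trivialised by the cover are isomorphic exactly when their transition cocycles define the
same Čech cohomology class.) -/
theorem result (X : Scheme.{u}) {ι : Type u} (U : ι → X.Opens)
    (hU : iSup U = ⊤) (L L' : X.Modules) (s : ∀ i : ι, Γ(L, U i)) (s' : ∀ i : ι, Γ(L', U i))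
    (hs : ∀ (i : ι) (V : X.Opens) (h : V ≤ U i),
        Function.Bijective (fun r : Γ(X, V) => r • L.presheaf.map (homOfLE h).op (s i)))
    (hs' : ∀ (i : ι) (V : X.Opens) (h : V ≤ U i),
        Function.Bijective (fun r : Γ(X, V) => r • L'.presheaf.map (homOfLE h).op (s' i)))
    (η η' : ∀ i j : ι, Γ(X, U i ⊓ U j))
    (hη : ∀ i j : ι, L.presheaf.map (homOfLE (inf_le_left : U i ⊓ U j ≤ U i)).op (s i) =
        η i j • L.presheaf.map (homOfLE (inf_le_right : U i ⊓ U j ≤ U j)).op (s j))
    (hη' : ∀ i j : ι, L'.presheaf.map (homOfLE (inf_le_left : U i ⊓ U j ≤ U i)).op (s' i) =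
        η' i j • L'.presheaf.map (homOfLE (inf_le_right : U i ⊓ U j ≤ U j)).op (s' j)) :
    Nonempty (L ≅ L') ↔ ∃ u : ∀ i : ι, (Γ(X, U i))ˣ, ∀ i j : ι,
      η' i j * X.presheaf.map (homOfLE (inf_le_left : U i ⊓ U j ≤ U i)).op (u i : Γ(X, U i)) =
        X.presheaf.map (homOfLE (inf_le_right : U i ⊓ U j ≤ U j)).op (u j : Γ(X, U j)) * η i j := by
  open Groth.Agent.InvX Groth.Agent.AModX in
  · have hcov : ∀ x : X, ∃ a, x ∈ U a := fun x => TopologicalSpace.Opens.mem_iSup.1 (hU ▸ trivial)
    have hfs : ∀ i, IsFrame (s i) := hs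
    have hfs' : ∀ i, IsFrame (s' i) := hs'
    have hη1 : ∀ i j, res L inf_le_left (s i) = η i j • res L (inf_le_right : U i ⊓ U j ≤ U j) (s j) := hη
    have hη2 : ∀ i j, res L' inf_le_left (s' i) = η' i j • res L' (inf_le_right : U i ⊓ U j ≤ U j) (s' j) := hη'
    constructor
    · rintro ⟨φ⟩
      have hv := fun i => (hfs' i).exists_coord le_rfl (φ.hom.app (U i) (s i))
      have hw := fun i => (hfs i).exists_coord le_rfl (φ.inv.app (U i) (s' i))
      simp only [res_self] at hv hw
      choose v hv using hv
      choose w hw using hw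
      have hid : ∀ i, v i * w i = 1 := fun i => (hfs i).coord_unique le_rfl (by
        rw [res_self, one_smul, mul_smul, ← hw, ← Scheme.Modules.Hom.app_smul, ← hv]
        exact congr($(φ.hom_inv_id).app (U i) (s i)))
      refine ⟨fun i => Units.mkOfMulEqOne (v i) (w i) (hid i), fun i j => ?_⟩
      refine (hfs' j).coord_unique inf_le_right ?_
      show (η' i j * resR inf_le_left (v i)) • _ = (resR inf_le_right (v j) * η i j) • _
      rw [mul_comm (η' i j), mul_smul, ← hη2, ← res_smul, ← hv, ← app_res, hη1,
        Scheme.Modules.Hom.app_smul, app_res, hv, res_smul, ← mul_smul, mul_comm (η i j)]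
    · rintro ⟨u, hu⟩
      have hu' : ∀ i j, η' i j * resR inf_le_left (u i : Γ(X, U i)) =
          resR (inf_le_right : U i ⊓ U j ≤ U j) (u j : Γ(X, U j)) * η i j := hu
      have hrel : ∀ (a b : ι) (W : X.Opens) (ha : W ≤ U a) (hb : W ≤ U b),
          ∃ t : Γ(X, W), res L ha (s a) = t • res L hb (s b) ∧
            res L' ha ((u a : Γ(X, U a)) • s' a) = t • res L' hb ((u b : Γ(X, U b)) • s' b) := by
        intro a b W ha hb
        refine ⟨resR (le_inf ha hb) (η a b), ?_, ?_⟩
        · rw [← res_res inf_le_left (le_inf ha hb), hη1, res_smul, res_res]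
        · rw [← res_res inf_le_left (le_inf ha hb), res_smul, hη2, ← mul_smul, mul_comm (resR _ _) (η' a b), hu', res_smul,
            res_res, map_mul, mul_comm (resR _ (resR _ _)), mul_smul, resR_resR, res_smul hb]
      let e' : ∀ i, Γ(L', U i) := fun i => (u i : Γ(X, U i)) • s' i
      have hfe : ∀ i, IsFrame (e' i) := fun i => (hfs' i).isUnit_smul (u i).isUnit
      let φ : L ⟶ L' := ofFrames (U := U) (e := s) (n := e') hcov hfs fun a b W ha hb g h => by
        obtain ⟨t, h1, h2⟩ := hrel a b W ha hb
        rw [h1, ← mul_smul] at h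
        rw [h2, ← mul_smul, ← (hfs b).coord_unique hb ((one_smul _ _).trans h), one_smul]
      let ψ : L' ⟶ L := ofFrames (U := U) (e := e') (n := s) hcov hfe fun a b W ha hb g h => by
        obtain ⟨t, h1, h2⟩ := hrel a b W ha hb
        rw [h2, ← mul_smul] at h
        rw [h1, ← mul_smul, ← (hfe b).coord_unique hb ((one_smul _ _).trans h), one_smul]
      refine ⟨⟨φ, ψ, hom_ext_of_frames U hcov s hfs fun a => ?_, hom_ext_of_frames U hcov e' hfe fun a => ?_⟩⟩
      · show ψ.app (U a) (φ.app (U a) (s a)) = s a
        rw [show φ.app (U a) (s a) = e' a from ofFrames_app _ _ _ a]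
        exact ofFrames_app _ _ _ a
      · show φ.app (U a) (ψ.app (U a) (e' a)) = e' a
        rw [show ψ.app (U a) (e' a) = s a from ofFrames_app _ _ _ a]
        exact ofFrames_app _ _ _ a

end Groth.Agent.S10964
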