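import Groth.Statements.S1170
import Groth.Agent.RelCurveDiv.Proper
import Groth.Agent.CurveFin.RelDim
import Groth.Agent.CurveFin.Main
import Groth.Agent.S1166
-- import your own Groth.Agent.* helpers here

set_option autoImplicit false
open CategoryTheory CategoryTheory.Limits AlgebraicGeometry
universe u
open HilbD

namespace Groth.Agent.S1170

/-- Let X be a smooth proper curve over a field k which stays irreducible after every extension of the
base field. Then for every d the degree-d Hilbert functor of points of X over k is represented by a
scheme which is proper and smooth over k. The published statement has projective in place of proper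
(the two agree for curves over a field) and also asserts that the representing scheme is irreducible
of dimension d, which is not asserted here. -/
theorem result (k : Type u) [Field k] (X : Scheme.{u}) (f : X ⟶ Spec (CommRingCat.of k))
    (hX : Curve.IsSmoothProperCurve k X f) [GeometricallyIrreducible f] (d : ℕ) :
    ∃ (H : Over (Spec (CommRingCat.of k))) (Z : HilbD.Obj f d H), HilbD.IsUniversal f d H Z ∧ IsProper H.hom ∧ Smooth H.hom := by
  obtain ⟨hp, hs, hi, hdim⟩ := hX
  haveI := hp
  haveI := hs
  haveI := hi
  haveI : SmoothOfRelativeDimension 1 f := CurveFin.smoothOfRelativeDimension_of_dim f (by exact_mod_cast hdim)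
  haveI : X.IsSeparated := ⟨by
    rw [← terminal.comp_from f]
    infer_instance⟩
  haveI : IsLocallyNoetherian X := LocallyOfFiniteType.isLocallyNoetherian f
  have hirr : ∀ U : X.Opens, IsCompact (U : Set X) → (irreducibleComponents (U : Set X)).Finite := by
    intro U hU
    haveI : CompactSpace U.toScheme := isCompact_iff_compactSpace.1 hU
    haveI : IsLocallyNoetherian U.toScheme := isLocallyNoetherian_of_isOpenImmersion U.ι
    haveI : IsNoetherian U.toScheme := {}
    exact TopologicalSpace.NoetherianSpace.finite_irreducibleComponents (α := U.toScheme)
  have hrep : ∀ e : ℕ, HilbD.Representable f e := fun e => S1166.result f e fun _ x _ => by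
    classical
    obtain ⟨U, hU, h⟩ := CurveFin.exists_affineOpen_of_finite X hirr (Finset.univ.image x) fun y _ =>
      ⟨inferInstance, (SchTop.ringKrullDim_stalk_le y).trans hdim.le⟩
    exact ⟨U, hU, fun i => h _ (Finset.mem_image_of_mem x (Finset.mem_univ i))⟩
  obtain ⟨H, Z, hZ⟩ := hrep d
  exact ⟨H, Z, hZ, RelCurveDiv.isProper_of_isUniversal f hrep d H Z hZ,
    RelCurveDiv.smooth_of_isUniversal f hrep d H Z hZ⟩
end Groth.Agent.S1170
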