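import Groth.Agent.PicTorsThick

/-!
An invertible module on a reduced scheme from invertible modules on closed pieces meeting discretely.
-/

set_option autoImplicit false
set_option backward.isDefEq.respectTransparency false
set_option backward.isDefEq.respectTransparency.types false
set_option linter.style.haveILetI false

universe u

open CategoryTheory AlgebraicGeometry TopologicalSpace Opposite Topology
open Groth.Agent.AModX Groth.Agent.InvX Groth.Agent.PicTorsThick

namespace Groth.Agent.PicGlueComp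

theorem sections_eq_of_empty {X : Scheme.{u}} {M : X.Modules} {V : X.Opens} (hV : ∀ p, p ∉ V) (a b : Γ(M, V)) :
    a = b :=
  eq_of_locally a b fun p hp => (hV p hp).elim

theorem exists_frame_of_empty {X : Scheme.{u}} (M : X.Modules) {V : X.Opens} (hV : ∀ p, p ∉ V) :
    ∃ e : Γ(M, V), IsFrame e :=
  ⟨0, fun W hW =>
    ⟨fun r r' _ => sections_eq_of_empty (M := Coh.structureModule X) (fun p hp => hV p (hW hp)) r r',
      fun y => ⟨0, sections_eq_of_empty (fun p hp => hV p (hW hp)) _ _⟩⟩⟩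

/-- A set is discrete if every point has an open neighbourhood meeting it only there. -/
theorem exists_nhd_of_discrete {T : Type u} [TopologicalSpace T] {ι : Type} [Finite ι] (S : ι → Set T)
    (hd : ∀ i, DiscreteTopology (S i)) (hc : ∀ i, IsClosed (S i)) (x : T) :
    ∃ V : Set T, IsOpen V ∧ x ∈ V ∧ ∀ p ∈ V, ∀ i, p ∈ S i → p = x := by
  have h : ∀ i, ∃ V : Set T, IsOpen V ∧ x ∈ V ∧ ∀ p ∈ V, p ∈ S i → p = x := fun i => by
    by_cases hx : x ∈ S i
    · haveI := hd i
      obtain ⟨V, hV, hVe⟩ := isOpen_induced_iff.1 (isOpen_discrete ({⟨x, hx⟩} : Set (S i)))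
      refine ⟨V, hV, ?_, fun p hp hpS => ?_⟩
      · exact (show (⟨x, hx⟩ : S i) ∈ Subtype.val ⁻¹' V by rw [hVe]; rfl)
      · have : (⟨p, hpS⟩ : S i) ∈ Subtype.val ⁻¹' V := hp
        rw [hVe, Set.mem_singleton_iff, Subtype.ext_iff] at this
        exact this
    · exact ⟨(S i)ᶜ, (hc i).isOpen_compl, hx, fun p hp hpS => (hp hpS).elim⟩
  choose V hV hxV hVp using h
  exact ⟨⋂ i, V i, isOpen_iInter_of_finite hV, Set.mem_iInter.2 hxV,
    fun p hp i hi => hVp i p (Set.mem_iInter.1 hp i) hi⟩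

variable {X : Scheme.{u}} {n : ℕ} {Z : Fin n → X.IdealSheafData}

theorem range_eq (i : Fin n) : Set.range (Z i).subschemeι = ((Z i).support : Set X) :=
  (Z i).range_subschemeι

variable [IsReduced X] (hcov : ⋃ i, ((Z i).support : Set X) = Set.univ)

include hcov

theorem app_ext {W : X.Opens} {g g' : Γ(X, W)}
    (h : ∀ i, (Z i).subschemeι.app W g = (Z i).subschemeι.app W g') : g = g' := by
  refine sub_eq_zero.1 ((basicOpen_eq_bot_iff (g - g')).1 (eq_bot_iff.2 fun x hx => ?_))
  obtain ⟨i, hi⟩ := Set.mem_iUnion.1 (hcov.ge (Set.mem_univ x))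
  rw [← range_eq] at hi
  obtain ⟨y, rfl⟩ := hi
  have h1 : y ∈ (Z i).subschemeι ⁻¹ᵁ X.basicOpen (g - g') := hx
  rw [Scheme.preimage_basicOpen, map_sub, h i, sub_self, Scheme.basicOpen_zero] at h1
  exact h1.elim

theorem exists_app {W : X.Opens}
    (hW : ∀ p ∈ W, ∀ i j, p ∈ (Z i).support → p ∈ (Z j).support → i = j)
    (h : ∀ i, Γ((Z i).subscheme, (Z i).subschemeι ⁻¹ᵁ W)) :
    ∃ g : Γ(X, W), ∀ i, (Z i).subschemeι.app W g = h i := by
  have key : ∀ p : W, ∃ (C : X.Opens) (hC : C ≤ W), p.1 ∈ C ∧ ∃ g : Γ(X, C),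
      ∀ i, (Z i).subschemeι.app C g = resR ((Z i).subschemeι.preimage_mono hC) (h i) := by
    rintro ⟨p, hp⟩
    obtain ⟨i, hi⟩ := Set.mem_iUnion.1 (hcov.ge (Set.mem_univ p))
    let O : Set X := (W : Set X) ∩ ⋂ j : {j // j ≠ i}, ((Z j.1).support : Set X)ᶜ
    have hO : IsOpen O := W.2.inter (isOpen_iInter_of_finite fun j => (Z j.1).support.isClosed.isOpen_compl)
    obtain ⟨_, ⟨C, hC, rfl⟩, hpC, hCO⟩ := X.isBasis_affineOpens.exists_subset_of_mem_open
      (show p ∈ O from ⟨hp, Set.mem_iInter.2 fun j hj => j.2 (hW p hp j.1 i hj hi)⟩) hO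
    have hCW : C ≤ W := fun q hq => (hCO hq).1
    obtain ⟨g, hg⟩ := (Z i).subschemeι.app_surjective C hC (resR ((Z i).subschemeι.preimage_mono hCW) (h i))
    refine ⟨C, hCW, hpC, g, fun j => ?_⟩
    by_cases hj : j = i
    · subst hj; exact hg
    · refine sections_eq_of_empty (M := Coh.structureModule (Z j).subscheme) (fun y hy => ?_) _ _
      exact Set.mem_iInter.1 (hCO (show (Z j).subschemeι y ∈ C from hy)).2 ⟨j, hj⟩
        (by rw [← range_eq]; exact Set.mem_range_self y)
  choose C hC hpC g hg using key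
  obtain ⟨w, hw, -⟩ := existsUnique_glue (M := Coh.structureModule X) C hC
    (fun p hp => ⟨⟨p, hp⟩, hpC _⟩) g fun a b => app_ext hcov fun i => by
      show (Z i).subschemeι.app _ (resR inf_le_left (g a)) = (Z i).subschemeι.app _ (resR inf_le_right (g b))
      rw [app_resR, app_resR, hg, hg, resR_resR, resR_resR]
  refine ⟨w, fun i => eq_of_locally (M := Coh.structureModule (Z i).subscheme) _ _ fun y hy => ?_⟩
  refine ⟨(Z i).subschemeι ⁻¹ᵁ C ⟨_, hy⟩, (Z i).subschemeι.preimage_mono (hC _), hpC _, ?_⟩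
  show resR _ ((Z i).subschemeι.app W w) = resR _ (h i)
  rw [← app_resR _ (hC _), show resR (hC ⟨_, hy⟩) (show Γ(X, W) from w) = g _ from hw _, hg]

/-- The main statement. -/
theorem exists_invertible
    (hdisc : ∀ i j, i ≠ j → DiscreteTopology ↥(((Z i).support : Set X) ∩ ((Z j).support : Set X)))
    (L : ∀ i, (Z i).subscheme.Modules) (hL : ∀ i, PicF.IsInvertible (L i)) :
    ∃ M : X.Modules, PicF.IsInvertible M ∧
      ∀ i, Nonempty ((Scheme.Modules.pullback (Z i).subschemeι).obj M ≅ L i) := by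
  classical
  let P := {ij : Fin n × Fin n // ij.1 ≠ ij.2}
  let S : P → Set X := fun ij => ((Z ij.1.1).support : Set X) ∩ ((Z ij.1.2).support : Set X)
  have hex : ∀ x : X, ∃ W : X.Opens, x ∈ W ∧ (∀ p ∈ W, ∀ ij, p ∈ S ij → p = x) ∧
      ∀ i, ∃ e : Γ(L i, (Z i).subschemeι ⁻¹ᵁ W), IsFrame e := by
    intro x
    obtain ⟨V, hV, hxV, hVp⟩ := exists_nhd_of_discrete S (fun ij => hdisc _ _ ij.2)
      (fun ij => (Z _).support.isClosed.inter (Z _).support.isClosed) x
    have hi : ∀ i, ∃ W : X.Opens, x ∈ W ∧ ∃ e : Γ(L i, (Z i).subschemeι ⁻¹ᵁ W), IsFrame e := by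
      intro i
      by_cases hx : x ∈ (Z i).support
      · have hx' : x ∈ ((Z i).support : Set X) := hx
        rw [← range_eq] at hx'
        obtain ⟨z, rfl⟩ := hx'
        obtain ⟨U, hz, e, he⟩ := InvX.exists_frame (hL i) z
        obtain ⟨W, hW, hWU⟩ := (Z i).subschemeι.isClosedEmbedding.isInducing.isOpen_iff.1 U.2
        refine ⟨⟨W, hW⟩, ?_, _, he.res (fun y hy => ?_)⟩
        · exact (show z ∈ (Z i).subschemeι ⁻¹' W by rw [hWU]; exact hz)
        · have h1 : y ∈ (Z i).subschemeι ⁻¹' W := hy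
          rw [hWU] at h1
          exact h1
      · refine ⟨⟨((Z i).support : Set X)ᶜ, (Z i).support.isClosed.isOpen_compl⟩, hx,
          exists_frame_of_empty _ fun y hy => ?_⟩
        exact hy (range_eq i ▸ Set.mem_range_self y)
    choose W hxW e he using hi
    let W₀ : X.Opens := ⟨V ∩ ⋂ i, (W i : Set X), hV.inter (isOpen_iInter_of_finite fun i => (W i).2)⟩
    refine ⟨W₀, ⟨hxV, Set.mem_iInter.2 hxW⟩, fun p hp => hVp p hp.1, fun i => ⟨_, (he i).res
      ((Z i).subschemeι.preimage_mono (fun q hq => Set.mem_iInter.1 hq.2 i : W₀ ≤ W i))⟩⟩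
  choose W hxW hWS e he using hex
  have hne : ∀ a b, a ≠ b → ∀ p ∈ W a ⊓ W b, ∀ i j, p ∈ (Z i).support → p ∈ (Z j).support → i = j :=
    fun a b hab p hp i j hi hj => by
      by_contra hij
      exact hab ((hWS a p hp.1 ⟨(i, j), hij⟩ ⟨hi, hj⟩).symm.trans (hWS b p hp.2 ⟨(i, j), hij⟩ ⟨hi, hj⟩))
  have hg : ∀ a b i, ∃ g : Γ((Z i).subscheme, (Z i).subschemeι ⁻¹ᵁ (W a ⊓ W b)),
      res (L i) ((Z i).subschemeι.preimage_mono inf_le_left) (e a i) =
        g • res (L i) ((Z i).subschemeι.preimage_mono inf_le_right) (e b i) := fun a b i =>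
    (he b i).exists_coord ((Z i).subschemeι.preimage_mono inf_le_right) _
  choose g hg using hg
  have hgu : ∀ a b i, IsUnit (g a b i) := fun a b i => by
    obtain ⟨c, hc⟩ := (he a i).exists_coord ((Z i).subschemeι.preimage_mono (inf_le_left : W a ⊓ W b ≤ W a))
      (res (L i) ((Z i).subschemeι.preimage_mono (inf_le_right : W a ⊓ W b ≤ W b)) (e b i))
    refine IsUnit.of_mul_eq_one c ((he b i).coord_unique ((Z i).subschemeι.preimage_mono inf_le_right) ?_)
    rw [one_smul, mul_comm, mul_smul, ← hg]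
    exact hc.symm
  have hG : ∀ a b, ∃ G : Γ(X, W a ⊓ W b), IsUnit G ∧ ∀ i, (Z i).subschemeι.app _ G = g a b i := by
    intro a b
    by_cases hab : a = b
    · subst hab
      refine ⟨1, isUnit_one, fun i => ?_⟩
      refine (map_one _).trans ((he a i).coord_unique ((Z i).subschemeι.preimage_mono inf_le_left) ?_)
      rw [one_smul]
      exact hg a a i
    · obtain ⟨G, hG⟩ := exists_app hcov (hne a b hab) (g a b)
      obtain ⟨G', hG'⟩ := exists_app hcov (hne a b hab) fun i => ((hgu a b i).unit⁻¹ : _ˣ).1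
      refine ⟨G, IsUnit.of_mul_eq_one G' (app_ext hcov fun i => ?_), hG⟩
      rw [map_mul, map_one, hG, hG', IsUnit.mul_val_inv]
  choose G hGu hG using hG
  let t : H23.CocycleMod.Cocycle W := {
    g := fun a b => (hGu a b).unit
    trans := fun a b c V ha hb hc => app_ext hcov fun i => by
      rw [IsUnit.unit_spec, IsUnit.unit_spec, IsUnit.unit_spec, map_mul, app_resR, app_resR, app_resR, hG, hG, hG]
      refine (he c i).coord_unique ((Z i).subschemeι.preimage_mono hc) ?_
      have e1 := congrArg (res (L i) ((Z i).subschemeι.preimage_mono (le_inf ha hc))) (hg a c i)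
      have e2 := congrArg (res (L i) ((Z i).subschemeι.preimage_mono (le_inf ha hb))) (hg a b i)
      have e3 := congrArg (res (L i) ((Z i).subschemeι.preimage_mono (le_inf hb hc))) (hg b c i)
      simp only [res_smul, res_res] at e1 e2 e3
      rw [← e1, e2, e3, mul_comm, mul_smul] }
  refine ⟨H23.CocycleMod.mod t, H23.CocycleMod.isInvertible t
    (eq_top_iff.2 fun x _ => Opens.mem_iSup.2 ⟨x, hxW x⟩), fun i => ?_⟩
  let f := H23.CocycleMod.frame t
  refine nonempty_iso_of_transition (fun a => (Z i).subschemeι ⁻¹ᵁ W a) (fun z => ⟨_, hxW _⟩)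
    (fun a => pullElt (Z i).subschemeι (f a))
    (fun a => isFrame_pullElt _ (H23.CocycleMod.isFrame_frame t a))
    (fun a => e a i) (fun a => he a i) fun a b => ⟨g a b i, ?_, hg a b i⟩
  let η : H23.CocycleMod.mod t ⟶ (Scheme.Modules.pushforward (Z i).subschemeι).obj
      ((Scheme.Modules.pullback (Z i).subschemeι).obj (H23.CocycleMod.mod t)) :=
    (Scheme.Modules.pullbackPushforwardAdjunction (Z i).subschemeι).unit.app _
  have h1 := congrArg (η.app (W a ⊓ W b)) (H23.CocycleMod.res_frame t a b)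
  rw [Scheme.Modules.Hom.app_smul, app_res, app_res, IsUnit.unit_spec] at h1
  rw [← hG a b i]
  exact h1

end Groth.Agent.PicGlueComp
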