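import Groth.Statements.S5339
import Groth.Agent.GrpSchLib.LftArtin
import Groth.Agent.S5337
-- import your own Groth.Agent.* helpers here

set_option autoImplicit false
universe u
open CategoryTheory CategoryTheory.Limits MonoidalCategory CartesianMonoidalCategory MonObj GrpObj AlgebraicGeometry
open SGA3

namespace Groth.Agent.S5339

/-- Let A be a local artinian ring and G a flat A-group scheme (not assumed locally of finite type). If
G is locally quasi-finite and locally of finite type (resp. unramified, resp. smooth, resp. etale)
over A on some nonempty open subscheme, then G is locally quasi-finite and locally of finite type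
(resp. unramified, resp. smooth, resp. etale) over A. -/
theorem result (A : Type u) [CommRing A] [IsArtinianRing A] [IsLocalRing A] (G : Over (Spec (CommRingCat.of A))) [GrpObj G] [Flat G.hom]
    (W : G.left.Opens) (hW : (W : Set G.left).Nonempty) :
    (LocallyQuasiFinite (W.ι ≫ G.hom) → LocallyOfFiniteType (W.ι ≫ G.hom) → LocallyQuasiFinite G.hom ∧ LocallyOfFiniteType G.hom) ∧
    (FormallyUnramified (W.ι ≫ G.hom) → LocallyOfFinitePresentation (W.ι ≫ G.hom) →
      FormallyUnramified G.hom ∧ LocallyOfFinitePresentation G.hom) ∧
    (Smooth (W.ι ≫ G.hom) → Smooth G.hom) ∧ (Etale (W.ι ≫ G.hom) → Etale G.hom) := by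
  have e : (toUnit G).left = G.hom := (Category.comp_id _).symm.trans (Over.w (toUnit G))
  have main : LocallyOfFiniteType (W.ι ≫ G.hom) → LocallyOfFiniteType G.hom ∧
      (LocallyQuasiFinite (W.ι ≫ G.hom) → LocallyQuasiFinite G.hom) ∧
      (FormallyUnramified (W.ι ≫ G.hom) → LocallyOfFinitePresentation (W.ι ≫ G.hom) →
        FormallyUnramified G.hom ∧ LocallyOfFinitePresentation G.hom) ∧
      (Smooth (W.ι ≫ G.hom) → Smooth G.hom) ∧ (Etale (W.ι ≫ G.hom) → Etale G.hom) := by
    intro h
    haveI := Agent.GrpSchLib.LftArtin.locallyOfFiniteType A G W hW h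
    have := S5337.result A G (𝟙_ (Over (Spec (CommRingCat.of A)))) (toUnit G) W hW
    rw [e] at this
    exact ⟨inferInstance, this⟩
  exact ⟨fun h h' => ⟨(main h').2.1 h, (main h').1⟩,
    fun h h' => (main (haveI := h'; inferInstance)).2.2.1 h h',
    fun h => (main (haveI := h; inferInstance)).2.2.2.1 h,
    fun h => (main (haveI := h; inferInstance)).2.2.2.2 h⟩

end Groth.Agent.S5339
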