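import Groth.Statements.S3461
import Groth.Agent.ProperAt5.Lifting
-- import your own Groth.Agent.* helpers here

set_option autoImplicit false
open CategoryTheory AlgebraicGeometry
universe u
open EGA43

namespace Groth.Agent.S3461

set_option backward.isDefEq.respectTransparency false
set_option backward.isDefEq.respectTransparency.types false

open CategoryTheory.Limits in
/-- Let f : X ⟶ Y be separated and of finite presentation. Suppose there is a surjective morphism of
finite presentation g : Y' ⟶ Y which is proper or flat, together with a Y-morphism Y' ⟶ X, and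
suppose every fibre of f is geometrically connected. Then the set U of points y of Y whose fibre X_y
is proper over κ(y) is open in Y, and the restriction of f over U is proper. -/
theorem result {X Y Y' : Scheme.{u}} (f : X ⟶ Y)
    [IsSeparated f] [LocallyOfFinitePresentation f] [QuasiCompact f] [QuasiSeparated f]
    (g : Y' ⟶ Y) [Surjective g] [LocallyOfFinitePresentation g] [QuasiCompact g] [QuasiSeparated g]
    (hg : IsProper g ∨ Flat g) (σ : Y' ⟶ X) (hσ : σ ≫ f = g)
    (hconn : ∀ y : Y, MoreMor.nGeomConnComp f y ≤ 1) :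
    ∃ U : Y.Opens, (U : Set Y) = {y : Y | IsProper (f.fiberToSpecResidueField y)} ∧ IsProper (f ∣_ U) := by
  classical
  have hloc : ∀ y, IsProper (f.fiberToSpecResidueField y) → ∃ U : Y.Opens, y ∈ U ∧ IsProper (f ∣_ U) := by
    intro y hy
    obtain ⟨V, hV, hyV, -⟩ := exists_isAffineOpen_mem_and_subset (show y ∈ (⊤ : Y.Opens) from trivial)
    let j : Spec Γ(Y, V) ⟶ Y := hV.fromSpec
    have sqf : IsPullback (pullback.fst f j) (pullback.snd f j) f j := IsPullback.of_hasPullback f j
    haveI : IsSeparated (pullback.snd f j) := MorphismProperty.pullback_snd (P := @IsSeparated) _ _ inferInstance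
    haveI : LocallyOfFinitePresentation (pullback.snd f j) :=
      MorphismProperty.pullback_snd (P := @LocallyOfFinitePresentation) _ _ inferInstance
    haveI : QuasiCompact (pullback.snd f j) := MorphismProperty.pullback_snd (P := @QuasiCompact) _ _ inferInstance
    haveI : QuasiSeparated (pullback.snd f j) := MorphismProperty.pullback_snd (P := @QuasiSeparated) _ _ inferInstance
    haveI : Surjective (pullback.snd g j) := MorphismProperty.pullback_snd (P := @Surjective) _ _ inferInstance
    haveI : LocallyOfFinitePresentation (pullback.snd g j) :=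
      MorphismProperty.pullback_snd (P := @LocallyOfFinitePresentation) _ _ inferInstance
    haveI : QuasiCompact (pullback.snd g j) := MorphismProperty.pullback_snd (P := @QuasiCompact) _ _ inferInstance
    haveI : QuasiSeparated (pullback.snd g j) := MorphismProperty.pullback_snd (P := @QuasiSeparated) _ _ inferInstance
    obtain ⟨v, rfl⟩ : y ∈ Set.range j := by rw [hV.range_fromSpec]; exact hyV
    have hv : IsProper ((pullback.snd f j).fiberToSpecResidueField v) := by
      obtain ⟨ε, hε, -⟩ := ConsPropLib.exists_fibre_pullback sqf v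
      exact MorphismProperty.of_isPullback hε hy
    obtain ⟨U, hvU, hU⟩ := ProperAt5.exists_proper_restrict_affine (pullback.snd f j) (pullback.snd g j)
      (hg.imp (fun h => MorphismProperty.pullback_snd (P := @IsProper) _ _ h)
        (fun h => MorphismProperty.pullback_snd (P := @Flat) _ _ h))
      (pullback.lift (pullback.fst g j ≫ σ) (pullback.snd g j) (by rw [Category.assoc, hσ]; exact pullback.condition))
      (pullback.lift_snd _ _ _)
      (fun z => by rw [S1335.result f _ _ _ sqf z]; exact hconn _) v hv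
    refine ⟨j ''ᵁ U, ⟨v, hvU, rfl⟩, ?_⟩
    have hpre : j ⁻¹ᵁ (j ''ᵁ U) = U := j.preimage_image_eq U
    obtain ⟨l, hl⟩ := ProperAt5.exists_isPullback_restrict sqf (j ''ᵁ U)
    have hU' : IsProper (pullback.snd f j ∣_ (j ⁻¹ᵁ (j ''ᵁ U))) := hpre.symm ▸ hU
    haveI : Surjective (j ∣_ (j ''ᵁ U)) := ⟨fun w => by
      obtain ⟨t, ht, htw⟩ := w.2
      exact ⟨⟨t, (hpre.symm ▸ ht : t ∈ j ⁻¹ᵁ (j ''ᵁ U))⟩, Subtype.ext ((morphismRestrict_base_coe _ _ _).trans htw)⟩⟩
    haveI : Epi (j ∣_ (j ''ᵁ U)).base := (TopCat.epi_iff_surjective _).mpr (j ∣_ (j ''ᵁ U)).surjective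
    haveI : IsIso (j ∣_ (j ''ᵁ U)) := IsOpenImmersion.isIso _
    haveI : IsIso l := hl.isIso_fst_of_isIso
    have hw : IsProper (l ≫ f ∣_ (j ''ᵁ U)) := by
      rw [hl.w]
      exact (MorphismProperty.cancel_right_of_respectsIso @IsProper _ _).2 hU'
    exact (MorphismProperty.cancel_left_of_respectsIso @IsProper l _).1 hw
  choose U hUy hU using hloc
  let S := {y : Y // IsProper (f.fiberToSpecResidueField y)}
  have hfib : ∀ (V : Y.Opens), IsProper (f ∣_ V) → ∀ z ∈ V, IsProper (f.fiberToSpecResidueField z) := fun V hV z hz => by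
    obtain ⟨ε, hε, -⟩ := ConsPropLib.exists_fibre_pullback (isPullback_morphismRestrict f V).flip ⟨z, hz⟩
    have h1 : IsProper ((f ∣_ V).fiberToSpecResidueField ⟨z, hz⟩) := MorphismProperty.pullback_snd (P := @IsProper) _ _ hV
    haveI := EtFound.fpqc_isProper.{u}
    haveI : Flat (Spec.map (V.ι.residueFieldMap ⟨z, hz⟩)) := inferInstance
    haveI : Surjective (Spec.map (V.ι.residueFieldMap ⟨z, hz⟩)) :=
      ⟨fun t => ⟨(IsLocalRing.closedPoint (V.toScheme.residueField ⟨z, hz⟩) : PrimeSpectrum _), Subsingleton.elim (α := PrimeSpectrum _) _ _⟩⟩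
    exact MorphismProperty.of_isPullback_of_descendsAlong
      (Q := (@Surjective ⊓ @Flat ⊓ @QuasiCompact : MorphismProperty Scheme.{u}))
      hε.flip ⟨⟨inferInstance, inferInstance⟩, inferInstance⟩ h1
  let W : Y.Opens := ⨆ s : S, U s.1 s.2
  have hW : (W : Set Y) = {y : Y | IsProper (f.fiberToSpecResidueField y)} := by
    ext z
    constructor
    · intro hz
      obtain ⟨s, hs⟩ := TopologicalSpace.Opens.mem_iSup.1 hz
      exact hfib _ (hU s.1 s.2) z hs
    · exact fun hz => TopologicalSpace.Opens.mem_iSup.2 ⟨⟨z, hz⟩, hUy z hz⟩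
  refine ⟨W, hW, ?_⟩
  refine (IsZariskiLocalAtTarget.iff_of_iSup_eq_top (P := @IsProper) (fun s : S => W.ι ⁻¹ᵁ U s.1 s.2) ?_).2 fun s => ?_
  · refine top_le_iff.1 fun w _ => ?_
    obtain ⟨s, hs⟩ := TopologicalSpace.Opens.mem_iSup.1 w.2
    exact TopologicalSpace.Opens.mem_iSup.2 ⟨s, hs⟩
  · refine (MorphismProperty.arrow_mk_iso_iff @IsProper (morphismRestrictRestrict f W (W.ι ⁻¹ᵁ U s.1 s.2))).2 ?_
    rw [Scheme.Hom.image_preimage_eq_opensRange_inf, Scheme.Opens.opensRange_ι,
      inf_eq_right.2 (le_iSup (fun s : S => U s.1 s.2) s)]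
    exact hU s.1 s.2

end Groth.Agent.S3461
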