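import Groth.Statements.S14820
import Groth.Agent.H23.MaxAbelian

set_option autoImplicit false
universe u
open CategoryTheory MonoidalCategory CartesianMonoidalCategory MonObj GrpObj AlgebraicGeometry
open AbVar

namespace Groth.Agent.S14820

/-- Let k be an arbitrary field and G a commutative group scheme locally of finite type over k. Then
there is a closed subgroup scheme M of G which is an abelian variety over k (proper and
geometrically integral) and through which every homomorphism A → G from an abelian variety A over k
(a geometrically reduced, connected, proper k-group scheme) factors. -/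
theorem result (k : Type u) [Field k]
    (G : Over (Spec (CommRingCat.of k))) [GrpObj G] [IsCommMonObj G] [LocallyOfFiniteType G.hom] :
    ∃ (M : Over (Spec (CommRingCat.of k))) (_ : GrpObj M) (i : M ⟶ G), IsMonHom i ∧ IsClosedImmersion i.left ∧
      IsProper M.hom ∧ GeometricallyIntegral M.hom ∧
      ∀ (A : Over (Spec (CommRingCat.of k))) [GrpObj A] [IsProper A.hom] [GeometricallyReduced A.hom] [ConnectedSpace ↥A.left]
        (φ : A ⟶ G), IsMonHom φ → ∃ ψ : A ⟶ M, ψ ≫ i = φ := by
  exact Groth.Agent.H23.MaxAbelian.exists_maximal_abelian G

end Groth.Agent.S14820
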