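import Groth.Statements.S17906
import Groth.Agent.PicClLib.Basic

set_option autoImplicit false
set_option backward.isDefEq.respectTransparency false
universe u
open CategoryTheory CategoryTheory.Limits AlgebraicGeometry
open PicRel

namespace Groth.Agent.S17906

/-- Let f : X → S be a morphism of schemes, g : S' → S a morphism and X' = X ×_S S'. If the relative
Picard functor of X over S, sheafified and described through a representing S-scheme P with maps φ_T
from classes of modules on X ×_S T to S-morphisms T → P, is represented by P, then the relative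
Picard functor of X' over S' is represented by P ×_S S': a class c on (X ×_S S') ×_{S'} T is sent,
after transport along the canonical isomorphism of this scheme with X ×_S T, to the S'-morphism T →
P ×_S S' whose components are φ(c) and the structure morphism of T. (The published statement is for
the fppf sheafification, asserts the isomorphism of functors Pic_{X/S} ×_S S' ≅ Pic_{X'/S'} in
general, and adds the compatibility of universal bundles and rigidifications; stated here is the
representability consequence for the étale sheafification, to which the same argument applies.) -/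
theorem result {X S S' : Scheme.{u}} (f : X ⟶ S) (g : S' ⟶ S)
    (P : Over S) (φ : ∀ T : Over S, PicF.Cl (PicF.XT f T) → (T ⟶ P)) (hP : PicRel.IsRelPic f P φ) :
    PicRel.IsRelPic (pullback.snd f g) (Over.mk (pullback.snd P.hom g))
      (fun T c => Over.homMk
        (pullback.lift (φ (Over.mk (T.hom ≫ g)) (PicF.pullCl (pullbackLeftPullbackSndIso f g T.hom).inv c)).left T.hom
          (Over.w (φ (Over.mk (T.hom ≫ g)) (PicF.pullCl (pullbackLeftPullbackSndIso f g T.hom).inv c))))
        (pullback.lift_snd _ _ _)) := by
  let G : Over S' → Over S := fun T => Over.mk (T.hom ≫ g)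
  let Gm : ∀ {T T' : Over S'}, (T' ⟶ T) → (G T' ⟶ G T) := fun h =>
    Over.homMk h.left (by show h.left ≫ _ ≫ g = _ ≫ g; rw [← Category.assoc, Over.w h])
  let e : ∀ T : Over S', PicF.XT (pullback.snd f g) T ≅ PicF.XT f (G T) := fun T => pullbackLeftPullbackSndIso f g T.hom
  have hsq : ∀ {T T' : Over S'} (h : T' ⟶ T),
      (e T').hom ≫ PicF.XTmap f (Gm h) = PicF.XTmap (pullback.snd f g) h ≫ (e T).hom := by
    intro T T' h
    apply pullback.hom_ext <;> simp [e, G, Gm, PicF.XTmap, pullback.map]
  have hsq' : ∀ {T T' : Over S'} (h : T' ⟶ T) (c : PicF.Cl (PicF.XT (pullback.snd f g) T)),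
      PicF.pullCl (e T').inv (PicF.pullCl (PicF.XTmap (pullback.snd f g) h) c) =
        PicF.pullCl (PicF.XTmap f (Gm h)) (PicF.pullCl (e T).inv c) := by
    intro T T' h c
    rw [PicClLib.pullCl_comp, PicClLib.pullCl_comp]
    congr 1
    rw [Iso.inv_comp_eq, ← Category.assoc, hsq, Category.assoc, Iso.hom_inv_id, Category.comp_id]
  refine ⟨fun T T' h c hc => ?_, fun T gm => ?_, fun T c c' hc hc' hcc => ?_⟩
  · apply Over.OverMorphism.ext
    apply pullback.hom_ext
    · simp only [Over.homMk_left, Over.comp_left, Category.assoc, pullback.lift_fst]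
      have h1 := congrArg CommaMorphism.left
        (hP.natural (G T) (G T') (Gm h) (PicF.pullCl (e T).inv c) (PicClLib.isInvertibleCl_pullCl _ hc))
      rw [← hsq'] at h1
      exact h1
    · simp only [Over.homMk_left, Over.comp_left, Category.assoc, pullback.lift_snd]
      exact (Over.w h).symm
  · let g0 : G T ⟶ P := Over.homMk (gm.left ≫ pullback.fst P.hom g) (by
      show (gm.left ≫ pullback.fst P.hom g) ≫ P.hom = T.hom ≫ g
      rw [Category.assoc, pullback.condition, ← Category.assoc]
      exact congrArg (· ≫ g) (Over.w gm))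
    obtain ⟨ι, U, hU, hc⟩ := hP.locallySurjective (G T) g0
    refine ⟨ι, U, hU, fun i => ?_⟩
    obtain ⟨c0, hc0, hφ⟩ := hc i
    let j : G (PicRel.ovr T (U i)) ⟶ PicRel.ovr (G T) (U i) :=
      Over.homMk (𝟙 _) (by show 𝟙 _ ≫ _ = _; rw [Category.id_comp]; exact (Category.assoc _ _ _).symm)
    refine ⟨PicF.pullCl (e (PicRel.ovr T (U i))).hom (PicF.pullCl (PicF.XTmap f j) c0),
      PicClLib.isInvertibleCl_pullCl _ (PicClLib.isInvertibleCl_pullCl _ hc0), ?_⟩
    apply Over.OverMorphism.ext
    apply pullback.hom_ext
    · erw [pullback.lift_fst]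
      show (φ (G (PicRel.ovr T (U i))) (PicF.pullCl (e (PicRel.ovr T (U i))).inv _)).left = _
      rw [PicClLib.pullCl_comp, Iso.inv_hom_id, PicClLib.pullCl_id, hP.natural _ _ j c0 hc0, hφ]
      show 𝟙 _ ≫ (U i).hom ≫ gm.left ≫ pullback.fst P.hom g = _
      rw [Category.id_comp]
      exact (Category.assoc _ _ _).symm
    · erw [pullback.lift_snd]
      show (PicRel.ovr T (U i)).hom = ((U i).hom ≫ gm.left) ≫ pullback.snd P.hom g
      rw [Category.assoc]
      exact congrArg ((U i).hom ≫ ·) (Over.w gm).symm
  · have h1 : φ (G T) (PicF.pullCl (e T).inv c) = φ (G T) (PicF.pullCl (e T).inv c') := by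
      apply Over.OverMorphism.ext
      have h2 := congrArg (fun x => x.left ≫ pullback.fst P.hom g) hcc
      simp only [Over.homMk_left] at h2
      erw [pullback.lift_fst, pullback.lift_fst] at h2
      exact h2
    obtain ⟨ι, U, hU, hi⟩ := hP.locallyInjective (G T) _ _ (PicClLib.isInvertibleCl_pullCl _ hc)
      (PicClLib.isInvertibleCl_pullCl _ hc') h1
    refine ⟨ι, U, hU, fun i => ?_⟩
    let j : G (PicRel.ovr T (U i)) ⟶ PicRel.ovr (G T) (U i) :=
      Over.homMk (𝟙 _) (by show 𝟙 _ ≫ _ = _; rw [Category.id_comp]; exact (Category.assoc _ _ _).symm)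
    have hj : Gm (PicRel.ovrHom T (U i)) = j ≫ PicRel.ovrHom (G T) (U i) :=
      Over.OverMorphism.ext (Category.id_comp _).symm
    have h3 : ∀ d : PicF.Cl (PicF.XT (pullback.snd f g) T),
        PicF.pullCl (PicF.XTmap (pullback.snd f g) (PicRel.ovrHom T (U i))) d =
          PicF.pullCl (e _).hom (PicF.pullCl (PicF.XTmap f j)
            (PicF.pullCl (PicF.XTmap f (PicRel.ovrHom (G T) (U i))) (PicF.pullCl (e T).inv d))) := fun d => by
      rw [PicClLib.pullCl_comp (PicF.XTmap f j), ← PicClLib.XTmap_comp, ← hj, ← hsq', PicClLib.pullCl_comp,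
        Iso.hom_inv_id, PicClLib.pullCl_id]
    rw [h3, h3, hi i]

end Groth.Agent.S17906
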