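import Groth.Statements.S4141
import Groth.Agent.ChevalleyPerfect.Proper
import Groth.Agent.AGFLib.QuasiComp.AnyField
import Groth.Agent.AlgSpGrp.Quot
import Groth.Agent.SrcDescent.SchemeFppf
import Groth.Agent.GrpSchLib.LargestNormalSep

set_option backward.isDefEq.respectTransparency false
set_option backward.isDefEq.respectTransparency.types false
set_option linter.style.haveILetI false
open scoped CategoryTheory.MonObj
open Groth.Agent.GrpSchLib

set_option autoImplicit false
universe u
open CategoryTheory MonoidalCategory CartesianMonoidalCategory MonObj GrpObj AlgebraicGeometry CategoryTheory.Limits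
open SGA3

namespace Groth.Agent.S4141

/-- Let k be a perfect field and G a smooth connected algebraic group over k. Then there is an affine,
smooth, connected closed subgroup scheme L of G, normal in G, such that the quotient G/L is an
abelian variety: there is a surjective flat homomorphism q : G → Q with kernel L onto a proper,
smooth, connected k-group scheme Q. Moreover L is unique: any affine smooth connected normal closed
subgroup with proper smooth connected quotient coincides with L. -/
theorem result (k : Type u) [Field k] [PerfectField k]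
    (G : Over (Spec (CommRingCat.of k))) [GrpObj G] [Smooth G.hom] [QuasiCompact G.hom] [ConnectedSpace ↥G.left] :
    ∃ (L : Over (Spec (CommRingCat.of k))) (_ : GrpObj L) (l : L ⟶ G) (Q : Over (Spec (CommRingCat.of k))) (_ : GrpObj Q)
      (q : G ⟶ Q), IsMonHom l ∧ IsClosedImmersion l.left ∧ IsAffine L.left ∧ Smooth L.hom ∧ ConnectedSpace ↥L.left ∧
      AlgGrp.IsNormalHom l ∧ IsMonHom q ∧ Surjective q.left ∧ Flat q.left ∧ AlgGrp.IsKernel l q ∧
      IsProper Q.hom ∧ Smooth Q.hom ∧ ConnectedSpace ↥Q.left ∧
      ∀ (L' : Over (Spec (CommRingCat.of k))) [GrpObj L'] (l' : L' ⟶ G) (Q' : Over (Spec (CommRingCat.of k))) [GrpObj Q']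
        (q' : G ⟶ Q'), IsMonHom l' → IsClosedImmersion l'.left → IsAffine L'.left → Smooth L'.hom → ConnectedSpace ↥L'.left →
        AlgGrp.IsNormalHom l' → IsMonHom q' → Surjective q'.left → Flat q'.left → AlgGrp.IsKernel l' q' →
        IsProper Q'.hom → Smooth Q'.hom → ConnectedSpace ↥Q'.left → ∃ φ : L' ≅ L, φ.hom ≫ l = l' := by
  haveI : LocallyOfFiniteType G.hom := inferInstance
  haveI := AntiAffine.isSeparated_grp G
  obtain ⟨L, _, l, _, hlc, hLs, hLconn, hln, hLa, hLmax⟩ := AGFLib.LargestNormal.exists_largest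
    (fun E _ => IsAffine E.left)
    (fun N E Q _ _ _ _ _ _ _ _ _ i q _ _ _ _ hk hN hQ => by
      haveI : IsAffine N.left := hN
      haveI : IsAffine Q.left := hQ
      haveI : IsAffineHom N.hom := isAffineHom_of_isAffine N.hom
      haveI : IsSeparated Q.hom := AntiAffine.isSeparated_grp Q
      haveI : QuasiCompact q.left := by
        haveI : QuasiCompact (q.left ≫ Q.hom) := by rw [Over.w q]; infer_instance
        exact QuasiCompact.of_comp q.left Q.hom
      have sq := GrpSchLib.HomKer.kernel_square (u := q) i hk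
      haveI : IsAffineHom q.left := GrpSchLib.AffineKer.isAffineHom_of_kernel q (by
        rw [← sq.isoPullback_inv_snd]; infer_instance)
      exact isAffine_of_isAffineHom q.left)
    (fun E Q _ _ _ _ _ _ q _ _ _ hE => by
      haveI : IsAffine E.left := hE
      exact GrpSchLib.isAffine_of_quotient q)
    (G := G) (LargestNormalSep.trivial_subgroup G)
  haveI := hlc; haveI := hLs; haveI := hLconn; haveI : IsAffine L.left := hLa
  haveI : LocallyOfFiniteType L.hom := by rw [← Over.w l]; infer_instance
  obtain ⟨Q, _, q, hq, hqs, hqf, hql, hsep, hk, -⟩ := AlgSpGrp.exists_quot_field l hln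
  haveI := hq; haveI := hqs; haveI := hqf; haveI := hql; haveI := hsep
  haveI : Mono l := Over.mono_of_mono_left l
  haveI : Smooth (q.left ≫ Q.hom) := by rw [Over.w q]; infer_instance
  haveI : LocallyOfFiniteType Q.hom := SrcDescent.locallyOfFiniteType_of_fppf_comp q.left Q.hom
  haveI hQs : Smooth Q.hom := GrpSchLib.smooth_of_flat_surjective q.left Q.hom
  haveI hQconn : ConnectedSpace Q.left := q.left.surjective.connectedSpace q.left.continuous
  haveI hQp : IsProper Q.hom := ChevalleyPerfect.isProper_quot k (AlgebraicClosure k) G L l hln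
    (fun Z _ z _ h₁ h₂ h₃ h₄ h₅ => hLmax Z z h₁ h₂ h₃ h₅ h₄) Q q hqs hqf hql hk
  refine ⟨L, inferInstance, l, Q, inferInstance, q, inferInstance, hlc, hLa, hLs, hLconn, hln, hq, hqs, hqf, hk, hQp,
    hQs, hQconn, fun L' _ l' Q' _ q' hl' hl'c hL'a hL's hL'conn hl'n hq' hq's hq'f hk' hQ'p hQ's hQ'conn => ?_⟩
  haveI := hl'; haveI := hl'c; haveI := hL'a; haveI := hL's; haveI := hL'conn; haveI := hq'; haveI := hQ'p
  haveI : Mono l' := Over.mono_of_mono_left l'
  have e₁ : l' ≫ q = toUnit L' ≫ η[Q] := (AGFLib.QuasiComp.hom_eq_one_of_affine (l' ≫ q)).trans rfl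
  have e₂ : l ≫ q' = toUnit L ≫ η[Q'] := (AGFLib.QuasiComp.hom_eq_one_of_affine (l ≫ q')).trans rfl
  exact ⟨⟨hk.lift l' (toUnit _) e₁, hk'.lift l (toUnit _) e₂,
    by rw [← cancel_mono l', Category.assoc, hk'.lift_fst, hk.lift_fst, Category.id_comp],
    by rw [← cancel_mono l, Category.assoc, hk.lift_fst, hk'.lift_fst, Category.id_comp]⟩, hk.lift_fst _ _ _⟩

end Groth.Agent.S4141
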