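import Groth.Statements.S4433
import Groth.Agent.Proj16.DVRFg

set_option autoImplicit false
universe u
open EGA2

namespace Groth.Agent.S4433

/-- Let A be a Noetherian local domain that is not a field, K its field of fractions and L a finitely
generated field extension of K. Then there is a discrete valuation subring of L, with fraction field
L, which contains the image of A and dominates A (elements of the maximal ideal of A have valuation
less than one). -/
theorem result (A : Type u) [CommRing A] [IsDomain A] [IsNoetherianRing A]
    [IsLocalRing A] (hA : ¬ IsField A) (K : Type u) [Field K] [Algebra A K] [IsFractionRing A K]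
    (L : Type u) [Field L] [Algebra K L] [Algebra A L] [IsScalarTower A K L] (hfg : (⊤ : IntermediateField K L).FG) :
    ∃ R : ValuationSubring L, IsDiscreteValuationRing R ∧ (∀ a : A, algebraMap A L a ∈ R) ∧
      ∀ a ∈ IsLocalRing.maximalIdeal A, R.valuation (algebraMap A L a) < 1 := by
  have hK : Algebra.EssFiniteType A K := Algebra.EssFiniteType.of_isLocalization K (nonZeroDivisors A)
  have hKL : Algebra.EssFiniteType K L := IntermediateField.fg_top_iff.mp hfg
  have : Algebra.EssFiniteType A L := Algebra.EssFiniteType.comp A K L
  have hinj : Function.Injective (algebraMap A L) := by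
    rw [IsScalarTower.algebraMap_eq A K L]
    exact (algebraMap K L).injective.comp (IsFractionRing.injective A K)
  obtain ⟨a, ha, ha0⟩ := Submodule.exists_mem_ne_zero_of_ne_bot
    (IsLocalRing.isField_iff_maximalIdeal_eq.not.mp hA)
  obtain ⟨R, hR, hRA, hloc⟩ := Groth.Agent.Proj16.exists_dvr_dominating A L
    ⟨a, ha, fun h ↦ ha0 ((injective_iff_map_eq_zero _).1 hinj a h)⟩
  refine ⟨R, hR, hRA, fun b hb ↦ ?_⟩
  rw [← ValuationSubring.mem_nonunits_iff,
    show algebraMap A L b = ((⟨_, hRA b⟩ : R) : L) from rfl, ValuationSubring.coe_mem_nonunits_iff]
  intro h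
  exact hb (hloc.map_nonunit b h)

end Groth.Agent.S4433
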