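import Groth.Statements.S12111
import Groth.Agent.Lib.Pic13Regular
set_option autoImplicit false
universe u
open CategoryTheory CategoryTheory.Limits AlgebraicGeometry
open Pic13

namespace Groth.Agent.S12111

/-- Let k be an algebraically closed field, i : X ⟶ P^n_k a closed immersion and O_X(1) = i^*O(1). If a
coherent O_X-module F is m-regular (H^q(X, F(m - q)) = 0 for every q ≥ 1) then for every integer n'
≥ m, F is n'-regular and F(n') is generated by its global sections. (The published statement is for
a projective k-scheme with an ample O_X(1) generated by its sections at the points of the support of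
F; this row is the case of a closed subscheme of projective space.) -/
theorem result (k : Type u) [Field k] [IsAlgClosed k] (n : ℕ) {X : Scheme.{u}}
    (i : X ⟶ CohB1.ProjSpace n k) [IsClosedImmersion i] (F : X.Modules) (hF : Coh.IsCoh F) (m : ℤ)
    (h : Pic13.IsMRegular k i F m) (n' : ℤ) (hn' : m ≤ n') :
    Pic13.IsMRegular k i F n' ∧ Curv2.IsGloballyGenerated (Pic13.twistOn k i F n') := by
    exact ⟨Pic13Regular.isMRegular_of_le i hF h hn',
      Pic13Regular.isGloballyGenerated_twistOn i hF (Pic13Regular.isMRegular_of_le i hF h hn')⟩

end Groth.Agent.S12111
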