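import Groth.Statements.S4286
import Groth.Agent.Pic13Lib.BoundedReg

set_option autoImplicit false
universe u
open CategoryTheory CategoryTheory.Limits AlgebraicGeometry
open Pic13

namespace Groth.Agent.S4286
open Groth.Agent


/-- (i) implies (iii), over the base S = Spec k with k algebraically closed: let X ⊆ P^n_k be a closed
subscheme and P a bounded family of coherent O_X-modules. Then there is an integer m such that every
member of P is m-regular, and the Hilbert polynomials d ↦ χ(F(d)) of the members of P form a finite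
set. -/
theorem result (k : Type u) [Field k] [IsAlgClosed k] (n : ℕ) (X : Scheme.{u}) [X.Over (Spec (CommRingCat.of k))]
    (i : X ⟶ CohB1.ProjSpace n k) [IsClosedImmersion i] (hi : i ≫ CohB1.ProjSpace.toSpec n k = X ↘ Spec (CommRingCat.of k))
    (P : X.Modules → Prop) (hP : ∀ F, P F → Coh.IsCoh F) (hb : Pic13.IsBounded k X P) :
    (∃ m : ℤ, ∀ F, P F → Pic13.IsMRegular k i F m) ∧
      ∃ s : Finset (Polynomial ℚ), ∀ F, P F → ∃ φ ∈ s, ∀ d : ℤ, (FGA.eulerCharLE k X (Pic13.twistOn k i F d) n : ℚ) = φ.eval (d : ℚ) := by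
  haveI := Pic13Lib.isProper_of_closed i hi
  obtain ⟨T, q, hq, hq', G, hG, hfib⟩ := hb
  haveI := hq
  haveI := hq'
  haveI := CurveCohLib.isNoetherian_of_proper (k := k) (X := X)
  obtain ⟨m, hm⟩ := Pic13Lib.exists_mRegular_family i q hG
  obtain ⟨s, hs⟩ := Pic13Lib.finite_polys_family i q hi hG
  refine ⟨⟨m, fun F hF => ?_⟩, s, fun F hF => ?_⟩
  · obtain ⟨t, ht, ⟨e⟩⟩ := hfib F hF
    intro j hj
    exact QCoh.subsingleton_HH_of_iso ((DCoh.tensorBi.mapIso e).app _) j (hm t ht j hj)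
  · obtain ⟨t, ht, ⟨e⟩⟩ := hfib F hF
    obtain ⟨φ, hφ, hd⟩ := hs t ht
    refine ⟨φ, hφ, fun d => ?_⟩
    rw [← hd d]
    refine congrArg Int.cast (Finset.sum_congr rfl fun j _ => ?_)
    exact congrArg (fun z : ℕ => (-1 : ℤ) ^ j * (z : ℤ))
      (CurveCohLib.hhEquiv (k := k) ((DCoh.tensorBi.mapIso e).app _ : Pic13.twistOn k i _ d ≅ Pic13.twistOn k i F d) j).finrank_eq.symm

end Groth.Agent.S4286
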