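import Groth.Statements.S5810
import Groth.Agent.LC.CanonComplete
import Groth.Agent.Hensel.DepthFlat

set_option autoImplicit false
universe u
open EGA41

namespace Groth.Agent.S5810

/-- Let A be a Noetherian local ring with maximal ideal m and M a finitely generated A-module; write Â
and M̂ for the m-adic completions. Then prof_A(M) = prof_Â(M̂). -/
theorem result (A : Type u) [CommRing A] [IsLocalRing A] [IsNoetherianRing A] (M : Type u)
    [AddCommGroup M] [Module A M] [Module.Finite A M] :
    LocCoh.depth (AdicCompletion (IsLocalRing.maximalIdeal A) A) (AdicCompletion (IsLocalRing.maximalIdeal A) M) =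
      LocCoh.depth A M := by
  haveI := LC.Canon.isNoetherianRing_completion (R := A)
  haveI : IsLocalHom (algebraMap A (AdicCompletion (IsLocalRing.maximalIdeal A) A)) :=
    AdicCompletion.algebraMap_isLocalHom_of_fg (IsNoetherian.noetherian _)
  rw [← Hensel.depth_tensorProduct_eq (AdicCompletion (IsLocalRing.maximalIdeal A) A)
    (AdicCompletion.maximalIdeal_eq_map (R := A)).symm M]
  haveI : Module.Finite (AdicCompletion (IsLocalRing.maximalIdeal A) A) (AdicCompletion (IsLocalRing.maximalIdeal A) M) :=
    Module.Finite.equiv (AdicCompletion.ofTensorProductEquivOfFiniteNoetherian (IsLocalRing.maximalIdeal A) M)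
  exact Hensel.depth_congr (AdicCompletion.ofTensorProductEquivOfFiniteNoetherian (IsLocalRing.maximalIdeal A) M).symm

end Groth.Agent.S5810
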