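import Groth.Statements.S0321
import Groth.Agent.LC.DepthExt

set_option autoImplicit false
universe u v
open LocCoh CategoryTheory

namespace Groth.Agent.S0321

/-- Depth inequalities along a short exact sequence 0 → N' → N → N'' → 0 of finite modules over a
Noetherian ring: depth N ≥ min(depth N', depth N''), depth N'' ≥ min(depth N, depth N' − 1), depth
N' ≥ min(depth N, depth N'' + 1). -/
theorem result (R : Type u) [CommRing R] [IsNoetherianRing R] (I : Ideal R) (N' : Type u) [AddCommGroup N'] [Module R N'] [Module.Finite R N'] (N : Type u) [AddCommGroup N] [Module R N] [Module.Finite R N] (N'' : Type u) [AddCommGroup N''] [Module R N''] [Module.Finite R N''] (f : N' →ₗ[R] N) (g : N →ₗ[R] N'') (hf : Function.Injective f) (hg : Function.Surjective g) (hfg : Function.Exact f g) : min (LocCoh.idealDepth I N') (LocCoh.idealDepth I N'') ≤ LocCoh.idealDepth I N ∧ min (LocCoh.idealDepth I N) (LocCoh.idealDepth I N' - 1) ≤ LocCoh.idealDepth I N'' ∧ min (LocCoh.idealDepth I N) (LocCoh.idealDepth I N''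 + 1) ≤ LocCoh.idealDepth I N' := by
  let S : ShortComplex (ModuleCat.{u} R) := ShortComplex.mk (X₁ := ModuleCat.of R N')
    (X₂ := ModuleCat.of R N) (X₃ := ModuleCat.of R N'') (ModuleCat.ofHom f) (ModuleCat.ofHom g)
    (ModuleCat.hom_ext (LinearMap.ext fun z => hfg.apply_apply_eq_zero z))
  have hS : S.ShortExact :=
    { exact := (ShortComplex.ShortExact.moduleCat_exact_iff_function_exact _).2 hfg
      mono_f := (ModuleCat.mono_iff_injective _).2 hf
      epi_g := (ModuleCat.epi_iff_surjective _).2 hg }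
  have key : ∀ (X : Type u) [AddCommGroup X] [Module R X] [Module.Finite R X] (c : ℕ∞),
      (∀ n : ℕ, (n : ℕ∞) ≤ c → ∀ i < n, Subsingleton
        (Abelian.Ext (ModuleCat.of R (R ⧸ I)) (ModuleCat.of R X) i)) →
      c ≤ LocCoh.idealDepth I X := fun X _ _ _ c h =>
    ENat.forall_natCast_le_iff_le.1 fun n hn =>
      (Groth.Agent.LC.le_idealDepth_iff_ext I X n).2 (h n hn)
  refine ⟨key N _ fun n hn i hi => ?_, key N'' _ fun n hn i hi => ?_, key N' _ fun n hn i hi => ?_⟩
  · rw [le_min_iff] at hn
    exact Groth.Agent.LC.ext_subsingleton_X₂ hS _ i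
      ((Groth.Agent.LC.le_idealDepth_iff_ext I N' n).1 hn.1 i hi)
      ((Groth.Agent.LC.le_idealDepth_iff_ext I N'' n).1 hn.2 i hi)
  · rw [le_min_iff] at hn
    have h2 : ((n + 1 : ℕ) : ℕ∞) ≤ LocCoh.idealDepth I N' := by
      rcases eq_or_ne (LocCoh.idealDepth I N') ⊤ with h | h
      · rw [h]; exact le_top
      · lift LocCoh.idealDepth I N' to ℕ using h with d hd
        have h' : n ≤ d - 1 := by exact_mod_cast hn.2
        exact_mod_cast (by omega : n + 1 ≤ d)
    exact Groth.Agent.LC.ext_subsingleton_X₃ hS _ i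
      ((Groth.Agent.LC.le_idealDepth_iff_ext I N n).1 hn.1 i hi)
      ((Groth.Agent.LC.le_idealDepth_iff_ext I N' _).1 h2 (i + 1) (by omega))
  · rw [le_min_iff] at hn
    rcases i with _ | i
    · have : Mono S.f := hS.mono_f
      exact Groth.Agent.LC.ext_zero_subsingleton_of_injective _ S.f
        ((Groth.Agent.LC.le_idealDepth_iff_ext I N n).1 hn.1 0 hi)
    · obtain ⟨m, rfl⟩ : ∃ m, n = m + 1 := ⟨n - 1, by omega⟩
      have h3 : (m : ℕ∞) ≤ LocCoh.idealDepth I N'' := by
        have := hn.2
        rw [Nat.cast_add, Nat.cast_one] at this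
        exact (ENat.add_le_add_iff_right ENat.one_ne_top).1 this
      exact Groth.Agent.LC.ext_subsingleton_X₁ hS _ i
        ((Groth.Agent.LC.le_idealDepth_iff_ext I N (m + 1)).1 hn.1 (i + 1) hi)
        ((Groth.Agent.LC.le_idealDepth_iff_ext I N'' m).1 h3 i (by omega))

end Groth.Agent.S0321
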