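import Groth.Statements.S10888
import Mathlib
import Groth.Agent.FlatMisc.FibreIsoLocus

set_option autoImplicit false
universe u
open CategoryTheory AlgebraicGeometry
open FlatMor

namespace Groth.Agent.S10888

/-- Let g : X → S and h : Y → S be proper and of finite presentation with g flat, and f : X → Y a
morphism over S. Then the locus U of points of S over which the fibre morphism X_s → Y_s is an
isomorphism is an open subset of S, and f restricts to an isomorphism over U. -/
theorem result {X Y S : Scheme.{u}} (g : X ⟶ S) (h : Y ⟶ S)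
    [IsProper g] [LocallyOfFinitePresentation g] [Flat g] [IsProper h] [LocallyOfFinitePresentation h]
    (f : X ⟶ Y) (w : f ≫ h = g) :
    ∃ U : S.Opens, (∀ s : S, s ∈ U ↔ ∃ e : g.fiber s ≅ h.fiber s, e.hom ≫ h.fiberι s = g.fiberι s ≫ f) ∧
      IsIso (f ∣_ (h ⁻¹ᵁ U)) := by
  let G : Over S := Over.mk g
  let H : Over S := Over.mk h
  let u : G ⟶ H := Over.homMk f w
  haveI : IsProper G.hom := ‹IsProper g›
  haveI : IsProper H.hom := ‹IsProper h›
  haveI : LocallyOfFinitePresentation G.hom := ‹LocallyOfFinitePresentation g›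
  haveI : Flat G.hom := ‹Flat g›
  have key : ∀ s : S, (∃ e : g.fiber s ≅ h.fiber s, e.hom ≫ h.fiberι s = g.fiberι s ≫ f) ↔
      IsIso (Groth.Agent.GrpSchLib.HomFibre.fib u s).left := by
    intro s
    have hfib : (Groth.Agent.GrpSchLib.HomFibre.fib u s).left ≫ Limits.pullback.fst h (S.fromSpecResidueField s) =
        Limits.pullback.fst g (S.fromSpecResidueField s) ≫ f := Limits.pullback.lift_fst _ _ _
    constructor
    · rintro ⟨e, he⟩
      have : (Groth.Agent.GrpSchLib.HomFibre.fib u s).left = e.hom := by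
        rw [← cancel_mono (Limits.pullback.fst h (S.fromSpecResidueField s))]
        exact hfib.trans he.symm
      rw [this]
      infer_instance
    · intro hi
      exact ⟨@asIso _ _ _ _ (Groth.Agent.GrpSchLib.HomFibre.fib u s).left hi, hfib⟩
  let U : Set S := {s | IsIso (Groth.Agent.GrpSchLib.HomFibre.fib u s).left}
  have hU : IsOpen U := by
    refine isOpen_iff_forall_mem_open.mpr fun s hs ↦ ?_
    haveI : IsIso (Groth.Agent.GrpSchLib.HomFibre.fib u s).left := hs
    obtain ⟨W, hsW, hW⟩ := Groth.Agent.FibreIsoLocus.exists_nhd u s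
    exact ⟨W, fun t ht ↦ @Groth.Agent.FibreIsoLocus.isIso_fib_of_nhd _ _ _ u W hW t ht, W.2, hsW⟩
  refine ⟨⟨U, hU⟩, fun s ↦ (key s).symm, ?_⟩
  let V := h ⁻¹ᵁ (⟨U, hU⟩ : S.Opens)
  choose W hsW hW using fun s : (⟨U, hU⟩ : S.Opens) ↦
    haveI : IsIso (Groth.Agent.GrpSchLib.HomFibre.fib u s.1).left := s.2
    Groth.Agent.FibreIsoLocus.exists_nhd u s.1
  refine (IsZariskiLocalAtTarget.iff_of_iSup_eq_top (P := MorphismProperty.isomorphisms Scheme)
    (fun s ↦ V.ι ⁻¹ᵁ (h ⁻¹ᵁ W s)) (top_le_iff.mp fun y _ ↦ ?_)).mpr fun s ↦ ?_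
  · exact TopologicalSpace.Opens.mem_iSup.mpr ⟨⟨h (V.ι y), y.2⟩, hsW ⟨h (V.ι y), y.2⟩⟩
  · have h1 : IsIso (f ∣_ (h ⁻¹ᵁ W s)) := hW s
    have h2 := IsZariskiLocalAtTarget.restrict (P := MorphismProperty.isomorphisms Scheme) h1
      ((h ⁻¹ᵁ W s).ι ⁻¹ᵁ V)
    refine ((MorphismProperty.isomorphisms Scheme).arrow_mk_iso_iff (morphismRestrictRestrict f _ _)).mpr ?_
    have h3 := ((MorphismProperty.isomorphisms Scheme).arrow_mk_iso_iff
      (morphismRestrictRestrict f _ _)).mp h2
    refine ((MorphismProperty.isomorphisms Scheme).arrow_mk_iso_iff (morphismRestrictEq f ?_)).mp h3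
    rw [Scheme.Hom.image_preimage_eq_opensRange_inf, Scheme.Hom.image_preimage_eq_opensRange_inf,
      Scheme.Opens.opensRange_ι, Scheme.Opens.opensRange_ι, inf_comm]

end Groth.Agent.S10888
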