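import Groth.Statements.S4713
import Groth.Agent.Goldman.Scheme

set_option autoImplicit false
universe u
open EGA4

namespace Groth.Agent.S4713

open AlgebraicGeometry in
/-- In a locally Noetherian scheme X, every nonempty closed subset contains a closed point of X. -/
theorem result (X : Scheme.{u}) [IsLocallyNoetherian X]
    (Z : Set X) (hZ : IsClosed Z) (hne : Z.Nonempty) : ∃ x ∈ Z, IsClosed ({x} : Set X) := by
  obtain ⟨x, hxZ, hx⟩ := Goldman.exists_lc_point hZ.isLocallyClosed hne
  by_cases hc : IsClosed ({x} : Set X)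
  · exact ⟨x, hxZ, hc⟩
  obtain ⟨r, hr, hrx⟩ : ∃ r ∈ closure ({x} : Set X), r ≠ x := by
    by_contra hno
    push Not at hno
    exact hc (closure_subset_iff_isClosed.mp fun r hr => hno r hr)
  exact ⟨r, (closure_minimal (Set.singleton_subset_iff.mpr hxZ) hZ) hr,
    Goldman.isClosed_of_specializes hx (specializes_iff_mem_closure.mpr hr) hrx⟩

end Groth.Agent.S4713
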