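import Groth.Statements.S0075
import Groth.Agent.AlgSpLib.UHScheme

set_option backward.isDefEq.respectTransparency false
set_option backward.isDefEq.respectTransparency.types false
-- import your own Groth.Agent.* helpers here

set_option autoImplicit false
open CategoryTheory CategoryTheory.Limits AlgebraicGeometry Opposite
universe u
open EtBase

namespace Groth.Agent.S0075

/-- Topological invariance of the small étale site — base change along an integral, universally
injective, surjective morphism (a universal homeomorphism) is an equivalence between the categories
of étale schemes. -/
theorem result {X Y : Scheme.{u}} (f : X ⟶ Y) [IsIntegralHom f] [UniversallyInjective f]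
    [Surjective f] : (EtCoh.bc f).IsEquivalence :=  by
  exact Groth.Agent.AlgSpLib.UHDesc.bc_isEquivalence f
end Groth.Agent.S0075
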