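import Groth.Statements.S9160
import Mathlib

set_option autoImplicit false
universe u
open CAlg

namespace Groth.Agent.S9160
theorem length_ne_top_aux {R : Type*} [CommRing R] [IsNoetherianRing R] (hdim : ringKrullDim R = 1) {a : R}
    (ha : IsRegular a) : Module.length R (R ⧸ Ideal.span ({a} : Set R)) ≠ ⊤ := by
  have h1 : ringKrullDim (R ⧸ Ideal.span {a}) + 1 ≤ 1 := by
    have := ringKrullDim_quotient_succ_le_of_nonZeroDivisor (R := R) (r := a)
      (mem_nonZeroDivisors_iff_right.2 fun x hx => ha.right (by simpa using hx))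
    rwa [hdim] at this
  haveI : Ring.KrullDimLE 0 (R ⧸ Ideal.span {a}) := by
    rw [Ring.krullDimLE_iff]
    rcases h : ringKrullDim (R ⧸ Ideal.span {a}) with _ | _ | n
    · exact bot_le
    · rw [h] at h1; exact absurd h1 (by simp [WithBot.some_eq_coe]; decide)
    · rw [h] at h1
      change (((n : ℕ) : ℕ∞) : WithBot ℕ∞) + 1 ≤ 1 at h1
      have : ((n + 1 : ℕ) : WithBot ℕ∞) ≤ ((1 : ℕ) : WithBot ℕ∞) := by exact_mod_cast h1
      have h2 : n + 1 ≤ 1 := by exact_mod_cast this
      have : n = 0 := by omega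
      subst this; exact le_refl _
  haveI : IsArtinianRing (R ⧸ Ideal.span {a}) := isArtinianRing_iff_krullDimLE_zero.2 inferInstance
  rw [Module.length_ne_top_iff, isFiniteLength_iff_isNoetherian_isArtinian]
  refine ⟨inferInstance, ?_⟩
  exact isArtinian_of_surjective_algebraMap (R := R ⧸ Ideal.span {a}) Ideal.Quotient.mk_surjective


/-- In a semi-local Noetherian ring of dimension one, for nonzerodivisors a and b the length of R/(ab)
is the sum of the lengths of R/(a) and R/(b), and these lengths are finite. -/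
theorem result (R : Type u) [CommRing R] [IsNoetherianRing R]
    (hsemi : Finite (MaximalSpectrum R)) (hdim : ringKrullDim R = 1) (a b : R) (ha : IsRegular a)
    (hb : IsRegular b) :
    Module.length R (R ⧸ Ideal.span ({a * b} : Set R)) =
        Module.length R (R ⧸ Ideal.span ({a} : Set R)) + Module.length R (R ⧸ Ideal.span ({b} : Set R)) ∧
      Module.length R (R ⧸ Ideal.span ({a} : Set R)) ≠ ⊤ ∧
      Module.length R (R ⧸ Ideal.span ({b} : Set R)) ≠ ⊤ := by
  refine ⟨?_, length_ne_top_aux hdim ha, length_ne_top_aux hdim hb⟩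
  let f : (R ⧸ Ideal.span ({b} : Set R)) →ₗ[R] (R ⧸ Ideal.span ({a * b} : Set R)) :=
    Submodule.mapQ _ _ (LinearMap.mulLeft R a) (by
      intro x hx
      obtain ⟨c, rfl⟩ := Ideal.mem_span_singleton'.1 hx
      exact Ideal.mem_span_singleton'.2 ⟨c, by simp only [LinearMap.mulLeft_apply]; ring⟩)
  let g : (R ⧸ Ideal.span ({a * b} : Set R)) →ₗ[R] (R ⧸ Ideal.span ({a} : Set R)) :=
    Submodule.mapQ _ _ LinearMap.id (by
      intro x hx
      obtain ⟨c, rfl⟩ := Ideal.mem_span_singleton'.1 hx
      exact Ideal.mem_span_singleton'.2 ⟨c * b, by ring⟩)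
  refine (Module.length_eq_add_of_exact f g ?_ ?_ ?_).trans (add_comm _ _)
  · rw [injective_iff_map_eq_zero]
    intro x hx
    obtain ⟨x, rfl⟩ := Submodule.Quotient.mk_surjective _ x
    rw [Submodule.mapQ_apply, Submodule.Quotient.mk_eq_zero, Ideal.mem_span_singleton'] at hx
    obtain ⟨c, hc⟩ := hx
    rw [Submodule.Quotient.mk_eq_zero, Ideal.mem_span_singleton']
    exact ⟨c, ha.left (by simp only [LinearMap.mulLeft_apply] at hc ⊢; rw [← hc]; ring)⟩
  · intro x
    obtain ⟨x, rfl⟩ := Submodule.Quotient.mk_surjective _ x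
    exact ⟨Submodule.Quotient.mk x, rfl⟩
  · intro x
    obtain ⟨x, rfl⟩ := Submodule.Quotient.mk_surjective _ x
    constructor
    · intro h
      rw [Submodule.mapQ_apply, Submodule.Quotient.mk_eq_zero, Ideal.mem_span_singleton'] at h
      obtain ⟨c, hc⟩ := h
      refine ⟨Submodule.Quotient.mk c, ?_⟩
      rw [Submodule.mapQ_apply]
      simp only [LinearMap.id_apply] at hc
      rw [LinearMap.mulLeft_apply, ← hc, mul_comm a c]
    · rintro ⟨y, hy⟩
      obtain ⟨y, rfl⟩ := Submodule.Quotient.mk_surjective _ y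
      rw [← hy, Submodule.mapQ_apply, Submodule.mapQ_apply, Submodule.Quotient.mk_eq_zero,
        Ideal.mem_span_singleton']
      exact ⟨y, by simp [mul_comm]⟩


end Groth.Agent.S9160
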