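import Groth.Statements.S9436
import Mathlib

set_option autoImplicit false
universe u
open CAlg

namespace Groth.Agent.S9436
open MvPolynomial TensorProduct


open TensorProduct in
/-- Étale algebras lift along surjections: for an ideal I of R and an étale (R/I)-algebra S̄ there is an
étale R-algebra S with (R/I) ⊗_R S ≅ S̄ over R/I. -/
theorem result (R : Type u) [CommRing R] (I : Ideal R) (Sb : Type u)
    [CommRing Sb] [Algebra (R ⧸ I) Sb] [Algebra.Etale (R ⧸ I) Sb] :
    ∃ (S : Type u) (_ : CommRing S) (_ : Algebra R S), Algebra.Etale R S ∧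
      Nonempty (((R ⧸ I) ⊗[R] S) ≃ₐ[R ⧸ I] Sb) := by
  classical
  letI : Algebra R Sb := ((algebraMap (R ⧸ I) Sb).comp (algebraMap R (R ⧸ I))).toAlgebra
  haveI : IsScalarTower R (R ⧸ I) Sb := .of_algebraMap_eq' rfl
  obtain ⟨ι, σ, _, _, P, hP⟩ := (Algebra.Etale.iff_isStandardSmoothOfRelativeDimension_zero.1
    (inferInstance : Algebra.Etale (R ⧸ I) Sb)).out
  let := Fintype.ofFinite σ
  have hlift : ∀ j, ∃ p : MvPolynomial ι R, map (algebraMap R (R ⧸ I)) p = P.relation j := fun j =>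
    map_surjective _ Ideal.Quotient.mk_surjective _
  choose v hv using hlift
  let P0 := Algebra.PreSubmersivePresentation.naive (v := v) P.map P.map_inj
  let Q := MvPolynomial ι R ⧸ Ideal.span (Set.range v)
  let J : Q := P0.jacobian
  let S := Localization.Away J
  let P1 := (Algebra.PreSubmersivePresentation.localizationAway (R := Q) S J).comp P0
  have hu : IsUnit P1.jacobian := by
    rw [Algebra.PreSubmersivePresentation.comp_jacobian_eq_jacobian_smul_jacobian,
      Algebra.PreSubmersivePresentation.localizationAway_jacobian, Algebra.smul_def]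
    exact (IsLocalization.Away.algebraMap_isUnit J).mul (IsLocalization.Away.algebraMap_isUnit J)
  let P2 : Algebra.SubmersivePresentation R S (Unit ⊕ ι) (Unit ⊕ σ) := ⟨P1, hu⟩
  have hdim : P2.dimension = 0 := by
    have h1 : Nat.card ι - Nat.card σ = 0 := hP
    show Nat.card (Unit ⊕ ι) - Nat.card (Unit ⊕ σ) = 0
    rw [Nat.card_sum, Nat.card_sum]
    omega
  have hS : Algebra.Etale R S :=
    Algebra.Etale.iff_isStandardSmoothOfRelativeDimension_zero.2 (P2.isStandardSmoothOfRelativeDimension hdim)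
  refine ⟨S, inferInstance, inferInstance, hS, ?_⟩
  -- the map to `Sb`
  let ψ : MvPolynomial ι R →ₐ[R] Sb := aeval P.val
  have hψv : ∀ j, ψ (v j) = 0 := fun j => by
    show aeval P.val (v j) = 0
    rw [← aeval_map_algebraMap (R ⧸ I) P.val (v j), hv]
    exact P.aeval_val_relation j
  let φ0 : Q →ₐ[R] Sb := Ideal.Quotient.liftₐ _ ψ (fun x hx => by
    refine (Ideal.span_le.2 ?_ : Ideal.span (Set.range v) ≤ RingHom.ker ψ) hx
    rintro _ ⟨j, rfl⟩
    exact hψv j)
  have hjac : φ0 J = P.jacobian := by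
    have h1 : J = Ideal.Quotient.mk _ P0.jacobiMatrix.det := P0.jacobian_eq_jacobiMatrix_det
    rw [h1, P.jacobian_eq_jacobiMatrix_det, Algebra.Generators.algebraMap_apply]
    show ψ _ = _
    rw [AlgHom.map_det, AlgHom.map_det]
    congr 1
    ext i j
    simp only [P0, ψ, AlgHom.mapMatrix_apply, Matrix.map_apply, Algebra.PreSubmersivePresentation.jacobiMatrix_naive,
      Algebra.PreSubmersivePresentation.jacobiMatrix_apply]
    rw [← aeval_map_algebraMap (R ⧸ I) P.val, ← pderiv_map]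
    show aeval P.val (pderiv (P.map i) (map (algebraMap R (R ⧸ I)) (v j))) = _
    rw [hv]
  let φ : S →ₐ[R] Sb := IsLocalization.liftAlgHom (M := Submonoid.powers J) (f := φ0) (fun y => by
    obtain ⟨_, n, rfl⟩ := y
    show IsUnit (φ0 (J ^ n))
    rw [map_pow, hjac]
    exact P.jacobian_isUnit.pow n)
  let Φ : (R ⧸ I) ⊗[R] S →ₐ[R ⧸ I] Sb :=
    Algebra.TensorProduct.lift (Algebra.ofId (R ⧸ I) Sb) φ (fun _ _ => Commute.all _ _)
  let x : ι → (R ⧸ I) ⊗[R] S := fun i => 1 ⊗ₜ algebraMap Q S (Ideal.Quotient.mk _ (X i))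
  let π : MvPolynomial ι (R ⧸ I) →ₐ[R ⧸ I] Sb := aeval P.val
  have hπ : Function.Surjective π := P.toGenerators.aeval_val_surjective
  let aR : MvPolynomial ι R →ₐ[R] (R ⧸ I) ⊗[R] S :=
    (Algebra.TensorProduct.includeRight).comp
      ((IsScalarTower.toAlgHom R Q S).comp (Ideal.Quotient.mkₐ R _))
  have haR : ∀ p, aeval x (map (algebraMap R (R ⧸ I)) p) = aR p := by
    intro p
    rw [aeval_map_algebraMap]
    exact AlgHom.congr_fun (algHom_ext fun i => by rw [aeval_X]; rfl) p
  have hker : RingHom.ker π ≤ RingHom.ker (aeval x : MvPolynomial ι (R ⧸ I) →ₐ[R ⧸ I] _) := by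
    rw [show RingHom.ker π = P.ker from P.ker_eq_ker_aeval_val.symm, ← P.span_range_relation_eq_ker, Ideal.span_le]
    rintro _ ⟨j, rfl⟩
    show aeval x (P.relation j) = 0
    rw [← hv j, haR]
    show (1 : R ⧸ I) ⊗ₜ algebraMap Q S (Ideal.Quotient.mk _ (v j)) = 0
    rw [show Ideal.Quotient.mk (Ideal.span (Set.range v)) (v j) = 0 from
      Ideal.Quotient.eq_zero_iff_mem.2 (Ideal.subset_span ⟨j, rfl⟩), map_zero, tmul_zero]
  let g : Sb →ₐ[R ⧸ I] (R ⧸ I) ⊗[R] S :=
    (Ideal.Quotient.liftₐ _ (aeval x) fun a ha => RingHom.mem_ker.1 (hker ha)).comp (Ideal.quotientKerAlgEquivOfSurjective hπ).symm.toAlgHom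
  have hg : ∀ p, g (π p) = aeval x p := fun p => by
    show Ideal.Quotient.liftₐ (RingHom.ker π) (aeval x) (fun a ha => RingHom.mem_ker.1 (hker ha)) ((Ideal.quotientKerAlgEquivOfSurjective hπ).symm (π p)) = _
    rw [show (Ideal.quotientKerAlgEquivOfSurjective hπ).symm (π p) = Ideal.Quotient.mk _ p from
      (Ideal.quotientKerAlgEquivOfSurjective hπ).injective (by rw [AlgEquiv.apply_symm_apply]; rfl)]
    rfl
  have hφQ : ∀ p, φ (algebraMap Q S (Ideal.Quotient.mk _ p)) = π (map (algebraMap R (R ⧸ I)) p) := fun p => by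
    simp only [φ, π, IsLocalization.liftAlgHom_apply, IsLocalization.lift_eq, aeval_map_algebraMap]
    rfl
  have hinv : g.comp Φ = AlgHom.id _ _ := by
    refine Algebra.TensorProduct.ext (Subsingleton.elim _ _) ?_
    refine IsLocalization.algHom_ext (Submonoid.powers J) ?_
    refine Ideal.Quotient.algHom_ext R (MvPolynomial.algHom_ext fun i => ?_)
    show g (Φ ((1 : R ⧸ I) ⊗ₜ algebraMap Q S (Ideal.Quotient.mk _ (X i)))) = x i
    rw [Algebra.TensorProduct.lift_tmul, map_one, one_mul, hφQ, hg, map_X, aeval_X]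
  refine ⟨AlgEquiv.ofBijective Φ ⟨?_, ?_⟩⟩
  · exact Function.LeftInverse.injective (g := g) fun t => AlgHom.congr_fun hinv t
  · intro s
    obtain ⟨p, rfl⟩ := hπ s
    obtain ⟨q, rfl⟩ := map_surjective (algebraMap R (R ⧸ I)) Ideal.Quotient.mk_surjective p
    exact ⟨1 ⊗ₜ algebraMap Q S (Ideal.Quotient.mk _ q), by
      rw [Algebra.TensorProduct.lift_tmul, map_one, one_mul, hφQ]⟩


end Groth.Agent.S9436
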