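import Groth.Statements.S12245
import Groth.Agent.RG.StepEtale


set_option autoImplicit false
universe u
open FlatMor

namespace Groth.Agent.S12245

open TensorProduct AlgebraicGeometry in
/-- All schemes are affine. Let R → S be of finite type, N a finite S-module, p ⊆ R and q ⊆ S primes
with q over p, and (C, D, G, n; z, y) a one-step dévissage of N/S/R at q (one-step dévissage over p;
z a prime of C over q and over the prime y of D, unique over y; κ(y)/κ(p) purely transcendental;
local dimension of the fibre support at q equal to n). Let (R, p) → (R', p') and (D, y) → (D', y')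
be elementary étale ring maps at those primes (étale, prime over prime, trivial residue field
extension) with D' an R'-algebra compatibly with D and R, and y' over p'. Then there are: an
elementary étale ring map (R', p') → (R'', p''); an R''-algebra D'' which is an affine open of the
base change of D' to R'' (an open immersion on spectra out of a pushout T of D' along R' → R''),
compatibly with D' and R'', with a prime y'' over y' and over p''; the base change C'' of C along D
→ D'' with a prime z'' over z and y'' and the base change G'' of G to C''; an elementary étale ring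
map (S, q) → (S'', q'') with S'' an R''-algebra compatibly with R → S and a surjection S'' → C''
compatible with S → C and with D'' → C'' over R'', z'' lying over q''; and the base change N'' of N
to S'' — such that (C'', D'', G'', n; z'', y'') is a one-step dévissage of N''/S''/R'' at q''
(including the four pointed conditions). -/
theorem result
    (R S : Type u) [CommRing R] [CommRing S] [Algebra R S] [Algebra.FiniteType R S]
    (N : Type u) [AddCommGroup N] [Module S N] [Module R N] [IsScalarTower R S N] [Module.Finite S N]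
    (p : Ideal R) [p.IsPrime] (q : Ideal S) [q.IsPrime] [q.LiesOver p]
    (C D G : Type u) [CommRing C] [CommRing D] [Algebra S C] [Algebra R C] [IsScalarTower R S C]
    [Algebra R D] [Algebra D C] [IsScalarTower R D C] [AddCommGroup G] [Module C G] [Module S G]
    [IsScalarTower S C G] (n : ℕ)
    (h : FlatCA.IsOneStepDevissage R S N p C D G n)
    (z : Ideal C) [z.IsPrime] (y : Ideal D) [y.IsPrime] [z.LiesOver q] [z.LiesOver y] [y.LiesOver p]
    (h1 : ∃ (ξ : PrimeSpectrum (p.Fiber S)) (hξ : ξ ∈ Module.support (p.Fiber S) (FlatCA.fiberMod p S N)),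
      ξ.asIdeal = FlatCA.fiberIdeal p q ∧
      FlatMor.localDim (Module.support (p.Fiber S) (FlatCA.fiberMod p S N)) ⟨ξ, hξ⟩ = n)
    (h3 : ∀ (z₁ : Ideal C) [z₁.IsPrime], z₁.LiesOver y → z₁ = z)
    (h4 : FlatCA.PurelyTranscendental p y)
    (R' : Type u) [CommRing R'] [Algebra R R'] (p' : Ideal R') [p'.IsPrime] (hR' : FlatCA.IsEtaleNhd R R' p p')
    (D' : Type u) [CommRing D'] [Algebra D D'] [Algebra R' D'] [Algebra R D'] [IsScalarTower R R' D']
    [IsScalarTower R D D'] (y' : Ideal D') [y'.IsPrime] (hD' : FlatCA.IsEtaleNhd D D' y y') [y'.LiesOver p'] :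
    ∃ (R'' : Type u) (_ : CommRing R'') (_ : Algebra R' R'') (_ : Algebra R R'') (_ : IsScalarTower R R' R'')
      (p'' : Ideal R'') (_ : p''.IsPrime),
      FlatCA.IsEtaleNhd R' R'' p' p'' ∧
    ∃ (T : Type u) (_ : CommRing T) (_ : Algebra R' T) (_ : Algebra R'' T) (_ : Algebra D' T)
      (_ : IsScalarTower R' R'' T) (_ : IsScalarTower R' D' T),
      Algebra.IsPushout R' R'' D' T ∧
    ∃ (D'' : Type u) (_ : CommRing D'') (_ : Algebra T D'') (_ : Algebra D' D'') (_ : Algebra R'' D'')
      (_ : Algebra D D'') (_ : Algebra R D'') (_ : IsScalarTower D' T D'') (_ : IsScalarTower R'' T D'')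
      (_ : IsScalarTower D D' D'') (_ : IsScalarTower R R'' D'') (_ : IsScalarTower R D D'')
      (y'' : Ideal D'') (_ : y''.IsPrime) (_ : y''.LiesOver y') (_ : y''.LiesOver p''),
      IsOpenImmersion (Spec.map (CommRingCat.ofHom (algebraMap T D''))) ∧
    ∃ (C'' : Type u) (_ : CommRing C'') (_ : Algebra C C'') (_ : Algebra D'' C'') (_ : Algebra D C'')
      (_ : Algebra R'' C'') (_ : IsScalarTower D D'' C'') (_ : IsScalarTower D C C'') (_ : IsScalarTower R'' D'' C'')
      (z'' : Ideal C'') (_ : z''.IsPrime) (_ : z''.LiesOver z) (_ : z''.LiesOver y''),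
      Algebra.IsPushout D D'' C C'' ∧
    ∃ (G'' : Type u) (_ : AddCommGroup G'') (_ : Module C'' G'') (_ : Module C G'') (_ : IsScalarTower C C'' G'')
      (gG : G →ₗ[C] G''), IsBaseChange C'' gG ∧
    ∃ (S'' : Type u) (_ : CommRing S'') (_ : Algebra S S'') (_ : Algebra R'' S'') (_ : Algebra R S'')
      (_ : IsScalarTower R S S'') (_ : IsScalarTower R R'' S'') (q'' : Ideal S'') (_ : q''.IsPrime)
      (_ : Algebra S'' C'') (_ : Algebra S C'') (_ : IsScalarTower S S'' C'') (_ : IsScalarTower S C C'')
      (_ : IsScalarTower R'' S'' C'') (_ : Module S'' G'') (_ : IsScalarTower S'' C'' G''),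
      FlatCA.IsEtaleNhd S S'' q q'' ∧ z''.LiesOver q'' ∧
    ∃ (N'' : Type u) (_ : AddCommGroup N'') (_ : Module S'' N'') (_ : Module S N'') (_ : IsScalarTower S S'' N'')
      (_ : Module R'' N'') (_ : IsScalarTower R'' S'' N'') (gN : N →ₗ[S] N''), IsBaseChange S'' gN ∧
      FlatCA.IsOneStepDevissage R'' S'' N'' p'' C'' D'' G'' n ∧
      (∃ (ξ : PrimeSpectrum (p''.Fiber S'')) (hξ : ξ ∈ Module.support (p''.Fiber S'') (FlatCA.fiberMod p'' S'' N'')),
        ξ.asIdeal = FlatCA.fiberIdeal p'' q'' ∧
        FlatMor.localDim (Module.support (p''.Fiber S'') (FlatCA.fiberMod p'' S'' N'')) ⟨ξ, hξ⟩ = n) ∧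
      (∀ (z₂ : Ideal C'') [z₂.IsPrime], z₂.LiesOver y'' → z₂ = z'') ∧
      FlatCA.PurelyTranscendental p'' y'' := by
  classical
  obtain ⟨⟨e⟩, hsurj, hfp, hfin, hG, hsm, hirr, -⟩ := h
  haveI := hfp
  haveI := hfin
  haveI := hG
  haveI := hR'.1
  haveI := hD'.1
  obtain ⟨hR'o, hR'b⟩ := hR'.2
  obtain ⟨hD'o, hD'b⟩ := hD'.2
  have hsm' : FlatCA.SmoothRelDim n R' D' := RG.smoothRelDim_etale hsm
  have hpt' : FlatCA.PurelyTranscendental p' y' := by
    refine RG.PT.purelyTranscendental p' y' ((RG.PT.of_purelyTranscendental p y h4).congr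
      (RingEquiv.ofBijective (Ideal.ResidueField.mapₐ p p' (Algebra.ofId R R') hR'o.over).toRingHom hR'b)
      (RingEquiv.ofBijective (Ideal.ResidueField.mapₐ y y' (Algebra.ofId D D') hD'o.over).toRingHom hD'b) fun x => ?_)
    refine RingHom.congr_fun (f := (Ideal.ResidueField.mapₐ y y' (Algebra.ofId D D') hD'o.over).toRingHom.comp
        (Ideal.ResidueField.mapₐ p y (Algebra.ofId R D) _).toRingHom)
      (g := (Ideal.ResidueField.mapₐ p' y' (Algebra.ofId R' D') _).toRingHom.comp
        (Ideal.ResidueField.mapₐ p p' (Algebra.ofId R R') hR'o.over).toRingHom) ?_ x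
    refine Ideal.ResidueField.ringHom_ext (RingHom.ext fun r => ?_)
    show Ideal.ResidueField.map y y' _ _ (Ideal.ResidueField.map p y _ _ (algebraMap R p.ResidueField r)) =
      Ideal.ResidueField.map p' y' _ _ (Ideal.ResidueField.map p p' _ _ (algebraMap R p.ResidueField r))
    rw [Ideal.ResidueField.map_algebraMap, Ideal.ResidueField.map_algebraMap, Ideal.ResidueField.map_algebraMap,
      Ideal.ResidueField.map_algebraMap]
    exact congrArg (algebraMap D' y'.ResidueField)
      ((IsScalarTower.algebraMap_apply R D D' r).symm.trans (IsScalarTower.algebraMap_apply R R' D' r))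
  obtain ⟨R'', _, _, D'', _, _, _, p'', y'', _, _, hR'', hD'', hyp, hcompat, hsm'', hirr'', hopen⟩ :=
    RG.exists_geomIntegral_ring hsm' p' y' hpt'
  haveI := hR''.1
  haveI := hD''.1
  obtain ⟨hR''o, hR''b⟩ := hR''.2
  obtain ⟨hD''o, hD''b⟩ := hD''.2
  letI : Algebra R R'' := ((algebraMap R' R'').comp (algebraMap R R')).toAlgebra
  haveI : IsScalarTower R R' R'' := IsScalarTower.of_algebraMap_eq' rfl
  letI : Algebra D D'' := ((algebraMap D' D'').comp (algebraMap D D')).toAlgebra
  haveI : IsScalarTower D D' D'' := IsScalarTower.of_algebraMap_eq' rfl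
  letI : Algebra R D'' := ((algebraMap D D'').comp (algebraMap R D)).toAlgebra
  haveI : IsScalarTower R D D'' := IsScalarTower.of_algebraMap_eq' rfl
  haveI : IsScalarTower R R'' D'' := IsScalarTower.of_algebraMap_eq fun r => by
    show algebraMap D' D'' (algebraMap D D' (algebraMap R D r)) = algebraMap R'' D'' (algebraMap R' R'' (algebraMap R R' r))
    rw [hcompat, ← IsScalarTower.algebraMap_apply R D D', ← IsScalarTower.algebraMap_apply R R' D']
  haveI hy''p : y''.LiesOver p'' := ⟨hyp.symm⟩
  have hRR'' : FlatCA.IsEtaleNhd R R'' p p'' := RG.isEtaleNhd_trans hR' hR''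
  have hDD'' : FlatCA.IsEtaleNhd D D'' y y'' := RG.isEtaleNhd_trans hD' hD''
  haveI := hRR''.1
  haveI := hDD''.1
  obtain ⟨hy''y, hκy⟩ := hDD''.2
  obtain ⟨hp''p, hκp⟩ := hRR''.2
  let T := R'' ⊗[R'] D'
  letI : Algebra D' T := Algebra.TensorProduct.rightAlgebra
  haveI : IsScalarTower R' D' T := IsScalarTower.of_algebraMap_eq fun r => by
    show (algebraMap R' R'' r) ⊗ₜ[R'] (1 : D') = (1 : R'') ⊗ₜ[R'] algebraMap R' D' r
    rw [Algebra.algebraMap_eq_smul_one, TensorProduct.smul_tmul, ← Algebra.algebraMap_eq_smul_one]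
  letI : Algebra R' D'' := ((algebraMap D' D'').comp (algebraMap R' D')).toAlgebra
  haveI : IsScalarTower R' D' D'' := IsScalarTower.of_algebraMap_eq' rfl
  haveI : IsScalarTower R' R'' D'' := IsScalarTower.of_algebraMap_eq fun r => (hcompat r).symm
  let φ : T →ₐ[R'] D'' := Algebra.TensorProduct.lift (IsScalarTower.toAlgHom R' R'' D'')
    (IsScalarTower.toAlgHom R' D' D'') fun _ _ => Commute.all _ _
  letI : Algebra T D'' := φ.toRingHom.toAlgebra
  haveI : IsScalarTower D' T D'' := IsScalarTower.of_algebraMap_eq fun d => by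
    refine Eq.trans ?_ (Algebra.TensorProduct.lift_tmul _ _ _ (1 : R'') d).symm
    simp
  haveI : IsScalarTower R'' T D'' := IsScalarTower.of_algebraMap_eq fun r => by
    refine Eq.trans ?_ (Algebra.TensorProduct.lift_tmul _ _ _ r (1 : D')).symm
    simp
  refine ⟨R'', inferInstance, inferInstance, inferInstance, inferInstance, p'', inferInstance, hR'',
    T, inferInstance, inferInstance, inferInstance, inferInstance, inferInstance, inferInstance, inferInstance,
    D'', inferInstance, inferInstance, inferInstance, inferInstance, inferInstance, inferInstance, inferInstance,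
    inferInstance, inferInstance, inferInstance, inferInstance, y'', inferInstance, hD''o, hy''p,
    hopen φ.toRingHom (fun a b => Algebra.TensorProduct.lift_tmul _ _ _ a b), ?_⟩
  -- the finite algebra
  let C'' := D'' ⊗[D] C
  letI : Algebra C C'' := Algebra.TensorProduct.rightAlgebra
  haveI : IsScalarTower R'' D'' C'' := inferInstance
  haveI : IsScalarTower D C C'' := IsScalarTower.of_algebraMap_eq fun r => by
    show (algebraMap D D'' r) ⊗ₜ[D] (1 : C) = (1 : D'') ⊗ₜ[D] algebraMap D C r
    rw [Algebra.algebraMap_eq_smul_one, TensorProduct.smul_tmul, ← Algebra.algebraMap_eq_smul_one]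
  haveI hDC : Algebra.IsPushout D D'' C C'' := inferInstance
  haveI : Algebra.IsPushout D C D'' C'' := Algebra.IsPushout.symm inferInstance
  haveI : Algebra.Etale C C'' := Algebra.Etale.of_equiv (Algebra.IsPushout.equiv D C D'' C'')
  obtain ⟨z'', hz''i, hz''y, hz''z⟩ := RG.exists_prime_baseChange hDD'' z
  haveI := hz''i
  haveI hz''y' : z''.LiesOver y'' := ⟨hz''y.symm⟩
  haveI hz''z' : z''.LiesOver z := ⟨hz''z.symm⟩
  refine ⟨C'', inferInstance, inferInstance, inferInstance, inferInstance, inferInstance, inferInstance, inferInstance,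
    inferInstance, z'', inferInstance, hz''z', hz''y', hDC, ?_⟩
  let G'' := C'' ⊗[C] G
  refine ⟨G'', inferInstance, inferInstance, inferInstance, inferInstance, TensorProduct.mk C C'' G 1,
    TensorProduct.isBaseChange C G C'', ?_⟩
  -- the lift to the ambient ring
  let I := RingHom.ker (algebraMap S C)
  let ε : (S ⧸ I) ≃+* C := RingHom.quotientKerEquivOfSurjective hsurj
  letI : Algebra (S ⧸ I) C'' := ((algebraMap C C'').comp ε.toRingHom).toAlgebra
  letI : Algebra (S ⧸ I) C := ε.toRingHom.toAlgebra
  haveI : IsScalarTower (S ⧸ I) C C'' := IsScalarTower.of_algebraMap_eq' rfl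
  haveI : Algebra.Etale (S ⧸ I) C :=
    Algebra.Etale.of_equiv (AlgEquiv.ofBijective (Algebra.ofId (S ⧸ I) C) ε.bijective)
  haveI : Algebra.Etale (S ⧸ I) C'' := Algebra.Etale.comp (S ⧸ I) C C''
  obtain ⟨S'', _, _, σ, π, hS''et, hπsurj, hπS, hπσ, hσR, hker⟩ :=
    RG.exists_lift (R := R) (S := S) I ((algebraMap D'' C'').comp (algebraMap R'' D'')) fun r => by
      show algebraMap D'' C'' (algebraMap R'' D'' (algebraMap R R'' r)) = algebraMap C C'' (algebraMap S C (algebraMap R S r))
      rw [← IsScalarTower.algebraMap_apply R R'' D'', ← IsScalarTower.algebraMap_apply R S C,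
        IsScalarTower.algebraMap_apply R D D'', IsScalarTower.algebraMap_apply R D C,
        ← IsScalarTower.algebraMap_apply D D'' C'', ← IsScalarTower.algebraMap_apply D C C'']
  letI : Algebra R'' S'' := σ.toAlgebra
  letI : Algebra R S'' := ((algebraMap S S'').comp (algebraMap R S)).toAlgebra
  haveI : IsScalarTower R S S'' := .of_algebraMap_eq' rfl
  haveI : IsScalarTower R R'' S'' := .of_algebraMap_eq fun r => (hσR r).symm
  letI : Algebra S'' C'' := π.toAlgebra
  haveI : IsScalarTower R'' S'' C'' := .of_algebraMap_eq' hπσ.symm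
  letI : Algebra S C'' := ((algebraMap C C'').comp (algebraMap S C)).toAlgebra
  haveI : IsScalarTower S C C'' := .of_algebraMap_eq' rfl
  haveI : IsScalarTower S S'' C'' := .of_algebraMap_eq fun s => (hπS s).symm
  let q'' : Ideal S'' := z''.comap π
  haveI : q''.IsPrime := inferInstance
  haveI hz''q : z''.LiesOver q'' := ⟨rfl⟩
  have hq''q : q = q''.comap (algebraMap S S'') := by
    rw [Ideal.comap_comap, show π.comp (algebraMap S S'') = (algebraMap C C'').comp (algebraMap S C) from
      RingHom.ext hπS, ← Ideal.comap_comap, ← Ideal.under_def, ← Ideal.under_def, ← hz''z'.over]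
    exact Ideal.LiesOver.over
  haveI : q''.LiesOver q := ⟨hq''q⟩
  haveI : q''.LiesOver p'' := ⟨by
    rw [Ideal.under_def, Ideal.comap_comap, show π.comp (algebraMap R'' S'') = _ from hπσ, ← Ideal.comap_comap, hz''y,
      ← Ideal.under_def]
    exact hy''p.over⟩
  have hκz := RG.residueField_bijective_baseChange (R := D) (S := C) (R' := D'') (S' := C'') y y'' hκy z z''
  have hbijS : Function.Bijective (Ideal.ResidueField.mapₐ q q'' (Algebra.ofId S S'') hq''q) :=
    RG.bijective_residueField_lift (algebraMap S S'') π (algebraMap S C) (algebraMap C C'')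
      (RingHom.ext hπS) hπsurj hsurj q q'' z z'' hq''q rfl Ideal.LiesOver.over hz''z'.over hκz
  haveI : IsScalarTower S'' C'' G'' := inferInstance
  refine ⟨S'', inferInstance, inferInstance, inferInstance, inferInstance, inferInstance, inferInstance, q'',
    inferInstance, inferInstance, inferInstance, inferInstance, inferInstance, inferInstance, inferInstance,
    inferInstance, ⟨hS''et, ⟨hq''q⟩, hbijS⟩, hz''q, ?_⟩
  let N'' := S'' ⊗[S] N
  haveI : IsScalarTower R'' S'' N'' := inferInstance
  refine ⟨N'', inferInstance, inferInstance, inferInstance, inferInstance, inferInstance, inferInstance,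
    TensorProduct.mk S S'' N 1, TensorProduct.isBaseChange S N S'', ?_⟩
  haveI hSC : Algebra.IsPushout S S'' C C'' := RG.isPushout_of_ker hsurj hπsurj hker
  haveI := RG.isPushout_self S S''
  haveI := hS''et
  haveI : Module.Finite D'' C'' := inferInstance
  haveI : Module.Finite C'' G'' := inferInstance
  obtain ⟨e''⟩ := RG.nonempty_equiv_baseChange S S'' S S'' C C'' N G e N'' (TensorProduct.mk S S'' N 1)
    (TensorProduct.isBaseChange S N S'') G'' (TensorProduct.mk C C'' G 1) (TensorProduct.isBaseChange C G C'')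
  obtain ⟨hdim, hloc⟩ := RG.dim_of_etale N p q p'' q'' h1 N'' (TensorProduct.mk S S'' N 1)
    (TensorProduct.isBaseChange S N S'') C'' D'' G'' hπsurj e'' hsm''
  refine ⟨⟨⟨e''⟩, hπsurj, RG.finitePresentation_baseChange S S'' S S'' C C'', inferInstance, inferInstance, hsm'',
    hirr'', hdim⟩, hloc, fun z₂ _ hz₂ => ?_, ?_⟩
  · haveI : (z₂.comap (algebraMap C C'')).LiesOver y := ⟨by
      rw [Ideal.under_def, Ideal.comap_comap, ← IsScalarTower.algebraMap_eq D C C'', IsScalarTower.algebraMap_eq D D'' C'',
        ← Ideal.comap_comap, ← Ideal.under_def (A := D'') z₂, ← hz₂.over, ← Ideal.under_def]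
      exact hy''y.over⟩
    haveI : z₂.LiesOver z := ⟨(h3 (z₂.comap (algebraMap C C'')) inferInstance).symm⟩
    haveI := hz₂
    exact RG.eq_of_liesOver (R := D) (S := C) (R' := D'') (S' := C'') y y'' hκy z z₂ z''
  · refine RG.PT.purelyTranscendental p'' y'' ((RG.PT.of_purelyTranscendental p' y' hpt').congr
      (RingEquiv.ofBijective (Ideal.ResidueField.mapₐ p' p'' (Algebra.ofId R' R'') hR''o.over).toRingHom hR''b)
      (RingEquiv.ofBijective (Ideal.ResidueField.mapₐ y' y'' (Algebra.ofId D' D'') hD''o.over).toRingHom hD''b) fun x => ?_)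
    refine RingHom.congr_fun (f := (Ideal.ResidueField.mapₐ y' y'' (Algebra.ofId D' D'') hD''o.over).toRingHom.comp
        (Ideal.ResidueField.mapₐ p' y' (Algebra.ofId R' D') _).toRingHom)
      (g := (Ideal.ResidueField.mapₐ p'' y'' (Algebra.ofId R'' D'') _).toRingHom.comp
        (Ideal.ResidueField.mapₐ p' p'' (Algebra.ofId R' R'') hR''o.over).toRingHom) ?_ x
    refine Ideal.ResidueField.ringHom_ext (RingHom.ext fun r => ?_)
    show Ideal.ResidueField.map y' y'' _ _ (Ideal.ResidueField.map p' y' _ _ (algebraMap R' p'.ResidueField r)) =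
      Ideal.ResidueField.map p'' y'' _ _ (Ideal.ResidueField.map p' p'' _ _ (algebraMap R' p'.ResidueField r))
    rw [Ideal.ResidueField.map_algebraMap, Ideal.ResidueField.map_algebraMap, Ideal.ResidueField.map_algebraMap,
      Ideal.ResidueField.map_algebraMap]
    exact congrArg (algebraMap D'' y''.ResidueField) (hcompat r).symm

end Groth.Agent.S12245
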