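import Groth.Statements.S1256
import Groth.Agent.RG.DevExists
import Groth.Agent.RG.DevTrivial
import Groth.Agent.RG.EtalePieces
-- import your own Groth.Agent.* helpers here

set_option autoImplicit false
universe u
open FlatMor

namespace Groth.Agent.S1256

set_option backward.isDefEq.respectTransparency false
set_option backward.isDefEq.respectTransparency.types false
set_option linter.style.haveILetI false
set_option maxHeartbeats 1000000

open TensorProduct

attribute [local instance] Algebra.TensorProduct.rightAlgebra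

/-- Around every point of the fibre there is a piece with a dévissage. -/
theorem exists_piece {A B : Type u} [CommRing A] [CommRing B] [Algebra A B] [Algebra.FiniteType A B]
    (N : Type u) [AddCommGroup N] [Module B N] [Module.Finite B N] (p : Ideal A) [p.IsPrime]
    (q : Ideal B) [q.IsPrime] [q.LiesOver p] :
    ∃ π : RG.Piece A B p, (Subsingleton (π.S' ⊗[B] N) ∨ RG.DevAt π.R' π.p' π.S' (π.S' ⊗[B] N) π.q') ∧
      π.q'.comap (algebraMap B π.S') = q := by
  letI : Module A N := Module.compHom N (algebraMap A B)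
  haveI : IsScalarTower A B N := IsScalarTower.of_algebraMap_smul fun _ _ => rfl
  by_cases hqs : (⟨q, inferInstance⟩ : PrimeSpectrum B) ∈ Module.support B N
  · obtain ⟨x, hxq, hx⟩ := RG.exists_fibre_point p q N hqs
    obtain ⟨R', S', _, _, _, _, _, _, _, _, p', q', _, _, hR, hS, ho, hdev⟩ := RG.devAfterEtale N p q ⟨x, hx, hxq⟩
    haveI := hS.1
    haveI := ho
    obtain ⟨hq, -⟩ := hS.2
    exact ⟨{ R' := R', S' := S', p' := p', nhd := hR, q' := q' }, Or.inr hdev, hq.over.symm⟩
  · rw [Module.support_eq_zeroLocus, PrimeSpectrum.mem_zeroLocus, Set.not_subset] at hqs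
    obtain ⟨h, hh, hhq⟩ := hqs
    let B₁ := Localization.Away h
    haveI hq₁ := (RG.map_away_isPrime (A₁ := B₁) h q hhq).1
    have hq := (RG.map_away_isPrime (A₁ := B₁) h q hhq).2
    haveI : (q.map (algebraMap B B₁)).LiesOver q := ⟨hq.symm⟩
    haveI : (q.map (algebraMap B B₁)).LiesOver p := Ideal.LiesOver.trans _ q p
    haveI : Algebra.Etale B B₁ := Algebra.Etale.of_isLocalizationAway h
    refine ⟨{ R' := A, S' := B₁, p' := p, nhd := RG.isEtaleNhd_refl A p, q' := q.map (algebraMap B B₁) }, Or.inl ?_, hq⟩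
    refine subsingleton_of_forall_eq 0 fun z => ?_
    induction z using TensorProduct.induction_on with
    | zero => rfl
    | tmul a m =>
      refine (IsLocalization.Away.algebraMap_isUnit (S := B₁) h).smul_eq_zero.1 ?_
      rw [algebraMap_smul, ← TensorProduct.tmul_smul, Module.mem_annihilator.1 hh m, TensorProduct.tmul_zero]
    | add a b ha hb => rw [ha, hb, add_zero]


/-- Ring form, X = Spec B and S = Spec A affine: let B be a finite type A-algebra, N a finite B-module
and p a prime of A. Then there is an étale A-algebra A' with a prime p' over p having the same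
residue field such that, for the base changes B_{A'}, N_{A'} (any models), there are finitely many
étale B_{A'}-algebras C_i with base changes N_i of N_{A'}, each N_i/C_i/A' admitting a complete
dévissage over p', such that every prime of B_{A'} over p' is the contraction of a prime of some
C_i. -/
theorem result {A B : Type u} [CommRing A] [CommRing B] [Algebra A B] [Algebra.FiniteType A B]
    (N : Type u) [AddCommGroup N] [Module B N] [Module.Finite B N] (p : Ideal A) [p.IsPrime] :
    ∃ (A' : Type u) (_ : CommRing A') (_ : Algebra A A') (p' : Ideal A') (_ : p'.IsPrime), FlatCA.IsEtaleNhd A A' p p' ∧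
      ∀ (BA NA : Type u) [CommRing BA] [Algebra B BA] [Algebra A' BA] [Algebra A BA] [IsScalarTower A B BA] [IsScalarTower A A' BA]
        [Algebra.IsPushout A B A' BA]
        [AddCommGroup NA] [Module BA NA] [Module B NA] [IsScalarTower B BA NA]
        (fA : N →ₗ[B] NA), IsBaseChange BA fA →
        ∃ (k : ℕ) (C : Fin k → Type u) (_ : ∀ i, CommRing (C i)) (_ : ∀ i, Algebra BA (C i)) (_ : ∀ i, Algebra A' (C i))
          (_ : ∀ i, IsScalarTower A' BA (C i))
          (Nc : Fin k → Type u) (_ : ∀ i, AddCommGroup (Nc i)) (_ : ∀ i, Module (C i) (Nc i)) (_ : ∀ i, Module BA (Nc i))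
          (_ : ∀ i, IsScalarTower BA (C i) (Nc i)) (g : ∀ i, NA →ₗ[BA] Nc i),
          (∀ i, Algebra.Etale BA (C i) ∧ IsBaseChange (C i) (g i) ∧ Nonempty (FlatCA.CompleteDevissage A' (C i) (Nc i) p')) ∧
          ∀ (Q : Ideal BA) [Q.IsPrime], Q.LiesOver p' → ∃ (i : Fin k) (Q' : Ideal (C i)), Q'.IsPrime ∧ Q'.comap (algebraMap BA (C i)) = Q := by
  classical
  obtain ⟨k, π, hgood, hcover⟩ := RG.exists_finite_pieces
    (fun π : RG.Piece A B p => Subsingleton (π.S' ⊗[B] N) ∨ RG.DevAt π.R' π.p' π.S' (π.S' ⊗[B] N) π.q')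
    (fun q _ hq => exists_piece N p q)
  obtain ⟨A', _, _, p'', _, _, htow, hA, hnhd⟩ := RG.exists_common_piece_nhd π
  haveI := htow
  refine ⟨A', inferInstance, inferInstance, p'', inferInstance, hA, ?_⟩
  intro BA NA _ _ _ _ _ _ _ _ _ _ _ fA hfA
  haveI : ∀ i, Algebra.Etale (π i).R' A' := fun i => (hnhd i).1
  haveI := hA.1
  let C : Fin k → Type u := fun i => (π i).S' ⊗[(π i).R'] A'
  haveI hsw : Algebra.IsPushout A A' B BA := Algebra.IsPushout.symm inferInstance
  haveI : ∀ i, IsScalarTower A A' (C i) := fun i => IsScalarTower.of_algebraMap_eq fun a => by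
    show algebraMap A (π i).S' a ⊗ₜ[(π i).R'] (1 : A') = (1 : (π i).S') ⊗ₜ[(π i).R'] algebraMap A A' a
    rw [IsScalarTower.algebraMap_apply A (π i).R' (π i).S', IsScalarTower.algebraMap_apply A (π i).R' A',
      ← mul_one (algebraMap (π i).R' (π i).S' _), ← Algebra.smul_def, TensorProduct.smul_tmul, Algebra.smul_def, mul_one]
  haveI : ∀ i, IsScalarTower A B (C i) := fun i => IsScalarTower.of_algebraMap_eq fun a => by
    show algebraMap A (π i).S' a ⊗ₜ[(π i).R'] (1 : A') = algebraMap B (π i).S' (algebraMap A B a) ⊗ₜ[(π i).R'] (1 : A')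
    rw [IsScalarTower.algebraMap_apply A B (π i).S']
  haveI : ∀ i, Algebra.IsPushout (π i).R' A' (π i).S' (C i) := fun i => Algebra.IsPushout.symm inferInstance
  letI algC : ∀ i, Algebra BA (C i) := fun i => ((Algebra.pushoutDesc (S := A') BA (IsScalarTower.toAlgHom A A' (C i))
    (IsScalarTower.toAlgHom A B (C i)) fun _ _ => Commute.all _ _).toRingHom).toAlgebra
  haveI tA : ∀ i, IsScalarTower A' BA (C i) := fun i => IsScalarTower.of_algebraMap_eq fun a =>
    (Algebra.pushoutDesc_left (S := A') BA (IsScalarTower.toAlgHom A A' (C i)) (IsScalarTower.toAlgHom A B (C i))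
      (fun _ _ => Commute.all _ _) a).symm
  haveI tB : ∀ i, IsScalarTower B BA (C i) := fun i => IsScalarTower.of_algebraMap_eq fun b =>
    (Algebra.pushoutDesc_right (S := A') BA (IsScalarTower.toAlgHom A A' (C i)) (IsScalarTower.toAlgHom A B (C i))
      (fun _ _ => Commute.all _ _) b).symm
  haveI : Algebra.Etale B BA := by
    haveI : Algebra.IsPushout A B A' BA := inferInstance
    exact Algebra.Etale.of_equiv (Algebra.IsPushout.equiv A B A' BA)
  haveI : ∀ i, Algebra.Etale B (C i) := fun i => Algebra.Etale.comp B (π i).S' (C i)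
  haveI : ∀ i, Algebra.Etale BA (C i) := fun i => Algebra.Etale.of_restrictScalars B BA (C i)
  let mkC : ∀ i, N →ₗ[B] C i ⊗[B] N := fun i => TensorProduct.mk B (C i) N 1
  have hmk : ∀ i, IsBaseChange (C i) (mkC i) := fun i => TensorProduct.isBaseChange B N (C i)
  let g : ∀ i, NA →ₗ[BA] C i ⊗[B] N := fun i => hfA.lift (mkC i)
  have hg : ∀ i, IsBaseChange (C i) (g i) := fun i => by
    refine IsBaseChange.of_comp hfA ?_
    have : (g i).restrictScalars B ∘ₗ fA = mkC i := LinearMap.ext (hfA.lift_eq (mkC i))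
    rw [this]
    exact hmk i
  refine ⟨k, C, inferInstance, algC, inferInstance, tA, fun i => C i ⊗[B] N, inferInstance, inferInstance,
    inferInstance, inferInstance, g, fun i => ⟨inferInstance, hg i, ?_⟩, ?_⟩
  · obtain ⟨ho, hκ⟩ := (hnhd i).2
    haveI := ho
    rcases hgood i with hsub | hdev
    · haveI := hsub
      haveI : Subsingleton (C i ⊗[B] N) :=
        (AlgebraTensorModule.cancelBaseChange B (π i).S' (C i) (C i) N).symm.toEquiv.subsingleton_congr.2
          (subsingleton_of_forall_eq 0 fun z => by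
            induction z using TensorProduct.induction_on with
            | zero => rfl
            | tmul a m => rw [Subsingleton.elim m 0, TensorProduct.tmul_zero]
            | add a b ha hb => rw [ha, hb, add_zero])
      exact RG.nonempty_completeDevissage_of_subsingleton A' (C i) (C i ⊗[B] N) p''
    · obtain ⟨Q, _, hQq, hQp⟩ :=
        RG.exists_prime_over (R := (π i).R') (R' := A') (S := (π i).S') (S' := C i) (π i).p' p'' hκ (π i).q'
      haveI := hQq
      haveI := hQp
      have hbc := hdev.baseChange A' p'' hκ (C i) (C i ⊗[(π i).S'] ((π i).S' ⊗[B] N))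
        (TensorProduct.mk (π i).S' (C i) ((π i).S' ⊗[B] N) 1) (TensorProduct.isBaseChange _ _ _) Q
      obtain ⟨D, -⟩ := (hbc.congr (AlgebraTensorModule.cancelBaseChange B (π i).S' (C i) (C i) N).symm).has
      exact ⟨D⟩
  · intro Q _ hQ
    haveI := hQ
    obtain ⟨hpo, hκ₀⟩ := hA.2
    haveI := hpo
    haveI : (Q.comap (algebraMap B BA)).LiesOver p := ⟨by
      rw [Ideal.under_def, Ideal.comap_comap, ← IsScalarTower.algebraMap_eq A B BA, IsScalarTower.algebraMap_eq A A' BA,
        ← Ideal.comap_comap, ← Ideal.under_def (A := A') Q, ← hQ.over, ← Ideal.under_def, ← hpo.over]⟩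
    obtain ⟨i, Q', hQ'1, hQ'2, hQ'3⟩ := hcover (Q.comap (algebraMap B BA)) inferInstance
    obtain ⟨ho, hκ⟩ := (hnhd i).2
    haveI := ho
    obtain ⟨Q'', _, hQ''q, hQ''p⟩ :=
      RG.exists_prime_over (R := (π i).R') (R' := A') (S := (π i).S') (S' := C i) (π i).p' p'' hκ Q'
    refine ⟨i, Q'', inferInstance, ?_⟩
    haveI : (Q''.comap (algebraMap BA (C i))).LiesOver p'' := ⟨by
      rw [Ideal.under_def, Ideal.comap_comap, ← IsScalarTower.algebraMap_eq A' BA (C i), ← Ideal.under_def]
      exact hQ''p.over⟩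
    haveI : (Q''.comap (algebraMap BA (C i))).LiesOver (Q.comap (algebraMap B BA)) := ⟨by
      rw [Ideal.under_def, Ideal.comap_comap, ← IsScalarTower.algebraMap_eq B BA (C i),
        IsScalarTower.algebraMap_eq B (π i).S' (C i), ← Ideal.comap_comap, ← Ideal.under_def (A := (π i).S') Q'',
        ← hQ''q.over, hQ'3]⟩
    haveI : Q.LiesOver (Q.comap (algebraMap B BA)) := ⟨rfl⟩
    exact RG.eq_of_liesOver (R := A) (R' := A') (S := B) (S' := BA) p p'' hκ₀ (Q.comap (algebraMap B BA)) _ Q

end Groth.Agent.S1256
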