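import Groth.Statements.S4490
import Groth.Agent.FlatCxLib.Exchange
import Mathlib.RingTheory.Filtration
import Mathlib.LinearAlgebra.TensorProduct.Quotient

set_option autoImplicit false
universe u
open FlatCx

namespace Groth.Agent.S4490

open CategoryTheory CategoryTheory.Limits in
/-- The case of the functor T_p(M) = H_p(P ⊗_A M) of a chain complex P of finitely generated flat
modules over a Noetherian local ring A with maximal ideal m and residue field k. Then T_p takes
surjections to surjections if and only if the map T_p(A) → T_p(k) induced by A → k is surjective;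
and also if and only if, for all sufficiently large n (there is n₀ such that for every n ≥ n₀), the
map T_p(A/m^(n+1)) → T_p(A/m) induced by the projection is surjective. (Surjectivity at one n gives
it at every smaller n, so this is the same as asking it for every n; at n = 0 alone the map is an
isomorphism and the condition would be empty.) -/
theorem result {A : Type u} [CommRing A] [IsNoetherianRing A]
    [IsLocalRing A] (P : ChainComplex (ModuleCat.{u} A) ℤ)
    (hP : ∀ i, Module.Finite A (P.X i) ∧ Module.Flat A (P.X i)) (p : ℤ) :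
    ((CohIII.TFun P p).PreservesEpimorphisms ↔
      Function.Surjective ((CohIII.TFun P p).map
        (ModuleCat.ofHom (Algebra.linearMap A (IsLocalRing.ResidueField A)))).hom) ∧
    ((CohIII.TFun P p).PreservesEpimorphisms ↔
      ∃ n₀ : ℕ, ∀ n : ℕ, n₀ ≤ n → Function.Surjective ((CohIII.TFun P p).map (ModuleCat.ofHom
        (Ideal.Quotient.factorₐ A (Ideal.pow_le_self (I := IsLocalRing.maximalIdeal A)
          (Nat.succ_ne_zero n))).toLinearMap :
        ModuleCat.of A (A ⧸ IsLocalRing.maximalIdeal A ^ (n + 1)) ⟶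
          ModuleCat.of A (A ⧸ IsLocalRing.maximalIdeal A))).hom) := by
  have hflat := fun i => (hP i).2
  have hfin := fun i => (hP i).1
  refine ⟨Groth.Agent.FlatCxLib.preservesEpi_iff_surjective_residue hflat hfin, ?_, ?_⟩
  · exact fun h => ⟨0, fun n _ =>
      Groth.Agent.FlatCxLib.surjective_map_of_preservesEpi h _
        (Ideal.Quotient.factor_surjective (Ideal.pow_le_self (Nat.succ_ne_zero n)))⟩
  rintro ⟨n₀, hn₀⟩
  rw [Groth.Agent.FlatCxLib.preservesEpi_iff_surjective_residue hflat hfin]
  have h0 : p - 1 + 1 = p := by lia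
  have h1 : p + 1 = p + 1 := rfl
  rw [Groth.Agent.FlatCxLib.tfun_map_surjective_iff P h1 h0]
  let m := IsLocalRing.maximalIdeal A
  let u : P.X p →ₗ[A] P.X (p - 1) := (P.d p (p - 1)).hom
  have := hfin (p - 1)
  obtain ⟨c, hc⟩ := Ideal.exists_pow_inf_eq_pow_smul m (LinearMap.range u)
  intro y hy
  let n := n₀ + c
  let J := m ^ (n + 1)
  have hs := hn₀ n (Nat.le_add_right _ _)
  rw [Groth.Agent.FlatCxLib.tfun_map_surjective_iff P h1 h0] at hs
  obtain ⟨x', hx', hr⟩ := hs y hy
  let e := TensorProduct.tensorQuotEquivQuotSMul (P.X p) J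
  obtain ⟨x, rfl⟩ : ∃ x : P.X p, TensorProduct.tmul A x (1 : A ⧸ J) = x' := by
    obtain ⟨x, hx⟩ := Submodule.Quotient.mk_surjective _ (e x')
    exact ⟨x, (TensorProduct.tensorQuotEquivQuotSMul_symm_mk J x).symm.trans
      ((congrArg e.symm hx).trans (e.symm_apply_apply x'))⟩
  have hux : u x ∈ J • (⊤ : Submodule A (P.X (p - 1))) := by
    rw [← Submodule.Quotient.mk_eq_zero]
    have h := congrArg (TensorProduct.tensorQuotEquivQuotSMul (P.X (p - 1)) J) hx'
    rw [map_zero] at h
    refine Eq.trans ?_ h
    have := TensorProduct.tensorQuotEquivQuotSMul_tmul_mk J (u x) (1 : A)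
    rw [one_smul] at this
    exact this.symm
  have hmap : u x ∈ Submodule.map u (m ^ (n + 1 - c) • ⊤) := by
    rw [Submodule.map_smul'', Submodule.map_top]
    have hi : u x ∈ J • (⊤ : Submodule A (P.X (p - 1))) ⊓ LinearMap.range u :=
      ⟨hux, LinearMap.mem_range_self u x⟩
    rw [hc (n + 1) (by lia)] at hi
    exact Submodule.smul_mono le_rfl inf_le_right hi
  obtain ⟨w, hw, hwx⟩ := hmap
  have hw1 : TensorProduct.tmul A w (1 : A ⧸ m) = 0 := by
    apply (TensorProduct.tensorQuotEquivQuotSMul (P.X p) m).injective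
    rw [map_zero]
    have := TensorProduct.tensorQuotEquivQuotSMul_tmul_mk m w (1 : A)
    rw [one_smul] at this
    exact this.trans ((Submodule.Quotient.mk_eq_zero _).2
      (Submodule.smul_mono (Ideal.pow_le_self (by lia)) le_rfl hw))
  refine ⟨TensorProduct.tmul A (x - w) (1 : A), ?_, ?_⟩
  · show TensorProduct.tmul A (u (x - w)) (1 : A) = 0
    rw [map_sub, hwx, sub_self, TensorProduct.zero_tmul]
  · have e1 : TensorProduct.tmul A (x - w) (1 : A ⧸ m) = TensorProduct.tmul A x (1 : A ⧸ m) := by
      rw [TensorProduct.sub_tmul, hw1, sub_zero]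
    obtain ⟨v, hv⟩ := hr
    exact ⟨v, hv.trans (congrArg (fun t => t - y) e1.symm)⟩

end Groth.Agent.S4490
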