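import Groth.Statements.S6283
import Mathlib

set_option autoImplicit false
universe u
open scoped TensorProduct
open CAlg

namespace Groth.Agent.S6283

/-- Let R → S be a flat ring map, M an R-module and m ∈ M. Then Ann_R(m)S = Ann_S(1 ⊗ m), the
annihilator in S of the element 1 ⊗ m of S ⊗_R M. If moreover M is a finite R-module then Ann_R(M)S
= Ann_S(S ⊗_R M). -/
theorem result {R S : Type u} [CommRing R] [CommRing S] [Algebra R S] [Module.Flat R S] (M : Type u) [AddCommGroup M] [Module R M] : (∀ m : M, ((Submodule.span R {m}).annihilator).map (algebraMap R S) = (Submodule.span S {(1 : S) ⊗ₜ[R] m}).annihilator) ∧ (Module.Finite R M → (Module.annihilator R M).map (algebraMap R S) = Module.annihilator S (S ⊗[R] M)) := by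
  classical
  have key : ∀ (X : Type u) [AddCommGroup X] [Module R X] (ψ : R →ₗ[R] X) (s : S),
      s ⊗ₜ[R] ψ 1 = 0 → s ∈ Ideal.map (algebraMap R S) (LinearMap.ker ψ) := by
    intro X _ _ ψ s hs
    have hex := Module.Flat.lTensor_exact S (LinearMap.exact_subtype_ker_map ψ)
    have h0 : LinearMap.lTensor S ψ (s ⊗ₜ[R] (1 : R)) = 0 := by simpa using hs
    obtain ⟨z, hz⟩ := (hex _).mp h0
    have hall : ∀ z, TensorProduct.rid R S (LinearMap.lTensor S (LinearMap.ker ψ).subtype z) ∈
        Ideal.map (algebraMap R S) (LinearMap.ker ψ) := by
      intro z
      induction z using TensorProduct.induction_on with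
      | zero => simp
      | add a b ha hb =>
        rw [map_add, map_add]
        exact Ideal.add_mem _ ha hb
      | tmul t a =>
        rw [LinearMap.lTensor_tmul, TensorProduct.rid_tmul, Algebra.smul_def]
        exact Ideal.mul_mem_right _ _ (Ideal.mem_map_of_mem _ a.2)
    have h := hall z
    rw [hz] at h
    simpa using h
  constructor
  · intro m
    apply le_antisymm
    · rw [Ideal.map_le_iff_le_comap]
      intro r hr
      rw [Submodule.mem_annihilator_span_singleton] at hr
      rw [Ideal.mem_comap, Submodule.mem_annihilator_span_singleton, algebraMap_smul,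
        ← TensorProduct.tmul_smul, hr, TensorProduct.tmul_zero]
    · intro s hs
      rw [Submodule.mem_annihilator_span_singleton, TensorProduct.smul_tmul', smul_eq_mul,
        mul_one] at hs
      refine Ideal.map_mono (fun r hr => ?_) (key M (LinearMap.toSpanSingleton R M m) s
        (by simpa using hs))
      rw [Submodule.mem_annihilator_span_singleton]
      simpa using hr
  · intro hfin
    obtain ⟨n, g, hg⟩ := Module.Finite.exists_fin (R := R) (M := M)
    apply le_antisymm
    · rw [Ideal.map_le_iff_le_comap]
      intro r hr
      rw [Module.mem_annihilator] at hr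
      rw [Ideal.mem_comap, Module.mem_annihilator]
      intro z
      rw [algebraMap_smul]
      induction z using TensorProduct.induction_on with
      | zero => simp
      | add a b ha hb => rw [smul_add, ha, hb, add_zero]
      | tmul t x => rw [← TensorProduct.tmul_smul, hr, TensorProduct.tmul_zero]
    · intro s hs
      rw [Module.mem_annihilator] at hs
      refine Ideal.map_mono (fun r hr => ?_)
        (key (Fin n → M) (LinearMap.pi fun i => LinearMap.toSpanSingleton R M (g i)) s ?_)
      · rw [Module.mem_annihilator]
        intro x
        have hx : x ∈ Submodule.span R (Set.range g) := by rw [hg]; exact Submodule.mem_top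
        induction hx using Submodule.span_induction with
        | mem y hy =>
          obtain ⟨i, rfl⟩ := hy
          have := congrFun (LinearMap.mem_ker.mp hr) i
          simpa using this
        | zero => simp
        | add a b _ _ ha hb => rw [smul_add, ha, hb, add_zero]
        | smul c a _ ha => rw [smul_comm, ha, smul_zero]
      · apply (TensorProduct.piRight R S S (fun _ : Fin n => M)).injective
        rw [map_zero]
        funext i
        have := hs ((1 : S) ⊗ₜ[R] g i)
        rw [TensorProduct.smul_tmul', smul_eq_mul, mul_one] at this
        simpa using this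

end Groth.Agent.S6283
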