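import Groth.Statements.S16625
import Groth.Agent.H28.PnFlat
import Groth.Agent.H28.KRREpi
import Groth.Agent.H28.KRegK0
import Groth.Agent.H28.PBAtlas
import Groth.Agent.QCoh.RpushAbGod
import Groth.Agent.H23.PullPush
import Groth.Agent.H23.PicMul

set_option autoImplicit false
set_option backward.isDefEq.respectTransparency false
set_option backward.isDefEq.respectTransparency.types false
set_option maxHeartbeats 500000
universe u
open FGA

namespace Groth.Agent.S16625
open AlgebraicGeometry CategoryTheory CategoryTheory.Limits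
open Groth.Agent Groth.Agent.H28 Groth.Agent.H28.KRRTw Groth.Agent.H28.KRRReg

theorem rz_of_fibres {n : ℕ} {S : Scheme.{u}} {M : (KRR.PY n S).Modules} (hfp : CohB1.IsFP M)
    (hfl : FlatMod.IsFlatOver (KRR.pr n S) M) (i : ℕ) (hi : 1 ≤ i)
    (h : ∀ y : S, Subsingleton (CohIII.fiberH (KRR.pr n S) M y i)) : RKoszul.RZ (KRR.pr n S) M i := by
  haveI := H28.PnFlat.isProper_pr n S
  haveI := H28.PnFlat.lfp_pr n S
  haveI : HasInjectiveResolutions (KRR.PY n S).Modules := KFlatLib.hasInjectiveResolutions_modules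
  obtain ⟨q, rfl⟩ : ∃ q, i = q + 1 := ⟨i - 1, by omega⟩
  have hz : IsZero ((Coh.Rpush (KRR.pr n S) (q + 1)).obj M) := PBAtlas.isZero_of_restrict _ fun y => by
    obtain ⟨U, hyU, -, -, hU⟩ := CohPullX.exists_vanish_nhd hfp hfl y (q + 1) (h y)
    exact ⟨U, hyU, hU.of_iso ((Scheme.Modules.restrictFunctorIsoPullback U.ι).app _).symm⟩
  obtain ⟨e⟩ := QCoh.nonempty_Rpush_iso (KRR.pr n S) M q
  obtain ⟨e'⟩ := QCoh.nonempty_RpushAb_iso (KRR.pr n S) M q
  exact (((QCoh.toAbFunctor S).map_isZero (hz.of_iso e.symm))).of_iso e'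


open AlgebraicGeometry CategoryTheory CategoryTheory.Limits in
/-- Let S be a Noetherian scheme with projective n-space π : P^n_S → S, Q a coherent module on P^n_S
which is flat over S, and m > 0 an integer such that for every point s of S the restriction Q_s of Q
to the fibre P^n_S ×_S Spec κ(s) is m-regular: H^i of the restriction of Q(m - i) = Q ⊗ O(m - i) to
that fibre vanishes for every i ≥ 1. Then for every integer d ≥ m: (1) π_*(Q(d)) is a finite locally
free O_S-module; (2) R^i π_*(Q(d)) = 0 for every i ≥ 1 (higher direct images of the underlying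
abelian sheaf); (3) the counit π^*π_*(Q(d)) → Q(d) is an epimorphism. (The source's (1) also says
that the formation of π_*(Q(d)) commutes with arbitrary base change T → S; that clause is not
recorded here.) -/
theorem result (S : Scheme.{u}) [IsNoetherian S] (n : ℕ)
    (Q : (CohB1.ProjSpaceOver n S).Modules) (hQ : Coh.IsCoh Q)
    (hflat : FlatMod.IsFlatOver (CohB1.ProjSpaceOver.toBase n S) Q) (m : ℤ) (hm : 0 < m)
    (hreg : ∀ (s : S) (i : ℕ), 1 ≤ i →
      Subsingleton (Coh.HH (pullback (CohB1.ProjSpaceOver.toBase n S) (S.fromSpecResidueField s))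
        ((Scheme.Modules.pullback
            (pullback.fst (CohB1.ProjSpaceOver.toBase n S) (S.fromSpecResidueField s))).obj
          (CohB1.tensorMod Q (Twist.twistOver n S (m - i)))) i))
    (d : ℤ) (hd : m ≤ d) :
    FlatMod.IsFinLocFree ((Coh.push (CohB1.ProjSpaceOver.toBase n S)).obj
        (CohB1.tensorMod Q (Twist.twistOver n S d))) ∧
      (∀ i : ℕ, 1 ≤ i → IsZero ((Coh.RpushAb (CohB1.ProjSpaceOver.toBase n S) i).obj
        (Coh.toAb (CohB1.tensorMod Q (Twist.twistOver n S d))))) ∧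
      Epi ((Scheme.Modules.pullbackPushforwardAdjunction (CohB1.ProjSpaceOver.toBase n S)).counit.app
        (CohB1.tensorMod Q (Twist.twistOver n S d))) := by
  haveI := H28.PnFlat.isProper_pr n S
  haveI := H28.PnFlat.lfp_pr n S
  haveI : HasInjectiveResolutions (KRR.PY n S).Modules := KFlatLib.hasInjectiveResolutions_modules
  obtain ⟨m₀, rfl⟩ : ∃ m₀ : ℕ, m = m₀ := ⟨m.toNat, (Int.toNat_of_nonneg hm.le).symm⟩
  obtain ⟨a, rfl⟩ : ∃ a : ℕ, d = (a + m₀ : ℕ) := ⟨(d - m₀).toNat, by omega⟩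
  haveI : IsLocallyNoetherian (KRR.PY n S) := LocallyOfFiniteType.isLocallyNoetherian (KRR.pr n S)
  have hfp : CohB1.IsFP Q := (QCoh.isCoh_iff_isFP).1 hQ
  let c : ∀ d : ℤ, KRR.twF n S d Q ≅ CohB1.tensorMod Q (Twist.twistOver n S d) := fun d =>
    (H23.PicMul.comm (Twist.twistOver n S d) Q).some
  have hfib : ∀ (i : ℕ), 1 ≤ i → ∀ y : S,
      Subsingleton (CohIII.fiberH (KRR.pr n S) (KRR.twF n S ((m₀ : ℤ) - i) Q) y i) := fun i hi y =>
    QCoh.subsingleton_HH_of_iso ((Scheme.Modules.pullback ((KRR.pr n S).fiberι y)).mapIso (c _)).symm i (hreg y i hi)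
  have hr : KRR.IsRegSheaf n S (KRR.twF n S (m₀ : ℤ) Q) := fun i hi =>
    RKoszul.rz_of_iso _ (twF_twF (-(i : ℤ)) (m₀ : ℤ) ((m₀ : ℤ) - i) (by ring) Q).some.symm i
      (rz_of_fibres (PnFlat.isFP_twF hfp _) (PnFlat.isFlatOver_twF hflat _) i hi (hfib i hi))
  let M := CohB1.tensorMod Q (Twist.twistOver n S ((a + m₀ : ℕ) : ℤ))
  have eM : KRR.twF n S (a : ℤ) (KRR.twF n S (m₀ : ℤ) Q) ≅ M :=
    (twF_twF (a : ℤ) (m₀ : ℤ) ((a + m₀ : ℕ) : ℤ) (by push_cast; ring) Q).some ≪≫ c _
  have hrM : KRR.IsRegSheaf n S M := KRegK0.isReg_of_iso eM (isReg_twF _ hr a)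
  have hMq : Coh.IsQCoh M :=
    (QCoh.isQCoh_iff_iso (c _)).1 (QCoh.isQCoh_of_isFP (PnFlat.isFP_twF hfp _))
  refine ⟨?_, fun i hi => rz_self M hrM i hi, KRREpi.epi_counit M hMq hrM⟩
  refine H23.PullPush.isFinLocFree_of_iso ((Scheme.Modules.pushforward (KRR.pr n S)).mapIso (c _)) ?_
  intro y
  have hf := PnFlat.fibre_vanish (F := Q) hfp (m := m₀) (y := y)
    (fun i hi => hfib i (Finset.mem_Icc.1 hi).1 y) (a + m₀) (Nat.le_add_left _ _) 0
  obtain ⟨U, hyU, ⟨e⟩⟩ := CohPullX.exists_free_of_neighbours (PnFlat.isFP_twF hfp _)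
    (PnFlat.isFlatOver_twF hflat _) y 0 hf fun j hj => by omega
  haveI := SpObjSS.enoughInjectives_of_hasInjectiveResolutions (C := (KRR.PY n S).Modules)
  haveI := QCoh.preservesFiniteLimits_push (KRR.pr n S)
  exact ⟨U, _, hyU, ⟨(Scheme.Modules.restrictFunctor U.ι).mapIso
    ((Scheme.Modules.pushforward (KRR.pr n S)).rightDerivedZeroIsoSelf.app _).symm ≪≫ e⟩⟩

end Groth.Agent.S16625
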