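import Groth.Statements.S6304
import Groth.Agent.CAlgUI.Flat

set_option autoImplicit false
universe u
open CAlg

namespace Groth.Agent.S6304

/-- In a short exact sequence 0 → M' → M → M'' → 0 of R-modules whose right-hand term M'' is flat, the
middle term M is flat when M' is, and M' is flat when M is. -/
theorem result {R : Type u} [CommRing R] {M' M M'' : Type u} [AddCommGroup M'] [Module R M'] [AddCommGroup M] [Module R M] [AddCommGroup M''] [Module R M''] (f : M' →ₗ[R] M) (g : M →ₗ[R] M'') (hf : Function.Injective f) (hexact : Function.Exact f g) (hg : Function.Surjective g) [Module.Flat R M''] : (Module.Flat R M' → Module.Flat R M) ∧ (Module.Flat R M → Module.Flat R M') := by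
  refine ⟨fun _ => Groth.Agent.CAlgUI.flat_middle hf hexact hg, fun _ => ?_⟩
  exact Groth.Agent.CAlgUI.flat_left_of_ui (Groth.Agent.CAlgUI.ui_of_flat_quotient hf hexact hg)

end Groth.Agent.S6304
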