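import Groth.Statements.S4654
import Groth.Agent.KFlatLib.Scheme.Exact
import Groth.Agent.S6304
import Mathlib.Algebra.Homology.ShortComplex.ConcreteCategory

set_option autoImplicit false
open CategoryTheory AlgebraicGeometry
universe u
open FDesc

namespace Groth.Agent.S4654

/-- Let f : X → Y be a morphism of schemes and 0 → F' → F → F'' → 0 a short exact sequence of
quasi-coherent O_X-modules such that F'' is flat over Y. Then F is flat over Y if and only if F' is
flat over Y. -/
theorem result {X Y : Scheme.{u}} (f : X ⟶ Y) (S : ShortComplex X.Modules)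
    (hS : S.ShortExact) (h₁ : Coh.IsQCoh S.X₁) (h₂ : Coh.IsQCoh S.X₂) (h₃ : Coh.IsQCoh S.X₃)
    (hflat : FlatMod.IsFlatOver f S.X₃) :
    FlatMod.IsFlatOver f S.X₂ ↔ FlatMod.IsFlatOver f S.X₁ := by
  have key : ∀ x, FlatMod.IsFlatOverAt f S.X₂ x ↔ FlatMod.IsFlatOverAt f S.X₁ x := fun x => by
    have hA : (S.map (Groth.Agent.KFlatLib.stalkAb x)).ShortExact := hS.map_of_exact _
    have hinj := (AddCommGrpCat.mono_iff_injective _).1 hA.mono_f
    have hsur := (AddCommGrpCat.epi_iff_surjective _).1 hA.epi_g
    have hex := (ShortComplex.ab_exact_iff_function_exact _).1 hA.exact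
    letI := FlatMod.moduleStalkOver f S.X₁ x
    letI := FlatMod.moduleStalkOver f S.X₂ x
    letI := FlatMod.moduleStalkOver f S.X₃ x
    have h3 : Module.Flat (Y.presheaf.stalk (f.base x)) ((DerSch.stalkOver f x).obj S.X₃) := hflat x
    haveI := h3
    have h := Groth.Agent.S6304.result
      (R := Y.presheaf.stalk (f.base x)) (M'' := (DerSch.stalkOver f x).obj S.X₃)
      ((DerSch.stalkOver f x).map S.f).hom ((DerSch.stalkOver f x).map S.g).hom hinj hex hsur
    exact ⟨h.2, h.1⟩
  exact ⟨fun h x => (key x).1 (h x), fun h x => (key x).2 (h x)⟩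

end Groth.Agent.S4654
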