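import Groth.Statements.S14066
import Groth.Agent.ProjQuot16.Proper
import Groth.Agent.LinProj5.Basic
import Groth.Agent.Proj16.Map
import Mathlib

set_option backward.isDefEq.respectTransparency false
set_option backward.isDefEq.respectTransparency.types false

set_option autoImplicit false
universe u
open CategoryTheory CategoryTheory.Limits AlgebraicGeometry TopologicalSpace
open Variety

namespace Groth.Agent.S14066

/-- Two closed immersions with disjoint images. -/
theorem isClosedImmersion_coprodDesc {A B Z : Scheme.{u}} (f : A ⟶ Z) (g : B ⟶ Z)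
    [IsClosedImmersion f] [IsClosedImmersion g] (h : ∀ a b, f a ≠ g b) :
    IsClosedImmersion (coprod.desc f g) := by
  have he : ((coprod.desc f g).base : ((A ⨿ B : Scheme.{u}) : Type u) → Z) ∘ (coprodMk A B) = Sum.elim f g := by
    funext s
    rcases s with a | b
    · show (coprod.desc f g) (coprodMk A B (Sum.inl a)) = f a
      rw [coprodMk_inl, ← Scheme.Hom.comp_apply, coprod.inl_desc]
    · show (coprod.desc f g) (coprodMk A B (Sum.inr b)) = g b
      rw [coprodMk_inr, ← Scheme.Hom.comp_apply, coprod.inr_desc]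
  have hemb : Topology.IsClosedEmbedding (Sum.elim f g : A ⊕ B → Z) :=
    Topology.IsClosedEmbedding.of_continuous_injective_isClosedMap (f.continuous.sumElim g.continuous)
      (f.isClosedEmbedding.injective.sumElim g.isClosedEmbedding.injective h)
      (isClosedMap_sum.2 ⟨f.isClosedEmbedding.isClosedMap, g.isClosedEmbedding.isClosedMap⟩)
  refine (isClosedImmersion_iff _).2 ⟨⟨?_⟩, ?_⟩
  · intro z
    obtain ⟨s, rfl⟩ := (coprodMk A B).surjective z
    rcases s with a | b
    · rw [coprodMk_inl]
      have h1 : Function.Surjective ((coprod.inl ≫ coprod.desc f g).stalkMap a) := by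
        rw [Scheme.Hom.stalkMap_congr_hom _ f (coprod.inl_desc f g) a]
        exact (SurjectiveOnStalks.stalkMap_surjective f a).comp (ConcreteCategory.bijective_of_isIso _).2
      rw [Scheme.Hom.stalkMap_comp] at h1
      intro w
      obtain ⟨v, hv⟩ := h1 ((coprod.inl : A ⟶ A ⨿ B).stalkMap a w)
      exact ⟨v, (ConcreteCategory.bijective_of_isIso ((coprod.inl : A ⟶ A ⨿ B).stalkMap a)).1 hv⟩
    · rw [coprodMk_inr]
      have h1 : Function.Surjective ((coprod.inr ≫ coprod.desc f g).stalkMap b) := by
        rw [Scheme.Hom.stalkMap_congr_hom _ g (coprod.inr_desc f g) b]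
        exact (SurjectiveOnStalks.stalkMap_surjective g b).comp (ConcreteCategory.bijective_of_isIso _).2
      rw [Scheme.Hom.stalkMap_comp] at h1
      intro w
      obtain ⟨v, hv⟩ := h1 ((coprod.inr : B ⟶ A ⨿ B).stalkMap b w)
      exact ⟨v, (ConcreteCategory.bijective_of_isIso ((coprod.inr : B ⟶ A ⨿ B).stalkMap b)).1 hv⟩
  · rw [← he] at hemb
    have := hemb.comp (coprodMk A B).symm.isClosedEmbedding
    rwa [Function.comp_assoc, Homeomorph.self_comp_symm, Function.comp_id] at this

variable (k : Type u) [Field k] {N n : ℕ}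

/-- Coordinate forms of a linear embedding along an injection of the index sets. -/
noncomputable def coordForm (e : Fin (n + 1) → Fin (N + 1)) (j : Fin (N + 1)) : MvPolynomial (Fin (n + 1)) k :=
  haveI := Classical.dec (∃ i, e i = j)
  if h : ∃ i, e i = j then MvPolynomial.X h.choose else 0

theorem coordForm_homogeneous (e : Fin (n + 1) → Fin (N + 1)) (j : Fin (N + 1)) :
    (coordForm k e j).IsHomogeneous 1 := by
  unfold coordForm
  split
  · exact MvPolynomial.isHomogeneous_X k _
  · exact MvPolynomial.isHomogeneous_zero _ _ _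

/-- A coordinate linear embedding of projective spaces. -/
theorem exists_linear_embedding (e : Fin (n + 1) → Fin (N + 1)) (he : Function.Injective e) :
    ∃ j : CohB1.ProjSpace n k ⟶ CohB1.ProjSpace N k, IsClosedImmersion j ∧
      j ≫ CohB1.ProjSpace.toSpec N k = CohB1.ProjSpace.toSpec n k ∧
      ∀ (z : CohB1.ProjSpace n k) (i : Fin (N + 1)), i ∉ Set.range e →
        j z ∉ Proj.basicOpen (CohB1.polyGrading N k) (MvPolynomial.X i) := by
  let φ := LinProj5.gmap (coordForm k e) (coordForm_homogeneous k e)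
  have hX : ∀ i, φ (MvPolynomial.X (e i)) = MvPolynomial.X i := fun i => by
    show MvPolynomial.aeval (coordForm k e) (MvPolynomial.X (e i)) = _
    have hh : ∃ i', e i' = e i := ⟨i, rfl⟩
    rw [MvPolynomial.aeval_X, coordForm, dif_pos hh, he hh.choose_spec]
  have hsurj : Function.Surjective φ := fun f =>
    ⟨MvPolynomial.rename e f, by
      show MvPolynomial.aeval (coordForm k e) (MvPolynomial.rename e f) = f
      rw [MvPolynomial.aeval_rename,
        show coordForm k e ∘ e = MvPolynomial.X from funext fun i => (by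
          have := hX i
          rwa [show φ (MvPolynomial.X (e i)) = MvPolynomial.aeval (coordForm k e) (MvPolynomial.X (e i)) from rfl,
            MvPolynomial.aeval_X] at this),
        MvPolynomial.aeval_X_left_apply]⟩
  have hφ : HomogeneousIdeal.irrelevant (CohB1.polyGrading n k) ≤
      (HomogeneousIdeal.irrelevant (CohB1.polyGrading N k)).map φ := by
    show (HomogeneousIdeal.irrelevant (CohB1.polyGrading n k)).toIdeal ≤ Ideal.map φ _
    refine (SegreX.irrelevant_le_span n k).trans (Ideal.span_le.2 ?_)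
    rintro _ ⟨i, rfl⟩
    rw [← hX i]
    exact Ideal.mem_map_of_mem _ (HomogeneousIdeal.mem_irrelevant_of_mem _ one_pos (ProjPt.X_mem (e i)))
  refine ⟨Proj.map φ hφ, Proj16.isClosedImmersion_map φ hφ hsurj, ?_, fun z i hi => ?_⟩
  · exact ProjQuot16.map_comp_toSpec φ hφ (fun r => AlgHom.commutes (MvPolynomial.aeval (coordForm k e)) r)
      (fun j : ULift.{u} (Fin (N + 1)) => MvPolynomial.X j.down) (fun j => ProjPt.X_mem j.down) (fun w => by
        obtain ⟨j, hj⟩ := TopologicalSpace.Opens.mem_iSup.1 ((AmpleEmbed.iSup_basicOpen_X N k).ge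
          (trivial : Proj.map φ hφ w ∈ (⊤ : TopologicalSpace.Opens _)))
        exact ⟨⟨j⟩, hj⟩)
  · intro h
    have h1 : z ∈ Proj.basicOpen (CohB1.polyGrading n k) (φ (MvPolynomial.X i)) := by
      rw [← Proj.map_preimage_basicOpen φ hφ]
      exact h
    have h0 : φ (MvPolynomial.X i) = 0 := by
      show MvPolynomial.aeval (coordForm k e) (MvPolynomial.X i) = 0
      rw [MvPolynomial.aeval_X, coordForm, dif_neg]
      exact fun ⟨i', hi'⟩ => hi ⟨i', hi'⟩
    rw [h0, Proj.basicOpen_zero] at h1
    exact h1.elim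

/-- Let k be a field, and let X₁ and X₂ be k-schemes with closed immersions i₁ : X₁ → P^n_k and i₂ : X₂
→ P^m_k over k. Then there is a closed immersion of the disjoint union X₁ ⨿ X₂ into P^{n+m+1}_k over
k, that is, compatible with the structure morphism of the coproduct induced by those of X₁ and X₂.
(Stated as the step of the published proof showing that a disjoint union of two projective k-schemes
is projective.) -/
theorem result (k : Type u) [Field k] (n m : ℕ)
    (X₁ X₂ : Scheme.{u}) [X₁.Over (Spec (CommRingCat.of k))] [X₂.Over (Spec (CommRingCat.of k))]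
    (i₁ : X₁ ⟶ CohB1.ProjSpace n k) [IsClosedImmersion i₁] (h₁ : i₁ ≫ CohB1.ProjSpace.toSpec n k = X₁ ↘ (Spec (CommRingCat.of k)))
    (i₂ : X₂ ⟶ CohB1.ProjSpace m k) [IsClosedImmersion i₂] (h₂ : i₂ ≫ CohB1.ProjSpace.toSpec m k = X₂ ↘ (Spec (CommRingCat.of k))) :
    ∃ j : X₁ ⨿ X₂ ⟶ CohB1.ProjSpace (n + m + 1) k, IsClosedImmersion j ∧
      j ≫ CohB1.ProjSpace.toSpec (n + m + 1) k = coprod.desc (X₁ ↘ (Spec (CommRingCat.of k))) (X₂ ↘ (Spec (CommRingCat.of k))) := by
  let e₁ : Fin (n + 1) → Fin (n + m + 1 + 1) := fun i => ⟨i.1, by omega⟩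
  let e₂ : Fin (m + 1) → Fin (n + m + 1 + 1) := fun i => ⟨n + 1 + i.1, by omega⟩
  obtain ⟨j₁, hj₁, hj₁s, hd₁⟩ := exists_linear_embedding k e₁ fun a b h => Fin.ext (Fin.mk.inj_iff.1 h)
  obtain ⟨j₂, hj₂, hj₂s, hd₂⟩ := exists_linear_embedding k e₂ fun a b h => Fin.ext (by
    have := congrArg Fin.val h
    simp only [e₂] at this
    omega)
  refine ⟨coprod.desc (i₁ ≫ j₁) (i₂ ≫ j₂), isClosedImmersion_coprodDesc _ _ fun a b h => ?_, ?_⟩
  · obtain ⟨t, ht⟩ : ∃ t, (i₁ ≫ j₁) a ∈ Proj.basicOpen (CohB1.polyGrading (n + m + 1) k) (MvPolynomial.X t) :=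
      TopologicalSpace.Opens.mem_iSup.1 ((AmpleEmbed.iSup_basicOpen_X (n + m + 1) k).ge
      (trivial : (i₁ ≫ j₁) a ∈ (⊤ : TopologicalSpace.Opens _)))
    by_cases htn : t.1 < n + 1
    · rw [h] at ht
      exact hd₂ (i₂ b) t (fun ⟨i, hi⟩ => by
        have := congrArg Fin.val hi
        simp only [e₂] at this
        omega) ht
    · exact hd₁ (i₁ a) t (fun ⟨i, hi⟩ => by
        have := congrArg Fin.val hi
        simp only [e₁] at this
        omega) ht
  · ext1
    · rw [coprod.inl_desc_assoc, coprod.inl_desc, Category.assoc, hj₁s, h₁]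
    · rw [coprod.inr_desc_assoc, coprod.inr_desc, Category.assoc, hj₂s, h₂]

end Groth.Agent.S14066
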