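import Groth.Statements.S1616
import Groth.Agent.SegreX.Basic

set_option autoImplicit false
universe u
open CategoryTheory CategoryTheory.Limits AlgebraicGeometry
open Constr

namespace Groth.Agent.S1616

/-- For any scheme S and n, m ≥ 0 there is a closed immersion from P^n_S ×_S P^m_S into P^{nm+n+m}_S
compatible with the projections to S. -/
theorem result (S : Scheme.{u}) (n m : ℕ) :
    ∃ φ : pullback (CohB1.ProjSpaceOver.toBase n S) (CohB1.ProjSpaceOver.toBase m S) ⟶ CohB1.ProjSpaceOver (n * m + n + m) S,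
      IsClosedImmersion φ ∧ φ ≫ CohB1.ProjSpaceOver.toBase (n * m + n + m) S =
        pullback.fst (CohB1.ProjSpaceOver.toBase n S) (CohB1.ProjSpaceOver.toBase m S) ≫ CohB1.ProjSpaceOver.toBase n S := by
  have hcard : (n + 1) * (m + 1) = n * m + n + m + 1 := by ring
  let e : Fin (n * m + n + m + 1) ≃ Fin (n + 1) × Fin (m + 1) :=
    (finProdFinEquiv.trans (finCongr hcard)).symm
  let φ₀ := SegreX.segre.{u} e
  have hφ₀ : IsClosedImmersion φ₀ := SegreX.isClosedImmersion_segre e
  let pn := CohB1.ProjSpaceOver.toBase n S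
  let pm := CohB1.ProjSpaceOver.toBase m S
  let pN := CohB1.ProjSpaceOver.toBase (n * m + n + m) S
  let an : CohB1.ProjSpaceOver n S ⟶ SegreX.PZ.{u} n := pullback.fst _ _
  let am : CohB1.ProjSpaceOver m S ⟶ SegreX.PZ.{u} m := pullback.fst _ _
  let aN : CohB1.ProjSpaceOver (n * m + n + m) S ⟶ SegreX.PZ.{u} (n * m + n + m) := pullback.fst _ _
  let q1 : SegreX.PP.{u} n m ⟶ SegreX.PZ.{u} n := pullback.fst _ _
  let q2 : SegreX.PP.{u} n m ⟶ SegreX.PZ.{u} m := pullback.snd _ _
  let toP : pullback pn pm ⟶ SegreX.PP.{u} n m :=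
    pullback.lift (pullback.fst pn pm ≫ an) (pullback.snd pn pm ≫ am)
      (specULiftZIsTerminal.hom_ext _ _)
  have ht1 : toP ≫ q1 = pullback.fst pn pm ≫ an := pullback.lift_fst _ _ _
  have ht2 : toP ≫ q2 = pullback.snd pn pm ≫ am := pullback.lift_snd _ _ _
  let φ : pullback pn pm ⟶ CohB1.ProjSpaceOver (n * m + n + m) S :=
    pullback.lift (toP ≫ φ₀) (pullback.fst pn pm ≫ pn) (specULiftZIsTerminal.hom_ext _ _)
  have hp1 : φ ≫ aN = toP ≫ φ₀ := pullback.lift_fst _ _ _
  have hp2 : φ ≫ pN = pullback.fst pn pm ≫ pn := pullback.lift_snd _ _ _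
  refine ⟨φ, ?_, hp2⟩
  have sq : IsPullback toP φ φ₀ aN := by
    refine IsPullback.of_isLimit' ⟨hp1.symm⟩ ?_
    have mk : ∀ s : PullbackCone φ₀ aN, ∃ L : s.pt ⟶ pullback pn pm,
        (L ≫ pullback.fst pn pm ≫ an = s.fst ≫ q1 ∧ L ≫ pullback.fst pn pm ≫ pn = s.snd ≫ pN) ∧
        (L ≫ pullback.snd pn pm ≫ am = s.fst ≫ q2 ∧ L ≫ pullback.snd pn pm ≫ pm = s.snd ≫ pN) := by
      intro s
      let a : s.pt ⟶ CohB1.ProjSpaceOver n S :=
        pullback.lift (s.fst ≫ q1) (s.snd ≫ pN) (specULiftZIsTerminal.hom_ext _ _)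
      let b : s.pt ⟶ CohB1.ProjSpaceOver m S :=
        pullback.lift (s.fst ≫ q2) (s.snd ≫ pN) (specULiftZIsTerminal.hom_ext _ _)
      have a1 : a ≫ an = s.fst ≫ q1 := pullback.lift_fst _ _ _
      have a2 : a ≫ pn = s.snd ≫ pN := pullback.lift_snd _ _ _
      have b1 : b ≫ am = s.fst ≫ q2 := pullback.lift_fst _ _ _
      have b2 : b ≫ pm = s.snd ≫ pN := pullback.lift_snd _ _ _
      refine ⟨pullback.lift a b (a2.trans b2.symm), ⟨?_, ?_⟩, ?_, ?_⟩
      · rw [pullback.lift_fst_assoc, a1]
      · rw [pullback.lift_fst_assoc, a2]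
      · rw [pullback.lift_snd_assoc, b1]
      · rw [pullback.lift_snd_assoc, b2]
    choose L hL using mk
    have hfst : ∀ s : PullbackCone φ₀ aN, L s ≫ toP = s.fst := fun s ↦ by
      apply pullback.hom_ext
      · exact (Category.assoc _ _ _).trans ((congrArg (L s ≫ ·) ht1).trans (hL s).1.1)
      · exact (Category.assoc _ _ _).trans ((congrArg (L s ≫ ·) ht2).trans (hL s).2.1)
    refine PullbackCone.IsLimit.mk _ L hfst (fun s ↦ ?_) (fun s k hk1 hk2 ↦ ?_)
    · apply pullback.hom_ext
      · refine (Category.assoc _ _ _).trans ((congrArg (L s ≫ ·) hp1).trans ?_)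
        exact (Category.assoc _ _ _).symm.trans ((congrArg (· ≫ φ₀) (hfst s)).trans s.condition)
      · exact (Category.assoc _ _ _).trans ((congrArg (L s ≫ ·) hp2).trans (hL s).1.2)
    · apply pullback.hom_ext
      · apply pullback.hom_ext
        · refine (Category.assoc _ _ _).trans (Eq.trans ?_
            ((hL s).1.1.symm.trans (Category.assoc _ _ _).symm))
          exact (congrArg (k ≫ ·) ht1).symm.trans
            ((Category.assoc _ _ _).symm.trans (congrArg (· ≫ q1) hk1))
        · refine (Category.assoc _ _ _).trans (Eq.trans ?_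
            ((hL s).1.2.symm.trans (Category.assoc _ _ _).symm))
          exact (congrArg (k ≫ ·) hp2).symm.trans
            ((Category.assoc _ _ _).symm.trans (congrArg (· ≫ pN) hk2))
      · apply pullback.hom_ext
        · refine (Category.assoc _ _ _).trans (Eq.trans ?_
            ((hL s).2.1.symm.trans (Category.assoc _ _ _).symm))
          exact (congrArg (k ≫ ·) ht2).symm.trans
            ((Category.assoc _ _ _).symm.trans (congrArg (· ≫ q2) hk1))
        · refine (Category.assoc _ _ _).trans (Eq.trans ?_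
            ((hL s).2.2.symm.trans (Category.assoc _ _ _).symm))
          refine (congrArg (k ≫ ·) (hp2.trans pullback.condition)).symm.trans ?_
          exact (Category.assoc _ _ _).symm.trans (congrArg (· ≫ pN) hk2)
  exact MorphismProperty.of_isPullback sq hφ₀

end Groth.Agent.S1616
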