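import Groth.Statements.S10844
import Groth.Agent.QCoh.Tilde
import Groth.Agent.QCoh.AnnIdeal
import Groth.Agent.QCoh.DevissageP
import Groth.Agent.QCoh.Support
import Groth.Agent.QCoh.Pullback

set_option autoImplicit false
universe u
open RepF

namespace Groth.Agent.S10844
open AlgebraicGeometry CategoryTheory CategoryTheory.Limits

theorem isFT_coker {X : Scheme.{u}} {M N : X.Modules} (hM : Coh.IsQCoh M) (hN : Coh.IsQCoh N)
    (hNft : CohB1.IsFT N) (φ : M ⟶ N) : CohB1.IsFT (cokernel φ) := by
  have hQ := QCoh.isQCoh_cokernel hM hN φ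
  refine (QCoh.isFT_iff hQ).2 fun U => ?_
  haveI := QCoh.finite_of_isFT hN hNft U.2
  exact Module.Finite.of_surjective
    ({ toFun := (cokernel.π φ).app U.1, map_add' := map_add ((cokernel.π φ).app U.1).hom,
       map_smul' := fun r x => (cokernel.π φ).app_smul r x } : Γ(N, U.1) →ₗ[Γ(X, U.1)] Γ(cokernel φ, U.1))
    (QCoh.app_surjective_of_epi hN hQ (cokernel.π φ) U.2)

theorem isZero_of_stalks {X : Scheme.{u}} {M : X.Modules} (h : ∀ x, Subsingleton (M.presheaf.stalk x)) : IsZero M := by
  rw [IsZero.iff_id_eq_zero]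
  refine Scheme.Modules.hom_ext _ _ fun U => ?_
  ext s
  show s = 0
  refine QCoh.eq_zero_of_locally U s fun x hx => ?_
  obtain ⟨V, hxV, i, j, he⟩ := M.presheaf.germ_eq x hx hx s 0 ((h x).elim _ _)
  exact ⟨V, i, hxV, he.trans (map_zero _)⟩



open AlgebraicGeometry CategoryTheory in
/-- For a scheme S and a homomorphism v : E → F of quasi-coherent O_S-modules with F of finite type,
there is an open subscheme U of S such that a morphism of schemes f : T → S factors through U (its
image lies in U) if and only if the pulled-back homomorphism f^*v : f^*E → f^*F is an epimorphism. -/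
theorem result {S : Scheme.{u}} {E F : S.Modules}
    [Coh.IsQCoh E] [Coh.IsQCoh F] (hF : CohB1.IsFT F) (v : E ⟶ F) :
    ∃ U : S.Opens, ∀ (T : Scheme.{u}) (f : T ⟶ S),
      Set.range f.base ⊆ (U : Set S) ↔ Epi ((Scheme.Modules.pullback f).map v) := by
  have hE : Coh.IsQCoh E := ‹_›
  have hF' : Coh.IsQCoh F := ‹_›
  let C := cokernel v
  have hCq : Coh.IsQCoh C := Groth.Agent.QCoh.isQCoh_cokernel hE hF' v
  have hCft : CohB1.IsFT C := isFT_coker hE hF' hF v
  refine ⟨⟨(CohB1.support C)ᶜ, (Groth.Agent.QCoh.isClosed_support_of_isFT hCq hCft).isOpen_compl⟩, fun T f => ?_⟩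
  let e : (Scheme.Modules.pullback f).obj C ≅ cokernel ((Scheme.Modules.pullback f).map v) :=
    PreservesCokernel.iso (Scheme.Modules.pullback f) v
  have hsupp := Groth.Agent.QCoh.support_pullback f hCq hCft
  constructor
  · intro hr
    refine Preadditive.epi_of_isZero_cokernel _ ((Iso.isZero_iff e).1 ?_)
    refine isZero_of_stalks fun y => by_contra fun hy => ?_
    have : y ∈ CohB1.support ((Scheme.Modules.pullback f).obj C) := hy
    rw [hsupp] at this
    exact hr ⟨y, rfl⟩ this
  · intro he
    rintro _ ⟨y, rfl⟩ hy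
    have hz : IsZero ((Scheme.Modules.pullback f).obj C) :=
      (Iso.isZero_iff e).2 (isZero_cokernel_of_epi _)
    have h0 := Groth.Agent.QCoh.support_eq_empty_of_isZero hz (Groth.Agent.QCoh.isQCoh_pullback f hCq)
    have hy' : y ∈ CohB1.support ((Scheme.Modules.pullback f).obj C) := by rw [hsupp]; exact hy
    rw [h0] at hy'
    exact hy'


end Groth.Agent.S10844
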