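import Groth.Statements.S1258
import Groth.Agent.RG.DevFreeBC
import Mathlib.RingTheory.Etale.Pi
import Mathlib.LinearAlgebra.TensorProduct.Pi
-- import your own Groth.Agent.* helpers here

set_option autoImplicit false
universe u
open FlatMor

namespace Groth.Agent.S1258

set_option backward.isDefEq.respectTransparency false
set_option backward.isDefEq.respectTransparency.types false
set_option linter.style.haveILetI false
set_option maxHeartbeats 2000000

open TensorProduct

attribute [local instance] Algebra.TensorProduct.rightAlgebra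

/-- Products of free modules. -/
theorem free_pi_tensor {S A : Type u} [CommRing S] [CommRing A] {k : ℕ} (C : Fin k → Type u)
    [∀ i, CommRing (C i)] [∀ i, Algebra S (C i)] [∀ i, Algebra A (C i)] (N : Type u) [AddCommGroup N] [Module S N]
    (h : ∀ i, Module.Free A (C i ⊗[S] N)) : Module.Free A ((∀ i, C i) ⊗[S] N) := by
  classical
  haveI : Module.Free A (∀ i, C i ⊗[S] N) := inferInstance
  let e : ((∀ i, C i) ⊗[S] N) ≃ₗ[A] ∀ i, C i ⊗[S] N :=
    { TensorProduct.piLeft S N C with
      map_smul' := fun a x => by
        show TensorProduct.piLeft S N C (a • x) = a • TensorProduct.piLeft S N C x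
        induction x using TensorProduct.induction_on with
        | zero => rw [smul_zero, map_zero, smul_zero]
        | tmul c n =>
          funext i
          rw [TensorProduct.smul_tmul']
          simp [TensorProduct.smul_tmul']
        | add x y hx hy => rw [smul_add, map_add, hx, hy, map_add, smul_add] }
  exact Module.Free.of_equiv e.symm

/-- Products of finitely presented modules over the factors. -/
theorem finitePresentation_pi_tensor {S : Type u} [CommRing S] {k : ℕ} (C : Fin k → Type u)
    [∀ i, CommRing (C i)] [∀ i, Algebra S (C i)] (N : Type u) [AddCommGroup N] [Module S N]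
    (h : ∀ i, Module.FinitePresentation (C i) (C i ⊗[S] N)) :
    Module.FinitePresentation (∀ i, C i) ((∀ i, C i) ⊗[S] N) := by
  classical
  let P := ∀ i, C i
  letI aP : ∀ i, Algebra P (C i) := fun i => (Pi.evalRingHom C i).toAlgebra
  haveI tP : ∀ i, IsScalarTower S P (C i) := fun i => IsScalarTower.of_algebraMap_eq fun _ => rfl
  haveI : ∀ i, Module.FinitePresentation P (C i) := fun i => by
    refine Module.finitePresentation_of_surjective (Algebra.linearMap P (C i))
      (fun c => ⟨Pi.single i c, Pi.single_eq_same i c⟩) ⟨{1 - Pi.single i (1 : C i)}, le_antisymm ?_ ?_⟩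
    · rw [Submodule.span_le, Finset.coe_singleton, Set.singleton_subset_iff]
      show ((1 : ∀ i, C i) - Pi.single i (1 : C i) : ∀ i, C i) i = 0
      rw [Pi.sub_apply, Pi.one_apply, Pi.single_eq_same, sub_self]
    · intro x hx
      have hx' : x i = 0 := hx
      rw [Finset.coe_singleton, Submodule.mem_span_singleton]
      refine ⟨x, funext fun j => ?_⟩
      show x j * ((1 : ∀ i, C i) - Pi.single i (1 : C i) : ∀ i, C i) j = x j
      rw [Pi.sub_apply, Pi.one_apply]
      by_cases hj : j = i
      · subst hj; rw [Pi.single_eq_same, sub_self, mul_zero, hx']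
      · rw [Pi.single_eq_of_ne hj, sub_zero, mul_one]
  haveI : ∀ i, Module.FinitePresentation P (C i ⊗[S] N) := fun i =>
    haveI := h i
    Module.FinitePresentation.trans P (C i ⊗[S] N) (C i)
  let e : (P ⊗[S] N) ≃ₗ[P] ∀ i, C i ⊗[S] N :=
    { TensorProduct.piLeft S N C with
      map_smul' := fun a x => by
        show TensorProduct.piLeft S N C (a • x) = a • TensorProduct.piLeft S N C x
        induction x using TensorProduct.induction_on with
        | zero => rw [smul_zero, map_zero, smul_zero]
        | tmul c n =>
          funext i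
          rw [TensorProduct.smul_tmul']
          show TensorProduct.piLeft S N C ((a * c) ⊗ₜ[S] n) i = algebraMap P (C i) a • TensorProduct.piLeft S N C (c ⊗ₜ[S] n) i
          simp [TensorProduct.smul_tmul', RingHom.algebraMap_toAlgebra]
          rfl
        | add x y hx hy => rw [smul_add, map_add, hx, hy, map_add, smul_add] }
  exact Module.FinitePresentation.of_equiv e.symm

/-- Finite products of finitely presented algebras. -/
theorem algebra_finitePresentation_pi {A : Type u} [CommRing A] {k : ℕ} (C : Fin k → Type u)
    [∀ i, CommRing (C i)] [∀ i, Algebra A (C i)] [∀ i, Algebra.FinitePresentation A (C i)] :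
    Algebra.FinitePresentation A (∀ i, C i) := inferInstance

open TensorProduct IsLocalRing in
/-- Ring form, X = Spec S and S = Spec R affine: let S be a finitely presented R-algebra, N a finite
S-module and p a prime of R such that N_q is flat over R for every prime q of S over p. Then there
is an étale R-algebra R' with a prime p' over p having the same residue field such that, writing A
for the local ring of R' at p' and S_A, N_A for the base changes: there is an étale S_A-algebra C,
finitely presented over A, such that every prime of S over p is the contraction of a prime of C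
lying over the maximal ideal of A, C ⊗ N_A is a finitely presented C-module, and C ⊗ N_A is a free
A-module. -/
theorem result {R S : Type u} [CommRing R] [CommRing S] [Algebra R S] [Algebra.FinitePresentation R S]
    (N : Type u) [AddCommGroup N] [Module S N] [Module R N] [IsScalarTower R S N] [Module.Finite S N]
    (p : Ideal R) [p.IsPrime] (hflat : ∀ (q : Ideal S) [q.IsPrime], q.LiesOver p → FlatCA.FlatAt R q N) :
    ∃ (R' : Type u) (_ : CommRing R') (_ : Algebra R R') (p' : Ideal R') (_ : p'.IsPrime), FlatCA.IsEtaleNhd R R' p p' ∧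
      ∀ (SA NA : Type u) [CommRing SA] [Algebra R SA] [Algebra S SA] [Algebra (Localization.AtPrime p') SA]
        [IsScalarTower R S SA] [IsScalarTower R (Localization.AtPrime p') SA]
        [Algebra.IsPushout R S (Localization.AtPrime p') SA]
        [AddCommGroup NA] [Module SA NA] [Module S NA] [IsScalarTower S SA NA]
        (f : N →ₗ[S] NA), IsBaseChange SA f →
        ∃ (C : Type u) (_ : CommRing C) (_ : Algebra SA C) (_ : Algebra (Localization.AtPrime p') C)
          (_ : IsScalarTower (Localization.AtPrime p') SA C) (_ : Algebra S C) (_ : IsScalarTower S SA C),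
          Algebra.Etale SA C ∧ Algebra.FinitePresentation (Localization.AtPrime p') C ∧
          (∀ (q : Ideal S) [q.IsPrime], q.LiesOver p → ∃ x' : Ideal C, x'.IsPrime ∧ x'.comap (algebraMap S C) = q ∧
            x'.LiesOver (maximalIdeal (Localization.AtPrime p'))) ∧
          Module.FinitePresentation C (C ⊗[SA] NA) ∧
          Module.Free (Localization.AtPrime p') (RestrictScalars (Localization.AtPrime p') C (C ⊗[SA] NA)) := by
  classical
  obtain ⟨k, π, hgood, hcover⟩ := RG.exists_finite_pieces (RG.FreePiece N) (p := p) (fun q _ hq => by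
    haveI := hq
    obtain ⟨π, hS, hfree⟩ := RG.exists_free_piece N p q (hflat q hq)
    obtain ⟨hqo, -⟩ := hS.2
    exact ⟨π, hfree, hqo.over.symm⟩)
  obtain ⟨R', _, _, p'', _, _, htow, hR, hnhd⟩ := RG.exists_common_piece_nhd π
  haveI := htow
  haveI := hR.1
  refine ⟨R', inferInstance, inferInstance, p'', inferInstance, hR, ?_⟩
  intro SA NA _ _ _ _ _ _ _ _ _ _ _ f hf
  let A := Localization.AtPrime p''
  obtain ⟨hAo, hκA⟩ := RG.residue_bijective_atPrime p''
  haveI := hAo
  haveI : ∀ i, IsScalarTower (π i).R' R' A := fun i => inferInstance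
  haveI : Algebra.FormallyEtale R' A := Algebra.FormallyEtale.of_isLocalization p''.primeCompl
  haveI : Algebra.FormallyEtale R A := Algebra.FormallyEtale.comp R R' A
  haveI : ∀ i, Algebra.FormallyEtale (π i).R' A := fun i => by
    haveI := (hnhd i).1
    exact Algebra.FormallyEtale.comp (π i).R' R' A
  haveI hoA : ∀ i, (IsLocalRing.maximalIdeal A).LiesOver (π i).p' := fun i => by
    obtain ⟨h, -⟩ := (hnhd i).2
    haveI := h
    exact Ideal.LiesOver.trans _ p'' _
  have hκ : ∀ i, Function.Bijective (Ideal.ResidueField.mapₐ (π i).p' (IsLocalRing.maximalIdeal A)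
      (Algebra.ofId (π i).R' A) (hoA i).over) := fun i => by
    obtain ⟨h, hb⟩ := (hnhd i).2
    exact RG.residue_bijective_comp h hAo (hoA i) hb hκA
  let C : Fin k → Type u := fun i => (π i).S' ⊗[(π i).R'] A
  haveI : ∀ i, IsScalarTower R (π i).R' A := fun i => IsScalarTower.of_algebraMap_eq fun r => by
    rw [IsScalarTower.algebraMap_apply R R' A, IsScalarTower.algebraMap_apply R (π i).R' R',
      ← IsScalarTower.algebraMap_apply (π i).R' R' A]
  haveI : ∀ i, IsScalarTower R A (C i) := fun i => IsScalarTower.of_algebraMap_eq fun a => by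
    show algebraMap R (π i).S' a ⊗ₜ[(π i).R'] (1 : A) = (1 : (π i).S') ⊗ₜ[(π i).R'] algebraMap R A a
    rw [IsScalarTower.algebraMap_apply R (π i).R' (π i).S', IsScalarTower.algebraMap_apply R (π i).R' A,
      ← mul_one (algebraMap (π i).R' (π i).S' _), ← Algebra.smul_def, TensorProduct.smul_tmul, Algebra.smul_def, mul_one]
  haveI : ∀ i, IsScalarTower R S (C i) := fun i => IsScalarTower.of_algebraMap_eq (R := R) (S := S) (A := C i) fun a => by
    show algebraMap R (π i).S' a ⊗ₜ[(π i).R'] (1 : A) = algebraMap S (π i).S' (algebraMap R S a) ⊗ₜ[(π i).R'] (1 : A)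
    rw [IsScalarTower.algebraMap_apply R S (π i).S']
  haveI : ∀ i, Algebra.IsPushout (π i).R' A (π i).S' (C i) := fun i => Algebra.IsPushout.symm inferInstance
  haveI : ∀ i, Algebra.FormallyEtale S (C i) := fun i => Algebra.FormallyEtale.comp S (π i).S' (C i)
  haveI : ∀ i, Algebra.FinitePresentation A (C i) := fun i => by
    haveI := (π i).nhd.1
    haveI : Algebra.FinitePresentation R (π i).S' := Algebra.FinitePresentation.trans R S (π i).S'
    haveI : Algebra.FinitePresentation (π i).R' (π i).S' :=
      Algebra.FinitePresentation.of_restrict_scalars_finitePresentation R (π i).R' (π i).S'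
    exact Algebra.FinitePresentation.equiv (Algebra.IsPushout.equiv (π i).R' A (π i).S' (C i))
  haveI := algebra_finitePresentation_pi (A := A) C
  let P := ∀ i, C i
  haveI : IsScalarTower R A P := IsScalarTower.of_algebraMap_eq (R := R) (S := A) (A := P) fun a => funext fun i =>
    IsScalarTower.algebraMap_apply R A (C i) a
  haveI : IsScalarTower R S P := IsScalarTower.of_algebraMap_eq (R := R) (S := S) (A := P) fun a => funext fun i =>
    IsScalarTower.algebraMap_apply R S (C i) a
  haveI : SMulCommClass S A P := ⟨fun s a c => by rw [← algebraMap_smul P a c, ← algebraMap_smul P a (s • c), smul_comm]⟩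
  haveI : ∀ i, SMulCommClass S A (C i) := fun i =>
    ⟨fun s a c => by rw [← algebraMap_smul (C i) a c, ← algebraMap_smul (C i) a (s • c), smul_comm]⟩
  letI : Algebra SA P := ((Algebra.pushoutDesc (R := R) (S := S) SA (IsScalarTower.toAlgHom R S P)
    (IsScalarTower.toAlgHom R A P) fun _ _ => Commute.all _ _).toRingHom).toAlgebra
  haveI : IsScalarTower S SA P := IsScalarTower.of_algebraMap_eq fun a =>
    (Algebra.pushoutDesc_left (R := R) (S := S) SA (IsScalarTower.toAlgHom R S P) (IsScalarTower.toAlgHom R A P)
      (fun _ _ => Commute.all _ _) a).symm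
  haveI : IsScalarTower A SA P := IsScalarTower.of_algebraMap_eq fun a =>
    (Algebra.pushoutDesc_right (R := R) (S := S) SA (IsScalarTower.toAlgHom R S P) (IsScalarTower.toAlgHom R A P)
      (fun _ _ => Commute.all _ _) a).symm
  have hfree : Module.Free A (P ⊗[S] N) := free_pi_tensor C N fun i => (hgood i A (hκ i)).2
  have hfp : Module.FinitePresentation P (P ⊗[S] N) := finitePresentation_pi_tensor C N fun i => (hgood i A (hκ i)).1
  have hbc : IsBaseChange P ((TensorProduct.mk SA P NA 1).restrictScalars S ∘ₗ f) :=
    hf.comp (TensorProduct.isBaseChange SA NA P)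
  let e : (P ⊗[S] N) ≃ₗ[P] P ⊗[SA] NA := hbc.equiv
  refine ⟨P, inferInstance, inferInstance, inferInstance, inferInstance, inferInstance, inferInstance,
    RG.etale_of_formallyEtale (R := R) (A := A) (S := S) (SA := SA) (C := P), inferInstance, fun q _ hq => ?_,
    ?hfp', ?_⟩
  case hfp' => exact @Module.FinitePresentation.of_equiv P (P ⊗[S] N) (P ⊗[SA] NA) _ _ _ _ _ e hfp
  · obtain ⟨i, Q', hQ'1, hQ'2, hQ'3⟩ := hcover q hq
    obtain ⟨Q'', _, hQ''q, hQ''A⟩ :=
      RG.exists_prime_over (R := (π i).R') (R' := A) (S := (π i).S') (S' := C i) (π i).p' (IsLocalRing.maximalIdeal A)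
        (hκ i) Q'
    refine ⟨Q''.comap (Pi.evalRingHom C i), inferInstance, ?_, ⟨?_⟩⟩
    · rw [Ideal.comap_comap]
      show Q''.comap ((algebraMap (π i).S' (C i)).comp (algebraMap S (π i).S')) = q
      rw [← Ideal.comap_comap, ← Ideal.under_def (A := (π i).S') Q'', ← hQ''q.over, hQ'3]
    · rw [Ideal.under_def, Ideal.comap_comap]
      exact hQ''A.over
  · let e₂ : (P ⊗[SA] NA) ≃ₗ[A] RestrictScalars A P (P ⊗[SA] NA) :=
      { (RestrictScalars.addEquiv A P (P ⊗[SA] NA)).symm with
        map_smul' := fun r x => by
          show (RestrictScalars.addEquiv A P (P ⊗[SA] NA)).symm (r • x) =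
            r • (RestrictScalars.addEquiv A P (P ⊗[SA] NA)).symm x
          rw [← algebraMap_smul P r x]
          exact RestrictScalars.addEquiv_symm_map_algebraMap_smul _ _ _ r x }
    exact Module.Free.of_equiv (e.restrictScalars A ≪≫ₗ e₂)

end Groth.Agent.S1258
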