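import Groth.Statements.S1259
import Groth.Agent.S1258
import Groth.Agent.RG.QuotPoint
-- import your own Groth.Agent.* helpers here

set_option autoImplicit false
universe u
open FlatMor

namespace Groth.Agent.S1259

set_option backward.isDefEq.respectTransparency false
set_option backward.isDefEq.respectTransparency.types false
set_option linter.style.haveILetI false
set_option maxHeartbeats 2000000

open TensorProduct

attribute [local instance] Algebra.TensorProduct.rightAlgebra

open TensorProduct IsLocalRing in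
/-- The statement for a presented algebra. -/
theorem aux {R S₀ S : Type u} [CommRing R] [CommRing S] [Algebra R S] [CommRing S₀] [Algebra R S₀] [Algebra.FinitePresentation R S₀] [Algebra S₀ S] [IsScalarTower R S₀ S]
    (hs : Function.Surjective (algebraMap S₀ S))
    (N : Type u) [AddCommGroup N] [Module S N] [Module R N] [IsScalarTower R S N] [Module.Finite S N]
    (p : Ideal R) [p.IsPrime] (hflat : ∀ (q : Ideal S) [q.IsPrime], q.LiesOver p → FlatCA.FlatAt R q N) :
    ∃ (R' : Type u) (_ : CommRing R') (_ : Algebra R R') (p' : Ideal R') (_ : p'.IsPrime), FlatCA.IsEtaleNhd R R' p p' ∧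
      ∀ (SA NA : Type u) [CommRing SA] [Algebra R SA] [Algebra S SA] [Algebra (Localization.AtPrime p') SA]
        [IsScalarTower R S SA] [IsScalarTower R (Localization.AtPrime p') SA]
        [Algebra.IsPushout R S (Localization.AtPrime p') SA]
        [AddCommGroup NA] [Module SA NA] [Module S NA] [IsScalarTower S SA NA]
        (f : N →ₗ[S] NA), IsBaseChange SA f →
        ∃ (C : Type u) (_ : CommRing C) (_ : Algebra SA C) (_ : Algebra (Localization.AtPrime p') C)
          (_ : IsScalarTower (Localization.AtPrime p') SA C) (_ : Algebra S C) (_ : IsScalarTower S SA C),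
          Algebra.Etale SA C ∧
          (∀ (q : Ideal S) [q.IsPrime], q.LiesOver p → ∃ x' : Ideal C, x'.IsPrime ∧ x'.comap (algebraMap S C) = q ∧
            x'.LiesOver (maximalIdeal (Localization.AtPrime p'))) ∧
          Module.Free (Localization.AtPrime p') (RestrictScalars (Localization.AtPrime p') C (C ⊗[SA] NA)) := by
  haveI : Module.Finite S₀ S := Module.Finite.of_surjective (Algebra.linearMap S₀ S) hs
  letI : Module S₀ N := Module.compHom N (algebraMap S₀ S)
  haveI : IsScalarTower S₀ S N := IsScalarTower.of_algebraMap_smul fun _ _ => rfl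
  haveI : IsScalarTower R S₀ N := IsScalarTower.of_algebraMap_smul fun r n => by
    show algebraMap S₀ S (algebraMap R S₀ r) • n = r • n
    rw [← IsScalarTower.algebraMap_apply, algebraMap_smul]
  haveI : Module.Finite S₀ N := Module.Finite.trans S N
  obtain ⟨R', _, _, p', _, hR, H⟩ := Groth.Agent.S1258.result (R := R) (S := S₀) N p fun q₀ _ hq₀ => by
    by_cases hker : RingHom.ker (algebraMap S₀ S) ≤ q₀
    · haveI : (q₀.map (algebraMap S₀ S)).IsPrime := Ideal.map_isPrime_of_surjective hs hker
      have hc : (q₀.map (algebraMap S₀ S)).comap (algebraMap S₀ S) = q₀ := by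
        rw [Ideal.comap_map_of_surjective' _ hs, sup_eq_left.2 hker]
      refine (RG.flatAt_comap_iff hs (q₀.map (algebraMap S₀ S)) q₀ hc).1 (hflat _ ⟨?_⟩)
      rw [Ideal.under_def, IsScalarTower.algebraMap_eq R S₀ S, ← Ideal.comap_comap, hc, ← Ideal.under_def]
      exact hq₀.over
    · obtain ⟨s, hs0, hsq⟩ := SetLike.not_le_iff_exists.1 hker
      haveI : Subsingleton (LocalizedModule q₀.primeCompl N) :=
        LocalizedModule.subsingleton_iff.2 fun n => ⟨s, hsq, by
          show algebraMap S₀ S s • n = 0
          rw [RingHom.mem_ker.1 hs0, zero_smul]⟩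
      exact inferInstanceAs (Module.Flat R (LocalizedModule q₀.primeCompl N))
  refine ⟨R', inferInstance, inferInstance, p', inferInstance, hR, ?_⟩
  intro SA NA _ _ _ _ _ _ _ _ _ _ _ f hf
  let A := Localization.AtPrime p'
  let SA₀ := S₀ ⊗[R] A
  haveI : Algebra.IsPushout R S₀ A SA₀ := inferInstance
  haveI : IsScalarTower R A SA₀ := inferInstance
  letI : Algebra S₀ SA := ((algebraMap S SA).comp (algebraMap S₀ S)).toAlgebra
  haveI : IsScalarTower S₀ S SA := IsScalarTower.of_algebraMap_eq' rfl
  haveI : IsScalarTower R S₀ SA := IsScalarTower.of_algebraMap_eq (R := R) (S := S₀) (A := SA) fun r => by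
    rw [IsScalarTower.algebraMap_apply S₀ S SA, ← IsScalarTower.algebraMap_apply R S₀ S, ← IsScalarTower.algebraMap_apply R S SA]
  letI : Algebra SA₀ SA := (Algebra.TensorProduct.lift (IsScalarTower.toAlgHom R S₀ SA)
    (IsScalarTower.toAlgHom R A SA) fun _ _ => Commute.all _ _).toRingHom.toAlgebra
  haveI : IsScalarTower S₀ SA₀ SA := IsScalarTower.of_algebraMap_eq fun a => by
    show algebraMap S₀ SA a = Algebra.TensorProduct.lift (IsScalarTower.toAlgHom R S₀ SA)
      (IsScalarTower.toAlgHom R A SA) (fun _ _ => Commute.all _ _) (a ⊗ₜ (1 : A))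
    simp
  haveI : IsScalarTower A SA₀ SA := IsScalarTower.of_algebraMap_eq fun a => by
    show algebraMap A SA a = Algebra.TensorProduct.lift (IsScalarTower.toAlgHom R S₀ SA)
      (IsScalarTower.toAlgHom R A SA) (fun _ _ => Commute.all _ _) ((1 : S₀) ⊗ₜ a)
    simp
  haveI : Algebra.IsPushout R A S₀ SA₀ := Algebra.IsPushout.symm inferInstance
  haveI : Algebra.IsPushout R A S SA := Algebra.IsPushout.symm inferInstance
  haveI hpo : Algebra.IsPushout S₀ S SA₀ SA := RG.isPushout_of_base R A S₀ SA₀ S SA
  letI : Module SA₀ NA := Module.compHom NA (algebraMap SA₀ SA)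
  haveI : IsScalarTower SA₀ SA NA := IsScalarTower.of_algebraMap_smul fun _ _ => rfl
  letI : Module S₀ NA := Module.compHom NA (algebraMap S₀ SA)
  haveI : IsScalarTower S₀ SA NA := IsScalarTower.of_algebraMap_smul fun _ _ => rfl
  haveI : IsScalarTower S₀ S NA := IsScalarTower.of_algebraMap_smul fun a n => by
    show algebraMap S₀ S a • n = algebraMap S₀ SA a • n
    rw [IsScalarTower.algebraMap_apply S₀ S SA, algebraMap_smul SA (algebraMap S₀ S a) n]
  haveI : IsScalarTower S₀ SA₀ NA := IsScalarTower.of_algebraMap_smul (R := S₀) (A := SA₀) (M := NA) fun a n => by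
    show algebraMap SA₀ SA (algebraMap S₀ SA₀ a) • n = algebraMap S₀ SA a • n
    rw [← IsScalarTower.algebraMap_apply]
  have hf₀ : IsBaseChange SA₀ (f.restrictScalars S₀) := RG.isBaseChange_restrict f hf
  obtain ⟨C₀, _, _, _, _, _, _, het, -, hcov, -, hfree⟩ := H SA₀ NA (f.restrictScalars S₀) hf₀
  haveI := het
  haveI := hfree
  let C := SA ⊗[SA₀] C₀
  haveI : IsScalarTower A SA C := inferInstance
  haveI : IsScalarTower A C₀ C := IsScalarTower.of_algebraMap_eq (R := A) (S := C₀) (A := C) fun a => by
    rw [IsScalarTower.algebraMap_apply A SA C, IsScalarTower.algebraMap_apply A SA₀ SA,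
      ← IsScalarTower.algebraMap_apply SA₀ SA C, IsScalarTower.algebraMap_apply SA₀ C₀ C,
      ← IsScalarTower.algebraMap_apply A SA₀ C₀]
  haveI : IsScalarTower S SA C := inferInstance
  haveI : IsScalarTower S₀ SA C := inferInstance
  haveI : IsScalarTower S₀ S C := IsScalarTower.of_algebraMap_eq fun a => by
    rw [IsScalarTower.algebraMap_apply S₀ SA C, IsScalarTower.algebraMap_apply S₀ S SA,
      ← IsScalarTower.algebraMap_apply S SA C]
  haveI : IsScalarTower S₀ C₀ C := IsScalarTower.of_algebraMap_eq (R := S₀) (S := C₀) (A := C) fun a => by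
    rw [IsScalarTower.algebraMap_apply S₀ SA₀ C₀, ← IsScalarTower.algebraMap_apply SA₀ C₀ C,
      IsScalarTower.algebraMap_apply SA₀ SA C, ← IsScalarTower.algebraMap_apply S₀ SA₀ SA,
      ← IsScalarTower.algebraMap_apply S₀ SA C]
  haveI : IsScalarTower S₀ SA₀ C := IsScalarTower.of_algebraMap_eq (R := S₀) (S := SA₀) (A := C) fun a => by
    rw [IsScalarTower.algebraMap_apply SA₀ SA C, ← IsScalarTower.algebraMap_apply S₀ SA₀ SA,
      ← IsScalarTower.algebraMap_apply S₀ SA C]
  haveI : Algebra.IsPushout SA₀ C₀ SA C := inferInstance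
  haveI hpC : Algebra.IsPushout S₀ S C₀ C := by
    haveI : Algebra.IsPushout S₀ SA₀ S SA := hpo.symm
    exact ((Algebra.IsPushout.comp_iff (R := S₀) (S := SA₀) (R' := S) (S' := SA) (T := C₀) (T' := C)).2 inferInstance).symm
  haveI : Algebra.Etale SA C := inferInstance
  have hfr : Module.Free A (RestrictScalars A C (C ⊗[SA] NA)) := by
    haveI : SMulCommClass SA A C := ⟨fun s a c => by rw [← algebraMap_smul C a c, ← algebraMap_smul C a (s • c), smul_comm]⟩
    haveI : SMulCommClass SA₀ A C₀ := ⟨fun s a c => by rw [← algebraMap_smul C₀ a c, ← algebraMap_smul C₀ a (s • c), smul_comm]⟩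
    let e₀ : RestrictScalars A C₀ (C₀ ⊗[SA₀] NA) ≃ₗ[A] (C₀ ⊗[SA₀] NA) :=
      { RestrictScalars.addEquiv A C₀ (C₀ ⊗[SA₀] NA) with
        map_smul' := fun r z => by
          show RestrictScalars.addEquiv A C₀ (C₀ ⊗[SA₀] NA) (r • z) = r • RestrictScalars.addEquiv A C₀ (C₀ ⊗[SA₀] NA) z
          rw [RestrictScalars.addEquiv_map_smul, algebraMap_smul] }
    haveI : Module.Free A (C₀ ⊗[SA₀] NA) := Module.Free.of_equiv e₀
    let e₁ : (C₀ ⊗[SA₀] NA) ≃ₗ[A] (C ⊗[SA] NA) :=
      { (Algebra.IsPushout.cancelBaseChange SA₀ C₀ SA C NA).symm with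
        map_smul' := fun r z => by
          show (Algebra.IsPushout.cancelBaseChange SA₀ C₀ SA C NA).symm (r • z) = r • (Algebra.IsPushout.cancelBaseChange SA₀ C₀ SA C NA).symm z
          rw [← algebraMap_smul C₀ r z, LinearEquiv.map_smul, ← algebraMap_smul C (algebraMap A C₀ r),
            ← IsScalarTower.algebraMap_apply A C₀ C, algebraMap_smul] }
    let e₂ : (C ⊗[SA] NA) ≃ₗ[A] RestrictScalars A C (C ⊗[SA] NA) :=
      { (RestrictScalars.addEquiv A C (C ⊗[SA] NA)).symm with
        map_smul' := fun r z => by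
          show (RestrictScalars.addEquiv A C (C ⊗[SA] NA)).symm (r • z) =
            r • (RestrictScalars.addEquiv A C (C ⊗[SA] NA)).symm z
          rw [← algebraMap_smul C r z]
          exact RestrictScalars.addEquiv_symm_map_algebraMap_smul _ _ _ r z }
    exact Module.Free.of_equiv (e₁ ≪≫ₗ e₂)
  refine ⟨C, inferInstance, inferInstance, inferInstance, inferInstance, inferInstance, inferInstance, inferInstance,
    fun q _ hq => ?_, hfr⟩
  obtain ⟨x₀, hx₀1, hx₀2, hx₀3⟩ := hcov (q.comap (algebraMap S₀ S)) ⟨by
    rw [Ideal.under_def, Ideal.comap_comap, ← IsScalarTower.algebraMap_eq R S₀ S, ← Ideal.under_def]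
    exact hq.over⟩
  obtain ⟨x, _, hxx₀, hxq⟩ := RG.exists_prime_quot (S₀ := S₀) (S := S) (C₀ := C₀) (C := C) hs x₀ q hx₀2
  refine ⟨x, inferInstance, hxq, ⟨?_⟩⟩
  rw [Ideal.under_def, IsScalarTower.algebraMap_eq A C₀ C, ← Ideal.comap_comap, hxx₀, ← Ideal.under_def]
  exact hx₀3.over

open TensorProduct IsLocalRing in
/-- Ring form, X = Spec S and S = Spec R affine: let S be a finite type R-algebra, N a finite S-module
and p a prime of R such that N_q is flat over R for every prime q of S over p. Then there is an
étale R-algebra R' with a prime p' over p having the same residue field such that, writing A for the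
local ring of R' at p' and S_A, N_A for the base changes: there is an étale S_A-algebra C such that
every prime of S over p is the contraction of a prime of C over the maximal ideal of A, and C ⊗ N_A
is a free A-module. -/
theorem result {R S : Type u} [CommRing R] [CommRing S] [Algebra R S] [Algebra.FiniteType R S]
    (N : Type u) [AddCommGroup N] [Module S N] [Module R N] [IsScalarTower R S N] [Module.Finite S N]
    (p : Ideal R) [p.IsPrime] (hflat : ∀ (q : Ideal S) [q.IsPrime], q.LiesOver p → FlatCA.FlatAt R q N) :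
    ∃ (R' : Type u) (_ : CommRing R') (_ : Algebra R R') (p' : Ideal R') (_ : p'.IsPrime), FlatCA.IsEtaleNhd R R' p p' ∧
      ∀ (SA NA : Type u) [CommRing SA] [Algebra R SA] [Algebra S SA] [Algebra (Localization.AtPrime p') SA]
        [IsScalarTower R S SA] [IsScalarTower R (Localization.AtPrime p') SA]
        [Algebra.IsPushout R S (Localization.AtPrime p') SA]
        [AddCommGroup NA] [Module SA NA] [Module S NA] [IsScalarTower S SA NA]
        (f : N →ₗ[S] NA), IsBaseChange SA f →
        ∃ (C : Type u) (_ : CommRing C) (_ : Algebra SA C) (_ : Algebra (Localization.AtPrime p') C)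
          (_ : IsScalarTower (Localization.AtPrime p') SA C) (_ : Algebra S C) (_ : IsScalarTower S SA C),
          Algebra.Etale SA C ∧
          (∀ (q : Ideal S) [q.IsPrime], q.LiesOver p → ∃ x' : Ideal C, x'.IsPrime ∧ x'.comap (algebraMap S C) = q ∧
            x'.LiesOver (maximalIdeal (Localization.AtPrime p'))) ∧
          Module.Free (Localization.AtPrime p') (RestrictScalars (Localization.AtPrime p') C (C ⊗[SA] NA)) := by
  obtain ⟨ι, _, φ, hφ⟩ := Algebra.FiniteType.iff_quotient_mvPolynomial'.1 (inferInstance : Algebra.FiniteType R S)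
  letI : Algebra (MvPolynomial ι R) S := φ.toRingHom.toAlgebra
  haveI : IsScalarTower R (MvPolynomial ι R) S := IsScalarTower.of_algebraMap_eq fun r => (φ.commutes r).symm
  exact aux (S₀ := MvPolynomial ι R) hφ N p hflat

end Groth.Agent.S1259
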