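import Groth.Statements.S1221
import Groth.Agent.ZClosLib.DomainLocal
import Groth.Agent.ZClosLib.ImpurityQF
-- import your own Groth.Agent.* helpers here

set_option autoImplicit false
universe u
open FlatMor

namespace Groth.Agent.S1221

attribute [local instance] Algebra.TensorProduct.rightAlgebra

open TensorProduct

/-- Reduction modulo an ideal of the base preserves flatness of a localisation. -/
private theorem flat_quot {A B N A' B' Y : Type u} [CommRing A] [CommRing B] [Algebra A B]
    [AddCommGroup N] [Module B N] [Module A N] [IsScalarTower A B N]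
    [CommRing A'] [CommRing B'] [Algebra A A'] [Algebra B B'] [Algebra A' B']
    [AddCommGroup Y] [Module B' Y] [Module A' Y] [Module B Y] [Module A Y] [IsScalarTower A' B' Y]
    [IsScalarTower A A' Y] [IsScalarTower B B' Y] [IsScalarTower A B Y]
    (hA : Function.Surjective (algebraMap A A')) (π : N →ₗ[B] Y) (hπ : Function.Surjective π)
    (hker : ∀ x, π x = 0 → x ∈ RingHom.ker (algebraMap A A') • (⊤ : Submodule A N))
    (W : Submonoid B') (W₀ : Submonoid B) (hW : ∀ b ∈ W₀, algebraMap B B' b ∈ W)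
    (h : Module.Flat A (LocalizedModule W₀ N)) : Module.Flat A' (LocalizedModule W Y) := by
  rw [FlatModel.flat_localized_iff W (LocalizedModule.mkLinearMap W Y)]
  rw [FlatModel.flat_localized_iff W₀ (LocalizedModule.mkLinearMap W₀ N)] at h
  intro J y hy
  let J' : Ideal A := J.comap (algebraMap A A')
  let Φ : N ⊗[A] J' →ₗ[A] Y ⊗[A'] J := TensorProduct.lift
    (LinearMap.mk₂ A (fun n j => π n ⊗ₜ[A'] (⟨algebraMap A A' j, j.2⟩ : J))
      (fun a b j => by simp only [map_add, add_tmul])
      (fun c a j => by simp only [LinearMap.map_smul_of_tower, ← smul_tmul'])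
      (fun a j k => by
        rw [← tmul_add]; congr 1; ext; simp)
      (fun c a j => by
        rw [← tmul_smul]; congr 1; ext; simp [Algebra.smul_def]))
  have hΦt : ∀ n (j : J'), Φ (n ⊗ₜ j) = π n ⊗ₜ (⟨algebraMap A A' j, j.2⟩ : J) := fun n j => rfl
  have hΦ : Function.Surjective Φ := by
    intro z
    induction z using TensorProduct.induction_on with
    | zero => exact ⟨0, map_zero _⟩
    | tmul m j =>
      obtain ⟨n, rfl⟩ := hπ m
      obtain ⟨j, hj⟩ := j
      obtain ⟨a, rfl⟩ := hA j
      exact ⟨n ⊗ₜ (⟨a, hj⟩ : J'), rfl⟩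
    | add a b ha hb =>
      obtain ⟨a', rfl⟩ := ha
      obtain ⟨b', rfl⟩ := hb
      exact ⟨a' + b', map_add _ _ _⟩
  have hΦs : ∀ (b : B) z, Φ (b • z) = algebraMap B B' b • Φ z := by
    intro b z
    induction z using TensorProduct.induction_on with
    | zero => simp
    | tmul n j => rw [smul_tmul', hΦt, hΦt, map_smul, smul_tmul', algebraMap_smul]
    | add a c ha hc => rw [smul_add, map_add, map_add, ha, hc, smul_add]
  obtain ⟨y, rfl⟩ := hΦ y
  let e : N ⊗[A] J' →ₗ[A] N := (TensorProduct.rid A N).toLinearMap ∘ₗ J'.subtype.lTensor N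
  have hcomm : ∀ z, TensorProduct.rid A' Y (J.subtype.lTensor Y (Φ z)) = π (e z) := by
    intro z
    induction z using TensorProduct.induction_on with
    | zero => simp
    | tmul n j => simp [hΦt, e, LinearMap.map_smul_of_tower, algebraMap_smul]
    | add a c ha hc => simp only [map_add, ha, hc]
  have h1 := hker (e y) (by rw [← hcomm, hy, map_zero])
  obtain ⟨z, hz, hz0⟩ : ∃ z, e z = e y ∧ Φ z = 0 := by
    refine Submodule.smul_induction_on h1 (fun a ha n _ => ?_) (fun a b ha hb => ?_)
    · have ha0 : algebraMap A A' a = 0 := ha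
      have haJ : a ∈ J' := by show algebraMap A A' a ∈ J; rw [ha0]; exact zero_mem _
      refine ⟨n ⊗ₜ ⟨a, haJ⟩, by simp [e], ?_⟩
      rw [hΦt, show (⟨algebraMap A A' a, haJ⟩ : J) = 0 from Subtype.ext ha0, tmul_zero]
    · obtain ⟨z, hz, hz0⟩ := ha
      obtain ⟨z', hz', hz0'⟩ := hb
      exact ⟨z + z', by rw [map_add, hz, hz'], by rw [map_add, hz0, hz0', add_zero]⟩
  obtain ⟨s, hs, hsy⟩ := h J' (y - z) ((TensorProduct.rid A N).injective (by
    rw [map_zero]; show e (y - z) = 0; rw [map_sub, hz, sub_self]))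
  refine ⟨algebraMap B B' s, hW s hs, ?_⟩
  have := congrArg Φ hsy
  rwa [hΦs, map_sub, hz0, sub_zero, map_zero] at this

/-- An element vanishing on a point of the generic assassin and regular on the special fibre gives an
element of the point outside a specialization. -/
private theorem not_le_of_regular {A B A' B' Y : Type u} [CommRing A] [CommRing B] [Algebra A B]
    [Algebra.FiniteType A B] (N : Type u) [AddCommGroup N] [Module B N] [Module A N] [IsScalarTower A B N]
    [Module.Finite B N]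
    [CommRing A'] [IsDomain A'] [CommRing B'] [Algebra A A'] [Algebra B B'] [Algebra A' B'] [Algebra A B']
    [IsScalarTower A A' B'] [IsScalarTower A B B']
    [AddCommGroup Y] [Module B' Y] [Module A' Y] [Module B Y] [Module A Y] [IsScalarTower A' B' Y]
    [IsScalarTower A A' Y] [IsScalarTower B B' Y] [IsScalarTower A B Y]
    (p p' : Ideal A) [p.IsPrime] (hp : p' ≤ p)
    (hA : Function.Surjective (algebraMap A A')) (hkA : RingHom.ker (algebraMap A A') = p')
    (hB : Function.Surjective (algebraMap B B'))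
    (π : N →ₗ[B] Y) (hπ : Function.Surjective π)
    (hker : ∀ x, π x = 0 ↔ x ∈ p' • (⊤ : Submodule A N))
    (t : Ideal B) [t.IsPrime] [ht : t.LiesOver p] (hkB : RingHom.ker (algebraMap B B') ≤ t)
    (hflat : Module.Flat A (LocalizedModule t.primeCompl N))
    {s : B} (hs : ∀ n : N, (∃ r ∉ p, r • s • n ∈ p • (⊤ : Submodule A N)) → ∃ r ∉ p, r • n ∈ p • (⊤ : Submodule A N))
    {w : N} (hw : s • w ∈ p' • (⊤ : Submodule A N)) : ∃ c ∉ t, c • w ∈ p' • (⊤ : Submodule A N) := by
  let p₁ : Ideal A' := p.map (algebraMap A A')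
  let q₁ : Ideal B' := t.map (algebraMap B B')
  haveI : p₁.IsPrime := Ideal.map_isPrime_of_surjective hA (hkA.le.trans hp)
  haveI : q₁.IsPrime := Ideal.map_isPrime_of_surjective hB hkB
  have hp₁ : ∀ a, algebraMap A A' a ∈ p₁ ↔ a ∈ p := fun a => by
    rw [← Ideal.mem_comap, Ideal.comap_map_of_surjective' _ hA, sup_eq_left.2 (hkA.le.trans hp)]
  have hq₁ : ∀ b, algebraMap B B' b ∈ q₁ ↔ b ∈ t := fun b => by
    rw [← Ideal.mem_comap, Ideal.comap_map_of_surjective' _ hB, sup_eq_left.2 hkB]
  haveI : q₁.LiesOver p₁ := ⟨by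
    ext a
    obtain ⟨a, rfl⟩ := hA a
    rw [hp₁, Ideal.under_def, Ideal.mem_comap, ← IsScalarTower.algebraMap_apply,
      IsScalarTower.algebraMap_apply A B B', hq₁]
    exact Ideal.mem_of_liesOver t p a⟩
  haveI : Algebra.FiniteType A B' := Algebra.FiniteType.of_surjective (IsScalarTower.toAlgHom A B B') hB
  haveI : Algebra.FiniteType A' B' := Algebra.FiniteType.of_restrictScalars_finiteType A A' B'
  haveI : Module.Finite B Y := Module.Finite.of_surjective π hπ
  haveI : Module.Finite B' Y := Module.Finite.of_restrictScalars_finite B B' Y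
  have hfwd : ∀ n : N, n ∈ p • (⊤ : Submodule A N) → π n ∈ p₁ • (⊤ : Submodule A' Y) := fun n hn => by
    refine Submodule.smul_induction_on hn (fun a ha m _ => ?_) (fun a b ha hb => by rw [map_add]; exact add_mem ha hb)
    rw [LinearMap.map_smul_of_tower, ← algebraMap_smul A' a (π m)]
    exact Submodule.smul_mem_smul (Ideal.mem_map_of_mem _ ha) trivial
  have hback : ∀ n : N, π n ∈ p₁ • (⊤ : Submodule A' Y) → n ∈ p • (⊤ : Submodule A N) := by
    suffices ∀ y ∈ p₁ • (⊤ : Submodule A' Y), ∃ m ∈ p • (⊤ : Submodule A N), π m = y from fun n hn => by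
      obtain ⟨m, hm, hmn⟩ := this _ hn
      have h1 : n - m ∈ p • (⊤ : Submodule A N) :=
        Submodule.smul_mono_left hp ((hker _).1 (by rw [map_sub, hmn, sub_self]))
      simpa using add_mem h1 hm
    intro y hy
    refine Submodule.smul_induction_on hy (fun a ha m _ => ?_) (fun a b ha hb => ?_)
    · obtain ⟨a, rfl⟩ := hA a
      obtain ⟨n, rfl⟩ := hπ m
      exact ⟨a • n, Submodule.smul_mem_smul ((hp₁ a).1 ha) trivial, by
        rw [LinearMap.map_smul_of_tower, algebraMap_smul]⟩
    · obtain ⟨m, hm, rfl⟩ := ha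
      obtain ⟨m', hm', rfl⟩ := hb
      exact ⟨m + m', add_mem hm hm', map_add _ _ _⟩
  obtain ⟨c, hc, hcw⟩ := ZClosLib.DomainLocal.exists_smul_eq_zero Y p₁ q₁
    (flat_quot hA π hπ (fun x hx => hkA.symm ▸ (hker x).1 hx) q₁.primeCompl t.primeCompl
      (fun b hb h => hb ((hq₁ b).1 h)) hflat)
    (s := algebraMap B B' s) (fun y => by
      rintro ⟨r, hr, hmem⟩
      obtain ⟨r, rfl⟩ := hA r
      obtain ⟨n, rfl⟩ := hπ y
      rw [algebraMap_smul, algebraMap_smul, ← map_smul, ← LinearMap.map_smul_of_tower] at hmem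
      obtain ⟨r', hr', hn⟩ := hs n ⟨r, fun h => hr ((hp₁ r).2 h), hback _ hmem⟩
      refine ⟨1, fun h => ‹q₁.IsPrime›.ne_top ((Ideal.eq_top_iff_one _).2 h), algebraMap A A' r',
        fun h => hr' ((hp₁ r').1 h), ?_⟩
      rw [one_smul, algebraMap_smul, ← LinearMap.map_smul_of_tower]
      exact hfwd _ hn)
    (w := π w) (by rw [algebraMap_smul, ← map_smul]; exact (hker _).2 hw)
  obtain ⟨c, rfl⟩ := hB c
  exact ⟨c, fun h => hc ((hq₁ c).2 h), (hker _).1 (by rw [map_smul, ← algebraMap_smul B' c, hcw])⟩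


/-- Let B be a finite type A-algebra, N a finite B-module and p a prime of A such that N is flat over A
at every prime of B over p. Let q' be a prime of B lying over a prime p' ⊆ p, such that the
extension of q' to the fibre ring over p' is an associated prime of the fibre module of N (a point
of the relative assassin). If q' is contained in some prime of B over p, then it is contained in a
prime q over p whose extension to the fibre ring over p is an associated prime of the fibre module
over p. -/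
theorem result {A B : Type u} [CommRing A] [CommRing B] [Algebra A B] [Algebra.FiniteType A B]
    (N : Type u) [AddCommGroup N] [Module B N] [Module A N] [IsScalarTower A B N] [Module.Finite B N] (p : Ideal A) [p.IsPrime]
    (hflat : ∀ (q : Ideal B) [q.IsPrime], q.LiesOver p → FlatCA.FlatAt A q N)
    (p' : Ideal A) [p'.IsPrime] (hp' : p' ≤ p) (q' : Ideal B) [q'.IsPrime] [q'.LiesOver p']
    (hass : FlatCA.fiberIdeal p' q' ∈ associatedPrimes (p'.Fiber B) (FlatCA.fiberMod p' B N))
    (hspec : ∃ (t : Ideal B), t.IsPrime ∧ q' ≤ t ∧ t.LiesOver p) :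
    ∃ (q : Ideal B) (_ : q.IsPrime), q' ≤ q ∧ q.LiesOver p ∧
      FlatCA.fiberIdeal p q ∈ associatedPrimes (p.Fiber B) (FlatCA.fiberMod p B N) := by
  classical
  obtain ⟨t, htp, hqt, htover⟩ := hspec
  haveI := htp; haveI := htover
  haveI : IsNoetherianRing (p'.Fiber B) := Algebra.FiniteType.isNoetherianRing p'.ResidueField _
  haveI : IsNoetherianRing (p.Fiber B) := Algebra.FiniteType.isNoetherianRing p.ResidueField _
  by_contra hno
  obtain ⟨s, hsq, hs⟩ := ZClosLib.NzdUnivInj.exists_avoid p N (fun _ => True) q' fun r hr _ hle => by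
    obtain ⟨h1, h2, h3, -⟩ := ZClosLib.NzdUnivInj.comap_spec p N hr
    exact hno ⟨_, h1, hle, h2, by rw [h3]; exact hr⟩
  -- a lift of a generator of the generic assassin
  obtain ⟨-, x, hx⟩ := ZClosLib.FibAssIdeal.mem_ass_of_mem_associatedPrimes hass
  haveI := AssFiber.isLocalizedModule_quotToFiber p' (S := B) N
  obtain ⟨⟨y, ⟨_, r₀, hr₀, rfl⟩⟩, hy⟩ := IsLocalizedModule.surj (Algebra.algebraMapSubmonoid B p'.primeCompl)
    (AssFiber.quotToFiber p' (S := B) N) x
  obtain ⟨n, rfl⟩ := Submodule.Quotient.mk_surjective _ y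
  have hy' : algebraMap B (p'.Fiber B) (algebraMap A B r₀) • x = FlatCA.toFiberMod p' (S := B) N n := by
    rw [AssFiber.algebraMap_smul_fiberMod]; exact hy
  have hcomap : (FlatCA.fiberIdeal p' q').comap (algebraMap B (p'.Fiber B)) = q' := by
    obtain ⟨⟨Q, hQ1⟩, hQ2⟩ := ZClosLib.NzdUnivInj.exists_prime_fiber p' q'
    rw [← ZClosLib.FibAssIdeal.eq_fiberIdeal p' hQ2]
    exact hQ2
  have hn : ∀ b : B, FlatCA.toFiberMod p' (S := B) N (b • n) = 0 ↔ b ∈ q' := by
    intro b
    rw [map_smul, ← AssFiber.algebraMap_smul_fiberMod, ← hy', smul_comm,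
      (ZClosLib.PurityBC.isUnit_algebraMap_fiber p' hr₀).smul_eq_zero]
    conv_rhs => rw [← hcomap, Ideal.mem_comap, hx]
    exact WeakAss.mem_annEl.symm
  obtain ⟨r, hr, hrn⟩ := (ZClosLib.PurityBC.toFiberMod_eq_zero_iff (S := B) p' N (s • n)).1 ((hn s).2 hsq)
  -- regularity on the special fibre
  have hreg : ∀ m : N, (∃ r ∉ p, r • s • m ∈ p • (⊤ : Submodule A N)) → ∃ r ∉ p, r • m ∈ p • (⊤ : Submodule A N) := by
    intro m hm
    refine (ZClosLib.PurityBC.toFiberMod_eq_zero_iff (S := B) p N m).1 ?_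
    have h0 := (ZClosLib.PurityBC.toFiberMod_eq_zero_iff (S := B) p N _).2 hm
    rw [map_smul, ← AssFiber.algebraMap_smul_fiberMod] at h0
    by_contra hne
    obtain ⟨P, hP, hle⟩ := exists_le_isAssociatedPrime_of_isNoetherianRing (p.Fiber B) _ hne
    exact hs P hP trivial (hle (Submodule.mem_colon_singleton.2 ((Submodule.mem_bot _).2 h0)))
  -- reduce modulo `p'`
  let P' : Ideal B := p'.map (algebraMap A B)
  have hP't : P' ≤ t := Ideal.map_le_iff_le_comap.2 (hp'.trans htover.over.le)
  letI : Algebra (A ⧸ p') (B ⧸ P') := (Ideal.quotientMap P' (algebraMap A B) Ideal.le_comap_map).toAlgebra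
  haveI : IsScalarTower A (A ⧸ p') (B ⧸ P') := IsScalarTower.of_algebraMap_eq fun _ => rfl
  letI : Module (A ⧸ p') (N ⧸ (P' • ⊤ : Submodule B N)) := Module.compHom _ (algebraMap (A ⧸ p') (B ⧸ P'))
  haveI : IsScalarTower (A ⧸ p') (B ⧸ P') (N ⧸ (P' • ⊤ : Submodule B N)) :=
    IsScalarTower.of_algebraMap_smul fun _ _ => rfl
  haveI : IsScalarTower A (A ⧸ p') (N ⧸ (P' • ⊤ : Submodule B N)) := IsScalarTower.of_algebraMap_smul fun a y => by
    show algebraMap (A ⧸ p') (B ⧸ P') (algebraMap A (A ⧸ p') a) • y = a • y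
    rw [← IsScalarTower.algebraMap_apply, IsScalarTower.algebraMap_apply A B (B ⧸ P'), algebraMap_smul,
      algebraMap_smul]
  obtain ⟨c, hc, hcn⟩ := not_le_of_regular N (A' := A ⧸ p') (B' := B ⧸ P') (Y := N ⧸ (P' • ⊤ : Submodule B N)) p p' hp'
    Ideal.Quotient.mk_surjective Ideal.mk_ker Ideal.Quotient.mk_surjective (Submodule.mkQ _)
    (Submodule.mkQ_surjective _) (fun x => by
      rw [Submodule.mkQ_apply, Submodule.Quotient.mk_eq_zero, ← Submodule.restrictScalars_mem A,
        Ideal.smul_restrictScalars, Submodule.restrictScalars_top])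
    t (Ideal.mk_ker.le.trans hP't) (hflat t htover) hreg (w := r • n) (by rwa [smul_comm])
  refine hc (hqt ((hn c).1 ((ZClosLib.PurityBC.toFiberMod_eq_zero_iff (S := B) p' N (c • n)).2 ⟨r, hr, ?_⟩)))
  rwa [smul_comm]


end Groth.Agent.S1221
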