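import Groth.Statements.S1253
import Groth.Agent.RG.Devissage

set_option autoImplicit false
universe u
open FlatMor

namespace Groth.Agent.S1253

set_option maxHeartbeats 2000000 in
open IsLocalRing in
/-- Let R be a local ring, S a finitely presented R-algebra, N a finite S-module and q a prime of S over
𝔪_R with N_q flat over R. If N/S/R admits a complete dévissage at q, then N is of finite
presentation over S and free over R; more precisely N is R-isomorphic to the product over the steps
of the dévissage of the free modules B_i^{r_i}, with B_i and r_i the dévissage's own smooth algebras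
and ranks. -/
theorem result {R S : Type u} [CommRing R] [IsLocalRing R] [CommRing S] [Algebra R S] [Algebra.FinitePresentation R S]
    (N : Type u) [AddCommGroup N] [Module S N] [Module R N] [IsScalarTower R S N] [Module.Finite S N]
    (q : Ideal S) [q.IsPrime] [q.LiesOver (maximalIdeal R)] (hflat : FlatCA.FlatAt R q N)
    (D : FlatCA.CompleteDevissage R S N (maximalIdeal R)) (hD : Nonempty (FlatCA.CompleteDevissageAt R S N (maximalIdeal R) q D)) :
    Module.FinitePresentation S N ∧ Module.Free R N ∧
      Nonempty (N ≃ₗ[R] (∀ i : Fin D.n, Fin (D.r i) → D.B i)) := by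
  classical
  open Groth.Agent.RG in
  obtain ⟨E⟩ := hD
  haveI := E.hqB; haveI := E.hqA; haveI := E.overB; haveI := E.overA
  haveI hRAM : ∀ i, IsScalarTower R (D.A i) (D.M i) := fun i => IsScalarTower.of_algebraMap_smul fun a x => by
    rw [IsScalarTower.algebraMap_apply R (D.B i) (D.A i), algebraMap_smul, algebraMap_smul]
  haveI hRBM' : ∀ i, IsScalarTower R (D.B i) (D.M (i + 1)) := fun i => IsScalarTower.of_algebraMap_smul fun a x => by
    rw [← algebraMap_smul (D.A (i + 1)) (algebraMap R (D.B i) a) x, ← IsScalarTower.algebraMap_apply, algebraMap_smul]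
  haveI hRSM : IsScalarTower R S (D.M 0) := IsScalarTower.of_algebraMap_smul fun a x => by
    rw [← algebraMap_smul (D.A 0) (algebraMap R S a) x, ← IsScalarTower.algebraMap_apply, algebraMap_smul]
  have hfinB : ∀ i, i < D.n → Module.Finite (D.B i) (D.M i) := fun i hi => by
    haveI := D.finiteBA i hi; haveI := D.finiteM i hi
    exact Module.Finite.trans (D.A i) (D.M i)
  have hstep : ∀ i, i < D.n → FlatCA.FlatAt R (E.qA i) (D.M i) →
      FlatCA.UnivInj R ((D.α i).restrictScalars R) ∧ FlatCA.FlatAt R (E.qB i) (D.M i ⧸ LinearMap.range (D.α i)) := by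
    intro i hi h
    haveI := D.finiteBA i hi; haveI := hfinB i hi; haveI := D.smooth i hi
    exact step_local (domFib_of_smooth_geomIrred (D.geomIrred i hi)) _ rfl (E.qB i) inferInstance
      (flatAt_of_unique (E.qA i) (E.qB i) (E.uniq i hi) h) (D.α i) (D.fibreIso i hi)
  have hflatA : ∀ i, i < D.n → FlatCA.FlatAt R (E.qA i) (D.M i) := by
    intro i
    induction i with
    | zero => exact fun _ => (flatAt_comap_iff D.surjSA (E.qA 0) q E.q0).2 (flatAt_congr q D.isoN hflat)
    | succ i ih =>
      intro hi
      exact (flatAt_comap_iff (D.surjBA' i hi) (E.qA (i + 1)) (E.qB i) (E.qStep i hi)).2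
        (flatAt_congr (E.qB i) (D.isoCoker i hi) (hstep i (by omega) (ih (by omega))).2)
  let X : Fin D.n → Type u := fun j => Fin (D.r j) → D.B j
  have hfree : ∀ i, i < D.n → Module.Free R (Fin (D.r i) → D.B i) := fun i hi => by
    haveI := D.smooth i hi
    haveI := (domFib_of_smooth_geomIrred (D.geomIrred i hi)).projective
    haveI := Groth.Agent.S0582.result R (D.B i)
    infer_instance
  haveI : ∀ j : Fin D.n, Module.Free R (X j) := fun j => hfree j j.2
  have main : ∀ k i, i + k + 1 = D.n → Module.FinitePresentation (D.B i) (D.M i) ∧ Module.Free R (D.M i) ∧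
      Nonempty (D.M i ≃ₗ[R] ∀ j : {j : Fin D.n // i ≤ j.1}, X j.1) := by
    intro k
    induction k with
    | zero =>
      intro i hi
      obtain rfl : i = D.n - 1 := by omega
      have hlt : D.n - 1 < D.n := by omega
      have hinj : Function.Injective (D.α (D.n - 1)) := fun a b hab =>
        injective_of_univInj (hstep _ hlt (hflatA _ hlt)).1 hab
      let e := LinearEquiv.ofBijective (D.α (D.n - 1)) ⟨hinj, D.cokerLast⟩
      haveI := hfree _ hlt
      haveI : IsEmpty {j : Fin D.n // D.n - 1 + 1 ≤ j.1} := ⟨fun j => by have h1 := j.1.2; have h2 := j.2; omega⟩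
      have u : (Fin (D.r (D.n - 1)) → D.B (D.n - 1)) ≃ₗ[R]
          (∀ j : {j : Fin D.n // D.n - 1 ≤ j.1}, X j.1) :=
        LinearEquiv.trans (R₂ := R) (LinearEquiv.prodUnique (R := R) (M₂ := ∀ j : {j : Fin D.n // D.n - 1 + 1 ≤ j.1}, X j.1)).symm
          (piSubtypeSplit R X ⟨D.n - 1, hlt⟩).symm
      exact ⟨Module.FinitePresentation.of_equiv e, Module.Free.of_equiv (e.restrictScalars R),
        ⟨(e.restrictScalars R).symm.trans u⟩⟩
    | succ k ih =>
      intro i hi
      have hlt : i < D.n := by omega
      have hlt' : i + 1 < D.n := by omega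
      obtain ⟨hfp, hfr, ⟨e'⟩⟩ := ih (i + 1) (by omega)
      have hinj : Function.Injective (D.α i) := fun a b hab =>
        injective_of_univInj (hstep _ hlt (hflatA _ hlt)).1 hab
      haveI := hfr; haveI := hfree _ hlt
      obtain ⟨e⟩ := nonempty_prod_equiv (D.α i) hinj ((D.isoCoker i hlt').restrictScalars R)
      refine ⟨?_, Module.Free.of_equiv e.symm,
        ⟨e.trans (((LinearEquiv.refl R _).prodCongr e').trans (piSubtypeSplit R X ⟨i, hlt⟩).symm)⟩⟩
      haveI := D.finiteBA (i + 1) hlt'; haveI := D.finiteM (i + 1) hlt'; haveI := hfp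
      haveI : Module.FinitePresentation (D.A (i + 1)) (D.M (i + 1)) := fp_of_restrict (S := D.B (i + 1))
      haveI := D.fpBA' i hlt'
      haveI : Module.FinitePresentation (D.B i) (D.M (i + 1)) := fp_of_quotient (D.surjBA' i hlt')
      haveI : Module.FinitePresentation (D.B i) (D.M i ⧸ LinearMap.range (D.α i)) :=
        Module.FinitePresentation.of_equiv (D.isoCoker i hlt').symm
      exact fp_of_coker (D.α i) hinj
  have hpos := D.pos
  obtain ⟨hfp, hfr, ⟨e⟩⟩ := main (D.n - 1) 0 (by omega)
  haveI := D.finiteBA 0 D.pos; haveI := D.finiteM 0 D.pos; haveI := hfp; haveI := hfr; haveI := D.fpSA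
  haveI : Module.FinitePresentation (D.A 0) (D.M 0) := fp_of_restrict (S := D.B 0)
  haveI : Module.FinitePresentation S (D.M 0) := fp_of_quotient D.surjSA
  let v : (∀ j : {j : Fin D.n // 0 ≤ j.1}, X j.1) ≃ₗ[R] (∀ j : Fin D.n, Fin (D.r j) → D.B j) :=
    { toFun := fun g j => g ⟨j, Nat.zero_le _⟩
      invFun := fun g j => g j.1
      map_add' := fun _ _ => rfl
      map_smul' := fun _ _ => rfl
      left_inv := fun _ => rfl
      right_inv := fun _ => rfl }
  exact ⟨Module.FinitePresentation.of_equiv D.isoN.symm, Module.Free.of_equiv (D.isoN.restrictScalars R).symm,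
    ⟨(D.isoN.restrictScalars R).trans (e.trans v)⟩⟩

end Groth.Agent.S1253
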