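import Groth.Statements.S1223
import Groth.Agent.ZClosLib.PurityBC
import Groth.Agent.ZClosLib.NzdAssoc
-- import your own Groth.Agent.* helpers here

set_option autoImplicit false
universe u
open FlatMor TensorProduct

attribute [local instance] Algebra.TensorProduct.rightAlgebra

set_option linter.style.haveILetI false

namespace Groth.Agent.S1223

open TensorProduct AlgebraicGeometry CategoryTheory Limits in
/-- Tensor products with fields are domains. -/
theorem isDomain_tensor_field {A B : Type u} [CommRing A] [CommRing B] [Algebra A B]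
    (h : FlatCA.GeomIntegralFibres A B) (K : Type u) [Field K] [Algebra A K] : IsDomain (K ⊗[A] B) := by
  haveI : IsIntegral (pullback (Spec.map (CommRingCat.ofHom (algebraMap A B))) (Spec.map (CommRingCat.ofHom (algebraMap A K)))) :=
    h.geometrically_isIntegral _ _ _ (IsPullback.of_hasPullback _ _)
  haveI : Nonempty ↥(Spec (CommRingCat.of (B ⊗[A] K))) :=
    ⟨(pullbackSpecIso A B K).hom.base (Classical.arbitrary _)⟩
  haveI : IsIntegral (Spec (CommRingCat.of (B ⊗[A] K))) :=
    isIntegral_of_isOpenImmersion (pullbackSpecIso A B K).inv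
  haveI : IsDomain (B ⊗[A] K) := (affine_isIntegral_iff _).1 this
  exact (Algebra.TensorProduct.comm A K B).toMulEquiv.isDomain (B ⊗[A] K)

/-- Ring form, X = Spec B affine: a finite type, flat A-algebra B with geometrically integral fibres is
universally pure relative to Spec A. -/
theorem result {A B : Type u} [CommRing A] [CommRing B] [Algebra A B] [Algebra.FiniteType A B] [Module.Flat A B]
    (h : FlatCA.GeomIntegralFibres A B) : FlatCA.IsUnivPure A B B := by
  intro p _ A' B' N' _ _ _ _ _ _ _ _ _ _ _ _ _ _ f t' t _ _ P _ himp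
  obtain ⟨hpush, hf, hle, -, hPt, hass, hno⟩ := himp
  haveI := hpush; haveI := hPt
  haveI : Algebra.IsPushout A A' B B' := hpush.symm
  haveI : IsScalarTower A B B' := inferInstance
  have hdom : ∀ (s : Ideal A') [s.IsPrime], IsDomain (s.Fiber B') := fun s _ => by
    haveI := isDomain_tensor_field h s.ResidueField
    haveI : IsDomain (B ⊗[A] s.ResidueField) :=
      (Algebra.TensorProduct.comm A B s.ResidueField).toMulEquiv.isDomain (s.ResidueField ⊗[A] B)
    exact (((Algebra.TensorProduct.comm A' s.ResidueField B').toRingEquiv.trans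
      (Algebra.IsPushout.cancelBaseChangeAlg A B A' B' s.ResidueField).toRingEquiv)).toMulEquiv.isDomain (B ⊗[A] s.ResidueField)
  -- the point is the generic point of its fibre
  haveI := hdom t'
  let e₀ : N' ≃ₗ[B'] B' := hf.equiv.symm ≪≫ₗ TensorProduct.AlgebraTensorModule.rid B B' B'
  let e : FlatCA.fiberMod t' B' N' ≃ₗ[t'.Fiber B'] t'.Fiber B' :=
    (LinearEquiv.baseChange B' (t'.Fiber B') N' B' e₀) ≪≫ₗ TensorProduct.AlgebraTensorModule.rid B' (t'.Fiber B') (t'.Fiber B')
  rw [LinearEquiv.AssociatedPrimes.eq e] at hass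
  have h0 : FlatCA.fiberIdeal t' P = ⊥ := by
    obtain ⟨hp', x, hx⟩ := hass
    have hx0 : x ≠ 0 := by
      rintro rfl
      exact hp'.ne_top (by rw [hx]; simp)
    rw [hx, show Submodule.colon (⊥ : Submodule (t'.Fiber B') (t'.Fiber B')) {x} = ⊥ from ?_]
    · exact (Ideal.isPrime_bot : (⊥ : Ideal (t'.Fiber B')).IsPrime).isRadical.radical
    · ext r
      simp [Submodule.mem_colon_singleton, hx0]
  -- go down from a point over `t`
  haveI : Module.Flat A' B' := Module.Flat.isBaseChange A A' B B' (Algebra.IsPushout.out)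
  haveI := hdom t
  obtain ⟨Z⟩ : Nonempty (PrimeSpectrum (t.Fiber B')) := inferInstance
  haveI := Z.isPrime
  let Q : Ideal B' := Z.asIdeal.comap (Algebra.TensorProduct.includeRight (R := A') (A := t.ResidueField) (B := B')).toRingHom
  haveI hQt : Q.LiesOver t := Groth.Agent.ZClosLib.PurityBC.liesOver_comap t Z.asIdeal
  obtain ⟨Q', hQ'le, hQ', hQ't⟩ := Ideal.exists_ideal_le_liesOver_of_le (p := t') (q := t) Q hle
  obtain ⟨⟨Q₁, hQ₁⟩, hQ₁c⟩ := Groth.Agent.ZClosLib.NzdUnivInj.exists_prime_fiber t' Q'
  refine hno Q ((le_trans ?_ hQ₁c.le).trans hQ'le) hQt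
  intro b hb
  have h1 := Ideal.mem_map_of_mem (Algebra.TensorProduct.includeRight (R := A') (A := t'.ResidueField) (B := B')).toRingHom hb
  change _ ∈ FlatCA.fiberIdeal t' P at h1
  rw [h0, Ideal.mem_bot] at h1
  rw [Ideal.mem_comap, h1]
  exact zero_mem _

end Groth.Agent.S1223
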