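import Groth.Statements.S1250
import Groth.Agent.RG.ElemFlat

set_option autoImplicit false
universe u
open FlatMor

namespace Groth.Agent.S1250

set_option backward.isDefEq.respectTransparency false in
set_option maxHeartbeats 2000000 in
open TensorProduct in
/-- Given an elementary dévissage E of N at q over p in dimension n, the following are equivalent: N_q
is flat over R; G_z is flat over R'; G_y (G viewed as a D-module) is flat over R'. Also equivalent
to each other: N becomes flat over R on some basic open D(g) ∋ q of Spec S; G becomes flat over R'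
on some basic open of Spec C containing z; G as a D-module becomes flat over R' on some basic open
of Spec D containing y. -/
theorem result {R S : Type u} [CommRing R] [CommRing S] [Algebra R S] [Algebra.FiniteType R S]
    (N : Type u) [AddCommGroup N] [Module S N] [Module R N] [IsScalarTower R S N] [Module.Finite S N]
    (p : Ideal R) [p.IsPrime] (q : Ideal S) [q.IsPrime] [q.LiesOver p] (n : ℕ) (E : FlatCA.ElemDevissage R S N p q n) :
    [FlatCA.FlatAt R q N, FlatCA.FlatAt E.R' E.z E.G, FlatCA.FlatAt E.R' E.y E.G].TFAE ∧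
    [∃ g : S, g ∉ q ∧ Module.Flat R (LocalizedModule (Submonoid.powers g) N),
     ∃ g : E.C, g ∉ E.z ∧ Module.Flat E.R' (LocalizedModule (Submonoid.powers g) E.G),
     ∃ g : E.D, g ∉ E.y ∧ Module.Flat E.R' (LocalizedModule (Submonoid.powers g) E.G)].TFAE := by
  open Groth.Agent.RG in
  haveI := E.etaleR.1
  haveI := E.etaleS.1
  haveI := E.finiteDC
  obtain ⟨hq'q, -⟩ := E.etaleS.2
  let eN : (E.S' ⊗[S] N) ≃ₗ[E.S'] E.G := E.isBaseChange.equiv.trans E.iso
  haveI : IsScalarTower E.R' E.S' (E.S' ⊗[S] N) := inferInstance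
  haveI : IsScalarTower R E.R' (E.S' ⊗[S] N) := IsScalarTower.of_algebraMap_smul fun a x => by
    rw [← algebraMap_smul E.S' (algebraMap R E.R' a) x, ← IsScalarTower.algebraMap_apply, algebraMap_smul]
  haveI : IsScalarTower E.R' E.S' E.G := IsScalarTower.of_algebraMap_smul fun a x => by
    rw [← algebraMap_smul E.C (algebraMap E.R' E.S' a) x, ← IsScalarTower.algebraMap_apply, algebraMap_smul]
  have hz : E.z.comap (algebraMap E.S' E.C) = E.q' := (Ideal.LiesOver.over (P := E.z) (p := E.q')).symm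
  have hzy : E.z.comap (algebraMap E.D E.C) = E.y := (Ideal.LiesOver.over (P := E.z) (p := E.y)).symm
  have hstep : FlatCA.FlatAt R q N ↔ FlatCA.FlatAt E.R' E.z E.G := by
    rw [flatAt_comap_iff E.surjC E.z E.q' hz]
    constructor
    · intro h
      have h1 : FlatCA.FlatAt R E.q' (E.S' ⊗[S] N) :=
        flat_localized_baseChange (W := q.primeCompl) (V := E.q'.primeCompl)
          (fun w hw hw' => hw ((SetLike.ext_iff.1 hq'q.over w).2 hw')) h
      exact flatAt_congr E.q' eN ((Groth.Agent.S1231.result (R := R) (T := E.R') (C := E.S') (E.S' ⊗[S] N) E.q').1.1 h1)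
    · intro h
      exact flatAt_of_baseChange E.q' q hq'q
        ((Groth.Agent.S1231.result (R := R) (T := E.R') (C := E.S') (E.S' ⊗[S] N) E.q').1.2 (flatAt_congr E.q' eN.symm h))
  refine ⟨?_, ?_⟩
  · tfae_have 1 ↔ 2 := hstep
    tfae_have 2 → 3 := fun h => flatAt_of_unique E.z E.y E.uniq h
    tfae_have 3 → 2 := by
      intro h
      rw [FlatCA.FlatAt, FlatModel.flat_localized_iff E.z.primeCompl (LocalizedModule.mkLinearMap E.z.primeCompl E.G)]
      intro J x hx
      obtain ⟨s, hs, hsx⟩ :=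
        (FlatModel.flat_localized_iff E.y.primeCompl (LocalizedModule.mkLinearMap E.y.primeCompl E.G)).1 h J x hx
      exact ⟨algebraMap E.D E.C s, fun hh => hs (hzy ▸ hh : s ∈ E.y), by rw [algebraMap_smul_tensor]; exact hsx⟩
    tfae_finish
  · tfae_have 1 → 2 := by
      rintro ⟨g, hg, hflat⟩
      have h1 : Module.Flat R (LocalizedModule (Submonoid.powers (algebraMap S E.S' g)) (E.S' ⊗[S] N)) :=
        flat_localized_baseChange (W := Submonoid.powers g)
          (fun w hw => by obtain ⟨k, rfl⟩ := hw; exact ⟨k, (map_pow _ _ _).symm⟩) hflat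
      refine ⟨algebraMap E.S' E.C (algebraMap S E.S' g), fun hh => hg ((SetLike.ext_iff.1 hq'q.over g).2 (hz ▸ hh : algebraMap S E.S' g ∈ E.q')), ?_⟩
      refine flat_powers_of_forall _ fun Q _ hQ => ?_
      rw [flatAt_comap_iff E.surjC Q (Q.comap (algebraMap E.S' E.C)) rfl]
      refine flatAt_congr _ eN ?_
      exact (Groth.Agent.S1231.result (R := R) (T := E.R') (C := E.S') (E.S' ⊗[S] N) _).1.1 (flatAt_of_powers h1 _ hQ)
    tfae_have 2 → 3 := by
      rintro ⟨c, hc, hflat⟩
      obtain ⟨e, he, b, hb⟩ := exists_mul_eq_algebraMap E.y E.z E.uniq hc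
      refine ⟨e, he, ?_⟩
      rw [FlatModel.flat_localized_iff (Submonoid.powers e) (LocalizedModule.mkLinearMap (Submonoid.powers e) E.G)]
      intro J x hx
      obtain ⟨_, ⟨k, rfl⟩, hkx⟩ :=
        (FlatModel.flat_localized_iff (Submonoid.powers c) (LocalizedModule.mkLinearMap (Submonoid.powers c) E.G)).1 hflat J x hx
      refine ⟨e ^ k, ⟨k, rfl⟩, ?_⟩
      rw [← algebraMap_smul_tensor (A := E.C), map_pow, hb, mul_pow, mul_smul]
      exact (congrArg _ hkx).trans (smul_zero _)
    tfae_have 3 → 2 := by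
      rintro ⟨e, he, hflat⟩
      refine ⟨algebraMap E.D E.C e, fun hh => he (hzy ▸ hh : e ∈ E.y), ?_⟩
      rw [FlatModel.flat_localized_iff (Submonoid.powers (algebraMap E.D E.C e))
        (LocalizedModule.mkLinearMap (Submonoid.powers (algebraMap E.D E.C e)) E.G)]
      intro J x hx
      obtain ⟨_, ⟨k, rfl⟩, hkx⟩ :=
        (FlatModel.flat_localized_iff (Submonoid.powers e) (LocalizedModule.mkLinearMap (Submonoid.powers e) E.G)).1 hflat J x hx
      exact ⟨algebraMap E.D E.C (e ^ k), ⟨k, (map_pow _ _ _).symm⟩, by rw [algebraMap_smul_tensor]; exact hkx⟩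
    tfae_have 2 → 1 := by
      rintro ⟨c, hc, hflat⟩
      obtain ⟨s, rfl⟩ := E.surjC c
      have hs : s ∉ E.q' := fun h => hc (hz.symm ▸ h : s ∈ E.z.comap (algebraMap E.S' E.C))
      have hsflat : ∀ (Q : Ideal E.S') [Q.IsPrime], s ∉ Q → FlatCA.FlatAt R Q (E.S' ⊗[S] N) := fun Q _ hQ => by
        refine (Groth.Agent.S1231.result (R := R) (T := E.R') (C := E.S') (E.S' ⊗[S] N) Q).1.2 (flatAt_congr Q eN.symm ?_)
        rw [FlatCA.FlatAt, FlatModel.flat_localized_iff Q.primeCompl (LocalizedModule.mkLinearMap Q.primeCompl E.G)]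
        intro J x hx
        obtain ⟨_, ⟨k, rfl⟩, hkx⟩ := (FlatModel.flat_localized_iff (Submonoid.powers (algebraMap E.S' E.C s))
          (LocalizedModule.mkLinearMap (Submonoid.powers (algebraMap E.S' E.C s)) E.G)).1 hflat J x hx
        refine ⟨s ^ k, Q.primeCompl.pow_mem hQ k, ?_⟩
        rw [← algebraMap_smul_tensor (A := E.C), map_pow]
        exact hkx
      have hopen := PrimeSpectrum.isOpenMap_comap_of_hasGoingDown_of_finitePresentation (R := S) (S := E.S') _
        (PrimeSpectrum.isOpen_basicOpen (a := s))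
      have hmem : (⟨q, inferInstance⟩ : PrimeSpectrum S) ∈
          PrimeSpectrum.comap (algebraMap S E.S') '' (PrimeSpectrum.basicOpen s : Set (PrimeSpectrum E.S')) :=
        ⟨⟨E.q', inferInstance⟩, hs, PrimeSpectrum.ext hq'q.over.symm⟩
      obtain ⟨_, ⟨g, rfl⟩, hg, hsub⟩ := PrimeSpectrum.isTopologicalBasis_basic_opens.exists_subset_of_mem_open hmem hopen
      refine ⟨g, hg, flat_powers_of_forall g fun Q _ hQ => ?_⟩
      obtain ⟨⟨Q', hQ'⟩, hsQ', hQ'c⟩ := hsub (show (⟨Q, inferInstance⟩ : PrimeSpectrum S) ∈ _ from hQ)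
      exact flatAt_of_baseChange Q' Q ⟨(congrArg PrimeSpectrum.asIdeal hQ'c).symm⟩ (hsflat Q' hsQ')
    tfae_finish

end Groth.Agent.S1250
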