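import Groth.Statements.S1251
import Groth.Agent.RG.ElemFP

set_option autoImplicit false
universe u
open FlatMor

namespace Groth.Agent.S1251

set_option backward.isDefEq.respectTransparency false in
set_option maxHeartbeats 2000000 in
open TensorProduct in
/-- Given an elementary dévissage E of N at q over p in dimension n, with S of finite presentation over
R: the finite map D → C is of finite presentation; the following are equivalent: N_q is a finitely
presented S_q-module; G_z is a finitely presented C_z-module; G_y is a finitely presented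
D_y-module. Also equivalent to each other: N is finitely presented on some basic open of Spec S
containing q; G is finitely presented on some basic open of Spec C containing z; G as a D-module is
finitely presented on some basic open of Spec D containing y. -/
theorem result {R S : Type u} [CommRing R] [CommRing S] [Algebra R S] [Algebra.FinitePresentation R S]
    (N : Type u) [AddCommGroup N] [Module S N] [Module R N] [IsScalarTower R S N] [Module.Finite S N]
    (p : Ideal R) [p.IsPrime] (q : Ideal S) [q.IsPrime] [q.LiesOver p] (n : ℕ) (E : FlatCA.ElemDevissage R S N p q n) :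
    Algebra.FinitePresentation E.D E.C ∧
    [Module.FinitePresentation (Localization.AtPrime q) (LocalizedModule q.primeCompl N),
     Module.FinitePresentation (Localization.AtPrime E.z) (LocalizedModule E.z.primeCompl E.G),
     Module.FinitePresentation (Localization.AtPrime E.y) (LocalizedModule E.y.primeCompl E.G)].TFAE ∧
    [∃ g : S, g ∉ q ∧ Module.FinitePresentation (Localization.Away g) (LocalizedModule (Submonoid.powers g) N),
     ∃ g : E.C, g ∉ E.z ∧ Module.FinitePresentation (Localization.Away g) (LocalizedModule (Submonoid.powers g) E.G),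
     ∃ g : E.D, g ∉ E.y ∧ Module.FinitePresentation (Localization.Away g) (LocalizedModule (Submonoid.powers g) E.G)].TFAE := by
  open Groth.Agent.RG in
  haveI := E.etaleR.1
  haveI := E.etaleS.1
  haveI := E.finiteDC
  haveI := E.finiteG
  haveI := E.fpC
  haveI hD : Algebra.FinitePresentation E.R' E.D := by
    haveI := E.smooth
    haveI : AlgebraicGeometry.Smooth (AlgebraicGeometry.Spec.map (CommRingCat.ofHom (algebraMap E.R' E.D))) :=
      AlgebraicGeometry.SmoothOfRelativeDimension.smooth n _
    haveI : Algebra.Smooth E.R' E.D := RingHom.smooth_algebraMap.mp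
      ((AlgebraicGeometry.HasRingHomProperty.Spec_iff (P := @AlgebraicGeometry.Smooth) (φ := CommRingCat.ofHom (algebraMap E.R' E.D))).mp inferInstance)
    infer_instance
  haveI hC : Algebra.FinitePresentation E.R' E.C := by
    haveI : Algebra.FinitePresentation R E.S' := Algebra.FinitePresentation.trans R S E.S'
    haveI : Algebra.FinitePresentation E.R' E.S' := Algebra.FinitePresentation.of_restrict_scalars_finitePresentation R E.R' E.S'
    exact Algebra.FinitePresentation.trans E.R' E.S' E.C
  haveI hDC : Algebra.FinitePresentation E.D E.C := Algebra.FinitePresentation.of_restrict_scalars_finitePresentation E.R' E.D E.C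
  haveI : Module.Finite E.S' E.C := Module.Finite.of_surjective (Algebra.linearMap E.S' E.C) E.surjC
  obtain ⟨hq'q, -⟩ := E.etaleS.2
  let eN : (E.S' ⊗[S] N) ≃ₗ[E.S'] E.G := E.isBaseChange.equiv.trans E.iso
  have hz : E.z.comap (algebraMap E.S' E.C) = E.q' := (Ideal.LiesOver.over (P := E.z) (p := E.q')).symm
  have hzy : E.z.comap (algebraMap E.D E.C) = E.y := (Ideal.LiesOver.over (P := E.z) (p := E.y)).symm
  have hqz : FPAt E.q'.primeCompl E.G ↔ FPAt E.z.primeCompl E.G :=
    fpAt_finite_iff E.q'.primeCompl E.z.primeCompl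
      (fun w hw hh => hw (hz ▸ hh : w ∈ E.q'))
      (fun v hv => by
        obtain ⟨t, rfl⟩ := E.surjC v
        exact ⟨t, fun ht => hv (hz.symm ▸ ht : t ∈ E.z.comap (algebraMap E.S' E.C)), dvd_rfl⟩)
  have hyz : FPAt E.y.primeCompl E.G ↔ FPAt E.z.primeCompl E.G :=
    fpAt_finite_iff E.y.primeCompl E.z.primeCompl
      (fun w hw hh => hw (hzy ▸ hh : w ∈ E.y))
      (fun v hv => by
        obtain ⟨e, he, b, hb⟩ := exists_mul_eq_algebraMap E.y E.z E.uniq hv
        exact ⟨e, he, b, hb.trans (mul_comm _ _)⟩)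
  refine ⟨hDC, ?_, ?_⟩
  · rw [fpAt_iff_localizedModule, fpAt_iff_localizedModule, fpAt_iff_localizedModule]
    have hWV : ∀ w ∈ q.primeCompl, IsUnit (algebraMap S (Localization E.q'.primeCompl) w) := fun w hw => by
      rw [IsScalarTower.algebraMap_apply S E.S' (Localization E.q'.primeCompl)]
      exact IsLocalization.map_units _ (⟨algebraMap S E.S' w, fun hh => hw ((SetLike.ext_iff.1 hq'q.over w).2 hh)⟩ : E.q'.primeCompl)
    tfae_have 1 ↔ 2 := by
      rw [← hqz]
      refine ⟨fun h => (h.baseChange hWV).congr eN, fun h => FPAt.descend hWV (fun Q _ hQ => ?_) (h.congr eN.symm)⟩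
      haveI := hq'q
      obtain ⟨Q', hQ'le, hQ', hQ'Q⟩ := Ideal.exists_ideal_le_liesOver_of_le (p := Q) (q := q) E.q'
        (fun a ha => not_not.1 fun hh => Set.disjoint_left.1 hQ hh ha)
      exact ⟨Q', hQ', Set.disjoint_left.2 fun a ha ha' => ha (hQ'le ha'), hQ'Q.over.symm⟩
    tfae_have 2 ↔ 3 := hyz.symm
    tfae_finish
  · simp only [fpAt_iff_localizedModule]
    have hpow : ∀ (s : E.S'), FPAt (Submonoid.powers s) E.G ↔ FPAt (Submonoid.powers (algebraMap E.S' E.C s)) E.G :=
      fun s => fpAt_finite_iff _ _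
        (fun w hw => by obtain ⟨k, rfl⟩ := hw; exact ⟨k, (map_pow _ _ _).symm⟩)
        (fun v hv => by obtain ⟨k, rfl⟩ := hv; exact ⟨s ^ k, ⟨k, rfl⟩, by rw [map_pow]⟩)
    have hpowD : ∀ (e : E.D), FPAt (Submonoid.powers e) E.G ↔ FPAt (Submonoid.powers (algebraMap E.D E.C e)) E.G :=
      fun e => fpAt_finite_iff _ _
        (fun w hw => by obtain ⟨k, rfl⟩ := hw; exact ⟨k, (map_pow _ _ _).symm⟩)
        (fun v hv => by obtain ⟨k, rfl⟩ := hv; exact ⟨e ^ k, ⟨k, rfl⟩, by rw [map_pow]⟩)
    have hunit : ∀ (g : S) (x : E.S'), algebraMap S E.S' g ∣ x → ∀ w ∈ Submonoid.powers g,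
        IsUnit (algebraMap S (Localization (Submonoid.powers x)) w) := by
      rintro g x hd _ ⟨k, rfl⟩
      rw [IsScalarTower.algebraMap_apply S E.S' (Localization (Submonoid.powers x)), map_pow, map_pow]
      exact (isUnit_of_dvd_unit (map_dvd _ hd)
        (IsLocalization.map_units _ (⟨x, Submonoid.mem_powers x⟩ : Submonoid.powers x))).pow k
    tfae_have 1 → 2 := by
      rintro ⟨g, hg, h⟩
      refine ⟨algebraMap E.S' E.C (algebraMap S E.S' g),
        fun hh => hg ((SetLike.ext_iff.1 hq'q.over g).2 (hz ▸ hh : algebraMap S E.S' g ∈ E.q')), ?_⟩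
      exact (hpow _).1 ((h.baseChange (hunit g _ dvd_rfl)).congr eN)
    tfae_have 2 → 3 := by
      rintro ⟨c, hc, h⟩
      obtain ⟨e, he, b, hb⟩ := exists_mul_eq_algebraMap E.y E.z E.uniq hc
      refine ⟨e, he, (hpowD e).2 (h.mono ?_)⟩
      rintro _ ⟨k, rfl⟩
      exact ⟨algebraMap E.D E.C e ^ k, ⟨k, rfl⟩, pow_dvd_pow_of_dvd ⟨b, hb.trans (mul_comm _ _)⟩ k⟩
    tfae_have 3 → 2 := by
      rintro ⟨e, he, h⟩
      exact ⟨algebraMap E.D E.C e, fun hh => he (hzy ▸ hh : e ∈ E.y), (hpowD e).1 h⟩
    tfae_have 2 → 1 := by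
      rintro ⟨c, hc, h⟩
      obtain ⟨s, rfl⟩ := E.surjC c
      have hs : s ∉ E.q' := fun hh => hc (hz.symm ▸ hh : s ∈ E.z.comap (algebraMap E.S' E.C))
      have hopen := PrimeSpectrum.isOpenMap_comap_of_hasGoingDown_of_finitePresentation (R := S) (S := E.S') _
        (PrimeSpectrum.isOpen_basicOpen (a := s))
      have hmem : (⟨q, inferInstance⟩ : PrimeSpectrum S) ∈
          PrimeSpectrum.comap (algebraMap S E.S') '' (PrimeSpectrum.basicOpen s : Set (PrimeSpectrum E.S')) :=
        ⟨⟨E.q', inferInstance⟩, hs, PrimeSpectrum.ext hq'q.over.symm⟩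
      obtain ⟨_, ⟨g, rfl⟩, hg, hsub⟩ := PrimeSpectrum.isTopologicalBasis_basic_opens.exists_subset_of_mem_open hmem hopen
      have h1 : FPAt (Submonoid.powers (algebraMap S E.S' g * s)) (E.S' ⊗[S] N) :=
        (((hpow s).2 h).mono (V := Submonoid.powers (algebraMap S E.S' g * s)) (by
          rintro _ ⟨k, rfl⟩
          exact ⟨(algebraMap S E.S' g * s) ^ k, ⟨k, rfl⟩, pow_dvd_pow_of_dvd (dvd_mul_left _ _) k⟩)).congr eN.symm
      refine ⟨g, hg, FPAt.descend (hunit g _ (dvd_mul_right _ s)) (fun Q _ hQ => ?_) h1⟩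
      have hgQ : g ∉ Q := fun hh => Set.disjoint_left.1 hQ (Submonoid.mem_powers g) hh
      obtain ⟨⟨Q', hQ'⟩, hsQ', hQ'c⟩ := hsub (show (⟨Q, inferInstance⟩ : PrimeSpectrum S) ∈ _ from hgQ)
      have hQc : Q'.comap (algebraMap S E.S') = Q := congrArg PrimeSpectrum.asIdeal hQ'c
      refine ⟨Q', hQ', (Ideal.disjoint_powers_iff_notMem _ hQ'.isRadical).2 fun hh => ?_, hQc⟩
      rcases hQ'.mem_or_mem hh with hh | hh
      · exact hgQ (hQc ▸ hh : g ∈ Q)
      · exact hsQ' hh
    tfae_finish

end Groth.Agent.S1251
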