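import Groth.Statements.S1195
import Groth.Agent.ZClosLib.NzdAssoc
import Groth.Agent.FlatModel.FibreNil

set_option autoImplicit false
set_option linter.style.haveILetI false
universe u
open FlatMor

namespace Groth.Agent.S1195

open TensorProduct Groth.Agent Groth.Agent.ZClosLib

attribute [local instance] Algebra.TensorProduct.rightAlgebra

/-- Kernel elements of the base change map vanish in the flat base change. -/
theorem tmul_one_eq_zero {R S S' : Type u} [CommRing R] [CommRing S] [CommRing S'] [Algebra R S] [Algebra S S']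
    [Algebra R S'] [IsScalarTower R S S'] {N : Type u} [AddCommGroup N] [Module S N] [Module R N] [IsScalarTower R S N]
    {Q : Type u} [AddCommGroup Q] [Module R Q] {z : Q ⊗[R] N}
    (hz : ((TensorProduct.mk S S' N 1).restrictScalars R).lTensor Q z = 0) :
    (1 : S') ⊗ₜ[S] TensorProduct.comm R Q N z = 0 := by
  have key : ∀ w : Q ⊗[R] N, (AlgebraTensorModule.assoc R S S S' N Q)
      (TensorProduct.comm R Q (S' ⊗[S] N) (((TensorProduct.mk S S' N 1).restrictScalars R).lTensor Q w)) =
      (1 : S') ⊗ₜ[S] TensorProduct.comm R Q N w := by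
    intro w
    induction w using TensorProduct.induction_on with
    | zero => rw [map_zero, map_zero, map_zero, map_zero, tmul_zero]
    | tmul q n => rfl
    | add a b ha hb => rw [map_add, map_add, map_add, map_add, tmul_add, ha, hb]
  rw [← key, hz, map_zero, map_zero]

/-- Elements outside the relative assassin at `q` act injectively on `N ⊗ Q` near `q`. -/
theorem local_injective {R S Rp Sq Nq : Type u} [CommRing R] [CommRing S] [CommRing Rp] [CommRing Sq]
    [Algebra R S] [Algebra R Rp] [Algebra S Sq] [Algebra R Sq] [IsScalarTower R S Sq]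
    [Algebra Rp Sq] [IsScalarTower R Rp Sq] (p : Ideal R) [p.IsPrime] (q : Ideal S) [q.IsPrime] [q.LiesOver p]
    [IsLocalization p.primeCompl Rp] [IsLocalization q.primeCompl Sq] [IsLocalRing Rp] [IsLocalRing Sq]
    [IsLocalHom (algebraMap Rp Sq)] (hS : CAlgX.IsEssFinitePresentation Rp Sq)
    (hmax : (IsLocalRing.maximalIdeal Rp).map (algebraMap Rp Sq) = p.map (algebraMap R Sq))
    [IsNoetherianRing (p.Fiber S)]
    {N : Type u} [AddCommGroup N] [Module S N] [Module R N] [IsScalarTower R S N]
    [AddCommGroup Nq] [Module S Nq] [Module Sq Nq] [IsScalarTower S Sq Nq] [Module R Nq] [IsScalarTower R S Nq]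
    [Module Rp Nq] [IsScalarTower Rp Sq Nq] [IsScalarTower R Rp Nq] [IsScalarTower R Sq Nq]
    [Module.FinitePresentation Sq Nq] [Module.Flat Rp Nq]
    (f : N →ₗ[S] Nq) [IsLocalizedModule q.primeCompl f] {s : S}
    (hs : ∀ r ∈ associatedPrimes (p.Fiber S) (FlatCA.fiberMod p S N),
      r ≤ FlatCA.fiberIdeal p q → algebraMap S (p.Fiber S) s ∉ r)
    (Q : Type u) [AddCommGroup Q] [Module R Q] (w : N ⊗[R] Q) (hw : s • w = 0) :
    ∃ c ∉ q, c • w = 0 := by
  have hlift : ∀ y ∈ p • (⊤ : Submodule R Nq), ∃ c ∉ q, ∃ n₀ ∈ p • (⊤ : Submodule R N), c • y = f n₀ := by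
    intro y hy
    refine Submodule.smul_induction_on hy (fun a ha m _ => ?_) (fun a b ha hb => ?_)
    · obtain ⟨⟨n, u⟩, hu⟩ := IsLocalizedModule.surj q.primeCompl f m
      refine ⟨u, u.2, a • n, Submodule.smul_mem_smul ha Submodule.mem_top, ?_⟩
      rw [f.map_smul_of_tower, ← hu, Submonoid.smul_def, smul_comm]
    · obtain ⟨c, hc, n, hn, hcn⟩ := ha
      obtain ⟨c', hc', n', hn', hcn'⟩ := hb
      have hmem : ∀ (d : S) (k : N), k ∈ p • (⊤ : Submodule R N) → d • k ∈ p • (⊤ : Submodule R N) := fun d k hk =>
        AssFiber.mem_smul_top_of_mem_pN p N (Submodule.smul_mem _ d (AssFiber.smul_mem_pN (S := S) p N hk))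
      refine ⟨c * c', fun h => (‹q.IsPrime›.mem_or_mem h).elim hc hc', c' • n + c • n',
        add_mem (hmem c' n hn) (hmem c n' hn'), ?_⟩
      rw [map_add, map_smul, map_smul, ← hcn, ← hcn', smul_add, ← mul_smul, ← mul_smul, mul_comm c' c]
  have hmeq : (IsLocalRing.maximalIdeal Rp).map (algebraMap Rp Sq) • (⊤ : Submodule Sq Nq) =
      (p.map (algebraMap R Sq)) • (⊤ : Submodule Sq Nq) := by rw [hmax]
  have hreg : IsSMulRegular (Nq ⧸ (IsLocalRing.maximalIdeal Rp).map (algebraMap Rp Sq) • (⊤ : Submodule Sq Nq))
      (algebraMap S Sq s) := by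
    rw [hmeq, isSMulRegular_iff_right_eq_zero_of_smul]
    intro y hy
    obtain ⟨y, rfl⟩ := Submodule.Quotient.mk_surjective _ y
    rw [← Submodule.Quotient.mk_smul, Submodule.Quotient.mk_eq_zero, algebraMap_smul] at hy
    rw [Submodule.Quotient.mk_eq_zero]
    obtain ⟨⟨n, u⟩, hu⟩ := IsLocalizedModule.surj q.primeCompl f y
    obtain ⟨c, hc, n₀, hn₀, hcn⟩ := hlift _ (AssFiber.mem_smul_top_of_mem_pN p Nq hy)
    have h1 : f ((c * s) • n) = f ((u : S) • n₀) := by
      rw [map_smul, map_smul, ← hu, ← hcn, Submonoid.smul_def, smul_smul, smul_smul, smul_smul]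
      congr 1; ring
    obtain ⟨d, hd⟩ := (IsLocalizedModule.eq_iff_exists q.primeCompl f).1 h1
    have h2 : FlatCA.toFiberMod p (S := S) N (s • (((d : S) * c) • n)) = 0 := by
      refine AssFiber.toFiberMod_eq_zero_of_mem p N ?_
      have h3 : s • ((d : S) * c) • n = (d : S) • (u : S) • n₀ := by
        rw [show s • ((d : S) * c) • n = (d : S) • ((c * s) • n) from by rw [smul_smul, smul_smul]; congr 1; ring]
        exact hd
      rw [h3]
      exact Submodule.smul_mem _ _ (Submodule.smul_mem _ _ (AssFiber.smul_mem_pN p N hn₀))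
    obtain ⟨g, hg, hgn⟩ := NzdUnivInj.exists_notMem_smul_eq_zero p N q hs h2
    obtain ⟨r, hr, hmem⟩ := (PurityBC.toFiberMod_eq_zero_iff p N _).1 hgn
    have hfp : f (r • g • ((d : S) * c) • n) ∈ p • (⊤ : Submodule R Nq) := by
      refine Submodule.smul_induction_on hmem (fun a ha m _ => ?_) (fun a b ha hb => ?_)
      · rw [f.map_smul_of_tower]; exact Submodule.smul_mem_smul ha Submodule.mem_top
      · rw [map_add]; exact add_mem ha hb
    let e : S := algebraMap R S r * g * ((d : S) * c) * u
    have he : e ∉ q := by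
      refine fun h => ?_
      simp only [e, Ideal.IsPrime.mul_mem_iff_mem_or_mem] at h
      rcases h with ((h | h) | h | h) | h
      · exact hr (by rw [‹q.LiesOver p›.over]; exact h)
      · exact hg h
      · exact d.2 h
      · exact hc h
      · exact u.2 h
    have hey : f (r • g • ((d : S) * c) • n) = algebraMap S Sq e • y := by
      rw [← algebraMap_smul S r, smul_smul, smul_smul, map_smul, ← hu, Submonoid.smul_def, smul_smul, algebraMap_smul]
    have h4 := AssFiber.smul_mem_pN (S := Sq) p Nq hfp
    rw [hey] at h4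
    have hu' : IsUnit (algebraMap S Sq e) := IsLocalization.map_units Sq (⟨e, he⟩ : q.primeCompl)
    exact (Submodule.smul_mem_iff_of_isUnit _ hu').1 h4
  let e := AlgebraTensorModule.cancelBaseChange R Rp Sq Nq Q
  let F := AlgebraTensorModule.rTensor R Q f
  haveI : IsLocalizedModule q.primeCompl F := IsLocalizedModule.rTensor _ _ f
  have h5 : algebraMap S Sq s • F w = 0 := by
    rw [algebraMap_smul, ← map_smul, hw, map_zero]
  have h6 : e.symm (F w) = 0 := by
    refine NzdUnivInj.smul_injective hS (algebraMap S Sq s) hreg (Rp ⊗[R] Q) ?_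
    show algebraMap S Sq s • e.symm (F w) = algebraMap S Sq s • (0 : Nq ⊗[Rp] (Rp ⊗[R] Q))
    rw [← map_smul, h5, map_zero, smul_zero]
  obtain ⟨c, hc⟩ := (IsLocalizedModule.eq_zero_iff q.primeCompl F).1 (e.symm.map_eq_zero_iff.1 h6)
  exact ⟨c, c.2, hc⟩

/-- `local_injective` at the standard localisations. -/
theorem key {R S : Type u} [CommRing R] [CommRing S] [Algebra R S] [Algebra.FinitePresentation R S]
    {N : Type u} [AddCommGroup N] [Module S N] [Module R N] [IsScalarTower R S N] [Module.FinitePresentation S N]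
    [Module.Flat R N] (p : Ideal R) [p.IsPrime] (q : Ideal S) [q.IsPrime] [hq : q.LiesOver p] {s : S}
    (hs : ∀ r ∈ associatedPrimes (p.Fiber S) (FlatCA.fiberMod p S N),
      r ≤ FlatCA.fiberIdeal p q → algebraMap S (p.Fiber S) s ∉ r)
    {Q : Type u} [AddCommGroup Q] [Module R Q] (w : N ⊗[R] Q) (hw : s • w = 0) : ∃ c ∉ q, c • w = 0 := by
  haveI : IsNoetherianRing (p.Fiber S) := Algebra.FiniteType.isNoetherianRing p.ResidueField _
  let φ := Localization.localRingHom p q (algebraMap R S) hq.over
  letI : Algebra (Localization.AtPrime p) (Localization.AtPrime q) := φ.toAlgebra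
  haveI : IsScalarTower R (Localization.AtPrime p) (Localization.AtPrime q) :=
    IsScalarTower.of_algebraMap_eq fun x => by
      rw [IsScalarTower.algebraMap_apply R S (Localization.AtPrime q)]
      exact (Localization.localRingHom_to_map p q _ hq.over x).symm
  haveI : IsLocalHom (algebraMap (Localization.AtPrime p) (Localization.AtPrime q)) :=
    Localization.isLocalHom_localRingHom p q _ hq.over
  letI : Module (Localization.AtPrime p) (LocalizedModule q.primeCompl N) :=
    Module.compHom _ (algebraMap (Localization.AtPrime p) (Localization.AtPrime q))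
  haveI : IsScalarTower (Localization.AtPrime p) (Localization.AtPrime q) (LocalizedModule q.primeCompl N) :=
    IsScalarTower.of_algebraMap_smul fun _ _ => rfl
  haveI : IsScalarTower R (Localization.AtPrime q) (LocalizedModule q.primeCompl N) :=
    IsScalarTower.to₁₃₄ R S (Localization.AtPrime q) _
  haveI : IsScalarTower R (Localization.AtPrime p) (LocalizedModule q.primeCompl N) :=
    IsScalarTower.to₁₂₄ R (Localization.AtPrime p) (Localization.AtPrime q) _
  haveI : Module.FinitePresentation (Localization.AtPrime q) (LocalizedModule q.primeCompl N) :=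
    inferInstanceAs (Module.FinitePresentation (Localization q.primeCompl) (LocalizedModule q.primeCompl N))
  haveI : Module.Flat R (LocalizedModule q.primeCompl N) := by
    refine (FlatModel.flat_localized_iff q.primeCompl (LocalizedModule.mkLinearMap q.primeCompl N)).2 fun J y hy => ⟨1, one_mem _, ?_⟩
    rw [Module.Flat.iff_lTensor_injective'.1 ‹_› J (hy.trans (map_zero _).symm), smul_zero]
  haveI : Module.Flat (Localization.AtPrime p) (LocalizedModule q.primeCompl N) :=
    (Module.flat_iff_of_isLocalization (Localization.AtPrime p) p.primeCompl (LocalizedModule q.primeCompl N)).2 inferInstance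
  refine local_injective (Rp := Localization.AtPrime p) (Sq := Localization.AtPrime q) p q
    (FlatModel.isEssFinitePresentation_localization (R := R) q p (Localization.AtPrime p) (Localization.AtPrime q)) ?_ (LocalizedModule.mkLinearMap q.primeCompl N) hs Q w hw
  rw [← Localization.AtPrime.map_eq_maximalIdeal, Ideal.map_map, ← IsScalarTower.algebraMap_eq]

open TensorProduct in
/-- Let S be a finitely presented R-algebra, N a finitely presented S-module flat over R, and S' a flat
S-algebra such that every prime q of S (over p in R) whose extension to the fibre ring over p is an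
associated prime of the fibre module of N is the contraction of a prime of S'. Then the base change
map N → S' ⊗_S N is universally injective as a map of R-modules. -/
theorem result {R S S' : Type u} [CommRing R] [CommRing S] [CommRing S'] [Algebra R S] [Algebra S S'] [Algebra R S'] [IsScalarTower R S S']
    [Algebra.FinitePresentation R S] [Module.Flat S S']
    (N : Type u) [AddCommGroup N] [Module S N] [Module R N] [IsScalarTower R S N] [Module.FinitePresentation S N] [Module.Flat R N]
    (h : ∀ (p : Ideal R) (q : Ideal S) [p.IsPrime] [q.IsPrime] [q.LiesOver p],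
      FlatCA.fiberIdeal p q ∈ associatedPrimes (p.Fiber S) (FlatCA.fiberMod p S N) →
      ∃ q' : Ideal S', q'.IsPrime ∧ q'.comap (algebraMap S S') = q) :
    FlatCA.UnivInj R ((TensorProduct.mk S S' N 1).restrictScalars R) := by
  intro Q _ _
  rw [injective_iff_map_eq_zero]
  intro z hz
  by_contra hz0
  let w := TensorProduct.comm R Q N z
  have htop := NzdUnivInj.map_annihilator_eq_top (tmul_one_eq_zero hz)
  have hJ : WeakAss.annEl S w ≠ ⊤ := fun h0 => hz0 <| (TensorProduct.comm R Q N).injective <| by
    rw [map_zero]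
    have h1 := WeakAss.mem_annEl.1 ((Ideal.eq_top_iff_one _).1 h0)
    rwa [one_smul] at h1
  obtain ⟨q, hq, hJq⟩ := Ideal.exists_le_maximal _ hJ
  haveI := hq.isPrime
  let p : Ideal R := q.under R
  haveI : q.LiesOver p := ⟨rfl⟩
  haveI : IsNoetherianRing (p.Fiber S) := Algebra.FiniteType.isNoetherianRing p.ResidueField _
  obtain ⟨s, hsJ, hs⟩ := NzdUnivInj.exists_avoid p N (fun r => r ≤ FlatCA.fiberIdeal p q) (WeakAss.annEl S w)
    fun r hr _ hle => by
      obtain ⟨hrp, hrl, hre, -⟩ := NzdUnivInj.comap_spec p N hr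
      obtain ⟨q', hq', hqq'⟩ := h p _ (by rw [hre]; exact hr)
      refine hq'.ne_top (top_le_iff.1 ?_)
      rw [← htop, Ideal.map_le_iff_le_comap, hqq']
      exact hle
  obtain ⟨c, hc, hcw⟩ := key p q hs w (WeakAss.mem_annEl.1 hsJ)
  exact hc (hJq (WeakAss.mem_annEl.2 hcw))

end Groth.Agent.S1195
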