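import Groth.Statements.S6385
import Mathlib
import Groth.Agent.VarDim.Basic

set_option autoImplicit false
universe u
open CAlg

namespace Groth.Agent.S6385

/-- Let k be a field, S a finite type k-algebra, q a prime of S and x the corresponding point of X =
Spec S. Then there is g ∈ S, g ∉ q, such that dim S_g equals dim_x X — the minimum of dim S_{g'}
over all g' ∉ q — and, writing d for this dimension, a finite injective k-algebra map from the
polynomial ring k[y_1, ..., y_d] to S_g. -/
theorem result (k S : Type u) [Field k] [CommRing S] [Algebra k S]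
    [Algebra.FiniteType k S] (q : Ideal S) [q.IsPrime] :
    ∃ (g : S) (d : ℕ), g ∉ q ∧ ringKrullDim (Localization.Away g) = d ∧
      (∀ g' : S, g' ∉ q → ringKrullDim (Localization.Away g) ≤ ringKrullDim (Localization.Away g')) ∧
      ∃ φ : MvPolynomial (Fin d) k →ₐ[k] Localization.Away g, Function.Injective φ ∧ φ.toRingHom.Finite := by
  obtain ⟨_, ⟨g, hg, rfl⟩, hmin⟩ := (wellFounded_lt : WellFounded ((· < ·) : WithBot ℕ∞ → WithBot ℕ∞ → Prop)).has_min
    {x | ∃ g : S, g ∉ q ∧ x = ringKrullDim (Localization.Away g)}
    ⟨_, 1, fun h => (inferInstance : q.IsPrime).ne_top (q.eq_top_iff_one.2 h), rfl⟩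
  haveI : Algebra.FiniteType k (Localization.Away g) :=
    Algebra.FiniteType.trans (R := k) (S := S) inferInstance inferInstance
  haveI : Nontrivial (Localization.Away g) := not_subsingleton_iff_nontrivial.1 (fun h => by
    obtain ⟨n, hn⟩ := (IsLocalization.subsingleton_iff (S := Localization.Away g) (M := Submonoid.powers g)).1 h
    exact hg ((inferInstance : q.IsPrime).mem_of_pow_mem n ((show g ^ n = 0 from hn).symm ▸ q.zero_mem)))
  obtain ⟨d, φ, hinj, hfin⟩ := exists_finite_inj_algHom_of_fg k (Localization.Away g)
  letI : Algebra (MvPolynomial (Fin d) k) (Localization.Away g) := φ.toRingHom.toAlgebra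
  haveI : Module.Finite (MvPolynomial (Fin d) k) (Localization.Away g) := hfin
  haveI : Algebra.IsIntegral (MvPolynomial (Fin d) k) (Localization.Away g) := Algebra.IsIntegral.of_finite _ _
  haveI : FaithfulSMul (MvPolynomial (Fin d) k) (Localization.Away g) := (faithfulSMul_iff_algebraMap_injective _ _).2 hinj
  refine ⟨g, d, hg, ?_, fun g' hg' => not_lt.1 (hmin _ ⟨g', hg', rfl⟩), φ, hinj, hfin⟩
  rw [VarDim.ringKrullDim_eq_of_isIntegral (R := MvPolynomial (Fin d) k),
    MvPolynomial.ringKrullDim_of_isNoetherianRing, ringKrullDim_eq_zero_of_field, zero_add, Nat.card_fin]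

end Groth.Agent.S6385
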