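import Groth.Statements.S1203
import Groth.Agent.ZClosLib.AdicML
import Groth.Agent.S1200
import Groth.Agent.CAlgUI.Countable
-- import your own Groth.Agent.* helpers here

set_option autoImplicit false
universe u
open FlatMor

namespace Groth.Agent.S1203

/-- Let R be a Noetherian ring complete with respect to an ideal I, S a finite type R-algebra and N a
finite S-module which is flat over R, such that N/IN is a projective R/I-module and such that for
every prime q of S, over p in R, whose extension to the fibre ring over p is an associated prime of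
the fibre module of N, the ideal IS + q is proper. Then N is a projective R-module. -/
theorem result {R S : Type u} [CommRing R] [CommRing S] [Algebra R S] [IsNoetherianRing R] (I : Ideal R) [IsAdicComplete I R]
    [Algebra.FiniteType R S]
    (N : Type u) [AddCommGroup N] [Module S N] [Module R N] [IsScalarTower R S N] [Module.Finite S N] [Module.Flat R N]
    [Module.Projective (R ⧸ I) (N ⧸ (I • ⊤ : Submodule R N))]
    (h : ∀ (p : Ideal R) (q : Ideal S) [p.IsPrime] [q.IsPrime] [q.LiesOver p],
      FlatCA.fiberIdeal p q ∈ associatedPrimes (p.Fiber S) (FlatCA.fiberMod p S N) → I.map (algebraMap R S) ⊔ q ≠ ⊤) :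
    Module.Projective R N := by
  haveI : IsNoetherianRing S := Algebra.FiniteType.isNoetherianRing R S
  obtain ⟨-, hML⟩ := Groth.Agent.ZClosLib.AdicML.flat_and_ml (M := N) I
  have hui : CAlgX.UniversallyInjective R (AdicCompletion.of I N) :=
    (Groth.Agent.ZClosLib.AdicUI.univInj_iff _).1 (Groth.Agent.S1200.result I N h)
  refine Groth.Agent.CAlgUI.projective_of_flat_ml_countablyGenerated (Groth.Agent.CAlgUI.ml_of_ui _ hui hML) ?_
  obtain ⟨n, f, hf⟩ := Algebra.FiniteType.iff_quotient_mvPolynomial''.1 (inferInstance : Algebra.FiniteType R S)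
  obtain ⟨m, x, hx⟩ := Module.Finite.exists_fin (R := S) (M := N)
  refine ⟨Set.range fun z : (Fin n →₀ ℕ) × Fin m => f (MvPolynomial.monomial z.1 1) • x z.2, Set.countable_range _,
    eq_top_iff.2 fun y hy => ?_⟩
  clear hy
  obtain ⟨c, rfl⟩ := (Submodule.mem_span_range_iff_exists_fun S).1 (hx ▸ Submodule.mem_top : y ∈ _)
  refine Submodule.sum_mem _ fun j _ => ?_
  obtain ⟨P, hP⟩ := hf (c j)
  rw [← hP, P.as_sum, map_sum, Finset.sum_smul]
  refine Submodule.sum_mem _ fun v _ => ?_
  rw [show MvPolynomial.monomial v (P.coeff v) = P.coeff v • MvPolynomial.monomial v (1 : R) by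
    rw [MvPolynomial.smul_monomial, smul_eq_mul, mul_one], map_smul, smul_assoc]
  exact Submodule.smul_mem _ _ (Submodule.subset_span ⟨(v, j), rfl⟩)

end Groth.Agent.S1203
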