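import Groth.Statements.S4535
import Groth.Agent.EGA41Lib.Adic

set_option autoImplicit false
universe u
open EGA41

namespace Groth.Agent.S4535

open TensorProduct in
/-- Let B (𝔟-adic) be formally smooth over A (𝔞-adic) and let A' (𝔞'-adic) be a topological A-algebra (a
power of 𝔞 maps into 𝔞'). Then the A'-algebra A' ⊗_A B, with the tensor product topology, i.e. the
adic topology of the ideal generated by the images of 𝔞' and 𝔟, is formally smooth over A'. -/
theorem result {A B A' : Type u} [CommRing A] [CommRing B] [CommRing A'] [Algebra A B] [Algebra A A']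
    (𝔞 : Ideal A) (𝔟 : Ideal B) (𝔞' : Ideal A') (hAA' : ∃ k : ℕ, (𝔞 ^ k).map (algebraMap A A') ≤ 𝔞')
    (hB : EGA41.IsFormallySmoothAdic A 𝔞 B 𝔟) :
    EGA41.IsFormallySmoothAdic A' 𝔞' (A' ⊗[A] B)
      (𝔞'.map (algebraMap A' (A' ⊗[A] B)) ⊔
        𝔟.map (Algebra.TensorProduct.includeRight : B →ₐ[A] A' ⊗[A] B).toRingHom) := by
  intro E _ _ J hJ hA u hu
  letI : Algebra A E := ((algebraMap A' E).comp (algebraMap A A')).toAlgebra
  haveI : IsScalarTower A A' E := IsScalarTower.of_algebraMap_eq fun _ => rfl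
  obtain ⟨k, hk⟩ := hAA'
  obtain ⟨l, hl⟩ := hA
  obtain ⟨m, hm⟩ := hu
  rw [Ideal.map_eq_bot_iff_le_ker] at hl
  have hAE : ∃ j : ℕ, (𝔞 ^ j).map (algebraMap A E) = ⊥ := by
    refine ⟨k * l, ?_⟩
    rw [Ideal.map_eq_bot_iff_le_ker]
    intro x hx
    rw [pow_mul] at hx
    exact hl (EGA41Lib.mem_pow_of_forall_mem (algebraMap A A')
      (fun y hy => hk (Ideal.mem_map_of_mem _ hy)) l x hx)
  let uB : B →ₐ[A] E ⧸ J := (u.restrictScalars A).comp Algebra.TensorProduct.includeRight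
  have huB : ∃ j : ℕ, ∀ x ∈ 𝔟 ^ j, uB x = 0 := by
    refine ⟨m, fun x hx => hm _ ?_⟩
    refine EGA41Lib.mem_pow_of_forall_mem
      (Algebra.TensorProduct.includeRight : B →ₐ[A] A' ⊗[A] B) (fun y hy => ?_) m x hx
    exact Ideal.mem_sup_right (Ideal.mem_map_of_mem
      (Algebra.TensorProduct.includeRight : B →ₐ[A] A' ⊗[A] B).toRingHom hy)
  obtain ⟨vB, hvB⟩ := hB E J hJ hAE uB huB
  refine ⟨Algebra.TensorProduct.lift (Algebra.ofId A' E) vB (fun _ _ => Commute.all _ _), ?_⟩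
  apply Algebra.TensorProduct.ext
  · exact Subsingleton.elim _ _
  · ext b
    simpa [uB] using AlgHom.congr_fun hvB b

end Groth.Agent.S4535
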