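import Groth.Statements.S5421
import Groth.Agent.TorusQI.Character
-- import your own Groth.Agent.* helpers here

set_option autoImplicit false
universe u
open CategoryTheory MonoidalCategory CartesianMonoidalCategory MonObj GrpObj AlgebraicGeometry CategoryTheory.Limits
open Red

namespace Groth.Agent.S5421

/-- Let T be an S-torus and α : T → G_{m,S} a character. The following are equivalent: (i) for every
point s of S the character induced on the geometric fibre at s is not the trivial character; (ii)
for every morphism S' → S with S' non-empty the base change of α is not the trivial character; (iii)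
α is faithfully flat (flat and surjective). -/
theorem result (S : Scheme.{u}) (T : Over S) [GrpObj T] (hT : Red.IsTorus T) (α : T ⟶ Red.Gm S) [IsMonHom α] :
    ((∀ s : S, (Over.pullback (Red.geomPt s)).map α ≠ 1) ↔
      (∀ (S' : Scheme.{u}) (g : S' ⟶ S), Nonempty ↥S' → (Over.pullback g).map α ≠ 1)) ∧
    ((∀ s : S, (Over.pullback (Red.geomPt s)).map α ≠ 1) ↔ (Flat α.left ∧ Surjective α.left)) := by
  haveI : AddGroup.FG ℤ := Module.Finite.iff_addGroup_fg.1 inferInstance
  have hT' := TorusQI.isMultTypeFT_of_isTorus hT
  have hG : SGA3x.IsMultTypeFT (Red.Gm S) := TorusQI.isMultTypeFT_DS ℤ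
  haveI : LocallyOfFinitePresentation (α.left ≫ (Red.Gm S).hom) := by
    rw [Over.w]; exact GrpSchLib.MultTypeLfp.lfp hT'
  haveI := GrpSchLib.MultTypeLfp.lfp hG
  haveI := S12442.locallyOfFinitePresentation_of_comp α.left (Red.Gm S).hom
  -- faithful flatness passes to every base change
  have hbc : Flat α.left ∧ Surjective α.left → ∀ (S' : Scheme.{u}) (g : S' ⟶ S), Nonempty ↥S' →
      (Over.pullback g).map α ≠ 1 := fun ⟨h1, h2⟩ S' g hne =>
    haveI := hne
    TorusQI.ne_one_of_ff α g ⟨MorphismProperty.of_isPullback (P := @Flat)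
      (GrpSchLib.HomSplitLocal.isPullback_map α g) h1,
      MorphismProperty.of_isPullback (P := @Surjective) (GrpSchLib.HomSplitLocal.isPullback_map α g) h2⟩
  have hff : (∀ s : S, (Over.pullback (Red.geomPt s)).map α ≠ 1) → Flat α.left ∧ Surjective α.left := fun h => by
    obtain ⟨U, -, hU, hUι⟩ := GrpSchLib.HomSplitLocus.ff_locus (u := α)
      (MultTypeLib.GenMultType.of_multTypeFT hT') hG
    have htop : U = ⊤ := TopologicalSpace.Opens.ext (Set.eq_univ_of_forall fun s => (hU s).2 (by
      have h2 := GrpSchLib.HomSplitLocus.residue_of_field (fun g => GrpSchLib.HomSplitLocal.Ff α g)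
        (fun l _ _ _ h => GrpSchLib.HomSplitLocal.Ff.of_flat_surjective l h) _
        (TorusQI.ff_geom hT α (Red.geomPt s) (h s))
      rwa [TorusQI.geomPt_closedPoint] at h2))
    subst htop
    have h1 : GrpSchLib.HomSplitLocal.Ff α (𝟙 S) := by simpa using hUι.comp S.topIso.inv
    haveI hq : Flat ((Over.pullback (𝟙 S)).map α).left := h1.1
    haveI hs : Surjective ((Over.pullback (𝟙 S)).map α).left := h1.2
    have e : α.left = CategoryTheory.inv (Limits.pullback.fst T.hom (𝟙 S)) ≫ ((Over.pullback (𝟙 S)).map α).left ≫
        Limits.pullback.fst (Red.Gm S).hom (𝟙 S) := by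
      rw [IsIso.eq_inv_comp]
      exact (Limits.pullback.lift_fst _ _ _).symm
    constructor <;> rw [e] <;> infer_instance
  exact ⟨⟨fun h => hbc (hff h), fun h s => h _ _ (inferInstanceAs (Nonempty (PrimeSpectrum _)))⟩,
    hff, fun h s => hbc h _ _ (inferInstanceAs (Nonempty (PrimeSpectrum _)))⟩

end Groth.Agent.S5421
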