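import Groth.Statements.S1628
import Groth.Agent.SmoothReg.Scheme
import Groth.Agent.RegLoc6.Basic

set_option autoImplicit false
universe u
open CategoryTheory CategoryTheory.Limits AlgebraicGeometry
open Variety

namespace Groth.Agent.S1628

/-- If X is smooth over a field k then X is geometrically reduced over k and geometrically regular at
every point. -/
theorem result (k : Type u) [Field k] (X : Scheme.{u}) [X.Over (Spec (CommRingCat.of k))] [Smooth (X ↘ (Spec (CommRingCat.of k)))] :
    GeometricallyReduced (X ↘ (Spec (CommRingCat.of k))) ∧ ∀ x : X, Curv2.IsGeomRegularAt k X x := by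
  have key : ∀ (K : Type u) [Field K] {Z : Scheme.{u}} (g : Z ⟶ Spec (CommRingCat.of K)) [Smooth g]
      (z : Z), IsRegularLocalRing (Z.presheaf.stalk z) := by
    intro K _ Z g _ z
    exact Groth.Agent.SmoothReg.isRegularLocalRing_stalk_of_mem_smoothLocus g
      (by rw [g.smoothLocus_eq_top]; trivial)
  constructor
  · refine ⟨fun K _ y Z fst snd h => ?_⟩
    haveI : Smooth snd := MorphismProperty.of_isPullback h inferInstance
    haveI : ∀ z : Z, _root_.IsReduced (Z.presheaf.stalk z) := fun z => by
      haveI := key K snd z
      haveI := Groth.Agent.RegLoc6.isDomain_of_isRegularLocalRing (Z.presheaf.stalk z)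
      infer_instance
    exact isReduced_of_isReduced_stalk Z
  · intro x k' _ _ _ x' _
    haveI : Smooth (pullback.snd (X ↘ Spec (CommRingCat.of k))
      (Spec.map (CommRingCat.ofHom (algebraMap k k')))) := inferInstance
    exact key k' (pullback.snd (X ↘ Spec (CommRingCat.of k))
      (Spec.map (CommRingCat.ofHom (algebraMap k k')))) x'

end Groth.Agent.S1628
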