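import Groth.Statements.S7298
import Groth.Agent.RelPC17.BirFibre
import Groth.Agent.RelPC17.DimOne

set_option autoImplicit false
set_option backward.isDefEq.respectTransparency false
set_option backward.isDefEq.respectTransparency.types false
universe u
open CategoryTheory CategoryTheory.Limits AlgebraicGeometry
open Resolve

namespace Groth.Agent.S7298

/-- Let A be a local normal Nagata domain of dimension two defining a rational singularity, and f : X →
Spec A a proper morphism from an integral normal scheme which is an isomorphism over some nonempty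
open of Spec A. Then H^1(X, F) = 0 for every quasi-coherent O_X-module F which is globally generated
(a quotient of a free O_X-module). -/
theorem result (A : Type u) [CommRing A] [IsDomain A] [IsLocalRing A] [IsNoetherianRing A]
    [IsIntegrallyClosed A] (hN : CAlg.IsNagata A) (hdim : ringKrullDim A = 2) (hA : Curv2.IsRationalSing A)
    (X : Scheme.{u}) (f : X ⟶ Spec (CommRingCat.of A)) [IsProper f] [IsIntegral X] (hXn : Pi1.IsNormalScheme X)
    (hbir : ∃ U : (Spec (CommRingCat.of A)).Opens, (U : Set (Spec (CommRingCat.of A))).Nonempty ∧ IsIso (f ∣_ U))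
    (F : X.Modules) (hF : Coh.IsQCoh F) (hgg : Curv2.IsGloballyGenerated F) : Subsingleton (Coh.HH X F 1) := by
  have hO := hA X f ‹_› ‹_› hXn hbir
  obtain ⟨U, hU, hiso⟩ := hbir
  haveI := hiso
  obtain ⟨ι, e, he⟩ := hgg
  haveI : Epi e := he
  exact Groth.Agent.RelPC17.DimOne.subsingleton_HH_one_of_epi f
    (Groth.Agent.RelPC17.BirFibre.fibre_dim_le_one f
      (Groth.Agent.RelPC17.BirFibre.dim_spec_le A 2 (by rw [hdim]; norm_cast)) U hU) hO hF e

end Groth.Agent.S7298
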