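import Groth.Statements.S7299
import Mathlib
import Groth.Agent.RatSing.Rational
import Groth.Agent.S7298
import Groth.Agent.PPSheaf.Gr

set_option autoImplicit false
universe u
open CategoryTheory CategoryTheory.Limits AlgebraicGeometry
open Resolve

namespace Groth.Agent.S7299

/-- Let (A, m) be a local normal Nagata domain of dimension two defining a rational singularity, f : X →
Spec A a proper morphism from an integral normal scheme which is an isomorphism over some nonempty
open, and suppose the closed fibre, with ideal sheaf I = m O_X, is an effective Cartier divisor.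
Then for every n ≥ 0, H^1(X, I^n) = 0 and H^0(X, I^n) = m^n: an element of A, viewed as a global
function on X, lies in I^n on every affine open if and only if it belongs to m^n. -/
theorem result (A : Type u) [CommRing A] [IsDomain A] [IsLocalRing A] [IsNoetherianRing A]
    [IsIntegrallyClosed A] (hN : CAlg.IsNagata A) (hdim : ringKrullDim A = 2) (hA : Curv2.IsRationalSing A)
    (X : Scheme.{u}) (f : X ⟶ Spec (CommRingCat.of A)) [IsProper f] [IsIntegral X] (hXn : Pi1.IsNormalScheme X)
    (hbir : ∃ U : (Spec (CommRingCat.of A)).Opens, (U : Set (Spec (CommRingCat.of A))).Nonempty ∧ IsIso (f ∣_ U))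
    (hE : BlowUp.IsEffCartierIdeal ((Curv2.idealSheaf A (IsLocalRing.maximalIdeal A)).comap f)) (n : ℕ) :
    Subsingleton (Coh.HH X (ClSub.idealMod (((Curv2.idealSheaf A (IsLocalRing.maximalIdeal A)).comap f) ^ n)) 1) ∧
      ∀ a : A, (∀ U : X.affineOpens,
          Coh.resTop X (Opposite.op U.1) (Coh.toGlobal f a) ∈ (((Curv2.idealSheaf A (IsLocalRing.maximalIdeal A)).comap f) ^ n).ideal U) ↔
        a ∈ IsLocalRing.maximalIdeal A ^ n := by
  have hI : (Curv2.idealSheaf A (IsLocalRing.maximalIdeal A)) = Groth.Agent.BlowUpLib.centre (IsLocalRing.maximalIdeal A) := rfl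
  rw [hI] at hE ⊢
  refine ⟨?_, fun a => ?_⟩
  · refine Groth.Agent.S7298.result A hN hdim hA X f hXn hbir _ ?_
      (Groth.Agent.RatSing.isGloballyGenerated_centre (IsLocalRing.maximalIdeal A ^ n) f _
        (Groth.Agent.RatSing.centre_pow_ideal _ n f))
    exact Groth.Agent.PPSheaf.isQCoh_idealMod _
  · have hres : ∀ U : X.affineOpens, Coh.resTop X (Opposite.op U.1) (Coh.toGlobal f a) = Groth.Agent.BlowUpLib.strHom f U.1 a := fun U => rfl
    refine ⟨fun h => Groth.Agent.RatSing.mem_pow_of_isRationalSing hdim hA X f hXn hbir hE n a fun U => hres U ▸ h U, fun h U => ?_⟩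
    rw [hres, Groth.Agent.RatSing.centre_pow_ideal]
    exact Ideal.mem_map_of_mem _ h

end Groth.Agent.S7299
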