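import Groth.Statements.S4115
import Groth.Agent.RedRank.Main

set_option autoImplicit false
universe u
open CategoryTheory MonoidalCategory CartesianMonoidalCategory MonObj GrpObj AlgebraicGeometry CategoryTheory.Limits
open SGA3x

namespace Groth.Agent.S4115

/-- Let G be an S-group scheme which is affine and smooth over S. The following are equivalent: (i) the
reductive rank of the geometric fibres of G is a locally constant function on S; (ii) G acquires a
maximal torus after an etale surjective base change. -/
theorem result (S : Scheme.{u}) (G : Over S) [GrpObj G]
    [IsAffineHom G.hom] [Smooth G.hom] :
    SGA3x.RedRankLocallyConstant G ↔ SGA3x.HasMaxTorusEtaleLocally G := by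
  set_option backward.isDefEq.respectTransparency.types false in
  exact ⟨RedRank.etale_of_rank, RedRank.rank_of_etale⟩

end Groth.Agent.S4115
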