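import Groth.Statements.S8422
import Groth.Agent.NonAffine.BorelTori

set_option autoImplicit false
universe u
open CategoryTheory MonoidalCategory CartesianMonoidalCategory MonObj GrpObj AlgebraicGeometry
open SGA3x

namespace Groth.Agent.S8422

/-- Let G be a smooth algebraic group (not necessarily affine) over an algebraically closed field k.
Then the Borel subgroups of G are conjugate; the maximal tori of a Borel subgroup B are maximal tori
of G; and if G is connected, the Cartan subgroups of B are Cartan subgroups of G. (The published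
statement also asserts that G/B is projective; this row omits that assertion.) -/
theorem result (k : Type u) [Field k] [IsAlgClosed k]
    (G : Over (Spec (CommRingCat.of k))) [GrpObj G] [Smooth G.hom] [QuasiCompact G.hom] :
    (∀ (B₁ B₂ : Over (Spec (CommRingCat.of k))) [GrpObj B₁] [GrpObj B₂] (b₁ : B₁ ⟶ G) (b₂ : B₂ ⟶ G),
      Red.IsBorelOver k b₁ → Red.IsBorelOver k b₂ → ∃ g : 𝟙_ (Over (Spec (CommRingCat.of k))) ⟶ G, SGA3x.ConjBy b₁ b₂ g) ∧
    (∀ (B : Over (Spec (CommRingCat.of k))) [GrpObj B] (b : B ⟶ G), Red.IsBorelOver k b →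
      ∀ (T : Over (Spec (CommRingCat.of k))) [GrpObj T] (t : T ⟶ B), Red.IsMaximalTorus t → Red.IsMaximalTorus (t ≫ b)) ∧
    (ConnectedSpace ↥G.left → ∀ (B : Over (Spec (CommRingCat.of k))) [GrpObj B] (b : B ⟶ G), Red.IsBorelOver k b →
      ∀ (C : Over (Spec (CommRingCat.of k))) [GrpObj C] (c : C ⟶ B), SGA3x.IsCartanOver k c → SGA3x.IsCartanOver k (c ≫ b)) := by
  set_option backward.isDefEq.respectTransparency.types false in
  refine ⟨fun B₁ B₂ _ _ b₁ b₂ h₁ h₂ => ?_, fun B _ b hB T _ t ht =>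
    Groth.Agent.NonAffine.isMaximalTorus_of_borel hB ht, fun hconn B _ b hB C _ c hC => by
      haveI := hconn
      exact Groth.Agent.NonAffine.isCartanOver_of_borel hB hC⟩
  obtain ⟨G₀, _, r, hr, hrc, hrs, hrC, hrq, -, huniv⟩ := Groth.Agent.NonAffine.exists_idSub G
  haveI := hrc; haveI := hrs; haveI := hrC; haveI := hrq
  have key : ∀ (B : Over (Spec (CommRingCat.of k))) [GrpObj B] (b : B ⟶ G), Red.IsBorelOver k b →
      ∃ b₀ : B ⟶ G₀, Red.IsBorelOver k b₀ ∧ b₀ ≫ r = b := by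
    intro B _ b hB
    haveI := hB.1; haveI := hB.2.1; haveI := hB.2.2.1; haveI := hB.2.2.2.1
    haveI : QuasiCompact B.hom := by rw [← Over.w b]; infer_instance
    obtain ⟨b₀, hb₀, hb₀r⟩ := huniv B b
    haveI := Groth.Agent.GrpSchLib.AntiAffine.isSeparated_grp G₀
    haveI := Groth.Agent.GrpSchLib.AntiAffine.isSeparated_grp G
    haveI : IsClosedImmersion (b₀.left ≫ r.left) := by rw [← Over.comp_left, hb₀r]; exact hB.2.1
    refine ⟨b₀, ⟨hb₀, IsClosedImmersion.of_comp b₀.left r.left, hB.2.2.1, hB.2.2.2.1, hB.2.2.2.2.1,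
      fun B' _ i' _ f h1 h2 h3 h4 h5 => ?_⟩, hb₀r⟩
    haveI := h1
    exact hB.2.2.2.2.2 B' (i' ≫ r) f (inferInstanceAs (IsClosedImmersion (i'.left ≫ r.left))) h2 h3 h4
      (by rw [← Category.assoc, h5, hb₀r])
  obtain ⟨c₁, hc₁, e₁⟩ := key B₁ b₁ h₁
  obtain ⟨c₂, hc₂, e₂⟩ := key B₂ b₂ h₂
  obtain ⟨g, φ, hφ⟩ := Groth.Agent.NonAffine.borel_conj hc₁ hc₂
  refine ⟨g ≫ r, φ, ?_⟩
  have h := congrArg (· ≫ r) hφ
  simp only [MonObj.mul_comp, GrpObj.inv_comp, Category.assoc, e₁, e₂] at h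
  exact h

end Groth.Agent.S8422
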