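import Groth.Statements.S17094
import Groth.Agent.SolvGrp.MaxToriSep
-- import your own Groth.Agent.* helpers here

set_option autoImplicit false
universe u
open CategoryTheory MonoidalCategory CartesianMonoidalCategory MonObj GrpObj AlgebraicGeometry
open AGF

namespace Groth.Agent.S17094

set_option backward.isDefEq.respectTransparency false
set_option backward.isDefEq.respectTransparency.types false

open SolvGrp GrpSchLib GrpSchLib.Kunneth GrpSchLib.LineGroups AGFLib AGFLib.Gen


/-- Let k be a separably closed field and G a reductive k-group scheme (affine, smooth, connected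
reductive geometric fibre). Then the maximal k-tori of G generate it: if i : H ⟶ G is a closed
subgroup scheme through which the inclusion of every maximal torus of G factors, then i is an
isomorphism. -/
theorem result (k : Type u) [Field k] [IsSepClosed k]
    (G : Over (Spec (CommRingCat.of k))) [GrpObj G] (hG : Red.IsReductive G)
    (H : Over (Spec (CommRingCat.of k))) [GrpObj H] (i : H ⟶ G) [IsMonHom i] (hi : IsClosedImmersion i.left)
    (hH : ∀ (T : Over (Spec (CommRingCat.of k))) [GrpObj T] (iT : T ⟶ G), Red.IsMaximalTorus iT → ∃ t : T ⟶ H, t ≫ i = iT) :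
    IsIso i := by
  haveI := hG.2.1
  haveI : IsAffine G.left := by haveI := hG.1; exact isAffine_of_isAffineHom G.hom
  haveI : ConnectedSpace G.left := connectedSpace_of_isReductive hG
  haveI : IsReduced G.left := isReduced_of_smooth_field G.hom
  haveI := hi
  let R : Subgroup (𝟙_ (Over (Spec (CommRingCat.of k))) ⟶ G) :=
    { carrier := Set.range fun x : 𝟙_ (Over (Spec (CommRingCat.of k))) ⟶ H => x ≫ i
      one_mem' := ⟨1, MonObj.one_comp i⟩
      mul_mem' := by rintro _ _ ⟨a, rfl⟩ ⟨b, rfl⟩; exact ⟨a * b, MonObj.mul_comp a b i⟩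
      inv_mem' := by rintro _ ⟨a, rfl⟩; exact ⟨a⁻¹, GrpObj.inv_comp a i⟩ }
  have hle : torusPts G ≤ R := (Subgroup.closure_le R).mpr <| by
    rintro _ ⟨T, _, iT, hT, t, rfl⟩
    obtain ⟨u, rfl⟩ := hH T iT hT
    exact ⟨t ≫ u, Category.assoc _ _ _⟩
  have hu := dense_torusPts hG (Set.range i.left) i.left.isClosedEmbedding.isClosed_range fun d hd => by
    obtain ⟨x, rfl⟩ := hle hd
    exact ⟨x.left (IsLocalRing.closedPoint k), by rw [← Scheme.Hom.comp_apply, ← Over.comp_left]⟩
  haveI : Surjective i.left := ⟨Set.range_eq_univ.mp hu⟩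
  haveI : IsIso i.left := isIso_of_isClosedImmersion_of_surjective _
  haveI : IsIso ((Over.forget _).map i) := ‹IsIso i.left›
  exact isIso_of_reflects_iso i (Over.forget _)

end Groth.Agent.S17094
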