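import Groth.Statements.S1109
import Groth.Agent.KExact.AmpleFamily
import Groth.Agent.S14401
import Groth.Agent.Lib.EffCompl
-- import your own Groth.Agent.* helpers here

set_option autoImplicit false
set_option linter.style.haveILetI false
set_option backward.isDefEq.respectTransparency false
set_option backward.isDefEq.respectTransparency.types false

universe u
open CategoryTheory AlgebraicGeometry
open Perf

namespace Groth.Agent.S1109

open Groth.Agent.H23.PicMul


/-- Let X be a quasi-compact, locally Noetherian scheme all of whose local rings are regular and whose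
diagonal is affine (intersections of affine opens are affine). Then X has the resolution property. -/
theorem result (X : Scheme.{u}) [CompactSpace ↥X] [IsLocallyNoetherian X]
    (hreg : ∀ x : X, IsRegularLocalRing (X.presheaf.stalk x))
    (hdiag : ∀ U V : X.Opens, IsAffineOpen U → IsAffineOpen V → IsAffineOpen (U ⊓ V)) :
    PerfAux.HasResolutionProperty X := by
  classical
  haveI : IsNoetherian X := {}
  have hdom : ∀ x : X, IsDomain (X.presheaf.stalk x) := fun x => haveI := hreg x; (RegUFD.ufd (X.presheaf.stalk x)).1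
  obtain ⟨hopen, huniq⟩ := S14401.result X hdom
  haveI : Finite (irreducibleComponents (X : Type u)) :=
    TopologicalSpace.NoetherianSpace.finite_irreducibleComponents.to_subtype
  -- a dense affine open around every point
  have hden : ∀ x : X, ∃ U : X.Opens, IsAffineOpen U ∧ x ∈ U ∧ Dense (U : Set X) := by
    intro x
    have hV : ∀ Z : irreducibleComponents (X : Type u), ∃ V : X.Opens, IsAffineOpen V ∧
        (V : Set X) ⊆ Z.1 ∧ (V : Set X).Nonempty ∧ (x ∈ Z.1 → x ∈ V) := fun Z => by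
      obtain ⟨z, hz, hxz⟩ : ∃ z ∈ Z.1, x ∈ Z.1 → z = x := by
        by_cases hx : x ∈ Z.1
        · exact ⟨x, hx, fun _ => rfl⟩
        · obtain ⟨z, hz⟩ := Z.2.1.1
          exact ⟨z, hz, fun h => absurd h hx⟩
      obtain ⟨_, ⟨V, hV, rfl⟩, hzV, hle⟩ :=
        X.isBasis_affineOpens.exists_subset_of_mem_open hz (hopen Z.1 Z.2)
      exact ⟨V, hV, hle, ⟨z, hzV⟩, fun h => hxz h ▸ hzV⟩
    choose V hV hle hne hxV using hV
    refine ⟨⨆ Z, V Z, IsAffineOpen.iSup_of_disjoint hV fun Z W h => ?_, ?_, ?_⟩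
    · show Disjoint (V Z) (V W)
      rw [← TopologicalSpace.Opens.coe_disjoint]
      refine Set.disjoint_left.2 fun z hzZ hzW => h ?_
      exact Subtype.ext ((huniq z).unique ⟨Z.2, hle Z hzZ⟩ ⟨W.2, hle W hzW⟩)
    · obtain ⟨Z, hZ, -⟩ := huniq x
      exact TopologicalSpace.Opens.mem_iSup.2 ⟨⟨Z, hZ.1⟩, hxV ⟨Z, hZ.1⟩ hZ.2⟩
    · intro z
      obtain ⟨Z, ⟨hZ, hzZ⟩, -⟩ := huniq z
      have h1 : Z ⊆ closure (Z ∩ (V ⟨Z, hZ⟩ : Set X)) :=
        subset_closure_inter_of_isPreirreducible_of_isOpen hZ.1.2 (V ⟨Z, hZ⟩).isOpen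
          (by rw [Set.inter_eq_right.2 (hle ⟨Z, hZ⟩)]; exact hne ⟨Z, hZ⟩)
      exact closure_mono (fun w hw => TopologicalSpace.Opens.mem_iSup.2 ⟨⟨Z, hZ⟩, hw.2⟩) (h1 hzZ)
  choose U hU hxU hdense using hden
  choose I hI hsupp using fun x => EffCompl.exists_effCartier_compl X hdiag (U x) (hU x) (hdense x)
    fun z _ => haveI := hreg z; RegUFD.ufd (X.presheaf.stalk z)
  have hJ : ∀ x, PicF.IsInvertible (ClSub.idealMod (I x)) := fun x => (S8914.result (I x)).2 (hI x)
  choose L hL hinv using fun x => H23.PicInv.exists_inverse (hJ x)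
  have hLI : ∀ x, ClSub.IsInverseOf (L x) (ClSub.idealMod (I x)) := fun x => by
    obtain ⟨e⟩ := hinv x
    obtain ⟨c⟩ := H23.PicMul.comm (L x) (ClSub.idealMod (I x))
    exact ⟨c ≪≫ e⟩
  choose s hs using fun x => AVAmple.exists_divisor_section (I x) (hI x) (hL x) (hLI x)
  have hloc : ∀ x, CohB1.genLocus (L x) (InvX.ofSect (s x)) = U x := fun x => by
    refine TopologicalSpace.Opens.ext (Set.ext fun z => ?_)
    have h : z ∈ ((I x).support : Set X) ↔ z ∉ U x := by rw [hsupp x]; rfl
    exact (hs x z).trans ((not_congr h).trans not_not)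
  have hfam : KSix.IsAmpleFamily L := ⟨inferInstance, inferInstance, hL, fun x => ?_⟩
  · intro F hF hF'
    obtain ⟨M, π, -, hM, hπ⟩ := KExact.AmpleFamily.exists_epi_inAddL L hfam F hF hF'
    exact ⟨M, π, hM, hπ⟩
  obtain ⟨t, ht⟩ := AmpleX.exists_section_of_cl_eq (B := CohB1.tensorPow (L x) (0 + 1))
    (by rw [H23.PicMul.cl_tensorPow, pow_one]) (InvX.ofSect (s x))
  exact ⟨x, 0, t, by rw [ht, hloc]; exact hxU x, by rw [ht, hloc]; exact hU x⟩
end Groth.Agent.S1109
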