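import Groth.Statements.S3313
import Groth.Agent.H26.FibreIdeal

set_option autoImplicit false
universe u
open CategoryTheory CategoryTheory.Limits AlgebraicGeometry
open Models

namespace Groth.Agent.S3313

/-- Let R be a discrete valuation ring with fraction field K, C a smooth proper curve over K and X a
regular model of C over R (flat, of finite type, all local rings regular, generic fibre C). Let Γ_1,
…, Γ_n be the irreducible components of the closed fibre, each an integral curve over the residue
field closed in X, with multiplicities m_i (length of O_{X,ξ_i}/𝔪_R O_{X,ξ_i} at the generic point).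
Then each Γ_i is an effective Cartier divisor on X and the ideal sheaf 𝔪_R O_X of the closed fibre
is the product of the ideal sheaves of the Γ_i raised to the powers m_i (the closed fibre is the sum
Σ m_i Γ_i of effective Cartier divisors). -/
theorem result (R : Type u) [CommRing R] [IsDomain R] [IsDiscreteValuationRing R]
    (C X : Scheme.{u}) (f : C ⟶ Spec (CommRingCat.of (FractionRing R))) (p : X ⟶ Spec (CommRingCat.of R))
    (hC : Curve.IsSmoothProperCurve (FractionRing R) C f) (hX : Models.IsModel R X p C f)
    (hreg : Models.IsRegularScheme X)
    {n : ℕ} (Γ : Fin n → ArSurf.VertComp R (Over.mk p)) (hΓ : Models.IsComponentList R (Over.mk p) Γ) :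
    (∀ i, BlowUp.IsEffCartierIdeal (Γ i).ι.ker) ∧
      Models.specialFibreIdeal R (Over.mk p) = ∏ i, (Γ i).ι.ker ^ Models.mult R (Over.mk p) (Γ i) := by
  have : Flat (Over.mk p).hom := hX.1
  have : LocallyOfFiniteType (Over.mk p).hom := hX.2.1
  exact H26.FibreIdeal.result (Over.mk p) Γ hΓ hreg

end Groth.Agent.S3313
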