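import Groth.Statements.S3322
import Groth.Agent.H26.EulerGenus
import Groth.Agent.H26.WDeg
import Groth.Agent.S3321

set_option autoImplicit false
universe u
open CategoryTheory CategoryTheory.Limits AlgebraicGeometry
open Models

namespace Groth.Agent.S3322

/-- In the following situation (R a discrete valuation ring with residue field k, C a smooth proper
curve over its fraction field K with H^0(C, O_C) = K, X a regular proper model, Γ_1, …, Γ_n the
irreducible components of the closed fibre with multiplicities m_i, L_i ⊗ I(Γ_i) ≅ O_X) the data n,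
m_i, a_ij = (Γ_i · Γ_j) = deg_k(L_j|Γ_i), w_i = dim_k H^0(Γ_i, O) and g_i with w_i g_i = dim_k
H^1(Γ_i, O) is a numerical type (n > 0, m_i > 0, (a_ij) symmetric with non-negative off-diagonal
entries, connected, killing m, w_i | a_ij, g_i ≥ 0), and its genus is the genus dim_K H^1(C, O_C) of
C. -/
theorem result (R : Type u) [CommRing R] [IsDomain R] [IsDiscreteValuationRing R]
    (C X : Scheme.{u}) (f : C ⟶ Spec (CommRingCat.of (FractionRing R))) (p : X ⟶ Spec (CommRingCat.of R))
    (hC : Curve.IsSmoothProperCurve (FractionRing R) C f) (hH0 : IsIso f.appTop)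
    (hX : Models.IsRegularProperModel R X p C f)
    {n : ℕ} (Γ : Fin n → ArSurf.VertComp R (Over.mk p)) (hΓ : Models.IsComponentList R (Over.mk p) Γ)
    (L : Fin n → X.Modules) (hL : ∀ i, ClSub.IsInverseOf (L i) (ClSub.idealMod (Γ i).ι.ker)) :
    ∃ T : Models.NumericalType n,
      (∀ i, T.m i = (Models.mult R (Over.mk p) (Γ i) : ℤ)) ∧ (∀ i j, T.a i j = ArSurf.inter R (Over.mk p) (L j) (Γ i)) ∧
      (∀ i, T.w i = (Models.wdeg R (Over.mk p) (Γ i) : ℤ)) ∧
      (∀ i, T.w i * T.g i = (Models.h1 R (Over.mk p) (Γ i) : ℤ)) ∧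
      T.genus = (Models.curveGenus (FractionRing R) C f : ℤ) := by
  classical
  let D := Groth.Agent.H26.VertModel.mkData hX hΓ L hL
  haveI : IsProper (Over.mk p).hom := hX.2.1
  haveI : Flat (Over.mk p).hom := hX.1.1
  have hconn := Groth.Agent.H26.VertModel.isConnected hC hH0 hX
  obtain ⟨i₀⟩ := Groth.Agent.H26.VertClass.nonempty_index hΓ hconn
  have hoff : ∀ i j, i ≠ j → 0 ≤ ArSurf.inter R (Over.mk p) (L j) (Γ i) := fun i j hij => by
    have hs : ((Γ j).ι.ker.support : Set (Over.mk p).left) = Set.range (Γ j).ι.base := by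
      rw [Scheme.Hom.support_ker]
      exact (Γ j).ι.isClosedEmbedding.isClosed_range.closure_eq
    exact (Groth.Agent.H26.InterDiv.inter_nonneg_and_eq_zero_iff (Γ i) (D.heff j)
      (by rw [hs]; exact Groth.Agent.H26.InterSymm.genPt_notMem (Γ i) (Γ j) fun h => hij (hΓ.1 h)) (hL j)).1
  choose g hg using fun i => Groth.Agent.H26.WDeg.wdeg_dvd_h1 (Γ i)
  let T : Models.NumericalType n :=
    { m := fun i => (Models.mult R (Over.mk p) (Γ i) : ℤ)
      a := fun i j => ArSurf.inter R (Over.mk p) (L j) (Γ i)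
      w := fun i => (Models.wdeg R (Over.mk p) (Γ i) : ℤ)
      g := fun i => (g i : ℤ)
      pos := Fin.pos i₀
      m_pos := D.m_pos
      w_pos := fun i => Int.natCast_pos.2 (Groth.Agent.H26.WDeg.wdeg_pos (Γ i))
      g_nonneg := fun i => Int.natCast_nonneg _
      symm := Matrix.IsSymm.ext fun i j => (Groth.Agent.H26.EulerFibre.inter_symm D i j).symm
      offDiag_nonneg := hoff
      connected := Groth.Agent.H26.InterForm.exists_inter_ne_zero hΓ L hL hX.2.2 hconn
      mulVec_m := funext fun i => by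
        show ∑ j, ArSurf.inter R (Over.mk p) (L j) (Γ i) * (Models.mult R (Over.mk p) (Γ j) : ℤ) = 0
        refine Eq.trans (Finset.sum_congr rfl fun j _ => mul_comm _ _)
          (Groth.Agent.H26.ArInter.sum_mult_mul_inter (Over.mk p) Γ hX.2.2 hΓ L hL i)
      w_dvd := fun i j => Groth.Agent.H26.WDeg.wdeg_dvd_inter (Γ i) (D.isInvertible j) }
  refine ⟨T, fun i => rfl, fun i j => rfl, fun i => rfl, fun i => ?_, ?_⟩
  · show (Models.wdeg R (Over.mk p) (Γ i) : ℤ) * (g i : ℤ) = _
    exact_mod_cast (hg i).symm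
  · have hG := Groth.Agent.S3321.result R C X f p hC hH0 hX Γ hΓ L hL
    simp only [mul_sub, Finset.sum_sub_distrib, mul_left_comm _ (2 : ℤ), ← Finset.mul_sum] at hG
    show 1 + (∑ i, (Models.mult R (Over.mk p) (Γ i) : ℤ) * (Models.wdeg R (Over.mk p) (Γ i) : ℤ) * ((g i : ℤ) - 1)) -
      (∑ i, (Models.mult R (Over.mk p) (Γ i) : ℤ) * ArSurf.inter R (Over.mk p) (L i) (Γ i)) / 2 = _
    have e : ∀ i, (Models.mult R (Over.mk p) (Γ i) : ℤ) * (Models.wdeg R (Over.mk p) (Γ i) : ℤ) * ((g i : ℤ) - 1) =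
        (Models.mult R (Over.mk p) (Γ i) : ℤ) * (Models.h1 R (Over.mk p) (Γ i) : ℤ) -
          (Models.mult R (Over.mk p) (Γ i) : ℤ) * (Models.wdeg R (Over.mk p) (Γ i) : ℤ) := fun i => by
      have : (Models.h1 R (Over.mk p) (Γ i) : ℤ) = (Models.wdeg R (Over.mk p) (Γ i) : ℤ) * (g i : ℤ) := by
        exact_mod_cast hg i
      rw [this]
      ring
    simp only [e, Finset.sum_sub_distrib]
    omega

end Groth.Agent.S3322
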