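import Groth.Statements.S3330
import Groth.Agent.MinModel.Main

set_option autoImplicit false
set_option backward.isDefEq.respectTransparency false
set_option backward.isDefEq.respectTransparency.types false
set_option linter.style.haveILetI false
set_option linter.unusedSectionVars false
set_option maxHeartbeats 800000
universe u
open CategoryTheory CategoryTheory.Limits AlgebraicGeometry
open Models

namespace Groth.Agent.S3330

open CategoryTheory CategoryTheory.Limits Groth.Agent Groth.Agent.H23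
attribute [local instance] PicMul.clMonoid

/-- Let R be a discrete valuation ring with fraction field K and C a smooth proper curve over K with
H^0(C, O_C) = K and positive genus dim_K H^1(C, O_C) > 0. If X₁ and X₂ are minimal models of C with
generic-fibre inclusions g₁, g₂, then there is a unique isomorphism X₁ ≅ X₂ of models (over R,
carrying g₁ to g₂). -/
theorem result (R : Type u) [CommRing R] [IsDomain R] [IsDiscreteValuationRing R]
    (C X₁ X₂ : Scheme.{u}) (f : C ⟶ Spec (CommRingCat.of (FractionRing R)))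
    (p₁ : X₁ ⟶ Spec (CommRingCat.of R)) (p₂ : X₂ ⟶ Spec (CommRingCat.of R))
    (hC : Curve.IsSmoothProperCurve (FractionRing R) C f) (hH0 : IsIso f.appTop)
    (hg : 0 < Models.curveGenus (FractionRing R) C f)
    (h₁ : Models.IsMinimalModel R X₁ p₁ C f) (h₂ : Models.IsMinimalModel R X₂ p₂ C f)
    (g₁ : C ⟶ X₁) (hg₁ : IsPullback g₁ f p₁ (Spec.map (CommRingCat.ofHom (algebraMap R (FractionRing R)))))
    (g₂ : C ⟶ X₂) (hg₂ : IsPullback g₂ f p₂ (Spec.map (CommRingCat.ofHom (algebraMap R (FractionRing R))))) :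
    ∃! e : X₁ ≅ X₂, e.hom ≫ p₂ = p₁ ∧ g₁ ≫ e.hom = g₂ := by
  haveI := hC.1
  haveI := hC.2.2.1
  let M₁ : MinModel.Model C f := ⟨X₁, p₁, g₁, hg₁, h₁.1⟩
  let M₂ : MinModel.Model C f := ⟨X₂, p₂, g₂, hg₂, h₂.1⟩
  obtain ⟨b, hb, hgb⟩ := MinModel.exists_hom hC.2.2.2 hC hH0 hg M₂ M₁ h₂
  obtain ⟨b', hb', hgb'⟩ := MinModel.exists_hom hC.2.2.2 hC hH0 hg M₁ M₂ h₁
  change b ≫ p₂ = p₁ at hb
  change b' ≫ p₁ = p₂ at hb'
  change g₁ ≫ b = g₂ at hgb
  change g₂ ≫ b' = g₁ at hgb'
  let e : X₁ ≅ X₂ :=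
    { hom := b
      inv := b'
      hom_inv_id := MinModel.Model.hom_ext M₁ M₁
        (show (b ≫ b') ≫ p₁ = p₁ by rw [Category.assoc, hb', hb]) (Category.id_comp p₁)
        (show g₁ ≫ b ≫ b' = g₁ ≫ 𝟙 _ by rw [reassoc_of% hgb, hgb', Category.comp_id])
      inv_hom_id := MinModel.Model.hom_ext M₂ M₂
        (show (b' ≫ b) ≫ p₂ = p₂ by rw [Category.assoc, hb, hb']) (Category.id_comp p₂)
        (show g₂ ≫ b' ≫ b = g₂ ≫ 𝟙 _ by rw [reassoc_of% hgb', hgb, Category.comp_id]) }
  refine ⟨e, ⟨hb, hgb⟩, fun e' he' => ?_⟩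
  exact Iso.ext (MinModel.Model.hom_ext M₁ M₂ he'.1 hb (he'.2.trans hgb.symm))

end Groth.Agent.S3330
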