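import Groth.Statements.S3338
import Groth.Agent.H26.SmoothModel

set_option autoImplicit false
universe u
open CategoryTheory CategoryTheory.Limits AlgebraicGeometry
open Models

namespace Groth.Agent.S3338

/-- The step (1) implies (2) as proved there: let R be a discrete valuation ring with fraction field K,
C a smooth proper curve over K with H^0(C, O_C) = K, and X a proper smooth model of C over R. Then X
is a minimal model (regular, proper, with no exceptional curve of the first kind in its closed
fibre). -/
theorem result (R : Type u) [CommRing R] [IsDomain R] [IsDiscreteValuationRing R]
    (C X : Scheme.{u}) (f : C ⟶ Spec (CommRingCat.of (FractionRing R))) (p : X ⟶ Spec (CommRingCat.of R))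
    (hC : Curve.IsSmoothProperCurve (FractionRing R) C f) (hH0 : IsIso f.appTop)
    (hX : Models.IsModel R X p C f) [IsProper p] [Smooth p] :
    Models.IsMinimalModel R X p C f := by
  exact Groth.Agent.H26.SmoothModel.isMinimalModel_of_smooth hC hH0 hX

end Groth.Agent.S3338
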