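import Groth.Statements.S2069
import Mathlib
import Groth.Agent.CAlgOdd.AssTensor

set_option autoImplicit false
universe u
open CAlg

namespace Groth.Agent.S2069

open TensorProduct in
/-- Let `R → S` be a ring map, `M` an `R`-module and `N` an `S`-module flat over `R`. Then a prime of
`S` is associated to `N ⊗_R M` if and only if it is associated to `N/𝔭N` for some prime `𝔭` of `R`
associated to `M`. -/
theorem result {R S M N : Type u} [CommRing R] [IsNoetherianRing R] [CommRing S]
    [Algebra R S] [AddCommGroup M] [Module R M] [AddCommGroup N] [Module S N] [Module R N]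
    [IsScalarTower R S N] [Module.Flat R N] :
    associatedPrimes S (N ⊗[R] M) =
      ⋃ p ∈ associatedPrimes R M, associatedPrimes S (N ⧸ p.map (algebraMap R S) • (⊤ : Submodule S N)) := by
  exact CAlgOdd.AssTensor.associatedPrimes_eq N M

end Groth.Agent.S2069
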