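import Groth.Statements.S7005
import Mathlib
import Groth.Agent.RelFP.Basic

set_option autoImplicit false
universe u
open CAlg

namespace Groth.Agent.S7005

/-- Let R → A be a finite type homomorphism of commutative rings, α : R[x_1, ..., x_n] → A a surjective
R-algebra homomorphism and M an A-module which is finitely presented as an R[x_1, ..., x_n]-module
through α. Let A → A' be a ring homomorphism of finite presentation and γ : R[z_1, ..., z_k] → A' a
surjective R-algebra homomorphism. Then A' ⊗_A M is finitely presented as an R[z_1, ..., z_k]-module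
through γ. -/
theorem result {R A A' : Type u} [CommRing R] [CommRing A]
    [CommRing A'] [Algebra R A] [Algebra A A'] [Algebra R A'] [IsScalarTower R A A'] [Algebra.FiniteType R A]
    [Algebra.FinitePresentation A A'] (M : Type u) [AddCommGroup M] [Module A M] {n k : ℕ}
    (α : MvPolynomial (Fin n) R →ₐ[R] A) (hα : Function.Surjective α)
    (hM : @Module.FinitePresentation (MvPolynomial (Fin n) R) (M) _ _ (Module.compHom (M) α.toRingHom))
    (γ : MvPolynomial (Fin k) R →ₐ[R] A') (hγ : Function.Surjective γ) :
    @Module.FinitePresentation (MvPolynomial (Fin k) R) (TensorProduct A A' M) _ _ (Module.compHom (TensorProduct A A' M) γ.toRingHom) := by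
  classical
  obtain ⟨m, π, hπ, hπfg⟩ := Algebra.FinitePresentation.out (R := A) (A := A')
  let P := MvPolynomial (Fin n) R
  let T := MvPolynomial (Fin m) P
  let c : T →+* MvPolynomial (Fin m) A := MvPolynomial.map α.toRingHom
  have hc : Function.Surjective c := MvPolynomial.map_surjective _ hα
  letI : Algebra P A := α.toRingHom.toAlgebra
  letI : Algebra T A' := (π.toRingHom.comp c).toAlgebra
  letI : Algebra P A' := ((algebraMap A A').comp α.toRingHom).toAlgebra
  haveI : IsScalarTower P A A' := IsScalarTower.of_algebraMap_eq fun _ => rfl
  haveI : IsScalarTower P T A' := IsScalarTower.of_algebraMap_eq fun p => by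
    show algebraMap A A' (α p) = π (c (MvPolynomial.C p))
    rw [MvPolynomial.map_C, ← MvPolynomial.algebraMap_eq, AlgHom.commutes]
    rfl
  letI : Module P M := Module.compHom M α.toRingHom
  haveI : IsScalarTower P A M := IsScalarTower.of_algebraMap_smul fun _ _ => rfl
  haveI : Module.FinitePresentation P M := hM
  obtain ⟨S, hS⟩ := hπfg
  choose l hl using fun s => hc s
  let J : Ideal T := Ideal.span (S.image l : Finset T)
  have hJ : J.map c = RingHom.ker π.toRingHom := by
    rw [← hS, Ideal.map_span, Finset.coe_image, ← Set.image_comp]
    simp [Function.comp_def, hl]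
  have key := Groth.Agent.RelFP.fp_baseChange P T A A' M hα (hπ.comp hc) J ⟨_, rfl⟩ (by
    show RingHom.ker (π.toRingHom.comp c) = _
    rw [← RingHom.comap_ker, ← hJ, Ideal.comap_map_of_surjective c hc]
    congr 1
    rw [← RingHom.ker_eq_comap_bot, MvPolynomial.ker_map]
    rfl)
  haveI : Algebra.FinitePresentation R T := Algebra.FinitePresentation.trans R P T
  haveI : IsScalarTower R T A' := IsScalarTower.of_algebraMap_eq fun r => by
    rw [IsScalarTower.algebraMap_apply R P T, ← IsScalarTower.algebraMap_apply P T A',
      IsScalarTower.algebraMap_apply P A A', IsScalarTower.algebraMap_apply R A A']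
    congr 1
    exact (α.commutes r).symm
  exact (Groth.Agent.RelFP.fpVia_indep (IsScalarTower.toAlgHom R T A') γ
    (RingHom.Finite.of_surjective _ (hπ.comp hc)) (RingHom.Finite.of_surjective γ.toRingHom hγ) _).mp key

end Groth.Agent.S7005
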