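import Groth.Statements.S6987
import Groth.Agent.H9Misc.DRingRelPC3
import Groth.Agent.S2087
import Mathlib

set_option autoImplicit false
universe u
open CategoryTheory CategoryTheory.Limits
attribute [local instance] HasDerivedCategory.standard
open DerCA

namespace Groth.Agent.S6987

/-- Let R → A be a finite type homomorphism of commutative rings, K a cochain complex of A-modules, m an
integer and f_1, ..., f_r elements of A generating the unit ideal. Then relative m-pseudo-coherence
of K over R holds exactly when, for every i, the termwise localization K ⊗_A A_(f_i) is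
m-pseudo-coherent relative to R over the finite type R-algebra A_(f_i). -/
theorem result {R A : Type u} [CommRing R] [CommRing A] [Algebra R A]
    [Algebra.FiniteType R A] (K : DRing.Cx A) (m : ℤ) {r : ℕ} (f : Fin r → A)
    (hf : Ideal.span (Set.range f) = ⊤) :
    DerCA.IsRelPseudoCoherent R A m (DRing.toD K) ↔
      ∀ i, DerCA.IsRelPseudoCoherent R (Localization.Away (f i)) m
        (DRing.toD (((ModuleCat.extendScalars (algebraMap A (Localization.Away (f i)))).mapHomologicalComplex
          (ComplexShape.up ℤ)).obj K)) := by
  classical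
  refine ⟨fun h i => Groth.Agent.H9Misc.DRingRelPC.away_of (f i) K m h, fun h => ?_⟩
  obtain ⟨n, β, hβ⟩ := Groth.Agent.H9Misc.DRingRelPC.exists_presentation R A
  choose F hF using fun i => hβ (f i)
  obtain ⟨c, hc⟩ := (Ideal.mem_span_range_iff_exists_fun).1
    (hf ▸ Submodule.mem_top : (1 : A) ∈ Ideal.span (Set.range f))
  choose c' hc' using fun i => hβ (c i)
  let G : MvPolynomial (Fin n) R := 1 - ∑ i, c' i * F i
  have hG : β G = 0 := by simp [G, hF, hc', hc]
  let g : Fin (r + 1) → MvPolynomial (Fin n) R := Fin.cons G F
  have hg : Ideal.span (Set.range g) = ⊤ := by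
    rw [Ideal.eq_top_iff_one, show (1 : MvPolynomial (Fin n) R) = G + ∑ i, c' i * F i from (sub_add_cancel 1 _).symm]
    exact add_mem (Ideal.subset_span ⟨0, rfl⟩)
      (sum_mem fun i _ => Ideal.mul_mem_left _ _ (Ideal.subset_span ⟨i.succ, by simp [g]⟩))
  refine (Groth.Agent.H9Misc.DRingRelPC.iff_via β hβ _ m).2 ?_
  refine Groth.Agent.H9Misc.DRingPC.of_iso
    ((ModuleCat.restrictScalars (β : MvPolynomial (Fin n) R →+* A)).mapDerivedCategoryFactors.app K).symm ?_
  refine Groth.Agent.S2087.result g hg _ m (fun i => ?_)
  cases i using Fin.cases with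
  | succ j =>
    have hj := h j
    rw [← hF j] at hj
    exact (Groth.Agent.H9Misc.DRingRelPC.away_iff β hβ (F j) K m).1 hj
  | zero =>
    refine Groth.Agent.H9Misc.DRingPC.of_vanish _ fun i _ => ?_
    refine IsZero.of_iso (ShortComplex.isZero_homology_of_isZero_X₂ _ ?_)
      ((DerivedCategory.homologyFunctorFactors _ i).app _)
    show IsZero ((ModuleCat.extendScalars.{u, u, u} (algebraMap _ (Localization.Away G))).obj
      ((ModuleCat.restrictScalars (β : MvPolynomial (Fin n) R →+* A)).obj (K.X i)))
    refine IsZero.of_iso ((ModuleCat.restrictScalars _).map_isZero ?_)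
      ((Groth.Agent.H9Misc.DRingRelPC.thetaIso (β : MvPolynomial (Fin n) R →+* A) G).app (K.X i))
    haveI : Subsingleton (Localization.Away ((β : MvPolynomial (Fin n) R →+* A) G)) :=
      IsLocalization.subsingleton (M := Submonoid.powers ((β : MvPolynomial (Fin n) R →+* A) G))
        ⟨1, by simpa using hG⟩
    haveI : Subsingleton ((ModuleCat.extendScalars.{u, u, u} (algebraMap A
        (Localization.Away ((β : MvPolynomial (Fin n) R →+* A) G)))).obj (K.X i)) :=
      Module.subsingleton (Localization.Away ((β : MvPolynomial (Fin n) R →+* A) G)) _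
    exact ModuleCat.isZero_of_subsingleton _

end Groth.Agent.S6987
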