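import Groth.Statements.S9273
import Mathlib
import Groth.Agent.W4Lib.Flat

set_option autoImplicit false
universe u
open CAlgX

namespace Groth.Agent.S9273
open TensorProduct

theorem relSpan_map {B C : Type u} [CommRing B] [CommRing C] (ψ : B →+* C) {r : ℕ} (f : Fin r → B)
    (v : Fin r → B)
    (hv : v ∈ Submodule.span B {v : Fin r → B | ∃ i j : Fin r, v = Pi.single i (f j) - Pi.single j (f i)}) :
    (fun k => ψ (v k)) ∈ Submodule.span C
      {w : Fin r → C | ∃ i j : Fin r, w = Pi.single i (ψ (f j)) - Pi.single j (ψ (f i))} := by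
  induction hv using Submodule.span_induction with
  | mem v hv =>
    obtain ⟨i, j, rfl⟩ := hv
    refine Submodule.subset_span ⟨i, j, ?_⟩
    funext k
    simp only [Pi.sub_apply, map_sub, Pi.single_apply, apply_ite ψ, map_zero]
  | zero =>
    simp only [Pi.zero_apply, map_zero]
    exact zero_mem _
  | add v w _ _ hv hw =>
    have := add_mem hv hw
    simpa only [Pi.add_apply, map_add, Pi.add_def] using this
  | smul b v _ hv =>
    have := Submodule.smul_mem _ (ψ b) hv
    simpa only [Pi.smul_apply, smul_eq_mul, map_mul, Pi.smul_def] using this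



/-- Let A → B and A → A' be ring maps and B' = A' ⊗_A B. If f_1, ..., f_r is an H_1-regular sequence in
B with B/(f_1, ..., f_r) flat over A, then the images of the f_i in B' form an H_1-regular sequence. -/
theorem result (A B A' : Type u) [CommRing A] [CommRing B]
    [CommRing A'] [Algebra A B] [Algebra A A'] (r : ℕ) (f : Fin r → B)
    (hflat : Module.Flat A (B ⧸ Ideal.span (Set.range f))) (hq : CAlgX.IsH1Regular f) :
    CAlgX.IsH1Regular (fun i => ((1 : A') ⊗ₜ[A] f i : TensorProduct A A' B)) := by
  intro a ha
  let S : Submodule B (Fin r → B) :=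
    Submodule.span B {v : Fin r → B | ∃ i j : Fin r, v = Pi.single i (f j) - Pi.single j (f i)}
  let Φ : (Fin r → B) →ₗ[B] B := Fintype.linearCombination B f
  have hΦ : ∀ v, Φ v = ∑ i, v i * f i := fun v => by
    simp only [Φ, Fintype.linearCombination_apply, smul_eq_mul]
  let I : Ideal B := Ideal.span (Set.range f)
  have hrange : LinearMap.range Φ = I := Fintype.range_linearCombination B f
  let g : (Fin r → B) →ₗ[A] I :=
    (Φ.codRestrict I (fun v => hrange ▸ LinearMap.mem_range_self Φ v)).restrictScalars A
  have hgsurj : Function.Surjective g := fun y => by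
    have hy : (y : B) ∈ LinearMap.range Φ := by rw [hrange]; exact y.2
    obtain ⟨v, hv⟩ := hy
    exact ⟨v, Subtype.ext hv⟩
  let s : S →ₗ[A] (Fin r → B) := S.subtype.restrictScalars A
  have hex : Function.Exact s g := by
    intro v
    constructor
    · intro hv
      have h1 : Φ v = 0 := congrArg Subtype.val hv
      rw [hΦ] at h1
      exact ⟨⟨v, hq v h1⟩, rfl⟩
    · rintro ⟨w, rfl⟩
      refine Subtype.ext ?_
      change Φ (w : Fin r → B) = 0
      obtain ⟨w, hw⟩ := w
      change Φ w = 0
      induction hw using Submodule.span_induction with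
      | mem v hv =>
        obtain ⟨i, j, rfl⟩ := hv
        simp only [Φ, map_sub, Fintype.linearCombination_apply_single, smul_eq_mul]
        ring
      | zero => exact map_zero _
      | add v w _ _ hv hw => rw [map_add, hv, hw, add_zero]
      | smul b v _ hv => rw [map_smul, hv, smul_zero]
  let i : I →ₗ[A] B := I.subtype.restrictScalars A
  let p : B →ₗ[A] B ⧸ I := (Submodule.mkQ I).restrictScalars A
  haveI : Module.Flat A (B ⧸ I) := hflat
  have hinj : Function.Injective (i.lTensor A') :=
    Groth.Agent.W4Lib.lTensor_injective_of_flat_quotient (g := p) I.subtype_injective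
      (LinearMap.exact_subtype_mkQ I) (Submodule.mkQ_surjective I) A'
  let e : A' ⊗[A] (Fin r → B) ≃ₗ[A] (Fin r → A' ⊗[A] B) := TensorProduct.piRight A A A' (fun _ => B)
  have he : ∀ x, ∑ k, e x k * ((1 : A') ⊗ₜ[A] f k) = i.lTensor A' (g.lTensor A' x) := by
    intro x
    induction x using TensorProduct.induction_on with
    | zero => simp only [map_zero, Pi.zero_apply, zero_mul, Finset.sum_const_zero]
    | tmul b v =>
      simp only [e, TensorProduct.piRight_apply, TensorProduct.piRightHom_tmul, Algebra.TensorProduct.tmul_mul_tmul,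
        mul_one, LinearMap.lTensor_tmul]
      rw [← TensorProduct.tmul_sum, ← hΦ]
      rfl
    | add x y hx hy =>
      simp only [map_add, Pi.add_apply, add_mul, Finset.sum_add_distrib, hx, hy]
  obtain ⟨x, rfl⟩ := e.surjective a
  rw [he] at ha
  have h1 : g.lTensor A' x = 0 := hinj (ha.trans (map_zero _).symm)
  obtain ⟨y, rfl⟩ := (lTensor_exact A' hex hgsurj x).1 h1
  clear ha h1
  induction y using TensorProduct.induction_on with
  | zero =>
    rw [map_zero, map_zero]
    exact zero_mem _
  | tmul b v =>
    have h2 := relSpan_map (Algebra.TensorProduct.includeRight : B →ₐ[A] A' ⊗[A] B).toRingHom f _ v.2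
    have h3 : e (s.lTensor A' (b ⊗ₜ[A] v)) = (b ⊗ₜ[A] (1 : B)) •
        (fun k => (Algebra.TensorProduct.includeRight : B →ₐ[A] A' ⊗[A] B).toRingHom ((v : Fin r → B) k)) := by
      funext k
      simp [e, s]
    rw [h3]
    exact Submodule.smul_mem _ _ h2
  | add x y hx hy =>
    rw [map_add, map_add]
    exact add_mem hx hy


end Groth.Agent.S9273
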