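import Groth.Statements.S8292
import Groth.Agent.SymAlgX.Gen
import Groth.Agent.RelTildeX.Props
import Groth.Agent.Proj16.Map
import Groth.Agent.Proj16.RelMap

set_option autoImplicit false
universe u
open CategoryTheory CategoryTheory.Limits AlgebraicGeometry Opposite TopologicalSpace
open scoped HomogeneousIdeal
noncomputable section
open EGA2

namespace Groth.Agent.S8292

open Groth.Agent HomogeneousLocalization in
lemma isClosedImmersion_map_pos {A σ B τ : Type u} [CommRing A] [SetLike σ A] [AddSubgroupClass σ A]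
    [CommRing B] [SetLike τ B] [AddSubgroupClass τ B] {𝒜 : ℕ → σ} [GradedRing 𝒜] {ℬ : ℕ → τ} [GradedRing ℬ]
    (φ : 𝒜 →+*ᵍ ℬ) (hφ : HomogeneousIdeal.irrelevant ℬ ≤ (HomogeneousIdeal.irrelevant 𝒜).map φ)
    (h : ∀ n : ℕ, 0 < n → Set.SurjOn φ (𝒜 n : Set A) (ℬ n : Set B)) : IsClosedImmersion (Proj.map φ hφ) :=
  Proj16.map_of_away φ hφ fun d s hd hs ↦ IsClosedImmersion.spec_of_surjective _ fun x => by
    obtain ⟨n, b, hb, rfl⟩ := x.mk_surjective ℬ (φ.2 hs)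
    rw [Proj16.awayMk_succ]
    obtain ⟨a, ha, hab⟩ := h ((n + 1) • d) (by simp only [smul_eq_mul]; positivity)
      (show φ s * b ∈ ℬ ((n + 1) • d) by
        simpa [Nat.succ_mul, add_comm] using SetLike.mul_mem_graded (φ.2 hs) hb)
    refine ⟨Away.mk 𝒜 hs (n + 1) a ha, ?_⟩
    show Away.map φ s _ = _
    rw [Away.map_mk]
    congr 1

/-- Let 𝒮 be a quasi-coherent positively graded O_Y-algebra generated by 𝒮_1, M a quasi-coherent
O_Y-module and u : M → 𝒮_1 a surjective module map; let ū : Sym(M) → 𝒮 be the graded algebra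
homomorphism extending u. Then the morphism Proj(𝒮) → P(M) = Proj(Sym(M)) induced by ū is a closed
immersion. -/
theorem result {Y PT PS : Scheme.{u}} (𝒮 𝒯 : RelProj.QCGrAlg Y)
    (hgen : 𝒮.IsGenDegOne) (M : Y.Modules) (hM : Coh.IsQCoh M)
    (u : M ⟶ 𝒮.toModule)
    (hu1 : ∀ (U : Y.Opens) (hU : IsAffineOpen U) (x : Γ(M, U)), (u.app U) x ∈ 𝒮.deg U hU 1)
    (husurj : ∀ (U : Y.Opens) (hU : IsAffineOpen U) (s : 𝒮.presheaf.obj (op U)), s ∈ 𝒮.deg U hU 1 →
      ∃ x : Γ(M, U), (u.app U) x = s)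
    (j : M ⟶ 𝒯.toModule) (hT : RelProj.IsGrSymAlg M 𝒯 j)
    (ubar : 𝒯.toQCAlg ⟶ 𝒮.toQCAlg) (hubar : RelProj.IsGradedHom ubar)
    (hju : j ≫ RelSpec.QCAlg.Hom.toModuleMap ubar = u)
    (hirr : ∀ (U : Y.Opens) (hU : IsAffineOpen U),
      (𝒮.deg U hU)₊ ≤ ((𝒯.deg U hU)₊).map (RelProj.gradedHomAt ubar hubar U hU))
    (pT : PT ⟶ Y) (pS : PS ⟶ Y)
    (chartT : ∀ (U : Y.Opens) (hU : IsAffineOpen U), (((pT ⁻¹ᵁ U : PT.Opens) : Scheme.{u}) ≅ Proj (𝒯.deg U hU)))
    (chartS : ∀ (U : Y.Opens) (hU : IsAffineOpen U), (((pS ⁻¹ᵁ U : PS.Opens) : Scheme.{u}) ≅ Proj (𝒮.deg U hU)))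
    (hPT : RelProj.IsRelProj 𝒯 pT chartT) (hPS : RelProj.IsRelProj 𝒮 pS chartS)
    (h : PS ⟶ PT) (hh : RelProj.IsRelProjMap ubar hubar hirr chartT chartS h) : IsClosedImmersion h := by
  classical
  refine Groth.Agent.Proj16.relProjMap_of_affineOpens hPT hPS hh @IsClosedImmersion fun U hU =>
    isClosedImmersion_map_pos _ _ ?_
  suffices key : ∀ n, Set.SurjOn (RelProj.gradedHomAt ubar hubar U hU) (𝒯.deg U hU (n + 1) : Set _)
      (𝒮.deg U hU (n + 1) : Set _) by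
    intro n hn
    obtain ⟨m, rfl⟩ := Nat.exists_eq_add_of_le' hn
    exact key m
  let φ := RelProj.gradedHomAt ubar hubar U hU
  intro n
  induction n with
  | zero =>
    intro s hs
    obtain ⟨x, hx⟩ := husurj U hU s hs
    refine ⟨_, hT.2 U hU x, ?_⟩
    exact (congrArg (fun ψ : M ⟶ 𝒮.toModule => ψ.app U x) hju).trans hx
  | succ n ih =>
    intro s hs
    have hspan : s ∈ Ideal.span (𝒮.deg U hU 1 : Set (𝒮.presheaf.obj (op U))) := by
      rw [← Groth.Agent.RelTildeX.irrelevant_eq_span_deg_one hgen U hU]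
      exact HomogeneousIdeal.mem_irrelevant_of_mem (𝒮.deg U hU) (Nat.succ_pos _) hs
    obtain ⟨k, c, t, hct⟩ := Submodule.mem_span_set'.1 hspan
    have hterm : ∀ q, (DirectSum.decompose (𝒮.deg U hU) (c q • (t q).1) (n + 1 + 1) : 𝒮.presheaf.obj (op U)) ∈
        φ '' (𝒯.deg U hU (n + 1 + 1) : Set _) := fun q => by
      rw [smul_eq_mul, DirectSum.coe_decompose_mul_of_right_mem_of_le _ (t q).2 (by omega),
        show n + 1 + 1 - 1 = n + 1 by omega]
      obtain ⟨a, ha, ea⟩ := ih (SetLike.coe_mem (DirectSum.decompose (𝒮.deg U hU) (c q) (n + 1)))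
      obtain ⟨x, hx⟩ := husurj U hU _ (t q).2
      refine ⟨a * Groth.Agent.SymAlgX.jv 𝒯.toQCAlg j U x, SetLike.mul_mem_graded ha (hT.2 U hU x), ?_⟩
      rw [map_mul, ea]
      exact congrArg _ ((congrArg (fun ψ : M ⟶ 𝒮.toModule => ψ.app U x) hju).trans hx)
    choose a ha ea using hterm
    refine ⟨∑ q, a q, sum_mem fun q _ => ha q, ?_⟩
    rw [map_sum, Finset.sum_congr rfl fun q _ => ea q, ← DirectSum.decompose_of_mem_same (𝒮.deg U hU) hs, ← hct,
      DirectSum.decompose_sum, DFinsupp.finset_sum_apply, AddSubmonoidClass.coe_finset_sum]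

end Groth.Agent.S8292
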