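import Groth.Statements.S0001
import Groth.Agent.GabberAff13.Proper
-- import your own Groth.Agent.* helpers here

set_option autoImplicit false
universe u
open EtCoh

namespace Groth.Agent.S0001

open CategoryTheory AlgebraicGeometry in
/-- Proper base change Theorem: let f : X ⟶ Y be a proper morphism, X' = Y' ×_Y X a cartesian square
with projections g' : X' ⟶ X and f' : X' ⟶ Y' over g : Y' ⟶ Y, and F a torsion abelian sheaf on the
small étale site of X. Then (1) for every q the inverse image along g of the q-th higher direct
image R^q f_* F is isomorphic to R^q f'_* (g'⁻¹ F) (only the existence of an isomorphism in each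
degree is asserted; the published statement is stronger: the canonical base change map is an
isomorphism in every degree), and (2) in degree zero the canonical base change map g⁻¹ f_* F ⟶ f'_*
g'⁻¹ F, built from the adjunctions, is an isomorphism. -/
theorem result (X Y X' Y' : Scheme.{u}) (f : X ⟶ Y) (g : Y' ⟶ Y)
    (f' : X' ⟶ Y') (g' : X' ⟶ X) (h : IsPullback g' f' f g) [IsProper f]
    (F : EtCoh.Ab X) (hF : EtCoh.IsTorsion F) :
    (∀ q : ℕ, Nonempty ((EtCoh.pull g).obj ((EtCoh.Rpush f q).obj F) ≅
      (EtCoh.Rpush f' q).obj ((EtCoh.pull g').obj F))) ∧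
    IsIso (EtCoh.baseChange0 f g f' g' h.w F) := by
  exact ⟨fun q => GabberAff13.cohCommutes_of_isProper f f' g' g h F hF q, ProperBC13.isIso_baseChange0 f g f' g' h F⟩

end Groth.Agent.S0001
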