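import Groth.Statements.S0003
import Groth.Agent.FFun.Main
import Groth.Agent.Adic7.Basic

set_option autoImplicit false
universe u
open Formal

namespace Groth.Agent.S0003

open CategoryTheory AlgebraicGeometry in
/-- The Theorem on formal functions over a complete base: let A be a Noetherian ring complete with
respect to an ideal I, X a scheme proper over Spec A and M a coherent O_X-module. Then for every p
the canonical map from H^p(X, M) to the inverse limit of the groups H^p(X, M/I^nM) is bijective.
(The general Theorem on formal functions allows any Noetherian A and asserts that the I-adic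
completion of H^p(X, M) maps bijectively onto this limit; it is stated here only for A already
complete.) -/
theorem result (A : Type u) [CommRing A] [IsNoetherianRing A] (I : Ideal A)
    [IsAdicComplete I A] (X : Scheme.{u}) [X.Over (Spec (CommRingCat.of A))]
    [IsProper (X ↘ Spec (CommRingCat.of A))] (M : X.Modules) (hM : Coh.IsCoh M) (p : ℕ) :
    Function.Bijective (Formal.toHHlim I M p) := by
  haveI : CompactSpace X := QuasiCompact.compactSpace_of_compactSpace (X ↘ Spec (CommRingCat.of A))
  haveI : IsLocallyNoetherian X := LocallyOfFiniteType.isLocallyNoetherian (X ↘ Spec (CommRingCat.of A))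
  haveI : IsNoetherian X := { __ := ‹IsLocallyNoetherian X›, __ := ‹CompactSpace X› }
  have hG := Groth.Agent.FFun.good_of_finite (X := X) (Z := Set.univ) (fun N hN q => Groth.Agent.S0002.result A X N hN.1 q) I
  haveI := Groth.Agent.S0002.result A X M hM p
  haveI := Groth.Agent.Adic7.isAdicComplete_of_finite I (Coh.HH X M p)
  have h : ⇑(Formal.toHHlim I M p) =
      ⇑(Groth.Agent.FFun.compΦ I M p) ∘ ⇑(AdicCompletion.of I (Coh.HH X M p)) :=
    funext fun x => (Groth.Agent.FFun.compΦ_of (I := I) (M := M) (p := p) x).symm
  rw [h]
  exact (Groth.Agent.FFun.compΦ_bijective (p := p) hG (Groth.Agent.FFun.inCls_univ hM)).comp (AdicCompletion.of_bijective I (Coh.HH X M p))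

end Groth.Agent.S0003
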