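import Groth.Statements.S0005
import Groth.Agent.Pi1Ext.Spread
import Groth.Agent.Pi1Ext.PuritySch
import Groth.Agent.Pi1X.FEtGlobal
import Groth.Agent.S10834

set_option autoImplicit false
universe u
open FEt

namespace Groth.Agent.S0005

open AlgebraicGeometry in
/-- An open set containing every point with zero-dimensional local ring is dense. -/
theorem dense_of_dim {X : Scheme.{u}} (U : X.Opens)
    (hU : ∀ x : X, x ∉ U → (2 : WithBot ℕ∞) ≤ ringKrullDim (X.presheaf.stalk x)) : Dense (U : Set X) := by
  intro x
  have hirr := isIrreducible_irreducibleComponent (x := x)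
  have hη : IsGenericPoint hirr.genericPoint (irreducibleComponent x) :=
    hirr.isGenericPoint_genericPoint isClosed_irreducibleComponent
  have hspec : hirr.genericPoint ⤳ x := hη.specializes mem_irreducibleComponent
  have hmax : ∀ y, y ⤳ hirr.genericPoint → y = hirr.genericPoint := fun y hy => by
    have hcl : irreducibleComponent x ⊆ closure {y} := by
      rw [← hη.def]
      exact closure_minimal (Set.singleton_subset_iff.2 (hy.mem_closure)) isClosed_closure
    have heq : closure {y} = irreducibleComponent x :=
      (irreducibleComponent_property x).2.2 _ isIrreducible_singleton.closure.2 hcl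
    exact (show IsGenericPoint y (irreducibleComponent x) from heq).eq hη
  have hmem : hirr.genericPoint ∈ U := by
    by_contra hn
    haveI : Subsingleton (PrimeSpectrum (X.presheaf.stalk hirr.genericPoint)) := ⟨fun a b =>
      (X.fromSpecStalk hirr.genericPoint).isEmbedding.injective
        ((hmax _ ((Scheme.range_fromSpecStalk (X := X)).subset ⟨a, rfl⟩)).trans
          (hmax _ ((Scheme.range_fromSpecStalk (X := X)).subset ⟨b, rfl⟩)).symm)⟩
    have h0 : ringKrullDim (X.presheaf.stalk hirr.genericPoint) ≤ 0 := Order.krullDim_nonpos_of_subsingleton
    exact absurd ((hU _ hn).trans h0) (by decide)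
  exact closure_mono (Set.singleton_subset_iff.2 hmem) hspec.mem_closure

open CategoryTheory AlgebraicGeometry in
/-- Purity for finite étale covers, global form: let X be a Noetherian scheme all of whose local rings
are regular and U ⊆ X an open subscheme such that every point of X outside U has local ring of Krull
dimension at least 2. Then restriction of finite étale covers from X to U is an equivalence of
categories. -/
theorem result (X : Scheme.{u}) [IsNoetherian X]
    (hreg : ∀ x : X, IsRegularLocalRing (X.presheaf.stalk x)) (U : X.Opens)
    (hU : ∀ x : X, x ∉ U → (2 : WithBot ℕ∞) ≤ ringKrullDim (X.presheaf.stalk x)) :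
    (FEt.restrict U.ι).IsEquivalence := by
  have hd := dense_of_dim U hU
  obtain ⟨hfull, hfaith⟩ := Groth.Agent.Pi1X.restrict_open_full_faithful U hd fun x hx => by
    haveI := hreg x
    have h := hU x hx
    rw [← Groth.Agent.S10834.depth_of_regular] at h
    exact WithBot.coe_le_coe.1 h
  haveI : (FEt.restrict U.ι).EssSurj := ⟨fun V => Groth.Agent.Pi1Ext.Spread.exists_extend_all
    {x | FEt.PurityHolds (X.presheaf.stalk x)}
    (fun U' V' x hx hxS hmin => Groth.Agent.Pi1Ext.Spread.exists_local_extension U' V' x hxS hx hmin) U
    (fun x hx => by
      haveI := hreg x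
      exact Groth.Agent.Pi1Ext.PuritySch.purityHolds_of_regular _ (hU x hx)) V⟩
  exact { }

end Groth.Agent.S0005
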