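import Groth.Statements.S0006
import Groth.Agent.PicCurve.Chart
import Groth.Agent.EllLaw.Field
import Groth.Agent.S1170
import Groth.Agent.S6487
import Groth.Agent.S6463

set_option autoImplicit false
universe u
set_option backward.isDefEq.respectTransparency false
set_option backward.isDefEq.respectTransparency.types false
set_option linter.style.haveILetI false
set_option maxHeartbeats 1000000
open PicF

namespace Groth.Agent.S0006

open CategoryTheory AlgebraicGeometry in
/-- Representability of the rigidified Picard functor of a curve: let k be a separably closed field, X a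
smooth proper curve over k and σ a k-point of X. Then the functor sending a k-scheme T to the
isomorphism classes of invertible modules on X ×_k T whose pullback along the induced section σ_T :
T → X ×_k T is trivial is representable: there are a k-scheme P and a universal such class on X ×_k
P, every such class over any T being the pullback of the universal one along a unique k-morphism T →
P. (The published statement is for smooth projective curves, which over a field are the same as
smooth proper curves, and concerns the Picard functor Pic_{X/k}, the fppf sheafification of T ↦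
Pic(X_T); since H^0(X, O_X) = k holds universally for such X, Pic_{X/k} is isomorphic to the
rigidified functor used here.) -/
theorem result (k : Type u) [Field k] [IsSepClosed k] (X : Scheme.{u})
    (f : X ⟶ Spec (CommRingCat.of k)) (hX : Curve.IsSmoothProperCurve k X f)
    (σ : Spec (CommRingCat.of k) ⟶ X) (hσ : σ ≫ f = 𝟙 (Spec (CommRingCat.of k))) :
    PicF.RigRepresentable f σ hσ := by
  obtain ⟨hp, hs, hi, hdim⟩ := id hX
  haveI := hp
  haveI := hs
  haveI := hi
  haveI : GeometricallyConnected f := Groth.Agent.EllLaw.geometricallyConnected_of_point f σ hσ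
  haveI : SmoothOfRelativeDimension 1 f :=
    Groth.Agent.CurveFin.smoothOfRelativeDimension_of_dim f (by exact_mod_cast hdim)
  haveI := Groth.Agent.PicTangent.JacDeg.geometricallyIntegral f
  haveI : GeometricallyIrreducible f := inferInstance
  let s₀ : ↥(Spec (CommRingCat.of k)) := (IsLocalRing.closedPoint k : PrimeSpectrum k)
  have hn : ∀ s, CohIII.fiberRank f (Coh.structureModule X) 1 s =
      CohIII.fiberRank f (Coh.structureModule X) 1 s₀ := fun s => by
    haveI : Subsingleton ↥(Spec (CommRingCat.of k)) := inferInstanceAs (Subsingleton (PrimeSpectrum k))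
    rw [Subsingleton.elim s s₀]
  obtain ⟨H, Z, hZ, -, -⟩ :=
    Groth.Agent.S1170.result k X f hX (CohIII.fiberRank f (Coh.structureModule X) 1 s₀)
  have ha : ∀ (T : Over (Spec (CommRingCat.of k))) (U : T.left.Opens), IsIso ((PicF.XTproj f T).app U) := fun T U => by
    haveI := Groth.Agent.S6463.result k X f hX σ hσ T.left T.hom
    exact inferInstanceAs (IsIso ((Limits.pullback.snd f T.hom).app U))
  refine Groth.Agent.PicCurve.rigRepresentable f σ hσ hn Z hZ ha fun T c hc t => ?_
  obtain ⟨Ω, _, _, p, rfl⟩ := Groth.Agent.PicTangent.JacProper.exists_geomPoint t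
  let b : Spec (CommRingCat.of Ω) ⟶ Spec (CommRingCat.of k) := p ≫ T.hom
  let a : Over.mk b ⟶ T := Over.homMk p rfl
  letI : Algebra k Ω := (Spec.preimage b).hom.toAlgebra
  have hb : Spec.map (CommRingCat.ofHom (algebraMap k Ω)) = b := Spec.map_preimage b
  letI : X.Over (Spec (CommRingCat.of k)) := ⟨f⟩
  letI := Groth.Agent.PicTangent.JacDiff.overX f b
  obtain ⟨M, hMc, hM⟩ := Groth.Agent.PicClLib.isInvertibleCl_pullCl (PicF.XTmap f a) hc
  obtain ⟨L₀, hL₀, h0, h1⟩ := Groth.Agent.S6487.result k X hX Ω (PicF.XT f (Over.mk b))
    (Limits.pullback.fst f b) (by rw [hb]; exact IsPullback.of_hasPullback f b) M hM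
  refine ⟨PicF.cl L₀, ⟨L₀, rfl, hL₀⟩, (Groth.Agent.PicCurve.goodAt_iff_geom f
    (Groth.Agent.H23.PicMul.isInvertibleCl_mul hc
      (Groth.Agent.PicClLib.isInvertibleCl_pullCl _ ⟨L₀, rfl, hL₀⟩)) a).2 ?_⟩
  refine ⟨_, ?_, h0, Module.finrank_zero_of_subsingleton⟩
  rw [Groth.Agent.H23.PicMul.pullCl_mul, Groth.Agent.H23.PicMul.cl_tensor, hMc,
    show pullCl (XTmap f a) (pullCl (Limits.pullback.fst f T.hom) (cl L₀)) = pullCl (Limits.pullback.fst f b) (cl L₀)
      from Groth.Agent.PicCurve.pull_fromX f a (cl L₀)]
  rfl

end Groth.Agent.S0006
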