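import Groth.Statements.S0008
import Groth.Agent.QCoh.CechStd
import Groth.Agent.QCoh.Ab.CechBridge
set_option autoImplicit false
universe u
open Coherent

namespace Groth.Agent.S0008

open AlgebraicGeometry in
/-- For a ring A, an A-module M and elements f_1, …, f_n generating the unit ideal, the Čech cohomology
of the associated module on Spec A with respect to the covering by the basic opens D(f_i) vanishes
in every positive degree. -/
theorem result (A : Type u) [CommRing A] (M : ModuleCat.{u} A)
    (n : ℕ) (f : ULift.{u} (Fin n) → A) (hf : Ideal.span (Set.range f) = ⊤) (p : ℕ) (hp : 0 < p) :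
    CategoryTheory.Limits.IsZero (CohB1.cechH (fun i => PrimeSpectrum.basicOpen (f i)) (tilde (R := CommRingCat.of A) M) p) := by
  obtain ⟨k, rfl⟩ := Nat.exists_eq_add_of_lt hp
  rw [Nat.zero_add]
  refine HomologicalComplex.ExactAt.isZero_homology
    ((Groth.Agent.QCoh.Ab.exactAt_iff_acyclic _ _).2 ?_ k)
  let g : ULift.{u} (Fin n) → Γ(Spec (CommRingCat.of A), ⊤) :=
    fun i => (Scheme.ΓSpecIso (CommRingCat.of A)).inv (f i)
  have hg : Ideal.span (Set.range g) = ⊤ := by
    have := congrArg (Ideal.map (Scheme.ΓSpecIso (CommRingCat.of A)).inv.hom) hf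
    rwa [Ideal.map_span, Ideal.map_top, ← Set.range_comp] at this
  have hU : (fun i => PrimeSpectrum.basicOpen (f i) : ULift.{u} (Fin n) → _) =
      fun i => (Spec (CommRingCat.of A)).basicOpen (g i) := funext fun i => by
    simp [g, basicOpen_eq_of_affine]
  rw [hU]
  exact Groth.Agent.QCoh.acyclic_std inferInstance (isAffineOpen_top _) g hg

end Groth.Agent.S0008
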