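import Groth.Statements.S0011
import Groth.Agent.AmpleVan.Kill

set_option autoImplicit false
universe u
open Coherent

namespace Groth.Agent.S0011
open CategoryTheory CategoryTheory.Limits AlgebraicGeometry TopologicalSpace Opposite
attribute [local instance] Abelian.hasFiniteBiproducts


open AlgebraicGeometry CategoryTheory in
/-- On a quasi-compact scheme in which affine opens have affine intersections, every quasi-coherent
module admits a monomorphism into a quasi-coherent module whose cohomology vanishes in all positive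
degrees. (Part (2), universality of the delta-functor, is not stated.) -/
theorem result (X : Scheme.{u}) [CompactSpace X]
    (hd : ∀ V W : X.Opens, IsAffineOpen V → IsAffineOpen W → IsAffineOpen (V ⊓ W))
    (M : X.Modules) [Coh.IsQCoh M] :
    ∃ (M' : X.Modules) (i : M ⟶ M'), Mono i ∧ Coh.IsQCoh M' ∧
      ∀ p : ℕ, 0 < p → Subsingleton (Coh.HH X M' p) := by

    have hM : Coh.IsQCoh M := ‹_›
    obtain ⟨s, hs, hcov⟩ := isCompact_iff_finite_and_eq_biUnion_affineOpens.mp
      (show IsCompact ((⊤ : X.Opens) : Set X) by simpa using isCompact_univ)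
    haveI := hs.to_subtype
    haveI := Fintype.ofFinite s
    have hcov' : ∀ x : X, ∃ i : s, x ∈ i.1.1 := fun x => by
      have hx : x ∈ (⊤ : X.Opens) := trivial
      rw [hcov] at hx
      obtain ⟨V, hV, hxV⟩ := by simpa only [Opens.mem_iSup, exists_prop] using hx
      exact ⟨⟨V, hV⟩, hxV⟩
    haveI : ∀ i : s, IsAffineHom i.1.1.ι := fun i =>
      ⟨fun V hV => by
        rw [← i.1.1.ι.isAffineOpen_iff_of_isOpenImmersion, Scheme.Hom.image_preimage_eq_opensRange_inf,
          Scheme.Opens.opensRange_ι]
        exact hd _ _ i.1.2 hV⟩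
    let T : s → X.Modules := fun i => (Scheme.Modules.pushforward i.1.1.ι).obj (M.restrict i.1.1.ι)
    refine ⟨⨁ T, biproduct.lift fun i => (Scheme.Modules.restrictAdjunction i.1.1.ι).unit.app M, ?_,
      QCoh.isQCoh_biproduct T fun i => QCoh.isQCoh_pushforward _ (QCoh.isQCoh_restrict _ hM), fun q hq => ?_⟩
    · refine Preadditive.mono_of_cancel_zero _ fun {Z} g hg => ?_
      refine H23.ModLoc.hom_ext_of_locally g 0 fun x => ?_
      obtain ⟨i, hi⟩ := hcov' x
      refine ⟨i.1.1, hi, ?_⟩
      let adj := Scheme.Modules.restrictAdjunction i.1.1.ι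
      have h : g ≫ adj.unit.app M = 0 := by
        have := congrArg (· ≫ biproduct.π T i) hg
        rwa [Category.assoc, biproduct.lift_π, zero_comp] at this
      rw [Functor.map_zero]
      have h2 := adj.left_triangle_components M
      rw [← Category.comp_id ((Scheme.Modules.restrictFunctor i.1.1.ι).map g)]
      refine (congrArg ((Scheme.Modules.restrictFunctor i.1.1.ι).map g ≫ ·) h2.symm).trans ?_
      rw [← Category.assoc, ← Functor.map_comp, h, Functor.map_zero, zero_comp]
    · obtain ⟨q, rfl⟩ : ∃ r, q = r + 1 := ⟨q - 1, by omega⟩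
      refine PnCoh.Finite.subsingleton_HH_of_decomposition T (fun i => biproduct.π T i)
        (fun i => biproduct.ι T i) (QCoh.biproduct_total' T) (q + 1) fun i => ?_
      obtain ⟨e⟩ := QCoh.HH_push_of_isAffineHom i.1.1.ι (QCoh.isQCoh_restrict i.1.1.ι hM) (q + 1)
      have h : Subsingleton (Coh.HH i.1.1.toScheme (M.restrict i.1.1.ι) (q + 1)) :=
        QCoh.subsingleton_HH_restrict _ M q (by
          rw [Scheme.Opens.opensRange_ι]
          exact QCoh.subsingleton_HU_of_isAffineOpen hM i.1.2 q)
      exact e.symm.toEquiv.subsingleton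

end Groth.Agent.S0011
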