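import Groth.Statements.S0015
open TopologicalSpace

set_option autoImplicit false
universe u
open Coherent

namespace Groth.Agent.S0015

open AlgebraicGeometry in
/-- Let X be quasi-compact and quasi-separated and P a property of opens of X. If P holds for affine
opens, and P(U ∪ V) follows from P(U), P(V), P(U ∩ V) whenever U is quasi-compact open and V affine
open, then P holds for every quasi-compact open, in particular for X. -/
theorem result (X : Scheme.{u}) [CompactSpace X] [QuasiSeparatedSpace X]
    (P : X.Opens → Prop) (h₁ : ∀ U : X.Opens, IsAffineOpen U → P U)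
    (h₂ : ∀ U V : X.Opens, IsCompact (U : Set X) → IsAffineOpen V → P U → P V → P (U ⊓ V) →
      P (U ⊔ V))
    (U : X.Opens) (hU : IsCompact (U : Set X)) : P U := by
  have key : ∀ (V : X.Opens), IsAffineOpen V → ∀ (s : Finset Γ(X, V)) (g : Γ(X, V)),
      P (s.sup fun f => X.basicOpen (g * f)) := by
    intro V hV s
    classical
    induction s using Finset.induction with
    | empty => exact fun g => h₁ _ (by simpa using isAffineOpen_bot X)
    | @insert f s hf ih =>
      intro g
      rw [Finset.sup_insert, sup_comm]
      refine h₂ _ _ ?_ (hV.basicOpen _) (ih g) (h₁ _ (hV.basicOpen _)) ?_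
      · rw [Finset.sup_eq_iSup]
        simp only [Opens.coe_iSup]
        exact s.finite_toSet.isCompact_biUnion fun i _ => (hV.basicOpen _).isCompact
      · have : (s.sup fun x => X.basicOpen (g * x)) ⊓ X.basicOpen (g * f) =
            s.sup fun x => X.basicOpen (g * f * x) := by
          rw [Finset.sup_inf_distrib_right]
          refine Finset.sup_congr rfl fun x _ => ?_
          simp only [Scheme.basicOpen_mul]
          ac_rfl
        rw [this]
        exact ih (g * f)
  have key' : ∀ (V : X.Opens), IsAffineOpen V → ∀ W : X.Opens, IsCompact (W : Set X) → W ≤ V →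
      P W := by
    intro V hV W hW hle
    choose f hf hfx using fun x : W => hV.exists_basicOpen_le x (hle x.2)
    obtain ⟨s, hs⟩ := hW.elim_finite_subcover (fun x : W => (X.basicOpen (f x) : Set X))
      (fun x => (X.basicOpen (f x)).2) (fun x hx => Set.mem_iUnion.2 ⟨⟨x, hx⟩, hfx ⟨x, hx⟩⟩)
    classical
    have heq : W = (s.image f).sup fun y => X.basicOpen (1 * y) := by
      simp only [one_mul, Finset.sup_image, Function.comp_def]
      refine le_antisymm (fun x hx => ?_) (Finset.sup_le fun y _ => hf y)
      rw [Finset.sup_eq_iSup]
      simpa [Opens.mem_iSup] using hs hx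
    rw [heq]
    exact key V hV _ 1
  refine compact_open_induction_on U hU (h₁ _ (isAffineOpen_bot X)) fun S hS V hP => ?_
  exact h₂ _ _ hS V.2 hP (h₁ _ V.2)
    (key' V.1 V.2 _ (QuasiSeparatedSpace.inter_isCompact _ _ S.2 hS V.1.2 V.2.isCompact) inf_le_right)

end Groth.Agent.S0015
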