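import Groth.Statements.S0016
import Groth.Agent.QCoh.Bound
set_option autoImplicit false
universe u
open Coherent

namespace Groth.Agent.S0016

open AlgebraicGeometry in
/-- For a quasi-compact quasi-separated scheme X there is a natural number d such that H^p(X, F) = 0 for
every quasi-coherent F and every p ≥ d; vanishing is stated as Subsingleton of the cohomology group.
(The published statement gives an explicit d in terms of a covering by quasi-compact separated
opens; here only existence of some d is asserted.) -/
theorem result (X : Scheme.{u}) [CompactSpace X]
    [QuasiSeparatedSpace X] :
    ∃ d : ℕ, ∀ (M : X.Modules), Coh.IsQCoh M → ∀ p : ℕ, d ≤ p → Subsingleton (Coh.HH X M p) := by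
  exact Groth.Agent.QCoh.exists_HH_bound

end Groth.Agent.S0016
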