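import Groth.Statements.S0022
import Groth.Agent.PnCoh.Sections
import Groth.Agent.QCoh.Bound

set_option autoImplicit false
universe u
open Coherent

namespace Groth.Agent.S0022

open AlgebraicGeometry in
/-- For any ring R, any quasi-coherent module F on projective space ℙ^n_R and any i > n, H^i(ℙ^n_R, F) =
0. (The published statement is for coherent modules over a Noetherian ring; it is stated here for
quasi-coherent modules over any ring.) -/
theorem result (n : ℕ) (R : Type u) [CommRing R]
    (M : (CohB1.ProjSpace n R).Modules) [Coh.IsQCoh M] (i : ℕ) (hi : n < i) :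
    Subsingleton (Coh.HH (CohB1.ProjSpace n R) M i) := by
  letI := MvPolynomial.gradedAlgebra (σ := Fin (n + 1)) (R := R)
  exact Groth.Agent.QCoh.HH_subsingleton_of_cover (X := CohB1.ProjSpace n R) (n + 1)
    (fun i => Groth.Agent.PnCoh.mOpen R (Finsupp.single i 1))
    (fun i => Groth.Agent.PnCoh.isAffineOpen_mOpen (Finsupp.single_ne_zero.2 one_ne_zero))
    Groth.Agent.PnCoh.iSup_mOpen_single
    (fun V W hV hW => by
      haveI : Scheme.IsSeparated (Proj (MvPolynomial.homogeneousSubmodule (Fin (n + 1)) R)) := by
        infer_instance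
      exact IsAffineOpen.inf (X := Proj (MvPolynomial.homogeneousSubmodule (Fin (n + 1)) R)) hV hW)
    (inferInstanceAs (Coh.IsQCoh M)) i hi

end Groth.Agent.S0022
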