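import Groth.Statements.S0026
import Groth.Agent.QCoh.Filtration

set_option autoImplicit false
universe u
open Coherent

namespace Groth.Agent.S0026

open AlgebraicGeometry CategoryTheory CategoryTheory.Limits in
/-- On a Noetherian scheme X, every coherent module M admits a finite chain 0 = F_0 → F_1 → … → F_m ≅ M
of monomorphisms between coherent modules such that each quotient F_{j+1}/F_j is isomorphic to the
direct image of a nonzero quasi-coherent ideal sheaf of some integral closed subscheme Z_j → X.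
(Filtration written as a chain of monomorphisms up to isomorphism.) -/
theorem result (X : Scheme.{u}) [IsNoetherian X]
    (M : X.Modules) (hM : Coh.IsCoh M) :
    ∃ (m : ℕ) (F : ℕ → X.Modules) (φ : (j : ℕ) → (F j ⟶ F (j + 1))),
      IsZero (F 0) ∧ Nonempty (F m ≅ M) ∧ (∀ j ≤ m, Coh.IsCoh (F j)) ∧ ∀ j < m, Mono (φ j) ∧
        ∃ (Z : Scheme.{u}) (i : Z ⟶ X), IsClosedImmersion i ∧ IsIntegral Z ∧
          ∃ (I : Z.Modules) (ι : I ⟶ Coh.structureModule Z), Mono ι ∧ Coh.IsQCoh I ∧ ¬ IsZero I ∧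
            Nonempty (cokernel (φ j) ≅ (Coh.push i).obj I) := by
  have key : ∀ {M' : X.Modules}, Groth.Agent.QCoh.Filt M' → ∀ (m : ℕ) (G : ℕ → X.Modules)
      (ψ : (j : ℕ) → (G j ⟶ G (j + 1))), Nonempty (G 0 ≅ M') → Nonempty (G m ≅ M) →
      (∀ j ≤ m, Coh.IsCoh (G j)) → (∀ j < m, Mono (ψ j) ∧
        ∃ (Z : Scheme.{u}) (i : Z ⟶ X), IsClosedImmersion i ∧ IsIntegral Z ∧
          ∃ (I : Z.Modules) (ι : I ⟶ Coh.structureModule Z), Mono ι ∧ Coh.IsQCoh I ∧ ¬ IsZero I ∧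
            Nonempty (cokernel (ψ j) ≅ (Coh.push i).obj I)) →
      ∃ (m : ℕ) (F : ℕ → X.Modules) (φ : (j : ℕ) → (F j ⟶ F (j + 1))),
        IsZero (F 0) ∧ Nonempty (F m ≅ M) ∧ (∀ j ≤ m, Coh.IsCoh (F j)) ∧ ∀ j < m, Mono (φ j) ∧
          ∃ (Z : Scheme.{u}) (i : Z ⟶ X), IsClosedImmersion i ∧ IsIntegral Z ∧
            ∃ (I : Z.Modules) (ι : I ⟶ Coh.structureModule Z), Mono ι ∧ Coh.IsQCoh I ∧ ¬ IsZero I ∧
              Nonempty (cokernel (φ j) ≅ (Coh.push i).obj I) := by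
    intro M' hf
    induction hf with
    | zero h =>
      intro m G ψ e he hc hs
      exact ⟨m, G, ψ, h.of_iso e.some, he, hc, hs⟩
    | @step N M'' φ _ hN hNc _ hex ih =>
      intro m G ψ e he hc hs
      obtain ⟨Z, i, hi, hZ, I, ι, hι, hI, hI0, ⟨e'⟩⟩ := hex
      refine ih (m + 1) (fun j => match j with | 0 => N | j + 1 => G j)
        (fun j => match j with | 0 => φ ≫ e.some.inv | j + 1 => ψ j) ⟨Iso.refl _⟩ he ?_ ?_
      · rintro (_ | j) hj
        · exact hNc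
        · exact hc j (Nat.le_of_succ_le_succ hj)
      · rintro (_ | j) hj
        · exact ⟨mono_comp _ _, Z, i, hi, hZ, I, ι, hι, hI, hI0,
            ⟨cokernelCompIsIso φ e.some.inv ≪≫ e'⟩⟩
        · exact hs j (Nat.lt_of_succ_lt_succ hj)
  exact key (Groth.Agent.QCoh.filt_of_isCoh hM) 0 (fun _ => M) (fun _ => 𝟙 M) ⟨Iso.refl _⟩ ⟨Iso.refl _⟩
    (fun _ _ => hM) (fun j hj => absurd hj (Nat.not_lt_zero j))

end Groth.Agent.S0026
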