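import Groth.Statements.S0027
import Groth.Agent.QCoh.Filtration

set_option autoImplicit false
universe u
open Coherent

namespace Groth.Agent.S0027

open AlgebraicGeometry CategoryTheory CategoryTheory.Limits in
/-- Let X be a nonempty Noetherian scheme and P an isomorphism-invariant property of O_X-modules such
that (1) in a short exact sequence of coherent modules, P for the two outer terms implies P for the
middle term, and (2) P holds for the direct image of every quasi-coherent ideal sheaf of every
integral closed subscheme of X. Then P holds for every coherent O_X-module. (Nonemptiness of X is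
needed for the zero module; the published statement leaves it implicit.) -/
theorem result (X : Scheme.{u}) [IsNoetherian X] [Nonempty X]
    (P : X.Modules → Prop) (hP : ∀ M N : X.Modules, Nonempty (M ≅ N) → P M → P N)
    (h₁ : ∀ S : ShortComplex X.Modules, S.ShortExact → Coh.IsCoh S.X₁ → Coh.IsCoh S.X₂ →
      Coh.IsCoh S.X₃ → P S.X₁ → P S.X₃ → P S.X₂)
    (h₂ : ∀ (Z : Scheme.{u}) (i : Z ⟶ X), IsClosedImmersion i → IsIntegral Z →
      ∀ (I : Z.Modules) (ι : I ⟶ Coh.structureModule Z), Mono ι → Coh.IsQCoh I →
        P ((Coh.push i).obj I))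
    (M : X.Modules) (hM : Coh.IsCoh M) : P M := by
  induction Groth.Agent.QCoh.filt_of_isCoh hM with
  | @zero M h =>
    let ξ : X := Classical.arbitrary X
    haveI := Groth.Agent.QCoh.isIntegral_closure_point (X := X) ξ
    let Z := (Scheme.IdealSheafData.vanishingIdeal (TopologicalSpace.Closeds.closure {ξ})).subscheme
    have hz : Limits.IsZero (Limits.kernel (𝟙 (Coh.structureModule Z))) := Limits.isZero_kernel_of_mono _
    refine hP _ _ ⟨Limits.IsZero.iso ?_ h⟩ (h₂ Z (Scheme.IdealSheafData.subschemeι _) inferInstance
      inferInstance _ (Limits.kernel.ι (𝟙 _)) inferInstance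
      (Groth.Agent.QCoh.isQCoh_kernel Groth.Agent.QCoh.isQCoh_structureModule
        Groth.Agent.QCoh.isQCoh_structureModule _))
    exact Functor.map_isZero _ hz
  | @step N M' φ _ _ hNc hMc hex ih =>
    obtain ⟨Z, i, hi, hZ, I, ι, hι, hI, -, ⟨e⟩⟩ := hex
    have hc := Groth.Agent.QCoh.isCoh_cokernel hNc.1 hMc φ
    refine h₁ (ShortComplex.mk φ (Limits.cokernel.π φ) (Limits.cokernel.condition φ))
      (.mk' (ShortComplex.exact_of_g_is_cokernel _ (Limits.cokernelIsCokernel φ)) ‹_› inferInstance)
      hNc hMc hc (ih hNc) ?_
    exact hP _ _ ⟨e.symm⟩ (h₂ Z i hi hZ I ι hι hI)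

end Groth.Agent.S0027
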