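import Groth.Statements.S0037
import Groth.Agent.AmpleVan.FibreDim
set_option autoImplicit false
universe u
open Coherent

namespace Groth.Agent.S0037

open AlgebraicGeometry CategoryTheory in
/-- Let Y be locally Noetherian, f : X → Y proper and y a point whose fibre f⁻¹{y} is finite. Then for
every coherent F on X and every p > 0 the stalk of R^p f_* F at y vanishes. -/
theorem result {X Y : Scheme.{u}} (f : X ⟶ Y) [IsProper f]
    [IsLocallyNoetherian Y] (y : Y) (hy : (f.base ⁻¹' {y}).Finite) (M : X.Modules) (hM : Coh.IsCoh M)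
    (p : ℕ) (hp : 0 < p) :
    Limits.IsZero (TopCat.Presheaf.stalk ((Coh.RpushAb f p).obj (Coh.toAb M)).obj y) := by
  exact Groth.Agent.AmpleVan.FibreVanish.isZero_stalk_RpushAb_of_fibre_dim f y 0 (Groth.Agent.AmpleVan.FibreVanish.dim_le_of_finite f y hy) hM p hp

end Groth.Agent.S0037
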