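import Groth.Statements.S0039
import Groth.Agent.ExistSep.Morph
import Groth.Agent.AmpleVan.FibreVanish
import Groth.Agent.AmpleVan.AdicBase
set_option autoImplicit false
universe u
open Coherent

namespace Groth.Agent.S0039
set_option backward.isDefEq.respectTransparency false
set_option backward.isDefEq.respectTransparency.types false
open Groth.Agent


open AlgebraicGeometry CategoryTheory CategoryTheory.Limits in
/-- Let A be Noetherian and complete for an ideal I, X proper over A and Y separated of finite type over
A. Write X_n, Y_n for the base changes to A/I^(n+1). Then every system of morphisms g_n : X_n → Y_n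
over A/I^(n+1), compatible with the transition maps, is induced by a morphism X → Y over A. (The
published statement also asserts uniqueness, but only existence is stated here.) -/
theorem result (A : Type u) [CommRing A] [IsNoetherianRing A]
    (I : Ideal A) [IsAdicComplete I A] {X Y : Scheme.{u}} (f : X ⟶ Spec (CommRingCat.of A))
    (h : Y ⟶ Spec (CommRingCat.of A)) [IsProper f] [IsSeparated h] [LocallyOfFiniteType h]
    [QuasiCompact h] (g : (n : ℕ) → (CohB1.thick f I n ⟶ CohB1.thick h I n))
    (hg₁ : ∀ n, g n ≫ CohB1.thickToBase h I n = CohB1.thickToBase f I n)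
    (hg₂ : ∀ n, CohB1.thickTrans f I n ≫ g (n + 1) = g n ≫ CohB1.thickTrans h I n) :
    ∃ φ : X ⟶ Y, φ ≫ h = f ∧ ∀ n, CohB1.thickι f I n ≫ φ = g n ≫ CohB1.thickι h I n := by
  letI : (pullback f h).Over (Spec (CommRingCat.of A)) := ⟨pullback.fst f h ≫ f⟩
  haveI : IsSeparated (pullback f h ↘ Spec (CommRingCat.of A)) := inferInstanceAs (IsSeparated (pullback.fst f h ≫ f))
  haveI : LocallyOfFiniteType (pullback f h ↘ Spec (CommRingCat.of A)) := inferInstanceAs (LocallyOfFiniteType (pullback.fst f h ≫ f))
  haveI : QuasiCompact (pullback f h ↘ Spec (CommRingCat.of A)) := inferInstanceAs (QuasiCompact (pullback.fst f h ≫ f))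
  haveI : ∀ n, IsClosedImmersion (CohB1.specQuot I n) := fun n => IsClosedImmersion.spec_of_surjective _ Ideal.Quotient.mk_surjective
  haveI : ∀ n, IsClosedImmersion (CohB1.thickι f I n) := fun n =>
    MorphismProperty.pullback_fst (P := @IsClosedImmersion) _ _ inferInstance
  have hw : ∀ n, CohB1.thickι f I n ≫ f = (g n ≫ CohB1.thickι h I n) ≫ h := fun n => by
    rw [Category.assoc, pullback.condition, pullback.condition, ← Category.assoc (g n), hg₁]
  let c : ∀ n, CohB1.thick f I n ⟶ pullback f h := fun n =>
    pullback.lift (CohB1.thickι f I n) (g n ≫ CohB1.thickι h I n) (hw n)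
  have hcf : ∀ n, c n ≫ pullback.fst f h = CohB1.thickι f I n := fun n => pullback.lift_fst _ _ _
  have hcs : ∀ n, c n ≫ pullback.snd f h = g n ≫ CohB1.thickι h I n := fun n => pullback.lift_snd _ _ _
  haveI : ∀ n, IsClosedImmersion (c n) := fun n => by
    haveI : IsClosedImmersion (c n ≫ pullback.fst f h) := by rw [hcf]; infer_instance
    exact IsClosedImmersion.of_comp (c n) (pullback.fst f h)
  have hcq : ∀ n, c n ≫ (pullback.fst f h ≫ f) = CohB1.thickToBase f I n ≫ CohB1.specQuot I n := fun n => by
    rw [← Category.assoc, hcf, pullback.condition]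
  have htc : ∀ n, CohB1.thickTrans f I n ≫ c (n + 1) = c n := fun n => by
    apply pullback.hom_ext
    · rw [Category.assoc, hcf, hcf, AmpleVan.FibreVanish.thickTrans_ι f I n]
    · rw [Category.assoc, hcs, hcs, ← Category.assoc, hg₂, Category.assoc, AmpleVan.FibreVanish.thickTrans_ι h I n]
  have sq : ∀ n, IsPullback (CohB1.thickTrans f I n) (CohB1.thickToBase f I n) (c (n + 1) ≫ (pullback.fst f h ≫ f))
      (CohB1.specQuot I n) := fun n => by
    have h' := (AmpleVan.FibreVanish.cart f I n).paste_vert
      (AmpleVan.AdicSys.square_of_mono (CohB1.specQuotTrans I n) (CohB1.specQuot I n)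
        (CohB1.specQuot I (n + 1)) (CohB1.specQuotTrans_specQuot I n))
    rw [Category.comp_id, ← hcq] at h'
    exact h'
  have hp : IsProper (c 0 ≫ (pullback.fst f h ≫ f)) := by
    rw [← Category.assoc, hcf]; infer_instance
  obtain ⟨W, ι, w, hι, hW, -, h2, h3⟩ := ExistSep.exists_closedAlg_sep I (pullback f h) (CohB1.thick f I)
    (CohB1.thickTrans f I) c (CohB1.thickToBase f I) hcq htc sq hp
  let π := ι ≫ pullback.fst f h
  have e : π ≫ f = ι ≫ (pullback.fst f h ≫ f) := Category.assoc _ _ _
  haveI : IsProper (π ≫ f) := by rw [e]; exact hW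
  haveI : IsIso π := ExistSep.isIso_of_levels I f π w (fun n => by
    show w n ≫ ι ≫ _ = _
    rw [← Category.assoc, h2, hcf]) (fun n => by rw [e]; exact h3 n)
  refine ⟨inv π ≫ ι ≫ pullback.snd f h, ?_, fun n => ?_⟩
  · rw [Category.assoc, Category.assoc, ← pullback.condition, ← e, IsIso.inv_hom_id_assoc]
  · have h4 : CohB1.thickι f I n = w n ≫ π := by
      show _ = w n ≫ ι ≫ _
      rw [← Category.assoc, h2, hcf]
    rw [h4, Category.assoc, IsIso.hom_inv_id_assoc, ← Category.assoc, h2, hcs]

end Groth.Agent.S0039
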