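import Groth.Statements.S0041
import Groth.Agent.H9Misc.AlgFinite
-- import your own Groth.Agent.* helpers here

set_option autoImplicit false
universe u
open Coherent

namespace Groth.Agent.S0041
set_option backward.isDefEq.respectTransparency false
set_option backward.isDefEq.respectTransparency.types false

open AlgebraicGeometry CategoryTheory CategoryTheory.Limits in
/-- Let A be a Noetherian ring complete with respect to an ideal I, X a scheme separated and of finite
type over Spec A, and X_n = X ×_{Spec A} Spec(A/I^{n+1}) with the closed immersions X_n → X_{n+1}.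
Suppose given schemes Y_n with finite morphisms Y_n → X_n and morphisms Y_n → Y_{n+1} making each
square over X_n → X_{n+1} cartesian, such that Y_0 is proper over Spec(A/I). Then there are a scheme
W, a finite morphism W → X with W proper over Spec A, and morphisms Y_n → W compatible with the
transitions which identify each Y_n with W ×_X X_n. -/
theorem result (A : Type u) [CommRing A] [IsNoetherianRing A]
    (I : Ideal A) [IsAdicComplete I A] {X : Scheme.{u}} (f : X ⟶ Spec (CommRingCat.of A))
    [IsSeparated f] [LocallyOfFiniteType f] [QuasiCompact f]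
    (Y : ℕ → Scheme.{u}) (y : (n : ℕ) → (Y n ⟶ CohB1.thick f I n)) (t : (n : ℕ) → (Y n ⟶ Y (n + 1)))
    (hy : ∀ n, IsFinite (y n))
    (ht : ∀ n, IsPullback (t n) (y n) (y (n + 1)) (CohB1.thickTrans f I n))
    (hp : IsProper (y 0 ≫ CohB1.thickToBase f I 0)) :
    ∃ (W : Scheme.{u}) (i : W ⟶ X) (w : (n : ℕ) → (Y n ⟶ W)), IsFinite i ∧
      IsProper (i ≫ f) ∧ (∀ n, w n = t n ≫ w (n + 1)) ∧ ∀ n, IsPullback (w n) (y n) i (CohB1.thickι f I n) := by
  letI : X.Over (Spec (CommRingCat.of A)) := ⟨f⟩
  haveI : IsSeparated (X ↘ Spec (CommRingCat.of A)) := ‹IsSeparated f›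
  haveI : LocallyOfFiniteType (X ↘ Spec (CommRingCat.of A)) := ‹LocallyOfFiniteType f›
  haveI : QuasiCompact (X ↘ Spec (CommRingCat.of A)) := ‹QuasiCompact f›
  haveI := hy
  haveI : ∀ n, IsClosedImmersion (CohB1.thickι f I n) := fun n => by
    haveI : IsClosedImmersion (CohB1.specQuot I n) := IsClosedImmersion.spec_of_surjective _ Ideal.Quotient.mk_surjective
    exact MorphismProperty.pullback_fst (P := @IsClosedImmersion) _ _ inferInstance
  let c : ∀ n, Y n ⟶ X := fun n => y n ≫ CohB1.thickι f I n
  haveI : ∀ n, IsFinite (c n) := fun n => inferInstanceAs (IsFinite (y n ≫ CohB1.thickι f I n))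
  let q : ∀ n, Y n ⟶ Spec (CommRingCat.of (A ⧸ I ^ (n + 1))) := fun n => y n ≫ CohB1.thickToBase f I n
  have hcq : ∀ n, c n ≫ f = q n ≫ CohB1.specQuot I n := fun n => by
    show (y n ≫ _) ≫ f = (y n ≫ _) ≫ _
    rw [Category.assoc, Category.assoc, pullback.condition]
  have htc : ∀ n, t n ≫ c (n + 1) = c n := fun n => by
    show t n ≫ y (n + 1) ≫ _ = y n ≫ _
    rw [← Category.assoc, (ht n).w, Category.assoc, Groth.Agent.AmpleVan.FibreVanish.thickTrans_ι f I n]
  have sq : ∀ n, IsPullback (t n) (q n) (c (n + 1) ≫ f) (CohB1.specQuot I n) := fun n => by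
    have h := ((ht n).paste_vert (Groth.Agent.AmpleVan.FibreVanish.cart f I n)).paste_vert
      (Groth.Agent.AmpleVan.AdicSys.square_of_mono (CohB1.specQuotTrans I n) (CohB1.specQuot I n)
        (CohB1.specQuot I (n + 1)) (CohB1.specQuotTrans_specQuot I n))
    rw [Category.comp_id, Category.assoc, ← pullback.condition, ← Category.assoc] at h
    exact h
  have hp' : IsProper (c 0 ≫ f) := by
    haveI := hp
    haveI : IsClosedImmersion (CohB1.specQuot I 0) := IsClosedImmersion.spec_of_surjective _ Ideal.Quotient.mk_surjective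
    rw [hcq]
    show IsProper ((y 0 ≫ CohB1.thickToBase f I 0) ≫ _)
    infer_instance
  obtain ⟨V, π, e, hπ, hπf, heI, he, hte⟩ := H9Misc.AlgFinite.exists_bundle I X Y t c q htc sq hp'
  haveI := hπ; haveI := hπf; haveI := heI
  haveI : IsSeparated (π ≫ f) := inferInstance
  let z : ∀ n, Y n ⟶ CohB1.thick (π ≫ f) I n := fun n => pullback.lift (e n) (q n) (by rw [← Category.assoc, he, hcq])
  haveI hz : ∀ n, IsClosedImmersion (z n) := fun n => by
    haveI : IsClosedImmersion (CohB1.specQuot I n) := IsClosedImmersion.spec_of_surjective _ Ideal.Quotient.mk_surjective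
    haveI : IsClosedImmersion (z n ≫ CohB1.thickι (π ≫ f) I n) := by
      rw [show z n ≫ CohB1.thickι (π ≫ f) I n = e n from pullback.lift_fst _ _ _]
      exact heI n
    exact IsClosedImmersion.of_comp (z n) (CohB1.thickι (π ≫ f) I n)
  have hzt : ∀ n, IsPullback (t n) (z n) (z (n + 1)) (CohB1.thickTrans (π ≫ f) I n) := fun n => by
    refine IsPullback.of_bot (v₂₁ := CohB1.thickToBase (π ≫ f) I n) (v₂₂ := CohB1.thickToBase (π ≫ f) I (n + 1))
      (h₃₁ := CohB1.specQuotTrans I n) ?_ ?_ (Groth.Agent.AmpleVan.FibreVanish.cart (π ≫ f) I n)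
    · have h := (ht n).paste_vert (Groth.Agent.AmpleVan.FibreVanish.cart f I n)
      convert h using 1 <;> exact (pullback.lift_snd _ _ _)
    · haveI : IsClosedImmersion (CohB1.specQuot I (n + 1)) := IsClosedImmersion.spec_of_surjective _ Ideal.Quotient.mk_surjective
      haveI : IsClosedImmersion (CohB1.thickι (π ≫ f) I (n + 1)) :=
        MorphismProperty.pullback_fst (P := @IsClosedImmersion) _ _ inferInstance
      rw [← cancel_mono (CohB1.thickι (π ≫ f) I (n + 1)), Category.assoc, Category.assoc,
        Groth.Agent.AmpleVan.FibreVanish.thickTrans_ι (π ≫ f) I n]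
      show t n ≫ pullback.lift _ _ _ ≫ pullback.fst _ _ = pullback.lift _ _ _ ≫ pullback.fst _ _
      rw [pullback.lift_fst, pullback.lift_fst, hte]
  have hp0 : IsProper (z 0 ≫ CohB1.thickToBase (π ≫ f) I 0) := by
    rw [show z 0 ≫ CohB1.thickToBase (π ≫ f) I 0 = q 0 from pullback.lift_snd _ _ _]
    exact hp
  obtain ⟨W, i, w, hi, hW, hw, hwp⟩ := Groth.Agent.S0040.result A I (π ≫ f) Y z t hz hzt hp0
  haveI := hi
  haveI : IsProper ((i ≫ π) ≫ f) := by rw [Category.assoc]; exact hW
  haveI : IsProper (i ≫ π) := IsProper.of_comp (i ≫ π) f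
  refine ⟨W, i ≫ π, w, IsFinite.iff_isProper_and_isAffineHom.mpr ⟨inferInstance, inferInstance⟩, inferInstance, hw, fun n => ?_⟩
  have h := (hwp n).paste_vert (H9Misc.AlgFinite.isPullback_thick I f π n)
  have e' : z n ≫ pullback.lift (CohB1.thickι (π ≫ f) I n ≫ π) (CohB1.thickToBase (π ≫ f) I n)
      (by rw [Category.assoc]; exact pullback.condition) = y n := by
    refine pullback.hom_ext ?_ ?_
    · rw [Category.assoc, pullback.lift_fst, ← Category.assoc]
      show (pullback.lift _ _ _ ≫ pullback.fst _ _) ≫ π = _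
      rw [pullback.lift_fst, he]
    · rw [Category.assoc, pullback.lift_snd]
      exact pullback.lift_snd _ _ _
  rw [e'] at h
  exact h
end Groth.Agent.S0041
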