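import Groth.Statements.S0043
import Groth.Agent.AmpleVan.AffineCrit
import Groth.Agent.AmpleX.QuasiAffine

set_option autoImplicit false
universe u
open Coherent

namespace Groth.Agent.S0043
open scoped Groth.Agent.H23.PicMul


open AlgebraicGeometry in
/-- If X is quasi-affine and H^p(X, O_X) = 0 for all p > 0, then X is affine. -/
theorem result (X : Scheme.{u}) [X.IsQuasiAffine]
    (h : ∀ p : ℕ, 0 < p → Subsingleton (Coh.HH X (Coh.structureModule X) p)) : IsAffine X := by
  have hO : PicF.IsInvertible (Coh.structureModule X) := Groth.Agent.InvX.isInvertible_structureModule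
  refine Groth.Agent.AmpleVan.isAffine_of_antiAmple (Groth.Agent.AmpleX.isAmple_of_isQuasiAffine hO) hO
    (by rw [← Groth.Agent.H23.PicMul.one_def, one_mul]) (n₀ := 0) fun n _ p => ?_
  obtain ⟨e⟩ : Nonempty (Coh.structureModule X ≅ CohB1.tensorPow (Coh.structureModule X) n) :=
    Groth.Agent.H23.PicMul.cl_eq_iff.1 (by
      rw [Groth.Agent.H23.PicMul.cl_tensorPow, ← Groth.Agent.H23.PicMul.one_def, one_pow])
  exact Groth.Agent.QCoh.subsingleton_HH_of_iso e _ (h (p + 1) (Nat.succ_pos p))

end Groth.Agent.S0043
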