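import Groth.Statements.S0048
import Groth.Agent.KZ.PerfCoh
import Groth.Agent.QCoh.Serre
import Groth.Agent.QCoh.TensorUnit
set_option autoImplicit false
universe u
open Coherent

namespace Groth.Agent.S0048
open AlgebraicGeometry CategoryTheory in
theorem isCoh_of_iso {Z : Scheme.{u}} {A B : Z.Modules} (e : A ≅ B) (h : Coh.IsCoh A) : Coh.IsCoh B :=
  ⟨(Groth.Agent.QCoh.isQCoh_iff_iso e).1 h.1, Groth.Agent.KFlatLib.isFT_of_epi_free fun x => by
    obtain ⟨W, n, p, hx, hp⟩ := Groth.Agent.KFlatLib.exists_epi_free_of_isFT h.2 x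
    exact ⟨W, n, p ≫ (Scheme.Modules.restrictFunctor W.ι).map e.hom, hx, inferInstance⟩⟩


open AlgebraicGeometry in
/-- Let U ⊆ X be open and T ⊆ U a subset closed in X. If F is a coherent (quasi-coherent of finite type,
i.e. `Coh.IsCoh`) module on U with support contained in T, then its direct image along U ↪ X is
again coherent in the same sense. (The published statement is for coherent modules in the usual
sense; here both hypothesis and conclusion use the notion `Coh.IsCoh`.) -/
theorem result (X : Scheme.{u}) (U : X.Opens) (T : Set X)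
    (hT : IsClosed T) (hTU : T ⊆ (U : Set X)) (F : (↑U : Scheme.{u}).Modules) (hF : Coh.IsCoh F)
    (hs : ∀ x : ↥U, x ∈ CohB1.support F → (x : X) ∈ T) : Coh.IsCoh ((Coh.push U.ι).obj F) := by
  refine Groth.Agent.KZ.isCoh_of_local fun x => ?_
  by_cases hx : x ∈ U
  · refine ⟨_, U.ι, inferInstance, ⟨⟨x, hx⟩, rfl⟩, ?_⟩
    exact Groth.Agent.S0048.isCoh_of_iso (CategoryTheory.asIso ((Scheme.Modules.restrictAdjunction U.ι).counit.app F)).symm hF
  · let W : X.Opens := ⟨Tᶜ, hT.isOpen_compl⟩
    refine ⟨_, W.ι, inferInstance, ⟨⟨x, fun h => hx (hTU h)⟩, rfl⟩, ?_⟩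
    have hz : CategoryTheory.Limits.IsZero (((Coh.push U.ι).obj F).restrict W.ι) := by
      refine (CategoryTheory.Limits.IsZero.iff_id_eq_zero _).2 (Groth.Agent.QCoh.hom_ext_app fun O s => ?_)
      show s = 0
      refine TopCat.Presheaf.section_ext ⟨F.presheaf, F.isSheaf⟩ _ _ _ fun v hv => ?_
      haveI : Subsingleton (F.presheaf.stalk v) := not_not.1 fun h => by
        obtain ⟨w, -, hw⟩ := hv
        have h1 : (U.ι v : X) ∈ Tᶜ := hw ▸ w.2
        exact h1 (hs v h)
      exact Subsingleton.elim _ _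
    refine ⟨Groth.Agent.QCoh.isQCoh_of_isZero hz, Groth.Agent.KFlatLib.isFT_of_epi_free fun w => ⟨⊤, 0, 0, trivial, ⟨fun {Z} g h _ => ?_⟩⟩⟩
    exact (((Scheme.Modules.restrictFunctor (⊤ : W.toScheme.Opens).ι).map_isZero hz)).eq_of_src g h

end Groth.Agent.S0048
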