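import Groth.Statements.S0049
import Groth.Agent.QCoh.ArtinRees

set_option autoImplicit false
universe u
open Coherent

namespace Groth.Agent.S0049
set_option backward.isDefEq.respectTransparency false in
set_option backward.isDefEq.respectTransparency.types false in
open AlgebraicGeometry in
theorem pow_le_annihilator_local {X : Scheme.{u}} [IsNoetherian X] {N : X.Modules} (hN : Coh.IsCoh N)
    (J : X.IdealSheafData) (U : X.affineOpens)
    (hs : ∀ x ∈ U.1, x ∈ CohB1.support N → x ∈ J.support) :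
    ∃ n : ℕ, J.ideal U ^ n ≤ Module.annihilator Γ(X, U.1) Γ(N, U.1) := by
  haveI := Groth.Agent.QCoh.noetherian_sections (X := X) U
  haveI := Groth.Agent.QCoh.finite_sections hN U.2
  refine Ideal.exists_pow_le_of_le_radical_of_fg ?_ (IsNoetherian.noetherian _)
  rw [Ideal.radical_eq_sInf]
  refine le_sInf fun q ⟨hle, hq⟩ a ha => ?_
  set x := U.2.fromSpec ⟨q, hq⟩ with hxdef
  have hxU : x ∈ U.1 := U.2.range_fromSpec.le (Set.mem_range_self _)
  have hxN : x ∈ CohB1.support N := by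
    refine (Groth.Agent.QCoh.mem_moduleSupport_iff hN.1 U.2 hxU).1 ?_
    have hq' : U.2.primeIdealOf ⟨x, hxU⟩ = ⟨q, hq⟩ :=
      U.2.fromSpec.isOpenEmbedding.injective (U.2.fromSpec_primeIdealOf _)
    rw [hq', Module.support_eq_zeroLocus]
    exact hle
  have hxJ := (Scheme.IdealSheafData.mem_support_iff_of_mem hxU).1 (hs x hxU hxN)
  rw [Scheme.mem_zeroLocus_iff] at hxJ
  by_contra hna
  exact hxJ a ha ((Groth.Agent.QCoh.mem_basicOpen_fromSpec U.2 ⟨q, hq⟩ a).2 hna)


open AlgebraicGeometry CategoryTheory in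
/-- On a Noetherian scheme, if the support of a coherent module F is the union of closed sets Z and Z',
there is a short exact sequence 0 → G' → F → G → 0 of coherent modules with G' supported in Z' and G
supported in Z. -/
theorem result (X : Scheme.{u}) [IsNoetherian X] (M : X.Modules) (hM : Coh.IsCoh M)
    (Z Z' : Set X) (hZ : IsClosed Z) (hZ' : IsClosed Z') (h : CohB1.support M = Z ∪ Z') :
    ∃ S : ShortComplex X.Modules, S.ShortExact ∧ Nonempty (S.X₂ ≅ M) ∧ Coh.IsCoh S.X₁ ∧ Coh.IsCoh S.X₃ ∧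
      CohB1.support S.X₁ ⊆ Z' ∧ CohB1.support S.X₃ ⊆ Z := by
  classical
  set J := Scheme.IdealSheafData.vanishingIdeal (⟨Z, hZ⟩ : TopologicalSpace.Closeds X) with hJdef
  have hJs : (J.support : Set X) = Z := Scheme.IdealSheafData.coe_support_vanishingIdeal _
  let W : X.Opens := ⟨Z'ᶜ, hZ'.isOpen_compl⟩
  have hbasis : ∀ x : W, ∃ U : X.affineOpens, x.1 ∈ U.1 ∧ U.1 ≤ W := fun x => by
    obtain ⟨_, ⟨U, hU, rfl⟩, hxU, hUW⟩ := X.isBasis_affineOpens.exists_subset_of_mem_open x.2 W.2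
    exact ⟨⟨U, hU⟩, hxU, hUW⟩
  choose U hxU hUW using hbasis
  obtain ⟨t, ht⟩ := (TopologicalSpace.NoetherianSpace.isCompact (W : Set X)).elim_finite_subcover
    (fun x : W => ((U x).1 : Set X)) (fun x => (U x).1.2) (fun x hx => Set.mem_iUnion.2 ⟨⟨x, hx⟩, hxU _⟩)
  choose m hm using fun x : W => pow_le_annihilator_local hM J (U x) fun y hy hyM => by
    rcases h.le hyM with hz | hz
    · exact (hJs.ge hz : _)
    · exact absurd hz (hUW x hy)
  obtain ⟨J', hJ'⟩ : ∃ J', J' = J ^ (t.sup m + 1) := ⟨_, rfl⟩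
  have hid : ∀ V, J'.ideal V = J.ideal V ^ (t.sup m + 1) := fun V => by
    rw [hJ', Scheme.IdealSheafData.ideal_pow, Pi.pow_apply]
  clear hJ'
  let u := (Scheme.Modules.pullbackPushforwardAdjunction J'.subschemeι).unit.app M
  have hu : Coh.IsQCoh ((Scheme.Modules.pullback J'.subschemeι ⋙
      Scheme.Modules.pushforward J'.subschemeι).obj M) :=
    Groth.Agent.QCoh.isQCoh_pushforward J'.subschemeι (Groth.Agent.QCoh.isQCoh_pullback J'.subschemeι hM.1)
  have hK : Coh.IsCoh (Limits.kernel u) :=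
    Groth.Agent.QCoh.isCoh_of_mono (Limits.kernel.ι u) hM (Groth.Agent.QCoh.isQCoh_kernel hM.1 hu u)
  have hQ : Coh.IsCoh (Abelian.coimage u) := Groth.Agent.QCoh.isCoh_cokernel hK.1 hM _
  refine ⟨ShortComplex.mk (Limits.kernel.ι u) (Abelian.coimage.π u) (Limits.cokernel.condition _),
    .mk' (ShortComplex.exact_of_g_is_cokernel _ (Limits.cokernelIsCokernel (Limits.kernel.ι u))) inferInstance inferInstance,
    ⟨Iso.refl _⟩, hK, hQ, fun x hx => by_contra fun hxZ => ?_, fun x hx => by_contra fun hxZ => ?_⟩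
  · obtain ⟨y, hy, hxy⟩ := Set.mem_iUnion₂.1 (ht (show x ∈ (W : Set X) from hxZ))
    refine (Groth.Agent.QCoh.notMem_support_iff hK.1 (U y).2 hxy).2 (fun w => ⟨1, ?_, ?_⟩) hx
    · rw [Scheme.basicOpen_of_isUnit _ isUnit_one]; exact hxy
    refine (one_smul _ w).trans (Groth.Agent.QCoh.app_injective (Limits.kernel.ι u) (U y).1 ?_)
    rw [map_zero]
    have h1 := ((Groth.Agent.QCoh.unit_app_closed J'.subschemeι hM.1 (U y).2).2 _).1
      congr(($(Limits.kernel.condition u)).app (U y).1 w)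
    rw [Scheme.IdealSheafData.ker_subschemeι, hid] at h1
    refine (Submodule.mem_bot Γ(X, (U y).1)).1 ((Submodule.smul_le.2 fun a ha z _ => ?_) h1)
    rw [Submodule.mem_bot]
    exact Module.mem_annihilator.1 (hm y (Ideal.pow_le_pow_right (by
      have := Finset.le_sup (f := m) hy
      omega) ha)) z
  · obtain ⟨V, hV, hxV⟩ := Groth.Agent.QCoh.exists_affine_mem x
    have hxJ : x ∉ (J.support : Set X) := fun h' => hxZ (hJs.le h')
    rw [SetLike.mem_coe, Scheme.IdealSheafData.mem_support_iff_of_mem (U := ⟨V, hV⟩) hxV,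
      Scheme.mem_zeroLocus_iff] at hxJ
    push Not at hxJ
    obtain ⟨a, ha, hxa⟩ := hxJ
    refine (Groth.Agent.QCoh.notMem_support_iff hQ.1 hV hxV).2 (fun z => ⟨a ^ (t.sup m + 1),
      Groth.Agent.QCoh.basicOpen_pow_of_mem a hxV hxa _, ?_⟩) hx
    obtain ⟨z, rfl⟩ := Groth.Agent.QCoh.app_surjective_of_epi hM.1 hQ.1 (Abelian.coimage.π u) hV z
    refine Groth.Agent.QCoh.app_injective (Abelian.factorThruCoimage u) V ?_
    rw [map_zero, ← Scheme.Modules.Hom.app_smul]
    refine (congr(($(Abelian.coimage.fac u)).app V _) : _).trans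
      (((Groth.Agent.QCoh.unit_app_closed J'.subschemeι hM.1 hV).2 _).2 ?_)
    rw [Scheme.IdealSheafData.ker_subschemeι, hid]
    exact Submodule.smul_mem_smul (Ideal.pow_mem_pow ha _) Submodule.mem_top

end Groth.Agent.S0049
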