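import Groth.Statements.S0050
import Groth.Agent.AmpleVan.Criterion

set_option autoImplicit false
universe u
open Coherent

namespace Groth.Agent.S0050

open AlgebraicGeometry CategoryTheory in
/-- Let X be a quasi-compact scheme and L an invertible O_X-module. If for every quasi-coherent sheaf of
ideals I ⊆ O_X there is some n ≥ 1 with H¹(X, I ⊗ L^{⊗n}) = 0, then L is ample, in the sense that X
is covered by affine opens of the form X_s for sections s of positive tensor powers of L. (In the
Lean statement the exponent is written n + 1 with n a natural number.) -/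
theorem result (X : Scheme.{u}) [CompactSpace X] (L : X.Modules)
    (hL : PicF.IsInvertible L)
    (h : ∀ (I : X.Modules) (i : I ⟶ Coh.structureModule X), Mono i → Coh.IsQCoh I →
      ∃ n : ℕ, Subsingleton (Coh.HH X (CohB1.tensorMod I (CohB1.tensorPow L (n + 1))) 1)) :
    CohB1.IsAmple L := by
  exact Groth.Agent.AmpleVan.isAmple_of_HH_one hL fun Z _ =>
    h _ (Groth.Agent.QCoh.vanIdeal Z).ι inferInstance (Groth.Agent.QCoh.isQCoh_vanIdeal Z)

end Groth.Agent.S0050
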