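import Groth.Statements.S0055
import Groth.Agent.AmpleVan.RelVanish
set_option autoImplicit false
universe u
open Coherent

namespace Groth.Agent.S0055

open AlgebraicGeometry CategoryTheory in
/-- Let S be Noetherian, f : X → S proper, F coherent on X and L invertible on X, ample on f⁻¹(W) for
every affine open W of S (relatively ample). Then there is n₀ with R^p f_*(F ⊗ L^{⊗n}) = 0 for all n
≥ n₀ and p > 0. -/
theorem result {X S : Scheme.{u}} (f : X ⟶ S) [IsProper f]
    [IsNoetherian S] (L : X.Modules) (hL : PicF.IsInvertible L)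
    (ha : ∀ W : S.Opens, IsAffineOpen W → CohB1.IsAmple (L.restrict (f ⁻¹ᵁ W).ι))
    (M : X.Modules) (hM : Coh.IsCoh M) :
    ∃ n₀ : ℕ, ∀ n : ℕ, n₀ ≤ n → ∀ p : ℕ, 0 < p →
      Limits.IsZero ((Coh.RpushAb f p).obj (Coh.toAb (CohB1.tensorMod M (CohB1.tensorPow L n)))) := by
    exact AmpleVan.RelVanish.exists_vanishing f hL ha hM

end Groth.Agent.S0055
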