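import Groth.Statements.S0063
import Groth.Agent.EtFound.SectionUnr

set_option autoImplicit false
open CategoryTheory CategoryTheory.Limits AlgebraicGeometry Opposite
universe u
open EtBase

namespace Groth.Agent.S0063

/-- Rigidity of maps into an unramified separated scheme — two maps from a connected scheme over the
base that agree at one point, including on residue fields, coincide. -/
theorem result {X S Y : Scheme.{u}} (π : X ⟶ S)
    [FormallyUnramified π] [LocallyOfFiniteType π] [IsSeparated π]
    (h : Y ⟶ S) [ConnectedSpace Y] (f g : Y ⟶ X) (hf : f ≫ π = h) (hg : g ≫ π = h)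
    (y : Y) (hy : Y.fromSpecResidueField y ≫ f = Y.fromSpecResidueField y ≫ g) : f = g := by
  have hfu : FormallyUnramified (pullback.snd π h) :=
    MorphismProperty.of_isPullback (P := @FormallyUnramified) (IsPullback.of_hasPullback π h) ‹_›
  have hft : LocallyOfFiniteType (pullback.snd π h) :=
    MorphismProperty.of_isPullback (P := @LocallyOfFiniteType) (IsPullback.of_hasPullback π h) ‹_›
  have hsep : IsSeparated (pullback.snd π h) :=
    MorphismProperty.of_isPullback (P := @IsSeparated) (IsPullback.of_hasPullback π h) ‹_›
  let s := pullback.lift f (𝟙 Y) (by rw [hf, Category.id_comp])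
  let t := pullback.lift g (𝟙 Y) (by rw [hg, Category.id_comp])
  have hs : s ≫ pullback.snd π h = 𝟙 Y := pullback.lift_snd _ _ _
  have ht : t ≫ pullback.snd π h = 𝟙 Y := pullback.lift_snd _ _ _
  have := EtFound.isOpenImmersion_section _ s hs
  have hy' : s.base y = t.base y := by
    have e : Y.fromSpecResidueField y ≫ s = Y.fromSpecResidueField y ≫ t := by
      apply pullback.hom_ext
      · refine (Category.assoc _ _ _).trans (Eq.trans ?_ (Category.assoc _ _ _).symm)
        exact (congrArg _ (pullback.lift_fst _ _ _)).trans (hy.trans (congrArg _ (pullback.lift_fst _ _ _).symm))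
      · exact (Category.assoc _ _ _).trans ((congrArg _ (hs.trans ht.symm)).trans (Category.assoc _ _ _).symm)
    have := congr(($e).base (default : Spec (Y.residueField y)))
    simpa [Scheme.Hom.comp_apply, Scheme.fromSpecResidueField_apply] using this
  -- the clopen set on which the two sections agree
  let T : Set Y := t.base ⁻¹' Set.range s.base
  have hT : IsClopen T := ⟨(EtFound.isClosed_range_section _ s hs).preimage t.continuous,
    s.isOpenEmbedding.isOpen_range.preimage t.continuous⟩
  have hT' : T = Set.univ := hT.eq_univ ⟨y, y, hy'⟩
  have hsub : Set.range t.base ⊆ Set.range s.base := by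
    rintro _ ⟨z, rfl⟩
    exact hT'.ge (Set.mem_univ z)
  have e := IsOpenImmersion.lift_fac s t hsub
  have e2 : IsOpenImmersion.lift s t hsub = 𝟙 Y := by
    have := congr($e ≫ pullback.snd π h)
    rwa [Category.assoc, hs, ht, Category.comp_id] at this
  rw [e2, Category.id_comp] at e
  have := congr($e ≫ pullback.fst π h)
  exact ((pullback.lift_fst _ _ _).symm.trans (this.trans (pullback.lift_fst _ _ _)))

end Groth.Agent.S0063
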