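import Groth.Statements.S0064
import Groth.Agent.EtFound.SectionUnr
import Mathlib.Topology.NoetherianSpace

set_option autoImplicit false
open CategoryTheory CategoryTheory.Limits AlgebraicGeometry Opposite
universe u
open EtBase

namespace Groth.Agent.S0064

/-- Let S be a Noetherian scheme, X → S a quasi-compact, separated, unramified morphism (formally
unramified and locally of finite type), and Y a Noetherian scheme with a morphism Y → S. Then there
are only finitely many S-morphisms Y → X. The published statement does not assume X → S separated;
it is stated here in the separated case. -/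
theorem result {X S Y : Scheme.{u}} [IsNoetherian S] [IsNoetherian Y]
    (π : X ⟶ S) [FormallyUnramified π] [LocallyOfFiniteType π] [QuasiCompact π] [IsSeparated π]
    (h : Y ⟶ S) : Set.Finite {f : Y ⟶ X | f ≫ π = h} := by
  classical
  have hfu : FormallyUnramified (pullback.snd π h) :=
    MorphismProperty.of_isPullback (P := @FormallyUnramified) (IsPullback.of_hasPullback π h) ‹_›
  have hft : LocallyOfFiniteType (pullback.snd π h) :=
    MorphismProperty.of_isPullback (P := @LocallyOfFiniteType) (IsPullback.of_hasPullback π h) ‹_›
  have hsep : IsSeparated (pullback.snd π h) :=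
    MorphismProperty.of_isPullback (P := @IsSeparated) (IsPullback.of_hasPullback π h) ‹_›
  have hqc : QuasiCompact (pullback.snd π h) :=
    MorphismProperty.of_isPullback (P := @QuasiCompact) (IsPullback.of_hasPullback π h) ‹_›
  have : IsLocallyNoetherian (pullback π h) := LocallyOfFiniteType.isLocallyNoetherian (pullback.snd π h)
  have : CompactSpace ↥(pullback π h) := QuasiCompact.compactSpace_of_compactSpace (pullback.snd π h)
  have : IsNoetherian (pullback π h) := ⟨⟩
  set I := irreducibleComponents ↥(pullback π h)
  have hI : I.Finite := TopologicalSpace.NoetherianSpace.finite_irreducibleComponents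
  let s : {f : Y ⟶ X | f ≫ π = h} → {s : Y ⟶ pullback π h // s ≫ pullback.snd π h = 𝟙 Y} := fun f =>
    ⟨pullback.lift f.1 (𝟙 Y) (by rw [Category.id_comp]; exact f.2), pullback.lift_snd _ _ _⟩
  let T : {f : Y ⟶ X | f ≫ π = h} → Set (Set ↥(pullback π h)) := fun f =>
    {C | C ∈ I ∧ C ⊆ Set.range (s f).1}
  have hT : Function.Injective T := by
    intro f g hfg
    have hu : ∀ f, Set.range (s f).1 = ⋃₀ (T f) := fun f => by
      refine subset_antisymm (fun p hp => ?_) (Set.sUnion_subset fun C hC => hC.2)
      refine ⟨irreducibleComponent p, ⟨irreducibleComponent_mem_irreducibleComponents p, ?_⟩,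
        mem_irreducibleComponent⟩
      have := EtFound.isOpenImmersion_section _ (s f).1 (s f).2
      exact (isIrreducible_irreducibleComponent.isConnected.isPreconnected).subset_isClopen
        ⟨EtFound.isClosed_range_section _ (s f).1 (s f).2, (s f).1.isOpenEmbedding.isOpen_range⟩
        ⟨p, mem_irreducibleComponent, hp⟩
    have e := EtFound.section_eq_of_range_eq _ (s f).1 (s g).1 (s f).2 (s g).2
      ((hu g).trans ((congrArg _ hfg.symm).trans (hu f).symm))
    apply Subtype.ext
    have := congr($e ≫ pullback.fst π h)
    exact ((pullback.lift_fst _ _ _).symm.trans (this.symm.trans (pullback.lift_fst _ _ _)))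
  have hfin : (Set.range T).Finite :=
    hI.finite_subsets.subset (by rintro _ ⟨f, rfl⟩ C hC; exact hC.1)
  have := hfin.to_subtype
  exact Set.finite_coe_iff.1 (Finite.of_injective_finite_range (f := T) hT)

end Groth.Agent.S0064
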