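import Groth.Statements.S0068
import Groth.Agent.EtFound.PushOutside

set_option autoImplicit false
open CategoryTheory CategoryTheory.Limits AlgebraicGeometry Opposite
universe u
open EtBase

namespace Groth.Agent.S0068

/-- Part (2), second half — an abelian étale sheaf is a pushforward from a closed subscheme exactly when
its sections vanish over every étale scheme mapping into the open complement. -/
theorem result {Z X : Scheme.{u}} (i : Z ⟶ X) [IsClosedImmersion i] [EtCoh.BCCont i]
    (F : EtCoh.Ab X) :
    (EtCoh.push i).essImage F ↔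
      ∀ U : X.Etale, Disjoint (Set.range U.hom.base) (Set.range i.base) → IsZero (F.obj.obj (op U)) := by
  constructor
  · rintro ⟨G, ⟨e⟩⟩ U hU
    obtain ⟨h⟩ := EtFound.push_unique_of_disjoint i G U hU
    have : Subsingleton ↑(((EtCoh.push i).obj G).obj.obj (op U)) :=
      ⟨fun a b => (h.eq_default a).trans (h.eq_default b).symm⟩
    exact (@AddCommGrpCat.isZero_of_subsingleton (((EtCoh.push i).obj G).obj.obj (op U)) this).of_iso
      (((sheafToPresheaf _ _).mapIso e).symm.app (op U))
  · intro h
    have : IsIso ((EtCoh.pullPushAdj i).unit.app F) := by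
      refine EtFound.unit_isIso_of_outside i (EtFound.liftable_of_isClosedImmersion i)
        i.isClosedEmbedding.isClosed_range F fun k _ _ ξ hξ => ?_
      refine EtFound.nonempty_unique_stalk i.isClosedEmbedding.isClosed_range F (fun U hU => ?_) ξ hξ
      have := AddCommGrpCat.subsingleton_of_isZero (h U hU)
      exact ⟨@Unique.mk' _ ⟨(0 : F.obj.obj (op U))⟩ this⟩
    exact ⟨_, ⟨(asIso ((EtCoh.pullPushAdj i).unit.app F)).symm⟩⟩

end Groth.Agent.S0068
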