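import Groth.Statements.S0069
import Groth.Agent.EtFound.PushOutside

set_option autoImplicit false
open CategoryTheory CategoryTheory.Limits AlgebraicGeometry Opposite
universe u
open EtBase

namespace Groth.Agent.S0069

/-- Abelian case, first half — the pushforward along a closed immersion has zero stalk at geometric
points outside the closed subscheme. -/
theorem result {Z X : Scheme.{u}} (i : Z ⟶ X) [IsClosedImmersion i] [EtCoh.BCCont i]
    (G : EtCoh.Ab Z) {Ω : Type u} [Field Ω] [IsSepClosed Ω] (ξ : Spec (CommRingCat.of Ω) ⟶ X)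
    (hξ : Disjoint (Set.range ξ.base) (Set.range i.base)) :
    IsZero ((EtCoh.stalk ξ).obj ((EtCoh.push i).obj G)) := by
  obtain ⟨h⟩ := EtFound.nonempty_unique_stalk i.isClosedEmbedding.isClosed_range ((EtCoh.push i).obj G)
    (fun V hV => EtFound.push_unique_of_disjoint i G V hV) ξ (Set.disjoint_left.1 hξ ⟨_, rfl⟩)
  have : Subsingleton ↑((EtCoh.stalk ξ).obj ((EtCoh.push i).obj G)) :=
    ⟨fun a b => (h.eq_default a).trans (h.eq_default b).symm⟩
  exact AddCommGrpCat.isZero_of_subsingleton _

end Groth.Agent.S0069
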