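import Groth.Statements.S0072
import Groth.Agent.EtFound.FiniteStalk
-- import your own Groth.Agent.* helpers here

set_option autoImplicit false
open CategoryTheory CategoryTheory.Limits AlgebraicGeometry Opposite
universe u
open EtBase

namespace Groth.Agent.S0072

/-- Let f : X → Y be a finite morphism of schemes, F an abelian sheaf on X_ét, and η : Spec Ω → Y a
geometric point with Ω algebraically closed. Then the stalk (f_*F)_η is isomorphic to the direct sum
of the stalks F_ξ over the geometric points ξ : Spec Ω → X lying over η (those with f ∘ ξ = η). Only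
the existence of an isomorphism is asserted; the published statement gives a canonical
identification. -/
theorem result {X Y : Scheme.{u}} (f : X ⟶ Y) [IsFinite f] [EtCoh.BCCont f]
    (F : EtCoh.Ab X) {Ω : Type u} [Field Ω] [IsAlgClosed Ω] (η : Spec (CommRingCat.of Ω) ⟶ Y) :
    Nonempty ((EtCoh.stalk η).obj ((EtCoh.push f).obj F) ≅
      ∐ fun ξ : {ξ : Spec (CommRingCat.of Ω) ⟶ X // ξ ≫ f = η} => (EtCoh.stalk ξ.1).obj F) := by
  haveI := Groth.Agent.EtFound.finite_points f η
  have hb := Groth.Agent.EtFound.pushStalkAt_bijective (A := AddCommGrpCat.{u + 1}) f (η := η) F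
  let T : {ξ : Spec (CommRingCat.of Ω) ⟶ X // ξ ≫ f = η} → AddCommGrpCat.{u + 1} := fun ξ =>
    (EtCoh.stalk ξ.1).obj F
  let α : (EtCoh.stalk η).obj ((EtCoh.push f).obj F) ⟶ ∏ᶜ T :=
    Pi.lift fun ξ => (Groth.Agent.EtFound.pushStalkAt f ξ.2).app F
  have hval : ∀ p ξ, (Pi.π T ξ) (α p) = (Groth.Agent.EtFound.pushStalkAt f ξ.2).app F p := fun p ξ =>
    ConcreteCategory.congr_hom (Pi.lift_π (fun ξ => (Groth.Agent.EtFound.pushStalkAt f ξ.2).app F) ξ) p
  haveI : IsIso α := by
    rw [ConcreteCategory.isIso_iff_bijective]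
    refine ⟨fun p q h => hb.1 (funext fun ξ => ?_), fun z => ?_⟩
    · exact (hval p ξ).symm.trans ((by rw [h]) : _ = _) |>.trans (hval q ξ)
    · obtain ⟨p, hp⟩ := hb.2 (fun ξ => (Pi.π T ξ) z)
      exact ⟨p, Concrete.limit_ext (Discrete.functor T) _ _ fun ⟨ξ⟩ => (hval p ξ).trans (congrFun hp ξ)⟩
  haveI : HasBiproduct T := inferInstance
  exact ⟨asIso α ≪≫ (biproduct.isoProduct T).symm ≪≫ biproduct.isoCoproduct T⟩

end Groth.Agent.S0072
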