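import Groth.Statements.S0088
import Groth.Agent.EtFound.ZeroDimSection
import Groth.Agent.EtFound.CoprodSections
import Groth.Agent.EtFound.Henselian
import Mathlib.AlgebraicGeometry.ResidueField
import Mathlib.RingTheory.Spectrum.Prime.Topology
import Mathlib.Data.Finset.Sort

set_option autoImplicit false
open CategoryTheory CategoryTheory.Limits AlgebraicGeometry Opposite
universe u
open EtBase

set_option backward.isDefEq.respectTransparency false
set_option backward.isDefEq.respectTransparency.types false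

namespace Groth.Agent.S0088

open CategoryTheory CategoryTheory.Limits AlgebraicGeometry Opposite

private theorem isSepClosed_equiv {k k' : Type u} [Field k] [Field k'] [IsSepClosed k]
    (e : k ≃+* k') : IsSepClosed k' :=
  IsSepClosed.of_exists_root _ fun p _ hp hs => by
    have hd : (p.map e.symm.toRingHom).degree ≠ 0 := by
      rw [Polynomial.degree_map]; exact (Polynomial.degree_pos_of_irreducible hp).ne'
    obtain ⟨x, hx⟩ := IsSepClosed.exists_root (p.map e.symm.toRingHom) hd hs.map
    refine ⟨e x, e.symm.injective ?_⟩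
    have h2 : p.eval₂ e.symm.toRingHom (e.symm (e x)) = 0 := by
      rw [e.symm_apply_apply, ← Polynomial.eval_map]; exact hx
    rw [map_zero, ← h2]
    exact (Polynomial.eval₂_at_apply e.symm.toRingHom (e x)).symm

variable {S : Scheme.{u}} [IsAffine S]

/-- Sections of epimorphisms lift over such schemes. -/
private theorem top_surjective (h1 : ∀ s : S, IsClosed ({s} : Set S))
    (h2 : ∀ s : S, IsSepClosed (S.residueField s)) {E G : EtCoh.Ab S} (e : E ⟶ G) [Epi e] :
    Function.Surjective (e.hom.app (op (EtCoh.top S))) := by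
  classical
  let T := Γ(S, ⊤)
  have : Ring.KrullDimLE 0 T := .mk₀ fun I hI => by
    refine (PrimeSpectrum.isClosed_singleton_iff_isMaximal ⟨I, hI⟩).1 ?_
    have := (h1 (S.isoSpec.inv.base ⟨I, hI⟩))
    have e0 : ({⟨I, hI⟩} : Set (PrimeSpectrum T)) = S.isoSpec.inv.base ⁻¹' {S.isoSpec.inv.base ⟨I, hI⟩} := by
      ext x
      exact ⟨fun h => by rw [Set.mem_singleton_iff.1 h]; rfl, fun h => S.isoSpec.inv.isOpenEmbedding.injective h⟩
    rw [e0]
    exact this.preimage S.isoSpec.inv.continuous
  have hsep : ∀ (q : Ideal T) [q.IsPrime], IsSepClosed (IsLocalRing.ResidueField (Localization.AtPrime q)) := by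
    intro q hq
    let x : Spec T := ⟨q, hq⟩
    have := h2 (S.isoSpec.inv.base x)
    exact isSepClosed_equiv (k := S.residueField (S.isoSpec.inv.base x))
      ((asIso (S.isoSpec.inv.residueFieldMap x) ≪≫ Scheme.Spec.residueFieldIso T x).commRingCatIsoToRingEquiv)
  intro b
  have hloc : Presheaf.IsLocallySurjective S.smallEtaleTopology e.hom :=
    (Sheaf.isLocallySurjective_iff_epi' _ e).2 inferInstance
  -- around every point there is an idempotent with a lift
  have key : ∀ p : PrimeSpectrum T, ∃ (f : T) (_ : IsIdempotentElem f) (_ : f ∉ p.asIdeal),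
      ∃ (Z : S.Etale) (z : Z ⟶ EtCoh.top S) (a : EtCoh.sect E Z),
        Set.range z.left.base = S.isoSpec.inv.base '' (PrimeSpectrum.basicOpen f : Set (PrimeSpectrum T)) ∧
        IsOpenImmersion z.left ∧ e.hom.app (op Z) a = G.obj.map z.op b := by
    intro p
    obtain ⟨V, g, v, ⟨a, ha⟩, hv⟩ := (EtFound.mem_topology_iff _).1
      (Presheaf.imageSieve_mem S.smallEtaleTopology e.hom b) (S.isoSpec.inv.base p)
    let c : V.left ⟶ Spec T := g.left ≫ S.isoSpec.hom
    have hg : AlgebraicGeometry.Etale g.left := EtFound.etale_left g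
    have : AlgebraicGeometry.Etale c := inferInstanceAs (AlgebraicGeometry.Etale (g.left ≫ S.isoSpec.hom))
    have hcp : c.base v = p := by
      show S.isoSpec.hom.base (g.left.base v) = p
      rw [show g.left.base v = S.isoSpec.inv.base p from hv]
      exact congrFun (congrArg (fun k => k.base) S.isoSpec.inv_hom_id) p
    obtain ⟨D, j, hj, ⟨d, hd⟩, -⟩ := Scheme.exists_affine_mem_range_and_range_subset
      (x := v) (U := (⊤ : V.left.Opens)) (by simp)
    obtain ⟨ψ, hψ⟩ := Spec.map_surjective (j ≫ c)
    algebraize [ψ.hom]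
    have : Algebra.Etale T D := RingHom.etale_algebraMap.mp
      ((HasRingHomProperty.Spec_iff (P := @AlgebraicGeometry.Etale) (φ := ψ)).mp (by rw [hψ]; infer_instance))
    obtain ⟨f, φ, hP, hf, -⟩ := EtFound.exists_part_at hsep d.asIdeal
    have hdp : d.asIdeal.comap (algebraMap T D) = p.asIdeal := by
      rw [← hcp, ← hd, ← Scheme.Hom.comp_apply, ← hψ]
      rfl
    rw [hdp] at hf
    let L := Localization.Away f
    have h1' : algebraMap T L f = 1 := by
      have hi := hP.idem.map (algebraMap T L)
      exact (IsLocalization.Away.algebraMap_isUnit f).mul_left_cancel (hi.eq.trans (mul_one _).symm)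
    let σ : D →+* L :=
      { toFun := fun x => algebraMap T L (φ x)
        map_one' := by rw [hP.one, h1']
        map_mul' := fun x y => by rw [hP.mul, map_mul]
        map_zero' := by
          have := hP.scal 0 1
          rw [map_zero, zero_mul, zero_mul] at this
          rw [this, map_zero]
        map_add' := fun x y => by rw [hP.add, map_add] }
    have hσ : σ.comp (algebraMap T D) = algebraMap T L := by
      ext t
      show algebraMap T L (φ (algebraMap T D t)) = _
      rw [← mul_one (algebraMap T D t), hP.scal, hP.one, map_mul, h1', mul_one]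
    let ι : Spec (CommRingCat.of L) ⟶ S := Spec.map (CommRingCat.ofHom (algebraMap T L)) ≫ S.isoSpec.inv
    have : IsOpenImmersion (Spec.map (CommRingCat.ofHom (algebraMap T L))) := IsOpenImmersion.of_isLocalization f
    let Z : S.Etale := Scheme.Etale.mk ι
    let z : Z ⟶ EtCoh.top S := MorphismProperty.Over.homMk ι (Category.comp_id _)
    let k : Z ⟶ V := MorphismProperty.Over.homMk (Spec.map (CommRingCat.ofHom σ) ≫ j) (by
      show (Spec.map (CommRingCat.ofHom σ) ≫ j) ≫ V.hom = ι
      have hV : g.left = V.hom := (Category.comp_id _).symm.trans (MorphismProperty.Over.w g)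
      rw [← hV, Category.assoc, show g.left = c ≫ S.isoSpec.inv by simp [c], ← Category.assoc j, ← hψ,
        ← Category.assoc, ← Spec.map_comp]
      refine congrArg (· ≫ S.isoSpec.inv) (congrArg Spec.map ?_)
      ext t
      exact congr(($hσ) t))
    refine ⟨f, hP.idem, hf, Z, z, E.obj.map k.op a, ?_, inferInstanceAs (IsOpenImmersion ι), ?_⟩
    · show Set.range (Spec.map (CommRingCat.ofHom (algebraMap T L)) ≫ S.isoSpec.inv).base = _
      rw [Scheme.Hom.comp_base, TopCat.coe_comp, Set.range_comp]
      refine congrArg _ ?_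
      exact PrimeSpectrum.localization_away_comap_range L f
    · rw [NatTrans.naturality_apply e.hom k.op a, ha, ← ConcreteCategory.comp_apply, ← Functor.map_comp,
        ← op_comp, (EtFound.topIsTerminal S).hom_ext (k ≫ g) z]
  choose f hf hfp Z z a hr ho ha using key
  -- finitely many of the idempotents suffice
  obtain ⟨t, ht⟩ := isCompact_univ.elim_finite_subcover
    (fun p => (PrimeSpectrum.basicOpen (f p) : Set (PrimeSpectrum T)))
    (fun p => (PrimeSpectrum.basicOpen (f p)).2) (fun p _ => Set.mem_iUnion.2 ⟨p, hfp p⟩)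
  let n := t.card
  let q : Fin n → PrimeSpectrum T := fun i => (t.equivFin.symm i).1
  let U : ∀ i : Fin n, (Z (q i)).left.Opens := fun i => (z (q i)).left ⁻¹ᵁ
    (S.isoSpec.hom ⁻¹ᵁ PrimeSpectrum.basicOpen (∏ j ∈ Finset.univ.filter (· < i), (1 - f (q j))))
  let W : Fin n → S.Etale := fun i =>
    have := (Z (q i)).prop
    Scheme.Etale.mk ((U i).ι ≫ (Z (q i)).hom)
  let w : ∀ i, W i ⟶ Z (q i) := fun i => MorphismProperty.Over.homMk (U i).ι rfl
  let g : ∀ i, W i ⟶ EtCoh.top S := fun i => w i ≫ z (q i)
  have hinv : ∀ x : PrimeSpectrum T, S.isoSpec.hom.base (S.isoSpec.inv.base x) = x := fun x => by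
    rw [← Scheme.Hom.comp_apply, Iso.inv_hom_id]; rfl
  have hrange : ∀ i (x : PrimeSpectrum T), S.isoSpec.inv.base x ∈ Set.range (g i).left.base ↔
      (f (q i) ∉ x.asIdeal ∧ ∀ j < i, f (q j) ∈ x.asIdeal) := by
    intro i x
    have hiff : ∀ y : PrimeSpectrum T, y ∈ PrimeSpectrum.basicOpen
        (∏ j ∈ Finset.univ.filter (· < i), (1 - f (q j))) ↔ ∀ j < i, f (q j) ∈ y.asIdeal := fun y => by
      rw [PrimeSpectrum.mem_basicOpen, y.2.prod_mem_iff]
      simp only [Finset.mem_filter, Finset.mem_univ, true_and, not_exists, not_and]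
      refine forall₂_congr fun j _ => ⟨fun h => ?_, fun h hc => ?_⟩
      · rcases y.2.mem_or_mem (show f (q j) * (1 - f (q j)) ∈ y.asIdeal by
          rw [mul_sub, mul_one, (hf (q j)).eq, sub_self]; exact zero_mem _) with h' | h'
        · exact h'
        · exact absurd h' h
      · exact y.2.ne_top ((Ideal.eq_top_iff_one _).2 (by simpa using add_mem hc h))
    constructor
    · rintro ⟨y, hy⟩
      have hy' : (z (q i)).left.base ((U i).ι.base y) = S.isoSpec.inv.base x :=
        (Scheme.Hom.comp_apply _ _ _).symm.trans hy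
      have h1 : S.isoSpec.inv.base x ∈ S.isoSpec.inv.base '' (PrimeSpectrum.basicOpen (f (q i)) : Set (PrimeSpectrum T)) := by
        rw [← hr (q i)]; exact ⟨_, hy'⟩
      obtain ⟨x', hx', hxx⟩ := h1
      obtain rfl := S.isoSpec.inv.isOpenEmbedding.injective hxx
      refine ⟨hx', (hiff x').1 ?_⟩
      have h2 : S.isoSpec.hom.base ((z (q i)).left.base ((U i).ι.base y)) ∈ PrimeSpectrum.basicOpen
          (∏ j ∈ Finset.univ.filter (· < i), (1 - f (q j))) := y.2
      rw [hy', hinv] at h2
      exact h2
    · rintro ⟨hx, hlt⟩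
      obtain ⟨y, hy⟩ : S.isoSpec.inv.base x ∈ Set.range (z (q i)).left.base := by
        rw [hr]; exact ⟨x, hx, rfl⟩
      refine ⟨⟨y, ?_⟩, (Scheme.Hom.comp_apply _ _ _).trans hy⟩
      have h3 : S.isoSpec.hom.base ((z (q i)).left.base y) ∈ PrimeSpectrum.basicOpen
          (∏ j ∈ Finset.univ.filter (· < i), (1 - f (q j))) := by
        rw [hy, hinv]
        exact (hiff x).2 hlt
      exact h3
  have hsurjS : ∀ s : S, ∃ x, S.isoSpec.inv.base x = s := fun s => S.isoSpec.inv.surjective s
  have hmono : ∀ i, Mono (g i) := fun i => by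
    have := ho (q i)
    have : Mono (g i).left := inferInstanceAs (Mono ((U i).ι ≫ (z (q i)).left))
    exact ⟨fun a b h => MorphismProperty.Over.Hom.ext ((cancel_mono (g i).left).1 (congrArg (fun k => k.left) h))⟩
  have hb := EtFound.bijective_sections_of_disjoint E W g (fun s => by
      obtain ⟨x, rfl⟩ := hsurjS s
      obtain ⟨p, hp, hpx⟩ := Set.mem_iUnion₂.1 (ht (Set.mem_univ x))
      have hex : ∃ i, f (q i) ∉ x.asIdeal := ⟨t.equivFin ⟨p, hp⟩, by simpa [q] using hpx⟩
      let S' := Finset.univ.filter fun i => f (q i) ∉ x.asIdeal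
      have hne : S'.Nonempty := ⟨hex.choose, by simpa [S'] using hex.choose_spec⟩
      refine ⟨S'.min' hne, (hrange _ x).2 ⟨?_, fun j hj => ?_⟩⟩
      · exact (Finset.mem_filter.1 (S'.min'_mem hne)).2
      · by_contra hj'
        exact absurd (S'.min'_le j (by simpa [S'] using hj')) (not_le.2 hj))
    (fun i j hij a b hab => by
      obtain ⟨x, hx⟩ := hsurjS ((g i).left.base a)
      have hi := (hrange i x).1 (hx.symm ▸ ⟨a, rfl⟩)
      have hj := (hrange j x).1 (hx.symm ▸ ⟨b, hab.symm⟩)
      rcases lt_or_gt_of_ne hij with h | h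
      · exact hi.1 (hj.2 i h)
      · exact hj.1 (hi.2 j h))
  obtain ⟨s, hs⟩ := hb.2 fun i => E.obj.map (w i).op (a (q i))
  refine ⟨s, (EtFound.isSheafFor_of_covers G W g (fun x => ?_)).isSeparatedFor.ext fun V v hv => ?_⟩
  · obtain ⟨y, rfl⟩ := hsurjS x
    obtain ⟨p, hp, hpx⟩ := Set.mem_iUnion₂.1 (ht (Set.mem_univ y))
    let S' := Finset.univ.filter fun i => f (q i) ∉ y.asIdeal
    have hne : S'.Nonempty := ⟨t.equivFin ⟨p, hp⟩, by simpa [S', q] using hpx⟩
    refine ⟨S'.min' hne, (hrange _ y).2 ⟨(Finset.mem_filter.1 (S'.min'_mem hne)).2, fun j hj => ?_⟩⟩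
    by_contra hj'
    exact absurd (S'.min'_le j (by simpa [S'] using hj')) (not_le.2 hj)
  · obtain ⟨i⟩ := hv
    show G.obj.map (g i).op (e.hom.app _ s) = G.obj.map (g i).op b
    rw [← NatTrans.naturality_apply e.hom (g i).op s]
    have hsi : E.obj.map (g i).op s = E.obj.map (w i).op (a (q i)) := congrFun hs i
    rw [hsi, NatTrans.naturality_apply e.hom (w i).op (a (q i)), ha, ← ConcreteCategory.comp_apply,
      ← Functor.map_comp, ← op_comp]

/-- On an affine scheme all of whose points are closed and all of whose residue fields are separably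
closed, every abelian étale sheaf has vanishing cohomology in positive degrees. -/
theorem result (S : Scheme.{u}) [IsAffine S] (h1 : ∀ s : S, IsClosed ({s} : Set S))
    (h2 : ∀ s : S, IsSepClosed (S.residueField s)) (F : EtCoh.Ab S) (i : ℕ) (hi : 1 ≤ i) :
    Subsingleton (EtCoh.H S F i) := by
  have hproj : Projective ((constantSheaf S.smallEtaleTopology AddCommGrpCat.{u + 1}).obj
      (AddCommGrpCat.of (ULift ℤ))) := by
    refine ⟨fun {E G} f e _ => ?_⟩
    let adj := constantSheafAdj S.smallEtaleTopology AddCommGrpCat.{u + 1} (EtFound.topIsTerminal S)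
    obtain ⟨a, ha⟩ := top_surjective h1 h2 e (adj.homEquiv _ _ f ⟨1⟩)
    refine ⟨(adj.homEquiv _ _).symm ((AddCommGrpCat.uliftZMultiplesAddEquiv _).symm a), ?_⟩
    apply (adj.homEquiv _ _).injective
    rw [Adjunction.homEquiv_naturality_right, Equiv.apply_symm_apply]
    apply (AddCommGrpCat.uliftZMultiplesAddEquiv _).injective
    refine Eq.trans ?_ ha
    exact congrArg (e.hom.app (op (EtCoh.top S))) ((AddCommGrpCat.uliftZMultiplesAddEquiv _).apply_symm_apply a)
  obtain ⟨j, rfl⟩ : ∃ j, i = j + 1 := ⟨i - 1, by omega⟩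
  exact ⟨fun x y => (Abelian.Ext.eq_zero_of_projective x).trans (Abelian.Ext.eq_zero_of_projective y).symm⟩

end Groth.Agent.S0088
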