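import Groth.Statements.S0089
import Groth.Agent.S0090
import Groth.Agent.EtFound.Henselian
import Mathlib.AlgebraicGeometry.SpreadingOut
import Mathlib.AlgebraicGeometry.Morphisms.FlatMono
import Mathlib.AlgebraicGeometry.Morphisms.Separated

set_option autoImplicit false
open CategoryTheory CategoryTheory.Limits AlgebraicGeometry Opposite
universe u
open EtBase

set_option backward.isDefEq.respectTransparency false
set_option backward.isDefEq.respectTransparency.types false

namespace Groth.Agent.S0089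

open CategoryTheory CategoryTheory.Limits AlgebraicGeometry

variable {U X : Scheme.{u}} [IsIntegral X] (g : U ⟶ X)

omit [IsIntegral X] in
private theorem exists_lift [AlgebraicGeometry.Etale g] (R : Type u) [CommRing R] [HenselianLocalRing R]
    [IsSepClosed (IsLocalRing.ResidueField R)] (G : Spec (CommRingCat.of R) ⟶ X) (u : U)
    (h : G.base (IsLocalRing.closedPoint R) = g.base u) :
    ∃ φ : Spec (CommRingCat.of R) ⟶ U, φ ≫ g = G ∧ φ.base (IsLocalRing.closedPoint R) = u := by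
  obtain ⟨l, hl, hlu⟩ := Scheme.exists_fac_of_etale_of_isSepClosed g (EtFound.cpt R ≫ G) u (by
    rw [Scheme.Hom.comp_apply, EtFound.cpt_base R, h])
  obtain ⟨σ, ⟨hσ₁, hσ₂⟩, -⟩ := EtFound.existsUnique_section R (pullback.snd g G)
    (pullback.lift l (EtFound.cpt R) hl) (pullback.lift_snd _ _ _)
  refine ⟨σ ≫ pullback.fst g G, ?_, ?_⟩
  · rw [Category.assoc, pullback.condition, ← Category.assoc, hσ₁, Category.id_comp]
  · rw [← EtFound.cpt_base R default, ← Scheme.Hom.comp_apply, ← Category.assoc, hσ₂,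
      pullback.lift_fst, hlu]

private theorem exists_chart (hN : ∀ x : X, IsIntegrallyClosed (X.presheaf.stalk x))
    [IsSepClosed X.functionField] [AlgebraicGeometry.Etale g] (u : U) :
    ∃ O : U.Opens, u ∈ O ∧ IsOpenImmersion (O.ι ≫ g) := by
  obtain ⟨hh, hs⟩ := Groth.Agent.S0090.result X hN (g.base u)
  have : HenselianLocalRing (X.presheaf.stalk (g u)) := hh
  have : IsSepClosed (IsLocalRing.ResidueField (X.presheaf.stalk (g u))) := hs
  obtain ⟨φ, hφ, hφu⟩ := exists_lift g (X.presheaf.stalk (g.base u)) (X.fromSpecStalk (g.base u)) u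
    Scheme.fromSpecStalk_closedPoint
  obtain ⟨V, hV, f, hf, hfg⟩ := spread_out_of_isGermInjective' (𝟙 X) g φ
    (by exact hφ.trans (Category.comp_id _).symm)
  rw [Category.comp_id] at hfg
  have : IsOpenImmersion (f ≫ g) := by rw [hfg]; infer_instance
  have : AlgebraicGeometry.Etale f :=
    MorphismProperty.of_postcomp (W := @AlgebraicGeometry.Etale) (W' := @AlgebraicGeometry.Etale) f g
      inferInstance inferInstance
  have : Mono f := mono_of_mono f g
  have : IsOpenImmersion f := IsOpenImmersion.of_flat_of_mono f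
  refine ⟨f.opensRange, ?_, ?_⟩
  · refine ⟨(V.fromSpecStalkOfMem (g.base u) hV).base
      (IsLocalRing.closedPoint (X.presheaf.stalk (g.base u))), ?_⟩
    refine (Scheme.Hom.comp_apply _ _ _).symm.trans ?_
    exact (congrArg (fun k : Spec (X.presheaf.stalk (g.base u)) ⟶ U =>
      k.base (IsLocalRing.closedPoint (X.presheaf.stalk (g.base u)))) hf.symm).trans hφu
  · have e : f.opensRange.ι = f.isoOpensRange.inv ≫ f := by
      rw [Iso.eq_inv_comp, Scheme.Hom.isoOpensRange_hom_ι]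
    rw [e, Category.assoc]
    infer_instance

/-- Good opens. -/
private def Good (O : U.Opens) : Prop := IsOpenImmersion (O.ι ≫ g)

private theorem exists_generic {O : U.Opens} (hO : Good g O) {a : U} (ha : a ∈ O) :
    ∃ i : U, g.base i = genericPoint X ∧ i ∈ O := by
  have : IsOpenImmersion (O.ι ≫ g) := hO
  obtain ⟨z, hz⟩ := ((genericPoint_spec X).mem_open_set_iff (O.ι ≫ g).isOpenEmbedding.isOpen_range).2
    ⟨(O.ι ≫ g).base ⟨a, ha⟩, Set.mem_univ _, ⟨⟨a, ha⟩, rfl⟩⟩
  exact ⟨O.ι.base z, (Scheme.Hom.comp_apply _ _ z).symm.trans hz, z.2⟩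

private theorem unique_generic {O : U.Opens} (hO : Good g O) {i j : U} (hi : i ∈ O) (hj : j ∈ O)
    (h : g.base i = g.base j) : i = j := by
  have : IsOpenImmersion (O.ι ≫ g) := hO
  have := (O.ι ≫ g).isOpenEmbedding.injective (a₁ := ⟨i, hi⟩) (a₂ := ⟨j, hj⟩) (by simpa using h)
  exact congrArg Subtype.val this

private theorem inj_of_generic [IsSeparated g] {O O' : U.Opens} (hO : Good g O) (hO' : Good g O')
    {i a a' : U} (hi : i ∈ O) (hi' : i ∈ O') (ha : a ∈ O) (ha' : a' ∈ O') (h : g.base a = g.base a') :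
    a = a' := by
  have : IsOpenImmersion (O.ι ≫ g) := hO
  have : IsOpenImmersion (O'.ι ≫ g) := hO'
  let P := pullback (O.ι ≫ g) (O'.ι ≫ g)
  obtain ⟨z, hz, hz'⟩ := Scheme.Pullback.exists_preimage_pullback (f := O.ι ≫ g) (g := O'.ι ≫ g)
    ⟨a, ha⟩ ⟨a', ha'⟩ (by simpa using h)
  have : IsOpenImmersion (pullback.fst (O.ι ≫ g) (O'.ι ≫ g) ≫ O.ι ≫ g) := inferInstance
  have : Nonempty P := ⟨z⟩
  have : IsIntegral P := isIntegral_of_isOpenImmersion (pullback.fst (O.ι ≫ g) (O'.ι ≫ g) ≫ O.ι ≫ g)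
  let N := O ⊓ O'
  let j : (N : Scheme.{u}) ⟶ P := pullback.lift (U.homOfLE inf_le_left) (U.homOfLE inf_le_right) (by
    rw [← Category.assoc, ← Category.assoc, U.homOfLE_ι, U.homOfLE_ι])
  have : IsOpenImmersion j := by
    have : IsOpenImmersion (j ≫ pullback.fst _ _) := by
      rw [pullback.lift_fst]; infer_instance
    exact IsOpenImmersion.of_comp j (pullback.fst _ _)
  have : IsDominant j := ⟨j.isOpenEmbedding.isOpen_range.dense ⟨j.base ⟨i, hi, hi'⟩, ⟨_, rfl⟩⟩⟩
  have key : pullback.fst (O.ι ≫ g) (O'.ι ≫ g) ≫ O.ι = pullback.snd (O.ι ≫ g) (O'.ι ≫ g) ≫ O'.ι :=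
    ext_of_isDominant_of_isSeparated g (by rw [Category.assoc, pullback.condition, Category.assoc]) j (by
      rw [pullback.lift_fst_assoc, pullback.lift_snd_assoc, U.homOfLE_ι, U.homOfLE_ι])
  have := congrArg (fun k : P ⟶ U => k.base z) key
  simp only [Scheme.Hom.comp_apply] at this
  exact (congrArg O.ι.base hz).symm.trans (this.trans (congrArg O'.ι.base hz'))

/-- Part (1) — over an integral normal scheme whose function field is separably closed, any separated
étale scheme is a disjoint union of open subschemes of the base. -/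
theorem result {U X : Scheme.{u}} [IsIntegral X] (hN : ∀ x : X, IsIntegrallyClosed (X.presheaf.stalk x))
    [IsSepClosed X.functionField] (g : U ⟶ X) [AlgebraicGeometry.Etale g] [IsSeparated g] :
    ∃ (ι : Type u) (V : ι → X.Opens) (e : (∐ fun i => (V i : Scheme.{u})) ≅ U),
      ∀ i, Sigma.ι (fun i => (V i : Scheme.{u})) i ≫ e.hom ≫ g = (V i).ι := by
  let ι := {i : U // g.base i = genericPoint X}
  let W : ι → U.Opens := fun i => ⨆ (O : {O : U.Opens // Good g O ∧ i.1 ∈ O}), O.1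
  have hmem : ∀ (i : ι) (a : U), a ∈ W i → ∃ O, Good g O ∧ i.1 ∈ O ∧ a ∈ O := fun i a ha => by
    obtain ⟨⟨O, hO⟩, haO⟩ := TopologicalSpace.Opens.mem_iSup.1 ha
    exact ⟨O, hO.1, hO.2, haO⟩
  have hW : ∀ i, IsOpenImmersion ((W i).ι ≫ g) := fun i => by
    refine IsOpenImmersion.of_forall_source_exists _ ?_ fun x => ?_
    · rintro ⟨a, ha⟩ ⟨a', ha'⟩ h
      obtain ⟨O, hO, hiO, haO⟩ := hmem i a ha
      obtain ⟨O', hO', hiO', haO'⟩ := hmem i a' ha'
      exact Subtype.ext (inj_of_generic g hO hO' hiO hiO' haO haO' (by simpa using h))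
    · obtain ⟨O, hO, hiO, haO⟩ := hmem i x.1 x.2
      have hle : O ≤ W i := le_iSup (fun O : {O : U.Opens // Good g O ∧ i.1 ∈ O} => O.1) ⟨O, hO, hiO⟩
      refine ⟨O, U.homOfLE hle, inferInstance, ⟨⟨x.1, haO⟩, Subtype.ext (by
        show (U.homOfLE hle ≫ (W i).ι).base ⟨x.1, haO⟩ = x.1
        rw [U.homOfLE_ι]; rfl)⟩, ?_⟩
      rw [← Category.assoc, U.homOfLE_ι]
      exact hO
  have hdisj : ∀ i j : ι, ∀ a, a ∈ W i → a ∈ W j → i = j := by
    intro i j a hai haj
    obtain ⟨O, hO, hiO, haO⟩ := hmem i a hai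
    obtain ⟨O', hO', hjO', haO'⟩ := hmem j a haj
    have hO'' : Good g (O ⊓ O') := by
      show IsOpenImmersion _
      have : IsOpenImmersion (O.ι ≫ g) := hO
      rw [← U.homOfLE_ι (inf_le_left : O ⊓ O' ≤ O), Category.assoc]
      infer_instance
    obtain ⟨k, hk, hkO⟩ := exists_generic g hO'' (a := a) ⟨haO, haO'⟩
    exact Subtype.ext ((unique_generic g hO hiO hkO.1 (i.2.trans hk.symm)).trans
      (unique_generic g hO' hjO' hkO.2 (j.2.trans hk.symm)).symm)
  have hcov : ∀ a, ∃ i, a ∈ W i := fun a => by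
    obtain ⟨O, haO, hO⟩ := exists_chart g hN a
    obtain ⟨i, hi, hiO⟩ := exists_generic g hO haO
    exact ⟨⟨i, hi⟩, TopologicalSpace.Opens.mem_iSup.2 ⟨⟨O, hO, hiO⟩, haO⟩⟩
  let V : ι → X.Opens := fun i => ((W i).ι ≫ g).opensRange
  let α : ∀ i, (V i : Scheme.{u}) ⟶ U := fun i => ((W i).ι ≫ g).isoOpensRange.inv ≫ (W i).ι
  have hr : ∀ i, Set.range (α i).base = (W i : Set U) := fun i => by
    ext a
    constructor
    · rintro ⟨z, rfl⟩
      exact (((W i).ι ≫ g).isoOpensRange.inv.base z).2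
    · intro ha
      refine ⟨((W i).ι ≫ g).isoOpensRange.hom.base ⟨a, ha⟩, ?_⟩
      rw [← Scheme.Hom.comp_apply, Iso.hom_inv_id_assoc]
      rfl
  have : IsOpenImmersion (Sigma.desc α) := isOpenImmersion_sigmaDesc _ α fun i j hij => by
    show Disjoint (Set.range (α i).base) (Set.range (α j).base)
    rw [hr, hr, Set.disjoint_left]
    exact fun a hi hj => hij (hdisj i j a hi hj)
  have : Surjective (Sigma.desc α) := ⟨fun a => by
    obtain ⟨i, hi⟩ := hcov a
    rw [← SetLike.mem_coe, ← hr] at hi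
    obtain ⟨z, rfl⟩ := hi
    exact ⟨(Sigma.ι (fun i => (V i : Scheme.{u})) i).base z, by rw [← Scheme.Hom.comp_apply, Sigma.ι_desc]⟩⟩
  have : IsIso (Sigma.desc α) := (isIso_iff_isOpenImmersion_and_surjective _).2 ⟨inferInstance, inferInstance⟩
  refine ⟨ι, V, asIso (Sigma.desc α), fun i => ?_⟩
  rw [asIso_hom, Sigma.ι_desc_assoc, Category.assoc]
  exact (Iso.inv_comp_eq _).2 (Scheme.Hom.isoOpensRange_hom_ι _).symm

end Groth.Agent.S0089
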