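import Groth.Statements.S0092
import Groth.Agent.GabberAff13.Vanish

set_option autoImplicit false
open CategoryTheory CategoryTheory.Limits AlgebraicGeometry Opposite
universe u
open EtBase

namespace Groth.Agent.S0092

/-- The degree-one case — for X affine, integral and normal with separably closed function field, the
constant sheaf on a finite abelian group has vanishing first étale cohomology on every closed
subscheme of X. -/
theorem result {Z X : Scheme.{u}} [IsAffine X] [IsIntegral X]
    (hN : ∀ x : X, IsIntegrallyClosed (X.presheaf.stalk x)) [IsSepClosed X.functionField]
    (i : Z ⟶ X) [IsClosedImmersion i] (M : Type) [AddCommGroup M] [Finite M] :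
    Subsingleton (EtCoh.H Z (EtCoh.const Z M) 1) := by
  exact GabberAff13.subsingleton_H_const 0 ⟨inferInstance, X, 𝟙 X, inferInstance, inferInstance, inferInstance, hN⟩ i M

end Groth.Agent.S0092
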