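import Groth.Statements.S0095
import Groth.Agent.S0094
import Groth.Agent.GeomSep.Basic

set_option linter.style.haveILetI false

set_option autoImplicit false
open CategoryTheory CategoryTheory.Limits AlgebraicGeometry Opposite
universe u
open EtBase

namespace Groth.Agent.S0095

/-- For a scheme over a separably closed field k and a field extension K of k, global sections of an
abelian étale sheaf do not change under base change to K (the source proves this for sheaves of
sets; the abelian case is stated). -/
theorem result {k K : Type u} [Field k] [IsSepClosed k] [Field K] [Algebra k K]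
    {S : Scheme.{u}} (a : S ⟶ Spec (CommRingCat.of k))
    [EtCoh.BCCont (pullback.fst a (Spec.map (CommRingCat.ofHom (algebraMap k K))))]
    (F : EtCoh.Ab S) :
    Function.Bijective (((EtCoh.pullPushAdj
      (pullback.fst a (Spec.map (CommRingCat.ofHom (algebraMap k K))))).unit.app F).hom.app
        (op (EtCoh.top S))) := by
  let g := Spec.map (CommRingCat.ofHom (algebraMap k K))
  haveI : Flat g := HasRingHomProperty.Spec_iff.2 (RingHom.flat_algebraMap_iff.2 inferInstance)
  refine Groth.Agent.S0094.result (pullback.fst a g) (fun Ω _ _ s => ?_) F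
  let φ : CommRingCat.of k ⟶ CommRingCat.of Ω := Spec.preimage (s ≫ a)
  letI : Algebra k Ω := φ.hom.toAlgebra
  haveI hC : ConnectedSpace (PrimeSpectrum (TensorProduct k K Ω)) := GeomSep.connectedSpace_tensor K Ω
  have e1 : Spec.map (CommRingCat.ofHom (algebraMap k Ω)) = s ≫ a := Spec.map_preimage _
  let e : pullback (pullback.fst a g) s ≅ Spec (CommRingCat.of (TensorProduct k K Ω)) :=
    pullbackSymmetry _ _ ≪≫ pullbackRightPullbackFstIso a g s ≪≫ pullback.congrHom e1.symm rfl ≪≫
      pullbackSymmetry _ _ ≪≫ pullbackSpecIso k K Ω
  exact (Scheme.homeoOfIso e).connectedSpace_iff.2 hC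

end Groth.Agent.S0095
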