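import Groth.Statements.S0096
import Groth.Agent.EtFound.FiniteSplit
-- import your own Groth.Agent.* helpers here

set_option autoImplicit false
open CategoryTheory CategoryTheory.Limits AlgebraicGeometry Opposite
universe u
open EtBase

namespace Groth.Agent.S0096

/-- A finite unramified morphism becomes, after base change to a suitable étale neighbourhood of any
point of the base, a finite disjoint union of closed immersions. -/
theorem result {X S : Scheme.{u}} (f : X ⟶ S) [IsFinite f] [FormallyUnramified f] (s : S) :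
    ∃ (U : Scheme.{u}) (g : U ⟶ S) (_ : AlgebraicGeometry.Etale g) (u : U) (_ : g.base u = s)
      (n : ℕ) (V : Fin n → Scheme.{u}) (c : ∀ j, V j ⟶ U) (_ : ∀ j, IsClosedImmersion (c j))
      (e : (∐ V) ≅ pullback f g), ∀ j, Sigma.ι V j ≫ e.hom ≫ pullback.snd f g = c j := by
  let Ω := AlgebraicClosure (S.residueField s)
  let η : Spec (CommRingCat.of Ω) ⟶ S :=
    Spec.map (CommRingCat.ofHom (algebraMap (S.residueField s) Ω)) ≫ S.fromSpecResidueField s
  obtain ⟨W, w, Q, hd, hc, -, hcl⟩ := EtFound.exists_closedImmersion_stage f η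
  have := EtFound.finite_points f η
  obtain ⟨n, ⟨e⟩⟩ := Finite.exists_equiv_fin {ξ : Spec (CommRingCat.of Ω) ⟶ X // ξ ≫ f = η}
  refine ⟨W.left, W.hom, W.prop, (w.left : Spec (CommRingCat.of Ω) ⟶ W.left).base (default : Spec (CommRingCat.of Ω)), ?_, n,
    fun i => (Q (e.symm i)).toScheme, fun i => (Q (e.symm i)).ι ≫ pullback.fst W.hom f, fun i => hcl _, ?_⟩
  · refine (Scheme.Hom.comp_apply _ _ _).symm.trans ?_
    refine (congrArg (fun k : Spec (CommRingCat.of Ω) ⟶ S => k.base (default : Spec (CommRingCat.of Ω))) (CategoryTheory.Over.w w)).trans ?_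
    exact (Scheme.Hom.comp_apply _ _ _).trans (Scheme.fromSpecResidueField_apply s _)
  · obtain ⟨hcol⟩ := nonempty_isColimit_cofanMk_of (fun i : Fin n => (Q (e.symm i)).ι)
      (by
        refine eq_top_iff.2 fun x _ => ?_
        obtain ⟨a, ha⟩ := TopologicalSpace.Opens.mem_iSup.1 (hc.ge (TopologicalSpace.Opens.mem_top x))
        exact TopologicalSpace.Opens.mem_iSup.2 ⟨e a, by simpa using ha⟩)
      (fun i j hij => by
        simpa [Function.onFun] using hd (fun h => hij (e.symm.injective h)))
    refine ⟨(coproductIsCoproduct _).coconePointUniqueUpToIso hcol ≪≫ pullbackSymmetry W.hom f, fun j => ?_⟩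
    have := (coproductIsCoproduct fun i => (Q (e.symm i)).toScheme).comp_coconePointUniqueUpToIso_hom hcol ⟨j⟩
    simp only [Iso.trans_hom, Category.assoc]
    refine (Category.assoc _ _ _).symm.trans ((congrArg (· ≫ _) this).trans ?_)
    exact congrArg (_ ≫ ·) (pullbackSymmetry_hom_comp_snd W.hom f)

end Groth.Agent.S0096
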