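import Groth.Statements.S0098
import Groth.Agent.EtFound.UnrFinite
import Mathlib.AlgebraicGeometry.Morphisms.FlatMono

set_option autoImplicit false
open CategoryTheory CategoryTheory.Limits AlgebraicGeometry Opposite
universe u
open EtBase

namespace Groth.Agent.S0098

/-- A finite étale morphism whose fibre over a point s is a single point with the same residue field is
an isomorphism over an open neighbourhood of s. -/
theorem result {X S : Scheme.{u}} (f : X ⟶ S) [IsFinite f] [AlgebraicGeometry.Etale f] (s : S) (x : X)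
    (hx : f.base ⁻¹' {s} = {x}) (hκ : Function.Surjective (f.residueFieldMap x)) :
    ∃ U : S.Opens, s ∈ U ∧ IsIso (f ∣_ U) := by
  obtain ⟨U, hsU, hU⟩ := EtFound.exists_isClosedImmersion_restrict f s x hx hκ
  have hfx : f.base x = s := by
    have : x ∈ f.base ⁻¹' {s} := by rw [hx]; rfl
    exact this
  let U' : S.Opens := ⟨f.base '' (f ⁻¹ᵁ U : Set X), f.isOpenMap _ (f ⁻¹ᵁ U).isOpen⟩
  have hle : U' ≤ U := by rintro _ ⟨y, hy, rfl⟩; exact hy
  refine ⟨U', ⟨x, show f.base x ∈ U by rwa [hfx], hfx⟩, ?_⟩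
  have hmono : Mono (f ∣_ U) := ((IsClosedImmersion.iff_isFinite_and_mono _).1 hU).2
  have hle' : f ⁻¹ᵁ U' ≤ f ⁻¹ᵁ U := fun y hy => hle hy
  have hw : (f ∣_ U') ≫ S.homOfLE hle = X.homOfLE hle' ≫ (f ∣_ U) := by
    rw [← cancel_mono U.ι]
    simp [morphismRestrict_ι]
  have : Mono (f ∣_ U') := mono_of_mono_fac hw
  have : AlgebraicGeometry.Etale (f ∣_ U') :=
    MorphismProperty.of_isPullback (P := @AlgebraicGeometry.Etale) (isPullback_morphismRestrict f U').flip ‹_›
  have : IsOpenImmersion (f ∣_ U') := IsOpenImmersion.of_flat_of_mono _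
  rw [isIso_iff_isOpenImmersion_and_surjective]
  refine ⟨this, ⟨fun z => ?_⟩⟩
  obtain ⟨y, hy, hyz⟩ := z.2
  exact ⟨⟨y, show f.base y ∈ U' from ⟨y, hy, rfl⟩⟩, Subtype.ext ((morphismRestrict_base_coe f U' _).trans hyz)⟩

end Groth.Agent.S0098
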