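import Groth.Statements.S0099
import Groth.Agent.EtLC12.QcqsAcyclic

set_option autoImplicit false
open CategoryTheory CategoryTheory.Limits AlgebraicGeometry Opposite
universe u
open EtBase

namespace Groth.Agent.S0099

/-- On a quasi-compact quasi-separated scheme, étale cohomology in each degree commutes with filtered
colimits of abelian sheaves (stated for small filtered index categories). -/
theorem result (X : Scheme.{u}) [CompactSpace X] [QuasiSeparatedSpace X] (n : ℕ)
    (J : Type u) [SmallCategory J] [IsFiltered J] :
    PreservesColimitsOfShape J (EtCoh.HF X n) := by
  haveI : IsFiltered (AsSmall.{u + 1} J) := IsFiltered.of_equivalence AsSmall.equiv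
  haveI := EtLC12.QcqsAcyclic.preservesColimitsOfShape_HF X n (AsSmall.{u + 1} J)
  exact preservesColimitsOfShape_of_equiv (AsSmall.equiv (C := J)).symm _

end Groth.Agent.S0099
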