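import Groth.Statements.S0100
import Groth.Agent.EtFound.PullStalk

set_option autoImplicit false
open CategoryTheory CategoryTheory.Limits AlgebraicGeometry Opposite
universe u
open EtBase

namespace Groth.Agent.S0100

/-- Let f : X ⟶ Y be a morphism of schemes, G an abelian sheaf on the small étale site of Y and ξ : Spec
Ω ⟶ X a geometric point of X (Ω a separably closed field). Then the stalk of the inverse image f⁻¹G
at ξ is isomorphic to the stalk of G at the image geometric point ξ ≫ f of Y. Only the existence of
an isomorphism is asserted; the published identification is canonical. -/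
theorem result {X Y : Scheme.{u}} (f : X ⟶ Y) [EtCoh.BCCont f] (G : EtCoh.Ab Y)
    {Ω : Type u} [Field Ω] [IsSepClosed Ω] (ξ : Spec (CommRingCat.of Ω) ⟶ X) :
    Nonempty ((EtCoh.stalk ξ).obj ((EtCoh.pull f).obj G) ≅ (EtCoh.stalk (ξ ≫ f)).obj G) := by
  exact ⟨(Groth.Agent.EtFound.stalkPullIso f ξ).app G⟩

end Groth.Agent.S0100
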