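import Groth.Statements.S0102
import Groth.Agent.EtFound.Stalk
import Mathlib.AlgebraicGeometry.Morphisms.UniversallyOpen

set_option autoImplicit false
open CategoryTheory CategoryTheory.Limits AlgebraicGeometry Opposite
universe u
open EtBase

namespace Groth.Agent.S0102

/-- A section of an abelian étale sheaf over an étale scheme U vanishes on pullback to an étale V → U
exactly when V maps into a certain largest open subset of U. -/
theorem result {S : Scheme.{u}} (F : EtCoh.Ab S) (U : S.Etale) (σ : EtCoh.sect F U) :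
    ∃ W : U.left.Opens, ∀ (V : S.Etale) (φ : V ⟶ U),
      F.obj.map φ.op σ = 0 ↔ Set.range φ.left.base ⊆ (W : Set U.left) := by
  let W : Set U.left :=
    ⋃ (V : S.Etale) (φ : V ⟶ U) (_ : F.obj.map φ.op σ = 0), Set.range φ.left.base
  refine ⟨⟨W, ?_⟩, fun V φ => ⟨fun h => ?_, fun h => ?_⟩⟩
  · refine isOpen_iUnion fun V => isOpen_iUnion fun φ => isOpen_iUnion fun _ => ?_
    have : AlgebraicGeometry.Etale φ.left := Groth.Agent.EtFound.etale_left φ
    exact φ.left.isOpenMap.isOpen_range
  · rintro _ ⟨v, rfl⟩
    exact Set.mem_iUnion.2 ⟨V, Set.mem_iUnion.2 ⟨φ, Set.mem_iUnion.2 ⟨h, v, rfl⟩⟩⟩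
  · let R : Sieve V :=
      { arrows := fun T a => F.obj.map (a ≫ φ).op σ = 0
        downward_closed := by
          intro T T' a ha b
          rw [Category.assoc, op_comp, Functor.map_comp, ConcreteCategory.comp_apply, ha, map_zero] }
    have hR : R ∈ S.smallEtaleTopology V := by
      rw [Groth.Agent.EtFound.mem_topology_iff]
      intro v
      have hv : φ.left.base v ∈ W := h ⟨v, rfl⟩
      obtain ⟨T, hv⟩ := Set.mem_iUnion.1 hv
      obtain ⟨ψ, hv⟩ := Set.mem_iUnion.1 hv
      obtain ⟨hψ, t, ht⟩ := Set.mem_iUnion.1 hv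
      obtain ⟨z, hz1, hz2⟩ := Scheme.Pullback.exists_preimage_pullback
        (f := φ.left) (g := ψ.left) v t ht.symm
      let P : CategoryTheory.Over S := CategoryTheory.Over.mk (pullback.fst φ.left ψ.left ≫ V.hom)
      have : AlgebraicGeometry.Etale ψ.left := Groth.Agent.EtFound.etale_left ψ
      have : AlgebraicGeometry.Etale V.hom := V.prop
      let Q : S.Etale := Scheme.Etale.mk (pullback.fst φ.left ψ.left ≫ V.hom)
      let a : Q ⟶ V := MorphismProperty.Over.homMk (pullback.fst φ.left ψ.left) rfl
      let b : Q ⟶ T := MorphismProperty.Over.homMk (pullback.snd φ.left ψ.left) (by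
        change pullback.snd φ.left ψ.left ≫ T.hom = pullback.fst φ.left ψ.left ≫ V.hom
        rw [← MorphismProperty.Over.w ψ, ← MorphismProperty.Over.w φ, pullback.condition_assoc])
      have hab : a ≫ φ = b ≫ ψ := MorphismProperty.Over.Hom.ext pullback.condition
      refine ⟨Q, a, z, ?_, hz1⟩
      change F.obj.map (a ≫ φ).op σ = 0
      rw [hab, op_comp, Functor.map_comp, ConcreteCategory.comp_apply, hψ, map_zero]
    refine (((isSheaf_iff_isSheaf_of_type _ _).1
      ((sheafCompose S.smallEtaleTopology (CategoryTheory.forget AddCommGrpCat.{u+1})).obj F).property).isSeparated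
      _ hR).ext fun T a ha => ?_
    change F.obj.map a.op (F.obj.map φ.op σ) = F.obj.map a.op (0 : F.obj.obj (op V))
    rw [map_zero, ← ConcreteCategory.comp_apply, ← Functor.map_comp, ← op_comp]
    exact ha

end Groth.Agent.S0102
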