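import Groth.Statements.S18414
import Groth.Agent.GaLin11.GaLin
import Groth.Agent.GaLin11.SemilinearSep
import Groth.Agent.S0002
import Groth.Agent.QCoh.DevissageP

set_option autoImplicit false
universe u
open CategoryTheory AlgebraicGeometry
open EtCoh

namespace Groth.Agent.S18414

/-- In the case of a proper scheme — let k be a separably closed field of characteristic p > 0 and X a
scheme proper over k, so that p = 0 in Γ(X, O_X). Then for every q ≥ 0 the endomorphism of the étale
cohomology group H^q(X_et, G_a) induced by the Artin–Schreier endomorphism x ↦ x^p − x of G_a is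
surjective; by the long exact sequence of 0 → Z/p → G_a → G_a → 0 this says that 0 → H^q(X_et, Z/p)
→ H^q(X_et, G_a) → H^q(X_et, G_a) → 0 is exact for every q. (The published statement writes the
middle terms as the Zariski cohomology H^q(X, O_X), canonically isomorphic to H^q(X_et, G_a), and
also records the vanishing of H^q(X_et, Z/p) for q > dim X, and for q ≥ 2 when X is affine.) -/
theorem result
    {k : Type u} [Field k] [IsSepClosed k] (p : ℕ) [hp : Fact p.Prime] [CharP k p]
    {X : Scheme.{u}} (f : X ⟶ Spec (CommRingCat.of k)) [IsProper f]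
    (h0 : (p : Γ(X, ⊤)) = 0) (q : ℕ) :
    Function.Surjective
      ((EtCoh.HF X q).map (W4c5etcohweilstudent.artinSchreierEndo X p hp.out h0)) := by
  letI : X.Over (Spec (CommRingCat.of k)) := ⟨f⟩
  haveI : IsProper (X ↘ Spec (CommRingCat.of k)) := ‹IsProper f›
  haveI : Module.Finite k (Coh.HH X (Coh.structureModule X) q) :=
    S0002.result k X _ (by
      haveI : IsLocallyNoetherian X := LocallyOfFiniteType.isLocallyNoetherian f
      exact QCoh.isCoh_structureModule') q
  haveI := EtLC12.EtZarCompare.zarCont X
  obtain ⟨e, he⟩ := GaLin11.exists_H_Ga_addEquiv X q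
  let F : Coh.HH X (Coh.structureModule X) q →+ Coh.HH X (Coh.structureModule X) q :=
    (e.toAddMonoidHom.comp (Sheaf.H.map (GaLin11.frobGa p h0) q)).comp e.symm.toAddMonoidHom
  have hF : ∀ (c : k) (v), F (c • v) = c ^ p • F v := by
    intro c v
    let a : Γ(X, ⊤) := Coh.toGlobal f c
    have hv : e.symm (c • v) = Sheaf.H.map (GaLin11.mulGa a) q (e.symm v) := by
      refine e.injective ?_
      rw [he, AddEquiv.apply_symm_apply, AddEquiv.apply_symm_apply]
      rfl
    show e (Sheaf.H.map (GaLin11.frobGa p h0) q (e.symm (c • v))) = _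
    rw [hv, ← Sheaf.H.map_comp_apply, GaLin11.mulGa_frobGa, Sheaf.H.map_comp_apply, he]
    change _ = c ^ p • e (Sheaf.H.map (GaLin11.frobGa p h0) q (e.symm v))
    generalize e (Sheaf.H.map (GaLin11.frobGa p h0) q (e.symm v)) = w
    exact congrArg (fun r : Coh.Γtop X => r • w) (map_pow (Coh.toGlobal f) c p).symm
  intro y
  obtain ⟨v, hv⟩ := GaLin11.exists_sub_eq p F hF (e y)
  refine ⟨e.symm v, e.injective (Eq.trans ?_ hv)⟩
  show e (Sheaf.H.map (EtLC12.ArtinSchreier.as p h0) q (e.symm v)) = e (Sheaf.H.map (GaLin11.frobGa p h0) q (e.symm v)) - v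
  conv_rhs => rw [GaLin11.frobGa, Sheaf.H.map_add_apply, Sheaf.H.map_id_apply, map_add, AddEquiv.apply_symm_apply, add_sub_cancel_right]


end Groth.Agent.S18414
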