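import Groth.Statements.S0104
import Groth.Agent.GaLin11.GaLin
import Groth.Agent.S18414
import Groth.Agent.S0002
import Groth.Agent.QCoh.DevissageP
import Groth.Agent.LangLib.Semilinear

set_option autoImplicit false
open CategoryTheory CategoryTheory.Limits AlgebraicGeometry Opposite
universe u
open EtBase

namespace Groth.Agent.S0104

/-- For a scheme proper over an algebraically closed field of characteristic p (p a prime), the étale
cohomology groups H^q with coefficients in the constant sheaf Z/pZ are finite for every q. -/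
theorem result {k : Type u} [Field k] [IsAlgClosed k] (p : ℕ) [Fact p.Prime] [CharP k p]
    {X : Scheme.{u}} (f : X ⟶ Spec (CommRingCat.of k)) [IsProper f] (q : ℕ) :
    Finite (EtCoh.H X (EtCoh.const X (ZMod p)) q) := by
  haveI : IsLocallyNoetherian X := LocallyOfFiniteType.isLocallyNoetherian f
  letI : X.Over (Spec (CommRingCat.of k)) := ⟨f⟩
  haveI : IsProper (X ↘ Spec (CommRingCat.of k)) := ‹IsProper f›
  haveI : Module.Finite k (Coh.HH X (Coh.structureModule X) q) :=
    S0002.result k X _ QCoh.isCoh_structureModule' q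
  have h0 : (p : Γ(X, ⊤)) = 0 := by
    have h : Coh.toGlobal f (p : k) = 0 := by rw [CharP.cast_eq_zero k p, map_zero]
    exact (map_natCast (Coh.toGlobal f) p).symm.trans h
  haveI := EtLC12.EtZarCompare.zarCont X
  obtain ⟨e, he⟩ := GaLin11.exists_H_Ga_addEquiv X q
  let F : Coh.HH X (Coh.structureModule X) q →+ Coh.HH X (Coh.structureModule X) q :=
    (e.toAddMonoidHom.comp (Sheaf.H.map (GaLin11.frobGa p h0) q)).comp e.symm.toAddMonoidHom
  have hF : ∀ (c : k) (v : Coh.HH X (Coh.structureModule X) q), F (c • v) = c ^ p • F v := by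
    intro c v
    let a : Γ(X, ⊤) := Coh.toGlobal f c
    have hv : e.symm (c • v) = Sheaf.H.map (GaLin11.mulGa a) q (e.symm v) := by
      refine e.injective ?_
      rw [he, AddEquiv.apply_symm_apply, AddEquiv.apply_symm_apply]
      rfl
    show e (Sheaf.H.map (GaLin11.frobGa p h0) q (e.symm (c • v))) = _
    rw [hv, ← Sheaf.H.map_comp_apply, GaLin11.mulGa_frobGa, Sheaf.H.map_comp_apply, he]
    change _ = c ^ p • e (Sheaf.H.map (GaLin11.frobGa p h0) q (e.symm v))
    generalize e (Sheaf.H.map (GaLin11.frobGa p h0) q (e.symm v)) = w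
    exact congrArg (fun r : Coh.Γtop X => r • w) (map_pow (Coh.toGlobal f) c p).symm
  have hfix := (LangLib.fixed_finite p F hF).1
  haveI := hfix.to_subtype
  have hS := EtLC12.ArtinSchreier.shortExact_kernel (X := X) p h0
  let m := Sheaf.H.map (kernel.ι (EtLC12.ArtinSchreier.as (X := X) p h0)) q
  have hm' : ∀ r, Function.Injective (Sheaf.H.map (kernel.ι (EtLC12.ArtinSchreier.as (X := X) p h0)) r) := by
    intro r
    refine (injective_iff_map_eq_zero _).2 fun x hx => ?_
    match r, x, hx with
    | 0, x, hx =>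
      obtain ⟨g, rfl⟩ := (Abelian.Ext.mk₀_bijective _ _).2 x
      rw [Sheaf.H.map_apply, Abelian.Ext.mk₀_comp_mk₀] at hx
      have hz : g ≫ kernel.ι (EtLC12.ArtinSchreier.as (X := X) p h0) = 0 :=
        (Abelian.Ext.mk₀_bijective _ _).1 (hx.trans (Abelian.Ext.mk₀_zero _ _).symm)
      rw [zero_of_comp_mono _ hz, Abelian.Ext.mk₀_zero]
    | r + 1, x, hx =>
      obtain ⟨y, rfl⟩ := Abelian.Ext.covariant_sequence_exact₁ _ hS x hx (rfl : r + 1 = r + 1)
      obtain ⟨y', rfl⟩ := S18414.result p f h0 r y
      exact SiteBase.Edge.postcomp_extClass_zero _ hS r y'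
  have hm : Function.Injective m := hm' q
  have hval : ∀ x, F (e (m x)) = e (m x) := fun x => by
    show e (Sheaf.H.map (GaLin11.frobGa p h0) q (e.symm (e (m x)))) = _
    rw [AddEquiv.symm_apply_apply, GaLin11.frobGa, Sheaf.H.map_add_apply, Sheaf.H.map_id_apply]
    have : Sheaf.H.map (EtLC12.ArtinSchreier.as p h0) q (m x) = 0 := by
      show Sheaf.H.map _ q (Sheaf.H.map _ q x) = 0
      rw [← Sheaf.H.map_comp_apply, kernel.condition]
      rw [Sheaf.H.map_apply, Abelian.Ext.mk₀_zero, Abelian.Ext.comp_zero]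
    rw [this, zero_add]
  haveI : Finite (EtCoh.H X (kernel (EtLC12.ArtinSchreier.as (X := X) p h0)) q) :=
    Finite.of_injective (fun x => (⟨e (m x), hval x⟩ : {v | F v = v})) fun x y hxy =>
      hm (e.injective (congrArg Subtype.val hxy))
  exact @Finite.of_equiv _ _ ‹_› ((Sheaf.functorH _ q).mapIso
    (asIso (EtLC12.ArtinSchreier.constToKer (X := X) p h0))).addCommGroupIsoToAddEquiv.symm.toEquiv


end Groth.Agent.S0104
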