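import Groth.Statements.S0105
import Groth.Agent.EtLC12.StalkOfConst
import Mathlib.FieldTheory.IsAlgClosed.AlgebraicClosure
import Mathlib.AlgebraicGeometry.Morphisms.Etale
import Mathlib.AlgebraicGeometry.Morphisms.UniversallyOpen

set_option autoImplicit false
open CategoryTheory CategoryTheory.Limits AlgebraicGeometry Opposite
universe u
open EtBase

namespace Groth.Agent.S0105

open CategoryTheory CategoryTheory.Limits AlgebraicGeometry

private theorem mulEquiv_of_meet {X : Scheme.{u}} {F : EtCoh.Ab X} {U V : X.Etale} {M N : Type}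
    [AddCommGroup M] [AddCommGroup N]
    (eU : EtCoh.restr F U ≅ (constantSheaf (X.smallEtaleTopology.over U) AddCommGrpCat.{u + 1}).obj
      (AddCommGrpCat.of (ULift.{u + 1} M)))
    (eV : EtCoh.restr F V ≅ (constantSheaf (X.smallEtaleTopology.over V) AddCommGrpCat.{u + 1}).obj
      (AddCommGrpCat.of (ULift.{u + 1} N)))
    (a : U.left) (b : V.left) (hab : U.hom.base a = V.hom.base b) : Nonempty (M ≃+ N) := by
  let Ω : Type u := AlgebraicClosure (X.residueField (U.hom.base a))
  let ξ : Spec (CommRingCat.of Ω) ⟶ X :=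
    Spec.map (CommRingCat.ofHom (algebraMap (X.residueField (U.hom.base a)) Ω)) ≫
      X.fromSpecResidueField (U.hom.base a)
  have hξ : ξ.base default = U.hom.base a := by
    rw [Scheme.Hom.comp_apply]
    exact Scheme.fromSpecResidueField_apply _ _
  obtain ⟨u₀, -⟩ := Scheme.pointSmallEtaleFiberObjToPreimage_surjective ξ hξ U ⟨a, rfl⟩
  obtain ⟨v₀, -⟩ := Scheme.pointSmallEtaleFiberObjToPreimage_surjective ξ hξ V ⟨b, hab.symm⟩
  obtain ⟨i₁⟩ := EtLC12.stalk_iso_of_restr_iso_const ξ eU u₀
  obtain ⟨i₂⟩ := EtLC12.stalk_iso_of_restr_iso_const ξ eV v₀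
  exact ⟨AddEquiv.ulift.symm.trans ((i₁ ≪≫ i₂.symm).addCommGroupIsoToAddEquiv.trans AddEquiv.ulift)⟩

/-- On a connected scheme X, a finite locally constant abelian sheaf F on the small étale site is, étale
locally, constant with one and the same finite group everywhere: there are a finite abelian group M
and an étale covering (U_i) of X such that the restriction of F to every U_i is isomorphic to the
constant sheaf with value M. (The published statement covers arbitrary locally constant sheaves of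
modules; stated here for finite locally constant abelian sheaves.) -/
theorem result {X : Scheme.{u}} [ConnectedSpace X] (F : EtCoh.Ab X) (h : EtCoh.IsFiniteLocallyConstant F) :
    ∃ (M : Type) (_ : AddCommGroup M) (_ : Finite M) (ι : Type u) (U : ι → X.Etale), EtCoh.Covers U ∧
      ∀ i, Nonempty (EtCoh.restr F (U i) ≅
        (constantSheaf (X.smallEtaleTopology.over (U i)) AddCommGrpCat.{u + 1}).obj
          (AddCommGrpCat.of (ULift.{u + 1} M))) := by
  obtain ⟨ι, U, hU, h⟩ := h
  choose M inst hfin he using h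
  obtain ⟨x₀⟩ := (inferInstance : Nonempty X)
  obtain ⟨i₀, y₀, -⟩ := hU x₀
  let good : ι → Prop := fun i => Nonempty (M i ≃+ M i₀)
  let A : Set X := ⋃ (i) (_ : good i), Set.range (U i).hom.base
  let B : Set X := ⋃ (i) (_ : ¬ good i), Set.range (U i).hom.base
  have hop : ∀ i, IsOpen (Set.range (U i).hom.base) := fun i => by
    have : AlgebraicGeometry.Etale (U i).hom := (U i).prop
    exact (U i).hom.isOpenMap.isOpen_range
  have hAB : ∀ x, x ∈ A → x ∈ B → False := by
    intro x hA hB
    simp only [A, B, Set.mem_iUnion] at hA hB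
    obtain ⟨i, hi, a, rfl⟩ := hA
    obtain ⟨j, hj, b, hb⟩ := hB
    obtain ⟨e⟩ := mulEquiv_of_meet (he i).some (he j).some a b hb.symm
    exact hj ⟨e.symm.trans hi.some⟩
  have hcompl : Aᶜ = B := by
    ext x
    refine ⟨fun hx => ?_, fun hB hA => hAB x hA hB⟩
    obtain ⟨i, a, ha⟩ := hU x
    refine Set.mem_iUnion₂.2 ⟨i, fun hi => hx (Set.mem_iUnion₂.2 ⟨i, hi, a, ha⟩), a, ha⟩
  have hA : A = Set.univ := by
    have hc : IsClopen A := ⟨⟨hcompl ▸ isOpen_biUnion fun i _ => hop i⟩,
      isOpen_biUnion fun i _ => hop i⟩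
    exact hc.eq_univ ⟨_, Set.mem_iUnion₂.2 ⟨i₀, ⟨AddEquiv.refl _⟩, y₀, rfl⟩⟩
  refine ⟨M i₀, inst i₀, hfin i₀, {i // good i}, fun i => U i.1, fun x => ?_, fun i => ?_⟩
  · obtain ⟨i, hi, a, ha⟩ := Set.mem_iUnion₂.1 (hA.ge (Set.mem_univ x))
    exact ⟨⟨i, hi⟩, a, ha⟩
  · exact ⟨(he i.1).some ≪≫ (constantSheaf _ _).mapIso
      (AddEquiv.toAddCommGrpIso (AddEquiv.ulift.trans (i.2.some.trans AddEquiv.ulift.symm)))⟩

end Groth.Agent.S0105
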