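import Groth.Statements.S0106
import Groth.Agent.EtFound.PushLocConst
-- import your own Groth.Agent.* helpers here

set_option autoImplicit false
open CategoryTheory CategoryTheory.Limits AlgebraicGeometry Opposite
universe u
open EtBase

namespace Groth.Agent.S0106

/-- The pushforward of a finite locally constant abelian sheaf along a finite étale morphism is again
finite locally constant. -/
theorem result {X Y : Scheme.{u}} (f : X ⟶ Y) [IsFinite f] [AlgebraicGeometry.Etale f] [EtCoh.BCCont f]
    (F : EtCoh.Ab X) (h : EtCoh.IsFiniteLocallyConstant F) :
    EtCoh.IsFiniteLocallyConstant ((EtCoh.push f).obj F) := by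
  exact EtFound.isFiniteLocallyConstant_push f F h

end Groth.Agent.S0106
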