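import Groth.Statements.S0107
import Groth.Agent.FLCSet.Rep
import Groth.Agent.EtFound.FLCAb
-- import your own Groth.Agent.* helpers here

set_option autoImplicit false
open CategoryTheory CategoryTheory.Limits AlgebraicGeometry Opposite
universe u
open EtBase

namespace Groth.Agent.S0107

set_option backward.isDefEq.respectTransparency false
set_option backward.isDefEq.respectTransparency.types false

/-- Representable presheaves on the small étale site are sheaves. -/
theorem isSheaf_yonedaU {X : Scheme.{u}} (U : X.Etale) :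
    Presheaf.IsSheaf X.smallEtaleTopology (yoneda.obj U ⋙ uliftFunctor.{u + 1, u}) := by
  haveI : Scheme.etaleTopology.{u}.Subcanonical :=
    .of_le (Scheme.etaleTopology_le_proetaleTopology.trans Scheme.proetaleTopology_le_fpqcTopology)
  let Φ := Scheme.Etale.forget X
  let e : Φ.op ⋙ yoneda.obj (Φ.obj U) ≅ yoneda.obj U :=
    NatIso.ofComponents (fun T => (Equiv.toIso ((Functor.FullyFaithful.ofFullyFaithful Φ).homEquiv (X := T.unop) (Y := U)).symm))
      (fun {T T'} g => by
        ext x
        exact Φ.map_injective (by simp [Functor.FullyFaithful.ofFullyFaithful]))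
  have h0 : Presheaf.IsSheaf (Scheme.etaleTopology.over X) (yoneda.obj (Φ.obj U) ⋙ uliftFunctor.{u + 1, u}) := by
    rw [isSheaf_iff_isSheaf_of_type, Presieve.isSheaf_comp_uliftFunctor_iff]
    exact GrothendieckTopology.Subcanonical.isSheaf_of_isRepresentable _
  exact (Presheaf.isSheaf_of_iso_iff (Functor.isoWhiskerRight e uliftFunctor.{u + 1, u})).1
    (Φ.op_comp_isSheaf X.smallEtaleTopology (Scheme.etaleTopology.over X) ⟨_, h0⟩)

/-- The underlying sheaf of sets. -/
noncomputable def und {X : Scheme.{u}} (F : EtCoh.Ab X) : EtDesc.Sh X :=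
  (sheafCompose X.smallEtaleTopology (forget AddCommGrpCat.{u + 1})).obj F

/-- The underlying sheaf of sets of a finite locally constant sheaf is finite locally constant. -/
theorem isFinLocConstSet_und {X : Scheme.{u}} (F : EtCoh.Ab X) (h : EtCoh.IsFiniteLocallyConstant F) :
    CohProp.IsFinLocConstSet (und F) := by
  choose U p hp S hS using (Groth.Agent.EtFound.isFiniteLocallyConstant_iff F).1 h
  refine ⟨X, U, fun x => ⟨x, p x, hp x⟩, fun x => ⟨↥(S x), (hS x).1, ?_⟩⟩
  refine Groth.Agent.FLCSet.nonempty_over_iso (φ := ↾(fun s : ↥(S x) => (s.1 : (und F).obj.obj (op (U x))))) ?_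
  intro Ω _ _ ξ z
  have hb := (hS x).2 Ω ξ z
  refine ⟨fun s t e => hb.1 ?_, fun τ => ?_⟩
  · obtain ⟨W, g, w, hw, e'⟩ := ((Scheme.pointSmallEtale ξ).toPresheafFiber_eq_iff' (P := (und F).obj) (U x) z
      (s.1 : (und F).obj.obj (op (U x))) (t.1 : (und F).obj.obj (op (U x)))).1 e
    exact ((Scheme.pointSmallEtale ξ).toPresheafFiber_eq_iff' (P := F.obj) (U x) z s.1 t.1).2 ⟨W, g, w, hw, e'⟩
  · obtain ⟨V, v, σ, rfl⟩ := (Scheme.pointSmallEtale ξ).toPresheafFiber_jointly_surjective (P := (und F).obj) τ
    obtain ⟨⟨W, w⟩, ⟨a, ha⟩, ⟨b, hb'⟩, -⟩ := IsCofilteredOrEmpty.cone_objs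
      ((Scheme.pointSmallEtale ξ).fiber.elementsMk V v) ((Scheme.pointSmallEtale ξ).fiber.elementsMk (U x) z)
    obtain ⟨s, hs⟩ := hb.2 ((Scheme.pointSmallEtale ξ).toPresheafFiber W w F.obj (F.obj.map a.op σ))
    refine ⟨s, ?_⟩
    have e1 : (Scheme.pointSmallEtale ξ).toPresheafFiber W w F.obj (F.obj.map b.op s.1) =
        (Scheme.pointSmallEtale ξ).toPresheafFiber W w F.obj (F.obj.map a.op σ) := by
      refine Eq.trans ?_ hs
      refine ((Scheme.pointSmallEtale ξ).toPresheafFiber_w_apply b w F.obj s.1).trans ?_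
      exact congrArg (fun q => (Scheme.pointSmallEtale ξ).toPresheafFiber (U x) q F.obj s.1) hb'
    obtain ⟨W', c, w', hc, e2⟩ := ((Scheme.pointSmallEtale ξ).toPresheafFiber_eq_iff' (P := F.obj) W w _ _).1 e1
    have l1 : (Scheme.pointSmallEtale ξ).toPresheafFiber (U x) z (und F).obj
          (s.1 : (und F).obj.obj (op (U x))) =
        (Scheme.pointSmallEtale ξ).toPresheafFiber W' w' (und F).obj
          ((und F).obj.map (c ≫ b).op (s.1 : (und F).obj.obj (op (U x)))) := by
      refine Eq.trans ?_ ((Scheme.pointSmallEtale ξ).toPresheafFiber_w_apply (c ≫ b) w' (und F).obj _).symm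
      refine congrArg (fun q => (Scheme.pointSmallEtale ξ).toPresheafFiber (U x) q (und F).obj
        (s.1 : (und F).obj.obj (op (U x)))) ?_
      rw [FunctorToTypes.map_comp_apply, hc]
      exact hb'.symm
    have l2 : (Scheme.pointSmallEtale ξ).toPresheafFiber V v (und F).obj σ =
        (Scheme.pointSmallEtale ξ).toPresheafFiber W' w' (und F).obj ((und F).obj.map (c ≫ a).op σ) := by
      refine Eq.trans ?_ ((Scheme.pointSmallEtale ξ).toPresheafFiber_w_apply (c ≫ a) w' (und F).obj _).symm
      refine congrArg (fun q => (Scheme.pointSmallEtale ξ).toPresheafFiber V q (und F).obj σ) ?_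
      rw [FunctorToTypes.map_comp_apply, hc]
      exact ha.symm
    refine l1.trans (Eq.trans (congrArg ((Scheme.pointSmallEtale ξ).toPresheafFiber W' w' (und F).obj) ?_) l2.symm)
    show F.obj.map (c ≫ b).op s.1 = F.obj.map (c ≫ a).op σ
    rw [op_comp, op_comp, F.obj.map_comp, F.obj.map_comp]
    exact e2


/-- The underlying sheaf of sets of a finite locally constant abelian sheaf F on the small étale site of
a scheme X is representable by a scheme finite étale over X: there are an étale X-scheme U with U →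
X finite and an isomorphism between the sheaf of sets underlying F and the functor of points of U. -/
theorem result {X : Scheme.{u}} (F : EtCoh.Ab X) (h : EtCoh.IsFiniteLocallyConstant F) :
    ∃ (U : X.Etale) (_ : IsFinite U.hom),
      Nonempty (F.obj ⋙ forget AddCommGrpCat.{u + 1} ≅ yoneda.obj U ⋙ uliftFunctor.{u + 1}) := by
  obtain ⟨U, hU, ⟨e⟩⟩ := Groth.Agent.FLCSet.exists_finite_repSh_iso (isFinLocConstSet_und F h)
  exact ⟨U, hU, ⟨(sheafToPresheaf _ _).mapIso e ≪≫
    (isoSheafify _ (isSheaf_yonedaU U)).symm⟩⟩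

end Groth.Agent.S0107
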