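import Groth.Statements.S0110
import Groth.Agent.EtLC12.GaZar

set_option backward.isDefEq.respectTransparency false
set_option backward.isDefEq.respectTransparency.types false

set_option autoImplicit false
open CategoryTheory CategoryTheory.Limits AlgebraicGeometry Opposite
universe u
open EtBase

namespace Groth.Agent.S0110

/-- For any scheme X and every p, the étale cohomology group H^p(X_ét, G_a) of the additive group sheaf
is isomorphic, as an additive group, to the Zariski cohomology group H^p(X, O_X) of the structure
sheaf. (Only the existence of an additive isomorphism is asserted; the published statement gives a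
canonical identification.) -/
theorem result (X : Scheme.{u}) (p : ℕ) :
    Nonempty (EtCoh.H X (EtCoh.Ga X) p ≃+ Coh.HH X (Coh.structureModule X) p) := by
  haveI := Agent.EtLC12.EtZarCompare.zarCont X
  obtain ⟨e₁⟩ := Agent.EtLC12.EtZarCompare.nonempty_H_addEquiv (EtCoh.Ga X)
    (Agent.EtLC12.GaAmitsur.isAffAcyclic_Ga X) p
  obtain ⟨e₂⟩ := Agent.EtLC12.ZarLift.nonempty_H_addEquiv (X := X) (Coh.toAb (Coh.structureModule X)) p
  exact ⟨(e₁.trans ((Sheaf.functorH _ p).mapIso
    (Agent.EtLC12.GaZar.resGaIso X)).addCommGroupIsoToAddEquiv).trans e₂.symm⟩

end Groth.Agent.S0110
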