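import Groth.Statements.S0116
import Groth.Agent.S2492
import Mathlib.AlgebraicGeometry.Morphisms.UniversallyOpen
import Mathlib.AlgebraicGeometry.Limits
import Mathlib.AlgebraicGeometry.Morphisms.QuasiSeparated
-- import your own Groth.Agent.* helpers here

set_option autoImplicit false
open CategoryTheory CategoryTheory.Limits AlgebraicGeometry Opposite
universe u
open EtBase

namespace Groth.Agent.S0116

/-- If f : X → Y is surjective, flat and locally of finite presentation and X is locally Noetherian,
then Y is locally Noetherian. (This is the descent half of the statement that, for such f, X is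
locally Noetherian if and only if Y is; the ascent half is the fact that a scheme locally of finite
type over a locally Noetherian scheme is locally Noetherian, and is not stated here.) -/
theorem result {X Y : Scheme.{u}} (f : X ⟶ Y) [Surjective f] [Flat f] [LocallyOfFinitePresentation f]
    [IsLocallyNoetherian X] : IsLocallyNoetherian Y := by
  suffices h : ∀ V : Y.affineOpens, IsLocallyNoetherian (V.1 : Scheme.{u}) from
    (isLocallyNoetherian_iff_openCover (Y.openCoverOfIsOpenCover _ (iSup_affineOpens_eq_top Y))).2 h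
  intro V
  haveI : IsAffine (V.1 : Scheme.{u}) := V.2
  let U := f ⁻¹ᵁ V.1
  let g : (U : Scheme.{u}) ⟶ V.1 := f ∣_ V.1
  haveI : Surjective g := MorphismProperty.of_isPullback (isPullback_morphismRestrict f V.1).flip inferInstance
  choose A hA hxA _ using fun x : (U : Scheme.{u}) =>
    exists_isAffineOpen_mem_and_subset (U := (⊤ : (U : Scheme.{u}).Opens)) (TopologicalSpace.Opens.mem_top x)
  have ho : ∀ x, IsOpen (Set.range ((A x).ι ≫ g).base) := fun x =>
    (Scheme.Hom.isOpenMap ((A x).ι ≫ g)).isOpen_range
  obtain ⟨t, ht⟩ := isCompact_univ.elim_finite_subcover _ ho (fun y _ => by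
    obtain ⟨x, hx⟩ := Surjective.surj (f := g) y
    exact Set.mem_iUnion.2 ⟨x, ⟨x, hxA x⟩, hx⟩)
  let Z := ∐ fun x : (t : Set _) => (A x.1 : Scheme.{u})
  haveI : ∀ x : (t : Set _), IsAffine (A x.1 : Scheme.{u}) := fun x => hA x.1
  haveI : IsLocallyNoetherian Z :=
    (isLocallyNoetherian_iff_openCover (sigmaOpenCover _)).2 fun x =>
      isLocallyNoetherian_of_isOpenImmersion (X := (A x.1 : Scheme.{u})) (A x.1).ι
  let p : Z ⟶ V.1 := Sigma.desc fun x => (A x.1).ι ≫ g
  haveI : Surjective p := ⟨fun y => by
    obtain ⟨x, hx, a, ha⟩ := Set.mem_iUnion₂.1 (ht (Set.mem_univ y))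
    refine ⟨(Sigma.ι (fun x : (t : Set _) => (A x.1 : Scheme.{u})) ⟨x, hx⟩).base a, ?_⟩
    rw [← Scheme.Hom.comp_apply, Sigma.ι_desc]
    exact ha⟩
  haveI : Flat p := IsZariskiLocalAtSource.sigmaDesc fun x => inferInstance
  haveI : QuasiCompact p := quasiCompact_of_compactSpace _
  exact Groth.Agent.S2492.result p

end Groth.Agent.S0116
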