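import Groth.Statements.S0124
import Groth.Agent.EtFound.TorsionCoh
-- import your own Groth.Agent.* helpers here

set_option autoImplicit false
universe u
open CategoryTheory CategoryTheory.Limits AlgebraicGeometry Opposite
open EtPBC

namespace Groth.Agent.S0124

/-- Part (1): if X is quasi-compact and quasi-separated and F is a torsion abelian sheaf on X_et, then
H^n(X_et, F) is a torsion abelian group for every n. -/
theorem result (X : Scheme.{u}) [CompactSpace X] [QuasiSeparatedSpace X]
    (F : EtCoh.Ab X) (hF : EtCoh.IsTorsion F) (n : ℕ) :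
    IsAddTorsion (EtCoh.H X F n) := by
  intro x
  obtain ⟨hc⟩ := EtFound.nonempty_isColimit_stageCocone hF
  haveI := EtLC12.QcqsAcyclic.preservesColimitsOfShape_HF X n (EtFound.TorsStage F)
  obtain ⟨j, y, hy⟩ := Types.jointly_surjective _
    (isColimitOfPreserves (EtCoh.HF X n ⋙ forget AddCommGrpCat.{u + 1}) hc) x
  obtain ⟨m, hm, hD⟩ := EtFound.exists_nsmul_stage j
  refine isOfFinAddOrder_iff_nsmul_eq_zero.2 ⟨m, hm, ?_⟩
  let y' : Sheaf.H ((EtFound.stageFunctor F).obj j) n := y
  have hy0 : m • y' = 0 := by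
    rw [← Abelian.Ext.comp_mk₀_id y']
    refine (EtFound.comp_mk₀_nsmul y' _ m).symm.trans ?_
    rw [hD, Abelian.Ext.mk₀_zero, Abelian.Ext.comp_zero]
  change ((EtCoh.HF X n).map ((EtFound.stageCocone F).ι.app j)) y' = x at hy
  rw [← hy]
  exact (map_nsmul _ m y').symm.trans ((congrArg _ hy0).trans (map_zero _))

end Groth.Agent.S0124
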