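import Groth.Statements.S0130
import Groth.Agent.EtFound.Strata
import Groth.Agent.SpecLib.Basic
-- import your own Groth.Agent.* helpers here

set_option autoImplicit false
universe u
open CategoryTheory CategoryTheory.Limits AlgebraicGeometry Opposite
open EtPBC

namespace Groth.Agent.S0130

/-- Abelian case: X quasi-compact and quasi-separated, T_i -> X immersions with constructible images
covering X, and F pulled back to each T_i constructible; then F is constructible. -/
theorem result (X : Scheme.{u}) [CompactSpace X] [QuasiSeparatedSpace X]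
    (F : EtCoh.Ab X) {ι : Type u} (T : ι → Scheme.{u}) (g : ∀ i, T i ⟶ X) [∀ i, IsImmersion (g i)]
    [∀ i, EtCoh.BCCont (g i)]
    (hc : ∀ i, Topology.IsConstructible (Set.range (g i)))
    (hcov : (⋃ i, Set.range (g i)) = Set.univ)
    (h : ∀ i, EtPBC.IsConstructible ((EtCoh.pull (g i)).obj F)) :
    EtPBC.IsConstructible F := by
  rw [EtFound.isConstructible_iff_adaptedStrata]
  have hco : ∀ i, @IsOpen X (constructibleTopology X) (Set.range (g i).base) :=
    fun i => (Groth.Agent.SpecLib.cons_clopen (hc i)).2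
  obtain ⟨t, ht⟩ := @IsCompact.elim_finite_subcover X (constructibleTopology X) Set.univ ι
    (@isCompact_univ X (constructibleTopology X) Groth.Agent.SpecLib.compactSpace_cons)
    (fun i => Set.range (g i).base) hco (by rw [hcov])
  have hT : ∀ i, ∃ (n : ℕ) (E : Fin n → Set X), (∀ k, EtFound.IsPiece F (E k)) ∧
      (∀ k, Topology.IsConstructible (E k)) ∧ (⋃ k, E k) = Set.range (g i).base := fun i => by
    have hemb := (g i).isEmbedding
    have : CompactSpace (T i) := ⟨hemb.isCompact_iff.2 (by
      rw [Set.image_univ]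
      exact (Groth.Agent.SpecLib.cons_clopen (hc i)).1.isCompact)⟩
    have : QuasiSeparatedSpace (T i) := quasiSeparatedSpace_of_quasiSeparated (g i)
    obtain ⟨n, E, hE, hEc, hu⟩ := EtFound.exists_pieces ((EtFound.isConstructible_iff_adaptedStrata _ _).1 (h i))
    refine ⟨n, fun k => (g i).base '' E k, fun k => (hE k).image (g i), fun k => ?_, ?_⟩
    · have h0 := (hEc k).preimage_of_isOpenEmbedding (f := ⇑(Homeomorph.Set.univ (T i)).symm)
        (Homeomorph.Set.univ (T i)).symm.isOpenEmbedding
      have h1 : Topology.IsConstructible (E k) := h0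
      have h2 := Groth.Agent.SpecLib.isConstructible_inter_of_preimage (hc i) ((g i).base '' E k) ?_
      · rwa [Set.inter_eq_left.2 (Set.image_subset_range _ _)] at h2
      · have h3 := h1.preimage_of_isOpenEmbedding (hemb.toHomeomorph.symm.isOpenEmbedding)
        refine Eq.mp (congrArg Topology.IsConstructible (Set.ext fun z => ?_)) h3
        obtain ⟨y, rfl⟩ := hemb.toHomeomorph.surjective z
        simp only [Set.mem_preimage, Homeomorph.symm_apply_apply]
        exact ⟨fun hy => ⟨y, hy, rfl⟩, fun ⟨y', hy', e⟩ => hemb.injective e ▸ hy'⟩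
    · rw [← Set.image_iUnion, hu, Set.image_univ]
  choose n E hE hEc hu using hT
  refine EtFound.adaptedStrata_of_cover isOpen_univ.isLocallyClosed (fun p : Σ i : t, Fin (n i) => E p.1 p.2)
    (fun p => hE _ _) (fun p => (hEc _ _).preimage_of_isOpenEmbedding (isOpen_univ.isOpenEmbedding_subtypeVal)) ?_
  intro x hx
  obtain ⟨i, hi⟩ := Set.mem_iUnion.1 (ht hx)
  obtain ⟨hit, hi⟩ := Set.mem_iUnion.1 hi
  obtain ⟨k, hk⟩ := Set.mem_iUnion.1 ((hu i).ge hi)
  exact Set.mem_iUnion.2 ⟨⟨⟨i, hit⟩, k⟩, hk⟩

end Groth.Agent.S0130
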