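import Groth.Statements.S0135
import Groth.Agent.EtFound.DescentConstr
-- import your own Groth.Agent.* helpers here

set_option autoImplicit false
universe u
open CategoryTheory CategoryTheory.Limits AlgebraicGeometry Opposite
open EtPBC

namespace Groth.Agent.S0135

/-- (2): for f : X -> Y a surjective morphism of quasi-compact quasi-separated schemes and F an abelian
sheaf on Y_et, F is constructible iff f^* F is. -/
theorem result {X Y : Scheme.{u}} [CompactSpace X] [QuasiSeparatedSpace X]
    [CompactSpace Y] [QuasiSeparatedSpace Y] (f : X ⟶ Y) [Surjective f] [EtCoh.BCCont f]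
    (F : EtCoh.Ab Y) :
    EtPBC.IsConstructible F ↔ EtPBC.IsConstructible ((EtCoh.pull f).obj F) := by
  exact ⟨EtFound.isConstructible_pull f, EtFound.isConstructible_of_pull f (EtFound.exists_affine_family_qc f)⟩

end Groth.Agent.S0135
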