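import Groth.Statements.S0140
import Groth.Agent.EtFound.NoethACC
-- import your own Groth.Agent.* helpers here

set_option autoImplicit false
universe u
open CategoryTheory CategoryTheory.Limits AlgebraicGeometry Opposite
open EtPBC

namespace Groth.Agent.S0140

/-- Part (3): with Λ = Z/n: on a Noetherian scheme X, a subsheaf of a constructible abelian sheaf killed
by n > 0 (a constructible sheaf of Z/n-modules) is constructible; so such sheaves form a Serre
subcategory. (The source writes the proof for modules over a Noetherian ring and marks the plain
abelian case (2) as details-omitted, hence the n-torsion hypothesis.) -/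
theorem result (X : Scheme.{u}) [IsNoetherian X]
    {F G : EtCoh.Ab X} (ι : G ⟶ F) [Mono ι] (n : ℕ) (hn : 0 < n) (hFn : EtCoh.KilledBy n F)
    (hF : EtPBC.IsConstructible F) :
    EtPBC.IsConstructible G := by
  exact EtFound.isConstructible_of_iso
    ((IsLimit.conePointUniqueUpToIso (kernelIsKernel (cokernel.π ι)) (Abelian.monoIsKernelOfCokernel _ (colimit.isColimit _))))
    (EtFound.isConstructible_kernel_noeth hF (cokernel.π ι))

end Groth.Agent.S0140
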