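import Groth.Statements.S0149
import Groth.Agent.EtLimit.PushBij
import Groth.Agent.EtFound.TorsionCoh
import Groth.Agent.EtFound.PullStalk
-- import your own Groth.Agent.* helpers here

set_option autoImplicit false
universe u
open CategoryTheory CategoryTheory.Limits AlgebraicGeometry Opposite
open EtPBC

namespace Groth.Agent.S0149

/-- If X = lim X_i is a cofiltered limit of quasi-compact quasi-separated schemes with affine transition
morphisms and cd(X_i) <= d for all i, then cd(X) <= d. -/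
theorem result {I : Type u} [SmallCategory I] [IsCofiltered I] (D : I ⥤ Scheme.{u})
    [∀ {i j : I} (a : i ⟶ j), IsAffineHom (D.map a)]
    [∀ i, CompactSpace (D.obj i)] [∀ i, QuasiSeparatedSpace (D.obj i)]
    (c : Cone D) (hc : IsLimit c) (d : ℕ) (h : ∀ i, EtCoh.CohDimLE (D.obj i) d) :
    EtCoh.CohDimLE c.pt d := by
  obtain ⟨α, _, _, _, G, _⟩ := IsFiltered.exists_directed Iᵒᵖ
  let E : αᵒᵖ ⥤ I := G.op ⋙ unopUnop I
  haveI : G.op.Initial := inferInstance
  haveI : E.Initial := inferInstance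
  let Xs : αᵒᵖ ⥤ Scheme.{u} := E ⋙ D
  let c' : Cone Xs := c.whisker E
  have hc' : IsLimit c' := (Functor.Initial.isLimitWhiskerEquiv E c).symm hc
  haveI : ∀ a, PreservesFiniteLimits (EtCoh.pull (c'.π.app a)) := fun a =>
    Groth.Agent.EtFound.pull_preservesFiniteLimits _
  haveI : ∀ ⦃a b : αᵒᵖ⦄ (m : a ⟶ b), PreservesFiniteLimits (EtCoh.pull (Xs.map m)) := fun a b m =>
    Groth.Agent.EtFound.pull_preservesFiniteLimits _
  haveI : ∀ {a b : αᵒᵖ} (m : a ⟶ b), IsAffineHom (Xs.map m) := fun m =>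
    ‹∀ {i j : I} (a : i ⟶ j), IsAffineHom (D.map a)› (E.map m)
  intro F hF q hq
  refine subsingleton_of_forall_eq 0 fun ξ => ?_
  haveI : IsFiltered α := isFiltered_of_directed_le_nonempty α
  obtain ⟨j, x, rfl⟩ := (Groth.Agent.EtLimit.hOf_bij c' (fun a b m => inferInstance) hc'
    (fun a => ‹∀ i, CompactSpace (D.obj i)› _) (fun a => ‹∀ i, QuasiSeparatedSpace (D.obj i)› _) q F).1 ξ
  let p := c'.π.app (op j)
  haveI : IsAffineHom p := isAffineHom_π_app Xs c' hc' (op j)
  haveI : QuasiCompact p := inferInstance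
  haveI : QuasiSeparated p := inferInstance
  have ht : EtCoh.IsTorsion ((EtCoh.push p).obj F) :=
    Groth.Agent.EtFound.isTorsion_of_iso ((EtCoh.push p).rightDerivedZeroIsoSelf.app F)
      (Groth.Agent.EtFound.isTorsion_Rpush p hF 0)
  haveI : Subsingleton (EtCoh.H (Xs.obj (op j)) ((Groth.Agent.EtLimit.pushSys c' F).obj j) q) := h _ _ ht q hq
  rw [Subsingleton.elim x 0, map_zero]

end Groth.Agent.S0149
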