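import Groth.Statements.S0150
import Groth.Agent.CdFin.RelDim
-- import your own Groth.Agent.* helpers here

set_option autoImplicit false
universe u
open CategoryTheory CategoryTheory.Limits AlgebraicGeometry Opposite
open EtPBC

namespace Groth.Agent.S0150

/-- (1): if f : X -> Y is a morphism of schemes of finite type over a field K then there is d with R^q
f_* F = 0 for all torsion abelian F on X_et and all q > d. -/
theorem result (K : Type u) [Field K] {X Y : Scheme.{u}}
    (a : X ⟶ Spec (CommRingCat.of K)) (b : Y ⟶ Spec (CommRingCat.of K))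
    [LocallyOfFiniteType a] [QuasiCompact a] [LocallyOfFiniteType b] [QuasiCompact b]
    (f : X ⟶ Y) (w : f ≫ b = a) [EtCoh.BCCont f] :
    ∃ d : ℕ, EtCoh.RelCohDimLE f d :=
  by
    subst w
    haveI : IsLocallyNoetherian Y := LocallyOfFiniteType.isLocallyNoetherian b
    haveI : LocallyOfFiniteType f := locallyOfFiniteType_of_comp f b
    haveI : QuasiCompact f := QuasiCompact.of_comp f b
    haveI : CompactSpace X := QuasiCompact.compactSpace_of_compactSpace (f ≫ b)
    obtain ⟨n, hn⟩ := CdFin.exists_dim_le (f ≫ b)
    exact ⟨2 * n, CdFin.relCohDimLE_two_mul b f hn⟩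

end Groth.Agent.S0150
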