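import Groth.Statements.S0164
import Groth.Agent.ProperBC13.OfSets
-- import your own Groth.Agent.* helpers here

set_option autoImplicit false
universe u
open CategoryTheory CategoryTheory.Limits AlgebraicGeometry Opposite
open EtPBC

namespace Groth.Agent.S0164

/-- Let k be a separably closed field and S = Spec k. Let f : X → S be any morphism, g : T → S
quasi-compact and quasi-separated, and Y = X ×_S T with projections h : Y → X and e : Y → T. Then
for every abelian sheaf F on T_ét the base change map f^* g_* F → h_* e^* F is an isomorphism. (The
published statement is for sheaves of sets; it is stated here for abelian sheaves.) -/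
theorem result {k : Type u} [Field k] [IsSepClosed k]
    {X Y T : Scheme.{u}} (f : X ⟶ Spec (CommRingCat.of k)) (g : T ⟶ Spec (CommRingCat.of k))
    [QuasiCompact g] [QuasiSeparated g] (h : Y ⟶ X) (e : Y ⟶ T) (hc : IsPullback e h g f)
    [EtCoh.BCCont f] [EtCoh.BCCont g] [EtCoh.BCCont h] [EtCoh.BCCont e] (F : EtCoh.Ab T) :
    IsIso (EtCoh.baseChange0 g f h e hc.w F) := by
  haveI : DiscreteTopology ↥(Spec (CommRingCat.of k)) := inferInstanceAs (DiscreteTopology (PrimeSpectrum k))
  exact Groth.Agent.ProperBC13.isIso_baseChange0_of_discrete g f h e hc F

end Groth.Agent.S0164
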