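import Groth.Statements.S0165
import Groth.Agent.SmAcyc.FieldExt
import Groth.Agent.SmAcyc.BCZero
-- import your own Groth.Agent.* helpers here

set_option autoImplicit false
universe u
open CategoryTheory CategoryTheory.Limits AlgebraicGeometry Opposite
open EtPBC

namespace Groth.Agent.S0165

open Groth.Agent

set_option backward.isDefEq.respectTransparency.types false

/-- (1), for a sheaf: K/k an extension of separably closed fields, X quasi-compact and quasi-separated
over k, F an abelian sheaf on X_et etale-locally killed by integers invertible in k. Then H^q(X, F)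
≅ H^q(X_K, F|X_K). The source shows the pullback map is an isomorphism (and treats complexes); we
state existence of an isomorphism for sheaves (weaker). -/
theorem result {k K : Type u} [Field k] [IsSepClosed k] [Field K]
    [IsSepClosed K] (i : k →+* K) (X : Scheme.{u}) [CompactSpace X] [QuasiSeparatedSpace X]
    (a : X ⟶ Spec (CommRingCat.of k))
    [EtCoh.BCCont (pullback.fst a (Spec.map (CommRingCat.ofHom i)))]
    (F : EtCoh.Ab X) (hF : EtPBC.IsTorsionInvertibleOn (Spec (CommRingCat.of k)) F) (q : ℕ) :
    Nonempty (EtCoh.H X F q ≃+
      EtCoh.H (pullback a (Spec.map (CommRingCat.ofHom i)))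
        ((EtCoh.pull (pullback.fst a (Spec.map (CommRingCat.ofHom i)))).obj F) q) := by
  haveI : PreservesFiniteLimits (EtCoh.pull (pullback.fst a (Spec.map (CommRingCat.ofHom i)))) :=
    EtFound.pull_preservesFiniteLimits _
  have hL := SmAcyc.isLTorsion_of_invertible a hF
  have h := SmAcyc.compN_fieldExt i (EtAcyc.primesInvertibleOn (Spec (CommRingCat.of k)))
    (fun ℓ h _ => SmAcyc.ne_ringChar_of_invertible h) q a F hL
  exact ⟨AddEquiv.ofBijective _ (h.1 q le_rfl)⟩

end Groth.Agent.S0165
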