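import Groth.Statements.S0169
import Groth.Agent.EtStrat13.Main

set_option autoImplicit false
universe u
open CategoryTheory CategoryTheory.Limits AlgebraicGeometry Opposite
open EtPBC

namespace Groth.Agent.S0169

/-- For j : U -> X an etale morphism of quasi-compact quasi-separated schemes there are finitely many
immersions T_i -> X with pairwise disjoint constructible images covering X such that U x_X T_i ->
T_i is finite (etale) for each i. -/
theorem result {U X : Scheme.{u}} [CompactSpace U] [QuasiSeparatedSpace U]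
    [CompactSpace X] [QuasiSeparatedSpace X] (j : U ⟶ X) [Etale j] :
    ∃ (n : ℕ) (T : Fin n → Scheme.{u}) (g : ∀ i, T i ⟶ X),
      (∀ i, IsImmersion (g i)) ∧ (∀ i, Topology.IsConstructible (Set.range (g i))) ∧
      Pairwise (fun i i' => Disjoint (Set.range (g i)) (Set.range (g i'))) ∧
      (⋃ i, Set.range (g i)) = Set.univ ∧ ∀ i, IsFinite (pullback.snd j (g i)) := by
  classical
  obtain ⟨F, hF⟩ := (isCompact_univ (X := U)).elim_finite_subcover
    (fun A : U.affineOpens => (A.1 : Set U)) (fun A => A.1.2) fun x _ => by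
      obtain ⟨A, hA, hxA, -⟩ := exists_isAffineOpen_mem_and_subset (x := x) (U := (⊤ : U.Opens)) trivial
      exact Set.mem_iUnion.mpr ⟨⟨A, hA⟩, hxA⟩
  let Ua : Fin F.card → U.Opens := fun a => (F.equivFin.symm a).1.1
  have haff : ∀ a, IsAffineOpen (Ua a) := fun a => (F.equivFin.symm a).1.2
  let V : Fin F.card × Fin F.card → U.Opens := fun x => Ua x.1 ⊓ Ua x.2
  have hV : ∀ x, ∃ (m : ℕ) (E : Fin m → Set X), (∀ r, Topology.IsConstructible (E r)) ∧
      (⋃ r, E r) = Set.univ ∧ ∀ r {T : Scheme.{u}} (g : T ⟶ X), Set.range g ⊆ E r →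
        IsFinite (pullback.snd ((V x).ι ≫ j) g) := fun x => by
    haveI : IsAffine (Ua x.1) := haff x.1
    haveI : CompactSpace (V x) := isCompact_iff_compactSpace.1
      ((haff x.1).isCompact.inter_of_isOpen (haff x.2).isCompact (Ua x.1).2 (Ua x.2).2)
    haveI : (V x).toScheme.IsSeparated := ⟨by
      rw [← terminal.comp_from (U.homOfLE (inf_le_left : V x ≤ Ua x.1))]
      infer_instance⟩
    haveI : IsSeparated ((V x).ι ≫ j) := by
      haveI : IsSeparated (((V x).ι ≫ j) ≫ terminal.from X) := by
        rw [terminal.comp_from]; infer_instance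
      exact IsSeparated.of_comp _ (terminal.from X)
    haveI : LocallyQuasiFinite ((V x).ι ≫ j) := MorLib.WT.locallyQuasiFinite_of_etale _
    exact EtStrat13.exists_constructible_cover ((V x).ι ≫ j)
  choose m E hE hEcov hfin using hV
  obtain ⟨n, P, hlc, hcon, hdisj, hPcov, href⟩ :=
    EtFound.exists_lc_partition (κ := Σ x, Fin (m x)) (fun k => E k.1 k.2) fun k => hE k.1 k.2
  choose T g hg hrange using fun i => EtFound.exists_immersion_range (hlc i)
  refine ⟨n, T, g, hg, fun i => hrange i ▸ hcon i,
    fun a b hab => by simpa only [hrange] using hdisj hab, ?_, fun i => ?_⟩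
  · simpa only [hrange] using hPcov
  have hfinV : ∀ x, IsFinite ((pullback.fst j (g i) ⁻¹ᵁ V x).ι ≫ pullback.snd j (g i)) := fun x => by
    have hP := (isPullback_morphismRestrict (pullback.fst j (g i)) (V x)).paste_vert
      (IsPullback.of_hasPullback j (g i))
    have hfin' : IsFinite (pullback.snd ((V x).ι ≫ j) (g i)) := by
      rcases (Set.range (g i)).eq_empty_or_nonempty with h | ⟨y, hy⟩
      · haveI : IsEmpty (T i) := Set.range_eq_empty_iff.1 h
        haveI : IsEmpty ↥(pullback ((V x).ι ≫ j) (g i)) :=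
          ⟨fun z => IsEmpty.false (pullback.snd ((V x).ι ≫ j) (g i) z)⟩
        infer_instance
      · obtain ⟨r, hr⟩ := Set.mem_iUnion.1 ((Set.ext_iff.1 (hEcov x) y).2 trivial)
        refine hfin x r (g i) ?_
        rw [hrange i] at hy ⊢
        exact (href i ⟨x, r⟩).resolve_right fun h => Set.disjoint_left.1 h hy hr
    rw [← hP.isoPullback_hom_snd]
    infer_instance
  refine EtStrat13.isFinite_of_opens _ (fun a => pullback.fst j (g i) ⁻¹ᵁ Ua a) ?_ (fun a => ?_) fun a b => hfinV (a, b)
  · refine eq_top_iff.2 fun z _ => ?_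
    obtain ⟨A, hA, hz⟩ := Set.mem_iUnion₂.1 (hF (Set.mem_univ (pullback.fst j (g i) z)))
    exact TopologicalSpace.Opens.mem_iSup.2 ⟨F.equivFin ⟨A, hA⟩, by
      show pullback.fst j (g i) z ∈ Ua _
      simpa [Ua] using hz⟩
  · have := hfinV (a, a)
    rwa [show V (a, a) = Ua a from inf_idem _] at this

end Groth.Agent.S0169
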