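import Groth.Statements.S0170
import Groth.Agent.QfinFlat13.Algebra
import Mathlib.AlgebraicGeometry.Morphisms.QuasiFinite
import Mathlib.AlgebraicGeometry.Morphisms.Etale

set_option autoImplicit false
universe u
open CategoryTheory CategoryTheory.Limits AlgebraicGeometry Opposite
open EtPBC

namespace Groth.Agent.S0170

/-- For f : Y -> X quasi-finite and of finite presentation with X and Y affine, one can find an affine
X' mapping onto X such that the base change Y' = X' x_X Y contains a closed subscheme Z' with the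
same underlying space (a thickening) for which the composite Z' -> Y' -> X' is finite etale. -/
theorem result {Y X : Scheme.{u}} [IsAffine X] [IsAffine Y] (f : Y ⟶ X)
    [LocallyQuasiFinite f] [LocallyOfFinitePresentation f] :
    ∃ (X' : Scheme.{u}) (_ : IsAffine X') (a : X' ⟶ X) (_ : Surjective a) (Z' : Scheme.{u})
      (c : Z' ⟶ pullback a f) (_ : IsClosedImmersion c) (_ : Surjective c),
      IsFinite (c ≫ pullback.fst a f) ∧ Etale (c ≫ pullback.fst a f) := by
  algebraize [f.appTop.hom]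
  haveI : Algebra.QuasiFinite Γ(X, ⊤) Γ(Y, ⊤) :=
    RingHom.quasiFinite_algebraMap.1 ((HasRingHomProperty.iff_of_isAffine (P := @LocallyQuasiFinite)).1 ‹_›)
  haveI : Algebra.FinitePresentation Γ(X, ⊤) Γ(Y, ⊤) :=
    RingHom.finitePresentation_algebraMap.1
      ((HasRingHomProperty.iff_of_isAffine (P := @LocallyOfFinitePresentation)).1 ‹_›)
  let K := fun x : PrimeSpectrum Γ(X, ⊤) => AlgebraicClosure x.asIdeal.ResidueField
  let R := ∀ x, K x
  have hR : ∀ r : R, ∃ t, r = r * r * t := fun r => ⟨fun x => (r x)⁻¹, funext fun x => by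
    show r x = r x * r x * (r x)⁻¹
    by_cases h : r x = 0 <;> simp [h, mul_assoc]⟩
  have hroot : ∀ q : Polynomial R, q.Monic → 0 < q.natDegree → ∃ r, q.eval r = 0 := fun q hq hdeg => by
    choose r hr using fun x => IsAlgClosed.exists_root (q.map (Pi.evalRingHom K x)) (by
      rw [Polynomial.degree_eq_natDegree (hq.map _).ne_zero, hq.natDegree_map]
      exact_mod_cast hdeg.ne')
    refine ⟨r, funext fun x => ?_⟩
    show Pi.evalRingHom K x (q.eval r) = 0
    rw [← Polynomial.eval₂_hom, ← Polynomial.eval_map]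
    exact hr x
  obtain ⟨Z, _, _, hfin, het, Φ, hΦ, hker⟩ :=
    QfinFlat13.exists_finiteEtale (S := TensorProduct Γ(X, ⊤) R Γ(Y, ⊤)) hR hroot
  let a : Spec (CommRingCat.of R) ⟶ X :=
    Spec.map (CommRingCat.ofHom (algebraMap Γ(X, ⊤) R)) ≫ X.isoSpec.inv
  haveI : Surjective (Spec.map (CommRingCat.ofHom (algebraMap Γ(X, ⊤) R))) := ⟨fun (x : PrimeSpectrum Γ(X, ⊤)) => by
    refine ⟨(⟨RingHom.ker (Pi.evalRingHom K x), RingHom.ker_isPrime _⟩ : PrimeSpectrum R), PrimeSpectrum.ext ?_⟩
    show (RingHom.ker (Pi.evalRingHom K x)).comap (algebraMap Γ(X, ⊤) R) = x.asIdeal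
    rw [RingHom.comap_ker]
    refine Eq.trans ?_ (Ideal.ker_algebraMap_residueField x.asIdeal)
    show RingHom.ker (algebraMap Γ(X, ⊤) (K x)) = _
    rw [IsScalarTower.algebraMap_eq Γ(X, ⊤) x.asIdeal.ResidueField (K x), ← RingHom.comap_ker,
      (RingHom.injective_iff_ker_eq_bot _).1 (algebraMap x.asIdeal.ResidueField (K x)).injective]
    rfl⟩
  have h1 : a ≫ X.isoSpec.hom = 𝟙 _ ≫ Spec.map (CommRingCat.ofHom (algebraMap Γ(X, ⊤) R)) := by simp [a]
  have h2 : f ≫ X.isoSpec.hom = Y.isoSpec.hom ≫ Spec.map (CommRingCat.ofHom (algebraMap Γ(X, ⊤) Γ(Y, ⊤))) :=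
    (Scheme.isoSpec_hom_naturality f).symm
  let e := pullback.map a f _ _ (𝟙 _) Y.isoSpec.hom X.isoSpec.hom h1 h2
  haveI : IsClosedImmersion (Spec.map (CommRingCat.ofHom Φ.toRingHom)) :=
    IsClosedImmersion.spec_of_surjective _ hΦ
  haveI : Surjective (Spec.map (CommRingCat.ofHom Φ.toRingHom)) := ⟨fun x => by
    have hx : (x : PrimeSpectrum _) ∈ PrimeSpectrum.zeroLocus (RingHom.ker Φ.toRingHom : Set _) := fun s hs => by
      obtain ⟨m, hm⟩ := hker s hs
      exact x.isPrime.mem_of_pow_mem m (hm ▸ x.asIdeal.zero_mem)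
    rw [← _root_.range_comap_of_surjective _ Φ.toRingHom hΦ] at hx
    exact hx⟩
  let c := Spec.map (CommRingCat.ofHom Φ.toRingHom) ≫ (pullbackSpecIso Γ(X, ⊤) R Γ(Y, ⊤)).inv ≫ inv e
  have hc : c ≫ pullback.fst a f = Spec.map (CommRingCat.ofHom (algebraMap R Z)) := by
    have he : inv e ≫ pullback.fst a f = pullback.fst _ _ := by
      rw [IsIso.inv_comp_eq]
      exact (Category.comp_id _).symm.trans (pullback.lift_fst _ _ _).symm
    simp only [c, Category.assoc, he, pullbackSpecIso_inv_fst, ← Spec.map_comp]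
    congr 1
    ext r
    exact Φ.commutes r
  haveI : IsIso ((pullbackSpecIso Γ(X, ⊤) R Γ(Y, ⊤)).inv ≫ inv e) := IsIso.comp_isIso
  refine ⟨Spec (CommRingCat.of R), inferInstance, a, inferInstance, Spec (CommRingCat.of Z), c,
    IsClosedImmersion.comp _ _,
    ⟨(((pullbackSpecIso Γ(X, ⊤) R Γ(Y, ⊤)).inv ≫ inv e).homeomorph.surjective).comp
      (Spec.map (CommRingCat.ofHom Φ.toRingHom)).surjective⟩, ?_, ?_⟩
  · rw [hc]
    exact (IsFinite.SpecMap_iff _).2 (RingHom.finite_algebraMap.2 hfin)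
  · rw [hc]
    exact HasRingHomProperty.Spec_iff.2 (RingHom.etale_algebraMap.2 het)

end Groth.Agent.S0170
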