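import Groth.Statements.S0175
import Groth.Agent.EtFound.LocCoh
-- import your own Groth.Agent.* helpers here

set_option autoImplicit false
universe u
open CategoryTheory CategoryTheory.Limits AlgebraicGeometry Opposite
open EtPBC

namespace Groth.Agent.S0175

/-- Let i : Z → X be a closed immersion of schemes with open complement j : U → X, and I an injective
abelian sheaf on X_ét. Then the subsheaf H_Z(I) of sections supported on Z (the kernel of I → j_*
j^* I), viewed on Z_ét via i^*, is an injective abelian sheaf on Z_ét. -/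
theorem result {Z X U : Scheme.{u}} (i : Z ⟶ X) [IsClosedImmersion i]
    (j : U ⟶ X) [IsOpenImmersion j] (hZU : Set.range j = (Set.range i)ᶜ)
    [EtCoh.BCCont i] [EtCoh.BCCont j] (I : EtCoh.Ab X) [Injective I] :
    Injective ((EtCoh.pull i).obj (kernel ((EtCoh.pullPushAdj j).unit.app I))) := by
  let adj := EtCoh.pullPushAdj i
  let adjj := EtCoh.pullPushAdj j
  let η := adjj.unit.app I
  let K := kernel η
  haveI := EtFound.pull_preservesFiniteLimits i
  haveI := EtFound.pull_preservesFiniteLimits j
  haveI hC : ∀ G : EtCoh.Ab Z, IsIso (adj.counit.app G) := fun G =>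
    EtFound.counit_isIso (A := AddCommGrpCat.{u + 1}) i (EtFound.liftable_of_isClosedImmersion i) G
  have hz : ∀ G : EtCoh.Ab Z, IsZero ((EtCoh.pull j).obj ((EtCoh.push i).obj G)) := by
    intro G
    rw [IsZero.iff_id_eq_zero]
    refine EtFound.eq_of_stalks _ _ fun Ω _ _ z => IsZero.eq_of_src ?_ _ _
    refine IsZero.of_iso (EtFound.isZero_stalk_push_closed i G (z ≫ j) fun h => ?_) ((EtFound.stalkPullIso j z).app _)
    have hmem : (z ≫ j).base (default : Spec (CommRingCat.of Ω)) ∈ Set.range j :=
      ⟨_, (Scheme.Hom.comp_apply _ _ _).symm⟩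
    rw [hZU] at hmem
    exact hmem h
  haveI hK : IsIso (adj.unit.app K) := by
    refine EtFound.unit_isIso_of_outside (A := AddCommGrpCat.{u + 1}) i (EtFound.liftable_of_isClosedImmersion i)
      i.isClosedEmbedding.isClosed_range K fun k _ _ ξ hξ => ?_
    have hin : ξ.base (default : Spec (CommRingCat.of k)) ∈ Set.range j.base := by rw [hZU]; exact hξ
    have h1 : IsIso ((EtCoh.stalk ξ).map η) := by
      refine EtFound.isIso_stalk_of_lift j η ξ hin fun Ω _ _ z => ?_
      refine (NatIso.isIso_map_iff (EtFound.stalkPullIso j z) η).1 ?_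
      have hc := EtFound.counit_isIso (A := AddCommGrpCat.{u + 1}) j (EtFound.liftable_of_isOpenImmersion j)
        ((EtCoh.pull j).obj I)
      have : IsIso ((EtCoh.pull j).map η) :=
        @IsIso.of_isIso_fac_right _ _ _ _ _ _ _ _ hc (IsIso.id _) (adjj.left_triangle_components I)
      exact inferInstanceAs (IsIso ((EtCoh.stalk z).map ((EtCoh.pull j).map η)))
    have h2 : (EtCoh.stalk ξ).map (kernel.ι η) = 0 := by
      rw [← cancel_mono ((EtCoh.stalk ξ).map η), ← Functor.map_comp, kernel.condition, Functor.map_zero, zero_comp]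
    haveI : Mono ((EtCoh.stalk ξ).map (kernel.ι η)) := inferInstance
    have h3 : IsZero ((EtCoh.stalk ξ).obj K) := IsZero.of_mono_eq_zero ((EtCoh.stalk ξ).map (kernel.ι η)) h2
    have := AddCommGrpCat.subsingleton_of_isZero h3
    exact ⟨@uniqueOfSubsingleton _ this 0⟩
  refine ⟨fun {A B} a m _ => ?_⟩
  haveI : Mono ((EtCoh.push i).map m) := inferInstance
  obtain ⟨b', hb'⟩ := Injective.factors ((EtCoh.push i).map a ≫ inv (adj.unit.app K) ≫ kernel.ι η)
    ((EtCoh.push i).map m)
  have hb0 : b' ≫ η = 0 := by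
    apply (adjj.homEquiv _ _).symm.injective
    exact (hz B).eq_of_src _ _
  let b'' : (EtCoh.push i).obj B ⟶ K := kernel.lift η b' hb0
  have hm : (EtCoh.push i).map m ≫ b'' = (EtCoh.push i).map a ≫ inv (adj.unit.app K) := by
    rw [← cancel_mono (kernel.ι η), Category.assoc, kernel.lift_ι, hb', Category.assoc]
  have hn : ∀ {A B : EtCoh.Ab Z} (f : A ⟶ B), (EtCoh.pull i).map ((EtCoh.push i).map f) =
      adj.counit.app A ≫ f ≫ inv (adj.counit.app B) := fun {A B} f => by
    rw [← Category.assoc, IsIso.eq_comp_inv]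
    exact adj.counit.naturality f
  refine ⟨inv (adj.counit.app B) ≫ (EtCoh.pull i).map b'', ?_⟩
  have hε : inv (adj.counit.app ((EtCoh.pull i).obj K)) = (EtCoh.pull i).map (adj.unit.app K) :=
    IsIso.inv_eq_of_inv_hom_id (adj.left_triangle_components K)
  have h4 := congrArg (EtCoh.pull i).map hm
  rw [Functor.map_comp, Functor.map_comp, hn, hn, Functor.map_inv] at h4
  simp only [Category.assoc] at h4
  rw [cancel_epi (adj.counit.app A)] at h4
  rw [h4]
  erw [hε]
  erw [IsIso.hom_inv_id]
  rw [Category.comp_id]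

end Groth.Agent.S0175
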