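import Groth.Statements.S0177
import Groth.Agent.WStrictLib.Cover
-- import your own Groth.Agent.* helpers here

set_option autoImplicit false
universe u
open CategoryTheory CategoryTheory.Limits AlgebraicGeometry Opposite
open EtPBC

namespace Groth.Agent.S0177

/-- For every ring A there is a faithfully flat ind-etale A-algebra D which is w-contractible, i.e.
every faithfully flat weakly etale D-algebra has a D-algebra retraction. -/
theorem result (A : Type u) [CommRing A] :
    ∃ (D : Type u) (_ : CommRing D) (_ : Algebra A D),
      Module.FaithfullyFlat A D ∧ EtPBC.IsIndEtale A D ∧ EtPBC.IsWContractible D := WStrictLib.exists_wContractible A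

end Groth.Agent.S0177
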