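import Groth.Statements.S0180
import Groth.Agent.WLocalLib.Retraction
-- import your own Groth.Agent.* helpers here

set_option autoImplicit false
universe u
open EtPBC

namespace Groth.Agent.S0180

/-- Final assertion: if X is spectral, the set X_0 of closed points is closed, and every point of X
specializes to exactly one closed point, then X_0 -> pi_0(X) is bijective (so X satisfies the
equivalent conditions of the lemma; such X are called w-local). -/
theorem result (X : Type u) [TopologicalSpace X]
    [SpectralSpace X] (h0 : IsClosed {x : X | IsClosed ({x} : Set X)})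
    (huniq : ∀ x : X, ∃! z : X, IsClosed ({z} : Set X) ∧ x ⤳ z) :
    Function.Bijective (fun x : {x : X // IsClosed ({x} : Set X)} => _root_.ConnectedComponents.mk x.1) := by
  have hX : ProEtW.IsWLocal X := ⟨inferInstance, h0, huniq⟩
  refine ⟨fun x y hxy => ?_, fun c => ?_⟩
  · have h := (Groth.Agent.WLocalLib.mk_eq_mk_iff hX).1 hxy
    rw [Groth.Agent.WLocalLib.ret_eq_self hX x.2, Groth.Agent.WLocalLib.ret_eq_self hX y.2] at h
    exact Subtype.ext h
  · obtain ⟨z, rfl⟩ := ConnectedComponents.surjective_coe c
    exact ⟨⟨_, Groth.Agent.WLocalLib.ret_closed hX z⟩, (Groth.Agent.WLocalLib.mk_eq_mk_iff hX).2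
      (Groth.Agent.WLocalLib.ret_eq_self hX (Groth.Agent.WLocalLib.ret_closed hX z))⟩

end Groth.Agent.S0180
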