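import Groth.Statements.S0182
import Groth.Agent.EtFound.StalkSet
import Groth.Agent.EtFound.ConstrAb
-- import your own Groth.Agent.* helpers here

set_option autoImplicit false
universe u
open CategoryTheory CategoryTheory.Limits AlgebraicGeometry Opposite
open EtPBC

namespace Groth.Agent.S0182

/-- (1), surjectivity case, for abelian sheaves: X quasi-compact and quasi-separated, F -> G a map of
constructible abelian sheaves on X_et; the set of points x of X such that F -> G is surjective on
stalks at (every) geometric point over x is constructible. The source states this for constructible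
sheaves of sets; an abelian constructible sheaf is one, with the same stalks. -/
theorem result (X : Scheme.{u}) [CompactSpace X] [QuasiSeparatedSpace X]
    {F G : EtCoh.Ab X} (φ : F ⟶ G) (hF : EtPBC.IsConstructible F) (hG : EtPBC.IsConstructible G) :
    Topology.IsConstructible {x : X | ∀ (Ω : Type u) [Field Ω] [IsSepClosed Ω]
      (ξ : Spec (CommRingCat.of Ω) ⟶ X), Set.range ξ = {x} →
        Function.Surjective ((EtCoh.stalk ξ).map φ)} := by
  have hC := EtFound.isConstructible_cokernel φ hF hG
  have hP : ∀ A B : Type (u + 1), Nonempty (A ≃ B) → Subsingleton A → Subsingleton B :=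
    fun A B ⟨e⟩ _ => e.symm.injective.subsingleton
  convert (EtFound.isLocallyConstructible_stalkSet hC hP).isConstructible using 1
  have hiff : ∀ (Ω : Type u) [Field Ω] [IsSepClosed Ω] (ξ : Spec (CommRingCat.of Ω) ⟶ X),
      Function.Surjective ((EtCoh.stalk ξ).map φ) ↔ Subsingleton ((EtCoh.stalk ξ).obj (cokernel φ)) :=
    fun Ω _ _ ξ => by
    rw [← AddCommGrpCat.epi_iff_surjective, ← AddCommGrpCat.isZero_iff_subsingleton,
      Iso.isZero_iff (PreservesCokernel.iso (EtCoh.stalk ξ) φ)]
    exact ⟨fun h => isZero_cokernel_of_epi _, Abelian.epi_of_cokernel_π_eq_zero _ ∘ fun h => h.eq_of_tgt _ _⟩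
  ext x
  refine ⟨fun h => ?_, fun ⟨Ω, _, _, ξ, hr, hz⟩ k _ _ ζ hζ => ?_⟩
  · obtain ⟨Ω, _, _, ξ, rfl⟩ := EtFound.exists_geomPoint x
    exact (EtFound.mem_stalkSet_iff hP ξ).2 ((hiff Ω ξ).1 (h Ω ξ (EtFound.range_point ξ)))
  · rw [EtFound.range_point, Set.singleton_eq_singleton_iff] at hr hζ
    exact (hiff k ζ).2 (hP _ _ (EtFound.nonempty_stalk_equiv _ ξ ζ (hr.trans hζ.symm)) hz)

end Groth.Agent.S0182
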