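import Groth.Statements.S0183
import Groth.Agent.IndZarLib.WLocal
import Groth.Agent.IndZarLib.LocalRing
import Groth.Agent.AwLib.IndZar
-- import your own Groth.Agent.* helpers here

set_option autoImplicit false
universe u
open CategoryTheory CategoryTheory.Limits AlgebraicGeometry Opposite
open EtPBC

namespace Groth.Agent.S0183

/-- Suppose A -> B identifies local rings (A_p -> B_q bijective for every prime q of B over p). Then B
can be enlarged along a faithfully flat ind-Zariski extension B' so that B' is already ind-Zariski
over A; ind-Zariski means: a filtered colimit of local isomorphisms in the sense of Mathlib's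
Algebra.IsLocalIso (Zariski-locally on the source a standard open immersion). -/
theorem result (A B : Type u) [CommRing A] [CommRing B] [Algebra A B]
    (h : EtPBC.IdentifiesLocalRings A B) :
    ∃ (B' : Type u) (_ : CommRing B') (_ : Algebra B B') (_ : Algebra A B') (_ : IsScalarTower A B B'),
      Module.FaithfullyFlat B B' ∧ EtPBC.IsIndZariski B B' ∧ EtPBC.IsIndZariski A B' := by
  have hB := IndZarLib.identifiesLocalRings_of_isIndZariski (AwLib.isIndZariski B)
  let : Algebra A (AwLib.Aw B) := ((algebraMap B (AwLib.Aw B)).comp (algebraMap A B)).toAlgebra
  have : IsScalarTower A B (AwLib.Aw B) := IsScalarTower.of_algebraMap_eq fun _ => rfl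
  refine ⟨AwLib.Aw B, inferInstance, inferInstance, inferInstance, inferInstance, AwLib.faithfullyFlat B,
    AwLib.isIndZariski B, IndZarLib.isIndZariski_of_identifies AwLib.isWLocal fun Q => ?_⟩
  have hb := (hB Q).comp (h ⟨Q.asIdeal.comap (algebraMap B (AwLib.Aw B)), inferInstance⟩)
  rw [← RingHom.coe_comp, ← Localization.localRingHom_comp] at hb
  exact hb

end Groth.Agent.S0183
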