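import Groth.Statements.S0191
import Groth.Agent.CSALib.Basic

set_option autoImplicit false
universe u v w
open scoped TensorProduct
open Curves

namespace Groth.Agent.S0191

/-- If K is a skew field with center k, every two-sided ideal of A ⊗ K is generated by the elements a ⊗
1 it contains. -/
theorem result (k : Type u) [Field k] (A : Type v) [Ring A] [Algebra k A]
    (K : Type w) [DivisionRing K] [Algebra k K] [Algebra.IsCentral k K]
    (I : TwoSidedIdeal (A ⊗[k] K)) :
    I = TwoSidedIdeal.span ((fun a : A => a ⊗ₜ[k] (1 : K)) '' {a : A | a ⊗ₜ[k] (1 : K) ∈ I}) := by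
  classical
  refine le_antisymm (fun x hx => ?_) (TwoSidedIdeal.span_le.2 ?_)
  swap
  · rintro _ ⟨a, ha, rfl⟩
    exact ha
  set J := TwoSidedIdeal.span ((fun a : A => a ⊗ₜ[k] (1 : K)) '' {a : A | a ⊗ₜ[k] (1 : K) ∈ I})
  let σ := (Algebra.TensorProduct.comm k A K)
  let I' : TwoSidedIdeal (K ⊗[k] A) := TwoSidedIdeal.comap (σ.symm : K ⊗[k] A →+* A ⊗[k] K) I
  let b := Module.Free.chooseBasis k K
  obtain ⟨c, hc⟩ := TensorProduct.eq_repr_basis_left b (σ x)
  have hci : ∀ i, c i ⊗ₜ[k] (1 : K) ∈ I := by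
    intro i
    by_cases hi : i ∈ c.support
    · obtain ⟨t, ht⟩ := Groth.Agent.CSALib.exists_mulLeftRight_apply_eq k K ((b.coord i).smulRight (1 : K))
        (c.support.image b)
      have hmem := Groth.Agent.CSALib.rTensor_mulLeftRight_mem k K A I' t (σ x) (by
        rw [TwoSidedIdeal.mem_comap]; simpa using hx)
      have : LinearMap.rTensor A (AlgHom.mulLeftRight k K t) (σ x) = (1 : K) ⊗ₜ[k] c i := by
        rw [← hc, Finsupp.sum, map_sum, Finset.sum_eq_single i]
        · simp [ht (b i) (Finset.mem_image_of_mem _ hi)]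
        · intro j hj hji
          simp [ht (b j) (Finset.mem_image_of_mem _ hj), hji]
        · intro h; exact absurd hi h
      rw [this, TwoSidedIdeal.mem_comap] at hmem
      simpa [σ] using hmem
    · rw [Finsupp.notMem_support_iff.1 hi, TensorProduct.zero_tmul]
      exact I.zero_mem
  have hx' : x = ∑ i ∈ c.support, c i ⊗ₜ[k] b i := by
    apply σ.injective
    rw [map_sum, ← hc, Finsupp.sum]
    simp [σ]
  rw [hx']
  refine sum_mem fun i _ => ?_
  rw [show c i ⊗ₜ[k] b i = (c i ⊗ₜ[k] (1 : K)) * ((1 : A) ⊗ₜ[k] b i) by simp]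
  exact J.mul_mem_right _ _ (TwoSidedIdeal.subset_span ⟨c i, hci i, rfl⟩)

end Groth.Agent.S0191
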