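import Groth.Statements.S0197
import Groth.Agent.CSAStruct.Splitting

set_option autoImplicit false
universe u v w
open scoped TensorProduct
open Curves

namespace Groth.Agent.S0197

/-- If a finite central skew field D has dimension d^2, the degree of any finite splitting field of D is
divisible by d. -/
theorem result (k : Type u) [Field k]
    (D : Type u) [DivisionRing D] [Algebra k D] [Algebra.IsCentral k D] [FiniteDimensional k D]
    (d : ℕ) (hd : Module.finrank k D = d ^ 2)
    (k' : Type u) [Field k'] [Algebra k k'] [FiniteDimensional k k'] (hs : Curves.Splits k D k') :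
    d ∣ Module.finrank k k' := by
  obtain ⟨m, hm, hdm, ⟨g⟩⟩ := (Groth.Agent.CSAStruct.splits_iff_exists_hom k D k').1 hs
  rw [hd, pow_two] at hdm
  obtain rfl : d = m := Nat.mul_self_inj.1 hdm
  haveI : NeZero d := ⟨hm⟩
  -- `k'^d` is a vector space over the division algebra `D`
  let ρ : D →ₐ[k] Module.End k (Fin d → k') := (Algebra.lsmul k k (Fin d → k')).comp g
  letI : Module D (Fin d → k') := Module.compHom _ (ρ : D →+* Module.End k (Fin d → k'))
  haveI : IsScalarTower k D (Fin d → k') := ⟨fun c r x => by
    change ρ (c • r) x = c • ρ r x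
    rw [map_smul, LinearMap.smul_apply]⟩
  have h := Module.finrank_mul_finrank k D (Fin d → k')
  rw [hd, Module.finrank_pi_fintype, Finset.sum_const, Finset.card_fin, smul_eq_mul, pow_two, mul_assoc] at h
  exact ⟨_, (Nat.eq_of_mul_eq_mul_left (Nat.pos_of_ne_zero hm) h).symm⟩

end Groth.Agent.S0197
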