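import Groth.Statements.S0206
import Groth.Agent.Curve11.TorsionTwo

set_option autoImplicit false
universe u
open CategoryTheory CategoryTheory.Limits AlgebraicGeometry
open Curves

namespace Groth.Agent.S0206

/-- For a finite type (not necessarily separated) scheme of dimension one over an algebraically closed
field, torsion abelian étale sheaves have no cohomology in degrees three and up. -/
theorem result (k : Type u) [Field k] [IsAlgClosed k] (X : Scheme.{u})
    (f : X ⟶ Spec (CommRingCat.of k)) [LocallyOfFiniteType f] [QuasiCompact f]
    (hdim : topologicalKrullDim X = 1) (F : EtCoh.Ab X) (hF : EtCoh.IsTorsion F) (q : ℕ) (hq : 3 ≤ q) :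
    Subsingleton (EtCoh.H X F q) := by
  haveI : IsLocallyNoetherian X := LocallyOfFiniteType.isLocallyNoetherian f
  haveI : CompactSpace X := QuasiCompact.compactSpace_of_compactSpace f
  haveI : AlgebraicGeometry.IsNoetherian X := ⟨⟩
  exact Groth.Agent.Curve11.cohDimLE_two f hdim.le F hF q (by omega)


end Groth.Agent.S0206
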