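import Groth.Statements.S0207
import Groth.Agent.GaLin11.GaLin
import Groth.Agent.S0469

set_option autoImplicit false
universe u
open CategoryTheory CategoryTheory.Limits AlgebraicGeometry
open Curves

namespace Groth.Agent.S0207

/-- On a quasi-compact quasi-separated scheme of dimension d on which the prime p is zero, étale
cohomology with Z/p coefficients vanishes from degree d+2 on. -/
theorem result (p : ℕ) [Fact p.Prime] (S : Scheme.{u}) [CompactSpace S] [QuasiSeparatedSpace S]
    (hp : (p : Γ(S, ⊤)) = 0) (d : ℕ) (hd : topologicalKrullDim S = d) (q : ℕ) (hq : 2 + d ≤ q) :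
    Subsingleton (EtCoh.H S (EtCoh.const S (ZMod p)) q) := by
  obtain ⟨m, rfl⟩ : ∃ m, q = m + 1 := ⟨q - 1, by omega⟩
  haveI := EtLC12.EtZarCompare.zarCont S
  have hGa : ∀ r, d < r → Subsingleton (EtCoh.H S (EtCoh.Ga S) r) := fun r hr => by
    obtain ⟨e, -⟩ := GaLin11.exists_H_Ga_addEquiv S r
    haveI : SpectralSpace S.toTopCat :=
      { __ := (inferInstance : T0Space S), __ := (inferInstance : CompactSpace S), __ := (inferInstance : QuasiSober S),
        __ := (inferInstance : QuasiSeparatedSpace S), __ := (inferInstance : PrespectralSpace S) }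
    exact @Equiv.subsingleton _ _ e.toEquiv
      (S0469.result (X := S.toTopCat) d hd.le (Coh.toAb (Coh.structureModule S)) r hr)
  have hS := EtLC12.ArtinSchreier.shortExact_kernel (X := S) p hp
  suffices h : Subsingleton (EtCoh.H S (kernel (EtLC12.ArtinSchreier.as p hp)) (m + 1)) from
    @Equiv.subsingleton _ _ ((Sheaf.functorH _ (m + 1)).mapIso
      (asIso (EtLC12.ArtinSchreier.constToKer (X := S) p hp))).addCommGroupIsoToAddEquiv.toEquiv h
  refine subsingleton_of_forall_eq 0 fun x => ?_
  obtain ⟨y, rfl⟩ := Abelian.Ext.covariant_sequence_exact₁ _ hS x ((hGa (m + 1) (by omega)).elim _ _) (rfl : m + 1 = m + 1)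
  rw [(hGa m (by omega)).elim y 0, Abelian.Ext.zero_comp]


end Groth.Agent.S0207
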