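import Groth.Statements.S0215
import Groth.Agent.UnitsFG.Basic

set_option autoImplicit false
universe u
open CategoryTheory CategoryTheory.Limits AlgebraicGeometry TopologicalSpace
open Curves

namespace Groth.Agent.S0215

/-- For a connected reduced scheme locally of finite type over a field k with finitely many irreducible
components, in which every global function integral over k is a constant, the group of invertible
global functions modulo nonzero constants is finitely generated. -/
theorem result (k : Type u) [Field k] (X : Scheme.{u}) (f : X ⟶ Spec (CommRingCat.of k))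
    [LocallyOfFiniteType f] [IsReduced X] [ConnectedSpace X] (hirr : (irreducibleComponents (X : Type u)).Finite)
    (hint : ∀ x : Γ(X, ⊤), (f.appTop.hom.comp (Scheme.ΓSpecIso (CommRingCat.of k)).inv.hom).IsIntegralElem x →
      x ∈ Set.range (f.appTop.hom.comp (Scheme.ΓSpecIso (CommRingCat.of k)).inv.hom)) :
    Group.FG ((Γ(X, ⊤))ˣ ⧸ (Units.map ((f.appTop.hom.comp (Scheme.ΓSpecIso (CommRingCat.of k)).inv.hom : k →+* Γ(X, ⊤)) : k →* Γ(X, ⊤))).range) := by
  classical
  set φ : k →+* Γ(X, ⊤) := f.appTop.hom.comp (Scheme.ΓSpecIso (CommRingCat.of k)).inv.hom with hφ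
  letI : Algebra k Γ(X, ⊤) := φ.toAlgebra
  haveI := hirr.to_subtype
  -- an affine open in each component, away from the others
  have hU : ∀ Z : irreducibleComponents (X : Type u),
      ∃ U : X.Opens, IsAffineOpen U ∧ (U : Set X) ⊆ Z.1 ∧ (U : Set X).Nonempty := by
    intro Z
    let others : Set X := ⋃₀ (irreducibleComponents (X : Type u) \ {Z.1})
    have hc : IsClosed others := by
      rw [show others = ⋃ W ∈ irreducibleComponents (X : Type u) \ {Z.1}, W from Set.sUnion_eq_biUnion]
      exact (hirr.subset Set.diff_subset).isClosed_biUnion fun W hW =>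
        isClosed_of_mem_irreducibleComponents W hW.1
    have hsub : othersᶜ ⊆ Z.1 := by
      intro x hx
      obtain ⟨W, hW, hxW⟩ : ∃ W ∈ irreducibleComponents (X : Type u), x ∈ W :=
        ⟨irreducibleComponent x, irreducibleComponent_mem_irreducibleComponents x, mem_irreducibleComponent⟩
      by_contra hxZ
      exact hx ⟨W, ⟨hW, fun (h : W = Z.1) => hxZ (h ▸ hxW)⟩, hxW⟩
    obtain ⟨x, hx⟩ : ∃ x, x ∈ othersᶜ := by
      by_contra hne
      push_neg at hne
      have hcov : Z.1 ⊆ ⋃₀ (irreducibleComponents (X : Type u) \ {Z.1}) := fun x _ => not_not.1 (hne x)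
      obtain ⟨W, hW, hZW⟩ := isIrreducible_iff_sUnion_isClosed.1 Z.2.1
        (hirr.subset (Set.diff_subset (t := {Z.1}))).toFinset
        (fun W hW => isClosed_of_mem_irreducibleComponents W ((Set.Finite.mem_toFinset _).1 hW).1)
        (by simpa using hcov)
      rw [Set.Finite.mem_toFinset] at hW
      exact hW.2 (le_antisymm (Z.2.2 hW.1.1 hZW) hZW)
    obtain ⟨U, hUa, hxU, hUsub⟩ := exists_isAffineOpen_mem_and_subset (x := x)
      (U := (⟨othersᶜ, hc.isOpen_compl⟩ : X.Opens)) hx
    exact ⟨U, hUa, hUsub.trans hsub, x, hxU⟩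
  choose U hUa hUZ hUne using hU
  -- the lattice map
  have hh : ∀ Z : irreducibleComponents (X : Type u),
      ∃ (ι : Type u) (_ : Finite ι) (h : (Γ(X, ⊤))ˣ →* Multiplicative (ι → ℤ)),
        ∀ u, h u = 1 → ((X.presheaf.map (homOfLE le_top).op).hom.comp φ).IsIntegralElem
          ((X.presheaf.map (homOfLE (le_top (a := U Z))).op).hom (u : Γ(X, ⊤))) := by
    intro Z
    haveI : IrreducibleSpace (U Z : Scheme.{u}) := by
      have hirrU : IsIrreducible (U Z : Set X) := by
        refine ⟨hUne Z, ?_⟩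
        intro u v hu hv hu' hv'
        obtain ⟨a, ha, hau⟩ := hu'
        obtain ⟨b, hb, hbv⟩ := hv'
        obtain ⟨c, -, ⟨hc1, hc2⟩, hc3⟩ := Z.2.1.2 ((U Z : Set X) ∩ u) ((U Z : Set X) ∩ v)
          ((U Z).2.inter hu) ((U Z).2.inter hv) ⟨a, hUZ Z ha, ha, hau⟩ ⟨b, hUZ Z hb, hb, hbv⟩
        exact ⟨c, hc1, hc2, hc3.2⟩
      haveI : PreirreducibleSpace (U Z : Scheme.{u}) := Subtype.preirreducibleSpace hirrU.2
      haveI : Nonempty (U Z : Scheme.{u}) := hirrU.1.to_subtype
      exact ⟨inferInstance⟩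
    haveI : IsIntegral (U Z : Scheme.{u}) := isIntegral_of_irreducibleSpace_of_isReduced _
    let r : Γ(X, ⊤) →+* Γ(X, U Z) := (X.presheaf.map (homOfLE le_top).op).hom
    haveI : Nonempty (U Z : Scheme.{u}) := (hUne Z).to_subtype
    haveI : IsDomain Γ(X, U Z) :=
      MulEquiv.isDomain Γ((U Z : Scheme.{u}), ⊤) ((U Z).topIso.symm.commRingCatIsoToRingEquiv.toMulEquiv)
    letI : Algebra k Γ(X, U Z) := (r.comp φ).toAlgebra
    haveI : Algebra.FiniteType k Γ(X, U Z) := by
      have h1 := LocallyOfFiniteType.finiteType_appLE (f := f) (isAffineOpen_top _) (hUa Z) (by simp)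
      have h2 : r.comp φ = (f.appLE ⊤ (U Z) (by simp)).hom.comp
          (Scheme.ΓSpecIso (CommRingCat.of k)).inv.hom := by
        rw [hφ, ← RingHom.comp_assoc]; rfl
      change (r.comp φ).FiniteType
      rw [h2]
      exact h1.comp (RingHom.FiniteType.of_surjective _
        (ConcreteCategory.bijective_of_isIso (Scheme.ΓSpecIso (CommRingCat.of k)).inv).2)
    obtain ⟨ι, hι, h, hh⟩ := Groth.Agent.UnitsFG.exists_hom_units k Γ(X, U Z)
    exact ⟨ι, hι, h.comp (Units.map (r : Γ(X, ⊤) →* Γ(X, U Z))), fun u hu => hh _ hu⟩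
  choose ι hι h hh using hh
  let H : (Γ(X, ⊤))ˣ →* Multiplicative ((Σ Z, ι Z) → ℤ) :=
    { toFun := fun u => Multiplicative.ofAdd fun p => Multiplicative.toAdd (h p.1 u) p.2
      map_one' := by ext p; simp
      map_mul' := fun a b => by ext p; simp }
  -- kernel
  have hker : H.ker ≤ (Units.map (φ : k →* Γ(X, ⊤))).range := by
    intro u hu
    have hu' : ∀ Z, h Z u = 1 := fun Z => by
      rw [MonoidHom.mem_ker] at hu
      apply Multiplicative.toAdd.injective
      funext i
      exact congrFun (congrArg Multiplicative.toAdd hu) ⟨Z, i⟩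
    choose q hqm hq using fun Z => hh Z u (hu' Z)
    haveI : Fintype (irreducibleComponents (X : Type u)) := Fintype.ofFinite _
    let p : Polynomial k := ∏ Z, q Z
    have hpm : p.Monic := Polynomial.monic_prod_of_monic _ _ fun Z _ => hqm Z
    have hp : Polynomial.eval₂ φ (u : Γ(X, ⊤)) p = 0 := by
      rw [← basicOpen_eq_bot_iff]
      by_contra hne
      obtain ⟨x, hx⟩ : ∃ x, x ∈ X.basicOpen (Polynomial.eval₂ φ (u : Γ(X, ⊤)) p) := by
        by_contra hall
        push_neg at hall
        exact hne (eq_bot_iff.2 fun x hx => (hall x hx).elim)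
      let Z : irreducibleComponents (X : Type u) :=
        ⟨irreducibleComponent x, irreducibleComponent_mem_irreducibleComponents x⟩
      obtain ⟨a, ha⟩ := hUne Z
      obtain ⟨c, -, hc1, hc2⟩ := Z.2.1.2 (X.basicOpen (Polynomial.eval₂ φ (u : Γ(X, ⊤)) p) : Set X)
        (U Z : Set X) (X.basicOpen _).2 (U Z).2 ⟨x, mem_irreducibleComponent, hx⟩ ⟨a, hUZ Z ha, ha⟩
      have hr : (X.presheaf.map (homOfLE (le_top (a := U Z))).op).hom
          (Polynomial.eval₂ φ (u : Γ(X, ⊤)) p) = 0 := by
        obtain ⟨w, hw⟩ := Finset.dvd_prod_of_mem q (Finset.mem_univ Z)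
        rw [Polynomial.hom_eval₂, show p = q Z * w from hw, Polynomial.eval₂_mul, hq Z, zero_mul]
      have := X.basicOpen_res (Polynomial.eval₂ φ (u : Γ(X, ⊤)) p) (homOfLE (le_top (a := U Z))).op
      have hmem : c ∈ (U Z) ⊓ X.basicOpen (Polynomial.eval₂ φ (u : Γ(X, ⊤)) p) := ⟨hc2, hc1⟩
      rw [← this, hr, Scheme.basicOpen_zero] at hmem
      exact hmem
    obtain ⟨c, hc⟩ := hint (u : Γ(X, ⊤)) ⟨p, hpm, hp⟩
    haveI : Nontrivial Γ(X, ⊤) := by
      refine ⟨⟨1, 0, fun h10 => ?_⟩⟩
      obtain ⟨x⟩ := (inferInstance : Nonempty X)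
      have : x ∈ X.basicOpen (1 : Γ(X, ⊤)) := by rw [X.basicOpen_of_isUnit isUnit_one]; trivial
      rw [h10, Scheme.basicOpen_zero] at this
      exact this
    have hc0 : c ≠ 0 := fun h0 => u.ne_zero (by rw [← hc, h0, map_zero])
    exact ⟨Units.mk0 c hc0, Units.ext hc⟩
  -- finite generation
  haveI : Finite (irreducibleComponents (X : Type u)) := hirr.to_subtype
  haveI : Module.Finite ℤ ((Σ Z, ι Z) → ℤ) := inferInstance
  haveI hrange : Group.FG H.range := by
    let S : AddSubgroup ((Σ Z, ι Z) → ℤ) := AddSubgroup.toSubgroup.symm H.range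
    have hS : S.FG := by
      rw [← AddSubgroup.toIntSubmodule_toAddSubgroup S, ← Submodule.fg_iff_addSubgroup_fg]
      exact IsNoetherian.noetherian _
    rw [Group.fg_iff_subgroup_fg]
    have := (AddSubgroup.fg_iff_mul_fg S).1 hS
    rwa [OrderIso.apply_symm_apply] at this
  let ψ : (Γ(X, ⊤))ˣ ⧸ H.ker →* (Γ(X, ⊤))ˣ ⧸ (Units.map (φ : k →* Γ(X, ⊤))).range :=
    QuotientGroup.map _ _ (MonoidHom.id _) hker
  have hψ : Function.Surjective ψ := fun y => by
    obtain ⟨y, rfl⟩ := QuotientGroup.mk_surjective y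
    exact ⟨QuotientGroup.mk y, rfl⟩
  haveI : Group.FG ((Γ(X, ⊤))ˣ ⧸ H.ker) :=
    Group.fg_of_surjective (f := (QuotientGroup.quotientKerEquivRange H).symm.toMonoidHom)
      (QuotientGroup.quotientKerEquivRange H).symm.surjective
  exact Group.fg_of_surjective hψ

end Groth.Agent.S0215
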