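import Groth.Statements.S0218
import Mathlib.RingTheory.Adjoin.Basic
import Mathlib.FieldTheory.Minpoly.Field
import Mathlib.RingTheory.Adjoin.Polynomial.Basic
import Mathlib.Tactic.LinearCombination

set_option autoImplicit false
universe u
open Curves

namespace Groth.Agent.S0218

/-- Over an algebraically closed field k, a commutative k-algebra with exactly two k-subalgebras is
isomorphic to k × k or to the dual numbers over k. -/
theorem result (k : Type u) [Field k] [IsAlgClosed k] (A : Type u) [CommRing A] [Algebra k A]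
    (h : Nat.card (Subalgebra k A) = 2) :
    Nonempty (A ≃ₐ[k] (k × k)) ∨ Nonempty (A ≃ₐ[k] DualNumber k) := by
  classical
  obtain ⟨B₁, B₂, hne, huniv⟩ := Nat.card_eq_two_iff.1 h
  haveI : Nontrivial (Subalgebra k A) := ⟨⟨B₁, B₂, hne⟩⟩
  have hbt : (⊥ : Subalgebra k A) ≠ ⊤ := bot_ne_top
  have hcases : ∀ B : Subalgebra k A, B = ⊥ ∨ B = ⊤ := by
    intro B
    have hB : ∀ B : Subalgebra k A, B = B₁ ∨ B = B₂ := fun B => by
      have : B ∈ ({B₁, B₂} : Set (Subalgebra k A)) := huniv.symm ▸ Set.mem_univ B
      simpa using this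
    rcases hB B, hB ⊥, hB ⊤ with ⟨h1 | h1, h2 | h2, h3 | h3⟩ <;>
      first
        | exact Or.inl (h1.trans h2.symm)
        | exact Or.inr (h1.trans h3.symm)
        | exact absurd (h2.trans h3.symm) hbt
  obtain ⟨x, hx⟩ : ∃ x : A, x ∉ (⊥ : Subalgebra k A) := by
    by_contra hc; push Not at hc
    exact hbt (eq_top_iff.2 fun a _ => hc a)
  haveI : Nontrivial A := by
    by_contra hc; rw [not_nontrivial_iff_subsingleton] at hc
    exact hx (by rw [Subsingleton.elim x 0]; exact zero_mem _)
  have hadj : ∀ y : A, y ∉ (⊥ : Subalgebra k A) → Algebra.adjoin k {y} = ⊤ := fun y hy =>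
    (hcases _).resolve_left fun hc => hy (hc ▸ Algebra.self_mem_adjoin_singleton k y)
  have hint : IsIntegral k x := by
    by_contra hni
    have htr : Transcendental k x := fun ha => hni ha.isIntegral
    have hinj := transcendental_iff_injective.1 htr
    have h2 : x * x ∉ (⊥ : Subalgebra k A) := by
      rw [Algebra.mem_bot]
      rintro ⟨c, hc⟩
      have := @hinj (Polynomial.C c) (Polynomial.X * Polynomial.X) (by simp [hc])
      simpa [Polynomial.natDegree_mul] using congrArg Polynomial.natDegree this
    have hm : x ∈ Algebra.adjoin k {x * x} := by rw [hadj _ h2]; trivial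
    rw [Algebra.adjoin_singleton_eq_range_aeval] at hm
    obtain ⟨q, hq⟩ := hm
    have := @hinj (q.comp (Polynomial.X * Polynomial.X)) Polynomial.X (by simpa [Polynomial.aeval_comp] using hq)
    have hd := congrArg Polynomial.natDegree this
    rw [Polynomial.natDegree_comp, Polynomial.natDegree_X, Polynomial.natDegree_mul Polynomial.X_ne_zero Polynomial.X_ne_zero, Polynomial.natDegree_X] at hd
    omega
  have hdeg : 1 < (minpoly k x).natDegree := by
    by_contra hle
    have := minpoly.natDegree_pos hint
    exact hx (Algebra.mem_bot.2 (by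
      obtain ⟨c, hc⟩ := minpoly.mem_range_of_degree_eq_one (A := k) (B := A) (x := x) (by
        rw [Polynomial.degree_eq_natDegree (minpoly.ne_zero hint), show (minpoly k x).natDegree = 1 by omega]; rfl)
      exact ⟨c, hc⟩))
  obtain ⟨α, hα⟩ := IsAlgClosed.exists_root (minpoly k x) (by
    rw [Polynomial.degree_eq_natDegree (minpoly.ne_zero hint)]
    exact_mod_cast (by omega : (minpoly k x).natDegree ≠ 0))
  obtain ⟨g, hg⟩ := Polynomial.dvd_iff_isRoot.2 hα
  have hg0 : g ≠ 0 := by rintro rfl; rw [mul_zero] at hg; exact minpoly.ne_zero hint hg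
  have hgdeg : g.natDegree + 1 = (minpoly k x).natDegree := by
    rw [hg, Polynomial.natDegree_mul (Polynomial.X_sub_C_ne_zero α) hg0, Polynomial.natDegree_X_sub_C]; omega
  set z := Polynomial.aeval x g with hz
  have hzbot : z ∉ (⊥ : Subalgebra k A) := by
    rw [Algebra.mem_bot]
    rintro ⟨c, hc⟩
    have h0 : g - Polynomial.C c ≠ 0 := by
      intro h0
      rw [sub_eq_zero] at h0
      rw [h0, Polynomial.natDegree_C] at hgdeg
      omega
    have hle := minpoly.degree_le_of_ne_zero (A := k) x h0 (by simp [← hz, ← hc])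
    rw [Polynomial.degree_eq_natDegree (minpoly.ne_zero hint), Polynomial.degree_eq_natDegree h0, Nat.cast_le, Polynomial.natDegree_sub_C] at hle
    omega
  have hzz : ∃ c : k, z * z = algebraMap k A c * z := by
    refine ⟨g.eval α, ?_⟩
    have h0 : (x - algebraMap k A α) * z = 0 := by
      have := minpoly.aeval k x
      rw [hg] at this
      simpa [← hz] using this
    obtain ⟨q, hq⟩ := Polynomial.X_sub_C_dvd_sub_C_eval (a := α) (p := g)
    have h1 : z - algebraMap k A (g.eval α) = (x - algebraMap k A α) * Polynomial.aeval x q := by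
      have := congrArg (Polynomial.aeval x) hq
      simpa [← hz] using this
    linear_combination z * h1 + Polynomial.aeval x q * h0
  obtain ⟨c, hzc⟩ := hzz
  have htop : ∀ a : A, ∃ u v : k, a = algebraMap k A u + algebraMap k A v * z := by
    intro a
    have ha : a ∈ Algebra.adjoin k {z} := by rw [hadj z hzbot]; trivial
    induction ha using Algebra.adjoin_induction with
    | mem y hy => rw [Set.mem_singleton_iff] at hy; exact ⟨0, 1, by simp [hy]⟩
    | algebraMap r => exact ⟨r, 0, by simp⟩
    | add y w _ _ hy hw =>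
      obtain ⟨u, v, rfl⟩ := hy; obtain ⟨u', v', rfl⟩ := hw
      exact ⟨u + u', v + v', by simp only [map_add]; ring⟩
    | mul y w _ _ hy hw =>
      obtain ⟨u, v, rfl⟩ := hy; obtain ⟨u', v', rfl⟩ := hw
      refine ⟨u * u', u * v' + v * u' + c * v * v', ?_⟩
      simp only [map_add, map_mul]
      linear_combination algebraMap k A v * algebraMap k A v' * hzc
  have hindep : ∀ u v : k, algebraMap k A u + algebraMap k A v * z = 0 → u = 0 ∧ v = 0 := by
    intro u v huv
    by_cases hv : v = 0
    · subst hv
      simp only [map_zero, zero_mul, add_zero] at huv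
      exact ⟨(algebraMap k A).injective (by rw [huv, map_zero]), rfl⟩
    · refine absurd (Algebra.mem_bot.2 ⟨-(v⁻¹ * u), ?_⟩) hzbot
      have h1 : algebraMap k A v⁻¹ * algebraMap k A v = 1 := by rw [← map_mul, inv_mul_cancel₀ hv, map_one]
      simp only [map_neg, map_mul]
      linear_combination -(algebraMap k A v⁻¹) * huv + z * h1
  by_cases hc : c = 0
  · right
    subst hc
    simp only [map_zero, zero_mul] at hzc
    let φ : DualNumber k →ₐ[k] A := DualNumber.lift ⟨(Algebra.ofId k A, z), hzc, fun _ => Commute.all _ _⟩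
    have hφ : ∀ p : DualNumber k, φ p = algebraMap k A p.fst + algebraMap k A p.snd * z := by
      intro p; simp [φ, DualNumber.lift_apply_apply]
    refine ⟨(AlgEquiv.ofBijective φ ⟨?_, ?_⟩).symm⟩
    · rw [injective_iff_map_eq_zero]
      intro p hp
      rw [hφ] at hp
      obtain ⟨h1, h2⟩ := hindep _ _ hp
      exact TrivSqZeroExt.ext h1 h2
    · intro a
      obtain ⟨u, v, rfl⟩ := htop a
      exact ⟨TrivSqZeroExt.inl u + TrivSqZeroExt.inr v, by simp [hφ]⟩
  · left
    set e := algebraMap k A c⁻¹ * z with he
    have hee : e * e = e := by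
      have h1 : algebraMap k A c⁻¹ * algebraMap k A c = 1 := by rw [← map_mul, inv_mul_cancel₀ hc, map_one]
      rw [he]
      linear_combination algebraMap k A c⁻¹ * algebraMap k A c⁻¹ * hzc + algebraMap k A c⁻¹ * z * h1
    let φ : (k × k) →ₐ[k] A :=
      { toFun := fun p => algebraMap k A p.1 * e + algebraMap k A p.2 * (1 - e)
        map_one' := by simp
        map_mul' := fun p q => by
          simp only [Prod.fst_mul, Prod.snd_mul, map_mul]
          linear_combination (-(algebraMap k A p.1 - algebraMap k A p.2) * (algebraMap k A q.1 - algebraMap k A q.2)) * hee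
        map_zero' := by simp
        map_add' := fun p q => by simp only [Prod.fst_add, Prod.snd_add, map_add]; ring
        commutes' := fun r => by simp only [Prod.algebraMap_apply, Algebra.algebraMap_self, RingHom.id_apply]; ring }
    have hφ : ∀ p : k × k, φ p = algebraMap k A p.2 + algebraMap k A ((p.1 - p.2) * c⁻¹) * z := by
      intro p
      change algebraMap k A p.1 * e + algebraMap k A p.2 * (1 - e) = _
      simp only [he, map_mul, map_sub]; ring
    refine ⟨(AlgEquiv.ofBijective φ ⟨?_, ?_⟩).symm⟩
    · rw [injective_iff_map_eq_zero]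
      intro p hp
      rw [hφ] at hp
      obtain ⟨h1, h2⟩ := hindep _ _ hp
      simp only [mul_eq_zero, inv_eq_zero, hc, or_false, sub_eq_zero] at h2
      exact Prod.ext (h2.trans h1) h1
    · intro a
      obtain ⟨u, v, rfl⟩ := htop a
      refine ⟨(u + v * c, u), ?_⟩
      rw [hφ]
      simp [hc]

end Groth.Agent.S0218
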