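import Groth.Statements.S0220
import Groth.Agent.VarDim.Top
import Groth.Agent.VarDim.Local
import Mathlib.AlgebraicGeometry.FunctionField
import Mathlib.RingTheory.DedekindDomain.Basic
import Mathlib.RingTheory.Flat.TorsionFree

set_option autoImplicit false
universe u
open CategoryTheory CategoryTheory.Limits AlgebraicGeometry TopologicalSpace
open Curves

namespace Groth.Agent.S0220

/-- A nonconstant morphism between curves over a field (integral, separated, finite type, dimension one)
whose target has integrally closed local domains is flat. -/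
theorem result (k : Type u) [Field k] (X Y : Scheme.{u}) (p : X ⟶ Spec (CommRingCat.of k)) (q : Y ⟶ Spec (CommRingCat.of k))
    [IsIntegral X] [IsIntegral Y] [IsSeparated p] [IsSeparated q] [LocallyOfFiniteType p] [LocallyOfFiniteType q]
    [QuasiCompact p] [QuasiCompact q] (hX : topologicalKrullDim X = 1) (hY : topologicalKrullDim Y = 1)
    (hN : ∀ y : Y, IsDomain (Y.presheaf.stalk y) ∧ IsIntegrallyClosed (Y.presheaf.stalk y))
    (f : X ⟶ Y) (hf : f ≫ q = p) (hnc : (Set.range f.base).Nontrivial) :
    Flat f := by
  haveI : IsLocallyNoetherian Y := LocallyOfFiniteType.isLocallyNoetherian q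
  have hdegY : ∀ y : Y, VarDim.deg q y ≤ 1 := by
    intro y
    rw [VarDim.topologicalKrullDim_eq_iSup_deg q] at hY
    exact_mod_cast (le_iSup (fun y : Y => ((VarDim.deg q y : ℕ∞) : WithBot ℕ∞)) y).trans hY.le
  have hgen : f (genericPoint X) = genericPoint Y := by
    by_contra hne
    have hsp : genericPoint Y ⤳ f (genericPoint X) := genericPoint_specializes _
    have h1 := VarDim.deg_strictMono q (show f (genericPoint X) < genericPoint Y from
      lt_iff_le_not_ge.2 ⟨hsp, fun h' => hne (Specializes.antisymm h' hsp).eq⟩)
    have h2 := hdegY (genericPoint Y)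
    have hcl : IsClosed ({f (genericPoint X)} : Set Y) :=
      (VarDim.closedPoint_iff_deg_eq_zero q _).2 (by omega)
    obtain ⟨u, ⟨a, rfl⟩, v, ⟨b, rfl⟩, huv⟩ := hnc
    have : ∀ x : X, f x = f (genericPoint X) := fun x =>
      ((genericPoint_specializes x).map f.continuous).mem_closed hcl rfl
    exact huv ((this a).trans (this b).symm)
  refine Flat.of_stalkMap f fun x => ?_
  obtain ⟨hdom, hic⟩ := hN (f x)
  haveI := hdom
  haveI := hic
  obtain ⟨b, hb, ⟨η, -, hη⟩, -⟩ := VarDim.exists_deg_add_stalk q (f x)
  haveI : Ring.KrullDimLE 1 (Y.presheaf.stalk (f x)) := by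
    rw [Ring.krullDimLE_iff, hb]
    have := hdegY η
    exact_mod_cast (show b ≤ 1 by omega)
  haveI : Ring.DimensionLEOne (Y.presheaf.stalk (f x)) :=
    Ring.DimensionLEOne.mk fun hp hprime => Ring.krullDimLE_one_iff_of_noZeroDivisors.1 inferInstance _ hp hprime
  haveI : IsDedekindDomain (Y.presheaf.stalk (f x)) := { }
  have hsp : genericPoint X ⤳ x := genericPoint_specializes x
  have h1 : Function.Injective (Y.presheaf.stalkSpecializes (hsp.map f.continuous)).hom := by
    have hY' : Function.Injective (algebraMap (Y.presheaf.stalk (f x)) Y.functionField) :=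
      IsFractionRing.injective _ _
    have he : (algebraMap (Y.presheaf.stalk (f x)) Y.functionField : Y.presheaf.stalk (f x) → Y.functionField) =
        (Y.presheaf.stalkSpecializes (genericPoint_specializes (f (genericPoint X)))).hom ∘
          (Y.presheaf.stalkSpecializes (hsp.map f.continuous)).hom := by
      funext g
      exact (TopCat.Presheaf.stalkSpecializes_comp_apply Y.presheaf _ _ g).symm
    rw [he] at hY'
    exact hY'.of_comp
  have h2 : Function.Injective (f.stalkMap (genericPoint X)).hom := by
    have hfld : IsField (Y.presheaf.stalk (f (genericPoint X))) := by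
      rw [hgen]; exact Field.toIsField Y.functionField
    letI := hfld.toField
    exact RingHom.injective (f.stalkMap (genericPoint X)).hom (R := Y.presheaf.stalk (f (genericPoint X)))
  have hinj : Function.Injective (f.stalkMap x).hom := fun g g' hgg => by
    refine h1 (h2 ?_)
    have := Scheme.Hom.stalkSpecializes_stalkMap_apply f (genericPoint X) x hsp
    rw [this g, this g', hgg]
  letI := (f.stalkMap x).hom.toAlgebra
  haveI : FaithfulSMul (Y.presheaf.stalk (f x)) (X.presheaf.stalk x) :=
    (faithfulSMul_iff_algebraMap_injective _ _).2 hinj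
  show Module.Flat (Y.presheaf.stalk (f x)) (X.presheaf.stalk x)
  infer_instance

end Groth.Agent.S0220
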