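import Groth.Statements.S0224
import Groth.Agent.CurveKummer.HOne
import Groth.Agent.S6545
import Groth.Agent.EtLC12.MuConst
import Groth.Agent.AGFLib.BorelImage
-- import your own Groth.Agent.* helpers here

set_option autoImplicit false
universe u
set_option backward.isDefEq.respectTransparency false
set_option backward.isDefEq.respectTransparency.types false
set_option linter.style.haveILetI false
open CategoryTheory CategoryTheory.Limits AlgebraicGeometry
open Curves

namespace Groth.Agent.S0224

open scoped Groth.Agent.H23.PicMul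
attribute [local instance] Groth.Agent.H23.PicMul.clMonoid

/-- Let X be a smooth proper curve of genus g over an algebraically closed field k, the genus being
dim_k H¹(X, O_X), and let n ≥ 1 be an integer invertible in k. Then the first étale cohomology group
of X with coefficients in the constant sheaf ℤ/n is (noncanonically) isomorphic to (ℤ/n)^{2g}. (The
published statement assumes X projective; stated here for X proper.) -/
theorem result (k : Type u) [Field k] [IsAlgClosed k] (X : Scheme.{u}) [X.Over (Spec (CommRingCat.of k))]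
    (hX : Curve.IsSmoothProperCurve k X (X ↘ Spec (CommRingCat.of k)))
    (g : ℕ) (hg : Module.finrank k (Coh.HH X (Coh.structureModule X) 1) = g)
    (n : ℕ) (hn : 1 ≤ n) (hnk : (n : k) ≠ 0) :
    Nonempty (EtCoh.H X (EtCoh.const X (ZMod n)) 1 ≃+ (Fin (2 * g) → ZMod n)) := by
  set f := X ↘ Spec (CommRingCat.of k)
  obtain ⟨hp, hsm, hint, hdim⟩ := hX
  haveI : IsProper (X ↘ Spec (CommRingCat.of k)) := hp
  haveI : Smooth (X ↘ Spec (CommRingCat.of k)) := hsm
  haveI : NeZero n := ⟨by omega⟩
  haveI : CompactSpace X := QuasiCompact.compactSpace_of_compactSpace f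
  haveI : X.IsSeparated := ⟨by
    rw [show terminal.from X = f ≫ terminal.from _ from (Subsingleton.elim _ _)]; infer_instance⟩
  let φ : k →+* Γ(X, ⊤) := (f.appTop.hom).comp (Scheme.ΓSpecIso (CommRingCat.of k)).inv.hom
  have hφ : Function.Bijective φ :=
    (Groth.Agent.AGFLib.BorelImage.bijective_appTop_of_isProper f).comp
      (ConcreteCategory.bijective_of_isIso (Scheme.ΓSpecIso (CommRingCat.of k)).inv)
  have hu : IsUnit (n : Γ(X, ⊤)) := by
    have := (Ne.isUnit hnk).map φ
    rwa [map_natCast] at this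
  obtain ⟨z, hz⟩ := IsAlgClosed.exists_root (Polynomial.cyclotomic n k)
    (Polynomial.degree_cyclotomic_pos n k (by omega)).ne'
  have hζ : Polynomial.aeval (φ z) (Polynomial.cyclotomic n ℤ) = 0 := by
    have h : Polynomial.aeval z (Polynomial.cyclotomic n ℤ) = 0 := by
      rw [Polynomial.aeval_def, Polynomial.eval₂_eq_eval_map, Polynomial.map_cyclotomic]
      exact hz
    show Polynomial.aeval (φ.toIntAlgHom z) _ = 0
    rw [Polynomial.aeval_algHom_apply, h, map_zero]
  haveI : Epi (EtCoh.powMap X n) := Groth.Agent.S0108.result X n hu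
  letI := Groth.Agent.H23.PicMul.law X
  have hdiv : ∀ w : Γ(X, ⊤)ˣ, ∃ v : Γ(X, ⊤)ˣ, v ^ n = w := fun w => by
    let ψ := RingEquiv.ofBijective φ hφ
    obtain ⟨b, hb⟩ := IsAlgClosed.exists_pow_nat_eq (k := k) (ψ.symm (w : Γ(X, ⊤))) (by omega : 0 < n)
    have hbu : IsUnit (φ b ^ n) := by
      rw [← map_pow, hb]
      exact (ψ.apply_symm_apply (w : Γ(X, ⊤))).symm ▸ w.isUnit
    refine ⟨((isUnit_pow_iff (NeZero.ne n)).1 hbu).unit, Units.ext ?_⟩
    rw [Units.val_pow_eq_pow_val, IsUnit.unit_spec, ← map_pow, hb]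
    exact ψ.apply_symm_apply (w : Γ(X, ⊤))
  obtain ⟨m, hinj, hrange⟩ := Groth.Agent.CurveKummer.exists_mu_one_hom (n := n) hdiv
  have hg' : Curv2.genus k X = g := hg
  obtain ⟨e⟩ := Groth.Agent.AVTors.nonempty_addEquiv (2 * g) n (by omega) (EtCoh.H X (EtCoh.mu X n) 1)
    (fun x => hinj (by rw [map_nsmul, map_zero, (hrange _).1 ⟨x, rfl⟩]))
    (fun d hd => by
      obtain ⟨c, rfl⟩ := hd
      have hd0 : 0 < d := Nat.pos_of_mul_pos_right (by omega : 0 < d * c)
      have hdk : IsUnit (d : k) := Ne.isUnit fun h => hnk (by rw [Nat.cast_mul, h, zero_mul])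
      rw [← hg', ← Groth.Agent.S6545.result k X hdim d hdk, Groth.Agent.PicCurve.tors_set_eq]
      have hpow : ∀ (a : PicLoc.PicSet X) (j : ℕ), (a ^ j).1 = a.1 ^ j := fun a j => by
        induction j with
        | zero => rw [pow_zero, pow_zero]; exact congrArg Subtype.val PicGrp.Law.one_eq
        | succ j ih => rw [pow_succ, pow_succ, PicGrp.Law.mul_val, ih]; rfl
      have hiff : ∀ y : EtCoh.H X (EtCoh.mu X (d * c)) 1, d • y = 0 ↔ (m y).toMul.1 ^ d = 1 := fun y => by
        rw [← hinj.eq_iff, map_nsmul, map_zero, ← hpow]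
        exact ⟨fun h => congrArg (fun x : Additive (PicLoc.PicSet X) => x.toMul.1) h,
          fun h => Subtype.ext h⟩
      refine Nat.card_congr (Equiv.ofBijective
        (fun y => (⟨(m y.1).toMul.1, (m y.1).toMul.2, (hiff _).1 y.2⟩ :
          {a : PicF.Cl X | PicF.IsInvertibleCl a ∧ a ^ d = 1})) ⟨fun a b h => ?_, fun a => ?_⟩)
      · have h' := congrArg Subtype.val h
        exact Subtype.ext (hinj (Subtype.ext h'))
      · obtain ⟨a, ha, had⟩ := a
        let x : Additive (PicLoc.PicSet X) := Additive.ofMul ⟨a, ha⟩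
        have hx : (d * c) • x = 0 := Subtype.ext ((hpow ⟨a, ha⟩ (d * c)).trans (by rw [pow_mul, had, one_pow]; rfl))
        obtain ⟨y, hy⟩ := (hrange x).2 hx
        have hy' : (m y).toMul.1 = a := by rw [hy]; rfl
        exact ⟨⟨y, (hiff y).2 (by rw [hy']; exact had)⟩, Subtype.ext hy'⟩)
  obtain ⟨i⟩ := Groth.Agent.EtLC12.MuConst.nonempty_mu_iso_const hu (φ z) hζ
  exact ⟨(AddEquiv.mk' ⟨fun x => x.comp (CategoryTheory.Abelian.Ext.mk₀ i.inv) (add_zero 1),
      fun x => x.comp (CategoryTheory.Abelian.Ext.mk₀ i.hom) (add_zero 1),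
      fun x => by simp, fun x => by simp⟩
      (fun a b => CategoryTheory.Abelian.Ext.add_comp a b (CategoryTheory.Abelian.Ext.mk₀ i.inv) (add_zero 1))).trans e⟩

end Groth.Agent.S0224
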