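import Groth.Statements.S0225
import Groth.Agent.CurveKummer.PicModN
import Groth.Agent.CurveKummer.HTwo

set_option autoImplicit false
universe u
set_option backward.isDefEq.respectTransparency false
set_option backward.isDefEq.respectTransparency.types false
set_option linter.style.haveILetI false
open CategoryTheory CategoryTheory.Limits AlgebraicGeometry
open Curves

namespace Groth.Agent.S0225

/-- For a smooth proper curve X over an algebraically closed field k and an integer n ≥ 1 invertible in
k, the étale cohomology group H²(X, ℤ/n) of the constant sheaf ℤ/n is isomorphic to ℤ/n. (The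
published statement is for smooth projective curves; smooth proper is assumed here.) -/
theorem result (k : Type u) [Field k] [IsAlgClosed k] (X : Scheme.{u}) [X.Over (Spec (CommRingCat.of k))]
    (hX : Curve.IsSmoothProperCurve k X (X ↘ Spec (CommRingCat.of k)))
    (n : ℕ) (hn : 1 ≤ n) (hnk : (n : k) ≠ 0) :
    Nonempty (EtCoh.H X (EtCoh.const X (ZMod n)) 2 ≃+ ZMod n) := by
  set f := X ↘ Spec (CommRingCat.of k)
  obtain ⟨hp, hsm, hint, hdim⟩ := hX
  obtain ⟨σ, hσ, hgc, hrd⟩ := Groth.Agent.PicCurve.curve_of_isAlgClosed f hdim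
  haveI : NeZero n := ⟨by omega⟩
  haveI : CompactSpace X := QuasiCompact.compactSpace_of_compactSpace f
  haveI : X.IsSeparated := ⟨by
    rw [show terminal.from X = f ≫ terminal.from _ from (Subsingleton.elim _ _)]; infer_instance⟩
  let φ : k →+* Γ(X, ⊤) := (f.appTop.hom).comp (Scheme.ΓSpecIso (CommRingCat.of k)).inv.hom
  have hu : IsUnit (n : Γ(X, ⊤)) := by
    have := (Ne.isUnit hnk).map φ
    rwa [map_natCast] at this
  obtain ⟨z, hz⟩ := IsAlgClosed.exists_root (Polynomial.cyclotomic n k)
    (Polynomial.degree_cyclotomic_pos n k (by omega)).ne'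
  have hζ : Polynomial.aeval (φ z) (Polynomial.cyclotomic n ℤ) = 0 := by
    have h : Polynomial.aeval z (Polynomial.cyclotomic n ℤ) = 0 := by
      rw [Polynomial.aeval_def, Polynomial.eval₂_eq_eval_map, Polynomial.map_cyclotomic]
      exact hz
    show Polynomial.aeval (φ.toIntAlgHom z) _ = 0
    rw [Polynomial.aeval_algHom_apply, h, map_zero]
  haveI : Epi (EtCoh.powMap X n) := Groth.Agent.S0108.result X n hu
  letI := Groth.Agent.H23.PicMul.law X
  obtain ⟨ψ, hs, hk⟩ := Groth.Agent.CurveKummer.exists_pic_modN f σ hσ n (by omega)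
  obtain ⟨e⟩ := Groth.Agent.CurveKummer.nonempty_H_mu_two
    (Groth.Agent.Curve11.subsingleton_H_Gm f hdim 2 le_rfl) ψ hs hk
  obtain ⟨i⟩ := Groth.Agent.EtLC12.MuConst.nonempty_mu_iso_const hu (φ z) hζ
  exact ⟨(AddEquiv.mk' ⟨fun x => x.comp (CategoryTheory.Abelian.Ext.mk₀ i.inv) (add_zero 2),
      fun x => x.comp (CategoryTheory.Abelian.Ext.mk₀ i.hom) (add_zero 2),
      fun x => by simp, fun x => by simp⟩ (fun a b => CategoryTheory.Abelian.Ext.add_comp a b (CategoryTheory.Abelian.Ext.mk₀ i.inv) (add_zero 2))).trans e⟩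

end Groth.Agent.S0225
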