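import Groth.Statements.S0226
import Groth.Agent.RegLoc6.Basic
import Groth.Agent.RegLoc6.Serre
import Mathlib.RingTheory.Ideal.Quotient.Nilpotent
import Mathlib.RingTheory.DiscreteValuationRing.TFAE
import Mathlib.RingTheory.Ideal.MinimalPrime.Noetherian

set_option autoImplicit false
universe u
open Curves

namespace Groth.Agent.S0226

/-- In a regular local ring of dimension two, an ideal inside the maximal ideal with reduced quotient is
zero, the maximal ideal, or principal. -/
theorem result (A : Type u) [CommRing A] [IsRegularLocalRing A] (hdim : ringKrullDim A = 2)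
    (I : Ideal A) (hI : I ≤ IsLocalRing.maximalIdeal A) [IsReduced (A ⧸ I)] :
    I = ⊥ ∨ I = IsLocalRing.maximalIdeal A ∨ ∃ f ∈ IsLocalRing.maximalIdeal A, f ≠ 0 ∧ I = Ideal.span {f} := by
  classical
  haveI : IsDomain A := RegLoc6.isDomain_of_isRegularLocalRing A
  by_cases h0 : I = ⊥
  · exact Or.inl h0
  by_cases hm : I = IsLocalRing.maximalIdeal A
  · exact Or.inr (Or.inl hm)
  refine Or.inr (Or.inr ?_)
  have hrad : I.IsRadical := (Ideal.isRadical_iff_quotient_reduced I).mpr inferInstance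
  set m := IsLocalRing.maximalIdeal A with hmdef
  have hfin : I.minimalPrimes.Finite := Ideal.finite_minimalPrimes_of_isNoetherianRing A I
  have hne : ∀ q ∈ I.minimalPrimes, ¬ m ≤ q := by
    intro q hq hle
    have hq' : q = m := le_antisymm (IsLocalRing.le_maximalIdeal hq.1.1.ne_top) hle
    apply hm
    refine le_antisymm hI ?_
    rw [← hrad.radical, ← Ideal.sInf_minimalPrimes]
    refine le_sInf fun p hp => ?_
    subst hq'
    exact hq.2 hp.1 (IsLocalRing.le_maximalIdeal hp.1.1.ne_top)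
  have hnf : ¬ IsField A := fun h => by
    have := h.toField
    rw [ringKrullDim_eq_zero_of_isField h] at hdim
    exact absurd hdim (by decide)
  obtain ⟨x, hx, hxa⟩ : ∃ x ∈ m, ∀ J ∈ insert (m ^ 2) hfin.toFinset, x ∉ J := by
    by_contra! hh
    have hsub : (m : Set A) ⊆ ⋃ J ∈ (↑(insert (m ^ 2) hfin.toFinset) : Set (Ideal A)),
        ((id J : Ideal A) : Set A) := by
      intro a ha
      obtain ⟨J, hJ, haJ⟩ := hh a ha
      exact Set.mem_biUnion hJ haJ
    rw [Ideal.subset_union_prime (m ^ 2) (m ^ 2) (fun J hJ h _ => ?_)] at hsub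
    · obtain ⟨J, hJ, hle⟩ := hsub
      rcases Finset.mem_insert.mp hJ with rfl | hJ
      · exact RegLoc6.maximalIdeal_sq_ne hnf hle
      · exact hne J (hfin.mem_toFinset.mp hJ) hle
    · exact (hfin.mem_toFinset.mp ((Finset.mem_insert.mp hJ).resolve_left h)).1.1
  have hx2 : x ∉ m ^ 2 := hxa _ (Finset.mem_insert_self _ _)
  have hcancel : ∀ a, a * x ∈ I → a ∈ I := by
    intro a ha
    rw [← hrad.radical, ← Ideal.sInf_minimalPrimes, Submodule.mem_sInf]
    intro p hp
    exact (hp.1.1.mem_or_mem (hp.1.2 ha)).resolve_right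
      (hxa p (Finset.mem_insert_of_mem (hfin.mem_toFinset.mpr hp)))
  obtain ⟨hreg, hd⟩ := RegLoc6.isRegularLocalRing_quot_and hx hx2
  haveI := hreg
  haveI : IsDomain (A ⧸ Ideal.span {x}) := RegLoc6.isDomain_of_isRegularLocalRing _
  have hd1 : ringKrullDim (A ⧸ Ideal.span {x}) = 1 := by
    rw [hdim, show (2 : WithBot ℕ∞) = 1 + 1 from rfl] at hd
    exact ENat.WithBot.add_one_cancel.mp hd
  have hsf := (isRegularLocalRing_iff (A ⧸ Ideal.span {x})).mp hreg
  rw [hd1] at hsf
  have hprinc : (IsLocalRing.maximalIdeal (A ⧸ Ideal.span {x})).IsPrincipal :=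
    ((Submodule.spanFinrank_eq_one_iff _).mp (by exact_mod_cast hsf)).1
  haveI : IsPrincipalIdealRing (A ⧸ Ideal.span {x}) :=
    ((tfae_of_isNoetherianRing_of_isLocalRing_of_isDomain (R := A ⧸ Ideal.span {x})).out 4 0).mp
      hprinc
  obtain ⟨g', hg'⟩ := IsPrincipalIdealRing.principal (I.map (Ideal.Quotient.mk (Ideal.span {x})))
  have hg'mem : g' ∈ I.map (Ideal.Quotient.mk (Ideal.span {x})) := by
    rw [hg']; exact Submodule.mem_span_singleton_self g'
  obtain ⟨g, hgI, hgg⟩ :=
    (Ideal.mem_map_iff_of_surjective _ Ideal.Quotient.mk_surjective).mp hg'mem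
  have hIg : I = Ideal.span {g} := by
    refine le_antisymm ?_ ((Ideal.span_singleton_le_iff_mem _).mpr hgI)
    refine Submodule.le_of_le_smul_of_le_jacobson_bot (I := Ideal.span {x})
      (IsNoetherian.noetherian I)
      (((Ideal.span_singleton_le_iff_mem _).mpr hx).trans (IsLocalRing.maximalIdeal_le_jacobson _)) ?_
    intro a ha
    have hamem : Ideal.Quotient.mk (Ideal.span {x}) a ∈ I.map (Ideal.Quotient.mk (Ideal.span {x})) :=
      Ideal.mem_map_of_mem _ ha
    rw [hg'] at hamem
    obtain ⟨c', hc'⟩ := Submodule.mem_span_singleton.mp hamem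
    obtain ⟨c, rfl⟩ := Ideal.Quotient.mk_surjective c'
    rw [smul_eq_mul, ← hgg, ← map_mul, Ideal.Quotient.eq] at hc'
    obtain ⟨d, hd⟩ := Ideal.mem_span_singleton'.mp hc'
    have hdI : d ∈ I := hcancel d (hd ▸ sub_mem (I.mul_mem_left c hgI) ha)
    have : a = c * g - d * x := by rw [hd]; ring
    rw [this]
    refine Submodule.sub_mem _ (Submodule.mem_sup_left ?_) (Submodule.mem_sup_right ?_)
    · exact Ideal.mul_mem_left _ _ (Ideal.mem_span_singleton_self g)
    · rw [mul_comm]
      exact Submodule.smul_mem_smul (Ideal.mem_span_singleton_self x) hdI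
  refine ⟨g, hI hgI, ?_, hIg⟩
  rintro rfl
  exact h0 (hIg.trans Ideal.span_singleton_zero)

end Groth.Agent.S0226
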