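import Groth.Statements.S0248
import Groth.Agent.Pi1Ext.RegPurity

set_option autoImplicit false
universe u
open Pi1

namespace Groth.Agent.S0248

open AlgebraicGeometry CategoryTheory CategoryTheory.Limits in
/-- Let A be a regular local ring of dimension at least 2 and B a finite A-algebra which is an
integrally closed domain, with A → B injective. If B is étale over A at every prime of B not lying
over the maximal ideal of A, then B is étale over A. This is the case of the published statement in
which B is a domain and A → B is injective. -/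
theorem result (A B : Type u) [CommRing A] [IsRegularLocalRing A]
    (hA : (2 : WithBot ℕ∞) ≤ ringKrullDim A) [CommRing B] [IsDomain B] [IsIntegrallyClosed B]
    [Algebra A B] [Module.Finite A B] (hinj : Function.Injective (algebraMap A B))
    (h : ∀ (q : Ideal B) (_ : q.IsPrime), q.comap (algebraMap A B) ≠ IsLocalRing.maximalIdeal A →
      Algebra.IsEtaleAt A q) : Algebra.Etale A B := by
  haveI := Groth.Agent.RegLoc6.isDomain_of_isRegularLocalRing A
  haveI : Algebra.FinitePresentation A B := Algebra.FinitePresentation.of_finiteType.mp inferInstance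
  have hC : Groth.Agent.Pi1Ext.RegPurity.EtOff A B := fun g hg => by
    unfold Groth.Agent.Pi1Ext.RegPurity.EtAway
    rw [← Algebra.basicOpen_subset_etaleLocus_iff_etale]
    intro q hq
    refine h q.asIdeal q.2 fun he => hq ?_
    have : g ∈ q.asIdeal.comap (algebraMap A B) := he ▸ hg
    exact this
  obtain ⟨B', _, _, f, hfin, het, hiso⟩ :=
    Groth.Agent.Pi1Ext.RegPurity.exists_finite_etale_of_etOff A hA B hC
  haveI := hfin
  haveI := het
  obtain ⟨g, k, hg, -, hp⟩ := Groth.Agent.Pi1Ext.RegPurity.exists_regPair A hA
  have hg0 : g ≠ 0 := hp.1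
  have hgB : algebraMap A B g ≠ 0 := (map_ne_zero_iff _ hinj).2 hg0
  haveI : Module.Free A B' := Module.free_of_flat_of_isLocalRing
  let L := FractionRing B
  obtain ⟨ψ, hψ⟩ := (hiso g hg).exists_extend (IsScalarTower.toAlgHom A B L) (IsUnit.mk0 _ (by
    rw [IsScalarTower.algebraMap_apply A B L]
    exact (map_ne_zero_iff _ (IsFractionRing.injective B L)).2 hgB))
  have hinjf : Function.Injective f := (injective_iff_map_eq_zero f).2 fun c hc => by
    obtain ⟨n, hn⟩ := (hiso g hg).2 c hc
    rw [Algebra.smul_def] at hn
    exact (mul_eq_zero.1 hn).resolve_left (by rw [map_pow]; exact pow_ne_zero n hgB)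
  have hsurj : Function.Surjective f := fun b' => by
    have hint : IsIntegral B (ψ b') := ((Algebra.IsIntegral.isIntegral (R := A) b').map ψ).tower_top
    obtain ⟨b, hb⟩ := IsIntegrallyClosed.isIntegral_iff.1 hint
    obtain ⟨n, c, hc⟩ := (hiso g hg).1 (b' - f b)
    have h0 : c = 0 := by
      have hψc : ψ (f c) = 0 := by
        rw [← hc, map_smul, _root_.map_sub, hψ]
        show g ^ n • (ψ b' - algebraMap B L b) = 0
        rw [hb, sub_self, smul_zero]
      rw [hψ] at hψc
      exact IsFractionRing.injective B L (hψc.trans (map_zero _).symm)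
    rw [h0, map_zero] at hc
    refine ⟨b, (sub_eq_zero.1 ?_).symm⟩
    have b0 := Module.Free.chooseBasis A B'
    refine b0.repr.injective (Finsupp.ext fun i => ?_)
    have h1 := DFunLike.congr_fun (congrArg b0.repr hc) i
    simp only [map_smul, map_zero, Finsupp.smul_apply, Finsupp.zero_apply, smul_eq_mul] at h1 ⊢
    exact (mul_eq_zero.1 h1).resolve_left (pow_ne_zero n hg0)
  exact Algebra.Etale.of_equiv (AlgEquiv.ofBijective f ⟨hinjf, hsurj⟩).symm

end Groth.Agent.S0248
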