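import Groth.Statements.S0252
import Groth.Agent.Pi1X.FEtFull
import Groth.Agent.EtFound.SpectralPiZero
import Groth.Agent.S7584

set_option autoImplicit false
universe u
open Pi1

namespace Groth.Agent.S0252

open AlgebraicGeometry CategoryTheory CategoryTheory.Limits in
/-- Let f be a morphism between quasi-compact quasi-separated schemes such that base change of finite
etale covers along f is an equivalence. Then the induced map on connected components is a
homeomorphism. -/
theorem result {X Y : Scheme.{u}} [CompactSpace X] [QuasiSeparatedSpace X] [CompactSpace Y] [QuasiSeparatedSpace Y]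
    (f : X ⟶ Y) (h : (FEt.restrict f).IsEquivalence) :
    IsHomeomorph f.continuous.connectedComponentsMap := by
  haveI hsY : SpectralSpace Y := {}
  haveI hsX : SpectralSpace X := {}
  haveI : T2Space (ConnectedComponents Y) :=
    Groth.Agent.S7584.result Y Groth.Agent.EtFound.SpectralPiZero.connectedComponent_eq_iInter_clopen
  haveI : CompactSpace (ConnectedComponents X) :=
    ⟨by rw [← Set.image_univ_of_surjective ConnectedComponents.surjective_coe]; exact isCompact_univ.image ConnectedComponents.continuous_coe⟩
  haveI := h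
  have hempty : ∀ G : Set Y, IsClopen G → f ⁻¹' G = ∅ → G = ∅ := by
    intro G hG hGe
    let U : Y.Opens := ⟨G, hG.2⟩
    let E : Y.Opens := ⊥
    let W : FEt.Cat Y := MorphismProperty.Over.mk ⊤ U.ι (Groth.Agent.Pi1X.prop_ι_of_isClopen U hG.1)
    let W₀ : FEt.Cat Y := MorphismProperty.Over.mk ⊤ E.ι (Groth.Agent.Pi1X.prop_ι_of_isClopen E isClosed_empty)
    haveI : IsEmpty ↥(pullback W.hom f) := by
      refine ⟨fun p => ?_⟩
      have h1 : W.hom ((pullback.fst W.hom f) p) = f ((pullback.snd W.hom f) p) :=
        congr($(pullback.condition (f := W.hom) (g := f)) p)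
      have h2 : f ((pullback.snd W.hom f) p) ∈ G := h1 ▸ (show ↥U from (pullback.fst W.hom f) p).2
      exact Set.eq_empty_iff_forall_notMem.1 hGe _ (h2 : (pullback.snd W.hom f) p ∈ f ⁻¹' G)
    let P := pullback W.hom f
    haveI : IsEmpty ((FEt.restrict f).obj W).left := inferInstanceAs (IsEmpty P)
    have hI : IsInitial ((FEt.restrict f).obj W).left := isInitialOfIsEmpty
    obtain ⟨φ, -⟩ := (FEt.restrict f).map_surjective (MorphismProperty.Over.homMk (hI.to ((FEt.restrict f).obj W₀).left) (hI.hom_ext _ _) :
      (FEt.restrict f).obj W ⟶ (FEt.restrict f).obj W₀)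
    refine Set.eq_empty_of_forall_notMem fun y hy => ?_
    let φ' : (U : Scheme.{u}) ⟶ (E : Scheme.{u}) := φ.left
    exact (φ' ⟨y, hy⟩).2
  have hsurj : ∀ C : Set X, IsClopen C → ∃ G : Set Y, IsClopen G ∧ f ⁻¹' G = C := by
    intro C hC
    let O : X.Opens := ⟨C, hC.2⟩
    let V : FEt.Cat X := MorphismProperty.Over.mk ⊤ O.ι (Groth.Agent.Pi1X.prop_ι_of_isClopen O hC.1)
    let W := (FEt.restrict f).objPreimage V
    let e := (FEt.restrict f).objObjPreimageIso V
    refine ⟨Set.range W.hom.base, Groth.Agent.Pi1X.isClopen_range W.prop, ?_⟩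
    let t : pullback W.hom f ⟶ (O : Scheme.{u}) := e.hom.left
    let t' : (O : Scheme.{u}) ⟶ pullback W.hom f := e.inv.left
    have ht : t ≫ O.ι = pullback.snd W.hom f := MorphismProperty.Over.w e.hom
    have ht' : t' ≫ pullback.snd W.hom f = O.ι := MorphismProperty.Over.w e.inv
    calc f ⁻¹' Set.range W.hom.base = Set.range (pullback.snd W.hom f) := (Scheme.Pullback.range_snd _ _).symm
      _ = Set.range O.ι := by
        refine Set.Subset.antisymm ?_ ?_
        · rintro _ ⟨p, rfl⟩; exact ⟨t p, congr($(ht) p)⟩
        · rintro _ ⟨p, rfl⟩; exact ⟨t' p, congr($(ht') p)⟩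
      _ = C := Scheme.Opens.range_ι O
  have hinj : Function.Injective f.continuous.connectedComponentsMap := by
    intro a b hab
    obtain ⟨x, rfl⟩ := ConnectedComponents.surjective_coe a
    obtain ⟨x', rfl⟩ := ConnectedComponents.surjective_coe b
    rw [Continuous.connectedComponentsMap_mk, Continuous.connectedComponentsMap_mk, ConnectedComponents.coe_eq_coe'] at hab
    rw [ConnectedComponents.coe_eq_coe', Groth.Agent.EtFound.SpectralPiZero.connectedComponent_eq_iInter_clopen, Set.mem_sInter]
    rintro C ⟨hC, hxC⟩
    obtain ⟨G, hG, rfl⟩ := hsurj C hC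
    exact hG.connectedComponent_subset hxC hab
  have hcont := f.continuous.connectedComponentsMap_continuous
  have hsur : Function.Surjective f.continuous.connectedComponentsMap := by
    intro c
    obtain ⟨y, rfl⟩ := ConnectedComponents.surjective_coe c
    by_contra hne
    push Not at hne
    let K := Set.range (fun x : X => f x)
    have hK : IsCompact K := isCompact_range f.continuous
    obtain ⟨G, hG, hyG, hGK⟩ := Groth.Agent.EtFound.SpectralPiZero.exists_clopen_subset y hK (by
      rintro _ ⟨x, rfl⟩
      have h1 := hne (ConnectedComponents.mk x)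
      rw [Continuous.connectedComponentsMap_mk, ne_eq, ConnectedComponents.coe_eq_coe',
        Groth.Agent.EtFound.SpectralPiZero.connectedComponent_eq_iInter_clopen, Set.mem_sInter] at h1
      push Not at h1
      obtain ⟨G, ⟨hG, hy⟩, hx⟩ := h1
      exact ⟨G, hG, hy, hx⟩)
    have := hempty G hG (Set.eq_empty_of_forall_notMem fun x hx => Set.disjoint_left.1 hGK hx ⟨x, rfl⟩)
    exact Set.notMem_empty y (this ▸ hyG)
  exact (isHomeomorph_iff_continuous_bijective.2 ⟨hcont, hinj, hsur⟩)

end Groth.Agent.S0252
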