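import Groth.Statements.S0253
import Groth.Agent.SepClosedNormal.Basic
import Mathlib.RingTheory.Localization.AsSubring
import Mathlib.RingTheory.Ideal.Maximal

set_option autoImplicit false
universe u
open Pi1

namespace Groth.Agent.S0253

open AlgebraicGeometry CategoryTheory CategoryTheory.Limits in
/-- Let A be an integrally closed domain whose fraction field is separably closed. Then the residue
field at any nonzero prime ideal of A is algebraically closed. -/
theorem result (A : Type u) [CommRing A] [IsDomain A] [IsIntegrallyClosed A] [IsSepClosed (FractionRing A)]
    (p : Ideal A) [p.IsPrime] (hp : p ≠ ⊥) : IsAlgClosed p.ResidueField := by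
  let L := Localization.AtPrime p
  letI : Algebra L (FractionRing A) :=
    (IsLocalization.lift (M := p.primeCompl) (g := algebraMap A (FractionRing A)) (fun s => by
      refine IsUnit.mk0 _ fun h => s.2 ?_
      rw [IsFractionRing.injective A (FractionRing A) (h.trans (map_zero _).symm)]
      exact p.zero_mem) : L →+* FractionRing A).toAlgebra
  haveI : IsScalarTower A L (FractionRing A) := IsScalarTower.of_algebraMap_eq fun a => (IsLocalization.lift_eq _ a).symm
  haveI : IsFractionRing L (FractionRing A) := IsFractionRing.isFractionRing_of_isDomain_of_isLocalization p.primeCompl L (FractionRing A)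
  haveI : IsIntegrallyClosed L := isIntegrallyClosed_of_isLocalization L p.primeCompl (Ideal.primeCompl_le_nonZeroDivisors p)
  have h : IsLocalRing.maximalIdeal L ≠ ⊥ := fun h => hp (by
    rw [← IsLocalization.AtPrime.comap_maximalIdeal L p, h, Ideal.under, ← RingHom.ker_eq_comap_bot,
      (RingHom.injective_iff_ker_eq_bot _).mp (IsLocalization.injective L (Ideal.primeCompl_le_nonZeroDivisors p))])
  exact SepClosedNormal.isAlgClosed_residueField L (FractionRing A) h

end Groth.Agent.S0253
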