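import Groth.Statements.S0258
import Groth.Agent.Pi1X.FEtGlobal
import Groth.Agent.LC.PuncturedConn

set_option autoImplicit false
universe u
open Pi1

namespace Groth.Agent.S0258

open AlgebraicGeometry CategoryTheory CategoryTheory.Limits in
/-- For a Noetherian local ring A of depth at least 2, the functor restricting finite étale covers of
Spec A to the punctured spectrum is fully faithful (full and faithful). The published statement
assumes instead that the punctured spectrum of the strict henselization of A is connected; depth at
least 2 is a sufficient condition for this, and the result is stated here under that hypothesis. -/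
theorem result (A : Type u) [CommRing A] [IsNoetherianRing A] [IsLocalRing A] (hA : (2 : ℕ∞) ≤ LocCoh.depth A A) :
    (FEt.restrict (FEt.puncturedSpec A).ι).Full ∧ (FEt.restrict (FEt.puncturedSpec A).ι).Faithful := by
  have hconn := Groth.Agent.LC.isConnected_punctured hA
  refine Groth.Agent.Pi1X.restrict_open_full_faithful _ (dense_iff_inter_open.2 fun C hC hne => ?_) fun x hx => ?_
  · by_contra h0
    rw [Set.not_nonempty_iff_eq_empty] at h0
    obtain ⟨y, hy⟩ := hne
    have hy' : y = IsLocalRing.closedPoint A := by
      by_contra hyc
      exact Set.notMem_empty y (h0 ▸ ⟨hy, hyc⟩)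
    have hall : C = Set.univ := Set.eq_univ_of_forall fun z =>
      (IsLocalRing.specializes_closedPoint z).mem_open hC (hy' ▸ hy)
    obtain ⟨z, hz⟩ := hconn.nonempty
    exact Set.notMem_empty z (h0 ▸ ⟨hall ▸ Set.mem_univ z, fun h => hz (congrArg PrimeSpectrum.asIdeal h)⟩)
  · have hx' : x = IsLocalRing.closedPoint A := not_not.1 hx
    subst hx'
    letI : Algebra A ((Spec (CommRingCat.of A)).presheaf.stalk (IsLocalRing.closedPoint A)) :=
      (StructureSheaf.toStalk A _).hom.toAlgebra
    haveI : IsLocalization.AtPrime ((Spec (CommRingCat.of A)).presheaf.stalk (IsLocalRing.closedPoint A))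
        (IsLocalRing.closedPoint A).asIdeal := StructureSheaf.IsLocalization.to_stalk A _
    let σ := IsLocalization.atUnits A (IsLocalRing.closedPoint A).asIdeal.primeCompl
      (S := (Spec (CommRingCat.of A)).presheaf.stalk (IsLocalRing.closedPoint A))
      (fun a ha => (IsLocalRing.notMem_maximalIdeal).1 ha)
    exact hA.trans (Groth.Agent.Alg6.depth_eq_of_semilinear σ.toRingEquiv.toRingHom σ.surjective
      σ.toRingEquiv.toAddEquiv (fun r z => map_mul σ r z)).le

end Groth.Agent.S0258
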