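import Groth.Statements.S0260
import Groth.Agent.Pi1Ext.HyperFF
import Groth.Agent.Hensel.PairBasic
import Groth.Agent.LC.Depth
-- import your own Groth.Agent.* helpers here

set_option autoImplicit false
universe u
open Pi1

namespace Groth.Agent.S0260

open AlgebraicGeometry CategoryTheory CategoryTheory.Limits in
/-- Let A be a henselian Noetherian local ring of depth at least 3 and f an element of the maximal
ideal. Then restricting finite etale covers from the punctured spectrum of A to the punctured
spectrum of A/fA is fully faithful. -/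
theorem result (A : Type u) [CommRing A] [IsNoetherianRing A] [HenselianLocalRing A] (hA : (3 : ℕ∞) ≤ LocCoh.depth A A)
    (f : A) (hf : f ∈ IsLocalRing.maximalIdeal A) :
    (FEt.restrict (pullback.fst (FEt.puncturedSpec A).ι
      (Spec.map (CommRingCat.ofHom (Ideal.Quotient.mk (Ideal.span {f})))))).Full ∧
    (FEt.restrict (pullback.fst (FEt.puncturedSpec A).ι
      (Spec.map (CommRingCat.ofHom (Ideal.Quotient.mk (Ideal.span {f})))))).Faithful := by
  haveI : HenselianRing A (Ideal.span {f}) := Groth.Agent.Hensel.henselianRing_of_le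
    (J := IsLocalRing.maximalIdeal A) ((Ideal.span_singleton_le_iff_mem _).2 hf)
  have hv := (Groth.Agent.LC.le_idealDepth_iff_H (IsLocalRing.maximalIdeal A) A 3).1 hA
  obtain ⟨G, n, hG, h0, h1⟩ := Groth.Agent.Pi1Ext.HyperFF.exists_t01_base A f
    ⟨0, fun x => @Subsingleton.elim _ (hv 1 (by omega)) _ _⟩ ⟨0, fun x => @Subsingleton.elim _ (hv 2 (by omega)) _ _⟩
  exact Groth.Agent.Pi1Ext.HyperFF.full_faithful hG f hf h0 h1

end Groth.Agent.S0260
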