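import Groth.Statements.S0263
import Groth.Agent.Pi1X.FEtGlobal
import Mathlib.RingTheory.RingHom.Etale

set_option autoImplicit false
universe u
open Pi1

namespace Groth.Agent.S0263

open AlgebraicGeometry CategoryTheory CategoryTheory.Limits in
/-- Let A be a Noetherian local ring of depth at least 2 and V a finite étale cover of the punctured
spectrum of A which is isomorphic to the restriction of some finite étale cover of Spec A. Then the
ring of global sections Γ(V, O_V) is finite and étale over A, via the ring map A → Γ(V, O_V) induced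
by the composite V → Spec A. (Only this implication of the published statement is asserted here; its
converse is not.) -/
theorem result (A : Type u) [CommRing A] [IsNoetherianRing A] [IsLocalRing A] (hA : (2 : ℕ∞) ≤ LocCoh.depth A A)
    (V : FEt.Cat (FEt.puncturedSpec A : Scheme.{u}))
    (hV : ∃ Y : FEt.Cat (Spec (CommRingCat.of A)),
      Nonempty ((FEt.restrict (FEt.puncturedSpec A).ι).obj Y ≅ V)) :
    ((Scheme.ΓSpecIso (CommRingCat.of A)).inv ≫ (V.hom ≫ (FEt.puncturedSpec A).ι).appTop).hom.Finite ∧
    ((Scheme.ΓSpecIso (CommRingCat.of A)).inv ≫ (V.hom ≫ (FEt.puncturedSpec A).ι).appTop).hom.Etale := by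
  obtain ⟨Y, ⟨e⟩⟩ := hV
  let g : Y.left ⟶ Spec (CommRingCat.of A) := Y.hom
  haveI : IsFinite g := Y.prop.1
  haveI : Etale g := Y.prop.2
  haveI : IsLocallyNoetherian Y.left := LocallyOfFiniteType.isLocallyNoetherian g
  haveI : IsAffine Y.left := isAffine_of_isAffineHom g
  let j := pullback.fst g (FEt.puncturedSpec A).ι
  have hj : Function.Bijective j.appTop := by
    refine Groth.Agent.Pi1X.appTop_bijective_of_depth j fun w hw => ?_
    rw [Scheme.Pullback.range_fst, Scheme.Opens.range_ι] at hw
    refine le_trans ?_ (Groth.Agent.Pi1X.depth_stalk_le g w)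
    have hx : g w = IsLocalRing.closedPoint A := not_not.1 hw
    rw [hx]
    letI : Algebra A ((Spec (CommRingCat.of A)).presheaf.stalk (IsLocalRing.closedPoint A)) :=
      (StructureSheaf.toStalk A _).hom.toAlgebra
    haveI : IsLocalization.AtPrime ((Spec (CommRingCat.of A)).presheaf.stalk (IsLocalRing.closedPoint A))
        (IsLocalRing.closedPoint A).asIdeal := StructureSheaf.IsLocalization.to_stalk A _
    let σ := IsLocalization.atUnits A (IsLocalRing.closedPoint A).asIdeal.primeCompl
      (S := (Spec (CommRingCat.of A)).presheaf.stalk (IsLocalRing.closedPoint A))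
      (fun a ha => (IsLocalRing.notMem_maximalIdeal).1 ha)
    exact hA.trans (Groth.Agent.Alg6.depth_eq_of_semilinear σ.toRingEquiv.toRingHom σ.surjective
      σ.toRingEquiv.toAddEquiv (fun r z => map_mul σ r z)).le
  have he : e.hom.left ≫ V.hom = pullback.snd g (FEt.puncturedSpec A).ι := MorphismProperty.Over.w e.hom
  let P := pullback g (FEt.puncturedSpec A).ι
  let t : V.left ⟶ P := e.inv.left
  let t' : P ⟶ V.left := e.hom.left
  have htt : t ≫ t' = 𝟙 _ := by
    show e.inv.left ≫ e.hom.left = _
    rw [← MorphismProperty.Comma.comp_left, Iso.inv_hom_id]; rfl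
  have htt' : t' ≫ t = 𝟙 _ := by
    show e.hom.left ≫ e.inv.left = _
    rw [← MorphismProperty.Comma.comp_left, Iso.hom_inv_id]; rfl
  haveI : IsIso t := ⟨t', htt, htt'⟩
  let v : V.left ⟶ (FEt.puncturedSpec A : Scheme.{u}) := V.hom
  have he' : t' ≫ v = pullback.snd g (FEt.puncturedSpec A).ι := he
  have hmap : v ≫ (FEt.puncturedSpec A).ι = t ≫ j ≫ g := by
    rw [show j ≫ g = _ from pullback.condition, ← he', Category.assoc, reassoc_of% htt]
  haveI : IsIso (j.appTop) := (ConcreteCategory.isIso_iff_bijective _).2 hj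
  haveI : IsIso t.appTop := ⟨t'.appTop,
    by rw [← Scheme.Hom.comp_appTop, htt', Scheme.Hom.id_appTop],
    by rw [← Scheme.Hom.comp_appTop, htt, Scheme.Hom.id_appTop]⟩
  haveI : IsIso (j.appTop ≫ t.appTop) := inferInstance
  show ((Scheme.ΓSpecIso (CommRingCat.of A)).inv ≫ (v ≫ (FEt.puncturedSpec A).ι).appTop).hom.Finite ∧
    ((Scheme.ΓSpecIso (CommRingCat.of A)).inv ≫ (v ≫ (FEt.puncturedSpec A).ι).appTop).hom.Etale
  rw [hmap, Scheme.Hom.comp_appTop, Scheme.Hom.comp_appTop, Category.assoc, ← Category.assoc]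
  have hfin : ((Scheme.ΓSpecIso (CommRingCat.of A)).inv ≫ g.appTop).hom.Finite := by
    have h1 : g.appTop.hom.Finite := g.finite_app ⊤ (isAffineOpen_top _)
    exact h1.comp (RingHom.Finite.of_surjective _ (ConcreteCategory.bijective_of_isIso (Scheme.ΓSpecIso (CommRingCat.of A)).inv).2)
  have het : ((Scheme.ΓSpecIso (CommRingCat.of A)).inv ≫ g.appTop).hom.Etale := by
    have h1 : g.appTop.hom.Etale := (HasRingHomProperty.iff_of_isAffine (P := @Etale)).1 inferInstance
    exact RingHom.Etale.respectsIso.2 _ (Scheme.ΓSpecIso (CommRingCat.of A)).symm.commRingCatIsoToRingEquiv h1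
  exact ⟨RingHom.finite_respectsIso.1 _ (asIso ((j.appTop ≫ t.appTop))).commRingCatIsoToRingEquiv hfin,
    RingHom.Etale.respectsIso.1 _ (asIso ((j.appTop ≫ t.appTop))).commRingCatIsoToRingEquiv het⟩

end Groth.Agent.S0263
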