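import Groth.Statements.S0267
import Groth.Agent.Pi1X.GaloisFunctorial

set_option autoImplicit false
universe u v
open Pi1

namespace Groth.Agent.S0267

open CategoryTheory CategoryTheory.Limits in
/-- For an exact functor H between Galois categories, H is fully faithful exactly when it carries
connected objects to connected objects (both are equivalent to surjectivity of the induced map on
fundamental groups). -/
theorem result {C : Type u} [Category.{v} C]
    [GaloisCategory C] {D : Type u} [Category.{v} D] [GaloisCategory D]
    (H : C ⥤ D) [PreservesFiniteLimits H] [PreservesFiniteColimits H] :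
    (H.Full ∧ H.Faithful) ↔
      ∀ X : C, PreGaloisCategory.IsConnected X → PreGaloisCategory.IsConnected (H.obj X) := by
  haveI : PreservesFiniteLimits (H ⋙ PreGaloisCategory.GaloisCategory.getFiberFunctor D) :=
    comp_preservesFiniteLimits _ _
  have hG := Groth.Agent.Pi1X.Exact.isInitial_of_isEmpty_of_exact
    (H ⋙ PreGaloisCategory.GaloisCategory.getFiberFunctor D)
  obtain ⟨e⟩ := Groth.Agent.Pi1X.Exact.nonempty_iso
    (H ⋙ PreGaloisCategory.GaloisCategory.getFiberFunctor D) hG
    (PreGaloisCategory.GaloisCategory.getFiberFunctor C)
  obtain ⟨hF⟩ := Groth.Agent.Pi1X.Exact.fiberFunctor_of_iso e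
  exact Groth.Agent.Pi1X.Functorial.full_faithful_iff H (PreGaloisCategory.GaloisCategory.getFiberFunctor D)

end Groth.Agent.S0267
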