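import Groth.Statements.S0270
import Groth.Agent.Pi1Ext.GeomSection
import Groth.Agent.Pi1X.FEtGalois

set_option autoImplicit false
universe u
open Pi1

namespace Groth.Agent.S0270

open AlgebraicGeometry CategoryTheory CategoryTheory.Limits in
/-- (Exactness of the homotopy sequence of etale fundamental groups at pi_1(X), in functor form.) Let X
be quasi-compact and quasi-separated over a field k with X_{kbar} connected, kbar an algebraic
closure of k. If a finite etale cover U of X becomes completely split (a disjoint union of copies of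
X_{kbar}) after base change to kbar, then there are a finite etale k-scheme V and an X-morphism from
V x_k X to U which is surjective. -/
theorem result (k : Type u) [Field k] {X : Scheme.{u}} (f : X ⟶ Spec (CommRingCat.of k)) [CompactSpace X]
    [QuasiSeparatedSpace X]
    [ConnectedSpace ↥(pullback f (Spec.map (CommRingCat.ofHom (algebraMap k (AlgebraicClosure k)))))]
    (U : FEt.Cat X) (hU : Pi1.IsSplit ((FEt.restrict (pullback.fst f (Spec.map (CommRingCat.ofHom (algebraMap k (AlgebraicClosure k)))))).obj U)) :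
    ∃ (V : FEt.Cat (Spec (CommRingCat.of k))) (e : (FEt.restrict f).obj V ⟶ U), Surjective e.left := by
  let K := AlgebraicClosure k
  let πK := pullback.fst f (Spec.map (CommRingCat.ofHom (algebraMap k K)))
  obtain ⟨ι, hι, e, he⟩ := hU
  haveI := hι
  haveI : Etale U.hom := U.prop.2
  let einv : (∐ fun _ : ι => pullback f (Spec.map (CommRingCat.ofHom (algebraMap k K)))) ⟶ pullback U.hom πK := e.inv
  let s : ι → (pullback f (Spec.map (CommRingCat.ofHom (algebraMap k K))) ⟶ U.left) := fun i =>
    (Sigma.ι (fun _ : ι => pullback f (Spec.map (CommRingCat.ofHom (algebraMap k K)))) i ≫ einv) ≫ pullback.fst U.hom πK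
  have hs : ∀ i, s i ≫ U.hom = πK := fun i => by
    show ((Sigma.ι _ i ≫ einv) ≫ pullback.fst U.hom πK) ≫ U.hom = πK
    rw [Category.assoc, pullback.condition, ← Category.assoc]
    refine (congrArg (· ≫ πK) ?_).trans (Category.id_comp πK)
    exact (Category.assoc _ _ _).trans (he i)
  choose E hF hA hfd hsep j s' hs' hs'' using fun i =>
    Groth.Agent.Pi1Ext.Geom.exists_separable_section f K U.hom (s i) (hs i)
  let Vs : ι → FEt.Cat (Spec (CommRingCat.of k)) := fun i =>
    letI := hF i; letI := hA i; haveI := hfd i; haveI := hsep i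
    MorphismProperty.Over.mk ⊤ (Spec.map (CommRingCat.ofHom (algebraMap k (E i)))) (Groth.Agent.Pi1Ext.Geom.fet_SpecMap (E i))
  let es : ∀ i, (FEt.restrict f).obj (Vs i) ⟶ U := fun i =>
    letI := hF i; letI := hA i
    MorphismProperty.Over.homMk ((pullbackSymmetry (Spec.map (CommRingCat.ofHom (algebraMap k (E i)))) f).hom ≫ s' i) (by
      refine (Category.assoc _ _ _).trans ((congrArg (_ ≫ ·) (hs' i)).trans ?_)
      exact pullbackSymmetry_hom_comp_fst _ _)
  let es' : ∐ (fun i => (FEt.restrict f).obj (Vs i)) ⟶ U := Sigma.desc es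
  let T := ∐ Vs
  let F := FEt.restrict f
  haveI : PreservesColimit (Discrete.functor Vs) F := inferInstance
  refine ⟨T, (PreservesCoproduct.iso F Vs).hom ≫ es', ⟨fun u => ?_⟩⟩
  haveI : Surjective πK := MorphismProperty.pullback_fst (P := @Surjective) _ _ ⟨fun y => ⟨Classical.arbitrary _, Subsingleton.elim _ _⟩⟩
  obtain ⟨x, hx⟩ := Surjective.surj (f := πK) (U.hom.base u)
  obtain ⟨p, hp, -⟩ := Scheme.Pullback.exists_preimage_pullback (f := U.hom) (g := πK) u x hx.symm
  obtain ⟨i, q, hq⟩ := (sigmaOpenCover (fun _ : ι => pullback f (Spec.map (CommRingCat.ofHom (algebraMap k K))))).exists_eq (e.hom.base p)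
  have hu : (s i).base q = u := by
    rw [← hp]
    show ((Sigma.ι _ i ≫ einv) ≫ pullback.fst U.hom πK).base q = _
    rw [Scheme.Hom.comp_apply, Scheme.Hom.comp_apply]
    refine congrArg (pullback.fst U.hom πK).base ?_
    exact (congrArg e.inv.base hq).trans ((Scheme.Hom.comp_apply e.hom e.inv p).symm.trans (congrArg (fun m => m.base p) e.hom_inv_id))
  letI := hF i
  letI := hA i
  let q' := (pullbackSymmetry (Spec.map (CommRingCat.ofHom (algebraMap k (E i)))) f).inv.base ((Groth.Agent.Pi1Ext.Geom.bcm f (j i)).base q)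
  refine ⟨(F.map (Sigma.ι Vs i)).left.base q', ?_⟩
  have hcomp : F.map (Sigma.ι Vs i) ≫ (PreservesCoproduct.iso F Vs).hom ≫ es' = es i := by
    have h1 : (PreservesCoproduct.iso F Vs).inv = sigmaComparison F Vs := PreservesCoproduct.inv_hom F Vs
    have h2 : F.map (Sigma.ι Vs i) ≫ (PreservesCoproduct.iso F Vs).hom = Sigma.ι (fun b => F.obj (Vs b)) i := by
      rw [← Iso.eq_comp_inv, h1, ι_comp_sigmaComparison]
    rw [← Category.assoc, h2]
    exact Sigma.ι_desc _ _
  refine ((Scheme.Hom.comp_apply _ _ q').symm.trans (congrArg (fun m => m.base q') (congrArg (fun m => m.left) hcomp))).trans ?_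
  rw [← hu, ← hs'' i]
  show ((pullbackSymmetry (Spec.map (CommRingCat.ofHom (algebraMap k (E i)))) f).hom ≫ s' i).base
    ((pullbackSymmetry (Spec.map (CommRingCat.ofHom (algebraMap k (E i)))) f).inv.base ((Groth.Agent.Pi1Ext.Geom.bcm f (j i)).base q)) = _
  simp only [← Scheme.Hom.comp_apply, Iso.inv_hom_id_assoc, Category.assoc]

end Groth.Agent.S0270
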