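import Groth.Statements.S0271
import Groth.Agent.InertiaGen.Etale
-- import your own Groth.Agent.* helpers here

set_option autoImplicit false
set_option backward.isDefEq.respectTransparency false
set_option backward.isDefEq.respectTransparency.types false
set_option linter.style.haveILetI false
universe u
open Pi1

namespace Groth.Agent.S0271

open AlgebraicGeometry CategoryTheory CategoryTheory.Limits in
/-- Let a finite group G act on a ring R, let q be a prime of R with inertia subgroup I (elements acting
trivially modulo q). Then the ring of I-invariants is etale over the ring of G-invariants at the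
prime below q: some principal localization of the I-invariants at an element outside that prime is
an etale algebra over the G-invariants. -/
theorem result (G R : Type u) [Group G] [Finite G] [CommRing R] [MulSemiringAction G R]
    (q : Ideal R) [q.IsPrime] :
    ∃ g : FixedPoints.subring R (q.inertia G),
      g ∉ q.comap (FixedPoints.subring R (q.inertia G)).subtype ∧
      Algebra.Etale (FixedPoints.subring R G) (Localization.Away g) := by
  let A := FixedPoints.subring R G
  let B' := FixedPoints.subring R (q.inertia G)
  haveI : IsScalarTower A B' R := IsScalarTower.of_algebraMap_eq fun _ => rfl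
  haveI : Algebra.IsInvariant A R G := ⟨fun b hb => ⟨⟨b, hb⟩, rfl⟩⟩
  haveI : SMulCommClass G A R := ⟨fun g a r => by
    show g • ((a : R) * r) = (a : R) * g • r
    rw [smul_mul', a.2 g]⟩
  obtain ⟨g, hg, he⟩ := InertiaGen.exists_etale_away (A := A) (B' := B') (G := G) Subtype.val_injective
    Subtype.val_injective q (fun b hb => ⟨⟨b, fun τ => hb τ.1 τ.2⟩, rfl⟩) (fun x τ hτ => x.2 ⟨τ, hτ⟩)
  exact ⟨g, hg, he⟩

end Groth.Agent.S0271
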