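import Groth.Statements.S0276
import Groth.Agent.Pi1X.UnivInj

set_option autoImplicit false
universe u
open scoped TensorProduct
open Pi1

namespace Groth.Agent.S0276

/-- Let R -> S be universally injective and M an R-module such that S ⊗_R M is finitely presented over
S. Then M is finitely presented over R. -/
theorem result (R S : Type u) [CommRing R] [CommRing S] [Algebra R S]
    (h : Pi1.UnivInjective R S) (M : Type u) [AddCommGroup M] [Module R M]
    [Module.FinitePresentation S (S ⊗[R] M)] : Module.FinitePresentation R M := by
  exact Pi1X.finitePresentation_descends h M

end Groth.Agent.S0276
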