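import Groth.Statements.S0280
import Groth.Agent.Achinger24.Basic
-- import your own Groth.Agent.* helpers here

set_option autoImplicit false
set_option backward.isDefEq.respectTransparency false
set_option backward.isDefEq.respectTransparency.types false
set_option linter.style.haveILetI false
universe u
open Pi1

namespace Groth.Agent.S0280

/-- Let k be a field of characteristic p > 0 and C a k-algebra which is etale over the polynomial ring
in n variables. Then there is a (possibly different) k-algebra map from that polynomial ring to C
which is finite etale. -/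
theorem result (k : Type u) [Field k] (p : ℕ)
    [Fact p.Prime] [CharP k p] (n : ℕ) (C : Type u) [CommRing C]
    [Algebra (MvPolynomial (Fin n) k) C] [Algebra k C] [IsScalarTower k (MvPolynomial (Fin n) k) C]
    [Algebra.Etale (MvPolynomial (Fin n) k) C] :
    ∃ φ : MvPolynomial (Fin n) k →ₐ[k] C, φ.toRingHom.Finite ∧ φ.toRingHom.Etale := by
  
  have h : (MvPolynomial.aeval fun i => algebraMap (MvPolynomial (Fin n) k) C (MvPolynomial.X i) :
      MvPolynomial (Fin n) k →ₐ[k] C) = IsScalarTower.toAlgHom k (MvPolynomial (Fin n) k) C := by
    apply MvPolynomial.algHom_ext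
    intro i
    rw [MvPolynomial.aeval_X]
    rfl
  have hx : (MvPolynomial.aeval fun i => algebraMap (MvPolynomial (Fin n) k) C (MvPolynomial.X i) :
      MvPolynomial (Fin n) k →ₐ[k] C).toRingHom.Etale := by
    rw [h]
    exact RingHom.etale_algebraMap.mpr inferInstance
  obtain ⟨x', h1, h2⟩ := Achinger24.exists_finite_etale p _ hx
  exact ⟨MvPolynomial.aeval x', h1, h2⟩

end Groth.Agent.S0280
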