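import Groth.Statements.S0286
import Groth.Agent.S0289
import Groth.Agent.PerfLib.Flat
import Mathlib.FieldTheory.IsPerfectClosure

set_option autoImplicit false
universe u
open Pi1

namespace Groth.Agent.S0286

open AlgebraicGeometry CategoryTheory CategoryTheory.Limits in
/-- For a scheme X over a field k of characteristic p (p a prime), pulling back finite étale covers
along the projection X ×_{Spec k} Spec(k^perf) → X, where k^perf is the perfect closure of k, is an
equivalence of categories. -/
theorem result (k : Type u) [Field k] (p : ℕ) [Fact p.Prime] [CharP k p] {X : Scheme.{u}}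
    (f : X ⟶ Spec (CommRingCat.of k)) :
    (FEt.restrict (pullback.fst f
      (Spec.map (CommRingCat.ofHom (PerfectClosure.of k p))))).IsEquivalence := by
  let φ : k →+* PerfectClosure k p := PerfectClosure.of k p
  haveI : IsIntegralHom (Spec.map (CommRingCat.ofHom φ)) :=
    IsIntegralHom.SpecMap_iff.mpr (show φ.IsIntegral from Groth.Agent.PerfLib.isIntegral_of_pRadical (i := φ) (p := p))
  haveI : UniversallyInjective (Spec.map (CommRingCat.ofHom φ)) := by
    refine ((tfae_universallyInjective _).out 0 1).2 fun L hL g₁ g₂ hg => ?_
    obtain ⟨a, rfl⟩ := Spec.map_surjective g₁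
    obtain ⟨b, rfl⟩ := Spec.map_surjective g₂
    have hg' : CommRingCat.ofHom φ ≫ a = CommRingCat.ofHom φ ≫ b :=
      Spec.map_injective (by rw [Spec.map_comp, Spec.map_comp]; exact hg)
    congr 1
    ext1
    letI : Algebra k (PerfectClosure k p) := φ.toAlgebra
    letI := hL
    haveI : IsPurelyInseparable k (PerfectClosure k p) := (isPurelyInseparable_iff_pow_mem k p).mpr fun x =>
      (IsPRadical.pow_mem (PerfectClosure.of k p) p x).imp fun n ⟨r, hr⟩ => ⟨r, hr⟩
    exact IsPurelyInseparable.injective_comp_algebraMap k (PerfectClosure k p) L congr($(hg').hom)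
  haveI : Surjective (Spec.map (CommRingCat.ofHom φ)) := ⟨fun x => ⟨IsLocalRing.closedPoint (PerfectClosure k p), @Subsingleton.elim _ (inferInstanceAs (Subsingleton (PrimeSpectrum k))) _ _⟩⟩
  haveI : IsIntegralHom (pullback.fst f (Spec.map (CommRingCat.ofHom φ))) := MorphismProperty.pullback_fst _ _ inferInstance
  haveI : UniversallyInjective (pullback.fst f (Spec.map (CommRingCat.ofHom φ))) :=
    MorphismProperty.pullback_fst (P := @UniversallyInjective) _ _ ‹_›
  haveI : Surjective (pullback.fst f (Spec.map (CommRingCat.ofHom φ))) :=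
    MorphismProperty.pullback_fst (P := @Surjective) _ _ ‹_›
  exact Groth.Agent.S0289.result _

end Groth.Agent.S0286
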