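import Groth.Statements.S0287
import Groth.Agent.Pi1Ext.ExtZorn
import Groth.Agent.Pi1Ext.PuritySch

set_option autoImplicit false
universe u
open Pi1

namespace Groth.Agent.S0287

open AlgebraicGeometry CategoryTheory CategoryTheory.Limits TopologicalSpace
open Groth.Agent.Pi1Ext

set_option backward.isDefEq.respectTransparency false
set_option backward.isDefEq.respectTransparency.types false
set_option linter.style.haveILetI false

/-- A point without proper generisations lies in every dense open of a locally Noetherian scheme. -/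
theorem mem_of_dense {X : Scheme.{u}} [IsLocallyNoetherian X] (U : X.Opens) (hU : Dense (U : Set X)) (y : X)
    (hy : ∀ z : X, z ⤳ y → z = y) : y ∈ U := by
  classical
  obtain ⟨_, ⟨W, hW, rfl⟩, hyW, -⟩ := X.isBasis_affineOpens.exists_subset_of_mem_open (Set.mem_univ y) isOpen_univ
  haveI : IsNoetherianRing Γ(X, W) := IsLocallyNoetherian.component_noetherian ⟨W, hW⟩
  let j := hW.fromSpec
  obtain ⟨p, rfl⟩ : y ∈ Set.range j.base := by rw [hW.range_fromSpec]; exact hyW
  have hp : p.asIdeal ∈ minimalPrimes Γ(X, W) := by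
    refine ⟨⟨p.2, bot_le⟩, fun q hq hle => ?_⟩
    have hs : (⟨q, hq.1⟩ : PrimeSpectrum Γ(X, W)) ⤳ p := (PrimeSpectrum.le_iff_specializes _ _).1 hle
    exact (congrArg PrimeSpectrum.asIdeal (j.isOpenEmbedding.injective (hy _ (hs.map j.continuous)))).ge
  have hfin := minimalPrimes.finite_of_isNoetherianRing Γ(X, W)
  obtain ⟨g, hg, hgp⟩ : ∃ g, (∀ q ∈ minimalPrimes Γ(X, W), q ≠ p.asIdeal → g ∈ q) ∧ g ∉ p.asIdeal := by
    let T := hfin.toFinset.erase p.asIdeal
    have hT : ¬ T.inf id ≤ p.asIdeal := fun h => by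
      obtain ⟨q, hq, hqp⟩ := (Ideal.IsPrime.inf_le' p.2).1 h
      obtain ⟨hne, hq'⟩ := Finset.mem_erase.1 hq
      rw [Set.Finite.mem_toFinset] at hq'
      exact hne (le_antisymm hqp (hp.2 hq'.1 hqp))
    obtain ⟨g, hg, hgp⟩ := SetLike.not_le_iff_exists.1 hT
    exact ⟨g, fun q hq hne => Finset.inf_le (f := id)
      (show q ∈ T from Finset.mem_erase.2 ⟨hne, hfin.mem_toFinset.2 hq⟩) hg, hgp⟩
  have hopen : IsOpen (j.base '' (PrimeSpectrum.basicOpen g : Set (PrimeSpectrum Γ(X, W)))) :=
    j.isOpenEmbedding.isOpenMap _ (PrimeSpectrum.basicOpen g).2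
  obtain ⟨_, ⟨q, hq, rfl⟩, hqU⟩ := hU.inter_open_nonempty _ hopen ⟨_, p, hgp, rfl⟩
  obtain ⟨q₀, hq₀, hle⟩ := Ideal.exists_minimalPrimes_le (bot_le : (⊥ : Ideal Γ(X, W)) ≤ q.asIdeal)
  have hpq : p.asIdeal ≤ q.asIdeal := by
    by_cases hne : q₀ = p.asIdeal
    · exact hne ▸ hle
    · exact absurd (hle (hg q₀ hq₀ hne)) hq
  exact (((PrimeSpectrum.le_iff_specializes p q).1 hpq).map j.continuous).mem_open U.2 hqU

open AlgebraicGeometry CategoryTheory CategoryTheory.Limits in
/-- Let X be locally Noetherian, U a dense open, Y a finite etale cover of U such that the local rings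
of X at points outside U are regular and, at each such point of dimension one, the restriction of Y
to the punctured local scheme extends over the local scheme (Y is unramified over X in codimension
1). Then Y extends to a finite etale cover of X. -/
theorem result {X : Scheme.{u}} [IsLocallyNoetherian X] (U : X.Opens) (hU : Dense (U : Set X))
    (Y : FEt.Cat (U : Scheme.{u}))
    (hreg : ∀ x : X, x ∉ U → IsRegularLocalRing (X.presheaf.stalk x))
    (hunr : ∀ ξ : X, ξ ∉ U → ringKrullDim (X.presheaf.stalk ξ) = 1 →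
      ∃ Yξ : FEt.Cat (Spec (X.presheaf.stalk ξ)),
        Nonempty ((FEt.restrict (pullback.snd U.ι (X.fromSpecStalk ξ))).obj Yξ ≅
          (FEt.restrict (pullback.fst U.ι (X.fromSpecStalk ξ))).obj Y)) :
    ∃ Y' : FEt.Cat X, Nonempty ((FEt.restrict U.ι).obj Y' ≅ Y) := by
  refine ExtZorn.exists_extension (U := U) (Y := Y) hU fun a x hx hmin => ?_
  have hxU : x ∉ U := fun h => hx (a.le h)
  haveI := hreg x hxU
  let A := X.presheaf.stalk x
  by_cases h2 : (2 : WithBot ℕ∞) ≤ ringKrullDim A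
  · exact Spread.exists_local_extension a.O a.E x (PuritySch.purityHolds_of_regular A h2) hx hmin
  let f := X.fromSpecStalk x
  have hclosed : f.base (IsLocalRing.closedPoint A) = x := Scheme.fromSpecStalk_closedPoint
  -- dimension one
  have hnmin : ¬ ∀ P : PrimeSpectrum A, P = IsLocalRing.closedPoint A := fun h => by
    refine hxU (mem_of_dense U hU x fun z hz => ?_)
    obtain ⟨P, rfl⟩ : z ∈ Set.range f.base := by
      rw [Scheme.range_fromSpecStalk]; exact hz
    rw [h P, hclosed]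
  have hle1 : Ring.KrullDimLE 1 A := by
    rw [Ring.krullDimLE_iff]
    by_contra h
    exact h2 (Order.succ_le_of_lt (not_le.1 h))
  have hdim : ringKrullDim A = 1 := by
    refine le_antisymm ((Ring.krullDimLE_iff).1 hle1) ?_
    by_contra h
    have h0 : Ring.KrullDimLE 0 A := by
      rw [Ring.krullDimLE_iff]
      obtain ⟨n, hn⟩ := WithBot.ne_bot_iff_exists.1
        (ne_bot_of_le_ne_bot WithBot.coe_ne_bot (ringKrullDim_nonneg_of_nontrivial (R := A)))
      rw [← hn] at h ⊢
      rw [← WithBot.coe_one, WithBot.coe_le_coe, not_le, ENat.lt_one_iff_eq_zero] at h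
      rw [h]; rfl
    exact hnmin fun P => PrimeSpectrum.ext
      (IsLocalRing.eq_maximalIdeal (Ring.krullDimLE_zero_iff.1 h0 P.asIdeal P.2))
  obtain ⟨Yx, ⟨ex⟩⟩ := hunr x hxU hdim
  refine ⟨Yx, ?_⟩
  have hgen : ∀ P : PrimeSpectrum A, P ≠ IsLocalRing.closedPoint A → f.base P ∈ U := fun P hP => by
    refine mem_of_dense U hU _ fun z hz => ?_
    obtain ⟨Q, rfl⟩ : z ∈ Set.range f.base := by
      rw [Scheme.range_fromSpecStalk]
      exact hz.trans (by
        have : f.base P ∈ Set.range f.base := ⟨P, rfl⟩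
        rw [Scheme.range_fromSpecStalk] at this
        exact this)
    have hQP : Q.asIdeal ≤ P.asIdeal :=
      (PrimeSpectrum.le_iff_specializes Q P).2 (f.isEmbedding.isInducing.specializes_iff.1 hz)
    rcases (Ring.krullDimLE_one_iff.1 hle1) P.asIdeal P.2 with hPm | hPm
    · exact congrArg f.base (PrimeSpectrum.ext (le_antisymm hQP (hPm.2 ⟨Q.2, bot_le⟩ hQP)))
    · exact absurd (PrimeSpectrum.ext (IsLocalRing.eq_maximalIdeal hPm)) hP
  let p₁ := pullback.fst a.O.ι f
  let p₂ := pullback.snd a.O.ι f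
  let q₁ := pullback.fst U.ι f
  let q₂ := pullback.snd U.ι f
  have he : Set.range p₂.base = Set.range q₂.base := by
    rw [Scheme.Pullback.range_snd, Scheme.Pullback.range_snd, Scheme.Opens.range_ι, Scheme.Opens.range_ι]
    ext P
    refine ⟨fun h => hgen P fun hP => ?_, fun h => a.le h⟩
    subst hP
    exact hx (hclosed ▸ h)
  let κ := IsOpenImmersion.isoOfRangeEq p₂ q₂ he
  have hκ : κ.hom ≫ q₂ = p₂ := IsOpenImmersion.isoOfRangeEq_hom_fac _ _ _
  have hκ₁ : (κ.hom ≫ q₁) ≫ X.homOfLE a.le = p₁ := by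
    rw [← cancel_mono a.O.ι, Category.assoc, X.homOfLE_ι, Category.assoc, pullback.condition,
      ← Category.assoc, hκ, pullback.condition]
  let eY : (FEt.restrict (X.homOfLE a.le)).obj a.E ≅ Y :=
    MorphismProperty.Over.isoMk a.sq.isoPullback.symm a.sq.isoPullback_inv_snd
  exact ⟨Spread.restrictComp κ.hom q₂ p₂ hκ.symm Yx ≪≫ (FEt.restrict κ.hom).mapIso ex ≪≫
    (Spread.restrictComp κ.hom q₁ (κ.hom ≫ q₁) rfl Y).symm ≪≫ (FEt.restrict (κ.hom ≫ q₁)).mapIso eY.symm ≪≫
    (Spread.restrictComp (κ.hom ≫ q₁) (X.homOfLE a.le) p₁ hκ₁.symm a.E).symm⟩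

end Groth.Agent.S0287
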