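import Groth.Statements.S0288
import Groth.Agent.NormFieldX.Props
import Groth.Agent.EtStalk.Normal
import Groth.Agent.S0429
import Groth.Agent.CycCov7.Scheme
import Mathlib
-- import your own Groth.Agent.* helpers here

set_option autoImplicit false
set_option linter.style.haveILetI false
universe u
open Pi1

namespace Groth.Agent.S0288

open AlgebraicGeometry CategoryTheory CategoryTheory.Limits

/-- An unramified finite type extension of domains with integrally closed base is flat. -/
theorem flat_of_unramified_normal (A B : Type u) [CommRing A] [IsDomain A] [IsIntegrallyClosed A]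
    [CommRing B] [IsDomain B] [Algebra A B] (hinj : Function.Injective (algebraMap A B))
    [Algebra.FiniteType A B] [Algebra.FormallyUnramified A B] : Module.Flat A B := by
  refine Module.flat_of_isLocalized_maximal (R := A) (S := B) (M := B) (fun Q _ => Localization.AtPrime Q)
    (fun Q _ => Algebra.linearMap B (Localization.AtPrime Q)) fun Q hQ => ?_
  obtain ⟨f, hfQ, P, φ, hφ⟩ := Algebra.IsUnramifiedAt.exists_hasStandardEtaleSurjectionOn (R := A) Q
  let D := P.Ring
  have hf0 : f ≠ 0 := fun h => hfQ (h ▸ Q.zero_mem)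
  let m : Localization.Away f →ₐ[A] Localization.AtPrime Q :=
    IsLocalization.liftAlgHom (M := Submonoid.powers f) (f := IsScalarTower.toAlgHom A B (Localization.AtPrime Q))
      (fun ⟨_, n, hn⟩ => by
        subst hn
        show IsUnit (algebraMap B (Localization.AtPrime Q) (f ^ n))
        rw [map_pow]
        exact (IsLocalization.map_units _ (⟨f, hfQ⟩ : Q.primeCompl)).pow n)
  have hm : ∀ b, m (algebraMap B _ b) = algebraMap B _ b := fun b => by simp [m]
  let χ : D →ₐ[A] Localization.AtPrime Q := m.comp φ
  let q : Ideal D := (IsLocalRing.maximalIdeal (Localization.AtPrime Q)).comap χ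
  haveI : q.IsPrime := Ideal.IsPrime.comap _
  let C := Localization.AtPrime q
  haveI : Algebra.WeaklyEtale A D := inferInstance
  haveI : Algebra.WeaklyEtale D C := Groth.Agent.WLocalLib.weaklyEtale_localization q.primeCompl C
  haveI : Algebra.WeaklyEtale A C := Algebra.WeaklyEtale.trans A D C
  haveI : IsDomain C := (Groth.Agent.EtStalk.normal_of_weaklyEtale_local A C).1
  haveI : Module.Flat A C := inferInstance
  haveI : Algebra.QuasiFinite A D := inferInstance
  haveI : Algebra.QuasiFinite A C := inferInstance
  let χ' : C →ₐ[A] Localization.AtPrime Q :=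
    IsLocalization.liftAlgHom (M := q.primeCompl) (f := χ) fun ⟨d, hd⟩ => by
      by_contra h
      exact hd ((IsLocalRing.mem_maximalIdeal _).2 h)
  have hχ : ∀ d, χ' (algebraMap D C d) = χ d := fun d => by simp [χ']
  have hb : ∀ b, ∃ c, χ' c = algebraMap B (Localization.AtPrime Q) b := by
    intro b
    obtain ⟨d, hd⟩ := hφ (algebraMap B _ b)
    exact ⟨algebraMap D C d, by rw [hχ]; show m (φ d) = _; rw [hd, hm]⟩
  have hsurj : Function.Surjective χ' := by
    intro z
    obtain ⟨b, s, rfl⟩ := IsLocalization.exists_mk'_eq Q.primeCompl z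
    obtain ⟨c, hc⟩ := hb b
    obtain ⟨t, ht⟩ := hb s
    have hu : IsUnit t := by
      by_contra h
      obtain ⟨⟨d, e⟩, hde⟩ := IsLocalization.surj q.primeCompl t
      have hd : d ∈ q := by
        by_contra hd
        exact h (isUnit_of_mul_isUnit_left (hde ▸ IsLocalization.map_units C (⟨d, hd⟩ : q.primeCompl)))
      have h1 : ¬ IsUnit (χ d) := (IsLocalRing.mem_maximalIdeal _).1 hd
      refine h1 ?_
      rw [← hχ, ← hde, map_mul, ht, hχ]
      refine (IsLocalization.map_units _ s).mul ?_
      by_contra h'
      exact e.2 ((IsLocalRing.mem_maximalIdeal _).2 h')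
    refine ⟨c * hu.unit⁻¹, ?_⟩
    rw [IsLocalization.eq_mk'_iff_mul_eq, ← hc, ← ht, ← map_mul, mul_assoc, IsUnit.val_inv_mul, mul_one]
  haveI : IsDomain (Localization.AtPrime Q) := inferInstance
  have hK : RingHom.ker χ' = ⊥ := by
    haveI : (RingHom.ker χ').IsPrime := RingHom.ker_isPrime _
    refine (Algebra.QuasiFinite.eq_of_le_of_under_eq (R := A) (⊥ : Ideal C) (RingHom.ker χ') bot_le ?_).symm
    have hAQ : Function.Injective (algebraMap A (Localization.AtPrime Q)) := by
      rw [IsScalarTower.algebraMap_eq A B (Localization.AtPrime Q)]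
      exact (IsLocalization.injective _ Q.primeCompl_le_nonZeroDivisors).comp hinj
    have hAC : Function.Injective (algebraMap A C) := fun a b h => hAQ (by
      rw [← χ'.commutes, ← χ'.commutes, h])
    ext a
    simp only [Ideal.mem_comap, Ideal.under_def, Ideal.mem_bot, RingHom.mem_ker, χ'.commutes]
    rw [map_eq_zero_iff _ hAC, map_eq_zero_iff _ hAQ]
  exact Module.Flat.of_linearEquiv (AlgEquiv.ofBijective χ'
    ⟨(RingHom.injective_iff_ker_eq_bot _).2 hK, hsurj⟩).symm.toLinearEquiv

/-- Sections of a normal integral scheme over an affine open. -/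
theorem isIntegrallyClosed_affine {X : Scheme.{u}} [IsIntegral X] (hX : Pi1.IsNormalScheme X) {U : X.Opens}
    (hU : IsAffineOpen U) [Nonempty U] : IsIntegrallyClosed Γ(X, U) :=
  IsIntegrallyClosed.of_localization_maximal fun p _ _ => (CycCov7.isNormal_Γ hX hU p).2

set_option backward.isDefEq.respectTransparency false
set_option backward.isDefEq.respectTransparency.types false
/-- An unramified normalisation in a field is flat. -/
theorem flat_ν {X : Scheme.{u}} [IsIntegral X] (hX : Pi1.IsNormalScheme X) {K : Type u} [Field K]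
    (φ : X.functionField →+* K) [QuasiCompact (NormFieldX.pnt X K φ)] [QuasiSeparated (NormFieldX.pnt X K φ)]
    [FormallyUnramified (NormFieldX.ν X K φ)] [LocallyOfFiniteType (NormFieldX.ν X K φ)] :
    Flat (NormFieldX.ν X K φ) := by
  refine IsZariskiLocalAtTarget.of_iSup_eq_top (P := (@Flat : MorphismProperty Scheme.{u})) (fun U : X.affineOpens => U.1) (iSup_affineOpens_eq_top X) fun U => ?_
  let g := NormFieldX.ν X K φ
  have hU := U.2
  haveI : IsAffine (U.1 : X.Opens).toScheme := hU
  haveI : IsAffine (g ⁻¹ᵁ U.1).toScheme := hU.preimage g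
  rcases (U.1 : Set X).eq_empty_or_nonempty with he | ⟨x, hx⟩
  · haveI : IsEmpty (g ⁻¹ᵁ U.1).toScheme := ⟨fun z => by
      have : g z.1 ∈ (U.1 : Set X) := z.2
      rw [he] at this; exact this⟩
    infer_instance
  have hη := NormFieldX.genericPoint_mem_of_nonempty hx
  haveI : Nonempty U.1 := ⟨⟨x, hx⟩⟩
  haveI : IsIntegrallyClosed Γ(X, U.1) := isIntegrallyClosed_affine hX hU
  have hinjB := (NormFieldX.evalK_injective_and_mem_range (K := K) (φ := φ) hU hη).1
  haveI : IsDomain Γ(NormFieldX.norm X K φ, g ⁻¹ᵁ U.1) := hinjB.isDomain _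
  have hunr : (g.app U.1).hom.FormallyUnramified := by
    have h := HasRingHomProperty.appLE @FormallyUnramified g inferInstance U ⟨g ⁻¹ᵁ U.1, hU.preimage g⟩ le_rfl
    rwa [← Scheme.Hom.app_eq_appLE] at h
  have hft : (g.app U.1).hom.FiniteType := by
    have h := HasRingHomProperty.appLE @LocallyOfFiniteType g inferInstance U ⟨g ⁻¹ᵁ U.1, hU.preimage g⟩ le_rfl
    rwa [← Scheme.Hom.app_eq_appLE] at h
  have hflat : (g.app U.1).hom.Flat := by
    letI := (g.app U.1).hom.toAlgebra
    haveI : Algebra.FormallyUnramified Γ(X, U.1) Γ(NormFieldX.norm X K φ, g ⁻¹ᵁ U.1) := hunr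
    haveI : Algebra.FiniteType Γ(X, U.1) Γ(NormFieldX.norm X K φ, g ⁻¹ᵁ U.1) := hft
    refine flat_of_unramified_normal Γ(X, U.1) Γ(NormFieldX.norm X K φ, g ⁻¹ᵁ U.1) fun a b hab => ?_
    have := congrArg (NormFieldX.evalK (K := K) (φ := φ) hη) hab
    change NormFieldX.evalK (K := K) (φ := φ) hη (g.app U.1 a) = NormFieldX.evalK (K := K) (φ := φ) hη (g.app U.1 b) at this
    rw [NormFieldX.evalK_app, NormFieldX.evalK_app] at this
    exact X.germToFunctionField_injective U.1 (φ.injective this)
  rw [HasRingHomProperty.iff_of_isAffine (P := @Flat), Scheme.Hom.appTop, morphismRestrict_app]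
  have hI : U.1.ι ''ᵁ ⊤ = U.1 := U.1.ι_image_top
  refine RingHom.Flat.comp ?_ (RingHom.Flat.of_bijective (ConcreteCategory.bijective_of_isIso _))
  have key : ∀ W : X.Opens, W = U.1 → (g.app W).hom.Flat := by
    rintro _ rfl
    exact hflat
  exact key _ hI

open AlgebraicGeometry CategoryTheory CategoryTheory.Limits in
/-- Let X be a normal integral scheme with function field K, L a finite field extension of K and Y -> X
the normalization of X in Spec L. If Y -> X is unramified (formally unramified and locally of finite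
type), then it is etale, and finite. -/
theorem result {X : Scheme.{u}} [IsIntegral X] (hX : Pi1.IsNormalScheme X) (L : Type u) [Field L]
    [Algebra X.functionField L] [FiniteDimensional X.functionField L]
    [QuasiCompact (Spec.map (CommRingCat.ofHom (algebraMap X.functionField L)) ≫ X.fromSpecStalk (genericPoint X))]
    [QuasiSeparated (Spec.map (CommRingCat.ofHom (algebraMap X.functionField L)) ≫ X.fromSpecStalk (genericPoint X))]
    [FormallyUnramified (Spec.map (CommRingCat.ofHom (algebraMap X.functionField L)) ≫ X.fromSpecStalk (genericPoint X)).fromNormalization]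
    [LocallyOfFiniteType (Spec.map (CommRingCat.ofHom (algebraMap X.functionField L)) ≫ X.fromSpecStalk (genericPoint X)).fromNormalization] :
    Etale (Spec.map (CommRingCat.ofHom (algebraMap X.functionField L)) ≫ X.fromSpecStalk (genericPoint X)).fromNormalization ∧
    IsFinite (Spec.map (CommRingCat.ofHom (algebraMap X.functionField L)) ≫ X.fromSpecStalk (genericPoint X)).fromNormalization := by
  let φ : X.functionField →+* L := algebraMap X.functionField L
  haveI : QuasiCompact (NormFieldX.pnt X L φ) := inferInstanceAs (QuasiCompact (Spec.map (CommRingCat.ofHom (algebraMap X.functionField L)) ≫ X.fromSpecStalk (genericPoint X)))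
  haveI : QuasiSeparated (NormFieldX.pnt X L φ) := inferInstanceAs (QuasiSeparated (Spec.map (CommRingCat.ofHom (algebraMap X.functionField L)) ≫ X.fromSpecStalk (genericPoint X)))
  show Etale (NormFieldX.ν X L φ) ∧ IsFinite (NormFieldX.ν X L φ)
  haveI : FormallyUnramified (NormFieldX.ν X L φ) := ‹FormallyUnramified (Spec.map (CommRingCat.ofHom (algebraMap X.functionField L)) ≫ X.fromSpecStalk (genericPoint X)).fromNormalization›
  haveI : LocallyOfFiniteType (NormFieldX.ν X L φ) := ‹LocallyOfFiniteType (Spec.map (CommRingCat.ofHom (algebraMap X.functionField L)) ≫ X.fromSpecStalk (genericPoint X)).fromNormalization›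
  haveI := flat_ν hX φ
  haveI : LocallyOfFinitePresentation (NormFieldX.ν X L φ) := Groth.Agent.S0429.result _
  exact ⟨Etale.of_formallyUnramified_of_flat _, (IsFinite.iff_isIntegralHom_and_locallyOfFiniteType _).2 ⟨inferInstance, inferInstance⟩⟩

end Groth.Agent.S0288
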