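import Groth.Statements.S0290
import Groth.Agent.GalPtLib.FieldFEt

set_option autoImplicit false
universe u
open Pi1

namespace Groth.Agent.S0290

open AlgebraicGeometry CategoryTheory CategoryTheory.Limits FintypeCatDiscrete in
/-- For a field K, the category of finite étale schemes over Spec K is equivalent to the category of
finite sets with a continuous action of the absolute Galois group of K. Only the existence of an
equivalence is asserted; its compatibility with the fibre functor is not stated. -/
theorem result (K : Type u) [Field K] :
    Nonempty (FEt.Cat (Spec (CommRingCat.of K)) ≌ ContAction FintypeCat.{u} (Field.absoluteGaloisGroup K)) := by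
  haveI : CompactSpace (AlgebraicClosure K ≃ₐ[K] AlgebraicClosure K) := GalPtLib.compactSpace K (AlgebraicClosure K)
  haveI : ConnectedSpace ↥(Spec (CommRingCat.of K)) :=
    inferInstanceAs (ConnectedSpace (PrimeSpectrum K))
  haveI : GaloisCategory (FEt.Cat (Spec (CommRingCat.of K))) := Pi1X.galoisCategory
  haveI := GalPtLib.isFundamentalGroup (K := K)
  let F := Pi1X.fiberFin (GalPtLib.geomPt K)
  let e : (AlgebraicClosure K ≃ₐ[K] AlgebraicClosure K) ≃ₜ* Aut F :=
    { PreGaloisCategory.toAutMulEquiv F (AlgebraicClosure K ≃ₐ[K] AlgebraicClosure K) with
      continuous_toFun := (PreGaloisCategory.toAutMulEquiv_isHomeomorph F _).continuous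
      continuous_invFun := (PreGaloisCategory.toAutHomeo F (AlgebraicClosure K ≃ₐ[K] AlgebraicClosure K)).continuous_invFun }
  exact ⟨(PreGaloisCategory.functorToContAction F).asEquivalence.trans (ContAction.resEquiv _ e)⟩

end Groth.Agent.S0290
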