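import Groth.Statements.S0294
import Groth.Agent.Pi1X.FEtBasic

set_option autoImplicit false
universe u
open Pi1

namespace Groth.Agent.S0294

open AlgebraicGeometry CategoryTheory CategoryTheory.Limits in
/-- For a finite étale cover Y of a scheme X and a point ξ : Spec Ω → X with values in a field Ω, the
fibre of Y over ξ (the set of Ω-valued points of Y lying over ξ) is finite. -/
theorem result {X : Scheme.{u}} {Ω : Type u} [Field Ω] (ξ : Spec (CommRingCat.of Ω) ⟶ X) (Y : FEt.Cat X) :
    Finite (FEt.fiberObj ξ Y) := by
  exact Pi1X.fiber_finite ξ Y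

end Groth.Agent.S0294
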