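import Groth.Statements.S0304
import Groth.Agent.LC.InjNoeth

set_option autoImplicit false
universe u v
open InjHull

namespace Groth.Agent.S0304

/-- Let R be a commutative ring and E an indecomposable injective R-module. Then any two nonzero
submodules of E have nonzero intersection, and the set of elements r ∈ R such that r·x = 0 for some
nonzero x ∈ E is a prime ideal of R. -/
theorem result (R : Type u) [CommRing R] (E : Type u) [AddCommGroup E] [Module R E] (hE : InjHull.IsIndecomposable R E) (hinj : Module.Injective R E) : (∀ N N' : Submodule R E, N ≠ ⊥ → N' ≠ ⊥ → N ⊓ N' ≠ ⊥) ∧ ∃ p : Ideal R, p.IsPrime ∧ (p : Set R) = {r : R | ∃ x : E, x ≠ 0 ∧ r • x = 0} := by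
  have hu : ∀ N : Submodule R E, N ≠ ⊥ → ∀ N' : Submodule R E, N' ≠ ⊥ → N ⊓ N' ≠ ⊥ := by
    intro N hN N' hN'
    obtain ⟨x, hx, hx0⟩ := (Submodule.ne_bot_iff _).1 hN'
    obtain ⟨r, hr, hr0⟩ := Groth.Agent.LC.uniform_of_indecomposable hE hinj hN x hx0
    exact (Submodule.ne_bot_iff _).2 ⟨r • x, ⟨hr, N'.smul_mem r hx⟩, hr0⟩
  have hadd : ∀ a b : R, (∃ x : E, x ≠ 0 ∧ a • x = 0) → (∃ x : E, x ≠ 0 ∧ b • x = 0) →
      ∃ x : E, x ≠ 0 ∧ (a + b) • x = 0 := by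
    rintro a b ⟨x, hx, hax⟩ ⟨y, hy, hby⟩
    obtain ⟨z, ⟨hz1, hz2⟩, hz0⟩ := (Submodule.ne_bot_iff _).1 (hu (R ∙ x) (by simpa using hx) (R ∙ y) (by simpa using hy))
    obtain ⟨s, rfl⟩ := Submodule.mem_span_singleton.1 hz1
    obtain ⟨t, ht⟩ := Submodule.mem_span_singleton.1 hz2
    exact ⟨s • x, hz0, by rw [add_smul, smul_comm a s, hax, smul_zero, zero_add, ← ht, smul_comm b t, hby, smul_zero]⟩
  refine ⟨fun N N' h h' => hu N h N' h', ?_⟩
  have hne := hE.1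
  obtain ⟨x₀, hx₀⟩ := exists_ne (0 : E)
  refine ⟨{ carrier := {r : R | ∃ x : E, x ≠ 0 ∧ r • x = 0}, add_mem' := fun {a b} => hadd a b, zero_mem' := ⟨x₀, hx₀, zero_smul R x₀⟩, smul_mem' := fun c r ⟨x, hx, hrx⟩ => ⟨x, hx, by rw [smul_eq_mul, mul_smul, hrx, smul_zero]⟩ }, ⟨fun h => ?_, ?_⟩, rfl⟩
  · obtain ⟨x, hx, h1⟩ := (Ideal.eq_top_iff_one _).1 h
    exact hx (by simpa using h1)
  · rintro a b ⟨x, hx, hab⟩
    by_cases hb : b • x = 0
    · exact Or.inr ⟨x, hx, hb⟩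
    · exact Or.inl ⟨b • x, hb, by rw [smul_smul]; exact hab⟩

end Groth.Agent.S0304
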