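import Groth.Statements.S0307
import Groth.Agent.LC.InjNoeth

set_option autoImplicit false
universe u v
open InjHull

namespace Groth.Agent.S0307

open Classical in
/-- Over a Noetherian ring every injective module is an internal direct sum of indecomposable injective
submodules. -/
theorem result (R : Type u) [CommRing R] [IsNoetherianRing R] (I : Type u) [AddCommGroup I] [Module R I] (hI : Module.Injective R I) : ∃ (ι : Type u) (E : ι → Submodule R I), DirectSum.IsInternal E ∧ ∀ i, InjHull.IsIndecomposable R ↥(E i) ∧ Module.Injective R ↥(E i) := by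
  obtain ⟨S, hS, hind, htop⟩ := Groth.Agent.LC.exists_decomposition I hI
  refine ⟨S, fun E => E.1, (@DirectSum.isInternal_submodule_iff_iSupIndep_and_iSup_eq_top R _ _ (fun a b => Classical.propDecidable (a = b)) _ _ _ _).2 ⟨(sSupIndep_iff S).1 hind, by rw [← sSup_eq_iSup']; exact htop⟩, fun E => hS E.1 E.2⟩

end Groth.Agent.S0307
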