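import Groth.Statements.S0313
import Groth.Agent.LC.MatlisExtra

set_option autoImplicit false
universe u v
open Matlis

namespace Groth.Agent.S0313

/-- Over a Noetherian local ring, the endomorphism ring of an injective hull of the residue field is
isomorphic, as an algebra over the ring, to the completion at the maximal ideal. -/
theorem result (R : Type u) [CommRing R] [IsLocalRing R] [IsNoetherianRing R] (E : Type u) [AddCommGroup E] [Module R E] (f : IsLocalRing.ResidueField R →ₗ[R] E) (hf : InjHull.IsInjectiveHull f) : Nonempty (Module.End R E ≃ₐ[R] AdicCompletion (IsLocalRing.maximalIdeal R) R) := by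
  exact ⟨(Groth.Agent.LC.endEquiv hf).choose⟩

end Groth.Agent.S0313
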