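import Groth.Statements.S0315
import Groth.Agent.LC.MatlisExtra

set_option autoImplicit false
universe u v
open Matlis

namespace Groth.Agent.S0315

/-- Over a Noetherian local ring a module has the descending chain condition exactly when it is killed
elementwise by powers of the maximal ideal and its socle is finite-dimensional over the residue
field. -/
theorem result (R : Type u) [CommRing R] [IsLocalRing R] [IsNoetherianRing R] (M : Type u) [AddCommGroup M] [Module R M] : IsArtinian R M ↔ (LocCoh.IsPowerTorsion (IsLocalRing.maximalIdeal R) M ∧ Module.Finite (R ⧸ IsLocalRing.maximalIdeal R) ↥(LocCoh.torsionBy (IsLocalRing.maximalIdeal R) M)) := by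
  obtain ⟨E, _, _, f, hf⟩ := Groth.Agent.LC.exists_injectiveHull R (IsLocalRing.ResidueField R)
  constructor
  · intro h
    exact ⟨Groth.Agent.LC.isPowerTorsion_of_isArtinian M, Groth.Agent.LC.finite_socle_of_isArtinian hf M⟩
  · rintro ⟨h1, h2⟩
    refine Groth.Agent.LC.isArtinian_of_isArtinian_torsionBy _ (IsNoetherian.noetherian _) h1 ?_
    have := Groth.Agent.LC.hull_isArtinian hf
    obtain ⟨g, hg⟩ := Groth.Agent.LC.exists_embedding_pi hf M h1 _ rfl
    exact isArtinian_of_injective (g.comp (Submodule.subtype _)) (hg.comp (Submodule.injective_subtype _))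

end Groth.Agent.S0315
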