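import Groth.Statements.S0318
import Groth.Agent.LC.DepthExt

set_option autoImplicit false
universe u v
open LocCoh

namespace Groth.Agent.S0318

/-- Part (1): =(3): for a finite module M over a Noetherian ring and an ideal I with IM ≠ M, the I-depth
of M is the least degree in which the local cohomology of M with support in I is nonzero. -/
theorem result (R : Type u) [CommRing R] [IsNoetherianRing R] (I : Ideal R) (M : Type u) [AddCommGroup M] [Module R M] [Module.Finite R M] (hIM : I • (⊤ : Submodule R M) ≠ ⊤) (n : ℕ) : LocCoh.idealDepth I M = n ↔ ((∀ i : ℕ, i < n → Subsingleton (LocCoh.H I i M)) ∧ Nontrivial (LocCoh.H I n M)) := by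
  exact Groth.Agent.LC.idealDepth_eq_nat_iff I M n

end Groth.Agent.S0318
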