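import Groth.Statements.S1743
import Groth.Agent.LC.AssFilt

set_option autoImplicit false
universe u
open LocCoh

namespace Groth.Agent.S1743

/-- Let A be a Noetherian ring, J ⊆ I ideals and i ≥ 0. If H^i_I(A) is annihilated by J^n for some n,
then for every finite A-module M such that M_f is a projective A_f-module for every f in I, the
module H^i_I(M) is annihilated by J^m for some m. (The source allows any ring with finitely
generated ideals and finitely presented M.) -/
theorem result (A : Type u) [CommRing A] [IsNoetherianRing A] (J I : Ideal A) (hJI : J ≤ I) (i n : ℕ) (hA : ∀ a ∈ J ^ n, ∀ x : LocCoh.H I i A, a • x = 0) (M : Type u) [AddCommGroup M] [Module A M] [Module.Finite A M] (hM : ∀ f ∈ I, Module.Projective (Localization.Away f) (LocalizedModule (Submonoid.powers f) M)) : ∃ m : ℕ, ∀ a ∈ J ^ m, ∀ x : LocCoh.H I i M, a • x = 0 := by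
  obtain ⟨s, hs⟩ := (IsNoetherian.noetherian I : I.FG)
  have hsI : ∀ f : s, (f : A) ∈ I := fun f => hs ▸ Submodule.subset_span f.2
  have hfac : ∀ f : s, ∃ k : ℕ, ∃ (r : ℕ) (g : M →ₗ[A] (Fin r → A)) (h : (Fin r → A) →ₗ[A] M),
      h ∘ₗ g = ((f : A) ^ k) • LinearMap.id := by
    intro f
    have : Module.Projective (Localization (Submonoid.powers (f : A)))
        (LocalizedModule (Submonoid.powers (f : A)) M) := hM f (hsI f)
    obtain ⟨c, ⟨k, rfl⟩, r, g, h, hgh⟩ := Groth.Agent.LC.exists_factor (Submonoid.powers (f : A)) M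
    exact ⟨k, r, g, h, hgh⟩
  choose k r g h hgh using hfac
  let P : Ideal A := Ideal.span (Set.range fun f : s => (f : A) ^ k f)
  have hrad : I ≤ P.radical := by
    conv_lhs => rw [← hs]
    refine Submodule.span_le.2 fun f hf => ⟨k ⟨f, hf⟩, Ideal.subset_span ⟨⟨f, hf⟩, rfl⟩⟩
  obtain ⟨N, hN⟩ := Ideal.exists_pow_le_of_le_radical_of_fg hrad (IsNoetherian.noetherian I)
  refine ⟨N + n, fun a ha x => ?_⟩
  rw [pow_add] at ha
  refine Submodule.mul_induction_on ha (fun b hb c hc => ?_) fun u v hu hv => by
    rw [add_smul, hu, hv, add_zero]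
  have key : ∀ y ∈ P, (y * c) • x = 0 := by
    intro y hy
    induction hy using Submodule.span_induction with
    | mem b hb' =>
      obtain ⟨f, rfl⟩ := hb'
      rw [mul_comm]
      exact Groth.Agent.LC.smul_H_eq_zero_of_factor I i (g f) (h f) (hgh f) c (hA c hc) x
    | zero => rw [zero_mul, zero_smul]
    | add y z _ _ hy hz => rw [add_mul, add_smul, hy, hz, add_zero]
    | smul r y _ hy => rw [smul_eq_mul, mul_assoc, mul_smul, hy, smul_zero]
  exact key b (hN (Ideal.pow_right_mono hJI N hb))

end Groth.Agent.S1743
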