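import Groth.Statements.S0331
import Groth.Agent.LC.AssFilt
import Groth.Agent.S1743

set_option autoImplicit false
universe u v
open LocCoh

namespace Groth.Agent.S0331

/-- Over a Noetherian ring, if H^i_I(R) is finitely generated for i ≤ n, then so is H^i_I(M) for i ≤ n
for every finite module M that becomes finite projective after inverting any single element of I. -/
theorem result (R : Type u) [CommRing R] [IsNoetherianRing R] (I : Ideal R) (n : ℕ) (hR : ∀ i : ℕ, i ≤ n → Module.Finite R (LocCoh.H I i R)) (M : Type u) [AddCommGroup M] [Module R M] [Module.Finite R M] (hM : ∀ f ∈ I, Module.Projective (Localization.Away f) (LocalizedModule (Submonoid.powers f) M)) (i : ℕ) (hi : i ≤ n) : Module.Finite R (LocCoh.H I i M) := by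
  have hkill : ∀ l : ℕ, ∃ m : ℕ, l ≤ n → ∀ a ∈ I ^ m, ∀ x : LocCoh.H I l M, a • x = 0 := by
    intro l
    by_cases hl : l ≤ n
    · have := hR l hl
      obtain ⟨k, hk⟩ := Groth.Agent.LC.exists_pow_smul_eq_zero_of_finite I (LocCoh.H I l R)
        (Groth.Agent.LC.isPowerTorsion_obj I l (ModuleCat.of R R))
      obtain ⟨m, hm⟩ := Groth.Agent.S1743.result R I I le_rfl l k hk M hM
      exact ⟨m, fun _ => hm⟩
    · exact ⟨0, fun h => absurd h hl⟩
  choose m hm using hkill
  refine Groth.Agent.LC.finite_H_of_kill I n M (I ^ (Finset.range (n + 1)).sup m) ?_ ?_ i hi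
  · intro x hx
    exact ⟨(Finset.range (n + 1)).sup m, Ideal.pow_mem_pow hx _⟩
  · intro l hl a ha z
    exact hm l hl a (Ideal.pow_le_pow_right (Finset.le_sup (Finset.mem_range.2 (Nat.lt_succ_of_le hl))) ha) z

end Groth.Agent.S0331
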