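import Groth.Statements.S0334
import Groth.Agent.LC.TopDim3

set_option autoImplicit false
universe u v
open LocCoh

namespace Groth.Agent.S0334

/-- Over a Noetherian local ring of dimension d, multiplication by an element lying in no minimal prime
p with dim R/p = d is surjective on H^d_I(M) for every finite module M and every ideal I. -/
theorem result (R : Type u) [CommRing R] [IsLocalRing R] [IsNoetherianRing R] (I : Ideal R) (d : ℕ) (hd : ringKrullDim R = d) (f : R) (hf : ∀ p ∈ minimalPrimes R, ringKrullDim (R ⧸ p) = d → f ∉ p) (M : Type u) [AddCommGroup M] [Module R M] [Module.Finite R M] : Function.Surjective (fun x : LocCoh.H I d M => f • x) := by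
  exact Groth.Agent.LC.smul_surjective_H_top I hd f hf M

end Groth.Agent.S0334
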