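import Groth.Statements.S0337
import Mathlib
-- import your own Groth.Agent.* helpers here

set_option autoImplicit false
universe u v
open CategoryTheory
open LocCoh

namespace Groth.Agent.S0337

/-- Over a Noetherian local ring of prime characteristic p, a finite module isomorphic to its own base
change along Frobenius is free. -/
theorem result (p : ℕ) [Fact p.Prime] (R : Type u) [CommRing R] [IsLocalRing R] [IsNoetherianRing R] [CharP R p] (M : Type u) [AddCommGroup M] [Module R M] [Module.Finite R M] (h : Nonempty ((ModuleCat.extendScalars (frobenius R p)).obj (ModuleCat.of R M) ≅ ModuleCat.of R M)) : Module.Free R M := by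
  open IsLocalRing CategoryTheory in
  classical
  obtain ⟨iso⟩ := h
  let F := frobenius R p
  have hex : ∃ n, ∃ π : (Fin n → R) →ₗ[R] M, Function.Surjective π := Module.Finite.exists_fin' R M
  let n := Nat.find hex
  obtain ⟨π, hπ⟩ := Nat.find_spec hex
  let m := maximalIdeal R
  let mk : (J : Ideal R) → ((Fin n → R) →ₗ[R] (Fin n → R ⧸ J)) := fun J => LinearMap.pi fun i => J.mkQ ∘ₗ LinearMap.proj i
  have hmk : ∀ J, Function.Surjective (mk J) := fun J v => by
    refine ⟨fun i => Quotient.out (v i), funext fun i => ?_⟩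
    exact Submodule.Quotient.mk_out _
  have hmin : ∀ x, π x = 0 → ∀ i, x i ∈ m := by
    intro x hx i
    by_contra hi
    have hu : IsUnit (x i) := not_not.1 fun h' => hi ((mem_maximalIdeal _).2 h')
    obtain ⟨k, hk⟩ : ∃ k, n = k + 1 := ⟨n - 1, by have := i.pos; omega⟩
    have hc : Fintype.card {j : Fin n // j ≠ i} = k := by
      rw [Fintype.card_subtype_compl, Fintype.card_fin, Fintype.card_subtype_eq, hk]; omega
    let e := Fintype.equivFinOfCardEq hc
    let g : (Fin k → R) →ₗ[R] M := Fintype.linearCombination R fun t => π (Pi.single (e.symm t).1 1)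
    have hg : Function.Surjective g := by
      have hmem : ∀ j, j ≠ i → π (Pi.single j 1) ∈ LinearMap.range g := fun j hj =>
        ⟨Pi.single (e ⟨j, hj⟩) 1, by rw [Fintype.linearCombination_apply_single, one_smul, e.symm_apply_apply]⟩
      have hall : ∀ j, π (Pi.single j 1) ∈ LinearMap.range g := by
        intro j
        rcases eq_or_ne j i with rfl | hj
        · have h0 := hx
          rw [pi_eq_sum_univ' x, map_sum, ← Finset.add_sum_erase _ _ (Finset.mem_univ j)] at h0
          simp only [map_smul] at h0
          rw [← Submodule.smul_mem_iff_of_isUnit _ hu, eq_neg_of_add_eq_zero_left h0]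
          exact Submodule.neg_mem _ (Submodule.sum_mem _ fun l hl =>
            Submodule.smul_mem _ _ (hmem l (Finset.ne_of_mem_erase hl)))
        · exact hmem j hj
      intro z
      obtain ⟨y, rfl⟩ := hπ z
      rw [pi_eq_sum_univ' y, map_sum]
      exact LinearMap.mem_range.1 (Submodule.sum_mem _ fun j _ => by
        rw [map_smul]; exact Submodule.smul_mem _ _ (hall j))
    exact Nat.find_min hex (by omega : k < n) ⟨g, hg⟩
  have hQ : ∀ k : ℕ, ∃ ψ : M →ₗ[R] (Fin n → R ⧸ m ^ (k + 1)), Function.Surjective ψ := by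
    intro k
    induction k with
    | zero =>
      have hle : LinearMap.ker π ≤ LinearMap.ker (mk (m ^ (0 + 1))) := fun x hx => by
        refine LinearMap.mem_ker.2 (funext fun i => ?_)
        exact (Submodule.Quotient.mk_eq_zero _).2 (by simpa using hmin x hx i)
      refine ⟨(LinearMap.ker π).liftQ _ hle ∘ₗ (LinearMap.quotKerEquivOfSurjective π hπ).symm.toLinearMap, ?_⟩
      intro v
      obtain ⟨w, hw⟩ := hmk (m ^ (0 + 1)) v
      refine ⟨π w, ?_⟩
      show (LinearMap.ker π).liftQ _ hle ((LinearMap.quotKerEquivOfSurjective π hπ).symm (π w)) = v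
      rw [LinearMap.quotKerEquivOfSurjective_symm_apply]
      exact hw
    | succ k ih =>
      obtain ⟨ψ, hψ⟩ := ih
      have hpow : ∀ a b : R, a - b ∈ m ^ (k + 1) → a ^ p - b ^ p ∈ m ^ (k + 1 + 1) := fun a b hab => by
        rw [← sub_pow_char]
        refine Ideal.pow_le_pow_right ?_ (by rw [pow_mul]; exact Ideal.pow_mem_pow hab p :
          (a - b) ^ p ∈ m ^ ((k + 1) * p))
        have := (Fact.out : p.Prime).two_le
        nlinarith
      let q : R ⧸ m ^ (k + 1) → R ⧸ m ^ (k + 1 + 1) := Quotient.lift (fun a : R => Ideal.Quotient.mk _ (a ^ p))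
        fun a b hab => by
          rw [Ideal.Quotient.eq]
          exact hpow a b ((Submodule.quotientRel_def _).1 hab)
      have hq : ∀ a : R, q (Ideal.Quotient.mk _ a) = Ideal.Quotient.mk _ (a ^ p) := fun _ => rfl
      let N := ModuleCat.of R (Fin n → R ⧸ m ^ (k + 1 + 1))
      let θ : M →ₗ[R] (ModuleCat.restrictScalars F).obj N :=
        { toFun := fun x => (fun i => q (ψ x i) : Fin n → R ⧸ m ^ (k + 1 + 1))
          map_add' := fun x y => by
            funext i
            show q (ψ (x + y) i) = q (ψ x i) + q (ψ y i)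
            rw [map_add, Pi.add_apply]
            obtain ⟨a, ha⟩ := Ideal.Quotient.mk_surjective (ψ x i)
            obtain ⟨b, hb⟩ := Ideal.Quotient.mk_surjective (ψ y i)
            rw [← ha, ← hb, ← map_add, hq, hq, hq, add_pow_char, map_add]
          map_smul' := fun r x => by
            funext i
            show q (ψ (r • x) i) = (frobenius R p r) • q (ψ x i)
            rw [map_smul, Pi.smul_apply]
            obtain ⟨a, ha⟩ := Ideal.Quotient.mk_surjective (ψ x i)
            rw [← ha, show r • (Ideal.Quotient.mk (m ^ (k + 1)) a) = Ideal.Quotient.mk _ (r * a) from rfl, hq, hq,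
              mul_pow, frobenius_def]
            rfl }
      let θ' : ModuleCat.of R M ⟶ (ModuleCat.restrictScalars F).obj N :=
        @ModuleCat.ofHom R _ M ((ModuleCat.restrictScalars F).obj N) _ _ _ ((ModuleCat.restrictScalars F).obj N).isModule θ
      let adj := ModuleCat.extendRestrictScalarsAdj F
      let g := (adj.homEquiv (ModuleCat.of R M) N).symm θ'
      suffices hgs : Function.Surjective g.hom from
        ⟨g.hom ∘ₗ iso.toLinearEquiv.symm.toLinearMap, hgs.comp iso.toLinearEquiv.symm.surjective⟩
      have hfac : ∀ x : M, θ x = g.hom ((adj.unit.app (ModuleCat.of R M)).hom x) := fun x => by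
        have e := (adj.homEquiv (ModuleCat.of R M) N).apply_symm_apply θ'
        rw [Adjunction.homEquiv_unit] at e
        exact (congrArg (fun φ => φ.hom x) e).symm
      intro v
      obtain ⟨w, hw⟩ := hmk (m ^ (k + 1 + 1)) v
      have hbasis : ∀ i, (mk (m ^ (k + 1 + 1)) (Pi.single i 1) : Fin n → R ⧸ m ^ (k + 1 + 1)) ∈ LinearMap.range g.hom := by
        intro i
        obtain ⟨x, hx⟩ := hψ (mk (m ^ (k + 1)) (Pi.single i 1))
        refine ⟨(adj.unit.app (ModuleCat.of R M)).hom x, ?_⟩
        refine (hfac x).symm.trans (funext fun j => ?_)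
        show q (ψ x j) = _
        rw [hx]
        show q (Ideal.Quotient.mk _ ((Pi.single i (1 : R) : Fin n → R) j)) = Ideal.Quotient.mk _ _
        rw [hq]
        rcases eq_or_ne j i with rfl | hj
        · rw [LinearMap.proj_apply, Pi.single_eq_same, one_pow]
        · rw [LinearMap.proj_apply, Pi.single_eq_of_ne hj, zero_pow (Fact.out : p.Prime).ne_zero]
      rw [← hw, pi_eq_sum_univ' w, map_sum]
      exact LinearMap.mem_range.1 (Submodule.sum_mem _ fun j _ => by
        rw [map_smul]; exact Submodule.smul_mem _ _ (hbasis j))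
  have hinj : Function.Injective π := by
    refine (injective_iff_map_eq_zero π).2 fun x hx => funext fun i => ?_
    have : ∀ k, x i ∈ m ^ k := fun k => by
      obtain ⟨ψ, hψ⟩ := hQ k
      have hle : LinearMap.ker (mk (m ^ (k + 1))) ≤ LinearMap.ker (ψ ∘ₗ π) := fun y hy => by
        refine LinearMap.mem_ker.2 ?_
        rw [pi_eq_sum_univ' y, map_sum]
        refine Finset.sum_eq_zero fun j _ => ?_
        rw [map_smul]
        have hyj : y j ∈ m ^ (k + 1) := (Submodule.Quotient.mk_eq_zero _).1 (congrFun (LinearMap.mem_ker.1 hy) j)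
        funext l
        obtain ⟨a, ha⟩ := Ideal.Quotient.mk_surjective ((ψ ∘ₗ π) (Pi.single j 1) l)
        rw [Pi.smul_apply, ← ha, show y j • Ideal.Quotient.mk (m ^ (k + 1)) a = Ideal.Quotient.mk _ (y j * a) from rfl]
        exact Ideal.Quotient.eq_zero_iff_mem.2 (Ideal.mul_mem_right _ _ hyj)
      let χ := (LinearMap.ker (mk (m ^ (k + 1)))).liftQ (ψ ∘ₗ π) hle ∘ₗ
        (LinearMap.quotKerEquivOfSurjective _ (hmk (m ^ (k + 1)))).symm.toLinearMap
      have hχ : ∀ y, χ (mk (m ^ (k + 1)) y) = ψ (π y) := fun y => by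
        show (LinearMap.ker (mk (m ^ (k + 1)))).liftQ (ψ ∘ₗ π) hle
          ((LinearMap.quotKerEquivOfSurjective _ (hmk (m ^ (k + 1)))).symm (mk (m ^ (k + 1)) y)) = _
        rw [LinearMap.quotKerEquivOfSurjective_symm_apply]
        rfl
      have hsur : Function.Surjective χ := fun v => by
        obtain ⟨z, hz⟩ := hψ v
        obtain ⟨y, rfl⟩ := hπ z
        exact ⟨_, (hχ y).trans hz⟩
      have h0 : mk (m ^ (k + 1)) x = 0 :=
        IsNoetherian.injective_of_surjective_endomorphism χ hsur (by rw [hχ, hx, map_zero, map_zero])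
      exact Ideal.pow_le_pow_right (Nat.le_succ k) ((Submodule.Quotient.mk_eq_zero _).1 (congrFun h0 i))
    have hbot := Ideal.iInf_pow_eq_bot_of_isLocalRing m (maximalIdeal.isMaximal R).ne_top
    exact (Submodule.eq_bot_iff _).1 hbot _ (Submodule.mem_iInf _ |>.2 this)
  exact Module.Free.of_equiv (LinearEquiv.ofBijective π ⟨hinj, hπ⟩)

end Groth.Agent.S0337
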