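import Groth.Statements.S0343
import Groth.Agent.LC.GorQuot

set_option autoImplicit false
universe u v
open Goren

namespace Groth.Agent.S0343

/-- For a Noetherian local ring A and a non-zero-divisor f in the maximal ideal, A is Gorenstein exactly
when A/(f) is. -/
theorem result (A : Type u) [CommRing A] [IsLocalRing A] [IsNoetherianRing A] (f : A) (hf : f ∈ IsLocalRing.maximalIdeal A) (hreg : IsSMulRegular A f) : LocCoh.IsGorensteinLocalRing A ↔ LocCoh.IsGorensteinLocalRing (A ⧸ Ideal.span {f}) := by
  have hle : Ideal.span {f} ≤ IsLocalRing.maximalIdeal A := (Ideal.span_singleton_le_iff_mem _).2 hf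
  have : Nontrivial (A ⧸ Ideal.span {f}) := Ideal.Quotient.nontrivial_iff.2 fun h =>
    (IsLocalRing.maximalIdeal.isMaximal A).ne_top (top_unique (h ▸ hle))
  have : IsLocalRing (A ⧸ Ideal.span {f}) := .of_surjective' _ Ideal.Quotient.mk_surjective
  exact ⟨fun _ => Groth.Agent.LC.gorenstein_of_surjective_span_singleton (Ideal.Quotient.mk _)
      Ideal.Quotient.mk_surjective hf hreg Ideal.mk_ker,
    fun _ => Groth.Agent.LC.gorenstein_of_quotient hf hreg⟩

end Groth.Agent.S0343
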