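import Groth.Statements.S0345
import Groth.Agent.LC.GorGlobal

set_option autoImplicit false
universe u v
open Goren

namespace Groth.Agent.S0345

/-- For a Noetherian ring A, the A-module A has finite injective dimension exactly when every
localization of A at a prime is Gorenstein and A has finite Krull dimension. -/
theorem result (A : Type u) [CommRing A] [IsNoetherianRing A] : (∃ n : ℕ, CategoryTheory.HasInjectiveDimensionLT (ModuleCat.of A A) n) ↔ (LocCoh.IsGorensteinRing A ∧ ringKrullDim A < ⊤) := by
  exact Groth.Agent.LC.finite_injdim_iff A

end Groth.Agent.S0345
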