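import Groth.Statements.S0350
import Groth.Agent.GrpSchLib.FieldComp
-- import your own Groth.Agent.* helpers here

set_option autoImplicit false
universe u v
open CategoryTheory MonoidalCategory CartesianMonoidalCategory MonObj GrpObj AlgebraicGeometry
open GrpSch

open Groth.Agent.GrpSchLib

namespace Groth.Agent.S0350

/-- Let G be a group scheme over a field K. Then for every point x of G the local ring O_{G,x} has at
most one (hence exactly one) minimal prime, and there is exactly one irreducible component of G
passing through the identity point. The published statement also asserts that this component is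
geometrically irreducible, which is not asserted here. -/
theorem result (K : Type u) [Field K] (G : Over (Spec (CommRingCat.of K))) [GrpObj G] : (∀ x : G.left, (minimalPrimes (G.left.presheaf.stalk x)).Subsingleton) ∧ ∃! Z : Set G.left, Z ∈ irreducibleComponents (G.left : Type u) ∧ η[G].left (IsLocalRing.closedPoint K) ∈ Z := by
  refine ⟨fun x p hp q hq => ?_, ?_⟩
  · have := hp.1.1
    have := hq.1.1
    let P : Spec (G.left.presheaf.stalk x) := ⟨p, hp.1.1⟩
    let Q : Spec (G.left.presheaf.stalk x) := ⟨q, hq.1.1⟩
    have hP : G.left.fromSpecStalk x P ⤳ x := by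
      have : G.left.fromSpecStalk x P ∈ Set.range (G.left.fromSpecStalk x) := ⟨P, rfl⟩
      rwa [Scheme.range_fromSpecStalk] at this
    have hQ : G.left.fromSpecStalk x Q ⤳ x := by
      have : G.left.fromSpecStalk x Q ∈ Set.range (G.left.fromSpecStalk x) := ⟨Q, rfl⟩
      rwa [Scheme.range_fromSpecStalk] at this
    obtain ⟨c, hcP, hcQ⟩ := uniComp x _ _ hP hQ
    obtain ⟨R, rfl⟩ : c ∈ Set.range (G.left.fromSpecStalk x) := by
      rw [Scheme.range_fromSpecStalk]; exact hcP.trans hP
    have h1 : R.asIdeal ≤ p := (PrimeSpectrum.le_iff_specializes R P).mpr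
      ((G.left.fromSpecStalk x).isEmbedding.isInducing.specializes_iff.mp hcP)
    have h2 : R.asIdeal ≤ q := (PrimeSpectrum.le_iff_specializes R Q).mpr
      ((G.left.fromSpecStalk x).isEmbedding.isInducing.specializes_iff.mp hcQ)
    exact (h1.antisymm (hp.2 ⟨R.isPrime, bot_le⟩ h1)).symm.trans (h2.antisymm (hq.2 ⟨R.isPrime, bot_le⟩ h2))
  · obtain ⟨g, hg, hge⟩ := exists_isMaxPt (η[G].left (IsLocalRing.closedPoint K))
    exact ⟨closure {g}, ⟨closure_mem_irreducibleComponents hg hge, hge.mem_closure⟩,
      fun Z hZ => eq_closure_of_mem_irreducibleComponents hg hge hZ.1 hZ.2⟩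

end Groth.Agent.S0350
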