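import Groth.Statements.S0356
import Groth.Agent.GrLib8.KoszulSupp
import Groth.Agent.GrLib8.CechLC
-- import your own Groth.Agent.* helpers here

set_option autoImplicit false
universe u v
open CategoryTheory AlgebraicGeometry
open LocCoh

namespace Groth.Agent.S0356

/-- Let R be a Noetherian ring, I an ideal, M an R-module and U = Spec R ∖ V(I) the punctured open. For
every p ≥ 1, the cohomology group H^p(U, M̃|_U) of the restriction to U of the quasi-coherent sheaf
associated with M is isomorphic to the local cohomology H^(p+1)_I(M). (The published statement also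
gives a four-term exact sequence in low degrees, which is not stated here; here R is Noetherian.) -/
theorem result (R : Type u) [CommRing R] [IsNoetherianRing R] (I : Ideal R) (M : Type u) [AddCommGroup M] [Module R M] (p : ℕ) (hp : 1 ≤ p) : Nonempty (Coh.HH (↑(LocCoh.puncturedOpen R I)) ((AlgebraicGeometry.tilde (R := CommRingCat.of R) (ModuleCat.of R M)).restrict (LocCoh.puncturedOpen R I).ι) p ≃+ LocCoh.H I (p + 1) M) := by
  obtain ⟨q, rfl⟩ : ∃ q, p = q + 1 := ⟨p - 1, by omega⟩
  obtain ⟨fs, hfs⟩ : ∃ fs : List R, Ideal.span {a | a ∈ fs} = I := by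
    obtain ⟨s, hs⟩ := IsNoetherian.noetherian I
    exact ⟨s.toList, by simpa using hs⟩
  subst hfs
  obtain ⟨e₁⟩ := Groth.Agent.Lib.KoszulSheaf.nonempty_higher (R := CommRingCat.of R) (fs := fs) q (ModuleCat.of R M)
  obtain ⟨e₂⟩ := Groth.Agent.GrLib8.CechLC.nonempty_equiv (fs := fs) (q + 2) (ModuleCat.of R M)
  rw [Groth.Agent.GrLib8.KoszulSupp.punctured_eq fs]
  exact ⟨e₁.trans e₂.toAddEquiv⟩

end Groth.Agent.S0356
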