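import Groth.Statements.S0358
import Groth.Agent.LC.DepthFlatFibre

set_option autoImplicit false
universe u v
open LocCoh

namespace Groth.Agent.S0358

/-- For a flat local homomorphism R → S of Noetherian local rings whose closed fibre S/m_R S is
Cohen–Macaulay, and a proper ideal I of S, the I-depth of S is at least dim(S/m_R S) − dim(S/(m_R S
+ I)); stated additively. -/
theorem result (R : Type u) [CommRing R] [IsLocalRing R] [IsNoetherianRing R] (S : Type u) [CommRing S] [IsLocalRing S] [IsNoetherianRing S] [Algebra R S] [IsLocalHom (algebraMap R S)] [Module.Flat R S] (hCM : LocCoh.IsCohenMacaulayLocalRing (S ⧸ (IsLocalRing.maximalIdeal R).map (algebraMap R S))) (I : Ideal S) (hI : I ≠ ⊤) : ringKrullDim (S ⧸ (IsLocalRing.maximalIdeal R).map (algebraMap R S)) ≤ ringKrullDim (S ⧸ ((IsLocalRing.maximalIdeal R).map (algebraMap R S) ⊔ I)) + ((LocCoh.idealDepth I S : ℕ∞) : WithBot ℕ∞) := by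
  exact Groth.Agent.LC.dim_fibre_le hCM I hI

end Groth.Agent.S0358
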