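import Groth.Statements.S0359
import Groth.Agent.GrLib8.DepthOpen
-- import your own Groth.Agent.* helpers here

set_option autoImplicit false
universe u v
open LocCoh

namespace Groth.Agent.S0359

/-- For a finite module M over a Noetherian ring and a prime p with depth(M_p) = e finite, there is a
basic open neighbourhood of p in V(p) on which the depth of the localizations of M is at least e,
and it exceeds e at all but finitely many of those primes. -/
theorem result (R : Type u) [CommRing R] [IsNoetherianRing R] (M : Type u) [AddCommGroup M] [Module R M] [Module.Finite R M] (p : Ideal R) [p.IsPrime] (e : ℕ) (he : LocCoh.depth (Localization.AtPrime p) (LocalizedModule p.primeCompl M) = e) : ∃ f : R, f ∉ p ∧ (∀ (q : Ideal R) [q.IsPrime], p ≤ q → f ∉ q → (e : ℕ∞) ≤ LocCoh.depth (Localization.AtPrime q) (LocalizedModule q.primeCompl M)) ∧ {q : PrimeSpectrum R | p ≤ q.asIdeal ∧ f ∉ q.asIdeal ∧ LocCoh.depth (Localization.AtPrime q.asIdeal) (LocalizedModule q.asIdeal.primeCompl M) = e}.Finite := by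
  exact Groth.Agent.GrLib8.DepthOpen.exists_open p e M he

end Groth.Agent.S0359
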