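import Groth.Statements.S0367
import Groth.Agent.KFlatLib.Ring.DualizingDepth
-- import your own Groth.Agent.* helpers here

set_option autoImplicit false
universe u v
open CategoryTheory
attribute [local instance] HasDerivedCategory.standard
open Dual

namespace Groth.Agent.S0367

/-- For a Noetherian local ring with normalized dualizing complex ω and a finite module M with mM ≠ M,
the depth of M is the least δ ≥ 0 with Hom(M, ω[−δ]) nonzero in D(A). -/
theorem result (A : Type u) [CommRing A] [IsLocalRing A] [IsNoetherianRing A] (ω : Dual.D A) (hω : Dual.IsDualizing A ω) (hn : Dual.IsNormalized A ω) (M : Type u) [AddCommGroup M] [Module A M] [Module.Finite A M] [Nontrivial M] (n : ℕ) : LocCoh.depth A M = n ↔ ((∀ δ : ℕ, δ < n → Subsingleton (Dual.inD A M ⟶ ω⟦(-(δ : ℤ))⟧)) ∧ Nontrivial (Dual.inD A M ⟶ ω⟦(-(n : ℤ))⟧)) := Groth.Agent.KFlatLib.depth_eq_iff_ext hω hn M n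

end Groth.Agent.S0367
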