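import Groth.Statements.S0370
import Groth.Agent.KFlatLib.Ring.DualizingSerre
import Groth.Agent.H9Misc.DRingTel
-- import your own Groth.Agent.* helpers here

set_option autoImplicit false
universe u v
open CategoryTheory
attribute [local instance] HasDerivedCategory.standard
open Dual

namespace Groth.Agent.S0370

/-- A Noetherian ring admitting a finite module which, placed in degree 0, is a dualizing complex, is
Cohen–Macaulay. -/
theorem result (A : Type u) [CommRing A] [IsNoetherianRing A] (W : Type u) [AddCommGroup W] [Module A W] [Module.Finite A W] (h : Dual.IsDualizing A (Dual.inD A W)) : LocCoh.IsCohenMacaulayRing A := by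
  obtain ⟨n, hdeg, -, -, -⟩ := KFlatLib.exists_extDegree h
  refine { isCohenMacaulayLocalRing_localization := fun p hp => ?_ }
  let q : PrimeSpectrum A := ⟨p, hp⟩
  haveI : IsNoetherianRing (Localization.AtPrime p) := IsLocalization.isNoetherianRing p.primeCompl _ inferInstance
  haveI : Module.Finite (Localization.AtPrime p) (LocalizedModule p.primeCompl A) :=
    Module.Finite.of_isLocalizedModule p.primeCompl (LocalizedModule.mkLinearMap _ _)
  have hq : q ∈ Module.support A A := by
    rw [Module.support_eq_zeroLocus, Module.annihilator_eq_bot.2 inferInstance]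
    simp
  obtain ⟨δ, d, hδ, hd⟩ := KFlatLib.exists_depth_dim q A hq
  obtain ⟨-, h2, h3⟩ := KFlatLib.localized_ext_range h hdeg q A δ d hδ hd
  have hzero : ∀ i : ℤ, q ∈ Module.support A (Dual.inD A A ⟶ (Dual.inD A W)⟦i⟧) → i = 0 := by
    intro i hi
    by_contra hne
    obtain ⟨e⟩ := KFlatLib.exists_homRingLEquiv (Dual.inD A W) i
    haveI : Subsingleton (Dual.HD A (Dual.inD A W) i) := H9Misc.DRingTel.subsingleton_homology_inD W hne
    haveI := e.toEquiv.subsingleton
    rw [Module.support_eq_empty] at hi
    exact hi
  have hdδ : d = δ := by
    have := hzero _ h2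
    have := hzero _ h3
    omega
  have hself := LC.selfLoc p.primeCompl
  refine { supportDim_eq_depth := ?_ }
  rw [← Module.supportDim_eq_of_equiv hself,
    show LocCoh.depth (Localization.AtPrime p) (Localization.AtPrime p) =
      LocCoh.depth (Localization.AtPrime p) (LocalizedModule p.primeCompl A) from
      (LC.idealDepth_congr _ hself).symm]
  rw [show Module.supportDim (Localization.AtPrime p) (LocalizedModule p.primeCompl A) = (d : WithBot ℕ∞) from hd,
    show LocCoh.depth (Localization.AtPrime p) (LocalizedModule p.primeCompl A) = δ from hδ, hdδ]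
  rfl

end Groth.Agent.S0370
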