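import Groth.Statements.S0374
import Groth.Agent.KFlatLib.Ring.DualizingBidual
-- import your own Groth.Agent.* helpers here

set_option autoImplicit false
universe u v
open CategoryTheory
attribute [local instance] HasDerivedCategory.standard
open Dual

namespace Groth.Agent.S0374

/-- Grothendieck local duality, complete case: let A be a complete Noetherian local ring with maximal
ideal 𝔪, ω a normalized dualizing complex, and E an injective hull of the residue field. Then for
every finite A-module M and every i ≥ 0 the A-module of morphisms M → ω[−i] in D(A) is isomorphic to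
the E-dual Hom_A(H^i_𝔪(M), E) of the i-th local cohomology of M. (The published statement is for any
Noetherian local ring, with an 𝔪-adic completion on the left-hand side; for complete A and finite M
that completion changes nothing, and it is stated here for complete A.) -/
theorem result (A : Type u) [CommRing A] [IsLocalRing A] [IsNoetherianRing A] [IsAdicComplete (IsLocalRing.maximalIdeal A) A] (ω : Dual.D A) (hω : Dual.IsDualizing A ω) (hn : Dual.IsNormalized A ω) (E : Type u) [AddCommGroup E] [Module A E] (f : IsLocalRing.ResidueField A →ₗ[A] E) (hf : InjHull.IsInjectiveHull f) (M : Type u) [AddCommGroup M] [Module A M] [Module.Finite A M] (i : ℕ) : Nonempty ((Dual.inD A M ⟶ ω⟦(-(i : ℤ))⟧) ≃ₗ[A] (LocCoh.H (IsLocalRing.maximalIdeal A) i M →ₗ[A] E)) := by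
  obtain ⟨e⟩ := KFlatLib.exists_localDuality_dualizing hf hω hn M i
  haveI := KFlatLib.finite_hom_dualizing hω M (-(i : ℤ))
  obtain ⟨X', _, _, _, ⟨e'⟩⟩ := KFlatLib.exists_small_copy (A := A) (Dual.inD A M ⟶ ω⟦-(i : ℤ)⟧)
  exact ⟨(e'.trans (LinearEquiv.ofBijective _ (LC.applyₗ_bijective_of_finite hf X'))).trans
    (LinearEquiv.congrLeft E A (e.trans (LinearEquiv.congrLeft E A e')).symm)⟩

end Groth.Agent.S0374
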