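import Groth.Statements.S0375
import Groth.Agent.KFlatLib.Ring.DualizingLocalExt
import Groth.Agent.CAlgGlobalDim.Basic
import Groth.Agent.LC.InjBasic
import Groth.Agent.KFlatLib.Ring.HasRHom
import Groth.Agent.KFlatLib.Ring.DualizingPoint
-- import your own Groth.Agent.* helpers here

set_option autoImplicit false
set_option linter.style.haveILetI false
universe u v
open CategoryTheory
attribute [local instance] HasDerivedCategory.standard
open Dual

namespace Groth.Agent.S0375

/-- Over a Noetherian local ring of dimension 0, a normalized dualizing complex is isomorphic in D(A) to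
an injective hull of the residue field placed in degree 0. -/
theorem result (A : Type u) [CommRing A] [IsLocalRing A] [IsNoetherianRing A] (h0 : ringKrullDim A = 0) (ω : Dual.D A) (hω : Dual.IsDualizing A ω) (hn : Dual.IsNormalized A ω) (E : Type u) [AddCommGroup E] [Module A E] (f : IsLocalRing.ResidueField A →ₗ[A] E) (hf : InjHull.IsInjectiveHull f) : Nonempty (ω ≅ Dual.inD A E) := by
  classical
  haveI := KFlatLib.hasLTen A
  haveI := KFlatLib.hasRHom (A := A)
  haveI : Ring.KrullDimLE 0 A := Ring.krullDimLE_iff.2 h0.le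
  have hd : Module.supportDim A A = ((0 : ℕ) : WithBot ℕ∞) := by
    rw [Module.supportDim_self_eq_ringKrullDim, h0]; rfl
  have hvan : ∀ i : ℤ, i ≠ 0 → Subsingleton (Dual.HD A ω i) := by
    intro i hi
    obtain ⟨e⟩ := KFlatLib.exists_homRingLEquiv ω i
    rw [← not_nontrivial_iff_subsingleton]
    intro hnt
    have := (KFlatLib.ext_amplitude_and_support hω hn A 0 hd i).1 e.toEquiv.nontrivial
    omega
  haveI : DerivedCategory.IsGE ω 0 := (DerivedCategory.isGE_iff ω 0).2 fun i hi =>
    @ModuleCat.isZero_of_subsingleton A _ _ (hvan i (by omega))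
  haveI : DerivedCategory.IsLE ω 0 := (DerivedCategory.isLE_iff ω 0).2 fun i hi =>
    @ModuleCat.isZero_of_subsingleton A _ _ (hvan i (by omega))
  obtain ⟨W, ⟨eW⟩⟩ := DerivedCategory.exists_iso_singleFunctor_obj_of_isGE_of_isLE ω 0
  let eω : ω ≅ Dual.inD A W := eW
  haveI : Module.Injective A W := by
    refine Module.Baer.injective (CAlgGlobalDim.baer_of_ext_one W fun I => ?_)
    haveI := KFlatLib.subsingleton_hom_module_of_pos hω hn (A ⧸ I) 1 one_pos
    haveI : Subsingleton (Dual.inD A (A ⧸ I) ⟶ (Dual.inD A W)⟦((1 : ℕ) : ℤ)⟧) :=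
      ((Iso.refl _).homCongr ((shiftFunctor (Dual.D A) (1 : ℤ)).mapIso eω)).symm.subsingleton
    exact Abelian.Ext.homEquiv.subsingleton
  obtain ⟨c, hc, ⟨ec⟩⟩ := KFlatLib.exists_unique_ext_point (IsLocalRing.maximalIdeal A) hω
  haveI : Nontrivial (A ⧸ IsLocalRing.maximalIdeal A) := inferInstanceAs (Nontrivial (IsLocalRing.ResidueField A))
  have hc0 : c = 0 := by
    by_contra hne
    haveI : Subsingleton (Dual.inD A (A ⧸ IsLocalRing.maximalIdeal A) ⟶ ω⟦c⟧) := hn c hne
    exact not_subsingleton (A ⧸ IsLocalRing.maximalIdeal A) ec.symm.injective.subsingleton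
  subst hc0
  let e0 : (Dual.inD A (A ⧸ IsLocalRing.maximalIdeal A) ⟶ Dual.inD A W) ≃ₗ[A] (A ⧸ IsLocalRing.maximalIdeal A) :=
    (Linear.homCongr A (Iso.refl _) (eω.symm ≪≫ ((shiftFunctorZero (Dual.D A) ℤ).app ω).symm)).trans ec
  let F := DerivedCategory.singleFunctor (ModuleCat.{u} A) 0
  let φ : ((A ⧸ IsLocalRing.maximalIdeal A) →ₗ[A] W) → (A ⧸ IsLocalRing.maximalIdeal A) :=
    fun h => e0 (F.map (ModuleCat.ofHom h))
  have hφi : Function.Injective φ := fun x y hxy =>
    congrArg ModuleCat.Hom.hom (F.map_injective (e0.injective hxy))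
  have hφs : ∀ (a : A) h, φ (a • h) = a • φ h := fun a h => by
    show e0 (F.map (ModuleCat.ofHom (a • h))) = a • e0 (F.map (ModuleCat.ofHom h))
    rw [← map_smul, ← Functor.map_smul]
    rfl
  have hφ0 : φ 0 = 0 := by
    simpa using hφs 0 0
  obtain ⟨h1, hh1⟩ : ∃ h, φ h = 1 := by
    obtain ⟨t, ht⟩ := F.map_surjective (e0.symm 1 : F.obj (ModuleCat.of A (A ⧸ IsLocalRing.maximalIdeal A)) ⟶ F.obj W)
    exact ⟨t.hom, (congrArg e0 ht).trans (e0.apply_symm_apply 1)⟩
  have hne : h1 ≠ 0 := fun h => one_ne_zero (α := A ⧸ IsLocalRing.maximalIdeal A) (by rw [← hh1, h, hφ0])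
  haveI : IsSimpleModule A (A ⧸ IsLocalRing.maximalIdeal A) :=
    isSimpleModule_iff_isCoatom.2 (IsLocalRing.maximalIdeal.isMaximal A).out
  have hinj : Function.Injective h1 := (h1.injective_or_eq_zero).resolve_right hne
  have hess : InjHull.IsEssentialInj (M := IsLocalRing.ResidueField A) (E := W) h1 := by
    refine ⟨hinj, fun N hN => ?_⟩
    haveI : Nontrivial N := Submodule.nontrivial_iff_ne_bot.2 hN
    obtain ⟨P, hP⟩ := associatedPrimes.nonempty A N
    haveI := hP.isPrime
    have hPm : P = IsLocalRing.maximalIdeal A := IsLocalRing.eq_maximalIdeal (Ideal.IsPrime.isMaximal' ‹P.IsPrime›)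
    subst hPm
    obtain ⟨-, g, hg⟩ := (isAssociatedPrime_iff_exists_injective_linearMap _ _).1 hP
    obtain ⟨a, ha⟩ := Ideal.Quotient.mk_surjective (φ (N.subtype ∘ₗ g))
    have hga : N.subtype ∘ₗ g = a • h1 := hφi (by
      rw [hφs, hh1, ← ha, ← Ideal.Quotient.algebraMap_eq, Algebra.algebraMap_eq_smul_one])
    intro hbot
    have h2 : ((g 1 : N) : W) ∈ N ⊓ LinearMap.range h1 :=
      ⟨(g 1).2, a • 1, by rw [map_smul]; exact (LinearMap.congr_fun hga 1).symm⟩
    replace h2 := (Submodule.mem_bot A).1 (hbot.le h2)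
    rw [Submodule.coe_eq_zero] at h2
    exact one_ne_zero (hg (h2.trans (map_zero g).symm))
  obtain ⟨e, -⟩ := LC.hull_unique hf (g := h1) ⟨hess, inferInstance⟩
  exact ⟨eω ≪≫ (DerivedCategory.singleFunctor (ModuleCat.{u} A) 0).mapIso e.toModuleIso.symm⟩

end Groth.Agent.S0375
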