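import Groth.Statements.S0382
import Groth.Agent.GrpSchLib.DiffMul


set_option autoImplicit false
universe u v
open CategoryTheory MonoidalCategory CartesianMonoidalCategory MonObj GrpObj AlgebraicGeometry
open GrpSch

namespace Groth.Agent.S0382

/-- On an abelian variety of positive dimension over a field K (a proper, geometrically integral group
scheme over K), multiplication by an integer d is étale exactly when d is nonzero in K.
Multiplication by d is written as the d-th power of the identity morphism in the group Hom(A, A),
whose multiplication is pointwise, induced by the group structure of A. -/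
theorem result (K : Type u) [Field K] (A : Over (Spec (CommRingCat.of K))) [GrpObj A] [IsProper A.hom] [GeometricallyIntegral A.hom] (hA : 0 < topologicalKrullDim A.left) (d : ℤ) : Etale ((𝟙 A ^ d).left) ↔ ((d : K) ≠ 0) := by
  haveI : IsIntegral A.left := GeometricallyIntegral.isIntegral_of_subsingleton A.hom
  haveI : GeometricallyConnected A.hom := ⟨fun L _ y Z f1 f2 h => by
    haveI : IrreducibleSpace Z := GeometricallyIrreducible.geometrically_irreducibleSpace (f := A.hom) y f1 f2 h
    exact inferInstance⟩
  constructor
  · intro he hd
    obtain ⟨B, _, _, j, _, hj, χ, hχ⟩ := Groth.Agent.H23.MulTangent.exists_chart (1 : 𝟙_ (Over (Spec (CommRingCat.of K))) ⟶ A)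
    rw [MonObj.comp_one] at hχ
    haveI : LocallyOfFiniteType (j ≫ A.hom) := inferInstance
    haveI : Algebra.FiniteType K B := by
      have h : LocallyOfFiniteType (j ≫ A.hom) := inferInstance
      rw [hj, HasRingHomProperty.Spec_iff (P := @LocallyOfFiniteType)] at h
      exact RingHom.finiteType_algebraMap.mp h
    haveI : Nonempty (Spec (CommRingCat.of B)) :=
      ⟨Spec.map (CommRingCat.ofHom χ.toRingHom) (IsLocalRing.closedPoint K)⟩
    haveI : IsIntegral (Spec (CommRingCat.of B)) := isIntegral_of_isOpenImmersion j
    haveI : IsDomain B := (affine_isIntegral_iff (CommRingCat.of B)).1 inferInstance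
    have hinj := Groth.Agent.GrpSchLib.DiffMul.injective_of_etale j hj hχ hd
    haveI : Subsingleton (PrimeSpectrum B) := by
      refine ⟨fun P Q => PrimeSpectrum.ext ?_⟩
      have key : ∀ P : PrimeSpectrum B, P.asIdeal = ⊥ := fun P => by
        refine eq_bot_iff.2 fun b hb => ?_
        by_contra hb0
        have hbu : IsUnit b := by
          have hne : χ b ≠ 0 := fun h => hb0 (hinj (by rw [h, map_zero]))
          refine IsUnit.of_mul_eq_one (algebraMap K B (χ b)⁻¹) (hinj ?_)
          rw [map_mul, AlgHom.commutes, map_one]
          exact mul_inv_cancel₀ hne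
        exact P.isPrime.ne_top (P.asIdeal.eq_top_of_isUnit_mem hb hbu)
      rw [key P, key Q]
    -- the unit is an open and closed point
    let p : A.left := (toUnit (Groth.Agent.GrpSchLib.specOver K K) ≫ (η[A])).left (IsLocalRing.closedPoint K)
    have hclosed : IsClosed ({p} : Set A.left) := by
      have : IsClosedImmersion (toUnit (Groth.Agent.GrpSchLib.specOver K K) ≫ η[A]).left := by
        haveI : IsClosedImmersion ((toUnit (Groth.Agent.GrpSchLib.specOver K K) ≫ η[A]).left ≫ A.hom) := by
          rw [Over.w]
          show IsClosedImmersion (Spec.map (CommRingCat.ofHom (algebraMap K K)))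
          exact IsClosedImmersion.spec_of_surjective _ (fun x => ⟨x, rfl⟩)
        exact IsClosedImmersion.of_comp _ A.hom
      have h := (toUnit (Groth.Agent.GrpSchLib.specOver K K) ≫ η[A]).left.isClosedEmbedding.isClosed_range
      convert h
      ext z
      constructor
      · rintro rfl; exact ⟨_, rfl⟩
      · rintro ⟨w, rfl⟩
        exact congrArg _ (Subsingleton.elim (α := PrimeSpectrum K) _ _)
    have hopen : IsOpen ({p} : Set A.left) := by
      have hp : p ∈ Set.range j := by
        refine ⟨Spec.map (CommRingCat.ofHom χ.toRingHom) (IsLocalRing.closedPoint K), ?_⟩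
        exact congrArg (fun f : Groth.Agent.GrpSchLib.specOver K K ⟶ A => f.left (IsLocalRing.closedPoint K))
          (hχ.trans (show (1 : Groth.Agent.GrpSchLib.specOver K K ⟶ A) = toUnit _ ≫ η[A] from rfl))
      have hr : Set.range j = {p} := by
        obtain ⟨w, hw⟩ := hp
        ext z
        constructor
        · rintro ⟨y, rfl⟩
          rw [← hw, Subsingleton.elim (α := PrimeSpectrum B) y w]
          rfl
        · rintro rfl; exact ⟨w, hw⟩
      rw [← hr]
      exact j.isOpenEmbedding.isOpen_range
    haveI : ConnectedSpace A.left := inferInstance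
    have huniv := IsClopen.eq_univ (s := ({p} : Set A.left)) ⟨hclosed, hopen⟩ ⟨p, rfl⟩
    haveI : Subsingleton A.left := by
      refine ⟨fun a b => ?_⟩
      have ha : a ∈ ({p} : Set A.left) := huniv ▸ Set.mem_univ a
      have hb : b ∈ ({p} : Set A.left) := huniv ▸ Set.mem_univ b
      exact ha.trans hb.symm
    have : topologicalKrullDim A.left ≤ 0 := by
      haveI : Subsingleton (TopologicalSpace.IrreducibleCloseds A.left) :=
        ⟨fun a b => TopologicalSpace.IrreducibleCloseds.ext (Subsingleton.eq_univ_of_nonempty a.isIrreducible.nonempty ▸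
          (Subsingleton.eq_univ_of_nonempty b.isIrreducible.nonempty).symm ▸ rfl)⟩
      exact Order.krullDim_nonpos_of_subsingleton
    exact absurd this (not_le.2 hA)
  · intro hd
    refine Groth.Agent.H23.MulEtale.etale_zpow d ?_
    have h := (isUnit_iff_ne_zero.2 hd).map (Scheme.ΓSpecIso (CommRingCat.of K)).inv.hom
    rwa [map_intCast] at h

end Groth.Agent.S0382
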