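import Groth.Statements.S0395
import Mathlib
import Groth.Agent.FlatLoc6.Regular

set_option autoImplicit false
universe u
open FlatMor

namespace Groth.Agent.S0395

open TensorProduct nonZeroDivisors in
/-- For a flat local homomorphism R → S of Noetherian local rings and an element f of S that is regular
on the fibre ring S/mS, the quotient of S by f is again R-flat and f is regular on S. -/
theorem result {R S : Type u} [CommRing R] [CommRing S] [IsLocalRing R] [IsLocalRing S] [IsNoetherianRing R] [IsNoetherianRing S] [Algebra R S] [IsLocalHom (algebraMap R S)] [Module.Flat R S]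
    (f : S) (hf : Ideal.Quotient.mk ((IsLocalRing.maximalIdeal R).map (algebraMap R S)) f ∈ nonZeroDivisors (S ⧸ ((IsLocalRing.maximalIdeal R).map (algebraMap R S)))) :
    Module.Flat R (S ⧸ Ideal.span {f}) ∧ f ∈ nonZeroDivisors S := by
  set J := (IsLocalRing.maximalIdeal R).map (algebraMap R S) with hJ
  have hy : Groth.Agent.FlatLoc6.RegFib R S f := by
    intro s hs
    have e : Groth.Agent.FlatLoc6.mN R S S = J := (Ideal.smul_eq_mul _ _).trans (Ideal.mul_top _)
    rw [e] at hs ⊢
    rw [← Ideal.Quotient.eq_zero_iff_mem] at hs ⊢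
    rw [smul_eq_mul, map_mul] at hs
    exact mul_left_mem_nonZeroDivisors_eq_zero_iff hf |>.1 hs
  refine ⟨?_, ?_⟩
  · exact Groth.Agent.FlatLoc6.flat_of_cokernel hy (S ⧸ Ideal.span {f}) (Ideal.Quotient.mkₐ S _).toLinearMap
      Ideal.Quotient.mk_surjective fun n => by
        show Ideal.Quotient.mk _ n = 0 ↔ _
        rw [Ideal.Quotient.eq_zero_iff_mem, Ideal.mem_span_singleton']
        exact exists_congr fun k => by rw [smul_eq_mul, mul_comm]
  · have h := Groth.Agent.FlatLoc6.regular_self (N := S) hy
    exact mem_nonZeroDivisors_iff_right.2 fun x hx => h (show f • x = f • 0 by rw [smul_zero, smul_eq_mul, mul_comm]; exact hx)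

end Groth.Agent.S0395
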