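import Groth.Statements.S0397
import Mathlib.RingTheory.LocalRing.Module

set_option autoImplicit false
universe u
open FlatMor

namespace Groth.Agent.S0397

/-- Over a local ring whose maximal ideal is nilpotent, every flat module (not necessarily finitely
generated) is free. -/
theorem result {R M : Type u} [CommRing R] [IsLocalRing R] (hR : IsNilpotent (IsLocalRing.maximalIdeal R))
    [AddCommGroup M] [Module R M] [Module.Flat R M] : Module.Free R M := by
  let k := IsLocalRing.ResidueField R
  let w := Module.Free.chooseBasis k (TensorProduct R k M)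
  obtain ⟨v, hv⟩ := (TensorProduct.mk_surjective R M k Ideal.Quotient.mk_surjective).comp_left w
  have hli : LinearIndependent R v :=
    Module.IsLocalRing.linearIndependent_of_flat v (by
      have hv' : ((TensorProduct.mk R (IsLocalRing.ResidueField R) M) 1 : M → _) ∘ v = w := hv
      rw [hv']
      exact w.linearIndependent)
  refine Module.Free.of_basis (Module.Basis.mk hli ?_)
  let N := Submodule.span R (Set.range v)
  let m := IsLocalRing.maximalIdeal R
  have hstep : (⊤ : Submodule R M) ≤ N ⊔ m • (⊤ : Submodule R M) := by
    intro x _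
    have hrange : (TensorProduct.mk R k M 1) x ∈ Submodule.span R (Set.range w) := by
      rw [← Submodule.restrictScalars_span R k Ideal.Quotient.mk_surjective, w.span_eq]
      trivial
    rw [show (w : _ → TensorProduct R k M) = (TensorProduct.mk R k M 1) ∘ v from hv.symm,
      Set.range_comp, ← Submodule.map_span] at hrange
    obtain ⟨y, hy, hxy⟩ := hrange
    have : x - y ∈ LinearMap.ker (TensorProduct.mk R k M 1) := by
      rw [LinearMap.mem_ker, map_sub, hxy, sub_self]
    rw [show LinearMap.ker (TensorProduct.mk R k M 1) = m • (⊤ : Submodule R M) from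
      LinearMap.ker_tensorProductMk ..] at this
    have := Submodule.add_mem_sup hy this
    rwa [add_sub_cancel] at this
  have hpow : ∀ n : ℕ, (⊤ : Submodule R M) ≤ N ⊔ m ^ n • (⊤ : Submodule R M) := by
    intro n
    induction n with
    | zero => simp
    | succ n ih =>
      refine ih.trans (sup_le le_sup_left ?_)
      calc m ^ n • (⊤ : Submodule R M) ≤ m ^ n • (N ⊔ m • ⊤) := Submodule.smul_mono le_rfl hstep
        _ = m ^ n • N ⊔ m ^ n • (m • ⊤) := Submodule.smul_sup ..
        _ ≤ N ⊔ m ^ (n + 1) • ⊤ := sup_le_sup Submodule.smul_le_right (by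
            rw [← Submodule.mul_smul, pow_succ])
  obtain ⟨n, hn⟩ := hR
  refine (hpow n).trans (sup_le le_rfl ?_)
  rw [hn]
  simp

end Groth.Agent.S0397
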