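import Groth.Statements.S0399
import Mathlib.RingTheory.Flat.Localization
import Mathlib.RingTheory.Flat.Tensor
import Mathlib.RingTheory.Flat.Stability
import Mathlib.RingTheory.LocalRing.Module
import Mathlib.LinearAlgebra.TensorProduct.Quotient

set_option autoImplicit false
universe u
open FlatMor

namespace Groth.Agent.S0399

open TensorProduct in
/-- Base change of the flatness along `A → A ⧸ J`. -/
theorem rTensor_injective_of_flat_baseChange {A B M R G : Type u} [CommRing A] [CommRing B] [Algebra A B]
    [AddCommGroup M] [Module A M] [Module.Flat B (B ⊗[A] M)]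
    [AddCommGroup R] [Module A R] [Module B R] [IsScalarTower A B R]
    [AddCommGroup G] [Module A G] [Module B G] [IsScalarTower A B G]
    (f : R →ₗ[B] G) (hf : Function.Injective f) : Function.Injective ((f.restrictScalars A).rTensor M) := by
  let eR := AlgebraTensorModule.cancelBaseChange A B B R M
  let eG := AlgebraTensorModule.cancelBaseChange A B B G M
  have e : ∀ z, (f.restrictScalars A).rTensor M (eR z) = eG (f.rTensor (B ⊗[A] M) z) := by
    intro z
    induction z with
    | zero => simp
    | add a b ha hb => simp only [map_add, ha, hb]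
    | tmul r y =>
      induction y with
      | zero => simp
      | add a b ha hb => simp only [tmul_add, map_add, ha, hb]
      | tmul b m => simp [eR, eG, LinearMap.map_smul_of_tower]
  intro a b hab
  obtain ⟨a, rfl⟩ := eR.surjective a
  obtain ⟨b, rfl⟩ := eR.surjective b
  rw [e, e] at hab
  exact congrArg eR (Module.Flat.rTensor_preserves_injective_linearMap f hf (eG.injective hab))

open TensorProduct in
/-- Tensoring an injection with a free base change. -/
theorem lTensor_free_tensor_injective {A K F B G : Type u} [CommRing A] [AddCommGroup K] [Module A K]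
    [AddCommGroup F] [Module A F] [AddCommGroup B] [Module A B] [AddCommGroup G] [Module A G]
    [Module.Flat A G] (g : K →ₗ[A] F) (h : Function.Injective (g.lTensor B)) :
    Function.Injective (g.lTensor (B ⊗[A] G)) := by
  let c := TensorProduct.comm A B G
  have hi : Function.Injective (g.lTensor (G ⊗[A] B)) := by
    rw [LinearMap.lTensor_tensor]
    simpa using Module.Flat.lTensor_preserves_injective_linearMap _ h
  refine Function.Injective.of_comp (f := c.toLinearMap.rTensor F) ?_
  rw [← LinearMap.coe_comp, LinearMap.rTensor_comp_lTensor, ← LinearMap.lTensor_comp_rTensor,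
    LinearMap.coe_comp]
  exact hi.comp (LinearEquiv.rTensor K c).injective

open TensorProduct in
/-- The first torsion with `A ⧸ (f)` vanishes. -/
theorem lTensor_quot_ker_injective {A M F : Type u} [CommRing A] [AddCommGroup M] [Module A M] (f : A)
    (hM : IsSMulRegular M f) [AddCommGroup F] [Module A F] (g : F →ₗ[A] M) (hg : Function.Surjective g) :
    Function.Injective ((LinearMap.ker g).subtype.lTensor (A ⧸ Ideal.span {f})) := by
  refine lTensor_injective_of_exact_of_exact_of_rTensor_injective (R := A) (M₁ := A) (M₂ := A)
    (f₁ := LinearMap.toSpanSingleton A A f) (f₂ := Submodule.mkQ (Ideal.span {f})) (g₂ := g)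
    ?_ (Submodule.mkQ_surjective _) (LinearMap.exact_subtype_ker_map g) hg ?_
    (Module.Flat.lTensor_preserves_injective_linearMap _ Subtype.val_injective)
  · rw [LinearMap.exact_iff, Submodule.ker_mkQ, LinearMap.range_toSpanSingleton, Ideal.submodule_span_eq]
  · intro a b hab
    obtain ⟨a, rfl⟩ := (TensorProduct.lid A M).symm.surjective a
    obtain ⟨b, rfl⟩ := (TensorProduct.lid A M).symm.surjective b
    have h := congrArg (TensorProduct.lid A M) hab
    simp only [TensorProduct.lid_symm_apply, LinearMap.rTensor_tmul, TensorProduct.lid_tmul,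
      LinearMap.toSpanSingleton_apply, one_smul] at h
    exact congrArg _ (hM h)

open TensorProduct in
/-- The general form of the vanishing. -/
theorem lTensor_injective_general {A B M K F N R G : Type u} [CommRing A] [CommRing B] [Algebra A B]
    [AddCommGroup M] [Module A M] [Module.Flat B (B ⊗[A] M)]
    [AddCommGroup K] [Module A K] [AddCommGroup F] [Module A F]
    [AddCommGroup N] [Module A N] [Module B N] [IsScalarTower A B N]
    [AddCommGroup R] [Module A R] [Module B R] [IsScalarTower A B R]
    [AddCommGroup G] [Module A G] [Module B G] [IsScalarTower A B G]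
    (k : K →ₗ[A] F) (g : F →ₗ[A] M) (hkg : Function.Exact k g) (hg : Function.Surjective g)
    (i : R →ₗ[B] G) (p : G →ₗ[B] N) (hi : Function.Injective i) (hip : Function.Exact i p)
    (hp : Function.Surjective p) (h : Function.Injective (k.lTensor G)) :
    Function.Injective (k.lTensor N) :=
  lTensor_injective_of_exact_of_exact_of_rTensor_injective (R := A)
    (f₁ := i.restrictScalars A) (f₂ := p.restrictScalars A) (g₂ := g) hip hp hkg hg
    (rTensor_injective_of_flat_baseChange i hi) h

open TensorProduct in
/-- The vanishing of the first torsion with modules killed by `f`. -/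
theorem lTensor_ker_injective {A M N : Type u} [CommRing A] [AddCommGroup M] [Module A M] (f : A)
    (hM : IsSMulRegular M f) [Module.Flat (A ⧸ Ideal.span {f}) ((A ⧸ Ideal.span {f}) ⊗[A] M)]
    [AddCommGroup N] [Module A N] [Module (A ⧸ Ideal.span {f}) N] [IsScalarTower A (A ⧸ Ideal.span {f}) N]
    {F : Type u} [AddCommGroup F] [Module A F] (g : F →ₗ[A] M) (hg : Function.Surjective g) :
    Function.Injective ((LinearMap.ker g).subtype.lTensor N) := by
  let p : (A ⧸ Ideal.span {f}) ⊗[A] (N →₀ A) →ₗ[A ⧸ Ideal.span {f}] N :=
    LinearMap.liftBaseChange _ (Finsupp.linearCombination A id)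
  have hp : Function.Surjective p := fun n => ⟨1 ⊗ₜ Finsupp.single n 1, by simp [p]⟩
  exact lTensor_injective_general (B := A ⧸ Ideal.span {f}) (R := ↥(LinearMap.ker p)) (G := (A ⧸ Ideal.span {f}) ⊗[A] (N →₀ A))
    (LinearMap.ker g).subtype g (LinearMap.exact_subtype_ker_map g) hg
    (LinearMap.ker p).subtype p Subtype.val_injective (LinearMap.exact_subtype_ker_map p) hp
    (lTensor_free_tensor_injective _ (lTensor_quot_ker_injective f hM g hg))

open TensorProduct in
/-- For a ring A, a module M and an element f that is a nonzerodivisor on A and on M, if M_f is flat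
over A_f and M/fM is flat over A/fA then M is flat over A (the source's companion statement for
faithful flatness is not stated). -/
theorem result {A M : Type u} [CommRing A] [AddCommGroup M] [Module A M] (f : A) (hA : f ∈ nonZeroDivisors A) (hM : IsSMulRegular M f)
    [Module.Flat (Localization.Away f) (LocalizedModule (Submonoid.powers f) M)]
    [Module.Flat (A ⧸ Ideal.span {f}) ((A ⧸ Ideal.span {f}) ⊗[A] M)] : Module.Flat A M := by
  rw [Module.Flat.iff_lTensor_injective']
  intro I
  let g := Finsupp.linearCombination A (id : M → M)
  have hg : Function.Surjective g := fun m => ⟨Finsupp.single m 1, by simp [g]⟩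
  let q : I →ₗ[A] I ⧸ (Ideal.span {f} • ⊤ : Submodule A I) := Submodule.mkQ _
  have hreg : Function.Injective ((DistribSMul.toLinearMap A I f).lTensor M) := by
    refine lTensor_injective_of_exact_of_exact_of_rTensor_injective
      (R := A) (M₁ := ↥(LinearMap.ker g)) (M₂ := M →₀ A) (M₃ := M) (f₁ := (LinearMap.ker g).subtype) (f₂ := g) (g₁ := DistribSMul.toLinearMap A I f) (g₂ := q) (LinearMap.exact_subtype_ker_map g) hg
      ?_ (Submodule.mkQ_surjective _) ?_ (Module.Flat.lTensor_preserves_injective_linearMap _ ?_)
    · rw [LinearMap.exact_iff, Submodule.ker_mkQ, Submodule.ideal_span_singleton_smul]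
      ext x
      simp [Submodule.mem_smul_pointwise_iff_exists]
    · exact (LinearMap.lTensor_inj_iff_rTensor_inj _ _).1 (lTensor_ker_injective f hM g hg)
    · intro a b hab
      exact Subtype.ext (mem_nonZeroDivisors_iff_right.1 hA |> fun h => sub_eq_zero.1 (h _ (by
        have := congrArg Subtype.val hab
        simp only [DistribSMul.toLinearMap_apply, Submodule.coe_smul, smul_eq_mul] at this
        rw [sub_mul, mul_comm _ f, mul_comm _ f, this, sub_self])))
  have hpow : ∀ (n : ℕ) (x : M ⊗[A] I), f ^ n • x = 0 → x = 0 := by
    intro n
    induction n with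
    | zero => simp
    | succ n ih =>
      intro x hx
      refine ih x (hreg ?_)
      rw [map_zero, show (DistribSMul.toLinearMap A I f).lTensor M = f • LinearMap.id by ext; simp,
        LinearMap.smul_apply, LinearMap.id_apply, smul_smul, ← pow_succ', hx]
  rw [injective_iff_map_eq_zero]
  intro x hx
  let L := LocalizedModule (Submonoid.powers f) M
  let l := LocalizedModule.mkLinearMap (Submonoid.powers f) M
  haveI : Module.Flat A L := Module.Flat.trans A (Localization.Away f) L
  have hl : l.rTensor I x = 0 := by
    refine Module.Flat.lTensor_preserves_injective_linearMap (M := L) I.subtype Subtype.val_injective ?_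
    rw [map_zero, ← LinearMap.comp_apply, LinearMap.lTensor_comp_rTensor, ← LinearMap.rTensor_comp_lTensor,
      LinearMap.comp_apply, hx, map_zero]
  obtain ⟨⟨_, n, rfl⟩, hc⟩ := (IsLocalizedModule.eq_zero_iff (Submonoid.powers f)
    (TensorProduct.AlgebraTensorModule.rTensor A I l)).1 hl
  exact hpow n x hc

end Groth.Agent.S0399
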