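import Groth.Statements.S0401
import Mathlib

set_option autoImplicit false
universe u
open FlatMor

namespace Groth.Agent.S0401

/-- For a finite type ring map R → S quasi-finite at a prime q lying over p, the dimension of S_q is at
most the dimension of R_p. -/
theorem result {R S : Type u} [CommRing R] [CommRing S] [Algebra R S] [Algebra.FiniteType R S] (q : Ideal S) [q.IsPrime] [Algebra.QuasiFiniteAt R q] :
    ringKrullDim (Localization.AtPrime q) ≤ ringKrullDim (Localization.AtPrime (q.under R)) := by
  let Rp := Localization.AtPrime (q.under R)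
  let Sq := Localization.AtPrime q
  let φ : Rp →+* Sq := Localization.localRingHom (q.under R) q (algebraMap R S) rfl
  refine Order.krullDim_le_of_strictMono (PrimeSpectrum.comap φ) ?_
  intro P Q hPQ
  have hle : PrimeSpectrum.comap φ P ≤ PrimeSpectrum.comap φ Q := Ideal.comap_mono hPQ.le
  refine lt_of_le_of_ne hle fun he => hPQ.ne (PrimeSpectrum.ext ?_)
  haveI : Algebra.QuasiFinite R Sq := ‹Algebra.QuasiFiniteAt R q›
  have hu : ∀ P : PrimeSpectrum Sq, P.asIdeal.under R = (PrimeSpectrum.comap φ P).asIdeal.comap (algebraMap R Rp) := by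
    intro P
    rw [PrimeSpectrum.comap_asIdeal, Ideal.comap_comap, Ideal.under_def]
    congr 1
    ext r
    show algebraMap R Sq r = φ (algebraMap R Rp r)
    rw [Localization.localRingHom_to_map, ← IsScalarTower.algebraMap_apply]
  exact Algebra.QuasiFinite.eq_of_le_of_under_eq P.asIdeal Q.asIdeal hPQ.le (by rw [hu, hu, he])

end Groth.Agent.S0401
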