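import Groth.Statements.S0404
import Groth.Agent.Triage.FibMaxFlat

set_option autoImplicit false
universe u
open FlatMor

namespace Groth.Agent.S0404

open AlgebraicGeometry CategoryTheory Limits in
/-- For a flat morphism of finite presentation (here: flat, quasi-compact, quasi-separated and locally
of finite presentation) the dimension of the fibre is a lower semicontinuous function on the target. -/
theorem result {X S : Scheme.{u}} (f : X ⟶ S) [Flat f] [LocallyOfFinitePresentation f] [QuasiCompact f] [QuasiSeparated f] (c : WithBot ℕ∞) :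
    IsOpen {s : S | c < topologicalKrullDim (f.fiber s)} := by
  rw [isOpen_iff_forall_mem_open]
  intro s (hs : c < topologicalKrullDim (f.fiber s))
  rw [FibDim.topologicalKrullDim_fiber, lt_iSup_iff] at hs
  obtain ⟨⟨z, hz⟩, hcz⟩ := hs
  obtain ⟨v, hv, hfv, hmax, he⟩ := FibDim.exists_fibMax_generization f z
  obtain ⟨U, hvU, hU⟩ := Triage.FibMaxFlat.exists_nhd_fibreDimAt_eq f hmax
  refine ⟨f '' U, ?_, f.isOpenMap _ U.isOpen, ⟨v, hvU, hfv.trans hz⟩⟩
  rintro _ ⟨w, hw, rfl⟩
  obtain ⟨u, hu, hfu, -, hue⟩ := FibDim.exists_fibMax_generization f w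
  show c < topologicalKrullDim (f.fiber (f w))
  rw [FibDim.topologicalKrullDim_fiber, lt_iSup_iff]
  refine ⟨⟨u, hfu⟩, hcz.trans_le ?_⟩
  rw [← hue, hU w hw]
  exact_mod_cast FibDim.rd_le_of_specializes f hv hfv

end Groth.Agent.S0404
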