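import Groth.Statements.S0406
import Mathlib
import Groth.Agent.FlatValCrit.Global

set_option autoImplicit false
universe u
open FlatMor

namespace Groth.Agent.S0406

/-- Raynaud–Gruson, algebra case: a flat finite type algebra over a domain is finitely presented. -/
theorem result {R S : Type u} [CommRing R] [IsDomain R] [CommRing S] [Algebra R S] [Algebra.FiniteType R S] [Module.Flat R S] :
    Algebra.FinitePresentation R S := by
  obtain ⟨n, φ, hφ⟩ := Algebra.FiniteType.iff_quotient_mvPolynomial''.1 ‹Algebra.FiniteType R S›
  let := φ.toRingHom.toAlgebra
  have : IsScalarTower R (MvPolynomial (Fin n) R) S := IsScalarTower.of_algebraMap_eq fun r => (φ.commutes r).symm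
  have : Module.Finite (MvPolynomial (Fin n) R) S := Module.Finite.of_surjective (Algebra.linearMap _ S) hφ
  have : Module.FinitePresentation (MvPolynomial (Fin n) R) S := Groth.Agent.FlatValCrit.finitePresentation_of_flat (R := R)
  exact Algebra.FinitePresentation.of_surjective hφ (Module.FinitePresentation.fg_ker (Algebra.linearMap (MvPolynomial (Fin n) R) S) hφ)

end Groth.Agent.S0406
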