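import Groth.Statements.S0407
import Groth.Agent.UnivInjMod.LinearMain

set_option autoImplicit false
universe u
open FlatMor

namespace Groth.Agent.S0407

open TensorProduct in
/-- For a local homomorphism A → B essentially of finite type, a flat A-module M, a finite B-module N
and an A-linear map u from N to M that is injective modulo the maximal ideal of A: u is universally
injective over A, N is finitely presented over B and N is flat over A (no Noetherian hypothesis). -/
theorem result {A B M N : Type u} [CommRing A] [CommRing B] [IsLocalRing A] [IsLocalRing B] [Algebra A B] [IsLocalHom (algebraMap A B)] [Algebra.EssFiniteType A B]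
    [AddCommGroup M] [Module A M] [Module.Flat A M]
    [AddCommGroup N] [Module A N] [Module B N] [IsScalarTower A B N] [Module.Finite B N]
    (u : N →ₗ[A] M) (h : Function.Injective (LinearMap.lTensor (IsLocalRing.ResidueField A) u)) :
    (∀ (Q : Type u) [AddCommGroup Q] [Module A Q], Function.Injective (LinearMap.rTensor Q u)) ∧
      Module.FinitePresentation B N ∧ Module.Flat A N := by
  have hu : ∀ y, u y ∈ IsLocalRing.maximalIdeal A • (⊤ : Submodule A M) →
      y ∈ IsLocalRing.maximalIdeal A • (⊤ : Submodule A N) := fun y hy => by
    refine (FlatteningIdeal.mk_eq_zero_iff _ _).1 (h (Eq.trans ?_ (map_zero _).symm))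
    exact (LinearMap.lTensor_tmul _ _ _ _).trans ((FlatteningIdeal.mk_eq_zero_iff _ _).2 hy)
  obtain ⟨h1, h2, h3⟩ := Groth.Agent.UnivInjMod.linear_criterion (B := B) u hu
  exact ⟨fun Q _ _ => (LinearMap.lTensor_inj_iff_rTensor_inj Q u).1 (h1 Q), h2, h3⟩

end Groth.Agent.S0407
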