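import Groth.Statements.S0408
import Mathlib
import Groth.Agent.MorLib.ElemEtaleMulti
import Groth.Agent.MorLib.WeightLocal

set_option autoImplicit false
universe u
open FlatMor

namespace Groth.Agent.S0408

open AlgebraicGeometry CategoryTheory Limits in
/-- Étale localization of a quasi-finite point (one-point case): for f separated and locally of finite
type and x isolated in its fibre, after base change along an étale morphism g with a point u over
f(x) having the same residue field, the base change splits off an open and closed piece V, finite
over the base, whose fibre over u is a single point v lying over x with the same residue field as x,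
and no other point over u lies over x. -/
theorem result {X S : Scheme.{u}} (f : X ⟶ S) [LocallyOfFiniteType f] [IsSeparated f] (x : X) (hx : f.QuasiFiniteAt x) :
    ∃ (U : Scheme.{u}) (g : U ⟶ S) (u : U), Etale g ∧ g u = f x ∧ Function.Surjective (g.residueFieldMap u) ∧
      ∃ (V : (pullback f g).Opens) (v : ↑(pullback f g)), IsClopen (V : Set ↑(pullback f g)) ∧
        IsFinite (V.ι ≫ pullback.snd f g) ∧ v ∈ V ∧ pullback.fst f g v = x ∧ pullback.snd f g v = u ∧
        Function.Surjective ((pullback.fst f g).residueFieldMap v) ∧
        (∀ w : ↑(pullback f g), pullback.snd f g w = u → (w ∈ V ∨ pullback.fst f g w = x) → w = v) := by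
  obtain ⟨U, g, u, hu, V, v, hvV, hfin, hsnd, huniq, hfst, hbij⟩ :=
    Groth.Agent.MorLib.EEF.exists_elem_nbhd f x hx
  refine ⟨U, g, u, hu.etale, hu.base_eq, hu.residue_bijective.2, V, v,
    ⟨Groth.Agent.MorLib.WT.isClosed_of_isFinite hfin, V.2⟩, hfin, hvV, hfst, hsnd, hbij.2, ?_⟩
  intro w hw h
  rcases h with h | h
  · exact huniq w h hw
  · obtain ⟨z, -, -, -, hz⟩ := Groth.Agent.MorLib.EEF.exists_unique_point
      (IsPullback.of_hasPullback f g) x u hu.base_eq.symm hu.residue_bijective
    exact (hz w h hw).trans (hz v hfst hsnd).symm

end Groth.Agent.S0408
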