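import Groth.Statements.S0409
import Mathlib
import Groth.Agent.FlatMisc.FiniteDense

set_option autoImplicit false
universe u
open FlatMor

namespace Groth.Agent.S0409

open AlgebraicGeometry CategoryTheory Limits in
/-- A quasi-finite morphism (locally of finite type, quasi-compact, with finite fibres) is finite over a
dense open subset of the target. -/
theorem result {Y X : Scheme.{u}} (f : Y ⟶ X) [LocallyQuasiFinite f] [LocallyOfFiniteType f] [QuasiCompact f] :
    ∃ U : X.Opens, Dense (U : Set ↑X) ∧ IsFinite (f ∣_ U) := by
  exact Groth.Agent.FlatMisc.FiniteDense.exists_dense_isFinite f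

end Groth.Agent.S0409
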