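import Groth.Statements.S0417
import Mathlib
import Groth.Agent.FlatMisc.CiNbhd

set_option autoImplicit false
universe u
open FlatMor

namespace Groth.Agent.S0417

open AlgebraicGeometry CategoryTheory Limits in
/-- Let i : S' → S be a closed immersion that is bijective on points and f : X → S a morphism of finite
type (locally of finite type and quasi-compact) whose base change X ×_S S' → S' is a closed
immersion. Then f is a closed immersion. The published statement alternatively allows S' → S of
finite presentation in place of the finite-type hypothesis on f; only the first alternative is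
stated. -/
theorem result {X S S' : Scheme.{u}} (f : X ⟶ S) (i : S' ⟶ S) [IsClosedImmersion i] (hi : Function.Bijective i)
    [LocallyOfFiniteType f] [QuasiCompact f] [IsClosedImmersion (pullback.snd f i)] : IsClosedImmersion f := by
  haveI : Surjective i := ⟨hi.2⟩
  haveI : UniversallyClosed f := by
    haveI : UniversallyClosed (pullback.fst f i ≫ f) := by rw [pullback.condition]; infer_instance
    haveI : Surjective (pullback.fst f i) := inferInstance
    exact UniversallyClosed.of_comp_surjective (pullback.fst f i) f
  have hloc : ∀ y : S, ∃ U : S.Opens, y ∈ U ∧ IsClosedImmersion (f ∣_ U) := by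
    intro y
    obtain ⟨s, rfl⟩ := hi.2 y
    haveI : IsIso (i.residueFieldMap s) :=
      (ConcreteCategory.isIso_iff_bijective _).2 ⟨RingHom.injective _, fun z => by
        obtain ⟨w, rfl⟩ := S'.residue_surjective s z
        obtain ⟨v, rfl⟩ := i.stalkMap_surjective s w
        exact ⟨S.residue (i s) v, ConcreteCategory.congr_hom (Scheme.residue_residueFieldMap i s) v⟩⟩
    have hres : IsIso (Spec.map (i.residueFieldMap s)) := inferInstance
    have hp := isPullback_fiberToSpecResidueField_of_isPullback (IsPullback.of_hasPullback f i) s
    haveI : IsClosedImmersion ((pullback.snd f i).fiberToSpecResidueField s) :=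
      inferInstanceAs (IsClosedImmersion (pullback.snd (pullback.snd f i) _))
    haveI := hres
    have hiso := hp.isIso_fst_of_isIso
    haveI : IsClosedImmersion (f.fiberToSpecResidueField (i s)) :=
      (MorphismProperty.arrow_mk_iso_iff @IsClosedImmersion
        (Arrow.isoMk (f := Arrow.mk ((pullback.snd f i).fiberToSpecResidueField s))
          (g := Arrow.mk (f.fiberToSpecResidueField (i s))) (@asIso _ _ _ _ _ hiso)
          (@asIso _ _ _ _ _ hres) hp.w)).mp inferInstance
    haveI : UniversallyClosed (f ∣_ (⊤ : S.Opens)) :=
      IsZariskiLocalAtTarget.restrict (P := @UniversallyClosed) inferInstance _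
    exact FlatMisc.exists_ci_nbhd f (i s) (V := ⊤) trivial
  choose U hyU hU using hloc
  exact IsZariskiLocalAtTarget.of_iSup_eq_top (P := @IsClosedImmersion) U
    (eq_top_iff.2 fun z _ => TopologicalSpace.Opens.mem_iSup.2 ⟨z, hyU z⟩) hU

end Groth.Agent.S0417
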