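import Groth.Statements.S0418
import Groth.Agent.MorLib.RingUnivHomeoTower
import Mathlib.RingTheory.Spectrum.Prime.Homeomorph
import Mathlib.NumberTheory.Basic
import Mathlib.RingTheory.Localization.Away.Basic

set_option autoImplicit false
universe u
open FlatMor

namespace Groth.Agent.S0418

open Groth.Agent.MorLib.RUH AlgebraicGeometry CategoryTheory in
theorem key {A B : Type u} [CommRing A] [CommRing B] [Algebra A B]
    (hinj : Function.Injective (algebraMap A B)) (hU : FlatMor.IsUnivHomeo (Spec.map (CommRingCat.ofHom (algebraMap A B))))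
    (p : ℕ) (hp : p.Prime) (hloc : ∀ b : B, ∃ m : ℕ, (p ^ m : B) * b ∈ (algebraMap A B).range)
    (b : B) : ∃ n : ℕ, (p ^ n : B) * b ∈ (algebraMap A B).range ∧ b ^ (p ^ n) ∈ (algebraMap A B).range := by
  classical
  haveI : Algebra.IsIntegral A B := ⟨((isUnivHomeo_SpecMap_iff _).mp hU).1⟩
  have htower : ∀ E : Finset B, ∃ l : List B, (↑E : Set B) ⊆ Algebra.adjoin A {b : B | b ∈ l} ∧
      Good (A := A) StepP l := fun E => by
    obtain ⟨l, hl, hg⟩ := exists_good_of_exists_step (StepP (A := A) (B := B)) stepP_mono stepP_fin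
      (fun T hT => by
        obtain ⟨b, hb, hs⟩ := exists_step_subalgebra hU Nat.Prime (fun _ h => h.two_le)
          (fun q b => exists_pow_of_radicial _ ((isUnivHomeo_SpecMap_iff _).mp hU).2.1 q b) T hT
        exact ⟨b, hb, hs⟩) E
    exact ⟨l, hl, hg⟩
  -- modulo `p`, every element has a `p`-power in the image
  let P : B → Prop := fun x => ∃ (n : ℕ) (a : A) (c : B), x ^ (p ^ n) = algebraMap A B a + (p : B) * c
  have hup : ∀ (x : B) (n k : ℕ) (a : A) (c : B), x ^ (p ^ n) = algebraMap A B a + (p : B) * c →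
      ∃ c', x ^ (p ^ (n + k)) = algebraMap A B (a ^ (p ^ k)) + (p : B) * c' := by
    intro x n k a c hx
    obtain ⟨r, hr⟩ := dvd_sub_pow_of_dvd_sub (p := p) (a := x ^ (p ^ n)) (b := algebraMap A B a)
      ⟨c, by rw [hx, add_sub_cancel_left]⟩ k
    refine ⟨(p : B) ^ k * r, ?_⟩
    rw [pow_add, pow_mul, map_pow, ← mul_assoc, ← pow_succ', ← hr, add_sub_cancel]
  have hPmul : ∀ x y, P x → P y → P (x * y) := by
    rintro x y ⟨n, a, c, hx⟩ ⟨m, a', c', hy⟩
    obtain ⟨u, hu⟩ := hup x n m a c hx
    obtain ⟨v, hv⟩ := hup y m n a' c' hy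
    refine ⟨n + m, a ^ (p ^ m) * a' ^ (p ^ n), algebraMap A B (a ^ (p ^ m)) * v +
      u * (algebraMap A B (a' ^ (p ^ n)) + (p : B) * v), ?_⟩
    rw [add_comm m n] at hv
    rw [mul_pow, hu, hv, map_mul]
    ring
  have hfrob : ∀ (x y : B) (N : ℕ), ∃ c, (x + y) ^ (p ^ N) = x ^ (p ^ N) + y ^ (p ^ N) + (p : B) * c := by
    intro x y N
    obtain ⟨c, hc⟩ := exists_add_pow_prime_pow_eq (R := B) hp x y N
    exact ⟨x * y * c, by rw [hc]; ring⟩
  have hPadd : ∀ x y, P x → P y → P (x + y) := by
    rintro x y ⟨n, a, c, hx⟩ ⟨m, a', c', hy⟩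
    obtain ⟨u, hu⟩ := hup x n m a c hx
    obtain ⟨v, hv⟩ := hup y m n a' c' hy
    obtain ⟨w, hw⟩ := hfrob x y (n + m)
    refine ⟨n + m, a ^ (p ^ m) + a' ^ (p ^ n), u + v + w, ?_⟩
    rw [add_comm m n] at hv
    rw [hw, hu, hv, map_add]
    ring
  let C : Subalgebra A B :=
    { carrier := {x | P x}
      mul_mem' := fun {x y} hx hy => hPmul x y hx hy
      add_mem' := fun {x y} hx hy => hPadd x y hx hy
      algebraMap_mem' := fun a => ⟨0, a, 0, by rw [pow_zero, pow_one, mul_zero, add_zero]⟩ }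
  have hCp : ∀ x, (p : B) * x ∈ C := fun x => ⟨0, 0, x, by rw [pow_zero, pow_one, map_zero, zero_add]⟩
  have hroot : ∀ x, x ^ p ∈ C → x ∈ C := by
    rintro x ⟨n, a, c, hx⟩
    refine ⟨n + 1, a, c, ?_⟩
    rw [← hx, ← pow_mul, pow_succ']
  have hC : ∀ x, StepP C x → x ∈ C := by
    rintro x (⟨h2, h3⟩ | ⟨q, hq, h1, h2⟩)
    · refine hroot x ?_
      have : ∀ j, x ^ (j + 2) ∈ C := by
        intro j
        induction j using Nat.strong_induction_on with
        | h j ih =>
          rcases j with _ | _ | j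
          · exact h2
          · exact h3
          · rw [show j + 1 + 1 + 2 = (j + 2) + 2 by omega, pow_add]
            exact mul_mem (ih j (by omega)) h2
      obtain ⟨d, hd⟩ : ∃ d, p = d + 2 := ⟨p - 2, by have := hp.two_le; omega⟩
      rw [hd]
      exact this d
    · by_cases hqp : q = p
      · subst hqp; exact hroot x h2
      · obtain ⟨u, v, huv⟩ := (Nat.isCoprime_iff_coprime.mpr ((Nat.coprime_primes hq hp).mpr hqp))
        have hx : x = (u : B) * ((q : B) * x) + (v : B) * ((p : B) * x) := by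
          have := congrArg (fun z : ℤ => (z : B) * x) huv
          simp only [Int.cast_add, Int.cast_mul, Int.cast_natCast, Int.cast_one, one_mul] at this
          conv_lhs => rw [← this]
          ring
        rw [hx]
        exact add_mem (mul_mem (intCast_mem C u) h1) (mul_mem (intCast_mem C v) (hCp x))
  obtain ⟨n, a, c, hc⟩ := mem_of_good stepP_mono htower C hC b
  -- uniform exponent on the finite algebra generated by `c`
  obtain ⟨G, hG⟩ := (Algebra.IsIntegral.isIntegral (R := A) c).fg_adjoin_singleton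
  choose m hm using hloc
  let M := G.sup m
  have hmono : ∀ (x : B) (i j : ℕ), i ≤ j → (p ^ i : B) * x ∈ (algebraMap A B).range →
      (p ^ j : B) * x ∈ (algebraMap A B).range := by
    intro x i j hij h
    rw [← Nat.sub_add_cancel hij, pow_add, mul_assoc]
    exact mul_mem ⟨(p : A) ^ (j - i), by simp⟩ h
  have hM : ∀ x ∈ Algebra.adjoin A {c}, (p ^ (M + 1) : B) * x ∈ (algebraMap A B).range := by
    intro x hx
    have hx' : x ∈ Submodule.span A (G : Set B) := by rw [hG]; exact hx
    clear hx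
    induction hx' using Submodule.span_induction with
    | mem g hg =>
      exact hmono g _ _ ((Finset.le_sup (f := m) (Finset.mem_coe.mp hg)).trans (Nat.le_succ _)) (hm g)
    | zero => rw [mul_zero]; exact zero_mem _
    | add x y _ _ h1 h2 => rw [mul_add]; exact add_mem h1 h2
    | smul r x _ h1 =>
      rw [Algebra.smul_def, mul_left_comm]
      exact mul_mem ⟨r, rfl⟩ h1
  have hb : b ^ (p ^ (n + M)) ∈ (algebraMap A B).range := by
    let S := Algebra.adjoin A {c}
    let a' : S := algebraMap A S a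
    let x' : S := a' + (p : S) * ⟨c, Algebra.self_mem_adjoin_singleton A c⟩
    obtain ⟨r, hr⟩ := dvd_sub_pow_of_dvd_sub (p := p) (a := x') (b := a')
      ⟨⟨c, Algebra.self_mem_adjoin_singleton A c⟩, add_sub_cancel_left a' _⟩ M
    have hr' := congrArg (fun z : S => (z : B)) hr
    simp only [x', a', AddSubgroupClass.coe_sub, SubmonoidClass.coe_pow, Subalgebra.coe_add,
      Subalgebra.coe_mul, Subalgebra.coe_algebraMap] at hr'
    have hS : ((p : S) : B) = (p : B) := map_natCast S.val p
    rw [hS, ← hc, ← pow_mul, ← pow_add, sub_eq_iff_eq_add] at hr'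
    rw [hr']
    exact add_mem (hM _ r.2) (pow_mem (Set.mem_range_self a) _)
  refine ⟨max (m b) (n + M), hmono b _ _ (le_max_left _ _) (hm b), ?_⟩
  rw [← Nat.add_sub_of_le (le_max_right (m b) (n + M)), pow_add, pow_mul]
  exact pow_mem hb _


open AlgebraicGeometry in
/-- For a prime number p and a ring map A → B that becomes an isomorphism after inverting p, Spec B →
Spec A is a universal homeomorphism if and only if the kernel consists of nilpotents and every
element of B has some p-power multiple and p-power power in the image. -/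
theorem result {A B : Type u} [CommRing A] [CommRing B] (φ : A →+* B) (p : ℕ) (hp : p.Prime)
    (h : Function.Bijective (Localization.awayMap φ (p : A))) :
    FlatMor.IsUnivHomeo (Spec.map (CommRingCat.ofHom φ)) ↔
      (∀ a ∈ RingHom.ker φ, IsNilpotent a) ∧ ∀ b : B, ∃ n : ℕ, (p ^ n : B) * b ∈ φ.range ∧ b ^ (p ^ n) ∈ φ.range := by
  constructor
  · intro hU
    obtain ⟨hi, hr, hs⟩ := (Groth.Agent.MorLib.RUH.isUnivHomeo_SpecMap_iff φ).mp hU
    refine ⟨fun a ha => ?_, fun b => ?_⟩
    · refine mem_nilradical.mp ?_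
      rw [nilradical_eq_sInf, Submodule.mem_sInf]
      intro P hP
      obtain ⟨Q, hQ⟩ := hs ⟨P, hP⟩
      rw [show P = (PrimeSpectrum.comap φ Q).asIdeal by rw [hQ]]
      show φ a ∈ Q.asIdeal
      rw [RingHom.mem_ker.mp ha]
      exact zero_mem _
    · letI : Algebra φ.range B := φ.range.subtype.toAlgebra
      have hinj : Function.Injective (algebraMap φ.range B) := Subtype.val_injective
      have hsub : ∀ x, x ∈ (algebraMap φ.range B).range ↔ x ∈ φ.range :=
        fun x => ⟨by rintro ⟨y, rfl⟩; exact y.2, fun hx => ⟨⟨x, hx⟩, rfl⟩⟩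
      have hint : (algebraMap φ.range B).IsIntegral :=
        RingHom.IsIntegral.tower_top φ.rangeRestrict _ (by exact hi)
      have hrad : Groth.Agent.MorLib.RUH.Radicial (algebraMap φ.range B) := fun K _ f g hfg =>
        hr K f g (RingHom.ext fun a => congr($hfg ⟨φ a, a, rfl⟩))
      obtain ⟨n, h1, h2⟩ := key hinj (Groth.Agent.MorLib.RUH.isUnivHomeo_of_injective _ hinj hint hrad)
        p hp (fun b => by
          obtain ⟨a, m, hm⟩ := Localization.awayMap_surjective_iff.mp h.2 b
          refine ⟨m, (hsub _).mpr ⟨a, ?_⟩⟩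
          rw [hm, map_natCast]) b
      exact ⟨n, (hsub _).mp h1, (hsub _).mp h2⟩
  · rintro ⟨hk, hb⟩
    have H : ∀ b : B, ∃ n > 0, b ^ n ∈ φ.range := fun b => by
      obtain ⟨n, -, h2⟩ := hb b
      exact ⟨p ^ n, pow_pos hp.pos n, h2⟩
    refine (Groth.Agent.MorLib.RUH.isUnivHomeo_SpecMap_iff φ).mpr ⟨fun b => ?_, fun K _ f g hfg => ?_, ?_⟩
    · obtain ⟨n, hn, y, hy⟩ := H b
      letI := φ.toAlgebra
      exact IsIntegral.of_pow hn (hy ▸ isIntegral_algebraMap)
    · ext b
      obtain ⟨n, ⟨a, ha⟩, c, hc⟩ := hb b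
      have h1 : f ((p ^ n : B) * b) = g ((p ^ n : B) * b) := by rw [← ha]; exact congr($hfg a)
      have h2 : f (b ^ (p ^ n)) = g (b ^ (p ^ n)) := by rw [← hc]; exact congr($hfg c)
      simp only [map_mul, map_pow, map_natCast] at h1 h2
      by_cases hK : (p : K) = 0
      · haveI := (CharP.charP_iff_prime_eq_zero hp).mpr hK
        haveI : Fact p.Prime := ⟨hp⟩
        exact iterateFrobenius_inj K p n h2
      · exact mul_left_cancel₀ (pow_ne_zero n hK) h1
    · exact (PrimeSpectrum.isHomeomorph_comap φ H fun a ha => mem_nilradical.mpr (hk a ha)).surjective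

end Groth.Agent.S0418
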