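import Groth.Statements.S0425
import Groth.Agent.MorLib.UnivHomeo
import Mathlib

set_option autoImplicit false
universe u
open FlatMor

namespace Groth.Agent.S0425

open AlgebraicGeometry CategoryTheory Limits in
/-- A weakly étale universal homeomorphism is an isomorphism. -/
theorem result {X Y : Scheme.{u}} (f : X ⟶ Y) [WeaklyEtale f] (h : FlatMor.IsUnivHomeo f) : IsIso f := by
  have key : ∀ {A B : Scheme.{u}} (g : A ⟶ B) [Mono g] [Flat g] [Surjective g] [QuasiCompact g], IsIso g := by
    intro A B g _ _ _ _
    exact MorphismProperty.of_isPullback_of_descendsAlong (P := MorphismProperty.isomorphisms Scheme.{u})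
      (Q := (@Surjective ⊓ @Flat) ⊓ @QuasiCompact) (IsKernelPair.id_of_mono g)
      ⟨⟨inferInstance, inferInstance⟩, inferInstance⟩ (MorphismProperty.isomorphisms.infer_property (𝟙 A))
  haveI := Groth.Agent.MorLib.surjective_of_isUnivHomeo h
  haveI := Groth.Agent.MorLib.isAffineHom_of_isUnivHomeo h
  haveI := Groth.Agent.MorLib.universallyInjective_of_isUnivHomeo h
  haveI : Surjective (pullback.diagonal f) := (UniversallyInjective.iff_diagonal f).1 inferInstance
  haveI : IsIso (pullback.diagonal f) := key _
  haveI : Mono f := (pullback.isIso_diagonal_iff f).1 inferInstance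
  exact key f

end Groth.Agent.S0425
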