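import Groth.Statements.S0428
import Mathlib
import Groth.Agent.FlatValCrit.Global

set_option autoImplicit false
universe u
open FlatMor

namespace Groth.Agent.S0428

/-- Let R be a domain, S an R-algebra of finite type and M a finite S-module. Then the set of primes q
of S such that the localization M_q is flat over R is open in Spec S. (The published statement
assumes only that R has finitely many weakly associated primes, which a domain has, and also
describes the module over principal opens inside this set; neither refinement is stated here.) -/
theorem result {R S M : Type u} [CommRing R] [IsDomain R] [CommRing S] [Algebra R S] [Algebra.FiniteType R S]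
    [AddCommGroup M] [Module S M] [Module R M] [IsScalarTower R S M] [Module.Finite S M] :
    IsOpen {q : PrimeSpectrum S | Module.Flat R (LocalizedModule q.asIdeal.primeCompl M)} := by
  rw [isOpen_iff_forall_mem_open]
  intro q hq
  obtain ⟨g, hg, h⟩ := Groth.Agent.FlatValCrit.exists_flat_nhd_of_domain (R := R) (M := M) q.asIdeal hq
  exact ⟨PrimeSpectrum.basicOpen g, fun p hp => h p.asIdeal hp, PrimeSpectrum.isOpen_basicOpen, hg⟩

end Groth.Agent.S0428
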