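import Groth.Statements.S0430
import Mathlib
import Groth.Agent.RingPO.Props

set_option autoImplicit false
universe u
open FlatMor

namespace Groth.Agent.S0430

open AlgebraicGeometry CategoryTheory Limits in
/-- The pushout of a closed immersion Z → X and an integral morphism Z → Y exists in the category of
schemes provided every fibre of Z → Y lies in the preimage of some affine open of X; the pushout
square is also cartesian, X maps to the pushout by an integral morphism and Y by a closed immersion
(the source's description of the structure sheaf of the pushout as a fibre product of sheaves is not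
restated). -/
theorem result {X Y Z : Scheme.{u}} (i : Z ⟶ X) (j : Z ⟶ Y) [IsClosedImmersion i] [IsIntegralHom j]
    (haff : ∀ y : ↑Y, ∃ U : X.Opens, IsAffineOpen U ∧ j ⁻¹' {y} ⊆ i ⁻¹' (U : Set ↑X)) :
    ∃ (P : Scheme.{u}) (a : X ⟶ P) (b : Y ⟶ P), IsPushout i j a b ∧ IsPullback i j a b ∧ IsIntegralHom a ∧ IsClosedImmersion b := by
  have hY := fun y => RingPO.chart_of_integral haff y
  have h := RingPO.isPushout_glued hY
  exact ⟨_, _, _, h, RingPO.isPullback_of_isPushout h hY, RingPO.isIntegralHom_inl h hY, RingPO.isClosedImmersion_inr h hY⟩

end Groth.Agent.S0430
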