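import Groth.Statements.S0433
import Mathlib
import Groth.Agent.RingPO.Cat

set_option autoImplicit false
universe u
open FlatMor

namespace Groth.Agent.S0433

open AlgebraicGeometry CategoryTheory Limits in
/-- For a surjective ring map A' → A and any ring map B → A, the spectra of A, A', B and of the fibre
product ring B ×_A A' form a pushout square of schemes. -/
theorem result {A A' B : Type u} [CommRing A] [CommRing A'] [CommRing B] (p : A' →+* A) (hp : Function.Surjective p) (q : B →+* A) :
    IsPushout (Spec.map (CommRingCat.ofHom p)) (Spec.map (CommRingCat.ofHom q))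
      (Spec.map (pullback.snd (CommRingCat.ofHom q) (CommRingCat.ofHom p)))
      (Spec.map (pullback.fst (CommRingCat.ofHom q) (CommRingCat.ofHom p))) := by
  let P : CommRingCat.{u} := pullback (CommRingCat.ofHom q) (CommRingCat.ofHom p)
  let α : P →+* A' := (pullback.snd (CommRingCat.ofHom q) (CommRingCat.ofHom p)).hom
  let β : P →+* B := (pullback.fst (CommRingCat.ofHom q) (CommRingCat.ofHom p)).hom
  exact (RingPO.isFibreProd_of_isPullback (C := P) (α := α) (β := β) hp
    (IsPullback.of_hasPullback _ _).flip).isPushout

end Groth.Agent.S0433
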