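import Groth.Statements.S0439
import Mathlib
import Groth.Agent.FlatMisc.NowhereDense

set_option autoImplicit false
universe u
open FlatMor

namespace Groth.Agent.S0439

open AlgebraicGeometry CategoryTheory Limits in
/-- A quasi-finite morphism (locally of finite type, quasi-compact, with discrete fibres) maps closed
nowhere dense subsets to nowhere dense subsets. -/
theorem result {Y X : Scheme.{u}} (f : Y ⟶ X) [LocallyQuasiFinite f] [LocallyOfFiniteType f] [QuasiCompact f]
    (T : Set ↑Y) (hT : IsClosed T) (hT' : IsNowhereDense T) : IsNowhereDense (f '' T) := by
  exact Groth.Agent.FlatMisc.NowhereDense.isNowhereDense_image f hT hT'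

end Groth.Agent.S0439
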