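import Groth.Statements.S0441
import Mathlib
import Groth.Agent.FlatMisc.FiniteSectionCover

set_option autoImplicit false
universe u
open FlatMor

namespace Groth.Agent.S0441

open AlgebraicGeometry CategoryTheory Limits in
/-- For a surjective, flat morphism locally of finite presentation U → S (an fppf cover by one morphism)
with S quasi-compact and quasi-separated, there is a surjective finite morphism of finite
presentation S' → S that factors through U locally on S'. -/
theorem result {U S : Scheme.{u}} (g : U ⟶ S) [Flat g] [LocallyOfFinitePresentation g] [Surjective g] [CompactSpace ↑S] [QuasiSeparatedSpace ↑S] :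
    ∃ (S' : Scheme.{u}) (π : S' ⟶ S), Surjective π ∧ IsFinite π ∧ LocallyOfFinitePresentation π ∧
      ∀ y : ↑S', ∃ (V : S'.Opens) (h : ↑V ⟶ U), y ∈ V ∧ h ≫ g = V.ι ≫ π := by
  exact FlatMisc.FiniteSectionCover.main g

end Groth.Agent.S0441
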