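import Groth.Statements.S0443
import Mathlib
import Groth.Agent.FlatMisc.SingletonFibre

set_option autoImplicit false
universe u
open FlatMor

namespace Groth.Agent.S0443

open AlgebraicGeometry CategoryTheory Limits in
/-- For a finite morphism π : X → Y and a point x of X that is the only point of its fibre, the induced
homomorphism of local rings O_{Y,π(x)} → O_{X,x} is finite. (The published lemma has further parts,
not stated here.) -/
theorem result {X Y : Scheme.{u}} (π : X ⟶ Y) [IsFinite π] (x : X) (hx : ∀ x' : ↑X, π x' = π x → x' = x) :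
    (π.stalkMap x).hom.Finite := by
  obtain ⟨_, ⟨V, hV, rfl⟩, hxV, -⟩ :=
    Y.isBasis_affineOpens.exists_subset_of_mem_open (Set.mem_univ (π x)) isOpen_univ
  have hU : IsAffineOpen (π ⁻¹ᵁ V) := hV.preimage π
  have hx' : x ∈ π ⁻¹ᵁ V := hxV
  rw [RingHom.finite_respectsIso.arrow_mk_iso_iff (IsAffineOpen.arrowStalkMapIso π V hV (π ⁻¹ᵁ V) hU le_rfl hx')]
  haveI := (hV.primeIdealOf ⟨π x, hxV⟩).isPrime
  haveI := (hU.primeIdealOf ⟨x, hx'⟩).isPrime
  refine FlatMisc.finite_localRingHom_of_unique _ ?_ _ _ (congrArg PrimeSpectrum.asIdeal (IsAffineOpen.comap_primeIdealOf_appLE V hV (π ⁻¹ᵁ V) hU le_rfl hx')).symm (fun Q hQ hQc => ?_)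
  · rw [Scheme.Hom.appLE_eq_app]
    exact π.finite_app V hV
  · let x' : ↑X := hU.fromSpec (⟨Q, hQ⟩ : PrimeSpectrum _)
    have h1 : π x' = π x := by
      have h2 := congrArg (fun g => g.base (⟨Q, hQ⟩ : PrimeSpectrum _)) (hV.SpecMap_appLE_fromSpec π hU le_rfl)
      simp only [Scheme.Hom.comp_base, TopCat.comp_app] at h2
      rw [show π x' = hV.fromSpec ((Spec.map (π.appLE V (π ⁻¹ᵁ V) le_rfl)).base (⟨Q, hQ⟩ : PrimeSpectrum _)) from h2.symm]
      have h3 : (Spec.map (π.appLE V (π ⁻¹ᵁ V) le_rfl)).base (⟨Q, hQ⟩ : PrimeSpectrum _) = hV.primeIdealOf ⟨π x, hxV⟩ :=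
        PrimeSpectrum.ext hQc
      rw [h3]
      exact hV.fromSpec_primeIdealOf ⟨π x, hxV⟩
    have h4 : hU.fromSpec (⟨Q, hQ⟩ : PrimeSpectrum _) = hU.fromSpec (hU.primeIdealOf ⟨x, hx'⟩) :=
      (hx x' h1).trans (hU.fromSpec_primeIdealOf ⟨x, hx'⟩).symm
    exact congrArg PrimeSpectrum.asIdeal (hU.fromSpec.isOpenEmbedding.injective h4)

end Groth.Agent.S0443
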