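import Groth.Statements.S0445
import Mathlib

set_option autoImplicit false
universe u
open FlatMor

namespace Groth.Agent.S0445

open AlgebraicGeometry CategoryTheory Limits in
/-- Two morphisms over S into an S-scheme unramified over S which agree at a point and induce the same
map on residue fields there agree on an open neighbourhood of that point. -/
theorem result {X Y S : Scheme.{u}} (p : Y ⟶ S) [FormallyUnramified p] [LocallyOfFiniteType p] (f g : X ⟶ Y) (hfg : f ≫ p = g ≫ p)
    (x : X) (h1 : f x = g x) (h2 : f.residueFieldMap x = (Y.residueFieldCongr h1).hom ≫ g.residueFieldMap x) :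
    ∃ U : X.Opens, x ∈ U ∧ U.ι ≫ f = U.ι ≫ g := by
  open Limits in
  let q : X ⟶ pullback p p := pullback.lift f g hfg
  have hx : X.fromSpecResidueField x ≫ f = X.fromSpecResidueField x ≫ g := by
    rw [← Scheme.Hom.SpecMap_residueFieldMap_fromSpecResidueField, ← Scheme.Hom.SpecMap_residueFieldMap_fromSpecResidueField,
      h2, Spec.map_comp, Category.assoc, Scheme.residueFieldCongr_fromSpecResidueField]
  haveI : IsOpenImmersion (pullback.diagonal p) := inferInstance
  let U : X.Opens := q ⁻¹ᵁ (pullback.diagonal p).opensRange
  have hxU : x ∈ U := by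
    change q.base x ∈ Set.range (pullback.diagonal p).base
    have h3 : X.fromSpecResidueField x ≫ q = (X.fromSpecResidueField x ≫ f) ≫ pullback.diagonal p := by
      apply pullback.hom_ext
      · simp only [Category.assoc, pullback.diagonal_fst, Category.comp_id]
        exact congrArg (X.fromSpecResidueField x ≫ ·) (pullback.lift_fst f g hfg)
      · simp only [Category.assoc, pullback.diagonal_snd, Category.comp_id]
        exact (congrArg (X.fromSpecResidueField x ≫ ·) (pullback.lift_snd f g hfg)).trans hx.symm
    refine ⟨(X.fromSpecResidueField x ≫ f).base (IsLocalRing.closedPoint _), ?_⟩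
    exact (congrArg (fun m => m.base (IsLocalRing.closedPoint _)) h3).symm.trans (congrArg q.base (X.fromSpecResidueField_apply x _))
  refine ⟨U, hxU, ?_⟩
  have hr : Set.range (U.ι ≫ q).base ⊆ Set.range (pullback.diagonal p).base := by
    rintro _ ⟨u, rfl⟩
    exact u.2
  have h4 := IsOpenImmersion.lift_fac (pullback.diagonal p) (U.ι ≫ q) hr
  have h5 := congrArg (· ≫ pullback.fst p p) h4
  have h6 := congrArg (· ≫ pullback.snd p p) h4
  simp only [Category.assoc, q, pullback.lift_fst, pullback.lift_snd, pullback.diagonal_fst, pullback.diagonal_snd, Category.comp_id] at h5 h6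
  exact h5.symm.trans h6

end Groth.Agent.S0445
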