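import Groth.Statements.S1254
import Groth.Agent.RG.DevissageGlobal
import Mathlib.RingTheory.Finiteness.ModuleFinitePresentation

set_option autoImplicit false
universe u
open FlatMor

namespace Groth.Agent.S1254

set_option maxHeartbeats 2000000 in
open TensorProduct in
/-- Let S be a finitely presented R-algebra, N a finitely presented S-module which is flat over R, and 𝔯
a prime of R such that N/S/R admits a complete dévissage over 𝔯. Then for some f ∈ R outside 𝔯 the
localization N_f is projective over R_f, and is R_f-isomorphic to a finite product of free modules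
B_i^{r_i} over smooth R_f-algebras B_i whose fibres are geometrically irreducible. -/
theorem result {R S : Type u} [CommRing R] [CommRing S] [Algebra R S] [Algebra.FinitePresentation R S]
    (N : Type u) [AddCommGroup N] [Module S N] [Module R N] [IsScalarTower R S N] [Module.FinitePresentation S N] [Module.Flat R N]
    (rr : Ideal R) [rr.IsPrime] (D : FlatCA.CompleteDevissage R S N rr) :
    ∃ f : R, f ∉ rr ∧
      Module.Projective (Localization.Away f) (LocalizedModule (Submonoid.powers f) N) ∧
      ∃ (k : ℕ) (B : Fin k → Type u) (_ : ∀ i, CommRing (B i)) (_ : ∀ i, Algebra (Localization.Away f) (B i)) (r : Fin k → ℕ),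
        (∀ i, Algebra.Smooth (Localization.Away f) (B i) ∧ FlatCA.GeomIrredFibres (Localization.Away f) (B i)) ∧
        Nonempty (LocalizedModule (Submonoid.powers f) N ≃ₗ[Localization.Away f] (∀ i, Fin (r i) → B i)) := by
  classical
  open Groth.Agent.RG in
  haveI hRAM : ∀ i, IsScalarTower R (D.A i) (D.M i) := fun i => IsScalarTower.of_algebraMap_smul fun a x => by
    rw [IsScalarTower.algebraMap_apply R (D.B i) (D.A i), algebraMap_smul, algebraMap_smul]
  haveI hRBM' : ∀ i, IsScalarTower R (D.B i) (D.M (i + 1)) := fun i => IsScalarTower.of_algebraMap_smul fun a x => by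
    rw [← algebraMap_smul (D.A (i + 1)) (algebraMap R (D.B i) a) x, ← IsScalarTower.algebraMap_apply, algebraMap_smul]
  haveI hRSM : IsScalarTower R S (D.M 0) := IsScalarTower.of_algebraMap_smul fun a x => by
    rw [← algebraMap_smul (D.A 0) (algebraMap R S a) x, ← IsScalarTower.algebraMap_apply, algebraMap_smul]
  have hAfp : ∀ i, i < D.n → Algebra.FinitePresentation R (D.A i) := by
    intro i hi
    cases i with
    | zero => haveI := D.fpSA; exact Algebra.FinitePresentation.trans R S (D.A 0)
    | succ i =>
      haveI := D.smooth i (by omega); haveI := D.fpBA' i hi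
      exact Algebra.FinitePresentation.trans R (D.B i) (D.A (i + 1))
  have hfpA : ∀ i, i < D.n → Module.FinitePresentation (D.A i) (D.M i) →
      Module.FinitePresentation (D.B i) (D.M i) := by
    intro i hi h
    haveI := hAfp i hi; haveI := D.finiteBA i hi; haveI := D.smooth i hi; haveI := h
    haveI : Algebra.FinitePresentation (D.B i) (D.A i) := Algebra.FinitePresentation.of_restrict_scalars_finitePresentation R _ _
    haveI : Module.FinitePresentation (D.B i) (D.A i) := Module.FinitePresentation.of_finite_of_finitePresentation _ _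
    exact Module.FinitePresentation.trans (D.B i) (D.M i) (D.A i)
  have fwd : ∀ i, i ≤ D.n → ∃ F, F ∉ rr ∧
      (∀ j, j < i → UnivInjUpTo R (Algebra.algebraMapSubmonoid (D.B j) (sat F)) (D.α j)) ∧
      (i < D.n → Module.FinitePresentation (D.B i) (D.M i) ∧
        Module.Flat R (LocalizedModule (Algebra.algebraMapSubmonoid (D.B i) (sat F)) (D.M i))) := by
    intro i
    induction i with
    | zero =>
      intro _
      refine ⟨1, fun h => (Ideal.IsPrime.ne_top ‹_›) ((Ideal.eq_top_iff_one _).2 h), fun j hj => absurd hj (Nat.not_lt_zero j), fun hi => ?_⟩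
      haveI : Module.FinitePresentation S (D.M 0) := Module.FinitePresentation.of_equiv D.isoN
      haveI := D.finiteM 0 hi
      haveI : Module.Finite S (D.A 0) := Module.Finite.of_surjective (Algebra.linearMap S (D.A 0)) D.surjSA
      refine ⟨hfpA 0 hi (fp_of_restrict (S := S)), ?_⟩
      haveI : Module.Flat R (D.M 0) := Module.Flat.of_linearEquiv (D.isoN.restrictScalars R).symm
      exact (FlatModel.flat_localized_iff (Algebra.algebraMapSubmonoid (D.B 0) (sat (1 : R))) (LocalizedModule.mkLinearMap (Algebra.algebraMapSubmonoid (D.B 0) (sat (1 : R))) (D.M 0))).2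
        fun J y hy => ⟨1, one_mem _, by
          rw [(Module.Flat.iff_lTensor_injective'.1 ‹Module.Flat R (D.M 0)› J) (hy.trans (map_zero _).symm), smul_zero]⟩
    | succ i ih =>
      intro hi
      obtain ⟨F, hF, hu, hm⟩ := ih (by omega)
      obtain ⟨hfp, hflat⟩ := hm (by omega)
      haveI := D.smooth i (by omega); haveI := hfp
      obtain ⟨G, hG, hFG, huG, hflatG⟩ := step_powers (domFib_of_smooth_geomIrred (D.geomIrred i (by omega))) rr hF hflat
        (D.α i) (D.fibreIso i (by omega))
      refine ⟨G, hG, fun j hj => ?_, fun hi' => ?_⟩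
      · rcases Nat.lt_succ_iff_lt_or_eq.1 hj with h | h
        · exact (hu j h).mono (satImage_mono hFG)
        · exact h ▸ huG
      · haveI := D.finiteM (i + 1) hi'; haveI := D.fpBA' i hi'
        haveI : Module.Finite (D.B i) (D.A (i + 1)) :=
          Module.Finite.of_surjective (Algebra.linearMap (D.B i) (D.A (i + 1))) (D.surjBA' i hi')
        haveI : Module.FinitePresentation (D.B i) (D.M i ⧸ LinearMap.range (D.α i)) :=
          Module.finitePresentation_of_surjective (LinearMap.range (D.α i)).mkQ (Submodule.mkQ_surjective _)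
            (by rw [Submodule.ker_mkQ, LinearMap.range_eq_map]; exact Module.Finite.fg_top.map (D.α i))
        haveI : Module.FinitePresentation (D.B i) (D.M (i + 1)) := Module.FinitePresentation.of_equiv (D.isoCoker i hi')
        refine ⟨hfpA (i + 1) hi' (fp_of_restrict (S := D.B i)), ?_⟩
        exact (flat_sat_iff (S := D.B (i + 1)) (A := D.A (i + 1)) G).1
          ((flat_sat_iff (S := D.B i) (A := D.A (i + 1)) G).2 (flat_localized_congr _ (D.isoCoker i hi') hflatG))
  obtain ⟨f, hf, hu, -⟩ := fwd D.n le_rfl
  let X : Fin D.n → Type u := fun j => Fin (D.r j) → (Localization.Away f ⊗[R] D.B j)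
  have hproj : ∀ i, i < D.n → Module.Projective (Localization.Away f) (Fin (D.r i) → (Localization.Away f ⊗[R] D.B i)) := fun i hi => by
    haveI := D.smooth i hi
    haveI := ((domFib_of_smooth_geomIrred (D.geomIrred i hi)).baseChange (Localization.Away f)).projective
    exact Module.Projective.of_equiv (Finsupp.linearEquivFunOnFinite (Localization.Away f) _ (Fin (D.r i))|>.symm.trans
      (finsuppLEquivDirectSum (Localization.Away f) (Localization.Away f ⊗[R] D.B i) (Fin (D.r i)))).symm
  have main : ∀ k i, i + k + 1 = D.n → Module.Projective (Localization.Away f) (Localization.Away f ⊗[R] D.M i) ∧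
      Nonempty ((Localization.Away f ⊗[R] D.M i) ≃ₗ[Localization.Away f] ∀ j : {j : Fin D.n // i ≤ j.1}, X j.1) := by
    intro k
    induction k with
    | zero =>
      intro i hi
      obtain rfl : i = D.n - 1 := by omega
      have hlt : D.n - 1 < D.n := by omega
      let e := LinearEquiv.ofBijective ((D.α (D.n - 1)).restrictScalars R |>.baseChange (Localization.Away f))
        ⟨injective_baseChange_away (hu _ hlt), LinearMap.lTensor_surjective _ D.cokerLast⟩
      haveI := hproj _ hlt
      haveI : IsEmpty {j : Fin D.n // D.n - 1 + 1 ≤ j.1} := ⟨fun j => by have h1 := j.1.2; have h2 := j.2; omega⟩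
      let e' := e.symm.trans (TensorProduct.piRight R (Localization.Away f) (Localization.Away f) fun _ : Fin (D.r (D.n - 1)) => D.B (D.n - 1))
      have u : (Fin (D.r (D.n - 1)) → Localization.Away f ⊗[R] D.B (D.n - 1)) ≃ₗ[Localization.Away f]
          (∀ j : {j : Fin D.n // D.n - 1 ≤ j.1}, X j.1) :=
        LinearEquiv.trans (R₂ := Localization.Away f) (LinearEquiv.prodUnique (R := Localization.Away f)
          (M₂ := ∀ j : {j : Fin D.n // D.n - 1 + 1 ≤ j.1}, X j.1)).symm
          (piSubtypeSplit (Localization.Away f) X ⟨D.n - 1, hlt⟩).symm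
      exact ⟨Module.Projective.of_equiv e'.symm, ⟨e'.trans u⟩⟩
    | succ k ih =>
      intro i hi
      have hlt : i < D.n := by omega
      obtain ⟨hpr, ⟨e'⟩⟩ := ih (i + 1) (by omega)
      haveI := hpr; haveI := hproj _ hlt
      obtain ⟨e⟩ := nonempty_prod_equiv_away f (D.α i) (hu i hlt) ((D.isoCoker i (by omega)).restrictScalars R)
      exact ⟨Module.Projective.of_equiv e.symm,
        ⟨e.trans (((LinearEquiv.refl _ _).prodCongr e').trans (piSubtypeSplit (Localization.Away f) X ⟨i, hlt⟩).symm)⟩⟩
  have hpos := D.pos
  obtain ⟨hpr, ⟨e⟩⟩ := main (D.n - 1) 0 (by omega)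
  let eN : LocalizedModule (Submonoid.powers f) N ≃ₗ[Localization.Away f] (Localization.Away f ⊗[R] D.M 0) :=
    (LocalizedModule.equivTensorProduct (Submonoid.powers f) N).trans
      (LinearEquiv.baseChange R (Localization.Away f) N (D.M 0) (D.isoN.restrictScalars R))
  let v : (∀ j : {j : Fin D.n // 0 ≤ j.1}, X j.1) ≃ₗ[Localization.Away f]
      (∀ j : Fin D.n, Fin (D.r j) → (Localization.Away f ⊗[R] D.B j)) :=
    { toFun := fun g j => g ⟨j, Nat.zero_le _⟩
      invFun := fun g j => g j.1
      map_add' := fun _ _ => rfl
      map_smul' := fun _ _ => rfl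
      left_inv := fun _ => rfl
      right_inv := fun _ => rfl }
  haveI := hpr
  refine ⟨f, hf, Module.Projective.of_equiv eN.symm, D.n, fun j => Localization.Away f ⊗[R] D.B j, inferInstance,
    inferInstance, fun j => D.r j, fun j => ?_, ⟨eN.trans (e.trans v)⟩⟩
  haveI := D.smooth j j.2
  haveI := D.geomIrred j j.2
  refine ⟨inferInstance, ?_⟩
  exact CategoryTheory.MorphismProperty.of_isPullback
    (AlgebraicGeometry.isPullback_SpecMap_of_isPushout _ _ _ _
      (CommRingCat.isPushout_tensorProduct R (Localization.Away f) (D.B j))).flip (D.geomIrred j j.2)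

end Groth.Agent.S1254
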