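import Groth.Statements.S1202
import Groth.Agent.RG.DevExists
import Groth.Agent.S1254
import Groth.Agent.S1231
import Groth.Agent.FlatModel.Open
import Groth.Agent.FlatTensor5.Basic

set_option autoImplicit false
universe u
open FlatMor

namespace Groth.Agent.S1202

open TensorProduct in
/-- Ring form, X = Spec S and S = Spec R affine: let S be a finitely presented R-algebra, N a finitely
presented S-module and q a prime of S over p such that N_q is flat over R. Then there are an étale
R-algebra R' with a prime p' over p having the same residue field, an étale S-algebra S' with a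
prime q' over q having the same residue field, and a compatible R'-algebra structure on S' with q'
over p', such that S' ⊗_S N is a projective R'-module. -/
theorem result {R S : Type u} [CommRing R] [CommRing S] [Algebra R S] [Algebra.FinitePresentation R S]
    (N : Type u) [AddCommGroup N] [Module S N] [Module R N] [IsScalarTower R S N] [Module.FinitePresentation S N]
    (p : Ideal R) [p.IsPrime] (q : Ideal S) [q.IsPrime] [q.LiesOver p] (hflat : FlatCA.FlatAt R q N) :
    ∃ (R' S' : Type u) (_ : CommRing R') (_ : CommRing S') (_ : Algebra R R') (_ : Algebra S S') (_ : Algebra R' S')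
      (_ : Algebra R S') (_ : IsScalarTower R R' S') (_ : IsScalarTower R S S')
      (p' : Ideal R') (q' : Ideal S') (_ : p'.IsPrime) (_ : q'.IsPrime),
      FlatCA.IsEtaleNhd R R' p p' ∧ FlatCA.IsEtaleNhd S S' q q' ∧ q'.LiesOver p' ∧
      Module.Projective R' (RestrictScalars R' S' (S' ⊗[S] N)) := by
  by_cases hqs : (⟨q, inferInstance⟩ : PrimeSpectrum S) ∈ Module.support S N
  swap
  · rw [Module.support_eq_zeroLocus, PrimeSpectrum.mem_zeroLocus, Set.not_subset] at hqs
    obtain ⟨h, hh, hhq⟩ := hqs
    haveI hq₁ := (RG.map_away_isPrime (A₁ := Localization.Away h) h q hhq).1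
    haveI : (q.map (algebraMap S (Localization.Away h))).LiesOver q :=
      ⟨(RG.map_away_isPrime (A₁ := Localization.Away h) h q hhq).2.symm⟩
    haveI : (q.map (algebraMap S (Localization.Away h))).LiesOver p := Ideal.LiesOver.trans _ q p
    haveI : Subsingleton (Localization.Away h ⊗[S] N) := subsingleton_of_forall_eq 0 fun z => by
      induction z using TensorProduct.induction_on with
      | zero => rfl
      | tmul a m =>
        refine (IsLocalization.Away.algebraMap_isUnit (S := Localization.Away h) h).smul_eq_zero.1 ?_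
        rw [algebraMap_smul, ← TensorProduct.tmul_smul, Module.mem_annihilator.1 hh m, TensorProduct.tmul_zero]
      | add a b ha hb => rw [ha, hb, add_zero]
    refine ⟨R, Localization.Away h, inferInstance, inferInstance, inferInstance, inferInstance, inferInstance,
      inferInstance, inferInstance, inferInstance, p, q.map (algebraMap S (Localization.Away h)), inferInstance,
      hq₁, RG.isEtaleNhd_refl R p, RG.isEtaleNhd_away h q _, inferInstance, ?_⟩
    haveI : Subsingleton (RestrictScalars R (Localization.Away h) (Localization.Away h ⊗[S] N)) :=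
      (RestrictScalars.addEquiv R (Localization.Away h) _).toEquiv.subsingleton
    infer_instance
  classical
  obtain ⟨g, hgq, hgflat⟩ := FlatModel.exists_flat_nhd N q hflat
  let S₁ := Localization.Away g
  let N₁ := S₁ ⊗[S] N
  haveI hq₁ := (RG.map_away_isPrime (A₁ := S₁) g q hgq).1
  let q₁ := q.map (algebraMap S S₁)
  haveI : q₁.LiesOver q := ⟨(RG.map_away_isPrime (A₁ := S₁) g q hgq).2.symm⟩
  haveI : q₁.LiesOver p := Ideal.LiesOver.trans _ q p
  haveI : Algebra.FinitePresentation S S₁ := IsLocalization.Away.finitePresentation g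
  haveI : Algebra.FinitePresentation R S₁ := Algebra.FinitePresentation.trans R S S₁
  haveI : Module.Flat R N₁ := by
    haveI := hgflat (Submonoid.powers g) (Submonoid.mem_powers g)
    exact Module.Flat.of_linearEquiv
      ((LocalizedModule.equivTensorProduct (Submonoid.powers g) N).restrictScalars R).symm
  have hsupp : (⟨q₁, hq₁⟩ : PrimeSpectrum S₁) ∈ Module.support S₁ N₁ := by
    rw [QCoh.mem_support_baseChange (TensorProduct.isBaseChange S N S₁)]
    convert hqs using 1
    exact PrimeSpectrum.ext (RG.map_away_isPrime (A₁ := S₁) g q hgq).2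
  obtain ⟨x, hxq, hx⟩ := RG.exists_fibre_point p q₁ N₁ hsupp
  obtain ⟨R', S', _, _, _, _, _, _, _, _, p', q', _, _, hR, hS, ho, hdev⟩ := RG.devAfterEtale N₁ p q₁ ⟨x, hx, hxq⟩
  haveI := hR.1
  haveI := hS.1
  haveI := ho
  obtain ⟨D, -⟩ := hdev.has
  haveI : Algebra.FinitePresentation R S' := Algebra.FinitePresentation.trans R S₁ S'
  haveI : Algebra.FinitePresentation R' S' :=
    Algebra.FinitePresentation.of_restrict_scalars_finitePresentation R R' S'
  haveI : IsScalarTower R R' (S' ⊗[S₁] N₁) := inferInstance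
  haveI : Module.Flat R (S' ⊗[S₁] N₁) := FlatTensor5.flat_tensor
  haveI : Module.Flat R' (S' ⊗[S₁] N₁) :=
    ((S1231.result (R := R) (T := R') (C := S') (S' ⊗[S₁] N₁) q').2).1 inferInstance
  obtain ⟨f, hf, hproj, -⟩ := Groth.Agent.S1254.result (R := R') (S := S') (S' ⊗[S₁] N₁) p' D
  let R₂ := Localization.Away f
  let S₂ := Localization.Away (algebraMap R' S' f)
  letI : Algebra R₂ S₂ := (IsLocalization.Away.lift f
    (show IsUnit (algebraMap R' S₂ f) by
      rw [IsScalarTower.algebraMap_apply R' S' S₂]; exact IsLocalization.Away.algebraMap_isUnit _)).toAlgebra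
  haveI : IsScalarTower R' R₂ S₂ :=
    IsScalarTower.of_algebraMap_eq fun r => (IsLocalization.Away.lift_eq f _ r).symm
  have hfq : algebraMap R' S' f ∉ q' := fun h => hf ((SetLike.ext_iff.1 ho.over f).2 h)
  haveI hp₂ := (RG.map_away_isPrime (A₁ := R₂) f p' hf).1
  haveI hq₂ := (RG.map_away_isPrime (A₁ := S₂) (algebraMap R' S' f) q' hfq).1
  haveI : (p'.map (algebraMap R' R₂)).LiesOver p' := ⟨(RG.map_away_isPrime (A₁ := R₂) f p' hf).2.symm⟩
  haveI : (q'.map (algebraMap S' S₂)).LiesOver q' :=
    ⟨(RG.map_away_isPrime (A₁ := S₂) (algebraMap R' S' f) q' hfq).2.symm⟩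
  haveI : IsScalarTower R R' R₂ := inferInstance
  haveI : IsScalarTower S₁ S' S₂ := inferInstance
  letI : Algebra S S₂ := ((algebraMap S₁ S₂).comp (algebraMap S S₁)).toAlgebra
  haveI : IsScalarTower S S₁ S₂ := IsScalarTower.of_algebraMap_eq' rfl
  haveI : IsScalarTower R R₂ S₂ := IsScalarTower.of_algebraMap_eq fun r => by
    rw [IsScalarTower.algebraMap_apply R R' R₂, ← IsScalarTower.algebraMap_apply R' R₂ S₂,
      IsScalarTower.algebraMap_apply R' S' S₂, ← IsScalarTower.algebraMap_apply R R' S',
      ← IsScalarTower.algebraMap_apply R S' S₂]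
  haveI : IsScalarTower R S S₂ := IsScalarTower.of_algebraMap_eq fun r => by
    rw [IsScalarTower.algebraMap_apply R S₁ S₂, IsScalarTower.algebraMap_apply R S S₁,
      ← IsScalarTower.algebraMap_apply S S₁ S₂]
  haveI : IsLocalization (Algebra.algebraMapSubmonoid S' (Submonoid.powers f)) S₂ := by
    rw [Algebra.algebraMapSubmonoid_powers]; infer_instance
  haveI hpo : Algebra.IsPushout R' R₂ S' S₂ :=
    (Algebra.isPushout_of_isLocalization (Submonoid.powers f) R₂ S' S₂).symm
  refine ⟨R₂, S₂, inferInstance, inferInstance, inferInstance, inferInstance, inferInstance, inferInstance,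
    inferInstance, inferInstance, p'.map (algebraMap R' R₂), q'.map (algebraMap S' S₂), hp₂, hq₂,
    RG.isEtaleNhd_trans hR (RG.isEtaleNhd_away f p' _),
    RG.isEtaleNhd_trans (RG.isEtaleNhd_away g q q₁) (RG.isEtaleNhd_trans hS (RG.isEtaleNhd_away (algebraMap R' S' f) q' _)),
    RG.liesOver_map_away f (algebraMap R' S' f) p' q' hf hfq, ?_⟩
  let e₁ : LocalizedModule (Submonoid.powers f) (S' ⊗[S₁] N₁) ≃ₗ[R₂] (S₂ ⊗[S] N) :=
    LocalizedModule.equivTensorProduct (Submonoid.powers f) (S' ⊗[S₁] N₁) ≪≫ₗ
      (Algebra.IsPushout.cancelBaseChange R' R₂ S' S₂ (S' ⊗[S₁] N₁)).symm ≪≫ₗ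
      ((AlgebraTensorModule.cancelBaseChange S₁ S' S₂ S₂ N₁) ≪≫ₗ
        (AlgebraTensorModule.cancelBaseChange S S₁ S₂ S₂ N)).restrictScalars R₂
  let e₂ : (S₂ ⊗[S] N) ≃ₗ[R₂] RestrictScalars R₂ S₂ (S₂ ⊗[S] N) :=
    { (RestrictScalars.addEquiv R₂ S₂ (S₂ ⊗[S] N)).symm with
      map_smul' := fun r x => by
        show (RestrictScalars.addEquiv R₂ S₂ (S₂ ⊗[S] N)).symm (r • x) =
          r • (RestrictScalars.addEquiv R₂ S₂ (S₂ ⊗[S] N)).symm x
        rw [← algebraMap_smul S₂ r x]
        exact RestrictScalars.addEquiv_symm_map_algebraMap_smul _ _ _ r x }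
  haveI := hproj
  exact Module.Projective.of_equiv (e₁ ≪≫ₗ e₂)

end Groth.Agent.S1202
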