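import Groth.Statements.S0446
import Groth.Agent.S1202
import Groth.Agent.RG.SpecNhd
-- import your own Groth.Agent.* helpers here

set_option autoImplicit false
universe u
open FlatMor

namespace Groth.Agent.S0446

set_option backward.isDefEq.respectTransparency false in
open AlgebraicGeometry CategoryTheory Limits in
/-- For a morphism locally of finite presentation which is flat at a point x, there are affine étale
neighbourhoods (X', x') of (X, x) and (S', s') of (S, f x) with trivial residue field extensions and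
a compatible morphism X' → S' such that the ring of global sections of X' is a projective module
over that of S'. -/
theorem result {X S : Scheme.{u}} (f : X ⟶ S) [LocallyOfFinitePresentation f] (x : X) (hx : (f.stalkMap x).hom.Flat) :
    ∃ (X' S' : Scheme.{u}) (g : X' ⟶ X) (e : S' ⟶ S) (f' : X' ⟶ S') (x' : X'),
      IsAffine X' ∧ IsAffine S' ∧ Etale g ∧ Etale e ∧ g ≫ f = f' ≫ e ∧ g x' = x ∧ e (f' x') = f x ∧
      Function.Surjective (g.residueFieldMap x') ∧ Function.Surjective (e.residueFieldMap (f' x')) ∧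
      @Module.Projective Γ(S', ⊤) _ Γ(X', ⊤) _ (f'.appTop).hom.toAlgebra.toModule := by
  obtain ⟨_, ⟨V, (hV : IsAffineOpen V), rfl⟩, hxV, -⟩ :=
    S.isBasis_affineOpens.exists_subset_of_mem_open (Set.mem_univ (f x)) isOpen_univ
  obtain ⟨_, ⟨U, (hU : IsAffineOpen U), rfl⟩, hxU, hUV⟩ :=
    X.isBasis_affineOpens.exists_subset_of_mem_open (show x ∈ f ⁻¹ᵁ V from hxV) (f ⁻¹ᵁ V).2
  have hUV : U ≤ f ⁻¹ᵁ V := hUV
  letI : Algebra Γ(S, V) Γ(X, U) := (f.appLE V U hUV).hom.toAlgebra
  haveI : Algebra.FinitePresentation Γ(S, V) Γ(X, U) := f.finitePresentation_appLE hV hU hUV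
  let p := (hV.primeIdealOf ⟨f x, hxV⟩).asIdeal
  let q := (hU.primeIdealOf ⟨x, hxU⟩).asIdeal
  haveI : q.LiesOver p := ⟨congr($(IsAffineOpen.comap_primeIdealOf_appLE V hV U hU hUV hxU).1).symm⟩
  obtain ⟨R', S', _, _, _, _, _, _, _, _, p', q', hp', hq', hR, hS, ho, hproj⟩ :=
    Groth.Agent.S1202.result (R := Γ(S, V)) (S := Γ(X, U)) Γ(X, U) p q
      (RG.flatAt_appLE f V hV U hU hUV x hxU hx)
  haveI := hR.1
  haveI := hS.1
  haveI := RG.etale_specMap (R := Γ(S, V)) (R' := R')
  haveI := RG.etale_specMap (R := Γ(X, U)) (R' := S')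
  let g : Spec (CommRingCat.of S') ⟶ X := Spec.map (CommRingCat.ofHom (algebraMap Γ(X, U) S')) ≫ hU.fromSpec
  let e : Spec (CommRingCat.of R') ⟶ S := Spec.map (CommRingCat.ofHom (algebraMap Γ(S, V) R')) ≫ hV.fromSpec
  let f' : Spec (CommRingCat.of S') ⟶ Spec (CommRingCat.of R') := Spec.map (CommRingCat.ofHom (algebraMap R' S'))
  let x' : Spec (CommRingCat.of S') := ⟨q', hq'⟩
  have hcomm : g ≫ f = f' ≫ e := by
    simp only [g, e, f', Category.assoc]
    rw [← IsAffineOpen.SpecMap_appLE_fromSpec f hV hU hUV, ← Spec.map_comp_assoc, ← Spec.map_comp_assoc]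
    congr 2
    ext r
    exact (IsScalarTower.algebraMap_apply Γ(S, V) Γ(X, U) S' r).symm.trans
      (IsScalarTower.algebraMap_apply Γ(S, V) R' S' r)
  have hgx : g x' = x := by
    obtain ⟨hq, -⟩ := hS.2
    have h1 : (Spec.map (CommRingCat.ofHom (algebraMap Γ(X, U) S'))) x' = hU.primeIdealOf ⟨x, hxU⟩ :=
      PrimeSpectrum.ext hq.over.symm
    exact (congrArg (fun y => hU.fromSpec y) h1).trans (hU.fromSpec_primeIdealOf _)
  have hf'x : f' x' = (⟨p', hp'⟩ : Spec (CommRingCat.of R')) := PrimeSpectrum.ext ho.over.symm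
  have hex : e (f' x') = f x := by
    obtain ⟨hp, -⟩ := hR.2
    rw [hf'x]
    have h1 : (Spec.map (CommRingCat.ofHom (algebraMap Γ(S, V) R'))) (⟨p', hp'⟩ : Spec (CommRingCat.of R')) =
        hV.primeIdealOf ⟨f x, hxV⟩ :=
      PrimeSpectrum.ext hp.over.symm
    exact (congrArg (fun y => hV.fromSpec y) h1).trans (hV.fromSpec_primeIdealOf _)
  refine ⟨Spec (CommRingCat.of S'), Spec (CommRingCat.of R'), g, e, f', x', inferInstance, inferInstance,
    inferInstance, inferInstance, hcomm, hgx, hex, ?_, ?_, ?_⟩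
  · rw [Scheme.residueFieldMap_comp]
    exact (RG.residueFieldMap_surjective_of_isEtaleNhd q q' hS).comp
      (ConcreteCategory.bijective_of_isIso (hU.fromSpec.residueFieldMap _)).2
  · rw [hf'x, Scheme.residueFieldMap_comp]
    exact (RG.residueFieldMap_surjective_of_isEtaleNhd p p' hR).comp
      (ConcreteCategory.bijective_of_isIso (hV.fromSpec.residueFieldMap _)).2
  · letI : Algebra Γ(Spec (CommRingCat.of R'), ⊤) Γ(Spec (CommRingCat.of S'), ⊤) := f'.appTop.hom.toAlgebra
    let σ : R' ≃+* Γ(Spec (CommRingCat.of R'), ⊤) := (Scheme.ΓSpecIso (CommRingCat.of R')).commRingCatIsoToRingEquiv.symm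
    let τ : S' ≃+* Γ(Spec (CommRingCat.of S'), ⊤) := (Scheme.ΓSpecIso (CommRingCat.of S')).commRingCatIsoToRingEquiv.symm
    have key : ∀ r : R', τ (algebraMap R' S' r) = f'.appTop (σ r) := fun r =>
      congr($(Scheme.ΓSpecIso_inv_naturality (CommRingCat.ofHom (algebraMap R' S'))) r)
    haveI : RingHomInvPair (σ : R' →+* Γ(Spec (CommRingCat.of R'), ⊤)) σ.symm := RingHomInvPair.of_ringEquiv σ
    haveI : RingHomInvPair (σ.symm : Γ(Spec (CommRingCat.of R'), ⊤) →+* R') σ := RingHomInvPair.of_ringEquiv σ.symm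
    let E : RestrictScalars R' S' (TensorProduct Γ(X, U) S' Γ(X, U)) ≃ₛₗ[(σ : R' →+* Γ(Spec (CommRingCat.of R'), ⊤))] Γ(Spec (CommRingCat.of S'), ⊤) :=
      { (RestrictScalars.addEquiv R' S' (TensorProduct Γ(X, U) S' Γ(X, U))).trans
          ((TensorProduct.AlgebraTensorModule.rid Γ(X, U) S' S').toAddEquiv.trans τ.toAddEquiv) with
        map_smul' := fun r z => by
          show τ (TensorProduct.AlgebraTensorModule.rid Γ(X, U) S' S' (RestrictScalars.addEquiv R' S' _ (r • z))) =
            σ r • τ (TensorProduct.AlgebraTensorModule.rid Γ(X, U) S' S' (RestrictScalars.addEquiv R' S' _ z))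
          rw [RestrictScalars.addEquiv_map_smul, map_smul, smul_eq_mul, map_mul, Algebra.smul_def, key]
          rfl }
    haveI := hproj
    exact Module.Projective.of_equiv E

end Groth.Agent.S0446
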