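import Groth.Statements.S0448
import Mathlib.LinearAlgebra.TensorProduct.Vanishing
import Mathlib.LinearAlgebra.DirectSum.Finsupp
import Mathlib.RingTheory.LocalRing.Module
import Mathlib.RingTheory.Flat.Basic

set_option autoImplicit false
universe u
open FlatMor

namespace Groth.Agent.S0448

/-- A product of two flat modules is flat. -/
theorem flat_prod {R A B : Type u} [CommRing R] [AddCommGroup A] [Module R A] [AddCommGroup B]
    [Module R B] [Module.Flat R A] [Module.Flat R B] : Module.Flat R (A × B) := by
  rw [Module.Flat.iff_rTensor_preserves_injective_linearMap]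
  intro P P' _ _ _ _ f hf
  rw [injective_iff_map_eq_zero]
  intro z hz
  have h1 : (LinearMap.fst R A B).lTensor P z = 0 := by
    refine Module.Flat.rTensor_preserves_injective_linearMap f hf (Eq.trans ?_ (map_zero _).symm)
    rw [← LinearMap.comp_apply, LinearMap.rTensor_comp_lTensor, ← LinearMap.lTensor_comp_rTensor,
      LinearMap.comp_apply, hz, map_zero]
  have h2 : (LinearMap.snd R A B).lTensor P z = 0 := by
    refine Module.Flat.rTensor_preserves_injective_linearMap f hf (Eq.trans ?_ (map_zero _).symm)
    rw [← LinearMap.comp_apply, LinearMap.rTensor_comp_lTensor, ← LinearMap.lTensor_comp_rTensor,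
      LinearMap.comp_apply, hz, map_zero]
  have e : LinearMap.inl R A B ∘ₗ LinearMap.fst R A B + LinearMap.inr R A B ∘ₗ LinearMap.snd R A B =
      LinearMap.id := by ext <;> simp
  have := congrArg (fun g => LinearMap.lTensor P g z) e
  simpa [LinearMap.lTensor_add, LinearMap.lTensor_comp_apply, h1, h2] using this.symm

open TensorProduct in
/-- The case of a free source. -/
theorem free_case {R ι N Q : Type u} [CommRing R] [IsLocalRing R] [AddCommGroup N] [Module R N]
    [Module.Flat R N] [AddCommGroup Q] [Module R Q] (v : (ι →₀ R) →ₗ[R] N)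
    (h : Function.Injective (v.lTensor (IsLocalRing.ResidueField R))) :
    Function.Injective (v.rTensor Q) := by
  classical
  rw [injective_iff_map_eq_zero]
  intro x hx
  obtain ⟨f, hf⟩ : ∃ f, f = TensorProduct.finsuppScalarLeft R Q ι x := ⟨_, rfl⟩
  have hxf : x = ∑ i : f.support, Finsupp.single (i : ι) (1 : R) ⊗ₜ[R] f i := by
    apply (TensorProduct.finsuppScalarLeft R Q ι).injective
    rw [← hf, map_sum]
    ext j
    rw [Finsupp.finsetSum_apply, Finset.sum_coe_sort f.support
      (fun i => (TensorProduct.finsuppScalarLeft R Q ι (Finsupp.single i (1 : R) ⊗ₜ[R] f i)) j)]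
    simp [Finsupp.single_apply]
  let incl : (f.support → R) →ₗ[R] (ι →₀ R) := Fintype.linearCombination R (fun i => Finsupp.single (i : ι) 1)
  let res : (ι →₀ R) →ₗ[R] (f.support → R) := LinearMap.pi fun i => Finsupp.lapply (i : ι)
  have hres : res ∘ₗ incl = LinearMap.id := by
    ext i j
    simp [incl, res, Pi.single_apply, Finsupp.single_apply, eq_comm]
  have hi : ∀ i, incl (Pi.single i 1) = Finsupp.single (i : ι) 1 := fun i => by
    simp [incl]
  have hv : ∑ i : f.support, f i ⊗ₜ[R] v (Finsupp.single (i : ι) 1) = (0 : Q ⊗[R] N) := by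
    have e := congrArg (TensorProduct.comm R N Q) hx
    rw [map_zero, hxf] at e
    simpa using e
  obtain ⟨k, a, y, hay, haq⟩ := TensorProduct.vanishesTrivially_of_sum_tmul_eq_zero_of_rTensor_injective R
    (Module.Flat.rTensor_preserves_injective_linearMap _ Subtype.val_injective) hv
  let L : (f.support → R) →ₗ[R] (Fin k → R) := Fintype.linearCombination R a
  have hL : v ∘ₗ incl = Fintype.linearCombination R y ∘ₗ L := by
    refine LinearMap.pi_ext' fun i => LinearMap.ext_ring ?_
    simp only [LinearMap.comp_apply, LinearMap.coe_single, hi, L,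
      Fintype.linearCombination_apply_single, one_smul]
    rw [Fintype.linearCombination_apply]
    exact hay i
  have hinj : Function.Injective ((v ∘ₗ incl).lTensor (IsLocalRing.ResidueField R)) := by
    rw [LinearMap.lTensor_comp]
    refine h.comp (Function.HasLeftInverse.injective ⟨res.lTensor _, fun z => ?_⟩)
    rw [← LinearMap.comp_apply, ← LinearMap.lTensor_comp, hres, LinearMap.lTensor_id, LinearMap.id_apply]
  rw [hL, LinearMap.lTensor_comp, LinearMap.coe_comp] at hinj
  obtain ⟨B, hB⟩ := (IsLocalRing.split_injective_iff_lTensor_residueField_injective L).2 hinj.of_comp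
  have hz : (∑ i : f.support, Pi.single i (1 : R) ⊗ₜ[R] f i : (f.support → R) ⊗[R] Q) = 0 := by
    have e : L.rTensor Q (∑ i : f.support, Pi.single i (1 : R) ⊗ₜ[R] f i) = 0 := by
      rw [map_sum]
      have : ∀ i, a i = ∑ j, a i j • (Pi.single j (1 : R) : Fin k → R) := fun i => by
        ext j
        simp [Pi.single_apply]
      simp only [LinearMap.rTensor_tmul, L, Fintype.linearCombination_apply_single, one_smul]
      rw [Finset.sum_congr rfl fun (i : f.support) _ => congrArg (· ⊗ₜ[R] f i) (this i)]
      simp only [TensorProduct.sum_tmul, TensorProduct.smul_tmul]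
      rw [Finset.sum_comm]
      simp only [← TensorProduct.tmul_sum, haq, TensorProduct.tmul_zero, Finset.sum_const_zero]
    simpa [← LinearMap.comp_apply, ← LinearMap.rTensor_comp, hB] using congrArg (B.rTensor Q) e
  rw [hxf]
  simpa [map_sum, hi] using congrArg (incl.rTensor Q) hz

open TensorProduct in
/-- Over a local ring, a linear map from a projective module to a flat module which is injective modulo
the maximal ideal is universally injective (injective after tensoring with any module). -/
theorem result {R M N : Type u} [CommRing R] [IsLocalRing R] [AddCommGroup M] [Module R M] [Module.Projective R M]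
    [AddCommGroup N] [Module R N] [Module.Flat R N] (u : M →ₗ[R] N)
    (h : Function.Injective (LinearMap.lTensor (IsLocalRing.ResidueField R) u)) :
    ∀ (Q : Type u) [AddCommGroup Q] [Module R Q], Function.Injective (LinearMap.rTensor Q u) := by
  intro Q _ _
  obtain ⟨s, hs⟩ := Module.projective_def'.1 ‹Module.Projective R M›
  let p : (M →₀ R) →ₗ[R] M := Finsupp.linearCombination R id
  let v : (M →₀ R) →ₗ[R] N × (M →₀ R) := (u ∘ₗ p).prod (LinearMap.id - s ∘ₗ p)
  have hv : Function.Injective (v.lTensor (IsLocalRing.ResidueField R)) := by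
    rw [injective_iff_map_eq_zero]
    intro z hz
    have h1 := congrArg ((LinearMap.fst R N (M →₀ R)).lTensor (IsLocalRing.ResidueField R)) hz
    rw [← LinearMap.comp_apply, ← LinearMap.lTensor_comp, LinearMap.fst_prod, map_zero,
      LinearMap.lTensor_comp_apply] at h1
    have hp : p.lTensor (IsLocalRing.ResidueField R) z = 0 := h (h1.trans (map_zero _).symm)
    have h2 := congrArg ((LinearMap.snd R N (M →₀ R)).lTensor (IsLocalRing.ResidueField R)) hz
    rw [← LinearMap.comp_apply, ← LinearMap.lTensor_comp, LinearMap.snd_prod, map_zero,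
      LinearMap.lTensor_sub, LinearMap.sub_apply, LinearMap.lTensor_id, LinearMap.id_apply,
      LinearMap.lTensor_comp_apply, hp, map_zero, sub_zero] at h2
    exact h2
  rw [injective_iff_map_eq_zero]
  intro x hx
  have e : v ∘ₗ s = LinearMap.inl R N (M →₀ R) ∘ₗ u := by
    refine LinearMap.ext fun m => Prod.ext ?_ ?_
    · exact congrArg u (LinearMap.congr_fun hs m)
    · show s m - s (p (s m)) = 0
      rw [show p (s m) = m from LinearMap.congr_fun hs m, sub_self]
  haveI : Module.Flat R (N × (M →₀ R)) := flat_prod
  have hy : s.rTensor Q x = 0 := by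
    refine free_case v hv ((?_ : v.rTensor Q (s.rTensor Q x) = 0).trans (map_zero _).symm)
    rw [← LinearMap.rTensor_comp_apply, e, LinearMap.rTensor_comp_apply, hx, map_zero]
  have := congrArg (p.rTensor Q) hy
  rwa [← LinearMap.rTensor_comp_apply, show p ∘ₗ s = LinearMap.id from hs, LinearMap.rTensor_id,
    LinearMap.id_apply, map_zero] at this

end Groth.Agent.S0448
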