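import Groth.Statements.S0450
import Mathlib
import Groth.Agent.S0404
import Groth.Agent.FlatMisc.DimNear

set_option autoImplicit false
universe u
open FlatMor

namespace Groth.Agent.S0450

open AlgebraicGeometry CategoryTheory Limits in
/-- A flat proper morphism locally of finite presentation that is finite over a dense open subset of the
target is finite (the source alternatively allows the open to be retrocompact instead of assuming
finite presentation; only this alternative is stated). -/
theorem result {X S : Scheme.{u}} (f : X ⟶ S) [Flat f] [IsProper f] [LocallyOfFinitePresentation f] (U : S.Opens)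
    (hU : Dense (U : Set ↑S)) [IsFinite (f ∣_ U)] : IsFinite f := by
  suffices h0 : ∀ s : S, topologicalKrullDim ↥(f.fiber s) ≤ 0 by
    haveI : LocallyQuasiFinite f := (locallyQuasiFinite_iff_finite_preimage_singleton).mpr fun s => by
      haveI : IsLocallyNoetherian (f.fiber s) := LocallyOfFiniteType.isLocallyNoetherian (f.fiberToSpecResidueField s)
      haveI : IsLocallyArtinian (f.fiber s) := IsLocallyArtinian.of_topologicalKrullDim_le_zero (h0 s)
      haveI : CompactSpace ↥(f.fiber s) := QuasiCompact.compactSpace_of_compactSpace (f.fiberToSpecResidueField s)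
      haveI : IsArtinianScheme (f.fiber s) := {}
      rw [← f.range_fiberι s]
      exact Set.finite_range _
    exact IsFinite.of_isProper_of_locallyQuasiFinite f
  intro s
  by_contra hs
  obtain ⟨t, htO, htU⟩ := hU.inter_open_nonempty _ (Groth.Agent.S0404.result f 0) ⟨s, not_le.mp hs⟩
  refine absurd (show (0 : WithBot ℕ∞) < topologicalKrullDim ↥(f.fiber t) from htO) (not_lt.mpr ?_)
  have h := Groth.Agent.FlatMisc.DimNear.fibre_dim_restrict f U ⟨t, htU⟩
  show topologicalKrullDim ↥(f.fiber t) ≤ 0
  rw [← h]
  haveI : LocallyQuasiFinite (f ∣_ U) := inferInstance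
  rw [((f ∣_ U).fiberHomeo (⟨t, htU⟩ : U.toScheme)).isHomeomorph.topologicalKrullDim_eq]
  haveI : DiscreteTopology ↥((f ∣_ U) ⁻¹' {(⟨t, htU⟩ : U.toScheme)}) := isDiscrete_iff_discreteTopology.mp ((f ∣_ U).isDiscrete_preimage_singleton _)
  exact topologicalKrullDim_zero_of_discreteTopology _

end Groth.Agent.S0450
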