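import Groth.Statements.S0451
import Mathlib
import Groth.Agent.FlatValCrit.DenseAlg

set_option autoImplicit false
universe u
open FlatMor

namespace Groth.Agent.S0451

open AlgebraicGeometry CategoryTheory Limits in
/-- A flat morphism locally of finite type which is locally of finite presentation over a quasi-compact
scheme-theoretically dense open of the target is locally of finite presentation. -/
theorem result {X S : Scheme.{u}} (f : X ⟶ S) [LocallyOfFiniteType f] [Flat f] (U : S.Opens)
    [QuasiCompact U.ι] [IsSchemeTheoreticallyDominant U.ι] [LocallyOfFinitePresentation (f ∣_ U)] : LocallyOfFinitePresentation f := by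
  classical
  rw [HasRingHomProperty.iff_appLE (P := @LocallyOfFinitePresentation)]
  intro W V e
  have hft : (f.appLE W V e).hom.FiniteType :=
    (HasRingHomProperty.iff_appLE (P := @LocallyOfFiniteType)).1 ‹_› W V e
  have hfl : (f.appLE W V e).hom.Flat := (HasRingHomProperty.iff_appLE (P := @Flat)).1 ‹_› W V e
  let O : S.Opens := U.ι ''ᵁ (U.ι ⁻¹ᵁ W.1)
  have hO : IsCompact (O : Set S) := by
    have h1 : IsCompact ((U.ι ⁻¹ᵁ W.1 : U.toScheme.Opens) : Set U.toScheme) :=
      QuasiCompact.isCompact_preimage (W.1 : Set S) W.1.isOpen W.2.isCompact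
    exact h1.image U.ι.continuous
  have hOle : O ≤ U ∧ O ≤ W.1 :=
    ⟨fun x hx => by obtain ⟨y, -, rfl⟩ := hx; exact y.2, fun x hx => by obtain ⟨y, hy, rfl⟩ := hx; exact hy⟩
  choose b hbO hxb using fun x : (O : Set S) =>
    W.2.exists_basicOpen_le (V := O) ⟨x.1, x.2⟩ (hOle.2 x.2)
  obtain ⟨t, ht⟩ := hO.elim_finite_subcover (fun x : (O : Set S) => (S.basicOpen (b x) : Set S))
    (fun x => (S.basicOpen (b x)).isOpen) fun x hx => Set.mem_iUnion.2 ⟨⟨x, hx⟩, hxb ⟨x, hx⟩⟩
  algebraize [(f.appLE W V e).hom]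
  show Algebra.FinitePresentation Γ(S, W) Γ(X, V)
  refine Groth.Agent.FlatValCrit.finitePresentation_algebra_of_dense (t.image b) (fun r hr => ?_) (fun g hg => ?_)
  · refine Scheme.Hom.app_injective U.ι W.1 ?_
    rw [map_zero, Scheme.Opens.ι_app]
    refine S.IsSheaf.section_ext fun y hy => ?_
    have hy' : y ∈ ⋃ i ∈ t, (S.basicOpen (b i) : Set S) := ht hy
    obtain ⟨x, hxt, hxy⟩ := Set.mem_iUnion₂.1 hy'
    refine ⟨S.basicOpen (b x), hbO x, hxy, ?_⟩
    obtain ⟨k, hk⟩ := hr (b x) (Finset.mem_image_of_mem b hxt)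
    have := W.2.isLocalization_basicOpen (b x)
    have h1 : algebraMap Γ(S, W) Γ(S, S.basicOpen (b x)) r = 0 :=
      (IsLocalization.map_eq_zero_iff (Submonoid.powers (b x)) _ r).2 ⟨⟨_, k, rfl⟩, hk⟩
    refine Eq.trans ?_ (map_zero (S.presheaf.map (homOfLE (hbO x)).op).hom).symm
    show (S.presheaf.map (homOfLE (hOle.2)).op ≫ S.presheaf.map (homOfLE (hbO x)).op) r = 0
    rw [← S.presheaf.map_comp, ← op_comp, homOfLE_comp]
    exact h1
  · obtain ⟨x, -, rfl⟩ := Finset.mem_image.1 hg
    let gX : Γ(X, V) := f.appLE W V e (b x)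
    have hDU : S.basicOpen (b x) ≤ U := (hbO x).trans hOle.1
    have hle : X.basicOpen gX ≤ f ⁻¹ᵁ S.basicOpen (b x) := by simp [gX, Scheme.Hom.appLE]
    let j := (f ⁻¹ᵁ U).ι
    have : LocallyOfFinitePresentation (j ≫ f) := by
      rw [← morphismRestrict_ι]
      infer_instance
    have hWj : X.basicOpen gX ≤ j.opensRange := by
      rw [Scheme.Opens.opensRange_ι]
      exact fun y hy => hDU (hle hy)
    have hWaff : IsAffineOpen (j ⁻¹ᵁ X.basicOpen gX) := (V.2.basicOpen gX).preimage_of_isOpenImmersion j hWj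
    have h2 := (HasRingHomProperty.iff_appLE (P := @LocallyOfFinitePresentation)).1 ‹LocallyOfFinitePresentation (j ≫ f)›
      ⟨S.basicOpen (b x), W.2.basicOpen (b x)⟩ ⟨j ⁻¹ᵁ X.basicOpen gX, hWaff⟩ (fun y hy => hle hy)
    erw [Scheme.Hom.comp_appLE j f] at h2
    have himg : j ''ᵁ (j ⁻¹ᵁ X.basicOpen gX) = X.basicOpen gX := by
      rw [Scheme.Hom.image_preimage_eq_opensRange_inf, inf_eq_right]
      exact hWj
    have h3 : (f.appLE (S.basicOpen (b x)) (X.basicOpen gX) hle).hom.FinitePresentation := by
      have gen : ∀ (O' : X.Opens) (e' : O' ≤ f ⁻¹ᵁ S.basicOpen (b x)), O' = X.basicOpen gX →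
          (f.appLE (S.basicOpen (b x)) O' e').hom.FinitePresentation →
          (f.appLE (S.basicOpen (b x)) (X.basicOpen gX) hle).hom.FinitePresentation := by
        intro O' e' h h'
        subst h
        exact h'
      refine gen (j ''ᵁ (j ⁻¹ᵁ X.basicOpen gX)) (himg.le.trans hle) himg ?_
      erw [Scheme.Opens.ι_appLE] at h2
      exact h2
    rw [IsAffineOpen.appLE_eq_away_map f W.2 V.2 e (b x)] at h3
    have := W.2.isLocalization_basicOpen (b x)
    have := V.2.isLocalization_basicOpen gX
    have h4 := (RingHom.finitePresentation_respectsIso.isLocalization_away_iff _ _ (f.appLE W V e).hom (b x)).2 h3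
    let S' := Localization (Algebra.algebraMapSubmonoid Γ(X, V) (Submonoid.powers (b x)))
    have : IsLocalization.Away ((f.appLE W V e).hom (b x)) S' := by
      show IsLocalization (Submonoid.powers (algebraMap Γ(S, W) Γ(X, V) (b x))) S'
      rw [← Algebra.algebraMapSubmonoid_powers]
      infer_instance
    have h5 := (RingHom.finitePresentation_respectsIso.isLocalization_away_iff (Localization.Away (b x)) S'
      (f.appLE W V e).hom (b x)).1 h4
    have h6 : IsLocalization.Away.map (Localization.Away (b x)) S' (f.appLE W V e).hom (b x) =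
        algebraMap (Localization.Away (b x)) S' := by
      refine IsLocalization.ringHom_ext (Submonoid.powers (b x)) ?_
      rw [IsLocalization.Away.map, IsLocalization.map_comp, ← IsScalarTower.algebraMap_eq,
        IsScalarTower.algebraMap_eq Γ(S, W) Γ(X, V) S']
      rfl
    rw [h6, RingHom.finitePresentation_algebraMap] at h5
    exact h5

end Groth.Agent.S0451
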