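import Groth.Statements.S0455
import Groth.Agent.SiteBase.CechInst
import Groth.Agent.SiteBase.Top

set_option autoImplicit false
universe u
open CategoryTheory
open CohTop

namespace Groth.Agent.S0455

open TopologicalSpace CategoryTheory.Limits in
/-- If F is a flasque abelian sheaf on X, then for any family of opens the Cech cohomology groups of F
in positive degree are zero. -/
theorem result {X : TopCat.{u}} (F : CohTop.Ab X) [TopCat.Sheaf.IsFlasque F]
    {ι : Type u} (U : ι → Opens X) (p : ℕ) : IsZero (CohTop.cechH F.obj U (p + 1)) := by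
  obtain ⟨e⟩ := Groth.Agent.SiteBase.nonempty_cech_addEquiv_HU (Groth.Agent.SiteBase.ctxOpens U)
    (Groth.Agent.SiteBase.ctxOpens_sieve_mem U) (Groth.Agent.SiteBase.injAcyclic_opens U) (p + 1) F
    (fun n a q => Groth.Agent.SiteBase.subsingleton_HU_of_isFlasque F _ q)
  have h := Groth.Agent.SiteBase.subsingleton_HU_of_isFlasque F (iSup U) p
  have : Subsingleton (CohTop.cechH F.obj U (p + 1) :) := e.toEquiv.subsingleton_congr.2 h
  exact AddCommGrpCat.isZero_of_subsingleton _

end Groth.Agent.S0455
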