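import Groth.Statements.S0465
import Groth.Agent.SiteBase.Cartan

set_option autoImplicit false
universe u
open CategoryTheory
open CohTop

namespace Groth.Agent.S0465

open TopologicalSpace in
/-- If for every family of opens of X the Cech cohomology of F in positive degrees vanishes, then
H^(p+1)(U, F) = 0 for every open U. -/
theorem result {X : TopCat.{u}} (F : CohTop.Ab X)
    (h : ∀ (ι : Type u) (U : ι → Opens X) (p : ℕ), CategoryTheory.Limits.IsZero (CohTop.cechH F.obj U (p + 1)))
    (U : Opens X) (p : ℕ) : Subsingleton (CohTop.HU F (p + 1) U) := by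
  refine Groth.Agent.SiteBase.subsingleton_HU_of_cartan
    (J := Opens.grothendieckTopology X) (fun _ => True)
    (K := Σ ι : Type u, ι → Opens X) (fun _ => Opens X) (fun _ => 𝟭 _) (fun k => k.1) (fun k => k.2)
    (fun _ _ _ => trivial) (fun k => Groth.Agent.SiteBase.injAcyclic_opens k.2) ?_
    (fun k q => (HomologicalComplex.exactAt_iff_isZero_homology _ _).2 (h k.1 k.2 q)) (U := U) trivial p
  intro V _ T hT
  exact ⟨⟨_, Subtype.val⟩, Groth.Agent.SiteBase.exists_ctxOpens _
    (Groth.Agent.SiteBase.iSup_sieve_eq hT) T fun k => k.2⟩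

end Groth.Agent.S0465
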