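import Groth.Statements.S0468
import Groth.Agent.QcqsColim.Rpush

set_option autoImplicit false
universe u
open CategoryTheory
open CohTop

namespace Groth.Agent.S0468

open TopologicalSpace Opposite CategoryTheory.Limits in
/-- Let X be a space whose compact opens form a basis and are stable under pairwise intersections, U a
compact open and (F_i) a directed system of abelian sheaves. Then colim H^q(U, F_i) → H^q(U, colim
F_i) is an isomorphism; stated as: H^q(U, -) preserves colimits of shape ι for every nonempty
directed preorder ι. -/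
theorem result {X : TopCat.{u}} [PrespectralSpace X] [QuasiSeparatedSpace X]
    (U : Opens X) (hU : IsCompact (U : Set X))
    (ι : Type u) [Preorder ι] [IsDirected ι (· ≤ ·)] [Nonempty ι] (q : ℕ) :
    PreservesColimitsOfShape ι
      ((Sheaf.cohomologyPresheafFunctor (Opens.grothendieckTopology X) q).flip.obj (op U) :
        CohTop.Ab X ⥤ AddCommGrpCat.{u}) := by
  have hT : Opens.IsBasis {U : Opens X | QcqsColim.GoodOpen U} :=
    Opens.isBasis_iff_nbhd.2 fun {U x} hx => by
      obtain ⟨W, ⟨hWo, hWc⟩, hxW, hWU⟩ :=
        (PrespectralSpace.isTopologicalBasis (X := X)).exists_subset_of_mem_open hx U.isOpen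
      exact ⟨⟨W, hWo⟩, ⟨hWc, IsQuasiSeparated.of_quasiSeparatedSpace _⟩, hxW, hWU⟩
  exact QcqsColim.preservesColimitsOfShape_cohomologyPresheaf hT ⟨hU, IsQuasiSeparated.of_quasiSeparatedSpace _⟩ ι q


end Groth.Agent.S0468
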