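import Groth.Statements.S0471
import Groth.Agent.SiteBase.CompactSub.Soft
import Mathlib.Topology.Separation.Profinite

set_option autoImplicit false
universe u
open CategoryTheory CategoryTheory.Limits TopologicalSpace Opposite
open CohTop

namespace Groth.Agent.S0471

/-- If X is profinite (compact, Hausdorff, totally disconnected), then H^(p+1)(X, F) = 0 for every
abelian sheaf F. -/
theorem result {X : TopCat.{u}} [CompactSpace X] [T2Space X] [TotallyDisconnectedSpace X]
    (F : CohTop.Ab X) (p : ℕ) : Subsingleton (CohTop.H F (p + 1)) := by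
  refine SiteBase.subsingleton_H_of_HU_terminal isTerminalTop F (p + 1) ?_
  refine SiteBase.subsingleton_HU_of_class (J := Opens.grothendieckTopology X) (fun _ => True)
    (fun V => V = ⊤) (fun _ _ _ _ => trivial) ?_ (F := F) trivial rfl p
  rintro E hE - - V rfl c
  have hl : ∀ x : X, ∃ (C : Set X), IsClopen C ∧ x ∈ C ∧ ∃ (M : Opens X) (_ : C ⊆ M) (s : E.X₂.obj.obj (op M)),
      (E.g.hom.app (op M)).hom s = (E.X₃.obj.map (homOfLE (le_top : M ≤ ⊤)).op).hom c := fun x => by
    obtain ⟨M, hM, hxM, s, hs⟩ := CompactSub.exists_local_lift hE c x (Opens.mem_top x)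
    obtain ⟨C, hC, hxC, hCM⟩ := compact_exists_isClopen_in_isOpen M.2 hxM
    exact ⟨C, hC, hxC, M, hCM, s, hs⟩
  choose C hC hxC M hCM s hs using hl
  obtain ⟨fs, hfs⟩ := (isCompact_univ (X := X)).elim_finite_subcover C (fun x => (hC x).isOpen)
    (fun x _ => Set.mem_iUnion.2 ⟨x, hxC x⟩)
  have H : ∀ fs : Finset X, ∃ (W : Opens X) (_ : IsClosed (W : Set X)) (_ : ∀ y, y ∈ ⋃ x ∈ fs, C x → y ∈ W)
      (t : E.X₂.obj.obj (op W)),
      (E.g.hom.app (op W)).hom t = (E.X₃.obj.map (homOfLE (le_top : W ≤ ⊤)).op).hom c := by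
    classical
    intro fs
    induction fs using Finset.induction with
    | empty => exact ⟨⊥, isClosed_empty, fun y hy => (by simp at hy), 0, CompactSub.sec_ext _ _ fun y hy => absurd hy id⟩
    | insert a fs ha ih =>
      obtain ⟨W, hW, hWs, t, ht⟩ := ih
      let D : Opens X := ⟨C a \ W, (hC a).isOpen.sdiff hW⟩
      have hD : D ≤ M a := fun y hy => hCM a hy.1
      obtain ⟨t', h₁, h₂⟩ := CompactSub.exists_glue₂ ((E.X₂.obj.map (homOfLE hD).op).hom (s a)) t
        (fun y hy hy' => absurd hy' hy.2)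
      refine ⟨D ⊔ W, ?_, fun y hy => ?_, t', CompactSub.sec_ext _ _ fun y hy => ?_⟩
      · rw [Opens.coe_sup]
        show IsClosed (C a \ W ∪ W)
        rw [Set.sdiff_union_self]
        exact (hC a).isClosed.union hW
      · rw [Finset.set_biUnion_insert] at hy
        by_cases hyW : y ∈ W
        · exact le_sup_right (a := D) hyW
        · exact le_sup_left (b := W) ⟨hy.resolve_right (fun h => hyW (hWs y h)), hyW⟩
      · refine Eq.trans ?_ (DescentSS.Germ.gm_res E.X₃ le_top y hy c).symm
        refine (CompactSub.stMap_gm E.g y hy t').symm.trans ?_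
        rcases hy with hy | hy
        · refine (congrArg (CompactSub.stMap E.g y) ((h₁ y hy).trans (DescentSS.Germ.gm_res E.X₂ hD y hy (s a)))).trans ?_
          exact (CompactSub.stMap_gm E.g y (hD hy) (s a)).trans
            ((congrArg (DescentSS.Germ.gm E.X₃ y (hD hy)) (hs a)).trans (DescentSS.Germ.gm_res E.X₃ le_top y _ c))
        · refine (congrArg (CompactSub.stMap E.g y) (h₂ y hy)).trans ?_
          exact (CompactSub.stMap_gm E.g y hy t).trans
            ((congrArg (DescentSS.Germ.gm E.X₃ y hy) ht).trans (DescentSS.Germ.gm_res E.X₃ le_top y hy c))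
  obtain ⟨W, -, hW, t, ht⟩ := H fs
  have hle : (⊤ : Opens X) ≤ W := fun y _ => hW y (hfs trivial)
  refine ⟨(E.X₂.obj.map (homOfLE hle).op).hom t, CompactSub.sec_ext _ _ fun y hy => ?_⟩
  refine (CompactSub.stMap_gm E.g y hy _).symm.trans ((congrArg (CompactSub.stMap E.g y) (DescentSS.Germ.gm_res E.X₂ hle y hy t)).trans ?_)
  exact (CompactSub.stMap_gm E.g y (hle hy) t).trans
    ((congrArg (DescentSS.Germ.gm E.X₃ y (hle hy)) ht).trans (DescentSS.Germ.gm_res E.X₃ le_top y _ c))


end Groth.Agent.S0471
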