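import Groth.Statements.S0478
import Groth.Agent.TriCat.KInjRes
import Groth.Agent.TriCat.DerivedProducts

set_option autoImplicit false
universe v u
open CategoryTheory
open CohDer

namespace Groth.Agent.S0478

open CategoryTheory.Limits in
/-- For a Grothendieck abelian category A the derived category D(A) has all products indexed by small
types. The published statement also computes them as termwise products of K-injective
representatives, which is not asserted here. -/
theorem result {A : Type u} [Category.{v} A] [Abelian A] [IsGrothendieckAbelian.{v} A]
    [HasDerivedCategory.{v} A] : HasProducts.{v} (DerivedCategory A) := by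
  intro J
  exact Groth.Agent.TriCat.hasProductsOfShape_derivedCategory (J := J) fun K => by
    obtain ⟨I, f, hI, hf, -, -⟩ := Groth.Agent.TriCat.exists_kInjective_resolution'.{v} K
    exact ⟨I, f, hI, hf⟩

end Groth.Agent.S0478
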