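import Groth.Statements.S0480
import Mathlib.Algebra.Homology.HomotopyCategory.MappingCone

set_option autoImplicit false
universe v u
open CategoryTheory
open CohDer

namespace Groth.Agent.S0480

open CategoryTheory.Limits in
/-- In an abelian category, if the product of a family of K-injective cochain complexes exists (it is
then the termwise product), it is again K-injective. -/
theorem result {A : Type u} [Category.{v} A] [Abelian A] {T : Type v} (I : T → CochainComplex A ℤ)
    [HasProduct I] (h : ∀ t, (I t).IsKInjective) : (∏ᶜ I).IsKInjective := by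
  refine ⟨fun {K} f hK => ?_⟩
  haveI := h
  open CochainComplex HomComplex in
  have hδ : ∀ t, δ (-1) 0 (Cochain.ofHomotopy (IsKInjective.homotopyZero (f ≫ Pi.π I t) hK)) =
      Cochain.ofHom (𝟙 K ≫ f ≫ Pi.π I t) := by
    intro t; rw [δ_ofHomotopy]; simp
  let D : CochainComplex.mappingCone (𝟙 K) ⟶ ∏ᶜ I := Pi.lift fun t =>
    CochainComplex.mappingCone.desc (𝟙 K) _ _ (hδ t)
  have e : CochainComplex.mappingCone.inr (𝟙 K) ≫ D = f := by
    apply Limits.Pi.hom_ext; intro t; simp [D]
  have z : IsZero ((HomotopyCategory.quotient A (ComplexShape.up ℤ)).obj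
      (CochainComplex.mappingCone (𝟙 K))) :=
    Pretriangulated.Triangle.isZero₃_of_isIso₁ _
      (HomotopyCategory.mappingCone_triangleh_distinguished (𝟙 K))
      (inferInstanceAs (IsIso ((HomotopyCategory.quotient A (ComplexShape.up ℤ)).map (𝟙 K))))
  refine ⟨HomotopyCategory.homotopyOfEq _ _ ?_⟩
  rw [← e, Functor.map_comp, z.eq_zero_of_src ((HomotopyCategory.quotient A _).map D),
    comp_zero, Functor.map_zero]

end Groth.Agent.S0480
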