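import Groth.Statements.S0481


set_option autoImplicit false
universe v u
open CategoryTheory
open CohDer

namespace Groth.Agent.S0481

open CategoryTheory.Limits in
/-- Let u : A ⥤ B be right adjoint to an exact additive functor w : B ⥤ A between abelian categories.
Then u applied termwise sends K-injective complexes to K-injective complexes. -/
theorem result {A : Type u} [Category.{v} A] [Abelian A]
    {B : Type u} [Category.{v} B] [Abelian B] (u : A ⥤ B) (w : B ⥤ A) (adj : w ⊣ u)
    [u.Additive] [w.Additive] [PreservesFiniteLimits w] [PreservesFiniteColimits w]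
    (I : CochainComplex A ℤ) (h : I.IsKInjective) :
    CochainComplex.IsKInjective ((u.mapHomologicalComplex (ComplexShape.up ℤ)).obj I) := by
  refine ⟨fun {K} f hK => ?_⟩
  have hwK : ((w.mapHomologicalComplex (ComplexShape.up ℤ)).obj K).Acyclic := fun i => by
    rw [HomologicalComplex.exactAt_iff]
    exact ((HomologicalComplex.exactAt_iff _ _).1 (hK i)).map w
  let g : (w.mapHomologicalComplex (ComplexShape.up ℤ)).obj K ⟶ I :=
    (w.mapHomologicalComplex _).map f ≫
      { f := fun i => adj.counit.app (I.X i)
        comm' := fun i j _ => (adj.counit.naturality (I.d i j)).symm }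
  obtain ⟨h⟩ := h.nonempty_homotopy_zero g hwK
  refine ⟨{ hom := fun i j => adj.homEquiv (K.X i) (I.X j) (h.hom i j)
            zero := fun i j hij => by
              rw [h.zero i j hij]; erw [Adjunction.homEquiv_unit, u.map_zero, comp_zero]; rfl
            comm := fun i => ?_ }⟩
  have e : adj.homEquiv (K.X i) (I.X i) (g.f i) = f.f i := by
    change adj.homEquiv _ _ (w.map (f.f i) ≫ adj.counit.app (I.X i)) = _
    exact (congrArg (adj.homEquiv (K.X i) (I.X i)) (Adjunction.homEquiv_counit ..).symm).trans (Equiv.apply_symm_apply _ _)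
  rw [← e, h.comm i, HomologicalComplex.zero_f, HomologicalComplex.zero_f, add_zero, add_zero]
  erw [dNext_eq _ (show (ComplexShape.up ℤ).Rel i (i + 1) by simp),
    dNext_eq _ (show (ComplexShape.up ℤ).Rel i (i + 1) by simp),
    prevD_eq _ (show (ComplexShape.up ℤ).Rel (i - 1) i by simp),
    prevD_eq _ (show (ComplexShape.up ℤ).Rel (i - 1) i by simp)]
  change adj.homEquiv _ _ (w.map (K.d i (i + 1)) ≫ h.hom (i + 1) i + (show w.obj (K.X i) ⟶ I.X (i - 1) from h.hom i (i - 1)) ≫ I.d (i - 1) i) = _
  erw [Adjunction.homEquiv_unit, Functor.map_add, Preadditive.comp_add]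
  congr 1
  · exact (Adjunction.homEquiv_unit ..).symm.trans (adj.homEquiv_naturality_left _ _)
  · exact (Adjunction.homEquiv_unit ..).symm.trans (adj.homEquiv_naturality_right _ _)

end Groth.Agent.S0481
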