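import Groth.Statements.S0482
import Groth.Agent.SiteBase.CoLift
import Groth.Agent.SiteBase.CofreeFam
import Groth.Agent.SiteBase.HKRep
import Groth.Agent.SiteBase.Global

set_option autoImplicit false
universe u
open CategoryTheory
open CohSite

namespace Groth.Agent.S0482

/-- For a sheaf of abelian groups F on a small site and an object U, H^n(U, F) (Ext out of the free
abelian sheaf on U) is isomorphic to the cohomology of the restriction of F to the site of objects
over U (existence of a group isomorphism). -/
theorem result {C : Type u} [SmallCategory C] (J : GrothendieckTopology C)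
    (F : Sheaf J AddCommGrpCat.{u}) (U : C) (n : ℕ) :
    Nonempty (CohSite.HU F n U ≃+ Sheaf.H.{u} (F.over U) n) := by
  obtain ⟨e⟩ := Groth.Agent.SiteBase.nonempty_HU_push_addEquiv (J := J) (K := J.over U) (Over.forget U) (Over.mk (𝟙 U))
    (fun I hI q => Groth.Agent.SiteBase.subsingleton_HU_of_totallyAcyclic
      (haveI := @Groth.Agent.SiteBase.injective_over _ _ J U I hI
       Groth.Agent.SiteBase.isTotallyAcyclic_of_injective _) _ q) F n
  have e2 := Groth.Agent.SiteBase.huTerminalEquiv (Over.mkIdTerminal (X := U))
    ((CohSite.push J (J.over U) (Over.forget U)).obj F) n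
  exact ⟨e.symm.trans e2⟩

end Groth.Agent.S0482
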