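import Groth.Agent.SiteBase.Rpush
import Groth.Statements.S0487
-- import your own Groth.Agent.* helpers here

set_option autoImplicit false
universe u
open CategoryTheory
open CohSite

namespace Groth.Agent.S0487

/-- Let u : D ⥤ C be a continuous functor between small sites (e.g. underlying a morphism of sites f),
with direct image f_* F = F ∘ u; only continuity is used. Then R^i f_* F is isomorphic to the
sheafification of the presheaf V ↦ H^i(u(V), F) (existence of an isomorphism of sheaves). -/
theorem result {C D : Type u} [SmallCategory C] [SmallCategory D]
    (J : GrothendieckTopology C) (K : GrothendieckTopology D) (u : D ⥤ C) [u.IsContinuous K J]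
    (F : Sheaf J AddCommGrpCat.{u}) (i : ℕ) :
    Nonempty ((CohSite.Rpush J K u i).obj F ≅
      (presheafToSheaf K AddCommGrpCat.{u}).obj (u.op ⋙ F.cohomologyPresheaf i)) := by
  exact ⟨(Groth.Agent.SiteBase.rpushIso J K u i).app F⟩

end Groth.Agent.S0487
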