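import Groth.Statements.S0489
import Mathlib.Algebra.Homology.HomotopyCategory.KInjective
import Mathlib.Algebra.Homology.HomologicalComplexLimits
import Mathlib.CategoryTheory.Functor.OfSequence

set_option autoImplicit false
universe v u
open CategoryTheory
open CohDer

namespace Groth.Agent.S0489

open CategoryTheory.Limits Opposite in
/-- Let … → I_3 → I_2 → I_1 be an inverse system of K-injective cochain complexes in an abelian category
with sequential limits, such that each transition map is a split epimorphism in each degree. Then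
the (termwise) limit complex is K-injective. -/
theorem result {A : Type u} [Category.{v} A] [Abelian A] [HasLimitsOfShape ℕᵒᵖ A]
    (I : ℕᵒᵖ ⥤ CochainComplex A ℤ) (h1 : ∀ n : ℕ, (I.obj (op n)).IsKInjective)
    (h2 : ∀ (n : ℕ) (m : ℤ), IsSplitEpi ((I.map (homOfLE (Nat.le_succ n)).op).f m)) :
    (limit I).IsKInjective := by
  refine ⟨fun {K} f hK => ?_⟩
  have := h1
  let p : ∀ n : ℕ, I.obj (Opposite.op (n + 1)) ⟶ I.obj (Opposite.op n) := fun n =>
    I.map (homOfLE (Nat.le_succ n)).op
  let π : ∀ n : ℕ, Limits.limit I ⟶ I.obj (Opposite.op n) := fun n => Limits.limit.π I (Opposite.op n)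
  have hπ : ∀ n, π (n + 1) ≫ p n = π n := fun n => Limits.limit.w I _
  let T := fun n => {h : CochainComplex.HomComplex.Cochain K (I.obj (Opposite.op n)) (-1) //
    CochainComplex.HomComplex.δ (-1) 0 h = CochainComplex.HomComplex.Cochain.ofHom (f ≫ π n)}
  have base : ∀ n, Nonempty (T n) := fun n => by
    obtain ⟨z, hz⟩ := CochainComplex.IsKInjective.eq_δ_of_cocycle
      (CochainComplex.HomComplex.Cocycle.ofHom (f ≫ π n)) hK (-1) (by simp)
    exact ⟨⟨z, by rw [hz]; rfl⟩⟩
  have step : ∀ n (h : T n), ∃ h' : T (n + 1),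
      h'.1.comp (CochainComplex.HomComplex.Cochain.ofHom (p n)) (add_zero _) = h.1 := by
    intro n h
    obtain ⟨h'⟩ := base (n + 1)
    let z := h'.1.comp (CochainComplex.HomComplex.Cochain.ofHom (p n)) (add_zero _) - h.1
    have hz : CochainComplex.HomComplex.δ (-1) 0 z = 0 := by
      rw [CochainComplex.HomComplex.δ_sub, CochainComplex.HomComplex.δ_comp_ofHom, h'.2, h.2,
        ← CochainComplex.HomComplex.Cochain.ofHom_comp, Category.assoc, hπ, sub_self]
    obtain ⟨β, hβ⟩ := CochainComplex.IsKInjective.eq_δ_of_cocycle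
      (CochainComplex.HomComplex.Cocycle.mk z 0 (by simp) hz) hK (-2) (by simp)
    let β' : CochainComplex.HomComplex.Cochain K (I.obj (Opposite.op (n + 1))) (-2) :=
      CochainComplex.HomComplex.Cochain.mk fun a b hab =>
        β.v a b hab ≫ @section_ _ _ _ _ ((p n).f b) (h2 n b)
    have hβ' : β'.comp (CochainComplex.HomComplex.Cochain.ofHom (p n)) (add_zero _) = β := by
      ext a b hab
      rw [CochainComplex.HomComplex.Cochain.comp_zero_cochain_v]
      simp [β']
    refine ⟨⟨h'.1 - CochainComplex.HomComplex.δ (-2) (-1) β', ?_⟩, ?_⟩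
    · rw [CochainComplex.HomComplex.δ_sub, CochainComplex.HomComplex.δ_δ, sub_zero, h'.2]
    · dsimp only
      rw [CochainComplex.HomComplex.Cochain.sub_comp, ← CochainComplex.HomComplex.δ_comp_ofHom,
        hβ', hβ]
      exact sub_sub_cancel _ _
  let s : ∀ n, T n := fun n => Nat.rec (motive := T) (base 0).some (fun n h => (step n h).choose) n
  have hs : ∀ n, (s (n + 1)).1.comp (CochainComplex.HomComplex.Cochain.ofHom (p n)) (add_zero _) =
      (s n).1 := fun n => (step n (s n)).choose_spec
  have hlim : ∀ b : ℤ, Limits.IsLimit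
      ((HomologicalComplex.eval A (ComplexShape.up ℤ) b).mapCone (Limits.limit.cone I)) := fun b =>
    Limits.isLimitOfPreserves _ (Limits.limit.isLimit I)
  let cn : ∀ (a b : ℤ), a + (-1) = b → Limits.Cone (I ⋙ HomologicalComplex.eval A (ComplexShape.up ℤ) b) :=
    fun a b hab =>
      { pt := K.X a
        π := NatTrans.ofOpSequence (fun n => (s n).1.v a b hab) (fun n => by
          have := CochainComplex.HomComplex.Cochain.congr_v (hs n) a b hab
          rw [CochainComplex.HomComplex.Cochain.comp_zero_cochain_v,
            CochainComplex.HomComplex.Cochain.ofHom_v] at this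
          exact (Category.id_comp _).trans this.symm) }
  let H : CochainComplex.HomComplex.Cochain K (Limits.limit I) (-1) :=
    CochainComplex.HomComplex.Cochain.mk fun a b hab => (hlim b).lift (cn a b hab)
  have hH : ∀ n, H.comp (CochainComplex.HomComplex.Cochain.ofHom (π n)) (add_zero _) = (s n).1 := by
    intro n
    ext a b hab
    rw [CochainComplex.HomComplex.Cochain.comp_zero_cochain_v,
      CochainComplex.HomComplex.Cochain.ofHom_v]
    exact (hlim b).fac (cn a b hab) (Opposite.op n)
  refine ⟨(CochainComplex.HomComplex.Cochain.equivHomotopy f 0).symm ⟨H, ?_⟩⟩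
  rw [CochainComplex.HomComplex.Cochain.ofHom_zero, add_zero]
  ext a
  refine (hlim a).hom_ext fun ⟨n⟩ => ?_
  have e : (CochainComplex.HomComplex.δ (-1) 0 H).comp
      (CochainComplex.HomComplex.Cochain.ofHom (π n)) (add_zero _) =
      CochainComplex.HomComplex.Cochain.ofHom (f ≫ π n) := by
    rw [← CochainComplex.HomComplex.δ_comp_ofHom, hH, (s n).2]
  have := CochainComplex.HomComplex.Cochain.congr_v e a a (add_zero a)
  rw [CochainComplex.HomComplex.Cochain.comp_zero_cochain_v] at this
  simp only [CochainComplex.HomComplex.Cochain.ofHom_v, HomologicalComplex.comp_f] at this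
  exact (congrArg (fun t => t ≫ (π n).f a) (CochainComplex.HomComplex.Cochain.ofHom_v f a)).trans this.symm

end Groth.Agent.S0489
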