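import Groth.Statements.S0490
import Groth.Agent.TriCat.Admissible

set_option autoImplicit false
universe v u
open CategoryTheory
open CohDer

namespace Groth.Agent.S0490

open CategoryTheory.Pretriangulated in
/-- Let A be a full triangulated subcategory of a pretriangulated category D (an object property
containing zero, stable under shifts and closed under extensions). The inclusion A → D is a left
adjoint (i.e. has a right adjoint) if and only if every object X of D fits in a distinguished
triangle A → X → B → A[1] with A in the subcategory and B right orthogonal to it. (The source's
further conclusions about saturation are not asserted.) -/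
theorem result {D : Type u} [Category.{v} D] [Preadditive D] [Limits.HasZeroObject D] [HasShift D ℤ]
    [∀ n : ℤ, (shiftFunctor D n).Additive] [Pretriangulated D]
    (P : ObjectProperty D) [P.IsTriangulated] :
    P.ι.IsLeftAdjoint ↔ ∀ X : D, ∃ (A B : D) (f : A ⟶ X) (g : X ⟶ B) (h : B ⟶ (shiftFunctor D (1 : ℤ)).obj A),
      Triangle.mk f g h ∈ distinguishedTriangles ∧ P A ∧ P.rightOrthogonal B := by
  exact Groth.Agent.TriCat.isLeftAdjoint_ι_iff P

end Groth.Agent.S0490
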