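import Groth.Statements.S0492
import Groth.Agent.SiteBase.RightExact
import Mathlib.CategoryTheory.Sites.EpiMono
import Mathlib.CategoryTheory.Abelian.FunctorCategory
import Mathlib.CategoryTheory.Limits.Types.Limits
import Mathlib.CategoryTheory.Preadditive.AdditiveFunctor

set_option autoImplicit false
universe u
open CategoryTheory
open CohSite

namespace Groth.Agent.S0492

open CategoryTheory.Limits in
/-- Part (4), for sheaves of abelian groups: let B be a set of weakly contractible objects of a small
site such that every object admits a covering family by members of B. Then products in the category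
of abelian sheaves are exact (Grothendieck's AB4*). -/
theorem result {C : Type u} [SmallCategory C] (J : GrothendieckTopology C)
    (B : Set C) (hB : ∀ U ∈ B, CohSite.IsWeaklyContractible J U)
    (hcov : ∀ V : C, ∃ (ι : Type u) (U : ι → C) (f : ∀ i, U i ⟶ V), (∀ i, U i ∈ B) ∧ Sieve.ofArrows U f ∈ J V) :
    AB4Star (Sheaf J AddCommGrpCat.{u}) := by
  refine ⟨fun α => ⟨?_⟩⟩
  let L : (Discrete α ⥤ Sheaf J AddCommGrpCat.{u}) ⥤ Sheaf J AddCommGrpCat.{u} := lim
  have : PreservesLimitsOfSize.{0, 0} L := constLimAdj.rightAdjoint_preservesLimits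
  have : PreservesFiniteLimits L := inferInstance
  have : L.Additive := Functor.additive_of_preserves_binary_products L
  have : L.PreservesEpimorphisms := ⟨fun {F G} φ _ => by
    refine (Sheaf.isLocallySurjective_iff_epi' _ _).1 ⟨fun {V} s => ?_⟩
    obtain ⟨ι, U, f, hU, hf⟩ := hcov V
    refine J.superset_covering ?_ hf
    rw [Sieve.ofArrows, Sieve.generate_le_iff]
    rintro _ _ ⟨i⟩
    show ∃ t, (limMap φ).hom.app (Opposite.op (U i)) t = (limit G).obj.map (f i).op s
    let E := sheafToPresheaf J AddCommGrpCat.{u} ⋙ (evaluation Cᵒᵖ AddCommGrpCat.{u}).obj (Opposite.op (U i)) ⋙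
      forget AddCommGrpCat.{u}
    let s' := (limit G).obj.map (f i).op s
    have hlift : ∀ a : Discrete α, ∃ t : E.obj (F.obj a), E.map (φ.app a) t = E.map (limit.π G a) s' := fun a => by
      have : Epi (φ.app a) := inferInstance
      have h := (Sheaf.isLocallySurjective_iff_epi' _ (φ.app a)).2 this
      let ψ := (sheafCompose J (forget AddCommGrpCat.{u})).map (φ.app a)
      have : Sheaf.IsLocallySurjective ψ :=
        (Presheaf.isLocallySurjective_iff_whisker_forget J (φ.app a).hom).1 h
      exact hB (U i) (hU i) _ _ ψ (Sheaf.epi_of_isLocallySurjective _) _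
    choose t ht using hlift
    let x : (F ⋙ E).sections := ⟨t, fun {a b} g => by
      obtain rfl : a = b := Discrete.ext (Discrete.eq_of_hom g)
      rw [show g = 𝟙 a from Subsingleton.elim _ _, CategoryTheory.Functor.map_id]
      rfl⟩
    obtain ⟨y, hy⟩ := ((Types.isLimit_iff_bijective_sectionOfCone _).1 ⟨isLimitOfPreserves E (limit.isLimit F)⟩).2 x
    refine ⟨y, ((Types.isLimit_iff_bijective_sectionOfCone _).1 ⟨isLimitOfPreserves E (limit.isLimit G)⟩).1
      (Subtype.ext (funext fun a => ?_))⟩
    show E.map (limit.π G a) (E.map (limMap φ) y) = E.map (limit.π G a) s'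
    rw [← ht a]
    refine ((ConcreteCategory.comp_apply _ _ _).symm.trans (congrArg (fun g => g y)
      ((E.map_comp _ _).symm.trans ((congrArg E.map (limMap_π φ a)).trans (E.map_comp _ _))))).trans ?_
    exact (ConcreteCategory.comp_apply _ _ _).trans (congrArg (E.map (φ.app a)) (congrArg (fun r => r.1 a) hy))⟩
  exact SiteBase.preservesFiniteColimits_of_preservesEpis L

end Groth.Agent.S0492
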