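import Groth.Statements.S0493
import Groth.Agent.SiteBase.Cartan

set_option autoImplicit false
universe u
open CohTop

namespace Groth.Agent.S0493

open TopologicalSpace CategoryTheory.Limits in
/-- Let B be a basis of opens of X and Cov a class of families of opens such that (1) every family in
Cov has its union, its members and all finite intersections of members in B, (2) for U in B every
open covering of U is refined by a family in Cov with union U, and (3) the Cech cohomology of F in
positive degrees vanishes for every family in Cov. Then H^(p+1)(U, F) = 0 for every U in B. -/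
theorem result {X : TopCat.{u}} (F : CohTop.Ab X)
    (B : Set (Opens X)) (hB : Opens.IsBasis B) (Cov : ∀ (ι : Type u), (ι → Opens X) → Prop)
    (h1 : ∀ (ι : Type u) (V : ι → Opens X), Cov ι V →
      iSup V ∈ B ∧ ∀ (p : ℕ) (a : Fin (p + 1) → ι), (iInf fun k => V (a k)) ∈ B)
    (h2 : ∀ U ∈ B, ∀ (κ : Type u) (W : κ → Opens X), iSup W = U →
      ∃ (ι : Type u) (V : ι → Opens X), Cov ι V ∧ iSup V = U ∧ ∀ i, ∃ k, V i ≤ W k)
    (h3 : ∀ (ι : Type u) (V : ι → Opens X), Cov ι V → ∀ p : ℕ, IsZero (CohTop.cechH F.obj V (p + 1)))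
    (U : Opens X) (hU : U ∈ B) (p : ℕ) : Subsingleton (CohTop.HU F (p + 1) U) := by
  refine Groth.Agent.SiteBase.subsingleton_HU_of_cartan
    (J := Opens.grothendieckTopology X) (fun V => V ∈ B)
    (K := { k : Σ ι : Type u, ι → Opens X // Cov k.1 k.2 }) (fun _ => Opens X) (fun _ => CategoryTheory.Functor.id _)
    (fun k => k.1.1) (fun k => k.1.2)
    (fun k n a => by
      have := (h1 _ _ k.2).2 n a
      rw [← Groth.Agent.SiteBase.piObj_eq_iInf k.1.2 a] at this
      exact this)
    (fun k => Groth.Agent.SiteBase.injAcyclic_opens _) ?_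
    (fun k q => (HomologicalComplex.exactAt_iff_isZero_homology _ _).2 (h3 _ _ k.2 q)) (U := U) hU p
  intro V hV T hT
  obtain ⟨κ, W, hCov, hW, hle⟩ :=
    h2 V hV _ _ (Groth.Agent.SiteBase.iSup_sieve_eq hT)
  refine ⟨⟨⟨κ, W⟩, hCov⟩, Groth.Agent.SiteBase.exists_ctxOpens W hW T fun i => ?_⟩
  obtain ⟨k, hk⟩ := hle i
  obtain ⟨f, hf⟩ := k.2
  exact ⟨CategoryTheory.CategoryStruct.comp (CategoryTheory.homOfLE hk) f, T.downward_closed hf _⟩

end Groth.Agent.S0493
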