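import Groth.Statements.S0496
import Groth.Agent.Hensel.Local

set_option autoImplicit false
universe u
open Hensel

namespace Groth.Agent.S0496

/-- If every factorization of the reduction of a monic polynomial into two coprime factors over the
residue field lifts to a factorization over the local ring, then the local ring is henselian. -/
theorem result (R : Type u) [CommRing R] [IsLocalRing R]
    (h : ∀ f : Polynomial R, f.Monic →
      ∀ g₀ h₀ : Polynomial (IsLocalRing.ResidueField R), IsCoprime g₀ h₀ →
      Polynomial.map (IsLocalRing.residue R) f = g₀ * h₀ →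
      ∃ g h : Polynomial R, f = g * h ∧ Polynomial.map (IsLocalRing.residue R) g = g₀ ∧
        Polynomial.map (IsLocalRing.residue R) h = h₀) :
    HenselianLocalRing R := by
  classical
  let m := IsLocalRing.maximalIdeal R
  have jac : m ≤ Ideal.jacobson ⊥ := by rw [IsLocalRing.jacobson_eq_maximalIdeal ⊥ bot_ne_top]
  have hm : HenselianRing R m := by
    refine Groth.Agent.Hensel.henselianRing_iff_gabberCond.mpr ⟨jac, fun N hN f hf hmap => ?_⟩
    refine Groth.Agent.Hensel.exists_root_of_idempotent_lift jac hN hf hmap fun hidem => ?_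
    have hcop : IsCoprime ((Polynomial.X : Polynomial (IsLocalRing.ResidueField R)) ^ N)
        (Polynomial.X - 1) := IsCoprime.pow_left ⟨1, -1, by ring⟩
    obtain ⟨g, k, hgk, hg, hk⟩ := h f hf _ _ hcop hmap
    obtain ⟨c₀, d₀, hcd⟩ := hcop
    obtain ⟨c, rfl⟩ := Polynomial.map_surjective _ IsLocalRing.residue_surjective c₀
    obtain ⟨d, rfl⟩ := Polynomial.map_surjective _ IsLocalRing.residue_surjective d₀
    have := hf.finite_adjoinRoot
    let r := AdjoinRoot.root f
    let π := Ideal.Quotient.mk (m.map (algebraMap R (AdjoinRoot f)))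
    let φ : IsLocalRing.ResidueField R →+* _ :=
      Ideal.quotientMap (m.map (algebraMap R (AdjoinRoot f))) (algebraMap R (AdjoinRoot f))
        Ideal.le_comap_map
    have hev : ∀ p : Polynomial R, π (Polynomial.aeval r p) =
        (p.map (IsLocalRing.residue R)).eval₂ φ (π r) := by
      intro p; rw [Polynomial.eval₂_map, Polynomial.aeval_def, Polynomial.hom_eval₂]; rfl
    let G := Polynomial.aeval r (c * g)
    let K := Polynomial.aeval r (d * k)
    have hprod : G * K = 0 := by
      have h0 : Polynomial.aeval r g * Polynomial.aeval r k = 0 := by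
        rw [← map_mul, ← hgk, AdjoinRoot.aeval_eq, AdjoinRoot.mk_self]
      simp only [G, K, map_mul]
      linear_combination (Polynomial.aeval r c * Polynomial.aeval r d) * h0
    have hsum : π (G + K) = 1 := by
      have := congr(Polynomial.eval₂ φ (π r) $hcd)
      rw [map_add, hev, hev, Polynomial.map_mul, Polynomial.map_mul, hg, hk]
      rw [Polynomial.eval₂_add, Polynomial.eval₂_one] at this
      exact this
    have hu : IsUnit (G + K) := Groth.Agent.Hensel.isUnit_of_mk_eq_one
      (Groth.Agent.Hensel.map_le_jacobson_of_isIntegral jac) hsum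
    refine ⟨G * ↑hu.unit⁻¹, ?_, ?_⟩
    · show _ * _ = _
      have hv : (G + K) * ↑hu.unit⁻¹ = 1 := hu.mul_val_inv
      linear_combination (G * ↑hu.unit⁻¹) * hv - ↑hu.unit⁻¹ * ↑hu.unit⁻¹ * hprod
    · show π (G * ↑hu.unit⁻¹) = π r ^ N
      have hv : π (↑hu.unit⁻¹ : AdjoinRoot f) = 1 := by
        have := congr(π $(hu.mul_val_inv))
        rwa [map_mul, hsum, one_mul, map_one] at this
      rw [map_mul, hv, mul_one]
      show π G = π r ^ N
      have h1 := hsum
      rw [map_add, hev, hev, Polynomial.map_mul, Polynomial.map_mul, hg, hk] at h1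
      rw [hev, Polynomial.map_mul, hg]
      have h2 : π r ^ N * (π r - 1) = 0 := by
        have := hev f
        rw [show f.map (IsLocalRing.residue R) =
            (Polynomial.X ^ N * (Polynomial.X - 1) : Polynomial (IsLocalRing.ResidueField R)) from hmap,
          AdjoinRoot.aeval_eq,
          AdjoinRoot.mk_self, map_zero] at this
        rw [Polynomial.eval₂_mul, Polynomial.eval₂_pow, Polynomial.eval₂_sub, Polynomial.eval₂_X,
          Polynomial.eval₂_one] at this
        exact this.symm
      have h3 : π r ^ N * π r ^ N = π r ^ N := hidem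
      simp only [Polynomial.eval₂_mul, Polynomial.eval₂_pow, Polynomial.eval₂_X,
        Polynomial.eval₂_sub, Polynomial.eval₂_one] at h1 ⊢
      linear_combination π r ^ N * h1
        - (Polynomial.eval₂ φ (π r) (d.map (IsLocalRing.residue R))) * h2
        - (Polynomial.eval₂ φ (π r) (c.map (IsLocalRing.residue R))) * h3
  exact Groth.Agent.Hensel.henselianLocalRing_of_henselianRing R

end Groth.Agent.S0496
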