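import Groth.Statements.S0497
import Groth.Agent.Hensel.Local

set_option autoImplicit false
universe u
open Hensel

namespace Groth.Agent.S0497

/-- Over a henselian local ring, any factorization of the reduction of a polynomial (not necessarily
monic) into a monic factor and a factor coprime to it lifts to a factorization over the ring in
which the lift of the monic factor is again monic (so it has the same degree as its reduction). -/
theorem result (R : Type u) [CommRing R] [HenselianLocalRing R]
    (f : Polynomial R) (g₀ h₀ : Polynomial (IsLocalRing.ResidueField R)) (hg : g₀.Monic)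
    (hc : IsCoprime g₀ h₀) (hf : Polynomial.map (IsLocalRing.residue R) f = g₀ * h₀) :
    ∃ g h : Polynomial R, f = g * h ∧ g.Monic ∧ Polynomial.map (IsLocalRing.residue R) g = g₀ ∧
      Polynomial.map (IsLocalRing.residue R) h = h₀ := by
  obtain ⟨g, h, h1, h2, h3, h4⟩ :=
    Groth.Agent.Hensel.exists_monic_factor_lift (IsLocalRing.maximalIdeal R) f hg hc hf
  exact ⟨g, h, h1, h2, h3, h4⟩

end Groth.Agent.S0497
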