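import Groth.Statements.S0520
import Groth.Agent.Hensel.Factor

set_option autoImplicit false
universe u
open Hensel

namespace Groth.Agent.S0520

/-- A ring `A` is Henselian at an ideal `I` in Mathlib's sense (simple roots lift) exactly when `I` lies
in the Jacobson radical and every factorization of the reduction of a monic polynomial into two
comaximal monic factors over `A/I` lifts to a factorization into monic polynomials over `A`. -/
theorem result (A : Type u) [CommRing A] (I : Ideal A) :
    HenselianRing A I ↔ (I ≤ Ideal.jacobson ⊥ ∧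
      ∀ f : Polynomial A, f.Monic → ∀ g₀ h₀ : Polynomial (A ⧸ I), g₀.Monic → h₀.Monic →
        IsCoprime g₀ h₀ → Polynomial.map (Ideal.Quotient.mk I) f = g₀ * h₀ →
        ∃ g h : Polynomial A, g.Monic ∧ h.Monic ∧ f = g * h ∧
          Polynomial.map (Ideal.Quotient.mk I) g = g₀ ∧ Polynomial.map (Ideal.Quotient.mk I) h = h₀) := by
  refine ⟨fun _ => ⟨HenselianRing.jac, fun f hf g₀ h₀ hg hh hc he => ?_⟩, fun ⟨hjac, H⟩ => ?_⟩
  · obtain ⟨g, h, hg', hh', -, hgh, h1, h2⟩ := Groth.Agent.Hensel.exists_factor_lift I hf hg hh hc he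
    exact ⟨g, h, hg', hh', hgh, h1, h2⟩
  · refine Groth.Agent.Hensel.henselianRing_iff_gabberCond.mpr ⟨hjac, fun N _ f hf hmap => ?_⟩
    obtain ⟨g, h, -, hh, rfl, -, hh2⟩ := H f hf (Polynomial.X ^ N) (Polynomial.X - 1)
      (Polynomial.monic_X_pow N) (by simpa using Polynomial.monic_X_sub_C (1 : A ⧸ I))
      (IsCoprime.pow_left (show IsCoprime (Polynomial.X : Polynomial (A ⧸ I)) (Polynomial.X - 1)
        from ⟨1, -1, by ring⟩)) hmap
    rcases subsingleton_or_nontrivial (A ⧸ I) with hs | hs
    · have hI : I = ⊤ := Ideal.Quotient.subsingleton_iff.mp hs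
      have : Subsingleton A := subsingleton_of_zero_eq_one (by
        have := (Ideal.mem_jacobson_bot.mp (hjac (hI ▸ Submodule.mem_top : (-1 : A) ∈ I)) 1)
        simp at this; exact this)
      exact ⟨0, Subsingleton.elim _ _, hI ▸ Submodule.mem_top⟩
    have hd : h.natDegree = 1 := by
      have h1 : (Polynomial.X - 1 : Polynomial (A ⧸ I)).natDegree = 1 := by
        simpa using Polynomial.natDegree_X_sub_C (1 : A ⧸ I)
      rw [← hh.natDegree_map (Ideal.Quotient.mk I), hh2, h1]
    have hhe := hh.eq_X_add_C hd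
    refine ⟨-h.coeff 0, ?_, ?_⟩
    · rw [Polynomial.IsRoot, Polynomial.eval_mul]
      have : Polynomial.eval (-h.coeff 0) h = 0 := by
        conv_lhs => rw [hhe]
        simp
      rw [this, mul_zero]
    · rw [← Ideal.Quotient.eq, map_neg, ← Polynomial.coeff_map, hh2]
      simp

end Groth.Agent.S0520
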