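import Groth.Statements.S0534
import Groth.Agent.Hensel.ProjectiveLift
-- import your own Groth.Agent.* helpers here

set_option autoImplicit false
universe u
open Hensel

namespace Groth.Agent.S0534

/-- If `R` is Henselian at `I`, every finitely generated projective `R/I`-module is the base change of a
finitely generated projective `R`-module. -/
theorem result (R : Type u) [CommRing R] (I : Ideal R)
    [HenselianRing R I] (Q : Type u) [AddCommGroup Q] [Module (R ⧸ I) Q] [Module.Finite (R ⧸ I) Q]
    [Module.Projective (R ⧸ I) Q] :
    ∃ (P : Type u) (_ : AddCommGroup P) (_ : Module R P), Module.Finite R P ∧ Module.Projective R P ∧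
      Nonempty (TensorProduct R (R ⧸ I) P ≃ₗ[R ⧸ I] Q) := by
  exact Groth.Agent.Hensel.exists_projective_lift I Q

end Groth.Agent.S0534
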