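import Groth.Statements.S0545
import Mathlib

set_option autoImplicit false
universe u
open CAlg

namespace Groth.Agent.S0545

/-- For a Noetherian ring `A` with two ideals `I` and `J`, completeness of `A` along `I` together with
completeness of the quotient `A/I` along the image of `J` forces completeness of `A` along `J`. -/
theorem result (A : Type u) [CommRing A] [IsNoetherianRing A]
    (I J : Ideal A) [IsAdicComplete I A]
    [IsAdicComplete (Ideal.map (Ideal.Quotient.mk I) J) (A ⧸ I)] : IsAdicComplete J A := by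
  classical
  have hIjac := IsAdicComplete.le_jacobson_bot (I := I) (R := A)
  have hJjac' := IsAdicComplete.le_jacobson_bot (I := J.map (Ideal.Quotient.mk I)) (R := A ⧸ I)
  have hJjac : J ≤ Ideal.jacobson ⊥ := by
    intro x hx
    rw [Ideal.mem_jacobson_bot]
    intro y
    have h := Ideal.mem_jacobson_bot.mp (hJjac' (Ideal.mem_map_of_mem _ hx)) (Ideal.Quotient.mk I y)
    rw [← map_mul, ← map_one (Ideal.Quotient.mk I), ← map_add] at h
    obtain ⟨z, hz⟩ := h.exists_right_inv
    obtain ⟨z, rfl⟩ := Ideal.Quotient.mk_surjective z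
    rw [← map_mul, ← map_one (Ideal.Quotient.mk I), Ideal.Quotient.eq] at hz
    have := Ideal.mem_jacobson_bot.mp (hIjac hz) 1
    rw [mul_one, sub_add_cancel] at this
    exact isUnit_of_mul_isUnit_left this
  have haus : ∀ (Q : Type u) [AddCommGroup Q] [Module A Q] [Module.Finite A Q],
      IsHausdorff J Q := fun Q _ _ _ => IsHausdorff.of_le_jacobson J Q hJjac
  have ext : ∀ (M : Type u) [AddCommGroup M] [Module A M] [Module.Finite A M]
      (N : Type u) [AddCommGroup N] [Module A N] (g : M →ₗ[A] N), Function.Surjective g →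
      IsPrecomplete J (LinearMap.ker g) → IsPrecomplete J N → IsPrecomplete J M := by
    intro M _ _ _ N _ _ g hg hK hN
    rw [← AdicCompletion.of_surjective_iff]
    intro y
    obtain ⟨c, hc⟩ := AdicCompletion.of_surjective_iff.mpr hN (AdicCompletion.map J g y)
    obtain ⟨m, rfl⟩ := hg c
    haveI : Module.Finite A N := Module.Finite.of_surjective g hg
    have hex := AdicCompletion.map_exact (I := J) (f := (LinearMap.ker g).subtype) (g := g)
      (Subtype.val_injective) (LinearMap.exact_subtype_ker_map g) hg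
    obtain ⟨z, hz⟩ := (hex (y - AdicCompletion.of J M m)).mp
      (by rw [map_sub, AdicCompletion.map_of, hc, sub_self])
    obtain ⟨k, rfl⟩ := AdicCompletion.of_surjective_iff.mpr hK z
    refine ⟨(LinearMap.ker g).subtype k + m, ?_⟩
    rw [AdicCompletion.map_of] at hz
    rw [map_add, hz, sub_add_cancel]
  have surj : ∀ (M : Type u) [AddCommGroup M] [Module A M]
      (N : Type u) [AddCommGroup N] [Module A N] (g : M →ₗ[A] N), Function.Surjective g →
      IsPrecomplete J M → IsPrecomplete J N := by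
    intro M _ _ N _ _ g hg hM
    rw [← AdicCompletion.of_surjective_iff]
    intro y
    obtain ⟨x, rfl⟩ := AdicCompletion.map_surjective J hg y
    obtain ⟨c, rfl⟩ := AdicCompletion.of_surjective_iff.mpr hM x
    exact ⟨g c, (AdicCompletion.map_of J g c).symm⟩
  have hAI : IsPrecomplete J (A ⧸ I) :=
    (IsPrecomplete.map_algebraMap_iff (I := J) (S := A ⧸ I) (M := A ⧸ I)).mp inferInstance
  have sub : ∀ (M : Type u) [AddCommGroup M] [Module A M], ∀ N : Submodule A M, N.FG →
      (∀ a ∈ I, ∀ x ∈ N, a • x = 0) → IsPrecomplete J N := by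
    intro M _ _ N hN
    induction N, hN using Submodule.fg_induction with
    | singleton x =>
      intro hk
      refine surj (A ⧸ I) _ (Submodule.liftQ I
        (LinearMap.toSpanSingleton A _ ⟨x, Submodule.mem_span_singleton_self x⟩) ?_) ?_ hAI
      · intro a ha
        exact Subtype.ext (hk a ha x (Submodule.mem_span_singleton_self x))
      · intro y
        obtain ⟨a, ha⟩ := Submodule.mem_span_singleton.mp y.2
        exact ⟨Submodule.Quotient.mk a, Subtype.ext ha⟩
    | sup N₁ N₂ hN₁ hN₂ h₁ h₂ =>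
      intro hk
      have k₁ := h₁ fun a ha x hx => hk a ha x (Submodule.mem_sup_left hx)
      have k₂ := h₂ fun a ha x hx => hk a ha x (Submodule.mem_sup_right hx)
      haveI : Module.Finite A N₁ := Module.Finite.iff_fg.mpr hN₁
      haveI : Module.Finite A N₂ := Module.Finite.iff_fg.mpr hN₂
      have hprod : IsPrecomplete J (N₁ × N₂) := by
        refine ext _ _ (LinearMap.snd A N₁ N₂) (fun y => ⟨(0, y), rfl⟩) ?_ k₂
        refine surj N₁ _ ((LinearMap.inl A N₁ N₂).codRestrict _ fun y => rfl) ?_ k₁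
        rintro ⟨⟨p, q⟩, hpq⟩
        exact ⟨p, Subtype.ext (Prod.ext rfl (LinearMap.mem_ker.mp hpq).symm)⟩
      refine surj (N₁ × N₂) _ (((Submodule.inclusion (le_sup_left : N₁ ≤ N₁ ⊔ N₂)).coprod
        (Submodule.inclusion (le_sup_right : N₂ ≤ N₁ ⊔ N₂)))) ?_ hprod
      rintro ⟨y, hy⟩
      obtain ⟨p, hp, q, hq, rfl⟩ := Submodule.mem_sup.mp hy
      exact ⟨(⟨p, hp⟩, ⟨q, hq⟩), Subtype.ext rfl⟩
  have P : ∀ k, IsPrecomplete J (A ⧸ I ^ k) := by
    intro k
    induction k with
    | zero =>
      haveI : Subsingleton (A ⧸ I ^ 0) := Ideal.Quotient.subsingleton_iff.mpr (by simp)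
      exact IsPrecomplete.of_subsingleton J _
    | succ k ih =>
      let g : (A ⧸ I ^ (k + 1)) →ₗ[A] (A ⧸ I ^ k) :=
        Submodule.factor (Ideal.pow_le_pow_right (Nat.le_succ k))
      refine ext _ _ g (fun y => ?_) (sub _ _ ?_ ?_) ih
      · obtain ⟨a, rfl⟩ := Submodule.Quotient.mk_surjective _ y
        exact ⟨Submodule.Quotient.mk a, rfl⟩
      · exact IsNoetherian.noetherian _
      · intro a ha x hx
        obtain ⟨c, rfl⟩ := Submodule.Quotient.mk_surjective _ x
        have hc : c ∈ I ^ k := (Submodule.Quotient.mk_eq_zero (I ^ k)).mp (LinearMap.mem_ker.mp hx)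
        rw [← Submodule.Quotient.mk_smul, Submodule.Quotient.mk_eq_zero, smul_eq_mul, pow_succ']
        exact Ideal.mul_mem_mul ha hc
  refine { toIsHausdorff := haus A, toIsPrecomplete := ⟨fun f hf => ?_⟩ }
  have hex : ∀ k, ∃ a, ∀ n, f n - a ∈ I ^ k ⊔ J ^ n := by
    intro k
    obtain ⟨L, hL⟩ := IsPrecomplete.prec (P k) (f := fun n => (I ^ k).mkQ (f n))
      (fun {m n} hmn => ((hf hmn).map (I ^ k).mkQ).mono (by
        rw [Submodule.map_smul'']
        exact Submodule.smul_mono le_rfl le_top))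
    obtain ⟨a, rfl⟩ := Submodule.mkQ_surjective _ L
    refine ⟨a, fun n => ?_⟩
    have h := hL n
    rw [SModEq.sub_mem, ← map_sub, ← Submodule.range_mkQ, ← Submodule.map_top,
      ← Submodule.map_smul'', ← Submodule.mem_comap, Submodule.comap_map_mkQ] at h
    simpa using h
  choose a ha using hex
  have closed : ∀ (K : Ideal A) (L : Ideal A), IsHausdorff L (A ⧸ K) → ∀ c : A,
      (∀ n, c ∈ K ⊔ L ^ n) → c ∈ K := by
    intro K L hKL c hc
    rw [← Submodule.Quotient.mk_eq_zero K]
    refine IsHausdorff.haus hKL _ fun n => ?_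
    rw [SModEq.sub_mem, sub_zero]
    obtain ⟨p, hp, q, hq, rfl⟩ := Submodule.mem_sup.mp (hc n)
    rw [Submodule.Quotient.mk_add, (Submodule.Quotient.mk_eq_zero K).mpr hp, zero_add,
      ← mul_one q, ← smul_eq_mul, Submodule.Quotient.mk_smul]
    exact Submodule.smul_mem_smul hq Submodule.mem_top
  obtain ⟨b, hb⟩ := IsPrecomplete.prec (inferInstance : IsPrecomplete I A) (f := a) (fun {m n} hmn => by
    rw [SModEq.sub_mem, smul_eq_mul, Ideal.mul_top]
    refine closed _ J (haus _) _ fun p => ?_
    have h1 := ha m p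
    have h2 : f p - a n ∈ I ^ m ⊔ J ^ p :=
      (sup_le_sup (Ideal.pow_le_pow_right hmn) (le_refl (J ^ p)) : I ^ n ⊔ J ^ p ≤ I ^ m ⊔ J ^ p) (ha n p)
    rw [show a m - a n = (f p - a n) - (f p - a m) by ring]
    exact Submodule.sub_mem _ h2 h1)
  refine ⟨b, fun n => ?_⟩
  rw [SModEq.sub_mem, smul_eq_mul, Ideal.mul_top]
  refine closed _ I (IsHausdorff.of_le_jacobson I _ hIjac) _ fun k => ?_
  have h1 := hb k
  rw [SModEq.sub_mem, smul_eq_mul, Ideal.mul_top] at h1
  rw [show f n - b = (f n - a k) + (a k - b) by ring, sup_comm]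
  exact Submodule.add_mem _ (ha k n) (Submodule.mem_sup_left h1)

end Groth.Agent.S0545
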