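import Groth.Statements.S0552
import Mathlib
import Groth.Agent.Cat15.Order

set_option autoImplicit false
universe u
open CAlg

namespace Groth.Agent.S0552

/-- A ring is catenary exactly when its localization at every maximal ideal is catenary. -/
theorem result (R : Type u) [CommRing R] :
    CAlg.IsCatenary R ↔ ∀ (m : Ideal R) [m.IsMaximal], CAlg.IsCatenary (Localization.AtPrime m) := by
  refine ⟨fun h m _ => Groth.Agent.Cat15.isCatenary_localization m.primeCompl h, fun h => ?_⟩
  rw [Groth.Agent.Cat15.isCatenary_iff, ← Groth.Agent.Cat15.pcat_dual_iff]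
  have h' : ∀ m : MaximalSpectrum R, Groth.Agent.Cat15.PCat (PrimeSpectrum (Localization.AtPrime m.asIdeal))ᵒᵈ := by
    intro m
    rw [Groth.Agent.Cat15.pcat_dual_iff]
    exact h m.asIdeal
  let g : ∀ m : MaximalSpectrum R, (PrimeSpectrum (Localization.AtPrime m.asIdeal))ᵒᵈ ↪o (PrimeSpectrum R)ᵒᵈ :=
    fun m => (OrderEmbedding.ofMapLEIff (PrimeSpectrum.comap (algebraMap R (Localization.AtPrime m.asIdeal))) fun a b => by
      rw [PrimeSpectrum.le_iff_specializes, PrimeSpectrum.le_iff_specializes]
      exact (PrimeSpectrum.localization_comap_isEmbedding _ m.asIdeal.primeCompl).specializes_iff).dual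
  have hrange : ∀ (m : MaximalSpectrum R) (p : PrimeSpectrum R), p.asIdeal ≤ m.asIdeal →
      p ∈ Set.range (PrimeSpectrum.comap (algebraMap R (Localization.AtPrime m.asIdeal))) := by
    intro m p hp
    rw [PrimeSpectrum.localization_comap_range (Localization.AtPrime m.asIdeal) m.asIdeal.primeCompl]
    exact Set.disjoint_left.2 fun x hx hx' => hx (hp hx')
  refine Groth.Agent.Cat15.pcat_of_cover g (fun m a z hz => ?_) (fun b => ?_) h'
  · have hz' : (OrderDual.ofDual z).asIdeal ≤
        (PrimeSpectrum.comap (algebraMap R (Localization.AtPrime m.asIdeal)) (OrderDual.ofDual a)).asIdeal := hz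
    obtain ⟨c, hc⟩ := hrange m (OrderDual.ofDual z) (hz'.trans (by
      intro x hx
      by_contra hx'
      exact (OrderDual.ofDual a).isPrime.ne_top (Ideal.eq_top_of_isUnit_mem _ hx
        (IsLocalization.map_units (Localization.AtPrime m.asIdeal) (⟨x, hx'⟩ : m.asIdeal.primeCompl)))))
    exact ⟨OrderDual.toDual c, congrArg OrderDual.toDual hc⟩
  · obtain ⟨m, hm, hle⟩ := Ideal.exists_le_maximal _ (OrderDual.ofDual b).isPrime.ne_top
    obtain ⟨c, hc⟩ := hrange ⟨m, hm⟩ (OrderDual.ofDual b) hle
    exact ⟨⟨m, hm⟩, OrderDual.toDual c, congrArg OrderDual.toDual hc⟩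

end Groth.Agent.S0552
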