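import Groth.Statements.S0553
import Mathlib
import Groth.Agent.Cat15.Order
import Groth.Agent.DimFormula.Catenary

set_option autoImplicit false
universe u
open CAlg

namespace Groth.Agent.S0553

/-- A Noetherian ring is universally catenary exactly when its localization at every maximal ideal is
universally catenary. -/
theorem result (R : Type u) [CommRing R]
    [IsNoetherianRing R] :
    CAlg.IsUniversallyCatenary R ↔
      ∀ (m : Ideal R) [m.IsMaximal], CAlg.IsUniversallyCatenary (Localization.AtPrime m) := by
  refine ⟨fun h m _ => Groth.Agent.DimFormula.isUniversallyCatenary_localization h m.primeCompl _, fun h => ⟨inferInstance, ?_⟩⟩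
  intro S _ _ hS
  rw [Groth.Agent.Cat15.isCatenary_iff, ← Groth.Agent.Cat15.pcat_dual_iff]
  let L : MaximalSpectrum R → Type u := fun m => Localization (Algebra.algebraMapSubmonoid S m.asIdeal.primeCompl)
  have h' : ∀ m : MaximalSpectrum R, Groth.Agent.Cat15.PCat (PrimeSpectrum (L m))ᵒᵈ := by
    intro m
    rw [Groth.Agent.Cat15.pcat_dual_iff]
    letI : Algebra (Localization.AtPrime m.asIdeal) (L m) := localizationAlgebra m.asIdeal.primeCompl S
    haveI : IsLocalization (Submonoid.map (algebraMap R S) m.asIdeal.primeCompl) (L m) :=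
      inferInstanceAs (IsLocalization (Algebra.algebraMapSubmonoid S m.asIdeal.primeCompl) (L m))
    refine (h m.asIdeal).2 (L m) ?_
    exact RingHom.finiteType_localizationPreserves (algebraMap R S) m.asIdeal.primeCompl
      (Localization.AtPrime m.asIdeal) (L m) (RingHom.finiteType_algebraMap.2 hS)
  let g : ∀ m : MaximalSpectrum R, (PrimeSpectrum (L m))ᵒᵈ ↪o (PrimeSpectrum S)ᵒᵈ :=
    fun m => (OrderEmbedding.ofMapLEIff (PrimeSpectrum.comap (algebraMap S (L m))) fun a b => by
      rw [PrimeSpectrum.le_iff_specializes, PrimeSpectrum.le_iff_specializes]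
      exact (PrimeSpectrum.localization_comap_isEmbedding _ (Algebra.algebraMapSubmonoid S m.asIdeal.primeCompl)).specializes_iff).dual
  have hrange : ∀ (m : MaximalSpectrum R) (p : PrimeSpectrum S), p.asIdeal.comap (algebraMap R S) ≤ m.asIdeal →
      p ∈ Set.range (PrimeSpectrum.comap (algebraMap S (L m))) := by
    intro m p hp
    rw [PrimeSpectrum.localization_comap_range (L m) (Algebra.algebraMapSubmonoid S m.asIdeal.primeCompl)]
    refine Set.disjoint_left.2 fun x hx hx' => ?_
    obtain ⟨r, hr, rfl⟩ := hx
    exact hr (hp hx')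
  refine Groth.Agent.Cat15.pcat_of_cover g (fun m a z hz => ?_) (fun b => ?_) h'
  · have hz' : (OrderDual.ofDual z).asIdeal ≤
        (PrimeSpectrum.comap (algebraMap S (L m)) (OrderDual.ofDual a)).asIdeal := hz
    obtain ⟨c, hc⟩ := hrange m (OrderDual.ofDual z) (by
      intro x hx
      by_contra hx'
      exact (OrderDual.ofDual a).isPrime.ne_top (Ideal.eq_top_of_isUnit_mem _ (hz' hx)
        (IsLocalization.map_units (L m) (⟨algebraMap R S x, x, hx', rfl⟩ : Algebra.algebraMapSubmonoid S m.asIdeal.primeCompl))))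
    exact ⟨OrderDual.toDual c, congrArg OrderDual.toDual hc⟩
  · obtain ⟨m, hm, hle⟩ := Ideal.exists_le_maximal ((OrderDual.ofDual b).asIdeal.comap (algebraMap R S))
      ((OrderDual.ofDual b).isPrime.comap (algebraMap R S)).ne_top
    obtain ⟨c, hc⟩ := hrange ⟨m, hm⟩ (OrderDual.ofDual b) hle
    exact ⟨⟨m, hm⟩, OrderDual.toDual c, congrArg OrderDual.toDual hc⟩

end Groth.Agent.S0553
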