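import Groth.Statements.S0574
import Mathlib
import Groth.Agent.CompleteNagata.Complete
import Groth.Agent.CompleteNagata.LocalGlobal

set_option autoImplicit false
universe u
open CAlg

namespace Groth.Agent.S0574

/-- For Noetherian domains of characteristic zero the conditions N-1 and N-2 coincide. -/
theorem result (R : Type u) [CommRing R] [IsDomain R] [IsNoetherianRing R]
    [CharZero R] : CAlg.IsN1 R ↔ CAlg.IsN2 R := by
  refine ⟨fun h1 => ?_, CompleteNagata.isN1_of_isN2⟩
  intro L _ _ _ _ hfin
  let R' := integralClosure R (FractionRing R)
  haveI hR'fin : Module.Finite R R' := h1
  haveI : IsFractionRing R' (FractionRing R) := integralClosure.isFractionRing_of_finite_extension (FractionRing R) (FractionRing R)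
  haveI : IsNoetherianRing R' := IsNoetherianRing.of_finite R R'
  haveI : CharZero (FractionRing R) := charZero_of_injective_algebraMap (IsFractionRing.injective R (FractionRing R))
  haveI : CharZero R' := charZero_of_injective_algebraMap (R := R) (A := R') fun a b h => IsFractionRing.injective R (FractionRing R) (congrArg Subtype.val h)
  haveI : IsIntegrallyClosed R' := integralClosure.isIntegrallyClosedOfFiniteExtension (FractionRing R)
  haveI : IsScalarTower R' (FractionRing R) L := IsScalarTower.of_algebraMap_eq fun x => rfl
  haveI : IsScalarTower R R' L := IsScalarTower.of_algebraMap_eq fun x => IsScalarTower.algebraMap_apply R (FractionRing R) L x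
  haveI : Module.Finite R' (integralClosure R' L) := IsIntegralClosure.finite R' (FractionRing R) L (integralClosure R' L)
  haveI : Module.Finite R (integralClosure R' L) := Module.Finite.trans R' _
  haveI : IsNoetherian R (integralClosure R' L) := isNoetherian_of_isNoetherianRing_of_finite R (integralClosure R' L)
  let ι : integralClosure R L →ₗ[R] integralClosure R' L :=
    { toFun := fun z => ⟨(z : L), IsIntegral.tower_top (A := R') z.2⟩
      map_add' := fun a b => rfl
      map_smul' := fun r a => rfl }
  exact Module.Finite.of_injective ι fun a b h => Subtype.ext (congrArg (fun z : integralClosure R' L => (z : L)) h)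

end Groth.Agent.S0574
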