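import Groth.Statements.S0577
import Mathlib
import Groth.Agent.CAlgOdd.NagataFT.Local

set_option autoImplicit false
universe u
open CAlg

namespace Groth.Agent.S0577

/-- Let `A` be a Noetherian local domain of prime characteristic `p` which is a Nagata ring. If `a ∈ A`
has a `p`-th root in the completion of `A`, then it has a `p`-th root in `A`. -/
theorem result (A : Type u) [CommRing A] [IsDomain A]
    [IsLocalRing A] (hA : CAlg.IsNagata A) (p : ℕ) [Fact p.Prime] [CharP A p] (a : A)
    (h : ∃ α : AdicCompletion (IsLocalRing.maximalIdeal A) A,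
      α ^ p = algebraMap A (AdicCompletion (IsLocalRing.maximalIdeal A) A) a) :
    ∃ b : A, b ^ p = a := by
  classical
  haveI := hA.1
  let Ch := EGA4.Cpl A
  obtain ⟨α, hα⟩ : ∃ α : Ch, α ^ p = algebraMap A Ch a := h
  haveI := Groth.Agent.FlatLoc6.isLocalRing_cpl A
  haveI := Groth.Agent.FlatLoc6.isNoetherianRing_cpl A
  haveI := Groth.Agent.FlatLoc6.faithfullyFlat_cpl A
  let K := FractionRing A
  by_cases hK : ∃ z : K, z ^ p = algebraMap A K a
  · obtain ⟨z, hz⟩ := hK
    obtain ⟨u, v, hv, rfl⟩ := IsFractionRing.div_surjective (A := A) z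
    have hv0 : algebraMap A K v ≠ 0 :=
      (map_ne_zero_iff _ (IsFractionRing.injective A K)).2 (nonZeroDivisors.ne_zero hv)
    have huv : u ^ p = a * v ^ p := IsFractionRing.injective A K (by
      rw [map_pow, map_mul, map_pow, ← hz, div_pow, div_mul_cancel₀ _ (pow_ne_zero p hv0)])
    haveI := Groth.Agent.CAlgOdd.NagataFT.isReduced_cpl A hA
    haveI : ExpChar A p := ExpChar.prime (Fact.out : p.Prime)
    haveI : CharP Ch p := charP_of_injective_algebraMap (FaithfulSMul.algebraMap_injective A Ch) p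
    haveI : ExpChar Ch p := ExpChar.prime (Fact.out : p.Prime)
    have h0 : algebraMap A Ch u - α * algebraMap A Ch v = 0 := IsReduced.eq_zero _ ⟨p, by
      rw [sub_pow_expChar, mul_pow, hα, ← map_pow, ← map_pow, huv, map_mul, sub_self]⟩
    have hdvd : u ∈ Ideal.span {v} := by
      rw [← Ideal.comap_map_eq_self_of_faithfullyFlat (A := A) (B := Ch) (Ideal.span {v}), Ideal.mem_comap,
        Ideal.map_span, Set.image_singleton, Ideal.mem_span_singleton]
      exact ⟨α, by linear_combination h0⟩
    obtain ⟨b, rfl⟩ := Ideal.mem_span_singleton'.1 hdvd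
    refine ⟨b, IsFractionRing.injective A K ?_⟩
    rw [map_pow, ← hz, map_mul, mul_div_cancel_right₀ _ hv0]
  exfalso
  haveI : CharP K p := charP_of_injective_algebraMap (IsFractionRing.injective A K) p
  let Ω := AlgebraicClosure K
  obtain ⟨b, hb⟩ := IsAlgClosed.exists_pow_nat_eq (algebraMap A Ω a) (Fact.out : p.Prime).pos
  have hbK : ∀ u v : A, algebraMap A Ω u + algebraMap A Ω v * b = 0 → u = 0 ∧ v = 0 := by
    intro u v huv
    have hinj : Function.Injective (algebraMap A Ω) := by
      rw [IsScalarTower.algebraMap_eq A K Ω]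
      exact (algebraMap K Ω).injective.comp (IsFractionRing.injective A K)
    have hv : v = 0 := by
      by_contra hv
      refine hK ⟨-(algebraMap A K u) / algebraMap A K v, (algebraMap K Ω).injective ?_⟩
      rw [map_pow, map_div₀, map_neg, ← IsScalarTower.algebraMap_apply, ← IsScalarTower.algebraMap_apply,
        ← IsScalarTower.algebraMap_apply, ← hb]
      congr 1
      rw [div_eq_iff ((map_ne_zero_iff _ hinj).2 hv)]
      linear_combination -huv
    refine ⟨(map_eq_zero_iff _ hinj).1 ?_, hv⟩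
    simpa [hv] using huv
  let B := Algebra.adjoin A {b}
  haveI : Module.Finite A B := Algebra.finite_adjoin_simple_of_isIntegral
    (IsIntegral.of_pow (Fact.out : p.Prime).pos (hb ▸ isIntegral_algebraMap))
  haveI := Groth.Agent.CAlgOdd.NagataFT.isReduced_tensor (IsLocalRing.maximalIdeal A) Ch
    Groth.Agent.CAlgOdd.NagataFT.cpl_map_max Groth.Agent.CAlgOdd.NagataFT.cpl_dense B
    (Groth.Agent.N12Aux.isNagata_of_surjective _ Ideal.Quotient.mk_surjective hA)
  let bB : B := ⟨b, Algebra.self_mem_adjoin_singleton A b⟩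
  let f : A × A →ₗ[A] B := LinearMap.coprod (Algebra.linearMap A B) (LinearMap.toSpanSingleton A B bB)
  have hf : Function.Injective f := by
    refine (injective_iff_map_eq_zero f).2 fun x hx => ?_
    have h := congrArg Subtype.val hx
    simp [f, bB, Algebra.smul_def] at h
    exact Prod.ext (hbK _ _ h).1 (hbK _ _ h).2
  let e := TensorProduct.prodLeft A A A A Ch
  let g : Ch × Ch →ₗ[A] TensorProduct A B Ch :=
    f.rTensor Ch ∘ₗ e.symm.toLinearMap ∘ₗ ((TensorProduct.lid A Ch).symm.toLinearMap.prodMap (TensorProduct.lid A Ch).symm.toLinearMap)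
  have hg : Function.Injective g := (Module.Flat.rTensor_preserves_injective_linearMap f hf).comp
    (e.symm.injective.comp (Prod.map_injective.2 ⟨(TensorProduct.lid A Ch).symm.injective, (TensorProduct.lid A Ch).symm.injective⟩))
  have hg' : ∀ x y, g (x, y) = (1 : B) ⊗ₜ[A] x + bB ⊗ₜ[A] y := fun x y => by
    show f.rTensor Ch (e.symm ((1 : A) ⊗ₜ[A] x, (1 : A) ⊗ₜ[A] y)) = _
    have h1 : e ((((1 : A), (0 : A)) : A × A) ⊗ₜ[A] x + (((0 : A), (1 : A)) : A × A) ⊗ₜ[A] y) = ((1 : A) ⊗ₜ[A] x, (1 : A) ⊗ₜ[A] y) := by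
      simp [e]
    rw [← h1, LinearEquiv.symm_apply_apply, map_add, LinearMap.rTensor_tmul, LinearMap.rTensor_tmul]
    simp [f]
  haveI : CharP B p := charP_of_injective_algebraMap (R := A) (A := B) (fun u v huv => by
    have h2 := hbK (u - v) 0 (by
      have h3 : algebraMap A Ω u = algebraMap A Ω v := congrArg Subtype.val huv
      simp [h3])
    exact sub_eq_zero.1 h2.1) p
  haveI : Nontrivial (TensorProduct A B Ch) := (hg.nontrivial)
  haveI : CharP (TensorProduct A B Ch) p := (CharP.charP_iff_prime_eq_zero (Fact.out : p.Prime)).2 (by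
    rw [← map_natCast (algebraMap A (TensorProduct A B Ch)), CharP.cast_eq_zero, map_zero])
  haveI : ExpChar (TensorProduct A B Ch) p := ExpChar.prime (Fact.out : p.Prime)
  have hbB : bB ^ p = algebraMap A B a := Subtype.ext hb
  have h0 : bB ⊗ₜ[A] (1 : Ch) - (1 : B) ⊗ₜ[A] α = 0 := IsReduced.eq_zero _ ⟨p, by
    rw [sub_pow_expChar, Algebra.TensorProduct.tmul_pow, Algebra.TensorProduct.tmul_pow, one_pow, one_pow, hα, hbB,
      Algebra.algebraMap_eq_smul_one, Algebra.algebraMap_eq_smul_one, TensorProduct.smul_tmul, sub_self]⟩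
  have h1 := congrArg Prod.snd (hg (a₁ := (-α, 1)) (a₂ := (0, 0)) (by
    rw [hg', hg', TensorProduct.tmul_neg, TensorProduct.tmul_zero, TensorProduct.tmul_zero, add_zero, neg_add_eq_sub]
    exact h0))
  exact one_ne_zero h1

end Groth.Agent.S0577
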