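import Groth.Statements.S0579
import Mathlib
import Groth.Agent.CoeffField.Smooth

set_option autoImplicit false
universe u
open CAlg

namespace Groth.Agent.S0579

/-- A local ring which is complete with respect to its maximal ideal and whose residue field has
characteristic zero admits a coefficient field: there is a ring homomorphism from the residue field
to the ring which is a section of the residue map. -/
theorem result (R : Type u) [CommRing R] [IsLocalRing R]
    [IsAdicComplete (IsLocalRing.maximalIdeal R) R] [CharZero (IsLocalRing.ResidueField R)] :
    ∃ s : IsLocalRing.ResidueField R →+* R, (IsLocalRing.residue R).comp s = RingHom.id _ := by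
  classical
  have hunit : ∀ q : ℤ, q ≠ 0 → IsUnit (q : R) := by
    intro q hq
    rw [← IsLocalRing.notMem_maximalIdeal]
    intro h
    have h0 : IsLocalRing.residue R (q : R) = 0 := Ideal.Quotient.eq_zero_iff_mem.mpr h
    rw [map_intCast, Int.cast_eq_zero] at h0
    exact hq h0
  let φ : ℚ →+* R := IsLocalization.lift (M := nonZeroDivisors ℤ) (g := Int.castRingHom R)
    (fun y => hunit y.1 (nonZeroDivisors.ne_zero y.2))
  letI : Algebra ℚ R := φ.toAlgebra
  obtain ⟨σ, hσ⟩ := Groth.Agent.CoeffField.exists_ringHom_section ℚ R
  exact ⟨σ, RingHom.ext hσ⟩

end Groth.Agent.S0579
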