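import Groth.Statements.S0583
import Groth.Agent.CAlgUI.Kaplansky

set_option autoImplicit false
universe u
open scoped Classical
open CAlg

namespace Groth.Agent.S0583

/-- If a module is an internal direct sum of countably generated submodules, then any direct summand of
it is again an internal direct sum of countably generated submodules. -/
theorem result (R : Type u) [CommRing R] (M : Type u)
    [AddCommGroup M] [Module R M] (ι : Type u) (N : ι → Submodule R M) (hN : DirectSum.IsInternal N)
    (hc : ∀ i, CAlg.IsCountablyGenerated R (N i)) (P Q : Submodule R M) (hPQ : IsCompl P Q) :
    ∃ (κ : Type u) (L : κ → Submodule R P), DirectSum.IsInternal L ∧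
      ∀ k, CAlg.IsCountablyGenerated R (L k) := by
  exact Groth.Agent.CAlgUI.exists_internal_countablyGenerated_of_retract N hN hc P.subtype
    (Submodule.projectionOnto P Q hPQ) fun x => Submodule.projectionOnto_apply_left hPQ x

end Groth.Agent.S0583
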