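import Groth.Statements.S0584
import Groth.Agent.CAlgUI.Projective

set_option autoImplicit false
universe u
open scoped Classical
open CAlg

namespace Groth.Agent.S0584

/-- Projectivity of a module is equivalent to the conjunction of three conditions — flatness, the
Mittag-Leffler property, and being an internal direct sum of countably generated submodules. -/
theorem result (R : Type u) [CommRing R] (M : Type u)
    [AddCommGroup M] [Module R M] :
    Module.Projective R M ↔ (Module.Flat R M ∧ CAlg.IsMittagLeffler R M ∧
      ∃ (ι : Type u) (N : ι → Submodule R M), DirectSum.IsInternal N ∧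
        ∀ i, CAlg.IsCountablyGenerated R (N i)) := by
  constructor
  · intro h
    exact ⟨inferInstance, Groth.Agent.CAlgUI.ml_of_projective,
      Groth.Agent.CAlgUI.exists_countablyGenerated_of_projective⟩
  · rintro ⟨hf, hml, ι, N, hN, hc⟩
    exact Groth.Agent.CAlgUI.projective_of_flat_ml hml N hN hc

end Groth.Agent.S0584
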