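import Groth.Statements.S0589
import Mathlib
import Groth.Agent.MLHensel.Decomp

set_option autoImplicit false
universe u
open scoped Classical
open CAlg

namespace Groth.Agent.S0589

/-- Over a henselian local ring, a countably generated Mittag-Leffler module is an internal direct sum
of finitely presented submodules. -/
theorem result (R : Type u) [CommRing R]
    [HenselianLocalRing R] (M : Type u) [AddCommGroup M] [Module R M] (hc : CAlg.IsCountablyGenerated R M)
    (hML : CAlg.IsMittagLeffler R M) :
    ∃ (ι : Type u) (N : ι → Submodule R M), DirectSum.IsInternal N ∧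
      ∀ i, Module.FinitePresentation R (N i) := by
  obtain ⟨N, hN, hfp⟩ := Groth.Agent.MLHensel.exists_decomposition hML hc
  refine ⟨ULift.{u} ℕ, fun k => N k.down, ?_, fun k => hfp _⟩
  rw [DirectSum.isInternal_submodule_iff_iSupIndep_and_iSup_eq_top] at hN
  classical
  have key : iSupIndep (fun k : ULift.{u} ℕ => N k.down) ∧ (⨆ k : ULift.{u} ℕ, N k.down) = ⊤ :=
    ⟨hN.1.comp ULift.down_injective, by rw [← hN.2]; exact Equiv.ulift.iSup_congr fun _ => rfl⟩
  convert! (DirectSum.isInternal_submodule_iff_iSupIndep_and_iSup_eq_top _).mpr key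

end Groth.Agent.S0589
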