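import Groth.Statements.S0592
import Groth.Agent.MorLib.EventuallySep

set_option autoImplicit false
universe u
open CategoryTheory AlgebraicGeometry
open Lim

namespace Groth.Agent.S0592

/-- Let `S` be the limit of a cofiltered system of quasi-compact quasi-separated schemes with affine
transition morphisms. If `S` is separated, then there is an index `i₀` such that every stage mapping
to `i₀` is separated. -/
theorem result {I : Type u} [SmallCategory I] [IsCofiltered I]
    (D : I ⥤ Scheme.{u}) (c : Limits.Cone D) (hc : Limits.IsLimit c)
    [∀ (i j : I) (f : i ⟶ j), IsAffineHom (D.map f)] [∀ i, CompactSpace (D.obj i)]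
    [∀ i, QuasiSeparatedSpace (D.obj i)]
    [IsSeparated (Limits.IsTerminal.from specULiftZIsTerminal c.pt)] :
    ∃ i₀ : I, ∀ (i : I) (_ : i ⟶ i₀),
      IsSeparated (Limits.IsTerminal.from specULiftZIsTerminal (D.obj i)) := by
  haveI : ∀ {i j : I} (a : i ⟶ j), IsAffineHom (D.map a) := fun {i j} a => inferInstance
  exact Groth.Agent.MorLib.EvSep.eventually_isSeparated
    (fun i => Limits.IsTerminal.from specULiftZIsTerminal (D.obj i))
    (fun f => specULiftZIsTerminal.hom_ext _ _)
    (Limits.IsTerminal.from specULiftZIsTerminal c.pt) (fun i => specULiftZIsTerminal.hom_ext _ _) hc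

end Groth.Agent.S0592
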