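import Groth.Statements.S0602
import Mathlib
import Groth.Agent.FlatLoc6.SerreNormal

set_option autoImplicit false
universe u
open CAlg

namespace Groth.Agent.S0602

/-- A Noetherian ring is reduced exactly when it satisfies the conditions R₀ and S₁. -/
theorem result (R : Type u) [CommRing R] [IsNoetherianRing R] :
    IsReduced R ↔ (LocCoh.HasRk 0 R ∧ LocCoh.HasSk 1 R R) := by
  constructor
  · intro hred
    refine ⟨fun p _ hp => ?_, ?_⟩
    · have h0 : p.height = 0 := le_antisymm (by simpa using hp) zero_le
      have hdim : ringKrullDim (Localization.AtPrime p) = 0 := by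
        rw [IsLocalization.AtPrime.ringKrullDim_eq_height p, h0]; rfl
      haveI : Ring.KrullDimLE 0 (Localization.AtPrime p) := Ring.krullDimLE_iff.2 (le_of_eq hdim)
      have hF : IsField (Localization.AtPrime p) := Ring.KrullDimLE.isField_of_isReduced
      haveI := hF.isDomain
      haveI : IsPrincipalIdealRing (Localization.AtPrime p) := hF.isPrincipalIdealRing
      infer_instance
    · rw [Groth.Agent.FlatLoc6.hasSk_self_iff]
      intro p _
      rcases eq_or_ne p.height 0 with h | h
      · simp [h]
      refine le_trans (min_le_left _ _) ?_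
      rw [← Groth.Agent.FlatLoc6.depth_self_atPrime, Nat.cast_one,
        Groth.Agent.Alg6.one_le_depth_atPrime_iff]
      intro hass
      obtain ⟨-, x, hx⟩ := isAssociatedPrime_iff.1 (AssociatedPrimes.mem_iff.1 hass)
      have hx0 : x ≠ 0 := fun h0 => (‹p.IsPrime›).ne_top (by rw [hx, h0]; ext; simp)
      obtain ⟨Q, hQ, hxQ⟩ : ∃ Q ∈ minimalPrimes R, x ∉ Q := by
        by_contra! hcon
        refine hx0 ?_
        have hm : x ∈ sInf (minimalPrimes R) := Submodule.mem_sInf.2 hcon
        rw [show sInf (minimalPrimes R) = (⊥ : Ideal R).radical from Ideal.sInf_minimalPrimes,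
          Ideal.radical_bot_of_isReduced] at hm
        exact hm
      haveI := hQ.1.1
      have hle : p ≤ Q := fun a ha => by
        rw [hx, Submodule.mem_colon_singleton, Submodule.mem_bot, smul_eq_mul] at ha
        exact (hQ.1.1.mem_or_mem (ha ▸ Q.zero_mem : a * x ∈ Q)).resolve_right hxQ
      refine h (Ideal.height_eq_zero_iff.2 ?_)
      exact (le_antisymm hle (hQ.2 ⟨‹p.IsPrime›, bot_le⟩ hle)) ▸ hQ
  · rintro ⟨hR, hS⟩
    exact Groth.Agent.FlatLoc6.isReduced_of_R0_S1 (fun p _ hp => by
      haveI := hR p (by simp [hp])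
      haveI := Groth.Agent.RegLoc6.isDomain_of_isRegularLocalRing (Localization.AtPrime p)
      infer_instance) hS

end Groth.Agent.S0602
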