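import Groth.Statements.S0605
import Mathlib
import Groth.Agent.CAlgOdd.AuslanderBuchsbaum
import Groth.Agent.RegLoc6.Serre
import Groth.Agent.LC.GorRows
import Groth.Agent.LC.GorHull

set_option autoImplicit false
universe u
open CAlg

namespace Groth.Agent.S0605

/-- Over a regular local ring, a finitely generated module whose depth equals the dimension of the ring
(a maximal Cohen–Macaulay module) is free. -/
theorem result (R : Type u) [CommRing R]
    [IsRegularLocalRing R] (M : Type u) [AddCommGroup M] [Module R M] [Module.Finite R M]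
    (h : ((LocCoh.depth R M : ℕ∞) : WithBot ℕ∞) = ringKrullDim R) : Module.Free R M := by
  classical
  rcases subsingleton_or_nontrivial M with hM | hM
  · exact Module.Free.of_subsingleton R M
  haveI := Groth.Agent.LC.gorenstein_of_isRegularLocalRing (R := R)
  haveI hcm : LocCoh.IsCohenMacaulayLocalRing R := Groth.Agent.LC.isCohenMacaulayLocalRing_of_gorenstein
  have hex : ∃ e, Groth.Agent.RegLoc6.PdLE R e M := ⟨_, Groth.Agent.RegLoc6.pdLE_of_isRegularLocalRing R M⟩
  have hAB := Groth.Agent.CAlgOdd.AB.depth_add_eq (Nat.find hex) M (Nat.find_spec hex) (fun e' he' => Nat.find_min hex he')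
  have hD : ringKrullDim R = ((LocCoh.depth R R : ℕ∞) : WithBot ℕ∞) := by
    rw [← Module.supportDim_self_eq_ringKrullDim]
    exact hcm.supportDim_eq_depth
  rw [hD] at h
  obtain ⟨a, ha⟩ := Groth.Agent.LC.exists_depth_eq_nat (R := R) M
  rw [WithBot.coe_injective h |>.symm, ha] at hAB
  have hA : a + Nat.find hex = a := by exact_mod_cast hAB
  have h0 := Nat.find_spec hex
  rw [show Nat.find hex = 0 by omega] at h0
  haveI : Module.Projective R M := Groth.Agent.RegLoc6.pdLE_zero_iff.1 h0
  exact Module.free_of_flat_of_isLocalRing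

end Groth.Agent.S0605
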