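import Groth.Statements.S6370
import Mathlib
import Groth.Agent.KrullAkiExt.Basic

set_option autoImplicit false
universe u
open CAlg

namespace Groth.Agent.S6370

/-- For a one-dimensional Noetherian domain A with fraction field K, a finite field extension L of K
(separable or not) and B the integral closure of A in L: B is a Dedekind domain, Spec B → Spec A is
surjective and has finite fibres, and at every maximal ideal Q of B the residue field B/Q is finite
over A/(Q ∩ A). -/
theorem result (A K L B : Type u) [CommRing A] [IsDomain A]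
    [IsNoetherianRing A] (hdim : ringKrullDim A = 1) [Field K] [Algebra A K] [IsFractionRing A K]
    [Field L] [Algebra K L] [FiniteDimensional K L] [Algebra A L] [IsScalarTower A K L]
    [CommRing B] [IsDomain B] [Algebra A B] [Algebra B L] [IsScalarTower A B L] [IsIntegralClosure B A L] :
    IsDedekindDomain B ∧ Function.Surjective (PrimeSpectrum.comap (algebraMap A B)) ∧
      (∀ p : PrimeSpectrum A, (PrimeSpectrum.comap (algebraMap A B) ⁻¹' {p}).Finite) ∧
      ∀ Q : Ideal B, Q.IsMaximal → Module.Finite (A ⧸ Q.comap (algebraMap A B)) (B ⧸ Q) := by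
  classical
  haveI : Ring.KrullDimLE 1 A := Ring.krullDimLE_iff.2 hdim.le
  have hBL : Function.Injective (algebraMap B L) := IsIntegralClosure.algebraMap_injective B A L
  haveI : Algebra.IsIntegral A B := IsIntegralClosure.isIntegral_algebra A L
  have hAB : Function.Injective (algebraMap A B) := by
    have : Function.Injective (algebraMap A L) := by
      rw [IsScalarTower.algebraMap_eq A K L]
      exact (algebraMap K L).injective.comp (IsFractionRing.injective A K)
    rw [IsScalarTower.algebraMap_eq A B L, RingHom.coe_comp] at this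
    exact this.of_comp
  haveI : FaithfulSMul A B := (faithfulSMul_iff_algebraMap_injective A B).mpr hAB
  have hdim' : ∀ P : Ideal B, P ≠ ⊥ → P.IsPrime → P.IsMaximal := by
    intro P hP hPp
    have hne : P.comap (algebraMap A B) ≠ ⊥ := Ideal.IsIntegral.comap_ne_bot A hP
    haveI : (P.comap (algebraMap A B)).IsMaximal :=
      Ring.krullDimLE_one_iff_of_noZeroDivisors.1 ‹_› _ hne (Ideal.comap_isPrime _ _)
    exact Ideal.isMaximal_of_isIntegral_of_isMaximal_comap P ‹_›
  haveI : IsNoetherianRing B := Groth.Agent.KrullAkiExt.isNoetherianRing_of_injective (R := A) (K := K) L B hBL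
  haveI : Ring.DimensionLEOne B := ⟨fun {P} h1 h2 => hdim' P h1 h2⟩
  haveI : IsFractionRing B L := IsIntegralClosure.isFractionRing_of_finite_extension A K L B
  haveI : IsIntegrallyClosed B := (isIntegrallyClosed_iff L).mpr fun {x} hx =>
    IsIntegralClosure.isIntegral_iff.mp (isIntegral_trans (R := A) x hx)
  have hne : ∀ Q : Ideal B, Q.IsMaximal → Q ≠ ⊥ := by
    intro Q hQ hb
    subst hb
    have hf : IsField B := Ring.isField_iff_maximal_bot.mpr hQ
    have := Ideal.isMaximal_comap_of_isIntegral_of_isMaximal (R := A) (⊥ : Ideal B)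
    rw [Ideal.comap_bot_of_injective _ hAB] at this
    have hA : IsField A := Ring.isField_iff_maximal_bot.mpr this
    rw [ringKrullDim_eq_zero_of_isField hA] at hdim
    exact zero_ne_one hdim
  refine ⟨{ }, ?_, ?_, ?_⟩
  · intro p
    obtain ⟨P, hP, hPp⟩ := Ideal.exists_ideal_over_prime_of_isIntegral_of_isDomain (S := B) p.asIdeal
      (by rw [(RingHom.injective_iff_ker_eq_bot _).mp hAB]; exact bot_le)
    exact ⟨⟨P, hP⟩, PrimeSpectrum.ext hPp⟩
  · intro p
    rcases eq_or_ne p.asIdeal ⊥ with hp | hp
    · refine Set.Subsingleton.finite fun P hP P' hP' => PrimeSpectrum.ext ?_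
      have h0 : ∀ P : PrimeSpectrum B, PrimeSpectrum.comap (algebraMap A B) P = p → P.asIdeal = ⊥ := by
        intro P hP
        by_contra h
        exact Ideal.IsIntegral.comap_ne_bot A h ((congrArg PrimeSpectrum.asIdeal hP).trans hp)
      rw [h0 P hP, h0 P' hP']
    obtain ⟨a, ha, ha0⟩ := Submodule.exists_mem_ne_zero_of_ne_bot hp
    let J : Ideal B := Ideal.span {algebraMap A B a}
    have hfl := Groth.Agent.KrullAkiExt.isArtinian_quotient (K := K) L B hBL (J := J) ha0 (Ideal.mem_span_singleton_self _)
    haveI : IsArtinian A (B ⧸ J) := (isFiniteLength_iff_isNoetherian_isArtinian.1 hfl).2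
    haveI : IsArtinianRing (B ⧸ J) := isArtinian_of_tower A ‹_›
    have hsub : PrimeSpectrum.comap (algebraMap A B) ⁻¹' {p} ⊆
        Set.range (PrimeSpectrum.comap (Ideal.Quotient.mk J)) := by
      intro P hP
      rw [range_comap_of_surjective _ _ Ideal.Quotient.mk_surjective, Ideal.mk_ker]
      show (J : Set B) ⊆ P.asIdeal
      rw [SetLike.coe_subset_coe, Ideal.span_singleton_le_iff_mem]
      show a ∈ P.asIdeal.comap (algebraMap A B)
      rw [show P.asIdeal.comap (algebraMap A B) = p.asIdeal from congrArg PrimeSpectrum.asIdeal hP]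
      exact ha
    exact (Set.finite_range _).subset hsub
  · intro Q hQ
    obtain ⟨a, ha0, haQ⟩ := Groth.Agent.KrullAkiExt.exists_ne_zero_mem (R := A) (K := K) L B hBL (hne Q hQ)
    haveI : IsNoetherian A (B ⧸ Q) := (isFiniteLength_iff_isNoetherian_isArtinian.1
      (Groth.Agent.KrullAkiExt.isArtinian_quotient (K := K) L B hBL (J := Q) ha0 haQ)).1
    exact Module.Finite.of_restrictScalars_finite A _ _

end Groth.Agent.S6370
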