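import Groth.Statements.S0614
import Groth.Agent.S6370
import Mathlib.AlgebraicGeometry.EllipticCurve.IsomOfJ
import Mathlib.RingTheory.Localization.AsSubring
import Mathlib.FieldTheory.IsAlgClosed.AlgebraicClosure
import Mathlib.RingTheory.DedekindDomain.Dvr
import Mathlib.RingTheory.DiscreteValuationRing.TFAE

set_option autoImplicit false
universe u
open Neron

namespace Groth.Agent.S0614

/-- (c) (the base Dedekind scheme taken local): an elliptic curve E over the fraction field K of a
discrete valuation ring R has integral j-invariant if and only if it has potential good reduction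
(stated here with a finite extension: there are a finite extension L of K and a discrete valuation
ring R_L of L dominating R over which a minimal Weierstrass equation of E_L has good reduction). -/
theorem result {R : Type u} [CommRing R] [IsDomain R]
    [IsDiscreteValuationRing R] {K : Type u} [Field K] [Algebra R K] [IsFractionRing R K]
    (W : WeierstrassCurve K) [W.IsElliptic] :
    (∃ r : R, algebraMap R K r = W.j) ↔
      ∃ (L : Type u) (_ : Field L) (_ : Algebra K L) (_ : FiniteDimensional K L) (RL : Type u)
        (_ : CommRing RL) (_ : IsDomain RL) (_ : IsDiscreteValuationRing RL) (_ : Algebra RL L)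
        (_ : IsFractionRing RL L) (φ : R →+* RL), IsLocalHom φ ∧
        (∀ r : R, algebraMap K L (algebraMap R K r) = algebraMap RL L (φ r)) ∧
        ((W.baseChange L).minimal RL).HasGoodReduction RL := by
  classical
  constructor
  · rintro ⟨r, hr⟩
    let Ω := AlgebraicClosure K
    -- a universal family with good reduction
    have model : ∃ (P : Polynomial R) (a : Polynomial R) (E : WeierstrassCurve (Polynomial R)), P.Monic ∧ P.degree ≠ 0 ∧
        a * E.Δ - E.c₄ ^ 3 ∈ Ideal.span {P} ∧ a = Polynomial.C r ∧
        ∀ (F : Type u) [Field F] (ψ : Polynomial R →+* F), (∀ x ∈ IsLocalRing.maximalIdeal R, ψ (Polynomial.C x) = 0) →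
          ψ P = 0 → ψ E.Δ ≠ 0 := by
      by_cases h3 : IsUnit (3 : R)
      · refine ⟨(Polynomial.X ^ 12 + (-72 : R) • Polynomial.X ^ 9 + (1728 : R) • Polynomial.X ^ 6 + (-13824 - r) • Polynomial.X ^ 3 + Polynomial.C (27 * r)),
          Polynomial.C r, ⟨Polynomial.X, 0, 1, 0, 0⟩, ?_, ?_, ?_, rfl, fun F _ ψ hm hP hΔ => ?_⟩
        · monicity!
        · intro h
          have h12 := Polynomial.coeff_eq_zero_of_degree_lt (p := (Polynomial.X ^ 12 + (-72 : R) • Polynomial.X ^ 9 + (1728 : R) • Polynomial.X ^ 6 + (-13824 - r) • Polynomial.X ^ 3 + Polynomial.C (27 * r))) (n := 12) (by rw [h]; decide)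
          simp [Polynomial.coeff_C, Polynomial.coeff_X_pow] at h12
        · refine Ideal.mem_span_singleton.2 ⟨-1, ?_⟩
          simp only [WeierstrassCurve.Δ, WeierstrassCurve.c₄, WeierstrassCurve.b₂, WeierstrassCurve.b₄,
            WeierstrassCurve.b₆, WeierstrassCurve.b₈, Polynomial.smul_eq_C_mul, map_neg, map_sub, map_mul,
            map_ofNat]
          ring
        · have hu : (3 : F) ≠ 0 := by
            rw [← map_ofNat (ψ.comp Polynomial.C) 3]
            exact (h3.map (ψ.comp Polynomial.C)).ne_zero
          simp only [WeierstrassCurve.Δ, WeierstrassCurve.b₂, WeierstrassCurve.b₄,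
            WeierstrassCurve.b₆, WeierstrassCurve.b₈, map_neg, map_add, map_sub, map_mul, map_pow,
            map_ofNat, map_one, map_zero] at hΔ
          simp only [Polynomial.smul_eq_C_mul, map_add, map_mul, map_pow, map_sub, map_neg, map_ofNat] at hP
          refine pow_ne_zero 6 hu ?_
          linear_combination hP - ((ψ Polynomial.X ^ 3) ^ 3 - 45 * (ψ Polynomial.X ^ 3) ^ 2 + 513 * ψ Polynomial.X ^ 3 + 27 - ψ (Polynomial.C r)) * hΔ
      · have h2 : IsUnit (2 : R) := (IsLocalRing.isUnit_or_isUnit_of_add_one (show (3 : R) + -2 = 1 by norm_num)).resolve_left h3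
          |>.neg |> fun h => by simpa using h
        have h256 : IsUnit (256 : R) := by
          rw [show (256 : R) = 2 ^ 8 by norm_num]
          exact h2.pow 8
        refine ⟨(Polynomial.X ^ 2 - Polynomial.X + 1) ^ 3 - Polynomial.C (r * ↑(h256.unit⁻¹)) * (Polynomial.X ^ 2 * (Polynomial.X - 1) ^ 2),
          Polynomial.C r, ⟨0, -(1 + Polynomial.X), 0, Polynomial.X, 0⟩, ?_, ?_, ?_, rfl, fun F _ ψ hm hP hΔ => ?_⟩
        · monicity!
        · intro h
          have h6 := Polynomial.natDegree_eq_of_degree_eq_some (n := 0) (by rw [h]; rfl)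
          have : ((Polynomial.X ^ 2 - Polynomial.X + 1) ^ 3 - Polynomial.C (r * ↑(h256.unit⁻¹)) * (Polynomial.X ^ 2 * (Polynomial.X - 1) ^ 2) : Polynomial R).natDegree = 6 := by
            compute_degree!
          omega
        · have hinv : Polynomial.C (256 : R) * Polynomial.C (↑(h256.unit⁻¹) : R) = 1 := by
            rw [← map_mul, h256.mul_val_inv, map_one]
          refine Ideal.mem_span_singleton.2 ⟨-4096, ?_⟩
          simp only [WeierstrassCurve.Δ, WeierstrassCurve.c₄, WeierstrassCurve.b₂, WeierstrassCurve.b₄,
            WeierstrassCurve.b₆, WeierstrassCurve.b₈, map_mul, map_ofNat] at hinv ⊢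
          linear_combination (-(Polynomial.C r * Polynomial.X ^ 2 * (Polynomial.X - 1) ^ 2 * 16)) * hinv
        · have hu : (2 : F) ≠ 0 := by
            rw [← map_ofNat (ψ.comp Polynomial.C) 2]
            exact (h2.map (ψ.comp Polynomial.C)).ne_zero
          simp only [WeierstrassCurve.Δ, WeierstrassCurve.b₂, WeierstrassCurve.b₄,
            WeierstrassCurve.b₆, WeierstrassCurve.b₈, map_neg, map_add, map_sub, map_mul, map_pow,
            map_ofNat, map_one, map_zero] at hΔ
          have hd : (16 : F) * (ψ Polynomial.X * (ψ Polynomial.X - 1)) ^ 2 = 0 := by linear_combination hΔ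
          have h16 : (16 : F) ≠ 0 := by rw [show (16 : F) = 2 ^ 4 by norm_num]; exact pow_ne_zero 4 hu
          simp only [map_add, map_mul, map_pow, map_sub, map_one] at hP
          rcases mul_eq_zero.1 (pow_eq_zero_iff two_ne_zero |>.1 ((mul_eq_zero.1 hd).resolve_left h16)) with h0 | h0
          · rw [h0] at hP; simp at hP
          · rw [sub_eq_zero.1 h0] at hP; simp at hP
    obtain ⟨P, a, E, hP, hPdeg, hid, ha, hgood⟩ := model
    obtain ⟨α, hα⟩ := IsAlgClosed.exists_root (k := Ω) (P.map (algebraMap R Ω)) (by
      rwa [hP.degree_map])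
    rw [Polynomial.IsRoot, Polynomial.eval_map, ← Polynomial.aeval_def] at hα
    let ev : Polynomial R →+* Ω := (Polynomial.aeval α).toRingHom
    have hevP : ev P = 0 := hα
    have hevid : algebraMap R Ω r * ev E.Δ = ev E.c₄ ^ 3 := by
      obtain ⟨c, hc⟩ := Ideal.mem_span_singleton.1 hid
      have h := congrArg ev hc
      rw [map_mul, hevP, zero_mul, map_sub, map_mul, map_pow, sub_eq_zero, ha] at h
      simpa [ev] using h
    -- the field and its ring of integers
    have hαR : IsIntegral R α := ⟨P, hP, hα⟩
    have hΔne : ∀ (F : Type u) [Field F] (ψ : Polynomial R →+* F), (∀ x ∈ IsLocalRing.maximalIdeal R, ψ (Polynomial.C x) = 0) →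
        ψ P = 0 → ψ E.Δ ≠ 0 := hgood
    let Lα := IntermediateField.adjoin K ({α} : Set Ω)
    have hevΔ : ev E.Δ ≠ 0 := by
      haveI : IsScalarTower R Lα Ω := IsScalarTower.of_algebraMap_eq fun x => IsScalarTower.algebraMap_apply R K Ω x
      haveI : FiniteDimensional K Lα := IntermediateField.adjoin.finiteDimensional (hαR.tower_top)
      obtain ⟨-, hsurj, -, -⟩ := S6370.result R K Lα (integralClosure R Lα)
        (IsDiscreteValuationRing.ringKrullDim_eq_one R)
      obtain ⟨⟨q, hq⟩, hqm⟩ := hsurj ⟨IsLocalRing.maximalIdeal R, inferInstance⟩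
      intro h0
      let αB : integralClosure R Lα := ⟨⟨α, IntermediateField.mem_adjoin_simple_self K α⟩,
        (isIntegral_algHom_iff (IsScalarTower.toAlgHom R Lα Ω) (algebraMap Lα Ω).injective).1 hαR⟩
      let toΩ : integralClosure R Lα →ₐ[R] Ω := (IsScalarTower.toAlgHom R Lα Ω).comp (integralClosure R Lα).val
      have hinj : Function.Injective toΩ := (algebraMap Lα Ω).injective.comp Subtype.val_injective
      have he : ∀ x, toΩ (Polynomial.aeval αB x) = ev x := fun x => by
        rw [← Polynomial.aeval_algHom_apply]; rfl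
      have hz : ∀ x, ev x = 0 → Polynomial.aeval αB x = 0 := fun x hx => hinj (by rw [he, hx, map_zero])
      refine hΔne _ ((algebraMap (integralClosure R Lα) q.ResidueField).comp (Polynomial.aeval αB).toRingHom)
        (fun x hx => ?_) ?_ ?_
      · rw [RingHom.comp_apply]
        show algebraMap _ q.ResidueField (Polynomial.aeval αB (Polynomial.C x)) = 0
        rw [Polynomial.aeval_C, Ideal.algebraMap_residueField_eq_zero]
        have h1 := congrArg PrimeSpectrum.asIdeal hqm
        rw [show IsLocalRing.maximalIdeal R = q.comap (algebraMap R _) from h1.symm] at hx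
        exact hx
      · show algebraMap _ q.ResidueField (Polynomial.aeval αB P) = 0
        rw [hz P hevP, map_zero]
      · show algebraMap _ q.ResidueField (Polynomial.aeval αB E.Δ) = 0
        rw [hz _ h0, map_zero]
    haveI : (E.map ev).IsElliptic := ⟨by rw [WeierstrassCurve.map_Δ]; exact isUnit_iff_ne_zero.2 hevΔ⟩
    have hj : (W.map (algebraMap K Ω)).j = (E.map ev).j := by
      rw [WeierstrassCurve.map_j, ← hr, ← IsScalarTower.algebraMap_apply, WeierstrassCurve.j,
        WeierstrassCurve.map_c₄, ← hevid]
      rw [Units.val_inv_eq_inv_val, WeierstrassCurve.coe_Δ', WeierstrassCurve.map_Δ]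
      rw [mul_comm (algebraMap R Ω r), inv_mul_cancel_left₀ hevΔ]
    obtain ⟨C, hC⟩ := WeierstrassCurve.exists_variableChange_of_j_eq _ _ hj
    let L := IntermediateField.adjoin K ({α, (C.u : Ω), C.r, C.s, C.t} : Set Ω)
    haveI : FiniteDimensional K L := IntermediateField.finiteDimensional_adjoin fun x _ =>
      Algebra.IsIntegral.isIntegral x
    have hmem : ∀ x ∈ ({α, (C.u : Ω), C.r, C.s, C.t} : Set Ω), x ∈ L := fun x hx =>
      IntermediateField.subset_adjoin K _ hx
    let B := integralClosure R L
    haveI : IsScalarTower R L Ω := IsScalarTower.of_algebraMap_eq fun x => IsScalarTower.algebraMap_apply R K Ω x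
    obtain ⟨hded, hsurj, -, -⟩ := S6370.result R K L B
      (IsDiscreteValuationRing.ringKrullDim_eq_one R)
    haveI := hded
    obtain ⟨⟨Q, hQ⟩, hQm⟩ := hsurj ⟨IsLocalRing.maximalIdeal R, inferInstance⟩
    haveI := hQ
    have hQm' : Q.comap (algebraMap R B) = IsLocalRing.maximalIdeal R := congrArg PrimeSpectrum.asIdeal hQm
    have hBL : Function.Injective (algebraMap R B) := fun x y h => by
      have h1 := congrArg (fun b : B => (((b : L) : Ω))) h
      have h2 : algebraMap R Ω x = algebraMap R Ω y := h1
      rw [IsScalarTower.algebraMap_apply R K Ω, IsScalarTower.algebraMap_apply R K Ω y] at h2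
      exact IsFractionRing.injective R K ((algebraMap K Ω).injective h2)
    have hQ0 : Q ≠ ⊥ := fun h => by
      obtain ⟨π, hπ⟩ := IsDiscreteValuationRing.exists_irreducible R
      have hm : π ∈ IsLocalRing.maximalIdeal R := hπ.not_isUnit
      rw [← hQm', Ideal.mem_comap, h, Ideal.mem_bot] at hm
      exact hπ.ne_zero (hBL (hm.trans (map_zero _).symm))
    haveI : IsFractionRing B L := integralClosure.isFractionRing_of_finite_extension K L
    let S := Localization.subalgebra.ofField L Q.primeCompl Q.primeCompl_le_nonZeroDivisors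
    haveI : IsLocalization.AtPrime S Q := inferInstance
    haveI : IsDiscreteValuationRing S :=
      IsLocalization.AtPrime.isDiscreteValuationRing_of_dedekind_domain B hQ0 S
    haveI : IsFractionRing S L := inferInstance
    let φ : R →+* S := (algebraMap B S).comp (algebraMap R B)
    refine ⟨L, inferInstance, inferInstance, inferInstance, S, inferInstance, inferInstance, inferInstance,
      inferInstance, inferInstance, φ, ⟨fun x hx => ?_⟩, fun x => ?_, ?_⟩
    · by_contra h
      have hm : x ∈ IsLocalRing.maximalIdeal R := h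
      rw [← hQm', Ideal.mem_comap, ← IsLocalization.AtPrime.to_map_mem_maximal_iff S Q] at hm
      exact hm hx
    · exact (IsScalarTower.algebraMap_apply R K L x).symm.trans rfl
    let αB : B := ⟨⟨α, hmem α (by simp)⟩,
      (isIntegral_algHom_iff (IsScalarTower.toAlgHom R L Ω) (algebraMap L Ω).injective).1 hαR⟩
    let evS : Polynomial R →+* S := (algebraMap B S).comp (Polynomial.aeval αB).toRingHom
    let ιL : S →+* Ω := (algebraMap L Ω).comp (algebraMap S L)
    let toΩ : B →ₐ[R] Ω := (IsScalarTower.toAlgHom R L Ω).comp (integralClosure R L).val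
    have hcomp : ∀ x, ιL (evS x) = ev x := fun x => by
      show algebraMap L Ω (algebraMap S L (algebraMap B S (Polynomial.aeval αB x))) = ev x
      rw [← IsScalarTower.algebraMap_apply B S L]
      show toΩ (Polynomial.aeval αB x) = ev x
      rw [← Polynomial.aeval_algHom_apply]; rfl
    have hΔS : IsUnit (evS E.Δ) := by
      by_contra h
      have h1 : Polynomial.aeval αB E.Δ ∈ Q :=
        (IsLocalization.AtPrime.to_map_mem_maximal_iff S Q _).1 h
      refine hgood _ ((algebraMap B Q.ResidueField).comp (Polynomial.aeval αB).toRingHom) (fun x hx => ?_) ?_ ?_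
      · show algebraMap _ Q.ResidueField (Polynomial.aeval αB (Polynomial.C x)) = 0
        rw [Polynomial.aeval_C, Ideal.algebraMap_residueField_eq_zero]
        rw [← hQm'] at hx
        exact hx
      · show algebraMap _ Q.ResidueField (Polynomial.aeval αB P) = 0
        have : Polynomial.aeval αB P = 0 := by
          refine Subtype.val_injective ((algebraMap L Ω).injective ?_)
          show toΩ (Polynomial.aeval αB P) = toΩ 0
          rw [← Polynomial.aeval_algHom_apply, map_zero]
          exact hevP
        rw [this, map_zero]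
      · exact Ideal.algebraMap_residueField_eq_zero.2 h1
    let E₀ := E.map evS
    let C' : WeierstrassCurve.VariableChange L :=
      ⟨Units.mk0 ⟨(C.u : Ω), hmem _ (by simp)⟩ (fun h => C.u.ne_zero (congrArg Subtype.val h)),
        ⟨C.r, hmem _ (by simp)⟩, ⟨C.s, hmem _ (by simp)⟩, ⟨C.t, hmem _ (by simp)⟩⟩
    have hC' : C' • (W.baseChange L) = E₀.map (algebraMap S L) := by
      apply WeierstrassCurve.map_injective (f := algebraMap L Ω) (algebraMap L Ω).injective
      dsimp only
      rw [← WeierstrassCurve.map_variableChange]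
      have e1 : C'.map (algebraMap L Ω) = C := by ext <;> rfl
      have e2 : ((W.baseChange L).map (algebraMap L Ω)) = W.map (algebraMap K Ω) := by
        rw [WeierstrassCurve.baseChange, WeierstrassCurve.map_map, ← IsScalarTower.algebraMap_eq]
      rw [e1, e2, hC, WeierstrassCurve.map_map, WeierstrassCurve.map_map]
      exact congrArg E.map (RingHom.ext fun x => (hcomp x).symm)
    set W' := (W.baseChange L) with hW'
    obtain ⟨C₀, hC₀⟩ : ∃ C₀ : WeierstrassCurve.VariableChange L, W'.minimal S = C₀ • W' := ⟨_, rfl⟩
    have hint : WeierstrassCurve.IsIntegral S (C' • W') := ⟨E₀, hC'⟩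
    have hmax := (inferInstance : WeierstrassCurve.IsMinimal S (W'.minimal S)).val_Δ_maximal
    have hval : IsDedekindDomain.HeightOneSpectrum.valuation L (IsDiscreteValuationRing.maximalIdeal S) (C' • W').Δ = 1 := by
      rw [hC', WeierstrassCurve.map_Δ, WeierstrassCurve.map_Δ, IsDedekindDomain.HeightOneSpectrum.valuation_eq_one_iff_notMem]
      intro h
      exact h hΔS
    have e0 : (C' * C₀⁻¹) • W'.minimal S = C' • W' := by
      rw [hC₀, smul_smul, inv_mul_cancel_right]
    have h1 := hmax.2 (j := C' * C₀⁻¹) (by show WeierstrassCurve.IsIntegral S _; rw [e0]; exact hint) (by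
      show WeierstrassCurve.valuation_Δ_aux S _ ≤ WeierstrassCurve.valuation_Δ_aux S _
      haveI := hint
      rw [e0, one_smul, ← Subtype.coe_le_coe, WeierstrassCurve.valuation_Δ_aux_eq_of_isIntegral S (C' • W'), hval]
      exact (WeierstrassCurve.valuation_Δ_aux S _).2)
    refine { goodReduction := ?_ }
    haveI := hint
    have h2 : ((WeierstrassCurve.valuation_Δ_aux S ((C' * C₀⁻¹) • W'.minimal S) : _) : _) ≤
      ((WeierstrassCurve.valuation_Δ_aux S ((1 : WeierstrassCurve.VariableChange L) • W'.minimal S) : _) : WithZero (Multiplicative ℤ)) := h1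
    rw [e0, one_smul, WeierstrassCurve.valuation_Δ_aux_eq_of_isIntegral S (C' • W'), hval,
      WeierstrassCurve.valuation_Δ_aux_eq_of_isIntegral] at h2
    refine le_antisymm ?_ h2
    rw [← WeierstrassCurve.integralModel_Δ_eq S (W'.minimal S)]
    exact IsDedekindDomain.HeightOneSpectrum.valuation_le_one _ _
  · rintro ⟨L, _, _, _, RL, _, _, _, _, _, φ, hφ, hcomp, hgood⟩
    haveI := hgood
    set W' := W.baseChange L
    obtain ⟨C₀, hC₀⟩ : ∃ C₀ : WeierstrassCurve.VariableChange L, W'.minimal RL = C₀ • W' := ⟨_, rfl⟩
    haveI : W'.IsElliptic := inferInstanceAs (W.map (algebraMap K L)).IsElliptic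
    haveI : (C₀ • W').IsElliptic := inferInstance
    set M := W'.minimal RL
    let M₀ := WeierstrassCurve.integralModel RL M
    have hu : IsUnit M₀.Δ := by
      have h := hgood.goodReduction
      rw [← WeierstrassCurve.integralModel_Δ_eq RL M, IsDedekindDomain.HeightOneSpectrum.valuation_eq_one_iff_notMem] at h
      exact not_not.1 h
    haveI : M₀.IsElliptic := ⟨hu⟩
    have hjL : algebraMap K L W.j = algebraMap RL L M₀.j := by
      have e1 : algebraMap RL L M₀.j = (M₀.map (algebraMap RL L)).j := (WeierstrassCurve.map_j _ _).symm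
      have e2 : M₀.map (algebraMap RL L) = C₀ • W' := (WeierstrassCurve.baseChange_integralModel_eq RL M).trans hC₀
      rw [e1]
      simp only [e2]
      rw [WeierstrassCurve.variableChange_j]
      exact (WeierstrassCurve.map_j _ _).symm
    by_contra hno
    push Not at hno
    rcases ValuationRing.isInteger_or_isInteger R W.j with ⟨x, hx⟩ | ⟨x, hx⟩
    · exact hno x hx
    have hj0 : W.j ≠ 0 := fun h => hno 0 (by rw [h, map_zero])
    have hxm : ¬ IsUnit x := fun h => by
      obtain ⟨u, rfl⟩ := h
      refine hno ((u⁻¹ : Rˣ) : R) ?_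
      rw [map_units_inv, hx, inv_inv]
    have h1 : φ x * M₀.j = 1 := by
      apply IsFractionRing.injective RL L
      rw [map_mul, map_one, ← hcomp, ← hjL, ← map_mul, hx, inv_mul_cancel₀ hj0, map_one]
    haveI := hφ
    exact hxm (IsUnit.of_map φ x (IsUnit.of_mul_eq_one _ h1))

end Groth.Agent.S0614
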