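import Groth.Statements.S0619
import Groth.Agent.CurveZeta.Weil

set_option autoImplicit false
set_option backward.isDefEq.respectTransparency false
set_option backward.isDefEq.respectTransparency.types false
universe u
open AlgebraicGeometry CategoryTheory
open Zeta

namespace Groth.Agent.S0619

/-- For a geometrically connected smooth proper curve of genus g over a finite field k with q elements
and a finite extension k' of degree n, |#C(k') − (qⁿ + 1)| ≤ 2g·q^(n/2). -/
theorem result {k : Type u} [Field k] [Finite k] {C : Scheme.{u}}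
    (f : C ⟶ Spec (CommRingCat.of k)) (hC : Curve.IsSmoothProperCurve k C f)
    [GeometricallyIrreducible f] (g : ℕ)
    (hg : Nat.card (Coh.HH C (Coh.structureModule C) 1) = Nat.card k ^ g)
    (k' : Type u) [Field k'] [Algebra k k'] [Finite k'] :
    |(SgaExt.pointCount f k' : ℝ) - ((Nat.card k : ℝ) ^ Module.finrank k k' + 1)| ≤
      2 * g * (Nat.card k : ℝ) ^ ((Module.finrank k k' : ℝ) / 2) := by
  letI : C.Over (Spec (CommRingCat.of k)) := ⟨f⟩
  haveI : GeometricallyIrreducible (C ↘ Spec (CommRingCat.of k)) := ‹GeometricallyIrreducible f›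
  obtain ⟨α, -, hn, -, hc⟩ := Groth.Agent.CurveZeta.weil k C hC g hg
  set n := Module.finrank k k'
  set q := Nat.card k
  have h : (((SgaExt.pointCount f k' : ℝ) - ((q : ℝ) ^ n + 1) : ℝ) : ℂ) = -∑ i, α i ^ n := by
    push_cast
    rw [show (SgaExt.pointCount f k' : ℂ) = _ from hc k']
    ring
  rw [← Real.norm_eq_abs, ← Complex.norm_real, h, norm_neg]
  refine (norm_sum_le _ _).trans ?_
  have hα : ∀ i, ‖α i ^ n‖ = (q : ℝ) ^ ((n : ℝ) / 2) := fun i => by
    rw [norm_pow, ← Real.sqrt_sq (norm_nonneg (α i)), hn i, Real.sqrt_eq_rpow,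
      ← Real.rpow_natCast _ n, ← Real.rpow_mul (Nat.cast_nonneg _)]
    congr 1
    ring
  simp only [hα, Finset.sum_const, Finset.card_univ, Fintype.card_fin, nsmul_eq_mul]
  push_cast
  exact le_rfl

end Groth.Agent.S0619
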