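import Groth.Statements.S0623
import Groth.Agent.EtFound.JContGen
import Groth.Agent.EtFound.PullStalk
import Groth.Agent.EtFound.ExtZeroExact
import Mathlib.CategoryTheory.MorphismProperty.OverAdjunction
-- import your own Groth.Agent.* helpers here

set_option autoImplicit false
open CategoryTheory CategoryTheory.Limits AlgebraicGeometry Opposite
universe u
open EtCore

namespace Groth.Agent.S0623

/-- For a morphism f : X -> Y and an injective abelian sheaf I on the small etale site of X, the
pushforward f_* I is acyclic: its etale cohomology over any scheme V etale over Y (computed after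
pulling back to V) vanishes in positive degrees, and for any g : Y -> Z the higher direct images R^q
g_* (f_* I) vanish for q > 0. Part (1) on Cech cohomology is not included. -/
theorem result {X Y Z : Scheme.{u}} (f : X ⟶ Y) (g : Y ⟶ Z) (I : EtCoh.Ab X)
    [Injective I] (q : ℕ) (hq : 1 ≤ q) :
    (∀ V : Y.Etale, Subsingleton (EtCoh.H V.left ((EtCoh.pull V.hom).obj ((EtCoh.push f).obj I)) q)) ∧
    IsZero ((EtCoh.Rpush g q).obj ((EtCoh.push f).obj I)) := by
  obtain ⟨n, rfl⟩ : ∃ n, q = n + 1 := ⟨q - 1, by omega⟩
  have hf := EtFound.pull_preservesFiniteLimits f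
  have : Injective ((EtCoh.push f).obj I) :=
    Injective.injective_of_adjoint (EtCoh.pullPushAdj f) I
  refine ⟨fun V => ?_, Functor.isZero_rightDerived_obj_injective_succ (EtCoh.push g) n _⟩
  have hV : AlgebraicGeometry.Etale V.hom := V.prop
  have hc : EtShriek.JCont V.hom := EtFound.jCont V.hom
  have : (EtShriek.compEtale V.hom).IsContinuous V.left.smallEtaleTopology Y.smallEtaleTopology := hc
  have := EtFound.extZero_preservesFiniteLimits V.hom
  have : (EtCoh.bc V.hom).IsContinuous Y.smallEtaleTopology V.left.smallEtaleTopology := EtCoh.bcCont (f := V.hom)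
  let a : EtShriek.compEtale V.hom ⊣ EtCoh.bc V.hom :=
    MorphismProperty.Over.mapPullbackAdj EtCoh.etaleMP ⊤ V.hom hV trivial
  let e : EtShriek.restrAlong V.hom ≅ EtCoh.pull V.hom :=
    Adjunction.leftAdjointUniq
      (a.sheafPushforwardContinuous (E := AddCommGrpCat.{u + 1}) V.left.smallEtaleTopology Y.smallEtaleTopology)
      (EtCoh.pullPushAdj V.hom)
  have : Injective ((EtCoh.pull V.hom).obj ((EtCoh.push f).obj I)) :=
    Injective.injective_of_adjoint ((EtShriek.extZeroAdj V.hom).ofNatIsoRight e) _
  exact Abelian.Ext.subsingleton_of_injective _ _ n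

end Groth.Agent.S0623
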