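import Groth.Statements.S0631
import Groth.Agent.EtFound.UnivInjPush
-- import your own Groth.Agent.* helpers here

set_option autoImplicit false
open CategoryTheory CategoryTheory.Limits AlgebraicGeometry Opposite
universe u
open EtCore

namespace Groth.Agent.S0631

/-- For a morphism f : X -> Y that is integral and universally injective, the direct image f_* on
abelian etale sheaves is full and faithful, an abelian sheaf on Y lies in its essential image
exactly when its support is contained in the image of f, and the counit f^{-1} f_* F -> F is an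
isomorphism for every F. -/
theorem result {X Y : Scheme.{u}} (f : X ⟶ Y)
    [IsIntegralHom f] [UniversallyInjective f] :
    (EtCoh.push f).Full ∧ (EtCoh.push f).Faithful ∧
    (∀ G : EtCoh.Ab Y, (EtCoh.push f).essImage G ↔ EtPBC.supp G ⊆ Set.range f.base) ∧
    ∀ F : EtCoh.Ab X, IsIso ((EtCoh.pullPushAdj f).counit.app F) := by
  have hcu := EtFound.counit_isIso_of_integral_univInj f
  have : IsIso (EtCoh.pullPushAdj f).counit := NatIso.isIso_of_isIso_app _
  have hff := (EtCoh.pullPushAdj f).fullyFaithfulROfIsIsoCounit
  refine ⟨hff.full, hff.faithful, fun G => ⟨?_, fun h => ?_⟩, hcu⟩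
  · rintro ⟨F, ⟨e⟩⟩ x ⟨Ω, _, _, ξ, hξ, hne⟩
    by_contra hx
    refine hne ?_
    have hξx : ξ.base (default : Spec (CommRingCat.of Ω)) ∉ Set.range f.base := by
      have : ξ.base (default : Spec (CommRingCat.of Ω)) ∈ Set.range ξ := ⟨_, rfl⟩
      rw [hξ, Set.mem_singleton_iff] at this
      rwa [this]
    have hu := EtFound.nonempty_unique_stalk f.isClosedMap.isClosed_range ((EtCoh.push f).obj F)
      (fun V hV => EtFound.push_unique_of_disjoint f F V hV) ξ hξx
    obtain ⟨hu⟩ := hu
    refine IsZero.of_iso ?_ ((EtCoh.stalk ξ).mapIso e.symm)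
    exact @AddCommGrpCat.isZero_of_subsingleton _ ⟨fun a b => (hu.eq_default a).trans (hu.eq_default b).symm⟩
  · have := EtFound.unit_isIso_of_supp f G fun k _ _ ξ hξ => by
      by_contra hne
      refine hξ (h ⟨k, inferInstance, inferInstance, ξ, ?_, hne⟩)
      ext z
      constructor
      · rintro ⟨w, rfl⟩
        rw [Set.mem_singleton_iff, Subsingleton.elim w default]
      · rintro rfl
        exact ⟨_, rfl⟩
    exact ⟨_, ⟨(asIso ((EtCoh.pullPushAdj f).unit.app G)).symm⟩⟩

end Groth.Agent.S0631
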