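import Groth.Statements.S0632
import Groth.Agent.EtFound.LiftEtale

set_option autoImplicit false
open CategoryTheory CategoryTheory.Limits AlgebraicGeometry Opposite
universe u
open EtCore

namespace Groth.Agent.S0632

/-- Let X -> Y be a closed immersion and U_i -> X (i in ι) a jointly surjective family of etale
morphisms. Then one can find a jointly surjective family of etale Y-schemes V_j each of which either
has empty preimage over X or, after base change to X, maps into one of the U_i over X. -/
theorem result {X Y : Scheme.{u}} (f : X ⟶ Y) [IsClosedImmersion f]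
    {ι : Type u} (U : ι → X.Etale) (hU : EtCoh.Covers U) :
    ∃ (κ : Type u) (V : κ → Y.Etale), EtCoh.Covers V ∧
      ∀ j, IsEmpty ↥(pullback (V j).hom f) ∨
        ∃ (i : ι) (h : pullback (V j).hom f ⟶ (U i).left), h ≫ (U i).hom = pullback.snd (V j).hom f := by
  choose i v hv using hU
  choose V h hh ho hu using fun x : X =>
    (have : AlgebraicGeometry.Etale (U (i x)).hom := (U (i x)).prop;
     EtFound.exists_etale_lift f (U (i x)).hom (v x))
  let W : Y.Opens := ⟨(Set.range f.base)ᶜ, f.isClosedEmbedding.isClosed_range.isOpen_compl⟩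
  refine ⟨X ⊕ PUnit.{u + 1}, Sum.elim V fun _ => Scheme.Etale.mk W.ι, fun y => ?_, fun j => ?_⟩
  · by_cases hy : y ∈ Set.range f.base
    · obtain ⟨x, rfl⟩ := hy
      obtain ⟨p, hp⟩ := hu x
      refine ⟨.inl x, (pullback.fst (V x).hom f).base p, ?_⟩
      refine (Scheme.Hom.comp_apply _ _ p).symm.trans ((congrArg (fun a : _ ⟶ Y => a.base p) pullback.condition).trans ?_)
      rw [← hh x]
      simp only [Scheme.Hom.comp_apply, hp]
      exact congrArg f.base (hv x)
    · exact ⟨.inr ⟨⟩, ⟨y, hy⟩, rfl⟩
  · rcases j with x | ⟨⟩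
    · exact Or.inr ⟨i x, h x, hh x⟩
    · refine Or.inl ⟨fun p => ?_⟩
      have e : W.ι.base ((pullback.fst W.ι f).base p) = f.base ((pullback.snd W.ι f).base p) :=
        (Scheme.Hom.comp_apply _ _ p).symm.trans ((congrArg (fun a : _ ⟶ Y => a.base p) pullback.condition).trans
          (Scheme.Hom.comp_apply _ _ p))
      exact ((pullback.fst W.ι f).base p).2 ⟨_, e.symm⟩

end Groth.Agent.S0632
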