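import Groth.Statements.S0634
import Groth.Agent.EtFound.PullGerm
import Groth.Agent.EtFound.Germ
import Mathlib.AlgebraicGeometry.Morphisms.UniversallyOpen

set_option autoImplicit false
open CategoryTheory CategoryTheory.Limits AlgebraicGeometry Opposite
universe u
open EtCore

namespace Groth.Agent.S0634

/-- For an abelian sheaf F on the small etale site of S and two global sections s, t there is an open W
of S such that a morphism f : T -> S has image inside W if and only if the pullbacks of s and t
along f (images under the adjunction unit, as sections of the pullback sheaf over T) coincide. -/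
theorem result {S : Scheme.{u}} (F : EtCoh.Ab S) (s t : EtCoh.sect F (EtCoh.top S)) :
    ∃ W : S.Opens, ∀ (T : Scheme.{u}) (f : T ⟶ S),
      Set.range f.base ⊆ (W : Set S) ↔
        ((EtCoh.pullPushAdj f).unit.app F).hom.app (op (EtCoh.top S)) s =
          ((EtCoh.pullPushAdj f).unit.app F).hom.app (op (EtCoh.top S)) t := by
  classical
  let ι : Type (u + 1) := {p : Σ V : S.Etale, V ⟶ EtCoh.top S // F.obj.map p.2.op s = F.obj.map p.2.op t}
  let W : S.Opens := ⟨⋃ p : ι, Set.range p.1.2.left.base, isOpen_iUnion fun p => by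
    have := EtFound.etale_left p.1.2
    exact p.1.2.left.isOpenMap.isOpen_range⟩
  have key : ∀ (Ω : Type u) (_ : Field Ω) (_ : IsSepClosed Ω) (ζ : Spec (CommRingCat.of Ω) ⟶ S)
      (z : (Scheme.pointSmallEtale ζ).fiber.obj (EtCoh.top S)),
      ζ.base (default : Spec (CommRingCat.of Ω)) ∈ W ↔
        (Scheme.pointSmallEtale ζ).toPresheafFiber _ z F.obj s = (Scheme.pointSmallEtale ζ).toPresheafFiber _ z F.obj t := by
    intro Ω _ _ ζ z
    have hz : (z.left : Spec (CommRingCat.of Ω) ⟶ S) = ζ :=
      (Category.comp_id _).symm.trans (CategoryTheory.Over.w z)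
    constructor
    · intro h
      obtain ⟨⟨⟨V, g⟩, hg⟩, v, hv⟩ := Set.mem_iUnion.1 (show _ ∈ (⋃ p : ι, _) from h)
      obtain ⟨v', rfl, -⟩ := EtFound.exists_lift_point g z v
        (hv.trans (congrArg (fun a : Spec (CommRingCat.of Ω) ⟶ S => a.base default) hz.symm))
      erw [← (Scheme.pointSmallEtale ζ).toPresheafFiber_w_apply g v' F.obj s,
        ← (Scheme.pointSmallEtale ζ).toPresheafFiber_w_apply g v' F.obj t]
      exact congrArg _ hg
    · intro h
      obtain ⟨V, g, v, hv, hg⟩ := ((Scheme.pointSmallEtale ζ).toPresheafFiber_eq_iff' _ z _ _).1 h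
      refine Set.mem_iUnion.2 ⟨⟨⟨V, g⟩, hg⟩,
        (v.left : Spec (CommRingCat.of Ω) ⟶ V.left).base (default : Spec (CommRingCat.of Ω)), ?_⟩
      subst hv
      exact congrArg (fun a : Spec (CommRingCat.of Ω) ⟶ S => a.base default) hz
  refine ⟨W, fun T f => ⟨fun hf => ?_, fun h => ?_⟩⟩
  · refine (((isSheaf_iff_isSheaf_of_type _ _).1 ((sheafCompose T.smallEtaleTopology
      (forget AddCommGrpCat.{u + 1})).obj ((EtCoh.pull f).obj F)).property).isSeparated
      _ (EtFound.equalizerSieve_mem_of_germs ((EtCoh.pull f).obj F).obj _ _ _ fun Ω _ _ ξ u => ?_)).ext fun V g hg => hg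
    refine (EtFound.germ_unit_eq_iff f ξ F _ u s t).2 ((key Ω _ _ _ _).1 ?_)
    exact hf ⟨ξ.base default, rfl⟩
  · rintro _ ⟨x, rfl⟩
    obtain ⟨Ω, _, _, ξ, u, hu⟩ := EtFound.exists_point_through (EtCoh.top T) x
    let z : (Scheme.pointSmallEtale (ξ ≫ f)).fiber.obj (EtCoh.top S) :=
      CategoryTheory.Over.homMk (ξ ≫ f) (Category.comp_id _)
    have hξ : ξ.base default = x := by
      refine Eq.trans ?_ (hu default)
      exact congrArg (fun a : Spec (CommRingCat.of Ω) ⟶ T => a.base default)
        ((Category.comp_id _).symm.trans (CategoryTheory.Over.w u)).symm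
    have e := (EtFound.germ_unit_eq_iff f ξ F _ ((EtFound.bcFiberEquiv f ξ _).symm z) s t).1 (congrArg _ h)
    rw [Equiv.apply_symm_apply] at e
    rw [← hξ]
    exact (key Ω _ _ _ z).2 e

end Groth.Agent.S0634
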