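import Groth.Statements.S0639
import Groth.Agent.Curve11.OpenSurj
import Groth.Agent.S0204
import Groth.Agent.GabberAff13.BigDesc.Main

set_option autoImplicit false
open CategoryTheory CategoryTheory.Limits AlgebraicGeometry Opposite
universe u
open EtCore

namespace Groth.Agent.S0639

/-- Let k be an algebraically closed field, X separated of finite type over k of dimension at most 1, F
a torsion abelian sheaf on the small etale site of X and U an open subscheme. Then the pullback map
from H^2(X, F) to H^2(U, F|_U) is surjective. (Exactness of pullback of abelian sheaves, which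
always holds, is carried as an instance hypothesis.) -/
theorem result (k : Type u) [Field k] [IsAlgClosed k] (X : Scheme.{u})
    (f : X ⟶ Spec (CommRingCat.of k)) [IsSeparated f] [LocallyOfFiniteType f] [QuasiCompact f]
    (hdim : topologicalKrullDim X ≤ 1) (F : EtCoh.Ab X) (hF : EtCoh.IsTorsion F) (U : X.Opens)
    [PreservesFiniteLimits (EtCoh.pull U.ι)] :
    Function.Surjective (EtCore.Hpull U.ι F 2) := by
  haveI : IsLocallyNoetherian X := LocallyOfFiniteType.isLocallyNoetherian f
  haveI : CompactSpace X := QuasiCompact.compactSpace_of_compactSpace f
  haveI : AlgebraicGeometry.IsNoetherian X := {}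
  haveI : X.IsSeparated := (Scheme.isSeparated_iff X).2 (by
    rw [← terminal.comp_from f]
    infer_instance)
  refine Curve11.Hpull_open_surjective hdim F 2 (fun O hO => ?_) U
  haveI : IsAffine O.toScheme := hO
  exact S0204.result k O.toScheme (O.ι ≫ f) ((O.ι.isOpenEmbedding.isInducing.topologicalKrullDim_le).trans hdim)
    _ (GabberAff13.BigDesc.isTorsion_pull O.ι hF) 2 (by omega)


end Groth.Agent.S0639
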