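import Groth.Statements.S0643
-- import your own Groth.Agent.* helpers here

set_option autoImplicit false
universe u
open EtCore

namespace Groth.Agent.S0643

open Polynomial in
/-- Let A be a ring, assumed nonzero here (the published statement does not say so; over the zero ring
no polynomial has positive degree in Lean's sense), and a, b elements generating the unit ideal such
that some positive power of a is congruent to 1 modulo b. Then there is a monic polynomial P of
positive degree over A such that in B = A[y]/(P) the element a - b y is a unit. -/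
theorem result (A : Type u) [CommRing A] [Nontrivial A] (a b : A) (hab : IsCoprime a b)
    (hroot : ∃ n : ℕ, 0 < n ∧ a ^ n - 1 ∈ Ideal.span ({b} : Set A)) :
    ∃ P : A[X], P.Monic ∧ 0 < P.natDegree ∧
      IsUnit (algebraMap A (AdjoinRoot P) a - algebraMap A (AdjoinRoot P) b * AdjoinRoot.root P) := by
  obtain ⟨n, hn, hm⟩ := hroot
  obtain ⟨c, hc⟩ := Ideal.mem_span_singleton'.1 hm
  obtain ⟨x, y, hxy⟩ := hab
  obtain ⟨m, rfl⟩ : ∃ m, n = m + 1 := ⟨n - 1, by omega⟩
  let q : A[X] := ∑ i ∈ Finset.range (m + 1), C (-c * x ^ i * y ^ (m - i) * (m.choose i : A)) * X ^ i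
  let P : A[X] := X ^ (m + 1) + q
  have hq : q.degree < (m + 1 : ℕ) := by
    refine lt_of_le_of_lt (degree_sum_le _ _) ((Finset.sup_lt_iff (WithBot.bot_lt_coe _)).2 ?_)
    intro i hi
    refine lt_of_le_of_lt (degree_C_mul_X_pow_le _ _) ?_
    exact_mod_cast Finset.mem_range.1 hi
  have hP : P.Monic := monic_X_pow_add hq
  have hd : P.natDegree = m + 1 := by
    have h1 : P.degree = (m + 1 : ℕ) := by
      simp only [P]
      rw [degree_add_eq_left_of_degree_lt (by rwa [degree_X_pow]), degree_X_pow]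
    exact natDegree_eq_of_degree_eq_some h1
  refine ⟨P, hP, by omega, ?_⟩
  set φ := algebraMap A (AdjoinRoot P)
  set r := AdjoinRoot.root P
  set v := φ a - φ b * r
  have key : ∀ k : ℕ, v ∣ φ a ^ k - (φ b * r) ^ k := fun k => sub_dvd_pow_sub_pow _ _ k
  have hr : r ^ (m + 1) + ∑ i ∈ Finset.range (m + 1), φ (-c * x ^ i * y ^ (m - i) * (m.choose i : A)) * r ^ i = 0 := by
    have h0 := AdjoinRoot.eval₂_root P
    simp only [P, q, eval₂_add, eval₂_X_pow, eval₂_finsetSum, eval₂_C, eval₂_mul] at h0
    exact h0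
  rw [isUnit_iff_dvd_one]
  have h1 : (∑ i ∈ Finset.range (m + 1), φ (-c * x ^ i * y ^ (m - i) * (m.choose i : A)) *
      φ b ^ (m + 1 - i) * φ a ^ i) = φ (1 - a ^ (m + 1)) := by
    have h2 : (1 : A) = ∑ i ∈ Finset.range (m + 1), (x * a) ^ i * (y * b) ^ (m - i) * (m.choose i : A) := by
      rw [← add_pow, hxy, one_pow]
    have h3 : 1 - a ^ (m + 1) = -c * b * 1 := by rw [mul_one, neg_mul, hc]; ring
    rw [h3, h2, Finset.mul_sum, map_sum]
    refine Finset.sum_congr rfl fun i hi => ?_
    have : m + 1 - i = (m - i) + 1 := by have := Finset.mem_range.1 hi; omega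
    rw [this]
    simp only [map_mul, map_pow, map_neg, mul_pow]
    ring
  have h4 : v ∣ ∑ i ∈ Finset.range (m + 1), φ (-c * x ^ i * y ^ (m - i) * (m.choose i : A)) *
      φ b ^ (m + 1 - i) * (φ a ^ i - (φ b * r) ^ i) :=
    Finset.dvd_sum fun i _ => dvd_mul_of_dvd_right (key i) _
  have h5 := dvd_add h4 (key (m + 1))
  convert h5 using 1
  simp only [mul_sub, Finset.sum_sub_distrib, h1, map_sub, map_one, map_pow]
  have h6 : (∑ i ∈ Finset.range (m + 1), φ (-c * x ^ i * y ^ (m - i) * (m.choose i : A)) *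
      φ b ^ (m + 1 - i) * (φ b * r) ^ i) = - (φ b * r) ^ (m + 1) := by
    rw [eq_neg_iff_add_eq_zero, mul_pow (φ b) r (m+1), ← mul_zero (φ b ^ (m + 1)), ← hr, mul_add, Finset.mul_sum, add_comm]
    congr 1
    refine Finset.sum_congr rfl fun i hi => ?_
    rw [mul_pow, ← pow_sub_mul_pow (φ b) (show i ≤ m + 1 by have := Finset.mem_range.1 hi; omega)]
    ring
  rw [h6]
  ring

end Groth.Agent.S0643
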