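import Groth.Statements.S0644
import Groth.Agent.EtFound.Basic
import Mathlib.AlgebraicGeometry.Morphisms.UniversallyOpen
import Mathlib.AlgebraicGeometry.Morphisms.Flat
-- import your own Groth.Agent.* helpers here

set_option autoImplicit false
open CategoryTheory CategoryTheory.Limits AlgebraicGeometry Opposite
universe u
open EtCore

namespace Groth.Agent.S0644

/-- Let F be a sheaf of sets on the small etale site of S which is a subsheaf of the final sheaf, i.e.
every set of sections has at most one element. Then there is exactly one open W of S such that F is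
isomorphic to the sheaf represented by W (viewed as a scheme etale over S). -/
theorem result (S : Scheme.{u}) (F : Sheaf S.smallEtaleTopology (Type u))
    (hF : ∀ U : S.Etale, Subsingleton (F.obj.obj (op U))) :
    ∃! W : S.Opens, Nonempty (F.obj ≅ yoneda.obj (Scheme.Etale.mk W.ι)) := by
  classical
  let W : S.Opens := ⨆ p : {U : S.Etale // Nonempty (F.obj.obj (op U))},
    haveI : AlgebraicGeometry.Etale p.1.hom := p.1.prop
    ⟨Set.range (p.1.hom : p.1.left ⟶ S).base, (p.1.hom : p.1.left ⟶ S).isOpenMap.isOpen_range⟩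
  have hhom : ∀ (U : S.Etale) (V : S.Opens),
      Nonempty (U ⟶ Scheme.Etale.mk V.ι) ↔ (Set.range (U.hom : U.left ⟶ S).base ⊆ (V : Set S)) := by
    intro U V
    constructor
    · rintro ⟨g⟩ _ ⟨u, rfl⟩
      have : U.hom = g.left ≫ V.ι := (MorphismProperty.Over.w g).symm
      rw [this, Scheme.Hom.comp_apply]
      exact (g.left.base u).2
    · intro h
      have hV : IsOpenImmersion V.ι := inferInstance
      have h' : Set.range (U.hom : U.left ⟶ S).base ⊆ Set.range V.ι.base := fun x hx => (Scheme.Opens.range_ι V).ge (h hx)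
      exact ⟨MorphismProperty.Over.homMk (@IsOpenImmersion.lift _ _ _ V.ι (U.hom : U.left ⟶ S) hV h')
        (@IsOpenImmersion.lift_fac _ _ _ V.ι (U.hom : U.left ⟶ S) hV h')⟩
  have hsub : ∀ (U : S.Etale) (V : S.Opens), Subsingleton (U ⟶ Scheme.Etale.mk V.ι) := fun U V =>
    ⟨fun a b => MorphismProperty.Over.Hom.ext ((cancel_mono V.ι).1
      ((MorphismProperty.Over.w a).trans (MorphismProperty.Over.w b).symm))⟩
  have hne : ∀ U : S.Etale, Nonempty (F.obj.obj (op U)) ↔ (Set.range (U.hom : U.left ⟶ S).base ⊆ (W : Set S)) := by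
    intro U
    have hU : AlgebraicGeometry.Etale U.hom := U.prop
    refine ⟨fun h => ?_, fun h => ?_⟩
    · rintro _ ⟨u, rfl⟩
      exact TopologicalSpace.Opens.mem_iSup.2 ⟨⟨U, h⟩, u, rfl⟩
    · let T : Sieve U :=
        { arrows := fun V _ => Nonempty (F.obj.obj (op V))
          downward_closed := fun ⟨x⟩ g => ⟨F.obj.map g.op x⟩ }
      have hT : T ∈ S.smallEtaleTopology U := by
        refine (EtFound.mem_topology_iff _).2 fun u => ?_
        obtain ⟨⟨A, ⟨s⟩⟩, a, ha⟩ := TopologicalSpace.Opens.mem_iSup.1 (h ⟨u, rfl⟩)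
        have hA : AlgebraicGeometry.Etale A.hom := A.prop
        obtain ⟨p, hp1, hp2⟩ := Scheme.Pullback.exists_preimage_pullback (f := A.hom) (g := U.hom) a u ha
        let P : S.Etale := Scheme.Etale.mk (pullback.snd A.hom U.hom ≫ U.hom)
        exact ⟨P, MorphismProperty.Over.homMk (pullback.snd A.hom U.hom) rfl, p,
          ⟨F.obj.map (MorphismProperty.Over.homMk (pullback.fst A.hom U.hom) pullback.condition : P ⟶ A).op s⟩, hp2⟩
      have hs := (isSheaf_iff_isSheaf_of_type _ _).1 F.property T hT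
      exact ⟨hs.amalgamate (fun V g (hg : Nonempty (F.obj.obj (op V))) => hg.some)
        (fun {Y₁ Y₂ Z} g₁ g₂ f₁ f₂ h₁ h₂ _ => (hF Z).elim _ _)⟩
  refine ⟨W, ?_, ?_⟩
  · refine ⟨NatIso.ofComponents (fun U => Equiv.toIso ?_) (fun {U V} g => ?_)⟩
    · exact
        { toFun := fun x => ((hhom U.unop W).2 ((hne U.unop).1 ⟨x⟩)).some
          invFun := fun g => ((hne U.unop).2 ((hhom U.unop W).1 ⟨g⟩)).some
          left_inv := fun x => (hF U.unop).elim _ _
          right_inv := fun g => (hsub U.unop W).elim _ _ }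
    · ext x
      exact (hsub V.unop W).elim _ _
  · rintro W' ⟨e⟩
    have h : ∀ U : S.Etale, Nonempty (F.obj.obj (op U)) ↔ (Set.range (U.hom : U.left ⟶ S).base ⊆ (W' : Set S)) := fun U => by
      rw [← hhom]
      exact ⟨fun ⟨x⟩ => ⟨e.hom.app (op U) x⟩, fun ⟨g⟩ => ⟨e.inv.app (op U) g⟩⟩
    refine le_antisymm ?_ ?_
    · have h1 := ((hne _).1 ((h (Scheme.Etale.mk W'.ι)).2 (Scheme.Opens.range_ι W').le))
      intro x hx
      exact h1 ⟨⟨x, hx⟩, rfl⟩
    · have h1 := ((h _).1 ((hne (Scheme.Etale.mk W.ι)).2 (Scheme.Opens.range_ι W).le))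
      intro x hx
      exact h1 ⟨⟨x, hx⟩, rfl⟩

end Groth.Agent.S0644
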