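import Groth.Statements.S0645
import Groth.Agent.GabberAff13.ProjLine
-- import your own Groth.Agent.* helpers here

set_option autoImplicit false
open CategoryTheory CategoryTheory.Limits AlgebraicGeometry Opposite
universe u
open EtCore

namespace Groth.Agent.S0645

/-- Let A be a henselian local ring, X the projective line over A, X_0 its closed fibre (base change to
the residue field) and ℓ a prime. Let I be an abelian sheaf on the small etale site of X killed by ℓ
which is injective in the full subcategory of sheaves killed by ℓ (an injective sheaf of
Z/ℓ-modules). Then the pullback of I to X_0 has vanishing etale cohomology in positive degrees. -/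
theorem result (A : Type u) [CommRing A] [HenselianLocalRing A]
    (ℓ : ℕ) [Fact ℓ.Prime] (I : EtCoh.Ab (CohB1.ProjSpace 1 A)) (hI : EtCoh.KilledBy ℓ I)
    (hinj : Injective (ObjectProperty.FullSubcategory.mk (P := fun F : EtCoh.Ab (CohB1.ProjSpace 1 A) => EtCoh.KilledBy ℓ F) I hI))
    (q : ℕ) (hq : 1 ≤ q) :
    Subsingleton (EtCoh.H (pullback (CohB1.ProjSpace.toSpec 1 A) (Spec.map (CommRingCat.ofHom (IsLocalRing.residue A))))
      ((EtCoh.pull (pullback.fst (CohB1.ProjSpace.toSpec 1 A)
        (Spec.map (CommRingCat.ofHom (IsLocalRing.residue A))))).obj I) q) := by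
  exact GabberAff13.subsingleton_H_projLine A (Fact.out : ℓ.Prime).pos I (GabberAff13.injKilled_of_injective I hI hinj) q hq

end Groth.Agent.S0645
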