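import Groth.Statements.S0647
import Groth.Agent.EtFound.ExtZeroExact

set_option autoImplicit false
open CategoryTheory CategoryTheory.Limits AlgebraicGeometry Opposite
universe u
open EtCore

namespace Groth.Agent.S0647

/-- Stalks of the extension by zero: let j : U → X be an étale morphism of schemes, F an abelian sheaf
on the small étale site of U and ξ : Spec Ω → X a geometric point (Ω separably closed). Then the
stalk of the extension by zero j_!F at ξ is isomorphic to the direct sum, over the geometric points
u : Spec Ω → U with j ∘ u = ξ, of the stalks F_u. Only the existence of an isomorphism is asserted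
(the identification is in fact canonical). (Continuity of the composition functor of étale sites
along j is carried as an instance binder.) -/
theorem result {U X : Scheme.{u}} (j : U ⟶ X) [AlgebraicGeometry.Etale j] [EtShriek.JCont j]
    (F : EtCoh.Ab U) {Ω : Type u} [Field Ω] [IsSepClosed Ω] (ξ : Spec (CommRingCat.of Ω) ⟶ X) :
    Nonempty ((EtCoh.stalk ξ).obj ((EtShriek.extZero j).obj F) ≅
      ∐ fun u : {u : Spec (CommRingCat.of Ω) ⟶ U // u ≫ j = ξ} => (EtCoh.stalk u.1).obj F) := by
  exact ⟨(EtFound.extZeroCofanIsColimit (A := AddCommGrpCat.{u + 1}) j ξ F).coconePointUniqueUpToIso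
    (coproductIsCoproduct _)⟩

end Groth.Agent.S0647
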