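import Groth.Statements.S0648
import Groth.Agent.EtFound.ExtZeroExact

set_option autoImplicit false
open CategoryTheory CategoryTheory.Limits AlgebraicGeometry Opposite
universe u
open EtCore

namespace Groth.Agent.S0648

/-- For an etale morphism j : U -> X the extension by zero functor j_! on abelian sheaves preserves
finite limits (it is a left adjoint, so it is then exact). (Continuity of the composition functor of
etale sites, which always holds, is carried as an instance hypothesis.) -/
theorem result {U X : Scheme.{u}} (j : U ⟶ X) [AlgebraicGeometry.Etale j] [EtShriek.JCont j] :
    PreservesFiniteLimits (EtShriek.extZero j) := by
  exact EtFound.extZero_preservesFiniteLimits j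

end Groth.Agent.S0648
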