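import Groth.Statements.S0650
import Groth.Agent.SiteBase.EtExcision.ExtZeroCmp

set_option autoImplicit false
open CategoryTheory CategoryTheory.Limits AlgebraicGeometry Opposite
universe u
open EtCore

namespace Groth.Agent.S0650

/-- For a separated étale morphism j : U → X there is a natural transformation from extension by zero
j_! to direct image j_*, on abelian sheaves, whose component at every abelian sheaf on the small
étale site of U is a monomorphism. (Only the existence of such a natural injective comparison map is
stated; the published statement constructs a specific one.) (Continuity of the composition functor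
of étale sites, which always holds, is carried as an instance hypothesis.) -/
theorem result {U X : Scheme.{u}} (j : U ⟶ X) [AlgebraicGeometry.Etale j]
    [IsSeparated j] [EtShriek.JCont j] :
    ∃ τ : EtShriek.extZero j ⟶ EtCoh.push j, ∀ F : EtCoh.Ab U, Mono (τ.app F) := by
  refine ⟨(Groth.Agent.EtExcision.extZeroShrIso j ≪≫ Groth.Agent.EtExcision.lowerShriekIso j).hom ≫
    Groth.Agent.EtExcision.shrι j, fun F => ?_⟩
  have hm : ∀ V, Mono (((Groth.Agent.EtExcision.shrι j).app F).hom.app V) := fun V =>
    (AddCommGrpCat.mono_iff_injective _).2 Subtype.val_injective
  have h : Mono ((Groth.Agent.EtExcision.shrι j).app F).hom := NatTrans.mono_of_mono_app _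
  have : Mono ((Groth.Agent.EtExcision.shrι j).app F) := (sheafToPresheaf _ _).mono_of_mono_map h
  have h2 : IsIso ((Groth.Agent.EtExcision.extZeroShrIso j ≪≫ Groth.Agent.EtExcision.lowerShriekIso j).hom.app F) :=
    inferInstance
  exact @mono_comp _ _ _ _ _ _ (IsIso.mono_of_iso _) _ this

end Groth.Agent.S0650
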