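import Groth.Statements.S9714
import Groth.Agent.MorLib.BddFib
import Mathlib.AlgebraicGeometry.Morphisms.FormallyUnramified
import Mathlib.AlgebraicGeometry.Artinian
import Mathlib.RingTheory.Unramified.Field

set_option autoImplicit false
universe u
open CategoryTheory CategoryTheory.Limits AlgebraicGeometry
open Mor

namespace Groth.Agent.S9714

open Limits

theorem finite_affine {k : Type u} [Field k] {W : Scheme.{u}} [IsAffine W]
    (g : W ⟶ Spec (CommRingCat.of k)) [FormallyUnramified g] [LocallyOfFiniteType g] :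
    letI := BddFib.secAlgebra (CommRingCat.of k) g
    Module.Finite k Γ(W, ⊤) ∧ _root_.IsReduced Γ(W, ⊤) ∧
      Algebra.FormallyUnramified k Γ(W, ⊤) ∧ Algebra.EssFiniteType k Γ(W, ⊤) := by
  letI := BddFib.secAlgebra (CommRingCat.of k) g
  have h1 : ((Scheme.ΓSpecIso (CommRingCat.of k)).inv ≫ g.appTop).hom.FormallyUnramified := by
    rw [← HasRingHomProperty.Spec_iff (P := @FormallyUnramified),
      ← MorphismProperty.cancel_left_of_respectsIso @FormallyUnramified W.isoSpec.hom,
      ← Groth.Agent.MorLib.BF.eq_isoSpec_hom_comp g]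
    infer_instance
  have h2 : ((Scheme.ΓSpecIso (CommRingCat.of k)).inv ≫ g.appTop).hom.FiniteType := by
    rw [← HasRingHomProperty.Spec_iff (P := @LocallyOfFiniteType),
      ← MorphismProperty.cancel_left_of_respectsIso @LocallyOfFiniteType W.isoSpec.hom,
      ← Groth.Agent.MorLib.BF.eq_isoSpec_hom_comp g]
    infer_instance
  haveI : Algebra.FormallyUnramified k Γ(W, ⊤) := h1
  haveI : Algebra.FiniteType k Γ(W, ⊤) := h2
  exact ⟨Algebra.FormallyUnramified.finite_of_free (R := k) (S := Γ(W, ⊤)),
    Algebra.FormallyUnramified.isReduced_of_field k Γ(W, ⊤), inferInstance, inferInstance⟩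

theorem forward {k : Type u} [Field k] {X : Scheme.{u}} (f : X ⟶ Spec (CommRingCat.of k))
    [FormallyUnramified f] [LocallyOfFiniteType f] :
    ∃ (ι : Type u) (K : ι → Type u) (_ : ∀ i, Field (K i)) (_ : ∀ i, Algebra k (K i)),
      (∀ i, FiniteDimensional k (K i) ∧ Algebra.IsSeparable k (K i)) ∧
      ∃ e : X ≅ ∐ (fun i => Spec (CommRingCat.of (K i))),
        e.hom ≫ Sigma.desc (fun i => Spec.map (CommRingCat.ofHom (algebraMap k (K i)))) = f := by
  haveI hFU : ∀ U : X.Opens, FormallyUnramified (U.ι ≫ f) := fun U =>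
    IsZariskiLocalAtSource.comp (P := @FormallyUnramified) ‹_› U.ι
  haveI : DiscreteTopology X := by
    refine discreteTopology_iff_isOpen_singleton.mpr fun x => ?_
    obtain ⟨U, hU, hxU, -⟩ := exists_isAffineOpen_mem_and_subset
      (TopologicalSpace.Opens.mem_top x)
    haveI : IsAffine (U : Scheme.{u}) := hU
    letI := BddFib.secAlgebra (CommRingCat.of k) (U.ι ≫ f)
    haveI := (finite_affine (U.ι ≫ f)).1
    haveI : IsArtinianRing Γ(U, ⊤) := IsArtinianRing.of_finite k _
    haveI : DiscreteTopology (Spec Γ(U, ⊤)) :=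
      inferInstanceAs (DiscreteTopology (PrimeSpectrum _))
    haveI : DiscreteTopology (U : Scheme.{u}) :=
      (Scheme.homeoOfIso (U : Scheme.{u}).isoSpec).symm.discreteTopology
    have := U.ι.isOpenEmbedding.isOpenMap _ (isOpen_discrete (α := (U : Scheme.{u}))
      ({(⟨x, hxU⟩ : (U : Scheme.{u}))} : Set (U : Scheme.{u})))
    have e : U.ι '' ({(⟨x, hxU⟩ : (U : Scheme.{u}))} : Set (U : Scheme.{u})) = {x} :=
      Set.image_singleton
    exact e ▸ this
  let W : X → X.Opens := fun x => ⟨{x}, isOpen_discrete _⟩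
  haveI : ∀ x, Subsingleton (W x : Scheme.{u}) := fun x => inferInstanceAs (Subsingleton ({x} : Set X))
  haveI : ∀ x, Nonempty (W x : Scheme.{u}) := fun x => ⟨⟨x, rfl⟩⟩
  haveI : ∀ x, IsAffine (W x : Scheme.{u}) := fun x =>
    haveI : DiscreteTopology (W x : Scheme.{u}) := (W x).ι.isOpenEmbedding.discreteTopology
    inferInstance
  letI alg : ∀ x, Algebra k Γ(W x, ⊤) := fun x => BddFib.secAlgebra (CommRingCat.of k) ((W x).ι ≫ f)
  have hfin := fun x => finite_affine ((W x).ι ≫ f)
  have hfield : ∀ x, IsField Γ(W x, ⊤) := fun x => by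
    haveI : IsReduced (W x : Scheme.{u}) := by
      haveI := (hfin x).2.1
      haveI : IsReduced (Spec Γ(W x, ⊤)) := inferInstance
      exact isReduced_of_isOpenImmersion (W x : Scheme.{u}).isoSpec.hom
    haveI : IsIntegral (W x : Scheme.{u}) := (isIntegral_iff_irreducibleSpace_and_isReduced _).mpr
      ⟨⟨inferInstance⟩, inferInstance⟩
    exact isField_of_isIntegral_of_subsingleton _
  obtain ⟨hcol⟩ := nonempty_isColimit_cofanMk_of
    (fun x => (W x : Scheme.{u}).isoSpec.inv ≫ (W x).ι)
    (top_le_iff.mp fun x _ => TopologicalSpace.Opens.mem_iSup.mpr ⟨x, by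
      rw [Scheme.Hom.opensRange_comp_of_isIso, Scheme.Opens.opensRange_ι]
      exact Set.mem_singleton x⟩)
    (fun x y hxy => by
      show Disjoint ((W x : Scheme.{u}).isoSpec.inv ≫ (W x).ι).opensRange
        ((W y : Scheme.{u}).isoSpec.inv ≫ (W y).ι).opensRange
      rw [Scheme.Hom.opensRange_comp_of_isIso, Scheme.Hom.opensRange_comp_of_isIso,
        Scheme.Opens.opensRange_ι, Scheme.Opens.opensRange_ι, disjoint_iff_inf_le]
      rintro z ⟨hzx, hzy⟩
      exact absurd ((show z = x from hzx).symm.trans hzy) hxy)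
  letI fld : ∀ x, Field Γ(W x, ⊤) := fun x => (hfield x).toField
  refine ⟨X, fun x => Γ(W x, ⊤), fld, alg, fun x => ⟨(hfin x).1, ?_⟩,
    hcol.coconePointUniqueUpToIso (coproductIsCoproduct _), ?_⟩
  · haveI := (hfin x).2.2.1
    haveI := (hfin x).2.2.2
    exact Algebra.FormallyUnramified.isSeparable k Γ(W x, ⊤)
  · refine hcol.hom_ext fun ⟨x⟩ => ?_
    rw [← Category.assoc, IsColimit.comp_coconePointUniqueUpToIso_hom]
    refine (Sigma.ι_desc (fun i => Spec.map (CommRingCat.ofHom (algebraMap k Γ(W i, ⊤)))) x).trans ?_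
    show _ = ((W x : Scheme.{u}).isoSpec.inv ≫ (W x).ι) ≫ f
    rw [Category.assoc, Iso.eq_inv_comp]
    exact (Groth.Agent.MorLib.BF.eq_isoSpec_hom_comp ((W x).ι ≫ f)).symm

/-- Let k be a field and X a scheme over k. The structure morphism X ⟶ Spec k is unramified (formally
unramified and locally of finite type) if and only if X is isomorphic over k to a disjoint union of
spectra of finite separable field extensions of k. -/
theorem result (k : Type u) [Field k] {X : Scheme.{u}}
    (f : X ⟶ Spec (CommRingCat.of k)) :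
    (FormallyUnramified f ∧ LocallyOfFiniteType f) ↔
      ∃ (ι : Type u) (K : ι → Type u) (_ : ∀ i, Field (K i)) (_ : ∀ i, Algebra k (K i)),
        (∀ i, FiniteDimensional k (K i) ∧ Algebra.IsSeparable k (K i)) ∧
        ∃ e : X ≅ ∐ (fun i => Spec (CommRingCat.of (K i))),
          e.hom ≫ Sigma.desc (fun i => Spec.map (CommRingCat.ofHom (algebraMap k (K i)))) = f := by
  refine ⟨fun ⟨_, _⟩ => forward f, ?_⟩
  rintro ⟨ι, K, _, _, hK, e, rfl⟩
  constructor
  · rw [MorphismProperty.cancel_left_of_respectsIso @FormallyUnramified]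
    refine IsZariskiLocalAtSource.sigmaDesc fun i => ?_
    haveI := (hK i).2
    rw [HasRingHomProperty.Spec_iff (P := @FormallyUnramified), CommRingCat.hom_ofHom,
      RingHom.formallyUnramified_algebraMap]
    exact Algebra.FormallyUnramified.of_isSeparable k (K i)
  · rw [MorphismProperty.cancel_left_of_respectsIso @LocallyOfFiniteType]
    refine IsZariskiLocalAtSource.sigmaDesc fun i => ?_
    haveI := (hK i).1
    rw [HasRingHomProperty.Spec_iff (P := @LocallyOfFiniteType), CommRingCat.hom_ofHom,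
      RingHom.finiteType_algebraMap]
    infer_instance

end Groth.Agent.S9714
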