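import Groth.Statements.S0660
import Groth.Agent.EtFound.Basic
import Mathlib.AlgebraicGeometry.Morphisms.FlatMono
import Mathlib.AlgebraicGeometry.Morphisms.ClosedImmersion
-- import your own Groth.Agent.* helpers here

set_option autoImplicit false
open CategoryTheory CategoryTheory.Limits AlgebraicGeometry Opposite
universe u
open EtCore

namespace Groth.Agent.S0660

/-- Let i : Z -> X be a closed immersion, U and U' schemes etale over X, and h a Z-morphism from U x_X Z
to U' x_X Z. Then there are an etale X-scheme W and X-morphisms a : W -> U, b : W -> U' such that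
the base change of a to Z is an isomorphism and h is the base change of b composed with the inverse
of the base change of a. -/
theorem result {Z X : Scheme.{u}} (i : Z ⟶ X) [IsClosedImmersion i] (U U' : X.Etale)
    (h : (EtCoh.bc i).obj U ⟶ (EtCoh.bc i).obj U') :
    ∃ (W : X.Etale) (a : W ⟶ U) (b : W ⟶ U'), IsIso ((EtCoh.bc i).map a) ∧ (EtCoh.bc i).map a ≫ h = (EtCoh.bc i).map b := by
  have hU : AlgebraicGeometry.Etale U.hom := U.prop
  have hU' : AlgebraicGeometry.Etale U'.hom := U'.prop
  have : AlgebraicGeometry.Etale (pullback.fst U.hom U'.hom ≫ U.hom) := inferInstance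
  let P : X.Etale := Scheme.Etale.mk (pullback.fst U.hom U'.hom ≫ U.hom)
  let pA : P ⟶ U := MorphismProperty.Over.homMk (pullback.fst U.hom U'.hom) rfl
  let pB : P ⟶ U' := MorphismProperty.Over.homMk (pullback.snd U.hom U'.hom) pullback.condition.symm
  let g0 : ((EtCoh.bc i).obj U).left ⟶ P.left := pullback.lift (pullback.fst U.hom i) (h.left ≫ pullback.fst U'.hom i) (by
    refine pullback.condition.trans ((congrArg (· ≫ i) (MorphismProperty.Over.w h).symm).trans ?_)
    refine (Category.assoc _ _ _).trans ?_
    exact ((congrArg (h.left ≫ ·) pullback.condition).trans (Category.assoc _ _ _).symm).symm)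
  let γ : (EtCoh.bc i).obj U ⟶ (EtCoh.bc i).obj P := MorphismProperty.Over.homMk
    (pullback.lift g0 (pullback.snd U.hom i) (by
      refine (Category.assoc _ _ _).symm.trans ?_
      exact (congrArg (· ≫ U.hom) (pullback.lift_fst _ _ _)).trans pullback.condition))
    (pullback.lift_snd _ _ _)
  have hγA : γ ≫ (EtCoh.bc i).map pA = 𝟙 _ := MorphismProperty.Over.Hom.ext (pullback.hom_ext
    ((Category.assoc _ _ _).trans ((congrArg (γ.left ≫ ·) (pullback.lift_fst _ _ _)).trans
      ((Category.assoc _ _ _).symm.trans ((congrArg (· ≫ pullback.fst U.hom U'.hom) (pullback.lift_fst _ _ _)).trans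
        ((pullback.lift_fst _ _ _).trans (Category.id_comp _).symm)))))
    ((Category.assoc _ _ _).trans ((congrArg (γ.left ≫ ·) (pullback.lift_snd _ _ _)).trans
      ((pullback.lift_snd _ _ _).trans (Category.id_comp _).symm))))
  have hγB : γ ≫ (EtCoh.bc i).map pB = h := MorphismProperty.Over.Hom.ext (pullback.hom_ext
    ((Category.assoc _ _ _).trans ((congrArg (γ.left ≫ ·) (pullback.lift_fst _ _ _)).trans
      ((Category.assoc _ _ _).symm.trans ((congrArg (· ≫ pullback.snd U.hom U'.hom) (pullback.lift_fst _ _ _)).trans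
        (pullback.lift_snd _ _ _)))))
    ((Category.assoc _ _ _).trans ((congrArg (γ.left ≫ ·) (pullback.lift_snd _ _ _)).trans
      ((pullback.lift_snd _ _ _).trans (MorphismProperty.Over.w h).symm))))
  have := EtFound.etale_left γ
  have hm : γ.left ≫ ((EtCoh.bc i).map pA).left = 𝟙 _ := congrArg (fun k => k.left) hγA
  have : Mono γ.left := ⟨fun a b e => by
    refine (Category.comp_id a).symm.trans ((congrArg (a ≫ ·) hm.symm).trans ?_)
    exact (Category.assoc _ _ _).symm.trans ((congrArg (· ≫ _) e).trans ((Category.assoc _ _ _).trans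
      ((congrArg (b ≫ ·) hm).trans (Category.comp_id b))))⟩
  have : IsOpenImmersion γ.left := IsOpenImmersion.of_flat_of_mono γ.left
  obtain ⟨O, hO, hOW⟩ := ((pullback.fst P.hom i).isClosedEmbedding.isEmbedding.isInducing.isOpen_iff).1
    γ.left.isOpenEmbedding.isOpen_range
  let O' : P.left.Opens := ⟨O, hO⟩
  have : AlgebraicGeometry.Etale P.hom := P.prop
  let W : X.Etale := Scheme.Etale.mk (O'.ι ≫ P.hom)
  let k : W ⟶ P := MorphismProperty.Over.homMk O'.ι rfl
  have : IsOpenImmersion ((EtCoh.bc i).map k).left :=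
    MorphismProperty.of_isPullback (EtCoh.isPullback_bc_map i k).flip (inferInstanceAs (IsOpenImmersion O'.ι))
  have hr : Set.range γ.left.base = Set.range ((EtCoh.bc i).map k).left.base := by
    have h1 : Set.range ((EtCoh.bc i).map k).left.base = (pullback.fst P.hom i).base ⁻¹' O := by
      ext z
      constructor
      · rintro ⟨a, rfl⟩
        refine Set.mem_preimage.mpr (Set.mem_of_eq_of_mem ((Scheme.Hom.comp_apply _ _ a).symm.trans
          ((congrArg (fun q : _ ⟶ P.left => q.base a) (EtCoh.isPullback_bc_map i k).w).trans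
            (Scheme.Hom.comp_apply _ _ a))) ?_)
        exact Subtype.coe_prop _
      · intro hz
        obtain ⟨a, ha, -⟩ := Scheme.Pullback.exists_preimage_pullback
          (f := (pullback.fst P.hom i : ((EtCoh.bc i).obj P).left ⟶ P.left)) (g := O'.ι) z ⟨_, hz⟩ rfl
        refine ⟨(EtCoh.isPullback_bc_map i k).isoPullback.inv.base a, ?_⟩
        refine ((Scheme.Hom.comp_apply _ _ a).symm.trans ?_).trans ha
        exact congrArg (fun q : _ ⟶ ((EtCoh.bc i).obj P).left => q.base a)
          (EtCoh.isPullback_bc_map i k).isoPullback_inv_fst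
    exact hOW.symm.trans h1.symm
  let e : (EtCoh.bc i).obj U ≅ (EtCoh.bc i).obj W :=
    MorphismProperty.Over.isoMk (IsOpenImmersion.isoOfRangeEq γ.left ((EtCoh.bc i).map k).left hr) (by
      refine (congrArg (_ ≫ ·) (MorphismProperty.Over.w ((EtCoh.bc i).map k)).symm).trans ?_
      refine (Category.assoc _ _ _).symm.trans ?_
      refine (congrArg (· ≫ _) (IsOpenImmersion.isoOfRangeEq_hom_fac γ.left ((EtCoh.bc i).map k).left hr)).trans ?_
      exact MorphismProperty.Over.w γ)
  have he : e.hom ≫ (EtCoh.bc i).map k = γ :=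
    MorphismProperty.Over.Hom.ext (IsOpenImmersion.isoOfRangeEq_hom_fac γ.left ((EtCoh.bc i).map k).left hr)
  have h1 : e.hom ≫ (EtCoh.bc i).map (k ≫ pA) = 𝟙 _ := by rw [Functor.map_comp, reassoc_of% he, hγA]
  refine ⟨W, k ≫ pA, k ≫ pB, ?_, ?_⟩
  · exact IsIso.of_isIso_fac_left h1
  · rw [← cancel_epi e.hom, reassoc_of% h1, Functor.map_comp, reassoc_of% he, hγB]

end Groth.Agent.S0660
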