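import Groth.Statements.S0661
import Groth.Agent.Gabber11.Main

set_option autoImplicit false
open CategoryTheory CategoryTheory.Limits AlgebraicGeometry Opposite
universe u
open EtCore

namespace Groth.Agent.S0661

/-- Let R be a ring such that the localization at every prime is strictly henselian, and F an abelian
sheaf on the small etale site of X = Spec R. Suppose that for all global functions f, g on X the map
from H^1 of the basic open D(f+g) (with coefficients in the restriction of F) to the product of H^1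
of D(f(f+g)) and H^1 of D(g(f+g)) has zero kernel. Then H^q(X, F) vanishes for all q > 0. (Global
functions on Spec R are used in place of elements of R; the two rings are canonically isomorphic.)
(Exactness of pullback of abelian sheaves, which always holds, is carried as an instance
hypothesis.) -/
theorem result (R : Type u) [CommRing R]
    (hR : ∀ p : PrimeSpectrum R, EtCoh.IsStrictlyHenselianLocalRing (Localization.AtPrime p.asIdeal))
    (F : EtCoh.Ab (Spec (CommRingCat.of R)))
    (hker : ∀ (f g : Γ((Spec (CommRingCat.of R)), ⊤))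
      [PreservesFiniteLimits (EtCoh.pull ((Spec (CommRingCat.of R)).homOfLE (((Spec (CommRingCat.of R)).basicOpen_mul f (f + g)).trans_le inf_le_right)))]
      [PreservesFiniteLimits (EtCoh.pull ((Spec (CommRingCat.of R)).homOfLE (((Spec (CommRingCat.of R)).basicOpen_mul g (f + g)).trans_le inf_le_right)))]
      (ξ : EtCoh.H ↑((Spec (CommRingCat.of R)).basicOpen (f + g)) ((EtCoh.pull ((Spec (CommRingCat.of R)).basicOpen (f + g)).ι).obj F) 1),
      EtCore.HpullVia ((Spec (CommRingCat.of R)).homOfLE (((Spec (CommRingCat.of R)).basicOpen_mul f (f + g)).trans_le inf_le_right)) ((Spec (CommRingCat.of R)).basicOpen (f + g)).ι ((Spec (CommRingCat.of R)).basicOpen (f * (f + g))).ι ((Spec (CommRingCat.of R)).homOfLE_ι (((Spec (CommRingCat.of R)).basicOpen_mul f (f + g)).trans_le inf_le_right)) F 1 ξ = 0 →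
      EtCore.HpullVia ((Spec (CommRingCat.of R)).homOfLE (((Spec (CommRingCat.of R)).basicOpen_mul g (f + g)).trans_le inf_le_right)) ((Spec (CommRingCat.of R)).basicOpen (f + g)).ι ((Spec (CommRingCat.of R)).basicOpen (g * (f + g))).ι ((Spec (CommRingCat.of R)).homOfLE_ι (((Spec (CommRingCat.of R)).basicOpen_mul g (f + g)).trans_le inf_le_right)) F 1 ξ = 0 →
      ξ = 0)
    (q : ℕ) (hq : 1 ≤ q) : Subsingleton (EtCoh.H (Spec (CommRingCat.of R)) F q) := by
  have hS := Gabber11.strict_stalk R hR
  obtain ⟨n, rfl⟩ : ∃ n, q = n + 1 := ⟨q - 1, by omega⟩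
  have key : ∀ (n : ℕ) (h : Γ(Spec (CommRingCat.of R), ⊤)) (ξ : Gabber11.T ((Spec (CommRingCat.of R)).basicOpen h) F (n + 1)), ξ = 0 := by
    intro n
    induction n with
    | zero =>
      refine Gabber11.step hS F 0 ?_
      intro f g ξ h1 h2
      haveI := EtFound.pull_preservesFiniteLimits ((Spec (CommRingCat.of R)).basicOpen (f + g)).ι
      haveI := EtFound.pull_preservesFiniteLimits ((Spec (CommRingCat.of R)).basicOpen (f * (f + g))).ι
      haveI := EtFound.pull_preservesFiniteLimits ((Spec (CommRingCat.of R)).basicOpen (g * (f + g))).ι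
      haveI := EtFound.pull_preservesFiniteLimits ((Spec (CommRingCat.of R)).homOfLE (((Spec (CommRingCat.of R)).basicOpen_mul f (f + g)).trans_le inf_le_right))
      haveI := EtFound.pull_preservesFiniteLimits ((Spec (CommRingCat.of R)).homOfLE (((Spec (CommRingCat.of R)).basicOpen_mul g (f + g)).trans_le inf_le_right))
      refine (Gabber11.toH_bijective _ F 1).1 ((hker f g (Gabber11.toH _ F 1 ξ) ?_ ?_).trans (map_zero (Gabber11.toH _ F 1)).symm)
      · refine (Gabber11.toH_rT (((Spec (CommRingCat.of R)).basicOpen_mul f (f + g)).trans_le inf_le_right) F 1 ξ).trans ?_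
        exact (congrArg (Gabber11.toH _ F 1) h1).trans (map_zero (Gabber11.toH _ F 1))
      · refine (Gabber11.toH_rT (((Spec (CommRingCat.of R)).basicOpen_mul g (f + g)).trans_le inf_le_right) F 1 ξ).trans ?_
        exact (congrArg (Gabber11.toH _ F 1) h2).trans (map_zero (Gabber11.toH _ F 1))
    | succ n ih =>
      refine Gabber11.step hS F (n + 1) ?_
      intro f g ξ h1 h2
      refine Gabber11.eq_zero_of_cover _ _ _ (((Spec (CommRingCat.of R)).basicOpen_mul f (f + g)).trans_le inf_le_right)
        (((Spec (CommRingCat.of R)).basicOpen_mul g (f + g)).trans_le inf_le_right) ?_ ξ h1 h2 ?_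
      · intro x hx
        rw [TopologicalSpace.Opens.mem_sup, Scheme.mem_basicOpen_top, Scheme.mem_basicOpen_top, map_mul, map_mul]
        rw [Scheme.mem_basicOpen_top, map_add] at hx
        refine (IsLocalRing.isUnit_or_isUnit_of_isUnit_add hx).imp (fun hu => ?_) (fun hu => ?_)
        · exact hu.mul (by rw [map_add]; exact hx)
        · exact hu.mul (by rw [map_add]; exact hx)
      · rw [← Scheme.basicOpen_mul]
        exact ih _
  refine ⟨fun a b => ?_⟩
  suffices hz : ∀ ξ : EtCoh.H (Spec (CommRingCat.of R)) F (n + 1), ξ = 0 by rw [hz a, hz b]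
  intro ξ
  have : IsIso (EtMVLib.shriekZTo ((Spec (CommRingCat.of R)).basicOpen (1 : Γ(Spec (CommRingCat.of R), ⊤))).ι) :=
    (EtFound.isIso_iff_stalks _).2 fun Ω _ _ ξ =>
      EtMVLib.isIso_stalk_shriekZTo _ ξ (by rw [Scheme.basicOpen_one]; trivial)
  let j := EtMVLib.shriekZTo ((Spec (CommRingCat.of R)).basicOpen (1 : Γ(Spec (CommRingCat.of R), ⊤))).ι
  have h0 := key n 1 ((Abelian.Ext.mk₀ j).comp ξ (zero_add (n + 1)))
  have h1 : ξ = (Abelian.Ext.mk₀ (inv j)).comp ((Abelian.Ext.mk₀ j).comp ξ (zero_add (n + 1))) (zero_add (n + 1)) := by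
    rw [Abelian.Ext.mk₀_comp_mk₀_assoc, IsIso.inv_hom_id, Abelian.Ext.mk₀_id_comp]
  rw [h1, h0, Abelian.Ext.comp_zero]

end Groth.Agent.S0661
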