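import Groth.Statements.S0663
import Groth.Agent.CurveH2.OpenMu
import Groth.Agent.Curve11.PuncturedH
import Groth.Agent.DimOneAmple.Curve
import Groth.Agent.S13507
import Groth.Agent.Curve11.TorsionTwo

set_option autoImplicit false
open CategoryTheory CategoryTheory.Limits AlgebraicGeometry Opposite
universe u
open EtCore

namespace Groth.Agent.S0663

/-- Let k be an algebraically closed field, Xb a smooth proper curve over k, U the open complement of r
≥ 1 closed points of Xb and n ≥ 1 invertible in k. Then the global sections of the sheaf of n-th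
roots of unity on U form a group isomorphic to the n-th roots of unity of k, and H^q(U, μ_n)
vanishes for q ≥ 2. -/
theorem result (k : Type u) [Field k] [IsAlgClosed k] (Xb : Scheme.{u})
    [Xb.Over (Spec (CommRingCat.of k))] (hXb : Curve.IsSmoothProperCurve k Xb (Xb ↘ Spec (CommRingCat.of k)))
    (U : Xb.Opens) (r : ℕ) (hr : 1 ≤ r) (hUc : ((U : Set Xb)ᶜ).Finite) (hUr : Nat.card ↥((U : Set Xb)ᶜ) = r)
    (n : ℕ) (hn : 1 ≤ n) (hnk : (n : k) ≠ 0) :
    Nonempty (EtCoh.H (↑U : Scheme.{u}) (EtCoh.mu ↑U n) 0 ≃+ Additive ↥(rootsOfUnity n k)) ∧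
    ∀ q : ℕ, 2 ≤ q → Subsingleton (EtCoh.H (↑U : Scheme.{u}) (EtCoh.mu ↑U n) q) := by
  obtain ⟨hP, hS, hI, hdim⟩ := hXb
  haveI : NeZero n := ⟨by omega⟩
  haveI : NeZero (n : k) := ⟨hnk⟩
  haveI : Nonempty ↥((U : Set Xb)ᶜ) := (Nat.card_pos_iff.1 (hUr.symm ▸ hr : 0 < Nat.card ↥((U : Set Xb)ᶜ))).1
  haveI : Finite ↥((U : Set Xb)ᶜ) := hUc.to_subtype
  have hne : U ≠ ⊤ := fun h => by
    obtain ⟨⟨x, hx⟩⟩ := (inferInstance : Nonempty ↥((U : Set Xb)ᶜ))
    exact hx (h ▸ trivial)
  have hgen : genericPoint Xb ∈ U := by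
    by_contra h
    have hcl : closure {genericPoint Xb} ⊆ ((U : Set Xb)ᶜ) :=
      U.isOpen.isClosed_compl.closure_subset_iff.2 (Set.singleton_subset_iff.2 h)
    rw [(genericPoint_spec Xb).def] at hcl
    haveI : Finite Xb := Set.finite_univ_iff.1 (hUc.subset hcl)
    haveI : JacobsonSpace Xb := LocallyOfFiniteType.jacobsonSpace (Xb ↘ Spec (CommRingCat.of k))
    have h0 : topologicalKrullDim Xb ≤ 0 := topologicalKrullDim_zero_of_discreteTopology Xb
    rw [hdim] at h0
    exact absurd h0 (by norm_num)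
  haveI : IsAffine (U : Scheme.{u}) := DimOneAmple.isAffineOpen_of_ne_top (k := k) hdim U hne hgen
  haveI : Nonempty (U : Scheme.{u}) := ⟨⟨_, hgen⟩⟩
  haveI : IsIntegral (U : Scheme.{u}) := isIntegral_of_isOpenImmersion U.ι
  let s : (U : Scheme.{u}) ⟶ Spec (CommRingCat.of k) := U.ι ≫ (Xb ↘ Spec (CommRingCat.of k))
  haveI : IsLocallyNoetherian Xb := LocallyOfFiniteType.isLocallyNoetherian (Xb ↘ Spec (CommRingCat.of k))
  haveI : IsLocallyNoetherian (U : Scheme.{u}) := LocallyOfFiniteType.isLocallyNoetherian s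
  haveI : AlgebraicGeometry.IsNoetherian (U : Scheme.{u}) := {}
  haveI : QuasiCompact s := (quasiCompact_iff_compactSpace (f := s)).2 inferInstance
  have hdimU : topologicalKrullDim (U : Scheme.{u}) ≤ 1 :=
    (U.ι.isOpenEmbedding.isInducing.topologicalKrullDim_le).trans hdim.le
  refine ⟨?_, fun q hq => ?_⟩
  · obtain ⟨ζ, hζ⟩ := HasEnoughRootsOfUnity.exists_primitiveRoot k n
    let ψ : k →+* Γ((U : Scheme.{u}), ⊤) := s.appTop.hom.comp (Scheme.ΓSpecIso (CommRingCat.of k)).inv.hom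
    obtain ⟨e⟩ := S13507.result (U : Scheme.{u}) n hn (by
      rw [← map_natCast ψ]
      exact (IsUnit.mk0 _ hnk).map ψ) (ψ ζ) (by
      have h0 : Polynomial.aeval ζ (Polynomial.cyclotomic n ℤ) = 0 := by
        rw [Polynomial.aeval_def, ← Polynomial.eval_map, Polynomial.map_cyclotomic]
        exact hζ.isRoot_cyclotomic (by omega)
      exact (Polynomial.aeval_algHom_apply ψ.toIntAlgHom ζ _).trans ((congrArg _ h0).trans (map_zero _)))
    let A : AddCommGrpCat.{u + 1} := AddCommGrpCat.of (ULift.{u + 1} (ZMod n))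
    let c := Curve11.cst (U : Scheme.{u})
    haveI : c.Additive := inferInstance
    let T : (Curve11.zGrp.{u} ⟶ A) ≃+ (c.obj Curve11.zGrp.{u} ⟶ c.obj A) :=
      AddEquiv.ofBijective c.mapAddHom (Curve11.cst_map_bijective _ _ _)
    have hζu := hζ.isUnit_unit (by omega : n ≠ 0)
    refine ⟨((((EtCoh.HF _ 0).mapIso e).addCommGroupIsoToAddEquiv.trans Abelian.Ext.addEquiv₀).trans
      (T.symm.trans ((Curve11.zGrpHomEquiv A).trans AddEquiv.ulift))).trans
      (hζu.zmodEquivZPowers.trans (MulEquiv.toAdditive (MulEquiv.subgroupCongr hζu.zpowers_eq)))⟩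
  · obtain _ | _ | _ | p := q
    · omega
    · omega
    · exact CurveH2.subsingleton_H2_mu_open (Xb ↘ Spec (CommRingCat.of k)) hdim U.ι n hnk
    · exact Curve11.cohDimLE_two s hdimU _ (CurveH2.isTorsion_mu (n := n) _) _ (by omega)


end Groth.Agent.S0663
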