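import Groth.Statements.S0671
import Groth.Agent.EtFound.Germ
import Groth.Agent.EtFound.Basic
import Mathlib.AlgebraicGeometry.Morphisms.UniversallyOpen
-- import your own Groth.Agent.* helpers here

set_option autoImplicit false
open CategoryTheory CategoryTheory.Limits AlgebraicGeometry Opposite
universe u
open EtCore

namespace Groth.Agent.S0671

/-- For an abelian sheaf F on the small etale site of S and a section σ over an etale S-scheme U, the
support of σ is a closed subset of U; and a point of S has a nonzero geometric stalk exactly when it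
is the image of a point lying in the support of some section over some etale S-scheme. -/
theorem result {S : Scheme.{u}} (F : EtCoh.Ab S) :
    (∀ (U : S.Etale) (σ : EtCoh.sect F U), IsClosed (EtShriek.sectSupp F U σ)) ∧
    EtPBC.supp F = ⋃ (U : S.Etale) (σ : EtCoh.sect F U), U.hom.base '' EtShriek.sectSupp F U σ := by
  refine ⟨fun U σ => ?_, ?_⟩
  · refine ⟨isOpen_iff_forall_mem_open.2 fun x hx => ?_⟩
    simp only [EtShriek.sectSupp, Set.mem_compl_iff, Set.mem_setOf_eq, not_forall] at hx
    obtain ⟨W, g, hw, h0⟩ := hx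
    have := EtFound.etale_left g
    exact ⟨Set.range g.left.base, fun y hy h => h W g hy (not_not.1 h0),
      g.left.isOpenMap.isOpen_range, hw⟩
  · ext x
    simp only [Set.mem_iUnion, Set.mem_image]
    constructor
    · rintro ⟨Ω, _, _, ξ, hξ, hne⟩
      obtain ⟨p, hp⟩ : ∃ p : (EtCoh.stalk ξ).obj F, p ≠ 0 := by
        by_contra h
        push Not at h
        exact hne (@AddCommGrpCat.isZero_of_subsingleton _ ⟨fun a b => (h a).trans (h b).symm⟩)
      obtain ⟨U, v, s, rfl⟩ := (Scheme.pointSmallEtale ξ).toPresheafFiber_jointly_surjective p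
      refine ⟨U, s, (v.left : Spec (CommRingCat.of Ω) ⟶ U.left).base (default : Spec (CommRingCat.of Ω)),
        fun W g ⟨w, hw⟩ h0 => ?_, ?_⟩
      · obtain ⟨v', hv', -⟩ := EtFound.exists_lift_point g v w hw
        refine hp ?_
        rw [← hv']
        refine ((Scheme.pointSmallEtale ξ).toPresheafFiber_w_apply g v' F.obj s).symm.trans ?_
        rw [h0]
        exact map_zero _
      · have e : (v.left : Spec (CommRingCat.of Ω) ⟶ U.left) ≫ U.hom = ξ := CategoryTheory.Over.w v
        have : ξ.base (default : Spec (CommRingCat.of Ω)) ∈ Set.range ξ := ⟨_, rfl⟩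
        rw [hξ, Set.mem_singleton_iff] at this
        exact ((Scheme.Hom.comp_apply _ _ _).symm.trans (congrArg (fun m : Spec (CommRingCat.of Ω) ⟶ S => m.base (default : Spec (CommRingCat.of Ω))) e)).trans this
    · rintro ⟨U, s, y, hy, rfl⟩
      obtain ⟨Ω, _, _, ξ, u, hu⟩ := EtFound.exists_point_through U y
      have e : (u.left : Spec (CommRingCat.of Ω) ⟶ U.left) ≫ U.hom = ξ := CategoryTheory.Over.w u
      refine ⟨Ω, ‹_›, ‹_›, ξ, ?_, fun hz => ?_⟩
      · ext z
        constructor
        · rintro ⟨w, rfl⟩
          exact (congrArg (fun m : Spec (CommRingCat.of Ω) ⟶ S => m.base w) e.symm).trans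
            ((Scheme.Hom.comp_apply _ _ _).trans (congrArg U.hom.base (hu w)))
        · rintro rfl
          exact ⟨default, (congrArg (fun m : Spec (CommRingCat.of Ω) ⟶ S => m.base (default : Spec (CommRingCat.of Ω))) e.symm).trans
            ((Scheme.Hom.comp_apply _ _ _).trans (congrArg U.hom.base (hu _)))⟩
      · have h0 : (Scheme.pointSmallEtale ξ).toPresheafFiber U u F.obj s =
            (Scheme.pointSmallEtale ξ).toPresheafFiber U u F.obj 0 :=
          @Subsingleton.elim _ (AddCommGrpCat.subsingleton_of_isZero hz) _ _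
        obtain ⟨W, g, w, hw, hs⟩ := ((Scheme.pointSmallEtale ξ).toPresheafFiber_eq_iff' _ _ _ _).1 h0
        refine hy W g ⟨(w.left : Spec (CommRingCat.of Ω) ⟶ W.left).base (default : Spec (CommRingCat.of Ω)), ?_⟩
          (hs.trans (map_zero _))
        refine Eq.trans ?_ (hu default)
        rw [← hw]
        exact (Scheme.Hom.comp_apply _ _ _).symm

end Groth.Agent.S0671
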