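import Groth.Statements.S0680
import Groth.Agent.SiteBase.EtExcision.Shriek

set_option autoImplicit false
open CategoryTheory CategoryTheory.Limits AlgebraicGeometry Opposite
universe u
open EtShriek

namespace Groth.Agent.S0680

/-- Let f : X -> Y be locally of finite type and F an abelian sheaf on X_et. Assigning to V in Y_et the
sections of F over X x_Y V with support proper over V defines an abelian subsheaf of f_* F; here:
the presheaf EtShriek.lowerShriekPre f F (generated by such sections, hereditarily under
restriction) satisfies the sheaf condition for the small etale topology. -/
theorem result {X Y : Scheme.{u}} (f : X ⟶ Y) [LocallyOfFiniteType f]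
    (F : EtCoh.Ab X) :
    Presheaf.IsSheaf Y.smallEtaleTopology (EtShriek.lowerShriekPre f F) := by
  exact EtExcision.isSheaf_lowerShriekPre f F


end Groth.Agent.S0680
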