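import Groth.Statements.S0690
import Groth.Agent.ShriekPush11.Shift
import Groth.Agent.ShriekPush11.Vanish
import Groth.Agent.BCCrit13.Colim

set_option autoImplicit false
open CategoryTheory CategoryTheory.Limits AlgebraicGeometry Opposite
universe u
open EtShriek

namespace Groth.Agent.S0690

/-- Consider a commutative square of schemes g' : X' → X, f' : X' → Y', f : X → Y, g : Y' → Y with f ∘
g' = g ∘ f', where f and f' are proper and g and g' are separated, locally of finite type and
locally quasi-finite, and let F be a torsion abelian sheaf on X'_ét. Then for every q the sheaves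
g_! R^q f'_* F and R^q f_* (g'_! F) on Y_ét are isomorphic. (Only the existence of an isomorphism in
each degree is asserted; the published statement is an isomorphism g_! ∘ Rf'_* ≅ Rf_* ∘ g'_! in the
derived category of torsion sheaves, of which this is the degreewise form for a single torsion sheaf
placed in degree 0.) -/
theorem result {X Y X' Y' : Scheme.{u}} (f : X ⟶ Y) (g : Y' ⟶ Y) (f' : X' ⟶ Y')
    (g' : X' ⟶ X) (w : g' ≫ f = f' ≫ g) [IsProper f] [IsProper f'] [IsSeparated g]
    [LocallyOfFiniteType g] [LocallyQuasiFinite g] [IsSeparated g'] [LocallyOfFiniteType g'] [LocallyQuasiFinite g'] (F : EtCoh.Ab X')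
    (hF : EtCoh.IsTorsion F) (q : ℕ) :
    Nonempty ((EtShriek.lowerShriek g).obj ((EtCoh.Rpush f' q).obj F) ≅
      (EtCoh.Rpush f q).obj ((EtShriek.lowerShriek g').obj F)) := by
  haveI := Groth.Agent.EtFound.push_preservesFiniteLimits f
  haveI := Groth.Agent.EtFound.push_preservesFiniteLimits f'
  haveI := Groth.Agent.EtExcision.preservesFiniteLimits_lowerShriek g'
  haveI := Groth.Agent.EtExcision.preservesFiniteColimits_lowerShriek g'
  haveI := Groth.Agent.EtExcision.preservesFiniteColimits_lowerShriek g
  haveI : (EtShriek.lowerShriek g).IsLeftAdjoint := Groth.Agent.EtExcision.isLeftAdjoint_lowerShriek g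
  haveI : (EtShriek.lowerShriek g').IsLeftAdjoint := Groth.Agent.EtExcision.isLeftAdjoint_lowerShriek g'
  let E : EtCoh.push f' ⋙ EtShriek.lowerShriek g ≅ EtShriek.lowerShriek g' ⋙ EtCoh.push f :=
    Functor.isoWhiskerRight (Groth.Agent.EtExcision.lowerShriekPushIso f').symm _ ≪≫
      (Groth.Agent.EtExcision.lowerShriekCompIso f' g).symm ≪≫ eqToIso (congrArg EtShriek.lowerShriek w.symm) ≪≫
      Groth.Agent.EtExcision.lowerShriekCompIso g' f ≪≫
      Functor.isoWhiskerLeft _ (Groth.Agent.EtExcision.lowerShriekPushIso f)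
  refine ShriekPush11.nonempty_iso_derived (EtCoh.push f') (EtCoh.push f) (EtShriek.lowerShriek g)
    (EtShriek.lowerShriek g') E EtCoh.IsTorsion (fun G hG => ?_) q F hF
  obtain ⟨φ, hφ⟩ := BCCrit13.exists_mono_torsEnv hG
  have hT := BCCrit13.isTorsion_torsEnv (Injective.under G)
  have ha : TriCat.IsRightAcyclic (EtCoh.push f') (BCCrit13.torsEnv (Injective.under G)) :=
    BCCrit13.isRightAcyclic_colimit f' (BCCrit13.torsDiag (Injective.under G)) fun i =>
      BCCrit13.isRightAcyclic_torsN f' (Injective.under G) (Nat.factorial_pos _)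
  refine ⟨ShortComplex.mk φ (cokernel.π φ) (cokernel.condition φ),
    { exact := ShortComplex.exact_of_g_is_cokernel _ (cokernelIsCokernel _) }, ⟨Iso.refl _⟩,
    BCCrit13.isTorsion_of_epi (cokernel.π φ) hT, ha, ?_⟩
  exact ShriekPush11.isRightAcyclic_lowerShriek f g f' g' w hT ha

end Groth.Agent.S0690
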