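import Groth.Statements.S0698
import Groth.Agent.IndEtLib.Localization
import Groth.Agent.WLocalLib.FibreProd
-- import your own Groth.Agent.* helpers here

set_option autoImplicit false
open CategoryTheory CategoryTheory.Limits AlgebraicGeometry Opposite Topology
universe u
open ProEtW

namespace Groth.Agent.S0698

/-- Let A be a ring, X = Spec A and T a closed subset of pi_0(X). Then A has an ind-Zariski quotient
ring B (the map A -> B is surjective) whose spectrum maps homeomorphically onto the preimage of T in
X. -/
theorem result (A : Type u) [CommRing A]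
    (T : Set (_root_.ConnectedComponents (PrimeSpectrum A))) (hT : IsClosed T) :
    ∃ (B : Type u) (_ : CommRing B) (_ : Algebra A B),
      EtPBC.IsIndZariski A B ∧ Function.Surjective (algebraMap A B) ∧
      Topology.IsEmbedding (PrimeSpectrum.comap (algebraMap A B)) ∧
      Set.range (PrimeSpectrum.comap (algebraMap A B)) = _root_.ConnectedComponents.mk ⁻¹' T := by
  haveI := WLocalLib.t2Space_components (PrimeSpectrum A)
  let M : Submonoid A :=
    { carrier := {e | IsIdempotentElem e ∧ _root_.ConnectedComponents.mk ⁻¹' T ⊆ PrimeSpectrum.basicOpen e}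
      mul_mem' := fun {a b} ha hb => ⟨ha.1.mul hb.1, by
        rw [PrimeSpectrum.basicOpen_mul]; exact Set.subset_inter ha.2 hb.2⟩
      one_mem' := ⟨IsIdempotentElem.one, by rw [PrimeSpectrum.basicOpen_one]; exact Set.subset_univ _⟩ }
  have hsurj : Function.Surjective (algebraMap A (Localization M)) := fun z => by
    obtain ⟨⟨a, s⟩, rfl⟩ := IsLocalization.mk'_surjective M z
    refine ⟨a, (IsLocalization.eq_mk'_iff_mul_eq (z := algebraMap A (Localization M) a)).2 ?_⟩
    have h1 : algebraMap A (Localization M) s = 1 :=
      (IsLocalization.map_units (Localization M) s).mul_left_cancel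
        (by rw [mul_one, ← map_mul, s.2.1.eq])
    rw [h1, mul_one]
  refine ⟨Localization M, inferInstance, inferInstance, IndEtLib.isIndZariski_localization M _, hsurj,
    PrimeSpectrum.localization_comap_isEmbedding (Localization M) M, ?_⟩
  rw [PrimeSpectrum.localization_comap_range (Localization M) M]
  ext x
  refine ⟨fun hx => ?_, fun hx => ?_⟩
  · by_contra hxT
    obtain ⟨V, hV, hxV, hVT⟩ := compact_exists_isClopen_in_isOpen hT.isOpen_compl
      (show _root_.ConnectedComponents.mk x ∈ Tᶜ from hxT)
    obtain ⟨e, he, heq⟩ := PrimeSpectrum.exists_idempotent_basicOpen_eq_of_isClopen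
      ((hV.compl.preimage ConnectedComponents.continuous_coe))
    refine Set.disjoint_left.1 hx (show e ∈ M from ⟨he, ?_⟩) ?_
    · rw [← heq]
      exact Set.preimage_mono fun t ht htV => hVT htV ht
    · by_contra hne
      exact heq.ge (show x ∈ PrimeSpectrum.basicOpen e from hne) hxV
  · exact Set.disjoint_left.2 fun e he hex => he.2 hx hex

end Groth.Agent.S0698
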