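import Groth.Statements.S0699
import Groth.Agent.WLocalLib.Retraction
import Mathlib.RingTheory.LocalProperties.Exactness
-- import your own Groth.Agent.* helpers here

set_option autoImplicit false
open CategoryTheory CategoryTheory.Limits AlgebraicGeometry Opposite Topology
universe u
open ProEtW

namespace Groth.Agent.S0699

/-- pulling back primes along an identification of local rings -/
theorem exists_unique_lift {A B : Type u} [CommRing A] [CommRing B] [Algebra A B]
    (h : EtPBC.IdentifiesLocalRings A B) (y : PrimeSpectrum B) (p : PrimeSpectrum A)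
    (hp : p.asIdeal ≤ y.asIdeal.comap (algebraMap A B)) :
    ∃! q : PrimeSpectrum B, q.asIdeal ≤ y.asIdeal ∧ PrimeSpectrum.comap (algebraMap A B) q = p := by
  let x := y.asIdeal.comap (algebraMap A B)
  let ψ := Localization.localRingHom x y.asIdeal (algebraMap A B) rfl
  have hψ : Function.Bijective ψ := h y
  have hc : ψ.comp (algebraMap A (Localization.AtPrime x)) =
      (algebraMap B (Localization.AtPrime y.asIdeal)).comp (algebraMap A B) :=
    RingHom.ext fun a => Localization.localRingHom_to_map x y.asIdeal _ rfl a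
  have hb : Function.Bijective (PrimeSpectrum.comap ψ) :=
    (PrimeSpectrum.comapEquiv (RingEquiv.ofBijective ψ hψ)).symm.bijective
  have hrA := PrimeSpectrum.localization_comap_range (Localization.AtPrime x) x.primeCompl
  have hrB := PrimeSpectrum.localization_comap_range (Localization.AtPrime y.asIdeal) y.asIdeal.primeCompl
  have hinjA := PrimeSpectrum.localization_comap_injective (Localization.AtPrime x) x.primeCompl
  have hdis : ∀ {R : Type u} [CommRing R] (a b : PrimeSpectrum R),
      Disjoint (a.asIdeal.primeCompl : Set R) b.asIdeal ↔ b.asIdeal ≤ a.asIdeal := fun a b => by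
    rw [Ideal.primeCompl, Submonoid.coe_set_mk]
    exact ⟨fun h z hz => by_contra fun hne => Set.disjoint_left.1 h hne hz,
      fun h => Set.disjoint_left.2 fun z hz hz' => hz (h hz')⟩
  obtain ⟨p', hp'⟩ : p ∈ Set.range (PrimeSpectrum.comap (algebraMap A (Localization.AtPrime x))) := by
    rw [hrA]; exact (hdis ⟨x, inferInstance⟩ p).2 hp
  obtain ⟨q', hq'⟩ := hb.2 p'
  refine ⟨PrimeSpectrum.comap (algebraMap B (Localization.AtPrime y.asIdeal)) q', ⟨?_, ?_⟩, ?_⟩
  · exact (hdis y _).1 (hrB.le ⟨q', rfl⟩)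
  · rw [← PrimeSpectrum.comap_comp_apply, ← hc, PrimeSpectrum.comap_comp_apply, hq', hp']
  · rintro q ⟨hq, hqp⟩
    obtain ⟨q'', rfl⟩ : q ∈ Set.range (PrimeSpectrum.comap (algebraMap B (Localization.AtPrime y.asIdeal))) := by
      rw [hrB]; exact (hdis y q).2 hq
    rw [← PrimeSpectrum.comap_comp_apply, ← hc, PrimeSpectrum.comap_comp_apply, ← hp'] at hqp
    rw [← hq'] at hqp
    rw [hb.1 (hinjA hqp)]


/-- Let A -> B identify local rings, with Spec A and Spec B w-local, Spec B -> Spec A w-local, and
pi_0(Spec B) -> pi_0(Spec A) bijective. Then A -> B is bijective. -/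
theorem result (A B : Type u) [CommRing A] [CommRing B]
    [Algebra A B] (h1 : EtPBC.IdentifiesLocalRings A B) (h2 : ProEtW.IsWLocal (PrimeSpectrum A))
    (h3 : ProEtW.IsWLocal (PrimeSpectrum B))
    (h4 : ProEtW.IsWLocalMap (PrimeSpectrum.comap (algebraMap A B)))
    (h5 : Function.Bijective
      (PrimeSpectrum.continuous_comap (algebraMap A B)).connectedComponentsMap) :
    Function.Bijective (algebraMap A B) := by
  classical
  let f := PrimeSpectrum.comap (algebraMap A B)
  have hf : ∀ x : PrimeSpectrum B, WLocalLib.ret h2 (f x) = f (WLocalLib.ret h3 x) :=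
    WLocalLib.map_ret h3 h2 h4
  -- closed points correspond
  have hinj : ∀ y y' : PrimeSpectrum B, IsClosed ({y} : Set (PrimeSpectrum B)) →
      IsClosed ({y'} : Set (PrimeSpectrum B)) → f y = f y' → y = y' := fun y y' hy hy' e => by
    have h := h5.1 (a₁ := ConnectedComponents.mk y) (a₂ := ConnectedComponents.mk y')
      (congrArg ConnectedComponents.mk e)
    rwa [WLocalLib.mk_eq_mk_iff h3, WLocalLib.ret_eq_self h3 hy, WLocalLib.ret_eq_self h3 hy'] at h
  have hsurj : ∀ p : PrimeSpectrum A, IsClosed ({p} : Set (PrimeSpectrum A)) →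
      ∃ y : PrimeSpectrum B, IsClosed ({y} : Set (PrimeSpectrum B)) ∧ f y = p := fun p hp => by
    obtain ⟨c, hc⟩ := h5.2 (ConnectedComponents.mk p)
    obtain ⟨z, rfl⟩ := ConnectedComponents.surjective_coe c
    refine ⟨WLocalLib.ret h3 z, WLocalLib.ret_closed h3 z, ?_⟩
    have h : ConnectedComponents.mk (f z) = ConnectedComponents.mk p := hc
    rw [WLocalLib.mk_eq_mk_iff h2, WLocalLib.ret_eq_self h2 hp] at h
    rw [← hf z]
    exact h
  refine (bijective_of_localized_maximal (Algebra.linearMap A B) fun m hm => ?_ :)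
  let p : PrimeSpectrum A := ⟨m, hm.isPrime⟩
  obtain ⟨y, hy, hyp⟩ := hsurj p ((PrimeSpectrum.isClosed_singleton_iff_isMaximal p).2 hm)
  have hym : y.asIdeal.comap (algebraMap A B) = m := congrArg PrimeSpectrum.asIdeal hyp
  have hsat : ∀ q : PrimeSpectrum B, q.asIdeal.comap (algebraMap A B) ≤ m → q.asIdeal ≤ y.asIdeal := by
    intro q hq
    have hqs : f q ⤳ p := (PrimeSpectrum.le_iff_specializes (f q) p).1 hq
    have e : f (WLocalLib.ret h3 q) = f y := by
      rw [← hf q, WLocalLib.ret_unique h2 ((PrimeSpectrum.isClosed_singleton_iff_isMaximal p).2 hm) hqs, hyp]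
    rw [← hinj _ _ (WLocalLib.ret_closed h3 q) hy e]
    exact (PrimeSpectrum.le_iff_specializes _ _).2 (WLocalLib.specializes_ret h3 q)
  let T := Localization (Algebra.algebraMapSubmonoid B m.primeCompl)
  -- a unit of `B` localized at `m`
  have hunit : ∀ b : B, b ∉ y.asIdeal → IsUnit (algebraMap B T b) := by
    intro b hb
    by_contra hu
    obtain ⟨M, hM, hbM⟩ := exists_max_ideal_of_mem_nonunits hu
    let q : PrimeSpectrum B := PrimeSpectrum.comap (algebraMap B T) ⟨M, hM.isPrime⟩
    have hdis := (PrimeSpectrum.localization_comap_range T (Algebra.algebraMapSubmonoid B m.primeCompl)).le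
      ⟨⟨M, hM.isPrime⟩, rfl⟩
    refine hb (hsat q ?_ hbM)
    intro a ha
    by_contra hne
    exact Set.disjoint_left.1 hdis ⟨a, hne, rfl⟩ ha
  have hyb := h1 y
  constructor
  · rw [injective_iff_map_eq_zero]
    intro z hz
    obtain ⟨⟨a, s⟩, rfl⟩ := IsLocalizedModule.mk'_surjective m.primeCompl
      (LocalizedModule.mkLinearMap m.primeCompl A) z
    replace hz : IsLocalizedModule.mk' (LocalizedModule.mkLinearMap m.primeCompl B) (algebraMap A B a) s = 0 :=
      (IsLocalizedModule.map_mk' m.primeCompl _ _ (Algebra.linearMap A B) a s).symm.trans hz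
    rw [IsLocalizedModule.mk'_eq_zero'] at hz
    rw [Function.uncurry_apply_pair, IsLocalizedModule.mk'_eq_zero']
    obtain ⟨u, hu⟩ := hz
    have h0 : algebraMap A (Localization.AtPrime (y.asIdeal.comap (algebraMap A B))) a = 0 := by
      refine hyb.1 ?_
      rw [map_zero, Localization.localRingHom_to_map]
      refine (IsLocalization.map_eq_zero_iff y.asIdeal.primeCompl _ _).2 ⟨⟨algebraMap A B (u : A), fun hmem => ?_⟩, ?_⟩
      · exact u.2 (hym ▸ hmem : (u : A) ∈ m)
      · simpa [Submonoid.smul_def, Algebra.smul_def] using hu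
    obtain ⟨c, hc⟩ := (IsLocalization.map_eq_zero_iff (y.asIdeal.comap (algebraMap A B)).primeCompl _ _).1 h0
    exact ⟨⟨c, fun hmem => c.2 (hym.ge hmem)⟩, by simpa [Submonoid.smul_def] using hc⟩
  · intro z
    obtain ⟨⟨b, s⟩, rfl⟩ := IsLocalizedModule.mk'_surjective m.primeCompl
      (LocalizedModule.mkLinearMap m.primeCompl B) z
    obtain ⟨w, hw⟩ := hyb.2 (algebraMap B _ b)
    obtain ⟨⟨a, t⟩, rfl⟩ := IsLocalization.mk'_surjective (y.asIdeal.comap (algebraMap A B)).primeCompl w
    rw [Localization.localRingHom_mk', IsLocalization.mk'_eq_iff_eq_mul, ← map_mul, eq_comm,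
      IsLocalization.eq_iff_exists y.asIdeal.primeCompl] at hw
    obtain ⟨u, hu⟩ := hw
    have hd : algebraMap B T (b * algebraMap A B (t : A) - algebraMap A B a) = 0 := by
      have h := congrArg (algebraMap B T) hu
      simp only [map_mul] at h
      rw [map_sub, map_mul, sub_eq_zero]
      exact (hunit _ u.2).mul_left_cancel h
    obtain ⟨⟨_, c, hc, rfl⟩, hcd⟩ :=
      (IsLocalization.map_eq_zero_iff (Algebra.algebraMapSubmonoid B m.primeCompl) T _).1 hd
    have ht : (t : A) ∈ m.primeCompl := fun hmem => t.2 (hym.ge hmem)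
    refine ⟨IsLocalizedModule.mk' (LocalizedModule.mkLinearMap m.primeCompl A) a (⟨t, ht⟩ * s), ?_⟩
    refine (IsLocalizedModule.map_mk' m.primeCompl _ _ (Algebra.linearMap A B) a _).trans ?_
    rw [Function.uncurry_apply_pair, IsLocalizedModule.mk'_eq_mk'_iff]
    refine ⟨⟨c, hc⟩, ?_⟩
    simp only [Submonoid.smul_def, Submonoid.coe_mul, Algebra.smul_def, Algebra.linearMap_apply, map_mul]
    linear_combination (algebraMap A B (s : A)) * hcd

end Groth.Agent.S0699
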