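import Groth.Statements.S0700
import Groth.Agent.IndZarLib.WLocal
-- import your own Groth.Agent.* helpers here

set_option autoImplicit false
open CategoryTheory CategoryTheory.Limits AlgebraicGeometry Opposite Topology
universe u
open ProEtW

namespace Groth.Agent.S0700

/-- Let A -> B identify local rings, with Spec A and Spec B w-local and Spec B -> Spec A w-local. Then A
-> B is ind-Zariski (a filtered colimit of local isomorphisms). -/
theorem result (A B : Type u) [CommRing A] [CommRing B]
    [Algebra A B] (h1 : EtPBC.IdentifiesLocalRings A B) (h2 : ProEtW.IsWLocal (PrimeSpectrum A))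
    (h3 : ProEtW.IsWLocal (PrimeSpectrum B))
    (h4 : ProEtW.IsWLocalMap (PrimeSpectrum.comap (algebraMap A B))) :
    EtPBC.IsIndZariski A B := IndZarLib.isIndZariski_of_identifies h3 h1

end Groth.Agent.S0700
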