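import Groth.Statements.S0702
import Groth.Agent.S0701
import Mathlib.RingTheory.Algebraic.Integral
-- import your own Groth.Agent.* helpers here

set_option autoImplicit false
open CategoryTheory CategoryTheory.Limits AlgebraicGeometry Opposite Topology
universe u
open ProEtW

namespace Groth.Agent.S0702

/-- Let Spec A be profinite and A -> B induce algebraic extensions of residue fields at all primes. Then
Spec B is profinite. -/
theorem result (A B : Type u) [CommRing A] [CommRing B]
    [Algebra A B] [T2Space (PrimeSpectrum A)] [TotallyDisconnectedSpace (PrimeSpectrum A)]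
    (h : ProEtW.AlgebraicResidueExtensions A B) :
    ProEtW.IsProfinite (PrimeSpectrum B) := by
  refine S0701.result A B fun q q' hqq hle => PrimeSpectrum.ext (le_antisymm hle ?_)
  intro b hb
  by_contra hbq
  haveI := h q.asIdeal
  have halg : IsAlgebraic (A ⧸ q.asIdeal.comap (algebraMap A B)) (Ideal.Quotient.mk q.asIdeal b) :=
    Algebra.IsAlgebraic.isAlgebraic _
  have hne : Ideal.Quotient.mk q.asIdeal b ∈ nonZeroDivisors (B ⧸ q.asIdeal) :=
    mem_nonZeroDivisors_of_ne_zero (fun e => hbq (Ideal.Quotient.eq_zero_iff_mem.1 e))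
  obtain ⟨r, hr, c, hc⟩ := halg.exists_nonzero_dvd hne
  obtain ⟨a, rfl⟩ := Ideal.Quotient.mk_surjective r
  obtain ⟨c, rfl⟩ := Ideal.Quotient.mk_surjective c
  rw [← map_mul] at hc
  have h1 : algebraMap A B a - b * c ∈ q.asIdeal := Ideal.Quotient.eq.1 hc
  have h2 : algebraMap A B a ∈ q'.asIdeal :=
    (Submodule.sub_mem_iff_left _ (q'.asIdeal.mul_mem_right c hb)).1 (hle h1)
  have h3 : a ∈ q'.asIdeal.comap (algebraMap A B) := h2
  rw [← hqq] at h3
  exact hr (Ideal.Quotient.eq_zero_iff_mem.2 h3)

end Groth.Agent.S0702
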