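import Groth.Statements.S0707
import Groth.Agent.WLocalLib.LocRetract
import Groth.Agent.WLocalLib.WEtale
import Mathlib.RingTheory.Etale.Pi
import Mathlib.RingTheory.Flat.FaithfullyFlat.Algebra
-- import your own Groth.Agent.* helpers here

set_option autoImplicit false
open CategoryTheory CategoryTheory.Limits AlgebraicGeometry Opposite Topology
universe u
open ProEtW

namespace Groth.Agent.S0707

/-- Let A be w-contractible, E a finite set of elements of A with zero set Z in Spec A, and B a
localization of A at a multiplicative subset S such that the image of Spec B → Spec A is precisely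
the set of points of Spec A specializing to some point of Z. Then B is w-contractible. -/
theorem result (A B : Type u) [CommRing A] [CommRing B]
    [Algebra A B] (S : Submonoid A) [IsLocalization S B] (E : Finset A)
    (hB : Set.range (PrimeSpectrum.comap (algebraMap A B)) =
      {x | ∃ z : PrimeSpectrum A, z ∈ PrimeSpectrum.zeroLocus (R := A) E ∧ x ⤳ z})
    (hA : EtPBC.IsWContractible A) : EtPBC.IsWContractible B := by
  classical
  intro B' _ _ hff hwe
  haveI := hff
  haveI := hwe
  letI : Algebra A B' := ((algebraMap B B').comp (algebraMap A B)).toAlgebra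
  haveI : IsScalarTower A B B' := IsScalarTower.of_algebraMap_eq fun _ => rfl
  haveI := WLocalLib.weaklyEtale_localization S B
  haveI : Algebra.WeaklyEtale A B' := Algebra.WeaklyEtale.trans A B B'
  let C := ∀ f : E, Localization.Away (f : A)
  haveI := WLocalLib.weaklyEtale_prod (A := A) B' C
  haveI : Module.Flat A (B' × C) := Algebra.WeaklyEtale.flat
  haveI : Module.FaithfullyFlat A (B' × C) := Module.FaithfullyFlat.of_comap_surjective fun x => by
    by_cases hx : x ∈ PrimeSpectrum.zeroLocus (R := A) E
    · obtain ⟨y, rfl⟩ := hB.ge ⟨x, hx, specializes_rfl⟩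
      obtain ⟨y', rfl⟩ := PrimeSpectrum.comap_surjective_of_faithfullyFlat (A := B) (B := B') y
      exact ⟨PrimeSpectrum.comap (RingHom.fst B' C) y',
        (PrimeSpectrum.comap_comp_apply (algebraMap A (B' × C)) (RingHom.fst B' C) y').symm.trans
          (PrimeSpectrum.comap_comp_apply (algebraMap A B) (algebraMap B B') y')⟩
    · obtain ⟨f, hf, hfx⟩ := Set.not_subset.1 (fun h => hx ((PrimeSpectrum.mem_zeroLocus x _).2 h))
      obtain ⟨y, rfl⟩ := (PrimeSpectrum.localization_away_comap_range (Localization.Away f) f).ge
        (show x ∈ (PrimeSpectrum.basicOpen f : Set (PrimeSpectrum A)) from hfx)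
      exact ⟨PrimeSpectrum.comap ((Pi.evalRingHom (fun g : E => Localization.Away (g : A)) ⟨f, hf⟩).comp
        (RingHom.snd B' C)) y, (PrimeSpectrum.comap_comp_apply _ _ y).symm⟩
  obtain ⟨σ⟩ := hA (B' × C) inferInstance inferInstance
  refine WLocalLib.exists_retraction S σ (WLocalLib.mem_jacobson_of_range S hB ?_)
  have h1 : ((0, 1) : B' × C) = ∑ f : E, (f : A) • ((0, Pi.single f (IsLocalization.Away.invSelf (f : A))) : B' × C) := by
    refine Prod.ext ?_ (funext fun g => ?_)
    · simp [Prod.fst_sum]
    · simp only [Prod.snd_sum, Prod.smul_snd]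
      show (1 : ∀ g : E, Localization.Away (g : A)) g = (∑ f : E, (f : A) • (Pi.single f (IsLocalization.Away.invSelf (f : A)) : ∀ g : E, Localization.Away (g : A))) g
      simp only [Finset.sum_apply, Pi.one_apply, Pi.smul_apply]
      refine Eq.symm ?_
      refine (Finset.sum_eq_single g (fun f _ hfg => ?_) (fun hg => absurd (Finset.mem_univ g) hg)).trans ?_
      · rw [Pi.single_eq_of_ne (Ne.symm hfg)]; exact smul_zero _
      · rw [Pi.single_eq_same]
        exact (Algebra.smul_def _ _).trans (IsLocalization.Away.mul_invSelf (g : A))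
  rw [h1, map_sum]
  refine sum_mem fun f _ => ?_
  rw [map_smul, smul_eq_mul]
  exact Ideal.mul_mem_right _ _ (Ideal.subset_span f.2)

end Groth.Agent.S0707
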