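import Groth.Statements.S0708
import Groth.Agent.WLocalLib.LocRetract
import Groth.Agent.WLocalLib.EtaleProd
import Groth.Agent.EtFound.LiftEtaleLoc
import Mathlib.RingTheory.Etale.Pi
import Mathlib.RingTheory.TensorProduct.Pi
import Mathlib.RingTheory.Flat.FaithfullyFlat.Algebra
import Mathlib.RingTheory.Spectrum.Prime.Chevalley
-- import your own Groth.Agent.* helpers here

set_option autoImplicit false
open CategoryTheory CategoryTheory.Limits AlgebraicGeometry Opposite Topology
universe u
open ProEtW

open scoped TensorProduct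
namespace Groth.Agent.S0708

/-- Let A be a ring all of whose faithfully flat etale algebras have retractions, I an ideal with zero
set Z, and B a localization of A at a multiplicative subset such that the image of Spec B → Spec A
is precisely the set of points of Spec A specializing to some point of Z. Then every faithfully flat
etale B-algebra has a retraction. -/
theorem result (A B : Type u) [CommRing A] [CommRing B]
    [Algebra A B] (S : Submonoid A) [IsLocalization S B] (I : Ideal A)
    (hB : Set.range (PrimeSpectrum.comap (algebraMap A B)) =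
      {x | ∃ z : PrimeSpectrum A, z ∈ PrimeSpectrum.zeroLocus (R := A) I ∧ x ⤳ z})
    (hA : ProEtW.HasEtaleRetractions A) : ProEtW.HasEtaleRetractions B := by
  classical
  intro B' _ _ hff het
  haveI := hff
  haveI := het
  letI : Algebra A B' := ((algebraMap B B').comp (algebraMap A B)).toAlgebra
  haveI : IsScalarTower A B B' := IsScalarTower.of_algebraMap_eq fun _ => rfl
  have piece : ∀ p : PrimeSpectrum.zeroLocus (R := A) I, ∃ (M : Type u) (_ : CommRing M) (_ : Algebra A M),
      Algebra.Etale A M ∧ Nonempty (B' →ₐ[B] B ⊗[A] M) ∧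
        (p : PrimeSpectrum A) ∈ Set.range (PrimeSpectrum.comap (algebraMap A M)) := fun p => by
    obtain ⟨t, ht⟩ := hB.ge ⟨p, p.2, specializes_rfl⟩
    obtain ⟨q, hq⟩ := PrimeSpectrum.comap_surjective_of_faithfullyFlat (A := B) (B := B') t
    obtain ⟨f, hfq, hf⟩ := Algebra.IsEtaleAt.exists_isStandardEtale (R := B) q.asIdeal
    haveI := hf
    obtain ⟨P, ⟨e⟩⟩ := EtFound.exists_standardEtale_lift_loc (C := Localization.Away f) (T := B) S
    refine ⟨P.Ring, inferInstance, inferInstance, inferInstance,
      ⟨e.symm.toAlgHom.comp (IsScalarTower.toAlgHom B B' (Localization.Away f))⟩, ?_⟩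
    obtain ⟨q', hq'⟩ := (PrimeSpectrum.localization_away_comap_range (Localization.Away f) f).ge
      (show q ∈ (PrimeSpectrum.basicOpen f : Set _) from hfq)
    let r : P.Ring →ₐ[A] Localization.Away f :=
      (e.toAlgHom.restrictScalars A).comp Algebra.TensorProduct.includeRight
    refine ⟨PrimeSpectrum.comap r.toRingHom q', ?_⟩
    rw [← ht, ← hq, ← hq', ← PrimeSpectrum.comap_comp_apply, ← PrimeSpectrum.comap_comp_apply,
      ← PrimeSpectrum.comap_comp_apply]
    refine congrArg (fun h => PrimeSpectrum.comap h q') ?_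
    ext a
    exact (r.commutes a).trans (by simp only [RingHom.comp_apply]; rw [← IsScalarTower.algebraMap_apply A B B',
      ← IsScalarTower.algebraMap_apply A B' (Localization.Away f)])
  choose M i1 i2 hM φ hmem using piece
  letI := i1
  letI := i2
  haveI : ∀ p, Algebra.Etale A (M p) := hM
  let U := fun p => Set.range (PrimeSpectrum.comap (algebraMap A (M p)))
  have hU : ∀ p, IsOpen (U p) := fun p =>
    (PrimeSpectrum.isOpenMap_comap_of_hasGoingDown_of_finitePresentation (R := A) (S := M p)).isOpen_range
  obtain ⟨s, hs⟩ := (PrimeSpectrum.isClosed_zeroLocus (R := A) I).isCompact.elim_finite_subcover U hU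
    (fun p hp => Set.mem_iUnion.2 ⟨⟨p, hp⟩, hmem ⟨p, hp⟩⟩)
  obtain ⟨J, hJ⟩ := (PrimeSpectrum.isClosed_iff_zeroLocus_ideal _).1
    (isClosed_compl_iff.2 (isOpen_biUnion fun p (_ : p ∈ s) => hU p))
  have hIJ : I ⊔ J = ⊤ := by
    by_contra hne
    obtain ⟨m, hm, hle⟩ := Ideal.exists_le_maximal _ hne
    have h1 : (⟨m, hm.isPrime⟩ : PrimeSpectrum A) ∈ PrimeSpectrum.zeroLocus (R := A) I :=
      fun a ha => hle (Ideal.mem_sup_left ha)
    exact hJ.ge (fun a ha => hle (Ideal.mem_sup_right ha)) (hs h1)
  obtain ⟨f, hfI, j, hjJ, hfj⟩ := Submodule.mem_sup.1 ((Ideal.eq_top_iff_one _).1 hIJ)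
  let N := ∀ p : s, M p
  haveI := WLocalLib.etale_prod (A := A) (S := N) (T := Localization.Away f)
  haveI : Module.Flat A (N × Localization.Away f) := Algebra.Smooth.flat A _
  haveI : Module.FaithfullyFlat A (N × Localization.Away f) := Module.FaithfullyFlat.of_comap_surjective fun x => by
    by_cases hfx : f ∈ x.asIdeal
    · have hx : x ∈ ⋃ p ∈ s, U p := by
        by_contra hx
        exact x.2.ne_top ((Ideal.eq_top_iff_one _).2 (hfj ▸ add_mem hfx (hJ.le hx hjJ)))
      obtain ⟨p, hps, y, hy⟩ := Set.mem_iUnion₂.1 hx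
      refine ⟨PrimeSpectrum.comap ((Pi.evalRingHom (fun p : s => M p) ⟨p, hps⟩).comp
        (RingHom.fst N (Localization.Away f))) y, ?_⟩
      rw [← hy]
      exact (PrimeSpectrum.comap_comp_apply _ _ y).symm
    · obtain ⟨y, rfl⟩ := (PrimeSpectrum.localization_away_comap_range (Localization.Away f) f).ge
        (show x ∈ (PrimeSpectrum.basicOpen f : Set (PrimeSpectrum A)) from hfx)
      exact ⟨PrimeSpectrum.comap (RingHom.snd N (Localization.Away f)) y,
        (PrimeSpectrum.comap_comp_apply (algebraMap A (N × Localization.Away f)) _ y).symm⟩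
  obtain ⟨σ⟩ := hA (N × Localization.Away f) inferInstance inferInstance
  obtain ⟨τ⟩ := WLocalLib.exists_algHom_of_retraction (B := B) σ
    (WLocalLib.mem_jacobson_of_range S hB ((Ideal.span_eq I).symm.le (show σ (0, 1) ∈ I by
      have h1 : ((0, 1) : N × Localization.Away f) = f • ((0, IsLocalization.Away.invSelf f) : N × Localization.Away f) :=
        Prod.ext (smul_zero f).symm ((IsLocalization.Away.mul_invSelf f).symm.trans (Algebra.smul_def _ _).symm)
      rw [h1, map_smul, smul_eq_mul]
      exact Ideal.mul_mem_right _ _ hfI)))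
  let ψ : B' →ₐ[B] B ⊗[A] N :=
    (Algebra.TensorProduct.piRight A B B (fun p : s => M p)).symm.toAlgHom.comp
      (Pi.algHom _ _ fun p : s => (φ p).some)
  exact ⟨(Algebra.TensorProduct.lift (AlgHom.id B B) τ (fun _ _ => .all _ _)).comp ψ⟩

end Groth.Agent.S0708
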