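import Groth.Statements.S0720
import Groth.Agent.EpsPush13.Flasque
import Groth.Agent.EpsPush13.Shift
import Groth.Agent.ProEtLib.EpsExt
import Groth.Agent.SiteBase.DerivedComp
import Groth.Agent.BigSiteLib.Along

set_option autoImplicit false
open CategoryTheory CategoryTheory.Limits AlgebraicGeometry Opposite
universe u
open ProEtS

namespace Groth.Agent.S0720

/-- Let f : X -> Y be quasi-compact and quasi-separated and F an abelian sheaf on X_et. Then for every
q, R^q f_{proet,*} (eps^{-1} F) is isomorphic to eps^{-1} (R^q f_{et,*} F) (continuity of the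
comparison and base change functors assumed as binders; existence of an isomorphism). -/
theorem result {X Y : Scheme.{u}} (f : X ⟶ Y) [QuasiCompact f]
    [QuasiSeparated f] [ProEtS.EpsCont X] [ProEtS.EpsCont Y] [ProEtS.PCont f] (F : EtCoh.Ab X)
    (q : ℕ) :
    Nonempty ((ProEtS.RpushP f q).obj ((ProEtS.epsPull X).obj F) ≅
      (ProEtS.epsPull Y).obj ((EtCoh.Rpush f q).obj F)) := by
  haveI := Groth.Agent.ProEtLib.preservesFiniteLimits_epsPull (X := X)
  haveI := Groth.Agent.ProEtLib.preservesFiniteLimits_epsPull (X := Y)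
  haveI : PreservesFiniteLimits (ProEtS.pushP f) :=
    haveI := (ProEtS.pullPushAdjP f).rightAdjoint_preservesLimits
    inferInstance
  haveI : (EtCoh.push f ⋙ ProEtS.epsPull Y).Additive := inferInstance
  obtain ⟨e⟩ := Groth.Agent.EpsPush13.nonempty_rightDerived_comp_iso (ProEtS.epsPull X) (ProEtS.pushP f)
    (fun I _ i hi => by
      obtain ⟨j, rfl⟩ := Nat.exists_eq_succ_of_ne_zero hi.ne'
      exact Groth.Agent.EpsPush13.isZero_RpushP_of_acyc f (Groth.Agent.EpsPush13.acyc_epsPull_injective I) j) q F
  exact ⟨e ≪≫ (Groth.Agent.BigSiteLib.rightDerivedIso (Groth.Agent.EpsPush13.compareIso f).symm q).app F ≪≫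
    (Groth.Agent.SiteBase.rightDerivedCompIso (EtCoh.push f) (ProEtS.epsPull Y) q).app F⟩

end Groth.Agent.S0720
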