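import Groth.Statements.S0724
import Groth.Agent.ProEtColim13.Acyclic
import Groth.Agent.IndExt.Additive

set_option autoImplicit false
open CategoryTheory CategoryTheory.Limits AlgebraicGeometry Opposite
universe u
open ProEtS

namespace Groth.Agent.S0724

/-- Applied to abelian sheaves (complexes in degree 0) and read on cohomology groups: for X
quasi-compact and quasi-separated and every n, the functor F |-> H^n(X_proet, F) commutes with
direct sums indexed by any small type. -/
theorem result (X : Scheme.{u}) [CompactSpace ↥X]
    [QuasiSeparatedSpace ↥X] (n : ℕ) (ι : Type u) :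
    PreservesColimitsOfShape (Discrete ι) (ProEtS.HPF X n) := by
  haveI : PreservesFilteredColimitsOfSize.{u + 1, u + 1} (ProEtS.HPF X n) :=
    ⟨fun J _ _ => Groth.Agent.ProEtColim13.preservesColimitsOfShape_HF X n J⟩
  haveI : (ProEtS.HPF X n).Additive :=
    by unfold ProEtS.HPF; infer_instance
  haveI : PreservesFiniteCoproducts (ProEtS.HPF X n) := inferInstance
  haveI := Groth.Agent.IndExt.preservesCoproducts_of_finite_of_filtered (ProEtS.HPF X n) (ULift.{u + 1} ι)
  exact preservesColimitsOfShape_of_equiv (Discrete.equivalence Equiv.ulift) _

end Groth.Agent.S0724
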