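import Groth.Statements.S0739
import Groth.Agent.ProEtLib.Basic
import Groth.Agent.ProEtLib.Ring
-- import your own Groth.Agent.* helpers here

set_option autoImplicit false
open CategoryTheory CategoryTheory.Limits AlgebraicGeometry Opposite
universe u
open ProEtS

namespace Groth.Agent.S0739

/-- Let U be an object of X_proet, R a covering sieve on U, and xi : Spec k -> U a geometric point (k
separably closed). Then there is a morphism V -> U in R and a geometric point of V with the same
field mapping to xi. -/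
theorem result {X : Scheme.{u}} (U : X.ProEt) (R : Sieve U)
    (hR : R ∈ Scheme.ProEt.topology X U) {k : Type u} [Field k] [IsSepClosed k]
    (ξ : Spec (CommRingCat.of k) ⟶ U.left) :
    ∃ (V : X.ProEt) (g : V ⟶ U) (ξ' : Spec (CommRingCat.of k) ⟶ V.left), R g ∧ ξ' ≫ g.left = ξ := by
  obtain ⟨T, hT, hle⟩ := (Groth.Agent.ProEtLib.mem_topology_iff R).1 hR
  obtain ⟨ι, V, g, rfl⟩ := T.exists_eq_ofArrows
  rw [Groth.Agent.ProEtLib.ofArrows_mem_precoverage_iff,
    Groth.Agent.ProEtLib.mem_proetalePrecoverage_iff] at hT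
  obtain ⟨i, v, hv⟩ := hT.2.1 (ξ.base default)
  have : WeaklyEtale (g i).left := hT.2.2 i
  obtain ⟨w, -, -⟩ := Scheme.Pullback.exists_preimage_pullback v (default : Spec (CommRingCat.of k))
    (f := (g i).left) (g := ξ) hv
  obtain ⟨s, hs, -⟩ := Groth.Agent.ProEtLib.exists_section_through k (pullback.snd (g i).left ξ) w
  refine ⟨V i, g i, s ≫ pullback.fst _ _, hle _ _ ⟨i⟩, ?_⟩
  rw [Category.assoc, pullback.condition, reassoc_of% hs]

end Groth.Agent.S0739
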