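import Groth.Statements.S0743
import Mathlib.CategoryTheory.Adjunction.Unique
-- import your own Groth.Agent.* helpers here

set_option autoImplicit false
open CategoryTheory CategoryTheory.Limits AlgebraicGeometry Opposite
universe u
open ProEtS

namespace Groth.Agent.S0743

/-- For an etale morphism j : U -> X and an abelian sheaf G on U_et, eps^{-1} (j_! G) and j_! (eps^{-1}
G) are isomorphic as abelian sheaves on X_proet (existence of an isomorphism; continuity binders
assumed). -/
theorem result {U X : Scheme.{u}} (j : U ⟶ X) [Etale j] [EtShriek.JCont j]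
    [ProEtS.JPCont j] [ProEtS.EpsCont U] [ProEtS.EpsCont X] (G : EtCoh.Ab U) :
    Nonempty ((ProEtS.epsPull X).obj ((EtShriek.extZero j).obj G) ≅
      (ProEtS.extZeroP j).obj ((ProEtS.epsPull U).obj G)) := by
  let e : ProEtS.eps U ⋙ ProEtS.compP j ≅ EtShriek.compEtale j ⋙ ProEtS.eps X :=
    NatIso.ofComponents (fun V => MorphismProperty.Over.isoMk (Iso.refl _) (Category.id_comp _))
      (fun g => MorphismProperty.Over.Hom.ext ((Category.comp_id _).trans (Category.id_comp _).symm))
  have := Functor.isContinuous_comp (ProEtS.eps U) (ProEtS.compP j) U.smallEtaleTopology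
    (Scheme.ProEt.topology U) (Scheme.ProEt.topology X)
  let i : ProEtS.restrP j ⋙ ProEtS.epsPush U ≅ ProEtS.epsPush X ⋙ EtShriek.restrAlong j :=
    Functor.sheafPushforwardContinuousComp _ _ AddCommGrpCat.{u + 1} _ _ _ ≪≫
      (Functor.sheafPushforwardContinuousComp' e.symm AddCommGrpCat.{u + 1} U.smallEtaleTopology
        X.smallEtaleTopology (Scheme.ProEt.topology X)).symm
  exact ⟨((Adjunction.leftAdjointUniq
    ((ProEtS.epsAdj U).comp (ProEtS.extZeroPAdj j))
    (((EtShriek.extZeroAdj j).comp (ProEtS.epsAdj X)).ofNatIsoRight i.symm)).app G).symm⟩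

end Groth.Agent.S0743
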