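import Groth.Statements.S0744
import Groth.Agent.BigSiteLib.ProperPushTheta
-- import your own Groth.Agent.* helpers here

set_option autoImplicit false
open CategoryTheory CategoryTheory.Limits AlgebraicGeometry Opposite
universe u
open EtFppf

namespace Groth.Agent.S0744

/-- For a proper morphism f : X -> Y and an abelian sheaf F on X_et, the sheaves a_Y^{-1} (f_{small,*}
F) and f_{big,fppf,*} (a_X^{-1} F) on the big fppf site of Y are isomorphic (existence; continuity
of the comparison functors assumed as binders). -/
theorem result {X Y : Scheme.{u}} (f : X ⟶ Y) [IsProper f] [EtFppf.ACont X]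
    [EtFppf.ACont Y] (F : EtCoh.Ab X) :
    Nonempty ((EtFppf.aPull Y).obj ((EtCoh.push f).obj F) ≅
      (EtFppf.pushBig f).obj ((EtFppf.aPull X).obj F)) := by
  exact Groth.Agent.BigSiteLib.nonempty_aPull_push_iso f F

end Groth.Agent.S0744
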