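import Groth.Statements.S0745
import Groth.Agent.BigSiteLib.FppfDesc.FiniteComm
-- import your own Groth.Agent.* helpers here

set_option autoImplicit false
open CategoryTheory CategoryTheory.Limits AlgebraicGeometry Opposite
universe u
open EtFppf

namespace Groth.Agent.S0745

/-- For a finite morphism f : X -> Y and an abelian sheaf F on X_et, for every i the sheaves a_Y^{-1}
(R^i f_{small,*} F) and R^i f_{big,fppf,*} (a_X^{-1} F) are isomorphic (existence; continuity
binders assumed). -/
theorem result {X Y : Scheme.{u}} (f : X ⟶ Y) [IsFinite f] [EtFppf.ACont X]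
    [EtFppf.ACont Y] (F : EtCoh.Ab X) (i : ℕ) :
    Nonempty ((EtFppf.aPull Y).obj ((EtCoh.Rpush f i).obj F) ≅
      (EtFppf.RpushBig f i).obj ((EtFppf.aPull X).obj F)) := by
  exact Groth.Agent.BigSiteLib.FppfDesc.aPull_Rpush_iso f F i

end Groth.Agent.S0745
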