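import Groth.Statements.S0746
import Groth.Agent.GabberAff13.FppfPush
-- import your own Groth.Agent.* helpers here

set_option autoImplicit false
open CategoryTheory CategoryTheory.Limits AlgebraicGeometry Opposite
universe u
open EtFppf

namespace Groth.Agent.S0746

/-- Part (5), read on cohomology sheaves for a single torsion abelian sheaf F on X_et: for a proper
morphism f : X -> Y and every i, a_Y^{-1} (R^i f_{small,*} F) and R^i f_{big,fppf,*} (a_X^{-1} F)
are isomorphic (existence; continuity binders assumed). -/
theorem result {X Y : Scheme.{u}} (f : X ⟶ Y) [IsProper f]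
    [EtFppf.ACont X] [EtFppf.ACont Y] (F : EtCoh.Ab X) (hF : EtCoh.IsTorsion F) (i : ℕ) :
    Nonempty ((EtFppf.aPull Y).obj ((EtCoh.Rpush f i).obj F) ≅
      (EtFppf.RpushBig f i).obj ((EtFppf.aPull X).obj F)) := by
  exact GabberAff13.nonempty_aPull_Rpush_iso f F hF i

end Groth.Agent.S0746
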