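import Groth.Statements.S0747
import Groth.Agent.BigSiteLib.FppfDesc.Descent
-- import your own Groth.Agent.* helpers here

set_option autoImplicit false
open CategoryTheory CategoryTheory.Limits AlgebraicGeometry Opposite
universe u
open EtFppf

namespace Groth.Agent.S0747

/-- For an abelian sheaf F on X_et (a complex in degree 0): the unit F -> a_* a^{-1} F is an isomorphism
and R^q a_* (a^{-1} F) = 0 for q > 0, where a compares the big fppf site with the small etale site
(continuity binder assumed). -/
theorem result (X : Scheme.{u}) [EtFppf.ACont X] (F : EtCoh.Ab X) :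
    IsIso ((EtFppf.aAdj X).unit.app F) ∧
      ∀ q : ℕ, 0 < q → IsZero ((EtFppf.RaPush X q).obj ((EtFppf.aPull X).obj F)) := by
  exact ⟨Groth.Agent.BigSiteLib.FppfDesc.isIso_unit_aAdj X F, fun q hq => by
    obtain ⟨n, rfl⟩ := Nat.exists_eq_add_of_le hq
    exact (Nat.add_comm 1 n) ▸ Groth.Agent.BigSiteLib.FppfDesc.isZero_RaPush_aPull X F n⟩

end Groth.Agent.S0747
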