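import Groth.Statements.S0754
import Groth.Agent.ProEtLib.Ring
import Groth.Agent.S0736
import Groth.Agent.S12237
-- import your own Groth.Agent.* helpers here

set_option autoImplicit false
open CategoryTheory CategoryTheory.Limits AlgebraicGeometry Opposite
universe u
open ProEtS

namespace Groth.Agent.S0754

/-- For a point x of a scheme X and a strict henselization R of the local ring of X at x, the canonical
morphism Spec R -> X is weakly etale, so that Spec R is an object of the small pro-etale site of X. -/
theorem result (X : Scheme.{u}) (x : ↥X) (R : Type u) [CommRing R]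
    [IsLocalRing R] [Algebra (X.presheaf.stalk x) R] [IsLocalHom (algebraMap (X.presheaf.stalk x) R)]
    [Hensel.IsStrictHenselization (X.presheaf.stalk x) R] :
    WeaklyEtale (Hens2.specOf X x R) := by
  have : Algebra.WeaklyEtale (X.presheaf.stalk x) R :=
    Groth.Agent.S0736.result _ _ (Groth.Agent.S12237.result _ R)
  have := Groth.Agent.ProEtLib.weaklyEtale_spec (X.presheaf.stalk x) R
  have := Groth.Agent.ProEtLib.weaklyEtale_fromSpecStalk X x
  exact inferInstanceAs (WeaklyEtale (_ ≫ _))

end Groth.Agent.S0754
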