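import Groth.Statements.S0755
import Groth.Agent.Hensel.Colim
import Groth.Agent.Hensel.LiftEtaleAlg
import Groth.Agent.IndEtLib.Sys
import Mathlib.RingTheory.Etale.Basic
-- import your own Groth.Agent.* helpers here

set_option autoImplicit false
open CategoryTheory CategoryTheory.Limits AlgebraicGeometry Opposite Topology
universe u
open ProEtW

namespace Groth.Agent.S0755

/-- Let I be an ideal of a ring A. For every ind-etale (A/I)-algebra Cbar there is an ind-etale
A-algebra C with C/IC isomorphic to Cbar as (A/I)-algebras. -/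
theorem result (A : Type u) [CommRing A] (I : Ideal A) (Cb : Type u)
    [CommRing Cb] [Algebra (A ⧸ I) Cb] (h : EtPBC.IsIndEtale (A ⧸ I) Cb) :
    ∃ (C : Type u) (_ : CommRing C) (_ : Algebra A C),
      EtPBC.IsIndEtale A C ∧ Nonempty ((C ⧸ I.map (algebraMap A C)) ≃ₐ[A ⧸ I] Cb) := by
  let : Algebra A Cb := ((algebraMap (A ⧸ I) Cb).comp (algebraMap A (A ⧸ I))).toAlgebra
  have : IsScalarTower A (A ⧸ I) Cb := IsScalarTower.of_algebraMap_eq fun _ => rfl
  let C := Hensel.Henz A Cb
  obtain ⟨S, hS, ⟨e⟩⟩ := IndEtLib.exists_sys h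
  let π : C →ₐ[A] Cb := Hensel.Henz.proj A Cb
  have hIπ : I.map (algebraMap A C) ≤ RingHom.ker π := Ideal.map_le_iff_le_comap.2 fun a ha => by
    show π (algebraMap A C a) = 0
    rw [AlgHom.commutes, IsScalarTower.algebraMap_apply A (A ⧸ I) Cb, Ideal.Quotient.algebraMap_eq,
      Ideal.Quotient.eq_zero_iff_mem.2 ha, map_zero]
  let πb : (C ⧸ I.map (algebraMap A C)) →ₐ[A ⧸ I] Cb :=
    { Ideal.Quotient.lift _ π.toRingHom hIπ with
      commutes' := fun a => by
        obtain ⟨a, rfl⟩ := Ideal.Quotient.mk_surjective a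
        exact π.commutes a }
  refine ⟨C, inferInstance, inferInstance, Hensel.isIndEtale_henz A Cb, ⟨AlgEquiv.ofBijective πb ⟨?_, ?_⟩⟩⟩
  · rw [injective_iff_map_eq_zero]
    intro z
    obtain ⟨z, rfl⟩ := Ideal.Quotient.mk_surjective z
    intro hz
    change π z = 0 at hz
    rw [Ideal.Quotient.eq_zero_iff_mem]
    obtain ⟨N, b, rfl⟩ := Hensel.Henz.exists_ofB z
    rw [Hensel.Henz.proj_ofB] at hz
    let J := I.map (algebraMap A N.B)
    have hJ : J ≤ RingHom.ker N.toK := Ideal.map_le_iff_le_comap.2 fun a ha => by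
      show N.toK (algebraMap A N.B a) = 0
      rw [AlgHom.commutes, IsScalarTower.algebraMap_apply A (A ⧸ I) Cb, Ideal.Quotient.algebraMap_eq,
        Ideal.Quotient.eq_zero_iff_mem.2 ha, map_zero]
    have : Algebra.Etale (A ⧸ I) (N.B ⧸ J) :=
      Algebra.Etale.of_equiv (Algebra.TensorProduct.quotIdealMapEquivQuotTensor N.B I).symm
    let φ : (N.B ⧸ J) →ₐ[A ⧸ I] S.pt := e.symm.toAlgHom.comp
      { Ideal.Quotient.lift J N.toK.toRingHom hJ with
        commutes' := fun a => by
          obtain ⟨a, rfl⟩ := Ideal.Quotient.mk_surjective a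
          exact N.toK.commutes a }
    obtain ⟨j, ψ, hψ⟩ := S.exists_lift (N.B ⧸ J) φ
    obtain ⟨k, f, hk⟩ := S.eq_zero (x := ψ (Ideal.Quotient.mk J b)) (by
      rw [← AlgHom.comp_apply, hψ]
      change e.symm (N.toK b) = 0
      rw [hz, map_zero])
    let ψ' := (S.tr f).comp ψ
    let : Algebra (N.B ⧸ J) (S.A k) := ψ'.toRingHom.toAlgebra
    have : IsScalarTower (A ⧸ I) (N.B ⧸ J) (S.A k) := IsScalarTower.of_algebraMap_eq' ψ'.comp_algebraMap.symm
    have := hS k
    have : Algebra.Etale (N.B ⧸ J) (S.A k) := Algebra.Etale.of_restrictScalars (R := A ⧸ I) _ _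
    obtain ⟨E, _, _, hE, ⟨eE⟩⟩ := Hensel.exists_etale_algebra_lift (A := N.B) (T := N.B ⧸ J) (C := S.A k)
      Ideal.Quotient.mk_surjective
    let eE' := (Algebra.TensorProduct.quotIdealMapEquivQuotTensor E J).trans eE
    let : Algebra A E := ((algebraMap N.B E).comp (algebraMap A N.B)).toAlgebra
    have : IsScalarTower A N.B E := IsScalarTower.of_algebraMap_eq fun _ => rfl
    have : Algebra.Etale A E := Algebra.Etale.comp A N.B E
    let τ : E →ₐ[A] Cb :=
      { ((e.toAlgHom.comp (S.ι k)).toRingHom.comp eE'.toAlgHom.toRingHom).comp (Ideal.Quotient.mk (J.map (algebraMap N.B E))) with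
        commutes' := fun a => by
          change e (S.ι k (eE' (algebraMap (N.B ⧸ J) (E ⧸ J.map (algebraMap N.B E)) (Ideal.Quotient.mk J (algebraMap A N.B a))))) = _
          rw [AlgEquiv.commutes]
          change e (S.ι k (ψ' (algebraMap (A ⧸ I) (N.B ⧸ J) (Ideal.Quotient.mk I a)))) = _
          rw [AlgHom.commutes, AlgHom.commutes, AlgEquiv.commutes]
          rfl }
    obtain ⟨M, eM, heM⟩ := Hensel.Nbhd.exists_equiv E τ
    let α : N.B →ₐ[A] M.B := eM.symm.toAlgHom.comp (IsScalarTower.toAlgHom A N.B E)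
    have hα : M.toK.comp α = N.toK := by
      refine AlgHom.ext fun y => ?_
      simp only [α, heM, AlgHom.comp_apply, AlgEquiv.toAlgHom_apply, AlgEquiv.apply_symm_apply, IsScalarTower.coe_toAlgHom']
      change e (S.ι k (eE' (algebraMap (N.B ⧸ J) (E ⧸ J.map (algebraMap N.B E)) (Ideal.Quotient.mk J y)))) = _
      rw [AlgEquiv.commutes]
      change e (S.ι k (S.tr f (ψ (Ideal.Quotient.mk J y)))) = _
      rw [IndEtLib.Sys.ι_tr_apply, ← AlgHom.comp_apply, hψ]
      exact e.apply_symm_apply _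
    rw [← Hensel.Henz.ofB_comp α hα, AlgHom.comp_apply]
    have hb : algebraMap N.B E b ∈ J.map (algebraMap N.B E) := by
      rw [← Ideal.Quotient.eq_zero_iff_mem]
      refine eE'.injective ?_
      rw [map_zero]
      exact (eE'.commutes (Ideal.Quotient.mk J b)).trans hk
    have h2 := Ideal.mem_map_of_mem ((Hensel.Henz.ofB M).comp eM.symm.toAlgHom).toRingHom hb
    rw [Ideal.map_map, Ideal.map_map] at h2
    refine (congrArg (fun F : A →+* C => Hensel.Henz.ofB M (α b) ∈ I.map F) ?_).mp h2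
    exact ((Hensel.Henz.ofB M).comp α).comp_algebraMap
  · intro z
    obtain ⟨j, y, hy⟩ := S.surj (e.symm z)
    have := hS j
    obtain ⟨E, _, _, hE, ⟨eE⟩⟩ := Hensel.exists_etale_algebra_lift (A := A) (T := A ⧸ I) (C := S.A j) Ideal.Quotient.mk_surjective
    let eE' := (Algebra.TensorProduct.quotIdealMapEquivQuotTensor E I).trans eE
    let τ : E →ₐ[A] Cb :=
      { ((e.toAlgHom.comp (S.ι j)).toRingHom.comp eE'.toAlgHom.toRingHom).comp (Ideal.Quotient.mk (I.map (algebraMap A E))) with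
        commutes' := fun a => by
          change e (S.ι j (eE' (algebraMap (A ⧸ I) (E ⧸ I.map (algebraMap A E)) (Ideal.Quotient.mk I a)))) = _
          rw [AlgEquiv.commutes, AlgHom.commutes, AlgEquiv.commutes]
          rfl }
    obtain ⟨M, eM, heM⟩ := Hensel.Nbhd.exists_equiv E τ
    obtain ⟨w, hw⟩ := eE'.surjective y
    obtain ⟨w, rfl⟩ := Ideal.Quotient.mk_surjective w
    refine ⟨Ideal.Quotient.mk _ (Hensel.Henz.ofB M (eM.symm w)), ?_⟩
    change π (Hensel.Henz.ofB M (eM.symm w)) = z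
    rw [Hensel.Henz.proj_ofB, heM]
    simp only [AlgHom.comp_apply, AlgEquiv.toAlgHom_apply, AlgEquiv.apply_symm_apply]
    change e (S.ι j (eE' (Ideal.Quotient.mk _ w))) = z
    rw [hw, hy, e.apply_symm_apply]

end Groth.Agent.S0755
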