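import Groth.Statements.S0762
import Groth.Agent.LARest12.VcIso
import Groth.Agent.LARest12.IntSquare
-- import your own Groth.Agent.* helpers here

set_option autoImplicit false
set_option linter.style.haveILetI false
set_option backward.isDefEq.respectTransparency false
set_option backward.isDefEq.respectTransparency.types false
open CategoryTheory CategoryTheory.Limits AlgebraicGeometry Opposite
open scoped TensorProduct
universe u
open EtRest

namespace Groth.Agent.S0762

/-- In the case of an integral base change and for constant coefficients: if f : X -> S is locally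
acyclic and g : S' -> S is integral, then the base change f' : X x_S S' -> S' is locally acyclic. -/
theorem result {X S S' : Scheme.{u}} (f : X ⟶ S) (g : S' ⟶ S)
    [IsIntegralHom g] (hf : EtRest.IsLocallyAcyclic f) :
    EtRest.IsLocallyAcyclic (pullback.snd f g) := by
  intro x' RS' RX' _ _ _ _ _ _ _ _ _ _ _ _ hc Ω _ _ _ n hn
  obtain ⟨RS, RX, _, _, _, _, _, _, _, _, _, _, χ, hχl, φ, ψ, hχ, hsq, -⟩ :=
    LARest12.exists_isPullback_strict (IsPullback.of_hasPullback f g) x' RS' RX' hc
  letI := χ.toAlgebra
  haveI : IsLocalHom (algebraMap RS RX) := hχl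
  letI : Algebra RS Ω := ((algebraMap RS' Ω).comp φ).toAlgebra
  have hn' : (n : X.residueField ((pullback.fst f g).base x')) ≠ 0 := fun h => hn <| by
    have := congrArg ((pullback.fst f g).residueFieldMap x').hom h
    rwa [map_natCast, map_zero] at this
  obtain ⟨e⟩ := LARest12.nonempty_vc_iso φ ψ (Ω := Ω) rfl hsq
  exact LARest12.vcAcyclic_of_iso e (hf ((pullback.fst f g).base x') RS RX hχ Ω n hn')

end Groth.Agent.S0762
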