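import Groth.Statements.S0768
import Groth.Agent.Lib.ShriekD12

set_option backward.isDefEq.respectTransparency false
set_option backward.isDefEq.respectTransparency.types false
set_option linter.style.haveILetI false
set_option maxHeartbeats 1000000

set_option autoImplicit false
open CategoryTheory CategoryTheory.Limits AlgebraicGeometry Opposite
universe u
attribute [local instance] HasDerivedCategory.standard
open EtRest

namespace Groth.Agent.S0768

/-- For separated finite type f : X -> Y and g : Y -> Z, all three schemes quasi-compact and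
quasi-separated, with compactifications c of f, d of g and e of g o f. For every bounded below K in
D(X_et) with torsion cohomology sheaves, Rg_!(Rf_! K) (computed through d and c) is isomorphic to
R(g o f)_! K (computed through e). (Objectwise existence; the left exactness of the j_! and the
existence of the unbounded derived direct images are assumed as hypotheses.) -/
theorem result {X Y Z : Scheme.{u}} [CompactSpace ↥X] [QuasiSeparatedSpace ↥X] [CompactSpace ↥Y] [QuasiSeparatedSpace ↥Y] [CompactSpace ↥Z] [QuasiSeparatedSpace ↥Z]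
    (f : X ⟶ Y) (g : Y ⟶ Z) [IsSeparated f] [LocallyOfFiniteType f] [QuasiCompact f] [IsSeparated g]
    [LocallyOfFiniteType g] [QuasiCompact g] (c : DEt.Compactification f)
    [PreservesFiniteLimits (EtShriek.extZero c.j)] [DCoh.HasRpushEt c.Xbar c.fbar]
    (d : DEt.Compactification g) [PreservesFiniteLimits (EtShriek.extZero d.j)] [DCoh.HasRpushEt d.Xbar d.fbar]
    (e : DEt.Compactification (f ≫ g)) [PreservesFiniteLimits (EtShriek.extZero e.j)]
    [DCoh.HasRpushEt e.Xbar e.fbar] (K : DCoh.DEt X) (hb : (∃ a : ℤ, ∀ n : ℤ, n < a → IsZero (DCoh.HDEt K n)))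
    (ht : (∀ n : ℤ, EtCoh.IsTorsion (DCoh.HDEt K n))) :
    Nonempty ((DEt.Rshriek d).obj ((DEt.Rshriek c).obj K) ≅ (DEt.Rshriek e).obj K) := by
  obtain ⟨a, ha⟩ := ShriekD12.exists_isGE hb
  let h : X ⟶ pullback e.fbar d.fbar :=
    pullback.lift e.j (f ≫ d.j) (by rw [e.fac, Category.assoc, d.fac])
  have h1 : h ≫ pullback.fst _ _ = e.j := pullback.lift_fst _ _ _
  have h2 : h ≫ pullback.snd _ _ = f ≫ d.j := pullback.lift_snd _ _ _
  haveI : IsImmersion (h ≫ pullback.fst _ _) := h1.symm ▸ inferInstance
  haveI : IsImmersion h := IsImmersion.of_comp h (pullback.fst _ _)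
  haveI : IsProper (pullback.fst e.fbar d.fbar ≫ e.fbar) := inferInstance
  haveI : QuasiSeparatedSpace ↥(pullback e.fbar d.fbar) :=
    quasiSeparatedSpace_of_quasiSeparated (pullback.fst e.fbar d.fbar ≫ e.fbar)
  haveI : QuasiCompact h := inferInstance
  let q : h.image ⟶ d.Xbar := h.imageι ≫ pullback.snd _ _
  have hq : h.toImage ≫ q = f ≫ d.j := by rw [← h2, ← Category.assoc, h.toImage_imageι]
  let x : X ⟶ pullback q d.j := pullback.lift h.toImage f hq
  have hx : x ≫ pullback.fst q d.j = h.toImage := pullback.lift_fst _ _ _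
  haveI : IsOpenImmersion x := by
    haveI : IsOpenImmersion (x ≫ pullback.fst q d.j) := by rw [hx]; infer_instance
    exact IsOpenImmersion.of_comp x (pullback.fst q d.j)
  haveI : IsProper (pullback.snd q d.j) := MorphismProperty.pullback_snd _ _ (inferInstance : IsProper q)
  let c₂ : DEt.Compactification f := ⟨pullback q d.j, x, pullback.snd q d.j, inferInstance, inferInstance,
    pullback.lift_snd _ _ _⟩
  let e₂ : DEt.Compactification (f ≫ g) := ⟨h.image, h.toImage, q ≫ d.fbar, inferInstance, inferInstance,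
    by rw [reassoc_of% hq, d.fac]⟩
  haveI := DerAux12.hasRpushEt c₂.fbar
  haveI := DerAux12.hasRpushEt e₂.fbar
  haveI := DerAux12.hasRpushEt q
  haveI := DerAux12.hasRpushEt (pullback.snd q d.j)
  haveI : PreservesFiniteLimits (EtShriek.extZero c₂.j) := EtFound.extZero_preservesFiniteLimits c₂.j
  haveI : PreservesFiniteLimits (EtShriek.extZero e₂.j) := EtFound.extZero_preservesFiniteLimits e₂.j
  haveI : PreservesFiniteLimits (EtShriek.extZero x) := EtFound.extZero_preservesFiniteLimits x
  haveI : PreservesFiniteLimits (EtShriek.extZero (pullback.fst q d.j)) := EtFound.extZero_preservesFiniteLimits _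
  haveI : PreservesFiniteLimits (EtShriek.extZero h.toImage) := EtFound.extZero_preservesFiniteLimits _
  obtain ⟨i₁⟩ := ShriekD12.nonempty_Rshriek_congr c c₂ K a ht
  obtain ⟨i₂⟩ := ShriekD12.nonempty_Rshriek_congr e₂ e K a ht
  haveI := ShriekD12.isGE_extZeroD x K a
  obtain ⟨i₃⟩ := ShriekD12.nonempty_extZeroD_Rpush (pullback.fst q d.j) d.j (pullback.snd q d.j) q
    (IsPullback.of_hasPullback q d.j) ((DEt.extZeroD x).obj K) a (ShriekD12.isTorsion_HDEt_extZeroD x K ht)
  obtain ⟨i₄⟩ := DerAux12.nonempty_extZeroD_comp x (pullback.fst q d.j) h.toImage hx K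
  obtain ⟨i₅⟩ := DerAux12.nonempty_Rpush_comp q d.fbar e₂.fbar rfl ((DEt.extZeroD e₂.j).obj K)
  exact ⟨(DEt.Rshriek d).mapIso i₁ ≪≫
    (DCoh.RpushEt d.Xbar d.fbar).mapIso (i₃ ≪≫ (DCoh.RpushEt h.image q).mapIso i₄) ≪≫ i₅ ≪≫ i₂⟩

end Groth.Agent.S0768
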