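import Groth.Statements.S0769
import Groth.Agent.Lib.PushSum12
import Groth.Agent.SiteBase.RpushD.Devissage
-- import your own Groth.Agent.* helpers here

set_option autoImplicit false
set_option linter.style.haveILetI false
set_option backward.isDefEq.respectTransparency false
set_option backward.isDefEq.respectTransparency.types false
set_option maxHeartbeats 1000000
open CategoryTheory CategoryTheory.Limits AlgebraicGeometry Opposite
universe u
attribute [local instance] HasDerivedCategory.standard
open EtRest

namespace Groth.Agent.S0769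

/-- Let f : X -> Y be separated of finite type with X, Y quasi-compact quasi-separated and c a
compactification. For a family K_i of objects of D(X_et) with torsion cohomology sheaves, all
vanishing below a common degree a, Rf_! (computed through c) preserves the direct sum of the K_i.
(The left exactness of j_! and the existence of the unbounded derived direct image along the
compactification are assumed as hypotheses.) -/
theorem result {X Y : Scheme.{u}} [CompactSpace ↥X] [QuasiSeparatedSpace ↥X] [CompactSpace ↥Y] [QuasiSeparatedSpace ↥Y]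
    (f : X ⟶ Y) [IsSeparated f] [LocallyOfFiniteType f] [QuasiCompact f] (c : DEt.Compactification f)
    [PreservesFiniteLimits (EtShriek.extZero c.j)] [DCoh.HasRpushEt c.Xbar c.fbar]
    {ι : Type u} (K : ι → DCoh.DEt X) (a : ℤ) (hb : ∀ i, ∀ n : ℤ, n < a → IsZero (DCoh.HDEt (K i) n))
    (ht : ∀ i, ∀ n : ℤ, EtCoh.IsTorsion (DCoh.HDEt (K i) n)) :
    PreservesColimit (Discrete.functor K) (DEt.Rshriek c) := by
  let e := Equiv.ulift.{u + 1, u} (α := ι)
  let L : ULift.{u + 1} ι → DCoh.DEt c.Xbar := fun j => (DEt.extZeroD c.j).obj (K (e j))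
  haveI : PreservesColimit (Discrete.functor (K ∘ e)) (DEt.extZeroD c.j) := by
    haveI := TriCat.hasColimitsOfShape_derivedCategory (A := EtCoh.Ab X) (J := ULift.{u + 1} ι)
    haveI := TriCat.hasColimitsOfShape_derivedCategory (A := EtCoh.Ab c.Xbar) (J := ULift.{u + 1} ι)
    haveI : (EtShriek.extZero c.j).IsLeftAdjoint := (EtShriek.extZeroAdj c.j).isLeftAdjoint
    haveI : PreservesColimitsOfShape (Discrete (ULift.{u + 1} ι))
        ((EtShriek.extZero c.j).mapHomologicalComplex (ComplexShape.up ℤ)) :=
      ⟨fun {D} => ⟨fun {d} hd => ⟨HomologicalComplex.isColimitOfEval _ _ fun m =>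
        isColimitOfPreserves (HomologicalComplex.eval (EtCoh.Ab X) (ComplexShape.up ℤ) m ⋙
          EtShriek.extZero c.j) hd⟩⟩⟩
    let η := (EtShriek.extZero c.j).mapDerivedCategoryFactors.inv
    haveI h : IsIso (Sigma.desc fun j => (DEt.extZeroD c.j).map (Sigma.ι (K ∘ e) j)) :=
      KFlatLib.isIso_sigmaDesc' (DEt.extZeroD c.j) _ η (K ∘ e)
        (fun j => DerivedCategory.Q.objPreimage (K (e j)))
        (fun j => DerivedCategory.Q.objObjPreimageIso (K (e j)))
        (fun j => inferInstance) inferInstance
    haveI : IsIso (sigmaComparison (DEt.extZeroD c.j) (K ∘ e)) := h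
    exact PreservesCoproduct.of_iso_comparison _ _
  haveI : PreservesColimit (Discrete.functor L) (DCoh.RpushEt c.Xbar c.fbar) :=
    PushSum12.preservesColimit_RpushEt c.fbar L a fun j => by
      haveI : (K (e j)).IsGE a := (DerivedCategory.isGE_iff _ a).2 (hb (e j))
      exact SiteBase.RpushD.isGE_mapDerived (EtShriek.extZero c.j) (K (e j)) a inferInstance
  haveI : PreservesColimit (Discrete.functor (K ∘ e) ⋙ DEt.extZeroD c.j) (DCoh.RpushEt c.Xbar c.fbar) :=
    preservesColimit_of_iso_diagram (K₁ := Discrete.functor L) _ (Discrete.natIso fun _ => Iso.refl _)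
  exact PushSum12.preservesColimit_of_equiv e (DEt.Rshriek c) K

end Groth.Agent.S0769
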