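import Groth.Statements.S0770
import Groth.Agent.Lib.ShriekD12
import Groth.Agent.S0126
import Groth.Agent.FibDim.Comp

set_option backward.isDefEq.respectTransparency false
set_option backward.isDefEq.respectTransparency.types false
set_option linter.style.haveILetI false
set_option maxHeartbeats 1000000

set_option autoImplicit false
open CategoryTheory CategoryTheory.Limits AlgebraicGeometry Opposite
universe u
attribute [local instance] HasDerivedCategory.standard
open EtRest

namespace Groth.Agent.S0770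

open DerivedCategory Pretriangulated Groth.Agent.EtFound

/-- The fibres of a morphism of finite type from a quasi-compact scheme have bounded dimension. -/
theorem exists_fibre_dim_le {X Y : Scheme.{u}} [CompactSpace X] (f : X ⟶ Y) [LocallyOfFiniteType f] :
    ∃ n : ℕ, ∀ y : Y, topologicalKrullDim ↥(f.fiber y) ≤ (n : WithBot ℕ∞) := by
  obtain ⟨n, hn⟩ := isCompact_univ.elim_directed_cover (fun n : ℕ => {x : X | FlatMor.fibreDimAt f x ≤ n})
    (fun n => FibDim.isOpen_fibreDimAt_le f n)
    (fun x _ => by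
      obtain ⟨z, -, -, -, he⟩ := FibDim.exists_fibMax_generization f x
      exact Set.mem_iUnion.mpr ⟨FibDim.rd f z, by rw [Set.mem_setOf_eq, he]; rfl⟩)
    (fun a b => ⟨max a b, fun x (hx : FlatMor.fibreDimAt f x ≤ a) => show _ ≤ _ from hx.trans (by exact_mod_cast le_max_left a b),
      fun x (hx : FlatMor.fibreDimAt f x ≤ b) => show _ ≤ _ from hx.trans (by exact_mod_cast le_max_right a b)⟩)
  refine ⟨n, fun y => ?_⟩
  rw [FibDim.topologicalKrullDim_fiber]
  exact iSup_le fun z => (FibDim.fibreDimAt_ge_rd f (specializes_refl _)).trans (hn (Set.mem_univ z.1))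

/-- Let f : X -> Y be separated of finite type with X, Y quasi-compact quasi-separated and c a
compactification. There is an integer N such that for every bounded below E in D(X_et) with torsion
cohomology sheaves whose cohomology sheaves vanish outside [a, b], the cohomology sheaves of Rf_! E
(computed through c) vanish outside [a, b + N]. (The left exactness of j_! and the existence of the
unbounded derived direct image along the compactification are assumed as hypotheses.) -/
theorem result {X Y : Scheme.{u}} [CompactSpace ↥X] [QuasiSeparatedSpace ↥X] [CompactSpace ↥Y] [QuasiSeparatedSpace ↥Y]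
    (f : X ⟶ Y) [IsSeparated f] [LocallyOfFiniteType f] [QuasiCompact f] (c : DEt.Compactification f)
    [PreservesFiniteLimits (EtShriek.extZero c.j)] [DCoh.HasRpushEt c.Xbar c.fbar] :
    ∃ N : ℕ, ∀ (E : DCoh.DEt X), (∀ n : ℤ, EtCoh.IsTorsion (DCoh.HDEt E n)) → ∀ a b : ℤ,
      (∀ i : ℤ, i < a ∨ b < i → IsZero (DCoh.HDEt E i)) →
        ∀ i : ℤ, i < a ∨ b + N < i → IsZero (DCoh.HDEt ((DEt.Rshriek c).obj E) i) := by
  haveI : CompactSpace c.Xbar := QuasiCompact.compactSpace_of_compactSpace c.fbar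
  obtain ⟨n, hn⟩ := exists_fibre_dim_le c.fbar
  refine ⟨2 * n, fun E ht a b hE i hi => ?_⟩
  haveI : E.IsGE a := (DerivedCategory.isGE_iff E a).2 fun j hj => hE j (Or.inl hj)
  haveI := ShriekD12.isGE_extZeroD c.j E a
  rcases hi with hi | hi
  · haveI : ((DEt.Rshriek c).obj E).IsGE a := SiteBase.RpushD.isGE_RD (EtCoh.push c.fbar) _ a
    exact (DerivedCategory.isGE_iff _ a).1 inferInstance i hi
  haveI : E.IsLE (a + (b - a).toNat) := (DerivedCategory.isLE_iff E _).2 fun j hj => hE j (Or.inr (by omega))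
  let F : DCoh.DEt X ⥤ EtCoh.Ab Y :=
    DEt.extZeroD c.j ⋙ DCoh.RpushEt c.Xbar c.fbar ⋙ DerivedCategory.homologyFunctor (EtCoh.Ab Y) i
  let P : ObjectProperty (DCoh.DEt X) := fun M => IsZero (F.obj M)
  haveI : P.IsClosedUnderIsomorphisms := ⟨fun e h => h.of_iso (F.mapIso e).symm⟩
  refine SiteBase.RpushD.prop_of_bounded P (fun T hT h₁ h₃ => ?_) (b - a).toNat E a fun q hq hq' => ?_
  · obtain ⟨δ, hδ⟩ := GabberAff13.exact_H_rpush c.fbar _ ((DEt.extZeroD c.j).map_distinguished T hT)
    exact ((DerivedCategory.homologyFunctor (EtCoh.Ab Y) i).map_distinguished_exact _ hδ).isZero_X₂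
      (h₁.eq_of_src _ _) (h₃.eq_of_tgt _ _)
  by_cases hqb : b < q
  · let M := (singleFunctor (EtCoh.Ab X) q).obj ((DerivedCategory.homologyFunctor (EtCoh.Ab X) q).obj E)
    haveI : M.IsGE (i + 1) := (DerivedCategory.isGE_iff M _).2 fun j _ =>
      (DerivedCategory.homologyFunctor (EtCoh.Ab X) j).map_isZero
        ((singleFunctor (EtCoh.Ab X) q).map_isZero (hE q (Or.inr hqb)))
    haveI := ShriekD12.isGE_extZeroD c.j M (i + 1)
    haveI : ((DEt.Rshriek c).obj M).IsGE (i + 1) := SiteBase.RpushD.isGE_RD (EtCoh.push c.fbar) _ (i + 1)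
    exact (DerivedCategory.isGE_iff ((DEt.Rshriek c).obj M) (i + 1)).1 inferInstance i (by omega)
  let G := (EtShriek.extZero c.j).obj ((DerivedCategory.homologyFunctor (EtCoh.Ab X) q).obj E)
  let R := DCoh.RpushEt c.Xbar c.fbar
  let H := DerivedCategory.homologyFunctor (EtCoh.Ab Y)
  let K₀ := (singleFunctor (EtCoh.Ab c.Xbar) 0).obj G
  let eS : (DEt.extZeroD c.j).obj ((singleFunctor (EtCoh.Ab X) q).obj
      ((DerivedCategory.homologyFunctor (EtCoh.Ab X) q).obj E)) ≅ K₀⟦-q⟧ :=
    ((EtShriek.extZero c.j).mapDerivedCategorySingleFunctor q).app _ ≪≫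
      (((DerivedCategory.singleFunctors (EtCoh.Ab c.Xbar)).shiftIso (-q) q 0 (by omega)).app G).symm
  obtain ⟨eR⟩ := SiteBase.RpushD.nonempty_RD_shift (EtCoh.push c.fbar) K₀ (-q)
  refine IsZero.of_iso ?_ ((H i).mapIso (R.mapIso eS ≪≫ eR) ≪≫ ((H 0).shiftIso (-q) i (i - q) (by omega)).app _)
  obtain ⟨p, hp⟩ := Int.eq_ofNat_of_zero_le (show 0 ≤ i - q by omega)
  rw [hp]
  obtain ⟨e₁⟩ := BcMapZero.nonempty_H_rpush_single c.fbar G p
  haveI : EtCoh.BCCont c.fbar := EtCoh.bcCont c.fbar
  exact (Groth.Agent.S0126.result c.fbar n hn G (ShriekD12.isTorsion_extZero c.j _ (ht q)) p (by omega)).of_iso e₁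

end Groth.Agent.S0770
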