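import Groth.Statements.S8610
import Groth.Agent.GabberAff13.ExtZeroPush
import Groth.Agent.EtFound.ExtZeroConstr

set_option backward.isDefEq.respectTransparency false
set_option backward.isDefEq.respectTransparency.types false
set_option linter.style.haveILetI false

set_option autoImplicit false
universe u
open CategoryTheory CategoryTheory.Limits AlgebraicGeometry
open SGA4h

namespace Groth.Agent.S8610

open Groth.Agent.EtFound Groth.Agent.BCCrit13

/-- extension by zero along an open immersion keeps torsion -/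
theorem isTorsion_extZero {U X : Scheme.{u}} (j : U ⟶ X) [IsOpenImmersion j] [EtShriek.JCont j]
    (F : EtCoh.Ab U) (hF : EtCoh.IsTorsion F) : EtCoh.IsTorsion ((EtShriek.extZero j).obj F) := by
  refine (isTorsion_iff_stalks _).2 fun Ω _ _ ξ t => ?_
  haveI : Subsingleton (PtsOver j ξ) := ⟨fun a b => Subtype.ext ((cancel_mono j).1 (a.2.trans b.2.symm))⟩
  letI : Fintype (PtsOver j ξ) := Fintype.ofFinite _
  obtain ⟨x, rfl⟩ := (bijective_extZero_sum j ξ F id Function.bijective_id).2 t
  choose m hm h using fun k : PtsOver j ξ => (isTorsion_iff_stalks F).1 hF Ω k.1 (x k)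
  refine ⟨∏ k, m k, Finset.prod_pos fun k _ => hm k, ?_⟩
  show (∏ k, m k) • ∑ k, extZeroι j ξ F k (x k) = 0
  rw [Finset.smul_sum]
  refine Finset.sum_eq_zero fun k hk => ?_
  obtain ⟨c, hc⟩ := Finset.dvd_prod_of_mem m hk
  rw [hc, mul_comm, mul_smul, ← map_nsmul, h k, map_zero, smul_zero]

/-- Let j₁ : X → P₁ and j₂ : X → P₂ be open immersions of quasi-compact quasi-separated schemes and p :
P₂ → P₁ a proper morphism with p ∘ j₂ = j₁ such that the square is cartesian (X = P₂ ×_{P₁} X, i.e.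
p⁻¹(j₁ X) = j₂ X). For every torsion abelian etale sheaf F on X, p_*(j₂! F) is isomorphic to j₁! F
(existence of an isomorphism only) and R^q p_*(j₂! F) = 0 for q > 0. (The published statement is for
two compactifications of X compared by p; its argument uses that p is an isomorphism above X, which
is the cartesian hypothesis made explicit here.) -/
theorem result {X P₁ P₂ : Scheme.{u}}
    [CompactSpace ↥P₁] [QuasiSeparatedSpace ↥P₁] [CompactSpace ↥P₂] [QuasiSeparatedSpace ↥P₂]
    [CompactSpace ↥X]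
    (j₁ : X ⟶ P₁) (j₂ : X ⟶ P₂) [IsOpenImmersion j₁] [IsOpenImmersion j₂] (p : P₂ ⟶ P₁) [IsProper p]
    (hsq : IsPullback (𝟙 X) j₂ j₁ p) (F : EtCoh.Ab X) (hF : EtCoh.IsTorsion F) :
    Nonempty ((EtCoh.push p).obj ((EtShriek.extZero j₂).obj F) ≅ (EtShriek.extZero j₁).obj F) ∧
      ∀ q : ℕ, 0 < q → IsZero ((EtCoh.Rpush p q).obj ((EtShriek.extZero j₂).obj F)) := by
  haveI : EtShriek.JCont j₁ := inferInstance
  haveI : EtShriek.JCont j₂ := inferInstance
  haveI : EtCoh.BCCont (𝟙 X) := EtCoh.bcCont _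
  haveI : PreservesFiniteLimits (EtCoh.push p) := EtFound.push_preservesFiniteLimits p
  haveI : PreservesFiniteLimits (EtCoh.push (𝟙 X)) := EtFound.push_preservesFiniteLimits _
  have w : j₂ ≫ p = 𝟙 X ≫ j₁ := hsq.w.symm
  have hG := isTorsion_extZero j₂ F hF
  refine ⟨?_, fun q hq => ?_⟩
  · obtain ⟨e⟩ := GabberAff13.nonempty_extZero_Rpush j₂ j₁ (𝟙 X) p w F hG 0
    let e0 : EtCoh.push (𝟙 X) ≅ 𝟭 _ :=
      ((EtCoh.pullPushAdj (𝟙 X)).ofNatIsoLeft (GabberAff13.pullIdIso X)).rightAdjointUniq Adjunction.id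
    exact ⟨((EtCoh.push p).rightDerivedZeroIsoSelf.app _).symm ≪≫ e.symm ≪≫
      (EtShriek.extZero j₁).mapIso (((EtCoh.push (𝟙 X)).rightDerivedZeroIsoSelf.app F) ≪≫ e0.app F)⟩
  · obtain ⟨e⟩ := GabberAff13.nonempty_extZero_Rpush j₂ j₁ (𝟙 X) p w F hG q
    haveI : (EtShriek.extZero j₁).PreservesZeroMorphisms :=
      haveI := (EtShriek.extZeroAdj j₁).isLeftAdjoint
      inferInstance
    exact ((EtShriek.extZero j₁).map_isZero (Groth.Agent.S0071.result (𝟙 X) F q hq)).of_iso e.symm

end Groth.Agent.S8610
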