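import Groth.Statements.S0772
import Groth.Agent.S8610
import Groth.Agent.S0686
import Groth.Agent.BcMapZero.Et
import Groth.Agent.GabberAff13.ShriekPush
import Groth.Agent.SiteBase.RpushD.Single
import Mathlib.AlgebraicGeometry.Morphisms.QuasiFinite

set_option backward.isDefEq.respectTransparency false
set_option backward.isDefEq.respectTransparency.types false
set_option linter.style.haveILetI false
set_option maxHeartbeats 1000000

set_option autoImplicit false
open CategoryTheory CategoryTheory.Limits AlgebraicGeometry Opposite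
universe u
attribute [local instance] HasDerivedCategory.standard
open EtRest

namespace Groth.Agent.S0772

open Groth.Agent.EtFound

/-- Higher direct images vanish on extensions by zero when the open part is quasi-finite over the base. -/
theorem isZero_Rpush_extZero {X P Y : Scheme.{u}} (j : X ⟶ P) [IsOpenImmersion j] [EtShriek.JCont j]
    (p : P ⟶ Y) [IsProper p] (f : X ⟶ Y) (hf : j ≫ p = f) [LocallyQuasiFinite f] [QuasiCompact f]
    (F : EtCoh.Ab X) (hF : EtCoh.IsTorsion F) (q : ℕ) (hq : 0 < q) :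
    IsZero ((EtCoh.Rpush p q).obj ((EtShriek.extZero j).obj F)) := by
  refine (isZero_iff_stalks _).2 fun Ω _ _ ξ => ?_
  have hG := S8610.isTorsion_extZero j F hF
  obtain ⟨e⟩ := GabberAff13.nonempty_stalk_Rpush_geometric p ξ _ hG q
  let g' := pullback.fst p ξ
  let h := pullback.snd p ξ
  let v := pullback.snd j g'
  let a := pullback.fst j g'
  haveI : IsProper h := MorphismProperty.pullback_snd _ _ ‹IsProper p›
  have sq : IsPullback a (v ≫ h) f ξ :=
    hf ▸ (IsPullback.of_hasPullback j g').paste_vert (IsPullback.of_hasPullback p ξ)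
  haveI : LocallyQuasiFinite (v ≫ h) := MorphismProperty.of_isPullback sq ‹LocallyQuasiFinite f›
  haveI : QuasiCompact (v ≫ h) := MorphismProperty.of_isPullback sq ‹QuasiCompact f›
  haveI : IsFinite (v ≫ h) := IsFinite.of_locallyQuasiFinite _
  haveI : IsProper v := IsProper.of_comp v h
  haveI : IsClosedImmersion v := IsClosedImmersion.of_isPreimmersion v v.isClosedMap.isClosed_range
  haveI : IsOpenImmersion v := inferInstance
  haveI : EtShriek.JCont v := inferInstance
  haveI : EtCoh.BCCont g' := EtCoh.bcCont g'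
  haveI : EtCoh.BCCont a := EtCoh.bcCont _
  haveI : EtCoh.BCCont v := EtCoh.bcCont _
  haveI : EtCoh.BCCont h := EtCoh.bcCont _
  haveI : EtCoh.BCCont (v ≫ h) := EtCoh.bcCont _
  obtain ⟨eBC⟩ := nonempty_pull_extZero_iso j g' v a (IsPullback.of_hasPullback j g').flip
  let G := (EtCoh.pull a).obj F
  obtain ⟨ev⟩ := GabberAff13.nonempty_extZero_iso_push v G
  obtain ⟨c⟩ := GabberAff13.nonempty_Rpush_push v h G (fun i hi => Groth.Agent.S0071.result v G i hi) q
  obtain ⟨e'⟩ := GabberAff13.nonempty_stalk_Rpush_point h ((EtCoh.push v).obj G) q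
  have hz : IsZero (AddCommGrpCat.of (EtCoh.H (pullback p ξ) ((EtCoh.push v).obj G) q)) :=
    ((EtCoh.stalk _).map_isZero ((Groth.Agent.S0071.result (v ≫ h) G q hq).of_iso c)).of_iso e'.symm
  let eG : (EtCoh.pull g').obj ((EtShriek.extZero j).obj F) ≅ (EtCoh.push v).obj G := (eBC.app F).symm ≪≫ ev
  exact (hz.of_iso ((EtCoh.HF (pullback p ξ) q).mapIso eG)).of_iso e

/-- On a torsion abelian sheaf F in degree 0: let f : X -> Y be quasi-finite and separated with X, Y
quasi-compact quasi-separated and c a compactification. Then the degree-0 cohomology sheaf of Rf_! F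
(computed through c) is isomorphic to f_! F (sections with proper support) and the other cohomology
sheaves vanish. (The left exactness of j_! and the existence of the unbounded derived direct image
along the compactification are assumed as hypotheses.) -/
theorem result {X Y : Scheme.{u}} [CompactSpace ↥X] [QuasiSeparatedSpace ↥X] [CompactSpace ↥Y] [QuasiSeparatedSpace ↥Y]
    (f : X ⟶ Y) [IsSeparated f] [LocallyOfFiniteType f] [LocallyQuasiFinite f] [QuasiCompact f] (c : DEt.Compactification f)
    [PreservesFiniteLimits (EtShriek.extZero c.j)] [DCoh.HasRpushEt c.Xbar c.fbar]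
    (F : EtCoh.Ab X) (hF : EtCoh.IsTorsion F) :
    Nonempty (DCoh.HDEt ((DEt.Rshriek c).obj ((DerivedCategory.singleFunctor (EtCoh.Ab X) 0).obj F)) 0 ≅
      (EtShriek.lowerShriek f).obj F) ∧
    ∀ n : ℤ, n ≠ 0 → IsZero (DCoh.HDEt ((DEt.Rshriek c).obj ((DerivedCategory.singleFunctor (EtCoh.Ab X) 0).obj F)) n) := by
  haveI : EtShriek.JCont c.j := inferInstance
  let eS : (DEt.extZeroD c.j).obj ((DerivedCategory.singleFunctor (EtCoh.Ab X) 0).obj F) ≅
      (DerivedCategory.singleFunctor (EtCoh.Ab c.Xbar) 0).obj ((EtShriek.extZero c.j).obj F) :=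
    ((EtShriek.extZero c.j).mapDerivedCategorySingleFunctor 0).app F
  let G := (EtShriek.extZero c.j).obj F
  let K := (DCoh.RpushEt c.Xbar c.fbar).obj ((DerivedCategory.singleFunctor (EtCoh.Ab c.Xbar) 0).obj G)
  let eK : ∀ n : ℤ, DCoh.HDEt ((DEt.Rshriek c).obj ((DerivedCategory.singleFunctor (EtCoh.Ab X) 0).obj F)) n ≅
      DCoh.HDEt K n := fun n => (DerivedCategory.homologyFunctor (EtCoh.Ab Y) n).mapIso
    ((DCoh.RpushEt c.Xbar c.fbar).mapIso eS)
  haveI : PreservesFiniteLimits (EtCoh.push c.fbar) := EtFound.push_preservesFiniteLimits c.fbar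
  refine ⟨?_, fun n hn => ?_⟩
  · obtain ⟨e⟩ := BcMapZero.nonempty_H_rpush_single c.fbar G 0
    obtain ⟨e'⟩ := Groth.Agent.S0686.result c.j c.fbar f c.fac.symm
    exact ⟨eK 0 ≪≫ e ≪≫ (EtCoh.push c.fbar).rightDerivedZeroIsoSelf.app G ≪≫ (e'.app F).symm⟩
  · rcases lt_or_ge n 0 with h | h
    · haveI : K.IsGE 0 := SiteBase.RpushD.isGE_RD (EtCoh.push c.fbar) _ 0
      exact ((DerivedCategory.isGE_iff K 0).1 inferInstance n h).of_iso (eK n)
    · obtain ⟨m, rfl⟩ := Int.eq_ofNat_of_zero_le h
      obtain ⟨e⟩ := BcMapZero.nonempty_H_rpush_single c.fbar G m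
      exact ((isZero_Rpush_extZero c.j c.fbar f c.fac F hF m (by omega)).of_iso e).of_iso (eK m)

end Groth.Agent.S0772
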