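import Groth.Statements.S0773
import Groth.Agent.Lib.ShriekD12
import Groth.Agent.S3463
import Groth.Agent.AcycBase.Adj
import Groth.Agent.EtFound.AcyclicComp

set_option backward.isDefEq.respectTransparency false
set_option backward.isDefEq.respectTransparency.types false
set_option linter.style.haveILetI false
set_option maxHeartbeats 1000000

set_option autoImplicit false
open CategoryTheory CategoryTheory.Limits AlgebraicGeometry Opposite
universe u
attribute [local instance] HasDerivedCategory.standard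
open EtRest

namespace Groth.Agent.S0773

/-- For a cartesian square of quasi-compact quasi-separated schemes g' : X' -> X, f' : X' -> Y', f : X
-> Y, g : Y' -> Y with f separated of finite type, compactifications c of f and c' of f', and K
bounded below in D(X_et) with torsion cohomology sheaves, g^{-1} Rf_! K and Rf'_! (g')^{-1} K are
isomorphic. (Objectwise existence; the left exactness of the j_!, the existence of the unbounded
derived direct images along the compactifications and the left exactness of g^{-1}, g'^{-1} are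
assumed as hypotheses.) -/
theorem result {X Y X' Y' : Scheme.{u}} [CompactSpace ↥X] [QuasiSeparatedSpace ↥X] [CompactSpace ↥Y] [QuasiSeparatedSpace ↥Y] [CompactSpace ↥X'] [QuasiSeparatedSpace ↥X'] [CompactSpace ↥Y'] [QuasiSeparatedSpace ↥Y']
    (f : X ⟶ Y) (g : Y' ⟶ Y) (f' : X' ⟶ Y') (g' : X' ⟶ X) (hc : IsPullback g' f' f g)
    [IsSeparated f] [LocallyOfFiniteType f] [QuasiCompact f] (c : DEt.Compactification f)
    [PreservesFiniteLimits (EtShriek.extZero c.j)] [DCoh.HasRpushEt c.Xbar c.fbar]
    (c' : DEt.Compactification f') [PreservesFiniteLimits (EtShriek.extZero c'.j)]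
    [DCoh.HasRpushEt c'.Xbar c'.fbar] [PreservesFiniteLimits (EtCoh.pull g)]
    [PreservesFiniteLimits (EtCoh.pull g')] (K : DCoh.DEt X) (hb : (∃ a : ℤ, ∀ n : ℤ, n < a → IsZero (DCoh.HDEt K n)))
    (ht : (∀ n : ℤ, EtCoh.IsTorsion (DCoh.HDEt K n))) :
    Nonempty (((EtCoh.pull g).mapDerivedCategory).obj ((DEt.Rshriek c).obj K) ≅
      (DEt.Rshriek c').obj (((EtCoh.pull g').mapDerivedCategory).obj K)) := by
  obtain ⟨a, ha⟩ := ShriekD12.exists_isGE hb
  have hs : IsPullback (pullback.fst c.fbar g) (pullback.snd c.fbar g) c.fbar g := IsPullback.of_hasPullback _ _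
  let J : X' ⟶ pullback c.fbar g := pullback.lift (g' ≫ c.j) f' (by rw [Category.assoc, c.fac, hc.w])
  have hJ1 : J ≫ pullback.fst c.fbar g = g' ≫ c.j := pullback.lift_fst _ _ _
  have hJ2 : J ≫ pullback.snd c.fbar g = f' := pullback.lift_snd _ _ _
  have sq0 : IsPullback g' J c.j (pullback.fst c.fbar g) :=
    IsPullback.of_bot (by rw [hJ2, c.fac]; exact hc) hJ1.symm hs
  haveI : IsOpenImmersion J := MorphismProperty.of_isPullback sq0 c.isOpenImmersion
  haveI : IsProper (pullback.snd c.fbar g) := MorphismProperty.pullback_snd _ _ c.isProper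
  let c₂ : DEt.Compactification f' := ⟨pullback c.fbar g, J, pullback.snd c.fbar g, inferInstance, inferInstance, hJ2⟩
  haveI := DerAux12.hasRpushEt c₂.fbar
  haveI := DerAux12.hasRpushEt (pullback.snd c.fbar g)
  haveI := DerAux12.hasRpushEt g
  haveI : PreservesFiniteLimits (EtShriek.extZero c₂.j) := EtFound.extZero_preservesFiniteLimits c₂.j
  haveI : PreservesFiniteLimits (EtShriek.extZero J) := EtFound.extZero_preservesFiniteLimits J
  let π := pullback.fst c.fbar g
  haveI : EtCoh.BCCont π := EtCoh.bcCont π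
  haveI : EtCoh.BCCont g' := EtCoh.bcCont g'
  haveI : EtCoh.BCCont g := EtCoh.bcCont g
  haveI : PreservesFiniteLimits (EtCoh.pull π) := EtFound.pull_preservesFiniteLimits π
  haveI := BcMapZero.preservesFiniteColimits_pull π
  haveI := BcMapZero.preservesFiniteColimits_pull g'
  haveI := BcMapZero.preservesFiniteColimits_pull g
  haveI : (EtCoh.pull π).Additive := (EtCoh.pullPushAdj π).left_adjoint_additive
  haveI : (EtCoh.pull g').Additive := (EtCoh.pullPushAdj g').left_adjoint_additive
  haveI := ShriekD12.isGE_extZeroD c.j K a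
  obtain ⟨adj⟩ := AcycBase.nonempty_pullD_adj g
  haveI := S3463.result c.fbar g (pullback.snd c.fbar g) π hs adj ((DEt.extZeroD c.j).obj K) a
    (ShriekD12.isTorsion_HDEt_extZeroD c.j K ht)
  let i₁ := asIso (EtBC.bcMap c.fbar g (pullback.snd c.fbar g) π hs.w adj ((DEt.extZeroD c.j).obj K))
  obtain ⟨eBC⟩ := EtFound.nonempty_pull_extZero_iso c.j π J g' sq0.flip
  haveI : PreservesFiniteLimits (EtCoh.pull g' ⋙ EtShriek.extZero J) := comp_preservesFiniteLimits _ _
  haveI : PreservesFiniteColimits (EtCoh.pull g' ⋙ EtShriek.extZero J) := comp_preservesFiniteColimits _ _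
  obtain ⟨i₂⟩ := DerAux12.nonempty_mapD_comp (EtShriek.extZero c.j) (EtCoh.pull π)
    (EtCoh.pull g' ⋙ EtShriek.extZero J) eBC.symm K
  obtain ⟨i₃⟩ := DerAux12.nonempty_mapD_comp (EtCoh.pull g') (EtShriek.extZero J)
    (EtCoh.pull g' ⋙ EtShriek.extZero J) (Iso.refl _) K
  let K' := ((EtCoh.pull g').mapDerivedCategory).obj K
  haveI : K'.IsGE a := SiteBase.RpushD.isGE_mapDerived (EtCoh.pull g') K a ha
  obtain ⟨i₄⟩ := ShriekD12.nonempty_Rshriek_congr c₂ c' K' a (fun n => by
    obtain ⟨e⟩ := SiteBase.RpushD.nonempty_homology_mapDerived (EtCoh.pull g') K n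
    exact EtFound.isTorsion_of_iso e.symm ((BCCrit13.isLTorsion_univ_iff _).1
      (EtFound.isLTorsion_pull g' Set.univ ((BCCrit13.isLTorsion_univ_iff _).2 (ht n)))))
  exact ⟨i₁ ≪≫ (DCoh.RpushEt c₂.Xbar c₂.fbar).mapIso (i₂ ≪≫ i₃.symm) ≪≫ i₄⟩

end Groth.Agent.S0773
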