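import Groth.Statements.S0778
import Groth.Agent.S0677
-- import your own Groth.Agent.* helpers here

set_option autoImplicit false
open CategoryTheory CategoryTheory.Limits AlgebraicGeometry Opposite Topology
universe u
open ProEtW

namespace Groth.Agent.S0778

/-- A ring A is w-contractible (retractions for faithfully flat weakly etale algebras) if and only if
every faithfully flat ind-etale A-algebra has an A-algebra retraction. -/
theorem result (A : Type u) [CommRing A] :
    EtPBC.IsWContractible A ↔ ProEtW.HasIndEtaleRetractions A := by
  refine ⟨fun h B _ _ hff hB => h B hff (S0736.result A B hB), fun h => ?_⟩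
  obtain ⟨hW, hE⟩ := (S0678.result A).1 fun B _ _ hff hB => h B hff (IndZarLib.isIndEtale_of_isIndZariski hB)
  refine (S0677.result A).2 ⟨hW, hE, fun m hm => S0675.result A (fun B _ _ hff hB => h B hff ?_) m⟩
  exact IndEtLib.isIndEtale_of_factor fun P _ _ _ φ => ⟨B, inferInstance, inferInstance, hB, φ, AlgHom.id A B, AlgHom.id_comp φ⟩

end Groth.Agent.S0778
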