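import Groth.Statements.S0781
import Groth.Agent.DescLib.Canonical
import Mathlib.AlgebraicGeometry.Morphisms.Etale

set_option autoImplicit false
set_option backward.isDefEq.respectTransparency false
set_option backward.isDefEq.respectTransparency.types false
open CategoryTheory CategoryTheory.Limits AlgebraicGeometry Opposite
universe u
open Desc

namespace Groth.Agent.S0781

/-- If p : X → S is a surjective morphism of schemes, then for schemes U₁, U₂ étale over S, two
S-morphisms U₁ → U₂ whose base changes to X agree, as morphisms of canonical descent data relative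
to p, are equal; that is, the canonical-descent-datum functor is faithful on schemes étale over S.
(Descent data are taken in functor-of-points form, equivalent by the Yoneda lemma to an isomorphism
over X ×_S X satisfying the cocycle condition.) -/
theorem result {X S : Scheme.{u}} (p : X ⟶ S) [Surjective p] (U₁ U₂ : Over S)
    [Etale U₁.hom] [Etale U₂.hom] : Function.Injective ((Desc.toDD p).map : (U₁ ⟶ U₂) → _) := by
  intro a a' e
  have e' : pullback.snd p U₁.hom ≫ a.left = pullback.snd p U₁.hom ≫ a'.left := by
    have := congrArg (fun c : (Desc.toDD p).obj U₁ ⟶ (Desc.toDD p).obj U₂ => c.hom.left ≫ pullback.snd p U₂.hom) e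
    simpa [Desc.toDD, Desc.canonicalDD] using this
  let c : U₁.left ⟶ pullback U₂.hom U₂.hom := pullback.lift a.left a'.left (by rw [Over.w a, Over.w a'])
  let t := pullback.lift (f := c) (g := pullback.diagonal U₂.hom) (pullback.snd p U₁.hom)
    (pullback.snd p U₁.hom ≫ a.left) (by apply pullback.hom_ext <;> simp [c, e'])
  have : Surjective (t ≫ pullback.fst c (pullback.diagonal U₂.hom)) := by
    rw [pullback.lift_fst]; infer_instance
  have : Surjective (pullback.fst c (pullback.diagonal U₂.hom)) :=
    Surjective.of_comp t _
  have : IsOpenImmersion (pullback.fst c (pullback.diagonal U₂.hom)) := inferInstance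
  have : IsIso (pullback.fst c (pullback.diagonal U₂.hom)) :=
    (isIso_iff_isOpenImmersion_and_surjective _).2 ⟨‹_›, ‹_›⟩
  apply Over.OverMorphism.ext
  rw [← cancel_epi (pullback.fst c (pullback.diagonal U₂.hom))]
  have h1 := congrArg (· ≫ pullback.fst _ _) (pullback.condition (f := c) (g := pullback.diagonal U₂.hom))
  have h2 := congrArg (· ≫ pullback.snd _ _) (pullback.condition (f := c) (g := pullback.diagonal U₂.hom))
  simp [c] at h1 h2
  rw [h1, h2]

end Groth.Agent.S0781
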