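import Groth.Statements.S0782
import Groth.Agent.DescLib.EtaleHom

set_option autoImplicit false
set_option backward.isDefEq.respectTransparency false
set_option backward.isDefEq.respectTransparency.types false
open CategoryTheory CategoryTheory.Limits AlgebraicGeometry Opposite
universe u
open Desc

namespace Groth.Agent.S0782

/-- Let p : X ⟶ S be a morphism such that for every scheme U étale over S the projection X ×_S U ⟶ U is
a quotient map of topological spaces (submersive; U = S is allowed). Then for U₁, U₂ étale over S,
every morphism between their canonical descent data relative to p comes from an S-morphism U₁ ⟶ U₂: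
the canonical-descent-datum functor is full on schemes étale over S (injectivity of this assignment
is a companion statement). (Descent data are taken in functor-of-points form, equivalent by the
Yoneda lemma to the usual form of an isomorphism over X ×_S X satisfying the cocycle condition.) -/
theorem result {X S : Scheme.{u}} (p : X ⟶ S)
    (hp : ∀ U : Over S, Etale U.hom → Topology.IsQuotientMap (pullback.snd p U.hom).base) (U₁ U₂ : Over S)
    [Etale U₁.hom] [Etale U₂.hom] : Function.Surjective ((Desc.toDD p).map : (U₁ ⟶ U₂) → _) := by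
  intro c
  let a : pullback U₁.hom p ⟶ pullback p U₁.hom := (pullbackSymmetry U₁.hom p).hom
  let cl : pullback p U₁.hom ⟶ pullback p U₂.hom := c.hom.left
  have hcl : cl ≫ pullback.fst p U₂.hom = pullback.fst p U₁.hom := Over.w c.hom
  let f' : pullback U₁.hom p ⟶ pullback U₂.hom p := a ≫ cl ≫ (pullbackSymmetry p U₂.hom).hom
  have hf' : f' ≫ pullback.snd U₂.hom p = pullback.snd U₁.hom p := by
    simp [f', a, hcl]
  obtain ⟨u, ⟨hu, hu'⟩, -⟩ := Groth.Agent.DescLib.existsUnique_descend_etale p U₁.hom U₂.hom
    (fun z => by
      obtain ⟨w, hw⟩ := (hp U₁ inferInstance).surjective z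
      refine ⟨(pullbackSymmetry p U₁.hom).hom w, ?_⟩
      rw [← Scheme.Hom.comp_apply, pullbackSymmetry_hom_comp_fst]
      exact hw)
    (hp (Over.mk (pullback.fst U₁.hom U₂.hom ≫ U₁.hom))
      (show Etale (pullback.fst U₁.hom U₂.hom ≫ U₁.hom) from inferInstance))
    f' hf' (by
      let T := pullback U₁.hom (pullback.fst p p ≫ p)
      let x₀ : T ⟶ X := pullback.snd _ _ ≫ pullback.fst p p
      let x₁ : T ⟶ X := pullback.snd _ _ ≫ pullback.snd p p
      have hx : x₀ ≫ p = x₁ ≫ p := by simp [x₀, x₁, pullback.condition]
      let v : Desc.Lifts ((Desc.toDD p).obj U₁).obj x₀ :=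
        ⟨pullback.lift x₀ (pullback.fst U₁.hom (pullback.fst p p ≫ p)) (by simp [x₀, T, pullback.condition]),
          pullback.lift_fst _ _ _⟩
      let w : Desc.Lifts ((Desc.toDD p).obj U₂).obj x₀ :=
        ⟨v.1 ≫ cl, (Category.assoc _ _ _).trans ((congrArg (v.1 ≫ ·) hcl).trans (pullback.lift_fst _ _ _))⟩
      have key := congrArg (· ≫ pullback.snd p U₂.hom) (c.comm x₀ x₁ hx v w rfl)
      simp [Desc.toDD, Desc.canonicalDD, w, v] at key
      simp only [f', a, Category.assoc, pullbackSymmetry_hom_comp_fst]
      have e0 : ∀ (t : pullback p p ⟶ X) (ht : (pullback.fst p p ≫ p) ≫ 𝟙 S = t ≫ p),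
          pullback.map U₁.hom (pullback.fst p p ≫ p) U₁.hom p (𝟙 _) t (𝟙 S)
            ((Category.comp_id _).trans (Category.id_comp _).symm) ht ≫ (pullbackSymmetry U₁.hom p).hom =
          pullback.lift (pullback.snd U₁.hom (pullback.fst p p ≫ p) ≫ t) (pullback.fst U₁.hom (pullback.fst p p ≫ p))
            (by rw [Category.assoc, ← ht, Category.comp_id]; exact pullback.condition.symm) := by
        intro t ht
        apply pullback.hom_ext <;> simp
      rw [reassoc_of% (e0 (pullback.fst p p) (Category.comp_id _)),
        reassoc_of% (e0 (pullback.snd p p) ((Category.comp_id _).trans pullback.condition))]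
      exact key)
  refine ⟨Over.homMk u hu, ?_⟩
  apply Desc.SchDD.hom_ext
  apply Over.OverMorphism.ext
  apply pullback.hom_ext
  · simp [Desc.toDD]
    exact hcl.symm
  · have h2 := congrArg ((pullbackSymmetry U₁.hom p).inv ≫ ·) hu'
    simp [f', a] at h2
    simpa [Desc.toDD, cl] using h2.symm

end Groth.Agent.S0782
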