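import Groth.Statements.S0783
import Groth.Agent.DescLib.EtSubtrusive
import Groth.Agent.DescLib.EtSchDD
-- import your own Groth.Agent.* helpers here

set_option autoImplicit false
set_option backward.isDefEq.respectTransparency false
set_option backward.isDefEq.respectTransparency.types false
set_option linter.style.haveILetI false
open CategoryTheory CategoryTheory.Limits AlgebraicGeometry Opposite
universe u
open Desc

namespace Groth.Agent.S0783

/-- Effectivity of descent for étale morphisms along integral surjections. Let p : X ⟶ S be surjective
and integral. Every descent datum relative to p whose underlying scheme is quasi-compact, separated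
and étale over X is isomorphic to the canonical descent datum of a scheme quasi-compact, separated
and étale over S. (Descent data are taken in functor-of-points form, equivalent by the Yoneda lemma
to an isomorphism over X ×_S X satisfying the cocycle condition.) -/
theorem result {X S : Scheme.{u}} (p : X ⟶ S) [Surjective p] [IsIntegralHom p]
    (D : Desc.SchDD p) [QuasiCompact D.obj.hom] [IsSeparated D.obj.hom] [Etale D.obj.hom] :
    ∃ U : Over S, QuasiCompact U.hom ∧ IsSeparated U.hom ∧ Etale U.hom ∧ Nonempty ((Desc.toDD p).obj U ≅ D) := by
  have hs : Subtr.UnivSSubtrusive p := fun X' Y' a b f' sq => by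
    haveI : UniversallyClosed f' := MorphismProperty.of_isPullback sq.flip (inferInstance : UniversallyClosed p)
    haveI : Surjective f' := MorphismProperty.of_isPullback sq.flip ‹Surjective p›
    intro y y' h
    obtain ⟨x', rfl⟩ := f'.surjective y'
    obtain ⟨x, hx, e⟩ := f'.isClosedMap.specializingMap h
    exact ⟨x, x', hx, e, rfl⟩
  haveI : Etale (((Desc.SchDDFam.ofSchDD.{0, u} p).obj D).obj ⟨⟩).hom := ‹Etale D.obj.hom›
  haveI : QuasiCompact (((Desc.SchDDFam.ofSchDD.{0, u} p).obj D).obj ⟨⟩).hom := ‹QuasiCompact D.obj.hom›
  haveI : IsSeparated (((Desc.SchDDFam.ofSchDD.{0, u} p).obj D).obj ⟨⟩).hom := ‹IsSeparated D.obj.hom›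
  exact DescLib.effective_schDD_of_fam p (DescLib.univSubmersive_of_univSSubtrusive p hs) D
    (DescLib.effective_subtr hs)

end Groth.Agent.S0783
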