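import Groth.Statements.S0784
import Mathlib.AlgebraicGeometry.ZariskisMainTheorem
import Mathlib.AlgebraicGeometry.Morphisms.ClosedImmersion
import Groth.Agent.Hensel.Factor
import Groth.Agent.AlgSpLib.EtLocalInst
import Mathlib.RingTheory.Spectrum.Prime.Jacobson

set_option autoImplicit false
open CategoryTheory CategoryTheory.Limits AlgebraicGeometry Opposite
universe u
open Desc

namespace Groth.Agent.S0784

/-- Let (A, I) be a henselian pair and g : U ⟶ Spec A quasi-compact, separated and etale such that the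
base change of U to Spec(A/I) is finite over Spec(A/I). Then U is the disjoint union of an open and
closed subscheme finite over Spec A and an open and closed subscheme with no points lying over V(I). -/
theorem result (A : Type u) [CommRing A] (I : Ideal A) [HenselianRing A I]
    {U : Scheme.{u}} (g : U ⟶ Spec (CommRingCat.of A)) [QuasiCompact g] [IsSeparated g] [Etale g]
    (hfin : IsFinite (pullback.snd g (Spec.map (CommRingCat.ofHom (Ideal.Quotient.mk I))))) :
    ∃ W : U.Opens, IsClosed (W : Set U) ∧ IsFinite (W.ι ≫ g) ∧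
      ∀ u : U, u ∉ W → ¬ I ≤ (g.base u : PrimeSpectrum A).asIdeal := by
  classical
  haveI : LocallyQuasiFinite g := AlgSpLib.locallyQuasiFinite_of_formallyUnramified g
  haveI : IsAffine g.normalization := isAffine_of_isAffineHom g.fromNormalization
  obtain ⟨B, φ, j, _, hint, hjg⟩ : ∃ (B : CommRingCat.{u}) (φ : CommRingCat.of A ⟶ B) (j : U ⟶ Spec B),
      IsOpenImmersion j ∧ IsIntegralHom (Spec.map φ) ∧ j ≫ Spec.map φ = g := by
    let B := Γ(g.normalization, ⊤)
    let h : Spec B ⟶ Spec (CommRingCat.of A) := g.normalization.isoSpec.inv ≫ g.fromNormalization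
    refine ⟨B, Spec.preimage h, g.toNormalization ≫ g.normalization.isoSpec.hom, inferInstance, ?_, ?_⟩
    · rw [Spec.map_preimage]
      infer_instance
    · rw [Spec.map_preimage]
      simp [h]
  letI : Algebra A B := φ.hom.toAlgebra
  haveI : Algebra.IsIntegral A B := algebraMap_isIntegral_iff.mp (IsIntegralHom.SpecMap_iff.mp hint)
  have hcomap : ∀ y : Spec B, ((Spec.map φ) y : PrimeSpectrum A).asIdeal =
      (y : PrimeSpectrum B).asIdeal.comap (algebraMap A B) := fun _ => rfl
  let J := I.map (algebraMap A B)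
  have hJ : ∀ y : Spec B, J ≤ (y : PrimeSpectrum B).asIdeal ↔
      I ≤ ((Spec.map φ) y : PrimeSpectrum A).asIdeal := fun y => Ideal.map_le_iff_le_comap
  let c := Spec.map (CommRingCat.ofHom (Ideal.Quotient.mk I))
  have hrc : ∀ y : Spec (CommRingCat.of A), y ∈ Set.range c ↔ I ≤ (y : PrimeSpectrum A).asIdeal := by
    intro y
    have := range_comap_of_surjective _ (Ideal.Quotient.mk I) Ideal.Quotient.mk_surjective
    rw [Ideal.mk_ker] at this
    exact Iff.trans (Set.ext_iff.mp this y) (PrimeSpectrum.mem_zeroLocus _ _)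
  have hZ : IsClosed (Set.range j ∩ PrimeSpectrum.zeroLocus (J : Set B)) := by
    haveI := hfin
    haveI : IsFinite ((pullback.fst g c ≫ j) ≫ Spec.map φ) := by
      rw [Category.assoc, hjg, pullback.condition]
      haveI : IsClosedImmersion c := IsClosedImmersion.spec_of_surjective _ Ideal.Quotient.mk_surjective
      infer_instance
    haveI : IsFinite (pullback.fst g c ≫ j) := IsFinite.of_comp _ (Spec.map φ)
    have hr : Set.range (pullback.fst g c ≫ j) = Set.range j ∩ PrimeSpectrum.zeroLocus (J : Set B) := by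
      rw [Scheme.Hom.comp_base, TopCat.coe_comp, Set.range_comp, Scheme.Pullback.range_fst]
      ext y
      constructor
      · rintro ⟨v, hv, rfl⟩
        refine ⟨⟨v, rfl⟩, (PrimeSpectrum.mem_zeroLocus _ _).mpr ((hJ (j v)).mpr ?_)⟩
        have hv' : g v ∈ Set.range c := hv
        rw [← hjg] at hv'
        exact (hrc _).mp hv'
      · rintro ⟨⟨v, rfl⟩, hy⟩
        refine ⟨v, ?_, rfl⟩
        show g v ∈ Set.range c
        rw [← hjg]
        exact (hrc _).mpr ((hJ (j v)).mp ((PrimeSpectrum.mem_zeroLocus _ _).mp hy))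
    rw [← hr]
    exact (pullback.fst g c ≫ j).isClosedMap.isClosed_range
  let π := PrimeSpectrum.comap (Ideal.Quotient.mk J)
  have hπ : ∀ y : PrimeSpectrum B, y ∈ Set.range π ↔ J ≤ y.asIdeal := fun y => by
    rw [range_comap_of_surjective _ _ Ideal.Quotient.mk_surjective, Ideal.mk_ker]
    exact PrimeSpectrum.mem_zeroLocus _ _
  have hs : IsClopen (π ⁻¹' Set.range j) := by
    refine ⟨?_, j.isOpenEmbedding.isOpen_range.preimage (PrimeSpectrum.continuous_comap _)⟩
    have : π ⁻¹' Set.range j = π ⁻¹' (Set.range j ∩ PrimeSpectrum.zeroLocus (J : Set B)) := by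
      ext z
      exact ⟨fun h => ⟨h, (PrimeSpectrum.mem_zeroLocus _ _).mpr ((hπ _).mp ⟨z, rfl⟩)⟩, fun h => h.1⟩
    rw [this]
    exact hZ.preimage (PrimeSpectrum.continuous_comap _)
  obtain ⟨x, hx, hxs⟩ := PrimeSpectrum.exists_idempotent_basicOpen_eq_of_isClopen hs
  obtain ⟨b, rfl⟩ := Ideal.Quotient.mk_surjective x
  obtain ⟨e, he, heb⟩ := Hensel.exists_idempotent_lift_of_isIntegral I b
    (Ideal.Quotient.eq.mp (by simpa [IsIdempotentElem] using hx))
  have heq : Ideal.Quotient.mk J e = Ideal.Quotient.mk J b := Ideal.Quotient.eq.mpr heb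
  have hkey : ∀ y : PrimeSpectrum B, J ≤ y.asIdeal → (y ∈ Set.range j ↔ e ∉ y.asIdeal) := by
    intro y hy
    obtain ⟨z, rfl⟩ := (hπ y).mpr hy
    refine (Set.ext_iff.mp hxs z).trans ?_
    rw [← heq]
    rfl
  have heclosed : IsClosed (PrimeSpectrum.basicOpen e : Set (PrimeSpectrum B)) :=
    (PrimeSpectrum.isClopen_iff_mul_add.mpr ⟨e, 1 - e, by rw [mul_sub, mul_one, he.eq, sub_self],
      add_sub_cancel e 1, rfl⟩).1
  have hsub : (PrimeSpectrum.basicOpen e : Set (PrimeSpectrum B)) ⊆ Set.range j := by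
    intro y hy
    by_contra hyj
    obtain ⟨m, hm, hym⟩ := y.asIdeal.exists_le_maximal y.isPrime.ne_top
    have hyz : (⟨m, hm.isPrime⟩ : PrimeSpectrum B) ∈ closure {y} :=
      specializes_iff_mem_closure.mp ((PrimeSpectrum.le_iff_specializes y ⟨m, hm.isPrime⟩).mp hym)
    have h1 : e ∉ m :=
      (PrimeSpectrum.mem_basicOpen e _).mp (closure_minimal (Set.singleton_subset_iff.mpr hy) heclosed hyz)
    have h2 : (⟨m, hm.isPrime⟩ : PrimeSpectrum B) ∉ Set.range j := fun h =>
      hyj (j.isOpenEmbedding.isOpen_range.stableUnderGeneralization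
        (specializes_iff_mem_closure.mpr hyz) h)
    have h3 : J ≤ m := (Hensel.map_le_jacobson_of_isIntegral HenselianRing.jac).trans
      (sInf_le ⟨bot_le, hm⟩)
    exact h2 ((hkey ⟨m, hm.isPrime⟩ h3).mpr h1)
  refine ⟨j ⁻¹ᵁ PrimeSpectrum.basicOpen e, ?_, ?_, fun u hu hIu => ?_⟩
  · exact heclosed.preimage j.continuous
  · haveI : IsClosedImmersion ((j ⁻¹ᵁ PrimeSpectrum.basicOpen e).ι ≫ j) := by
      rw [IsClosedImmersion.iff_isPreimmersion]
      refine ⟨inferInstance, ?_⟩
      rw [Scheme.Hom.comp_base, TopCat.coe_comp, Set.range_comp, Scheme.Opens.range_ι]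
      have : j '' ((j ⁻¹ᵁ PrimeSpectrum.basicOpen e : U.Opens) : Set U) =
          (PrimeSpectrum.basicOpen e : Set (PrimeSpectrum B)) :=
        Set.image_preimage_eq_iff.mpr hsub
      rw [this]
      exact heclosed
    haveI := hint
    rw [← hjg, ← Category.assoc, IsFinite.iff_isIntegralHom_and_locallyOfFiniteType]
    refine ⟨inferInstance, ?_⟩
    rw [Category.assoc, hjg]
    infer_instance
  · rw [← hjg] at hIu
    exact hu ((PrimeSpectrum.mem_basicOpen e _).mpr
      ((hkey (j u) ((hJ (j u)).mpr hIu)).mp ⟨u, rfl⟩))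

end Groth.Agent.S0784
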