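import Groth.Statements.S0792
import Groth.Agent.QCoh.ProperOver2

set_option autoImplicit false
universe u
open Coherent

namespace Groth.Agent.S0792

open CategoryTheory AlgebraicGeometry in
/-- Let f : X → S be locally of finite type and F a quasi-coherent O_X-module of finite type. The
support of F is proper over S if and only if there are a closed subscheme i : Z → X with Z proper
over S and a quasi-coherent O_Z-module G of finite type with i_* G isomorphic to F. (The published
statement also gives a further equivalent condition, that the scheme-theoretic support of F is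
proper over S; it is not used here.) -/
theorem result {X S : Scheme.{u}} (f : X ⟶ S) [LocallyOfFiniteType f]
    (F : X.Modules) (hq : Coh.IsQCoh F) (hft : CohB1.IsFT F) :
    ClSub.IsProperOver f (CohB1.support F) ↔
      ∃ (Z : Scheme.{u}) (i : Z ⟶ X), IsClosedImmersion i ∧ IsProper (i ≫ f) ∧
        ∃ G : Z.Modules, Coh.IsQCoh G ∧ CohB1.IsFT G ∧
          Nonempty ((Scheme.Modules.pushforward i).obj G ≅ F) := by
  constructor
  · intro h
    obtain ⟨T, i, G, hi, hr, hG, hGft, e⟩ := Groth.Agent.QCoh.exists_closed_model hq hft
    rw [← hr] at h
    exact ⟨T, i, hi, (Groth.Agent.QCoh.isProperOver_iff i).1 h, G, hG, hGft, e⟩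
  · rintro ⟨T, i, hi, hP, G, hG, -, ⟨e⟩⟩
    refine Groth.Agent.QCoh.isProperOver_of_subset i (Groth.Agent.QCoh.isClosed_support_of_isFT hq hft) ?_
    rw [← Groth.Agent.QCoh.support_iso e (Groth.Agent.QCoh.isQCoh_pushforward i hG)]
    exact Groth.Agent.QCoh.support_push_subset i hG

end Groth.Agent.S0792
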