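import Groth.Statements.S0796
import Groth.Agent.QCoh.ProperOver2

set_option autoImplicit false
universe u
open Coherent

namespace Groth.Agent.S0796

open CategoryTheory AlgebraicGeometry in
/-- Part (2), through the usual criterion for Serre subcategories. Let S be locally Noetherian and f : X
→ S locally of finite type. For a short exact sequence 0 → F₁ → F₂ → F₃ → 0 of coherent O_X-modules,
the support of F₂ is proper over S if and only if the supports of F₁ and F₃ are. -/
theorem result {X S : Scheme.{u}} (f : X ⟶ S) [LocallyOfFiniteType f]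
    [IsLocallyNoetherian S] (E : ShortComplex X.Modules) (hE : E.ShortExact)
    (h₁ : Coh.IsCoh E.X₁) (h₂ : Coh.IsCoh E.X₂) (h₃ : Coh.IsCoh E.X₃) :
    ClSub.IsProperOver f (CohB1.support E.X₂) ↔
      ClSub.IsProperOver f (CohB1.support E.X₁) ∧ ClSub.IsProperOver f (CohB1.support E.X₃) := by
  have := hE.mono_f
  have := hE.epi_g
  have hsub := Groth.Agent.QCoh.support_subset_union hE h₁.1 h₂.1 h₃.1
  have hs1 := Groth.Agent.QCoh.mem_support_of_mono h₁.1 h₂.1 E.f
  have hs3 := Groth.Agent.QCoh.support_of_epi h₂.1 h₃.1 E.g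
  refine ⟨fun h => ⟨?_, ?_⟩, fun ⟨a, b⟩ => ?_⟩
  · exact Groth.Agent.QCoh.IsProperOver.subset h (Groth.Agent.QCoh.isClosed_support_of_isFT h₁.1 h₁.2) hs1
  · exact Groth.Agent.QCoh.IsProperOver.subset h (Groth.Agent.QCoh.isClosed_support_of_isFT h₃.1 h₃.2) hs3
  · exact Groth.Agent.QCoh.IsProperOver.subset (Groth.Agent.QCoh.IsProperOver.union a b)
      (Groth.Agent.QCoh.isClosed_support_of_isFT h₂.1 h₂.2) hsub

end Groth.Agent.S0796
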