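import Groth.Statements.S0797
import Mathlib.Tactic
import Mathlib.RingTheory.AdicCompletion.Basic
import Mathlib.RingTheory.Finiteness.Basic

set_option autoImplicit false
universe u
open Formal2

namespace Groth.Agent.S0797

/-- The module-theoretic heart, over a base that is already complete (so that the completion of A is A).
Let A be Noetherian and I-adically complete, and let (M_n, f_n : M_{n+1} → M_n) be an inverse system
of finite A-modules with M_n annihilated by I^(n+1) and f_n surjective with kernel I^(n+1) M_{n+1}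
(indices shifted by one). Then the A-module of compatible sequences is finitely generated, each
projection to M_n is surjective, and its kernel is I^(n+1) times the module of compatible sequences. -/
theorem result (A : Type u) [CommRing A] [IsNoetherianRing A] (I : Ideal A)
    [IsAdicComplete I A] (M : ℕ → Type u) [∀ n, AddCommGroup (M n)] [∀ n, Module A (M n)]
    [∀ n, Module.Finite A (M n)] (f : ∀ n, M (n + 1) →ₗ[A] M n) (hf : ∀ n, Function.Surjective (f n))
    (hk : ∀ n, I ^ (n + 1) • (⊤ : Submodule A (M n)) = ⊥)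
    (hker : ∀ n, LinearMap.ker (f n) = I ^ (n + 1) • (⊤ : Submodule A (M (n + 1))))
    (L : Submodule A (∀ n, M n)) (hL : ∀ x : ∀ n, M n, x ∈ L ↔ ∀ n, f n (x (n + 1)) = x n) :
    Module.Finite A L ∧ ∀ n, Function.Surjective ((LinearMap.proj n).comp L.subtype : L →ₗ[A] M n) ∧
      LinearMap.ker ((LinearMap.proj n).comp L.subtype : L →ₗ[A] M n) = I ^ (n + 1) • (⊤ : Submodule A L) := by
  classical
  obtain ⟨k, g₀, hg₀⟩ := Module.Finite.exists_fin' A (M 0)
  -- lift the generators to compatible sequences
  have hlift : ∀ j : Fin k, ∃ x : ∀ n, M n, x ∈ L ∧ x 0 = g₀ (Pi.single j 1) := fun j => by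
    choose s hs using hf
    refine ⟨fun n => Nat.rec (motive := fun n => M n) (g₀ (Pi.single j 1)) (fun n x => s n x) n, ?_, rfl⟩
    exact (hL _).2 fun n => hs n _
  choose t ht ht0 using hlift
  let P : (Fin k → A) →ₗ[A] L := Fintype.linearCombination A fun j => (⟨t j, ht j⟩ : L)
  let φ : ∀ n, (Fin k → A) →ₗ[A] M n := fun n => (LinearMap.proj n).comp (L.subtype.comp P)
  have hcomp : ∀ n a, f n (φ (n + 1) a) = φ n a := fun n a => (hL _).1 (P a).2 n
  have hmap : ∀ n (J : Ideal A), Function.Surjective (φ n) →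
      Submodule.map (φ n) (J • ⊤) = J • ⊤ := fun n J h => by
    rw [Submodule.map_smul'', Submodule.map_top, LinearMap.range_eq_top.2 h]
  have hsurj : ∀ n, Function.Surjective (φ n) := by
    intro n
    induction n with
    | zero =>
      have : φ 0 = g₀ := by
        refine (Pi.basisFun A (Fin k)).ext fun j => ?_
        simp [φ, P, ht0]
      exact this ▸ hg₀
    | succ n ih =>
      have h1 : (⊤ : Submodule A (M (n + 1))) ≤ LinearMap.range (φ (n + 1)) ⊔ I ^ (n + 1) • ⊤ := fun y _ => by
        obtain ⟨a, ha⟩ := ih (f n y)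
        refine Submodule.mem_sup.2 ⟨φ (n + 1) a, ⟨a, rfl⟩, y - φ (n + 1) a, ?_, add_sub_cancel _ _⟩
        rw [← hker n, LinearMap.mem_ker, map_sub, hcomp, ha, sub_self]
      have h2 : I ^ (n + 1) • (⊤ : Submodule A (M (n + 1))) ≤ LinearMap.range (φ (n + 1)) := by
        refine (Submodule.smul_mono le_rfl h1).trans ?_
        rw [Submodule.smul_sup, ← Submodule.mul_smul]
        refine sup_le Submodule.smul_le_right ?_
        have e : I ^ (n + 1) * I ^ (n + 1) ≤ I ^ (n + 1 + 1) := by
          rw [← pow_add]; exact Ideal.pow_le_pow_right (by omega)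
        exact ((Submodule.smul_mono e le_rfl).trans_eq (hk (n + 1))).trans bot_le
      exact LinearMap.range_eq_top.1 (top_le_iff.1 (h1.trans (sup_le le_rfl h2)))
  have hK : ∀ n a, φ n a = 0 → ∃ b, φ (n + 1) b = 0 ∧ a - b ∈ I ^ (n + 1) • (⊤ : Submodule A (Fin k → A)) :=
    fun n a ha => by
      have : φ (n + 1) a ∈ I ^ (n + 1) • (⊤ : Submodule A (M (n + 1))) := by
        rw [← hker n, LinearMap.mem_ker, hcomp, ha]
      rw [← hmap _ _ (hsurj _)] at this
      obtain ⟨c, hc, hc'⟩ := this
      exact ⟨a - c, by rw [map_sub, hc', sub_self], by rwa [sub_sub_cancel]⟩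
  have hmono : ∀ {i j : ℕ}, i ≤ j →
      I ^ j • (⊤ : Submodule A (Fin k → A)) ≤ I ^ i • ⊤ := fun h =>
    Submodule.smul_mono (Ideal.pow_le_pow_right h) le_rfl
  have hcomplete : ∀ c : ℕ → (Fin k → A), (∀ m, c (m + 1) - c m ∈ I ^ (m + 1) • (⊤ : Submodule A (Fin k → A))) →
      ∃ l, ∀ m, l - c m ∈ I ^ (m + 1) • (⊤ : Submodule A (Fin k → A)) := fun c hc => by
    have mem : ∀ (J : Ideal A) (x : Fin k → A), x ∈ J • (⊤ : Submodule A (Fin k → A)) ↔ ∀ i, x i ∈ J := fun J x => by
      refine ⟨fun h i => ?_, fun h => ?_⟩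
      · refine Submodule.smul_induction_on h (fun r hr y _ => ?_) (fun y z hy hz => J.add_mem hy hz)
        exact J.mul_mem_right _ hr
      · rw [← Finset.univ_sum_single x]
        refine Submodule.sum_mem _ fun i _ => ?_
        rw [show Pi.single i (x i) = x i • Pi.single (M := fun _ => A) i 1 by simp [← Pi.single_smul]]
        exact Submodule.smul_mem_smul (h i) trivial
    have hl : ∀ i, ∃ l : A, ∀ m, c m i - l ∈ I ^ (m + 1) := fun i => by
      have hcauchy : ∀ m, ∀ d, c (m + d) i - c m i ∈ I ^ (m + 1) := fun m d => by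
        induction d with
        | zero => simp
        | succ d ih =>
          have : c (m + d + 1) i - c (m + d) i ∈ I ^ (m + 1) :=
            Ideal.pow_le_pow_right (by omega) ((mem _ _).1 (hc (m + d)) i)
          rw [← Nat.add_assoc]
          simpa using (I ^ (m + 1)).add_mem this ih
      obtain ⟨l, hl⟩ := (IsAdicComplete.toIsPrecomplete (I := I) (M := A)).prec (f := fun m => c (m - 1) i)
        (fun {m n} hmn => by
          rw [SModEq.sub_mem, smul_eq_mul, Ideal.mul_top]
          rcases Nat.eq_zero_or_pos m with rfl | hm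
          · simp
          · obtain ⟨d, hd⟩ := Nat.exists_eq_add_of_le (show m - 1 ≤ n - 1 by omega)
            have := hcauchy (m - 1) d
            rw [← hd, show m - 1 + 1 = m by omega] at this
            simpa using (I ^ m).neg_mem this)
      refine ⟨l, fun m => ?_⟩
      have := hl (m + 1)
      rw [SModEq.sub_mem, smul_eq_mul, Ideal.mul_top] at this
      simpa using this
    choose l hl using hl
    exact ⟨l, fun m => (mem _ _).2 fun i => by simpa using (I ^ (m + 1)).neg_mem (hl i m)⟩
  have hkill : ∀ n {a : Fin k → A}, a ∈ I ^ (n + 1) • (⊤ : Submodule A (Fin k → A)) → φ n a = 0 := fun n a ha => by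
    have := Submodule.mem_map_of_mem (f := φ n) ha
    rw [hmap n _ (hsurj n), hk n] at this
    exact this
  have hP : Function.Surjective P := fun x => by
    have hx := (hL _).1 x.2
    have step : ∀ n a, φ n a = x.1 n → ∃ b, φ (n + 1) b = x.1 (n + 1) ∧
        b - a ∈ I ^ (n + 1) • (⊤ : Submodule A (Fin k → A)) := fun n a ha => by
      obtain ⟨b₀, hb₀⟩ := hsurj (n + 1) (x.1 (n + 1))
      obtain ⟨b, hb, hab⟩ := hK n (b₀ - a) (by rw [map_sub, ha, ← hcomp n b₀, hb₀, hx, sub_self])
      refine ⟨b₀ - b, by rw [map_sub, hb₀, hb, sub_zero], ?_⟩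
      rwa [sub_right_comm]
    choose b hb hb' using step
    obtain ⟨a₀, ha₀⟩ := hsurj 0 (x.1 0)
    let seq : ∀ n, {a // φ n a = x.1 n} := fun n => Nat.rec (motive := fun n => {a // φ n a = x.1 n})
      ⟨a₀, ha₀⟩ (fun n a => ⟨b n a.1 a.2, hb n a.1 a.2⟩) n
    obtain ⟨l, hl⟩ := hcomplete (fun n => (seq n).1) fun n => hb' n (seq n).1 (seq n).2
    refine ⟨l, Subtype.ext (funext fun n => ?_)⟩
    have := hkill n (hl n)
    rw [map_sub, sub_eq_zero] at this
    exact this.trans (seq n).2
  refine ⟨Module.Finite.of_surjective P hP, fun n => ⟨fun y => ?_, le_antisymm (fun x hx => ?_) ?_⟩⟩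
  · obtain ⟨a, ha⟩ := hsurj n y
    exact ⟨P a, ha⟩
  · obtain ⟨a, rfl⟩ := hP x
    choose b hb hb' using hK
    let seq : ∀ d, {c // φ (n + d) c = 0} := fun d => Nat.rec (motive := fun d => {c // φ (n + d) c = 0})
      ⟨a, hx⟩ (fun d c => ⟨b (n + d) c.1 c.2, hb (n + d) c.1 c.2⟩) d
    have hin : ∀ d, a - (seq d).1 ∈ I ^ (n + 1) • (⊤ : Submodule A (Fin k → A)) := fun d => by
      induction d with
      | zero => simp [seq]
      | succ d ih =>
        have := add_mem ih (hmono (by omega : n + 1 ≤ n + d + 1) (hb' (n + d) (seq d).1 (seq d).2))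
        simpa [seq] using this
    obtain ⟨l, hl⟩ := hcomplete (fun m => (seq m).1) fun m => by
      have := hmono (by omega : m + 1 ≤ n + m + 1) (hb' (n + m) (seq m).1 (seq m).2)
      simpa [seq] using neg_mem this
    have hl0 : P l = 0 := Subtype.ext (funext fun m => by
      have h1 := hkill m (hl m)
      rw [map_sub, sub_eq_zero] at h1
      have h2 : ∀ d {j}, j + d = n + m → φ j (seq m).1 = 0 := fun d => by
        induction d with
        | zero => intro j hj; rw [show j = n + m by omega]; exact (seq m).2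
        | succ d ih => intro j hj; rw [← hcomp, ih (by omega), map_zero]
      exact h1.trans (h2 n (by omega)))
    have hal : a - l ∈ I ^ (n + 1) • (⊤ : Submodule A (Fin k → A)) := by
      have := sub_mem (hin n) (hl n)
      simpa using this
    have := Submodule.mem_map_of_mem (f := P) hal
    rw [Submodule.map_smul'', map_sub, hl0, sub_zero] at this
    exact Submodule.smul_mono le_rfl le_top this
  · refine Submodule.smul_le.2 fun r hr x _ => ?_
    show r • x.1 n = 0
    have : r • x.1 n ∈ I ^ (n + 1) • (⊤ : Submodule A (M n)) := Submodule.smul_mem_smul hr trivial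
    rwa [hk n] at this

end Groth.Agent.S0797
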