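import Groth.Statements.S0802
import Groth.Agent.Synt29.FormalLimFinite

set_option autoImplicit false
universe u
open Formal2

set_option linter.style.haveILetI false
set_option linter.unusedSectionVars false
set_option backward.isDefEq.respectTransparency false
set_option backward.isDefEq.respectTransparency.types false
set_option maxHeartbeats 1000000
open CategoryTheory CategoryTheory.Limits AlgebraicGeometry Opposite TopologicalSpace
open Groth.Agent Groth.Agent.Synt29

namespace Groth.Agent.S0802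

theorem toSec_eq_zero {R : CommRingCat.{u}} (M : ModuleCat.{u} R) (g : R) (m : M)
    (h : LocCohSec.toSec M (PrimeSpectrum.basicOpen g) m = 0) : ∃ l : ℕ, g ^ l • m = 0 := by
  obtain ⟨⟨_, l, rfl⟩, hl⟩ := (IsLocalizedModule.eq_zero_iff (.powers g)
    (LocCohSec.toSec M (PrimeSpectrum.basicOpen g))).1 h
  exact ⟨l, hl⟩

theorem exists_smul_eq {R : CommRingCat.{u}} (M : ModuleCat.{u} R) (g : R) (m : M) :
    ∃ s : LocCohSec.sec M (PrimeSpectrum.basicOpen g), g • s = LocCohSec.toSec M (PrimeSpectrum.basicOpen g) m :=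
  ⟨IsLocalizedModule.mk' (LocCohSec.toSec M (PrimeSpectrum.basicOpen g)) m (⟨g, 1, pow_one _⟩ : Submonoid.powers g),
    IsLocalizedModule.mk'_cancel' (LocCohSec.toSec M (PrimeSpectrum.basicOpen g)) m (⟨g, 1, pow_one _⟩ : Submonoid.powers g)⟩

theorem compat {R : CommRingCat.{u}} (M : ModuleCat.{u} R) {a b : R} {ma mb : M} (h : a • (b • ma - a • mb) = 0)
    {sa : LocCohSec.sec M (PrimeSpectrum.basicOpen a)} (hsa : a • sa = LocCohSec.toSec M _ ma)
    {sb : LocCohSec.sec M (PrimeSpectrum.basicOpen b)} (hsb : b • sb = LocCohSec.toSec M _ mb) :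
    LocCohSec.res M (inf_le_left : PrimeSpectrum.basicOpen a ⊓ PrimeSpectrum.basicOpen b ≤ PrimeSpectrum.basicOpen a) sa =
      LocCohSec.res M (inf_le_right : PrimeSpectrum.basicOpen a ⊓ PrimeSpectrum.basicOpen b ≤ PrimeSpectrum.basicOpen b) sb := by
  let W : (Spec R).Opens := PrimeSpectrum.basicOpen a ⊓ PrimeSpectrum.basicOpen b
  let u := LocCohSec.res M (inf_le_left : W ≤ PrimeSpectrum.basicOpen a) sa
  let v := LocCohSec.res M (inf_le_right : W ≤ PrimeSpectrum.basicOpen b) sb
  have h0 := congrArg (LocCohSec.toSec M W) h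
  have hu : LocCohSec.toSec M W ma = a • u := by rw [← map_smul, hsa, LocCohSec.res_toSec]
  have hv : LocCohSec.toSec M W mb = b • v := by rw [← map_smul, hsb, LocCohSec.res_toSec]
  rw [map_zero, map_smul, map_sub, map_smul, map_smul, hu, hv] at h0
  refine sub_eq_zero.1 (LocCohSec.smul_pow_eq_zero_cancel M inf_le_left 1
    (LocCohSec.smul_pow_eq_zero_cancel M inf_le_right 1 (LocCohSec.smul_pow_eq_zero_cancel M inf_le_left 1 ?_)))
  rw [pow_one, pow_one, smul_sub, smul_sub, smul_sub, ← h0, smul_sub]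
  simp only [smul_smul, mul_assoc, mul_comm, mul_left_comm]
  rfl

variable {A : Type u} [CommRing A]

theorem agree {N Q : ModuleCat.{u} (CommRingCat.of A)} (φ : N ⟶ Q) {U V D : (Spec (CommRingCat.of A)).Opens}
    (hDV : D ≤ V) (hVU : V ≤ U) (h : A) (hD : D ≤ PrimeSpectrum.basicOpen h) {s : LocCohSec.sec N V}
    {t : LocCohSec.sec Q U} {m : N} (hs : h • LocCohSec.res N hDV s = LocCohSec.toSec N D m)
    (ht : h • t = LocCohSec.toSec Q U (φ.hom m)) :
    LocCohSec.res Q hDV (LocCohSec.res Q hVU t - SecMap.mapS φ V s) = 0 := by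
  refine LocCohSec.smul_pow_eq_zero_cancel Q hD 1 ?_
  rw [map_sub, pow_one, smul_sub, LocCohSec.res_res, ← SecMap.mapS_res, ← LinearMap.map_smul (SecMap.mapS φ D), hs,
    SecMap.mapS_toSec, ← LocCohSec.res_smul, ht, LocCohSec.res_toSec, sub_self]

theorem cross {N G : Type u} [AddCommGroup N] [Module A N] [AddCommGroup G] [Module A G] (R : N →ₗ[A] G)
    {a b : A} {Y : G} {ma mb : N} (ha : a • Y = R ma) (hb : b • Y = R mb) : R (b • ma - a • mb) = 0 := by
  rw [map_sub, LinearMap.map_smul, LinearMap.map_smul, ← ha, ← hb, smul_comm, sub_self]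

theorem exists_kill_krull [IsNoetherianRing A] {M : Type u} [AddCommGroup M] [Module A M] [Module.Finite A M]
    (f g : A) (p : Ideal A) [p.IsPrime] (hfp : f ∈ p) (hgp : g ∉ p) (m : M)
    (h : ∀ n, ∃ l z, g ^ l • m = f ^ n • z) : ∃ c, c ∉ p ∧ c • m = (0 : M) := by
  let φ := LocalizedModule.mkLinearMap p.primeCompl M
  haveI : Module.Finite (Localization.AtPrime p) (LocalizedModule p.primeCompl M) :=
    Module.Finite.of_isLocalizedModule p.primeCompl φ
  have hne : Ideal.span {algebraMap A (Localization.AtPrime p) f} ≠ ⊤ := fun hc =>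
    ((IsLocalization.AtPrime.isUnit_to_map_iff (Localization.AtPrime p) p f).1 (Ideal.span_singleton_eq_top.1 hc)) hfp
  have h0 : φ m = 0 := by
    rw [← Submodule.mem_bot (R := Localization.AtPrime p), ← Ideal.iInf_pow_smul_eq_bot_of_isLocalRing
      (I := Ideal.span {algebraMap A (Localization.AtPrime p) f}) hne, Submodule.mem_iInf]
    intro n
    obtain ⟨l, z, hz⟩ := h n
    let t : p.primeCompl := ⟨g ^ l, fun hc => hgp (‹p.IsPrime›.mem_of_pow_mem l hc)⟩
    have : φ m = f ^ n • IsLocalizedModule.mk' φ z t := by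
      refine (IsLocalizedModule.smul_inj φ t _ _).1 ?_
      rw [smul_comm, IsLocalizedModule.mk'_cancel', ← LinearMap.map_smul, ← hz, LinearMap.map_smul]
      rfl
    rw [this, ← algebraMap_smul (Localization.AtPrime p) (f ^ n), map_pow]
    exact Submodule.smul_mem_smul (Ideal.pow_mem_pow (Ideal.mem_span_singleton_self _) n) trivial
  obtain ⟨c, hc⟩ := (IsLocalizedModule.eq_zero_iff p.primeCompl φ).1 h0
  exact ⟨c, c.2, hc⟩

theorem main [IsNoetherianRing A] (𝔞 : Ideal A) (f : A) [IsAdicComplete (Ideal.span {f}) A]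
    (M : Type u) [AddCommGroup M] [Module A M] [Module.Finite A M] (hreg : IsSMulRegular M f)
    (hfin : Module.Finite A ((localCohomology 𝔞 1).obj (FormalSectU.Q f (ModuleCat.of (CommRingCat.of A) M) 1))) :
    Formal2.FormalCohColimBijective A (Ideal.span {f}) M 0 (LocCoh.puncturedOpen A 𝔞) := by
  let N : ModuleCat.{u} (CommRingCat.of A) := ModuleCat.of (CommRingCat.of A) M
  refine ⟨fun V hV x hx => ?_, fun y hy => ?_⟩
  · let s := SecMap.hvSec M V x
    let ι := {h : A // ∃ hle : (PrimeSpectrum.basicOpen h : (Spec (CommRingCat.of A)).Opens) ≤ V,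
      LocCohSec.res N hle s = 0}
    let V' : (Spec (CommRingCat.of A)).Opens := ⨆ h : ι, PrimeSpectrum.basicOpen h.1
    have hle' : V' ≤ V := iSup_le fun h => h.2.fst
    refine ⟨V', ⟨⟨hle'.trans hV.1, fun p hpU hpf => ?_⟩, hle'⟩, ?_⟩
    · have hpV := hV.2 p hpU hpf
      obtain ⟨_, ⟨g, rfl⟩, hgp, hgV⟩ :=
        PrimeSpectrum.isTopologicalBasis_basic_opens.exists_subset_of_mem_open hpV V.2
      have hg : (PrimeSpectrum.basicOpen g : (Spec (CommRingCat.of A)).Opens) ≤ V := hgV
      obtain ⟨m, k, hk⟩ := LocCohSec.exists_smul_eq_toSec N g (LocCohSec.res N hg s)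
      have hfp : f ∈ PrimeSpectrum.asIdeal p := hpf (Ideal.mem_span_singleton_self f)
      have hdiv : ∀ n, ∃ l z, g ^ l • m = f ^ n • z := fun n => by
        have h0 : LocCohSec.toSec (FormalSectU.Q f N (n + 1)) (PrimeSpectrum.basicOpen g)
            (Submodule.Quotient.mk m) = 0 := by
          refine (SecMap.mapS_toSec (FormalSectU.q f N (n + 1)) _ m).symm.trans ?_
          rw [← hk, LinearMap.map_smul, SecMap.mapS_res,
            show SecMap.mapS (FormalSectU.q f N (n + 1)) V s = 0 from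
              (SecMap.hvSec_map (Formal2.quotPowπ A (Ideal.span {f}) M n) V x).symm.trans (by rw [hx n, map_zero]),
            map_zero, smul_zero]
        obtain ⟨l, hl⟩ := toSec_eq_zero (FormalSectU.Q f N (n + 1)) g _ h0
        obtain ⟨z, hz⟩ := (FAdicLim.mem_pow_span f (n + 1) (g ^ l • m)).1 ((Submodule.Quotient.mk_eq_zero _).1 hl)
        exact ⟨l, f • z, by rw [← mul_smul, ← pow_succ]; exact hz⟩
      obtain ⟨c, hcp, hc⟩ := exists_kill_krull f g p.asIdeal hfp hgp m hdiv
      have hgc : (PrimeSpectrum.basicOpen (g * c) : (Spec (CommRingCat.of A)).Opens) ≤ PrimeSpectrum.basicOpen g :=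
        PrimeSpectrum.basicOpen_mul_le_left g c
      have hvan : LocCohSec.res N (hgc.trans hg) s = 0 := by
        rw [← LocCohSec.res_res N hg hgc]
        refine LocCohSec.smul_pow_eq_zero_cancel N hgc k
          (LocCohSec.smul_pow_eq_zero_cancel N (PrimeSpectrum.basicOpen_mul_le_right g c) 1 ?_)
        rw [← LocCohSec.res_smul, hk, LocCohSec.res_toSec, pow_one, ← LinearMap.map_smul]
        rw [show c • m = (0 : N) from hc, map_zero]
      exact Opens.mem_iSup.2 ⟨⟨g * c, hgc.trans hg, hvan⟩,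
        fun hc' => (p.2.mem_or_mem hc').elim hgp hcp⟩
    · refine (SecMap.hvSec M V').injective ?_
      rw [SecMap.hvSec_res, map_zero]
      refine LocCohSec.eq_zero_of_locally _ (fun h : ι => PrimeSpectrum.basicOpen h.1) V'
        (fun h => le_iSup (fun h : ι => (PrimeSpectrum.basicOpen h.1 : (Spec (CommRingCat.of A)).Opens)) h) le_rfl _
        fun h => ?_
      rw [LocCohSec.res_res]
      exact h.2.snd
  · let U := LocCoh.puncturedOpen A 𝔞
    let Y : ∀ i, FormalSectU.Γ₀ U (FormalSectU.Q f N i) := fun i => match i with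
      | 0 => FormalSectU.m₀ U (FormalSectU.tr f N (Nat.le_succ 0)) (HVSect.ev U _ (y 0))
      | j + 1 => HVSect.ev U _ (y j)
    have hY : Y ∈ FormalLimFinite.sys f 𝔞 N := fun i => match i with
      | 0 => rfl
      | j + 1 => (HVSect.ev_natural U (Formal2.quotPowTrans A (Ideal.span {f}) M j) (y (j + 1))).symm.trans
          (congrArg (HVSect.ev U _) (hy j))
    let ι := {h : A // h ∈ 𝔞 ∧ (∃ m, h • (⟨Y, hY⟩ : FormalLimFinite.sys f 𝔞 N) = FormalLimFinite.R f 𝔞 N m) ∧
      ∀ m, FormalLimFinite.R f 𝔞 N m = 0 → h • m = 0}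
    let W : ι → (Spec (CommRingCat.of A)).Opens := fun h => PrimeSpectrum.basicOpen h.1
    have hWU : ∀ h : ι, W h ≤ U := fun h => LocCohSec.basicOpen_le_puncturedOpen 𝔞 h.2.1
    have hs : ∀ h : ι, ∃ s : LocCohSec.sec N (W h), h.1 • s = LocCohSec.toSec N (W h) h.2.2.1.choose := fun h =>
      exists_smul_eq N h.1 h.2.2.1.choose
    choose sf hsf using hs
    have hcompat : TopCat.Presheaf.IsCompatible (modulesSpecToSheaf.obj (tilde N)).presheaf W sf := fun a b => by
      show LocCohSec.res N (inf_le_left : W a ⊓ W b ≤ W a) (sf a) = LocCohSec.res N (inf_le_right : W a ⊓ W b ≤ W b) (sf b)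
      refine compat N ?_ (hsf a) (hsf b)
      exact a.2.2.2 _ (cross _ a.2.2.1.choose_spec b.2.2.1.choose_spec)
    obtain ⟨s, hs, -⟩ := TopCat.Sheaf.existsUnique_gluing (modulesSpecToSheaf.obj (tilde N)) W sf hcompat
    have hV : Formal2.Admissible A (Ideal.span {f}) U (iSup W) := by
      refine ⟨iSup_le hWU, fun p hpU hpf => ?_⟩
      obtain ⟨h, hh𝔞, hhp, hsurj, hker⟩ := FormalLimFinite.facts (f := f) (𝔞 := 𝔞) (N := N) hreg hfin p.asIdeal p.2
        (hpf (Ideal.mem_span_singleton_self f)) hpU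
      exact Opens.mem_iSup.2 ⟨⟨h, hh𝔞, hsurj _, hker⟩, hhp⟩
    refine ⟨iSup W, hV, (SecMap.hvSec M (iSup W)).symm s, fun n => (SecMap.hvSec _ (iSup W)).injective ?_⟩
    rw [SecMap.hvSec_res, SecMap.hvSec_map, AddEquiv.apply_symm_apply, ← sub_eq_zero]
    refine LocCohSec.eq_zero_of_locally _ W (iSup W) (le_iSup W) le_rfl _ fun h => ?_
    have h2 : h.1 • Y (n + 1) = FormalSectU.m₀ U (FormalSectU.q f N (n + 1))
        (GrLib8.PuncturedLC.cmap U N h.2.2.1.choose) :=
      congrArg (fun z : FormalLimFinite.sys f 𝔞 N => z.1 (n + 1)) h.2.2.1.choose_spec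
    have h3 : h.1 • LocCohSec.res N (le_iSup W h) s = LocCohSec.toSec N (W h) h.2.2.1.choose := by
      rw [show LocCohSec.res N (le_iSup W h) s = sf h from hs h]
      exact hsf h
    have h4 : h.1 • SecMap.toSecU (FormalSectU.Q f N (n + 1)) (Y (n + 1)) =
        LocCohSec.toSec (FormalSectU.Q f N (n + 1)) U ((FormalSectU.q f N (n + 1)).hom h.2.2.1.choose) :=
      (SecMap.toSecU_smul _ _ _).symm.trans ((congrArg (SecMap.toSecU _) h2).trans
        ((congrArg (SecMap.toSecU _) (GrLib8.PuncturedLC.cmap_natural U _ _)).trans (SecMap.toSecU_cmap _ _)))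
    rw [← SecMap.toSecU_ev (U := U) _ (y n)]
    exact agree (FormalSectU.q f N (n + 1)) (le_iSup W h) hV.1 h.1 le_rfl h3 h4

open AlgebraicGeometry in
/-- Let A be a Noetherian ring, f an element of an ideal 𝔞, and M a finite A-module on which f acts as a
nonzerodivisor; suppose A is complete for the f-adic topology and H^1_𝔞(M/fM) is a finite A-module.
Then, with U the complement of V(𝔞), the canonical map from the colimit of the sections of M~ over
the opens V ⊆ U containing U ∩ V(f) to the limit of the sections of (M/f^nM)~ over U is bijective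
(in the elementwise formulation of the prelude, degree-0 cohomology standing for sections). -/
theorem result (A : Type u) [CommRing A] [IsNoetherianRing A]
    (𝔞 : Ideal A) (f : A) (hf : f ∈ 𝔞) [IsAdicComplete (Ideal.span {f}) A]
    (M : Type u) [AddCommGroup M] [Module A M] [Module.Finite A M] (hreg : IsSMulRegular M f)
    (hfin : Module.Finite A (LocCoh.H 𝔞 1 (M ⧸ (Ideal.span {f} • (⊤ : Submodule A M))))) :
    Formal2.FormalCohColimBijective A (Ideal.span {f}) M 0 (LocCoh.puncturedOpen A 𝔞) := by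
  refine main 𝔞 f M hreg ?_
  haveI := hfin
  exact Module.Finite.equiv (((localCohomology 𝔞 1).mapIso (Submodule.quotEquivOfEq
    (Ideal.span {f} • (⊤ : Submodule A M)) ((Ideal.span {f}) ^ 1 • ⊤) (by rw [pow_one])).toModuleIso).toLinearEquiv)

end Groth.Agent.S0802
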