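import Groth.Statements.S0803
import Groth.Agent.Synt29.HVSect
import Groth.Agent.Synt29.FormalHigh

set_option autoImplicit false
set_option backward.isDefEq.respectTransparency false
set_option backward.isDefEq.respectTransparency.types false
set_option maxHeartbeats 1000000
set_option linter.style.haveILetI false
universe u
open Formal2

open Groth.Agent
namespace Groth.Agent.S0803

open AlgebraicGeometry in
/-- Let A be a Noetherian ring that is complete for the f-adic topology, where f lies in an ideal 𝔞, let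
M be a finite A-module and s ≥ 0, and assume H^i_𝔞(M) is annihilated by a power of f for every i ≤ s
+ 1. Then, with U the complement of V(𝔞), the canonical map H^i(U, M~) → lim_n H^i(U, (M/f^nM)~) is
bijective for every i < s. -/
theorem result (A : Type u) [CommRing A]
    [IsNoetherianRing A] (𝔞 : Ideal A) (f : A) (hf : f ∈ 𝔞) [IsAdicComplete (Ideal.span {f}) A]
    (M : Type u) [AddCommGroup M] [Module A M] [Module.Finite A M] (s : ℕ)
    (h : ∀ i : ℕ, i ≤ s + 1 → ∃ n : ℕ, ∀ x : LocCoh.H 𝔞 i M, f ^ n • x = 0) (i : ℕ) (hi : i < s) :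
    Formal2.FormalCohBijective A (Ideal.span {f}) M i (LocCoh.puncturedOpen A 𝔞) := by
  rcases i with _ | i
  swap
  · obtain ⟨e₁, he₁⟩ := h (i + 2) (by omega)
    obtain ⟨e₂, he₂⟩ := h (i + 3) (by omega)
    open Groth.Agent.Synt29 in
    obtain ⟨hinj, hsurj⟩ := FormalHigh.bijective 𝔞 f (ModuleCat.of (CommRingCat.of A) M) i (max e₁ e₂)
      (fun x => by rw [← Nat.sub_add_cancel (le_max_left e₁ e₂), pow_add, mul_smul]; exact (congrArg _ (he₁ x)).trans (smul_zero _))
      (fun x => by rw [← Nat.sub_add_cancel (le_max_right e₁ e₂), pow_add, mul_smul]; exact (congrArg _ (he₂ x)).trans (smul_zero _))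
    refine ⟨fun x x' hxx' => sub_eq_zero.1 (hinj _ fun n => ?_), fun y hy => hsurj y hy⟩
    rw [map_sub, sub_eq_zero]
    exact hxx' n
  obtain ⟨c₁, hc₁⟩ := h 1 (by omega)
  obtain ⟨c₂, hc₂⟩ := h 2 (by omega)
  open Groth.Agent.Synt29 in
  let N : ModuleCat.{u} (CommRingCat.of A) := ModuleCat.of (CommRingCat.of A) M
  haveI : Module.Finite A N := inferInstanceAs (Module.Finite A M)
  open Groth.Agent.Synt29 in
  obtain ⟨hinj, hsurj⟩ := FormalSectU.bijective_limit (f := f) 𝔞 N c₁ hc₁ c₂ hc₂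
  open Groth.Agent.Synt29 in
  have hq : ∀ (n : ℕ) (x : Formal2.HV A M 0 (LocCoh.puncturedOpen A 𝔞)),
      HVSect.ev _ (Formal2.quotPow A (Ideal.span {f}) M n)
        (Formal2.HVmap A (Formal2.quotPowπ A (Ideal.span {f}) M n) 0 _ x) =
      FormalSectU.m₀ _ (FormalSectU.q f N (n + 1)) (HVSect.ev _ M x) := fun n x =>
    HVSect.ev_natural _ (Formal2.quotPowπ A (Ideal.span {f}) M n) x
  open Groth.Agent.Synt29 in
  have hz : ∀ g : FormalSectU.Γ₀ (LocCoh.puncturedOpen A 𝔞) N,
      FormalSectU.m₀ _ (FormalSectU.q f N 0) g = FormalSectU.m₀ _ (FormalSectU.tr f N (Nat.le_succ 0))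
        (FormalSectU.m₀ _ (FormalSectU.q f N 1) g) := fun g => by
    rw [FormalSectU.m₀_comp, FormalSectU.q_tr]
  open Groth.Agent.Synt29 in
  refine ⟨fun x x' hxx' => ?_, fun y hy => ?_⟩
  · refine (HVSect.ev _ M).injective (sub_eq_zero.1 (hinj _ ?_))
    have hs : ∀ n, FormalSectU.m₀ _ (FormalSectU.q f N (n + 1)) (HVSect.ev _ M x - HVSect.ev _ M x') = 0 := fun n => by
      rw [map_sub, ← hq, ← hq, hxx' n, sub_self]
    intro i
    rcases i with _ | i
    · rw [hz, hs 0, map_zero]
    · exact hs i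
  · let y₁ : ∀ n, FormalSectU.Γ₀ (LocCoh.puncturedOpen A 𝔞) (FormalSectU.Q f N (n + 1)) := fun n =>
      HVSect.ev _ (Formal2.quotPow A (Ideal.span {f}) M n) (y n)
    let y' : ∀ i, FormalSectU.Γ₀ (LocCoh.puncturedOpen A 𝔞) (FormalSectU.Q f N i) := fun i =>
      match i with
      | 0 => FormalSectU.m₀ _ (FormalSectU.tr f N (Nat.le_succ 0)) (y₁ 0)
      | i + 1 => y₁ i
    obtain ⟨g, hg⟩ := hsurj y' fun i => by
      rcases i with _ | i
      · rfl
      · exact (HVSect.ev_natural _ (Formal2.quotPowTrans A (Ideal.span {f}) M i) (y (i + 1))).symm.trans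
          (congrArg _ (hy i))
    refine ⟨(HVSect.ev _ M).symm g, fun n => (HVSect.ev _ (Formal2.quotPow A (Ideal.span {f}) M n)).injective ?_⟩
    rw [hq, AddEquiv.apply_symm_apply]
    exact hg (n + 1)

end Groth.Agent.S0803
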