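import Groth.Statements.S0816
import Groth.Agent.QCoh.SubCompare
import Groth.Agent.QCoh.ExtendFT
import Groth.Agent.H9Misc.QCohHull
import Groth.Agent.Algz7.Restrict
import Groth.Agent.KFlatLib.Scheme.Grothendieck

set_option autoImplicit false
universe u
open CategoryTheory CategoryTheory.Limits TopologicalSpace
open Coherent

namespace Groth.Agent.S0816

open CategoryTheory AlgebraicGeometry in
/-- Let X be locally Noetherian, F and G coherent O_X-modules, U ⊆ X open and φ : F|_U → G|_U a map of
O_U-modules. Then there are a coherent submodule F' ⊆ F whose inclusion is an isomorphism over U and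
a map φ' : F' → G whose restriction to U is φ (composed with that isomorphism). -/
theorem result (X : Scheme.{u}) [IsLocallyNoetherian X] (F G : X.Modules)
    (hF : Coh.IsCoh F) (hG : Coh.IsCoh G) (U : X.Opens)
    (φ : (Scheme.Modules.restrictFunctor U.ι).obj F ⟶ (Scheme.Modules.restrictFunctor U.ι).obj G) :
    ∃ (F' : X.Modules) (ι : F' ⟶ F) (φ' : F' ⟶ G), Mono ι ∧ Coh.IsCoh F' ∧
      IsIso ((Scheme.Modules.restrictFunctor U.ι).map ι) ∧
      (Scheme.Modules.restrictFunctor U.ι).map φ' = (Scheme.Modules.restrictFunctor U.ι).map ι ≫ φ := by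
  classical
  let S₀ : ShortComplex X.Modules := ShortComplex.mk (biprod.inl : F ⟶ F ⊞ G) biprod.snd biprod.inl_snd
  have hS₀ : S₀.ShortExact := (ShortComplex.Splitting.ofHasBinaryBiproduct _ _).shortExact
  have hM : Coh.IsQCoh (F ⊞ G) := Groth.Agent.QCoh.isQCoh_X₂ hS₀ hF.1 hG.1
  let R := Scheme.Modules.restrictFunctor U.ι
  haveI : R.Additive := Functor.additive_of_preserves_binary_products _
  let i : F.restrict U.ι ⟶ (F ⊞ G).restrict U.ι := R.map biprod.inl + φ ≫ R.map biprod.inr
  have hifst : i ≫ R.map biprod.fst = 𝟙 _ := by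
    rw [Preadditive.add_comp, Category.assoc, ← R.map_comp, ← R.map_comp, biprod.inl_fst, biprod.inr_fst,
      R.map_id, R.map_zero, comp_zero, add_zero]
  have hisnd : i ≫ R.map biprod.snd = φ := by
    rw [Preadditive.add_comp, Category.assoc, ← R.map_comp, ← R.map_comp, biprod.inl_snd, biprod.inr_snd,
      R.map_id, R.map_zero, Category.comp_id, zero_add]
  haveI : Mono i := mono_of_mono_fac hifst
  have hnoeth : ∀ x : X, ∃ V : X.Opens, x ∈ V ∧ NoetherianSpace (V : Set X) := fun x => by
    obtain ⟨V, hV, hxV⟩ := Groth.Agent.QCoh.exists_affine_mem x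
    haveI : IsNoetherianRing Γ(X, V) := IsLocallyNoetherian.component_noetherian ⟨V, hV⟩
    exact ⟨V, hxV, noetherianSpace_of_isAffineOpen V hV⟩
  obtain ⟨P, i', e, hi', hPq, hPft, he⟩ := Groth.Agent.QCoh.exists_extension' hM
    (Groth.Agent.QCoh.extStep_noetherian hnoeth U) i
    (Groth.Agent.QCoh.isQCoh_restrict _ hF.1) (Groth.Agent.Algz7.isFT_restrict U.ι hF.1 hF.2)
  have hP : Coh.IsCoh P := ⟨hPq, hPft⟩
  let p : P ⟶ F := i' ≫ biprod.fst
  let q : P ⟶ G := i' ≫ biprod.snd
  have hp : R.map p = e.hom := by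
    rw [R.map_comp, ← he, Category.assoc, hifst]
    exact Category.comp_id _
  have hq : R.map q = e.hom ≫ φ := by rw [R.map_comp, ← he, Category.assoc, hisnd]
  haveI : IsIso (R.map p) := by rw [hp]; infer_instance
  have hker : IsZero (R.obj (kernel p)) := by
    have h : R.map (kernel.ι p) = 0 := zero_of_comp_mono (R.map p) (by
      rw [← R.map_comp, kernel.condition, R.map_zero])
    exact IsZero.of_mono_eq_zero _ h
  -- the hull of the kernel is supported outside `U`
  obtain ⟨H, b, -, -, -, hb, hess, hH⟩ := Groth.Agent.H9Misc.AbHull.exists_hull (Injective.ι (kernel p))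
  haveI := hb
  haveI := hH
  have hHq : Coh.IsQCoh H := Groth.Agent.H9Misc.QCohHull.isQCoh_hull
    (Groth.Agent.QCoh.isQCoh_kernel hPq hF.1 p) b hess
  have hRH : IsZero (R.obj H) := by
    have h0 : Mono (0 : R.obj H ⟶ R.obj H) := Groth.Agent.H9Misc.QCohHull.isEss_restrict U.ι b hess 0 (by
      exact ⟨fun _ _ _ => hker.eq_of_tgt _ _⟩)
    exact IsZero.of_mono_eq_zero (0 : R.obj H ⟶ R.obj H) rfl
  let s : P ⟶ H := Injective.factorThru b (kernel.ι p)
  have hs : kernel.ι p ≫ s = b := Injective.comp_factorThru b (kernel.ι p)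
  let j := kernel.ι s
  haveI : Mono (j ≫ p) := Preadditive.mono_of_cancel_zero _ fun {Q} z hz => by
    rw [← Category.assoc] at hz
    have hw : kernel.lift p (z ≫ j) hz ≫ kernel.ι p = z ≫ j := kernel.lift_ι _ _ _
    have h1 : kernel.lift p (z ≫ j) hz = 0 := zero_of_comp_mono b (by
      rw [← hs, ← Category.assoc, hw, Category.assoc, kernel.condition, comp_zero])
    exact zero_of_comp_mono j (by rw [← hw, h1, zero_comp])
  haveI : IsIso (R.map j) := by
    haveI : Epi (R.map j) := by
      have h1 : (ShortComplex.mk j s (kernel.condition s)).Exact := ShortComplex.exact_kernel s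
      exact (h1.map R).epi_f (hRH.eq_of_tgt _ _)
    exact isIso_of_mono_of_epi _
  refine ⟨kernel s, j ≫ p, j ≫ q, inferInstance,
    Groth.Agent.QCoh.isCoh_of_mono j hP (Groth.Agent.QCoh.isQCoh_kernel hPq hHq s), ?_, ?_⟩
  · exact (R.map_comp j p).symm ▸ inferInstanceAs (IsIso (R.map j ≫ R.map p))
  · show R.map (j ≫ q) = R.map (j ≫ p) ≫ φ
    rw [R.map_comp j q, R.map_comp j p, hq, hp, Category.assoc]

end Groth.Agent.S0816
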