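import Groth.Statements.S0820
import Groth.Agent.QCoh.DevissageP
import Mathlib.AlgebraicGeometry.Morphisms.Finite

set_option autoImplicit false
universe u
open Coherent

namespace Groth.Agent.S0820
set_option backward.isDefEq.respectTransparency false
set_option backward.isDefEq.respectTransparency.types false
open CategoryTheory CategoryTheory.Limits AlgebraicGeometry TopologicalSpace Opposite

open CategoryTheory AlgebraicGeometry in
/-- Let f : Y → X be finite and surjective with X locally Noetherian, and let i : Z → X be a closed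
immersion from an integral scheme, ξ the image of the generic point of Z. Then some coherent
O_Y-module F has f_* F supported exactly on i(Z), with the stalk of f_* F at ξ killed by every
element of 𝔪_{X,ξ}, the maximal ideal of O_{X,ξ}. -/
theorem result {Y X : Scheme.{u}} (f : Y ⟶ X) [IsFinite f]
    [Surjective f] [IsLocallyNoetherian X] (Z : Scheme.{u}) (i : Z ⟶ X) [IsClosedImmersion i] [IsIntegral Z] :
    ∃ F : Y.Modules, Coh.IsCoh F ∧ CohB1.support ((Coh.push f).obj F) = Set.range ⇑i ∧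
      ∀ a ∈ IsLocalRing.maximalIdeal (X.presheaf.stalk (i (genericPoint Z))),
        ∀ m : ↑(((Coh.push f).obj F).presheaf.stalk (i (genericPoint Z))), a • m = 0 := by
  let W := pullback f i
  let p : W ⟶ Y := pullback.fst f i
  let q : W ⟶ Z := pullback.snd f i
  haveI : IsLocallyNoetherian Y := LocallyOfFiniteType.isLocallyNoetherian f
  haveI : IsClosedImmersion p := MorphismProperty.pullback_fst _ _ inferInstance
  haveI : Surjective q := MorphismProperty.pullback_snd _ _ inferInstance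
  haveI : IsLocallyNoetherian W := LocallyOfFiniteType.isLocallyNoetherian p
  let F : Y.Modules := (Scheme.Modules.pushforward p).obj (Coh.structureModule W)
  have hF : Coh.IsCoh F := QCoh.isCoh_pushforward_finite p QCoh.isCoh_structureModule'
  have hG : Coh.IsQCoh ((Coh.push f).obj F) := QCoh.isQCoh_pushforward f hF.1
  have hsm : ∀ (V : X.Opens) (a : Γ(X, V)) (m : Γ((Coh.push f).obj F, V)), a • m =
      (show Γ(W, p ⁻¹ᵁ (f ⁻¹ᵁ V)) from p.app (f ⁻¹ᵁ V) (f.app V a)) • (show Γ(Coh.structureModule W, p ⁻¹ᵁ (f ⁻¹ᵁ V)) from m) :=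
    fun V a m => (QCoh.pushforward_smul f V a m).trans (QCoh.pushforward_smul p (f ⁻¹ᵁ V) (f.app V a) m)
  have hmem : ∀ (V : X.Opens) (a : Γ(X, V)) (w : W), w ∈ W.basicOpen (p.app (f ⁻¹ᵁ V) (f.app V a)) ↔ i (q w) ∈ X.basicOpen a :=
    fun V a w => by
      rw [← Scheme.preimage_basicOpen, ← Scheme.preimage_basicOpen]
      show f (p w) ∈ X.basicOpen a ↔ _
      rw [← Scheme.Hom.comp_apply, ← Scheme.Hom.comp_apply, pullback.condition]
  refine ⟨F, hF, Set.Subset.antisymm (fun x hx => ?_) ?_, fun a ha m => ?_⟩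
  · by_contra hc
    obtain ⟨V, hV, hxV, hsub⟩ := exists_isAffineOpen_mem_and_subset
      (U := (⟨(Set.range i)ᶜ, i.isClosedEmbedding.isClosed_range.isOpen_compl⟩ : X.Opens)) hc
    obtain ⟨m, hm⟩ := (QCoh.mem_support_iff hG hV hxV).1 hx
    refine hm 1 (by rw [Scheme.basicOpen_of_isUnit _ isUnit_one]; exact hxV) ?_
    haveI : Subsingleton Γ(W, p ⁻¹ᵁ (f ⁻¹ᵁ V)) := by
      have : p ⁻¹ᵁ (f ⁻¹ᵁ V) = ⊥ := bot_unique fun w hw => hsub hw ⟨q w, by
        rw [← Scheme.Hom.comp_apply, ← Scheme.Hom.comp_apply, pullback.condition]⟩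
      rw [this]; infer_instance
    exact @Subsingleton.elim Γ(W, p ⁻¹ᵁ (f ⁻¹ᵁ V)) _ _ _
  · rintro _ ⟨z, rfl⟩
    obtain ⟨V, hV, hxV, -⟩ := exists_isAffineOpen_mem_and_subset (U := (⊤ : X.Opens)) (x := i z) trivial
    refine (QCoh.mem_support_iff hG hV hxV).2 ⟨(show Γ(W, p ⁻¹ᵁ (f ⁻¹ᵁ V)) from 1), fun b hb h0 => ?_⟩
    obtain ⟨w, rfl⟩ := q.surjective z
    have h1 : p.app (f ⁻¹ᵁ V) (f.app V b) = 0 :=
      (mul_one _).symm.trans ((hsm V b _).symm.trans h0)
    have h2 := (hmem V b w).2 hb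
    rw [h1, Scheme.basicOpen_zero] at h2
    exact h2
  · obtain ⟨U₁, hx₁, m₀, rfl⟩ := TopCat.Presheaf.exists_germ_eq (C := Ab.{u}) ((Coh.push f).obj F).presheaf m
    obtain ⟨U₂, hx₂, a₀, rfl⟩ := X.presheaf.exists_germ_eq a
    let V := U₁ ⊓ U₂
    have hx : i (genericPoint Z) ∈ V := ⟨hx₁, hx₂⟩
    have e1 : X.presheaf.germ U₂ _ hx₂ a₀ = X.presheaf.germ V _ hx (X.presheaf.map (homOfLE (inf_le_right : V ≤ U₂)).op a₀) :=
      (X.presheaf.germ_res_apply _ _ _ _).symm
    have e2 : ((Coh.push f).obj F).presheaf.germ U₁ _ hx₁ m₀ = ((Coh.push f).obj F).presheaf.germ V _ hx (((Coh.push f).obj F).presheaf.map (homOfLE (inf_le_left : V ≤ U₁)).op m₀) :=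
      (TopCat.Presheaf.germ_res_apply _ (homOfLE inf_le_left) _ hx m₀).symm
    rw [e1] at ha ⊢
    rw [e2, ← QCoh.germ_smul', hsm]
    set b := X.presheaf.map (homOfLE (inf_le_right : V ≤ U₂)).op a₀
    have hib : i.app V b = 0 := by
      by_contra h
      have := (QCoh.ne_zero_iff_mem_basicOpen (i.app V b)).1 h
      rw [← Scheme.preimage_basicOpen] at this
      exact (IsLocalRing.mem_maximalIdeal _).1 ha ((X.mem_basicOpen b _ hx).1 this)
    have hpb : p.app (f ⁻¹ᵁ V) (f.app V b) = 0 := by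
      have h := Scheme.Hom.congr_app (pullback.condition (f := f) (g := i)) V
      rw [Scheme.Hom.comp_app, Scheme.Hom.comp_app] at h
      refine (congr($h b) : _).trans ?_
      show (pullback f i).presheaf.map _ (q.app _ (i.app V b)) = 0
      rw [hib, map_zero, map_zero]
    rw [show (show Γ(W, p ⁻¹ᵁ (f ⁻¹ᵁ V)) from p.app (f ⁻¹ᵁ V) (f.app V b)) = 0 from hpb]
    refine Eq.trans (congrArg _ ?_) (map_zero _)
    exact zero_smul Γ(W, p ⁻¹ᵁ (f ⁻¹ᵁ V)) _

end Groth.Agent.S0820
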