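import Groth.Statements.S0822
import Groth.Agent.Synt29.LFFinite
import Groth.Agent.Algz7.Extend
import Groth.Agent.Algz7.Algebraize
import Groth.Agent.Algz7.Canon2.Sect

set_option autoImplicit false
universe u
open Formal2

set_option linter.style.haveILetI false
set_option linter.unusedSectionVars false
set_option backward.isDefEq.respectTransparency false
set_option backward.isDefEq.respectTransparency.types false
set_option maxHeartbeats 1000000
open CategoryTheory CategoryTheory.Limits AlgebraicGeometry Opposite TopologicalSpace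
open Groth.Agent Groth.Agent.Synt29 Groth.Agent.LocCohDepth.Punct

namespace Groth.Agent.S0822

/-- A module killed by `J` is its own reduction. -/
theorem exists_modPowOne {A : Type u} [CommRing A] {X : Scheme.{u}} [X.Over (Spec (CommRingCat.of A))] (I : Ideal A)
    (M : X.Modules) (hM : Formal.KilledBy (I ^ 1) M) : Nonempty (Formal.modPow I 1 M ≅ M) := by
  have h0 : Formal.smulFamily (I ^ 1) M = 0 := Sigma.hom_ext _ _ fun a => by
    rw [Formal.smulFamily, Sigma.ι_desc, hM _ a.2, comp_zero]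
  exact ⟨cokernelIsoOfEq h0 ≪≫ cokernelZeroIsoTarget⟩

theorem finite_base {A : Type u} [CommRing A] [IsNoetherianRing A] (𝔞 : Ideal A) (J : Ideal A)
    (h₁ : Module.Finite A (LocCoh.H 𝔞 1 (A ⧸ J))) (h₂ : Module.Finite A (LocCoh.H 𝔞 2 (A ⧸ J))) :
    Module.Finite A (Coh.HH (LocCoh.puncturedOpen A 𝔞 : Scheme.{u})
        ((G (LocCoh.puncturedOpen A 𝔞)).obj (ModuleCat.of (CommRingCat.of A) (A ⧸ J))) 0) ∧
      Module.Finite A (Coh.HH (LocCoh.puncturedOpen A 𝔞 : Scheme.{u})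
        ((G (LocCoh.puncturedOpen A 𝔞)).obj (ModuleCat.of (CommRingCat.of A) (A ⧸ J))) 1) := by
  let Q : ModuleCat.{u} (CommRingCat.of A) := ModuleCat.of (CommRingCat.of A) (A ⧸ J)
  constructor
  · obtain ⟨e⟩ := GrLib8.PuncturedLC.nonempty_H1 𝔞 Q
    haveI : Module.Finite A ((localCohomology 𝔞 1).obj Q) := h₁
    haveI := Module.Finite.equiv e.symm
    haveI : Module.Finite A Q := inferInstanceAs (Module.Finite A (A ⧸ J))
    exact Module.Finite.of_submodule_quotient (LinearMap.range (GrLib8.PuncturedLC.cmap (LocCoh.puncturedOpen A 𝔞) Q))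
  · obtain ⟨e⟩ := GrLib8.PuncturedLC.nonempty_HH_succ 𝔞 0 Q
    haveI : Module.Finite A ((localCohomology 𝔞 2).obj Q) := h₂
    exact Module.Finite.equiv e.symm

open CategoryTheory AlgebraicGeometry Opposite in
/-- In the form of its final sentence (A complete). Let A be a Noetherian ring, 𝔞 an ideal, f ∈ 𝔞 a
nonzerodivisor with A f-adically complete, and suppose H^1_𝔞(A/fA) and H^2_𝔞(A/fA) are finite
A-modules. Let U = Spec A ∖ V(𝔞) and let (F_n) be a coherent formal module on U for the ideal (f)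
(indices shifted by one) with each F_n finite locally free over O_U/f^nO_U. Then (F_n) is isomorphic
to the system (F/f^nF) of a coherent O_U-module F. -/
theorem result (A : Type u) [CommRing A] [IsNoetherianRing A]
    (𝔞 : Ideal A) (f : A) (hf : f ∈ 𝔞) (hnzd : f ∈ nonZeroDivisors A) [IsAdicComplete (Ideal.span {f}) A]
    (h₁ : Module.Finite A (LocCoh.H 𝔞 1 (A ⧸ Ideal.span {f})))
    (h₂ : Module.Finite A (LocCoh.H 𝔞 2 (A ⧸ Ideal.span {f})))
    (G : ℕᵒᵖ ⥤ (↑(LocCoh.puncturedOpen A 𝔞) : Scheme.{u}).Modules) (hG : Formal.IsCohFormal (Ideal.span {f}) G)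
    (hfree : ∀ n : ℕ, Formal2.IsFinLocFreeMod (Ideal.span {f}) (n + 1) (G.obj (op n))) :
    ∃ F : (↑(LocCoh.puncturedOpen A 𝔞) : Scheme.{u}).Modules, Coh.IsCoh F ∧
      Nonempty (Formal.completion (Ideal.span {f}) F ≅ G) := by
  let I := Ideal.span {f}
  let U := LocCoh.puncturedOpen A 𝔞
  have hreg : ∀ x : A, f * x = 0 → x = 0 := fun x hx => hnzd.1 x hx
  obtain ⟨N, _, _, _, ⟨u⟩⟩ := GrLib8.PuncturedLC.exists_finite 𝔞 (G.obj (op 0)) (hG.1 0)
  let N₁ : ModuleCat.{u} (CommRingCat.of A) := FormalSectU.Q f (ModuleCat.of (CommRingCat.of A) N) 1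
  obtain ⟨c, -⟩ := FormalSectO.exists_quotIso f U u 1
  obtain ⟨c₀⟩ := exists_modPowOne I (G.obj (op 0)) (hG.2.1 0)
  let u₁ : G.obj (op 0) ≅ (LocCohDepth.Punct.G U).obj N₁ := c₀.symm ≪≫ c
  haveI : Module.Finite A N₁ := inferInstanceAs (Module.Finite A (N ⧸ ((Ideal.span {f}) ^ 1 • ⊤ : Submodule A N)))
  have hsp : LFFinite.Split I 𝔞 N₁ := LFFinite.split_of_forall I 𝔞 N₁ fun p hp hpa => by
    let y : (U : Scheme.{u}) := ⟨⟨p, hp⟩, hpa⟩
    obtain ⟨V, r, hyV, ⟨e⟩⟩ := hfree 0 y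
    obtain ⟨e'⟩ := PrincipalSplit.exists_modPowIso f U r 1
    let Qr := FormalSectU.Q f (PrincipalSplit.P A r) 1
    let R := Scheme.Modules.restrictFunctor V.ι
    let η : R.obj ((LocCohDepth.Punct.G U).obj N₁) ≅ R.obj ((LocCohDepth.Punct.G U).obj Qr) :=
      R.mapIso u₁.symm ≪≫ e ≪≫ R.mapIso e'
    obtain ⟨_, ⟨g, rfl⟩, hgp, hgV⟩ :=
      PrimeSpectrum.isTopologicalBasis_basic_opens.exists_subset_of_mem_open
        (show (⟨p, hp⟩ : Spec (CommRingCat.of A)) ∈ U.ι ''ᵁ V from ⟨y, hyV, rfl⟩) (U.ι ''ᵁ V).2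
    have hO : U.ι ''ᵁ (V.ι ''ᵁ (V.ι ⁻¹ᵁ (U.ι ⁻¹ᵁ (PrimeSpectrum.basicOpen g : (Spec (CommRingCat.of A)).Opens)))) =
        PrimeSpectrum.basicOpen g := by
      refine le_antisymm ?_ fun x hx => ?_
      · rintro _ ⟨_, ⟨z, hz, rfl⟩, rfl⟩
        exact hz
      · obtain ⟨w, hw, rfl⟩ := hgV hx
        exact ⟨w, ⟨⟨w, hw⟩, hx, rfl⟩, rfl⟩
    obtain ⟨l⟩ := LFFinite.exists_linearMap V η _ _ hO
    haveI : IsNoetherianRing (CommRingCat.of A) := inferInstanceAs (IsNoetherianRing A)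
    haveI : Module.Finite (CommRingCat.of A) N₁ := inferInstanceAs (Module.Finite A N₁)
    haveI : Module.Finite (CommRingCat.of A) Qr :=
      inferInstanceAs (Module.Finite A ((ULift.{u} (Fin r) →₀ A) ⧸ ((Ideal.span {f}) ^ 1 • ⊤ : Submodule A _)))
    haveI := Module.finitePresentation_of_finite (CommRingCat.of A) N₁
    haveI := Module.finitePresentation_of_finite (CommRingCat.of A) Qr
    obtain ⟨i, q, d, hd⟩ := LFFinite.exists_fac (N := N₁) (Q := Qr) g l
    obtain ⟨ε⟩ := LFFinite.exists_freeQuot f r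
    refine ⟨g ^ d, ⟨Fin r, inferInstance, ε.toLinearMap.comp i, LinearMap.comp q ε.symm.toLinearMap, ?_⟩,
      fun hc => hgp (hp.mem_of_pow_mem _ hc)⟩
    refine LinearMap.ext fun x => ?_
    show q (ε.symm (ε (i x))) = _
    rw [LinearEquiv.symm_apply_apply]
    exact LinearMap.congr_fun hd x
  obtain ⟨hb0, hb1⟩ := finite_base 𝔞 I h₁ h₂
  obtain ⟨hf0, hf1⟩ := LFFinite.finite_HH 𝔞 I hsp hb0 hb1
  have hcan := Algz7.Canon2.canonicallyExtends_of_split U I hG (fun _ : Fin 1 => f)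
    (fun _ => Ideal.mem_span_singleton_self f) (PrincipalSplit.hsplit f G hreg hG hfree)
    (Module.Finite.equiv (GrLib8.PuncturedLC.mapEquiv u₁ 0).symm)
    (Module.Finite.equiv (GrLib8.PuncturedLC.mapEquiv u₁ 1).symm)
  exact Algz7.exists_completion_iso_of_extends U G (Algz7.extends_of_canonicallyExtends I U G hG hcan)

end Groth.Agent.S0822
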