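import Groth.Statements.S0824
import Groth.Agent.AmpleVan.AffineCrit

set_option autoImplicit false
universe u
open Coherent

namespace Groth.Agent.S0824
open scoped Groth.Agent.H23.PicMul


open CategoryTheory AlgebraicGeometry in
/-- Let X be a scheme with an ample invertible module L, and let L' be an inverse of L (L ⊗ L' ≅ O_X).
If there is n₀ such that H^p(X, L'^n) = 0 for all n ≥ n₀ and all p > 0, then X is affine. -/
theorem result (X : Scheme.{u}) (L L' : X.Modules)
    (hL : CohB1.IsAmple L) (hinv : Nonempty (CohB1.tensorMod L L' ≅ Coh.structureModule X)) (n₀ : ℕ)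
    (h : ∀ n : ℕ, n₀ ≤ n → ∀ p : ℕ, 0 < p → Subsingleton (Coh.HH X (CohB1.tensorPow L' n) p)) :
    IsAffine X := by
  have hmul : PicF.cl L * PicF.cl L' = 1 := by
    rw [← Groth.Agent.H23.PicMul.cl_tensor, Groth.Agent.H23.PicMul.one_def]
    exact Groth.Agent.H23.PicMul.cl_eq_iff.2 hinv
  obtain ⟨D, hD, ⟨e⟩⟩ := Groth.Agent.H23.PicInv.exists_inverse hL.1
  have hDmul : PicF.cl L * PicF.cl D = 1 := by
    rw [← Groth.Agent.H23.PicMul.cl_tensor, Groth.Agent.H23.PicMul.one_def]
    exact Groth.Agent.H23.PicMul.cl_eq_iff.2 ⟨e⟩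
  obtain ⟨φ⟩ : Nonempty (D ≅ L') := Groth.Agent.H23.PicMul.cl_eq_iff.1
    ((Groth.Agent.H23.PicMul.isUnit_cl hL.1).mul_left_cancel (hDmul.trans hmul.symm))
  exact Groth.Agent.AmpleVan.isAffine_of_antiAmple hL (Groth.Agent.H23.PicMul.isInvertible_of_iso φ hD) hmul
    fun n hn p => h n hn (p + 1) (Nat.succ_pos p)

end Groth.Agent.S0824
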