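import Groth.Statements.S0827
import Groth.Agent.Synt29.QSysLim

set_option autoImplicit false
set_option linter.style.haveILetI false
set_option backward.isDefEq.respectTransparency false
set_option backward.isDefEq.respectTransparency.types false
set_option maxHeartbeats 1000000
universe u
open Formal2

namespace Groth.Agent.S0827

open CategoryTheory CategoryTheory.Limits AlgebraicGeometry Opposite in
/-- Part (3), for the ideal sheaf generated by an ideal I of a base ring A. Let X be a scheme over Spec
A and (G_n) an inverse system of quasi-coherent O_X-modules with G_n killed by I^(n+1) and G_n =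
G_{n+1}/I^(n+1)G_{n+1}. Then for every p there is a short exact sequence 0 → R^1 lim_n H^p(X, G_n) →
H^(p+1)(X, lim G_n) → lim_n H^(p+1)(X, G_n) → 0 of abelian groups, the second map being induced by
the projections lim G_n → G_n (the degree-0 statement is not restated). -/
theorem result (A : Type u) [CommRing A] (I : Ideal A) (X : Scheme.{u})
    [X.Over (Spec (CommRingCat.of A))] (G : ℕᵒᵖ ⥤ X.Modules) (hG : Formal2.IsQCohFormal I G) (p : ℕ) :
    ∃ (α : Formal2.limOne (fun n => Coh.HH X (G.obj (op n)) p) (Formal2.HHsysMap G p) →+
        Coh.HH X (limit G) (p + 1))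
      (β : Coh.HH X (limit G) (p + 1) →+
        Formal2.limZero (fun n => Coh.HH X (G.obj (op n)) (p + 1)) (Formal2.HHsysMap G (p + 1))),
      Function.Injective α ∧ Function.Surjective β ∧ α.range = β.ker ∧
      ∀ (x : Coh.HH X (limit G) (p + 1)) (n : ℕ),
        (β x : ∀ n, Coh.HH X (G.obj (op n)) (p + 1)) n =
          Sheaf.H.map ((SheafOfModules.toSheaf _).map (limit.π G (op n))) (p + 1) x := by
  exact Groth.Agent.Synt29.QSysLim.exists_milnor G hG.1 (Groth.Agent.Synt29.QSysLim.epi_tr hG) p

end Groth.Agent.S0827
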