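import Groth.Statements.S0828
import Groth.Agent.H9Misc.CMFree
import Groth.Agent.QCoh.LocFree
import Groth.Agent.QCoh.DevissageP
import Groth.Agent.KZ.LFRes
import Groth.Agent.RegLoc6.Basic

set_option autoImplicit false
set_option linter.style.haveILetI false
set_option backward.isDefEq.respectTransparency false
set_option backward.isDefEq.respectTransparency.types false
universe u
open Coherent

namespace Groth.Agent.S0828

open CategoryTheory AlgebraicGeometry TopologicalSpace in
theorem exists_affine_le {X : Scheme.{u}} {U : X.Opens} {x : X} (hx : x ∈ U) :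
    ∃ V : X.Opens, IsAffineOpen V ∧ x ∈ V ∧ V ≤ U := by
  obtain ⟨_, ⟨V, hV, rfl⟩, hxV, hle⟩ := X.isBasis_affineOpens.exists_subset_of_mem_open hx U.2
  exact ⟨V, hV, hxV, hle⟩

open CategoryTheory AlgebraicGeometry in
theorem annihilator_stalk_eq_bot {X : Scheme.{u}} {M : X.Modules} (hM : Coh.IsQCoh M)
    (hsupp : CohB1.support M = Set.univ) (x : X) [IsDomain (X.presheaf.stalk x)] :
    Module.annihilator (X.presheaf.stalk x) (M.presheaf.stalk x) = ⊥ := by
  rw [eq_bot_iff]
  intro r hr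
  by_contra hr0
  obtain ⟨V, hV, hx⟩ := QCoh.exists_affine_mem x
  let g := (X.presheaf.germ V x hx).hom
  let P : PrimeSpectrum Γ(X, V) := PrimeSpectrum.comap g (⊥ : PrimeSpectrum (X.presheaf.stalk x))
  obtain ⟨y, hy, hyP⟩ := QCoh.exists_point hV P
  refine ((QCoh.notMem_support_iff hM hV hy).2 fun w => ?_) (hsupp.ge (Set.mem_univ y))
  letI := QCoh.stalkAlg (X := X) hx
  letI := QCoh.stalkModule M hx
  haveI := QCoh.isScalarTower_stalk M hx
  haveI := QCoh.isLocalization_stalk' hV hx
  haveI := QCoh.isLocalizedModule_germLin hM hV hx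
  obtain ⟨⟨a, s⟩, has⟩ := IsLocalization.surj (hV.primeIdealOf ⟨x, hx⟩).asIdeal.primeCompl r
  replace has : r * g (s : Γ(X, V)) = g a := has
  have hga : g a ≠ 0 := by
    rw [← has]
    exact mul_ne_zero hr0 (IsUnit.ne_zero
      ((X.mem_basicOpen _ x hx).1 ((QCoh.mem_basicOpen_iff_notMem hV hx _).2 s.2)))
  have h0 : QCoh.germLin M hx (a • w) = 0 := by
    rw [map_smul]
    show g a • QCoh.germLin M hx w = 0
    rw [← has, mul_comm, mul_smul, Module.mem_annihilator.1 hr, smul_zero]
  obtain ⟨c, hc⟩ := (IsLocalizedModule.eq_zero_iff (hV.primeIdealOf ⟨x, hx⟩).asIdeal.primeCompl _).1 h0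
  refine ⟨c * a, (QCoh.mem_basicOpen_iff_notMem hV hy _).2 ?_, (mul_smul _ _ _).trans hc⟩
  rw [hyP]
  show g (c * a) ∉ (⊥ : Ideal (X.presheaf.stalk x))
  rw [Ideal.mem_bot, map_mul]
  exact mul_ne_zero (IsUnit.ne_zero
    ((X.mem_basicOpen _ x hx).1 ((QCoh.mem_basicOpen_iff_notMem hV hx _).2 c.2))) hga

open CategoryTheory AlgebraicGeometry in
/-- Let X be a regular scheme (locally Noetherian with regular local rings) and F a coherent O_X-module.
Then F has support all of X and Cohen–Macaulay stalks if and only if F is finite locally free of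
positive rank near every point. -/
theorem result (X : Scheme.{u}) [IsLocallyNoetherian X]
    (hreg : ∀ x : X, IsRegularLocalRing (X.presheaf.stalk x)) (F : X.Modules) (hF : Coh.IsCoh F) :
    (CohB1.support F = Set.univ ∧
        ∀ x : X, LocCoh.IsCohenMacaulayModule (X.presheaf.stalk x) ↑(F.presheaf.stalk x)) ↔
      ∀ x : X, ∃ (U : X.Opens) (n : ℕ), x ∈ U ∧ 0 < n ∧
        Nonempty (F.restrict U.ι ≅ FlatMod.freeMod (↑U) n) := by
  constructor
  · rintro ⟨hsupp, hCM⟩ x
    haveI := hreg x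
    haveI := RegLoc6.isDomain_of_isRegularLocalRing (X.presheaf.stalk x)
    haveI : Module.Finite (X.presheaf.stalk x) (F.presheaf.stalk x) := QCoh.finite_stalk_of_isFT hF.1 hF.2 x
    haveI : Nontrivial (F.presheaf.stalk x) := not_subsingleton_iff_nontrivial.1 (hsupp.ge (Set.mem_univ x))
    haveI : Module.Free (X.presheaf.stalk x) (F.presheaf.stalk x) :=
      H9Misc.CMFree.free_of_isCM (annihilator_stalk_eq_bot hF.1 hsupp x) (hCM x)
    obtain ⟨U, n, hxU, ⟨e⟩⟩ := QCoh.exists_free_nhd_of_free_stalk (KZ.LFRes.isFP_of_isCoh hF) x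
    refine ⟨U, n, hxU, ?_, ⟨e⟩⟩
    obtain ⟨V, hV, hxV, hVU⟩ := exists_affine_le hxU
    obtain ⟨l⟩ := QCoh.free_sections hV hVU e
    rw [← QCoh.finrank_stalk_of_freeChart hV hF.1 l hxV]
    exact Module.finrank_pos
  · intro h
    have hlf : FlatMod.IsFinLocFree F := fun x =>
      let ⟨U, n, hx, _, he⟩ := h x
      ⟨U, n, hx, he⟩
    have hnt : ∀ x : X, Nontrivial (F.presheaf.stalk x) := fun x => by
      obtain ⟨U, n, hxU, hn, ⟨e⟩⟩ := h x
      obtain ⟨V, hV, hxV, hVU⟩ := exists_affine_le hxU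
      obtain ⟨l⟩ := QCoh.free_sections hV hVU e
      refine Module.nontrivial_of_finrank_pos (R := X.presheaf.stalk x) ?_
      rwa [QCoh.finrank_stalk_of_freeChart hV hF.1 l hxV]
    refine ⟨Set.eq_univ_of_forall fun x => not_subsingleton_iff_nontrivial.2 (hnt x), fun x => ?_⟩
    haveI := hreg x
    haveI := RegLoc6.isDomain_of_isRegularLocalRing (X.presheaf.stalk x)
    haveI := hnt x
    haveI : Module.Finite (X.presheaf.stalk x) (F.presheaf.stalk x) := QCoh.finite_stalk_of_isFT hF.1 hF.2 x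
    haveI := QCoh.free_stalk_of_isFinLocFree hlf x
    exact H9Misc.CMFree.isCM_of_free

end Groth.Agent.S0828
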