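import Groth.Statements.S0832
import Groth.Agent.Algz7.Completion
import Groth.Agent.Algz7.CohFormal

set_option autoImplicit false
universe u
open Formal2

set_option backward.isDefEq.respectTransparency false
set_option backward.isDefEq.respectTransparency.types false

namespace Groth.Agent.S0832
section
open CategoryTheory CategoryTheory.Limits AlgebraicGeometry Opposite

variable {A : Type u} [CommRing A] {I : Ideal A} {X : Scheme.{u}} [X.Over (Spec (CommRingCat.of A))]
  {F : ℕᵒᵖ ⥤ X.Modules}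

theorem isQuot_tr (hF : Formal.IsCohFormal I F) {n q : ℕ} (h : n ≤ q) :
    Groth.Agent.Algz7.IsQuot (I ^ (n + 1)) (ARSys.tr F h) := by
  haveI := Groth.Agent.Algz7.epi_tr hF h
  refine Groth.Agent.Algz7.IsQuot.mk' _ (hF.2.1 n) fun {P} φ hφ => ?_
  obtain ⟨ψ, hψ⟩ := Groth.Agent.Algz7.factor hF h
    (Groth.Agent.Algz7.killedBy_of_isQuot (Groth.Agent.Algz7.isQuot_modPowπ I (n + 1) (F.obj (op q))))
    (Formal.modPowπ I (n + 1) (F.obj (op q)))
  exact ⟨ψ ≫ cokernel.desc _ φ hφ, (Category.assoc _ _ _).symm.trans ((congrArg (· ≫ cokernel.desc _ φ hφ) hψ).trans (cokernel.π_desc _ _ _))⟩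

theorem isIso_tr (hF : Formal.IsCohFormal I F) {c : ℕ} (hc : ∀ n : ℕ, Formal.KilledBy (I ^ c) (F.obj (op n)))
    {n q : ℕ} (h : n ≤ q) (hn : c ≤ n + 1) : IsIso (ARSys.tr F h) := by
  haveI := Groth.Agent.Algz7.epi_tr hF h
  obtain ⟨ψ, hψ⟩ := Groth.Agent.Algz7.factor hF h
    (fun a ha => hc q a (Ideal.pow_le_pow_right hn ha)) (𝟙 (F.obj (op q)))
  exact ⟨ψ, hψ, by rw [← cancel_epi (ARSys.tr F h), ← Category.assoc, hψ, Category.id_comp, Category.comp_id]⟩

end


open CategoryTheory CategoryTheory.Limits AlgebraicGeometry Opposite in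
/-- First assertion, for the ideal sheaf I·O_X of an ideal I of a base ring A. Let X be a Noetherian
scheme over Spec A and (F_n) a coherent formal module for I such that some fixed power I^c
annihilates every F_n. Then (F_n) is isomorphic to the system (M/I^nM) of a coherent O_X-module M. -/
theorem result (A : Type u) [CommRing A] (I : Ideal A) (X : Scheme.{u})
    [X.Over (Spec (CommRingCat.of A))] [IsNoetherian X] (F : ℕᵒᵖ ⥤ X.Modules) (hF : Formal.IsCohFormal I F)
    (hc : ∃ c : ℕ, ∀ n : ℕ, Formal.KilledBy (I ^ c) (F.obj (op n))) :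
    ∃ M : X.Modules, Coh.IsCoh M ∧ Nonempty (Formal.completion I M ≅ F) := by
  obtain ⟨c, hc⟩ := hc
  haveI hiso := fun n => isIso_tr hF hc (Nat.le_add_right c n) (Nat.le_succ c)
  let p : ∀ n, F.obj (op c) ⟶ F.obj (op n) := fun n =>
    inv (ARSys.tr F (Nat.le_add_right c n)) ≫ ARSys.tr F (Nat.le_add_left n c)
  have hp : ∀ n, Groth.Agent.Algz7.IsQuot (I ^ (n + 1)) (p n) := fun n => by
    have h1 := isQuot_tr hF (Nat.le_add_left n c)
    haveI := h1.epi
    haveI : Epi (p n) := epi_comp _ _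
    refine Groth.Agent.Algz7.IsQuot.mk' _ (hF.2.1 n) fun {P} φ hφ => ?_
    obtain ⟨ψ, hψ⟩ := h1.desc (ARSys.tr F (Nat.le_add_right c n) ≫ φ) (by
      refine Sigma.hom_ext _ _ fun a => ?_
      rw [comp_zero, Formal.smulFamily, Sigma.ι_desc_assoc, ← Category.assoc,
        Groth.Agent.Algz7.smulMod_naturality, Category.assoc, Groth.Agent.Algz7.smulMod_comp_eq_zero hφ a.2, comp_zero])
    exact ⟨ψ, by rw [Category.assoc, hψ, IsIso.inv_hom_id_assoc]⟩
  have hp' : ∀ n, p (n + 1) ≫ F.map (homOfLE (Nat.le_succ n)).op = p n := fun n => by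
    show (inv (ARSys.tr F (Nat.le_add_right c (n + 1))) ≫ ARSys.tr F (Nat.le_add_left (n + 1) c)) ≫ ARSys.tr F (Nat.le_succ n) = _
    rw [Category.assoc, Groth.Agent.Algz7.tr_trans, IsIso.inv_comp_eq]
    have h2 : ARSys.tr F (Nat.le_add_right c (n + 1)) = ARSys.tr F (Nat.le_succ (c + n)) ≫ ARSys.tr F (Nat.le_add_right c n) :=
      (Groth.Agent.Algz7.tr_trans F (Nat.le_add_right c n) (Nat.le_succ (c + n))).symm
    rw [h2, Category.assoc, IsIso.hom_inv_id_assoc]
    exact (Groth.Agent.Algz7.tr_trans F (Nat.le_add_left n c) (Nat.le_succ (c + n))).symm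
  refine ⟨F.obj (op c), hF.1 c, ?_⟩
  exact Groth.Agent.Algz7.nonempty_iso_of_isQuot (P := Formal.completion I (F.obj (op c))) (Q := F) (Iso.refl _)
    (fun n => Formal.modPowπ I (n + 1) (F.obj (op c))) p
    (fun n => Groth.Agent.Algz7.isQuot_modPowπ I (n + 1) _) hp
    (fun n => by rw [Groth.Agent.Algz7.completion_map_succ]; exact Formal.modPowπ_trans I (n + 1) _) hp'

end Groth.Agent.S0832
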