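import Groth.Statements.S0833
import Groth.Agent.SheafHomX.Extra

set_option autoImplicit false
universe u
open Formal2

namespace Groth.Agent.S0833

open CategoryTheory AlgebraicGeometry Opposite in
/-- The assertion on homomorphisms, for the ideal sheaf I·O_X of an ideal I of a base ring A. Let X be a
Noetherian scheme over Spec A and F, G coherent O_X-modules one of which is annihilated by a power
of I. Then every map of systems (F/I^nF) → (G/I^nG) is induced by exactly one map F → G. (The
assertion on Ext groups is not stated.) -/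
theorem result (A : Type u) [CommRing A] (I : Ideal A) (X : Scheme.{u})
    [X.Over (Spec (CommRingCat.of A))] [IsNoetherian X] (F G : X.Modules) (hF : Coh.IsCoh F) (hG : Coh.IsCoh G)
    (hc : ∃ c : ℕ, Formal.KilledBy (I ^ c) F ∨ Formal.KilledBy (I ^ c) G)
    (ψ : Formal.completion I F ⟶ Formal.completion I G) :
    ∃! φ : F ⟶ G, ∀ n : ℕ, Formal.modPowπ I (n + 1) F ≫ ψ.app (op n) = φ ≫ Formal.modPowπ I (n + 1) G := by
  obtain ⟨c, hc⟩ := hc
  exact Groth.Agent.SheafHomX.existsUnique_of_bijective I hF hG
    (Groth.Agent.SheafHomX.bijective_toHHlim_of_killedBy (Groth.Agent.SheafHomX.killedBy_hom hc) 0) ψ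

end Groth.Agent.S0833
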