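import Groth.Statements.S0838
import Groth.Agent.H9Misc.GodBCCoef

set_option autoImplicit false
universe u
open Coherent

namespace Groth.Agent.S0838
open Groth.Agent Groth.Agent.H9Misc
set_option maxHeartbeats 1000000
set_option backward.isDefEq.respectTransparency false

open CategoryTheory CategoryTheory.Limits AlgebraicGeometry in
/-- Consider a cartesian square X' = X ×_S S' with projections g' : X' → X and f' : X' → S', where f : X
→ S is quasi-compact and quasi-separated. Let F be a quasi-coherent O_X-module and G a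
quasi-coherent O_{S'}-module which is flat over S. Then for every i the O_{S'}-modules G ⊗ g^* R^i
f_* F and R^i f'_* (f'^* G ⊗ g'^* F) are isomorphic. (Carries the existence of injective resolutions
of O-modules as instance arguments; only the existence of an isomorphism is asserted.) -/
theorem result {X S X' S' : Scheme.{u}} (f : X ⟶ S)
    [QuasiCompact f] [QuasiSeparated f] (g : S' ⟶ S) (g' : X' ⟶ X) (f' : X' ⟶ S') (sq : IsPullback g' f' f g)
    [HasInjectiveResolutions X.Modules] [HasInjectiveResolutions X'.Modules]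
    (F : X.Modules) (hF : Coh.IsQCoh F) (G : S'.Modules) (hG : Coh.IsQCoh G) (hGf : FlatMod.IsFlatOver g G) (i : ℕ) :
    Nonempty (CohB1.tensorMod G ((Scheme.Modules.pullback g).obj ((Coh.Rpush f i).obj F)) ≅
      (Coh.Rpush f' i).obj (CohB1.tensorMod ((Scheme.Modules.pullback f').obj G) ((Scheme.Modules.pullback g').obj F))) := by
  haveI : QuasiCompact f' := MorphismProperty.of_isPullback sq inferInstance
  haveI : QuasiSeparated f' := MorphismProperty.of_isPullback sq inferInstance
  let M := GodProj.coef f' G ((Scheme.Modules.pullback g').obj F)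
  obtain ⟨c, -, hc⟩ := FlatBCQ.exists_iso_Rpush f F
  obtain ⟨c', -, hc'⟩ := FlatBCQ.exists_iso_Rpush f' M
  haveI := hc i
  haveI := hc' i
  let a : (FlatBCQ.pcx f F).homology i ≅ (Coh.Rpush f i).obj F :=
    asIso (HomologicalComplex.homologyMap (((Scheme.Modules.pushforward f).mapHomologicalComplex _).map c) i) ≪≫
      ((injectiveResolution F).isoRightDerivedObj (Scheme.Modules.pushforward f) i).symm
  let a' : (FlatBCQ.pcx f' M).homology i ≅ (Coh.Rpush f' i).obj M :=
    asIso (HomologicalComplex.homologyMap (((Scheme.Modules.pushforward f').mapHomologicalComplex _).map c') i) ≪≫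
      ((injectiveResolution M).isoRightDerivedObj (Scheme.Modules.pushforward f') i).symm
  have hH : Coh.IsQCoh ((FlatBCQ.pcx f F).homology i) :=
    (QCoh.isQCoh_iff_iso a).2 (QCoh.isQCoh_Rpush f hF i)
  haveI : IsIso (GodProj.bcMap f F f' g g' sq.w G i) := by
    refine QCoh.isIso_of_isBasis _ (B := {W | IsAffineOpen W ∧ ∃ U : S.Opens, IsAffineOpen U ∧ W ≤ g ⁻¹ᵁ U}) ?_ ?_
    · refine TopologicalSpace.Opens.isBasis_iff_nbhd.2 fun {V} x hx => ?_
      obtain ⟨_, ⟨U, hU, rfl⟩, hxU, -⟩ :=
        S.isBasis_affineOpens.exists_subset_of_mem_open (Set.mem_univ (g x)) isOpen_univ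
      obtain ⟨_, ⟨W, hW, rfl⟩, hxW, hWle⟩ := S'.isBasis_affineOpens.exists_subset_of_mem_open
        (show x ∈ V ⊓ g ⁻¹ᵁ U from ⟨hx, hxU⟩) (V ⊓ g ⁻¹ᵁ U).isOpen
      exact ⟨W, ⟨hW, U, hU, fun y hy => (hWle hy).2⟩, hxW, fun y hy => (hWle hy).1⟩
    · rintro W ⟨hW, U, hU, hle⟩
      exact GodBCCoef.bijective_bcMap_app f g f' g' sq F G hF hG hGf i hH hU hW hle
  exact ⟨(DCoh.tensorBi.obj G).mapIso ((Scheme.Modules.pullback g).mapIso a.symm) ≪≫
    asIso (GodProj.bcMap f F f' g g' sq.w G i) ≪≫ a'⟩

end Groth.Agent.S0838
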