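import Groth.Statements.S0840
import Groth.Agent.SheafHomX.Extra

set_option autoImplicit false
universe u
open Formal2

namespace Groth.Agent.S0840

open CategoryTheory AlgebraicGeometry Opposite in
/-- Let A be a ring, I ⊆ A an ideal and X a Noetherian scheme over Spec A such that for every finite
locally free O_X-module E the canonical map H^0(X, E) → lim_n H^0(X, E/I^(n+1)E) is bijective. Then
for all finite locally free O_X-modules E and E', every map of inverse systems ψ : (E/I^(n+1)E)_n →
(E'/I^(n+1)E')_n is induced by exactly one map φ : E → E', in the sense that for every n the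
projection E → E/I^(n+1)E followed by ψ_n equals φ followed by the projection E' → E'/I^(n+1)E'.
(The published statement also asserts the converse implication, which is not stated here.) -/
theorem result (A : Type u) [CommRing A] (I : Ideal A) (X : Scheme.{u})
    [X.Over (Spec (CommRingCat.of A))] [IsNoetherian X]
    (h : ∀ E : X.Modules, FlatMod.IsFinLocFree E → Function.Bijective (Formal.toHHlim I E 0))
    (E E' : X.Modules) (hE : FlatMod.IsFinLocFree E) (hE' : FlatMod.IsFinLocFree E')
    (ψ : Formal.completion I E ⟶ Formal.completion I E') :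
    ∃! φ : E ⟶ E', ∀ n : ℕ, Formal.modPowπ I (n + 1) E ≫ ψ.app (op n) = φ ≫ Formal.modPowπ I (n + 1) E' := by
  exact Groth.Agent.SheafHomX.existsUnique_of_bijective I (Groth.Agent.QCoh.isCoh_iff_isFP.2 (Groth.Agent.QCoh.isFP_of_isFinLocFree hE))
    (Groth.Agent.QCoh.isCoh_iff_isFP.2 (Groth.Agent.QCoh.isFP_of_isFinLocFree hE')) (h _ (Groth.Agent.SheafHomX.isFinLocFree_hom hE hE')) ψ

end Groth.Agent.S0840
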