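import Groth.Statements.S0841
import Groth.Agent.Synt29.LFFinite
import Groth.Agent.Synt29.SecMap
import Groth.Agent.Algz7.Extend
import Groth.Agent.Algz7.Canonical
import Groth.Agent.Algz7.Canon2.Sect

set_option autoImplicit false
universe u
open Formal2

set_option linter.style.haveILetI false
set_option linter.unusedSectionVars false
set_option backward.isDefEq.respectTransparency false
set_option backward.isDefEq.respectTransparency.types false
set_option maxHeartbeats 1000000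
open CategoryTheory CategoryTheory.Limits AlgebraicGeometry Opposite TopologicalSpace
open Groth.Agent Groth.Agent.Synt29 Groth.Agent.LocCohDepth.Punct
open Groth.Agent.PnCoh.Finite (mapLin)

namespace Groth.Agent.S0841

section Aux

variable {A : Type u} [CommRing A] [IsNoetherianRing A] (𝔞 : Ideal A)

local notation "U" => LocCoh.puncturedOpen A 𝔞

/-- Every element killed by a power of `𝔞`. -/
def Tors (M : Type u) [AddCommGroup M] [Module A M] : Prop := ∀ x : M, ∃ m : ℕ, ∀ a ∈ 𝔞 ^ m, a • x = 0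

theorem isZero_G' (K : ModuleCat.{u} (CommRingCat.of A)) (hK : Tors 𝔞 K) : IsZero ((G U).obj K) := by
  rw [IsZero.iff_id_eq_zero]
  refine Scheme.Modules.hom_ext _ _ fun W => ?_
  ext s
  let O : (Spec (CommRingCat.of A)).Opens := (U).ι ''ᵁ W
  obtain ⟨t, ht⟩ := LocCohSec.exists_finite_cover O
  have hle : ∀ g : t, (PrimeSpectrum.basicOpen g.1 : (Spec (CommRingCat.of A)).Opens) ≤ O := fun g => by
    rw [ht]; exact le_iSup (fun g : t => (PrimeSpectrum.basicOpen g.1 : (Spec (CommRingCat.of A)).Opens)) g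
  have hOU : O ≤ U := fun x hx => by
    obtain ⟨y, -, rfl⟩ := hx
    exact y.2
  refine LocCohSec.eq_zero_of_locally K _ O hle ht.le (show LocCohSec.sec K O from s) fun g => ?_
  obtain ⟨x, k, hk⟩ := LocCohSec.exists_smul_eq_toSec K g.1 (LocCohSec.res K (hle g) (show LocCohSec.sec K O from s))
  obtain ⟨m, hm⟩ := hK x
  have h := LocCohSec.res_eq_zero_of_smul K 𝔞 (PrimeSpectrum.basicOpen g.1) le_rfl ((hle g).trans hOU)
    (LocCohSec.toSec K (PrimeSpectrum.basicOpen g.1) x) m fun a ha => by rw [← map_smul, hm a ha, map_zero]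
  rw [LocCohSec.res_self] at h
  exact LocCohSec.smul_pow_eq_zero_cancel K le_rfl k (hk.trans h)

/-- `G` inverts maps with torsion kernel and cokernel. -/
theorem isIso_G {M M' : ModuleCat.{u} (CommRingCat.of A)} (φ : M ⟶ M') (hinj : Function.Injective φ.hom)
    (hc : Tors 𝔞 (M' ⧸ LinearMap.range φ.hom)) : IsIso ((G U).map φ) := by
  let C : ModuleCat.{u} (CommRingCat.of A) := ModuleCat.of (CommRingCat.of A) (M' ⧸ LinearMap.range φ.hom)
  let S := ShortComplex.mk φ (ModuleCat.ofHom (LinearMap.range φ.hom).mkQ : M' ⟶ C)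
    (ModuleCat.hom_ext (LinearMap.ext fun z => (Submodule.Quotient.mk_eq_zero _).2 (LinearMap.mem_range_self _ z)))
  have hS : S.ShortExact :=
    { exact := by
        rw [ShortComplex.moduleCat_exact_iff]
        intro z hz
        exact (Submodule.Quotient.mk_eq_zero _).1 hz
      mono_f := (ModuleCat.mono_iff_injective _).2 hinj
      epi_g := (ModuleCat.epi_iff_surjective _).2 (Submodule.mkQ_surjective _) }
  have h := GrLib8.PuncturedLC.shortExact_G U hS
  haveI : Mono ((G U).map φ) := h.mono_f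
  haveI : Epi ((G U).map φ) := h.exact.epi_f ((isZero_G' 𝔞 C hc).eq_of_tgt _ _)
  exact isIso_of_mono_of_epi _

/-- A finite submodule with torsion cokernel in the sections of a coherent module. -/
theorem exists_fg (F : (U : Scheme.{u}).Modules) (hF : Coh.IsCoh F) :
    ∃ M₀ : Submodule A ((moduleSpecΓFunctor (R := CommRingCat.of A)).obj ((Scheme.Modules.pushforward (U).ι).obj F)),
      M₀.FG ∧ ∀ x, ∃ m : ℕ, ∀ a ∈ 𝔞 ^ m, a • x ∈ M₀ := by
  obtain ⟨N, _, _, _, ⟨u⟩⟩ := GrLib8.PuncturedLC.exists_finite 𝔞 F hF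
  obtain ⟨e, -⟩ := Algz7.Canon2.exists_sect_equiv U
  let ε := (GrLib8.PuncturedLC.mapEquiv u.symm 0).trans (e F)
  let NN : ModuleCat.{u} (CommRingCat.of A) := ModuleCat.of (CommRingCat.of A) N
  let L : N →ₗ[A] _ := ε.toLinearMap.comp (GrLib8.PuncturedLC.cmap U NN)
  refine ⟨LinearMap.range L, Module.Finite.iff_fg.1 (Module.Finite.range L), fun x => ?_⟩
  obtain ⟨m, hm⟩ := LocCohSec.exists_pow_smul_mem_range NN 𝔞 (SecMap.toSecU NN (ε.symm x))
  refine ⟨m, fun a ha => ?_⟩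
  obtain ⟨n, hn⟩ := hm a ha
  refine ⟨n, ?_⟩
  have h1 : GrLib8.PuncturedLC.cmap U NN n = a • ε.symm x := by
    refine SecMap.toSecU_injective NN ?_
    rw [SecMap.toSecU_cmap, SecMap.toSecU_smul]
    exact hn
  show ε (GrLib8.PuncturedLC.cmap U NN n) = a • x
  rw [h1, map_smul, LinearEquiv.apply_symm_apply]

/-- Replace a finite submodule by one inside a preimage. -/
theorem exists_step {Γ₁ Γ₀ : Type u} [AddCommGroup Γ₁] [Module A Γ₁] [AddCommGroup Γ₀] [Module A Γ₀] (t : Γ₁ →ₗ[A] Γ₀)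
    (P₀ : Submodule A Γ₀) (hP₀ : ∀ x, ∃ m : ℕ, ∀ a ∈ 𝔞 ^ m, a • x ∈ P₀) (M₁ : Submodule A Γ₁) (hfg : M₁.FG)
    (hM₁ : ∀ x, ∃ m : ℕ, ∀ a ∈ 𝔞 ^ m, a • x ∈ M₁) :
    ∃ P₁ : Submodule A Γ₁, P₁.FG ∧ (∀ x, ∃ m : ℕ, ∀ a ∈ 𝔞 ^ m, a • x ∈ P₁) ∧ P₁ ≤ P₀.comap t := by
  classical
  obtain ⟨s, gen, hs⟩ := Submodule.fg_iff_exists_fin_generating_family.1 hfg
  choose mm hmm using fun l => hP₀ (t (gen l))
  let K := Finset.univ.sup mm
  have hle : 𝔞 ^ K • M₁ ≤ P₀.comap t := by
    refine Submodule.smul_le.2 fun a ha x hx => ?_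
    rw [← hs] at hx
    induction hx using Submodule.span_induction with
    | mem y hy =>
      obtain ⟨l, rfl⟩ := hy
      rw [Submodule.mem_comap, LinearMap.map_smul]
      exact hmm l a (Ideal.pow_le_pow_right (Finset.le_sup (Finset.mem_univ l)) ha)
    | zero => rw [smul_zero]; exact zero_mem _
    | add y z _ _ hy hz => rw [smul_add]; exact add_mem hy hz
    | smul c y _ hy => rw [smul_comm]; exact Submodule.smul_mem _ c hy
  refine ⟨𝔞 ^ K • M₁, Submodule.FG.smul (IsNoetherian.noetherian _) hfg, fun x => ?_, hle⟩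
  obtain ⟨m, hm⟩ := hM₁ x
  refine ⟨K + m, fun a ha => ?_⟩
  rw [pow_add] at ha
  refine Submodule.mul_induction_on ha (fun b hb c hc => ?_) fun b c hb hc => ?_
  · rw [mul_smul]
    exact Submodule.smul_mem_smul hb (hm c hc)
  · rw [add_smul]
    exact add_mem hb hc

theorem torsion_of_isZero (C : ModuleCat.{u} (CommRingCat.of A)) (h : IsZero ((G U).obj C)) : Tors 𝔞 C := fun y => by
  have h0 : GrLib8.PuncturedLC.cmap U C y = 0 := by
    rw [← mapLin_id ((G U).obj C) 0 (GrLib8.PuncturedLC.cmap U C y), h.eq_of_src (𝟙 _) 0]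
    show Sheaf.H.map ((QCoh.toAbFunctor (U : Scheme.{u})).map 0) 0 _ = 0
    rw [Functor.map_zero]
    show ((Sheaf.functorH _ 0).map 0).hom _ = 0
    rw [Functor.map_zero]
    rfl
  exact (GrLib8.PuncturedLC.mem_ker_cmap 𝔞 C y).1 (LinearMap.mem_ker.2 h0)

theorem torsion_step (J : Ideal A) {M M' : ModuleCat.{u} (CommRingCat.of A)} (φ : M ⟶ M')
    (hJ : J • (⊤ : Submodule A M) ≤ LinearMap.ker φ.hom) (hq : Algz7.IsQuot J ((G U).map φ)) :
    (∀ x, φ.hom x = 0 → ∃ m : ℕ, ∀ a ∈ 𝔞 ^ m, a • x ∈ J • (⊤ : Submodule A M)) ∧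
      ∀ y, ∃ m : ℕ, ∀ a ∈ 𝔞 ^ m, a • y ∈ LinearMap.range φ.hom := by
  letI := overSelf (CommRingCat.of A)
  haveI : (tilde.functor (CommRingCat.of A)).IsLeftAdjoint := (tilde.adjunction (R := CommRingCat.of A)).isLeftAdjoint
  let Q : ModuleCat.{u} (CommRingCat.of A) := ModuleCat.of (CommRingCat.of A) (M ⧸ J • (⊤ : Submodule A M))
  let q : M ⟶ Q := ModuleCat.ofHom (J • (⊤ : Submodule A M)).mkQ
  let ψ : Q ⟶ M' := ModuleCat.ofHom ((J • (⊤ : Submodule A M)).liftQ φ.hom hJ)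
  have hqψ : q ≫ ψ = φ := ModuleCat.hom_ext (LinearMap.ext fun _ => rfl)
  have hq1 : Algz7.IsQuot J ((G U).map q) :=
    Algz7.IsQuot.restrict (U).ι rfl (Algz7.isQuot_tilde_map q (Submodule.mkQ_surjective _) (Submodule.ker_mkQ _))
  obtain ⟨d, hd⟩ := hq.desc ((G U).map q) hq1.1
  haveI := hq1.epi
  haveI := hq.epi
  haveI : IsIso ((G U).map ψ) := ⟨d, by
      rw [← cancel_epi ((G U).map q), ← Category.assoc, ← Functor.map_comp, hqψ, hd, Category.comp_id], by
      rw [← cancel_epi ((G U).map φ), ← Category.assoc, hd, ← Functor.map_comp, hqψ, Category.comp_id]⟩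
  constructor
  · intro x hx
    have h1 : GrLib8.PuncturedLC.cmap U Q (q.hom x) = 0 := by
      have h2 := GrLib8.PuncturedLC.cmap_natural U ψ (q.hom x)
      rw [show ψ.hom (q.hom x) = 0 from hx, map_zero] at h2
      exact (GrLib8.PuncturedLC.mapEquiv (asIso ((G U).map ψ)) 0).map_eq_zero_iff.1 h2
    obtain ⟨m, hm⟩ := (GrLib8.PuncturedLC.mem_ker_cmap 𝔞 Q _).1 (LinearMap.mem_ker.2 h1)
    refine ⟨m, fun a ha => (Submodule.Quotient.mk_eq_zero _).1 ?_⟩
    exact hm a ha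
  · intro y
    let C : ModuleCat.{u} (CommRingCat.of A) := ModuleCat.of (CommRingCat.of A) (M' ⧸ LinearMap.range φ.hom)
    let c : M' ⟶ C := ModuleCat.ofHom (LinearMap.range φ.hom).mkQ
    haveI : Epi c := (ModuleCat.epi_iff_surjective _).2 (Submodule.mkQ_surjective _)
    haveI : Epi ((G U).map c) := (G U).map_epi c
    have hc : (G U).map φ ≫ (G U).map c = 0 := by
      haveI := FormalSectU.additive_G U
      rw [← Functor.map_comp, show φ ≫ c = 0 from ModuleCat.hom_ext (LinearMap.ext fun z =>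
        (Submodule.Quotient.mk_eq_zero _).2 (LinearMap.mem_range_self _ z)), Functor.map_zero]
    have hc0 : (G U).map c = 0 := by rw [← cancel_epi ((G U).map φ), hc, comp_zero]
    have hz : IsZero ((G U).obj C) := by
      rw [IsZero.iff_id_eq_zero, ← cancel_epi ((G U).map c), hc0, zero_comp, zero_comp]
    obtain ⟨m, hm⟩ := torsion_of_isZero 𝔞 C hz (c.hom y)
    exact ⟨m, fun a ha => (Submodule.Quotient.mk_eq_zero _).1 (hm a ha)⟩

theorem isQuot_iso {X : Scheme.{u}} [X.Over (Spec (CommRingCat.of A))] {J : Ideal A} {M N M' N' : X.Modules}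
    {φ : M ⟶ N} (hφ : Algz7.IsQuot J φ) (a : M' ≅ M) (b : N ≅ N') :
    Algz7.IsQuot J (a.hom ≫ φ ≫ b.hom) := by
  haveI := hφ.epi
  refine Algz7.IsQuot.mk' _ (fun r hr => ?_) fun {T} ψ hψ => ?_
  · rw [← cancel_epi b.hom, ← Algz7.smulMod_naturality, Algz7.killedBy_of_isQuot hφ r hr, zero_comp, comp_zero]
  · obtain ⟨d, hd⟩ := hφ.desc (a.inv ≫ ψ) (Sigma.hom_ext _ _ fun r => by
      rw [comp_zero, ← Category.assoc, Formal.smulFamily, Sigma.ι_desc, ← Category.assoc,
        Algz7.smulMod_naturality, Category.assoc, Algz7.smulMod_comp_eq_zero hψ r.2, comp_zero])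
    exact ⟨b.inv ≫ d, by rw [Category.assoc, Category.assoc, Iso.hom_inv_id_assoc, hd, Iso.hom_inv_id_assoc]⟩

theorem main (I : Ideal A) (Γ : ℕ → ModuleCat.{u} (CommRingCat.of A)) (t : ∀ n, Γ (n + 1) ⟶ Γ n)
    (hfin : ∀ n, ∃ M₀ : Submodule A (Γ n), M₀.FG ∧ ∀ x : Γ n, ∃ m : ℕ, ∀ a ∈ 𝔞 ^ m, a • x ∈ M₀)
    (hkill : ∀ n, ∀ a ∈ I ^ (n + 1), ∀ x : Γ n, a • x = 0)
    (hquot : ∀ n, Algz7.IsQuot (I ^ (n + 1)) ((G U).map (t n))) :
    ∃ (M : ℕ → Type u) (_ : ∀ n, AddCommGroup (M n)) (_ : ∀ n, Module A (M n)) (g : ∀ n, M (n + 1) →ₗ[A] M n),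
      (∀ n, Module.Finite A (M n)) ∧ (∀ n, I ^ (n + 1) • (⊤ : Submodule A (M n)) = ⊥) ∧
      (∀ n (x : M (n + 1)), g n x = 0 → ∃ m : ℕ, ∀ a ∈ 𝔞 ^ m, a • x ∈ I ^ (n + 1) • (⊤ : Submodule A (M (n + 1)))) ∧
      (∀ n (y : M n), ∃ m : ℕ, ∀ a ∈ 𝔞 ^ m, a • y ∈ LinearMap.range (g n)) ∧
      Nonempty (Functor.ofOpSequence (X := fun n => (G U).obj (Γ n)) (fun n => (G U).map (t n)) ≅ Functor.ofOpSequence
        (X := fun n => (Scheme.Modules.restrictFunctor (LocCoh.puncturedOpen A 𝔞).ι).obj (Formal2.tmod A (M n)))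
        (fun n => (Scheme.Modules.restrictFunctor (LocCoh.puncturedOpen A 𝔞).ι).map (Formal2.tmodMap A (g n)))) := by
  classical
  choose M₀ hfg₀ hM₀ using hfin
  let P : ∀ n, {P : Submodule A (Γ n) // P.FG ∧ ∀ x : Γ n, ∃ m : ℕ, ∀ a ∈ 𝔞 ^ m, a • x ∈ P} := fun n =>
    Nat.rec ⟨M₀ 0, hfg₀ 0, hM₀ 0⟩ (fun n p =>
      ⟨(exists_step 𝔞 (t n).hom p.1 p.2.2 (M₀ (n + 1)) (hfg₀ _) (hM₀ _)).choose,
        (exists_step 𝔞 (t n).hom p.1 p.2.2 (M₀ (n + 1)) (hfg₀ _) (hM₀ _)).choose_spec.1,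
        (exists_step 𝔞 (t n).hom p.1 p.2.2 (M₀ (n + 1)) (hfg₀ _) (hM₀ _)).choose_spec.2.1⟩) n
  have hP : ∀ n, (P (n + 1)).1 ≤ (P n).1.comap (t n).hom := fun n =>
    (exists_step 𝔞 (t n).hom (P n).1 (P n).2.2 (M₀ (n + 1)) (hfg₀ _) (hM₀ _)).choose_spec.2.2
  let g : ∀ n, (P (n + 1)).1 →ₗ[A] (P n).1 := fun n => (t n).hom.restrict fun x hx => hP n hx
  let Pm : ∀ n, ModuleCat.{u} (CommRingCat.of A) := fun n => ModuleCat.of (CommRingCat.of A) (P n).1
  let inc : ∀ n, Pm n ⟶ Γ n := fun n => ModuleCat.ofHom (P n).1.subtype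
  have hiso : ∀ n, IsIso ((G U).map (inc n)) := fun n =>
    isIso_G 𝔞 (inc n) (P n).1.injective_subtype fun y => by
      obtain ⟨x, rfl⟩ := Submodule.Quotient.mk_surjective _ y
      obtain ⟨m, hm⟩ := (P n).2.2 x
      refine ⟨m, fun a ha => ?_⟩
      rw [← Submodule.Quotient.mk_smul]
      exact (Submodule.Quotient.mk_eq_zero _).2 ⟨⟨a • x, hm a ha⟩, rfl⟩
  haveI := hiso
  have hcomm : ∀ n, (G U).map (ModuleCat.ofHom (g n) : Pm (n + 1) ⟶ Pm n) ≫ (G U).map (inc n) =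
      (G U).map (inc (n + 1)) ≫ (G U).map (t n) := fun n => by
    rw [← Functor.map_comp, ← Functor.map_comp]
    rfl
  have hq : ∀ n, Algz7.IsQuot (I ^ (n + 1)) ((G U).map (ModuleCat.ofHom (g n) : Pm (n + 1) ⟶ Pm n)) := fun n => by
    have h := isQuot_iso (hquot n) (asIso ((G U).map (inc (n + 1)))) (asIso ((G U).map (inc n))).symm
    rw [Iso.symm_hom, asIso_inv, asIso_hom, ← Category.assoc, ← hcomm n, Category.assoc, IsIso.hom_inv_id,
      Category.comp_id] at h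
    exact h
  have hk : ∀ n, I ^ (n + 1) • (⊤ : Submodule A (P n).1) = ⊥ := fun n => eq_bot_iff.2
    (Submodule.smul_le.2 fun a ha x _ => (Submodule.mem_bot A).2 (Subtype.ext (hkill n a ha x.1)))
  have hs := fun n => torsion_step 𝔞 (I ^ (n + 1)) (ModuleCat.ofHom (g n) : Pm (n + 1) ⟶ Pm n)
    (Submodule.smul_le.2 fun a ha x _ => LinearMap.mem_ker.2 (by
      show g n (a • x) = 0
      rw [LinearMap.map_smul]
      exact (Submodule.mem_bot A).1 ((hk n).le (Submodule.smul_mem_smul ha Submodule.mem_top)))) (hq n)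
  refine ⟨fun n => (P n).1, inferInstance, inferInstance, g, fun n => Module.Finite.iff_fg.2 (P n).2.1, hk,
    fun n x hx => (hs n).1 x hx, fun n y => (hs n).2 y, ⟨?_⟩⟩
  let GP := Functor.ofOpSequence
    (X := fun n => (Scheme.Modules.restrictFunctor (LocCoh.puncturedOpen A 𝔞).ι).obj (Formal2.tmod A (P n).1))
    (fun n => (Scheme.Modules.restrictFunctor (LocCoh.puncturedOpen A 𝔞).ι).map (Formal2.tmodMap A (g n)))
  let α : GP ⟶ Functor.ofOpSequence (X := fun n => (G U).obj (Γ n)) (fun n => (G U).map (t n)) :=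
    NatTrans.ofOpSequence (fun n => (G U).map (inc n)) (fun n => by
      rw [Functor.ofOpSequence_map_homOfLE_succ, Functor.ofOpSequence_map_homOfLE_succ]
      exact hcomm n)
  haveI : ∀ j, IsIso (α.app j) := fun ⟨n⟩ => hiso n
  haveI : IsIso α := NatIso.isIso_of_isIso_app α
  exact (asIso α).symm

end Aux

open CategoryTheory AlgebraicGeometry Opposite in
/-- Let A be a Noetherian ring, I ⊆ 𝔞 ideals of A and U = Spec A ∖ V(𝔞). For every coherent formal
module (F_n) for I on U there are finite A-modules M_n with I^(n+1) M_n = 0 and A-linear maps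
M_{n+1} → M_n for which each induced map M_{n+1}/I^(n+1)M_{n+1} → M_n has 𝔞-power-torsion kernel and
cokernel (every element is killed by some power of 𝔞), together with an isomorphism between (F_n)
and the inverse system of restrictions to U of the quasi-coherent modules M̃_n on Spec A. Indexing:
position n here corresponds to index n + 1 of the published statement, so that M_n is killed by
I^(n+1). Only this direction (every coherent formal module arises in this manner) is stated; the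
converse, that every such system of modules yields a coherent formal module, is not stated here. -/
theorem result (A : Type u) [CommRing A] [IsNoetherianRing A]
    (I 𝔞 : Ideal A) (hI : I ≤ 𝔞) (F : ℕᵒᵖ ⥤ (↑(LocCoh.puncturedOpen A 𝔞) : Scheme.{u}).Modules)
    (hF : Formal.IsCohFormal I F) :
    ∃ (M : ℕ → Type u) (_ : ∀ n, AddCommGroup (M n)) (_ : ∀ n, Module A (M n)) (g : ∀ n, M (n + 1) →ₗ[A] M n),
      (∀ n, Module.Finite A (M n)) ∧ (∀ n, I ^ (n + 1) • (⊤ : Submodule A (M n)) = ⊥) ∧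
      (∀ n (x : M (n + 1)), g n x = 0 → ∃ m : ℕ, ∀ a ∈ 𝔞 ^ m, a • x ∈ I ^ (n + 1) • (⊤ : Submodule A (M (n + 1)))) ∧
      (∀ n (y : M n), ∃ m : ℕ, ∀ a ∈ 𝔞 ^ m, a • y ∈ LinearMap.range (g n)) ∧
      Nonempty (F ≅ Functor.ofOpSequence
        (X := fun n => (Scheme.Modules.restrictFunctor (LocCoh.puncturedOpen A 𝔞).ι).obj (Formal2.tmod A (M n)))
        (fun n => (Scheme.Modules.restrictFunctor (LocCoh.puncturedOpen A 𝔞).ι).map (Formal2.tmodMap A (g n)))) := by
  let U := LocCoh.puncturedOpen A 𝔞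
  haveI : QuasiCompact U.ι := by
    haveI : NoetherianSpace (Spec (CommRingCat.of A)) := inferInstanceAs (NoetherianSpace (PrimeSpectrum A))
    exact QCoh.quasiCompact_ι_of_compact U (TopologicalSpace.NoetherianSpace.isCompact _)
  obtain ⟨θ⟩ := Algz7.nonempty_iso_sectSys U F (fun n => (hF.1 n).1)
  let Γ : ℕ → ModuleCat.{u} (CommRingCat.of A) := fun n =>
    (moduleSpecΓFunctor (R := CommRingCat.of A)).obj ((Scheme.Modules.pushforward U.ι).obj (F.obj (op n)))
  let t : ∀ n, Γ (n + 1) ⟶ Γ n := fun n => (moduleSpecΓFunctor (R := CommRingCat.of A)).map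
    ((Scheme.Modules.pushforward U.ι).map (F.map (homOfLE (Nat.le_succ n)).op))
  let S := Functor.ofOpSequence (X := fun n => (LocCohDepth.Punct.G U).obj (Γ n))
    (fun n => (LocCohDepth.Punct.G U).map (t n))
  let e₁ : S ≅ Algz.sectSys A U F ⋙ Scheme.Modules.restrictFunctor U.ι := by
    let α : S ⟶ Algz.sectSys A U F ⋙ Scheme.Modules.restrictFunctor U.ι :=
      NatTrans.ofOpSequence (fun n => 𝟙 _) (fun n => by
        rw [Functor.ofOpSequence_map_homOfLE_succ, Category.comp_id, Category.id_comp]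
        rfl)
    haveI : ∀ j, IsIso (α.app j) := fun ⟨n⟩ => inferInstanceAs (IsIso (𝟙 _))
    haveI : IsIso α := NatIso.isIso_of_isIso_app α
    exact asIso α
  let e := θ ≪≫ e₁.symm
  obtain ⟨M, i1, i2, g, h1, h2, h3, h4, ⟨e₂⟩⟩ := main 𝔞 I Γ t (fun n => exists_fg 𝔞 (F.obj (op n)) (hF.1 n))
    (fun n a ha x => Algz7.smul_sect_eq_zero U (F.obj (op n)) (hF.2.1 n) ha x) fun n => by
      have h := isQuot_iso (hF.2.2 n) (e.app (op (n + 1))).symm (e.app (op n))
      rw [Iso.symm_hom, Iso.app_hom, Iso.app_inv, e.hom.naturality, Iso.inv_hom_id_app_assoc] at h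
      rwa [Functor.ofOpSequence_map_homOfLE_succ] at h
  exact ⟨M, i1, i2, g, h1, h2, h3, h4, ⟨e ≪≫ e₂⟩⟩

end Groth.Agent.S0841
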