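import Groth.Statements.S0847
import Groth.Agent.H9Misc.ProjVan

set_option autoImplicit false
universe u
open Coherent

namespace Groth.Agent.S0847

open CategoryTheory AlgebraicGeometry in
/-- Let A be a Noetherian graded ring (graded by ℕ as an R-algebra), X = Proj A, F a coherent O_X-module
and p > 0. Then the twists F(d) = F ⊗ O_X(d) have vanishing H^p for every sufficiently large d. -/
theorem result {R A : Type u} [CommRing R] [CommRing A] [Algebra R A]
    (𝒜 : ℕ → Submodule R A) [GradedAlgebra 𝒜] [IsNoetherianRing A] (F : (Proj 𝒜).Modules) (hF : Coh.IsCoh F)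
    (p : ℕ) (hp : 0 < p) :
    ∃ d₀ : ℤ, ∀ d : ℤ, d₀ ≤ d → Subsingleton (Coh.HH (Proj 𝒜) (Twist.twistBy 𝒜 F d) p) := by
  obtain ⟨d₀, h⟩ := H9Misc.ProjVan.exists_vanishing_twistBy (𝒜 := 𝒜) F hF
  obtain ⟨p, rfl⟩ := Nat.exists_eq_add_of_le' hp
  exact ⟨d₀, fun d hd => h d hd p⟩

end Groth.Agent.S0847
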