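import Groth.Statements.S0850
import Groth.Agent.H9Misc.ProjCoh
import Groth.Agent.H9Misc.ProjQuot

set_option autoImplicit false
universe u
open Coherent

namespace Groth.Agent.S0850

open CategoryTheory AlgebraicGeometry in
/-- The essential-surjectivity content of the equivalence (finite graded modules modulo irrelevant ones
≃ coherent modules): let A be a Noetherian graded ring (graded by ℕ as an R-algebra) and X = Proj A.
Then every coherent O_X-module is isomorphic to the sheaf M~ associated to some finite graded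
A-module M (graded in nonnegative degrees). -/
theorem result {R A : Type u} [CommRing R] [CommRing A] [Algebra R A]
    (𝒜 : ℕ → Submodule R A) [GradedAlgebra 𝒜] [IsNoetherianRing A] (F : (Proj 𝒜).Modules) (hF : Coh.IsCoh F) :
    ∃ (M : Type u) (_ : AddCommGroup M) (_ : Module R M) (_ : Module A M) (_ : IsScalarTower R A M)
      (ℳ : ℕ → Submodule R M) (_ : DirectSum.Decomposition ℳ) (_ : SetLike.GradedSMul 𝒜 ℳ),
      Module.Finite A M ∧ Nonempty (GrTilde.tilde 𝒜 ℳ 0 ≅ F) := by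
  classical
  obtain ⟨r, e, φ, hφ⟩ := H9Misc.ProjQuot.exists_epi_twists_neg hF
  obtain ⟨p, hp⟩ := H9Misc.FreeTilde.exists_epi_free 𝒜 r e φ
  obtain ⟨q, hq0, hq⟩ := H9Misc.ProjVan.exists_period 𝒜
  choose f hf hfx using hq
  haveI : CompactSpace (Proj 𝒜) := (H9Misc.ProjVan.isAmple_twist (𝒜 := 𝒜) hq0 fun x => ⟨f x, hf x, hfx x⟩).2.1
  obtain ⟨s, hs⟩ := (CompactSpace.isCompact_univ (X := (Proj 𝒜 : Scheme))).elim_finite_subcover
    (fun x : Proj 𝒜 => ((Proj.basicOpen 𝒜 (f x) : (Proj 𝒜).Opens) : Set (Proj 𝒜)))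
    (fun x => (Proj.basicOpen 𝒜 (f x)).2) (fun x _ => Set.mem_iUnion.2 ⟨x, hfx x⟩)
  have hcov : ∀ y : ProjectiveSpectrum 𝒜, ∃ t : s, f t.1 ∉ y.asHomogeneousIdeal := fun y => by
    obtain ⟨x, hx⟩ := Set.mem_iUnion.1 (hs (Set.mem_univ (show Proj 𝒜 from y)))
    obtain ⟨hxs, hy⟩ := Set.mem_iUnion.1 hx
    exact ⟨⟨x, hxs⟩, hy⟩
  let hh : ∀ t : s, f t.1 ∈ 𝒜 q := fun t => hf t.1
  obtain ⟨i⟩ := H9Misc.ProjCoh.nonempty_iso 𝒜 (H9Misc.FreeTilde.free 𝒜 r e) hh p hF.1 hq0 hcov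
  exact ⟨_, inferInstance, inferInstance, inferInstance, inferInstance,
    H9Misc.ProjCoh.qM (H9Misc.FreeTilde.free 𝒜 r e) (H9Misc.ProjCoh.ker 𝒜 (H9Misc.FreeTilde.free 𝒜 r e) hh p),
    inferInstance, inferInstance, inferInstance, ⟨i⟩⟩

end Groth.Agent.S0850
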