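import Groth.Statements.S0854
import Groth.Agent.QCoh.Ab.Restrict
import Groth.Agent.SiteBase.ExtByZero
import Groth.Agent.SiteBase.DerivedPrecomp
import Groth.Prelude.Def_RDer

set_option autoImplicit false
universe u
open CategoryTheory
open CohTop
open CategoryTheory.Limits

namespace Groth.Agent.S0854

open TopologicalSpace in
/-- For abelian sheaves, one degree at a time: for a continuous map f : X -> Y, an abelian sheaf F on X,
an open V of Y and g : f^{-1}(V) -> V the restriction of f, the restriction of R^p f_* F to V is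
isomorphic to R^p g_* (F|_{f^{-1} V}). -/
theorem result {X Y : TopCat.{u}} (f : X ⟶ Y) (F : CohTop.Ab X)
    (V : Opens Y) (p : ℕ) :
    Nonempty (CohTop.restr ((CohTop.Rpush f p).obj F) V ≅
      (CohTop.Rpush (TopCat.ofHom ⟨(V : Set Y).restrictPreimage f, f.hom.continuous.restrictPreimage⟩ :
          TopCat.of ((Opens.map f).obj V) ⟶ TopCat.of V) p).obj
        (CohTop.restr F ((Opens.map f).obj V))) := by
  let g : TopCat.of ((Opens.map f).obj V) ⟶ TopCat.of V :=
    TopCat.ofHom ⟨(V : Set Y).restrictPreimage f, f.hom.continuous.restrictPreimage⟩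
  let U := (Opens.map f).obj V
  have hexact : ∀ {Z : TopCat.{u}} (W : Opens Z),
      PreservesFiniteLimits (CohTop.restrFunctor W) ∧ PreservesFiniteColimits (CohTop.restrFunctor W) := fun W => by
    haveI : PreservesFiniteLimits (CohTop.restrFunctor W) :=
      QCoh.Ab.preservesFiniteLimits_restr (j := TopCat.ofHom ⟨Subtype.val, continuous_subtype_val⟩) W.isOpenEmbedding
    refine ⟨inferInstance, (Functor.preservesFiniteColimits_iff_forall_exact_map_and_epi _).2 fun S hS => ?_⟩
    have h := QCoh.Ab.restr_shortExact (j := TopCat.ofHom ⟨Subtype.val, continuous_subtype_val⟩) W.isOpenEmbedding hS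
    exact ⟨h.exact, h.epi_g⟩
  haveI := (hexact U).1
  haveI := (hexact U).2
  haveI := (hexact V).1
  haveI := (hexact V).2
  haveI : (CohTop.restrFunctor U).PreservesInjectiveObjects := ⟨fun {I} hI => by
    haveI := ExtByZero.preservesFiniteLimits_ext0 U
    haveI : (ExtByZero.ext0 U).PreservesMonomorphisms := preservesMonomorphisms_of_preservesLimitsOfShape _
    exact (ExtByZero.adj U).map_injective I hI⟩
  haveI : (CohTop.push g).Additive := { }
  have himg : ∀ W : Opens (TopCat.of V), (Opens.map f).obj (V.isOpenEmbedding.isOpenMap.functor.obj W) =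
      U.isOpenEmbedding.isOpenMap.functor.obj ((Opens.map g).obj W) := fun W => by
    ext x
    constructor
    · rintro ⟨y, hy, e⟩
      have e' : f x = y.1 := e.symm
      have hx : x ∈ U := show f x ∈ V from e' ▸ y.2
      refine ⟨⟨x, hx⟩, ?_, rfl⟩
      have : g ⟨x, hx⟩ = y := Subtype.ext e'
      show g ⟨x, hx⟩ ∈ W
      rw [this]
      exact hy
    · rintro ⟨z, hz, rfl⟩
      exact ⟨g z, hz, rfl⟩
  let e : CohTop.push f ⋙ CohTop.restrFunctor V ≅ CohTop.restrFunctor U ⋙ CohTop.push g :=
    NatIso.ofComponents (fun G => (fullyFaithfulSheafToPresheaf _ _).preimageIso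
      (NatIso.ofComponents (fun W => G.obj.mapIso (eqToIso (congrArg Opposite.op (himg W.unop))))
        (fun {W W'} i => by
          refine (G.obj.map_comp _ _).symm.trans (Eq.trans ?_ (G.obj.map_comp _ _))
          exact congrArg G.obj.map (Subsingleton.elim _ _))))
      (fun {G G'} φ => by
        apply (sheafToPresheaf _ _).map_injective
        ext W : 2
        exact (φ.hom.naturality _).symm)
  exact ⟨(SiteBase.rightDerivedCompIso (CohTop.push f) (CohTop.restrFunctor V) p).symm.app F ≪≫
    (RDer.rightDerivedIso e p).app F ≪≫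
    (SiteBase.rightDerivedPrecompIso (CohTop.restrFunctor U) (CohTop.push g) p).app F⟩

end Groth.Agent.S0854
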