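import Groth.Agent.SiteBase.Cohom
import Groth.Statements.S0857
-- import your own Groth.Agent.* helpers here

set_option autoImplicit false
universe u
open CategoryTheory
open CohSite

namespace Groth.Agent.S0857

open Opposite CategoryTheory.Limits in
/-- For a family of abelian sheaves F_i on a site and an object U, the map H^1(U, ∏ F_i) -> ∏ H^1(U,
F_i) induced by the projections is injective. (The degree-zero part of the published statement, that
sections of a product are the product of sections, is not restated.) -/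
theorem result {C : Type u} [SmallCategory C] {J : GrothendieckTopology C}
    {I : Type u} (F : I → Sheaf J AddCommGrpCat.{u}) (U : C) :
    Function.Injective (fun (x : CohSite.HU (∏ᶜ F) 1 U) (i : I) =>
      (((Sheaf.cohomologyPresheafFunctor J 1).map (Pi.π F i)).app (op U)).hom x) := by
  classical
  intro x y hxy
  rw [← sub_eq_zero]
  have h : ∀ i, (((Sheaf.cohomologyPresheafFunctor J 1).map (Pi.π F i)).app (op U)).hom (x - y) = 0 :=
    fun i => by rw [map_sub, sub_eq_zero]; exact congrFun hxy i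
  generalize x - y = z at h
  let S : I → ShortComplex (Sheaf J AddCommGrpCat.{u}) := fun i =>
    Groth.Agent.SiteBase.injectiveSES (F i)
  have hS : ∀ i, (S i).ShortExact := fun i => Groth.Agent.SiteBase.injectiveSES_shortExact (F i)
  have : ∀ i, Mono (S i).f := fun i => (hS i).mono_f
  let m : ∏ᶜ F ⟶ ∏ᶜ fun i => (S i).X₂ := Limits.Pi.map fun i => (S i).f
  have : Mono m := Limits.Pi.map_mono (fun i => (S i).f)
  let fi : ∀ i, F i ⟶ (S i).X₂ := fun i => (S i).f
  have hz : ∀ i, fi i ≫ (S i).g = 0 := fun i => (S i).zero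
  have hm : ∀ i, m ≫ Limits.Pi.π _ i = Limits.Pi.π F i ≫ fi i := fun i =>
    Limits.Pi.map_π (fun i => (S i).f) i
  let T : ShortComplex (Sheaf J AddCommGrpCat.{u}) := ShortComplex.mk m (cokernel.π m) (cokernel.condition m)
  have hT : T.ShortExact := { exact := ShortComplex.exact_cokernel m }
  let φ : ∀ i, T ⟶ S i := fun i =>
    { τ₁ := Pi.π F i
      τ₂ := Pi.π _ i
      τ₃ := cokernel.desc m (Pi.π _ i ≫ (S i).g) (by rw [← Category.assoc, hm, Category.assoc, hz]; exact comp_zero)
      comm₁₂ := (hm i).symm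
      comm₂₃ := by simp [T] }
  obtain ⟨s, hs⟩ := Abelian.Ext.covariant_sequence_exact₁ (CohCx.freeSheaf J U) hT z
    ((Groth.Agent.SiteBase.subsingleton_HU_of_injective (∏ᶜ fun i => (S i).X₂) U 0).elim _ _)
    (n₀ := 0) rfl
  obtain ⟨s, rfl⟩ := (Abelian.Ext.mk₀_bijective (CohCx.freeSheaf J U) T.X₃).2 s
  have key : ∀ i, ∃ t : CohCx.freeSheaf J U ⟶ (S i).X₂, t ≫ (S i).g = s ≫ (φ i).τ₃ := fun i => by
    have h0 : (Abelian.Ext.mk₀ (s ≫ (φ i).τ₃)).comp (hS i).extClass (zero_add 1) = 0 := by
      rw [← Abelian.Ext.mk₀_comp_mk₀, Abelian.Ext.comp_assoc_of_second_deg_zero,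
        ← ShortComplex.ShortExact.extClass_naturality hT (hS i) (φ i), ← Abelian.Ext.comp_assoc_of_third_deg_zero, hs]
      exact h i
    obtain ⟨t, ht⟩ := Abelian.Ext.covariant_sequence_exact₃ (CohCx.freeSheaf J U) (hS i) _ rfl h0
    obtain ⟨t, rfl⟩ := (Abelian.Ext.mk₀_bijective (CohCx.freeSheaf J U) (S i).X₂).2 t
    rw [Abelian.Ext.mk₀_comp_mk₀] at ht
    exact ⟨t, (Abelian.Ext.mk₀_bijective _ _).1 ht⟩
  choose t ht using key
  have hlift : s = Pi.lift t ≫ cokernel.π m := by
    rw [← sub_eq_zero]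
    let d : CohCx.freeSheaf J U ⟶ T.X₃ := s - Pi.lift t ≫ cokernel.π m
    have hd : ∀ i, d ≫ (φ i).τ₃ = 0 := fun i => by simp [d, φ, ht i]
    obtain ⟨A', e, he, d', hd'⟩ := surjective_up_to_refinements_of_epi (cokernel.π m) d
    have ha : ∀ i, ∃ a : A' ⟶ F i, a ≫ fi i = d' ≫ Pi.π _ i := fun i => by
      have h0 : (d' ≫ Pi.π _ i) ≫ (S i).g = 0 := by
        have := congrArg (fun q => q ≫ (φ i).τ₃) hd'
        simp [hd i, φ] at this
        simpa using this.symm
      exact ⟨(hS i).exact.lift _ h0, (hS i).exact.lift_f _ h0⟩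
    choose a ha using ha
    have hd'' : d' = Pi.lift a ≫ m := Pi.hom_ext _ _ fun i => by
      rw [Category.assoc, hm, ← Category.assoc]; exact (ha i).symm.trans (by simp)
    show d = 0
    rw [← cancel_epi e, comp_zero, hd', hd'', Category.assoc, cokernel.condition, comp_zero]
  show z = 0
  rw [← hs, hlift, ← Abelian.Ext.mk₀_comp_mk₀, Abelian.Ext.comp_assoc_of_second_deg_zero,
    show cokernel.π m = T.g from rfl, hT.comp_extClass, Abelian.Ext.comp_zero]; rfl

end Groth.Agent.S0857
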