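import Groth.Statements.S0861
import Groth.Agent.SiteBase.Cartan
-- import your own Groth.Agent.* helpers here

set_option autoImplicit false
universe u
open CategoryTheory
open CohSite

namespace Groth.Agent.S0861

open CategoryTheory.Limits in
/-- Let C be a site with fibre products, B a class of objects and Cov a class of covering families
(indexed families of objects over a member of B). Assume: (1) for a family in Cov over U, U and all
iterated fibre products U_{i_0} x_U ... x_U U_{i_p} lie in B; (2) every covering sieve of a member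
of B contains a family from Cov; (3) the abelian sheaf F has vanishing Cech cohomology in positive
degrees for every family in Cov. Then H^p(U, F) = 0 for all p > 0 and U in B. -/
theorem result {C : Type u} [SmallCategory C] [HasPullbacks C]
    (J : GrothendieckTopology C) (B : Set C) (Cov : ∀ (U : C) (ι : Type u), (ι → Over U) → Prop)
    (h1 : ∀ (U : C) (ι : Type u) (Y : ι → Over U), Cov U ι Y → U ∈ B ∧
      Sieve.ofArrows (fun i => (Y i).left) (fun i => (Y i).hom) ∈ J U ∧
      ∀ (p : ℕ) (a : Fin (p + 1) → ι), (∏ᶜ fun k => Y (a k)).left ∈ B)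
    (h2 : ∀ U ∈ B, ∀ T ∈ J U, ∃ (ι : Type u) (Y : ι → Over U), Cov U ι Y ∧ ∀ i, T.arrows (Y i).hom)
    (F : Sheaf J AddCommGrpCat.{u})
    (h3 : ∀ (U : C) (ι : Type u) (Y : ι → Over U), Cov U ι Y → ∀ p : ℕ, IsZero (CohCx.cechH F.obj Y (p + 1)))
    (U : C) (hU : U ∈ B) (p : ℕ) : Subsingleton (CohSite.HU F (p + 1) U) := by
  refine Groth.Agent.SiteBase.subsingleton_HU_of_cartan (J := J) (fun V => V ∈ B)
    (K := { k : Σ (V : C) (ι : Type u), ι → Over V // Cov k.1 k.2.1 k.2.2 })
    (fun k => Over k.1.1) (fun k => Over.forget k.1.1) (fun k => k.1.2.1) (fun k => k.1.2.2)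
    (fun k n a => (h1 _ _ _ k.2).2.2 n a) (fun k => Groth.Agent.SiteBase.injAcyclic_over _) ?_
    (fun k q => (HomologicalComplex.exactAt_iff_isZero_homology _ _).2 (h3 _ _ _ k.2 q)) hU p
  intro V hV T hT
  obtain ⟨ι, Y, hY, hT'⟩ := h2 V hV T hT
  exact ⟨⟨⟨V, ι, Y⟩, hY⟩, Groth.Agent.SiteBase.ctxOver Y, (h1 _ _ _ hY).2.1, hT'⟩

end Groth.Agent.S0861
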