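import Groth.Statements.S0870
import Groth.Agent.SiteBase.DLim.Single
import Groth.Agent.SiteBase.DLim.Top

set_option autoImplicit false
universe u
open CategoryTheory
open CohTop

namespace Groth.Agent.S0870

open TopologicalSpace Opposite CategoryTheory.Limits in
/-- Let (F_n) be an inverse system of abelian sheaves on X and B a basis of opens such that H^p(U, F_n)
= 0 for p > 0 and U in B, and the system of sections F_n(U) has vanishing R^1 lim for U in B. Then
lim F_n (placed in degree zero) is a derived limit of the system (F_n) in the derived category, and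
H^p(U, lim F_n) = 0 for p > 0 and U in B. -/
theorem result {X : TopCat.{u}} [HasDerivedCategory.{u} (CohTop.Ab X)]
    (F : ℕ → CohTop.Ab X) (t : ∀ n, F (n + 1) ⟶ F n)
    [HasProduct fun n => (DerivedCategory.singleFunctor (CohTop.Ab X) 0).obj (F n)]
    (B : Set (Opens X)) (hB : Opens.IsBasis B)
    (h1 : ∀ U ∈ B, ∀ (p n : ℕ), Subsingleton (CohTop.HU (F n) (p + 1) U))
    (h2 : ∀ U ∈ B, CohCx.LimOneIsZero (fun n => (F n).obj.obj (op U))
      (fun n => ((t n).hom.app (op U)).hom)) :
    DCoh.IsRlim (fun n => (DerivedCategory.singleFunctor (CohTop.Ab X) 0).obj (F n))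
      (fun n => (DerivedCategory.singleFunctor (CohTop.Ab X) 0).map (t n))
      ((DerivedCategory.singleFunctor (CohTop.Ab X) 0).obj (limit (CohCx.opSequence F t))) ∧
    ∀ U ∈ B, ∀ p : ℕ, Subsingleton (CohTop.HU (limit (CohCx.opSequence F t)) (p + 1) U) := by
  exact DLim.isRlim_single F t (DLim.isCoveredBy_of_isBasis hB) h1 h2

end Groth.Agent.S0870
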