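import Groth.Statements.S0873
import Groth.Agent.SiteBase.RelMV

set_option autoImplicit false
universe u
open CategoryTheory
open CohTop

namespace Groth.Agent.S0873

set_option backward.isDefEq.respectTransparency false in
open TopologicalSpace CategoryTheory.Limits in
/-- Let f : X -> Y be continuous, X = U ∪ V an open covering, and a, b, c the restrictions of f to U, V,
U ∩ V. For an abelian sheaf F there are connecting maps making the long sequence 0 -> f_* F ->
a_*(F|_U) ⊕ b_*(F|_V) -> c_*(F|_{U ∩ V}) -> R^1 f_* F -> R^1 a_*(F|_U) ⊕ R^1 b_*(F|_V) -> ... exact,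
where the unnamed maps are induced (sum, resp. difference) by restriction of sections and R^n
a_*(F|_U) denotes the n-th right derived functor of F ↦ a_*(F|_U) (and similarly for b, c).
Functoriality in F is not asserted. -/
theorem result {X Y : TopCat.{u}} (f : X ⟶ Y) (U V : Opens X) (hUV : U ⊔ V = ⊤)
    (F : CohTop.Ab X) :
    ∃ δ : ∀ n : ℕ, (CohCx.RpushOn f (U ⊓ V) n).obj F ⟶ (CohTop.Rpush f (n + 1)).obj F,
      Mono (biprod.lift ((NatTrans.rightDerived (CohCx.pushToRestrPush f U) 0).app F)
        ((NatTrans.rightDerived (CohCx.pushToRestrPush f V) 0).app F)) ∧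
      ∀ n : ℕ,
        (ComposableArrows.mk₂
          (biprod.lift ((NatTrans.rightDerived (CohCx.pushToRestrPush f U) n).app F)
            ((NatTrans.rightDerived (CohCx.pushToRestrPush f V) n).app F))
          (biprod.desc
            ((NatTrans.rightDerived (CohCx.restrPushToRestrPush f (inf_le_left : U ⊓ V ≤ U)) n).app F)
            (-((NatTrans.rightDerived (CohCx.restrPushToRestrPush f (inf_le_right : U ⊓ V ≤ V)) n).app F)))).Exact ∧
        (ComposableArrows.mk₂
          (biprod.desc
            ((NatTrans.rightDerived (CohCx.restrPushToRestrPush f (inf_le_left : U ⊓ V ≤ U)) n).app F)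
            (-((NatTrans.rightDerived (CohCx.restrPushToRestrPush f (inf_le_right : U ⊓ V ≤ V)) n).app F)))
          (δ n)).Exact ∧
        (ComposableArrows.mk₂ (δ n)
          (biprod.lift ((NatTrans.rightDerived (CohCx.pushToRestrPush f U) (n + 1)).app F)
            ((NatTrans.rightDerived (CohCx.pushToRestrPush f V) (n + 1)).app F))).Exact := by
  classical
  let P : InjectiveResolution F := (HasInjectiveResolution.out (Z := F)).some
  haveI : HasBinaryBiproducts (CochainComplex (CohTop.Ab Y) ℕ) :=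
    HasBinaryBiproducts.of_hasBinaryProducts
  haveI : PreservesBinaryBiproducts (HomologicalComplex.homologyFunctor (CohTop.Ab Y) (ComplexShape.up ℕ) 0) :=
    preservesBinaryBiproducts_of_preservesBiproducts _
  have hS := SiteBase.RelMV.cxShort_shortExact f U V P hUV
  let S := SiteBase.RelMV.cxShort f U V P
  let e₁ := fun n : ℕ => P.isoRightDerivedObj (CohTop.push f) n
  let e₃ := fun n : ℕ =>
    P.isoRightDerivedObj (CohTop.restrFunctor (U ⊓ V) ⋙ CohTop.push (CohCx.incl (U ⊓ V) ≫ f)) n
  let eU := fun n : ℕ =>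
    P.isoRightDerivedObj (CohTop.restrFunctor U ⋙ CohTop.push (CohCx.incl U ≫ f)) n
  let eV := fun n : ℕ =>
    P.isoRightDerivedObj (CohTop.restrFunctor V ⋙ CohTop.push (CohCx.incl V ≫ f)) n
  have hB : ∀ n : ℕ, PreservesBinaryBiproducts
      (HomologicalComplex.homologyFunctor (CohTop.Ab Y) (ComplexShape.up ℕ) n) :=
    fun n => preservesBinaryBiproducts_of_preservesBiproducts _
  let e₂ := fun n : ℕ => haveI := hB n; biprod.mapIso (eU n) (eV n) ≪≫
    ((HomologicalComplex.homologyFunctor (CohTop.Ab Y) (ComplexShape.up ℕ) n).mapBiprod _ _).symm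
  have c₁ : ∀ n : ℕ, biprod.lift ((NatTrans.rightDerived (CohCx.pushToRestrPush f U) n).app F)
        ((NatTrans.rightDerived (CohCx.pushToRestrPush f V) n).app F) ≫ (e₂ n).hom =
      (e₁ n).hom ≫ HomologicalComplex.homologyMap S.f n := fun n => by
    haveI := hB n
    dsimp only [e₂]
    rw [Iso.trans_hom, Iso.symm_hom, ← Category.assoc, Iso.comp_inv_eq]
    refine Eq.trans ?_ (Category.assoc _ _ _).symm
    refine Eq.trans ?_ (congrArg (fun k => (e₁ n).hom ≫ k)
      (SiteBase.RelMV.map_lift_comp
        (HomologicalComplex.homologyFunctor (CohTop.Ab Y) (ComplexShape.up ℕ) n) _ _).symm)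
    refine biprod.hom_ext _ _ ?_ ?_
    · simp only [biprod.mapIso_hom, Category.assoc, biprod.map_fst, biprod.lift_fst_assoc,
        biprod.lift_fst]
      exact SiteBase.RelMV.rightDerived_app_hom P _ n
    · simp only [biprod.mapIso_hom, Category.assoc, biprod.map_snd, biprod.lift_snd_assoc,
        biprod.lift_snd]
      exact SiteBase.RelMV.rightDerived_app_hom P _ n
  have c₂ : ∀ n : ℕ, biprod.desc
        ((NatTrans.rightDerived (CohCx.restrPushToRestrPush f (inf_le_left : U ⊓ V ≤ U)) n).app F)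
        (-((NatTrans.rightDerived (CohCx.restrPushToRestrPush f (inf_le_right : U ⊓ V ≤ V)) n).app F)) ≫
          (e₃ n).hom = (e₂ n).hom ≫ HomologicalComplex.homologyMap S.g n := fun n => by
    haveI := hB n
    dsimp only [e₂]
    rw [Iso.trans_hom, Iso.symm_hom, Category.assoc]
    refine Eq.trans ?_ (congrArg (fun k => (biprod.mapIso (eU n) (eV n)).hom ≫ k)
      ((Iso.eq_inv_comp _).2 (SiteBase.RelMV.comp_desc_map
        (HomologicalComplex.homologyFunctor (CohTop.Ab Y) (ComplexShape.up ℕ) n) _ _)))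
    refine biprod.hom_ext' _ _ ?_ ?_
    · simp only [biprod.mapIso_hom, biprod.inl_desc_assoc, biprod.inl_map_assoc, biprod.inl_desc]
      exact SiteBase.RelMV.rightDerived_app_hom P _ n
    · simp only [biprod.mapIso_hom, biprod.inr_desc_assoc, biprod.inr_map_assoc, biprod.inr_desc,
        Functor.map_neg, Preadditive.neg_comp, Preadditive.comp_neg]
      exact congrArg Neg.neg (SiteBase.RelMV.rightDerived_app_hom P _ n)
  refine ⟨fun n => (e₃ n).hom ≫ hS.δ n (n + 1) rfl ≫ (e₁ (n + 1)).inv, ?_, fun n => ⟨?_, ?_, ?_⟩⟩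
  · haveI := hS.mono_f
    haveI : Mono (HomologicalComplex.homologyMap S.f 0) :=
      HomologicalComplex.mono_homologyMap_of_mono_of_not_rel S.f 0 (fun i h => Nat.succ_ne_zero i h)
    haveI : Mono (biprod.lift ((NatTrans.rightDerived (CohCx.pushToRestrPush f U) 0).app F)
        ((NatTrans.rightDerived (CohCx.pushToRestrPush f V) 0).app F) ≫ (e₂ 0).hom) := by
      rw [c₁]; exact mono_comp _ _
    exact mono_of_mono _ (e₂ 0).hom
  · exact SiteBase.RelMV.mk₂_exact_of_iso (hS.homology_exact₂ n) _ _ (e₁ n) (e₂ n) (e₃ n) (c₁ n) (c₂ n)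
  · refine SiteBase.RelMV.mk₂_exact_of_iso (hS.homology_exact₃ n (n + 1) rfl) _ _ (e₂ n) (e₃ n)
      (e₁ (n + 1)) (c₂ n) ?_
    simp
  · refine SiteBase.RelMV.mk₂_exact_of_iso (hS.homology_exact₁ n (n + 1) rfl) _ _ (e₃ n) (e₁ (n + 1))
      (e₂ (n + 1)) ?_ (c₁ (n + 1))
    simp


end Groth.Agent.S0873
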