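import Groth.Statements.S0881
import Groth.Agent.SiteBase.DLim.Acyclic

set_option autoImplicit false
universe u
open CategoryTheory
open CohSite

namespace Groth.Agent.S0881

open CategoryTheory.Limits in
/-- Take an object E of the derived category of abelian sheaves on a site together with a class B of
objects covering every object, and suppose every V in B has a function p(V, -) such that every
covering sieve of V contains a covering family {V_i -> V} with H^p(V_i, H^{m-p}(E)) = 0 for all m
and all p > p(V, m). Then E is a derived limit of the tower τ_{≥ -n} E through the canonical maps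
(the existence of the product of the truncations is assumed). -/
theorem result {C : Type u} [SmallCategory C]
    {J : GrothendieckTopology C} [HasDerivedCategory.{u} (Sheaf J AddCommGrpCat.{u})]
    (E : DerivedCategory (Sheaf J AddCommGrpCat.{u})) [HasProduct (CohCx.truncTower E)] (B : Set C)
    (hB : ∀ U : C, ∃ (ι : Type u) (Y : ι → C) (f : ∀ i, Y i ⟶ U), Sieve.ofArrows Y f ∈ J U ∧ ∀ i, Y i ∈ B)
    (h : ∀ V ∈ B, ∃ p : ℤ → ℤ, ∀ T ∈ J V, ∃ (ι : Type u) (Y : ι → C) (f : ∀ i, Y i ⟶ V),
      (∀ i, T.arrows (f i)) ∧ Sieve.ofArrows Y f ∈ J V ∧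
      ∀ (i : ι) (m : ℤ) (k : ℕ), p m < k → Subsingleton (CohSite.HU (CohCx.HD E (m - k)) k (Y i))) :
    CohCx.IsRlimVia (CohCx.truncTower E) (CohCx.truncTowerMap E) E (CohCx.toTruncTower E) := by
  exact DLim.isRlimVia_trunc E hB h

end Groth.Agent.S0881
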