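import Groth.Statements.S0882
import Groth.Agent.QcqsColim.Rpush

set_option autoImplicit false
set_option backward.isDefEq.respectTransparency false
universe u
open CategoryTheory
open CohSite

namespace Groth.Agent.S0882

open Opposite CategoryTheory.Limits in
/-- Let u : D -> C be a continuous functor underlying a morphism of sites f : C -> D, (F_i) a diagram of
abelian sheaves on C indexed by a small category and p >= 0. Let B be the class of objects V of D
such that colim_i H^p(u(V), F_i) -> H^p(u(V), colim F_i) is an isomorphism. If every object of D has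
a covering by members of B, then colim_i R^p f_* F_i -> R^p f_* (colim F_i) is an isomorphism (both
phrased as preservation of the colimit). -/
theorem result {C D : Type u} [SmallCategory C]
    [SmallCategory D] (J : GrothendieckTopology C) (K : GrothendieckTopology D) (u : D ⥤ C)
    [u.IsContinuous K J]
    {ι : Type u} [SmallCategory ι] (F : ι ⥤ Sheaf J AddCommGrpCat.{u})
    (p : ℕ)
    (h : ∀ V : D, ∃ (κ : Type u) (Y : κ → D) (g : ∀ k, Y k ⟶ V), Sieve.ofArrows Y g ∈ K V ∧
      ∀ k, PreservesColimit F ((Sheaf.cohomologyPresheafFunctor J p).flip.obj (op (u.obj (Y k))))) :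
    PreservesColimit F (CohSite.Rpush J K u p) := by
  let P : Sheaf J AddCommGrpCat.{u} ⥤ Dᵒᵖ ⥤ AddCommGrpCat.{u} :=
    Sheaf.cohomologyPresheafFunctor.{u} J p ⋙ Groth.Agent.SiteBase.precomp u
  suffices PreservesColimit F (P ⋙ presheafToSheaf K AddCommGrpCat.{u}) from
    preservesColimit_of_natIso F (Groth.Agent.SiteBase.rpushIso J K u p).symm
  let c := colimit.cocone F
  let hc : IsColimit c := colimit.isColimit F
  let φ : colimit (F ⋙ P) ⟶ P.obj c.pt := colimit.desc _ (P.mapCocone c)
  have hiso : ∀ V : D, PreservesColimit F ((Sheaf.cohomologyPresheafFunctor J p).flip.obj (op (u.obj V))) →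
      IsIso (φ.app (op V)) := by
    intro V hV
    let E := (evaluation Dᵒᵖ AddCommGrpCat.{u}).obj (op V)
    have : PreservesColimit F (P ⋙ E) := hV
    let e := IsColimit.coconePointUniqueUpToIso (isColimitOfPreserves E (colimit.isColimit (F ⋙ P)))
      (isColimitOfPreserves (P ⋙ E) hc)
    have he : φ.app (op V) = e.hom := by
      refine (isColimitOfPreserves E (colimit.isColimit (F ⋙ P))).hom_ext fun j => ?_
      rw [IsColimit.comp_coconePointUniqueUpToIso_hom]
      exact (NatTrans.comp_app (colimit.ι (F ⋙ P) j) φ (op V)).symm.trans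
        (congrArg (fun q => q.app (op V)) (colimit.ι_desc (P.mapCocone c) j))
    rw [he]
    infer_instance
  have : Presheaf.IsLocallyInjective K φ := ⟨fun {V} x y hxy => by
    obtain ⟨κ, Yk, g, hcov, hY⟩ := h V.unop
    refine K.superset_covering ((Sieve.generate_le_iff _ _).2 ?_) hcov
    rintro _ _ ⟨k⟩
    have := hiso (Yk k) (hY k)
    refine (ConcreteCategory.bijective_of_isIso (φ.app (op (Yk k)))).1 ?_
    rw [NatTrans.naturality_apply, NatTrans.naturality_apply, hxy]⟩
  have : Presheaf.IsLocallySurjective K φ := ⟨fun {V} s => by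
    obtain ⟨κ, Yk, g, hcov, hY⟩ := h V
    refine K.superset_covering ((Sieve.generate_le_iff _ _).2 ?_) hcov
    rintro _ _ ⟨k⟩
    have := hiso (Yk k) (hY k)
    obtain ⟨t, ht⟩ := (ConcreteCategory.bijective_of_isIso (φ.app (op (Yk k)))).2 ((P.obj c.pt).map (g k).op s)
    exact ⟨t, ht⟩⟩
  have : IsIso ((presheafToSheaf K AddCommGrpCat.{u}).map φ) :=
    (K.W_iff_isIso_map_of_adjunction (sheafificationAdjunction K AddCommGrpCat.{u}) φ).1
      (K.W_of_isLocallyBijective φ)
  refine preservesColimit_of_preserves_colimit_cocone hc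
    (IsColimit.ofIsoColimit (isColimitOfPreserves (presheafToSheaf K AddCommGrpCat.{u}) (colimit.isColimit (F ⋙ P)))
      (Cocone.ext (asIso ((presheafToSheaf K AddCommGrpCat.{u}).map φ)) fun j => ?_))
  change (presheafToSheaf K AddCommGrpCat.{u}).map (colimit.ι (F ⋙ P) j) ≫ _ = _
  rw [asIso_hom, ← Functor.map_comp, colimit.ι_desc]
  rfl


end Groth.Agent.S0882
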