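import Groth.Statements.S0891
import Groth.Agent.InjLocal.Basic
import Groth.Agent.KFlatLib.Perfect.Tensor

set_option autoImplicit false
universe u
open CategoryTheory
open Coh

namespace Groth.Agent.S0891
open CategoryTheory CategoryTheory.Limits AlgebraicGeometry Groth.Agent.KFlatLib in
theorem aux {X : Scheme.{u}} (U : X.Opens) (I E : X.Modules) (n : ℕ)
    [Injective ((Scheme.Modules.restrictFunctor U.ι).obj I)]
    (e : E.restrict U.ι ≅ FlatMod.freeMod (U : Scheme.{u}) n) :
    Injective ((Scheme.Modules.restrictFunctor U.ι).obj (CohB1.tensorMod E I)) := by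
  let J := (Scheme.Modules.restrictFunctor U.ι).obj I
  let i : (Scheme.Modules.restrictFunctor U.ι).obj ((DCoh.tensorBi.obj E).obj I) ≅
      ∐ fun _ : Fin n => J :=
    ((restrictTensorBiIso U.ι).app E).app I ≪≫ (DCoh.tensorBi.flip.obj J).mapIso e ≪≫
      PreservesCoproduct.iso (DCoh.tensorBi.flip.obj J) (fun _ : Fin n => Coh.structureModule (U : Scheme.{u})) ≪≫
      Sigma.mapIso fun _ => structureTensorIso J
  haveI : HasFiniteBiproducts (U : Scheme.{u}).Modules := Abelian.hasFiniteBiproducts
  haveI : Injective (⨁ fun _ : Fin n => J) := inferInstance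
  exact Injective.of_iso ((biproduct.isoCoproduct _) ≪≫ i.symm) inferInstance


open AlgebraicGeometry in
/-- On a scheme X, let I be an injective 𝒪_X-module and E a finite locally free 𝒪_X-module. Then E ⊗ I
is an injective 𝒪_X-module. (The published statement is for ringed spaces; it is stated here for
schemes.) -/
theorem result {X : Scheme.{u}} (I E : X.Modules) [Injective I]
    (hE : FlatMod.IsFinLocFree E) : Injective (CohB1.tensorMod E I) := by
  refine Groth.Agent.InjLocal.injective_of_local _ fun x => ?_
  obtain ⟨U, n, hx, ⟨e⟩⟩ := hE x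
  refine ⟨U, hx, ?_⟩
  haveI : CategoryTheory.Injective ((Scheme.Modules.restrictFunctor U.ι).obj I) :=
    CategoryTheory.Injective.injective_of_adjoint (Groth.Agent.KFlatLib.lshAdj U.ι) I
  exact aux U I E n e

end Groth.Agent.S0891
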