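import Groth.Statements.S0892
import Groth.Agent.KExact.FreeLocus
-- import your own Groth.Agent.* helpers here

set_option autoImplicit false
set_option linter.style.haveILetI false
set_option backward.isDefEq.respectTransparency false
set_option backward.isDefEq.respectTransparency.types false

universe u
open CategoryTheory
attribute [local instance] HasDerivedCategory.standard
open DCoh AlgebraicGeometry TopologicalSpace
open Groth.Agent Groth.Agent.KExact

namespace Groth.Agent.S0892

open AlgebraicGeometry in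
/-- Let X be a scheme and E a perfect object of D(O_X). Then the set U of points x such that for every i
the stalk H^i(E)_x is a finite free O_{X,x}-module is open, all cohomology sheaves H^i(E) are finite
locally free over U, and every open W over which all H^i(E) are finite locally free is contained in
U. (Stated for schemes; the published statement is for ringed spaces all of whose stalks of the
structure sheaf are local rings.) -/
theorem result {X : Scheme.{u}} (E : DCoh.D X) (hE : DCoh.IsPerfect E) :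
    ∃ U : X.Opens,
      (U : Set X) = {x : X | ∀ i : ℤ, Module.Free (X.presheaf.stalk x) ((DCoh.HD E i).presheaf.stalk x) ∧
        Module.Finite (X.presheaf.stalk x) ((DCoh.HD E i).presheaf.stalk x)} ∧
      (∀ i : ℤ, FlatMod.IsFinLocFree ((DCoh.HD E i).restrict U.ι)) ∧
      ∀ W : X.Opens, (∀ i : ℤ, FlatMod.IsFinLocFree ((DCoh.HD E i).restrict W.ι)) → W ≤ U := by
  let T := {W : X.Opens | ∀ i : ℤ, FlatMod.IsFinLocFree ((DCoh.HD E i).restrict W.ι)}
  have hU : ∀ i : ℤ, FlatMod.IsFinLocFree ((DCoh.HD E i).restrict (sSup T).ι) := fun i => by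
    refine ConsPropLib.isFinLocFree_of_cover (fun W : T => X.homOfLE (le_sSup W.2)) (fun u => ?_) fun W => ?_
    · obtain ⟨W, hW, hu⟩ := Opens.mem_sSup.1 u.2
      exact ⟨⟨W, hW⟩, ⟨u.1, hu⟩, (sSup T).ι.isOpenEmbedding.injective (by
        rw [← Scheme.Hom.comp_apply, X.homOfLE_ι]; rfl)⟩
    · exact (ConsPropLib.isFinLocFree_iso (QCoh.restrictRestrict (DCoh.HD E i) (X.homOfLE (le_sSup W.2)) (sSup T).ι ≪≫
        (Scheme.Modules.restrictFunctorCongr (X.homOfLE_ι (le_sSup W.2))).app (DCoh.HD E i))).2 (W.2 i)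
  refine ⟨sSup T, ?_, hU, fun W hW => le_sSup hW⟩
  ext x
  constructor
  · intro hx i
    exact (FreeLocus.ff_restrict (sSup T).ι (DCoh.HD E i) ⟨x, hx⟩).1 (FreeLocus.ff_of_finLocFree (hU i) _)
  · intro hx
    obtain ⟨V, hxV, hV⟩ := hE x
    let F := DerivedCategory.Q.objPreimage E
    let eF : DCoh.toD X F ≅ E := DerivedCategory.Q.objObjPreimageIso E
    obtain ⟨P, hP, ⟨eP⟩⟩ := hV F ⟨eF⟩
    let R := Scheme.Modules.restrictFunctor V.ι
    let e : ∀ i, P.homology i ≅ (DCoh.HD E i).restrict V.ι := fun i =>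
      ((DerivedCategory.homologyFunctorFactors (V : Scheme.{u}).Modules i).app P).symm ≪≫
        (DerivedCategory.homologyFunctor (V : Scheme.{u}).Modules i).mapIso eP.symm ≪≫
        (DerivedCategory.homologyFunctorFactors (V : Scheme.{u}).Modules i).app _ ≪≫
        ShortComplex.mapHomologyIso (F.sc i) R ≪≫
        R.mapIso (((DerivedCategory.homologyFunctorFactors X.Modules i).app F).symm ≪≫
          (DerivedCategory.homologyFunctor X.Modules i).mapIso eF)
    obtain ⟨W, hxW, hW⟩ := FreeLocus.exists_nhd P hP ⟨x, hxV⟩ fun i => FreeLocus.ff_of_iso (e i).symm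
      ((FreeLocus.ff_restrict V.ι (DCoh.HD E i) ⟨x, hxV⟩).2 (hx i))
    have hmem : V.ι ''ᵁ W ∈ T := fun i => by
      have h1 : FlatMod.IsFinLocFree ((DCoh.HD E i).restrict (W.ι ≫ V.ι)) :=
        (ConsPropLib.isFinLocFree_iso ((Scheme.Modules.restrictFunctor W.ι).mapIso (e i) ≪≫
          QCoh.restrictRestrict (DCoh.HD E i) W.ι V.ι)).1 (hW i)
      let q := (V.ι.isoImage W).inv
      exact (ConsPropLib.isFinLocFree_iso (QCoh.restrictRestrict (DCoh.HD E i) q (W.ι ≫ V.ι) ≪≫
        (Scheme.Modules.restrictFunctorCongr (Scheme.Hom.isoImage_inv_ι V.ι W)).app (DCoh.HD E i))).1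
        (ConsPropLib.isFinLocFree_restrict q h1)
    exact (le_sSup hmem : V.ι ''ᵁ W ≤ sSup T) ⟨⟨x, hxV⟩, hxW, rfl⟩
end Groth.Agent.S0892
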