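import Groth.Statements.S0896
import Groth.Agent.HyperLib.Split
import Groth.Agent.HyperLib.Site

set_option autoImplicit false
set_option backward.isDefEq.respectTransparency false
set_option backward.isDefEq.respectTransparency.types false
universe u
open CategoryTheory
open Hyper

namespace Groth.Agent.S0896

open Opposite CategoryTheory.Limits in
/-- Let C be a site with fibre products and B a class of objects such that (2) every object X has a
finite covering {U_i -> X} with all U_i in B, and (3) adding one more morphism U -> X with U in B to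
such a finite covering again gives a covering. Then every object X has a hypercovering K such that
each K_n is a finite family of objects of B over X. -/
theorem result {C : Type u} [SmallCategory C] [HasPullbacks C]
    (J : GrothendieckTopology C) (B : Set C)
    (h2 : ∀ X : C, ∃ (ι : Type u) (_ : Finite ι) (U : ι → C) (f : ∀ i, U i ⟶ X),
      Sieve.ofArrows U f ∈ J X ∧ ∀ i, U i ∈ B)
    (h3 : ∀ (X : C) (ι : Type u) [Finite ι] (U : ι → C) (f : ∀ i, U i ⟶ X),
      Sieve.ofArrows U f ∈ J X → (∀ i, U i ∈ B) → ∀ (V : C) (g : V ⟶ X), V ∈ B →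
      Sieve.ofArrows (Option.elim' V U) (fun o => Option.rec g f o) ∈ J X)
    (X : C) [∀ (n : ℕ) (F : (SimplexCategory.Truncated n)ᵒᵖ ⥤ Limits.FormalCoproduct.{u} (Over X)),
      (SimplexCategory.Truncated.inclusion n).op.HasRightKanExtension F] :
    ∃ K : SimplicialObject (FormalCoproduct.{u} (Over X)), Hyper.IsHypercovering J X K ∧
      ∀ n : ℕ, Finite (K.obj (op (SimplexCategory.mk n))).I ∧
        ∀ i, ((K.obj (op (SimplexCategory.mk n))).obj i).left ∈ B := by
  obtain ⟨K, hK, hKB⟩ := Groth.Agent.HyperLib.exists_isLocTrivial_finIn (J.over X)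
    {Y : Over X | Y.left ∈ B} fun U => by
      obtain ⟨ι, hι, V, f, hf, hV⟩ := h2 U.left
      obtain ⟨W, g, hg, hW⟩ := Groth.Agent.HyperLib.exists_over_cover J B U V f hf hV
      exact ⟨ι, hι, W, g, hg, hW⟩
  exact ⟨K, (Groth.Agent.HyperLib.isHypercovering_iff J X K).2 hK,
    fun n => ⟨(hKB _).1, fun i => (hKB _).2 i⟩⟩

end Groth.Agent.S0896
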