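import Groth.Statements.S0902
import Groth.Agent.SiteBase.Vanishing.Reduce

set_option autoImplicit false
universe u
open CategoryTheory
open CohTop

namespace Groth.Agent.S0902

open TopologicalSpace in
/-- Let X be a quasi-compact space whose quasi-compact opens form a basis stable under pairwise
intersections, and d ≥ 0. If H^p(X, j_!Z_U) = 0 for all p > d and every quasi-compact open U (j_!Z_U
the extension by zero of the constant sheaf Z, i.e. the free abelian sheaf on U), then H^p(X, F) = 0
for all p > d and every abelian sheaf F. -/
theorem result {X : TopCat.{u}} [CompactSpace X]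
    [PrespectralSpace X] [QuasiSeparatedSpace X] (d : ℕ)
    (h : ∀ (U : Opens X), IsCompact (U : Set X) → ∀ p : ℕ, d < p →
      Subsingleton (CohTop.H (CohCx.freeSheaf (Opens.grothendieckTopology X) U) p))
    (F : CohTop.Ab X) (p : ℕ) (hp : d < p) : Subsingleton (CohTop.H F p) := by
  exact Vanishing.vanishAbove_all (fun U hU p hp => Vanishing.VanishAbove.of_iso (Vanishing.freeIso U)
    (fun p hp => h U hU p hp) p hp) F p hp


end Groth.Agent.S0902
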