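import Groth.Statements.S0905
import Groth.Agent.SiteBase.RightExact
import Mathlib.CategoryTheory.Sites.EpiMono
import Mathlib.Algebra.Homology.DerivedCategory.Ext.EnoughProjectives

set_option autoImplicit false
universe u
open CategoryTheory
open CohSite

namespace Groth.Agent.S0905

open Opposite CategoryTheory.Limits in
/-- Parts (1) and (2), for a weakly contractible object U of a site (one over which every epimorphism of
sheaves of sets is surjective on sections): (1) the functor F ↦ F(U) from abelian sheaves to abelian
groups preserves finite colimits (it is exact, finite limits being automatic), and (2) H^p(U, F) = 0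
for every abelian sheaf F and every p > 0. (Part (3) about torsors is not included.) -/
theorem result {C : Type u} [SmallCategory C] (J : GrothendieckTopology C)
    (U : C) (hU : CohSite.IsWeaklyContractible J U) :
    PreservesFiniteColimits (sheafToPresheaf J AddCommGrpCat.{u} ⋙ (evaluation Cᵒᵖ AddCommGrpCat.{u}).obj (op U)) ∧
    ∀ (F : Sheaf J AddCommGrpCat.{u}) (p : ℕ), Subsingleton (CohSite.HU F (p + 1) U) := by
  let ev := sheafToPresheaf J AddCommGrpCat.{u} ⋙ (evaluation Cᵒᵖ AddCommGrpCat.{u}).obj (op U)
  have hep : ev.PreservesEpimorphisms := ⟨fun {X Y} φ _ => (AddCommGrpCat.epi_iff_surjective _).2 <| by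
    have h := (Sheaf.isLocallySurjective_iff_epi' _ φ).2 inferInstance
    let ψ := (sheafCompose J (forget AddCommGrpCat.{u})).map φ
    have : Sheaf.IsLocallySurjective ψ :=
      (Presheaf.isLocallySurjective_iff_whisker_forget J φ.hom).1 h
    exact hU _ _ ψ (Sheaf.epi_of_isLocallySurjective _)⟩
  refine ⟨Groth.Agent.SiteBase.preservesFiniteColimits_of_preservesEpis ev, fun F p => ?_⟩
  let P := (presheafToSheaf J AddCommGrpCat.{u}).obj ((yoneda ⋙ (Functor.whiskeringRight _ _ _).obj AddCommGrpCat.free).obj U)
  have hP : Projective P := ⟨fun {E X} f e _ => by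
    let adj := (AddCommGrpCat.adj.whiskerRight Cᵒᵖ).comp (sheafificationAdjunction J AddCommGrpCat.{u})
    let eq := fun Z : Sheaf J AddCommGrpCat.{u} => (adj.homEquiv (yoneda.obj U) Z).trans yonedaEquiv
    obtain ⟨y, hy⟩ := (AddCommGrpCat.epi_iff_surjective _).1 (hep.preserves e) (eq X f)
    refine ⟨(eq E).symm y, (eq X).injective ?_⟩
    refine Eq.trans ?_ hy
    show yonedaEquiv (adj.homEquiv _ _ ((eq E).symm y ≫ e)) = _
    rw [Adjunction.homEquiv_naturality_right, yonedaEquiv_comp]
    show (ev.map e) ((eq E) ((eq E).symm y)) = _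
    rw [Equiv.apply_symm_apply]⟩
  exact @subsingleton_of_forall_eq _ 0 fun x => CategoryTheory.Abelian.Ext.eq_zero_of_projective (P := P) x

end Groth.Agent.S0905
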