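import Groth.Statements.S0907
import Groth.Agent.HyperLib.Split
import Groth.Agent.HyperLib.Site

set_option autoImplicit false
set_option backward.isDefEq.respectTransparency false
set_option backward.isDefEq.respectTransparency.types false
universe u
open CategoryTheory
open Hyper

namespace Groth.Agent.S0907

open TopologicalSpace Opposite CategoryTheory.Limits in
/-- Phrased in the site of opens of X, with X the top open: let B be a basis for the topology of X. Then
there is a hypercovering K of X such that every open occurring in every K_n belongs to B. -/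
theorem result {X : TopCat.{u}} (B : Set (Opens X)) (hB : Opens.IsBasis B)
    [∀ (n : ℕ) (F : (SimplexCategory.Truncated n)ᵒᵖ ⥤ Limits.FormalCoproduct.{u} (Over (⊤ : Opens X))),
      (SimplexCategory.Truncated.inclusion n).op.HasRightKanExtension F] :
    ∃ K : SimplicialObject (FormalCoproduct.{u} (Over (⊤ : Opens X))),
      Hyper.IsHypercovering (Opens.grothendieckTopology X) ⊤ K ∧
      ∀ (n : ℕ) (i : (K.obj (op (SimplexCategory.mk n))).I),
        ((K.obj (op (SimplexCategory.mk n))).obj i).left ∈ B := by
  obtain ⟨K, hK, hKB⟩ := Groth.Agent.HyperLib.exists_isLocTrivial_allIn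
    ((Opens.grothendieckTopology X).over ⊤) {Y : Over (⊤ : Opens X) | Y.left ∈ B} fun U => by
      refine ⟨{V : Opens X // V ∈ B ∧ V ≤ U.left}, Groth.Agent.HyperLib.exists_over_cover _ B U
        (fun V => V.1) (fun V => homOfLE V.2.2) ?_ fun V => V.2.1⟩
      intro x hx
      obtain ⟨V, hV, hxV, hVU⟩ := (Opens.isBasis_iff_nbhd.1 hB) hx
      exact ⟨V, homOfLE hVU, ⟨V, 𝟙 _, homOfLE hVU,
        Presieve.ofArrows.mk (Y := fun W : {V : Opens X // V ∈ B ∧ V ≤ U.left} => W.1)
          (f := fun W => homOfLE W.2.2) ⟨V, hV, hVU⟩, Category.id_comp _⟩, hxV⟩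
  exact ⟨K, (Groth.Agent.HyperLib.isHypercovering_iff _ _ K).2 hK, fun n i => hKB _ i⟩

end Groth.Agent.S0907
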