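import Groth.Statements.S0912
import Groth.Agent.KFlatLib.Scheme.Flatness
-- import your own Groth.Agent.* helpers here

set_option autoImplicit false
universe u
open CategoryTheory
attribute [local instance] HasDerivedCategory.standard
open DCoh

namespace Groth.Agent.S0912

open AlgebraicGeometry in
/-- For E in D(O_X) and integers a ≤ b, E has tor-amplitude in [a, b] (all H^i(E ⊗^L F), F an
O_X-module, vanish for i outside [a, b]; derived tensor products under their existence binder) if
and only if E is represented by a complex of flat O_X-modules which is zero outside [a, b]. The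
existence of the derived tensor product – ⊗^L G for every O_X-module G is assumed (hypothesis hL). -/
theorem result {X : Scheme.{u}} (E : DCoh.D X) (a b : ℤ) (hab : a ≤ b)
    (hL : ∀ G : X.Modules, DCoh.HasLTensorMod G) :
    DCoh.HasTorAmplitudeIn a b E ↔ DCoh.HasFlatAmplitudeIn a b E := ⟨Groth.Agent.KFlatLib.flatAmplitude_of_torAmplitude hL hab, Groth.Agent.KFlatLib.torAmplitude_of_flatAmplitude⟩

end Groth.Agent.S0912
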