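import Groth.Statements.S0916
import Groth.Agent.KFlatLib.Scheme.Flatness
-- import your own Groth.Agent.* helpers here

set_option autoImplicit false
universe u
open CategoryTheory
attribute [local instance] HasDerivedCategory.standard
open DCoh

namespace Groth.Agent.S0916

open AlgebraicGeometry CategoryTheory.Limits in
/-- Flatness of an O_X-module F (all stalks flat) is equivalent to the following Tor-vanishing: for
every O_X-module G the sheaf Tor_1(F, G), i.e. H^{-1} of F ⊗^L G, vanishes; the existence of the
derived tensor product with every G is assumed (hypothesis hL). -/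
theorem result {X : Scheme.{u}} (F : X.Modules) (hL : ∀ G : X.Modules, DCoh.HasLTensorMod G) :
    FlatMod.IsFlat F ↔ ∀ (G : X.Modules) [DCoh.HasLTensorMod G],
      IsZero (DCoh.HD ((DCoh.LTensorMod G).obj (DCoh.inD X F)) (-1)) := ⟨fun hF G _ => Groth.Agent.KFlatLib.torAmplitude_of_flatAmplitude (a := 0) (b := 0)
      ⟨(HomologicalComplex.single X.Modules (ComplexShape.up ℤ) 0).obj F,
        fun i hi => HomologicalComplex.isZero_single_obj_X _ _ _ _ (by omega),
        fun i => if h : i = 0 then
            Groth.Agent.KFlatLib.IsFlat.of_iso (h ▸ (HomologicalComplex.singleObjXSelf (ComplexShape.up ℤ) 0 F).symm) hF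
          else Groth.Agent.KFlatLib.IsFlat.of_isZero (HomologicalComplex.isZero_single_obj_X _ _ _ _ h),
        ⟨((DerivedCategory.singleFunctorIsoCompQ X.Modules 0).app F).symm⟩⟩ G (-1) (Or.inl (by omega)),
    Groth.Agent.KFlatLib.isFlat_of_isZero_tor F hL⟩

end Groth.Agent.S0916
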