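import Groth.Statements.S0917
import Groth.Agent.TriCat.ColimQuasiIso
import Mathlib.Algebra.Homology.DerivedCategory.Basic
import Mathlib.Algebra.Homology.HomotopyCategory.Pretriangulated

set_option autoImplicit false
universe v u
open CategoryTheory Category Limits ZeroObject
open CategoryTheory
open CohDer

namespace Groth.Agent.S0917

/-- In a Grothendieck abelian category A, given a small family (K_i) of acyclic cochain complexes, there
are an endofunctor N of the category of cochain complexes and a natural transformation j from the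
identity to N such that for every complex M: each component of j_M is a monomorphism, j_M is a
quasi-isomorphism, and for every i and every morphism w : K_i -> M the composite w ≫ j_M is
homotopic to zero. -/
theorem result {A : Type u} [Category.{v} A] [Abelian A]
    [IsGrothendieckAbelian.{v} A] {ι : Type v} (K : ι → CochainComplex A ℤ)
    (hK : ∀ i (n : ℤ), Limits.IsZero ((K i).homology n)) :
    ∃ (N : CochainComplex A ℤ ⥤ CochainComplex A ℤ) (j : 𝟭 _ ⟶ N),
      ∀ M : CochainComplex A ℤ, (∀ n : ℤ, Mono ((j.app M).f n)) ∧ QuasiIso (j.app M) ∧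
        ∀ (i : ι) (w : K i ⟶ M), Nonempty (Homotopy (w ≫ j.app M) 0) := by
  classical
  let S : CochainComplex A ℤ → CochainComplex A ℤ := fun M => ∐ fun p : Σ i, (K i ⟶ M) => K p.1
  let σ : ∀ M, S M ⟶ M := fun M => Sigma.desc fun p => p.2
  let a : ∀ {M M' : CochainComplex A ℤ}, (M ⟶ M') → (S M ⟶ S M') := fun {M M'} f =>
    Sigma.desc fun p => Sigma.ι (fun q : Σ i, (K i ⟶ M') => K q.1) ⟨p.1, p.2 ≫ f⟩
  have comm : ∀ {M M' : CochainComplex A ℤ} (f : M ⟶ M'), σ M ≫ f = a f ≫ σ M' := fun {M M'} f =>
    Sigma.hom_ext _ _ fun p => by simp [σ, a, S]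
  have a_id : ∀ M, a (𝟙 M) = 𝟙 (S M) := fun M => Sigma.hom_ext _ _ fun p => by
    show Sigma.ι _ p ≫ Sigma.desc _ = Sigma.ι _ p ≫ 𝟙 (∐ _)
    rw [Sigma.ι_desc, comp_id]
    congr! 2 <;> simp
  have a_comp : ∀ {M M' M'' : CochainComplex A ℤ} (f : M ⟶ M') (g : M' ⟶ M''), a (f ≫ g) = a f ≫ a g :=
    fun f g => Sigma.hom_ext _ _ fun p => by
      simp only [a, S, Sigma.ι_desc, Sigma.ι_desc_assoc]
      congr! 2; rw [Category.assoc]
  let N : CochainComplex A ℤ ⥤ CochainComplex A ℤ :=
    { obj := fun M => CochainComplex.mappingCone (σ M)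
      map := fun {M M'} f => CochainComplex.mappingCone.map (σ M) (σ M') (a f) f (comm f)
      map_id := fun M => by
        simp only [a_id]
        exact CochainComplex.mappingCone.map_id _
      map_comp := fun {M M' M''} f g => by
        simp only [a_comp]
        exact CochainComplex.mappingCone.map_comp _ _ _ _ _ (comm f) _ _ (comm g) }
  refine ⟨N, { app := fun M => CochainComplex.mappingCone.inr (σ M)
               naturality := fun M M' f => by simp [N, CochainComplex.mappingCone.map] }, fun M => ⟨fun n => ?_, ?_, fun i w => ?_⟩⟩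
  · exact (SplitMono.mk _ (CochainComplex.mappingCone.inr_f_snd_v (σ M) n)).mono
  · let := HasDerivedCategory.standard A
    have hS : IsZero (DerivedCategory.Q.obj (S M)) := by
      let F := Discrete.functor fun p : Σ i, (K i ⟶ M) => K p.1
      let Z := Discrete.functor fun _ : Σ i, (K i ⟶ M) => (0 : CochainComplex A ℤ)
      have hq : QuasiIso (colimMap (Discrete.natTrans fun _ => 0 : F ⟶ Z)) :=
        Groth.Agent.TriCat.quasiIso_of_isColimit (colimit.isColimit F) (colimit.isColimit Z) _
          (fun j => ⟨fun n => (quasiIsoAt_iff_isIso_homologyMap _ _).2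
            ((hK j.as.1 n).isIso ((HomologicalComplex.homologyFunctor A _ n).map_isZero (isZero_zero _)) _)⟩) _
          (fun j => ι_colimMap _ j)
      have hZ : IsZero (colimit Z) := by
        rw [IsZero.iff_id_eq_zero]
        exact colimit.hom_ext fun j => (isZero_zero _).eq_of_src _ _
      have := (DerivedCategory.isIso_Q_map_iff_quasiIso (φ := _)).2 hq
      exact (DerivedCategory.Q.map_isZero hZ).of_iso
        (asIso (DerivedCategory.Q.map (colimMap (Discrete.natTrans fun _ => 0 : F ⟶ Z))))
    have hT := DerivedCategory.mappingCone_triangle_distinguished (σ M)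
    have : IsIso (DerivedCategory.Q.map (CochainComplex.mappingCone.inr (σ M))) :=
      (Pretriangulated.Triangle.isZero₁_iff_isIso₂ _ hT).1 hS
    exact (DerivedCategory.isIso_Q_map_iff_quasiIso (φ := _)).1 this
  · let ι' := Sigma.ι (fun p : Σ i, (K i ⟶ M) => K p.1) ⟨i, w⟩
    have e : w ≫ CochainComplex.mappingCone.inr (σ M) = ι' ≫ σ M ≫ CochainComplex.mappingCone.inr (σ M) := by
      simp [ι', σ, S]
    have h := (HomologicalComplex.homotopyCofiber.inrCompHomotopy (σ M)
      (fun j => ⟨j - 1, by simp⟩)).compLeft ι'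
    exact ⟨(Homotopy.ofEq e).trans (h.trans (Homotopy.ofEq (by simp; rfl)))⟩

end Groth.Agent.S0917
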