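import Groth.Statements.S0919
import Mathlib.CategoryTheory.Adjunction.AdjointFunctorTheorems
import Mathlib.CategoryTheory.Abelian.GrothendieckCategory.Basic
import Mathlib.CategoryTheory.Limits.Yoneda
import Mathlib.CategoryTheory.Abelian.Subobject

set_option autoImplicit false
universe v u
open CategoryTheory
open CohDer

namespace Groth.Agent.S0919

open CategoryTheory.Limits in
/-- Let A be a Grothendieck abelian category and F a contravariant functor from A to sets (a functor on
the opposite category). Then F is representable if and only if F turns all small colimits of A into
limits, i.e. preserves small limits as a functor on the opposite category. -/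
theorem result {A : Type u} [Category.{v} A] [Abelian A]
    [IsGrothendieckAbelian.{v} A] (F : Aᵒᵖ ⥤ Type v) :
    F.IsRepresentable ↔ PreservesLimitsOfSize.{v, v} F := by
  constructor
  · intro h
    exact preservesLimits_of_natIso F.representableBy.toIso
  · intro h
    have hP : (ObjectProperty.singleton (separator A)).op.IsCoseparating :=
      (ObjectProperty.isCoseparating_op_iff _).2 (isSeparator_separator A)
    have : WellPowered.{v} Aᵒᵖ := inferInstance
    have : F.IsRightAdjoint := isRightAdjoint_of_preservesLimits_of_isCoseparating hP F
    let adj := Adjunction.ofIsRightAdjoint F
    exact ⟨(F.leftAdjoint.obj PUnit).unop, ⟨{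
      homEquiv := fun {X} => (opEquiv (Opposite.op ((F.leftAdjoint.obj PUnit).unop)) (Opposite.op X)).symm.trans
        ((adj.homEquiv PUnit (Opposite.op X)).trans
          { toFun := fun f => f PUnit.unit
            invFun := fun x => TypeCat.ofHom fun _ => x
            left_inv := fun f => rfl
            right_inv := fun x => rfl })
      homEquiv_comp := fun {X X'} f g => by
        simp [opEquiv, adj.homEquiv_naturality_right] }⟩⟩

end Groth.Agent.S0919
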