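import Groth.Statements.S0920
import Groth.Agent.KFlatLib.Scheme.Amplitude
-- import your own Groth.Agent.* helpers here

set_option autoImplicit false
universe u
open CategoryTheory
attribute [local instance] HasDerivedCategory.standard
open DCoh

namespace Groth.Agent.S0920

open AlgebraicGeometry in
/-- For f : X -> Y and E in D(O_Y) represented by a complex of flat modules vanishing outside [a, b],
the derived pullback Lf^* E (under its existence binder) has tor-amplitude in [a, b]. -/
theorem result {X Y : Scheme.{u}} (f : X ⟶ Y) [DCoh.HasLpull f] (E : DCoh.D Y) (a b : ℤ)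
    (hE : DCoh.HasFlatAmplitudeIn a b E) : DCoh.HasTorAmplitudeIn a b ((DCoh.Lpull f).obj E) := Groth.Agent.KFlatLib.torAmplitude_of_flatAmplitude (Groth.Agent.KFlatLib.flatAmplitude_lpull f hE)

end Groth.Agent.S0920
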