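import Groth.Statements.S0926
import Groth.Agent.SiteBase.ConstIrreducible
import Mathlib.GroupTheory.Archimedean

set_option autoImplicit false
universe u
open CategoryTheory
open CohTop

namespace Groth.Agent.S0926

open TopologicalSpace CategoryTheory.Limits in
/-- Let X be an irreducible topological space and H an abelian subsheaf of the constant sheaf Z (given
by a monomorphism ι). Then there are a nonempty open U and an integer d such that over U the
subsheaf H coincides with the image of multiplication by d on the constant sheaf: the images of ι|_U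
and of (d · id)|_U agree as subobjects of the constant sheaf on U. -/
theorem result {X : TopCat.{u}} [IrreducibleSpace X]
    (H : CohTop.Ab X) (ι : H ⟶ CohTop.const X (ULift.{u} ℤ)) [Mono ι] :
    ∃ (U : Opens X) (d : ℤ), U ≠ ⊥ ∧
      imageSubobject ((CohTop.restrFunctor U).map ι) =
        imageSubobject ((CohTop.restrFunctor U).map (d • 𝟙 (CohTop.const X (ULift.{u} ℤ)))) := by
  classical
  let G := ULift.{u} ℤ
  let D := {V : Opens X // (V : Set X).Nonempty}
  let S : AddSubgroup ℤ :=
    { carrier := {a | ∃ (V : D) (s : H.obj.obj (Opposite.op V.1)),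
        SiteBase.constVal X G V.1 V.2 (ι.hom.app (Opposite.op V.1) s) = ULift.up a}
      zero_mem' := ⟨⟨⊤, Set.univ_nonempty⟩, 0, by rw [map_zero, map_zero]; rfl⟩
      add_mem' := by
        rintro a b ⟨V, s, hs⟩ ⟨W, t, ht⟩
        have hVW : ((V.1 ⊓ W.1 : Opens X) : Set X).Nonempty := nonempty_preirreducible_inter V.1.isOpen W.1.isOpen V.2 W.2
        refine ⟨⟨V.1 ⊓ W.1, hVW⟩, H.obj.map (homOfLE inf_le_left).op s + H.obj.map (homOfLE inf_le_right).op t, ?_⟩
        rw [map_add, map_add, NatTrans.naturality_apply ι.hom, NatTrans.naturality_apply ι.hom,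
          SiteBase.constVal_map, SiteBase.constVal_map, hs, ht]
        rfl
      neg_mem' := by
        rintro a ⟨V, s, hs⟩
        exact ⟨V, -s, by rw [map_neg, map_neg, hs]; rfl⟩ }
  obtain ⟨d, hd⟩ : ∃ d, S = AddSubgroup.zmultiples d :=
    (Int.subgroup_cyclic S).imp fun d hd => by rw [hd, AddSubgroup.zmultiples_eq_closure]
  obtain ⟨⟨U, hU⟩, s₀, hs₀⟩ : ∃ (V : D) (s : H.obj.obj (Opposite.op V.1)),
      SiteBase.constVal X G V.1 V.2 (ι.hom.app (Opposite.op V.1) s) = ULift.up d :=
    (show d ∈ S from hd ▸ AddSubgroup.mem_zmultiples d)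
  have hdiv : ∀ (V : Opens X) (s : H.obj.obj (Opposite.op V)), ∃ t : (CohTop.const X G).obj.obj (Opposite.op V),
      d • t = ι.hom.app (Opposite.op V) s := fun V s => by
    by_cases hV : (V : Set X).Nonempty
    · obtain ⟨m, hm⟩ : (SiteBase.constVal X G V hV (ι.hom.app (Opposite.op V) s)).down ∈ AddSubgroup.zmultiples d :=
        hd ▸ ⟨⟨V, hV⟩, s, rfl⟩
      obtain ⟨t, ht⟩ := (SiteBase.constVal_bijective X G V hV).2 (ULift.up m)
      refine ⟨t, (SiteBase.constVal_bijective X G V hV).1 ?_⟩
      rw [map_zsmul, ht]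
      refine ULift.ext _ _ ?_
      rw [← hm]
      show d • m = m • d
      rw [smul_eq_mul, smul_eq_mul, mul_comm]
    · exact ⟨0, (SiteBase.const_subsingleton_of_empty X G hV).elim _ _⟩
  have hU' : U ≠ ⊥ := fun h => by simp [h] at hU
  refine ⟨U, d, hU', ?_⟩
  by_cases hd0 : d = 0
  · subst hd0
    have : ι = (0 : H ⟶ CohTop.const X G) := Sheaf.hom_ext (NatTrans.ext (funext fun V => ConcreteCategory.hom_ext _ _ fun s => by
      obtain ⟨t, ht⟩ := hdiv V.unop s
      rw [zero_smul] at ht
      exact ht.symm))
    rw [this, zero_smul, Functor.map_zero, Functor.map_zero, imageSubobject_zero, imageSubobject_zero]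
  choose t ht using hdiv
  have hinj : ∀ (V : Opens X) (a b : (CohTop.const X G).obj.obj (Opposite.op V)), d • a = d • b → a = b := fun V a b h => by
    by_cases hV : (V : Set X).Nonempty
    · refine (SiteBase.constVal_bijective X G V hV).1 ?_
      have := congrArg (fun z => (SiteBase.constVal X G V hV z).down) h
      simp only [map_zsmul] at this
      exact ULift.ext _ _ (mul_left_cancel₀ hd0 this)
    · exact (SiteBase.const_subsingleton_of_empty X G hV).elim _ _
  let k : H ⟶ CohTop.const X G := ⟨
    { app := fun V => AddCommGrpCat.ofHom (AddMonoidHom.mk' (t V.unop) fun a b => hinj _ _ _ (by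
        rw [smul_add, ht, ht, ht, map_add]))
      naturality := fun V W i => ConcreteCategory.hom_ext _ _ fun s => hinj W.unop _ _ (by
        show d • t W.unop (H.obj.map i s) = d • (CohTop.const X G).obj.map i (t V.unop s)
        rw [ht, ← map_zsmul, ht]
        exact NatTrans.naturality_apply ι.hom i s) }⟩
  have hk : k ≫ (d • 𝟙 (CohTop.const X G)) = ι := Sheaf.hom_ext (NatTrans.ext (funext fun V => ConcreteCategory.hom_ext _ _ fun s => ht V.unop s))
  have hιinj : ∀ V, Function.Injective (ι.hom.app (Opposite.op V)) := fun V => by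
    have : Mono ι.hom := inferInstanceAs (Mono ((sheafToPresheaf _ _).map ι))
    exact (AddCommGrpCat.mono_iff_injective _).1 inferInstance
  have hbij : ∀ V : Opens X, V ≤ U → Function.Bijective (t V) := fun V hVU => by
    refine ⟨fun a b h => hιinj V (by rw [← ht, ← ht, h]), fun z => ?_⟩
    by_cases hV : (V : Set X).Nonempty
    · refine ⟨(SiteBase.constVal X G V hV z).down • H.obj.map (homOfLE hVU).op s₀, hinj V _ _ ?_⟩
      rw [ht, map_zsmul]
      refine (SiteBase.constVal_bijective X G V hV).1 (ULift.ext _ _ ?_)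
      rw [map_zsmul, map_zsmul, NatTrans.naturality_apply ι.hom, SiteBase.constVal_map, hs₀]
      show _ * d = d * _
      exact mul_comm _ _
    · exact ⟨0, (SiteBase.const_subsingleton_of_empty X G hV).elim _ _⟩
  have : IsIso ((CohTop.restrFunctor U).map k) := by
    have : ∀ V, IsIso (((CohTop.restrFunctor U).map k).hom.app V) := fun V =>
      (ConcreteCategory.isIso_iff_bijective _).2 (hbij _ (by rintro x ⟨y, -, rfl⟩; exact y.2))
    have : IsIso ((sheafToPresheaf _ _).map ((CohTop.restrFunctor U).map k)) :=
      NatIso.isIso_of_isIso_app ((CohTop.restrFunctor U).map k).hom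
    exact isIso_of_reflects_iso _ (sheafToPresheaf _ _)
  rw [← hk, Functor.map_comp, imageSubobject_iso_comp]

end Groth.Agent.S0926
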