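import Groth.Statements.S0928
import Groth.Agent.TriCat.GrothInst

set_option autoImplicit false
universe u
open CategoryTheory
open CohDer

namespace Groth.Agent.S0928

/-- On a small category C the category of presheaves of abelian groups has functorial injective
embeddings: there are an endofunctor J of the presheaf category and a natural transformation from
the identity to J with each component a monomorphism into an injective presheaf. -/
theorem result {C : Type u} [SmallCategory C] :
    ∃ (J : (Cᵒᵖ ⥤ AddCommGrpCat.{u}) ⥤ (Cᵒᵖ ⥤ AddCommGrpCat.{u})) (j : 𝟭 _ ⟶ J),
      ∀ F : Cᵒᵖ ⥤ AddCommGrpCat.{u}, Injective (J.obj F) ∧ Mono (j.app F) := by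
  exact Groth.Agent.TriCat.exists_functorial_injective_embedding.{u}

end Groth.Agent.S0928
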