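import Groth.Statements.S0929
import Groth.Agent.TriCat.GrothInst

set_option autoImplicit false
universe u
open CategoryTheory
open CohDer

namespace Groth.Agent.S0929

/-- For a presheaf of rings O on a small category C, the category of presheaves of O-modules has
functorial injective embeddings (an endofunctor J with a natural transformation from the identity
whose components are monomorphisms into injective objects). -/
theorem result {C : Type u} [SmallCategory C]
    (O : Cᵒᵖ ⥤ RingCat.{u}) :
    ∃ (J : PresheafOfModules.{u} O ⥤ PresheafOfModules.{u} O) (j : 𝟭 _ ⟶ J),
      ∀ F : PresheafOfModules.{u} O, Injective (J.obj F) ∧ Mono (j.app F) := by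
  exact Groth.Agent.TriCat.exists_functorial_injective_embedding.{u}

end Groth.Agent.S0929
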