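import Groth.Statements.S0930
import Groth.Agent.H9Misc.PlusComp
import Groth.Agent.SiteBase.Top

set_option autoImplicit false
universe u
open CategoryTheory
attribute [local instance] HasDerivedCategory.standard
open CohTop

namespace Groth.Agent.S0930

/-- For continuous maps f : X -> Y and g : Y -> Z, the composite of the right derived functors Rf_* :
D^+(X) -> D^+(Y) and Rg_* : D^+(Y) -> D^+(Z) is isomorphic to R(g ∘ f)_* (existence of an
isomorphism of functors between bounded below derived categories). -/
theorem result {X Y Z : TopCat.{u}} (f : X ⟶ Y) (g : Y ⟶ Z) :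
    Nonempty ((CohTop.push f).rightDerivedFunctorPlus ⋙ (CohTop.push g).rightDerivedFunctorPlus ≅
      (CohTop.push (f ≫ g)).rightDerivedFunctorPlus) := by
  let F := CohTop.push f
  let G := CohTop.push g
  have : Limits.PreservesFiniteLimits F := (TopCat.Sheaf.pullbackPushforwardAdjunction AddCommGrpCat.{u} f).rightAdjoint_preservesLimits.{0, 0}.preservesFiniteLimits
  have : Limits.PreservesFiniteLimits G := (TopCat.Sheaf.pullbackPushforwardAdjunction AddCommGrpCat.{u} g).rightAdjoint_preservesLimits.{0, 0}.preservesFiniteLimits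
  have hFG : ∀ I : CohTop.Ab X, Injective I →
      IsIso (G.rightDerivedFunctorPlusUnit.app ((HomotopyCategory.Plus.singleFunctor (CohTop.Ab Y) 0).obj (F.obj I))) := fun I hI => by
    have : Injective (F.obj I) := Groth.Agent.SiteBase.injective_push f I
    exact (Groth.Agent.TriCat.isIso_unit_single_iff G _).2 ⟨inferInstance, Groth.Agent.TriCat.isRightAcyclic_of_injective (F.obj I)⟩
  let c : (CohTop.push (f ≫ g)).mapHomotopyCategoryPlus ≅ F.mapHomotopyCategoryPlus ⋙ G.mapHomotopyCategoryPlus :=
    (Functor.mapHomotopyCategoryPlusCompIso (Iso.refl (F ⋙ G))).symm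
  have := Groth.Agent.H9Misc.PlusComp.isRightDerived F G hFG c
  let RR := F.rightDerivedFunctorPlus ⋙ G.rightDerivedFunctorPlus
  let α : (CohTop.push (f ≫ g)).mapHomotopyCategoryPlus ⋙ DerivedCategory.Plus.Qh ⟶ DerivedCategory.Plus.Qh ⋙ RR :=
    Functor.whiskerRight c.hom DerivedCategory.Plus.Qh
        ≫ (Functor.associator _ _ _).hom
        ≫ Functor.whiskerLeft F.mapHomotopyCategoryPlus G.rightDerivedFunctorPlusUnit
        ≫ (Functor.associator _ _ _).inv
        ≫ Functor.whiskerRight F.rightDerivedFunctorPlusUnit G.rightDerivedFunctorPlus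
        ≫ (Functor.associator _ _ _).hom
  have : RR.IsRightDerivedFunctor α (HomotopyCategory.Plus.quasiIso (CohTop.Ab X)) := this
  exact ⟨Functor.rightDerivedUnique RR (CohTop.push (f ≫ g)).rightDerivedFunctorPlus α (CohTop.push (f ≫ g)).rightDerivedFunctorPlusUnit (HomotopyCategory.Plus.quasiIso (CohTop.Ab X))⟩

end Groth.Agent.S0930
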