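import Groth.Statements.S0934
import Groth.Agent.KFlatLib.Perfect.Local

set_option autoImplicit false
universe u
open CategoryTheory
open Coh

namespace Groth.Agent.S0934

open AlgebraicGeometry in
/-- Schemes; E finite locally free, which on a scheme is locally the same as a direct summand of a
finite free module: let p : G -> F be an epimorphism of O_X-modules and φ : E -> F a morphism with E
finite locally free. Then every point has an open neighbourhood V and a morphism ψ : E|_V -> G|_V
with ψ ≫ p|_V = φ|_V. -/
theorem result {X : Scheme.{u}} {E F G : X.Modules} (p : G ⟶ F) [Epi p] (φ : E ⟶ F)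
    (hE : FlatMod.IsFinLocFree E) (x : X) :
    ∃ (V : X.Opens) (ψ : E.restrict V.ι ⟶ G.restrict V.ι), x ∈ V ∧
      ψ ≫ (Scheme.Modules.restrictFunctor V.ι).map p = (Scheme.Modules.restrictFunctor V.ι).map φ := by
  exact Groth.Agent.KFlatLib.exists_lift hE p φ x

end Groth.Agent.S0934
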