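import Groth.Statements.S0943
import Groth.Agent.SiteBase.DLim.Acyclic

set_option autoImplicit false
universe u
open CategoryTheory
open CohSite

namespace Groth.Agent.S0943

open CategoryTheory.Limits in
/-- Abelian sheaves; the short exact sequence 0 -> R^1 lim H^{m-1}(U, K_n) -> H^m(U, R lim K_n) -> lim
H^m(U, K_n) -> 0 rendered by two consequences: let (K_n) be an inverse system in the derived
category of abelian sheaves on a site with a derived limit L through maps a_n : L -> K_n, U an
object and m an integer. Then every compatible family of classes in the H^m(U, K_n) lifts to H^m(U,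
L), and if the system H^{m-1}(U, K_n) has vanishing R^1 lim the lift is unique (a class with zero
images is zero). -/
theorem result {C : Type u} [SmallCategory C] {J : GrothendieckTopology C}
    [HasDerivedCategory.{u} (Sheaf J AddCommGrpCat.{u})]
    (K : ℕ → DerivedCategory (Sheaf J AddCommGrpCat.{u})) (t : ∀ n, K (n + 1) ⟶ K n) [HasProduct K]
    (L : DerivedCategory (Sheaf J AddCommGrpCat.{u})) (a : ∀ n, L ⟶ K n) (hL : CohCx.IsRlimVia K t L a)
    (U : C) (m : ℤ) :
    (∀ x : ∀ n, CohCx.HDU (K n) m U,
      (∀ n, x (n + 1) ≫ (shiftFunctor _ m).map (t n) = x n) →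
      ∃ y : CohCx.HDU L m U, ∀ n, y ≫ (shiftFunctor _ m).map (a n) = x n) ∧
    (CohCx.LimOneIsZero (fun n => CohCx.HDU (K n) (m - 1) U)
        (fun n => Preadditive.rightComp _ ((shiftFunctor _ (m - 1)).map (t n))) →
      ∀ y : CohCx.HDU L m U, (∀ n, y ≫ (shiftFunctor _ m).map (a n) = 0) → y = 0) := by
  refine ⟨fun x hx => DLim.rlim_exists_lift hL m x hx, fun h y hy => DLim.rlim_eq_zero hL m (fun b => ?_) y hy⟩
  obtain ⟨w, hw⟩ := h b
  exact ⟨w, fun n => congrFun hw n⟩

end Groth.Agent.S0943
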