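import Groth.Statements.S0957
import Groth.Agent.KFlatLib.Scheme.KFlat
-- import your own Groth.Agent.* helpers here

set_option autoImplicit false
universe u
open CategoryTheory
attribute [local instance] HasDerivedCategory.standard
open DCoh

namespace Groth.Agent.S0957

open AlgebraicGeometry in
/-- Let 0 -> K₁ -> K₂ -> K₃ -> 0 be a short exact sequence of complexes of O_X-modules such that every
term of K₃ is a flat O_X-module. If two of K₁, K₂, K₃ are K-flat then so is the third. -/
theorem result {X : Scheme.{u}} (S : ShortComplex (CochainComplex X.Modules ℤ))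
    (hS : S.ShortExact) (h3 : ∀ n : ℤ, FlatMod.IsFlat (S.X₃.X n)) :
    (DCoh.IsKFlat S.X₁ → DCoh.IsKFlat S.X₂ → DCoh.IsKFlat S.X₃) ∧
    (DCoh.IsKFlat S.X₁ → DCoh.IsKFlat S.X₃ → DCoh.IsKFlat S.X₂) ∧
    (DCoh.IsKFlat S.X₂ → DCoh.IsKFlat S.X₃ → DCoh.IsKFlat S.X₁) := Groth.Agent.KFlatLib.kFlat_two_out_of_three (T := DCoh.tensorBi)
    (Groth.Agent.KFlatLib.shortExact_tensorCx hS h3)

end Groth.Agent.S0957
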