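import Groth.Statements.S0972
import Groth.Agent.H9Misc.DimZero

set_option autoImplicit false
universe v u
open CategoryTheory CategoryTheory.Limits
open CohDer

namespace Groth.Agent.S0972

/-- Let d assign to each object of an abelian category a value in ℕ∞, invariant under isomorphism, such
that every object embeds into an object with d = 0, d of a binary biproduct is at most the maximum
of the d of the summands, and in a short exact sequence 0 → X₁ → X₂ → X₃ → 0 one has d(X₃) ≤
max(d(X₁) - 1, d(X₂)). If K is a cochain complex with all d(Kⁿ) finite (the source allows the value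
∞; we state the finite case) and n + d(Kⁿ) tending to -∞ as n → -∞, then K maps quasi-isomorphically
to a complex L all of whose terms have d = 0. -/
theorem result {A : Type u} [Category.{v} A] [Abelian A] (d : A → ℕ∞) (hiso : ∀ ⦃X Y : A⦄, Nonempty (X ≅ Y) → d X = d Y)
    (h1 : ∀ X : A, ∃ (Y : A) (ι : X ⟶ Y), Mono ι ∧ d Y = 0)
    (h2 : ∀ X Y : A, d (X ⊞ Y) ≤ max (d X) (d Y))
    (h3 : ∀ S : ShortComplex A, S.ShortExact → d S.X₃ ≤ max (d S.X₁ - 1) (d S.X₂))
    (K : CochainComplex A ℤ) (hfin : ∀ n : ℤ, d (K.X n) ≠ ⊤)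
    (hK : ∀ m : ℤ, ∃ N : ℤ, ∀ n : ℤ, n ≤ N → ∃ k : ℕ, d (K.X n) = k ∧ n + k ≤ m) :
    ∃ (L : CochainComplex A ℤ) (f : K ⟶ L), QuasiIso f ∧ ∀ n, d (L.X n) = 0 := by
  exact Groth.Agent.H9Misc.DimZero.exists_replacement d hiso h1 h2 h3 K hfin hK

end Groth.Agent.S0972
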