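import Groth.Statements.S0973
import Groth.Agent.H9Misc.Split

set_option autoImplicit false
universe w v u
open CategoryTheory CategoryTheory.Limits
open CohDer

namespace Groth.Agent.S0973

/-- Let K be an object of the derived category of an abelian category with cohomology concentrated in
degrees a, …, b. Suppose that for all i > j and p ≥ 2 every morphism H^i(K) ⟶ H^j(K)[p] in the
derived category (an element of Ext^p) vanishes. Then K splits: it is isomorphic to ⨁_{a ≤ i ≤ b}
Hⁱ(K)[-i]. -/
theorem result {A : Type u} [Category.{v} A] [Abelian A] [HasDerivedCategory.{w} A]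
    (K : DerivedCategory A) (a b : ℤ) [K.IsGE a] [K.IsLE b]
    (hExt : ∀ (i j : ℤ) (p : ℕ), j < i → 2 ≤ p →
      ∀ f : (DerivedCategory.singleFunctor A 0).obj ((DerivedCategory.homologyFunctor A i).obj K) ⟶
        ((DerivedCategory.singleFunctor A 0).obj ((DerivedCategory.homologyFunctor A j).obj K))⟦(p : ℤ)⟧, f = 0)
    [HasBiproduct (fun i : Finset.Icc a b => (DerivedCategory.singleFunctor A (i : ℤ)).obj ((DerivedCategory.homologyFunctor A (i : ℤ)).obj K))] :
    Nonempty (K ≅ ⨁ (fun i : Finset.Icc a b => (DerivedCategory.singleFunctor A (i : ℤ)).obj ((DerivedCategory.homologyFunctor A (i : ℤ)).obj K))) := by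
  exact Groth.Agent.H9Misc.nonempty_iso_biproduct_single K a b hExt

end Groth.Agent.S0973
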