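import Groth.Statements.S0980
import Groth.Agent.H26.H0Glob

set_option autoImplicit false
universe u
open CategoryTheory AlgebraicGeometry
open Perf

namespace Groth.Agent.S0980

/-- Let f : X ⟶ S be proper, flat and of finite presentation, and assume that for every point s of S the
global functions on the scheme-theoretic fibre X_s are exactly the residue field κ(s), in the sense
that pullback of functions along X_s ⟶ Spec κ(s) is an isomorphism on global sections. Then O_S ⟶
f_*O_X is an isomorphism: for every open V of S the map O_S(V) ⟶ O_X(f⁻¹V) is an isomorphism. (The
source adds that this persists after any base change; the hypotheses are stable under base change.) -/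
theorem result {X S : Scheme.{u}} (f : X ⟶ S) [IsProper f] [Flat f]
    [LocallyOfFinitePresentation f]
    (h : ∀ s : S, IsIso (f.fiberToSpecResidueField s).appTop) (V : S.Opens) : IsIso (f.app V) := by
  exact Groth.Agent.H26.FibModel.isIso_app f h V

end Groth.Agent.S0980
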