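import Groth.Statements.S0981
import Groth.Agent.H26.H0Glob
import Groth.Agent.GrpSchLib.AntiAffineBC
import Groth.Agent.GeomField.GlobalFunctions

set_option autoImplicit false
universe u
open CategoryTheory AlgebraicGeometry
open Perf

namespace Groth.Agent.S0981

open CategoryTheory.Limits in
/-- Let f : X ⟶ S be proper, flat and of finite presentation, and assume that for every algebraically
closed field K and every point Spec K ⟶ S the fibre X ×_S Spec K is a reduced, connected (in
particular nonempty) scheme. Then O_S ⟶ f_*O_X is an isomorphism: for every open V of S the map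
O_S(V) ⟶ O_X(f⁻¹V) is an isomorphism. (The source adds that this persists after any base change.) -/
theorem result {X S : Scheme.{u}} (f : X ⟶ S)
    [IsProper f] [Flat f] [LocallyOfFinitePresentation f]
    (h : ∀ (K : Type u) [Field K] [IsAlgClosed K] (g : Spec (CommRingCat.of K) ⟶ S),
      IsReduced (pullback f g) ∧ ConnectedSpace ↥(pullback f g))
    (V : S.Opens) : IsIso (f.app V) := by
  refine Groth.Agent.H26.FibModel.isIso_app f (fun s => ?_) V
  let k : Type u := ↥(S.residueField s)
  let K : Type u := AlgebraicClosure k
  let φ : k →+* K := algebraMap k K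
  let q : f.fiber s ⟶ Spec (CommRingCat.of k) := f.fiberToSpecResidueField s
  haveI : IsProper q := MorphismProperty.pullback_snd _ _ inferInstance
  let Y := pullback q (Spec.map (CommRingCat.ofHom φ))
  let g : Spec (CommRingCat.of K) ⟶ S := Spec.map (CommRingCat.ofHom φ) ≫ S.fromSpecResidueField s
  have hsq := (IsPullback.of_hasPullback q (Spec.map (CommRingCat.ofHom φ))).paste_horiz
    (IsPullback.of_hasPullback f (S.fromSpecResidueField s))
  let e : Y ≅ pullback f g := hsq.isoPullback
  obtain ⟨h1, h2⟩ := h K g
  haveI := h1
  haveI := h2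
  haveI : IsReduced Y := isReduced_of_isOpenImmersion e.hom
  haveI : ConnectedSpace ↥Y := (Scheme.homeoOfIso e).symm.surjective.connectedSpace
    (Scheme.homeoOfIso e).symm.continuous
  letI : Y.Over (Spec (CommRingCat.of K)) := ⟨pullback.snd q (Spec.map (CommRingCat.ofHom φ))⟩
  haveI : IsProper (Y ↘ Spec (CommRingCat.of K)) := MorphismProperty.pullback_snd _ _ inferInstance
  letI := Groth.Agent.GeomField.globalAlgebra K Y
  haveI := Groth.Agent.GeomField.finite_globalFunctions K Y
  letI : Field Γ(Y, ⊤) := (Groth.Agent.GeomField.isField_globalFunctions K Y).toField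
  haveI : Algebra.IsIntegral K Γ(Y, ⊤) := inferInstance
  have hK : Function.Bijective (algebraMap K Γ(Y, ⊤)) := IsAlgClosed.algebraMap_bijective_of_isIntegral
  have hY : Function.Bijective (pullback.snd q (Spec.map (CommRingCat.ofHom φ))).appTop := by
    have h3 := hK.comp (ConcreteCategory.bijective_of_isIso (Scheme.ΓSpecIso (CommRingCat.of K)).hom)
    convert! h3 using 1
    funext z
    show _ = (pullback.snd q (Spec.map (CommRingCat.ofHom φ))).appTop.hom
      ((Scheme.ΓSpecIso (CommRingCat.of K)).inv.hom ((Scheme.ΓSpecIso (CommRingCat.of K)).hom.hom z))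
    exact congrArg _ ((Scheme.ΓSpecIso (CommRingCat.of K)).hom_inv_id_apply z).symm
  exact (ConcreteCategory.isIso_iff_bijective _).2
    ((Groth.Agent.GrpSchLib.AntiAffine.bijective_appTop_iff_snd q φ).2 hY)

end Groth.Agent.S0981
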