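import Groth.Statements.S0982
import Groth.Agent.H9Misc.TFactor

set_option autoImplicit false
universe w v u
open CategoryTheory CategoryTheory.Limits
open CohDer

namespace Groth.Agent.S0982

/-- Let K : ℕ ⥤ CochainComplex A ℤ be a sequence of cochain maps K₀ → K₁ → K₂ → … in an abelian category
with Hⁱ(K₀) = 0 for i > 0 and such that for every j < n the map H⁻ʲ(Kⱼ) → H⁻ʲ(Kⱼ₊₁) is zero. Then in
the derived category the composite K₀ → Kₙ factors through the canonical truncation τ_{≤ -n}Kₙ → Kₙ. -/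
theorem result {A : Type u} [Category.{v} A] [Abelian A] [HasDerivedCategory.{w} A]
    (K : ℕ ⥤ CochainComplex A ℤ) (n : ℕ)
    (h0 : ∀ i : ℤ, 0 < i → IsZero ((K.obj 0).homology i))
    (hz : ∀ j : ℕ, j < n → HomologicalComplex.homologyMap (K.map (homOfLE (Nat.le_succ j))) (-(j : ℤ)) = 0) :
    ∃ φ : DerivedCategory.Q.obj (K.obj 0) ⟶ DerivedCategory.Q.obj ((K.obj n).truncLE (-(n : ℤ))),
      φ ≫ DerivedCategory.Q.map ((K.obj n).ιTruncLE (-(n : ℤ))) = DerivedCategory.Q.map (K.map (homOfLE (Nat.zero_le n))) := by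
  let t := DerivedCategory.TStructure.t (C := A)
  let H := DerivedCategory.homologyFunctor A
  have hle0 : (DerivedCategory.Q.obj (K.obj 0)).IsLE 0 := (DerivedCategory.isLE_Q_obj_iff _ _).2
    ((CochainComplex.isLE_iff _ _).2 fun i hi =>
      (HomologicalComplex.exactAt_iff_isZero_homology _ _).2 (h0 i hi))
  have key : ∀ j : ℕ, j ≤ n → ∃ (Z : DerivedCategory A) (_ : Z.IsLE (-(j : ℤ)))
      (φ : DerivedCategory.Q.obj (K.obj 0) ⟶ Z) (ι : Z ⟶ DerivedCategory.Q.obj (K.obj j)),
      φ ≫ ι = DerivedCategory.Q.map (K.map (homOfLE (Nat.zero_le j))) := by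
    intro j
    induction j with
    | zero =>
      intro _
      exact ⟨_, hle0, 𝟙 _, DerivedCategory.Q.map (K.map (homOfLE (Nat.zero_le 0))), Category.id_comp _⟩
    | succ j ih =>
      intro hj
      obtain ⟨Z, hZ, φ, ι, hφ⟩ := ih (Nat.le_of_succ_le hj)
      obtain ⟨g, hg⟩ := Groth.Agent.H9Misc.exists_lift_truncLT (-(j : ℤ))
        (ι ≫ DerivedCategory.Q.map (K.map (homOfLE (Nat.le_succ j)))) (by
          have e := DerivedCategory.homologyFunctorFactors_hom_naturality
            (K.map (homOfLE (Nat.le_succ j))) (-(j : ℤ))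
          rw [Functor.map_comp,
            (cancel_mono _).1 (e.trans ((congrArg (_ ≫ ·) (hz j hj)).trans (comp_zero.trans zero_comp.symm))),
            comp_zero])
      refine ⟨_, t.isLE_truncLT_obj _ _ _ (by push_cast; lia), φ ≫ g,
        (t.truncLTι (-(j : ℤ))).app _, ?_⟩
      rw [Category.assoc, hg, ← Category.assoc, hφ, ← Functor.map_comp, ← Functor.map_comp]
      rfl
  obtain ⟨Z, hZ, φ, ι, hφ⟩ := key n le_rfl
  obtain ⟨ψ, hψ⟩ := Groth.Agent.H9Misc.exists_lift_ιTruncLE (K.obj n) (-(n : ℤ)) ι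
  exact ⟨φ ≫ ψ, by rw [Category.assoc, hψ, hφ]⟩

end Groth.Agent.S0982
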