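import Groth.Statements.S0983


set_option autoImplicit false
universe v u
open CategoryTheory
open CohDer

namespace Groth.Agent.S0983

open CategoryTheory.Pretriangulated in
/-- In a triangulated category, a commutative square f ≫ v = u ≫ f' (with f : X ⟶ Y, f' : X' ⟶ Y', u : X
⟶ X', v : Y ⟶ Y') extends to a diagram with three distinguished rows (X, Y, Z), (X', Y', Z'), (X'',
Y'', Z'') and three distinguished columns (X, X', X''), (Y, Y', Y''), (Z, Z', Z''), in which all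
squares commute except the one formed by the third morphisms of the last row and last column, which
anticommutes; the fourth row and column are the shifts of the first ones. -/
theorem result {D : Type u} [Category.{v} D] [Preadditive D] [Limits.HasZeroObject D] [HasShift D ℤ]
    [∀ n : ℤ, (shiftFunctor D n).Additive] [Pretriangulated D] [IsTriangulated D]
    {X Y X' Y' : D} (f : X ⟶ Y) (f' : X' ⟶ Y') (u : X ⟶ X') (v : Y ⟶ Y') (comm : f ≫ v = u ≫ f') :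
    ∃ (Z Z' X'' Y'' Z'' : D) (g : Y ⟶ Z) (h : Z ⟶ (shiftFunctor D (1 : ℤ)).obj X)
      (g' : Y' ⟶ Z') (h' : Z' ⟶ (shiftFunctor D (1 : ℤ)).obj X')
      (f'' : X'' ⟶ Y'') (g'' : Y'' ⟶ Z'') (h'' : Z'' ⟶ (shiftFunctor D (1 : ℤ)).obj X'')
      (u' : X' ⟶ X'') (u'' : X'' ⟶ (shiftFunctor D (1 : ℤ)).obj X)
      (v' : Y' ⟶ Y'') (v'' : Y'' ⟶ (shiftFunctor D (1 : ℤ)).obj Y)
      (w : Z ⟶ Z') (w' : Z' ⟶ Z'') (w'' : Z'' ⟶ (shiftFunctor D (1 : ℤ)).obj Z),
      Triangle.mk f g h ∈ distinguishedTriangles ∧ Triangle.mk f' g' h' ∈ distinguishedTriangles ∧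
      Triangle.mk f'' g'' h'' ∈ distinguishedTriangles ∧
      Triangle.mk u u' u'' ∈ distinguishedTriangles ∧ Triangle.mk v v' v'' ∈ distinguishedTriangles ∧
      Triangle.mk w w' w'' ∈ distinguishedTriangles ∧
      g ≫ w = v ≫ g' ∧ h ≫ (shiftFunctor D (1 : ℤ)).map u = w ≫ h' ∧
      f' ≫ v' = u' ≫ f'' ∧ g' ≫ w' = v' ≫ g'' ∧ h' ≫ (shiftFunctor D (1 : ℤ)).map u' = w' ≫ h'' ∧
      f'' ≫ v'' = u'' ≫ (shiftFunctor D (1 : ℤ)).map f ∧ g'' ≫ w'' = v'' ≫ (shiftFunctor D (1 : ℤ)).map g ∧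
      h'' ≫ (shiftFunctor D (1 : ℤ)).map u'' = -(w'' ≫ (shiftFunctor D (1 : ℤ)).map h) := by
  obtain ⟨Z, g, h, hT⟩ := Pretriangulated.distinguished_cocone_triangle f
  obtain ⟨Z', g', h', hT'⟩ := Pretriangulated.distinguished_cocone_triangle f'
  obtain ⟨X'', u', u'', hU⟩ := Pretriangulated.distinguished_cocone_triangle u
  obtain ⟨Y'', v', v'', hV⟩ := Pretriangulated.distinguished_cocone_triangle v
  obtain ⟨W, p₂, p₃, hP⟩ := Pretriangulated.distinguished_cocone_triangle (f ≫ v)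
  obtain ⟨a₁, b₁, c1, c2, c3, c4, M₁⟩ := CategoryTheory.Triangulated.someOctahedron rfl hT hV hP
  obtain ⟨a₂, b₂, d1, d2, d3, d4, M₂⟩ := CategoryTheory.Triangulated.someOctahedron comm.symm hU hT' hP
  obtain ⟨Z'', g'', h'', hF⟩ := Pretriangulated.distinguished_cocone_triangle (a₂ ≫ b₁)
  have hR : Pretriangulated.Triangle.mk b₁ (v'' ≫ g⟦(1 : ℤ)⟧') (-(a₁⟦(1 : ℤ)⟧')) ∈
      Pretriangulated.distinguishedTriangles := Pretriangulated.rot_of_distTriang _ M₁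
  obtain ⟨a₃, b₃, e1, e2, e3, e4, M₃⟩ := CategoryTheory.Triangulated.someOctahedron rfl M₂ hR hF
  refine ⟨Z, Z', X'', Y'', Z'', g, h, g', h', a₂ ≫ b₁, g'', h'', u', u'', v', v'', a₁ ≫ b₂, a₃, b₃,
    hT, hT', hF, hU, hV, ?_, ?_, ?_, ?_, ?_, ?_, ?_, ?_, ?_⟩
  · refine (Pretriangulated.rotate_distinguished_triangle _).2 ?_
    have e : -((a₁ ≫ b₂)⟦(1 : ℤ)⟧') = (-(a₁⟦(1 : ℤ)⟧')) ≫ b₂⟦(1 : ℤ)⟧' := by
      rw [Preadditive.neg_comp, Functor.map_comp]
    show Pretriangulated.Triangle.mk a₃ b₃ (-((a₁ ≫ b₂)⟦(1 : ℤ)⟧')) ∈ _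
    rw [e]
    exact M₃
  · rw [reassoc_of% c1, d3]
  · rw [Category.assoc, ← d4, ← c2, Category.assoc]
  · rw [← c3, ← Category.assoc, ← d1, Category.assoc]
  · rw [← d3, Category.assoc, e1, ← Category.assoc, c3]
  · exact e2.symm
  · rw [Category.assoc, ← c4, ← Category.assoc, d2]
  · exact e3
  · have e' := congrArg (· ≫ p₃⟦(1 : ℤ)⟧') e4
    simp only [Category.assoc, Preadditive.neg_comp, ← Functor.map_comp, c2, d2] at e'
    rw [e', Preadditive.comp_neg]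

end Groth.Agent.S0983
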