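import Groth.Statements.S0987
import Groth.Agent.KZ.Derived

set_option autoImplicit false
universe w v u
open CategoryTheory CategoryTheory.Limits
open KZero
open scoped ZeroObject

namespace Groth.Agent.S0987

/-- For an abelian category A there is an isomorphism between K₀(A) and K₀ of the bounded derived
category D^b(A) (objects of D(A) with bounded cohomology, with the distinguished triangles of D(A))
which sends the class of an object X to the class of X placed in degree 0. -/
theorem result (A : Type u) [Category.{v} A] [Abelian A] [HasDerivedCategory.{w} A] :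
    ∃ φ : KZero.K0 A ≃+ KZero.K0tr (fun X : DerivedCategory A => ∃ a b : ℤ, X.IsGE a ∧ X.IsLE b),
      ∀ X : A, φ (KZero.cl X) =
        KZero.clTr (fun X : DerivedCategory A => ∃ a b : ℤ, X.IsGE a ∧ X.IsLE b) ((DerivedCategory.singleFunctor A 0).obj X) := by
  let T : ObjectProperty A := fun _ => True
  have : T.IsClosedUnderKernels := ⟨fun _ _ => trivial⟩
  have : T.IsClosedUnderIsomorphisms := ⟨fun _ _ => trivial⟩
  have : T.ContainsZero := ⟨⟨0, isZero_zero A, trivial⟩⟩
  obtain ⟨φ, hφ⟩ := KZ.exists_equiv T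
    (fun X : DerivedCategory A => ∃ a b : ℤ, X.IsGE a ∧ X.IsLE b)
    (fun K => ⟨fun h => ⟨fun _ => trivial, h⟩, fun h => h.2⟩)
  obtain ⟨r, hr⟩ := KZ.exists_lift (KZero.clSub T)
    (fun S hS => KZ.clSub_ses T hS trivial trivial trivial)
  obtain ⟨s, hs⟩ := KZ.exists_liftSub T (fun X => KZero.cl X) (fun S hS _ _ _ => KZ.cl_ses hS)
  let e : KZero.K0 A ≃+ KZero.K0sub T :=
    AddMonoidHom.toAddEquiv r s
      (KZ.K0_hom_ext fun X => by simp [hr, hs X trivial])
      (KZ.K0sub_hom_ext T fun X _ => by simp [hr, hs X trivial])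
  refine ⟨e.trans φ, fun X => ?_⟩
  show φ (r (KZero.cl X)) = _
  rw [hr]
  exact hφ X trivial

end Groth.Agent.S0987
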