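import Groth.Statements.S0989
import Mathlib.Algebra.Homology.DerivedCategory.HomologySequence
import Mathlib.Algebra.Homology.ExactSequence
import Mathlib.CategoryTheory.Triangulated.Subcategory
import Mathlib.Algebra.Homology.DerivedCategory.ShortExact
import Mathlib.CategoryTheory.ObjectProperty.Retract

set_option autoImplicit false
universe w v u
open CategoryTheory CategoryTheory.Limits
open CohDer

namespace Groth.Agent.S0989

/-- Let P be a weak Serre class in an abelian category A: P is closed under isomorphisms, holds for a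
zero object, and whenever X₀ → X₁ → X₂ → X₃ → X₄ is exact with P holding for X₀, X₁, X₃, X₄ it holds
for X₂. Then the class of objects of the derived category all of whose cohomology objects satisfy P
is a triangulated subcategory (contains zero, stable under shifts, closed under extensions) which is
moreover closed under retracts (saturated). -/
theorem result {A : Type u} [Category.{v} A] [Abelian A] [HasDerivedCategory.{w} A]
    (P : ObjectProperty A) [P.IsClosedUnderIsomorphisms] (h0 : ∃ Z : A, IsZero Z ∧ P Z)
    (hP : ∀ S : ComposableArrows A 4, S.Exact → P (S.obj 0) → P (S.obj 1) → P (S.obj 3) → P (S.obj 4) → P (S.obj 2)) :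
    ObjectProperty.IsTriangulated (fun X : DerivedCategory A => ∀ n : ℤ, P ((DerivedCategory.homologyFunctor A n).obj X)) ∧
    ObjectProperty.IsStableUnderRetracts (fun X : DerivedCategory A => ∀ n : ℤ, P ((DerivedCategory.homologyFunctor A n).obj X)) := by
  let H := fun n : ℤ => DerivedCategory.homologyFunctor A n
  obtain ⟨Z, hZ, hPZ⟩ := h0
  have hiso : ObjectProperty.IsClosedUnderIsomorphisms
      (fun X : DerivedCategory A => ∀ n : ℤ, P ((H n).obj X)) :=
    ⟨fun e h n => P.prop_of_iso ((H n).mapIso e) (h n)⟩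
  refine ⟨{ exists_zero := ⟨_, Limits.isZero_zero _, fun n =>
              P.prop_of_iso (hZ.iso ((H n).map_isZero (Limits.isZero_zero _))) hPZ⟩,
            isStableUnderShiftBy := fun a => ⟨fun X h n => ?_⟩,
            toIsTriangulatedClosed₂ := ObjectProperty.IsTriangulatedClosed₂.mk'
              (fun T hT h₁ h₃ n => ?_) }, ⟨?_⟩⟩
  · exact P.prop_of_iso (((DerivedCategory.homologyFunctor A 0).shiftIso a n (a + n) rfl).app X).symm
      (h (a + n))
  · obtain ⟨e₁, he₁⟩ : ∃ n₁, n₁ = n - 1 := ⟨_, rfl⟩
    obtain ⟨e₂, he₂⟩ : ∃ n₂, n₂ = n + 1 := ⟨_, rfl⟩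
    exact hP (ComposableArrows.mk₄ (DerivedCategory.HomologySequence.δ T e₁ n (by omega))
      ((H n).map T.mor₁) ((H n).map T.mor₂) (DerivedCategory.HomologySequence.δ T n e₂ (by omega)))
      (ComposableArrows.exact_of_δ₀
        (DerivedCategory.HomologySequence.exact₁ T hT e₁ n (by omega)).exact_toComposableArrows
        (ComposableArrows.exact_of_δ₀
          (DerivedCategory.HomologySequence.exact₂ T hT n).exact_toComposableArrows
          (DerivedCategory.HomologySequence.exact₃ T hT n e₂ (by omega)).exact_toComposableArrows))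
      (h₃ e₁) (h₁ n) (h₃ n) (h₁ e₂)
  · intro X Y r hY n
    let i := (H n).map r.i
    let p := (H n).map r.r
    have hip : i ≫ p = 𝟙 _ := by rw [← Functor.map_comp, r.retract, CategoryTheory.Functor.map_id]
    have hp : Epi p := SplitEpi.epi ⟨i, hip⟩
    have w₁ : (𝟙 _ - p ≫ i) ≫ p = 0 := by
      rw [Preadditive.sub_comp, Category.assoc, hip, Category.id_comp, Category.comp_id, sub_self]
    have hex₁ : (ShortComplex.mk (𝟙 _ - p ≫ i) p w₁).Exact := by
      refine (ShortComplex.exact_iff_exact_up_to_refinements _).2 fun B x hx => ?_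
      refine ⟨B, 𝟙 B, inferInstance, x, ?_⟩
      have hx' : x ≫ p = 0 := hx
      simp [Preadditive.comp_sub, reassoc_of% hx']
    have hex₂ : (ShortComplex.mk p (0 : _ ⟶ Z) Limits.comp_zero).Exact :=
      (ShortComplex.exact_iff_epi _ rfl).2 hp
    have hex₃ : (ShortComplex.mk (0 : (H n).obj X ⟶ Z) (𝟙 Z - 𝟙 Z) (by simp)).Exact :=
      ShortComplex.exact_of_isZero_X₂ _ hZ
    exact hP (ComposableArrows.mk₄ (𝟙 _ - p ≫ i) p (0 : (H n).obj X ⟶ Z) (𝟙 Z - 𝟙 Z))
      (ComposableArrows.exact_of_δ₀ hex₁.exact_toComposableArrows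
        (ComposableArrows.exact_of_δ₀ hex₂.exact_toComposableArrows hex₃.exact_toComposableArrows))
      (hY n) (hY n) hPZ hPZ

end Groth.Agent.S0989
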