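import Groth.Statements.S0991
import Groth.Agent.H9Misc.SerreDerived

set_option autoImplicit false
universe w w' v v' u u'
open CategoryTheory CategoryTheory.Limits
open CohDer

namespace Groth.Agent.S0991

/-- Let P be a Serre class in an abelian category A and v : A ⥤ Q an exact localization at the morphisms
with kernel and cokernel in P (a model of A/P). Suppose v has a left adjoint u whose unit 𝟭 ⟶ u ⋙ v
is an isomorphism. Then the induced functor D(A) ⥤ D(Q) is a localization at the class of morphisms
whose cone has all cohomology objects in P; that is, D(Q) is the Verdier quotient D(A)/D_P(A). -/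
theorem result {A : Type u} [Category.{v} A] [Abelian A] [HasDerivedCategory.{w} A]
    (P : ObjectProperty A) [P.IsSerreClass]
    {Q : Type u'} [Category.{v'} Q] [Abelian Q] [HasDerivedCategory.{w'} Q]
    (v : A ⥤ Q) [v.IsLocalization P.isoModSerre] [v.Additive] [PreservesFiniteLimits v] [PreservesFiniteColimits v]
    (u : Q ⥤ A) (adj : u ⊣ v) [IsIso adj.unit] :
    v.mapDerivedCategory.IsLocalization
      (ObjectProperty.trW (fun X : DerivedCategory A => ∀ n : ℤ, P ((DerivedCategory.homologyFunctor A n).obj X))) := by
  exact Groth.Agent.H9Misc.SerreDerived.isLocalization v P u adj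

end Groth.Agent.S0991
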