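import Groth.Statements.S0992
import Mathlib.Algebra.Homology.HomologicalComplexLimits
import Mathlib.Algebra.Homology.ShortComplex.Ab
import Mathlib.Algebra.Category.Grp.Limits

set_option autoImplicit false
universe w
open CategoryTheory CategoryTheory.Limits Opposite
open CohDer

namespace Groth.Agent.S0992

/-- Let I be a well-ordered type and K : Iᵒᵖ ⥤ CochainComplex Ab an inverse system of acyclic complexes
of abelian groups such that for every β and every degree n, each family of elements of the Kⁿ_γ (γ <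
β) compatible under the transition maps lifts to an element of Kⁿ_β (i.e. Kⁿ_β → lim_{γ<β} Kⁿ_γ is
surjective). Then the limit complex lim K is acyclic. -/
theorem result {I : Type w} [LinearOrder I] [WellFoundedLT I]
    (K : Iᵒᵖ ⥤ CochainComplex AddCommGrpCat.{w} ℤ)
    (hac : ∀ (β : I) (n : ℤ), (K.obj (op β)).ExactAt n)
    (hsurj : ∀ (β : I) (n : ℤ) (x : ∀ γ : {γ : I // γ < β}, (K.obj (op γ.1)).X n),
      (∀ (γ γ' : {γ : I // γ < β}) (h : γ.1 ≤ γ'.1), ((K.map (homOfLE h).op).f n).hom (x γ') = x γ) →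
      ∃ y : (K.obj (op β)).X n, ∀ γ : {γ : I // γ < β}, ((K.map (homOfLE γ.2.le).op).f n).hom y = x γ)
    (n : ℤ) : (limit K).ExactAt n := by
  classical
  have rel : ∀ q : ℤ, (ComplexShape.up ℤ).Rel (q - 1) q := fun q => by simp
  let res : ∀ {γ' γ : I} (_ : γ ≤ γ') (q : ℤ), (K.obj (op γ')).X q → (K.obj (op γ)).X q :=
    fun h q x => ((K.map (homOfLE h).op).f q).hom x
  have res_res : ∀ {a b c : I} (h : a ≤ b) (h' : b ≤ c) (q : ℤ) (x : (K.obj (op c)).X q),
      res h q (res h' q x) = res (h.trans h') q x := fun h h' q x => by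
    show ((K.map (homOfLE h).op).f q).hom (((K.map (homOfLE h').op).f q).hom x) =
      ((K.map (homOfLE (h.trans h')).op).f q).hom x
    rw [show (homOfLE (h.trans h')).op = (homOfLE h').op ≫ (homOfLE h).op from rfl, K.map_comp,
      HomologicalComplex.comp_f]
    rfl
  have res_d : ∀ {a b : I} (h : a ≤ b) (q r : ℤ) (x : (K.obj (op b)).X q),
      ((K.obj (op a)).d q r).hom (res h q x) = res h r (((K.obj (op b)).d q r).hom x) :=
    fun h q r x => ConcreteCategory.congr_hom ((K.map (homOfLE h).op).comm q r) x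
  have prim : ∀ (β : I) (q : ℤ) (x : (K.obj (op β)).X q),
      ((K.obj (op β)).d q (q + 1)).hom x = 0 → ∃ y, ((K.obj (op β)).d (q - 1) q).hom y = x := by
    intro β q x hx
    exact (ShortComplex.ab_exact_iff _).1 (((K.obj (op β)).exactAt_iff' (q - 1) q (q + 1)
      ((ComplexShape.up ℤ).prev_eq' (rel q)) ((ComplexShape.up ℤ).next_eq' rfl)).1 (hac β q)) x hx
  let T : Set I → Prop := fun S => ∀ (q : ℤ) (x : ∀ γ : S, (K.obj (op γ.1)).X q),
    (∀ (γ γ' : S) (h : γ.1 ≤ γ'.1), res h q (x γ') = x γ) →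
    (∀ γ : S, ((K.obj (op γ.1)).d q (q + 1)).hom (x γ) = 0) →
    ∃ y : ∀ γ : S, (K.obj (op γ.1)).X (q - 1),
      (∀ (γ γ' : S) (h : γ.1 ≤ γ'.1), res h (q - 1) (y γ') = y γ) ∧
      ∀ γ : S, ((K.obj (op γ.1)).d (q - 1) q).hom (y γ) = x γ
  have step : ∀ S : Set I, (∀ γ ∈ S, ∀ δ < γ, δ ∈ S) → (∀ γ ∈ S, T {δ | δ < γ}) → T S := by
    intro S hS hT q x hx hdx
    let x' : ∀ γ, γ ∈ S → (K.obj (op γ)).X q := fun γ h => x ⟨γ, h⟩
    let Good : ∀ γ : I, (∀ δ, δ < γ → (K.obj (op δ)).X (q - 1)) → (K.obj (op γ)).X (q - 1) → Prop :=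
      fun γ p y => (∀ δ (h : δ < γ), res h.le (q - 1) y = p δ h) ∧
        ∀ h : γ ∈ S, ((K.obj (op γ)).d (q - 1) q).hom y = x' γ h
    let y : ∀ γ : I, (K.obj (op γ)).X (q - 1) := WellFoundedLT.fix
      fun γ p => if h : ∃ z, Good γ p z then h.choose else 0
    have hy : ∀ γ ∈ S, Good γ (fun δ _ => y δ) (y γ) := by
      intro γ
      induction γ using WellFoundedLT.induction with
      | _ γ ih =>
        intro hγ
        have hex : ∃ z, Good γ (fun δ _ => y δ) z := by
          obtain ⟨y', hy'⟩ := prim γ q (x' γ hγ) (hdx ⟨γ, hγ⟩)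
          have ihδ : ∀ δ : {δ | δ < γ}, Good δ.1 (fun ε _ => y ε) (y δ.1) :=
            fun δ => ih δ.1 δ.2 (hS γ hγ δ.1 δ.2)
          obtain ⟨w, hw, hw'⟩ := hT γ hγ (q - 1)
            (fun δ => res (le_of_lt δ.2) (q - 1) y' - y δ.1)
            (fun a b h => by
              show res h _ (res _ _ y' - y b.1) = _
              have e2 : res h (q - 1) (y b.1) = y a.1 := by
                rcases h.lt_or_eq with hlt | he
                · exact (ihδ b).1 a.1 hlt
                · obtain ⟨a, ha⟩ := a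
                  obtain ⟨b, hb⟩ := b
                  obtain rfl : a = b := he
                  show ((K.map (homOfLE h).op).f (q - 1)).hom (y a) = y a
                  rw [show (homOfLE h).op = 𝟙 (op a) from rfl, K.map_id]
                  rfl
              refine (map_sub ((K.map (homOfLE h).op).f (q - 1)).hom _ _).trans ?_
              exact congrArg₂ (· - ·) (res_res h (le_of_lt b.2) _ _) e2)
            (fun δ => by
              rw [show q - 1 + 1 = q by lia, map_sub, res_d, hy',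
                (ihδ δ).2 (hS γ hγ δ.1 δ.2), sub_eq_zero]
              exact hx ⟨δ.1, hS γ hγ δ.1 δ.2⟩ ⟨γ, hγ⟩ (le_of_lt δ.2))
          obtain ⟨w', hw''⟩ := hsurj γ (q - 1 - 1) (fun δ => w ⟨δ.1, δ.2⟩)
            (fun a b h => hw ⟨a.1, a.2⟩ ⟨b.1, b.2⟩ h)
          refine ⟨y' - ((K.obj (op γ)).d (q - 1 - 1) (q - 1)).hom w', fun δ h => ?_, fun h => ?_⟩
          · refine (map_sub ((K.map (homOfLE h.le).op).f (q - 1)).hom _ _).trans ?_
            refine (congrArg₂ (· - ·) rfl ((res_d h.le _ _ w').symm.trans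
              ((congrArg _ (hw'' ⟨δ, h⟩)).trans (hw' ⟨δ, h⟩)))).trans ?_
            exact sub_sub_cancel _ _
          · rw [map_sub, hy', ← ConcreteCategory.comp_apply, HomologicalComplex.d_comp_d]
            exact sub_zero _
        have e : y γ = if h : ∃ z, Good γ (fun δ _ => y δ) z then h.choose else 0 :=
          WellFoundedLT.fix_eq _ γ
        rw [e, dif_pos hex]
        exact hex.choose_spec
    refine ⟨fun γ => y γ.1, fun a b h => ?_, fun γ => (hy γ.1 γ.2).2 γ.2⟩
    rcases h.lt_or_eq with hlt | he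
    · exact (hy b.1 b.2).1 a.1 hlt
    · obtain ⟨a, ha⟩ := a
      obtain ⟨b, hb⟩ := b
      obtain rfl : a = b := he
      show ((K.map (homOfLE h).op).f (q - 1)).hom (y a) = y a
      rw [show (homOfLE h).op = 𝟙 (op a) from rfl, K.map_id]
      rfl
  have all : ∀ γ : I, T {δ | δ < γ} := by
    intro γ
    induction γ using WellFoundedLT.induction with
    | _ γ ih => exact step _ (fun a ha δ hδ => hδ.trans ha) (fun a ha => ih a ha)
  have hu : T Set.univ := step _ (fun _ _ _ _ => trivial) (fun a _ => all a)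
  rw [(limit K).exactAt_iff' (n - 1) n (n + 1) ((ComplexShape.up ℤ).prev_eq' (rel n))
    ((ComplexShape.up ℤ).next_eq' rfl), ShortComplex.ab_exact_iff]
  intro (x : (limit K).X n) (hx : ((limit K).d n (n + 1)).hom x = 0)
  obtain ⟨y, hy, hy'⟩ := hu n (fun γ => ((limit.π K (op γ.1)).f n).hom x)
    (fun a b h => ConcreteCategory.congr_hom
      (congrArg (fun φ => φ.f n) (limit.w K (homOfLE h).op)) x)
    (fun γ => by
      refine (ConcreteCategory.congr_hom ((limit.π K (op γ.1)).comm n (n + 1)) x).trans ?_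
      exact (congrArg _ hx).trans (map_zero ((limit.π K (op γ.1)).f (n + 1)).hom))
  let hlim := isLimitOfPreserves (HomologicalComplex.eval AddCommGrpCat.{w} (ComplexShape.up ℤ) (n - 1))
    (limit.isLimit K)
  let s : Cone (K ⋙ HomologicalComplex.eval AddCommGrpCat.{w} (ComplexShape.up ℤ) (n - 1)) :=
    { pt := AddCommGrpCat.of (ULift.{w} ℤ)
      π :=
        { app := fun γ => AddCommGrpCat.ofHom ((zmultiplesHom _ (y ⟨γ.unop, trivial⟩)).comp
            AddEquiv.ulift.toAddMonoidHom)
          naturality := fun a b h => by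
            apply AddCommGrpCat.hom_ext
            refine AddMonoidHom.ext fun m => ?_
            show m.down • y ⟨b.unop, trivial⟩ = ((K.map h).f (n - 1)).hom (m.down • y ⟨a.unop, trivial⟩)
            rw [map_zsmul]
            exact congrArg (m.down • ·) (hy ⟨b.unop, trivial⟩ ⟨a.unop, trivial⟩ (leOfHom h.unop)).symm } }
  refine ⟨(hlim.lift s).hom ⟨1⟩, Concrete.isLimit_ext _ (isLimitOfPreserves
    (HomologicalComplex.eval AddCommGrpCat.{w} (ComplexShape.up ℤ) n) (limit.isLimit K)) _ _
    fun γ => ?_⟩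
  refine (ConcreteCategory.congr_hom ((limit.π K γ).comm (n - 1) n).symm _).trans ?_
  refine (congrArg ((K.obj γ).d (n - 1) n).hom ?_).trans (hy' ⟨γ.unop, trivial⟩)
  exact (ConcreteCategory.congr_hom (hlim.fac s γ) (ULift.up (1 : ℤ))).trans (one_zsmul _)

end Groth.Agent.S0992
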