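import Groth.Statements.S10000
import Groth.Agent.AlgSpDec.LargeFieldPoints

set_option autoImplicit false
set_option backward.isDefEq.respectTransparency false
set_option backward.isDefEq.respectTransparency.types false
universe u
open CategoryTheory CategoryTheory.Limits AlgebraicGeometry
open AlgSp

namespace Groth.Agent.S10000

/-- For a morphism X ⟶ Y of algebraic spaces and an algebraically closed field k over S that is large
compared with X, X(k) surjects onto |X| ×_{|Y|} Y(k): every pair of a point x of |X| and a k-valued
point of Y with the same image in |Y| comes from a k-valued point of X. (The published statement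
measures largeness by a cardinal attached to X that bounds the residue fields of an etale atlas;
this row asks directly that every residue field of one surjective etale chart U of X have
cardinality smaller than that of k, which is how the bound enters the argument.) -/
theorem result {S : Scheme.{u}} {X Y : AlgSp.Space S} (f : X ⟶ Y)
    {U : Over S} (a : (AlgSp.yon S).obj U ⟶ X.obj) (ha : AlgSp.RepWith @Etale a) (has : AlgSp.RepWith @Surjective a)
    (ybar : AlgSp.FieldPt Y.obj) (hy : ybar.IsGeometric)
    (hk : ∀ u : ↥U.left, Cardinal.mk ↥(U.left.residueField u) < Cardinal.mk ybar.K)
    (x : AlgSp.Points X.obj) (hx : AlgSp.Points.map f.hom x = AlgSp.Points.mk ybar) :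
    ∃ xbar : (AlgSp.yon S).obj ybar.pt ⟶ X.obj, xbar ≫ f.hom = ybar.toHom ∧
      AlgSp.Points.ofPt xbar (IsLocalRing.closedPoint ybar.K) = x := by
  exact Groth.Agent.AlgSpDec.LargeFieldPoints.exists_geometric_lift f.hom Y.property a has ybar hy hk x hx

end Groth.Agent.S10000
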