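import Groth.Statements.S10003
import Groth.Agent.AlgSpDec.IdealFactor

set_option autoImplicit false
universe u
open CategoryTheory CategoryTheory.Limits AlgebraicGeometry Opposite
open AlgSp

namespace Groth.Agent.S10003

/-- For a quasi-compact morphism f : X ⟶ Y of algebraic spaces that is representable by schemes, the
sheaf of ideals Ker(O_Y ⟶ f_* O_X) (the kernel family on affine etale charts of Y) is
quasi-coherent, and the scheme theoretic image of f is exactly the closed subspace it cuts out. (The
published statement is for an arbitrary quasi-compact morphism of algebraic spaces; f_* O_X on the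
small etale site with scheme charts is available only for representable f, the case stated.) -/
theorem result {S : Scheme.{u}} {X Y : AlgSp.Space S} (f : X ⟶ Y)
    (hf : AlgSp.Representable f.hom) (hqc : AlgSp.IsQuasiCompactMor f.hom) :
    (AlgSp.idealOfRep hf).IsQCoh ∧
      ∀ (Z : AlgSp.Space S) (i : Z ⟶ Y), AlgSp.IsSchImage f.hom i.hom ↔ AlgSp.IsCutOutBy (AlgSp.idealOfRep hf) i.hom := by

  open Groth.Agent.AlgSpDec in
  refine ⟨isQCoh_idealOfRep hf hqc, fun Z i => ⟨fun hi => ?_, ?_⟩⟩
  · obtain ⟨Z₀, i₀, hi₀, he⟩ := exists_isCutOutBy (isQCoh_idealOfRep hf hqc) Y.property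
    obtain ⟨hc, ⟨f', hf'⟩, hmin⟩ := hi
    refine ⟨hc, idealEt_le_antisymm ((idealOfRep_le_iff_factor X.property Y.property hc hf).2 ⟨f', hf'⟩) ?_⟩
    obtain ⟨k, hk⟩ := hmin i₀ Z₀.property hi₀
      ((idealOfRep_le_iff_factor X.property Y.property hi₀ hf).1 (he ▸ idealEt_le_refl _))
    rw [← he]
    exact (idealOfRep_le_iff Y.property hi₀ hc).2 ⟨k, hk⟩
  · rintro ⟨hc, he⟩
    refine ⟨hc, (idealOfRep_le_iff_factor X.property Y.property hc hf).1 (he ▸ idealEt_le_refl _),
      fun Z' i' _ hi' hfac => (idealOfRep_le_iff Y.property hi' hc).1 ?_⟩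
    rw [he]
    exact (idealOfRep_le_iff_factor X.property Y.property hi' hf).2 hfac

end Groth.Agent.S10003
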