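import Groth.Statements.S10025
import Groth.Agent.AlgSpPts.LimPres
-- import your own Groth.Agent.* helpers here

set_option autoImplicit false
universe u
open CategoryTheory CategoryTheory.Limits AlgebraicGeometry
open AlgSp

namespace Groth.Agent.S10025

set_option backward.isDefEq.respectTransparency false
set_option backward.isDefEq.respectTransparency.types false

open AlgSp Groth.Agent.AlgSpPts

/-- The composite of two relatively limit preserving transformations of presheaves of sets on schemes
over `S` is relatively limit preserving. -/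
theorem result (S : Scheme.{u}) {F G H : AlgSp.PSp S} (a : F ⟶ G) (b : G ⟶ H)
    (ha : AlgSp.IsRelLimitPreserving a) (hb : AlgSp.IsRelLimitPreserving b) :
    AlgSp.IsRelLimitPreserving (a ≫ b) :=  by
  rw [isRelLimitPreserving_iff] at ha hb ⊢
  refine ⟨fun I _ _ D c hc hD hT i y x hx => ?_, fun I _ _ D c hc hD hT i x x' h h' => ?_⟩
  · obtain ⟨k, f, w, hw, hwx⟩ := hb.surj D c hc hD hT i y (a.app _ x) hx
    obtain ⟨l, g, z, hz, hzx⟩ := ha.surj D c hc hD hT k w x hwx.symm
    refine ⟨l, g ≫ f, z, ?_, hzx⟩
    exact (congrArg (b.app _) hz).trans ((app_map' b (D.map g) w).trans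
      ((congrArg _ hw).trans ((map_map' H (D.map g) (D.map f) y).trans (by rw [D.map_comp]))))
  · obtain ⟨k, f, hk⟩ := hb.inj D c hc hD hT i (a.app _ x) (a.app _ x') h
      ((app_map' a (c.π.app i) x).symm.trans ((congrArg _ h').trans (app_map' a (c.π.app i) x')))
    obtain ⟨l, g, hl⟩ := ha.inj D c hc hD hT k (F.map (D.map f).op x) (F.map (D.map f).op x')
      ((app_map' a (D.map f) x).trans (hk.trans (app_map' a (D.map f) x').symm))
      ((map_map' F (c.π.app k) (D.map f) x).trans ((congrArg (fun q => F.map q.op x) (c.w f)).trans (h'.trans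
        ((congrArg (fun q => F.map q.op x') (c.w f)).symm.trans (map_map' F (c.π.app k) (D.map f) x').symm))))
    refine ⟨l, g ≫ f, ?_⟩
    rw [D.map_comp]
    exact (map_map' F (D.map g) (D.map f) x).symm.trans (hl.trans (map_map' F (D.map g) (D.map f) x'))


end Groth.Agent.S10025
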