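import Groth.Statements.S10026
import Groth.Agent.AlgSpPts.LimPres
-- import your own Groth.Agent.* helpers here

set_option autoImplicit false
universe u
open CategoryTheory CategoryTheory.Limits AlgebraicGeometry
open AlgSp

namespace Groth.Agent.S10026

set_option backward.isDefEq.respectTransparency false
set_option backward.isDefEq.respectTransparency.types false

open AlgSp Groth.Agent.AlgSpPts

/-- Let `a : F ⟶ G`, `b : G ⟶ H` be transformations of presheaves of sets on schemes over `S`. If `a ≫
b` and `b` are relatively limit preserving, then so is `a`. -/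
theorem result (S : Scheme.{u}) {F G H : AlgSp.PSp S} (a : F ⟶ G) (b : G ⟶ H)
    (hab : AlgSp.IsRelLimitPreserving (a ≫ b)) (hb : AlgSp.IsRelLimitPreserving b) :
    AlgSp.IsRelLimitPreserving a :=  by
  rw [isRelLimitPreserving_iff] at hab hb ⊢
  refine ⟨fun I _ _ D c hc hD hT i y x hx => ?_, fun I _ _ D c hc hD hT i x x' h h' => ?_⟩
  · obtain ⟨k, f, w, hw, hwx⟩ := hab.surj D c hc hD hT i (b.app _ y) x
      ((congrArg (b.app _) hx).trans (app_map' b (c.π.app i) y))
    obtain ⟨l, g, hl⟩ := hb.inj D c hc hD hT k (a.app _ w) (G.map (D.map f).op y)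
      (hw.trans (app_map' b (D.map f) y).symm)
      ((app_map' a (c.π.app k) w).symm.trans ((congrArg (a.app _) hwx).trans (hx.trans
        ((congrArg (fun q => G.map q.op y) (c.w f)).symm.trans (map_map' G (c.π.app k) (D.map f) y).symm))))
    refine ⟨l, g ≫ f, F.map (D.map g).op w, ?_, ?_⟩
    · exact (app_map' a (D.map g) w).trans (hl.trans ((map_map' G (D.map g) (D.map f) y).trans
        (by rw [D.map_comp])))
    · exact (map_map' F (c.π.app l) (D.map g) w).trans ((congrArg (fun q => F.map q.op w) (c.w g)).trans hwx)
  · exact hab.inj D c hc hD hT i x x' (congrArg (b.app _) h) h'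


end Groth.Agent.S10026
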