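import Groth.Statements.S10027
import Groth.Agent.AlgSpPts.LimPres
-- import your own Groth.Agent.* helpers here

set_option autoImplicit false
universe u
open CategoryTheory CategoryTheory.Limits AlgebraicGeometry
open AlgSp

namespace Groth.Agent.S10027

set_option backward.isDefEq.respectTransparency false
set_option backward.isDefEq.respectTransparency.types false

open AlgSp Groth.Agent.AlgSpPts

/-- Let `a : F ⟶ G`, `b : H ⟶ G`, `c : G ⟶ E` be transformations of presheaves of sets on schemes over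
`S` and `P` a fibre product `F ×_G H`. If `c`, `a ≫ c` and `b ≫ c` are relatively limit preserving,
then so is `P ⟶ E`. -/
theorem result (S : Scheme.{u}) {E F G H P : AlgSp.PSp S}
    (a : F ⟶ G) (b : H ⟶ G) (c : G ⟶ E) (fst : P ⟶ F) (snd : P ⟶ H) (hP : IsPullback fst snd a b)
    (hc : AlgSp.IsRelLimitPreserving c) (hac : AlgSp.IsRelLimitPreserving (a ≫ c))
    (hbc : AlgSp.IsRelLimitPreserving (b ≫ c)) :
    AlgSp.IsRelLimitPreserving (fst ≫ a ≫ c) :=  by
  rw [isRelLimitPreserving_iff] at hc hac hbc ⊢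
  have hw : ∀ (T : Over S) (p : P.obj (Opposite.op T)), a.app _ (fst.app _ p) = b.app _ (snd.app _ p) := fun T p =>
    congrArg (fun k : P ⟶ G => k.app _ p) hP.w
  have hpt : ∀ (T : Over S), IsPullback (fst.app (Opposite.op T)) (snd.app (Opposite.op T)) (a.app (Opposite.op T)) (b.app (Opposite.op T)) :=
    fun T => hP.map ((evaluation _ _).obj (Opposite.op T))
  have hext : ∀ (T : Over S) (p q : P.obj (Opposite.op T)), fst.app _ p = fst.app _ q → snd.app _ p = snd.app _ q → p = q :=
    fun T p q h1 h2 => ((Types.isPullback_iff _ _ _ _).1 (hpt T)).2.1 p q ⟨h1, h2⟩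
  refine ⟨fun I _ _ D d hd hD hT i y p hp => ?_, fun I _ _ D d hd hD hT i p q h h' => ?_⟩
  · obtain ⟨k₁, f₁, u, hu, hux⟩ := hac.surj D d hd hD hT i y (fst.app _ p) hp
    obtain ⟨k₂, f₂, v, hv, hvx⟩ := hbc.surj D d hd hD hT i y (snd.app _ p)
      ((congrArg (c.app _) (hw _ p)).symm.trans hp)
    obtain ⟨k, g₁, g₂, hg⟩ := IsCofiltered.cospan f₁ f₂
    obtain ⟨l, e, he⟩ := hc.inj D d hd hD hT k (a.app _ (F.map (D.map g₁).op u)) (b.app _ (H.map (D.map g₂).op v))
      (by
        have h1 : (a ≫ c).app _ (F.map (D.map g₁).op u) = E.map (D.map (g₁ ≫ f₁)).op y := by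
          rw [D.map_comp]
          exact (app_map' (a ≫ c) (D.map g₁) u).trans ((congrArg _ hu).trans (map_map' E _ _ y))
        have h2 : (b ≫ c).app _ (H.map (D.map g₂).op v) = E.map (D.map (g₂ ≫ f₂)).op y := by
          rw [D.map_comp]
          exact (app_map' (b ≫ c) (D.map g₂) v).trans ((congrArg _ hv).trans (map_map' E _ _ y))
        exact h1.trans ((by rw [hg] : _ = _).trans h2.symm))
      (by
        have h1 : F.map (d.π.app k).op (F.map (D.map g₁).op u) = fst.app _ p :=
          (map_map' F _ _ u).trans ((congrArg (fun q => F.map q.op u) (d.w g₁)).trans hux)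
        have h2 : H.map (d.π.app k).op (H.map (D.map g₂).op v) = snd.app _ p :=
          (map_map' H _ _ v).trans ((congrArg (fun q => H.map q.op v) (d.w g₂)).trans hvx)
        exact (app_map' a (d.π.app k) _).symm.trans ((congrArg (a.app _) h1).trans ((hw _ p).trans
          ((congrArg (b.app _) h2).symm.trans (app_map' b (d.π.app k) _)))))
    let u' := F.map (D.map e).op (F.map (D.map g₁).op u)
    let v' := H.map (D.map e).op (H.map (D.map g₂).op v)
    obtain ⟨z, hzu, hzv⟩ := ((Types.isPullback_iff _ _ _ _).1 (hpt (D.obj l))).2.2 u' v'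
      ((app_map' a (D.map e) _).trans (he.trans (app_map' b (D.map e) _).symm))
    refine ⟨l, e ≫ g₁ ≫ f₁, z, ?_, hext _ _ _ ?_ ?_⟩
    · refine (congrArg ((a ≫ c).app _) hzu).trans ?_
      refine (app_map' (a ≫ c) (D.map e) _).trans ?_
      refine (congrArg _ ((app_map' (a ≫ c) (D.map g₁) u).trans (congrArg _ hu))).trans ?_
      rw [D.map_comp, D.map_comp]
      exact ((congrArg _ (map_map' E (D.map g₁) (D.map f₁) y)).trans (map_map' E (D.map e) _ y))
    · exact (app_map' fst (d.π.app l) z).trans ((congrArg _ hzu).trans ((map_map' F _ _ _).trans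
        ((congrArg (fun q => F.map q.op (F.map (D.map g₁).op u)) (d.w e)).trans
        ((map_map' F _ _ u).trans ((congrArg (fun q => F.map q.op u) (d.w g₁)).trans hux)))))
    · exact (app_map' snd (d.π.app l) z).trans ((congrArg _ hzv).trans ((map_map' H _ _ _).trans
        ((congrArg (fun q => H.map q.op (H.map (D.map g₂).op v)) (d.w e)).trans
        ((map_map' H _ _ v).trans ((congrArg (fun q => H.map q.op v) (d.w g₂)).trans hvx)))))
  · obtain ⟨k₁, f₁, h₁⟩ := hac.inj D d hd hD hT i (fst.app _ p) (fst.app _ q) h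
      ((app_map' fst (d.π.app i) p).symm.trans ((congrArg _ h').trans (app_map' fst (d.π.app i) q)))
    obtain ⟨k₂, f₂, h₂⟩ := hbc.inj D d hd hD hT i (snd.app _ p) (snd.app _ q)
      ((congrArg (c.app _) (hw _ p)).symm.trans (h.trans (congrArg (c.app _) (hw _ q))))
      ((app_map' snd (d.π.app i) p).symm.trans ((congrArg _ h').trans (app_map' snd (d.π.app i) q)))
    obtain ⟨k, g₁, g₂, hg⟩ := IsCofiltered.cospan f₁ f₂
    refine ⟨k, g₁ ≫ f₁, hext _ _ _ ?_ ?_⟩
    · refine (app_map' fst _ p).trans (Eq.trans ?_ (app_map' fst _ q).symm)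
      rw [D.map_comp]
      exact (map_map' F (D.map g₁) (D.map f₁) _).symm.trans ((congrArg _ h₁).trans (map_map' F (D.map g₁) (D.map f₁) _))
    · refine (app_map' snd _ p).trans (Eq.trans ?_ (app_map' snd _ q).symm)
      rw [hg, D.map_comp]
      exact (map_map' H (D.map g₂) (D.map f₂) _).symm.trans ((congrArg _ h₂).trans (map_map' H (D.map g₂) (D.map f₂) _))


end Groth.Agent.S10027
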