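import Groth.Statements.S10045
import Groth.Agent.AlgSpLib.ThickScheme
import Groth.Agent.AlgSpDec.Glue

set_option autoImplicit false
universe u
open CategoryTheory CategoryTheory.Limits AlgebraicGeometry
open AlgSp

namespace Groth.Agent.S10045

/-- Let `X` be an algebraic space over `S` and `X_red ⟶ X` its reduction (the reduced closed subspace
with the same points). If `X_red` is a scheme, then `X` is a scheme. -/
theorem result (S : Scheme.{u}) (X Z : AlgSp.Space S) (i : Z ⟶ X)
    (hi : AlgSp.IsRedInduced Set.univ i.hom) (hZ : Z.obj.obj.IsRepresentable) : X.obj.obj.IsRepresentable := by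
  obtain ⟨hc, hr, -⟩ := hi
  have ht : AlgSp.IsThickMor i.hom := by
    have hs : AlgSp.RepWith @Surjective i.hom :=
      Groth.Agent.AlgSpLib.repWith_surjective_of_surjective hc.rep (Set.range_eq_univ.1 hr)
    exact ⟨hc.rep, fun T W g fst snd sq => ⟨hc.2 g fst snd sq, hs.2 g fst snd sq⟩⟩
  obtain ⟨T, ⟨r⟩⟩ := hZ.has_representation
  obtain ⟨Q, ⟨e⟩⟩ := Groth.Agent.AlgSpLib.exists_scheme_of_thick Z.property X.property ht (AlgSp.isoOfRepresentableBy r)
  exact Groth.Agent.AlgSpDec.isRepresentable_of_iso e

end Groth.Agent.S10045
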