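import Groth.Statements.S10047
import Groth.Agent.AlgSpDec.ThickClosedImm
import Groth.Agent.AlgSpDec.LqfScheme
import Groth.Agent.AlgSpPts.Sep
import Groth.Agent.AlgSpLib.EtLocalInst

set_option autoImplicit false
universe u
open CategoryTheory CategoryTheory.Limits AlgebraicGeometry
open AlgSp

namespace Groth.Agent.S10047

open Groth.Agent.AlgSpLib Groth.Agent.AlgSpPts Groth.Agent.AlgSpDec

/-- Let `f : X ⟶ B` and `g : B' ⟶ B` be morphisms of algebraic spaces over `S` with `g` a closed
immersion inducing a bijection on points, and suppose the base change `X ×_B B' ⟶ B'` is a closed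
immersion. If `f` is of finite type or `g` is of finite presentation, then `f` is a closed
immersion. -/
theorem result (S : Scheme.{u}) {X B B' : AlgSp.Space S}
    (f : X ⟶ B) (g : B' ⟶ B) (hg : AlgSp.RepWith @IsClosedImmersion g.hom)
    (hbij : Function.Bijective (AlgSp.Points.map g.hom))
    (X' : AlgSp.Sp S) (fst : X' ⟶ X.obj) (snd : X' ⟶ B'.obj) (hX' : IsPullback fst snd f.hom g.hom)
    (hsnd : AlgSp.RepWith @IsClosedImmersion snd)
    (hor : AlgSp.IsFiniteTypeMor f.hom ∨ AlgSp.IsFinitePresentationMor g.hom) :
    AlgSp.RepWith @IsClosedImmersion f.hom := by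
  have hgs : RepWith @Surjective g.hom := repWith_surjective_of_surjective hg.rep hbij.2
  have hmg : Mono g.hom := mono_of_repWith (repWith_mono (fun _ _ e (_ : IsClosedImmersion e) => inferInstanceAs (Mono e)) _ hg)
  have hms : Mono snd := mono_of_repWith (repWith_mono (fun _ _ e (_ : IsClosedImmersion e) => inferInstanceAs (Mono e)) _ hsnd)
  have hXa : IsAlgSpace X' :=
    (isAlgSpace_pullback X.property B'.property B.property f.hom g.hom).of_iso hX'.isoPullback.symm
  obtain ⟨V, b, hb, hb'⟩ := B.property.atlas
  obtain ⟨U, a₀, h, h1, h2, h3⟩ := exists_chart_over X.property B.property f.hom b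
  let a := a₀ ≫ pullback.fst f.hom b
  have ha : RepWith @Etale a := repWith_comp h1 (repWith_fst f.hom hb)
  have ha' : RepWith @Surjective a := repWith_comp h2 (repWith_fst f.hom hb')
  have w : a ≫ f.hom = (yon S).map h ≫ b := by
    show (a₀ ≫ _) ≫ _ = _
    rw [Category.assoc, pullback.condition, ← Category.assoc, h3]
  let gV := hg.rep.snd b
  let fB := hg.rep.fst b
  have sqV : IsPullback fB ((yon S).map gV) g.hom b := hg.rep.isPullback b
  have hgVc : IsClosedImmersion gV.left := hg.property_snd b
  have hgVs : Surjective gV.left := hgs.property _ _ _ sqV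
  let U' : Over S := pullback h gV
  have sqU : IsPullback ((yon S).map (pullback.fst h gV)) ((yon S).map (pullback.snd h gV)) ((yon S).map h) ((yon S).map gV) :=
    (IsPullback.of_hasPullback h gV).map (yon S)
  have big : IsPullback ((yon S).map (pullback.fst h gV)) ((yon S).map (pullback.snd h gV) ≫ fB) (a ≫ f.hom) g.hom := by
    rw [w]
    exact sqU.paste_vert sqV.flip
  let c : (yon S).obj U' ⟶ X' := hX'.lift ((yon S).map (pullback.fst h gV) ≫ a)
    ((yon S).map (pullback.snd h gV) ≫ fB) (by rw [Category.assoc]; exact big.w)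
  have sqc : IsPullback c ((yon S).map (pullback.fst h gV)) fst a := by
    refine IsPullback.of_right ?_ (hX'.lift_fst _ _ _) hX'.flip
    rw [IsPullback.lift_snd]
    exact big.flip
  have hc : RepWith @Etale c := repWith_of_isPullback sqc.flip ha
  have hfB : RepWith @Etale fB := repWith_of_isPullback sqV.flip hb
  have wc : c ≫ snd = (yon S).map (pullback.snd h gV) ≫ fB := hX'.lift_snd _ _ _
  have sqS : IsPullback (pullback.fst h gV).left (pullback.snd h gV).left h.left gV.left :=
    (IsPullback.of_hasPullback h gV).map (Over.forget S)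
  have hl' : LocallyOfFiniteType (pullback.snd h gV).left :=
    locP_of_repWith (repWith_mono (fun _ _ e (_ : IsClosedImmersion e) => inferInstanceAs (LocallyOfFiniteType e)) _ hsnd)
      _ _ _ hc hfB wc
  have hlft : LocP @LocallyOfFiniteType f.hom := by
    rcases hor with hor | hor
    · exact hor.1
    · have : LocallyOfFinitePresentation gV.left := (repWith_of_locP B.property hg.rep hor.1).property_snd b
      have : LocallyOfFiniteType h.left := ThickClosedImm.locallyOfFiniteType_of_baseChange sqS
      exact locP_of_chart ha ha' hb w this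
  have : LocallyOfFiniteType h.left := hlft _ _ _ ha hb w
  have hqf : LocP (@LocallyQuasiFinite ⊓ @LocallyOfFiniteType) f.hom := by
    have hq' : (@LocallyQuasiFinite ⊓ @LocallyOfFiniteType : MorphismProperty Scheme) (pullback.snd h gV).left :=
      locP_of_repWith (repWith_mono (fun _ _ e (_ : IsClosedImmersion e) => ⟨inferInstanceAs (LocallyQuasiFinite e), inferInstanceAs (LocallyOfFiniteType e)⟩) _ hsnd)
        _ _ _ hc hfB wc
    have : LocallyQuasiFinite (pullback.snd h gV).left := hq'.1
    exact locP_of_chart ha ha' hb w ⟨ThickClosedImm.locallyQuasiFinite_of_baseChange sqS, ‹_›⟩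
  have general : ∀ {F G G' : Sp S} (φ : F ⟶ G) (γ : G' ⟶ G), RepWith @LocallyOfFiniteType φ →
      RepWith @IsClosedImmersion γ → RepWith @Surjective γ →
      ∀ {F' : Sp S} (p : F' ⟶ F) (q : F' ⟶ G'), IsPullback p q φ γ → RepWith @IsClosedImmersion q →
        RepWith @IsClosedImmersion φ := by
    intro F G G' φ γ hφ hγ hγs F' p q sqF hq
    refine ⟨hφ.rep, fun T W t fs sn sq => ?_⟩
    let gT := hγ.rep.snd t
    have sqT : IsPullback (hγ.rep.fst t) ((yon S).map gT) γ t := hγ.rep.isPullback t
    have hgTc : IsClosedImmersion gT.left := hγ.property_snd t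
    have : Surjective gT.left := hγs.property _ _ _ sqT
    have : LocallyOfFiniteType sn.left := hφ.property _ _ _ sq
    have sW : IsPullback (pullback.fst sn gT).left (pullback.snd sn gT).left sn.left gT.left :=
      (IsPullback.of_hasPullback sn gT).map (Over.forget S)
    have sWy : IsPullback ((yon S).map (pullback.fst sn gT)) ((yon S).map (pullback.snd sn gT)) ((yon S).map sn) ((yon S).map gT) :=
      (IsPullback.of_hasPullback sn gT).map (yon S)
    have bigT : IsPullback ((yon S).map (pullback.fst sn gT) ≫ fs) ((yon S).map (pullback.snd sn gT)) φ (hγ.rep.fst t ≫ γ) := by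
      rw [sqT.w]
      exact sWy.paste_horiz sq
    let l := sqF.lift ((yon S).map (pullback.fst sn gT) ≫ fs) ((yon S).map (pullback.snd sn gT) ≫ hγ.rep.fst t)
      (by rw [Category.assoc, Category.assoc, ← bigT.w, Category.assoc])
    have sl : IsPullback l ((yon S).map (pullback.snd sn gT)) q (hγ.rep.fst t) := by
      refine IsPullback.of_right ?_ (sqF.lift_snd _ _ _) sqF
      rw [IsPullback.lift_fst]
      exact bigT
    have : IsClosedImmersion (pullback.snd sn gT).left := hq.property _ _ _ sl
    exact @ThickClosedImm.isClosedImmersion_of_baseChange _ _ _ _ _ _ _ _ sW hgTc ‹Surjective gT.left› ‹LocallyOfFiniteType sn.left› ‹_›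
  have hsep : IsSeparatedMor f.hom := by
    let π : pullback f.hom f.hom ⟶ B.obj := pullback.fst f.hom f.hom ≫ f.hom
    let g₂ := pullback.fst π g.hom
    have h1 : RepWith @IsClosedImmersion g₂ := repWith_fst π hg
    have h2 : RepWith @Surjective g₂ := repWith_fst π hgs
    have hD : RepWith @LocallyOfFiniteType (pullback.diagonal f.hom) :=
      repWith_of_locP (isAlgSpace_pullback X.property X.property B.property f.hom f.hom)
        (representable_diagonal X.property f.hom)
        (locP_diagonal (fun u v (_ : LocallyOfFiniteType (u ≫ v)) => locallyOfFiniteType_of_comp u v) X.property f.hom)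
    have hw1 : (g₂ ≫ pullback.fst f.hom f.hom) ≫ f.hom = pullback.snd π g.hom ≫ g.hom := by
      rw [Category.assoc]; exact pullback.condition
    have hw2 : (g₂ ≫ pullback.snd f.hom f.hom) ≫ f.hom = pullback.snd π g.hom ≫ g.hom := by
      rw [Category.assoc, ← pullback.condition (f := f.hom) (g := f.hom), ← Category.assoc]; exact hw1
    have hx : hX'.lift _ _ hw1 = hX'.lift _ _ hw2 := by
      rw [← cancel_mono snd, IsPullback.lift_snd, IsPullback.lift_snd]
    have e : g₂ ≫ pullback.fst f.hom f.hom = g₂ ≫ pullback.snd f.hom f.hom := by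
      rw [← hX'.lift_fst _ _ hw1, hx, hX'.lift_fst]
    have : IsIso (pullback.snd (pullback.diagonal f.hom) g₂) := by
      have : IsSplitEpi (pullback.snd (pullback.diagonal f.hom) g₂) := IsSplitEpi.mk'
        ⟨pullback.lift (g₂ ≫ pullback.fst f.hom f.hom) (𝟙 _) (by
          apply pullback.hom_ext
          · simp
          · simpa using e), pullback.lift_snd _ _ _⟩
      exact isIso_of_mono_of_isSplitEpi _
    exact general (pullback.diagonal f.hom) g₂ hD h1 h2 _ _ (IsPullback.of_hasPullback _ _) (repWith_of_isIso _ _)
  have hr : Representable f.hom := representable_of_lqf_separated X.property B.property f.hom hqf hsep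
  exact general f.hom g.hom (repWith_of_locP B.property hr hlft) hg hgs _ _ hX' hsnd

end Groth.Agent.S10047
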