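import Groth.Statements.S1005
import Groth.Agent.KZ.RegPerf
-- import your own Groth.Agent.* helpers here

set_option autoImplicit false
universe u
open CategoryTheory CategoryTheory.Limits AlgebraicGeometry CategoryTheory.Pretriangulated ZeroObject
attribute [local instance] HasDerivedCategory.standard
open Perf

namespace Groth.Agent.S1005

/-- Let X be a locally Noetherian scheme all of whose local rings are regular. Then every object of
D(O_X) with bounded, coherent cohomology is perfect. -/
theorem result (X : Scheme.{u}) [IsLocallyNoetherian X]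
    (hreg : ∀ x : X, IsRegularLocalRing (X.presheaf.stalk x))
    (K : DCoh.D X) (a b : ℤ) [K.IsGE a] [K.IsLE b] (hK : DCoh.IsCohD K) : DCoh.IsPerfect K := by
  have hiso : ∀ {K L : DCoh.D X}, (K ≅ L) → DCoh.IsPerfect K → DCoh.IsPerfect L := fun {K L} e h x => by
    obtain ⟨V, hx, hV⟩ := h x
    exact ⟨V, hx, fun F ⟨eF⟩ => hV F ⟨eF ≪≫ e.symm⟩⟩
  have hperf := Groth.Agent.KZ.isPerfect_of_isCoh (X := X) hreg
  have h : Groth.Agent.KZ.HBdd (Groth.Agent.KZ.cohSupp (Set.univ : Set X)) K :=
    ⟨fun i => ⟨hK i, Set.subset_univ _⟩, a, b, ‹_›, ‹_›⟩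
  have hz0 : ∀ K : DCoh.D X, IsZero K → DCoh.IsPerfect K := fun K hK => by
    have h0 : (Groth.Agent.KZ.cohSupp (Set.univ : Set X)) (0 : X.Modules) :=
      (Groth.Agent.KZ.cohSupp (Set.univ : Set X)).prop_of_isZero (isZero_zero _)
    exact hiso (IsZero.iso (Functor.map_isZero _ (isZero_zero _)) hK) (hperf 0 h0.1)
  refine Groth.Agent.KZ.HBdd.induction (motive := DCoh.IsPerfect) hiso hz0 (fun G hG n => ?_)
    (fun T hT _ _ _ h1 h3 => (Groth.Agent.S0887.result T hT).2.1 h1 h3) h
  exact hiso (((DerivedCategory.singleFunctors X.Modules).shiftIso (-n) n 0 (by omega)).app G)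
    (Groth.Agent.KZ.isPerfect_shift (hz0 0 (isZero_zero _)) (hperf G hG.1) (-n))

end Groth.Agent.S1005
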