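import Groth.Statements.S10053
import Groth.Agent.AlgSpVal.UnivClosedAffine
-- import your own Groth.Agent.* helpers here

set_option autoImplicit false
universe u
open CategoryTheory CategoryTheory.Limits AlgebraicGeometry
open AlgSp

set_option backward.isDefEq.respectTransparency false
set_option backward.isDefEq.respectTransparency.types false

namespace Groth.Agent.S10053

/-- For a quasi-compact morphism `f : X ⟶ Y` of algebraic spaces over `S` these conditions are
equivalent: (1) `f` is universally closed; (2) for every `Z ⟶ Y` locally of finite presentation,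
with `Z` an algebraic space, the map `|X ×_Y Z| → |Z|` is closed; (3) for some scheme `V` with a
surjective etale morphism `V ⟶ Y`, the maps `|X ×_Y 𝐀^n_V| → |𝐀^n_V|` are closed for all `n`. Stated
as (1) ↔ (2) and (1) ↔ (3). -/
theorem result (S : Scheme.{u}) {X Y : AlgSp.Space S} (f : X ⟶ Y)
    (hqc : AlgSp.IsQuasiCompactMor f.hom) :
    (AlgSp.IsUnivClosedMor f.hom ↔
      ∀ (Z : AlgSp.Space S) (g : Z ⟶ Y), AlgSp.LocP @LocallyOfFinitePresentation g.hom →
        ∀ (P : AlgSp.Sp S) (fst : P ⟶ X.obj) (snd : P ⟶ Z.obj), IsPullback fst snd f.hom g.hom →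
          IsClosedMap (AlgSp.Points.map snd)) ∧
    (AlgSp.IsUnivClosedMor f.hom ↔
      ∃ (V : Over S) (p : (AlgSp.yon S).obj V ⟶ Y.obj), AlgSp.RepWith @Etale p ∧ AlgSp.RepWith @Surjective p ∧
        ∀ (n : ℕ) (P : AlgSp.Sp S) (fst : P ⟶ X.obj)
          (snd : P ⟶ (AlgSp.yon S).obj (Over.mk ((𝔸(ULift.{u} (Fin n); V.left) ↘ V.left) ≫ V.hom))),
          IsPullback fst snd f.hom ((AlgSp.yon S).map (Over.homMk (𝔸(ULift.{u} (Fin n); V.left) ↘ V.left)) ≫ p) →
            IsClosedMap (AlgSp.Points.map snd)) := by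
  have h12 : AlgSp.IsUnivClosedMor f.hom →
      ∀ (Z : AlgSp.Space S) (g : Z ⟶ Y), AlgSp.LocP @LocallyOfFinitePresentation g.hom →
        ∀ (P : AlgSp.Sp S) (fst : P ⟶ X.obj) (snd : P ⟶ Z.obj), IsPullback fst snd f.hom g.hom →
          IsClosedMap (AlgSp.Points.map snd) :=
    fun h Z g _ P fst snd sq => h Z.property g.hom fst snd sq
  obtain ⟨V, p, hp, hp'⟩ := Y.property.atlas
  have h23 : (∀ (Z : AlgSp.Space S) (g : Z ⟶ Y), AlgSp.LocP @LocallyOfFinitePresentation g.hom →
        ∀ (P : AlgSp.Sp S) (fst : P ⟶ X.obj) (snd : P ⟶ Z.obj), IsPullback fst snd f.hom g.hom →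
          IsClosedMap (AlgSp.Points.map snd)) → ∀ (n : ℕ) (P : AlgSp.Sp S) (fst : P ⟶ X.obj)
          (snd : P ⟶ (AlgSp.yon S).obj (Over.mk ((𝔸(ULift.{u} (Fin n); V.left) ↘ V.left) ≫ V.hom))),
          IsPullback fst snd f.hom ((AlgSp.yon S).map (Over.homMk (𝔸(ULift.{u} (Fin n); V.left) ↘ V.left)) ≫ p) →
            IsClosedMap (AlgSp.Points.map snd) := by
    intro h n P fst snd sq
    refine h ⟨_, IsAlgSpace.yon_obj _⟩ (ObjectProperty.homMk _) ?_ P fst snd sq
    exact AlgSpLib.locP_comp (IsAlgSpace.yon_obj _) (IsAlgSpace.yon_obj _) Y.property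
      (AlgSpLib.locP_of_repWith ((AlgSp.repWith_yon_map_iff _ _).2
        (inferInstanceAs (LocallyOfFinitePresentation (𝔸(ULift.{u} (Fin n); V.left) ↘ V.left)))))
      (AlgSpLib.locP_of_repWith (AlgSpLib.repWith_mono
        (fun _ _ e (_ : Etale e) => inferInstanceAs (LocallyOfFinitePresentation e)) _ hp))
  refine ⟨⟨h12, fun h => AlgSpVal.isUnivClosedMor_of_affineSpace X.property Y.property hqc hp hp' (h23 h)⟩,
    ⟨fun h => ⟨V, p, hp, hp', h23 (h12 h)⟩, ?_⟩⟩
  rintro ⟨V', p', hq, hq', H⟩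
  exact AlgSpVal.isUnivClosedMor_of_affineSpace X.property Y.property hqc hq hq' H

end Groth.Agent.S10053
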