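import Groth.Statements.S10055
import Groth.Agent.AlgSpDec.LimClosed

set_option autoImplicit false
universe u
open CategoryTheory CategoryTheory.Limits AlgebraicGeometry
open AlgSp

namespace Groth.Agent.S10055

/-- Let `(X_i) ⟶ (Y_i)` be a morphism of cofiltered systems of algebraic spaces over `S`, both with
affine transition morphisms, with every `X_i ⟶ Y_i` a closed immersion. Then the induced morphism of
limits (in fppf sheaves) `lim X_i ⟶ lim Y_i` is a closed immersion. -/
theorem result (S : Scheme.{u}) {I : Type u} [SmallCategory I] [IsCofiltered I]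
    (DX DY : I ⥤ AlgSp.Sp S) (hDX : ∀ i, AlgSp.IsAlgSpace (DX.obj i)) (hDY : ∀ i, AlgSp.IsAlgSpace (DY.obj i))
    (hXa : ∀ (i j : I) (φ : i ⟶ j), AlgSp.IsAffineMor (DX.map φ)) (hYa : ∀ (i j : I) (φ : i ⟶ j), AlgSp.IsAffineMor (DY.map φ))
    (τ : DX ⟶ DY) (hτ : ∀ i, AlgSp.RepWith @IsClosedImmersion (τ.app i))
    (cX : Cone DX) (hcX : IsLimit cX) (cY : Cone DY) (hcY : IsLimit cY)
    (g : cX.pt ⟶ cY.pt) (hg : ∀ i, g ≫ cY.π.app i = cX.π.app i ≫ τ.app i) :
    AlgSp.RepWith @IsClosedImmersion g := by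
  exact Groth.Agent.AlgSpDec.repWith_closedImmersion_limMap DX DY τ hτ cX hcX cY hcY g hg

end Groth.Agent.S10055
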