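import Groth.Statements.S10067
import Groth.Agent.AlgSpPts.LimPres
-- import your own Groth.Agent.* helpers here

set_option autoImplicit false
universe u
open CategoryTheory CategoryTheory.Limits AlgebraicGeometry
open AlgSp

namespace Groth.Agent.S10067

set_option backward.isDefEq.respectTransparency false
set_option backward.isDefEq.respectTransparency.types false

open AlgSp Groth.Agent.AlgSpPts

/-- A transformation `a : F ⟶ G` of presheaves of sets on schemes over `S` is relatively limit
preserving if and only if, for every directed limit `T = lim T_i` of affine schemes over `S` (with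
`T` affine), the square formed by `colim F(T_i) → F(T)`, `colim G(T_i) → G(T)` and the two maps
induced by `a` is cartesian in sets. -/
theorem result (S : Scheme.{u}) {F G : AlgSp.PSp S} (a : F ⟶ G) :
    AlgSp.IsRelLimitPreserving a ↔
      ∀ ⦃I : Type u⦄ [SmallCategory I] [IsCofiltered I] (D : I ⥤ Over S) (c : Cone D),
        IsLimit ((Over.forget S).mapCone c) → (∀ i, IsAffine (D.obj i).left) → IsAffine c.pt.left →
          IsPullback (colimMap (Functor.whiskerLeft D.op a)) (colimit.desc (D.op ⋙ F) (F.mapCocone c.op))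
            (colimit.desc (D.op ⋙ G) (G.mapCocone c.op)) (a.app (Opposite.op c.pt)) :=  by
  rw [isRelLimitPreserving_iff]
  have e1 : ∀ ⦃I : Type u⦄ [SmallCategory I] (D : I ⥤ Over S) (i : I) (x : F.obj (Opposite.op (D.obj i))),
      colimMap (Functor.whiskerLeft D.op a) (colimit.ι (D.op ⋙ F) (Opposite.op i) x) =
        colimit.ι (D.op ⋙ G) (Opposite.op i) (a.app _ x) := fun I _ D i x => by
    exact congrArg (fun k : (D.op ⋙ F).obj (Opposite.op i) ⟶ _ => k x) (ι_colimMap (Functor.whiskerLeft D.op a) (Opposite.op i))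
  have e2 : ∀ ⦃I : Type u⦄ [SmallCategory I] (D : I ⥤ Over S) (c : Cone D) (P : PSp S) (i : I) (x : P.obj (Opposite.op (D.obj i))),
      colimit.desc (D.op ⋙ P) (P.mapCocone c.op) (colimit.ι (D.op ⋙ P) (Opposite.op i) x) = P.map (c.π.app i).op x :=
    fun I _ D c P i x =>
      congrArg (fun k : (D.op ⋙ P).obj (Opposite.op i) ⟶ _ => k x) (colimit.ι_desc (P.mapCocone c.op) (Opposite.op i))
  constructor
  · intro ha I _ _ D c hc hD hT
    rw [Types.isPullback_iff]
    refine ⟨?_, ?_, ?_⟩
    · refine ConcreteCategory.hom_ext _ _ fun w => ?_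
      obtain ⟨i, x, rfl⟩ := Types.jointly_surjective' w
      rw [ConcreteCategory.comp_apply, ConcreteCategory.comp_apply]
      erw [e1 D i.unop x, e2 D c F i.unop x, e2 D c G i.unop]
      exact (app_map' a _ x).symm
    · rintro w₁ w₂ ⟨h1, h2⟩
      obtain ⟨i, x, rfl⟩ := Types.jointly_surjective' w₁
      obtain ⟨j, x', rfl⟩ := Types.jointly_surjective' w₂
      erw [e1 D i.unop x, e1 D j.unop x'] at h1
      obtain ⟨k, f, g, hk⟩ := (Types.FilteredColimit.colimit_eq_iff _).1 h1
      have h3 : F.map (c.π.app k.unop).op (F.map (D.map f.unop).op x) =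
          F.map (c.π.app k.unop).op (F.map (D.map g.unop).op x') := by
        refine (map_map' F _ _ x).trans (Eq.trans ?_ (map_map' F _ _ x').symm)
        rw [c.w f.unop, c.w g.unop]
        exact (e2 D c F i.unop x).symm.trans (h2.trans (e2 D c F j.unop x'))
      obtain ⟨l, e, he⟩ := ha.inj D c hc hD hT k.unop _ _
        ((app_map' a (D.map f.unop) x).trans (hk.trans (app_map' a (D.map g.unop) x').symm)) h3
      refine (Types.FilteredColimit.colimit_eq_iff _).2 ⟨Opposite.op l, f ≫ e.op, g ≫ e.op, ?_⟩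
      exact (Functor.map_comp_apply (D.op ⋙ F) f e.op x).trans (he.trans (Functor.map_comp_apply (D.op ⋙ F) g e.op x').symm)
    · intro w x hw
      obtain ⟨i, y, rfl⟩ := Types.jointly_surjective' w
      erw [e2 D c G i.unop y] at hw
      obtain ⟨k, f, z, hz, hzx⟩ := ha.surj D c hc hD hT i.unop y x hw.symm
      refine ⟨colimit.ι (D.op ⋙ F) (Opposite.op k) z, ?_, (e2 D c F k z).trans hzx⟩
      refine (e1 D k z).trans ((congrArg _ hz).trans ?_)
      exact congrArg (fun q : (D.op ⋙ G).obj i ⟶ _ => q y) (colimit.w (D.op ⋙ G) f.op)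
  · intro H
    refine ⟨fun I _ _ D c hc hD hT i y x hx => ?_, fun I _ _ D c hc hD hT i x x' h h' => ?_⟩
    · obtain ⟨-, -, hs⟩ := (Types.isPullback_iff _ _ _ _).1 (H D c hc hD hT)
      obtain ⟨w, hw, hwx⟩ := hs (colimit.ι (D.op ⋙ G) (Opposite.op i) y) x ((e2 D c G i y).trans hx.symm)
      obtain ⟨j, z, rfl⟩ := Types.jointly_surjective' w
      obtain ⟨k, f, g, hk⟩ := (Types.FilteredColimit.colimit_eq_iff _).1 ((e1 D j.unop z).symm.trans hw)
      refine ⟨k.unop, g.unop, F.map (D.map f.unop).op z, (app_map' a (D.map f.unop) z).trans hk, ?_⟩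
      refine (map_map' F _ _ z).trans ?_
      rw [c.w f.unop]
      exact (e2 D c F j.unop z).symm.trans hwx
    · obtain ⟨-, hi, -⟩ := (Types.isPullback_iff _ _ _ _).1 (H D c hc hD hT)
      have := hi (colimit.ι (D.op ⋙ F) (Opposite.op i) x) (colimit.ι (D.op ⋙ F) (Opposite.op i) x')
        ⟨(e1 D i x).trans ((congrArg _ h).trans (e1 D i x').symm), (e2 D c F i x).trans (h'.trans (e2 D c F i x').symm)⟩
      obtain ⟨k, f, hk⟩ := (Types.FilteredColimit.isColimit_eq_iff' (colimit.isColimit (D.op ⋙ F)) x x').1 this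
      exact ⟨k.unop, f.unop, hk⟩


end Groth.Agent.S10067
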