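import Groth.Statements.S1007
import Groth.Agent.KFlatLib.Scheme.DQCohLimit
-- import your own Groth.Agent.* helpers here

set_option autoImplicit false
universe u
open CategoryTheory CategoryTheory.Limits AlgebraicGeometry
attribute [local instance] HasDerivedCategory.standard
open Perf

namespace Groth.Agent.S1007

/-- Let X be a scheme and E an object of D(O_X) with quasi-coherent cohomology sheaves. Then the
canonical map from E to the derived limit of its truncations τ_{≥ -n}E is an isomorphism; concretely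
(granted the countable product of the truncations exists in D(O_X), which holds): the map E ⟶ ∏
τ_{≥-n}E with components the truncation morphisms, followed by 'identity minus transition', extends
to a distinguished triangle E ⟶ ∏ τ_{≥-n}E ⟶ ∏ τ_{≥-n}E ⟶ E[1]. -/
theorem result (X : Scheme.{u}) (E : DCoh.D X) (hE : DCoh.IsQCohD E)
    [HasProduct (fun n : ℕ => ((DerivedCategory.TStructure.t : CategoryTheory.Triangulated.TStructure (DCoh.D X)).truncGE (-(n : ℤ))).obj E)] :
    ∃ c : (∏ᶜ fun n : ℕ => ((DerivedCategory.TStructure.t : CategoryTheory.Triangulated.TStructure (DCoh.D X)).truncGE (-(n : ℤ))).obj E) ⟶ E⟦(1 : ℤ)⟧,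
      CategoryTheory.Pretriangulated.Triangle.mk
        (Pi.lift fun n : ℕ => ((DerivedCategory.TStructure.t : CategoryTheory.Triangulated.TStructure (DCoh.D X)).truncGEπ (-(n : ℤ))).app E)
        (Pi.lift fun n : ℕ => Pi.π (fun n : ℕ => ((DerivedCategory.TStructure.t : CategoryTheory.Triangulated.TStructure (DCoh.D X)).truncGE (-(n : ℤ))).obj E) n -
          Pi.π (fun n : ℕ => ((DerivedCategory.TStructure.t : CategoryTheory.Triangulated.TStructure (DCoh.D X)).truncGE (-(n : ℤ))).obj E) (n + 1) ≫
            ((DerivedCategory.TStructure.t : CategoryTheory.Triangulated.TStructure (DCoh.D X)).natTransTruncGEOfLE (-((n + 1 : ℕ) : ℤ)) (-(n : ℤ)) (Int.neg_le_neg (Int.ofNat_le.mpr (Nat.le_succ n)))).app E)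
        c ∈ CategoryTheory.Pretriangulated.distinguishedTriangles := by
  obtain ⟨P, π, d, p, δ, ⟨hP⟩, hd, hT, hpπ, -⟩ := Groth.Agent.KFlatLib.exists_trunc_triangle hE
  let e := hP.conePointUniqueUpToIso (productIsProduct (Groth.Agent.KFlatLib.truncT E))
  have he : ∀ n, e.hom ≫ Pi.π (Groth.Agent.KFlatLib.truncT E) n = π n := fun n =>
    hP.conePointUniqueUpToIso_hom_comp _ ⟨n⟩
  refine ⟨e.inv ≫ δ, CategoryTheory.Pretriangulated.isomorphic_distinguished _ hT _
    (CategoryTheory.Pretriangulated.Triangle.isoMk _ _ (Iso.refl E) e.symm e.symm ?_ ?_ ?_)⟩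
  · refine Eq.trans ?_ (Category.id_comp p).symm
    refine (Iso.comp_inv_eq e).2 (Pi.hom_ext _ _ fun n => ?_)
    exact (Pi.lift_π _ n).trans (((Category.assoc _ _ _).trans
      ((congrArg (p ≫ ·) (he n)).trans (hpπ n))).symm)
  · refine (Iso.comp_inv_eq e).2 ?_
    change _ = (e.inv ≫ d) ≫ e.hom
    refine Pi.hom_ext _ _ fun n => ?_
    refine Eq.trans ?_ ((Category.assoc _ _ _).trans ((congrArg ((e.inv ≫ d) ≫ ·) (he n)).trans
      ((Category.assoc _ _ _).trans ((congrArg (e.inv ≫ ·) (hd n)).trans
        (Preadditive.comp_sub _ _ _))))).symm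
    refine (Pi.lift_π _ n).trans (congrArg₂ (· - ·) ((Iso.eq_inv_comp e).2 (he n)) ?_)
    rw [← Category.assoc, ← (Iso.eq_inv_comp e).2 (he (n + 1))]
  · exact (congrArg _ (CategoryTheory.Functor.map_id _ _)).trans (Category.comp_id _)

end Groth.Agent.S1007
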