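import Groth.Statements.S10073
import Groth.Agent.SchImLim13.Basic
-- import your own Groth.Agent.* helpers here

set_option autoImplicit false
set_option backward.isDefEq.respectTransparency false
set_option backward.isDefEq.respectTransparency.types false
universe u
open CategoryTheory CategoryTheory.Limits AlgebraicGeometry
open AlgSp

namespace Groth.Agent.S10073

/-- Let `B = lim B_i` be a cofiltered limit (in fppf sheaves over `S`) of Noetherian algebraic spaces
(quasi-compact and quasi-separated over `S`, locally Noetherian) whose transition maps are affine,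
`X ⟶ B` quasi-separated of finite type, and `X ⟶ W` over `B ⟶ B_i` with `W ⟶ B_i` of finite type and
`X ⟶ B ×_{B_i} W` a closed immersion. For `i'` over `i` write `X_{i'}` for the scheme-theoretic
image of `X` in `B_{i'} ×_{B_i} W`, with the induced transition maps. Then `X = lim_{i'} X_{i'}`:
the cone of maps `X ⟶ X_{i'}` is a limit cone. (The published statement allows any base scheme and
uses absolute quasi-separatedness; this row assumes the base quasi-separated, over which
quasi-separatedness relative to the base is the absolute notion.) -/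
theorem result (S : Scheme.{u}) [QuasiSeparatedSpace S] {I : Type u} [SmallCategory I] [IsCofiltered I]
    (D : I ⥤ AlgSp.Sp S) (hD : ∀ i, AlgSp.IsAlgSpace (D.obj i))
    (hDa : ∀ (i j : I) (φ : i ⟶ j), AlgSp.IsAffineMor (D.map φ))
    (hqc : ∀ i, AlgSp.IsQuasiCompactSp (D.obj i)) (hqs : ∀ i, AlgSp.IsQuasiSeparatedSp (D.obj i))
    (c : Cone D) (hc : IsLimit c)
    (hln : ∀ i, AlgSp.IsLocNoethSp (D.obj i))
    (X : AlgSp.Space S) (a : X.obj ⟶ c.pt) (hXqs : AlgSp.IsQuasiSeparatedMor a) (hXft : AlgSp.IsFiniteTypeMor a)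
    (i : I) (W : AlgSp.Space S) (w : W.obj ⟶ D.obj i) (hw : AlgSp.IsFiniteTypeMor w) (b : X.obj ⟶ W.obj)
    (hb : b ≫ w = a ≫ c.π.app i)
    (hci : ∀ (P : AlgSp.Sp S) (fst : P ⟶ c.pt) (snd : P ⟶ W.obj), IsPullback fst snd (c.π.app i) w →
      ∀ k : X.obj ⟶ P, k ≫ fst = a → k ≫ snd = b → AlgSp.RepWith @IsClosedImmersion k)
    (DP : Over i ⥤ AlgSp.Sp S) (π₁ : DP ⟶ Over.forget i ⋙ D) (π₂ : DP ⟶ (Functor.const (Over i)).obj W.obj)
    (hDP : ∀ i' : Over i, IsPullback (π₁.app i') (π₂.app i') (D.map i'.hom) w)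
    (DX : Over i ⥤ AlgSp.Sp S) (hDX : ∀ i', AlgSp.IsAlgSpace (DX.obj i')) (ε : DX ⟶ DP)
    (ξ : (Functor.const (Over i)).obj X.obj ⟶ DX)
    (hξ : ∀ i' : Over i, ξ.app i' ≫ ε.app i' ≫ π₁.app i' = a ≫ c.π.app i'.left ∧ ξ.app i' ≫ ε.app i' ≫ π₂.app i' = b)
    (himg : ∀ i' : Over i, AlgSp.IsSchImage (ξ.app i' ≫ ε.app i') (ε.app i')) :
    Nonempty (IsLimit (Cone.mk X.obj ξ)) := by
  exact Groth.Agent.SchImLim13.isLimit_schImage D hD hDa c hc i (hqc i) X a W w hw.2 b
    (pullback.lift a b hb.symm) (pullback.lift_fst _ _ _) (pullback.lift_snd _ _ _)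
    (hci _ _ _ (IsPullback.of_hasPullback _ _) _ (pullback.lift_fst _ _ _) (pullback.lift_snd _ _ _))
    DP π₁ π₂ hDP DX hDX ε ξ hξ himg

end Groth.Agent.S10073
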