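import Groth.Statements.S10074
import Groth.Agent.SchImLim13.Morphism
-- import your own Groth.Agent.* helpers here

set_option autoImplicit false
universe u
open CategoryTheory CategoryTheory.Limits AlgebraicGeometry
open AlgSp

namespace Groth.Agent.S10074

/-- Let `B = lim B_i` be a cofiltered limit (in fppf sheaves over `S`) of Noetherian algebraic spaces
(quasi-compact and quasi-separated over `S`, locally Noetherian) whose transition maps are affine,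
`f : X ⟶ Y` a morphism over `B` between algebraic spaces each of finite type and quasi-separated
over `B`, and `X ⟶ W` over `B_{i₁}`, `Y ⟶ V` over `B_{i₂}` good diagrams (`W ⟶ B_{i₁}` and `V ⟶
B_{i₂}` of finite presentation, `X ⟶ B ×_{B_{i₁}} W` and `Y ⟶ B ×_{B_{i₂}} V` closed immersions)
with their systems of scheme-theoretic images `(X_i)`, `(Y_i)`. Then for some `i₀` over `i₁`, `i₂`
there is a morphism of systems `(f_i : X_i ⟶ Y_i)_{i ≥ i₀}` over `(B_i)` with `f = lim f_i`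
(compatible with `X ⟶ X_i`, `Y ⟶ Y_i`), and any two such families agree for all `i` over some index.
(The published statement takes `W` and `V` only of finite type over `B_{i₁}`, `B_{i₂}`; this row
takes them of finite presentation, which its proof uses.) (The published statement allows any base
scheme and uses absolute quasi-separatedness; this row assumes the base quasi-separated, over which
quasi-separatedness relative to the base is the absolute notion.) -/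
theorem result (S : Scheme.{u}) [QuasiSeparatedSpace S] {I : Type u} [SmallCategory I] [IsCofiltered I]
    (D : I ⥤ AlgSp.Sp S) (hD : ∀ i, AlgSp.IsAlgSpace (D.obj i))
    (hDa : ∀ (i j : I) (φ : i ⟶ j), AlgSp.IsAffineMor (D.map φ))
    (hqc : ∀ i, AlgSp.IsQuasiCompactSp (D.obj i)) (hqs : ∀ i, AlgSp.IsQuasiSeparatedSp (D.obj i))
    (c : Cone D) (hc : IsLimit c)
    (hln : ∀ i, AlgSp.IsLocNoethSp (D.obj i))
    (X Y : AlgSp.Space S) (aX : X.obj ⟶ c.pt) (aY : Y.obj ⟶ c.pt) (f : X.obj ⟶ Y.obj) (hf : f ≫ aY = aX)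
    (hXqs : AlgSp.IsQuasiSeparatedMor aX) (hXft : AlgSp.IsFiniteTypeMor aX)
    (hYqs : AlgSp.IsQuasiSeparatedMor aY) (hYft : AlgSp.IsFiniteTypeMor aY)
    (i₁ : I) (W : AlgSp.Space S) (w : W.obj ⟶ D.obj i₁) (hw : AlgSp.IsFinitePresentationMor w) (bX : X.obj ⟶ W.obj)
    (hbX : bX ≫ w = aX ≫ c.π.app i₁)
    (hciX : ∀ (P : AlgSp.Sp S) (fst : P ⟶ c.pt) (snd : P ⟶ W.obj), IsPullback fst snd (c.π.app i₁) w →
      ∀ k : X.obj ⟶ P, k ≫ fst = aX → k ≫ snd = bX → AlgSp.RepWith @IsClosedImmersion k)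
    (PX : Over i₁ ⥤ AlgSp.Sp S) (PXπ₁ : PX ⟶ Over.forget i₁ ⋙ D) (PXπ₂ : PX ⟶ (Functor.const (Over i₁)).obj W.obj)
    (hPX : ∀ i' : Over i₁, IsPullback (PXπ₁.app i') (PXπ₂.app i') (D.map i'.hom) w)
    (DX : Over i₁ ⥤ AlgSp.Sp S) (hDX : ∀ i', AlgSp.IsAlgSpace (DX.obj i')) (εX : DX ⟶ PX)
    (ξX : (Functor.const (Over i₁)).obj X.obj ⟶ DX)
    (hξX : ∀ i' : Over i₁, ξX.app i' ≫ εX.app i' ≫ PXπ₁.app i' = aX ≫ c.π.app i'.left ∧ ξX.app i' ≫ εX.app i' ≫ PXπ₂.app i' = bX)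
    (himgX : ∀ i' : Over i₁, AlgSp.IsSchImage (ξX.app i' ≫ εX.app i') (εX.app i'))
    (i₂ : I) (V : AlgSp.Space S) (v : V.obj ⟶ D.obj i₂) (hv : AlgSp.IsFinitePresentationMor v) (bY : Y.obj ⟶ V.obj)
    (hbY : bY ≫ v = aY ≫ c.π.app i₂)
    (hciY : ∀ (P : AlgSp.Sp S) (fst : P ⟶ c.pt) (snd : P ⟶ V.obj), IsPullback fst snd (c.π.app i₂) v →
      ∀ k : Y.obj ⟶ P, k ≫ fst = aY → k ≫ snd = bY → AlgSp.RepWith @IsClosedImmersion k)
    (PY : Over i₂ ⥤ AlgSp.Sp S) (PYπ₁ : PY ⟶ Over.forget i₂ ⋙ D) (PYπ₂ : PY ⟶ (Functor.const (Over i₂)).obj V.obj)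
    (hPY : ∀ i' : Over i₂, IsPullback (PYπ₁.app i') (PYπ₂.app i') (D.map i'.hom) v)
    (DY : Over i₂ ⥤ AlgSp.Sp S) (hDY : ∀ i', AlgSp.IsAlgSpace (DY.obj i')) (εY : DY ⟶ PY)
    (ξY : (Functor.const (Over i₂)).obj Y.obj ⟶ DY)
    (hξY : ∀ i' : Over i₂, ξY.app i' ≫ εY.app i' ≫ PYπ₁.app i' = aY ≫ c.π.app i'.left ∧ ξY.app i' ≫ εY.app i' ≫ PYπ₂.app i' = bY)
    (himgY : ∀ i' : Over i₂, AlgSp.IsSchImage (ξY.app i' ≫ εY.app i') (εY.app i')) :
    ∃ (i₀ : I) (φ₁ : i₀ ⟶ i₁) (φ₂ : i₀ ⟶ i₂) (fam : Over.map φ₁ ⋙ DX ⟶ Over.map φ₂ ⋙ DY),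
      (∀ i' : Over i₀, ξX.app ((Over.map φ₁).obj i') ≫ fam.app i' = f ≫ ξY.app ((Over.map φ₂).obj i')) ∧
        (∀ i' : Over i₀, fam.app i' ≫ εY.app ((Over.map φ₂).obj i') ≫ PYπ₁.app ((Over.map φ₂).obj i') =
          εX.app ((Over.map φ₁).obj i') ≫ PXπ₁.app ((Over.map φ₁).obj i')) ∧
      ∀ gam : Over.map φ₁ ⋙ DX ⟶ Over.map φ₂ ⋙ DY,
        (∀ i' : Over i₀, ξX.app ((Over.map φ₁).obj i') ≫ gam.app i' = f ≫ ξY.app ((Over.map φ₂).obj i')) ∧
        (∀ i' : Over i₀, gam.app i' ≫ εY.app ((Over.map φ₂).obj i') ≫ PYπ₁.app ((Over.map φ₂).obj i') =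
          εX.app ((Over.map φ₁).obj i') ≫ PXπ₁.app ((Over.map φ₁).obj i')) →
        ∃ (j₀ : I) (ψ : j₀ ⟶ i₀), ∀ j : Over j₀, fam.app ((Over.map ψ).obj j) = gam.app ((Over.map ψ).obj j) := by
  exact Groth.Agent.SchImLim13.exists_morphism_schImage D hD hDa hqc hqs c hc X Y aX aY f hf i₁ W w hw bX
    (pullback.lift aX bX hbX.symm) (pullback.lift_fst _ _ _) (pullback.lift_snd _ _ _)
    (hciX _ _ _ (IsPullback.of_hasPullback _ _) _ (pullback.lift_fst _ _ _) (pullback.lift_snd _ _ _))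
    PX PXπ₁ PXπ₂ hPX DX hDX εX ξX hξX himgX i₂ V v hv bY hbY PY PYπ₁ PYπ₂ hPY DY εY (fun i' => (himgY i').1) ξY hξY

end Groth.Agent.S10074
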