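import Groth.Statements.S10077
import Groth.Agent.AlgSpDec.LimLfpSpaces

set_option autoImplicit false
universe u
open CategoryTheory CategoryTheory.Limits AlgebraicGeometry
open AlgSp

namespace Groth.Agent.S10077

/-- A morphism `f : X ⟶ Y` of algebraic spaces over `S` is locally of finite presentation if and only if
for every directed limit `T = lim T_i` of algebraic spaces over `S`, each quasi-compact and
quasi-separated over `S`, with affine transition maps, the square formed by `colim Mor(T_i, X) →
Mor(T, X)`, `colim Mor(T_i, Y) → Mor(T, Y)` and composition with `f` is cartesian in sets. (The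
published statement allows any base scheme and uses absolute quasi-separatedness; this row assumes
the base quasi-separated, over which quasi-separatedness relative to the base is the absolute
notion.) -/
theorem result (S : Scheme.{u}) [QuasiSeparatedSpace S]
    {X Y : AlgSp.Space S} (f : X ⟶ Y) :
    AlgSp.LocP @LocallyOfFinitePresentation f.hom ↔
      ∀ ⦃I : Type u⦄ [SmallCategory I] [IsCofiltered I] (D : I ⥤ AlgSp.Sp S),
        (∀ i, AlgSp.IsAlgSpace (D.obj i)) → (∀ (i j : I) (φ : i ⟶ j), AlgSp.IsAffineMor (D.map φ)) →
        (∀ i, AlgSp.IsQuasiCompactSp (D.obj i)) → (∀ i, AlgSp.IsQuasiSeparatedSp (D.obj i)) →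
        ∀ (c : Cone D) (_ : IsLimit c),
          IsPullback (colimMap (Functor.whiskerLeft D.op (yoneda.map f.hom)))
            (colimit.desc (D.op ⋙ yoneda.obj X.obj) ((yoneda.obj X.obj).mapCocone c.op))
            (colimit.desc (D.op ⋙ yoneda.obj Y.obj) ((yoneda.obj Y.obj).mapCocone c.op))
            ((yoneda.map f.hom).app (Opposite.op c.pt)) := by
  exact Groth.Agent.AlgSpDec.locP_lfp_iff_isPullback_colimit X.property Y.property f.hom

end Groth.Agent.S10077
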