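import Groth.Statements.S10093
import Groth.Agent.AlgSpLib.RepBySp

set_option backward.isDefEq.respectTransparency false
set_option backward.isDefEq.respectTransparency.types false
-- import your own Groth.Agent.* helpers here

set_option autoImplicit false
universe u
open CategoryTheory CategoryTheory.Limits AlgebraicGeometry
open AlgSp

namespace Groth.Agent.S10093

/-- The composition of two maps of presheaves of sets on schemes over `S` which are representable by
algebraic spaces is representable by algebraic spaces. -/
theorem result (S : Scheme.{u}) (F G H : AlgSp.PSp S) (a : F ⟶ G) (b : G ⟶ H)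
    (ha : AlgSp.RepBySp a) (hb : AlgSp.RepBySp b) : AlgSp.RepBySp (a ≫ b) := Groth.Agent.AlgSpLib.repBySp_comp ha hb
end Groth.Agent.S10093
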