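import Groth.Statements.S10095
import Groth.Agent.AlgSpPts.RepByDiag
import Groth.Agent.AlgSpPts.Misc
-- import your own Groth.Agent.* helpers here

set_option autoImplicit false
universe u
open CategoryTheory CategoryTheory.Limits AlgebraicGeometry
open AlgSp

namespace Groth.Agent.S10095

set_option backward.isDefEq.respectTransparency false
set_option backward.isDefEq.respectTransparency.types false

open AlgSp Groth.Agent.AlgSpLib Groth.Agent.AlgSpPts

/-- Let `a : F ⟶ G` and `b : G ⟶ H` be maps of presheaves of sets on schemes over `S`. If both the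
diagonal `G ⟶ G ×_H G` and the composite `a ≫ b` are representable by algebraic spaces, then so is
`a`. -/
theorem result (S : Scheme.{u}) (F G H : AlgSp.PSp S) (a : F ⟶ G) (b : G ⟶ H)
    (hΔ : AlgSp.RepBySp (pullback.diagonal b)) (hab : AlgSp.RepBySp (a ≫ b)) : AlgSp.RepBySp a :=  Groth.Agent.AlgSpLib.of_comp_of_diagonal RepBySp a b hab hΔ


end Groth.Agent.S10095
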