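import Groth.Statements.S10096
import Groth.Agent.AlgSpPts.RepByDiag
import Groth.Agent.AlgSpPts.Misc
-- import your own Groth.Agent.* helpers here

set_option autoImplicit false
universe u
open CategoryTheory CategoryTheory.Limits AlgebraicGeometry
open AlgSp

namespace Groth.Agent.S10096

set_option backward.isDefEq.respectTransparency false
set_option backward.isDefEq.respectTransparency.types false

open AlgSp Groth.Agent.AlgSpLib Groth.Agent.AlgSpPts

/-- Let `a : F ⟶ G` be a map of fppf sheaves of sets over `S` that is flat, surjective, locally of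
finite presentation and representable by algebraic spaces (every base change `h_U ×_G F ⟶ h_U` to a
scheme is such a morphism of algebraic spaces). Then `a` is surjective as a map of sheaves (an
epimorphism of fppf sheaves). -/
theorem result (S : Scheme.{u}) (F G : AlgSp.Sp S) (a : F ⟶ G)
    (ha : AlgSp.RepBySpWith (AlgSp.IsSurjectiveMor ⊓ AlgSp.LocP @Flat ⊓ AlgSp.LocP @LocallyOfFinitePresentation) a.hom) :
    Epi a :=  by
  have : Sheaf.IsLocallySurjective a := by
    refine isLocallySurjective_of_lifts a fun T g => ?_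
    obtain ⟨hP, ⟨hs, hfl⟩, hfp⟩ := (repBySpWith_hom_iff _ a).1 ha g _ _ (IsPullback.of_hasPullback a g)
    obtain ⟨W, c, hc, hc'⟩ := hP.atlas
    let φ : W ⟶ T := (yon S).preimage (c ≫ pullback.snd a g)
    have hφ : c ≫ pullback.snd a g = (yon S).map φ ≫ 𝟙 _ := by
      rw [Functor.map_preimage, Category.comp_id]
    refine ⟨W, φ, c ≫ pullback.fst a g, @fppf_of _ _ φ.left ?_ (hfl c (𝟙 _) φ hc (repWith_id _ T) hφ)
      (hfp c (𝟙 _) φ hc (repWith_id _ T) hφ), ?_⟩
    · refine ⟨fun t => ?_⟩
      obtain ⟨x, hx⟩ := hs (Points.ofPt (𝟙 _) t)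
      obtain ⟨w, rfl⟩ := surjective_ofPt hc' x
      rw [Points.map_ofPt, hφ, ofPt_comp] at hx
      exact ⟨w, (Points.schemeEquiv T).injective hx⟩
    · rw [Category.assoc, pullback.condition, ← Category.assoc, Functor.map_preimage]
  exact Sheaf.epi_of_isLocallySurjective a


end Groth.Agent.S10096
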