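import Groth.Statements.S10097
import Groth.Agent.AlgSpPts.RepByDiag
import Groth.Agent.AlgSpPts.Misc
-- import your own Groth.Agent.* helpers here

set_option autoImplicit false
universe u
open CategoryTheory CategoryTheory.Limits AlgebraicGeometry
open AlgSp

namespace Groth.Agent.S10097

set_option backward.isDefEq.respectTransparency false
set_option backward.isDefEq.respectTransparency.types false

open AlgSp Groth.Agent.AlgSpLib Groth.Agent.AlgSpPts

/-- (1) ⇔ (2): for a presheaf of sets `F` on schemes over `S`, the diagonal `F ⟶ F × F` is representable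
by algebraic spaces if and only if every map `h_T ⟶ F` from a scheme `T` over `S` is representable
by algebraic spaces. -/
theorem result (S : Scheme.{u}) (F : AlgSp.PSp S) :
    AlgSp.RepBySp (Limits.diag F) ↔
      ∀ (T : Over S) (ξ : (AlgSp.pyon S).obj T ⟶ F), AlgSp.RepBySp ξ :=  by
  constructor
  · intro hd T ξ
    have hsnd : RepBySp (prod.snd : (pyon S).obj T ⨯ F ⟶ F) := by
      intro U z F' fst snd sq
      have sq' : IsPullback (prod.map (𝟙 _) z) prod.snd (prod.snd : (pyon S).obj T ⨯ F ⟶ F) z :=
        ⟨⟨by simp⟩, ⟨PullbackCone.IsLimit.mk _ (fun s => prod.lift (s.fst ≫ prod.fst) s.snd)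
          (fun s => by apply Limits.prod.hom_ext <;> simp [s.condition]) (fun s => by simp)
          (fun s l h1 h2 => by
            apply Limits.prod.hom_ext
            · simpa using h1 =≫ prod.fst
            · simpa using h2)⟩⟩
      exact (isAlgSpaceP_prod_pyon T U).of_iso (sq'.isoIsPullback _ _ sq)
    have hgr : RepBySp (prod.lift (𝟙 _) ξ : (pyon S).obj T ⟶ (pyon S).obj T ⨯ F) := by
      have sq : IsPullback ξ (prod.lift (𝟙 _) ξ) (Limits.diag F) (prod.map ξ (𝟙 F)) :=
        ⟨⟨by apply Limits.prod.hom_ext <;> simp⟩, ⟨PullbackCone.IsLimit.mk _ (fun s => s.snd ≫ prod.fst)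
          (fun s => by
            have := s.condition =≫ prod.fst
            simpa using this.symm)
          (fun s => by
            apply Limits.prod.hom_ext
            · simp
            · have h1 := s.condition =≫ prod.fst
              have h2 := s.condition =≫ prod.snd
              simp at h1 h2
              simp [← h1, h2])
          (fun s l h1 h2 => by simpa using h2 =≫ prod.fst)⟩⟩
      exact repBySp_of_isPullback sq hd
    have := repBySp_comp hgr hsnd
    rwa [prod.lift_snd] at this
  · intro h U z F' fst snd sq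
    let ξ₁ := z ≫ prod.fst
    let ξ₂ := z ≫ prod.snd
    have hP : IsAlgSpaceP (pullback ξ₁ ξ₂) := h U ξ₁ ξ₂ _ _ (IsPullback.of_hasPullback ξ₁ ξ₂)
    let m : pullback ξ₁ ξ₂ ⟶ (pyon S).obj U ⨯ (pyon S).obj U :=
      prod.lift (pullback.fst ξ₁ ξ₂) (pullback.snd ξ₁ ξ₂)
    have sqA : IsPullback (pullback.fst ξ₁ ξ₂ ≫ ξ₁) m (Limits.diag F) (prod.map ξ₁ ξ₂) :=
      ⟨⟨by apply Limits.prod.hom_ext <;> simp [m, pullback.condition]⟩, ⟨PullbackCone.IsLimit.mk _
        (fun s => pullback.lift (s.snd ≫ prod.fst) (s.snd ≫ prod.snd) (by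
          have h1 := s.condition =≫ prod.fst
          have h2 := s.condition =≫ prod.snd
          simp at h1 h2
          simp [← h1, ← h2]))
        (fun s => by
          have h1 := s.condition =≫ prod.fst
          simp at h1
          simp [h1])
        (fun s => by apply Limits.prod.hom_ext <;> simp [m])
        (fun s l h1 h2 => by
          apply pullback.hom_ext
          · simpa [m] using h2 =≫ prod.fst
          · simpa [m] using h2 =≫ prod.snd)⟩⟩
    have hm := repBySp_of_isAlgSpaceP m hP (isAlgSpaceP_prod_pyon U U)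
    have hs := IsPullback.of_hasPullback m (Limits.diag ((pyon S).obj U))
    have hz : Limits.diag ((pyon S).obj U) ≫ prod.map ξ₁ ξ₂ = z := by
      apply Limits.prod.hom_ext <;> simp [ξ₁, ξ₂]
    have := hs.paste_horiz sqA
    rw [hz] at this
    exact (hm _ _ _ hs).of_iso (this.isoIsPullback _ _ sq)


end Groth.Agent.S10097
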