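import Groth.Statements.S10100
import Groth.Agent.AlgSpDec.LqfScheme
-- import your own Groth.Agent.* helpers here

set_option autoImplicit false
universe u
open CategoryTheory CategoryTheory.Limits AlgebraicGeometry
open AlgSp

namespace Groth.Agent.S10100

/-- Let `F` be a presheaf of sets on schemes over `S`, `X` a scheme over `S` and `h_X ⟶ F` a map which
is representable by algebraic spaces and locally quasi-finite. Then `h_X ⟶ F` is representable by
schemes. -/
theorem result (S : Scheme.{u}) (F : AlgSp.PSp S) (X : Over S)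
    (p : (AlgSp.pyon S).obj X ⟶ F)
    (hp : AlgSp.RepBySpWith (AlgSp.LocP (@LocallyQuasiFinite ⊓ @LocallyOfFiniteType)) p) :
    (AlgSp.pyon S).relativelyRepresentable p := by
  intro U ξ
  have sq := IsPullback.of_hasPullback p ξ
  obtain ⟨hF', hA, hQ⟩ := hp ξ _ _ sq
  let P : AlgSp.Sp S := ⟨pullback p ξ, hF'⟩
  let l : P ⟶ (AlgSp.yon S).obj X := ObjectProperty.homMk (pullback.fst p ξ)
  let r : P ⟶ (AlgSp.yon S).obj U := ObjectProperty.homMk (pullback.snd p ξ)
  let m : P ⟶ (AlgSp.yon S).obj (X ⨯ U) := prod.lift l r ≫ inv (prodComparison (AlgSp.yon S) X U)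
  have hm₁ : m ≫ (AlgSp.yon S).map prod.fst = l := by
    rw [Category.assoc, inv_prodComparison_map_fst, prod.lift_fst]
  have hm₂ : m ≫ (AlgSp.yon S).map prod.snd = r := by
    rw [Category.assoc, inv_prodComparison_map_snd, prod.lift_snd]
  have hmono : Mono m := ⟨fun {Z} a b h => by
    have h1 : a ≫ l = b ≫ l := by rw [← hm₁, reassoc_of% h]
    have h2 : a ≫ r = b ≫ r := by rw [← hm₂, reassoc_of% h]
    exact (sheafToPresheaf (AlgSp.J S) (Type (u + 1))).map_injective
      (sq.hom_ext (congrArg (fun q => q.hom) h1)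
        (congrArg (fun q => q.hom) h2))⟩
  have hlqf : AlgSp.LocP (@LocallyQuasiFinite ⊓ @LocallyOfFiniteType) m := by
    intro A B a b h ha hb hw
    obtain ⟨b', rfl⟩ := (AlgSp.yon S).map_surjective b
    obtain ⟨hq, hl⟩ := hQ a (𝟙 _) (h ≫ b' ≫ prod.snd) ha (AlgSp.repWith_id _ U) (by
      rw [Category.comp_id, Functor.map_comp, Functor.map_comp, ← reassoc_of% hw, hm₂])
    rw [Over.comp_left] at hq hl
    exact ⟨LocallyQuasiFinite.of_comp h.left (b' ≫ prod.snd).left,
      locallyOfFiniteType_of_comp h.left (b' ≫ prod.snd).left⟩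
  obtain ⟨Q, ⟨e⟩⟩ := Groth.Agent.AlgSpDec.exists_iso_of_lqf_separated hA m hlqf
    (Groth.Agent.AlgSpDec.isSeparatedMor_of_mono m)
  obtain ⟨k, hk⟩ := (AlgSp.yon S).map_surjective (e.hom ≫ r)
  let eP : (AlgSp.pyon S).obj Q ≅ pullback p ξ := (sheafToPresheaf _ _).mapIso e
  refine ⟨Q, k, eP.hom ≫ pullback.fst p ξ, sq.of_iso eP.symm (Iso.refl _) (Iso.refl _) (Iso.refl _) (by simp) ?_
    (by simp) (by simp)⟩
  have hk' : (AlgSp.pyon S).map k = eP.hom ≫ pullback.snd p ξ :=
    congrArg (fun q => q.hom) hk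
  simp [hk']

end Groth.Agent.S10100
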