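import Groth.Statements.S10102
import Groth.Agent.AlgSpDec.SpQuot

set_option autoImplicit false
universe u
open CategoryTheory CategoryTheory.Limits AlgebraicGeometry
open AlgSp

namespace Groth.Agent.S10102

/-- Let `(U, R, s, t, c)` be a groupoid in algebraic spaces over `S` whose `j = (t, s)` is an
equivalence relation and whose `s, t` are flat and locally of finite presentation; equivalently (the
composition being determined by it) an equivalence relation `s, t : R ⟶ U` of algebraic spaces over
`S` with `s, t` flat and locally of finite presentation. Then the fppf quotient sheaf `U/R` is an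
algebraic space over `S`. -/
theorem result (S : Scheme.{u}) (R U : AlgSp.Sp S)
    (hR : AlgSp.IsAlgSpace R) (hU : AlgSp.IsAlgSpace U) (s t : R ⟶ U) (hj : AlgSp.IsEqvRelSp s t)
    (hs : AlgSp.LocP @Flat s ∧ AlgSp.LocP @LocallyOfFinitePresentation s)
    (ht : AlgSp.LocP @Flat t ∧ AlgSp.LocP @LocallyOfFinitePresentation t) :
    AlgSp.IsAlgSpace (AlgSp.quotSp s t) := by
  exact Groth.Agent.AlgSpDec.isAlgSpace_quotSp hR hU hj hs ht

end Groth.Agent.S10102
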