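import Groth.Statements.S10103
import Groth.Agent.AlgSpDec.LqfQuot

set_option autoImplicit false
universe u
open CategoryTheory CategoryTheory.Limits AlgebraicGeometry
open AlgSp

namespace Groth.Agent.S10103

/-- Let `s, t : R ⟶ U` be an equivalence relation of schemes over `S` (the case of a groupoid scheme
whose `j = (t, s)` is an equivalence relation; the composition is determined by it) with `s` and `t`
flat and locally of finite presentation. Then the fppf quotient sheaf `U/R` is an algebraic space
over `S`. -/
theorem result (S : Scheme.{u}) {R U : Over S} (s t : R ⟶ U)
    (h : AlgSp.IsEqvRel s t) [Flat s.left] [LocallyOfFinitePresentation s.left]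
    [Flat t.left] [LocallyOfFinitePresentation t.left] :
    AlgSp.IsAlgSpace (QuotSh.quot Scheme.fppfPrecoverage s t) := by
  exact Groth.Agent.AlgSpDec.isAlgSpace_quot h

end Groth.Agent.S10103
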