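import Groth.Statements.S10105
import Groth.Agent.AlgSpDec.FppfFamily
import Groth.Agent.AlgStLib.FppfSite

set_option autoImplicit false
set_option backward.isDefEq.respectTransparency false
set_option backward.isDefEq.respectTransparency.types false
universe u
open CategoryTheory CategoryTheory.Limits AlgebraicGeometry
open AlgSp

namespace Groth.Agent.S10105

/-- Let `F` be an fppf sheaf of sets over `S` and `{S_i ⟶ S}` an fppf covering. If every `h_{S_i} × F`
is an algebraic space and the coproduct `∐ h_{S_i} × F` (in sheaves) is an algebraic space, then `F`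
is an algebraic space: being an algebraic space is fppf local on the base. -/
theorem result (S : Scheme.{u}) (F : AlgSp.Sp S) {ι : Type u} (Si : ι → Over S)
    (hfl : ∀ i, Flat (Si i).hom) (hfp : ∀ i, LocallyOfFinitePresentation (Si i).hom)
    (hsurj : ∀ x : ↥S, ∃ (i : ι) (y : ↥(Si i).left), (Si i).hom.base y = x)
    (halg : ∀ i, AlgSp.IsAlgSpace ((AlgSp.yon S).obj (Si i) ⨯ F))
    (c : Cofan (fun i => (AlgSp.yon S).obj (Si i) ⨯ F)) (hc : IsColimit c) (hcop : AlgSp.IsAlgSpace c.pt) :
    AlgSp.IsAlgSpace F := by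
  let t := AlgSpPts.isTerminalYon S
  let g : ∀ i, (yon S).obj (Si i) ⟶ (yon S).obj (Over.mk (𝟙 S)) := fun i =>
    (yon S).map (Over.homMk (Si i).hom (Category.comp_id _))
  have hcov : IsFppfCover (fun i => (yon S).obj (Si i)) g :=
    AlgStLib.isFppfCover_yon_map (U := Over.mk (𝟙 S)) Si (fun i => Over.homMk (Si i).hom (Category.comp_id _))
      hfl hfp fun x => (hsurj x).elim fun i h => ⟨i, h.choose, h.choose_spec⟩
  refine AlgSpDec.isAlgSpace_of_fppf_local (IsAlgSpace.yon_obj _) (fun i => IsAlgSpace.yon_obj (Si i)) g hcov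
    (t.from F) fun i => ?_
  have sq : IsPullback (prod.snd : (yon S).obj (Si i) ⨯ F ⟶ F) prod.fst (t.from F) (g i) := by
    have h := (IsPullback.of_is_product' (prodIsProd ((yon S).obj (Si i)) F) t).flip
    rwa [t.hom_ext (t.from ((yon S).obj (Si i))) (g i)] at h
  exact (halg i).of_iso (sq.isoIsPullback _ _ (IsPullback.of_hasPullback (t.from F) (g i)))

end Groth.Agent.S10105
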