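import Groth.Statements.S10108
import Groth.Agent.AlgSpDec.EtaleSheafCover
-- import your own Groth.Agent.* helpers here

set_option autoImplicit false
universe u
open CategoryTheory CategoryTheory.Limits AlgebraicGeometry
open AlgSp

namespace Groth.Agent.S10108

/-- A presheaf of sets on schemes over `S` which is a sheaf for the etale topology, has diagonal
representable by schemes, and receives a representable surjective etale map from a scheme over `S`,
is an algebraic space (in particular an fppf sheaf): algebraic spaces defined with the etale
topology are the same as with the fppf topology. -/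
theorem result (S : Scheme.{u}) (F : AlgSp.PSp S)
    (h1 : Presheaf.IsSheaf (QuotSh.J Scheme.etalePrecoverage S) F)
    (h2 : (AlgSp.pyon S).relativelyRepresentable (Limits.diag F))
    (U : Over S) (p : (AlgSp.pyon S).obj U ⟶ F)
    (h3 : (MorphismProperty.inverseImage @Etale (Over.forget S)).relative (AlgSp.pyon S) p ∧
      (MorphismProperty.inverseImage @Surjective (Over.forget S)).relative (AlgSp.pyon S) p) :
    AlgSp.IsAlgSpaceP F := by
  have hr := h3.1.rep
  have sqP := hr.isPullback' p
  have he : Etale (hr.snd p).left := h3.1.property_snd p
  have hs : Surjective (hr.snd p).left := h3.2.property _ _ _ (hr.isPullback p)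
  refine Groth.Agent.AlgSpDec.isAlgSpaceP_of_etale_sheaf h1 sqP fun T a => ?_
  exact ⟨_, hr.snd a, hr.fst' a, h3.1.property_snd a, h3.2.property _ _ _ (hr.isPullback a), (hr.isPullback' a).w⟩

end Groth.Agent.S10108
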