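import Groth.Statements.S10110
import Groth.Agent.AlgSpDec.SmoothSheafCover

set_option autoImplicit false
universe u
open CategoryTheory CategoryTheory.Limits AlgebraicGeometry
open AlgSp

namespace Groth.Agent.S10110

/-- A presheaf of sets on schemes over `S` which is a sheaf for the etale topology and receives a map
from an algebraic space which is representable by algebraic spaces, surjective and smooth, is an
algebraic space (in particular an fppf sheaf). In particular this covers a scheme `U` with a
surjective smooth map to `F` when the diagonal of `F` is representable by algebraic spaces, since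
every map from a scheme to `F` is then representable by algebraic spaces. -/
theorem result (S : Scheme.{u}) (F : AlgSp.PSp S)
    (h1 : Presheaf.IsSheaf (QuotSh.J Scheme.etalePrecoverage S) F) (U : AlgSp.Space S) (p : U.obj.obj ⟶ F)
    (h2 : AlgSp.RepBySpWith (AlgSp.IsSurjectiveMor ⊓ AlgSp.LocP @Smooth) p) :
    AlgSp.IsAlgSpaceP F := by
  exact Groth.Agent.AlgSpDec.isAlgSpaceP_of_smooth_sheaf_space h1 U.property h2

end Groth.Agent.S10110
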