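import Groth.Statements.S10112
import Groth.Agent.AlgSpDec.GActionQuot

set_option autoImplicit false
universe u
open CategoryTheory CategoryTheory.Limits AlgebraicGeometry MonoidalCategory
open AlgSp

namespace Groth.Agent.S10112

set_option backward.isDefEq.respectTransparency false
set_option backward.isDefEq.respectTransparency.types false

/-- Let `G` be a group algebraic space over an algebraic space `B`, flat and locally of finite
presentation over `B`, acting freely on an algebraic space `X` over `B`. Then `X/G` is an algebraic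
space, the quotient map `X ⟶ X/G` is flat, surjective and locally of finite presentation, and `(g,
x) ↦ (g x, x)` is an isomorphism `G ×_B X ⟶ X ×_{X/G} X`, so that `X` is an fppf `G`-torsor over
`X/G`. -/
theorem result (S : Scheme.{u}) (B : AlgSp.Sp S) (hB : AlgSp.IsAlgSpace B)
    (G X : Over B) [GrpObj G] (hG : AlgSp.IsAlgSpace G.left) (hX : AlgSp.IsAlgSpace X.left)
    (a : AlgSp.GAction G X) (ha : a.IsFree)
    (hfl : AlgSp.LocP @Flat G.hom ∧ AlgSp.LocP @LocallyOfFinitePresentation G.hom) :
    AlgSp.IsAlgSpace a.quot ∧
      (AlgSp.IsSurjectiveMor a.quotπ ∧ AlgSp.LocP @Flat a.quotπ ∧ AlgSp.LocP @LocallyOfFinitePresentation a.quotπ) ∧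
      IsIso (pullback.lift a.act.left (CartesianMonoidalCategory.snd G X).left
        (AlgSp.quotSp_condition (CartesianMonoidalCategory.snd G X).left a.act.left).symm :
          (G ⊗ X).left ⟶ pullback a.quotπ a.quotπ) := by
  obtain ⟨h1, h2, h3⟩ := Groth.Agent.AlgSpDec.quot_of_isFree a hB hG hX ha hfl
  refine ⟨h1, h2, ?_⟩
  convert (inferInstance : IsIso h3.isoPullback.hom) using 1
  apply pullback.hom_ext
  · rw [h3.isoPullback_hom_fst]
    exact pullback.lift_fst _ _ _
  · rw [h3.isoPullback_hom_snd]
    exact pullback.lift_snd _ _ _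

end Groth.Agent.S10112
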