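import Groth.Statements.S10113
import Groth.Agent.AlgSpDec.QuotSpLocal

set_option autoImplicit false
universe u
open CategoryTheory CategoryTheory.Limits AlgebraicGeometry
open AlgSp

namespace Groth.Agent.S10113

set_option backward.isDefEq.respectTransparency false
set_option backward.isDefEq.respectTransparency.types false

/-- Let `s, t : R ⟶ U` be a pre-relation of algebraic spaces, `M` an algebraic space and `U ⟶ M` a
morphism which coequalizes `s, t`, is a surjection of sheaves, and for which `(t, s) : R ⟶ U ×_M U`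
is a surjection of sheaves. Then the induced map `U/R ⟶ M` is an isomorphism: `M` represents the
quotient sheaf. -/
theorem result (S : Scheme.{u}) (R U M : AlgSp.Sp S)
    (hR : AlgSp.IsAlgSpace R) (hU : AlgSp.IsAlgSpace U) (hM : AlgSp.IsAlgSpace M) (s t : R ⟶ U)
    (q : U ⟶ M) (w : s ≫ q = t ≫ q) [Epi q] [Epi (pullback.lift t s w.symm : R ⟶ pullback q q)] :
    IsIso (AlgSp.quotSpDesc q w) := by
  have : Epi (AlgSp.quotSpπ s t) := coequalizer.π_epi
  have hd : AlgSp.quotSpπ s t ≫ AlgSp.quotSpDesc q w = q := coequalizer.π_desc _ _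
  have : EffectiveEpi q := by
    have := IsRegularEpiCategory.regularEpiOfEpi q
    infer_instance
  have hfs : pullback.fst q q ≫ AlgSp.quotSpπ s t = pullback.snd q q ≫ AlgSp.quotSpπ s t := by
    rw [← cancel_epi (pullback.lift t s w.symm : R ⟶ pullback q q), pullback.lift_fst_assoc,
      pullback.lift_snd_assoc, AlgSp.quotSp_condition]
  let h := EffectiveEpi.desc q (AlgSp.quotSpπ s t) (fun g₁ g₂ e => by
    rw [← pullback.lift_fst g₁ g₂ e, Category.assoc, hfs, pullback.lift_snd_assoc])
  have hh : q ≫ h = AlgSp.quotSpπ s t := EffectiveEpi.fac q _ _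
  exact ⟨h, by rw [← cancel_epi (AlgSp.quotSpπ s t), reassoc_of% hd, hh, Category.comp_id],
    by rw [← cancel_epi q, reassoc_of% hh, hd, Category.comp_id]⟩

end Groth.Agent.S10113
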