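import Groth.Statements.S10115
import Groth.Agent.AlgSpDec.QuotSpLocal

set_option autoImplicit false
universe u
open CategoryTheory CategoryTheory.Limits AlgebraicGeometry
open AlgSp AlgSp.GroupoidSp

namespace Groth.Agent.S10115

set_option backward.isDefEq.respectTransparency false
set_option backward.isDefEq.respectTransparency.types false

/-- For a groupoid `(U, R, s, t, c)` in algebraic spaces over `B`, let `(U', R', s', t', c')` be its
restriction along a morphism `g : U' ⟶ U` over `B`. Then `U'/R' ⟶ U/R` is injective; if the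
composite `h : U' ×_{g, U, t} R ⟶ R ⟶ U` of the projection with `s` is a surjection of fppf sheaves
(for instance if `g` is), then it is bijective. -/
theorem result (S : Scheme.{u}) (B : AlgSp.Sp S) (hB : AlgSp.IsAlgSpace B)
    (G G' : AlgSp.GroupoidSp B) (hU : AlgSp.IsAlgSpace G.U) (hR : AlgSp.IsAlgSpace G.R)
    (hU' : AlgSp.IsAlgSpace G'.U) (hR' : AlgSp.IsAlgSpace G'.R) (φ : AlgSp.GroupoidSp.Hom G' G)
    (hφ : φ.IsRestriction) (ψ : G'.quot ⟶ G.quot) (hψ : G'.quotπ ≫ ψ = φ.fU ≫ G.quotπ) :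
    Mono ψ ∧ (Epi (pullback.snd φ.fU G.t ≫ G.s) → IsIso ψ) := by
  have hpre : AlgSp.IsPreEqvRelSp G.s G.t := fun T => by
    refine ⟨fun a => ⟨a ≫ G.e, by rw [Category.assoc, G.e_t, Category.comp_id],
      by rw [Category.assoc, G.e_s, Category.comp_id]⟩, ?_, ?_⟩
    · rintro a b ⟨r, rfl, rfl⟩
      exact ⟨r ≫ G.i, by rw [Category.assoc, G.i_t], by rw [Category.assoc, G.i_s]⟩
    · rintro a b d ⟨α, rfl, rfl⟩ ⟨β, h, rfl⟩
      exact ⟨pullback.lift α β h.symm ≫ G.c, G.comp_t α β h.symm, G.comp_s α β h.symm⟩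
  have hm : Mono ψ := Groth.Agent.AlgSpDec.SpQ.mono_desc hpre (fun {T} x y ρ h1 h2 => by
    have hB : x ≫ G'.pU = y ≫ G'.pU := by
      rw [← φ.fU_over, ← Category.assoc, ← Category.assoc, ← h1, ← h2, Category.assoc, Category.assoc,
        G.t_over, G.s_over]
    have hw : ρ ≫ G.j = pullback.lift x y hB ≫ φ.prodMap := by
      apply pullback.hom_ext <;> simp [AlgSp.GroupoidSp.Hom.prodMap, pullback.map, h1, h2]
    refine ⟨hφ.lift _ _ hw, ?_, ?_⟩
    · rw [← G'.j_fst, ← Category.assoc, hφ.lift_snd]; simp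
    · rw [← G'.j_snd, ← Category.assoc, hφ.lift_snd]; simp) hψ
  refine ⟨hm, fun hh => ?_⟩
  have e : (pullback.snd φ.fU G.t ≫ G.s) ≫ G.quotπ = (pullback.fst φ.fU G.t ≫ G'.quotπ) ≫ ψ := by
    show (pullback.snd φ.fU G.t ≫ G.s) ≫ AlgSp.quotSpπ G.s G.t = _
    rw [Category.assoc, AlgSp.quotSp_condition, Category.assoc, hψ, ← pullback.condition_assoc]
    rfl
  have : Epi G.quotπ := coequalizer.π_epi
  have : Epi ((pullback.fst φ.fU G.t ≫ G'.quotπ) ≫ ψ) := by rw [← e]; exact epi_comp _ _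
  have : Epi ψ := epi_of_epi (pullback.fst φ.fU G.t ≫ G'.quotπ) ψ
  exact isIso_of_mono_of_epi ψ

end Groth.Agent.S10115
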