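import Groth.Statements.S10118
import Groth.Agent.AlgSpDec.PseudoTorsorFibre

set_option autoImplicit false
universe u
open CategoryTheory CategoryTheory.Limits AlgebraicGeometry MonoidalCategory MonObj
open AlgSp AlgSp.GAction

namespace Groth.Agent.S10118

set_option backward.isDefEq.respectTransparency false
set_option backward.isDefEq.respectTransparency.types false

/-- Let `X` be a pseudo-torsor under a group algebraic space `G` over an algebraic space `B`, where both
`G` and `X` are locally of finite type over `B`. Whenever `G ⟶ B` is unramified, `X ⟶ B` is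
unramified too; likewise, local quasi-finiteness passes from `G ⟶ B` to `X ⟶ B`. -/
theorem result (S : Scheme.{u}) (B : AlgSp.Sp S) (hB : AlgSp.IsAlgSpace B)
    (G X : Over B) [GrpObj G] (hG : AlgSp.IsAlgSpace G.left) (hX : AlgSp.IsAlgSpace X.left)
    (a : AlgSp.GAction G X) (ha : a.IsPseudoTorsor)
    (hGt : AlgSp.LocP @LocallyOfFiniteType G.hom) (hXt : AlgSp.LocP @LocallyOfFiniteType X.hom) :
    (AlgSp.LocP (@LocallyOfFiniteType ⊓ @FormallyUnramified) G.hom →
        AlgSp.LocP (@LocallyOfFiniteType ⊓ @FormallyUnramified) X.hom) ∧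
      (AlgSp.LocP (@LocallyQuasiFinite ⊓ @LocallyOfFiniteType) G.hom →
        AlgSp.LocP (@LocallyQuasiFinite ⊓ @LocallyOfFiniteType) X.hom) := by
  refine ⟨fun h => ?_, fun h => ?_⟩
  · have h2 := Groth.Agent.AlgSpDec.PseudoTorsorFibre.locP_snd hB hG hX a ha h
    have hP := Groth.Agent.AlgSpLib.isAlgSpace_pullback hX hX hB X.hom X.hom
    let XS : AlgSp.Space S := ⟨X.left, hX⟩
    let BS : AlgSp.Space S := ⟨B, hB⟩
    let PS : AlgSp.Space S := ⟨_, hP⟩
    refine (Groth.Agent.S10262.result (X := XS) (Y := BS) (ObjectProperty.homMk X.hom)).2 hXt ?_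
    exact Groth.Agent.AlgSpPts.section_property (f := pullback.snd X.hom X.hom) (pullback.diagonal_snd _)
      ((Groth.Agent.S10262.result (X := PS) (Y := XS) (ObjectProperty.homMk (pullback.snd X.hom X.hom))).1 h2)
  · have h2 := Groth.Agent.AlgSpDec.PseudoTorsorFibre.locP_snd hB hG hX a ha h
    have hP := Groth.Agent.AlgSpLib.isAlgSpace_pullback hX hX hB X.hom X.hom
    refine (Groth.Agent.AlgSpDec.RelDimSp.lqf_iff hX hB hXt).2 fun x => ?_
    obtain ⟨U, V, au, bv, k, hau, w, hbv, -, wk⟩ := Groth.Agent.AlgSpLib.exists_chart hX hB X.hom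
    obtain ⟨u, hu⟩ := Groth.Agent.AlgSpLib.surjective_ofPt w x
    refine ⟨U, V, au, bv, k, u, hau, hbv, wk, hu, ?_⟩
    have sq := IsPullback.of_hasPullback X.hom X.hom
    have h3 := Groth.Agent.AlgSpDec.RelDimSp.baseChange sq hX hB hX hXt
      (AlgSp.Points.map (pullback.diagonal X.hom) x) (FlatMor.fibreDimAt k.left u)
      (by rw [← AlgSp.Points.map_comp, pullback.diagonal_fst, AlgSp.Points.map_id]
          exact ⟨U, V, au, bv, k, u, hau, hbv, wk, hu, rfl⟩)
    have h4 := (Groth.Agent.AlgSpDec.RelDimSp.lqf_iff hP hX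
      (Groth.Agent.AlgSpLib.locP_of_isPullback sq hX hB hX hXt)).1 h2 (AlgSp.Points.map (pullback.diagonal X.hom) x)
    obtain ⟨U₁, V₁, a₁, b₁, k₁, u₁, ha₁, hb₁, w₁, hx₁, e₁⟩ := h3
    obtain ⟨U₂, V₂, a₂, b₂, k₂, u₂, ha₂, hb₂, w₂, hx₂, e₂⟩ := h4
    exact e₁.symm.trans ((Groth.Agent.AlgSpDec.RelDimSp.fibreDimAt_congr
      (Groth.Agent.AlgSpLib.locP_of_isPullback sq hX hB hX hXt) ha₁ hb₁ w₁ ha₂ hb₂ w₂ (hx₁.trans hx₂.symm)).trans e₂)

end Groth.Agent.S10118
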