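import Groth.Statements.S10122
import Groth.Agent.AlgSpDec.UnitSection

set_option autoImplicit false
universe u
open CategoryTheory CategoryTheory.Limits AlgebraicGeometry
open AlgSp AlgSp.GroupoidSp

namespace Groth.Agent.S10122

set_option backward.isDefEq.respectTransparency false
set_option backward.isDefEq.respectTransparency.types false

/-- Let `(U, R, s, t, c)` be a groupoid in algebraic spaces over `B` with stabilizer `G ⟶ U` and unit
section `e : U ⟶ G`. Then (1) `j : R ⟶ U ×_B U` is separated iff `G ⟶ U` is separated iff `e` is a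
closed immersion; (3) `j` is quasi-separated iff `G ⟶ U` is quasi-separated iff `e` is
quasi-compact; (2) if `j` or `G ⟶ U` is locally separated then `e` is an immersion. The unit section
is written as any morphism `U ⟶ G` lifting the identity `e : U ⟶ R` of the groupoid. (The published
part (2) is a three-way equivalence; this row states only that `j` locally separated, or `G ⟶ U`
locally separated, implies that `e` is an immersion.) -/
theorem result (S : Scheme.{u}) (B : AlgSp.Sp S) (hB : AlgSp.IsAlgSpace B)
    (G : AlgSp.GroupoidSp B) (hU : AlgSp.IsAlgSpace G.U) (hR : AlgSp.IsAlgSpace G.R)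
    (eG : G.U ⟶ G.stabilizer) (heG : eG ≫ G.stabilizerι = G.e) :
    ((AlgSp.IsSeparatedMor G.j ↔ AlgSp.IsSeparatedMor G.stabilizerToU) ∧
        (AlgSp.IsSeparatedMor G.j ↔ AlgSp.RepWith @IsClosedImmersion eG)) ∧
      ((AlgSp.IsQuasiSeparatedMor G.j ↔ AlgSp.IsQuasiSeparatedMor G.stabilizerToU) ∧
        (AlgSp.IsQuasiSeparatedMor G.j ↔ AlgSp.IsQuasiCompactMor eG)) ∧
      ((AlgSp.IsLocallySeparatedMor G.j → AlgSp.RepWith @IsImmersion eG) ∧
        (AlgSp.IsLocallySeparatedMor G.stabilizerToU → AlgSp.RepWith @IsImmersion eG)) := by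
  have h := fun (P : MorphismProperty (AlgSp.Sp S)) (_ : P.IsStableUnderBaseChange) =>
    Groth.Agent.AlgSpDec.UnitSection.gpd_iffs P eG heG
  have hBU : AlgSp.IsAlgSpace (pullback G.pU G.pU) := Groth.Agent.AlgSpLib.isAlgSpace_pullback hU hU hB _ _
  have hst : AlgSp.IsAlgSpace G.stabilizer := Groth.Agent.AlgSpLib.isAlgSpace_pullback hR hU hBU _ _
  refine ⟨h (AlgSp.RepWith @IsClosedImmersion) inferInstance, ⟨(h (AlgSp.RepWith @QuasiCompact) inferInstance).1, ?_⟩, ?_⟩
  · exact (h (AlgSp.RepWith @QuasiCompact) inferInstance).2.trans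
      (Groth.Agent.AlgSpDec.UnitSection.qc_section_iff hst hU G.stabilizerToU eG
        (Groth.Agent.AlgSpDec.UnitSection.unit_section eG heG))
  · exact ⟨(h (AlgSp.RepWith @IsImmersion) inferInstance).2.1,
      fun hs => Groth.Agent.AlgSpDec.UnitSection.of_section (AlgSp.RepWith @IsImmersion) G.stabilizerToU eG
        (Groth.Agent.AlgSpDec.UnitSection.unit_section eG heG) hs⟩

end Groth.Agent.S10122
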