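import Groth.Statements.S10124
import Groth.Agent.AlgSpDec.GpdFibres

set_option autoImplicit false
universe u
open CategoryTheory CategoryTheory.Limits AlgebraicGeometry
open AlgSp AlgSp.GroupoidSp

namespace Groth.Agent.S10124

/-- Let `(U, R, s, t, c)` be a groupoid in algebraic spaces over `B`, `K` a field and `r, r' : Spec K ⟶
R` with `t ∘ r = t ∘ r'`; put `u = s ∘ r`, `u' = s ∘ r'`. Then the fibres `Spec K ×_{u, U, s} R` and
`Spec K ×_{u', U, s} R` are isomorphic as spaces over `Spec K` (existence of an isomorphism over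
`Spec K`). -/
theorem result (S : Scheme.{u}) (B : AlgSp.Sp S) (hB : AlgSp.IsAlgSpace B)
    (G : AlgSp.GroupoidSp B) (hU : AlgSp.IsAlgSpace G.U) (hR : AlgSp.IsAlgSpace G.R)
    (K : Type u) [Field K] (σ : Spec (CommRingCat.of K) ⟶ S)
    (r r' : (AlgSp.yon S).obj (Over.mk σ) ⟶ G.R) (h : r ≫ G.t = r' ≫ G.t) :
    Nonempty (Over.mk (pullback.fst (r ≫ G.s) G.s) ≅ Over.mk (pullback.fst (r' ≫ G.s) G.s)) := by
  exact ⟨Groth.Agent.AlgSpDec.GpdFibres.fibreIso r r' h⟩

end Groth.Agent.S10124
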