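import Groth.Statements.S10125
import Groth.Agent.AlgSpDec.ToFieldFlat
import Mathlib.CategoryTheory.Monoidal.Cartesian.Grp

set_option autoImplicit false
universe u
open CategoryTheory CategoryTheory.Limits AlgebraicGeometry MonoidalCategory MonObj
open AlgSp

namespace Groth.Agent.S10125

set_option backward.isDefEq.respectTransparency false
set_option backward.isDefEq.respectTransparency.types false

/-- For a group algebraic space `G` over a field `k`, the multiplication `m` of `G`, a morphism `G ×_k G
⟶ G`, is both flat and universally open. (The published situation allows any base scheme `S` with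
`k` a field over `S`; this row takes `S = Spec k`.) -/
theorem result (k : Type u) [Field k]
    (G : Over ((AlgSp.yon (Spec (CommRingCat.of k))).obj (Over.mk (𝟙 _)))) [GrpObj G]
    (hG : AlgSp.IsAlgSpace G.left) :
    AlgSp.LocP @Flat (μ[G]).left ∧ AlgSp.IsUnivOpenMor (μ[G]).left := by
  open CartesianMonoidalCategory in
  have hμ : μ[G] = fst G G * snd G G := by
    rw [Hom.mul_def, lift_fst_snd, Category.id_comp]
  open CartesianMonoidalCategory in
  let e : G ⊗ G ≅ G ⊗ G :=
    { hom := lift (fst G G * snd G G) (snd G G)
      inv := lift (fst G G * (snd G G)⁻¹) (snd G G)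
      hom_inv_id := by
        apply CartesianMonoidalCategory.hom_ext
        · rw [Category.assoc, lift_fst, MonObj.comp_mul, GrpObj.comp_inv, lift_fst, lift_snd,
            mul_inv_cancel_right, Category.id_comp]
        · rw [Category.assoc, lift_snd, lift_snd, Category.id_comp]
      inv_hom_id := by
        apply CartesianMonoidalCategory.hom_ext
        · rw [Category.assoc, lift_fst, MonObj.comp_mul, lift_fst, lift_snd, inv_mul_cancel_right,
            Category.id_comp]
        · rw [Category.assoc, lift_snd, lift_snd, Category.id_comp] }
  have sq0 : IsPullback (CartesianMonoidalCategory.fst G G).left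
      (CartesianMonoidalCategory.snd G G).left G.hom G.hom := IsPullback.of_hasPullback G.hom G.hom
  have e1 : e.hom ≫ CartesianMonoidalCategory.fst G G = μ[G] := by
    rw [hμ]; exact CartesianMonoidalCategory.lift_fst _ _
  have e2 : e.hom ≫ CartesianMonoidalCategory.snd G G = CartesianMonoidalCategory.snd G G :=
    CartesianMonoidalCategory.lift_snd _ _
  refine Groth.Agent.AlgSpDec.ToFieldFlat.flat_univOpen_of_isPullback hG G.hom
    (snd := (CartesianMonoidalCategory.snd G G).left) ?_
  refine sq0.of_iso ((Over.forget _).mapIso e).symm (Iso.refl _) (Iso.refl _) (Iso.refl _) ?_ ?_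
    (by simp) (by simp)
  · simp only [Iso.refl_hom, Category.comp_id, Iso.symm_hom, Functor.mapIso_inv, Over.forget_map]
    rw [← e1, Over.comp_left, ← Category.assoc, ← Over.comp_left, e.inv_hom_id, Over.id_left,
      Category.id_comp]
  · simp only [Iso.refl_hom, Category.comp_id, Iso.symm_hom, Functor.mapIso_inv, Over.forget_map]
    rw [← Over.comp_left]
    conv_rhs => rw [← e2, ← Category.assoc, e.inv_hom_id, Category.id_comp]


end Groth.Agent.S10125
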