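import Groth.Statements.S10142
import Groth.Agent.AlgSpDec.GpdIdent

set_option autoImplicit false
universe u
open CategoryTheory CategoryTheory.Limits AlgebraicGeometry
open AlgSp AlgSp.GroupoidSp
open Groth.Agent.AlgSpDec Groth.Agent.AlgSpDec.GpdIdent

namespace Groth.Agent.S10142

set_option backward.isDefEq.respectTransparency false
set_option backward.isDefEq.respectTransparency.types false

/-- For a groupoid in algebraic spaces `(U, R, s, t, c, e, i)` over `B`: the square with sides `c : R
×_{s,U,t} R ⟶ R`, `pr_1 : R ×_{s,U,t} R ⟶ R`, `s` and `s` is cartesian, and the morphism `R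
×_{t,U,t} R ⟶ R ×_{s,U,t} R`, `(α, β) ↦ (α, i(α) ∘ β)`, is an isomorphism whose composite with `c`
is the second projection `pr_1 : R ×_{t,U,t} R ⟶ R`. (The published statement also lists the square
formed by `pr_0`, `pr_1`, `s`, `t`, which is cartesian by definition of the fibre product.) -/
theorem result (S : Scheme.{u}) (B : AlgSp.Sp S) (hB : AlgSp.IsAlgSpace B)
    (G : AlgSp.GroupoidSp B) (hU : AlgSp.IsAlgSpace G.U) (hR : AlgSp.IsAlgSpace G.R) :
    IsPullback G.c (pullback.snd G.s G.t) G.s G.s ∧
      ∀ φ : pullback G.t G.t ⟶ pullback G.s G.t,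
        φ ≫ pullback.fst G.s G.t = pullback.fst G.t G.t →
        φ ≫ pullback.snd G.s G.t =
          pullback.lift (pullback.fst G.t G.t ≫ G.i) (pullback.snd G.t G.t)
            ((Category.assoc _ _ _).trans ((congrArg (pullback.fst G.t G.t ≫ ·) G.i_s).trans pullback.condition)) ≫ G.c →
        IsIso φ ∧ φ ≫ G.c = pullback.snd G.t G.t := by
  have cw : G.c ≫ G.s = pullback.snd G.s G.t ≫ G.s := by
    have e : pullback.lift (pullback.fst G.s G.t) (pullback.snd G.s G.t) pullback.condition =
        𝟙 (pullback G.s G.t) := by apply pullback.hom_ext <;> simp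
    have := comp_s' G (pullback.fst G.s G.t) (pullback.snd G.s G.t) pullback.condition
    rwa [GpdIdent.comp, e, Category.id_comp] at this
  refine ⟨?_, ?_⟩
  · refine ⟨⟨cw⟩, ⟨PullbackCone.IsLimit.mk _ (fun c => pullback.lift
      (GpdIdent.comp G c.fst (c.snd ≫ G.i) (by rw [Category.assoc, G.i_t]; exact c.condition))
      c.snd (by rw [comp_s', Category.assoc, G.i_s])) ?_ ?_ ?_⟩⟩
    · intro c
      exact comp_inv_comp G c.fst c.snd c.condition _ _
    · intro c
      exact pullback.lift_snd _ _ _
    · intro c m hm₁ hm₂
      apply pullback.hom_ext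
      · rw [pullback.lift_fst]
        have hcond : (m ≫ pullback.fst G.s G.t) ≫ G.s = c.snd ≫ G.t := by
          rw [← hm₂, Category.assoc, Category.assoc, pullback.condition]
        have h4 : GpdIdent.comp G (m ≫ pullback.fst G.s G.t) c.snd hcond = c.fst := by
          rw [← hm₁, comp_eq_lift G m (by rw [Category.assoc, Category.assoc, pullback.condition])]
          exact comp_congr G _ _ rfl hm₂.symm
        rw [← comp_comp_inv G (m ≫ pullback.fst G.s G.t) c.snd hcond
          (by rw [comp_s', Category.assoc, G.i_t])]
        exact comp_congr G _ _ h4 rfl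
      · rw [pullback.lift_snd]; exact hm₂
  · intro φ hφ₁ hφ₂
    have hc' : pullback.lift (pullback.fst G.t G.t ≫ G.i) (pullback.snd G.t G.t)
            ((Category.assoc _ _ _).trans ((congrArg (pullback.fst G.t G.t ≫ ·) G.i_s).trans pullback.condition)) ≫ G.c
        = GpdIdent.comp G (pullback.fst G.t G.t ≫ G.i) (pullback.snd G.t G.t)
          ((Category.assoc _ _ _).trans ((congrArg (pullback.fst G.t G.t ≫ ·) G.i_s).trans pullback.condition)) := rfl
    rw [hc'] at hφ₂
    have hφc : φ ≫ G.c = pullback.snd G.t G.t := by
      rw [comp_eq_lift G φ (by rw [Category.assoc, Category.assoc, pullback.condition])]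
      rw [comp_congr G _ (by rw [comp_t', Category.assoc, G.i_t]) hφ₁ hφ₂]
      exact comp_inv_comp' G _ _ pullback.condition _ _
    refine ⟨⟨pullback.lift (pullback.fst G.s G.t) G.c ?_, ?_, ?_⟩, hφc⟩
    · have e : pullback.lift (pullback.fst G.s G.t) (pullback.snd G.s G.t) pullback.condition =
          𝟙 (pullback G.s G.t) := by apply pullback.hom_ext <;> simp
      have := comp_t' G (pullback.fst G.s G.t) (pullback.snd G.s G.t) pullback.condition
      rw [GpdIdent.comp, e, Category.id_comp] at this
      exact this.symm
    · apply pullback.hom_ext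
      · rw [Category.assoc, pullback.lift_fst, hφ₁, Category.id_comp]
      · rw [Category.assoc, pullback.lift_snd, hφc, Category.id_comp]
    · apply pullback.hom_ext
      · rw [Category.assoc, hφ₁, pullback.lift_fst, Category.id_comp]
      · rw [Category.assoc, hφ₂, pre_comp]
        have hc0 : GpdIdent.comp G (pullback.fst G.s G.t) (pullback.snd G.s G.t) pullback.condition = G.c := by
          have e : pullback.lift (pullback.fst G.s G.t) (pullback.snd G.s G.t) pullback.condition =
            𝟙 (pullback G.s G.t) := by apply pullback.hom_ext <;> simp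
          rw [GpdIdent.comp, e, Category.id_comp]
        have h5 := inv_comp_comp G (pullback.fst G.s G.t) (pullback.snd G.s G.t) pullback.condition
          (by rw [comp_t', Category.assoc, G.i_s])
        refine Eq.trans ?_ (h5.trans (Category.id_comp _).symm)
        refine comp_congr G _ _ ?_ ?_
        · rw [← Category.assoc, pullback.lift_fst]
        · rw [pullback.lift_snd, hc0]

end Groth.Agent.S10142
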