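import Groth.Statements.S10129
import Groth.Agent.AlgSpDec.SchDenseSp
import Groth.Agent.AlgSpDec.RelNorm.Dominant
import Groth.Agent.AlgSpLib.LocP
import Groth.Agent.AlgSpLib.EtLocalInst
import Groth.Agent.AlgSpLib.Points
import Groth.Agent.AlgSpLib.Sheaf
import Groth.Agent.AlgSpDec.LqfSplitZ
-- import your own Groth.Agent.* helpers here

set_option autoImplicit false
universe u
open CategoryTheory CategoryTheory.Limits AlgebraicGeometry
open AlgSp

namespace Groth.Agent.S10129

set_option backward.isDefEq.respectTransparency false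
set_option backward.isDefEq.respectTransparency.types false

open Groth.Agent.AlgSpLib Groth.Agent.AlgSpPts Groth.Agent.AlgSpDec

/-- A morphism of schemes which is fppf gives an epimorphism of sheaves. -/
theorem epi_yon_map {S : Scheme.{u}} {T T' : Over S} (φ : T' ⟶ T) (hφ : fppf φ.left) :
    Epi ((AlgSp.yon S).map φ) :=
  ⟨fun a b h => hom_ext_of_fppf φ hφ a b h⟩

/-- A surjective, flat, finitely presented morphism of algebraic spaces is an epimorphism. -/
theorem epi_of_flat_lfp {S : Scheme.{u}} {X Z : Sp S} (hX : IsAlgSpace X) (hZ : IsAlgSpace Z) (g : X ⟶ Z)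
    (hs : IsSurjectiveMor g) (hf : LocP @Flat g) (hp : LocP @LocallyOfFinitePresentation g) : Epi g := by
  obtain ⟨U, ψ, hψ, hψ'⟩ := hZ.atlas
  obtain ⟨U₀, a₀, h, ha, ha', hh⟩ := exists_chart_over hX hZ g ψ
  have hch : RepWith @Etale (a₀ ≫ pullback.fst g ψ) := repWith_comp ha (repWith_fst g hψ)
  have w : (a₀ ≫ pullback.fst g ψ) ≫ g = (yon S).map h ≫ ψ := by
    rw [Category.assoc, pullback.condition, ← Category.assoc, hh]
  have : Flat h.left := hf _ _ _ hch hψ w
  have : LocallyOfFinitePresentation h.left := hp _ _ _ hch hψ w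
  have hsurj : Function.Surjective (Points.map ((yon S).map h)) := by
    rw [← hh, show Points.map (a₀ ≫ pullback.snd g ψ) = Points.map (pullback.snd g ψ) ∘ Points.map a₀ from
      funext fun x => Points.map_comp _ _ x]
    exact (surjective_map_of_isPullback (IsPullback.of_hasPullback g ψ) hs).comp (surjective_map_of_repWith ha')
  have : Surjective h.left := (repWith_yon_map_iff _ _).1
    (repWith_surjective_of_surjective (Functor.relativelyRepresentable.map (yon S) h) hsurj)
  have := epi_yon_map h (fppf_of h.left)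
  have := epi_of_etale_surjective hψ hψ'
  have : Epi ((a₀ ≫ pullback.fst g ψ) ≫ g) := by rw [w]; infer_instance
  exact epi_of_epi (a₀ ≫ pullback.fst g ψ) g


/-- Consider morphisms `g : X ⟶ Z` and `f : X ⟶ Y` of algebraic spaces over `B`, with `Y ⟶ B` separated
and `g` surjective, flat and locally of finite presentation, and let `V ⊂ Z` be a scheme
theoretically dense open subspace with `V ⟶ Z` quasi-compact such that `f` restricted to `g⁻¹(V)`
factors through `g⁻¹(V) ⟶ V`. Then `f` factors through `g`. (The published statement does not ask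
the open immersion `V ⟶ Z` to be quasi-compact; the published proof pulls the scheme theoretic
density of `V` back along a flat morphism by a lemma that requires it, so this row assumes it.) -/
theorem result (S : Scheme.{u}) (B : AlgSp.Sp S) (hB : AlgSp.IsAlgSpace B)
    (X Y Z : AlgSp.Space S) (pX : X.obj ⟶ B) (pY : Y.obj ⟶ B) (pZ : Z.obj ⟶ B)
    (f : X.obj ⟶ Y.obj) (g : X.obj ⟶ Z.obj) (hf : f ≫ pY = pX) (hg : g ≫ pZ = pX)
    (hY : AlgSp.IsSeparatedMor pY)
    (hgs : AlgSp.IsSurjectiveMor g) (hgf : AlgSp.LocP @Flat g) (hgp : AlgSp.LocP @LocallyOfFinitePresentation g)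
    (V : AlgSp.Sp S) (v : V ⟶ Z.obj) (hv : AlgSp.IsSchDense v) (hvq : AlgSp.IsQuasiCompactMor v)
    (hfac : ∃ φ : V ⟶ Y.obj, pullback.fst g v ≫ f = pullback.snd g v ≫ φ) :
    ∃ h : Z.obj ⟶ Y.obj, g ≫ h = f := by
  obtain ⟨φY, hφY⟩ := hfac
  have : Epi g := epi_of_flat_lfp X.property Z.property g hgs hgf hgp
  have hR : IsAlgSpace (pullback g g) := isAlgSpace_pullback X.property X.property Z.property g g
  have : EffectiveEpi g := by
    have := IsRegularEpiCategory.regularEpiOfEpi g
    infer_instance
  suffices hab : pullback.fst g g ≫ f = pullback.snd g g ≫ f by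
    exact ⟨EffectiveEpi.desc g f (fun g₁ g₂ e => by
      have e₁ := congrArg (pullback.lift g₁ g₂ e ≫ ·) hab
      simpa using e₁), EffectiveEpi.fac g f _⟩
  obtain ⟨T, c, hc, hc'⟩ := hR.atlas
  have := epi_of_etale_surjective hc hc'
  refine (cancel_epi c).1 ?_
  let ab := c ≫ pullback.fst g g ≫ g
  have hrg : LocP @Flat (pullback.fst g g ≫ g) := locP_comp hR X.property Z.property
    (locP_of_isPullback (IsPullback.of_hasPullback g g).flip X.property Z.property X.property hgf) hgf
  have hrp : LocP @LocallyOfFinitePresentation (pullback.fst g g ≫ g) := locP_comp hR X.property Z.property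
    (locP_of_isPullback (IsPullback.of_hasPullback g g).flip X.property Z.property X.property hgp) hgp
  obtain ⟨U, ψ, hψ, hψ'⟩ := Z.property.atlas
  let R₀ := hψ.rep.pullback ab
  let p : R₀ ⟶ U := hψ.rep.fst' ab
  let q : R₀ ⟶ T := hψ.rep.snd ab
  have hqe : Etale q.left := hψ.property_snd ab
  have hqs : Surjective q.left := hψ'.property _ _ _ (hψ.rep.isPullback ab)
  have w : ((yon S).map q ≫ c) ≫ pullback.fst g g ≫ g = (yon S).map p ≫ ψ := by
    rw [Category.assoc]
    exact (hψ.rep.isPullback' ab).w.symm
  have hqc : RepWith @Etale ((yon S).map q ≫ c) := repWith_comp ((repWith_yon_map_iff _ _).2 hqe) hc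
  have : Flat p.left := hrg _ _ _ hqc hψ w
  have : LocallyOfFinitePresentation p.left := hrp _ _ _ hqc hψ w
  let W := SchDenseSp.pre Z.property hv.1 ab
  have hd : CInt.IsSchematicallyDense W := by
    refine SchDenseFacts.of_preimage q.left _ ?_
    rw [SchDenseSp.preimage_pre, ← (hψ.rep.isPullback' ab).w, ← SchDenseSp.preimage_pre]
    exact SchDenseLib.preimage_of_flat_lfp p.left _ (SchDenseSp.dense_pre Z.property hv hψ)
  have : QuasiCompact W.ι := SchDenseSp.quasiCompact_pre_ι Z.property hv.1 hvq ab
  have hker : W.ι.ker = ⊥ := (SchDenseFacts.iff_ker_eq_bot W).1 hd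
  obtain ⟨m, sqm⟩ := SchDenseSp.exists_isPullback Z.property hv.1 ab
  let i : Over.mk (W.ι ≫ T.hom) ⟶ T := Over.homMk W.ι rfl
  have wa : ((yon S).map i ≫ c ≫ pullback.fst g g) ≫ g = m ≫ v := by
    simpa only [ab, Category.assoc] using sqm.w.symm
  have wb : ((yon S).map i ≫ c ≫ pullback.snd g g) ≫ g = m ≫ v := by
    rw [← wa]; simp only [Category.assoc, pullback.condition]
  have hW : (yon S).map i ≫ (c ≫ pullback.fst g g ≫ f) = (yon S).map i ≫ (c ≫ pullback.snd g g ≫ f) := by
    have ea := congrArg (pullback.lift _ _ wa ≫ ·) hφY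
    have eb := congrArg (pullback.lift _ _ wb ≫ ·) hφY
    simp only [← Category.assoc, pullback.lift_fst, pullback.lift_snd] at ea eb
    simp only [← Category.assoc]
    exact ea.trans eb.symm
  let ha := c ≫ pullback.fst g g ≫ f
  let hb := c ≫ pullback.snd g g ≫ f
  have hp : ha ≫ pY = hb ≫ pY := by
    simp only [ha, hb, Category.assoc, hf, ← hg]
    rw [pullback.condition_assoc]
  let L : (yon S).obj T ⟶ pullback pY pY := pullback.lift ha hb hp
  have hcl : RepWith @IsClosedImmersion (pullback.diagonal pY) := hY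
  let r := hcl.rep.snd L
  have : IsClosedImmersion r.left := hcl.property_snd L
  obtain ⟨l, hl⟩ := (yon S).map_surjective ((hcl.rep.isPullback L).lift ((yon S).map i ≫ ha) ((yon S).map i) (by
    apply pullback.hom_ext
    · simp [L]
    · simpa [L, ha, hb] using hW))
  have hl2 : l ≫ r = i := (yon S).map_injective (by rw [Functor.map_comp, hl, IsPullback.lift_snd])
  have hle : r.left.ker ≤ ⊥ := hker ▸ (by
    have : l.left ≫ r.left = W.ι := congrArg CommaMorphism.left hl2
    rw [← this]
    exact Scheme.Hom.le_ker_comp _ _)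
  have : IsIso r.left := IsClosedImmersion.isIso_iff_ker_eq_bot.2 (le_bot_iff.1 hle)
  have : IsIso r := by
    have : IsIso ((Over.forget S).map r) := this
    exact isIso_of_reflects_iso r (Over.forget S)
  let s := (yon S).map (inv r) ≫ hcl.rep.fst L
  have es : s ≫ pullback.diagonal pY = L := by
    rw [Category.assoc, hcl.rep.w, ← Functor.map_comp_assoc, IsIso.inv_hom_id, CategoryTheory.Functor.map_id,
      Category.id_comp]
  have e₁ := es =≫ pullback.fst _ _
  have e₂ := es =≫ pullback.snd _ _
  simp only [L, Category.assoc, pullback.diagonal_fst, pullback.diagonal_snd, pullback.lift_fst,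
    pullback.lift_snd, Category.comp_id] at e₁ e₂
  exact e₁.symm.trans e₂

end Groth.Agent.S10129
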