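import Groth.Statements.S10132
import Groth.Agent.AlgSpDec.GpdFieldExt

set_option autoImplicit false
universe u
open CategoryTheory CategoryTheory.Limits AlgebraicGeometry
open AlgSp AlgSp.GroupoidSp

namespace Groth.Agent.S10132

/-- Let `(U, R, s, t, c)` be a groupoid in algebraic spaces over `B` whose object space is `U = Spec k`,
let `k ⊂ k'` be a field extension and `(U', R', s', t', c')` the restriction along `Spec k' ⟶ Spec
k`. Then `s, t, s', t'`, `Spec k' ⟶ Spec k` and `R' ⟶ R` are surjective, flat and universally open,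
and `R' ⟶ R` is moreover affine. (The published statement lists every arrow of the restriction
diagram; this row omits the six arrows through `R ×_{s,U} U'` and `U' ×_{U,t} R`, each a base change
of `s`, `t` or `Spec k' ⟶ Spec k`.) -/
theorem result (S : Scheme.{u}) (B : AlgSp.Sp S) (hB : AlgSp.IsAlgSpace B)
    (G G' : AlgSp.GroupoidSp B) (hR : AlgSp.IsAlgSpace G.R) (hR' : AlgSp.IsAlgSpace G'.R)
    (k k' : Type u) [Field k] [Field k'] [Algebra k k'] (σ : Spec (CommRingCat.of k) ⟶ S)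
    (eU : G.U ≅ ((AlgSp.yon S).obj (Over.mk σ)))
    (eU' : G'.U ≅ ((AlgSp.yon S).obj (Over.mk (Spec.map (CommRingCat.ofHom (algebraMap k k')) ≫ σ))))
    (φ : AlgSp.GroupoidSp.Hom G' G) (hφ : φ.IsRestriction)
    (hfU : φ.fU = eU'.hom ≫ (AlgSp.yon S).map (Over.homMk (Spec.map (CommRingCat.ofHom (algebraMap k k'))) rfl :
      Over.mk (Spec.map (CommRingCat.ofHom (algebraMap k k')) ≫ σ) ⟶ Over.mk σ) ≫ eU.inv) :
    (∀ f ∈ [G.s, G.t], AlgSp.IsSurjectiveMor f ∧ AlgSp.LocP @Flat f ∧ AlgSp.IsUnivOpenMor f) ∧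
      (∀ f ∈ [G'.s, G'.t], AlgSp.IsSurjectiveMor f ∧ AlgSp.LocP @Flat f ∧ AlgSp.IsUnivOpenMor f) ∧
      (AlgSp.IsSurjectiveMor φ.fU ∧ AlgSp.LocP @Flat φ.fU ∧ AlgSp.IsUnivOpenMor φ.fU) ∧
      (AlgSp.IsSurjectiveMor φ.fR ∧ AlgSp.LocP @Flat φ.fR ∧ AlgSp.IsUnivOpenMor φ.fR ∧ AlgSp.IsAffineMor φ.fR) := by
  let m : Over.mk (Spec.map (CommRingCat.ofHom (algebraMap k k')) ≫ σ) ⟶ Over.mk σ :=
    Over.homMk (Spec.map (CommRingCat.ofHom (algebraMap k k'))) rfl
  have hU : AlgSp.IsAlgSpace G.U := (AlgSp.IsAlgSpace.yon_obj _).of_iso eU.symm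
  have hU' : AlgSp.IsAlgSpace G'.U := (AlgSp.IsAlgSpace.yon_obj _).of_iso eU'.symm
  have hgood : Groth.Agent.AlgSpDec.GpdFieldExt.Good φ.fU := by
    have h := Groth.Agent.AlgSpDec.GpdFieldExt.flat_univOpen_to hU' eU φ.fU
    haveI : IsAffineHom m.left := isAffineHom_of_isAffine (X := Spec (CommRingCat.of k')) (Y := Spec (CommRingCat.of k)) _
    haveI : Surjective m.left := ⟨fun x => ⟨IsLocalRing.closedPoint k', Subsingleton.elim (α := PrimeSpectrum k) _ _⟩⟩
    refine ⟨?_, h.1, h.2, Groth.Agent.AlgSpDec.isAffineMor_of_repWith le_rfl ?_⟩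
    · rw [hfU]
      exact Groth.Agent.AlgSpLib.surjective_map_of_repWith (Groth.Agent.AlgSpLib.repWith_comp
        (Groth.Agent.AlgSpLib.repWith_of_isIso @Surjective _) (Groth.Agent.AlgSpLib.repWith_comp
          ((AlgSp.repWith_yon_map_iff @Surjective m).2 ‹Surjective m.left›)
          (Groth.Agent.AlgSpLib.repWith_of_isIso _ _)))
    · rw [hfU]
      exact Groth.Agent.AlgSpLib.repWith_comp
        (Groth.Agent.AlgSpLib.repWith_of_isIso @IsAffineHom _) (Groth.Agent.AlgSpLib.repWith_comp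
          ((AlgSp.repWith_yon_map_iff @IsAffineHom m).2 ‹IsAffineHom m.left›)
          (Groth.Agent.AlgSpLib.repWith_of_isIso _ _))
  have hs := Groth.Agent.AlgSpDec.GpdFieldExt.surjective_st G
  have hs' := Groth.Agent.AlgSpDec.GpdFieldExt.surjective_st G'
  refine ⟨?_, ?_, ⟨hgood.1, hgood.2.1, hgood.2.2.1⟩,
    Groth.Agent.AlgSpDec.GpdFieldExt.good_fR φ hU hR hU' hR' hφ hgood⟩
  · intro f hf
    simp only [List.mem_cons, List.not_mem_nil, or_false] at hf
    rcases hf with rfl | rfl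
    · exact ⟨hs.1, Groth.Agent.AlgSpDec.GpdFieldExt.flat_univOpen_to hR eU _⟩
    · exact ⟨hs.2, Groth.Agent.AlgSpDec.GpdFieldExt.flat_univOpen_to hR eU _⟩
  · intro f hf
    simp only [List.mem_cons, List.not_mem_nil, or_false] at hf
    rcases hf with rfl | rfl
    · exact ⟨hs'.1, Groth.Agent.AlgSpDec.GpdFieldExt.flat_univOpen_to hR' eU' _⟩
    · exact ⟨hs'.2, Groth.Agent.AlgSpDec.GpdFieldExt.flat_univOpen_to hR' eU' _⟩

end Groth.Agent.S10132
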