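import Groth.Statements.S10139
import Groth.Agent.AlgSpDec.SliceQuot
import Groth.Agent.AlgSpPts.Quot
-- import your own Groth.Agent.* helpers here

set_option autoImplicit false
universe u
open CategoryTheory CategoryTheory.Limits AlgebraicGeometry
open AlgSp Groth.Agent.AlgSpLib Groth.Agent.AlgSpPts Groth.Agent.AlgSpDec Groth.Agent.AlgSpDec.Slice

namespace Groth.Agent.S10139

set_option backward.isDefEq.respectTransparency false
set_option backward.isDefEq.respectTransparency.types false

/-- Take an equivalence relation `j : R ⟶ U ×_S U` of schemes over `S`, with `s, t` flat and locally of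
finite presentation. Then there exist an equivalence relation `j' : R' ⟶ U' ×_S U'` on schemes over
`S` with `s', t'` flat, locally of finite presentation and locally quasi-finite, and a morphism `U'
⟶ U` mapping `R'` into `R` which induces an isomorphism of fppf quotient sheaves `U'/R' ⟶ U/R`. -/
theorem result (S : Scheme.{u}) {R U : Over S} (s t : R ⟶ U)
    (h : AlgSp.IsEqvRel s t) [Flat s.left] [LocallyOfFinitePresentation s.left]
    [Flat t.left] [LocallyOfFinitePresentation t.left] :
    ∃ (R' U' : Over S) (s' t' : R' ⟶ U') (g : U' ⟶ U) (r : R' ⟶ R)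
      (ψ : QuotSh.quot Scheme.fppfPrecoverage s' t' ⟶ QuotSh.quot Scheme.fppfPrecoverage s t),
      AlgSp.IsEqvRel s' t' ∧ r ≫ s = s' ≫ g ∧ r ≫ t = t' ≫ g ∧
      Flat s'.left ∧ LocallyOfFinitePresentation s'.left ∧ LocallyQuasiFinite s'.left ∧
      Flat t'.left ∧ LocallyOfFinitePresentation t'.left ∧ LocallyQuasiFinite t'.left ∧
      QuotSh.quotπ Scheme.fppfPrecoverage s' t' ≫ ψ = QuotSh.repMap Scheme.fppfPrecoverage g ≫ QuotSh.quotπ Scheme.fppfPrecoverage s t ∧ IsIso ψ := by
  let q := quotMap s t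
  have sq := isPullback_quotMap h
  have : Epi q := by
    have : Epi (QuotSh.quotπ Scheme.fppfPrecoverage s t) := by
      unfold QuotSh.quotπ
      infer_instance
    exact epi_comp _ _
  have : Sheaf.IsLocallySurjective q := (CategoryTheory.Sheaf.isLocallySurjective_iff_epi q).2 inferInstance
  obtain ⟨U', R', g, t', s', r, hrt, hrs, sqR, hls, h1, h2, h3, h4, h5, h6⟩ := exists_lqf_slice sq
  have he : IsEqvRel s' t' := isEqvRel_of_kernelPair sqR
  have nat : ∀ {V W : Over S} (k : V ⟶ W), (yon S).map k ≫ (QuotSh.repIsoUliftYoneda Scheme.fppfPrecoverage W).inv =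
      (QuotSh.repIsoUliftYoneda Scheme.fppfPrecoverage V).inv ≫ QuotSh.repMap Scheme.fppfPrecoverage k :=
    fun {V W} k => ObjectProperty.hom_ext _ (toSheafify_naturality (QuotSh.J Scheme.fppfPrecoverage S) _)
  have hw : QuotSh.repMap Scheme.fppfPrecoverage s' ≫ QuotSh.repMap Scheme.fppfPrecoverage g ≫ QuotSh.quotπ Scheme.fppfPrecoverage s t =
      QuotSh.repMap Scheme.fppfPrecoverage t' ≫ QuotSh.repMap Scheme.fppfPrecoverage g ≫ QuotSh.quotπ Scheme.fppfPrecoverage s t := by
    rw [← cancel_epi (QuotSh.repIsoUliftYoneda Scheme.fppfPrecoverage R').inv]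
    simp only [← Category.assoc, ← nat]
    simp only [Category.assoc]
    have hw' := sqR.w.symm
    simp only [q, quotMap, Category.assoc] at hw'
    rw [reassoc_of% (nat g)] at hw'
    exact hw'
  let ψ : QuotSh.quot Scheme.fppfPrecoverage s' t' ⟶ QuotSh.quot Scheme.fppfPrecoverage s t := coequalizer.desc _ hw
  have hψ : QuotSh.quotπ Scheme.fppfPrecoverage s' t' ≫ ψ =
      QuotSh.repMap Scheme.fppfPrecoverage g ≫ QuotSh.quotπ Scheme.fppfPrecoverage s t := coequalizer.π_desc _ _
  refine ⟨R', U', s', t', g, r, ψ, he, hrs, hrt, h1, h2, h3, h4, h5, h6, hψ, ?_⟩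
  have : Epi ((yon S).map g ≫ q) := (CategoryTheory.Sheaf.isLocallySurjective_iff_epi _).1 hls
  have : Epi (quotMap s' t') := by
    have : Epi (QuotSh.quotπ Scheme.fppfPrecoverage s' t') := by
      unfold QuotSh.quotπ
      infer_instance
    exact epi_comp _ _
  refine isIso_of_kernelPair_epi (isPullback_quotMap he) sqR ψ ?_
  show ((QuotSh.repIsoUliftYoneda Scheme.fppfPrecoverage U').inv ≫ QuotSh.quotπ Scheme.fppfPrecoverage s' t') ≫ ψ = _
  rw [Category.assoc, hψ]
  show _ = (yon S).map g ≫ (QuotSh.repIsoUliftYoneda Scheme.fppfPrecoverage U).inv ≫ QuotSh.quotπ Scheme.fppfPrecoverage s t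
  rw [reassoc_of% (nat g)]

end Groth.Agent.S10139
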