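import Groth.Statements.S10140
import Groth.Agent.AlgStLib.GrpdQuotRestrict3
import Groth.Agent.GrpdLib.EquivRel
import Groth.Agent.GrpdLib.QuotSheaf

set_option backward.isDefEq.respectTransparency false
set_option backward.isDefEq.respectTransparency.types false
-- import your own Groth.Agent.* helpers here

set_option autoImplicit false
universe u
open CategoryTheory CategoryTheory.Limits AlgebraicGeometry
open Grpd

namespace Groth.Agent.S10140

/-- Let `(U, R, s, t, c)` be a groupoid scheme over `S` with `U` affine and `j : R ⟶ U ×_S U` separated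
and locally quasi-finite, and let `P ⟶ R` be a monomorphism such that `(U, P, s|_P, t|_P, c|_P)` is
a groupoid scheme, `s|_P, t|_P` are finite locally free and `j|_P` is a monomorphism. Then `U/P` is
represented by an affine scheme `Ū`, the quotient map `U ⟶ Ū` is finite locally free with `P = U ×_Ū
U`, and `R` is the restriction along `U ⟶ Ū` of a groupoid scheme `(Ū, R̄, s̄, t̄, c̄)`. -/
theorem result (S : Scheme.{u}) (G : Grpd.GroupoidScheme S) [IsAffine G.U]
    [IsSeparated G.j] [LocallyQuasiFinite G.j] [LocallyOfFiniteType G.j]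
    (P : Scheme.{u}) (ιP : P ⟶ G.R) [Mono ιP]
    (he : ∃ eP : G.U ⟶ P, eP ≫ ιP = G.e) (hi : ∃ iP : P ⟶ P, iP ≫ ιP = ιP ≫ G.i)
    (hc : ∃ cP : pullback (ιP ≫ G.s) (ιP ≫ G.t) ⟶ P,
      cP ≫ ιP = pullback.map (ιP ≫ G.s) (ιP ≫ G.t) G.s G.t ιP ιP (𝟙 G.U) (Category.comp_id _) (Category.comp_id _) ≫ G.c)
    [IsFinite (ιP ≫ G.s)] [Flat (ιP ≫ G.s)] [LocallyOfFinitePresentation (ιP ≫ G.s)]
    [IsFinite (ιP ≫ G.t)] [Flat (ιP ≫ G.t)] [LocallyOfFinitePresentation (ιP ≫ G.t)] [Mono (ιP ≫ G.j)] :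
    ∃ (H : Grpd.GroupoidScheme S) (φ : Grpd.GroupoidScheme.Hom G H),
      IsAffine H.U ∧
      QuotSh.IsQuotient Scheme.fppfPrecoverage
        (Over.homMk (ιP ≫ G.s) ((Category.assoc _ _ _).trans (congrArg (ιP ≫ ·) G.s_over)) :
          (Over.mk (ιP ≫ G.pR) : Over S) ⟶ Over.mk G.pU)
        (Over.homMk (ιP ≫ G.t) ((Category.assoc _ _ _).trans (congrArg (ιP ≫ ·) G.t_over)) :
          (Over.mk (ιP ≫ G.pR) : Over S) ⟶ Over.mk G.pU)
        (Over.homMk φ.fU φ.fU_over : Over.mk G.pU ⟶ Over.mk H.pU) ∧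
      IsFinite φ.fU ∧ Flat φ.fU ∧ LocallyOfFinitePresentation φ.fU ∧
      IsPullback (ιP ≫ G.t) (ιP ≫ G.s) φ.fU φ.fU ∧
      IsPullback φ.fR G.j H.j
        (pullback.map G.pU G.pU H.pU H.pU φ.fU φ.fU (𝟙 S)
          ((Category.comp_id _).trans φ.fU_over.symm) ((Category.comp_id _).trans φ.fU_over.symm)) :=  by
  obtain ⟨eP, heP⟩ := he
  obtain ⟨iP, hiP⟩ := hi
  obtain ⟨cP, hcP⟩ := hc
  have hl : ∀ {T : Scheme.{u}} (α β : T ⟶ P) (h : α ≫ ιP ≫ G.s = β ≫ ιP ≫ G.t),
      (pullback.lift α β h ≫ cP) ≫ ιP = pullback.lift (α ≫ ιP) (β ≫ ιP) (by simpa using h) ≫ G.c := by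
    intro T α β h
    rw [Category.assoc, hcP, ← Category.assoc]
    congr 1
    apply pullback.hom_ext <;> simp
  have lc : ∀ {T : Scheme.{u}} {x x' y y' : T ⟶ G.R}, x = x' → y = y' → ∀ (h : x ≫ G.s = y ≫ G.t)
      (h' : x' ≫ G.s = y' ≫ G.t), pullback.lift x y h ≫ G.c = pullback.lift x' y' h' ≫ G.c := by
    intro T x x' y y' hx hy h h'
    subst hx hy
    rfl
  let GP : Grpd.GroupoidScheme S :=
    { U := G.U
      R := P
      pU := G.pU
      pR := ιP ≫ G.pR
      s := ιP ≫ G.s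
      t := ιP ≫ G.t
      e := eP
      i := iP
      c := cP
      s_over := by rw [Category.assoc, G.s_over]
      t_over := by rw [Category.assoc, G.t_over]
      comp_s := fun α β h => by rw [← Category.assoc, hl α β h, G.comp_s, Category.assoc]
      comp_t := fun α β h => by rw [← Category.assoc, hl α β h, G.comp_t, Category.assoc]
      assoc := fun α β γ h₁ h₂ => by
        rw [← cancel_mono ιP]
        refine (hl _ _ _).trans (Eq.trans ?_ (hl _ _ _).symm)
        have k₁ : (α ≫ ιP) ≫ G.s = (β ≫ ιP) ≫ G.t := by simpa using h₁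
        have k₂ : (β ≫ ιP) ≫ G.s = (γ ≫ ιP) ≫ G.t := by simpa using h₂
        exact (lc (hl α β h₁) rfl _ ((G.comp_s _ _ k₁).trans k₂)).trans
          ((G.assoc _ _ _ k₁ k₂).trans (lc rfl (hl β γ h₂).symm _ _))
      e_s := by rw [← Category.assoc, heP, G.e_s]
      e_t := by rw [← Category.assoc, heP, G.e_t]
      comp_e := fun α => by
        rw [← cancel_mono ιP, hl]
        simp only [Category.assoc, heP]
        have := G.comp_e (α ≫ ιP)
        simp only [Category.assoc] at this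
        exact this
      e_comp := fun α => by
        rw [← cancel_mono ιP, hl]
        simp only [Category.assoc, heP]
        have := G.e_comp (α ≫ ιP)
        simp only [Category.assoc] at this
        exact this
      i_s := by rw [reassoc_of% hiP, G.i_s]
      i_t := by rw [reassoc_of% hiP, G.i_t]
      comp_i := fun α => by
        rw [← cancel_mono ιP, hl]
        simp only [Category.assoc, heP, hiP]
        have := G.comp_i (α ≫ ιP)
        simp only [Category.assoc] at this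
        exact this
      i_comp := fun α => by
        rw [← cancel_mono ιP, hl]
        simp only [Category.assoc, heP, hiP]
        have := G.i_comp (α ≫ ιP)
        simp only [Category.assoc] at this
        exact this }
  have : IsAffine GP.U := ‹IsAffine G.U›
  have : IsFinite GP.s := ‹IsFinite (ιP ≫ G.s)›
  have : Flat GP.s := ‹Flat (ιP ≫ G.s)›
  have : LocallyOfFinitePresentation GP.s := ‹LocallyOfFinitePresentation (ιP ≫ G.s)›
  have : IsAffine GP.R := isAffine_of_isAffineHom GP.s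
  have : Mono GP.j := by
    have e : GP.j = ιP ≫ G.j := by
      apply pullback.hom_ext <;> simp [Grpd.GroupoidScheme.j, GP]
    rw [e]; infer_instance
  have hfl := Groth.Agent.GrpdLib.toQuot_finLocFree GP
  have : Surjective GP.toQuot := ⟨Groth.Agent.GrpdLib.surjective_toQuot GP⟩
  have := hfl.1
  have := hfl.2.1
  have := hfl.2.2
  have hP : IsPullback (ιP ≫ G.t) (ιP ≫ G.s) GP.toQuot GP.toQuot := Groth.Agent.GrpdLib.isPullback_toQuot GP
  let σ : Spec (CommRingCat.of GP.invariants) ⟶ S := EffectiveEpi.desc GP.toQuot G.pU (fun g₁ g₂ h => by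
    obtain ⟨z, rfl, rfl⟩ := hP.exists_lift g₁ g₂ h
    simp only [Category.assoc, G.t_over, G.s_over])
  have hσ : GP.toQuot ≫ σ = G.pU := EffectiveEpi.fac _ _ _
  let D : Groth.Agent.AlgStLib.QuotRestrict.Data G :=
    ⟨P, ιP, Spec (CommRingCat.of GP.invariants), GP.toQuot, σ, hσ, hP, ⟨eP, heP⟩, ⟨cP, hcP⟩⟩
  have : IsFinite D.π := hfl.1
  have : Flat D.π := hfl.2.1
  have : LocallyOfFinitePresentation D.π := hfl.2.2
  have : Surjective D.π := ‹Surjective GP.toQuot›
  obtain ⟨Rb, jb, fR, sq, htr⟩ := D.exists_arrows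
  obtain ⟨H, φ, hP', hsq⟩ :=
    (⟨Rb, jb, fR, sq, htr⟩ : Groth.Agent.AlgStLib.QuotRestrict.Arrows D).exists_groupoid
  have key := hP' (fun V f p => IsAffine V ∧ (∀ h : f ≫ p = G.pU,
      QuotSh.IsQuotient Scheme.fppfPrecoverage
        (Over.homMk (ιP ≫ G.s) ((Category.assoc _ _ _).trans (congrArg (ιP ≫ ·) G.s_over)) :
          (Over.mk (ιP ≫ G.pR) : Over S) ⟶ Over.mk G.pU)
        (Over.homMk (ιP ≫ G.t) ((Category.assoc _ _ _).trans (congrArg (ιP ≫ ·) G.t_over)) :
          (Over.mk (ιP ≫ G.pR) : Over S) ⟶ Over.mk G.pU)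
        (Over.homMk f h : Over.mk G.pU ⟶ Over.mk p)) ∧
      IsFinite f ∧ Flat f ∧ LocallyOfFinitePresentation f ∧ IsPullback (ιP ≫ G.t) (ιP ≫ G.s) f f)
    ⟨inferInstanceAs (IsAffine (Spec _)), fun _ => Groth.Agent.GrpdLib.isQuotient_of_isKernelPair _ _ _ _
      (IsPullback.of_map (Over.forget S) (Over.OverMorphism.ext hP.flip.w) hP.flip)
      (Precoverage.generate_mem_toGrothendieck GP.toQuot.singleton_mem_fppfPrecoverage),
      hfl.1, hfl.2.1, hfl.2.2, hP⟩
  obtain ⟨k₁, k₂, k₃, k₄, k₅, k₆⟩ := key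
  exact ⟨H, φ, k₁, k₂ φ.fU_over, k₃, k₄, k₅, k₆, hsq⟩
end Groth.Agent.S10140
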