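import Groth.Statements.S10141
import Groth.Agent.AlgSpDec.QuotOpenMap

set_option autoImplicit false
universe u
open CategoryTheory CategoryTheory.Limits AlgebraicGeometry
open AlgSp

namespace Groth.Agent.S10141

set_option backward.isDefEq.respectTransparency false
set_option backward.isDefEq.respectTransparency.types false

/-- Let `(U, R, s, t, c)` be a groupoid scheme over `S` and `g : U' ⟶ U` a morphism such that the
composite `h : U' ×_{g, U, t} R ⟶ R ⟶ U` of the projection with `s` has open image `W ⊂ U` and `h :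
U' ×_{g, U, t} R ⟶ W` is a surjection of fppf sheaves. Then for the restriction `R' = R|_{U'}` the
map of fppf quotient sheaves `U'/R' ⟶ U/R` is representable and an open immersion. -/
theorem result (S : Scheme.{u}) (G : Grpd.GroupoidScheme S)
    (U' : Scheme.{u}) (g : U' ⟶ G.U) (W : G.U.Opens)
    (hW : (W : Set ↥G.U) = Set.range ⇑(pullback.snd g G.t ≫ G.s))
    (hlift : pullback g G.t ⟶ ↑W) (hh : hlift ≫ W.ι = pullback.snd g G.t ≫ G.s)
    (hsurj : Sheaf.IsLocallySurjective ((AlgSp.yon S).map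
      (Over.homMk hlift ((Category.assoc _ _ _).symm.trans (congrArg (· ≫ G.pU) hh)) :
        Over.mk ((pullback.snd g G.t ≫ G.s) ≫ G.pU) ⟶ Over.mk (W.ι ≫ G.pU))))
    (R' : Over S) (s' t' : R' ⟶ Over.mk (g ≫ G.pU)) (r : R' ⟶ Over.mk G.pR)
    (hsq : IsPullback (prod.lift t' s') r
      (prod.map (Over.homMk g rfl : Over.mk (g ≫ G.pU) ⟶ Over.mk G.pU) (Over.homMk g rfl : Over.mk (g ≫ G.pU) ⟶ Over.mk G.pU))
      (prod.lift (Over.homMk G.t G.t_over : Over.mk G.pR ⟶ Over.mk G.pU) (Over.homMk G.s G.s_over : Over.mk G.pR ⟶ Over.mk G.pU)))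
    (ψ : QuotSh.quot Scheme.fppfPrecoverage s' t' ⟶
      QuotSh.quot Scheme.fppfPrecoverage (Over.homMk G.s G.s_over : Over.mk G.pR ⟶ Over.mk G.pU) (Over.homMk G.t G.t_over : Over.mk G.pR ⟶ Over.mk G.pU))
    (hψ : QuotSh.quotπ Scheme.fppfPrecoverage s' t' ≫ ψ =
      QuotSh.repMap Scheme.fppfPrecoverage (Over.homMk g rfl : Over.mk (g ≫ G.pU) ⟶ Over.mk G.pU) ≫ QuotSh.quotπ Scheme.fppfPrecoverage _ _) :
    AlgSp.RepWith @IsOpenImmersion ψ := by
  let U₀ : Over S := Over.mk G.pU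
  let g₀ : Over.mk (g ≫ G.pU) ⟶ U₀ := CategoryTheory.Over.homMk g rfl
  let s₀ : Over.mk G.pR ⟶ U₀ := CategoryTheory.Over.homMk G.s G.s_over
  let t₀ : Over.mk G.pR ⟶ U₀ := CategoryTheory.Over.homMk G.t G.t_over
  have he : G.e ≫ G.pR = G.pU := by rw [← G.s_over, reassoc_of% G.e_s]
  have hi : G.i ≫ G.pR = G.pR := by
    conv_lhs => rw [← G.s_over, ← Category.assoc, G.i_s, G.t_over]
  have hcp : ∀ {T : Scheme.{u}} (α β : T ⟶ G.R) (h : α ≫ G.s = β ≫ G.t),
      (pullback.lift α β h ≫ G.c) ≫ G.pR = β ≫ G.pR := fun α β h => by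
    conv_lhs => rw [← G.s_over, ← Category.assoc, G.comp_s _ _ h, Category.assoc, G.s_over]
  have hE : Groth.Agent.AlgSpDec.IsPreEqv s₀ t₀ := fun T => by
    refine ⟨fun a => ⟨CategoryTheory.Over.homMk (a.left ≫ G.e) ?_, ?_, ?_⟩, ?_, ?_⟩
    · show (a.left ≫ G.e) ≫ G.pR = T.hom
      exact (Category.assoc _ _ _).trans ((congrArg (a.left ≫ ·) he).trans (Over.w a))
    · ext
      show (a.left ≫ G.e) ≫ G.t = a.left
      exact (Category.assoc _ _ _).trans ((congrArg (a.left ≫ ·) G.e_t).trans (Category.comp_id _))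
    · ext
      show (a.left ≫ G.e) ≫ G.s = a.left
      exact (Category.assoc _ _ _).trans ((congrArg (a.left ≫ ·) G.e_s).trans (Category.comp_id _))
    · rintro a b ⟨r, rfl, rfl⟩
      refine ⟨CategoryTheory.Over.homMk (r.left ≫ G.i) ?_, ?_, ?_⟩
      · show (r.left ≫ G.i) ≫ G.pR = T.hom
        exact (Category.assoc _ _ _).trans ((congrArg (r.left ≫ ·) hi).trans (Over.w r))
      · ext
        show (r.left ≫ G.i) ≫ G.t = r.left ≫ G.s
        rw [Category.assoc, G.i_t]
      · ext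
        show (r.left ≫ G.i) ≫ G.s = r.left ≫ G.t
        rw [Category.assoc, G.i_s]
    · rintro a b d ⟨α, rfl, rfl⟩ ⟨β, hβt, rfl⟩
      have h : α.left ≫ G.s = β.left ≫ G.t := (congrArg Over.Hom.left hβt).symm
      refine ⟨CategoryTheory.Over.homMk (pullback.lift α.left β.left h ≫ G.c) ?_, ?_, ?_⟩
      · show (pullback.lift α.left β.left h ≫ G.c) ≫ G.pR = T.hom
        exact (hcp _ _ h).trans (Over.w β)
      · ext
        exact G.comp_t _ _ h
      · ext
        exact G.comp_s _ _ h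
  refine Groth.Agent.AlgSpDec.repWith_openImm_quot_restrict s₀ t₀ g₀ s' t' r hsq hE ψ hψ W
    (fun {T} x hx => ?_) (fun a => ?_)
  · have hsub : Set.range x.left ⊆ Set.range W.ι := by
      rw [Scheme.Opens.range_ι]
      rintro _ ⟨a, rfl⟩
      exact hx a
    let x₀ : T ⟶ Over.mk (W.ι ≫ G.pU) := CategoryTheory.Over.homMk (IsOpenImmersion.lift W.ι x.left hsub) (by
      show _ ≫ W.ι ≫ G.pU = T.hom
      rw [IsOpenImmersion.lift_fac_assoc]
      exact Over.w x)
    obtain ⟨T', k, z, hk, hz⟩ :=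
      @Groth.Agent.AlgSpDec.exists_fppf_lift_of_locallySurjective _ _ _ _ hsurj _ ((AlgSp.yon S).map x₀)
    obtain ⟨z, rfl⟩ := (AlgSp.yon S).map_surjective z
    rw [← Functor.map_comp, ← Functor.map_comp] at hz
    have hz' : z.left ≫ hlift = k.left ≫ x₀.left := congrArg Over.Hom.left ((AlgSp.yon S).map_injective hz)
    have hA : pullback.fst g G.t ≫ g ≫ G.pU = (pullback.snd g G.t ≫ G.s) ≫ G.pU := by
      rw [pullback.condition_assoc, G.t_over, Category.assoc, G.s_over]
    have hB : pullback.snd g G.t ≫ G.pR = (pullback.snd g G.t ≫ G.s) ≫ G.pU := by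
      rw [Category.assoc, G.s_over]
    let a₁ : T' ⟶ Over.mk (g ≫ G.pU) := CategoryTheory.Over.homMk (z.left ≫ pullback.fst g G.t)
      ((Category.assoc _ _ _).trans ((congrArg (z.left ≫ ·) hA).trans (Over.w z)))
    let b₁ : T' ⟶ Over.mk G.pR := CategoryTheory.Over.homMk (z.left ≫ pullback.snd g G.t)
      ((Category.assoc _ _ _).trans ((congrArg (z.left ≫ ·) hB).trans (Over.w z)))
    refine ⟨T', k, pullback.lift a₁ b₁ ?_, hk, ?_⟩
    · ext
      exact (Category.assoc _ _ _).trans ((congrArg (z.left ≫ ·) (pullback.condition (f := g) (g := G.t))).trans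
        (Category.assoc _ _ _).symm)
    · rw [pullback.lift_snd_assoc]
      ext
      show (z.left ≫ pullback.snd g G.t) ≫ G.s = k.left ≫ x.left
      exact (Category.assoc _ _ _).trans ((congrArg (z.left ≫ ·) hh.symm).trans ((Category.assoc _ _ _).symm.trans
        ((congrArg (· ≫ W.ι) hz').trans ((Category.assoc _ _ _).trans
          (congrArg (k.left ≫ ·) (IsOpenImmersion.lift_fac _ _ _))))))
  · show _ ∈ (W : Set G.U)
    rw [hW]
    have hc : (pullback.fst g₀ t₀).left ≫ g = (pullback.snd g₀ t₀).left ≫ G.t :=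
      congrArg Over.Hom.left pullback.condition
    refine ⟨pullback.lift (f := g) (g := G.t) _ _ hc a, ?_⟩
    rw [← Scheme.Hom.comp_apply, pullback.lift_snd_assoc]
    rfl

end Groth.Agent.S10141
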