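import Groth.Statements.S10145
import Groth.Agent.AlgSpDec.GpdIdent

set_option autoImplicit false
universe u
open CategoryTheory CategoryTheory.Limits AlgebraicGeometry
open AlgSp AlgSp.GroupoidSp
open Groth.Agent.AlgSpDec Groth.Agent.AlgSpDec.GpdIdent

namespace Groth.Agent.S10145

set_option backward.isDefEq.respectTransparency false
set_option backward.isDefEq.respectTransparency.types false

/-- Let `(U, R, s, t, c)` be a groupoid in algebraic spaces over `B` whose object space is `U = Spec k`,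
and let `r : Spec k ⟶ R` be such that `s ∘ r` and `t ∘ r` are automorphisms of `Spec k`; write `a =
r ∘ (s ∘ r)⁻¹`, so that `s ∘ a = id` and `t ∘ a` is an automorphism. Then `R ⟶ R`, `f ↦ c(a ∘ t ∘ f,
f)`, is an automorphism of `R` mapping `e` to `a` (the point `r`). -/
theorem result (S : Scheme.{u}) (B : AlgSp.Sp S) (hB : AlgSp.IsAlgSpace B)
    (G : AlgSp.GroupoidSp B) (hR : AlgSp.IsAlgSpace G.R) (k : Type u) [Field k]
    (σ : Spec (CommRingCat.of k) ⟶ S) (eU : G.U ≅ (AlgSp.yon S).obj (Over.mk σ))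
    (a : G.U ⟶ G.R) (ha : a ≫ G.s = 𝟙 G.U) [IsIso (a ≫ G.t)] :
    IsIso (pullback.lift (G.t ≫ a) (𝟙 G.R) (((Category.assoc _ _ _).trans (congrArg (G.t ≫ ·) ha)).trans ((Category.comp_id _).trans (Category.id_comp _).symm)) ≫ G.c) ∧
      G.e ≫ (pullback.lift (G.t ≫ a) (𝟙 G.R) (((Category.assoc _ _ _).trans (congrArg (G.t ≫ ·) ha)).trans ((Category.comp_id _).trans (Category.id_comp _).symm)) ≫ G.c) = a := by
  have hw : ∀ (x : G.R ⟶ G.R), x ≫ G.s = G.t → x ≫ G.s = 𝟙 G.R ≫ G.t := fun x h => by rw [h, Category.id_comp]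
  have h₁ : (G.t ≫ a) ≫ G.s = G.t := by rw [Category.assoc, ha, Category.comp_id]
  let φ : G.R ⟶ G.R := GpdIdent.comp G (G.t ≫ a) (𝟙 G.R) (hw _ h₁)
  let x : G.R ⟶ G.R := G.t ≫ inv (a ≫ G.t) ≫ a
  have hxt : x ≫ G.t = G.t := by simp [x]
  have hxi : (x ≫ G.i) ≫ G.s = 𝟙 G.R ≫ G.t := by rw [Category.assoc, G.i_s, hxt, Category.id_comp]
  let ψ : G.R ⟶ G.R := GpdIdent.comp G (x ≫ G.i) (𝟙 G.R) hxi
  have hφt : φ ≫ G.t = G.t ≫ a ≫ G.t := (comp_t' G _ _ _).trans (Category.assoc _ _ _)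
  have hψt : ψ ≫ G.t = G.t ≫ inv (a ≫ G.t) := by
    rw [comp_t', Category.assoc, G.i_t]
    simp only [x, Category.assoc, ha, Category.comp_id]
  have e1 : φ ≫ ψ = 𝟙 G.R := by
    have hh : ((G.t ≫ a) ≫ G.i) ≫ G.s = φ ≫ G.t := by
      rw [Category.assoc, G.i_s, hφt, Category.assoc]
    refine ((pre_comp G φ _ _ hxi).trans (comp_congr G _ hh ?_ (Category.comp_id φ))).trans
      (inv_comp_comp G (G.t ≫ a) (𝟙 G.R) (hw _ h₁) hh)
    rw [← Category.assoc φ x G.i]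
    congr 1
    simp only [x]
    rw [reassoc_of% hφt]
    have hat : a ≫ G.t ≫ inv (a ≫ G.t) ≫ a = a := by
      rw [← Category.assoc, IsIso.hom_inv_id_assoc]
    rw [hat]
  have e2 : ψ ≫ φ = 𝟙 G.R := by
    have hh : x ≫ G.s = ψ ≫ G.t := by
      rw [hψt]; simp [x, ha]
    refine ((pre_comp G ψ _ _ (hw _ h₁)).trans (comp_congr G _ hh ?_ (Category.comp_id ψ))).trans
      (comp_inv_comp' G x (𝟙 G.R) (by rw [hxt, Category.id_comp]) hxi hh)
    rw [← Category.assoc, hψt, Category.assoc]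
  refine ⟨⟨ψ, e1, e2⟩, ?_⟩
  refine (pre_comp G G.e _ _ (hw _ h₁)).trans (comp_id G _ _ _ ?_ |>.trans ?_)
  · rw [Category.comp_id, ← Category.assoc G.e, G.e_t, Category.id_comp,
      ← Category.assoc, ha, Category.id_comp]
  · rw [← Category.assoc, G.e_t, Category.id_comp]

end Groth.Agent.S10145
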