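import Groth.Statements.S1016
import Groth.Agent.KFlatLib.Scheme.CompactPerfectSupport
-- import your own Groth.Agent.* helpers here

set_option autoImplicit false
universe u
open CategoryTheory CategoryTheory.Limits AlgebraicGeometry
attribute [local instance] HasDerivedCategory.standard
open Perf

namespace Groth.Agent.S1016

/-- Let X be a quasi-compact and quasi-separated scheme and T ⊆ X a closed subset whose complement is
quasi-compact and nonempty (the case T = X is stated separately). Let K ∈ D(O_X) have quasi-coherent
cohomology sheaves supported on T. Then K is compact in D_{QCoh,T}(O_X) (with respect to small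
direct sums of objects with quasi-coherent cohomology supported on T) if and only if K is a perfect
object of D(O_X). -/
theorem result (X : Scheme.{u}) [CompactSpace ↥X] [QuasiSeparatedSpace ↥X]
    (T : Set X) (hT : IsClosed T) (hTc : IsCompact Tᶜ) (hTne : Tᶜ.Nonempty)
    (K : DCoh.D X) (hK : DCoh.IsQCohD K) (hKT : ∀ i : ℤ, CohB1.support (DCoh.HD K i) ⊆ T) :
    PerfAux.IsCompactObjRel.{u} (fun L : DCoh.D X => DCoh.IsQCohD L ∧ ∀ i : ℤ, CohB1.support (DCoh.HD L i) ⊆ T) K ↔
      DCoh.IsPerfect K := by
  refine ⟨fun h => (KFlatLib.isPerfect_iff _).2 (KFlatLib.CompactPerfectSupport.locSP_of_finSums T hT hTc hK hKT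
    (KFlatLib.CompactPerfect.finSums_of_rel h)), fun h => ?_⟩
  refine KFlatLib.CompactPerfect.rel_of_finSums fun ι N _ hN φ => ?_
  exact KFlatLib.CompactPerfect.finSums_of_isPerfect h ι N (fun i => (hN i).1) φ

end Groth.Agent.S1016
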