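import Groth.Statements.S10174
import Groth.Agent.AlgSpPts.Misc
-- import your own Groth.Agent.* helpers here

set_option autoImplicit false
universe u
open CategoryTheory CategoryTheory.Limits AlgebraicGeometry Topology TopologicalSpace
open AlgSp

namespace Groth.Agent.S10174

set_option backward.isDefEq.respectTransparency false
set_option backward.isDefEq.respectTransparency.types false

open AlgSp Groth.Agent.AlgSpLib Groth.Agent.AlgSpPts

/-- An algebraic space X over a scheme S is quasi-compact (that is, it has a surjective etale chart from
a scheme whose underlying space is quasi-compact) if and only if the space of points |X| is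
quasi-compact. -/
theorem result {S : Scheme.{u}} (X : AlgSp.Space S) :
    AlgSp.IsQuasiCompactSp X.obj ↔ CompactSpace (AlgSp.Points X.obj) :=  isQuasiCompactSp_iff X.property


end Groth.Agent.S10174
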