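import Groth.Statements.S10179
import Groth.Agent.AlgSpPts.Misc
-- import your own Groth.Agent.* helpers here

set_option autoImplicit false
universe u
open CategoryTheory CategoryTheory.Limits AlgebraicGeometry Topology TopologicalSpace
open AlgSp AlgSp.Points

namespace Groth.Agent.S10179

set_option backward.isDefEq.respectTransparency false
set_option backward.isDefEq.respectTransparency.types false

open AlgSp Groth.Agent.AlgSpLib Groth.Agent.AlgSpPts

/-- For an algebraic space X over a scheme S, every point x of |X| has a fundamental system of
quasi-compact open neighbourhoods: every open subset of |X| containing x contains a quasi-compact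
open subset containing x. In particular |X| is locally quasi-compact. -/
theorem result {S : Scheme.{u}} (X : AlgSp.Space S) (x : AlgSp.Points X.obj)
    (W : Set (AlgSp.Points X.obj)) (hW : IsOpen W) (hx : x ∈ W) :
    ∃ V : Set (AlgSp.Points X.obj), IsOpen V ∧ IsCompact V ∧ x ∈ V ∧ V ⊆ W :=  by
  obtain ⟨U, p, he, hs⟩ := X.property.atlas
  obtain ⟨u, rfl⟩ := surjective_ofPt hs x
  obtain ⟨O, hO, hu, hsub⟩ := exists_isAffineOpen_mem_and_subset
    (U := (⟨_, hW.preimage (Points.continuous_ofPt p)⟩ : U.left.Opens)) (x := u) hx
  exact ⟨_, isOpenMap_ofPt he _ O.isOpen, hO.isCompact.image (Points.continuous_ofPt p),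
    Set.mem_image_of_mem _ hu, Set.image_subset_iff.2 hsub⟩


end Groth.Agent.S10179
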