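import Groth.Statements.S10181
import Groth.Agent.AlgSpPts.Descent
-- import your own Groth.Agent.* helpers here

set_option autoImplicit false
universe u
open CategoryTheory CategoryTheory.Limits AlgebraicGeometry Topology TopologicalSpace
open AlgSp

namespace Groth.Agent.S10181

set_option backward.isDefEq.respectTransparency false
set_option backward.isDefEq.respectTransparency.types false

open AlgSp Groth.Agent.AlgSpLib Groth.Agent.AlgSpPts

/-- Let X be an algebraic space over a scheme S and a : h_U ⟶ X a representable etale map from a scheme
U over S whose underlying scheme is separated. Then a is (representable and) separated, and the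
scheme R = U ×_X U representing the fibre product h_U ×_X h_U is separated. -/
theorem result {S : Scheme.{u}} (X : AlgSp.Space S) {U : Over S}
    (a : (AlgSp.yon S).obj U ⟶ X.obj) (ha : AlgSp.RepWith @Etale a) [U.left.IsSeparated] :
    AlgSp.RepWith @IsSeparated a ∧
      ∀ (R : Over S) (s t : R ⟶ U), IsPullback ((AlgSp.yon S).map t) ((AlgSp.yon S).map s) a a →
        R.left.IsSeparated :=  by
  have hU0 : IsSeparated (terminal.from U.left) := (Scheme.isSeparated_iff _).1 ‹_›
  have hU : IsSeparated U.hom := by
    have : IsSeparated (U.hom ≫ terminal.from S) := by rw [terminal.comp_from]; exact hU0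
    exact IsSeparated.of_comp U.hom (terminal.from S)
  have h1 := repWith_isSeparated_of_yon X.property a hU
  refine ⟨h1, fun R s t sq => ?_⟩
  have : IsSeparated t.left := h1.property a _ _ sq.flip
  exact (Scheme.isSeparated_iff _).2 (by
    rw [← terminal.comp_from t.left]
    have : IsSeparated (terminal.from U.left) := (Scheme.isSeparated_iff _).1 ‹_›
    infer_instance)


end Groth.Agent.S10181
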