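import Groth.Statements.S10183
import Groth.Agent.AlgSpLib.Points
import Groth.Agent.AlgSpLib.EtLocalInst
import Mathlib.AlgebraicGeometry.Morphisms.QuasiFinite

set_option autoImplicit false
universe u
open CategoryTheory CategoryTheory.Limits AlgebraicGeometry Topology TopologicalSpace
open AlgSp

namespace Groth.Agent.S10183

set_option backward.isDefEq.respectTransparency false
set_option backward.isDefEq.respectTransparency.types false

/-- Let X be an algebraic space over a scheme S, a : h_U ⟶ X a representable etale map from a scheme U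
over S, and R a scheme over S with h_R = h_U ×_X h_U whose two projections s, t : R ⟶ U are
quasi-compact (for instance if a is quasi-compact). Then the maps |U| → |X| and |R| → |X| have
finite fibres. -/
theorem result {S : Scheme.{u}} (X : AlgSp.Space S) {R U : Over S}
    (a : (AlgSp.yon S).obj U ⟶ X.obj) (ha : AlgSp.RepWith @Etale a) (s t : R ⟶ U)
    (hR : IsPullback ((AlgSp.yon S).map t) ((AlgSp.yon S).map s) a a)
    [QuasiCompact s.left] [QuasiCompact t.left] (x : AlgSp.Points X.obj) :
    (AlgSp.Points.ofPt a ⁻¹' {x}).Finite ∧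
      (AlgSp.Points.ofPt ((AlgSp.yon S).map t ≫ a) ⁻¹' {x}).Finite := by
  haveI : Etale s.left := ha.property a _ _ hR
  haveI : Etale t.left := ha.property a _ _ hR.flip
  have h1 : (AlgSp.Points.ofPt a ⁻¹' {x}).Finite := by
    rcases (AlgSp.Points.ofPt a ⁻¹' {x}).eq_empty_or_nonempty with h | ⟨u, hu⟩
    · rw [h]; exact Set.finite_empty
    refine ((s.left.finite_preimage_singleton u).image t.left).subset fun w hw => ?_
    obtain ⟨r, hr₁, hr₂⟩ := Groth.Agent.AlgSpLib.exists_ofPt_of_eq hR (u := w) (v := u)
      (by rw [Set.mem_preimage, Set.mem_singleton_iff] at hw hu; rw [hw, hu])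
    exact ⟨r, hr₂, hr₁⟩
  refine ⟨h1, ((h1.preimage' fun u _ => t.left.finite_preimage_singleton u)).subset fun r hr => ?_⟩
  show AlgSp.Points.ofPt a (t.left r) = x
  rw [← Groth.Agent.AlgSpLib.ofPt_comp]
  exact hr

end Groth.Agent.S10183
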