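import Groth.Statements.S10187
import Groth.Agent.AlgSpPts.Diag
-- import your own Groth.Agent.* helpers here

set_option autoImplicit false
universe u
open CategoryTheory CategoryTheory.Limits AlgebraicGeometry Topology TopologicalSpace
open AlgSp

namespace Groth.Agent.S10187

set_option backward.isDefEq.respectTransparency false
set_option backward.isDefEq.respectTransparency.types false

open AlgSp Groth.Agent.AlgSpLib Groth.Agent.AlgSpPts

/-- Let S be a separated scheme and X an algebraic space over S whose diagonal over S is a closed
immersion. Then for all affine schemes U, V over S mapping to X and every scheme P over S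
representing h_U ×_X h_V, the scheme P is affine and the ring map from the tensor product over the
integers of the global sections of U and V to the global sections of P, induced by the projections,
is surjective. (The published statement uses absolute separatedness of X; over a separated base this
agrees with separatedness over S, and without a hypothesis on S the relative notion does not
suffice: take X = h_S for an affine line with doubled origin S and U, V the two copies of the line.) -/
theorem result {S : Scheme.{u}} [S.IsSeparated]
    (X : AlgSp.Space S) (hX : AlgSp.IsSeparatedSp X.obj) (U V P : Over S) (a : (AlgSp.yon S).obj U ⟶ X.obj) (b : (AlgSp.yon S).obj V ⟶ X.obj)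
      (fst : P ⟶ U) (snd : P ⟶ V)
    (hU : IsAffine U.left) (hV : IsAffine V.left)
    (h : IsPullback ((AlgSp.yon S).map fst) ((AlgSp.yon S).map snd) a b) :
    IsAffine P.left ∧ Function.Surjective
          (Algebra.TensorProduct.productMap fst.left.appTop.hom.toIntAlgHom snd.left.appTop.hom.toIntAlgHom) :=  by
  have sqd := isPullback_diag h ((AlgSp.yon S).map prod.fst) ((AlgSp.yon S).map prod.snd) (yon_prod_ext)
    ((AlgSp.yon S).map (prod.lift fst snd)) (by rw [← Functor.map_comp, prod.lift_fst])
    (by rw [← Functor.map_comp, prod.lift_snd])
  have h1 : IsClosedImmersion (prod.lift fst snd).left := hX.2 _ _ _ sqd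
  have := isClosedImmersion_prodToProd U V
  have h2 : IsClosedImmersion ((prod.lift fst snd).left ≫ prodToProd U V) := inferInstance
  rw [lift_prodToProd] at h2
  have hP : IsAffine P.left :=
    isAffine_of_isAffineHom (pullback.lift fst.left snd.left (terminal.hom_ext _ _) :
      P.left ⟶ pullback (terminal.from U.left) (terminal.from V.left))
  exact ⟨hP, (isClosedImmersion_iff_productMap fst.left snd.left).1 h2⟩


end Groth.Agent.S10187
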