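import Groth.Statements.S10188
import Groth.Agent.AlgSpPts.Descent
-- import your own Groth.Agent.* helpers here

set_option autoImplicit false
universe u
open CategoryTheory CategoryTheory.Limits AlgebraicGeometry Topology TopologicalSpace
open AlgSp

namespace Groth.Agent.S10188

set_option backward.isDefEq.respectTransparency false
set_option backward.isDefEq.respectTransparency.types false

open AlgSp Groth.Agent.AlgSpLib Groth.Agent.AlgSpPts

/-- Let P be a property of schemes that is local in the etale topology (for every scheme V and every
etale covering family of V, V has P if and only if all members have P), and let X be an algebraic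
space over a scheme S. Then X has P etale locally (some surjective etale chart from a scheme with P)
if and only if every scheme admitting a representable etale map to X has P. -/
theorem result {S : Scheme.{u}} (P : Scheme.{u} → Prop)
    (hP : ∀ (V : Scheme.{u}) (𝒰 : Scheme.Cover.{u} (Scheme.precoverage @Etale) V), P V ↔ ∀ i, P (𝒰.X i))
    (X : AlgSp.Space S) :
    AlgSp.EtaleLocally P X.obj ↔
      ∀ (U : Over S) (a : (AlgSp.yon S).obj U ⟶ X.obj), AlgSp.RepWith @Etale a → P U.left :=  by
  refine ⟨?_, fun h => ?_⟩
  · rintro ⟨V, b, hb, hb', hV⟩ U a ha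
    let W := hb.rep.pullback a
    have : Etale (hb.rep.snd a).left := hb.property_snd a
    have : Surjective (hb.rep.snd a).left := hb'.property _ _ _ (hb.rep.isPullback a)
    have : Etale (hb.rep.fst' a).left := ha.property b _ _ (hb.rep.isPullback' a).flip
    have hW : P W.left := by
      let O := (hb.rep.fst' a).left
      let ρ : Option PUnit.{u + 1} → (T : Scheme.{u}) × (T ⟶ V.left) := fun o =>
        match o with
        | none => ⟨V.left, 𝟙 V.left⟩
        | some _ => ⟨W.left, O⟩
      let 𝒰 : Scheme.Cover.{u} (Scheme.precoverage @Etale) V.left :=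
        Scheme.Cover.mkOfCovers (P := @Etale) (Option PUnit.{u + 1}) (fun o => (ρ o).1) (fun o => (ρ o).2)
          (fun x => ⟨none, x, rfl⟩) (fun o => by rcases o with _ | _ <;> exact inferInstanceAs (Etale _))
      exact (hP V.left 𝒰).1 hV (some ⟨⟩)
    let 𝒲 : Scheme.Cover.{u} (Scheme.precoverage @Etale) U.left :=
      Scheme.Cover.mkOfCovers (P := @Etale) PUnit.{u + 1} (fun _ => W.left) (fun _ => (hb.rep.snd a).left)
        (fun x => ⟨⟨⟩, (hb.rep.snd a).left.surjective x⟩) (fun _ => inferInstance)
    exact (hP U.left 𝒲).2 fun _ => hW
  · obtain ⟨U, a, ha, ha'⟩ := X.property.atlas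
    exact ⟨U, a, ha, ha', h U a ha⟩


end Groth.Agent.S10188
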