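import Groth.Statements.S10189
import Groth.Agent.AlgSpDec.ConstrDescent

set_option autoImplicit false
universe u
open CategoryTheory CategoryTheory.Limits AlgebraicGeometry Topology TopologicalSpace
open AlgSp

namespace Groth.Agent.S10189

/-- Let X be an algebraic space over a scheme S and E a subset of |X|. If the inverse image of E under
some representable etale surjective map h_U ⟶ X from a scheme U is a locally constructible subset of
U, then its inverse image under every representable etale map h_V ⟶ X from a scheme V is locally
constructible in V. -/
theorem result {S : Scheme.{u}} (X : AlgSp.Space S)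
    (E : Set (AlgSp.Points X.obj)) {U : Over S} (p : (AlgSp.yon S).obj U ⟶ X.obj)
    (hp : AlgSp.RepWith @Etale p) (hs : AlgSp.RepWith @Surjective p)
    (hE : IsLocallyConstructible (AlgSp.Points.ofPt p ⁻¹' E))
    {V : Over S} (a : (AlgSp.yon S).obj V ⟶ X.obj) (ha : AlgSp.RepWith @Etale a) :
    IsLocallyConstructible (AlgSp.Points.ofPt a ⁻¹' E) := by
  exact Groth.Agent.AlgSpDec.isLocallyConstructible_preimage_chart E p hp hs hE a

end Groth.Agent.S10189
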