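import Groth.Statements.S10190
import Groth.Agent.AlgSpPts.Misc
import Groth.Agent.AlgSpLib.EtLocalInst
-- import your own Groth.Agent.* helpers here

set_option autoImplicit false
universe u
open CategoryTheory CategoryTheory.Limits AlgebraicGeometry Topology TopologicalSpace
open AlgSp

namespace Groth.Agent.S10190

set_option backward.isDefEq.respectTransparency false
set_option backward.isDefEq.respectTransparency.types false

open AlgSp Groth.Agent.AlgSpLib Groth.Agent.AlgSpPts

/-- For an algebraic space X over a scheme S, the set of codimension 0 points of X (points x of |X| such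
that, for some representable etale h_U ⟶ X from a scheme U and some point u of U mapping to x, the
local ring of U at u has dimension 0) is dense in |X|. -/
theorem result {S : Scheme.{u}} (X : AlgSp.Space S) :
    Dense {x : AlgSp.Points X.obj |
      AlgSp.HasAt (fun U u => ringKrullDim ↥(U.presheaf.stalk u) = 0) X.obj x} :=  by
  rw [dense_iff_inter_open]
  rintro W hW ⟨x, hx⟩
  obtain ⟨U, p, he, hs⟩ := X.property.atlas
  obtain ⟨u, rfl⟩ := surjective_ofPt hs x
  obtain ⟨O, hO, hu, hsub⟩ := exists_isAffineOpen_mem_and_subset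
    (U := (⟨_, hW.preimage (Points.continuous_ofPt p)⟩ : U.left.Opens)) (x := u) hx
  obtain ⟨q, hq, -⟩ := Ideal.exists_minimalPrimes_le (I := ⊥) (J := (hO.primeIdealOf ⟨u, hu⟩).asIdeal) bot_le
  let y : PrimeSpectrum Γ(U.left, O) := ⟨q, hq.1.1⟩
  have hy : hO.fromSpec y ∈ (O : Set ↥U.left) := hO.range_fromSpec ▸ Set.mem_range_self y
  refine ⟨_, hsub hy, U, p, hO.fromSpec y, he, rfl, ?_⟩
  letI := TopCat.Presheaf.algebra_section_stalk U.left.presheaf ⟨_, hy⟩
  have := hO.isLocalization_stalk' y hy
  have : q.IsPrime := hq.1.1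
  show ringKrullDim ↥(U.left.presheaf.stalk (hO.fromSpec y)) = 0
  rw [IsLocalization.AtPrime.ringKrullDim_eq_height q,
    Ideal.height_eq_zero_iff.2 hq]
  rfl


end Groth.Agent.S10190
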