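import Groth.Statements.S10194
import Groth.Agent.AlgSpPts.Sep
-- import your own Groth.Agent.* helpers here

set_option autoImplicit false
universe u
open CategoryTheory CategoryTheory.Limits AlgebraicGeometry Topology TopologicalSpace
open AlgSp

namespace Groth.Agent.S10194

set_option backward.isDefEq.respectTransparency false
set_option backward.isDefEq.respectTransparency.types false

open AlgSp Groth.Agent.AlgSpLib Groth.Agent.AlgSpPts

/-- Let X, Y be algebraic spaces over a scheme S and j : X' ⟶ X an open subspace (a morphism
representable by open immersions). Then a morphism f : Y ⟶ X factors through X' if and only if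
|f|(|Y|) is contained in |X'|. -/
theorem result {S : Scheme.{u}} {X X' Y : AlgSp.Space S}
    (j : X' ⟶ X) (hj : AlgSp.RepWith @IsOpenImmersion j.hom) (f : Y ⟶ X) :
    (∃ g : Y ⟶ X', g ≫ j = f) ↔
      Set.range (AlgSp.Points.map f.hom) ⊆ Set.range (AlgSp.Points.map j.hom) :=  by
  constructor
  · rintro ⟨g, rfl⟩ _ ⟨y, rfl⟩
    exact ⟨Points.map g.hom y, (Points.map_comp g.hom j.hom y).symm⟩
  · intro hsub
    have sq := IsPullback.of_hasPullback f.hom j.hom
    have h1 : RepWith @IsOpenImmersion (pullback.fst f.hom j.hom) := repWith_fst f.hom hj
    have : Mono (pullback.fst f.hom j.hom) :=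
      mono_of_repWith (repWith_mono (fun _ _ k (_ : IsOpenImmersion k) => (inferInstance : Mono k)) _ h1)
    have h2 : RepWith @Surjective (pullback.fst f.hom j.hom) := by
      refine repWith_surjective_of_surjective h1.rep fun y => ?_
      have hy := range_map_snd_of_isPullback sq.flip
      exact (hy.symm ▸ hsub (Set.mem_range_self y) : y ∈ Set.range (Points.map (pullback.fst f.hom j.hom)))
    have := isLocallySurjective_of_etale_surjective
      (repWith_mono (fun _ _ k (_ : IsOpenImmersion k) => (inferInstance : Etale k)) _ h1) h2
    have := isIso_of_mono_of_locallySurjective (pullback.fst f.hom j.hom)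
    refine ⟨ObjectProperty.homMk (inv (pullback.fst f.hom j.hom) ≫ pullback.snd f.hom j.hom), ?_⟩
    apply InducedCategory.hom_ext
    simp [← pullback.condition]


end Groth.Agent.S10194
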