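import Groth.Statements.S9872
import Groth.Agent.AlgSpLib.Sheaf
import Groth.Agent.AlgSpLib.Rep
import Mathlib.CategoryTheory.Sites.RegularEpi
import Mathlib.CategoryTheory.Limits.Shapes.KernelPair
-- import your own Groth.Agent.* helpers here

set_option autoImplicit false
universe u
open CategoryTheory CategoryTheory.Limits AlgebraicGeometry
open AlgSp

namespace Groth.Agent.S9872

set_option backward.isDefEq.respectTransparency false
set_option backward.isDefEq.respectTransparency.types false

open AlgSp Groth.Agent.AlgSpLib

/-- Let `F` be an algebraic space over `S`, `p : h_U ⟶ F` representable etale and representable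
surjective with `U` a scheme over `S`, and let `s, t : R ⟶ U` over `S` be such that `h_R`, with
`h_t` and `h_s`, is the fibre product `h_U ×_F h_U`. Then `s, t` is an etale equivalence relation on
`U` over `S`, and `p` exhibits `F` as the coequalizer of `h_t, h_s : h_R ⟶ h_U` in fppf sheaves of
sets over `S`. -/
theorem result (S : Scheme.{u}) (F : AlgSp.Sp S) (hF : AlgSp.IsAlgSpace F)
    {R U : Over S} (p : (AlgSp.yon S).obj U ⟶ F) (he : AlgSp.RepWith @Etale p)
    (hs : AlgSp.RepWith @Surjective p) (s t : R ⟶ U)
    (sq : IsPullback ((AlgSp.yon S).map t) ((AlgSp.yon S).map s) p p) :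
    AlgSp.IsEtaleEqvRel s t ∧ Nonempty (IsColimit (Cofork.ofπ p sq.w)) :=  by
  constructor
  · refine { injective := fun T r r' h1 h2 => ?_, equivalence := fun T => ⟨fun a => ?_, ?_, ?_⟩,
             etale_left := he.property p _ _ sq, etale_right := he.property p _ _ sq.flip }
    · refine (AlgSp.yon S).map_injective (sq.hom_ext ?_ ?_)
      · rw [← Functor.map_comp, ← Functor.map_comp, h1]
      · rw [← Functor.map_comp, ← Functor.map_comp, h2]
    · exact ⟨(AlgSp.yon S).preimage (sq.lift ((AlgSp.yon S).map a) ((AlgSp.yon S).map a) rfl),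
        (AlgSp.yon S).map_injective (by rw [Functor.map_comp, Functor.map_preimage, sq.lift_fst]),
        (AlgSp.yon S).map_injective (by rw [Functor.map_comp, Functor.map_preimage, sq.lift_snd])⟩
    · rintro a b ⟨r, rfl, rfl⟩
      refine ⟨(AlgSp.yon S).preimage (sq.lift ((AlgSp.yon S).map (r ≫ s)) ((AlgSp.yon S).map (r ≫ t))
          (by simp only [Functor.map_comp, Category.assoc, sq.w])),
        (AlgSp.yon S).map_injective (by rw [Functor.map_comp, Functor.map_preimage, sq.lift_fst]),
        (AlgSp.yon S).map_injective (by rw [Functor.map_comp, Functor.map_preimage, sq.lift_snd])⟩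
    · rintro a b d ⟨r, rfl, rfl⟩ ⟨r', hr', rfl⟩
      refine ⟨(AlgSp.yon S).preimage (sq.lift ((AlgSp.yon S).map (r ≫ t)) ((AlgSp.yon S).map (r' ≫ s)) ?_),
        (AlgSp.yon S).map_injective (by rw [Functor.map_comp, Functor.map_preimage, sq.lift_fst]),
        (AlgSp.yon S).map_injective (by rw [Functor.map_comp, Functor.map_preimage, sq.lift_snd])⟩
      have e : (AlgSp.yon S).map (r' ≫ t) = (AlgSp.yon S).map (r ≫ s) := by rw [hr']
      rw [Functor.map_comp, Functor.map_comp] at e ⊢
      rw [Category.assoc, sq.w, ← Category.assoc, ← e, Category.assoc, sq.w, ← Category.assoc]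
  · have : Epi p := epi_of_etale_surjective he hs
    have hc : IsRegularEpiCategory (CategoryTheory.Sheaf (AlgSp.J S) (Type (u + 1))) := inferInstance
    have : IsRegularEpi p := hc.regularEpiOfEpi p
    exact ⟨IsKernelPair.toCoequalizer' (sq : IsKernelPair p _ _)⟩


end Groth.Agent.S9872
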