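import Groth.Statements.S10196
import Groth.Agent.AlgSpDec.LqfScheme
import Groth.Agent.S9872

set_option autoImplicit false
universe u
open CategoryTheory CategoryTheory.Limits AlgebraicGeometry Topology TopologicalSpace
open AlgSp Groth.Agent.AlgSpLib Groth.Agent.AlgSpPts Groth.Agent.AlgSpDec

namespace Groth.Agent.S10196
set_option backward.isDefEq.respectTransparency false
set_option backward.isDefEq.respectTransparency.types false

/-- Let X be an algebraic space over a scheme S, a : h_U ⟶ X a representable etale map from a scheme U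
over S, and X' ⟶ X the open subspace whose image in |X| is the (open) image of U. Then a factors
through a representable etale and surjective a' : h_U ⟶ X', and if R is a scheme over S with h_R =
h_U ×_X h_U then also h_R = h_U ×_{X'} h_U and (U, R, a') is a presentation of X'. -/
theorem result {S : Scheme.{u}} {X X' : AlgSp.Space S} {U : Over S}
    (a : (AlgSp.yon S).obj U ⟶ X.obj) (ha : AlgSp.RepWith @Etale a)
    (j : X' ⟶ X) (hj : AlgSp.RepWith @IsOpenImmersion j.hom)
    (himage : Set.range (AlgSp.Points.map j.hom) = Set.range (AlgSp.Points.ofPt a)) :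
    ∃ a' : (AlgSp.yon S).obj U ⟶ X'.obj, a' ≫ j.hom = a ∧ AlgSp.RepWith @Etale a' ∧ AlgSp.RepWith @Surjective a' ∧
      ∀ (R : Over S) (s t : R ⟶ U), IsPullback ((AlgSp.yon S).map t) ((AlgSp.yon S).map s) a a →
        AlgSp.IsPresentation s t a' := by
  obtain ⟨a', ha'⟩ := exists_factor_open hj a (fun u => by rw [himage]; exact ⟨u, rfl⟩)
  have : Mono j.hom := mono_of_openImmersion hj
  have := isIso_diagonal_of_mono j.hom
  have ha'e : RepWith @Etale a' := repWith_of_postcomp (repWith_of_isIso _ _) (by rw [ha']; exact ha)
  have hinj : Function.Injective (Points.map j.hom) := injective_map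
    ⟨hj.rep, fun _ _ g fst snd sq => by
      have : IsOpenImmersion snd.left := hj.property g fst snd sq
      exact snd.left.isOpenEmbedding.injective⟩
  have has : RepWith @Surjective a' := repWith_surjective_of_surjective ha'e.rep fun p => by
    obtain ⟨r, hr⟩ : Points.map j.hom p ∈ Set.range (Points.ofPt a) := by rw [← himage]; exact ⟨p, rfl⟩
    refine ⟨Points.ofScheme U r, hinj ?_⟩
    rw [← Points.map_comp, ha', ← hr, Points.ofPt_eq_map_ofScheme]
  refine ⟨a', ha', ha'e, has, fun R s t sq => ?_⟩
  subst ha'
  have sq' : IsPullback ((yon S).map t) ((yon S).map s) a' a' :=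
    IsKernelPair.cancel_right_of_mono (f₂ := j.hom) sq
  exact ⟨(Groth.Agent.S9872.result S X'.obj X'.property a' ha'e has s t sq').1, ha'e, has, sq'⟩

end Groth.Agent.S10196
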