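import Groth.Statements.S10214
import Groth.Agent.AlgSpPts.OpenSub
import Groth.Agent.S10194
-- import your own Groth.Agent.* helpers here

set_option autoImplicit false
universe u
open CategoryTheory CategoryTheory.Limits AlgebraicGeometry Topology TopologicalSpace
open AlgSp

namespace Groth.Agent.S10214

set_option backward.isDefEq.respectTransparency false
set_option backward.isDefEq.respectTransparency.types false

open AlgSp Groth.Agent.AlgSpLib Groth.Agent.AlgSpPts

/-- Every algebraic space X over a scheme S has a Zariski covering by open subspaces X_i such that each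
X_i has a surjective etale map from an affine scheme; moreover the affine schemes may be taken to
map into affine opens of S. -/
theorem result {S : Scheme.{u}} (X : AlgSp.Space S) :
    ∃ (ι : Type u) (Xi : ι → AlgSp.Space S) (j : ∀ i, Xi i ⟶ X),
      AlgSp.IsZarCover (fun i => (Xi i).obj) (fun i => (j i).hom) ∧
        ∀ i, ∃ (U : Over S) (p : (AlgSp.yon S).obj U ⟶ (Xi i).obj), IsAffine U.left ∧
          AlgSp.RepWith @Etale p ∧ AlgSp.RepWith @Surjective p ∧
          ∃ W : S.Opens, IsAffineOpen W ∧ ∀ v : ↥U.left, U.hom v ∈ W :=  by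
  obtain ⟨U, a, ha, ha'⟩ := X.property.atlas
  let ι := {O : U.left.affineOpens // ∃ W : S.Opens, IsAffineOpen W ∧ ∀ v : ↥U.left, v ∈ O.1 → U.hom v ∈ W}
  let o : ∀ O : ι, Over.mk (O.1.1.ι ≫ U.hom) ⟶ U := fun O => Over.homMk O.1.1.ι rfl
  let q : ∀ O : ι, (yon S).obj (Over.mk (O.1.1.ι ≫ U.hom)) ⟶ X.obj := fun O => (yon S).map (o O) ≫ a
  have hq : ∀ O, RepWith @Etale (q O) := fun O =>
    repWith_comp ((repWith_yon_map_iff _ _).2 (inferInstanceAs (Etale O.1.1.ι))) ha
  have key : ∀ O, ∃ (X' : Sp S) (j : X' ⟶ X.obj), IsAlgSpace X' ∧ RepWith @IsOpenImmersion j ∧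
      Set.range (Points.map j) = Set.range (Points.ofPt (q O)) := fun O =>
    exists_open_subspace X.property (isOpenMap_ofPt (hq O)).isOpen_range
  choose X' j hA hj hr using key
  refine ⟨ι, fun O => ⟨X' O, hA O⟩, fun O => ObjectProperty.homMk (j O), ⟨hj, fun x => ?_⟩, fun O => ?_⟩
  · obtain ⟨u, rfl⟩ := surjective_ofPt ha' x
    obtain ⟨W, hW, huW, -⟩ := exists_isAffineOpen_mem_and_subset (U := (⊤ : S.Opens)) (x := U.hom u) trivial
    obtain ⟨O, hO, hu, hOW⟩ := exists_isAffineOpen_mem_and_subset (U := U.hom ⁻¹ᵁ W) (x := u) huW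
    let i₀ : ι := ⟨⟨O, hO⟩, W, hW, fun v hv => hOW hv⟩
    refine ⟨i₀, ?_⟩
    show Points.ofPt a u ∈ Set.range (Points.map (j i₀))
    rw [hr i₀]
    obtain ⟨v, hv⟩ := (Scheme.Opens.range_ι O).symm.subset hu
    refine ⟨v, ?_⟩
    show Points.ofPt ((yon S).map (o i₀) ≫ a) v = Points.ofPt a u
    rw [ofPt_comp]
    exact congrArg (Points.ofPt a) hv
  · obtain ⟨W, hW, hOW⟩ := O.2
    let Z : Space S := (ofScheme S).obj (Over.mk (O.1.1.ι ≫ U.hom))
    obtain ⟨g, hg⟩ := (S10194.result (X' := ⟨X' O, hA O⟩) (ObjectProperty.homMk (j O)) (hj O)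
      (ObjectProperty.homMk (q O) : Z ⟶ X)).2 (by
        show Set.range (Points.map (q O)) ⊆ Set.range (Points.map (j O))
        rw [hr]
        rintro _ ⟨z, rfl⟩
        obtain ⟨v, rfl⟩ := (Points.schemeEquiv _).surjective z
        exact ⟨v, Points.ofPt_eq_map_ofScheme (q O) v⟩)
    have hg' : g.hom ≫ j O = q O := congrArg (fun k : Z ⟶ X => k.hom) hg
    refine ⟨Over.mk (O.1.1.ι ≫ U.hom), g.hom, O.1.2, ?_, ?_, W, hW, fun v => ?_⟩
    · exact repWith_etale_of_comp g.hom (j O) (by rw [hg']; exact hq O)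
        (repWith_mono (fun _ _ k (_ : IsOpenImmersion k) => (inferInstance : Etale k)) _ (hj O))
    · refine repWith_surjective_of_surjective ((hA O).representable_from_yon _) fun z => ?_
      obtain ⟨v, hv⟩ := (hr O).subset (Set.mem_range_self z)
      refine ⟨Points.ofPt (𝟙 _) v, ?_⟩
      have hinj : Function.Injective (Points.map (j O)) :=
        injective_map (repWith_mono (fun _ _ k (_ : IsOpenImmersion k) => k.isOpenEmbedding.injective) _ (hj O))
      apply hinj
      rw [Points.map_ofPt, Category.id_comp, Points.map_ofPt, hg', hv]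
    · show (O.1.1.ι ≫ U.hom) v ∈ W
      rw [Scheme.Hom.comp_apply]
      exact hOW _ ((Scheme.Opens.range_ι O.1.1).subset (Set.mem_range_self v))


end Groth.Agent.S10214
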