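import Groth.Statements.S10198
import Groth.Agent.S10214
import Groth.Agent.AlgSpDec.QsDense
import Groth.Agent.AlgSpDec.More

set_option autoImplicit false
universe u
open CategoryTheory CategoryTheory.Limits AlgebraicGeometry
open AlgSp

namespace Groth.Agent.S10198

set_option backward.isDefEq.respectTransparency false
set_option backward.isDefEq.respectTransparency.types false

open AlgSp Groth.Agent.AlgSpLib Groth.Agent.AlgSpPts Groth.Agent.AlgSpDec

theorem qs_of_affine_qc_chart {S : Scheme.{u}} {X : Sp S} (hX : IsAlgSpace X) {U : Over S} [IsAffine U.left]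
    {p : (yon S).obj U ⟶ X} (hq : RepWith @QuasiCompact p) (he : RepWith @Etale p)
    (hs : RepWith @Surjective p) : IsQuasiSeparatedSp X := by
  have : MorphismProperty.IsLocalAtTarget (@QuasiCompact : MorphismProperty Scheme.{u}) Scheme.fppfPrecoverage :=
    isLocalAtTarget_fppf _
  refine repWith_diag_of_chart @QuasiCompact hX.diag p he hs (he.rep.fst' p) (he.rep.snd p) (he.rep.isPullback' p) ?_
  let R := he.rep.pullback p
  let l := prod.lift (he.rep.fst' p) (he.rep.snd p)
  have : QuasiCompact (he.rep.snd p).left := hq.property _ _ _ (he.rep.isPullback p)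
  have : CompactSpace ↥R.left := QuasiCompact.compactSpace_of_compactSpace (he.rep.snd p).left
  let e := Over.prodLeftIsoPullback U U
  suffices QuasiCompact (l.left ≫ e.hom) by
    exact (MorphismProperty.cancel_right_of_respectsIso @QuasiCompact l.left e.hom).1 this
  have : IsSeparated U.hom :=
    have : IsSeparated (U.hom ≫ terminal.from S) := by
      rw [terminal.comp_from]; infer_instance
    IsSeparated.of_comp U.hom (terminal.from S)
  have : IsSeparated (pullback.fst U.hom U.hom) := MorphismProperty.pullback_fst _ _ inferInstance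
  have : IsSeparated (pullback.fst U.hom U.hom ≫ terminal.from U.left) := inferInstance
  have : QuasiSeparatedSpace ↥(pullback U.hom U.hom) := by
    have : (pullback U.hom U.hom).IsSeparated := ⟨by rwa [← terminal.comp_from (pullback.fst U.hom U.hom)]⟩
    infer_instance
  infer_instance

/-- (1) if and only if (3): for an algebraic space X over a scheme S, X is Zariski locally
quasi-separated over S (it has a Zariski covering by open subspaces whose diagonals over S are
quasi-compact) if and only if X has a Zariski covering by open subspaces each of which admits a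
quasi-compact, etale, surjective map from an affine scheme. Since the second condition does not
mention S, being Zariski locally quasi-separated does not depend on the base. -/
theorem result {S : Scheme.{u}} (X : AlgSp.Space S) :
    (∃ (ι : Type u) (Xi : ι → AlgSp.Space S) (j : ∀ i, Xi i ⟶ X),
        AlgSp.IsZarCover (fun i => (Xi i).obj) (fun i => (j i).hom) ∧ ∀ i, AlgSp.IsQuasiSeparatedSp (Xi i).obj) ↔
      (∃ (ι : Type u) (Xi : ι → AlgSp.Space S) (j : ∀ i, Xi i ⟶ X),
        AlgSp.IsZarCover (fun i => (Xi i).obj) (fun i => (j i).hom) ∧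
          ∀ i, ∃ (U : Over S) (p : (AlgSp.yon S).obj U ⟶ (Xi i).obj), IsAffine U.left ∧
            AlgSp.RepWith @QuasiCompact p ∧ AlgSp.RepWith @Etale p ∧ AlgSp.RepWith @Surjective p) := by
  constructor
  · rintro ⟨ι, Xi, j, hj, hqs⟩
    have key := fun i => Groth.Agent.S10214.result (Xi i)
    choose κ Y k hk hch using key
    refine ⟨Σ i, κ i, fun x => Y x.1 x.2, fun x => k x.1 x.2 ≫ j x.1,
      ⟨fun x => repWith_comp ((hk x.1).1 x.2) (hj.1 x.1), fun x => ?_⟩, fun x => ?_⟩
    · obtain ⟨i, y, rfl⟩ := hj.2 x
      obtain ⟨l, z, rfl⟩ := (hk i).2 y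
      exact ⟨⟨i, l⟩, z, Points.map_comp _ _ z⟩
    · obtain ⟨U, p, hU, hp, hps, W, hW, hUW⟩ := hch x.1 x.2
      refine ⟨U, p, hU, ?_, hp, hps⟩
      haveI := hU
      have hje : RepWith @Etale (k x.1 x.2).hom :=
        repWith_mono (fun A B g (hg : IsOpenImmersion g) => (inferInstance : Etale g)) _ ((hk x.1).1 x.2)
      have : Mono (k x.1 x.2).hom := mono_of_openImmersion ((hk x.1).1 x.2)
      have ha : RepWith @Etale (p ≫ (k x.1 x.2).hom) := repWith_comp hp hje
      have hqc := quasiCompact_snd (hqs x.1) ha hW (by rintro _ ⟨v, rfl⟩; exact hUW v)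
      have sq : IsPullback ((yon S).map (ha.rep.fst' (p ≫ (k x.1 x.2).hom)))
          ((yon S).map (ha.rep.snd (p ≫ (k x.1 x.2).hom))) p p :=
        IsKernelPair.cancel_right_of_mono (f₂ := (k x.1 x.2).hom) (ha.rep.isPullback' _)
      have := isLocallySurjective_of_etale_surjective hp hps
      have := isLocalAtTarget_fppf (@QuasiCompact : MorphismProperty Scheme.{u})
      exact repWith_of_locallySurjective hp.rep _ sq @QuasiCompact ((repWith_yon_map_iff _ _).2 hqc)
  · rintro ⟨ι, Xi, j, hj, h⟩
    refine ⟨ι, Xi, j, hj, fun i => ?_⟩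
    obtain ⟨U, p, hU, hq, he, hs⟩ := h i
    haveI := hU
    exact qs_of_affine_qc_chart (Xi i).property hq he hs

end Groth.Agent.S10198
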