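import Groth.Statements.S10202
import Groth.Agent.AlgSpPts.Misc
-- import your own Groth.Agent.* helpers here

set_option autoImplicit false
universe u
open CategoryTheory CategoryTheory.Limits AlgebraicGeometry Topology TopologicalSpace
open AlgSp

namespace Groth.Agent.S10202

set_option backward.isDefEq.respectTransparency false
set_option backward.isDefEq.respectTransparency.types false

open AlgSp Groth.Agent.AlgSpLib Groth.Agent.AlgSpPts

/-- If X is a locally Noetherian algebraic space over a scheme S, then the space |X| is locally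
Noetherian: every point of |X| has an open neighbourhood which is a Noetherian topological space in
the induced topology. -/
theorem result {S : Scheme.{u}} (X : AlgSp.Space S)
    (hX : AlgSp.IsLocNoethSp X.obj) (x : AlgSp.Points X.obj) :
    ∃ W : Set (AlgSp.Points X.obj), IsOpen W ∧ x ∈ W ∧ NoetherianSpace ↥W :=  by
  obtain ⟨U, p, he, hs, hU⟩ := hX
  obtain ⟨u, rfl⟩ := surjective_ofPt hs x
  obtain ⟨O, hO, hu, -⟩ := exists_isAffineOpen_mem_and_subset (U := (⊤ : U.left.Opens)) (x := u) trivial
  refine ⟨_, isOpenMap_ofPt he _ O.isOpen, Set.mem_image_of_mem _ hu, ?_⟩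
  have : IsLocallyNoetherian U.left := hU
  have : IsNoetherianRing Γ(U.left, O) := IsLocallyNoetherian.component_noetherian ⟨O, hO⟩
  haveI : NoetherianSpace ↥(O : Set ↥U.left) := noetherianSpace_of_isAffineOpen O hO
  exact noetherianSpace_of_surjective (fun v : ↥(O : Set ↥U.left) => (⟨_, Set.mem_image_of_mem (Points.ofPt p) v.2⟩ : ↥(Points.ofPt p '' (O : Set ↥U.left))))
    (((Points.continuous_ofPt p).comp continuous_subtype_val).subtype_mk _) fun ⟨_, v, hv, rfl⟩ => ⟨⟨v, hv⟩, rfl⟩


end Groth.Agent.S10202
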