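import Groth.Statements.S10203
import Groth.Agent.AlgSpPts.Misc
-- import your own Groth.Agent.* helpers here

set_option autoImplicit false
universe u
open CategoryTheory CategoryTheory.Limits AlgebraicGeometry Topology TopologicalSpace
open AlgSp

namespace Groth.Agent.S10203

set_option backward.isDefEq.respectTransparency false
set_option backward.isDefEq.respectTransparency.types false

open AlgSp Groth.Agent.AlgSpLib Groth.Agent.AlgSpPts

/-- If X is a quasi-compact, locally Noetherian algebraic space over a scheme S, then |X| is a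
Noetherian topological space. -/
theorem result {S : Scheme.{u}} (X : AlgSp.Space S)
    (hqc : AlgSp.IsQuasiCompactSp X.obj) (hX : AlgSp.IsLocNoethSp X.obj) :
    NoetherianSpace (AlgSp.Points X.obj) :=  by
  have := (isQuasiCompactSp_iff X.property).1 hqc
  obtain ⟨U, p, he, hs, hU⟩ := hX
  have key : ∀ x : Points X.obj, ∃ W : Set (Points X.obj), IsOpen W ∧ x ∈ W ∧ NoetherianSpace ↥W := by
    intro x
    obtain ⟨u, rfl⟩ := surjective_ofPt hs x
    obtain ⟨O, hO, hu, -⟩ := exists_isAffineOpen_mem_and_subset (U := (⊤ : U.left.Opens)) (x := u) trivial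
    refine ⟨_, isOpenMap_ofPt he _ O.isOpen, Set.mem_image_of_mem _ hu, ?_⟩
    have : IsLocallyNoetherian U.left := hU
    have : IsNoetherianRing Γ(U.left, O) := IsLocallyNoetherian.component_noetherian ⟨O, hO⟩
    haveI : NoetherianSpace ↥(O : Set ↥U.left) := noetherianSpace_of_isAffineOpen O hO
    exact noetherianSpace_of_surjective (fun v : ↥(O : Set ↥U.left) => (⟨_, Set.mem_image_of_mem (Points.ofPt p) v.2⟩ : ↥(Points.ofPt p '' (O : Set ↥U.left))))
      (((Points.continuous_ofPt p).comp continuous_subtype_val).subtype_mk _) fun ⟨_, v, hv, rfl⟩ => ⟨⟨v, hv⟩, rfl⟩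
  choose W hW hx hN using key
  obtain ⟨t, ht⟩ := CompactSpace.isCompact_univ.elim_finite_subcover W hW fun x _ => Set.mem_iUnion.2 ⟨x, hx x⟩
  apply TopologicalSpace.noetherian_univ_iff.mp
  have e : Set.univ = ⋃ i : t, W i := Set.eq_univ_of_forall (fun y => by
    obtain ⟨x, hx, hy⟩ := Set.mem_iUnion₂.1 (ht (Set.mem_univ y))
    exact Set.mem_iUnion.2 ⟨⟨x, hx⟩, hy⟩) |>.symm
  rw [e]
  exact TopologicalSpace.NoetherianSpace.iUnion _


end Groth.Agent.S10203
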