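import Groth.Statements.S10207
import Groth.Agent.FpqcSpace13.Main

set_option autoImplicit false
set_option backward.isDefEq.respectTransparency false
set_option backward.isDefEq.respectTransparency.types false
universe u
open CategoryTheory CategoryTheory.Limits AlgebraicGeometry Topology TopologicalSpace
open AlgSp

namespace Groth.Agent.S10207

/-- An algebraic space X over a scheme S satisfies the sheaf property for the fpqc topology: its
underlying presheaf on schemes over S is a sheaf for the fpqc topology (restricted from schemes to
schemes over S). -/
theorem result {S : Scheme.{u}} (X : AlgSp.Space S) :
    Presheaf.IsSheaf (Scheme.fpqcTopology.over S) X.obj.obj := by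
  exact Groth.Agent.FpqcSpace13.isSheaf_fpqc X

end Groth.Agent.S10207
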