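import Groth.Statements.S10210
import Groth.Agent.AlgSpPts.Misc
import Groth.Agent.AlgSpLib.EtLocalInst
-- import your own Groth.Agent.* helpers here

set_option autoImplicit false
universe u
open CategoryTheory CategoryTheory.Limits AlgebraicGeometry Topology TopologicalSpace
open AlgSp

namespace Groth.Agent.S10210

set_option backward.isDefEq.respectTransparency false
set_option backward.isDefEq.respectTransparency.types false

open AlgSp Groth.Agent.AlgSpLib Groth.Agent.AlgSpPts

/-- Let X, Y, Z be algebraic spaces over a scheme S, g : X ⟶ Z and h : Y ⟶ Z etale morphisms and f : X ⟶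
Y a morphism with f ≫ h = g. Then f is etale. -/
theorem result {S : Scheme.{u}} {X Y Z : AlgSp.Space S} (f : X ⟶ Y) (h : Y ⟶ Z) (g : X ⟶ Z)
    (w : f ≫ h = g) (hg : AlgSp.IsEtaleMor g.hom) (hh : AlgSp.IsEtaleMor h.hom) :
    AlgSp.IsEtaleMor f.hom :=  by
  rw [isEtaleMor_iff_locP X.property Y.property]
  refine locP_of_comp' (Q := @Etale) (fun a b hab hb => ?_) Z.property (g := h.hom) ?_
    ((isEtaleMor_iff_locP Y.property Z.property _).1 hh)
  · have : Etale (a ≫ b) := hab
    have : Etale b := hb
    exact Etale.of_comp a b
  · have := (isEtaleMor_iff_locP X.property Z.property _).1 hg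
    rwa [← w] at this


end Groth.Agent.S10210
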