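import Groth.Statements.S10211
import Groth.Agent.AlgSpPts.Misc
-- import your own Groth.Agent.* helpers here

set_option autoImplicit false
universe u
open CategoryTheory CategoryTheory.Limits AlgebraicGeometry Topology TopologicalSpace
open AlgSp

namespace Groth.Agent.S10211

set_option backward.isDefEq.respectTransparency false
set_option backward.isDefEq.respectTransparency.types false

open AlgSp Groth.Agent.AlgSpLib Groth.Agent.AlgSpPts

/-- If f : X ⟶ Y is an etale morphism of algebraic spaces over a scheme S, then the induced map of
topological spaces |X| → |Y| is open. -/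
theorem result {S : Scheme.{u}} {X Y : AlgSp.Space S} (f : X ⟶ Y)
    (hf : AlgSp.IsEtaleMor f.hom) :
    IsOpenMap (AlgSp.Points.map f.hom) :=  by
  obtain ⟨U, a, ha, hs⟩ := X.property.atlas
  have h1 : IsOpenMap (Points.map f.hom ∘ Points.ofPt a) := by
    have : Points.map f.hom ∘ Points.ofPt a = Points.ofPt (a ≫ f.hom) :=
      funext fun u => Points.map_ofPt (f := f.hom) a u
    rw [this]
    exact isOpenMap_ofPt (hf a ha)
  intro A hA
  have : Points.map f.hom '' A = (Points.map f.hom ∘ Points.ofPt a) '' (Points.ofPt a ⁻¹' A) := by
    rw [Set.image_comp, Set.image_preimage_eq _ (surjective_ofPt hs)]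
  rw [this]
  exact h1 _ (hA.preimage (Points.continuous_ofPt a))


end Groth.Agent.S10211
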