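import Groth.Statements.S10212
import Groth.Agent.AlgSpPts.Misc
import Groth.Agent.AlgSpLib.EtLocalInst
-- import your own Groth.Agent.* helpers here

set_option autoImplicit false
universe u
open CategoryTheory CategoryTheory.Limits AlgebraicGeometry Topology TopologicalSpace
open AlgSp

namespace Groth.Agent.S10212

set_option backward.isDefEq.respectTransparency false
set_option backward.isDefEq.respectTransparency.types false

open AlgSp Groth.Agent.AlgSpLib Groth.Agent.AlgSpPts

/-- Let X be an algebraic space over a scheme S, χ : U ⟶ U' a surjective etale morphism of schemes over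
S and φ' : h_{U'} ⟶ X a map such that the composite h_χ ≫ φ' : h_U ⟶ X is (representable and) etale.
Then φ' is etale. -/
theorem result {S : Scheme.{u}} (X : AlgSp.Space S) {U U' : Over S}
    (χ : U ⟶ U') [Etale χ.left] [Surjective χ.left] (φ' : (AlgSp.yon S).obj U' ⟶ X.obj)
    (h : AlgSp.RepWith @Etale ((AlgSp.yon S).map χ ≫ φ')) :
    AlgSp.RepWith @Etale φ' :=  by
  refine repWith_of_locP X.property (X.property.representable_from_yon φ') ?_
  obtain ⟨V, b, hb, hb'⟩ := X.property.atlas
  let g := (yon S).map χ ≫ φ'
  let e : hb.rep.pullback g ⟶ U := hb.rep.snd g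
  have he : Etale e.left := hb.property_snd g
  have hes : Surjective e.left := hb'.property _ _ _ (hb.rep.isPullback g)
  refine locP_of_chart (a := (yon S).map (e ≫ χ)) (b := b) (h := hb.rep.fst' g) ?_ ?_ hb ?_ ?_
  · exact (repWith_yon_map_iff _ _).2 (inferInstanceAs (Etale (e.left ≫ χ.left)))
  · exact (repWith_yon_map_iff _ _).2 (inferInstanceAs (Surjective (e.left ≫ χ.left)))
  · rw [Functor.relativelyRepresentable.map_fst', hb.rep.w, Functor.map_comp, Category.assoc]
  · exact h.property b _ _ (hb.rep.isPullback' g).flip


end Groth.Agent.S10212
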