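import Groth.Statements.S10218
import Groth.Agent.AlgSpPts.Geom
-- import your own Groth.Agent.* helpers here

set_option autoImplicit false
universe u
open CategoryTheory CategoryTheory.Limits AlgebraicGeometry Topology TopologicalSpace
open AlgSp

namespace Groth.Agent.S10218

set_option backward.isDefEq.respectTransparency false
set_option backward.isDefEq.respectTransparency.types false

open AlgSp Groth.Agent.AlgSpLib Groth.Agent.AlgSpPts

/-- Let X be an algebraic space over a scheme S, x̄ a geometric point of X, (U, ū) an etale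
neighbourhood of x̄ and {U_i ⟶ U} an etale covering of U in the small etale site of X. Then for some
index i the point x̄ lifts to U_i compatibly, that is, (U_i, ū_i) ⟶ (U, ū) is a morphism of etale
neighbourhoods for a suitable lift ū_i. -/
theorem result {S : Scheme.{u}} (X : AlgSp.Space S) (p : AlgSp.FieldPt X.obj) (hp : p.IsGeometric)
    (N : AlgSp.EtNbhd p) {ι : Type u} (Ui : ι → AlgSp.EtOver X.obj) (g : ∀ i, Ui i ⟶ N.1)
    (hcov : Presieve.ofArrows Ui g ∈ AlgSp.etPre X.obj N.1) :
    ∃ (i : ι) (ui : (AlgSp.FieldPt.liftsTo p).obj (Ui i)), (AlgSp.FieldPt.liftsTo p).map (g i) ui = N.2 :=  by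
  have : IsAlgClosed p.K := hp
  obtain ⟨i, v, hv⟩ := (ofArrows_mem_etPre_iff Ui g).1 hcov (N.2.1.left (IsLocalRing.closedPoint p.K))
  obtain ⟨l, hl, -⟩ := exists_lift_geometric (IsAlgSpace.yon_obj (Ui i).obj.left)
    (IsAlgSpace.yon_obj N.1.obj.left)
    (f := (yon S).map (g i).hom.left)
    (locP_of_repWith ((repWith_yon_map_iff _ _).2 (EtOver.etale_left (g i))))
    ((yon S).map N.2.1) (u := Points.ofScheme _ v)
    (by rw [Points.map_ofPt, Category.id_comp]
        have h1 := ofPt_comp N.2.1 (𝟙 _) (IsLocalRing.closedPoint p.K)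
        rw [Category.comp_id] at h1
        have h2 := ofPt_comp (g i).hom.left (𝟙 _) v
        rw [Category.comp_id] at h2
        exact h2.trans ((congrArg _ hv).trans h1.symm))
  obtain ⟨k, rfl⟩ := (yon S).map_surjective l
  have hk : k ≫ (g i).hom.left = N.2.1 := (yon S).map_injective ((Functor.map_comp _ _ _).trans hl)
  refine ⟨i, ⟨k, ?_⟩, Subtype.ext hk⟩
  rw [← EtOver.w (g i), ← Category.assoc, hl]
  exact N.2.2


end Groth.Agent.S10218
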