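import Groth.Statements.S10219
import Groth.Agent.AlgSpDec.EtPoint

set_option autoImplicit false
set_option backward.isDefEq.respectTransparency false
set_option backward.isDefEq.respectTransparency.types false
universe u
open CategoryTheory CategoryTheory.Limits AlgebraicGeometry Topology TopologicalSpace
open AlgSp Groth.Agent.AlgSpDec.EtPoint

namespace Groth.Agent.S10219

/-- For an algebraic space X over a scheme S and a geometric point x̄ of X, the stalk functors F ↦ F_x̄
on sheaves of sets and on abelian sheaves on the small etale site of X are exact (they preserve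
finite limits and finite colimits). -/
theorem result {S : Scheme.{u}} (X : AlgSp.Space S) (p : AlgSp.FieldPt X.obj) (hp : p.IsGeometric) :
    (PreservesFiniteLimits (AlgSp.stalkEtFunctor (Type (u + 1)) p) ∧
      PreservesFiniteColimits (AlgSp.stalkEtFunctor (Type (u + 1)) p)) ∧
    (PreservesFiniteLimits (AlgSp.stalkEtFunctor AddCommGrpCat.{u + 1} p) ∧
      PreservesFiniteColimits (AlgSp.stalkEtFunctor AddCommGrpCat.{u + 1} p)) := by
  haveI : HasColimitsOfSize.{u, u} AddCommGrpCat.{u + 1} := hasColimitsOfSizeShrink.{u, u, u + 1, u + 1} _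
  haveI : AB5OfSize.{u, u} AddCommGrpCat.{u + 1} := AB5OfSize_shrink.{u, u, u + 1, u + 1} _
  haveI : HasColimitsOfSize.{u, u} (Type (u + 1)) := hasColimitsOfSizeShrink.{u, u, u + 1, u + 1} _
  haveI : AB5OfSize.{u, u} (Type (u + 1)) := AB5OfSize_shrink.{u, u, u + 1, u + 1} _
  exact ⟨⟨preservesFiniteLimits_stalkEtFunctor _ X.property hp, preservesFiniteColimits_stalkEtFunctor _ X.property hp⟩,
    preservesFiniteLimits_stalkEtFunctor _ X.property hp, preservesFiniteColimits_stalkEtFunctor _ X.property hp⟩

end Groth.Agent.S10219
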