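import Groth.Statements.S10222
import Groth.Agent.AlgSpDec.ReducedStalk

set_option autoImplicit false
set_option backward.isDefEq.respectTransparency false
set_option backward.isDefEq.respectTransparency.types false
universe u
open CategoryTheory CategoryTheory.Limits AlgebraicGeometry Topology TopologicalSpace
open AlgSp

namespace Groth.Agent.S10222

/-- (1) if and only if (2): an algebraic space X over a scheme S is reduced if and only if at each x ∈
|X| the local ring of X is reduced, the latter meaning that for some scheme U, some representable
etale h_U ⟶ X and some point u of U mapping to x, the local ring of U at u is reduced. (The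
assertions about global sections in the published statement are not part of this row.) -/
theorem result {S : Scheme.{u}} (X : AlgSp.Space S) :
    AlgSp.IsReducedSp X.obj ↔
      ∀ x : AlgSp.Points X.obj, AlgSp.HasAt (fun U u => _root_.IsReduced ↥(U.presheaf.stalk u)) X.obj x := by

  open Groth.Agent.AlgSpDec Groth.Agent.AlgSpLib Groth.Agent.AlgSpPts in
  constructor
  · rintro ⟨U, p, hp, hs, hr⟩ x
    obtain ⟨u, rfl⟩ := surjective_ofPt hs x
    exact ⟨U, p, u, hp, rfl, inferInstance⟩
  · intro h
    obtain ⟨U, p, hp, hs⟩ := X.property.atlas
    have : ∀ u : ↥U.left, _root_.IsReduced (U.left.presheaf.stalk u) := fun u => by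
      obtain ⟨V, a, v, ha, hv, hr⟩ := h (AlgSp.Points.ofPt p u)
      exact isReduced_stalk_of_charts ha hp hv hr
    exact ⟨U, p, hp, hs, isReduced_of_isReduced_stalk U.left⟩

end Groth.Agent.S10222
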