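import Groth.Statements.S10224
import Groth.Agent.AlgSpDec.EtStalkProps

set_option autoImplicit false
set_option backward.isDefEq.respectTransparency false
set_option backward.isDefEq.respectTransparency.types false
universe u
open CategoryTheory CategoryTheory.Limits AlgebraicGeometry Topology TopologicalSpace
open AlgSp

namespace Groth.Agent.S10224

/-- Let X be an algebraic space over a scheme S, x̄ a geometric point of X lying over x ∈ |X|, and d ∈
{0, 1, 2, …, ∞}. Then the local ring of X at x has dimension d (that is, for some etale chart h_U ⟶
X and some point u of U over x the local ring of U at u has dimension d) if and only if the etale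
local ring of X at x̄ has dimension d. In particular the latter does not depend on the geometric
point over x. -/
theorem result {S : Scheme.{u}} (X : AlgSp.Space S) (p : AlgSp.FieldPt X.obj)
    (hp : p.IsGeometric) (d : ℕ∞) :
    AlgSp.HasAt (fun U u => ringKrullDim ↥(U.presheaf.stalk u) = (d : WithBot ℕ∞)) X.obj (AlgSp.Points.mk p) ↔
      ringKrullDim ↥(AlgSp.OEtStalk p) = (d : WithBot ℕ∞) := by

  open Groth.Agent.AlgSpDec.EtStalkProps in
  constructor
  · rintro ⟨U, a, u, ha, hu, hd⟩
    rw [ringKrullDim_eq X.property hp ha hu]
    exact hd
  · intro h
    obtain ⟨U, a, u, ha, hu⟩ := exists_chart_point X.property (AlgSp.Points.mk p)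
    exact ⟨U, a, u, ha, hu, (ringKrullDim_eq X.property hp ha hu).symm.trans h⟩

end Groth.Agent.S10224
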