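import Groth.Statements.S10226
import Groth.Agent.AlgSpDec.EtStalkProps
import Groth.Agent.AlgSpDec.Fibres

set_option autoImplicit false
set_option backward.isDefEq.respectTransparency false
set_option backward.isDefEq.respectTransparency.types false
universe u
open CategoryTheory CategoryTheory.Limits AlgebraicGeometry Topology TopologicalSpace
open AlgSp

namespace Groth.Agent.S10226

/-- Let X be a Noetherian algebraic space over a scheme S (quasi-compact, with quasi-compact diagonal
over S, and locally Noetherian) and x̄ a geometric point of X. Then the etale local ring of X at x̄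
is a Noetherian local ring. -/
theorem result {S : Scheme.{u}} (X : AlgSp.Space S)
    (hqc : AlgSp.IsQuasiCompactSp X.obj) (hqs : AlgSp.IsQuasiSeparatedSp X.obj) (hX : AlgSp.IsLocNoethSp X.obj)
    (p : AlgSp.FieldPt X.obj) (hp : p.IsGeometric) :
    IsNoetherianRing ↥(AlgSp.OEtStalk p) ∧ IsLocalRing ↥(AlgSp.OEtStalk p) := by

  open Groth.Agent.AlgSpDec.EtStalkProps in
  obtain ⟨U, a, u, ha, hu⟩ := exists_chart_point X.property (AlgSp.Points.mk p)
  have : IsLocallyNoetherian U.left := Groth.Agent.AlgSpDec.isLocallyNoetherian_chart ha hX
  exact ⟨(isNoetherianRing_iff X.property hp ha hu).2 inferInstance, (isStrictlyHenselian X.property hp).1⟩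

end Groth.Agent.S10226
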