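import Groth.Statements.S10227
import Groth.Agent.AlgSpDec.EtStalkBranches
import Groth.Agent.BrnchLib.Unibranch

set_option autoImplicit false
set_option backward.isDefEq.respectTransparency false
set_option backward.isDefEq.respectTransparency.types false
universe u
open CategoryTheory CategoryTheory.Limits AlgebraicGeometry Topology TopologicalSpace
open AlgSp

namespace Groth.Agent.S10227

/-- (1) ⇔ (4) ⇔ (5): let X be an algebraic space over a scheme S and x ∈ |X|. The following are
equivalent: for every scheme U, every etale h_U ⟶ X and every point u of U over x, the local ring of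
U at u has a unique minimal prime; for every such (U, u), the local ring of U at u is geometrically
unibranch; for every geometric point x̄ over x, the etale local ring of X at x̄ has a unique minimal
prime. -/
theorem result {S : Scheme.{u}} (X : AlgSp.Space S) (x : AlgSp.Points X.obj) :
    ((∀ (U : Over S) (a : (AlgSp.yon S).obj U ⟶ X.obj) (u : ↥U.left),
        AlgSp.RepWith @Etale a → AlgSp.Points.ofPt a u = x → CAlgX.HasUniqueMinimalPrime ↥(U.left.presheaf.stalk u)) ↔
      (∀ (U : Over S) (a : (AlgSp.yon S).obj U ⟶ X.obj) (u : ↥U.left),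
        AlgSp.RepWith @Etale a → AlgSp.Points.ofPt a u = x → CAlg2.IsGeomUnibranch ↥(U.left.presheaf.stalk u))) ∧
    ((∀ (U : Over S) (a : (AlgSp.yon S).obj U ⟶ X.obj) (u : ↥U.left),
        AlgSp.RepWith @Etale a → AlgSp.Points.ofPt a u = x → CAlgX.HasUniqueMinimalPrime ↥(U.left.presheaf.stalk u)) ↔
      ∀ p : AlgSp.FieldPt X.obj, p.IsGeometric → AlgSp.Points.mk p = x →
        CAlgX.HasUniqueMinimalPrime ↥(AlgSp.OEtStalk p)) := by

  open Groth.Agent.AlgSpDec.EtStalkBranches in
  obtain ⟨h14, h45⟩ := encard_eq_iff X.property x 1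
  have hpos : ∀ (A : Type u) [CommRing A] [Nontrivial A], 1 ≤ (minimalPrimes A).encard := fun A _ _ =>
    Set.one_le_encard_iff_nonempty.2
      (Set.nonempty_coe_sort.1 (Ideal.nonempty_minimalPrimes (bot_ne_top : (⊥ : Ideal A) ≠ ⊤)))
  have h1 : (∀ (U : Over S) (a : (AlgSp.yon S).obj U ⟶ X.obj) (u : ↥U.left),
        AlgSp.RepWith @Etale a → AlgSp.Points.ofPt a u = x → CAlgX.HasUniqueMinimalPrime ↥(U.left.presheaf.stalk u)) ↔
      ((∀ (U : Over S) (a : (AlgSp.yon S).obj U ⟶ X.obj) (u : ↥U.left),
        AlgSp.RepWith @Etale a → AlgSp.Points.ofPt a u = x → (minimalPrimes ↥(U.left.presheaf.stalk u)).encard ≤ (1 : ℕ)) ∧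
        AlgSp.HasAt (fun U u => (minimalPrimes ↥(U.presheaf.stalk u)).encard = (1 : ℕ)) X.obj x) := by
    constructor
    · intro h
      obtain ⟨U, a, u, ha, hu⟩ := Groth.Agent.AlgSpDec.EtStalkProps.exists_chart_point X.property x
      exact ⟨fun U a u ha hu => ((hasUniqueMinimalPrime_iff _).1 (h U a u ha hu)).le.trans_eq Nat.cast_one.symm,
        U, a, u, ha, hu, ((hasUniqueMinimalPrime_iff _).1 (h U a u ha hu)).trans Nat.cast_one.symm⟩
    · rintro ⟨h, -⟩ U a u ha hu
      exact (hasUniqueMinimalPrime_iff _).2 (le_antisymm ((h U a u ha hu).trans_eq Nat.cast_one) (hpos _))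
  refine ⟨(h1.trans h14).trans (forall₅_congr fun U a u _ _ => ?_), ((h1.trans h14).trans h45).trans
    (forall₃_congr fun p _ _ => ?_)⟩
  · rw [Brnch.numGeomBranchesAt, Nat.cast_one, Groth.Agent.BrnchLib.isGeomUnibranch_iff]
  · rw [Nat.cast_one]
    exact (hasUniqueMinimalPrime_iff _).symm

end Groth.Agent.S10227
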