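import Groth.Statements.S1023
import Groth.Agent.KFlatLib.Scheme.CohWindow
-- import your own Groth.Agent.* helpers here

set_option autoImplicit false
universe u
open CategoryTheory CategoryTheory.Limits AlgebraicGeometry Pretriangulated
attribute [local instance] HasDerivedCategory.standard
open Perf

namespace Groth.Agent.S1023

/-- Let the scheme X be quasi-compact and quasi-separated, P a perfect object of D(O_X), E ∈ D_QCoh(O_X)
and a ∈ ℤ. Then the morphisms P[-i] ⟶ E vanish for all sufficiently negative i if and only if the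
morphisms P[-i] ⟶ τ_{≤ a}E vanish for all sufficiently negative i. -/
theorem result (X : Scheme.{u}) [CompactSpace ↥X] [QuasiSeparatedSpace ↥X]
    (P : DCoh.D X) (hP : DCoh.IsPerfect P) (E : DCoh.D X) (hE : DCoh.IsQCohD E) (a : ℤ) :
    (∃ N : ℤ, ∀ i : ℤ, i ≤ N → ∀ φ : P⟦-i⟧ ⟶ E, φ = 0) ↔
    (∃ N : ℤ, ∀ i : ℤ, i ≤ N → ∀ φ : P⟦-i⟧ ⟶ ((DerivedCategory.TStructure.t : CategoryTheory.Triangulated.TStructure (DCoh.D X)).truncLE a).obj E, φ = 0) := by
  let t : Triangulated.TStructure (DCoh.D X) := DerivedCategory.TStructure.t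
  obtain ⟨d, hd⟩ := KFlatLib.Window.exists_window ((KFlatLib.isPerfect_iff _).1 hP)
  haveI hge : DerivedCategory.IsGE ((t.truncGE (a + 1)).obj E) (a + 1) := t.isGE_truncGE_obj E _ _ le_rfl
  have hT := t.triangleLTGE_distinguished (a + 1) E
  have hq := KFlatLib.Window.isQCohD_truncGE hE (a + 1)
  have hB : ∀ i : ℤ, i ≤ a - d → ∀ φ : P⟦-i⟧ ⟶ (t.truncGE (a + 1)).obj E, φ = 0 := fun i hi =>
    hd _ hq i fun j _ hj =>
      DerivedCategory.isZero_of_isGE ((t.truncGE (a + 1)).obj E) (a + 1) j (by omega)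
  have hB1 : ∀ i : ℤ, i ≤ a - d → ∀ φ : P⟦-i⟧ ⟶ ((t.truncGE (a + 1)).obj E)⟦(-1 : ℤ)⟧, φ = 0 :=
    fun i hi => hd _ (KFlatLib.isQCohD_shift hq (-1)) i fun j _ hj =>
      KFlatLib.Window.isZero_hd_shift _ (-1) j
        (DerivedCategory.isZero_of_isGE ((t.truncGE (a + 1)).obj E) (a + 1) _ (by omega))
  show _ ↔ ∃ N : ℤ, ∀ i : ℤ, i ≤ N → ∀ φ : P⟦-i⟧ ⟶ (t.truncLT (a + 1)).obj E, φ = 0
  constructor
  · rintro ⟨N, hN⟩
    refine ⟨min N (a - d), fun i hi φ => ?_⟩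
    obtain ⟨ψ, rfl⟩ := Triangle.coyoneda_exact₂ _ (inv_rot_of_distTriang _ hT) φ (hN i (by omega) _)
    exact (congrArg (· ≫ _) (hB1 i (by omega) ψ)).trans zero_comp
  · rintro ⟨N, hN⟩
    refine ⟨min N (a - d), fun i hi φ => ?_⟩
    obtain ⟨ψ, rfl⟩ := Triangle.coyoneda_exact₂ _ hT φ (hB i (by omega) _)
    exact (congrArg (· ≫ _) (hN i (by omega) ψ)).trans zero_comp

end Groth.Agent.S1023
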