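import Groth.Statements.S10233
import Groth.Agent.AlgSpDec.ImmSub13

set_option autoImplicit false
universe u
open CategoryTheory CategoryTheory.Limits AlgebraicGeometry Topology TopologicalSpace
open AlgSp

namespace Groth.Agent.S10233

/-- Let X be an algebraic space over a scheme S with a presentation (U, R, s, t, p), and let i' : Z' ⟶ U
be an immersion of schemes that is R-invariant, meaning that one locally closed subscheme R' of R is
at the same time the inverse image of Z' under s and under t. Then Z' descends to a locally closed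
subspace of X: there is a morphism of algebraic spaces i : Z ⟶ X representable by immersions
together with a map h_{Z'} ⟶ Z making h_{Z'} the fibre product Z ×_X h_U; moreover i is a closed
(resp. open) immersion when i' is. -/
theorem result {S : Scheme.{u}} (X : AlgSp.Space S) {R U : Over S} (s t : R ⟶ U)
    (p : (AlgSp.yon S).obj U ⟶ X.obj) (hp : AlgSp.IsPresentation s t p)
    {Z' R' : Scheme.{u}} (i' : Z' ⟶ U.left) [IsImmersion i'] (k : R' ⟶ R.left) (s' t' : R' ⟶ Z')
    (hs : IsPullback k s' s.left i') (ht : IsPullback k t' t.left i') :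
    ∃ (Z : AlgSp.Space S) (i : Z ⟶ X) (q : (AlgSp.yon S).obj (Over.mk (i' ≫ U.hom)) ⟶ Z.obj),
      AlgSp.RepWith @IsImmersion i.hom ∧
      IsPullback q ((AlgSp.yon S).map (Over.homMk i' rfl : Over.mk (i' ≫ U.hom) ⟶ U)) i.hom p ∧
      (IsClosedImmersion i' → AlgSp.RepWith @IsClosedImmersion i.hom) ∧
      (IsOpenImmersion i' → AlgSp.RepWith @IsOpenImmersion i.hom) := by
  let i : Over.mk (i' ≫ U.hom) ⟶ U := Over.homMk i' rfl
  haveI : IsImmersion i.left := inferInstanceAs (IsImmersion i')
  have hcompat : ∀ (T : Over S) (x y : T ⟶ U),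
      (AlgSp.yon S).map x ≫ p = (AlgSp.yon S).map y ≫ p → (∃ l, l ≫ i = x) → ∃ l, l ≫ i = y := by
    rintro T x y hxy ⟨l, hl⟩
    obtain ⟨r, hr₁, hr₂⟩ : ∃ r : T ⟶ R, r ≫ t = y ∧ r ≫ s = x := by
      refine ⟨(AlgSp.yon S).preimage (hp.isPullback.lift ((AlgSp.yon S).map y) ((AlgSp.yon S).map x) hxy.symm), ?_, ?_⟩ <;>
        apply (AlgSp.yon S).map_injective <;> simp
    have h1 : r.left ≫ s.left = l.left ≫ i' := by
      rw [← Over.comp_left, hr₂, ← hl]
      rfl
    let m := hs.lift r.left l.left h1
    have hm : (m ≫ t') ≫ i' = y.left := by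
      rw [Category.assoc, ← ht.w, ← Category.assoc, hs.lift_fst, ← Over.comp_left, hr₁]
    exact ⟨Over.homMk (m ≫ t') (by
      change (m ≫ t') ≫ i' ≫ U.hom = T.hom
      rw [← Category.assoc, hm]
      exact Over.w y), Over.OverMorphism.ext hm⟩
  obtain ⟨Z, j, q, hj, sq, -, -⟩ :=
    Groth.Agent.AlgSpDec.exists_immersed_subspace X.property hp.etale hp.surjective hcompat
  exact ⟨Z, ObjectProperty.homMk j, q, hj, sq, fun h =>
    Groth.Agent.AlgSpDec.repWith_isClosedImmersion_of_etale_cover hp.etale hp.surjective sq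
      ((AlgSp.repWith_yon_map_iff _ _).2 h), fun h =>
    Groth.Agent.AlgSpDec.repWith_isOpenImmersion_of_etale_cover hp.etale hp.surjective sq
      ((AlgSp.repWith_yon_map_iff _ _).2 h)⟩

end Groth.Agent.S10233
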