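import Groth.Statements.S10234
import Groth.Agent.AlgSpDec.PostcompSite

set_option autoImplicit false
universe u
open CategoryTheory CategoryTheory.Limits AlgebraicGeometry Topology TopologicalSpace
open AlgSp

namespace Groth.Agent.S10234

/-- Suppose f : X ⟶ Y is a morphism of algebraic spaces over a scheme S that is etale. Then the functor
j : X_etale ⟶ Y_etale, (U ⟶ X) ↦ (U ⟶ X ⟶ Y), is continuous and cocontinuous for the etale
topologies. (The identification of the associated morphism of topoi with f_small, and the resulting
formula for inverse images, are not part of this row.) -/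
theorem result {S : Scheme.{u}} {X Y : AlgSp.Space S} (f : X ⟶ Y)
    (hf : AlgSp.IsEtaleMor f.hom) :
    (AlgSp.EtOver.postcomp f.hom hf).IsContinuous (AlgSp.etTop X.obj) (AlgSp.etTop Y.obj) ∧
      (AlgSp.EtOver.postcomp f.hom hf).IsCocontinuous (AlgSp.etTop X.obj) (AlgSp.etTop Y.obj) := by
  exact ⟨Groth.Agent.AlgSpDec.PostcompSite.isContinuous f.hom hf, Groth.Agent.AlgSpDec.PostcompSite.isCocontinuous f.hom hf⟩

end Groth.Agent.S10234
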