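import Groth.Statements.S10235
import Groth.Agent.AlgSpDec.FinLocFreeQuot

set_option autoImplicit false
universe u
open CategoryTheory CategoryTheory.Limits AlgebraicGeometry Topology TopologicalSpace
open AlgSp

namespace Groth.Agent.S10235

set_option backward.isDefEq.respectTransparency false
set_option backward.isDefEq.respectTransparency.types false

/-- Let (U, R, s, t, c) be a groupoid scheme over a scheme S whose source and target maps s, t : R ⟶ U
are finite locally free and whose map j = (t, s) is an equivalence relation, and suppose that in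
each nonempty closed subset of U one can find a point u such that some affine open of U contains the
whole equivalence class t(s⁻¹{u}) of u. Then there are a scheme M over S and a finite locally free
morphism U ⟶ M over S such that the square with the two maps t, s : R ⟶ U over U ⟶ M is cartesian (R
= U ×_M U) and U ⟶ M exhibits h_M as the quotient of h_U by the pair h_R ⇉ h_U in the category of
fppf sheaves. -/
theorem result {S : Scheme.{u}} (G : Grpd.GroupoidScheme S)
    (hs : Mor2.IsFinLocFree G.s) (ht : Mor2.IsFinLocFree G.t)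
    (heq : AlgSp.IsEqvRel (Over.homMk G.s G.s_over : Over.mk G.pR ⟶ Over.mk G.pU) (Over.homMk G.t G.t_over : Over.mk G.pR ⟶ Over.mk G.pU))
    (h3 : ∀ Z : Set ↥G.U, IsClosed Z → Z.Nonempty →
      ∃ u ∈ Z, ∃ W : G.U.Opens, IsAffineOpen W ∧ ∀ r : ↥G.R, G.s r = u → G.t r ∈ W) :
    ∃ (M : Over S) (m : Over.mk G.pU ⟶ M), Mor2.IsFinLocFree m.left ∧ IsPullback G.t G.s m.left m.left ∧
      QuotSh.IsQuotient Scheme.fppfPrecoverage (Over.homMk G.s G.s_over : Over.mk G.pR ⟶ Over.mk G.pU) (Over.homMk G.t G.t_over : Over.mk G.pR ⟶ Over.mk G.pU) m := by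
  obtain ⟨M, m, h₁, -, h₂, h₃⟩ := Groth.Agent.AlgSpDec.FinLocFreeQuot.exists_quotient G hs heq h3
  exact ⟨M, m, h₁, h₂, h₃⟩

end Groth.Agent.S10235
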