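import Groth.Statements.S10238
import Groth.Agent.QCPull13.Space

set_option autoImplicit false
universe u
open CategoryTheory CategoryTheory.Limits AlgebraicGeometry Topology TopologicalSpace
open AlgSp

namespace Groth.Agent.S10238

/-- Let X be an algebraic space over a scheme S and F a quasi-coherent O_X-module on the small etale
site of X. Then for every affine scheme U and every etale map p : h_U ⟶ X the pullback p^*F is
quasi-coherent. -/
theorem result {S : Scheme.{u}} (X : AlgSp.Space S) (F : AlgSp.ModEt X.obj)
    (hF : F.IsQuasicoherent) {U : Over S} (hU : IsAffine U.left) (p : (AlgSp.yon S).obj U ⟶ X.obj)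
    (hrep : AlgSp.Representable p) (hp : AlgSp.RepWith @Etale p)
    [(SheafOfModules.pushforward.{u + 1} (AlgSp.bcRingHom hrep)).IsRightAdjoint] :
    ((AlgSp.pullModEt hrep).obj F).IsQuasicoherent := by
  obtain ⟨V, q, hq, hs⟩ := X.property.atlas
  exact Groth.Agent.QCPull13.isQuasicoherent_pullModEt hrep q hq hs F hF

end Groth.Agent.S10238
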