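import Groth.Statements.S10239
import Groth.Agent.AlgSpDec.EtStalkBranches

set_option autoImplicit false
set_option backward.isDefEq.respectTransparency false
set_option backward.isDefEq.respectTransparency.types false
universe u
open CategoryTheory CategoryTheory.Limits AlgebraicGeometry Topology TopologicalSpace
open AlgSp

namespace Groth.Agent.S10239

/-- (1) ⇔ (4) ⇔ (5): let X be an algebraic space over a scheme S, x ∈ |X| and n ≥ 1 an integer. The
following are equivalent: (1) for every scheme U, etale h_U ⟶ X and u ∈ U over x the local ring of U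
at u has at most n minimal primes, and for some such (U, u) exactly n; (4) for every such (U, u) the
number of geometric branches of U at u is n; (5) for every geometric point x̄ over x the etale local
ring of X at x̄ has exactly n minimal primes. -/
theorem result {S : Scheme.{u}} (X : AlgSp.Space S) (x : AlgSp.Points X.obj)
    (n : ℕ) (hn : 1 ≤ n) :
    (((∀ (U : Over S) (a : (AlgSp.yon S).obj U ⟶ X.obj) (u : ↥U.left),
        AlgSp.RepWith @Etale a → AlgSp.Points.ofPt a u = x → (minimalPrimes ↥(U.left.presheaf.stalk u)).encard ≤ n) ∧
        AlgSp.HasAt (fun U u => (minimalPrimes ↥(U.presheaf.stalk u)).encard = n) X.obj x) ↔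
      (∀ (U : Over S) (a : (AlgSp.yon S).obj U ⟶ X.obj) (u : ↥U.left),
        AlgSp.RepWith @Etale a → AlgSp.Points.ofPt a u = x → Brnch.numGeomBranchesAt U.left u = n)) ∧
    ((∀ (U : Over S) (a : (AlgSp.yon S).obj U ⟶ X.obj) (u : ↥U.left),
        AlgSp.RepWith @Etale a → AlgSp.Points.ofPt a u = x → Brnch.numGeomBranchesAt U.left u = n) ↔
      ∀ p : AlgSp.FieldPt X.obj, p.IsGeometric → AlgSp.Points.mk p = x →
        (minimalPrimes ↥(AlgSp.OEtStalk p)).encard = n) := by

  exact Groth.Agent.AlgSpDec.EtStalkBranches.encard_eq_iff X.property x n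

end Groth.Agent.S10239
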