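import Groth.Statements.S10242
import Groth.Agent.AlgSpDec.ReducedStalk
import Groth.Agent.AlgSpLib.Points

set_option autoImplicit false
set_option backward.isDefEq.respectTransparency false
set_option backward.isDefEq.respectTransparency.types false
universe u
open CategoryTheory CategoryTheory.Limits AlgebraicGeometry Topology TopologicalSpace
open AlgSp

namespace Groth.Agent.S10242

/-- Let X be a reduced algebraic space over a scheme S. Then the ring of global sections of the
structure sheaf of X (on the small etale site) is reduced, and if a global section f satisfies X =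
V(f), meaning that its restriction to every scheme U etale over X has empty non-vanishing locus
D(f|_U), then f = 0. -/
theorem result {S : Scheme.{u}} (X : AlgSp.Space S) (hX : AlgSp.IsReducedSp X.obj) :
    _root_.IsReduced ↥(AlgSp.gsectEt (AlgSp.OEt X.obj)) ∧
      ∀ f : ↥(AlgSp.gsectEt (AlgSp.OEt X.obj)),
        (∀ E : AlgSp.EtOver X.obj,
            E.obj.left.left.basicOpen ((limit.π (AlgSp.OEt X.obj).obj (Opposite.op E)) f).down = ⊥) →
          f = 0 := by
  obtain ⟨U, a, ha, has, hU⟩ := hX
  haveI : PreservesLimitsOfShape (EtOver X.obj)ᵒᵖ (CategoryTheory.forget CommRingCat.{u + 1}) := inferInstance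
  have hred : ∀ E : EtOver X.obj, _root_.AlgebraicGeometry.IsReduced E.obj.left.left := fun E => by
    haveI : ∀ x : ↥E.obj.left.left, _root_.IsReduced (E.obj.left.left.presheaf.stalk x) := fun x => by
      obtain ⟨v, hv⟩ := Groth.Agent.AlgSpLib.surjective_ofPt has (Points.ofPt E.obj.hom x)
      haveI : _root_.AlgebraicGeometry.IsReduced U.left := hU
      exact Groth.Agent.AlgSpDec.isReduced_stalk_of_charts ha E.property hv inferInstance
    exact isReduced_of_isReduced_stalk _
  have h0 : ∀ z : ↥(AlgSp.gsectEt (AlgSp.OEt X.obj)),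
      (∀ E, ((limit.π (AlgSp.OEt X.obj).obj (Opposite.op E)) z).down = 0) → z = 0 := fun z hz =>
    Concrete.limit_ext (AlgSp.OEt X.obj).obj _ _ fun ⟨E⟩ => by
      rw [map_zero]
      exact ULift.ext _ _ (hz E)
  refine ⟨⟨fun z hz => h0 z fun E => ?_⟩, fun f hf => h0 f fun E => ?_⟩
  · haveI : _root_.IsReduced Γ(E.obj.left.left, ⊤) := (hred E).component_reduced ⊤
    let ev : ↥(AlgSp.gsectEt (AlgSp.OEt X.obj)) →+* Γ(E.obj.left.left, ⊤) :=
      (ULift.ringEquiv : ULift.{u + 1} Γ(E.obj.left.left, ⊤) ≃+* _).toRingHom.comp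
        (limit.π (AlgSp.OEt X.obj).obj (Opposite.op E)).hom
    exact IsReduced.eq_zero (ev z) (hz.map ev)
  · haveI := hred E
    exact (basicOpen_eq_bot_iff (X := E.obj.left.left) _).1 (hf E)

end Groth.Agent.S10242
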