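import Groth.Statements.S10243
import Groth.Agent.AlgSpDec.EtPoint

set_option autoImplicit false
universe u
open CategoryTheory CategoryTheory.Limits AlgebraicGeometry Topology TopologicalSpace
open AlgSp

namespace Groth.Agent.S10243

/-- Let X be an algebraic space over a scheme S and x̄ a geometric point of X. The functor u : X_etale →
Sets sending U to the set of lifts of x̄ to U (the geometric points of U over x̄) defines a point of
the site X_etale; its associated stalk functor is F ↦ F_x̄. Here a point of the site is a fibre
functor whose category of elements is cofiltered and initially small and which is jointly surjective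
on covering sieves. -/
theorem result {S : Scheme.{u}} (X : AlgSp.Space S) (p : AlgSp.FieldPt X.obj)
    (hp : p.IsGeometric) :
    ∃ P : GrothendieckTopology.Point.{u} (AlgSp.etTop X.obj), P.fiber = AlgSp.FieldPt.liftsTo p := by
  exact ⟨Groth.Agent.AlgSpDec.EtPoint.point X.property p hp, rfl⟩

end Groth.Agent.S10243
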