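import Groth.Statements.S1025
import Groth.Agent.KFlatLib.Scheme.FibreEuler
import Groth.Agent.KFlatLib.Scheme.CohWindow
-- import your own Groth.Agent.* helpers here

set_option autoImplicit false
universe u
open CategoryTheory AlgebraicGeometry
open Perf

open Groth.Agent.KFlatLib

namespace Groth.Agent.S1025

/-- Let f : X ⟶ S be proper and of finite presentation and F an O_X-module of finite presentation which
is flat over S. For each i the function s ↦ dim_{κ(s)} Hⁱ(X_s, F_s) (cohomology of the pullback of F
to the scheme-theoretic fibre) is upper semicontinuous: for every n the set of points where it is <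
n is open. -/
theorem result {X S : Scheme.{u}} (f : X ⟶ S) [IsProper f] [LocallyOfFinitePresentation f]
    (F : X.Modules) (hF : CohB1.IsFP F) (hflat : FlatMod.IsFlatOver f F) (i n : ℕ) :
    IsOpen {s : S | PerfAux.betti f F s i < n} := by
  haveI := hasInjectiveResolutions_modules (X := X)
  exact FibreEuler.isOpen_fiberRank_lt hF hflat i n

end Groth.Agent.S1025
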