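import Groth.Statements.S10250
import Groth.Agent.AlgSpPts.Dim
-- import your own Groth.Agent.* helpers here

set_option autoImplicit false
universe u
open CategoryTheory CategoryTheory.Limits AlgebraicGeometry Topology TopologicalSpace
open AlgSp

namespace Groth.Agent.S10250

set_option backward.isDefEq.respectTransparency false
set_option backward.isDefEq.respectTransparency.types false

open AlgSp Groth.Agent.AlgSpLib Groth.Agent.AlgSpPts

/-- Let f : X ⟶ Y be an etale and surjective morphism of algebraic spaces over a scheme S. Then X and Y
have the same dimension (the dimension of an algebraic space being the supremum of the Krull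
dimensions of the schemes etale over it). -/
theorem result {S : Scheme.{u}} {X Y : AlgSp.Space S} (f : X ⟶ Y)
    (hf : AlgSp.IsEtaleMor f.hom) (hs : AlgSp.IsSurjectiveMor f.hom) :
    AlgSp.dim X.obj = AlgSp.dim Y.obj :=  by
  refine le_antisymm (dim_le_iff.2 fun U a ha u => coheight_le_dim (hf a ha) u) (dim_le_iff.2 fun V b hb v => ?_)
  obtain ⟨U, a₀, h, h1, h2, h3⟩ := exists_chart_over X.property Y.property f.hom b
  obtain ⟨c, hc⟩ := surjective_map_of_isPullback (IsPullback.of_hasPullback f.hom b) hs (Points.ofScheme V v)
  obtain ⟨w, rfl⟩ := surjective_ofPt h2 c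
  have hl : LocP @Etale (pullback.snd f.hom b) :=
    locP_of_isPullback (IsPullback.of_hasPullback f.hom b) X.property Y.property (IsAlgSpace.yon_obj V)
      ((isEtaleMor_iff_locP X.property Y.property f.hom).1 hf)
  have : Etale h.left := hl a₀ (𝟙 _) h h1 (repWith_id _ _) (by rw [Category.comp_id, h3])
  have hv : h.left w = v := by
    apply (Points.schemeHomeo V).injective
    refine Eq.trans ?_ hc
    rw [Points.map_ofPt, h3]
    refine Eq.trans ?_ (ofPt_comp h (𝟙 _) w).symm |>.trans (by rw [Category.comp_id])
    rfl
  rw [← hv, ← coheight_eq_of_etale]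
  exact coheight_le_dim (repWith_comp h1 (repWith_fst f.hom hb)) w


end Groth.Agent.S10250
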