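import Groth.Statements.S10251
import Groth.Agent.QCPull13.Space

set_option autoImplicit false
universe u
open CategoryTheory CategoryTheory.Limits AlgebraicGeometry Topology TopologicalSpace
open AlgSp

namespace Groth.Agent.S10251

/-- For a representable morphism: let f : X ⟶ Y be a representable morphism of algebraic spaces over a
scheme S and G a quasi-coherent O_Y-module on the small etale site of Y. Then the pullback f^*G is a
quasi-coherent O_X-module. (The published statement is for an arbitrary morphism of algebraic
spaces, with f^* defined through the sites of algebraic spaces etale over X and Y; this row takes f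
representable, where f^* is the left adjoint of the direct image V ↦ (V ×_Y X) on modules on the
small etale sites with scheme objects.) -/
theorem result {S : Scheme.{u}} {X Y : AlgSp.Space S} (f : X ⟶ Y)
    (hrep : AlgSp.Representable f.hom)
    [(SheafOfModules.pushforward.{u + 1} (AlgSp.bcRingHom hrep)).IsRightAdjoint]
    (G : AlgSp.ModEt Y.obj) (hG : G.IsQuasicoherent) :
    ((AlgSp.pullModEt hrep).obj G).IsQuasicoherent := by
  obtain ⟨U, p, hp, hs⟩ := Y.property.atlas
  exact Groth.Agent.QCPull13.isQuasicoherent_pullModEt hrep p hp hs G hG

end Groth.Agent.S10251
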