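import Groth.Statements.S10253
import Groth.Agent.ProjDescent13.Main

set_option autoImplicit false
set_option backward.isDefEq.respectTransparency false
set_option backward.isDefEq.respectTransparency.types false
universe u
open CategoryTheory CategoryTheory.Limits AlgebraicGeometry Topology TopologicalSpace
open AlgSp

namespace Groth.Agent.S10253

/-- (1) ⇒ (2): let X be an algebraic space over a scheme S and F a quasi-coherent O_X-module on the
small etale site of X. If for some scheme U and some surjective etale p : h_U ⟶ X the restriction of
F to the Zariski site of U (the quasi-coherent O_U-module G whose sections over an open W ⊆ U are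
those of p^*F over W ⟶ U) is locally projective, i.e. has projective modules of sections over all
affine opens of U, then for every scheme V and every etale q : h_V ⟶ X the restriction of F to the
Zariski site of V is locally projective in the same sense. -/
theorem result {S : Scheme.{u}} (X : AlgSp.Space S)
    (F : AlgSp.ModEt X.obj) (hF : F.IsQuasicoherent)
    {U : Over S} (p : (AlgSp.yon S).obj U ⟶ X.obj) (hrep : AlgSp.Representable p)
    (hp : AlgSp.RepWith @Etale p) (hs : AlgSp.RepWith @Surjective p)
    [(SheafOfModules.pushforward.{u + 1} (AlgSp.bcRingHom hrep)).IsRightAdjoint]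
    (G : U.left.Modules) [Coh.IsQCoh G]
    (c : AlgSp.ZarCompanion U.left G ((AlgSp.resSchModEt U).obj ((AlgSp.pullModEt hrep).obj F)))
    (hG : ∀ W : U.left.Opens, IsAffineOpen W →
      Module.Projective (U.left.ringCatSheaf.obj.obj (Opposite.op W)) (G.val.obj (Opposite.op W)))
    {V : Over S} (q : (AlgSp.yon S).obj V ⟶ X.obj) (hrepq : AlgSp.Representable q)
    (hq : AlgSp.RepWith @Etale q)
    [(SheafOfModules.pushforward.{u + 1} (AlgSp.bcRingHom hrepq)).IsRightAdjoint]
    (G' : V.left.Modules) [Coh.IsQCoh G']
    (c' : AlgSp.ZarCompanion V.left G' ((AlgSp.resSchModEt V).obj ((AlgSp.pullModEt hrepq).obj F)))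
    (W : V.left.Opens) (hW : IsAffineOpen W) :
    Module.Projective (V.left.ringCatSheaf.obj.obj (Opposite.op W)) (G'.val.obj (Opposite.op W)) := by
  haveI := hF
  exact ProjDescent13.projective_chart F p hp hrep G c hs hG q hq hrepq G' c' W hW

end Groth.Agent.S10253
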