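import Groth.Statements.S10256
import Groth.Agent.AlgSpDec.EtStalkAb

set_option autoImplicit false
set_option backward.isDefEq.respectTransparency false
set_option backward.isDefEq.respectTransparency.types false
universe u
open CategoryTheory CategoryTheory.Limits AlgebraicGeometry Topology TopologicalSpace
open AlgSp Groth.Agent.AlgSpDec Groth.Agent.AlgSpDec.EtStalkAb

namespace Groth.Agent.S10256

/-- Let X be an algebraic space over a scheme S, F an abelian sheaf on the small etale site of X and x ∈
|X|. Then x lies in the support of F, in the sense that the stalk F_x̄ is nonzero for some geometric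
point x̄ over x, if and only if x is the image of a point u of some U etale over X lying in the
support of some section σ ∈ F(U), i.e. such that σ does not restrict to zero on any V ⟶ U whose
image contains u. (The published definition of the support allows any, equivalently some, geometric
point over x; this row uses the existential form and does not assert that the two readings agree.) -/
theorem result {S : Scheme.{u}} (X : AlgSp.Space S) (F : AlgSp.AbEt X.obj)
    (x : AlgSp.Points X.obj) :
    (∃ p : AlgSp.FieldPt X.obj, p.IsGeometric ∧ AlgSp.Points.mk p = x ∧ ¬ IsZero (AlgSp.stalkEt p F)) ↔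
      ∃ (U : AlgSp.EtOver X.obj) (σ : ↥(F.obj.obj (Opposite.op U))) (u : ↥U.obj.left.left),
        AlgSp.Points.ofPt U.obj.hom u = x ∧
          ∀ (V : AlgSp.EtOver X.obj) (φ : V ⟶ U), (F.obj.map φ.op).hom σ = 0 →
            u ∉ Set.range (fun v => φ.hom.left.left v) := by
  constructor
  · rintro ⟨p, hp, rfl, h⟩
    obtain ⟨z, hz⟩ := not_isZero_iff.1 h
    obtain ⟨N, σ, rfl⟩ := exists_rep F X.property hp z
    refine ⟨N.1, σ, EtStalkElts.base p N, EtStalkElts.ofPt_base p N, fun V φ h0 hu => hz ?_⟩
    exact (stalkι_eq_zero_iff_mem F X.property hp N σ).2 ((mem_zeroLocus F).2 ⟨V, φ, h0, hu⟩)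
  · rintro ⟨U, σ, u, rfl, hσ⟩
    obtain ⟨p, hp, hpu⟩ := EtStalkProps.exists_geometric (Points.ofPt U.obj.hom u)
    obtain ⟨l, hl⟩ := EtStalkStrict.exists_nbhd X.property hp U.property hpu.symm
    refine ⟨p, hp, hpu, not_isZero_iff.2 ⟨(stalkEtι p F ⟨U, l⟩).hom σ, fun h0 => ?_⟩⟩
    obtain ⟨V, φ, h1, h2⟩ := (mem_zeroLocus F).1 ((stalkι_eq_zero_iff_mem F X.property hp ⟨U, l⟩ σ).1 h0)
    exact hσ V φ h1 (hl ▸ h2)

end Groth.Agent.S10256
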