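import Groth.Statements.S10257
import Groth.Agent.AlgSpDec.EtStalkProps

set_option autoImplicit false
set_option backward.isDefEq.respectTransparency false
set_option backward.isDefEq.respectTransparency.types false
universe u
open CategoryTheory CategoryTheory.Limits AlgebraicGeometry Topology TopologicalSpace
open AlgSp

namespace Groth.Agent.S10257

/-- Let X be an algebraic space over a scheme S and O' a sheaf of commutative rings on the small etale
site of X. Then the support of O', the set of points x ∈ |X| such that the stalk O'_x̄ is not the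
zero ring for some geometric point x̄ over x, is closed in |X|. (The published definition of the
support allows any, equivalently some, geometric point over x; this row uses the existential form
and does not assert that the two readings agree.) -/
theorem result {S : Scheme.{u}} (X : AlgSp.Space S)
    (O' : AlgSp.EtSh X.obj CommRingCat.{u + 1}) :
    IsClosed {x : AlgSp.Points X.obj |
      ∃ p : AlgSp.FieldPt X.obj, p.IsGeometric ∧ AlgSp.Points.mk p = x ∧ Nontrivial ↥(AlgSp.stalkEt p O')} := by
  rw [← isOpen_compl_iff, isOpen_iff_forall_mem_open]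
  intro x hx
  simp only [Set.mem_compl_iff, Set.mem_setOf_eq, not_exists, not_and] at hx
  obtain ⟨p, hp, hpx⟩ := Groth.Agent.AlgSpDec.EtStalkProps.exists_geometric x
  have hs : Subsingleton ↥(AlgSp.stalkEt p O') := not_nontrivial_iff_subsingleton.1 (hx p hp hpx)
  obtain ⟨N⟩ := Groth.Agent.AlgSpDec.exists_etNbhd p X.property hp
  haveI := Groth.Agent.AlgSpDec.isCofiltered_etNbhd p X.property hp
  haveI : PreservesFilteredColimitsOfSize.{u, u + 1} (CategoryTheory.forget CommRingCat.{u + 1}) :=
    preservesFilteredColimitsOfSize_shrink.{u + 1, u + 1, u, u + 1} _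
  have h10 : (stalkEtι p O' N).hom 1 = (stalkEtι p O' N).hom 0 := Subsingleton.elim _ _
  obtain ⟨⟨M⟩, f, g, hfg⟩ := (Concrete.colimit_rep_eq_iff_exists (stalkEtDiagram p O') _ _).1 h10
  have hM : (1 : O'.obj.obj (Opposite.op M.1)) = 0 :=
    ((map_one ((stalkEtDiagram p O').map f).hom).symm.trans hfg).trans (map_zero ((stalkEtDiagram p O').map g).hom)
  refine ⟨Set.range (Points.ofPt M.1.obj.hom), ?_, Groth.Agent.AlgSpLib.isOpenMap_ofPt M.1.property |>.isOpen_range,
    ⟨_, (Groth.Agent.AlgSpDec.EtStalkElts.ofPt_base p M).trans hpx⟩⟩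
  rintro y ⟨t, ht⟩ ⟨q, hq, hqy, hnt⟩
  obtain ⟨l, -⟩ := Groth.Agent.AlgSpDec.EtStalkStrict.exists_nbhd X.property hq M.1.property (ht.trans hqy.symm)
  have h1 := congrArg (stalkEtι q O' ⟨EtOver.mk M.1.obj.hom M.1.property, l⟩).hom hM
  exact zero_ne_one ((map_zero _).symm.trans (h1.symm.trans (map_one _)))

end Groth.Agent.S10257
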