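import Groth.Statements.S10260
import Groth.Agent.AlgSpDec.LqfScheme
-- import your own Groth.Agent.* helpers here

set_option autoImplicit false
universe u
open CategoryTheory CategoryTheory.Limits AlgebraicGeometry
open AlgSp

namespace Groth.Agent.S10260

/-- A locally quasi-finite separated morphism of algebraic spaces is representable by schemes. -/
theorem result {S : Scheme.{u}} {X Y : AlgSp.Space S} (f : X ⟶ Y)
    (hqf : AlgSp.LocP (@LocallyQuasiFinite ⊓ @LocallyOfFiniteType) f.hom) (hsep : AlgSp.IsSeparatedMor f.hom) :
    AlgSp.Representable f.hom := Groth.Agent.AlgSpDec.representable_of_lqf_separated X.property Y.property f.hom hqf hsep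

end Groth.Agent.S10260
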