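import Groth.Statements.S10261
import Groth.Agent.AlgSpPts.Sep
import Groth.Agent.AlgSpLib.FpqcDescent
-- import your own Groth.Agent.* helpers here

set_option autoImplicit false
universe u
open CategoryTheory CategoryTheory.Limits AlgebraicGeometry
open AlgSp

namespace Groth.Agent.S10261

set_option backward.isDefEq.respectTransparency false
set_option backward.isDefEq.respectTransparency.types false

open AlgSp Groth.Agent.AlgSpLib Groth.Agent.AlgSpPts

/-- An etale and universally injective morphism of algebraic spaces is an open immersion. -/
theorem result {S : Scheme.{u}} {X Y : AlgSp.Space S}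
    (f : X ⟶ Y) (het : AlgSp.IsEtaleMor f.hom) (hinj : AlgSp.IsUnivInjectiveMor f.hom) :
    AlgSp.RepWith @IsOpenImmersion f.hom :=  by
  obtain ⟨hr, d1, d2, d3, d4⟩ := diagonal_package X.property Y.property f.hom
  have hP := isAlgSpace_pullback X.property X.property Y.property f.hom f.hom
  have he := (isEtaleMor_iff_locP X.property Y.property _).1 het
  have hde : RepWith @Etale (pullback.diagonal f.hom) := by
    refine repWith_of_locP hP hr (locP_of_comp' (Q := @Etale) (fun a b hab hb => ?_) X.property
      (g := pullback.fst f.hom f.hom) (by rw [pullback.diagonal_fst]; exact locP_id _)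
      (locP_of_isPullback (IsPullback.of_hasPullback f.hom f.hom).flip X.property Y.property X.property he))
    have : Etale (a ≫ b) := hab
    have : Etale b := hb
    exact Etale.of_comp a b
  have hds : RepWith @Surjective (pullback.diagonal f.hom) := by
    refine repWith_surjective_of_surjective hr fun z => ⟨Points.map (pullback.fst f.hom f.hom) z, ?_⟩
    apply hinj X.property f.hom (pullback.snd f.hom f.hom) (pullback.fst f.hom f.hom)
      (IsPullback.of_hasPullback f.hom f.hom).flip
    rw [← Points.map_comp, pullback.diagonal_fst, Points.map_id]
  have := isLocallySurjective_of_etale_surjective hde hds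
  have := isIso_of_mono_of_locallySurjective (pullback.diagonal f.hom)
  have : Mono f.hom := (pullback.isIso_diagonal_iff f.hom).1 inferInstance
  exact repWith_isOpenImmersion_of_mono_of_etale X.property Y.property f.hom he


end Groth.Agent.S10261
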