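import Groth.Statements.S10265
import Groth.Agent.AlgSpPts.Descent
-- import your own Groth.Agent.* helpers here

set_option autoImplicit false
universe u
open CategoryTheory CategoryTheory.Limits AlgebraicGeometry
open AlgSp

namespace Groth.Agent.S10265

set_option backward.isDefEq.respectTransparency false
set_option backward.isDefEq.respectTransparency.types false

open AlgSp Groth.Agent.AlgSpLib Groth.Agent.AlgSpPts

/-- Whenever a morphism of algebraic spaces is etale, it is, etale locally on both source and target,
smooth, flat, unramified, locally quasi-finite, locally of finite type and locally of finite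
presentation. -/
theorem result {S : Scheme.{u}} {X Y : AlgSp.Space S} (f : X ⟶ Y) (hf : AlgSp.IsEtaleMor f.hom) :
    AlgSp.LocP (@LocallyQuasiFinite ⊓ @LocallyOfFiniteType) f.hom ∧ AlgSp.LocP @Smooth f.hom ∧
    AlgSp.LocP @Flat f.hom ∧ AlgSp.LocP @LocallyOfFinitePresentation f.hom ∧
    AlgSp.LocP @LocallyOfFiniteType f.hom ∧ AlgSp.LocP (@LocallyOfFiniteType ⊓ @FormallyUnramified) f.hom :=  by
  have h := (isEtaleMor_iff_locP X.property Y.property f.hom).1 hf
  refine ⟨locP_mono ?_ h, locP_mono ?_ h, locP_mono ?_ h, locP_mono ?_ h, locP_mono ?_ h, locP_mono ?_ h⟩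
  · exact fun _ _ g (_ : Etale g) => ⟨inferInstance, inferInstance⟩
  · exact fun _ _ g (_ : Etale g) => (inferInstance : Smooth g)
  · exact fun _ _ g (_ : Etale g) => (inferInstance : Flat g)
  · exact fun _ _ g (_ : Etale g) => (inferInstance : LocallyOfFinitePresentation g)
  · exact fun _ _ g (_ : Etale g) => (inferInstance : LocallyOfFiniteType g)
  · exact fun _ _ g (_ : Etale g) => ⟨inferInstance, inferInstance⟩


end Groth.Agent.S10265
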