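import Groth.Statements.S10266
import Groth.Agent.AlgSpPts.Misc
import Groth.Agent.AlgSpLib.EtLocalInst
-- import your own Groth.Agent.* helpers here

set_option autoImplicit false
universe u
open CategoryTheory CategoryTheory.Limits AlgebraicGeometry
open AlgSp

namespace Groth.Agent.S10266

set_option backward.isDefEq.respectTransparency false
set_option backward.isDefEq.respectTransparency.types false

open AlgSp Groth.Agent.AlgSpLib Groth.Agent.AlgSpPts

/-- A morphism of algebraic spaces that is locally of finite presentation, flat and unramified is etale. -/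
theorem result {S : Scheme.{u}} {X Y : AlgSp.Space S} (f : X ⟶ Y)
    (h1 : AlgSp.LocP @LocallyOfFinitePresentation f.hom) (h2 : AlgSp.LocP @Flat f.hom)
    (h3 : AlgSp.LocP (@LocallyOfFiniteType ⊓ @FormallyUnramified) f.hom) :
    AlgSp.IsEtaleMor f.hom :=  by
  rw [isEtaleMor_iff_locP X.property Y.property]
  intro U V a b h ha hb w
  exact Etale.iff_flat_and_formallyUnramified.2 ⟨h2 a b h ha hb w, (h3 a b h ha hb w).2, h1 a b h ha hb w⟩


end Groth.Agent.S10266
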