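import Groth.Statements.S10270
import Groth.Agent.AlgSpDec.AffineProps
-- import your own Groth.Agent.* helpers here

set_option autoImplicit false
universe u
open CategoryTheory CategoryTheory.Limits AlgebraicGeometry
open AlgSp

namespace Groth.Agent.S10270

/-- A morphism of algebraic spaces is integral if and only if it is affine and universally closed. -/
theorem result {S : Scheme.{u}} {X Y : AlgSp.Space S} (f : X ⟶ Y) :
    AlgSp.IsIntegralMor f.hom ↔ (AlgSp.IsAffineMor f.hom ∧ AlgSp.IsUnivClosedMor f.hom) := AlgSpDec.isIntegralMor_iff_affine_univClosed

end Groth.Agent.S10270
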