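import Groth.Statements.S10272
import Groth.Agent.AlgSpDec.AffineProps
-- import your own Groth.Agent.* helpers here

set_option autoImplicit false
universe u
open CategoryTheory CategoryTheory.Limits AlgebraicGeometry
open AlgSp

namespace Groth.Agent.S10272

/-- If g is separated and the composite of f and g is finite (resp. integral) then f is finite (resp.
integral). -/
theorem result {S : Scheme.{u}} {X Y Z : AlgSp.Space S} (f : X ⟶ Y) (g : Y ⟶ Z)
    (hg : AlgSp.IsSeparatedMor g.hom) :
    (AlgSp.IsFiniteMor (f ≫ g).hom → AlgSp.IsFiniteMor f.hom) ∧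
    (AlgSp.IsIntegralMor (f ≫ g).hom → AlgSp.IsIntegralMor f.hom) := by
  constructor
  · intro h
    refine AlgSpDec.isFiniteMor_iff_repWith.2 (AlgSpDec.repWith_of_postcomp (g := g.hom)
      (AlgSpLib.repWith_mono (fun _ _ e (_ : IsClosedImmersion e) => inferInstanceAs (IsFinite e)) _ hg) ?_)
    exact AlgSpDec.isFiniteMor_iff_repWith.1 h
  · intro h
    refine AlgSpDec.isIntegralMor_iff_repWith.2 (AlgSpDec.repWith_of_postcomp (g := g.hom)
      (AlgSpLib.repWith_mono (fun _ _ e (_ : IsClosedImmersion e) => inferInstanceAs (IsIntegralHom e)) _ hg) ?_)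
    exact AlgSpDec.isIntegralMor_iff_repWith.1 h

end Groth.Agent.S10272
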