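import Groth.Statements.S10273
import Groth.Agent.AlgSpPts.Sep
import Groth.Agent.AlgSpLib.LocalBaseTop
-- import your own Groth.Agent.* helpers here

set_option autoImplicit false
universe u
open CategoryTheory CategoryTheory.Limits AlgebraicGeometry
open AlgSp

namespace Groth.Agent.S10273

set_option backward.isDefEq.respectTransparency false
set_option backward.isDefEq.respectTransparency.types false

open AlgSp Groth.Agent.AlgSpLib Groth.Agent.AlgSpPts

/-- (1) ⇔ (3): properness of a morphism of algebraic spaces can be tested after base change to affine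
schemes over the target. -/
theorem result {S : Scheme.{u}} {X Y : AlgSp.Space S} (f : X ⟶ Y) :
    AlgSp.IsProperMor f.hom ↔
      ∀ (Z : Over S), IsAffine Z.left → ∀ (g : (AlgSp.yon S).obj Z ⟶ Y.obj) (P : AlgSp.Sp S) (fst : P ⟶ X.obj)
        (snd : P ⟶ (AlgSp.yon S).obj Z), IsPullback fst snd f.hom g → AlgSp.IsProperMor snd :=  by
  obtain ⟨ι, Z, g, hZ, hg⟩ := exists_affine_cover Y.property
  refine ⟨fun h Z _ g P fst snd sq =>
    isProperMor_of_isPullback sq X.property Y.property (IsAlgSpace.yon_obj Z) h, fun h => ?_⟩
  exact (isLocalOnBase_fpqc_isProperMor _ g Y.property (fun _ => IsAlgSpace.yon_obj _) hg f.hom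
    X.property _ _ _ (fun i => isAlgSpace_pullback X.property (IsAlgSpace.yon_obj (Z i)) Y.property f.hom (g i))
    fun i => IsPullback.of_hasPullback f.hom (g i)).2
    fun i => h (Z i) (hZ i) (g i) _ _ _ (IsPullback.of_hasPullback f.hom (g i))


end Groth.Agent.S10273
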