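import Groth.Statements.S10277
import Groth.Agent.AlgSpPts.Misc
import Groth.Agent.AlgSpLib.EtLocalInst
import Groth.Agent.S9936
import Groth.Agent.S9937
-- import your own Groth.Agent.* helpers here

set_option autoImplicit false
universe u
open CategoryTheory CategoryTheory.Limits AlgebraicGeometry
open AlgSp

namespace Groth.Agent.S10277

set_option backward.isDefEq.respectTransparency false
set_option backward.isDefEq.respectTransparency.types false

open AlgSp Groth.Agent.AlgSpLib Groth.Agent.AlgSpPts

/-- A closed immersion of algebraic spaces is proper. -/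
theorem result {S : Scheme.{u}} {X Y : AlgSp.Space S} (i : X ⟶ Y)
    (hi : AlgSp.RepWith @IsClosedImmersion i.hom) : AlgSp.IsProperMor i.hom :=  by
  refine ⟨?_, ⟨?_, ?_⟩, ?_⟩
  · exact Groth.Agent.S9937.result i hi
  · exact locP_of_repWith (repWith_mono (fun _ _ g (_ : IsClosedImmersion g) => (inferInstance : LocallyOfFiniteType g)) _ hi)
  · exact Groth.Agent.S9936.result i hi
  · exact univSp_of_repWith (fun _ _ _ h => isClosedMap_map h)
      (repWith_mono (fun _ _ g (_ : IsClosedImmersion g) => (inferInstance : UniversallyClosed g)) _ hi)


end Groth.Agent.S10277
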