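import Groth.Statements.S10278
import Groth.Agent.AlgSpPts.Sep
-- import your own Groth.Agent.* helpers here

set_option autoImplicit false
universe u
open CategoryTheory CategoryTheory.Limits AlgebraicGeometry
open AlgSp

namespace Groth.Agent.S10278

set_option backward.isDefEq.respectTransparency false
set_option backward.isDefEq.respectTransparency.types false

open AlgSp Groth.Agent.AlgSpLib Groth.Agent.AlgSpPts

/-- Over a separated Y -> B, a morphism X -> Y from a space universally closed (resp. proper) over B is
universally closed with closed image (resp. proper). -/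
theorem result {S : Scheme.{u}} {X Y B : AlgSp.Space S} (f : X ⟶ Y) (p : X ⟶ B)
    (q : Y ⟶ B) (comm : f ≫ q = p) (hq : AlgSp.IsSeparatedMor q.hom) :
    (AlgSp.IsUnivClosedMor p.hom →
      AlgSp.IsUnivClosedMor f.hom ∧ IsClosed (Set.range (AlgSp.Points.map f.hom))) ∧
    (AlgSp.IsProperMor p.hom → AlgSp.IsProperMor f.hom) :=  by
  have hΓ : (pullback.lift (𝟙 _) f.hom (by simp) : X.obj ⟶ pullback (f.hom ≫ q.hom) q.hom) ≫
      pullback.snd (f.hom ≫ q.hom) q.hom = f.hom := pullback.lift_snd _ _ _
  have hP := isAlgSpace_pullback X.property Y.property B.property (f.hom ≫ q.hom) q.hom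
  have hfq : f.hom ≫ q.hom = p.hom := congrArg (fun k : X ⟶ B => k.hom) comm
  have hpr := isProperMor_of_closedImmersion (graph_property (f := f.hom) hq)
  refine ⟨fun hc => ?_, fun hp => ?_⟩
  · have h1 : IsUnivClosedMor f.hom := by
      rw [← hΓ]
      rw [← hfq] at hc
      exact isUnivClosedMor_comp hP Y.property hpr.2.2
        (univSp_of_isPullback (IsPullback.of_hasPullback _ _) hc)
    exact ⟨h1, (h1 Y.property (𝟙 _) (𝟙 _) f.hom (IsPullback.of_horiz_isIso ⟨by simp⟩)).isClosed_range⟩
  · rw [← hΓ]
    rw [← hfq] at hp
    exact isProperMor_comp X.property hP Y.property hpr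
      (isProperMor_of_isPullback (IsPullback.of_hasPullback (f.hom ≫ q.hom) q.hom) X.property B.property Y.property hp)



end Groth.Agent.S10278
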