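import Groth.Statements.S10280
import Groth.Agent.AlgSpPts.Sep
import Groth.Agent.S9922
import Mathlib.AlgebraicGeometry.ZariskisMainTheorem
-- import your own Groth.Agent.* helpers here

set_option autoImplicit false
universe u
open CategoryTheory CategoryTheory.Limits AlgebraicGeometry
open AlgSp

namespace Groth.Agent.S10280

set_option backward.isDefEq.respectTransparency false
set_option backward.isDefEq.respectTransparency.types false

open AlgSp Groth.Agent.AlgSpLib Groth.Agent.AlgSpPts

/-- F is separated if and only if its diagonal is universally closed, if and only if its diagonal is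
proper. -/
theorem result {S : Scheme.{u}} {X Y : AlgSp.Space S} (f : X ⟶ Y) :
    (AlgSp.IsSeparatedMor f.hom ↔ AlgSp.IsUnivClosedMor (pullback.diagonal f.hom)) ∧
    (AlgSp.IsSeparatedMor f.hom ↔ AlgSp.IsProperMor (pullback.diagonal f.hom)) :=  by
  obtain ⟨hr, d1, d2, d3, d4⟩ := diagonal_package X.property Y.property f.hom
  have hback : IsUnivClosedMor (pullback.diagonal f.hom) → IsSeparatedMor f.hom := by
    intro h
    have hc := (Groth.Agent.S9922.result (X := ⟨X.obj, X.property⟩)
      (Y := ⟨_, isAlgSpace_pullback X.property X.property Y.property f.hom f.hom⟩)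
      (ObjectProperty.homMk (pullback.diagonal f.hom)) hr).2 h
    refine ⟨hr, fun U V g fst snd sq => ?_⟩
    have : LocallyOfFiniteType snd.left := d1.property g fst snd sq
    have : IsSeparated snd.left := d3.property g fst snd sq
    have : UniversallyClosed snd.left := hc.property g fst snd sq
    have : IsProper snd.left := IsProper.mk
    exact (IsClosedImmersion.iff_isProper_and_mono _).2 ⟨this, d4.property g fst snd sq⟩
  exact ⟨⟨fun h => (isProperMor_of_closedImmersion h).2.2, hback⟩,
    ⟨fun h => isProperMor_of_closedImmersion h, fun h => hback h.2.2⟩⟩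


end Groth.Agent.S10280
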