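import Groth.Statements.S9979
import Groth.Agent.AlgSpDec.SchImageChart
import Groth.Agent.AlgSpPts.Univ
import Groth.Agent.AlgSpVal.Basic
import Groth.Agent.S2121
-- import your own Groth.Agent.* helpers here

set_option autoImplicit false
universe u
open CategoryTheory CategoryTheory.Limits AlgebraicGeometry
open AlgSp

namespace Groth.Agent.S9979

set_option backward.isDefEq.respectTransparency false
set_option backward.isDefEq.respectTransparency.types false

open AlgSp Groth.Agent.AlgSpLib Groth.Agent.AlgSpPts Groth.Agent.AlgSpDec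

/-- Every point of the scheme theoretic image of a quasi-compact morphism is reached by a valuation ring
whose generic point lifts to the source. -/
theorem result {S : Scheme.{u}} {X Y Z : AlgSp.Space S} (f : X ⟶ Y) (i : Z ⟶ Y)
    (hq : AlgSp.IsQuasiCompactMor f.hom) (hZ : AlgSp.IsSchImage f.hom i.hom) (z : AlgSp.Points Z.obj) :
    ∃ (A : Type u) (_ : CommRing A) (_ : IsDomain A) (_ : ValuationRing A) (str : Spec (CommRingCat.of A) ⟶ S)
      (a : (AlgSp.yon S).obj (Over.mk str) ⟶ Z.obj)
      (x : (AlgSp.yon S).obj (Over.mk (Spec.map (CommRingCat.ofHom (algebraMap A (FractionRing A))) ≫ str)) ⟶ X.obj),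
      AlgSp.Points.ofPt a (IsLocalRing.closedPoint A) = z ∧
      x ≫ f.hom = (AlgSp.yon S).map (Over.homMk (Spec.map (CommRingCat.ofHom (algebraMap A (FractionRing A)))) rfl) ≫
        a ≫ i.hom := by
  obtain ⟨U, T, b, c, k, hb, hbs, hc, hcs, hk, hkq⟩ := exists_qc_chart X.property Y.property hq
  haveI := hkq
  have hker := schImage_chart X.property Y.property hb hbs hc hcs hk hZ
  obtain ⟨v, hv⟩ := surjective_ofPt hbs (Points.map i.hom z)
  let iU := hZ.1.rep.snd b
  let q := hZ.1.rep.fst b
  haveI : IsClosedImmersion iU.left := hZ.1.property_snd b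
  obtain ⟨w, hw, hwv⟩ := AlgSpPts.exists_lift (hZ.1.rep.isPullback b) hv.symm
  have hv' : v ∈ closure (Set.range k.left) := by
    have h1 : v ∈ (iU.left.ker.support : Set ↥U.left) := iU.left.range_subset_ker_support ⟨w, hwv⟩
    rw [hker, Scheme.Hom.support_ker] at h1
    exact h1
  obtain ⟨A, _, _, _, x, y, hxy, hy⟩ := Groth.Agent.S2121.result k.left v hv'
  let j := Spec.map (CommRingCat.ofHom (algebraMap A (FractionRing A)))
  have hj : j.ker = ⊥ := by
    haveI : IsDominant j := AlgSpVal.isDominant_generic (IsFractionRing.injective A (FractionRing A))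
    haveI : QuasiCompact j := inferInstance
    refine Scheme.IdealSheafData.support_eq_top_iff.1 ?_
    apply TopologicalSpace.Closeds.ext
    rw [Scheme.Hom.support_ker]
    exact j.denseRange.closure_eq
  have hyk : iU.left.ker ≤ y.ker := by
    rw [hker]
    refine (Scheme.Hom.le_ker_comp x k.left).trans (le_of_eq ?_)
    rw [hxy, Scheme.Hom.ker_comp, hj, Scheme.IdealSheafData.map_bot]
  let str : Spec (CommRingCat.of A) ⟶ S := y ≫ U.hom
  let yo : Over.mk str ⟶ U := Over.homMk y rfl
  obtain ⟨l, hl⟩ := (factor_iff_ker_le iU yo).2 hyk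
  let xo : Over.mk (j ≫ str) ⟶ T := Over.homMk x (by
    show x ≫ T.hom = j ≫ y ≫ U.hom
    rw [← Over.w k, reassoc_of% hxy])
  refine ⟨A, inferInstance, inferInstance, inferInstance, str, (yon S).map l ≫ q,
    (yon S).map xo ≫ c ≫ pullback.fst f.hom b, ?_, ?_⟩
  · have hw' : l.left (IsLocalRing.closedPoint A) = w := by
      refine iU.left.isEmbedding.injective ?_
      rw [hwv]
      refine Eq.trans ?_ hy
      exact ((Scheme.Hom.comp_apply l.left iU.left _).symm.trans
        (congrArg (fun g : (Over.mk str).left ⟶ U.left => g (IsLocalRing.closedPoint A)) (congrArg CommaMorphism.left hl)) :)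
    rw [ofPt_comp, hw']
    exact hw
  · rw [Category.assoc, Category.assoc, pullback.condition, reassoc_of% hk, Category.assoc, hZ.1.rep.w b,
      ← Functor.map_comp_assoc, ← Functor.map_comp_assoc, ← Functor.map_comp_assoc, Category.assoc, hl]
    congr 2
    exact Over.OverMorphism.ext hxy

end Groth.Agent.S9979
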