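import Groth.Statements.S10281
import Groth.Agent.S9979
import Groth.Agent.AlgSpPts.UnivClosed
import Groth.Agent.AlgSpPts.Sep

set_option autoImplicit false
universe u
open CategoryTheory CategoryTheory.Limits AlgebraicGeometry
open AlgSp

namespace Groth.Agent.S10281

set_option backward.isDefEq.respectTransparency false
set_option backward.isDefEq.respectTransparency.types false

open Groth.Agent.AlgSpLib Groth.Agent.AlgSpPts

/-- The scheme theoretic image of a space proper over B in a space separated and locally of finite type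
over B is proper over B, and the source surjects onto it. -/
theorem result {S : Scheme.{u}} {X Y Z B : AlgSp.Space S} (h : X ⟶ Y) (f : X ⟶ B)
    (g : Y ⟶ B) (comm : h ≫ g = f) (hf : AlgSp.IsProperMor f.hom) (hg : AlgSp.IsSeparatedMor g.hom)
    (hg' : AlgSp.LocP @LocallyOfFiniteType g.hom) (i : Z ⟶ Y) (hZ : AlgSp.IsSchImage h.hom i.hom)
    (h' : X ⟶ Z) (fac : h' ≫ i = h) :
    AlgSp.IsProperMor (i ≫ g).hom ∧ AlgSp.IsSurjectiveMor h'.hom := by
  have hhp : AlgSp.IsProperMor h.hom := by
    have hf' : AlgSp.IsProperMor (h.hom ≫ g.hom) := by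
      have : (h ≫ g).hom = h.hom ≫ g.hom := rfl
      rw [← this, comm]; exact hf
    have hP := isAlgSpace_pullback X.property Y.property B.property (h.hom ≫ g.hom) g.hom
    have := isProperMor_comp X.property hP Y.property
      (isProperMor_of_closedImmersion (graph_property (f := h.hom) hg))
      (isProperMor_of_isPullback (IsPullback.of_hasPullback (h.hom ≫ g.hom) g.hom) X.property B.property Y.property hf')
    rwa [pullback.lift_snd] at this
  have hc : IsClosed (Set.range (AlgSp.Points.map h.hom)) := by
    rw [← Set.image_univ]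
    exact hhp.2.2 Y.property (𝟙 _) (𝟙 _) h.hom (IsPullback.of_horiz_isIso ⟨by simp⟩) Set.univ isClosed_univ
  have fac' : h'.hom ≫ i.hom = h.hom := by
    have : (h' ≫ i).hom = h'.hom ≫ i.hom := rfl
    rw [← this, fac]
  have hsurj : AlgSp.IsSurjectiveMor h'.hom := by
    intro z
    obtain ⟨A, _, _, _, str, a, x, hz, hx⟩ := Groth.Agent.S9979.result h i hhp.2.1.2 hZ z
    let j := Spec.map (CommRingCat.ofHom (algebraMap A (FractionRing A)))
    let pt := IsLocalRing.closedPoint (FractionRing A)
    have h1 : AlgSp.Points.ofPt (a ≫ i.hom) (j pt) ∈ Set.range (AlgSp.Points.map h.hom) :=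
      ⟨AlgSp.Points.ofPt x pt, by rw [AlgSp.Points.map_ofPt, hx, ofPt_comp]; rfl⟩
    have h2 : (IsLocalRing.closedPoint A : ↥(Spec (CommRingCat.of A))) ∈
        AlgSp.Points.ofPt (a ≫ i.hom) ⁻¹' Set.range (AlgSp.Points.map h.hom) := by
      have hs : (j pt : ↥(Spec (CommRingCat.of A))) ⤳ IsLocalRing.closedPoint A :=
        IsLocalRing.specializes_closedPoint _
      exact hs.mem_closed (hc.preimage (AlgSp.Points.continuous_ofPt _)) h1
    obtain ⟨w, hw⟩ := h2
    refine ⟨w, injective_map (repWith_mono (fun _ _ m (hm : IsClosedImmersion m) => m.isEmbedding.injective) _ hZ.1) ?_⟩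
    rw [← AlgSp.Points.map_comp, fac', hw, ← AlgSp.Points.map_ofPt, hz]
  refine ⟨?_, hsurj⟩
  have hcl := isProperMor_of_closedImmersion hZ.1
  have hsep : AlgSp.IsSeparatedMor (i.hom ≫ g.hom) := isSeparatedMor_comp hcl.1 hg
  have hlft : AlgSp.LocP @LocallyOfFiniteType (i.hom ≫ g.hom) :=
    locP_comp Z.property Y.property B.property hcl.2.1.1 hg'
  have huc : AlgSp.IsUnivClosedMor (i.hom ≫ g.hom) := by
    intro T T' hT k fst snd sq A' hA'
    have hT' : AlgSp.IsAlgSpace T' := isAlgSpace_of_isPullback sq Z.property hT B.property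
    have sq' := IsPullback.of_hasPullback h'.hom fst
    have hs : Function.Surjective (AlgSp.Points.map (pullback.snd h'.hom fst)) :=
      surjective_map_of_isPullback sq' hsurj
    have hbig := sq'.paste_vert sq
    have hfh : h'.hom ≫ i.hom ≫ g.hom = f.hom := by
      rw [← Category.assoc, fac']
      have : (h ≫ g).hom = h.hom ≫ g.hom := rfl
      rw [← this, comm]
    rw [hfh] at hbig
    have := hf.2.2 hT k _ _ hbig _ (hA'.preimage (AlgSp.Points.continuous_map (pullback.snd h'.hom fst)))
    rwa [show AlgSp.Points.map (pullback.snd h'.hom fst ≫ snd) =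
        AlgSp.Points.map snd ∘ AlgSp.Points.map (pullback.snd h'.hom fst) from funext (AlgSp.Points.map_comp _ _),
      Set.image_comp, Set.image_preimage_eq _ hs] at this
  exact ⟨hsep, ⟨hlft, isQuasiCompactMor_of_univClosed Z.property B.property huc⟩, huc⟩

end Groth.Agent.S10281
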