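import Groth.Statements.S10287
import Groth.Agent.AlgSpVal.Basic
-- import your own Groth.Agent.* helpers here

set_option autoImplicit false
universe u
open CategoryTheory CategoryTheory.Limits AlgebraicGeometry
open AlgSp

namespace Groth.Agent.S10287

/-- The existence and uniqueness parts of the valuative criterion are stable under composition. -/
theorem result {S : Scheme.{u}} {X Y Z : AlgSp.Space S} (f : X ⟶ Y) (g : Y ⟶ Z) :
    (AlgSp.ExistVC f.hom → AlgSp.ExistVC g.hom → AlgSp.ExistVC (f ≫ g).hom) ∧
    (AlgSp.UniqVC f.hom → AlgSp.UniqVC g.hom → AlgSp.UniqVC (f ≫ g).hom) := ⟨Groth.Agent.AlgSpVal.existVC_comp, Groth.Agent.AlgSpVal.uniqVC_comp⟩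

end Groth.Agent.S10287
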