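import Groth.Statements.S1029
import Groth.Agent.KZ.SpecPerf
-- import your own Groth.Agent.* helpers here

set_option autoImplicit false
universe u
open CategoryTheory CategoryTheory.Limits AlgebraicGeometry
attribute [local instance] HasDerivedCategory.standard
open KZero

namespace Groth.Agent.S1029

/-- Let A be a ring and X = Spec A. There is an isomorphism from K₀(A) (free abelian group on finite
projective A-modules modulo short exact sequences of such) to K₀(X) = K₀(D_perf(O_X)) (free abelian
group on perfect objects of D(O_X) modulo distinguished triangles among them) sending the class of M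
to the class of M~ placed in degree 0. -/
theorem result (A : Type u) [CommRing A] :
    ∃ φ : KZero.K0sub (fun M : ModuleCat.{u} A => Module.Finite A M ∧ Module.Projective A M) ≃+
        KZero.K0tr (fun K : DCoh.D (Spec (CommRingCat.of A)) => DCoh.IsPerfect K),
      ∀ (M : ModuleCat.{u} A), Module.Finite A M → Module.Projective A M →
        φ (KZero.clSub (fun M : ModuleCat.{u} A => Module.Finite A M ∧ Module.Projective A M) M) =
          KZero.clTr (fun K : DCoh.D (Spec (CommRingCat.of A)) => DCoh.IsPerfect K) (DCoh.inD (Spec (CommRingCat.of A)) (tilde M)) := by
  exact Groth.Agent.KZ.exists_K0_spec A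

end Groth.Agent.S1029
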