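import Groth.Statements.S10294
import Groth.Agent.AlgSpDec.FinLocFree
import Groth.Agent.AlgSpDec.Fibres
-- import your own Groth.Agent.* helpers here

set_option autoImplicit false
universe u
open CategoryTheory CategoryTheory.Limits AlgebraicGeometry
open AlgSp

namespace Groth.Agent.S10294

/-- Finite locally free is the same as finite, flat and locally of finite presentation; over a locally
Noetherian target it is the same as finite and flat. -/
theorem result {S : Scheme.{u}} {X Y : AlgSp.Space S} (f : X ⟶ Y) :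
    (AlgSp.IsFinLocFreeMor f.hom ↔
      (AlgSp.IsFiniteMor f.hom ∧ AlgSp.LocP @Flat f.hom ∧ AlgSp.LocP @LocallyOfFinitePresentation f.hom)) ∧
    (AlgSp.IsLocNoethSp Y.obj →
      (AlgSp.IsFinLocFreeMor f.hom ↔ (AlgSp.IsFiniteMor f.hom ∧ AlgSp.LocP @Flat f.hom))) := by
  refine ⟨AlgSpDec.isFinLocFreeMor_iff Y.property, fun hN => ?_⟩
  rw [AlgSpDec.isFinLocFreeMor_iff Y.property]
  refine ⟨fun h => ⟨h.1, h.2.1⟩, fun h => ⟨h.1, h.2, fun U V a b g ha hb w => ?_⟩⟩
  have : IsLocallyNoetherian V.left := AlgSpDec.isLocallyNoetherian_chart hb hN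
  have := (AlgSpLib.locP_of_repWith (AlgSpLib.repWith_mono
    (Q := @LocallyOfFiniteType) (fun _ _ e (_ : IsFinite e) => inferInstanceAs (LocallyOfFiniteType e)) _
    (AlgSpDec.isFiniteMor_iff_repWith.1 h.1))) a b g ha hb w
  exact LocallyOfFinitePresentation.iff_locallyOfFiniteType.2 this

end Groth.Agent.S10294
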