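import Groth.Statements.S10296
import Groth.Agent.AlgSpDec.AffineProps
import Groth.Agent.AlgSpLib.AffineDescProps

set_option autoImplicit false
set_option backward.isDefEq.respectTransparency false
set_option backward.isDefEq.respectTransparency.types false
universe u
open CategoryTheory CategoryTheory.Limits AlgebraicGeometry
open AlgSp Groth.Agent.AlgSpDec Groth.Agent.AlgSpLib

namespace Groth.Agent.S10296

/-- The induced morphism from the normalization of X in Y to any integral Z -> X through which Y -> X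
factors is the normalization of Z in Y. -/
theorem result {S : Scheme.{u}} {Y X X' Z : AlgSp.Space S} (f : Y ⟶ X)
    (hqc : AlgSp.IsQuasiCompactMor f.hom) (hqs : AlgSp.IsQuasiSeparatedMor f.hom) (ν : X' ⟶ X) (f' : Y ⟶ X')
    (hn : AlgSp.IsRelNormalization f.hom ν.hom f'.hom) (π : Z ⟶ X) (hπ : AlgSp.IsIntegralMor π.hom) (g : Y ⟶ Z)
    (hg : g ≫ π = f) (h : X' ⟶ Z) (h1 : f' ≫ h = g) (h2 : h ≫ π = ν) :
    AlgSp.IsRelNormalization g.hom h.hom f'.hom := by
  obtain ⟨hnf, hνi, hu⟩ := hn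
  have e : ∀ {A B C : AlgSp.Space S} (p : A ⟶ B) (q : B ⟶ C), (p ≫ q).hom = p.hom ≫ q.hom := fun p q => rfl
  have e1 : f'.hom ≫ h.hom = g.hom := by rw [← e, h1]
  have e2 : h.hom ≫ π.hom = ν.hom := by rw [← e, h2]
  have eg : g.hom ≫ π.hom = f.hom := by rw [← e, hg]
  have hπs : IsSeparatedMor π.hom := isSeparatedMor_of_repWith
    (repWith_mono (fun _ _ x (_ : IsIntegralHom x) => inferInstanceAs (IsSeparated x)) _ (isIntegralMor_iff_repWith.1 hπ))
  refine ⟨e1, ?_, fun W hW π' g' hπ' hg' => ?_⟩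
  · refine isIntegralMor_iff_repWith.2 (repWith_of_postcomp (g := π.hom)
      (repWith_mono (fun _ _ x (_ : IsClosedImmersion x) => inferInstanceAs (IsIntegralHom x)) _ hπs) ?_)
    rw [e2]
    exact isIntegralMor_iff_repWith.1 hνi
  · have hc : IsIntegralMor (π' ≫ π.hom) :=
      isIntegralMor_iff_repWith.2 (repWith_comp (isIntegralMor_iff_repWith.1 hπ') (isIntegralMor_iff_repWith.1 hπ))
    obtain ⟨k, ⟨hk1, hk2⟩, huniq⟩ := hu hW (π' ≫ π.hom) g' hc (by rw [← Category.assoc, hg', eg])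
    obtain ⟨k', -, huniq'⟩ := hu Z.property π.hom g.hom hπ eg
    have hk : k ≫ π' = h.hom :=
      (huniq' (k ≫ π') ⟨by rw [← Category.assoc, hk1, hg'], by rw [Category.assoc, hk2]⟩).trans
        (huniq' h.hom ⟨e1, e2⟩).symm
    exact ⟨k, ⟨hk1, hk⟩, fun k₂ hk₂ => huniq k₂ ⟨hk₂.1, by rw [← Category.assoc, hk₂.2, e2]⟩⟩

end Groth.Agent.S10296
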