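import Groth.Statements.S10298
import Groth.Agent.AlgSpDec.SchemeNormalization

set_option autoImplicit false
universe u
open CategoryTheory CategoryTheory.Limits AlgebraicGeometry
open AlgSp

namespace Groth.Agent.S10298

/-- For a quasi-compact quasi-separated morphism of schemes, the relative normalization of schemes is
the normalization in the sense of algebraic spaces. -/
theorem result {S : Scheme.{u}} {V U N : Over S} (g : V ⟶ U)
    [QuasiCompact g.left] [QuasiSeparated g.left] (f' : V ⟶ N) (ν : N ⟶ U)
    (e : N.left ≅ g.left.normalization) (he1 : f'.left ≫ e.hom = g.left.toNormalization)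
    (he2 : e.hom ≫ g.left.fromNormalization = ν.left) :
    AlgSp.IsRelNormalization ((AlgSp.yon S).map g) ((AlgSp.yon S).map ν) ((AlgSp.yon S).map f') := by
  exact Groth.Agent.AlgSpDec.SchemeNormalization.isRelNormalization g f' ν e he1 he2

end Groth.Agent.S10298
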