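import Groth.Statements.S10299
import Groth.Agent.AlgSpDec.RelNorm.Finite

set_option autoImplicit false
universe u
open CategoryTheory CategoryTheory.Limits AlgebraicGeometry
open AlgSp

namespace Groth.Agent.S10299

/-- Over a Nagata algebraic space, the normalization of the target in a reduced source of finite type
and quasi-separated over it is finite. -/
theorem result {S : Scheme.{u}} {X Y Y' : AlgSp.Space S} (f : X ⟶ Y)
    (hY : AlgSp.EtaleLocally (fun U => ∀ V : U.Opens, IsAffineOpen V → CAlg.IsNagata ↑Γ(U, V)) Y.obj)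
    (hqs : AlgSp.IsQuasiSeparatedMor f.hom) (hft : AlgSp.IsFiniteTypeMor f.hom)
    (hX : AlgSp.EtaleLocally (fun U => IsReduced U) X.obj) (ν : Y' ⟶ Y) (f' : X ⟶ Y')
    (hn : AlgSp.IsRelNormalization f.hom ν.hom f'.hom) : AlgSp.IsFiniteMor ν.hom := by
  exact Groth.Agent.AlgSpDec.RelNorm.isFiniteMor_of_nagata Y.property X.property Y'.property hY hft.2 hft.1 hX hn

end Groth.Agent.S10299
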