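import Groth.Statements.S1030
import Groth.Agent.SiteBase.SplitResolution

set_option autoImplicit false
universe v u
open CategoryTheory CategoryTheory.Limits
open CohDer

namespace Groth.Agent.S1030

/-- Let P be a class of objects of an abelian category, closed under isomorphisms, which holds for some
zero object, is closed under binary direct sums, and such that every object is a quotient of an
object satisfying P. For any cochain complex K there are bounded above complexes Pₙ (n ≥ 0) with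
terms satisfying P, termwise surjective quasi-isomorphisms πₙ : Pₙ ⟶ τ_{≤ n}K and termwise split
injections ιₙ : Pₙ ⟶ Pₙ₊₁ whose cokernels satisfy P termwise, compatible in the sense that Pₙ ⟶
τ_{≤n}K ⟶ K equals Pₙ ⟶ Pₙ₊₁ ⟶ τ_{≤n+1}K ⟶ K. (The source indexes from 1.) -/
theorem result {A : Type u} [Category.{v} A] [Abelian A] (P : ObjectProperty A) [P.IsClosedUnderIsomorphisms]
    (hP0 : ∃ Z : A, IsZero Z ∧ P Z) (hPsum : ∀ X Y : A, P X → P Y → P (X ⊞ Y))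
    (hP : ∀ X : A, ∃ (Y : A) (π : Y ⟶ X), P Y ∧ Epi π) (K : CochainComplex A ℤ) :
    ∃ (Q : ℕ → CochainComplex A ℤ) (ι : ∀ n, Q n ⟶ Q (n + 1)) (π : ∀ n : ℕ, Q n ⟶ K.truncLE (n : ℤ)),
      (∀ n, QuasiIso (π n) ∧ ∀ i, Epi ((π n).f i)) ∧
      (∀ n, ∃ b : ℤ, (Q n).IsStrictlyLE b) ∧ (∀ n i, P ((Q n).X i)) ∧
      (∀ n i, (∃ r : (Q (n + 1)).X i ⟶ (Q n).X i, (ι n).f i ≫ r = 𝟙 _) ∧ P (cokernel ((ι n).f i))) ∧
      (∀ n : ℕ, π n ≫ K.ιTruncLE (n : ℤ) = ι n ≫ π (n + 1) ≫ K.ιTruncLE ((n + 1 : ℕ) : ℤ)) := by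
  obtain ⟨Z, hZ, hPZ⟩ := hP0
  have hG : Groth.Agent.SplitResolution.GoodClass P :=
    { of_iso := fun e h => P.prop_of_iso e h
      zero := fun hX => P.prop_of_iso (hZ.iso hX) hPZ
      biprod := fun hX hY => hPsum _ _ hX hY
      enough := hP }
  let T : ℕ → Type (max u v) := fun n => {S : Σ Q : CochainComplex A ℤ, Q ⟶ K.truncLE (n : ℤ) //
    (QuasiIso S.2 ∧ ∀ i, Epi (S.2.f i)) ∧ (∃ b : ℤ, S.1.IsStrictlyLE b) ∧ ∀ i, P (S.1.X i)}
  have h0 : Nonempty (T 0) := by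
    obtain ⟨Q, α, h1, h2, h3, h4⟩ := Groth.Agent.TriCat.exists_quasiIso_left_resolution P
      ⟨Z, hZ, hPZ⟩ hP (K.truncLE ((0 : ℕ) : ℤ)) ((0 : ℕ) : ℤ)
    exact ⟨⟨⟨Q, α⟩, ⟨h4, h3⟩, ⟨_, h1⟩, h2⟩⟩
  have hn : ∀ n (s : T n), ∃ (t : T (n + 1)) (j : s.1.1 ⟶ t.1.1),
      j ≫ t.1.2 = s.1.2 ≫ Groth.Agent.SplitResolution.truncMap K (n : ℤ) ((n + 1 : ℕ) : ℤ) (by omega) ∧
      ∀ i, ∃ r : t.1.1.X i ⟶ s.1.1.X i, j.f i ≫ r = 𝟙 _ ∧ P (cokernel (j.f i)) := by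
    intro n s
    obtain ⟨⟨Q, π⟩, hqe, ⟨b, hb⟩, hc⟩ := s
    obtain ⟨Q', j, π', b', hb', hc', hj, hq, he, hr⟩ := Groth.Agent.SplitResolution.exists_extend hG
      (π ≫ Groth.Agent.SplitResolution.truncMap K (n : ℤ) ((n + 1 : ℕ) : ℤ) (by omega))
      b ((n + 1 : ℕ) : ℤ) hc
    exact ⟨⟨⟨Q', π'⟩, ⟨hq, he⟩, ⟨b', hb'⟩, hc'⟩, j, hj, hr⟩
  choose next j hj hr using hn
  let s : ∀ n, T n := fun n => Nat.rec h0.some next n
  refine ⟨fun n => (s n).1.1, fun n => j n (s n), fun n => (s n).1.2, fun n => (s n).2.1,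
    fun n => (s n).2.2.1, fun n i => (s n).2.2.2 i, fun n i => ?_, fun n => ?_⟩
  · obtain ⟨r, h1, h2⟩ := hr n (s n) i
    exact ⟨⟨r, h1⟩, h2⟩
  · have := hj n (s n) =≫ K.ιTruncLE ((n + 1 : ℕ) : ℤ)
    rw [Category.assoc, Category.assoc, Groth.Agent.SplitResolution.truncMap_ι] at this
    exact this.symm

end Groth.Agent.S1030
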