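import Groth.Statements.S10302
import Groth.Agent.AlgSpPts.Dim
-- import your own Groth.Agent.* helpers here

set_option autoImplicit false
universe u
open CategoryTheory CategoryTheory.Limits AlgebraicGeometry
open AlgSp

namespace Groth.Agent.S10302

set_option backward.isDefEq.respectTransparency false
set_option backward.isDefEq.respectTransparency.types false

open AlgSp Groth.Agent.AlgSpLib Groth.Agent.AlgSpPts

/-- A flat morphism of algebraic spaces maps points of codimension 0 to points of codimension 0. -/
theorem result {S : Scheme.{u}} {X Y : AlgSp.Space S} (f : X ⟶ Y) (hf : AlgSp.LocP @Flat f.hom)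
    (x : AlgSp.Points X.obj) (hx : AlgSp.HasAt (fun U u => ringKrullDim ↥(U.presheaf.stalk u) = 0) X.obj x) :
    AlgSp.HasAt (fun U u => ringKrullDim ↥(U.presheaf.stalk u) = 0) Y.obj (AlgSp.Points.map f.hom x) :=  by
  obtain ⟨U₀, a₀, u₀, ha₀, h₀, hd⟩ := hx
  obtain ⟨U, V, a, b, h, u, ha, hb, hu, hv, hP⟩ := exists_chart_at X.property Y.property hf x
  refine ⟨V, b, h.left u, hb, hv, ?_⟩
  rw [ringKrullDim_stalk_eq_coheight] at hd ⊢
  have : Flat h.left := hP
  have h1 := coheight_le_of_flat h.left u
  rw [← coheight_eq_of_charts ha₀ ha (h₀.trans hu.symm)] at h1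
  have h2 : Order.coheight u₀ = 0 := by exact_mod_cast hd
  rw [h2, nonpos_iff_eq_zero] at h1
  exact_mod_cast h1


end Groth.Agent.S10302
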