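import Groth.Statements.S10303
import Groth.Agent.AlgSpDec.LocFinIrred
import Groth.Agent.AlgSpLib.EtLocalInst

set_option autoImplicit false
set_option backward.isDefEq.respectTransparency false
set_option backward.isDefEq.respectTransparency.types false
universe u
open CategoryTheory CategoryTheory.Limits AlgebraicGeometry
open AlgSp Groth.Agent Groth.Agent.AlgSpLib

namespace Groth.Agent.S10303

/-- If Y has an etale surjective chart whose quasi-compact opens have finitely many irreducible
components and f : X -> Y is flat and locally of finite type, then X has such a chart too. -/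
theorem result {S : Scheme.{u}} {X Y : AlgSp.Space S} (f : X ⟶ Y)
    (hf : AlgSp.LocP @Flat f.hom) (hf' : AlgSp.LocP @LocallyOfFiniteType f.hom)
    (hY : AlgSp.EtaleLocally (fun U => ∀ W : U.Opens, IsCompact (W : Set ↥U) → (irreducibleComponents ↥W).Finite) Y.obj) :
    AlgSp.EtaleLocally (fun U => ∀ W : U.Opens, IsCompact (W : Set ↥U) → (irreducibleComponents ↥W).Finite) X.obj := by
  obtain ⟨V, b, hb, hbs, hV⟩ := hY
  obtain ⟨U, a, ha, has⟩ := X.property.atlas
  let W := hb.rep.pullback (a ≫ f.hom)
  let π : W ⟶ U := hb.rep.snd (a ≫ f.hom)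
  let h : W ⟶ V := hb.rep.fst' (a ≫ f.hom)
  have sq := hb.rep.isPullback' (a ≫ f.hom)
  haveI : Etale π.left := hb.property_snd _
  haveI : Surjective π.left := hbs.property_snd _
  have ha' : RepWith @Etale ((yon S).map π ≫ a) :=
    repWith_comp ((repWith_yon_map_iff _ _).2 ‹Etale π.left›) ha
  have has' : RepWith @Surjective ((yon S).map π ≫ a) :=
    repWith_comp ((repWith_yon_map_iff _ _).2 ‹Surjective π.left›) has
  have hc : ((yon S).map π ≫ a) ≫ f.hom = (yon S).map h ≫ b := by rw [Category.assoc]; exact sq.w.symm
  haveI : Flat h.left := hf ((yon S).map π ≫ a) b h ha' hb hc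
  haveI : LocallyOfFiniteType h.left := hf' ((yon S).map π ≫ a) b h ha' hb hc
  exact ⟨W, (yon S).map π ≫ a, ha', has', AlgSpDec.LocFinIrred.finite_components_of_flat_lft h.left hV⟩

end Groth.Agent.S10303
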