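import Groth.Statements.S10304
import Groth.Agent.AlgSpDec.LocFinIrredTfae

set_option autoImplicit false
universe u
open CategoryTheory CategoryTheory.Limits AlgebraicGeometry
open AlgSp

namespace Groth.Agent.S10304

/-- Equivalent forms of the condition that the schemes etale over X have locally finitely many
irreducible components: one etale surjective chart, every etale chart, finiteness of codimension-0
points of quasi-compact spaces etale over X, finiteness of irreducible components of such spaces. -/
theorem result {S : Scheme.{u}} (X : AlgSp.Space S) :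
    (AlgSp.EtaleLocally (fun U => ∀ W : U.Opens, IsCompact (W : Set ↥U) → (irreducibleComponents ↥W).Finite) X.obj ↔
      ∀ (U : Over S) (a : (AlgSp.yon S).obj U ⟶ X.obj), AlgSp.RepWith @Etale a →
        ∀ W : U.left.Opens, IsCompact (W : Set ↥U.left) → (irreducibleComponents ↥W).Finite) ∧
    (AlgSp.EtaleLocally (fun U => ∀ W : U.Opens, IsCompact (W : Set ↥U) → (irreducibleComponents ↥W).Finite) X.obj ↔
      ∀ (Y : AlgSp.Space S) (g : Y ⟶ X), AlgSp.IsEtaleMor g.hom → AlgSp.IsQuasiCompactSp Y.obj →
        {y : AlgSp.Points Y.obj |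
          AlgSp.HasAt (fun U u => ringKrullDim ↥(U.presheaf.stalk u) = 0) Y.obj y}.Finite) ∧
    (AlgSp.EtaleLocally (fun U => ∀ W : U.Opens, IsCompact (W : Set ↥U) → (irreducibleComponents ↥W).Finite) X.obj ↔
      ∀ (Y : AlgSp.Space S) (g : Y ⟶ X), AlgSp.IsEtaleMor g.hom → AlgSp.IsQuasiCompactSp Y.obj →
        (irreducibleComponents (AlgSp.Points Y.obj)).Finite) := by
  open Groth.Agent.AlgSpDec.LocFinIrredTfae in
  exact ⟨⟨fun h U a ha => all_charts X h U a ha, fun h => by
      obtain ⟨U, a, ha, has⟩ := X.property.atlas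
      exact ⟨U, a, ha, has, h U a ha⟩⟩,
    ⟨fun h Y g hg hY => (qc_etale X h Y g hg hY).1, fun h => of_qc_etale X fun Y g hg hY => Or.inl (h Y g hg hY)⟩,
    ⟨fun h Y g hg hY => (qc_etale X h Y g hg hY).2, fun h => of_qc_etale X fun Y g hg hY => Or.inr (h Y g hg hY)⟩⟩

end Groth.Agent.S10304
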