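import Groth.Statements.S10307
import Groth.Agent.PushDense13.Cases

set_option autoImplicit false
universe u
open CategoryTheory CategoryTheory.Limits AlgebraicGeometry
open AlgSp

namespace Groth.Agent.S10307

/-- For an integral universally injective morphism f of algebraic spaces, f_* on small etale sites is
fully faithful on sheaves of sets and on abelian sheaves, and the counit from the pullback of the
pushforward to the identity is an isomorphism. (The description of the essential image is not
included here.) -/
theorem result {S : Scheme.{u}} {Y X : AlgSp.Space S} (f : Y ⟶ X)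
    (hi : AlgSp.RepWith @IsIntegralHom f.hom) (hu : AlgSp.IsUnivInjectiveMor f.hom) :
    ((AlgSp.pushEt hi.1 (Type (u + 1))).Full ∧ (AlgSp.pushEt hi.1 (Type (u + 1))).Faithful) ∧
    ((AlgSp.pushEt hi.1 AddCommGrpCat.{u + 1}).Full ∧ (AlgSp.pushEt hi.1 AddCommGrpCat.{u + 1}).Faithful) ∧
    IsIso (AlgSp.pullPushAdjEt hi.1 (Type (u + 1))).counit := by
  have hd := Groth.Agent.PushDense13.dense_of_integral_univInjective hi.1 X.property hi hu
  have he := Groth.Agent.PushDense13.emb_of_integral_univInjective hi.1 hi hu
  exact ⟨⟨Groth.Agent.PushDense13.full_pushEt hi.1 hd he _, Groth.Agent.PushDense13.faithful_pushEt hi.1 hd he _⟩,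
    ⟨Groth.Agent.PushDense13.full_pushEt hi.1 hd he _, Groth.Agent.PushDense13.faithful_pushEt hi.1 hd he _⟩,
    Groth.Agent.PushDense13.isIso_counit hi.1 hd he _⟩

end Groth.Agent.S10307
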