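import Groth.Statements.S10308
import Groth.Agent.AlgSpDec.RelDimSp

set_option autoImplicit false
universe u
open CategoryTheory CategoryTheory.Limits AlgebraicGeometry
open AlgSp

namespace Groth.Agent.S10308

/-- For f locally of finite type, the locus of points where the relative dimension of f is at most n is
open. -/
theorem result {S : Scheme.{u}} {X Y : AlgSp.Space S} (f : X ⟶ Y)
    (hf : AlgSp.LocP @LocallyOfFiniteType f.hom) (n : ℕ) :
    IsOpen {x : AlgSp.Points X.obj |
      AlgSp.HasAtMor (fun _ _ h u => FlatMor.fibreDimAt h u ≤ (n : WithBot ℕ∞)) f.hom x} := by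
  exact Groth.Agent.AlgSpDec.RelDimSp.isOpen_le hf n

end Groth.Agent.S10308
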