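import Groth.Statements.S10309
import Groth.Agent.AlgSpDec.RelDimSp
import Groth.Agent.S9355

set_option autoImplicit false
universe u
open CategoryTheory CategoryTheory.Limits AlgebraicGeometry
open AlgSp

namespace Groth.Agent.S10309

set_option backward.isDefEq.respectTransparency false
set_option backward.isDefEq.respectTransparency.types false

/-- For f locally of finite presentation, the locus where the relative dimension is at most n is
retrocompact in |X|. -/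
theorem result {S : Scheme.{u}} {X Y : AlgSp.Space S} (f : X ⟶ Y)
    (hf : AlgSp.LocP @LocallyOfFinitePresentation f.hom) (n : ℕ) (V : Set (AlgSp.Points X.obj))
    (hV : IsOpen V) (hVc : IsCompact V) :
    IsCompact (V ∩ {x : AlgSp.Points X.obj |
      AlgSp.HasAtMor (fun _ _ h u => FlatMor.fibreDimAt h u ≤ (n : WithBot ℕ∞)) f.hom x}) := by
  obtain ⟨U, W, a, b, h, ha, ha', hb, -, w⟩ :=
    Groth.Agent.AlgSpLib.exists_chart X.property Y.property f.hom
  haveI : LocallyOfFinitePresentation h.left := hf a b h ha hb w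
  have hl : AlgSp.LocP @LocallyOfFiniteType f.hom :=
    Groth.Agent.AlgSpLib.locP_mono (fun _ _ g (_ : LocallyOfFinitePresentation g) => inferInstanceAs (LocallyOfFiniteType g)) hf
  have hcov : V ⊆ ⋃ A : U.left.affineOpens, AlgSp.Points.ofPt a '' ((A : U.left.Opens) : Set U.left) := by
    intro x _
    obtain ⟨u, rfl⟩ := Groth.Agent.AlgSpLib.surjective_ofPt ha' x
    obtain ⟨A, hA, huA, -⟩ := exists_isAffineOpen_mem_and_subset (x := u) (U := ⊤) trivial
    exact Set.mem_iUnion.2 ⟨⟨A, hA⟩, u, huA, rfl⟩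
  obtain ⟨t, ht⟩ := hVc.elim_finite_subcover _
    (fun A : U.left.affineOpens => Groth.Agent.AlgSpLib.isOpenMap_ofPt ha _ A.1.isOpen) hcov
  let W₀ : Set U.left := AlgSp.Points.ofPt a ⁻¹' V
  have hW₀ : IsOpen W₀ := hV.preimage (AlgSp.Points.continuous_ofPt a)
  let A₀ : Set U.left := ⋃ A ∈ t, ((A : U.left.Opens) : Set U.left)
  have hA₀ : IsCompact A₀ := t.finite_toSet.isCompact_biUnion fun A _ => A.2.isCompact
  have hsub : V ⊆ AlgSp.Points.ofPt a '' A₀ := fun x hx => by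
    obtain ⟨A, hA, u, hu, rfl⟩ := Set.mem_iUnion₂.1 (ht hx)
    exact ⟨u, Set.mem_iUnion₂.2 ⟨A, hA, hu⟩, rfl⟩
  obtain ⟨C, hC, hCo, hCW, hVC⟩ : ∃ C : Set U.left, IsCompact C ∧ IsOpen C ∧ C ⊆ W₀ ∧ V ⊆ AlgSp.Points.ofPt a '' C := by
    have hcov' : V ⊆ ⋃ O : {O : U.left.affineOpens // ((O : U.left.Opens) : Set U.left) ⊆ W₀},
        AlgSp.Points.ofPt a '' ((O.1 : U.left.Opens) : Set U.left) := by
      intro x hx
      obtain ⟨u, -, rfl⟩ := hsub hx
      obtain ⟨A, hA, huA, hAW⟩ := exists_isAffineOpen_mem_and_subset (x := u) (U := ⟨W₀, hW₀⟩) hx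
      exact Set.mem_iUnion.2 ⟨⟨⟨A, hA⟩, hAW⟩, u, huA, rfl⟩
    obtain ⟨t', ht'⟩ := hVc.elim_finite_subcover _
      (fun O : {O : U.left.affineOpens // ((O : U.left.Opens) : Set U.left) ⊆ W₀} =>
        Groth.Agent.AlgSpLib.isOpenMap_ofPt ha _ O.1.1.isOpen) hcov'
    refine ⟨⋃ O ∈ t', ((O.1 : U.left.Opens) : Set U.left), t'.finite_toSet.isCompact_biUnion fun O _ => O.1.2.isCompact,
      isOpen_biUnion fun O _ => O.1.1.isOpen, Set.iUnion₂_subset fun O _ => O.2, fun x hx => ?_⟩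
    obtain ⟨O, hO, u, hu, rfl⟩ := Set.mem_iUnion₂.1 (ht' hx)
    exact ⟨u, Set.mem_iUnion₂.2 ⟨O, hO, hu⟩, rfl⟩
  have hcomp := ((Groth.Agent.S9355.result h.left n) hC hCo).image (AlgSp.Points.continuous_ofPt a)
  convert hcomp using 1
  ext x
  constructor
  · rintro ⟨hx, U', W', a', b', h', u', ha', hb', w', hx', hu'⟩
    obtain ⟨u, hu, rfl⟩ := hVC hx
    refine ⟨u, ⟨?_, hu⟩, rfl⟩
    show FlatMor.fibreDimAt h.left u ≤ n
    rw [Groth.Agent.AlgSpDec.RelDimSp.fibreDimAt_congr hl ha hb w ha' hb' w' hx'.symm]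
    exact hu'
  · rintro ⟨u, ⟨hu, huC⟩, rfl⟩
    exact ⟨hCW huC, U, W, a, b, h, u, ha, hb, w, rfl, hu⟩

end Groth.Agent.S10309
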