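import Groth.Statements.S1031
import Groth.Agent.TriCat.EnvelopeProducts

set_option autoImplicit false
universe v u
open CategoryTheory
open CohDer

namespace Groth.Agent.S1031

/-- Let D be a triangulated category admitting a strong generator G (every object is reached from G by
shifts, finite sums, summands and a uniformly bounded number of extensions). Then every classical
generator E of D (every object reached from E with some finite number of extensions) is itself a
strong generator. -/
theorem result {D : Type u} [Category.{v} D] [Preadditive D] [Limits.HasZeroObject D] [HasShift D ℤ]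
    [∀ n : ℤ, (shiftFunctor D n).Additive] [Pretriangulated D] [IsTriangulated D]
    (G E : D) (hG : ObjectProperty.IsStrongTriangulatedGenerator (fun X : D => X = G))
    (hE : ObjectProperty.IsClassicalTriangulatedGenerator (fun X : D => X = E)) :
    ObjectProperty.IsStrongTriangulatedGenerator (fun X : D => X = E) := by
  obtain ⟨n, hn⟩ := hG
  have hG' : ObjectProperty.triangEnvelope (fun X : D => X = E) G := by
    rw [show ObjectProperty.triangEnvelope (fun X : D => X = E) = ⊤ from hE]; trivial
  obtain ⟨m, hm⟩ := (ObjectProperty.prop_triangEnvelope_iff _ G).1 hG'
  obtain ⟨N, hN⟩ := Groth.Agent.TriCat.exists_triangEnvelopeIter_le (fun X : D => X = G)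
    (fun X : D => X = E) m (fun X hX => hX ▸ hm) n
  exact ⟨N, top_unique (hn ▸ hN)⟩

end Groth.Agent.S1031
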