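import Groth.Statements.S10312
import Groth.Agent.AlgSpDec.PointLocusInst
import Groth.Agent.AlgSpPts.Misc

set_option autoImplicit false
universe u
open CategoryTheory CategoryTheory.Limits AlgebraicGeometry
open AlgSp

namespace Groth.Agent.S10312

set_option backward.isDefEq.respectTransparency false
set_option backward.isDefEq.respectTransparency.types false

/-- For X -> Y over Z with X -> Z locally of finite type, the locus where X -> Y is unramified is an
open subset of |X| whose formation commutes with base change along any Z' -> Z. -/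
theorem result {S : Scheme.{u}} {X Y Z Z' Y' X' : AlgSp.Space S} (f : X ⟶ Y)
    (p : X ⟶ Z) (q : Y ⟶ Z) (comm : f ≫ q = p) (hp : AlgSp.LocP @LocallyOfFiniteType p.hom) (g : Z' ⟶ Z)
    (a : Y' ⟶ Y) (q' : Y' ⟶ Z') (sq1 : IsPullback a.hom q'.hom q.hom g.hom)
    (b : X' ⟶ X) (f' : X' ⟶ Y') (sq2 : IsPullback b.hom f'.hom f.hom a.hom) :
    IsOpen {x : AlgSp.Points X.obj | AlgSp.HasAtMor (fun U _ h u => ∃ W : U.Opens, u ∈ W ∧ LocallyOfFiniteType (W.ι ≫ h) ∧ FormallyUnramified (W.ι ≫ h)) f.hom x} ∧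
    {x' : AlgSp.Points X'.obj | AlgSp.HasAtMor (fun U _ h u => ∃ W : U.Opens, u ∈ W ∧ LocallyOfFiniteType (W.ι ≫ h) ∧ FormallyUnramified (W.ι ≫ h)) f'.hom x'} =
      AlgSp.Points.map b.hom ⁻¹' {x : AlgSp.Points X.obj | AlgSp.HasAtMor (fun U _ h u => ∃ W : U.Opens, u ∈ W ∧ LocallyOfFiniteType (W.ι ≫ h) ∧ FormallyUnramified (W.ι ≫ h)) f.hom x} := by
  have hfl : AlgSp.LocP @LocallyOfFiniteType f.hom := by
    have hp' : AlgSp.LocP @LocallyOfFiniteType (f.hom ≫ q.hom) := by
      have e : (f ≫ q).hom = f.hom ≫ q.hom := rfl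
      rw [← e, comm]; exact hp
    exact Groth.Agent.AlgSpPts.locP_of_comp (P := @LocallyOfFiniteType)
      (fun f g h => by haveI := h; exact locallyOfFiniteType_of_comp f g) Z.property hp'
  have hfl' : AlgSp.LocP @LocallyOfFiniteType f'.hom :=
    Groth.Agent.AlgSpLib.locP_of_isPullback sq2 X.property Y.property Y'.property hfl
  have key : ∀ {A B : AlgSp.Sp S} (φ : A ⟶ B), AlgSp.LocP @LocallyOfFiniteType φ → ∀ x : AlgSp.Points A,
      (AlgSp.HasAtMor (fun U _ h u => ∃ W : U.Opens, u ∈ W ∧ LocallyOfFiniteType (W.ι ≫ h) ∧ FormallyUnramified (W.ι ≫ h)) φ x ↔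
        Groth.Agent.AlgSpDec.PointLocus.At (fun {_ _} h u => Groth.Agent.MorLib.UnrLocus.Loc h u) φ x) := by
    intro A B φ hφ x
    constructor
    · rintro ⟨U, V, a, b, h, u, ha, hb, w, hu, W, hW, -, h2⟩
      exact ⟨U, V, a, b, h, u, ha, hb, w, hu, W, hW, h2⟩
    · rintro ⟨U, V, a, b, h, u, ha, hb, w, hu, W, hW, h2⟩
      haveI : LocallyOfFiniteType h.left := hφ a b h ha hb w
      exact ⟨U, V, a, b, h, u, ha, hb, w, hu, W, hW, inferInstance, h2⟩
  refine ⟨?_, ?_⟩
  · convert Groth.Agent.AlgSpDec.PointLocus.isOpen_at Groth.Agent.AlgSpDec.PointLocus.ptProp_unram hfl using 1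
    exact Set.ext fun x => key f.hom hfl x
  · ext x'
    simp only [Set.mem_preimage, Set.mem_setOf_eq]
    rw [key f'.hom hfl', key f.hom hfl]
    exact Groth.Agent.AlgSpDec.PointLocus.at_baseChange_iff Groth.Agent.AlgSpDec.PointLocus.ptProp_unram sq2
      X.property Y.property Y'.property hfl x'

end Groth.Agent.S10312
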