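import Groth.Statements.S10314
import Groth.Agent.AlgSpDec.SmoothLocDim
import Groth.Agent.AlgSpDec.RelDimSp
import Groth.Agent.AlgSpDec.Fibres

set_option autoImplicit false
universe u
open CategoryTheory CategoryTheory.Limits AlgebraicGeometry
open AlgSp

namespace Groth.Agent.S10314

/-- For a flat morphism locally of finite type of relative dimension d between locally Noetherian
algebraic spaces, the dimension of X at a point equals the dimension of Y at the image point plus d. -/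
theorem result {S : Scheme.{u}} {X Y : AlgSp.Space S} (f : X ⟶ Y)
    (hX : AlgSp.IsLocNoethSp X.obj) (hY : AlgSp.IsLocNoethSp Y.obj) (hf : AlgSp.LocP @Flat f.hom)
    (hf' : AlgSp.LocP @LocallyOfFiniteType f.hom) (d : ℕ)
    (hd : ∀ x : AlgSp.Points X.obj, AlgSp.HasAtMor (fun _ _ h u => FlatMor.fibreDimAt h u = (d : WithBot ℕ∞)) f.hom x)
    (x : AlgSp.Points X.obj) (dX dY : WithBot ℕ∞) (hx : AlgSp.HasAt (fun U u => FlatMor.localDim ↥U u = dX) X.obj x)
    (hy : AlgSp.HasAt (fun U u => FlatMor.localDim ↥U u = dY) Y.obj (AlgSp.Points.map f.hom x)) :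
    dX = dY + (d : WithBot ℕ∞) := by
  obtain ⟨U, a, u, ha, hu, hdX⟩ := hx
  obtain ⟨V₀, b₀, v₀, hb₀, hv₀, hdY⟩ := hy
  obtain ⟨U', V, a', b, h, hua, hsa, hb, -, w⟩ := Groth.Agent.AlgSpLib.exists_chart X.property Y.property f.hom
  obtain ⟨u', hu'⟩ := Groth.Agent.AlgSpLib.surjective_ofPt hsa x
  haveI : Flat h.left := hf a' b h hua hb w
  haveI : LocallyOfFiniteType h.left := hf' a' b h hua hb w
  haveI : IsLocallyNoetherian U'.left := Groth.Agent.AlgSpDec.isLocallyNoetherian_chart hua hX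
  haveI : IsLocallyNoetherian V.left := Groth.Agent.AlgSpDec.isLocallyNoetherian_chart hb hY
  have hrel : Cyc.HasRelDim h.left d := by
    refine (Groth.Agent.CycLib.hasRelDim_iff h.left).2 fun z hz => ?_
    obtain ⟨U₁, V₁, a₁, b₁, h₁, u₁, ha₁, hb₁, w₁, hx₁, hh₁⟩ := hd (AlgSp.Points.ofPt a' z)
    have := Groth.Agent.AlgSpDec.RelDimSp.fibreDimAt_congr hf' hua hb w ha₁ hb₁ w₁ hx₁.symm
    rw [hh₁, Groth.Agent.FibDim.fibreDimAt_eq_rd h.left hz] at this
    exact_mod_cast this
  have hv : AlgSp.Points.ofPt b (h.left u') = AlgSp.Points.map f.hom x := by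
    rw [← hu', AlgSp.Points.map_ofPt, w, Groth.Agent.AlgSpLib.ofPt_comp]
  rw [← hdX, ← hdY, Groth.Agent.S10249.localDim_eq_of_charts ha hua (hu.trans hu'.symm),
    Groth.Agent.S10249.localDim_eq_of_charts hb₀ hb (hv₀.trans hv.symm)]
  exact Groth.Agent.FibDim.localDim_eq_add h.left hrel u'

end Groth.Agent.S10314
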