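import Groth.Statements.S10316
import Groth.Agent.AlgSpDec.ResTrdeg

set_option autoImplicit false
universe u
open CategoryTheory CategoryTheory.Limits AlgebraicGeometry
open AlgSp

namespace Groth.Agent.S10316

set_option backward.isDefEq.respectTransparency false
set_option backward.isDefEq.respectTransparency.types false

open AlgSp Groth.Agent.AlgSpLib Groth.Agent.AlgSpPts Groth.Agent.AlgSpDec

/-- For X -> Y locally quasi-finite and Y -> Z locally of finite type, the transcendence degree of x
over Z equals that of its image y over Z. -/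
theorem result {S : Scheme.{u}} {X Y Z : AlgSp.Space S} (f : X ⟶ Y) (g : Y ⟶ Z)
    (hf : AlgSp.LocP (@LocallyQuasiFinite ⊓ @LocallyOfFiniteType) f.hom) (hg : AlgSp.LocP @LocallyOfFiniteType g.hom)
    (x : AlgSp.Points X.obj) (r : Cardinal.{u}) :
    AlgSp.HasAtMor (fun _ _ h u => Dual3.resTrdeg h u = r) (f ≫ g).hom x ↔
      AlgSp.HasAtMor (fun _ _ h u => Dual3.resTrdeg h u = r) g.hom (AlgSp.Points.map f.hom x) := by
  obtain ⟨V, W, b, c, k, hb, hb', hc, -, wg⟩ := exists_chart Y.property Z.property g.hom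
  obtain ⟨U, a₀, h, h1, h2, h3⟩ := exists_chart_over X.property Y.property f.hom b
  let a := a₀ ≫ pullback.fst f.hom b
  have ha : RepWith @Etale a := repWith_comp h1 (repWith_fst f.hom hb)
  have wf : a ≫ f.hom = (yon S).map h ≫ b := by
    rw [Category.assoc, pullback.condition, ← Category.assoc, h3]
  have wfg : a ≫ (f ≫ g).hom = (yon S).map (h ≫ k) ≫ c := by
    show a ≫ f.hom ≫ g.hom = _
    rw [reassoc_of% wf, wg, Functor.map_comp, Category.assoc]
  obtain ⟨u, rfl⟩ := surjective_ofPt (repWith_comp h2 (repWith_fst f.hom hb')) x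
  have hu : Points.map f.hom (Points.ofPt a u) = Points.ofPt b (h.left u) := by
    rw [Points.map_ofPt, wf, ofPt_comp]
  show HasAtMor _ _ (Points.ofPt a u) ↔ HasAtMor _ _ (Points.map f.hom (Points.ofPt a u))
  rw [ResTrdeg.hasAtMor_iff ha hc wfg, hu, ResTrdeg.hasAtMor_iff hb hc wg]
  obtain ⟨hq, hl⟩ := hf a b h ha hb wf
  haveI : LocallyQuasiFinite h.left := hq
  haveI : LocallyOfFiniteType h.left := hl
  rw [Over.comp_left, VarDim.rdeg_comp, ResTrdeg.rdeg_eq_zero_of_lqf h.left, add_zero]

end Groth.Agent.S10316
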