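import Groth.Statements.S10318
import Groth.Agent.AlgSpDec.ResTrdeg

set_option autoImplicit false
set_option backward.isDefEq.respectTransparency false
set_option backward.isDefEq.respectTransparency.types false
universe u
open CategoryTheory CategoryTheory.Limits AlgebraicGeometry
open AlgSp Groth.Agent.AlgSpLib Groth.Agent.AlgSpPts

namespace Groth.Agent.S10318

/-- Over a Jacobson algebraic space, a finite type point of a space locally of finite type over it has
transcendence degree 0 over its image. -/
theorem result {S : Scheme.{u}} {X Y : AlgSp.Space S} (f : X ⟶ Y)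
    (hf : AlgSp.LocP @LocallyOfFiniteType f.hom) (hY : AlgSp.EtaleLocally (fun U => JacobsonSpace ↥U) Y.obj)
    (x : AlgSp.Points X.obj) (hx : AlgSp.HasAt (fun U u => IsClosed ({u} : Set ↥U)) X.obj x) :
    AlgSp.HasAtMor (fun _ _ h u => Dual3.resTrdeg h u = 0) f.hom x := by
  obtain ⟨U, a, u, ha, rfl, hu⟩ := hx
  obtain ⟨V, b, hb, hbs, hV⟩ := hY
  haveI : JacobsonSpace ↥V.left := hV
  let W := hb.rep.pullback (a ≫ f.hom)
  let π : W ⟶ U := hb.rep.snd (a ≫ f.hom)
  let h : W ⟶ V := hb.rep.fst' (a ≫ f.hom)
  have sq := hb.rep.isPullback' (a ≫ f.hom)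
  haveI : Etale π.left := hb.property_snd _
  have : Surjective π.left := hbs.property_snd _
  obtain ⟨w, hw⟩ := π.left.surjective u
  have ha' : RepWith @Etale ((yon S).map π ≫ a) :=
    repWith_comp ((repWith_yon_map_iff _ _).2 ‹Etale π.left›) ha
  have hc : ((yon S).map π ≫ a) ≫ f.hom = (yon S).map h ≫ b := by rw [Category.assoc]; exact sq.w.symm
  have : LocallyOfFiniteType h.left := hf ((yon S).map π ≫ a) b h ha' hb hc
  have hwc : IsClosed ({w} : Set ↥W.left) := by
    have hF : IsClosed (π.left ⁻¹' {u}) := hu.preimage π.left.continuous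
    haveI : DiscreteTopology ↥(π.left ⁻¹' {u}) := (π.left.isDiscrete_preimage_singleton u).to_subtype
    have h1 := hF.isClosedMap_subtype_val _ (isClosed_discrete {(⟨w, hw⟩ : ↥(π.left ⁻¹' {u}))})
    simpa using h1
  have hvc : IsClosed ({h.left w} : Set ↥V.left) := Scheme.Hom.closePoints_subset_preimage_closedPoints h.left hwc
  have := isClosed_singleton_iff_isClosedImmersion.mp hwc
  have := isClosed_singleton_iff_isClosedImmersion.mp hvc
  have h2 : IsFinite (W.left.fromSpecResidueField w ≫ h.left) :=
    (isFinite_iff_locallyOfFiniteType_of_jacobsonSpace (f := W.left.fromSpecResidueField w ≫ h.left)).mpr inferInstance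
  rw [← Scheme.Hom.SpecMap_residueFieldMap_fromSpecResidueField] at h2
  have h3 : IsFinite (Spec.map (h.left.residueFieldMap w)) := IsFinite.of_comp _ (V.left.fromSpecResidueField (h.left w))
  rw [IsFinite.SpecMap_iff] at h3
  refine ⟨W, V, (yon S).map π ≫ a, b, h, w, ha', hb, hc, by rw [ofPt_comp, hw], ?_⟩
  letI := (h.left.residueFieldMap w).hom.toAlgebra
  have : Module.Finite (V.left.residueField (h.left w)) (W.left.residueField w) := h3
  exact trdeg_eq_zero

end Groth.Agent.S10318
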