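import Groth.Statements.S10319
import Groth.Agent.AlgSpDec.ResTrdeg

set_option autoImplicit false
universe u
open CategoryTheory CategoryTheory.Limits AlgebraicGeometry
open AlgSp

namespace Groth.Agent.S10319

/-- Transcendence degrees at a point add up along a composition of morphisms locally of finite type. -/
theorem result {S : Scheme.{u}} {X Y Z : AlgSp.Space S} (f : X ⟶ Y) (g : Y ⟶ Z)
    (hf : AlgSp.LocP @LocallyOfFiniteType f.hom) (hg : AlgSp.LocP @LocallyOfFiniteType g.hom)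
    (x : AlgSp.Points X.obj) (r₁ r₂ : Cardinal.{u})
    (h1 : AlgSp.HasAtMor (fun _ _ h u => Dual3.resTrdeg h u = r₁) f.hom x)
    (h2 : AlgSp.HasAtMor (fun _ _ h u => Dual3.resTrdeg h u = r₂) g.hom (AlgSp.Points.map f.hom x)) :
    AlgSp.HasAtMor (fun _ _ h u => Dual3.resTrdeg h u = r₁ + r₂) (f ≫ g).hom x := by
  obtain ⟨U, V, a, b, h, u, ha, hb, w, hx, hu⟩ := h1
  obtain ⟨V', W, b', c, k, v', hb', hc, w', hy, hv⟩ := h2
  have he : AlgSp.Points.ofPt b (h.left u) = AlgSp.Points.ofPt b' v' := by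
    rw [hy, ← hx, AlgSp.Points.map_ofPt, w, Groth.Agent.AlgSpLib.ofPt_comp]
  let p := hb.rep.fst' b'
  let q := hb.rep.snd b'
  have sqB := hb.rep.isPullback' b'
  obtain ⟨v'', hp, hq⟩ := Groth.Agent.AlgSpLib.exists_ofPt_of_eq sqB he
  haveI : Etale p.left := hb'.property _ _ _ sqB.flip
  have sqU := (IsPullback.of_hasPullback h p).map (Over.forget S)
  obtain ⟨u'', hu1, hu2⟩ := Scheme.exists_preimage_of_isPullback sqU u v'' hp.symm
  have sq := IsPullback.of_hasPullback h p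
  let π := pullback.fst h p
  let h' := pullback.snd h p
  haveI : Etale π.left := MorphismProperty.of_isPullback (P := @Etale) sqU.flip ‹Etale p.left›
  have ha' : AlgSp.RepWith @Etale ((AlgSp.yon S).map π ≫ a) :=
    Groth.Agent.AlgSpLib.repWith_comp ((AlgSp.repWith_yon_map_iff _ _).2 ‹Etale π.left›) ha
  have hw : ((AlgSp.yon S).map π ≫ a) ≫ f.hom = (AlgSp.yon S).map h' ≫ (AlgSp.yon S).map p ≫ b := by
    rw [Category.assoc, w, ← Category.assoc, ← Category.assoc, ← Functor.map_comp, ← Functor.map_comp, sq.w]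
  have hpb : AlgSp.RepWith @Etale ((AlgSp.yon S).map p ≫ b) :=
    Groth.Agent.AlgSpLib.repWith_comp ((AlgSp.repWith_yon_map_iff _ _).2 ‹Etale p.left›) hb
  have hw2 : ((AlgSp.yon S).map π ≫ a) ≫ (f ≫ g).hom = (AlgSp.yon S).map (h' ≫ q ≫ k) ≫ c := by
    show ((AlgSp.yon S).map π ≫ a) ≫ f.hom ≫ g.hom = _
    rw [← Category.assoc, hw, sqB.w, Category.assoc, Category.assoc, w', Functor.map_comp, Functor.map_comp,
      Category.assoc, Category.assoc]
  refine ⟨_, W, (AlgSp.yon S).map π ≫ a, c, h' ≫ q ≫ k, u'', ha', hc, hw2, ?_, ?_⟩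
  · rw [Groth.Agent.AlgSpLib.ofPt_comp, ← hx]
    exact congrArg _ hu1
  · haveI : Etale q.left := hb.property_snd b'
    have e1 : VarDim.rdeg h'.left u'' = r₁ := by
      rw [← hu]
      exact Groth.Agent.AlgSpDec.ResTrdeg.rdeg_congr ha' hpb hw ha hb w (by
        rw [Groth.Agent.AlgSpLib.ofPt_comp]; exact congrArg _ hu1)
    show VarDim.rdeg (h'.left ≫ q.left ≫ k.left) u'' = r₁ + r₂
    have hu3 : q.left (h'.left u'') = v' := (congrArg q.left hu2).trans hq
    rw [VarDim.rdeg_comp, VarDim.rdeg_comp, Groth.Agent.AlgSpDec.ResTrdeg.rdeg_eq_zero_of_lqf q.left, e1, add_zero, hu3, add_comm]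
    exact congrArg (r₁ + ·) hv

end Groth.Agent.S10319
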