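import Groth.Statements.S10320
import Groth.Agent.AlgSpDec.RelDimSp
import Groth.Agent.AlgSpDec.ResTrdeg
import Groth.Agent.DimFormula.Fibre

set_option autoImplicit false
universe u
open CategoryTheory CategoryTheory.Limits AlgebraicGeometry
open AlgSp

namespace Groth.Agent.S10320

/-- For f locally of finite type, the relative dimension of f at x equals the dimension of the local
ring of the fibre at x plus the transcendence degree of x over its image. -/
theorem result {S : Scheme.{u}} {X Y : AlgSp.Space S} (f : X ⟶ Y)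
    (hf : AlgSp.LocP @LocallyOfFiniteType f.hom) (x : AlgSp.Points X.obj) (d e : WithBot ℕ∞) (r : Cardinal.{u})
    (hd : AlgSp.HasAtMor (fun _ _ h u => FlatMor.fibreDimAt h u = d) f.hom x)
    (he : AlgSp.HasAtMor (fun _ _ h u => ringKrullDim ↥((h.fiber (h u)).presheaf.stalk (h.asFiber u)) = e) f.hom x)
    (hr : AlgSp.HasAtMor (fun _ _ h u => Dual3.resTrdeg h u = r) f.hom x) :
    d = e + ((Cardinal.toENat r : ℕ∞) : WithBot ℕ∞) := by
  obtain ⟨U, V, a, b, h, u, ha, hb, w, hx, hu⟩ := he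
  haveI : LocallyOfFiniteType h.left := hf a b h ha hb w
  obtain ⟨U₁, V₁, a₁, b₁, h₁, u₁, ha₁, hb₁, w₁, hx₁, hu₁⟩ := hd
  obtain ⟨U₂, V₂, a₂, b₂, h₂, u₂, ha₂, hb₂, w₂, hx₂, hu₂⟩ := hr
  rw [← hu₁, Groth.Agent.AlgSpDec.RelDimSp.fibreDimAt_congr hf ha₁ hb₁ w₁ ha hb w (hx₁.trans hx.symm),
    Groth.Agent.DimFormula.fibreDimAt_eq_add, ← hu, Groth.Agent.DimFormula.ringKrullDim_stalk_fibre]
  have e : VarDim.rdeg h.left u = r :=
    (Groth.Agent.AlgSpDec.ResTrdeg.rdeg_congr ha hb w ha₂ hb₂ w₂ (hx.trans hx₂.symm)).trans hu₂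
  have e2 : ((FibDim.rd h.left u : ℕ) : Cardinal) = r := (FibDim.rd_eq_rdeg h.left u).trans e
  rw [← e2, Cardinal.toENat_nat]
  push_cast
  exact add_comm _ _

end Groth.Agent.S10320
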