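import Groth.Statements.S10321
import Groth.Agent.AlgSpDec.LqfScheme
import Groth.Agent.AlgSpLib.Points

set_option autoImplicit false
universe u
open CategoryTheory CategoryTheory.Limits AlgebraicGeometry
open AlgSp

namespace Groth.Agent.S10321

open Groth.Agent.AlgSpLib Groth.Agent.AlgSpPts

/-- Let X be separated and locally quasi-finite over an affine scheme T, let T' -> T be etale with T'
affine, and let V' be an open subspace of T' ×_T X that is quasi-affine over T'. Then V' maps onto a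
quasi-compact open subspace of X that is itself a scheme. -/
theorem result {S : Scheme.{u}} {T T' : Over S} [IsAffine T.left]
    [IsAffine T'.left] (e : T' ⟶ T) [Etale e.left] {X P V' : AlgSp.Space S} (f : X ⟶ (AlgSp.ofScheme S).obj T)
    (hsep : AlgSp.IsSeparatedMor f.hom) (hqf : AlgSp.LocP (@LocallyQuasiFinite ⊓ @LocallyOfFiniteType) f.hom)
    (p1 : P ⟶ (AlgSp.ofScheme S).obj T') (p2 : P ⟶ X)
    (sq : IsPullback p2.hom p1.hom f.hom ((AlgSp.yon S).map e)) (j : V' ⟶ P)
    (hj : AlgSp.RepWith @IsOpenImmersion j.hom) (hqa : AlgSp.IsQuasiAffineMor (j ≫ p1).hom) :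
    ∃ (W : Over S) (i : (AlgSp.yon S).obj W ⟶ X.obj), AlgSp.RepWith @IsOpenImmersion i ∧ CompactSpace ↥W.left ∧
      Set.range (AlgSp.Points.map i) = Set.range (AlgSp.Points.map (j ≫ p2).hom) := by
  obtain ⟨Q, ⟨eQ⟩⟩ := AlgSpDec.exists_iso_of_lqf_separated X.property f.hom hqf hsep
  obtain ⟨W', i', fst', sq', hW'⟩ := hqa (inferInstanceAs (IsAffine T'.left)) (𝟙 _)
  have : IsIso (𝟙 ((AlgSp.yon S).obj T')) := inferInstanceAs (IsIso (𝟙 _))
  have : IsIso fst' := by
    exact @IsPullback.isIso_fst_of_isIso _ _ _ _ _ _ _ _ _ _ sq' this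
  have : CompactSpace ↥W'.left := hW'.toCompactSpace
  have hp2 : RepWith @Etale p2.hom := repWith_of_isPullback sq.flip ((repWith_yon_map_iff _ e).2 ‹Etale e.left›)
  obtain ⟨m, hm⟩ := (yon S).map_surjective (fst' ≫ (j ≫ p2).hom ≫ eQ.inv)
  have hme : Etale m.left := (repWith_yon_map_iff _ m).1 (by
    rw [hm]
    refine repWith_comp (repWith_of_isIso _ _) (repWith_comp ?_ (repWith_of_isIso _ _))
    exact repWith_comp (repWith_mono (fun _ _ g (_ : IsOpenImmersion g) => inferInstanceAs (Etale g)) _ hj) hp2)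
  let O : Q.left.Opens := ⟨Set.range m.left, m.left.isOpenMap.isOpen_range⟩
  let W : Over S := Over.mk (O.ι ≫ Q.hom)
  let k : W ⟶ Q := Over.homMk O.ι rfl
  refine ⟨W, (yon S).map k ≫ eQ.hom, repWith_comp ((repWith_yon_map_iff _ k).2 (inferInstanceAs (IsOpenImmersion O.ι)))
    (repWith_of_isIso _ _), isCompact_iff_compactSpace.1 (isCompact_range m.left.continuous), ?_⟩
  have hfs : Function.Surjective (Points.map fst') := fun z => ⟨Points.map (inv fst') z, by
    rw [← Points.map_comp, IsIso.inv_hom_id, Points.map_id]⟩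
  have hb : (j ≫ p2).hom = inv fst' ≫ (yon S).map m ≫ eQ.hom := by
    rw [hm]; simp
  ext x
  constructor
  · rintro ⟨z, rfl⟩
    obtain ⟨w, rfl⟩ := (Points.schemeHomeo W).surjective z
    obtain ⟨v, hv⟩ : k.left w ∈ Set.range m.left := w.2
    refine ⟨Points.map fst' (Points.ofScheme W' v), ?_⟩
    rw [hb, ← Points.map_comp, IsIso.hom_inv_id_assoc, ← Points.ofPt_eq_map_ofScheme, ofPt_comp, hv,
      show Points.schemeHomeo W w = Points.ofScheme W w from rfl, ← Points.ofPt_eq_map_ofScheme, ofPt_comp]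
  · rintro ⟨z, rfl⟩
    obtain ⟨z', rfl⟩ := hfs z
    obtain ⟨v, rfl⟩ := (Points.schemeHomeo W').surjective z'
    refine ⟨Points.ofScheme W ⟨m.left v, v, rfl⟩, ?_⟩
    rw [hb, ← Points.map_comp fst', IsIso.hom_inv_id_assoc,
      show Points.schemeHomeo W' v = Points.ofScheme W' v from rfl, ← Points.ofPt_eq_map_ofScheme, ofPt_comp,
      ← Points.ofPt_eq_map_ofScheme, ofPt_comp]
    rfl

end Groth.Agent.S10321
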