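import Groth.Statements.S10323
import Groth.Agent.AlgSpPts.Dim
import Groth.Agent.AlgSpDec.Fibres
import Groth.Agent.DimFormula.Scheme
import Groth.Agent.FibDim.Minimal

set_option autoImplicit false
universe u
open CategoryTheory CategoryTheory.Limits AlgebraicGeometry
open AlgSp

attribute [local instance] specializationOrder

namespace Groth.Agent.S10323

/-- For Y locally Noetherian and f locally of finite type, the dimension of the local ring of X at x is
at most the dimension of the local ring of Y at the image point plus E minus the transcendence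
degree of x over its image, where E bounds the transcendence degrees of the codimension-0 points
specializing to x. -/
theorem result {S : Scheme.{u}} {X Y : AlgSp.Space S} (f : X ⟶ Y)
    (hY : AlgSp.IsLocNoethSp Y.obj) (hf : AlgSp.LocP @LocallyOfFiniteType f.hom) (x : AlgSp.Points X.obj)
    (E : Cardinal.{u})
    (hE : ∀ ξ : AlgSp.Points X.obj, ξ ⤳ x → AlgSp.HasAt (fun U u => ringKrullDim ↥(U.presheaf.stalk u) = 0) X.obj ξ →
      ∀ s : Cardinal.{u}, AlgSp.HasAtMor (fun _ _ h u => Dual3.resTrdeg h u = s) f.hom ξ → s ≤ E)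
    (a b : WithBot ℕ∞) (r : Cardinal.{u})
    (ha : AlgSp.HasAt (fun U u => ringKrullDim ↥(U.presheaf.stalk u) = a) X.obj x)
    (hb : AlgSp.HasAt (fun U u => ringKrullDim ↥(U.presheaf.stalk u) = b) Y.obj (AlgSp.Points.map f.hom x))
    (hr : AlgSp.HasAtMor (fun _ _ h u => Dual3.resTrdeg h u = r) f.hom x) :
    a + ((Cardinal.toENat r : ℕ∞) : WithBot ℕ∞) ≤ b + ((Cardinal.toENat E : ℕ∞) : WithBot ℕ∞) := by
  obtain ⟨U, V, a', b', h, u, hua, hb', w, hu, hru⟩ := hr
  obtain ⟨U₁, a₁, u₁, ha₁, hu₁, hda⟩ := ha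
  obtain ⟨V₁, b₁, v₁, hb₁, hv₁, hdb⟩ := hb
  haveI : LocallyOfFiniteType h.left := hf a' b' h hua hb' w
  haveI : IsLocallyNoetherian V.left := Groth.Agent.AlgSpDec.isLocallyNoetherian_chart hb' hY
  haveI : IsLocallyNoetherian U.left := LocallyOfFiniteType.isLocallyNoetherian h.left
  have hv : AlgSp.Points.ofPt b' (h.left u) = AlgSp.Points.map f.hom x := by
    rw [← hu, AlgSp.Points.map_ofPt, w, Groth.Agent.AlgSpLib.ofPt_comp]
  obtain ⟨η, hη, hmax, he⟩ := Groth.Agent.DimFormula.exists_maximal_cd_eq_codim u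
  have h1 := (Groth.Agent.DimFormula.cd_formula h.left hη).1
  have h2 := Groth.Agent.DimFormula.cd_le_codim (hη.map h.left.continuous)
  rw [he] at h1
  have h3 : Groth.Agent.DimFormula.codim u + Groth.Agent.FibDim.rd h.left u ≤
      Groth.Agent.DimFormula.codim (h.left u) + Groth.Agent.FibDim.rd h.left η := by omega
  have h4 := hE (AlgSp.Points.ofPt a' η) (hu ▸ hη.map (AlgSp.Points.continuous_ofPt a')) ⟨U, a', η, hua, rfl, by
      show ringKrullDim ↥(U.left.presheaf.stalk η) = 0
      rw [AlgebraicGeometry.ringKrullDim_stalk_eq_coheight, ← Groth.Agent.DimFormula.coe_codim,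
        Groth.Agent.DimFormula.codim_eq_zero_iff.2 hmax]
      rfl⟩
    (Groth.Agent.FibDim.rd h.left η : Cardinal.{u})
    ⟨U, V, a', b', h, η, hua, hb', w, rfl, (Groth.Agent.FibDim.rd_eq_rdeg h.left η).symm⟩
  have h5 : ((Groth.Agent.FibDim.rd h.left η : ℕ∞)) ≤ Cardinal.toENat E := by
    rw [← Cardinal.toENat_nat]; exact OrderHomClass.mono Cardinal.toENat h4
  have e2 : ((Groth.Agent.FibDim.rd h.left u : ℕ) : Cardinal.{u}) = r :=
    (Groth.Agent.FibDim.rd_eq_rdeg h.left u).trans hru
  rw [AlgebraicGeometry.ringKrullDim_stalk_eq_coheight] at hda hdb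
  rw [← hda, ← hdb, Groth.Agent.AlgSpPts.coheight_eq_of_charts ha₁ hua (hu₁.trans hu.symm),
    Groth.Agent.AlgSpPts.coheight_eq_of_charts hb₁ hb' (hv₁.trans hv.symm), ← e2, Cardinal.toENat_nat,
    ← Groth.Agent.DimFormula.coe_codim, ← Groth.Agent.DimFormula.coe_codim, ← WithBot.coe_add, ← WithBot.coe_add,
    WithBot.coe_le_coe]
  refine le_trans ?_ (add_le_add le_rfl h5)
  exact_mod_cast h3

end Groth.Agent.S10323
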