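import Groth.Statements.S10324
import Groth.Agent.AlgSpPts.Dim
import Groth.Agent.AlgSpDec.Fibres
import Groth.Agent.DimFormula.Scheme
import Groth.Agent.FibDim.Minimal

attribute [local instance] specializationOrder

set_option autoImplicit false
universe u
open CategoryTheory CategoryTheory.Limits AlgebraicGeometry
open AlgSp

namespace Groth.Agent.S10324

/-- For Y locally Noetherian and f : X -> Y locally of finite type, dim X ≤ dim Y + E where E bounds the
transcendence degrees over Y of the codimension-0 points of X. -/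
theorem result {S : Scheme.{u}} {X Y : AlgSp.Space S} (f : X ⟶ Y)
    (hY : AlgSp.IsLocNoethSp Y.obj) (hf : AlgSp.LocP @LocallyOfFiniteType f.hom) (E : Cardinal.{u})
    (hE : ∀ ξ : AlgSp.Points X.obj, AlgSp.HasAt (fun U u => ringKrullDim ↥(U.presheaf.stalk u) = 0) X.obj ξ → ∀ s : Cardinal.{u}, AlgSp.HasAtMor (fun _ _ h u => Dual3.resTrdeg h u = s) f.hom ξ → s ≤ E) :
    AlgSp.dim X.obj ≤ AlgSp.dim Y.obj + ((Cardinal.toENat E : ℕ∞) : WithBot ℕ∞) := by
  refine Groth.Agent.AlgSpPts.dim_le_iff.2 fun U₀ a₀ ha₀ u₀ => ?_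
  obtain ⟨U, V, a, b, h, ha, ha', hb, -, w⟩ := Groth.Agent.AlgSpLib.exists_chart X.property Y.property f.hom
  obtain ⟨u, hu⟩ := Groth.Agent.AlgSpLib.surjective_ofPt ha' (AlgSp.Points.ofPt a₀ u₀)
  rw [Groth.Agent.AlgSpPts.coheight_eq_of_charts ha₀ ha hu.symm]
  haveI : LocallyOfFiniteType h.left := hf a b h ha hb w
  haveI : IsLocallyNoetherian V.left := Groth.Agent.AlgSpDec.isLocallyNoetherian_chart hb hY
  haveI : IsLocallyNoetherian U.left := LocallyOfFiniteType.isLocallyNoetherian h.left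
  obtain ⟨η, hη, hmax, he⟩ := Groth.Agent.DimFormula.exists_maximal_cd_eq_codim u
  have h1 := (Groth.Agent.DimFormula.cd_formula h.left hη).1
  have h2 := Groth.Agent.DimFormula.cd_le_codim (hη.map h.left.continuous)
  rw [he] at h1
  have h3 : Groth.Agent.DimFormula.codim u ≤
      Groth.Agent.DimFormula.codim (h.left u) + Groth.Agent.FibDim.rd h.left η := by omega
  have h4 := hE (AlgSp.Points.ofPt a η) ⟨U, a, η, ha, rfl, by
      show ringKrullDim ↥(U.left.presheaf.stalk η) = 0
      rw [AlgebraicGeometry.ringKrullDim_stalk_eq_coheight, ← Groth.Agent.DimFormula.coe_codim,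
        Groth.Agent.DimFormula.codim_eq_zero_iff.2 hmax]
      rfl⟩
    (Groth.Agent.FibDim.rd h.left η : Cardinal.{u})
    ⟨U, V, a, b, h, η, ha, hb, w, rfl, (Groth.Agent.FibDim.rd_eq_rdeg h.left η).symm⟩
  have h5 : ((Groth.Agent.FibDim.rd h.left η : ℕ∞)) ≤ Cardinal.toENat E := by
    rw [← Cardinal.toENat_nat]; exact OrderHomClass.mono Cardinal.toENat h4
  rw [← Groth.Agent.DimFormula.coe_codim]
  refine le_trans ?_ (add_le_add (Groth.Agent.AlgSpPts.coheight_le_dim hb (h.left u)) (WithBot.coe_le_coe.2 h5))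
  rw [← Groth.Agent.DimFormula.coe_codim, ← WithBot.coe_add, WithBot.coe_le_coe]
  exact_mod_cast h3

end Groth.Agent.S10324
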