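import Groth.Statements.S10325
import Groth.Agent.AlgSpDec.Glue
import Groth.Agent.SGA1Q.SigmaFinite
import Mathlib.CategoryTheory.Sites.LeftExact
import Mathlib.CategoryTheory.Extensive

set_option autoImplicit false
set_option backward.isDefEq.respectTransparency false
set_option backward.isDefEq.respectTransparency.types false
universe u
open CategoryTheory CategoryTheory.Limits AlgebraicGeometry
open AlgSp

namespace Groth.Agent.S10325

/-- A finite disjoint union of algebraic spaces finite over Y is finite over Y. -/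
theorem result {S : Scheme.{u}} {n : ℕ} (X : Fin n → AlgSp.Space S) (Y : AlgSp.Space S)
    (g : ∀ i, X i ⟶ Y) (hg : ∀ i, AlgSp.IsFiniteMor (g i).hom) (c : Cofan fun i => (X i).obj) (hc : IsColimit c)
    (d : c.pt ⟶ Y.obj) (hd : ∀ i, c.inj i ≫ d = (g i).hom) : AlgSp.IsFiniteMor d := by

  intro Z hZ g'
  classical
  choose W i fst hsq hWa hfin using fun k => hg k hZ g'
  let T : ULift.{u} (Fin n) → Over S := fun k => W k.down
  open Groth.Agent.AlgSpDec in
  obtain ⟨G, hG⟩ := exists_hom_sigma T fun k => fst k.down ≫ c.inj k.down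
  obtain ⟨ι', hι'⟩ : ∃ ι' : sigmaOver T ⟶ Z, ∀ k, sigmaι T k ≫ ι' = i k.down := by
    refine ⟨CategoryTheory.Over.homMk (Sigma.desc fun k => (i k.down).left) ?_, fun k => Over.OverMorphism.ext (Sigma.ι_desc _ _)⟩
    apply Sigma.hom_ext (f := fun k => (T k).left)
    intro k
    exact (Sigma.ι_desc_assoc (fun k : ULift.{u} (Fin n) => (i k.down).left) k Z.hom).trans
      ((Over.w (i k.down)).trans (Sigma.ι_desc (f := fun k => (T k).left) (fun k => (T k).hom) k).symm)
  refine ⟨sigmaOver T, ι', G, ?_, ?_, ?_⟩
  · have hw : G ≫ d = (AlgSp.yon S).map ι' ≫ g' := hom_ext_sigma T fun k => by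
      rw [← Category.assoc, hG, Category.assoc, hd, (hsq k.down).w, ← Category.assoc, ← Functor.map_comp, hι']
    -- the decomposition of the fibre product
    let q : ∀ k, (AlgSp.yon S).obj (W k) ⟶ pullback d g' := fun k =>
      pullback.lift (fst k ≫ c.inj k) ((AlgSp.yon S).map (i k)) (by rw [Category.assoc, hd, (hsq k).w])
    have hq : ∀ k : Discrete (Fin n), IsPullback (q k.as) (fst k.as) (pullback.fst d g') (c.inj k.as) := fun k => by
      have h1 : IsPullback (fst k.as) (q k.as) (c.inj k.as) (pullback.fst d g') := by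
        refine IsPullback.of_bot ?_ (pullback.lift_fst _ _ _).symm (IsPullback.of_hasPullback d g').flip.flip
        rw [hd, pullback.lift_snd]
        exact hsq k.as
      exact h1.flip
    obtain ⟨hP⟩ := FinitaryPreExtensive.isUniversal_finiteCoproducts hc (Cofan.mk (pullback d g') q)
      (Discrete.natTrans fun k => fst k.as) (pullback.fst d g')
      (NatTrans.ext (funext fun k => (hq k).w.symm)) (NatTrans.equifibered_of_discrete _) hq
    let r : pullback d g' ⟶ (AlgSp.yon S).obj (sigmaOver T) :=
      Cofan.IsColimit.desc hP fun k => (AlgSp.yon S).map (sigmaι T ⟨k⟩)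
    have hr : ∀ k, q k ≫ r = (AlgSp.yon S).map (sigmaι T ⟨k⟩) := fun k => Cofan.IsColimit.fac hP _ k
    let l : (AlgSp.yon S).obj (sigmaOver T) ⟶ pullback d g' := pullback.lift G _ hw
    have hl : ∀ k, (AlgSp.yon S).map (sigmaι T k) ≫ l = q k.down := fun k => by
      apply pullback.hom_ext <;> simp [l, q, hG, ← Functor.map_comp, hι']
    let e : (AlgSp.yon S).obj (sigmaOver T) ≅ pullback d g' :=
      { hom := l
        inv := r
        hom_inv_id := hom_ext_sigma T fun k => by rw [← Category.assoc, hl, hr, Category.comp_id]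
        inv_hom_id := Cofan.IsColimit.hom_ext hP _ _ fun k => by
          rw [← Category.assoc]
          exact ((congrArg (· ≫ l) (hr k)).trans (hl ⟨k⟩)).trans (Category.comp_id _).symm }
    exact IsPullback.of_iso_pullback ⟨hw⟩ e (pullback.lift_fst _ _ _) (pullback.lift_snd _ _ _)
  · have : ∀ k, IsAffine (T k).left := fun k => hWa k.down
    exact inferInstanceAs (IsAffine (∐ fun k => (T k).left))
  · have h := SGA1Q.isFinite_sigmaDesc (fun k : ULift.{u} (Fin n) => (i k.down).left) fun k => hfin k.down
    have e : ι'.left = Sigma.desc fun k : ULift.{u} (Fin n) => (i k.down).left :=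
      Sigma.hom_ext (f := fun k => (T k).left) _ _ fun k =>
        (congrArg CommaMorphism.left (hι' k) : _).trans
          (Sigma.ι_desc (f := fun k => (T k).left) (fun k => (i k.down).left) k).symm
    rw [e]
    exact h

end Groth.Agent.S10325
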