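import Groth.Statements.S10327
import Groth.Agent.AlgSpVal.ExistUC
import Groth.Agent.AlgSpVal.UnivClosedVC
import Groth.Agent.AlgSpVal.UniqSep
import Groth.Agent.AlgSpVal.SepValSq
-- import your own Groth.Agent.* helpers here

set_option autoImplicit false
universe u
open CategoryTheory CategoryTheory.Limits AlgebraicGeometry
open AlgSp

namespace Groth.Agent.S10327

/-- For f quasi-compact and quasi-separated, f is separated and universally closed if and only if the
valuative criterion holds, if and only if every valuative square has a unique lift. -/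
theorem result {S : Scheme.{u}} {X Y : AlgSp.Space S} (f : X ⟶ Y)
    (hqc : AlgSp.IsQuasiCompactMor f.hom) (hqs : AlgSp.IsQuasiSeparatedMor f.hom) :
    ((AlgSp.IsSeparatedMor f.hom ∧ AlgSp.IsUnivClosedMor f.hom) ↔ AlgSp.VC f.hom) ∧
    ((AlgSp.IsSeparatedMor f.hom ∧ AlgSp.IsUnivClosedMor f.hom) ↔
      (AlgSp.UniqVC f.hom ∧ AlgSp.ExistVCStrict f.hom)) := by
  have h1 : ∀ h : AlgSp.IsSeparatedMor f.hom, AlgSp.IsUnivClosedMor f.hom → AlgSp.ExistVC f.hom := fun _ h =>
    Groth.Agent.AlgSpVal.existVC_of_univClosed X.property Y.property hqs h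
  refine ⟨⟨fun h => ⟨Groth.Agent.AlgSpVal.uniqVC_of_isSeparatedMor h.1, h1 h.1 h.2⟩, fun h =>
      ⟨Groth.Agent.AlgSpVal.isSeparatedMor_of_uniqVC X.property Y.property hqs h.1,
        Groth.Agent.AlgSpVal.isUnivClosedMor_of_existVC X.property Y.property hqc h.2⟩⟩,
    ⟨fun h => ⟨Groth.Agent.AlgSpVal.uniqVC_of_isSeparatedMor h.1,
        (Groth.Agent.AlgSpVal.existVC_iff_strict_of_isSeparatedMor X.property Y.property h.1).1 (h1 h.1 h.2)⟩, fun h =>
      ⟨Groth.Agent.AlgSpVal.isSeparatedMor_of_uniqVC X.property Y.property hqs h.1,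
        Groth.Agent.AlgSpVal.isUnivClosedMor_of_existVC X.property Y.property hqc
          (Groth.Agent.AlgSpVal.existVC_of_strict h.2)⟩⟩⟩

end Groth.Agent.S10327
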