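import Groth.Statements.S10328
import Groth.Agent.AlgSpDec.FieldFibre

set_option autoImplicit false
universe u
open CategoryTheory CategoryTheory.Limits AlgebraicGeometry
open AlgSp

namespace Groth.Agent.S10328

set_option backward.isDefEq.respectTransparency false
set_option backward.isDefEq.respectTransparency.types false

open AlgSp Groth.Agent.AlgSpLib Groth.Agent.AlgSpPts Groth.Agent.AlgSpDec

/-- The relative dimension of a composite at a point is at most the sum of the relative dimensions, with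
equality when the first morphism is flat at the point. (The published part (2) allows more generally
flatness of a fibre of X -> Y over a field point of Z; only the case f flat at x is stated.) -/
theorem result {S : Scheme.{u}} {X Y Z : AlgSp.Space S} (f : X ⟶ Y) (g : Y ⟶ Z)
    (hf : AlgSp.LocP @LocallyOfFiniteType f.hom) (hg : AlgSp.LocP @LocallyOfFiniteType g.hom)
    (x : AlgSp.Points X.obj) (a b : WithBot ℕ∞)
    (ha : AlgSp.HasAtMor (fun _ _ h u => FlatMor.fibreDimAt h u = a) f.hom x)
    (hb : AlgSp.HasAtMor (fun _ _ h u => FlatMor.fibreDimAt h u = b) g.hom (AlgSp.Points.map f.hom x)) :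
    AlgSp.HasAtMor (fun _ _ h u => FlatMor.fibreDimAt h u ≤ a + b) (f ≫ g).hom x ∧
    (AlgSp.IsFlatAtMor f.hom x → AlgSp.HasAtMor (fun _ _ h u => FlatMor.fibreDimAt h u = a + b) (f ≫ g).hom x) := by
  obtain ⟨V, W, β, γ, k, hβ, hβ', hγ, -, wg⟩ := exists_chart Y.property Z.property g.hom
  obtain ⟨U, α₀, h, h1, h2, h3⟩ := exists_chart_over X.property Y.property f.hom β
  let α := α₀ ≫ pullback.fst f.hom β
  have hα : RepWith @Etale α := repWith_comp h1 (repWith_fst f.hom hβ)
  have wf : α ≫ f.hom = (yon S).map h ≫ β := by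
    rw [Category.assoc, pullback.condition, ← Category.assoc, h3]
  have wfg : α ≫ (f ≫ g).hom = (yon S).map (h ≫ k) ≫ γ := by
    show α ≫ f.hom ≫ g.hom = _
    rw [reassoc_of% wf, wg, Functor.map_comp, Category.assoc]
  obtain ⟨u, rfl⟩ := surjective_ofPt (repWith_comp h2 (repWith_fst f.hom hβ')) x
  have hu : Points.map f.hom (Points.ofPt α u) = Points.ofPt β (h.left u) := by
    rw [Points.map_ofPt, wf, ofPt_comp]
  rw [hu, FieldFibre.hasAtMor_iff hg hβ hγ wg] at hb
  have ha' : FlatMor.fibreDimAt h.left u = a := (FieldFibre.hasAtMor_iff hf hα hβ wf u a).1 ha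
  haveI : LocallyOfFiniteType h.left := hf α β h hα hβ wf
  haveI : LocallyOfFiniteType k.left := hg β γ k hβ hγ wg
  refine ⟨⟨U, W, α, γ, h ≫ k, u, hα, hγ, wfg, rfl, ?_⟩, fun hflat => ⟨U, W, α, γ, h ≫ k, u, hα, hγ, wfg, rfl, ?_⟩⟩
  · show FlatMor.fibreDimAt (h.left ≫ k.left) u ≤ _
    rw [← ha', ← hb]
    exact FibDim.fibreDimAt_comp_le h.left k.left u
  · show FlatMor.fibreDimAt (h.left ≫ k.left) u = _
    rw [← ha', ← hb]
    exact FibDim.fibreDimAt_comp_of_flat h.left k.left u (hflat α β h u hα hβ wf rfl)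

end Groth.Agent.S10328
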