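import Groth.Statements.S10329
import Groth.Agent.AlgSpDec.FieldFibre

set_option autoImplicit false
universe u
open CategoryTheory CategoryTheory.Limits AlgebraicGeometry
open AlgSp

namespace Groth.Agent.S10329

set_option backward.isDefEq.respectTransparency false
set_option backward.isDefEq.respectTransparency.types false

open AlgSp Groth.Agent.AlgSpLib Groth.Agent.AlgSpPts Groth.Agent.AlgSpDec

/-- If the fibre of a morphism locally of finite type has dimension 0 at a point, then the morphism is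
locally quasi-finite on some open subspace containing the image of that point. -/
theorem result {S : Scheme.{u}} {X Y F : AlgSp.Space S} (f : X ⟶ Y)
    (hf : AlgSp.LocP @LocallyOfFiniteType f.hom) (k : Type u) [Field k] (str : Spec (.of k) ⟶ S)
    (y : (AlgSp.yon S).obj (Over.mk str) ⟶ Y.obj) (p : F ⟶ X) (q : F.obj ⟶ (AlgSp.yon S).obj (Over.mk str))
    (sq : IsPullback p.hom q f.hom y) (z : AlgSp.Points F.obj)
    (hz : AlgSp.HasAt (fun U u => FlatMor.localDim ↥U u = 0) F.obj z) :
    ∃ (X' : AlgSp.Space S) (j : X' ⟶ X), AlgSp.RepWith @IsOpenImmersion j.hom ∧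
      AlgSp.Points.map p.hom z ∈ Set.range (AlgSp.Points.map j.hom) ∧
      AlgSp.LocP (@LocallyQuasiFinite ⊓ @LocallyOfFiniteType) (j ≫ f).hom := by
  obtain ⟨U, a, u, ha, hu, hd⟩ := hz
  obtain ⟨h, hh⟩ := (yon S).map_surjective (a ≫ q)
  have h0 : FlatMor.fibreDimAt h.left u = 0 := by
    let h' : U.left ⟶ Spec (.of k) := h.left
    haveI : Subsingleton ↥(Spec (CommRingCat.of k)) := inferInstanceAs (Subsingleton (PrimeSpectrum k))
    exact (FieldFibre.fibreDimAt_of_subsingleton h' u).trans hd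
  have hx := FieldFibre.hasAtMor_zero_of_fibre sq X.property Y.property hf z a ha h hh.symm u hu h0
  obtain ⟨X', j, hX', hj, hrange⟩ := exists_open_subspace X.property (RelDimSp.isOpen_le hf 0)
  refine ⟨⟨X', hX'⟩, ObjectProperty.homMk j, hj, ?_, ?_⟩
  · show _ ∈ Set.range (Points.map j)
    rw [hrange]
    obtain ⟨U₀, V₀, a₀, b₀, h₀, u₀, ha₀, hb₀, w₀, hx₀, hd₀⟩ := hx
    exact ⟨U₀, V₀, a₀, b₀, h₀, u₀, ha₀, hb₀, w₀, hx₀, le_of_eq hd₀⟩
  · change LocP _ (j ≫ f.hom)
    have hje : RepWith @Etale j :=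
      repWith_mono (fun A B g (hg : IsOpenImmersion g) => (inferInstance : Etale g)) _ hj
    have hl : LocP @LocallyOfFiniteType (j ≫ f.hom) := fun U' V' a' b' h' ha' hb' w' =>
      hf (a' ≫ j) b' h' (repWith_comp ha' hje) hb' (by rw [Category.assoc]; exact w')
    refine (RelDimSp.lqf_iff hX' Y.property hl).2 fun x' => ?_
    obtain ⟨U', V', a', b', h', ha', ha'', hb', -, w'⟩ := exists_chart hX' Y.property (j ≫ f.hom)
    obtain ⟨u', rfl⟩ := surjective_ofPt ha'' x'
    refine ⟨U', V', a', b', h', u', ha', hb', w', rfl, ?_⟩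
    haveI : LocallyOfFiniteType h'.left := hl a' b' h' ha' hb' w'
    have hm : Points.map j (Points.ofPt a' u') ∈ Set.range (Points.map j) := ⟨_, rfl⟩
    rw [hrange] at hm
    obtain ⟨U₁, V₁, a₁, b₁, h₁, u₁, ha₁, hb₁, w₁, hx₁, hd₁⟩ := hm
    refine FieldFibre.fibreDimAt_eq_zero_of_le h'.left u' ?_
    rw [RelDimSp.fibreDimAt_congr hf (a := a' ≫ j) (repWith_comp ha' hje) hb'
      (by rw [Category.assoc]; exact w') ha₁ hb₁ w₁ (by rw [hx₁, Points.map_ofPt])]
    exact hd₁

end Groth.Agent.S10329
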