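import Groth.Statements.S10333
import Groth.Agent.AlgSpDec.RedImage
import Groth.Agent.AlgSpDec.AffineRep

set_option autoImplicit false
universe u
open CategoryTheory CategoryTheory.Limits AlgebraicGeometry
open AlgSp Groth.Agent.AlgSpLib Groth.Agent.AlgSpPts Groth.Agent.AlgSpDec

namespace Groth.Agent.S10333
set_option backward.isDefEq.respectTransparency false
set_option backward.isDefEq.respectTransparency.types false

/-- Let f : Y -> X be a morphism of algebraic spaces over S that is quasi-compact and quasi-separated,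
and X' -> X the normalization of X in Y (an integral morphism through which f factors, initial among
such factorizations). If Y is reduced then X' is reduced. -/
theorem result {S : Scheme.{u}} {Y X X' : AlgSp.Space S} (f : Y ⟶ X)
    (hqc : AlgSp.IsQuasiCompactMor f.hom) (hqs : AlgSp.IsQuasiSeparatedMor f.hom) (ν : X' ⟶ X) (f' : Y ⟶ X')
    (hn : AlgSp.IsRelNormalization f.hom ν.hom f'.hom) (hY : AlgSp.IsReducedSp Y.obj) :
    AlgSp.IsReducedSp X'.obj := by
  obtain ⟨hfac, hint, huniv⟩ := hn
  obtain ⟨Z, j, hj, hjr, hZ⟩ := exists_reduced_induced X'.property isClosed_univ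
  obtain ⟨g, hg⟩ := exists_factor_reduced hY f'.hom hj (by rw [hjr]; exact Set.subset_univ _)
  have hjν : IsIntegralMor (j ≫ ν.hom) := by
    rw [isIntegralMor_iff_repWith] at hint ⊢
    exact repWith_comp (repWith_mono (fun _ _ e (_ : IsClosedImmersion e) => (inferInstance : IsIntegralHom e)) _ hj) hint
  obtain ⟨h, ⟨h1, h2⟩, -⟩ := huniv Z.property (j ≫ ν.hom) g hjν (by rw [reassoc_of% hg]; exact hfac)
  obtain ⟨k, -, hk⟩ := huniv X'.property ν.hom f'.hom hint hfac
  have e : h ≫ j = 𝟙 _ :=
    (hk (h ≫ j) ⟨by rw [reassoc_of% h1, hg], by rw [Category.assoc, h2]⟩).trans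
      (hk (𝟙 _) ⟨Category.comp_id _, Category.id_comp _⟩).symm
  have : Mono j := mono_of_closedImmersion hj
  have e' : j ≫ h = 𝟙 _ := (cancel_mono j).1 (by rw [Category.assoc, e, Category.comp_id, Category.id_comp])
  have : IsIso j := ⟨h, e', e⟩
  obtain ⟨W, b, hb, hbs, hW⟩ := hZ
  exact ⟨W, b ≫ j, repWith_comp hb (repWith_of_isIso _ _), repWith_comp hbs (repWith_of_isIso _ _), hW⟩

end Groth.Agent.S10333
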