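import Groth.Statements.S10334
import Groth.Agent.PushDense13.EssImage

set_option autoImplicit false
universe u
open CategoryTheory CategoryTheory.Limits AlgebraicGeometry Opposite
open AlgSp

namespace Groth.Agent.S10334

/-- Let f : Y -> X be an integral, universally injective morphism of algebraic spaces over S. A sheaf of
sets on the small etale site of X is isomorphic to a pushforward f_*F if and only if its value is a
one-element set on every etale scheme over X whose image misses f(|Y|); an abelian sheaf is
isomorphic to a pushforward if and only if its value is zero on every such scheme. (The published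
statement says 'restriction to the complement of f(|Y|) is a final object' and 'support contained in
f(|Y|)'; both conditions are written out on the etale schemes over the complement.) -/
theorem result {S : Scheme.{u}} {Y X : AlgSp.Space S} (f : Y ⟶ X)
    (hi : AlgSp.RepWith @IsIntegralHom f.hom) (hu : AlgSp.IsUnivInjectiveMor f.hom) :
    (∀ G : AlgSp.EtSh X.obj (Type (u + 1)),
      (AlgSp.pushEt hi.1 (Type (u + 1))).essImage G ↔
        ∀ E : AlgSp.EtOver X.obj,
          Disjoint (Set.range (AlgSp.Points.map E.obj.hom)) (Set.range (AlgSp.Points.map f.hom)) →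
            Nonempty (Unique (G.obj.obj (op E)))) ∧
    (∀ G : AlgSp.AbEt X.obj,
      (AlgSp.pushEt hi.1 AddCommGrpCat.{u + 1}).essImage G ↔
        ∀ E : AlgSp.EtOver X.obj,
          Disjoint (Set.range (AlgSp.Points.map E.obj.hom)) (Set.range (AlgSp.Points.map f.hom)) →
            Subsingleton ↥(G.obj.obj (op E))) := by
  have hd := Groth.Agent.PushDense13.dense_of_integral_univInjective hi.1 X.property hi hu
  have he := Groth.Agent.PushDense13.emb_of_integral_univInjective hi.1 hi hu
  have hc : ∀ E : AlgSp.EtOver X.obj, IsClosed (Set.range (AlgSp.EtOver.bcπ hi.1 E).left) := fun E =>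
    haveI : IsIntegralHom (AlgSp.EtOver.bcπ hi.1 E).left := hi.2 E.obj.hom _ _ (hi.1.isPullback E.obj.hom)
    (AlgSp.EtOver.bcπ hi.1 E).left.isClosedMap.isClosed_range
  have hdis := Groth.Agent.PushDense13.isEmpty_iff_disjoint hi.1
  refine ⟨fun G => ⟨?_, fun h => ?_⟩, fun G => ⟨?_, fun h => ?_⟩⟩
  · rintro ⟨F, ⟨i⟩⟩ E hE
    haveI : IsEmpty ↥((AlgSp.EtOver.bc hi.1).obj E).obj.left.left := (hdis E).2 hE
    exact ⟨Types.isTerminalEquivUnique _ ((Groth.Agent.PushDense13.isTerminalOfIsEmpty F _).ofIso
      (((sheafToPresheaf _ _).mapIso i).app (op E)))⟩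
  · exact Groth.Agent.PushDense13.mem_essImage hi.1 hd he hc G fun E hE =>
      ⟨(Types.isTerminalEquivUnique _).symm (h E ((hdis E).1 hE)).some⟩
  · rintro ⟨F, ⟨i⟩⟩ E hE
    haveI : IsEmpty ↥((AlgSp.EtOver.bc hi.1).obj E).obj.left.left := (hdis E).2 hE
    exact AddCommGrpCat.subsingleton_of_isZero
      ((((isZero_zero AddCommGrpCat.{u + 1}).isTerminal.uniqueUpToIso
        ((Groth.Agent.PushDense13.isTerminalOfIsEmpty F _).ofIso
          (((sheafToPresheaf _ _).mapIso i).app (op E)))).symm).isZero_iff.2 (isZero_zero _))
  · exact Groth.Agent.PushDense13.mem_essImage hi.1 hd he hc G fun E hE =>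
      haveI := h E ((hdis E).1 hE)
      ⟨(AddCommGrpCat.isZero_of_subsingleton _).isTerminal⟩

end Groth.Agent.S10334
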