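import Groth.Statements.S10339
import Groth.Agent.AlgSpDec.Basic
-- import your own Groth.Agent.* helpers here

set_option autoImplicit false
universe u
open CategoryTheory CategoryTheory.Limits AlgebraicGeometry Topology TopologicalSpace
open AlgSp

namespace Groth.Agent.S10339

/-- For a scheme S and a decent algebraic space X over S, every irreducible closed subset of |X| is the
closure of some point. (The published statement says that |X| is sober; this row states only the
existence of generic points, their uniqueness being the Kolmogorov property of |X|, a separate
statement.) -/
theorem result {S : Scheme.{u}} (X : AlgSp.Space S) (hX : AlgSp.IsDecent X.obj) :
    QuasiSober (AlgSp.Points X.obj) := Groth.Agent.AlgSpDec.quasiSober_points X.property hX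

end Groth.Agent.S10339
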