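import Groth.Statements.S1034
import Groth.Agent.TriCat.HocolimHomological

set_option autoImplicit false
universe v v' u u'
open CategoryTheory CategoryTheory.Limits
open DerLim

namespace Groth.Agent.S1034

open CategoryTheory.Pretriangulated in
/-- Let D be a pretriangulated category with countable direct sums, A an abelian category with exact
colimits of shape ℕ, and H : D ⥤ A a homological functor that preserves countable direct sums. If L
(with maps iₙ : Kₙ ⟶ L) is a homotopy colimit of a system (Kₙ, fₙ), then H(L) is the colimit of the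
H(Kₙ): there is an isomorphism colimₙ H(Kₙ) ≅ H(L) compatible with the maps H(iₙ). -/
theorem result {D : Type u} [Category.{v} D] [Preadditive D] [Limits.HasZeroObject D] [HasShift D ℤ]
    [∀ n : ℤ, (shiftFunctor D n).Additive] [Pretriangulated D] [IsTriangulated D] [HasColimitsOfShape (Discrete ℕ) D]
    {A : Type u'} [Category.{v'} A] [Abelian A] [HasColimitsOfShape ℕ A] [HasExactColimitsOfShape ℕ A]
    (H : D ⥤ A) [H.IsHomological] [PreservesColimitsOfShape (Discrete ℕ) H]
    (K : ℕ → D) (f : ∀ n, K n ⟶ K (n + 1)) (L : D) (i : ∀ n, K n ⟶ L) (hL : DerLim.IsHocolim K f L i) :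
    ∃ e : colimit (Functor.ofSequence (fun n => H.map (f n))) ≅ H.obj L,
      ∀ n : ℕ, colimit.ι (Functor.ofSequence (fun n => H.map (f n))) n ≫ e.hom = H.map (i n) := by
  have := Groth.Agent.TriCat.hasColimitsOfShape_discrete_nat (A := A)
  exact Groth.Agent.TriCat.exists_colimit_iso H K f L i hL

end Groth.Agent.S1034
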