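import Groth.Statements.S10346
import Groth.Agent.AlgSpDec.More
-- import your own Groth.Agent.* helpers here

set_option autoImplicit false
universe u
open CategoryTheory CategoryTheory.Limits AlgebraicGeometry Topology TopologicalSpace
open AlgSp

namespace Groth.Agent.S10346

/-- Let S be a scheme and X a decent algebraic space over S. Then for every representable etale a : h_U
⟶ X from a scheme U and every point u of U with image x ∈ |X|, the local dimension of U at u (the
dimension of X at x) equals the local dimension of the topological space |X| at x. -/
theorem result {S : Scheme.{u}} (X : AlgSp.Space S)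
    (hX : AlgSp.IsDecent X.obj) {U : Over S} (a : (AlgSp.yon S).obj U ⟶ X.obj) (ha : AlgSp.RepWith @Etale a)
    (u : ↥U.left) :
    FlatMor.localDim ↥U.left u = FlatMor.localDim (AlgSp.Points X.obj) (AlgSp.Points.ofPt a u) := by
  have := Groth.Agent.AlgSpDec.t0Space_points X.property hX
  have := Groth.Agent.AlgSpDec.quasiSober_points X.property hX
  exact Groth.Agent.AlgSpDec.localDim_eq hX ha u

end Groth.Agent.S10346
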