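import Groth.Statements.S10347
import Groth.Agent.AlgSpPts.Dim
-- import your own Groth.Agent.* helpers here

set_option autoImplicit false
universe u
open CategoryTheory CategoryTheory.Limits AlgebraicGeometry Topology TopologicalSpace
open AlgSp

namespace Groth.Agent.S10347

set_option backward.isDefEq.respectTransparency false
set_option backward.isDefEq.respectTransparency.types false

open AlgSp Groth.Agent.AlgSpLib Groth.Agent.AlgSpPts

/-- For a locally quasi-finite morphism f : X ⟶ Y of algebraic spaces over a scheme S (locally
quasi-finite and locally of finite type, etale locally on source and target), dim X ≤ dim Y. -/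
theorem result {S : Scheme.{u}} {X Y : AlgSp.Space S} (f : X ⟶ Y)
    (hf : AlgSp.LocP (@LocallyQuasiFinite ⊓ @LocallyOfFiniteType) f.hom) :
    AlgSp.dim X.obj ≤ AlgSp.dim Y.obj :=  by
  rw [dim_le_iff]
  intro U₀ a₀ ha₀ u₀
  obtain ⟨U, V, a, b, h, u, ha, hb, hu, hv, hP⟩ := exists_chart_at X.property Y.property hf (Points.ofPt a₀ u₀)
  have : LocallyQuasiFinite h.left := hP.1
  rw [coheight_eq_of_charts ha₀ ha hu.symm]
  let := specializationOrder ↥U.left
  let := specializationOrder ↥V.left
  exact (WithBot.coe_le_coe.2 (Order.coheight_le_coheight_apply_of_strictMono _ (strictMono_of_lqf h.left) u)).trans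
    (coheight_le_dim hb _)


end Groth.Agent.S10347
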