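import Groth.Statements.S10348
import Groth.Agent.AlgSpPts.Dim
-- import your own Groth.Agent.* helpers here

set_option autoImplicit false
universe u
open CategoryTheory CategoryTheory.Limits AlgebraicGeometry Topology TopologicalSpace
open AlgSp

namespace Groth.Agent.S10348

set_option backward.isDefEq.respectTransparency false
set_option backward.isDefEq.respectTransparency.types false

open AlgSp Groth.Agent.AlgSpLib Groth.Agent.AlgSpPts

/-- Let S be a scheme, X and Y algebraic spaces over S, and f : X ⟶ Y a morphism which is locally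
quasi-finite; let x ∈ |X| have image y ∈ |Y|. Then the local ring of X at x has dimension at most
that of the local ring of Y at the point y (both dimensions read on etale charts through the
points). -/
theorem result {S : Scheme.{u}} {X Y : AlgSp.Space S} (f : X ⟶ Y)
    (hf : AlgSp.LocP (@LocallyQuasiFinite ⊓ @LocallyOfFiniteType) f.hom) (x : AlgSp.Points X.obj)
    (d e : WithBot ℕ∞)
    (hx : AlgSp.HasAt (fun U u => ringKrullDim ↥(U.presheaf.stalk u) = d) X.obj x)
    (hy : AlgSp.HasAt (fun V v => ringKrullDim ↥(V.presheaf.stalk v) = e) Y.obj (AlgSp.Points.map f.hom x)) :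
    d ≤ e :=  by
  obtain ⟨U₀, a₀, u₀, ha₀, h₀, rfl⟩ := hx
  obtain ⟨V₀, b₀, v₀, hb₀, k₀, rfl⟩ := hy
  obtain ⟨U, V, a, b, h, u, ha, hb, hu, hv, hP⟩ := exists_chart_at X.property Y.property hf x
  have : LocallyQuasiFinite h.left := hP.1
  rw [ringKrullDim_stalk_eq_coheight, ringKrullDim_stalk_eq_coheight, coheight_eq_of_charts ha₀ ha (h₀.trans hu.symm),
    coheight_eq_of_charts hb₀ hb (k₀.trans hv.symm)]
  let := specializationOrder ↥U.left
  let := specializationOrder ↥V.left
  exact WithBot.coe_le_coe.2 (Order.coheight_le_coheight_apply_of_strictMono _ (strictMono_of_lqf h.left) u)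


end Groth.Agent.S10348
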