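import Groth.Statements.S10349
import Groth.Agent.AlgSpDec.OnePoint
-- import your own Groth.Agent.* helpers here

set_option autoImplicit false
universe u
open CategoryTheory CategoryTheory.Limits AlgebraicGeometry Topology TopologicalSpace
open AlgSp

namespace Groth.Agent.S10349

/-- Let S be a scheme, X a decent algebraic space over S, k a field over S and p : h_{Spec k} ⟶ X a
surjective etale map. Then X ≅ h_{Spec k'} for a field k' over S, and p corresponds to a finite
etale morphism Spec k ⟶ Spec k' over S, so that k is a finite separable extension of k'. -/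
theorem result {S : Scheme.{u}} (X : AlgSp.Space S)
    (hX : AlgSp.IsDecent X.obj) (k : Type u) [Field k] (str : Spec (CommRingCat.of k) ⟶ S)
    (p : (AlgSp.yon S).obj (Over.mk str) ⟶ X.obj) (hp : AlgSp.RepWith @Etale p) (hs : AlgSp.RepWith @Surjective p) :
    ∃ (k' : Type u) (_ : Field k') (str' : Spec (CommRingCat.of k') ⟶ S)
      (e : (AlgSp.yon S).obj (Over.mk str') ≅ X.obj) (c : Over.mk str ⟶ Over.mk str'),
      (AlgSp.yon S).map c ≫ e.hom = p ∧ IsFinite c.left ∧ Etale c.left := Groth.Agent.AlgSpDec.exists_iso_field_of_etale_surjective X.property hX p hp hs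

end Groth.Agent.S10349
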