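import Groth.Statements.S10351
import Groth.Agent.AlgSpPts.Geom
-- import your own Groth.Agent.* helpers here

set_option autoImplicit false
universe u
open CategoryTheory CategoryTheory.Limits AlgebraicGeometry Topology TopologicalSpace
open AlgSp

namespace Groth.Agent.S10351

set_option backward.isDefEq.respectTransparency false
set_option backward.isDefEq.respectTransparency.types false

open AlgSp Groth.Agent.AlgSpLib Groth.Agent.AlgSpPts

/-- Let S be a scheme, X and Y algebraic spaces over S, and f : X ⟶ Y a morphism which is representable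
by schemes. If Y is decent then X is decent. -/
theorem result {S : Scheme.{u}} {X Y : AlgSp.Space S} (f : X ⟶ Y)
    (hf : AlgSp.Representable f.hom) (hY : AlgSp.IsDecent Y.obj) : AlgSp.IsDecent X.obj :=  by
  intro x
  obtain ⟨p, hp, hm, hq⟩ := hY (Points.map f.hom x)
  let P := hf.pullback p.toHom
  have sq : IsPullback (hf.fst p.toHom) ((yon S).map (hf.snd p.toHom)) f.hom p.toHom := hf.isPullback p.toHom
  have hm' : Mono (hf.fst p.toHom) := PullbackCone.mono_fst_of_is_pullback_of_mono sq.isLimit
  have hq' : RepWith @QuasiCompact (hf.fst p.toHom) := repWith_of_isPullback sq.flip hq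
  obtain ⟨c, hc, -⟩ := exists_point_of_isPullback sq (x := x)
    (y := Points.ofScheme p.pt (IsLocalRing.closedPoint p.K)) (by
      rw [← hp, mk_eq_ofPt, Points.map_ofPt, Category.id_comp])
  obtain ⟨z, rfl⟩ : ∃ z, Points.ofScheme P z = c := ⟨Points.toScheme P c, Points.ofScheme_toScheme P c⟩
  refine ⟨FieldPt.ofPt (hf.fst p.toHom) z, ?_, ?_, ?_⟩
  · exact (hc.symm.trans (by rw [Points.map_ofPt, Category.id_comp]; rfl)).symm
  · rw [FieldPt.toHom_ofPt]
    have : Mono (Over.homMk (P.left.fromSpecResidueField z) rfl :
        Over.mk (P.left.fromSpecResidueField z ≫ P.hom) ⟶ P) :=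
      (Over.forget S).mono_of_mono_map (inferInstanceAs (Mono (P.left.fromSpecResidueField z)))
    exact mono_comp _ _
  · rw [FieldPt.toHom_ofPt]
    refine repWith_comp ((repWith_yon_map_iff _ _).2 ?_) hq'
    exact (quasiCompact_iff _).2 fun U _ _ => (Set.Subsingleton.finite fun a _ b _ => @Subsingleton.elim _ (inferInstanceAs (Subsingleton ↥(Spec (P.left.residueField z)))) a b).isCompact


end Groth.Agent.S10351
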