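import Groth.Statements.S10362
import Groth.Agent.AlgSpPts.Field
import Groth.Agent.AlgSpLib.EtLocalInst
import Groth.Agent.AlgSpLib.FpqcDescent
-- import your own Groth.Agent.* helpers here

set_option autoImplicit false
universe u
open CategoryTheory CategoryTheory.Limits AlgebraicGeometry Topology TopologicalSpace
open AlgSp

namespace Groth.Agent.S10362

set_option backward.isDefEq.respectTransparency false
set_option backward.isDefEq.respectTransparency.types false

open AlgSp Groth.Agent.AlgSpLib Groth.Agent.AlgSpPts

/-- (4) ⇒ (6): let X be an algebraic space over a scheme S and x ∈ |X| a point represented by a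
monomorphism Spec k ⟶ X which is representable quasi-compact. Then every morphism Spec k' ⟶ X in the
class of x, where k' is a field, is representable quasi-compact. -/
theorem result {S : Scheme.{u}} (X : AlgSp.Space S)
    (p q : AlgSp.FieldPt X.obj) (hm : Mono p.toHom) (hp : AlgSp.RepWith @QuasiCompact p.toHom)
    (h : AlgSp.Points.mk q = AlgSp.Points.mk p) : AlgSp.RepWith @QuasiCompact q.toHom :=  by
  obtain ⟨c, hc, -⟩ := existsUnique_factor p.toHom (representable_from_yon' X.property p.toHom) q.toHom
    (by rw [← mk_eq_ofPt, ← mk_eq_ofPt, h])
  rw [← hc]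
  refine repWith_comp ((repWith_yon_map_iff _ _).2 ?_) hp
  let c' : Spec (CommRingCat.of q.K) ⟶ Spec (CommRingCat.of p.K) := c.left
  exact (inferInstance : QuasiCompact c')


end Groth.Agent.S10362
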