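import Groth.Statements.S10363
import Groth.Agent.AlgSpDec.Factor
-- import your own Groth.Agent.* helpers here

set_option autoImplicit false
universe u
open CategoryTheory CategoryTheory.Limits AlgebraicGeometry Topology TopologicalSpace
open AlgSp

namespace Groth.Agent.S10363

/-- Let X be an algebraic space over a scheme S and x ∈ |X|. If there is a family of etale maps U_i ⟶ X
from schemes, jointly surjective on points, each with finite fibre of |U_i| → |X| over x, then every
etale V ⟶ X with V an affine scheme has finite fibre of |V| → |X| over x. (The converse implication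
is immediate.) -/
theorem result {S : Scheme.{u}} (X : AlgSp.Space S)
    (x : AlgSp.Points X.obj) {ι : Type u} (U : ι → Over S) (φ : ∀ i, (AlgSp.yon S).obj (U i) ⟶ X.obj)
    (hφ : ∀ i, AlgSp.RepWith @Etale (φ i))
    (hsurj : ∀ y : AlgSp.Points X.obj, ∃ (i : ι) (v : ↥(U i).left), AlgSp.Points.ofPt (φ i) v = y)
    (hfin : ∀ i, (AlgSp.Points.ofPt (φ i) ⁻¹' {x}).Finite)
    {V : Over S} [IsAffine V.left] (ψ : (AlgSp.yon S).obj V ⟶ X.obj) (hψ : AlgSp.RepWith @Etale ψ) :
    (AlgSp.Points.ofPt ψ ⁻¹' {x}).Finite := Groth.Agent.AlgSpDec.finite_fibre_of_cover x φ hφ hsurj hfin ψ hψ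

end Groth.Agent.S10363
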