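import Groth.Statements.S10364
import Groth.Agent.AlgSpPts.Field
-- import your own Groth.Agent.* helpers here

set_option autoImplicit false
universe u
open CategoryTheory CategoryTheory.Limits AlgebraicGeometry Topology TopologicalSpace
open AlgSp

namespace Groth.Agent.S10364

set_option backward.isDefEq.respectTransparency false
set_option backward.isDefEq.respectTransparency.types false

open AlgSp Groth.Agent.AlgSpLib Groth.Agent.AlgSpPts

/-- Let X be an algebraic space over a scheme S with a Zariski covering by open subspaces X_i ⟶ X. If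
each X_i is decent then X is decent. -/
theorem result {S : Scheme.{u}} (X : AlgSp.Space S) {ι : Type u} (Xi : ι → AlgSp.Space S)
    (j : ∀ i, Xi i ⟶ X) (hj : AlgSp.IsZarCover (fun i => (Xi i).obj) (fun i => (j i).hom))
    (hd : ∀ i, AlgSp.IsDecent (Xi i).obj) : AlgSp.IsDecent X.obj :=  by
  intro x
  obtain ⟨i, y, rfl⟩ := hj.2 x
  obtain ⟨p, rfl, hm, hq⟩ := hd i y
  have hmono : ∀ k, Mono (j k).hom := fun k => mono_of_repWith (repWith_mono (fun A B g (hg : IsOpenImmersion g) =>
    show Mono g from inferInstance) _ (hj.1 k))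
  have := hmono i
  refine ⟨p.map (j i).hom, rfl, by rw [FieldPt.toHom_map]; exact mono_comp _ _, ?_⟩
  rw [FieldPt.toHom_map]
  refine ⟨representable_from_yon' X.property _, fun T W g fst snd sq => ?_⟩
  -- the open pieces of `T` over the members of the covering
  let T' := fun k => (hj.1 k).rep.pullback g
  let u := fun k => (hj.1 k).rep.snd g
  have hu : ∀ k, IsOpenImmersion (u k).left := fun k => (hj.1 k).property_snd g
  have hcov : ∀ t : ↥T.left, ∃ k, t ∈ Set.range (u k).left := fun t => by
    obtain ⟨k, z, hz⟩ := hj.2 (Points.ofPt g t)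
    obtain ⟨v, -, hv⟩ := exists_lift ((hj.1 k).rep.isPullback g) hz
    exact ⟨k, v, hv⟩
  choose k hk using hcov
  let 𝒰 : T.left.OpenCover := Scheme.Cover.mkOfCovers ↥T.left (fun t => (T' (k t)).left) (fun t => (u (k t)).left)
    (fun t => ⟨t, hk t⟩) (fun t => hu (k t))
  change QuasiCompact snd.left
  refine IsZariskiLocalAtTarget.of_openCover (P := @QuasiCompact) 𝒰 fun t => ?_
  have sq1 := (IsPullback.of_hasPullback snd (u (k t)))
  let Wt := pullback snd (u (k t))
  suffices hqc : QuasiCompact (pullback.snd snd (u (k t))).left by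
    change QuasiCompact (pullback.snd snd.left (u (k t)).left)
    rw [← ((IsPullback.of_hasPullback snd.left (u (k t)).left)).isoIsPullback_hom_snd _ _ (sq1.map (Over.forget S))]
    exact (MorphismProperty.cancel_left_of_respectsIso @QuasiCompact _ _).2 hqc
  by_cases hne : IsEmpty ↥Wt.left
  · exact (quasiCompact_iff _).2 fun _ _ _ => (Set.subsingleton_of_subsingleton.finite).isCompact
  obtain ⟨w⟩ := not_isEmpty_iff.1 hne
  have sq2 := (sq1.map (AlgSp.yon S)).paste_horiz sq
  -- the point lies in the member `k t`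
  have hpt : Points.map (j (k t)).hom (Points.ofPt ((hj.1 (k t)).rep.fst g) ((pullback.snd snd (u (k t))).left w)) =
      Points.map (j i).hom (Points.mk p) := by
    rw [map_ofPt_fst ((hj.1 (k t)).rep.isPullback g)]
    have h1 : Points.map (p.toHom ≫ (j i).hom) (Points.ofScheme p.pt ((Over.Hom.left ((pullback.fst snd (u (k t))))
        ≫ ((AlgSp.yon S).preimage fst).left) w)) = Points.map (j i).hom (Points.mk p) := by
      rw [Points.map_ofPt, Category.id_comp, ← Points.map_ofPt, Points.ofPt_toHom]
    rw [← h1, Points.map_ofPt, Category.id_comp]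
    refine Eq.trans ((ofPt_comp _ _ _).symm.trans ((ofPt_comp _ _ _).symm.trans ?_))
      (ofPt_comp (pullback.fst snd (u (k t)) ≫ (AlgSp.yon S).preimage fst) (p.toHom ≫ (j i).hom) w)
    congr 1
    rw [Functor.map_comp, Functor.map_preimage, Category.assoc]
    erw [sq.w]
    rw [← Category.assoc, ← Category.assoc, ← Functor.map_comp, ← Functor.map_comp, pullback.condition]
  obtain ⟨p', hp', hm', hq'⟩ := hd (k t) (Points.ofPt ((hj.1 (k t)).rep.fst g) ((pullback.snd snd (u (k t))).left w))
  have hsame : Points.ofPt (p'.toHom ≫ (j (k t)).hom) (IsLocalRing.closedPoint p'.K) =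
      Points.ofPt (p.toHom ≫ (j i).hom) (IsLocalRing.closedPoint p.K) := by
    rw [← Points.map_ofPt, ← mk_eq_ofPt, hp', hpt, mk_eq_ofPt, Points.map_ofPt]
  have := hmono (k t)
  obtain ⟨c, hc, -⟩ := existsUnique_factor (p'.toHom ≫ (j (k t)).hom) (representable_from_yon' X.property _)
    (p.toHom ≫ (j i).hom) hsame
  have : Mono ((AlgSp.yon S).map c ≫ p'.toHom ≫ (j (k t)).hom) := by rw [hc]; exact mono_comp _ _
  have : Mono ((AlgSp.yon S).map c) := mono_of_mono _ (p'.toHom ≫ (j (k t)).hom)
  have : Mono c := (AlgSp.yon S).mono_of_mono_map this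
  have : Mono (c.left : Spec (CommRingCat.of p.K) ⟶ Spec (CommRingCat.of p'.K)) := inferInstanceAs (Mono c.left)
  have : IsIso c.left :=
    @isIso_of_mono_to_field (Spec (CommRingCat.of p.K)) p'.K _ c.left ‹_› ⟨IsLocalRing.closedPoint p.K⟩
  have hc' : RepWith @QuasiCompact ((AlgSp.yon S).map c ≫ p'.toHom) :=
    repWith_comp ((repWith_yon_map_iff _ _).2 (inferInstanceAs (QuasiCompact c.left))) hq'
  have hw := sq2.w
  rw [← hc, ← (hj.1 (k t)).rep.w g] at hw
  simp only [← Category.assoc] at hw
  rw [cancel_mono] at hw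
  refine hc'.2 ((hj.1 (k t)).rep.fst g) _ _ ⟨⟨?_⟩, ⟨PullbackCone.IsLimit.mk _
    (fun s => sq2.lift s.fst s.snd ?_) (fun s => sq2.lift_fst _ _ _) (fun s => sq2.lift_snd _ _ _)
    fun s m h1 h2 => sq2.hom_ext (by rw [sq2.lift_fst]; exact h1) (by rw [sq2.lift_snd]; exact h2)⟩⟩
  · simpa only [Category.assoc] using hw
  · rw [← hc, ← (hj.1 (k t)).rep.w g]
    have := congrArg (fun q => q ≫ (j (k t)).hom) s.condition
    simpa only [Category.assoc] using this


end Groth.Agent.S10364
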