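import Groth.Statements.S10367
import Groth.Agent.AlgSpDec.MonoPoint
-- import your own Groth.Agent.* helpers here

set_option autoImplicit false
universe u
open CategoryTheory CategoryTheory.Limits AlgebraicGeometry Topology TopologicalSpace
open AlgSp

namespace Groth.Agent.S10367

/-- (2) ⇒ (3): if an algebraic space Z over a scheme S admits a surjective flat morphism Spec k ⟶ Z with
k a field, then it also admits such a morphism which is moreover locally of finite type. -/
theorem result {S : Scheme.{u}} (Z : AlgSp.Space S)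
    (k : Type u) [Field k] (str : Spec (CommRingCat.of k) ⟶ S) (p : (AlgSp.yon S).obj (Over.mk str) ⟶ Z.obj)
    (hpf : AlgSp.LocP @Flat p) (hps : AlgSp.IsSurjectiveMor p) :
    ∃ (k' : Type u) (_ : Field k') (str' : Spec (CommRingCat.of k') ⟶ S) (q : (AlgSp.yon S).obj (Over.mk str') ⟶ Z.obj),
      AlgSp.LocP @LocallyOfFiniteType q ∧ AlgSp.LocP @Flat q ∧ AlgSp.IsSurjectiveMor q := by
  obtain ⟨hr, h₂, h₃⟩ := Groth.Agent.AlgSpDec.reduced_subsingleton_of_flat Z.property p hpf hps
  obtain ⟨k', hk', str', q, a, b, c, -⟩ := Groth.Agent.AlgSpDec.exists_lft_rep Z.property hr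
  exact ⟨k', hk', str', q, a, b, c⟩

end Groth.Agent.S10367
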