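import Groth.Statements.S10371
import Groth.Agent.AlgSpDec.MonoPoint
-- import your own Groth.Agent.* helpers here

set_option autoImplicit false
universe u
open CategoryTheory CategoryTheory.Limits AlgebraicGeometry Topology TopologicalSpace
open AlgSp

namespace Groth.Agent.S10371

/-- Two monomorphisms Z ⟶ X, Z' ⟶ X of algebraic spaces over a scheme S with image {x} in |X|, whose
sources admit a locally finitely presented, flat, surjective morphism from the spectrum of a field,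
are isomorphic over X. -/
theorem result {S : Scheme.{u}} (X : AlgSp.Space S) (x : AlgSp.Points X.obj)
    {Z Z' : AlgSp.Space S} (i : Z ⟶ X) (i' : Z' ⟶ X) [Mono i.hom] [Mono i'.hom]
    (hi : Set.range (AlgSp.Points.map i.hom) = {x}) (hi' : Set.range (AlgSp.Points.map i'.hom) = {x})
    (hZ : ∃ (k : Type u) (_ : Field k) (str : Spec (CommRingCat.of k) ⟶ S) (p : (AlgSp.yon S).obj (Over.mk str) ⟶ Z.obj),
        AlgSp.LocP @LocallyOfFinitePresentation p ∧ AlgSp.LocP @Flat p ∧ AlgSp.IsSurjectiveMor p)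
    (hZ' : ∃ (k : Type u) (_ : Field k) (str : Spec (CommRingCat.of k) ⟶ S) (p : (AlgSp.yon S).obj (Over.mk str) ⟶ Z'.obj),
        AlgSp.LocP @LocallyOfFinitePresentation p ∧ AlgSp.LocP @Flat p ∧ AlgSp.IsSurjectiveMor p) :
    ∃ e : Z' ≅ Z, e.hom ≫ i = i' := by
  obtain ⟨k, hk, str, p, h₁, h₂, h₃⟩ := hZ
  obtain ⟨k', hk', str', p', h₁', h₂', h₃'⟩ := hZ'
  obtain ⟨hr, hN, ⟨z⟩, hsub⟩ := Groth.Agent.AlgSpDec.flat_lfp_cover_package Z.property p h₁ h₂ h₃
  obtain ⟨hr', hN', ⟨z'⟩, hsub'⟩ := Groth.Agent.AlgSpDec.flat_lfp_cover_package Z'.property p' h₁' h₂' h₃'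
  have hP := Groth.Agent.AlgSpLib.isAlgSpace_pullback Z.property Z'.property X.property i.hom i'.hom
  obtain ⟨w, -, -⟩ := Groth.Agent.AlgSpLib.exists_point_of_isPullback (IsPullback.of_hasPullback i.hom i'.hom)
    (x := z) (y := z') ((hi.le ⟨z, rfl⟩ : _ = x).trans (hi'.le ⟨z', rfl⟩ : _ = x).symm)
  have := Groth.Agent.AlgSpDec.isIso_of_mono_of_point hP Z.property hr hN (pullback.fst i.hom i'.hom) w
  have := Groth.Agent.AlgSpDec.isIso_of_mono_of_point hP Z'.property hr' hN' (pullback.snd i.hom i'.hom) w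
  refine ⟨(ObjectProperty.fullyFaithfulι _).preimageIso ((asIso (pullback.snd i.hom i'.hom)).symm ≪≫ asIso (pullback.fst i.hom i'.hom)), ?_⟩
  ext1
  simp [pullback.condition]

end Groth.Agent.S10371
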