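import Groth.Statements.S10374
import Groth.Agent.AlgSpDec.ElemNbhd

set_option autoImplicit false
universe u
open CategoryTheory CategoryTheory.Limits AlgebraicGeometry Topology TopologicalSpace
open AlgSp

namespace Groth.Agent.S10374

/-- Let S be a scheme and X a decent algebraic space over S. Every point x ∈ |X| admits an etale
neighbourhood (U, u) ⟶ (X, x) which is elementary, with U an affine scheme and u the only point of U
over x; being elementary means that Spec κ(u) ⟶ X is a monomorphism, equivalently that the residue
field of X at x maps isomorphically to κ(u). -/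
theorem result {S : Scheme.{u}} (X : AlgSp.Space S) (hX : AlgSp.IsDecent X.obj)
    (x : AlgSp.Points X.obj) :
    ∃ (U : Over S) (a : (AlgSp.yon S).obj U ⟶ X.obj) (u : ↥U.left), IsAffine U.left ∧
      AlgSp.IsElemEtaleNbhd a u x ∧ AlgSp.Points.ofPt a ⁻¹' {x} = {u} := by
  obtain ⟨U, a, u, hU, h, h'⟩ := AlgSpDec.ElemNbhd.exists_elem_of_isDecent X.property hX x
  exact ⟨U, a, u, hU, h, h'⟩

end Groth.Agent.S10374
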