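import Groth.Statements.S10378
import Groth.Agent.AlgSpDec.LocSep
import Groth.Agent.S10360

set_option backward.isDefEq.respectTransparency false
set_option backward.isDefEq.respectTransparency.types false
-- import your own Groth.Agent.* helpers here

set_option autoImplicit false
universe u
open CategoryTheory CategoryTheory.Limits AlgebraicGeometry Topology TopologicalSpace
open AlgSp

namespace Groth.Agent.S10378

/-- A locally separated algebraic space is decent. Stated for X locally separated over the base scheme S
(diagonal over S representable by immersions), which agrees with the absolute notion because the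
diagonal of any scheme is an immersion. -/
theorem result {S : Scheme.{u}} (X : AlgSp.Space S)
    (hX : AlgSp.IsLocallySeparatedSp X.obj) : AlgSp.IsDecent X.obj :=  by
  intro x
  refine (S10360.result X x).1 fun U φ hU hφ R s t sq => ?_
  let e : Over.mk (U.left.isoSpec.inv ≫ U.hom) ≅ U := Over.isoMk U.left.isoSpec.symm rfl
  have sq' : IsPullback ((AlgSp.yon S).map (t ≫ e.inv)) ((AlgSp.yon S).map (s ≫ e.inv))
      ((AlgSp.yon S).map e.hom ≫ φ) ((AlgSp.yon S).map e.hom ≫ φ) :=
    IsPullback.of_iso sq (Iso.refl _) ((AlgSp.yon S).mapIso e.symm) ((AlgSp.yon S).mapIso e.symm) (Iso.refl _)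
      (by simp) (by simp) (by simp [← Functor.map_comp_assoc]) (by simp [← Functor.map_comp_assoc])
  obtain ⟨h₁, h₂⟩ := AlgSpDec.LocSep.finite_fibres_of_spec hX ((AlgSp.yon S).map e.hom ≫ φ)
    (AlgSpLib.repWith_comp ((repWith_yon_map_iff _ _).2 (inferInstanceAs (Etale U.left.isoSpec.inv))) hφ)
    R (s ≫ e.inv) (t ≫ e.inv) sq' x
  refine ⟨(h₁.image e.hom.left).subset fun u hu => ⟨e.inv.left u, ?_, ?_⟩, ?_⟩
  · change AlgSp.Points.ofPt _ _ = x
    rw [AlgSpLib.ofPt_comp, ← Scheme.Hom.comp_apply, ← Over.comp_left, e.inv_hom_id]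
    exact hu
  · rw [← Scheme.Hom.comp_apply, ← Over.comp_left, e.inv_hom_id]; rfl
  · rwa [← Category.assoc, ← Functor.map_comp, Category.assoc, e.inv_hom_id, Category.comp_id] at h₂
end Groth.Agent.S10378
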