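import Groth.Statements.S10379
import Groth.Agent.AlgSpVal.ExistDecent

set_option backward.isDefEq.respectTransparency false
set_option backward.isDefEq.respectTransparency.types false
-- import your own Groth.Agent.* helpers here

set_option autoImplicit false
universe u
open CategoryTheory CategoryTheory.Limits AlgebraicGeometry Topology TopologicalSpace
open AlgSp

namespace Groth.Agent.S10379

/-- Let S be a scheme, X and Y algebraic spaces over S with X decent, and f : X ⟶ Y a quasi-compact
morphism. If f is universally closed, then the valuative criterion's existence part holds for f.
(The published statement is the equivalence of the two conditions; the converse implication holds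
for every quasi-compact f and is not part of this row.) -/
theorem result {S : Scheme.{u}} {X Y : AlgSp.Space S} (f : X ⟶ Y)
    (hq : AlgSp.IsQuasiCompactMor f.hom) (hX : AlgSp.IsDecent X.obj) (hc : AlgSp.IsUnivClosedMor f.hom) :
    AlgSp.ExistVC f.hom := 
  Groth.Agent.AlgSpVal.existVC_of_univClosed_decent X.property Y.property
    (Groth.Agent.AlgSpDec.isDecentMor_of_isDecent X.property Y.property f.hom hX) hc
end Groth.Agent.S10379
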