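import Groth.Statements.S1038
import Groth.Agent.KExact.SPerfectMain
-- import your own Groth.Agent.* helpers here

set_option autoImplicit false
set_option linter.style.haveILetI false
set_option backward.isDefEq.respectTransparency false
set_option backward.isDefEq.respectTransparency.types false

universe u
open CategoryTheory CategoryTheory.Limits AlgebraicGeometry
attribute [local instance] HasDerivedCategory.standard
open Perf

namespace Groth.Agent.S1038

/-- Let the scheme X be quasi-compact, quasi-separated and have the resolution property, E and F
strictly perfect complexes, and α, β : E ⟶ F cochain maps with the same image in D(O_X). Then there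
are a strictly perfect complex G and a quasi-isomorphism γ : G ⟶ E such that γ ≫ α and γ ≫ β are
homotopic. -/
theorem result (X : Scheme.{u}) [CompactSpace ↥X] [QuasiSeparatedSpace ↥X] (hX : PerfAux.HasResolutionProperty X)
    (E F : CochainComplex X.Modules ℤ) (hE : DCoh.IsStrictlyPerfect E) (hF : DCoh.IsStrictlyPerfect F)
    (α β : E ⟶ F) (hαβ : DerivedCategory.Q.map α = DerivedCategory.Q.map β) :
    ∃ (G : CochainComplex X.Modules ℤ) (γ : G ⟶ E), DCoh.IsStrictlyPerfect G ∧ QuasiIso γ ∧ Nonempty (Homotopy (γ ≫ α) (γ ≫ β)) := KExact.SPerfect.exists_homotopy hX hE hF α β hαβ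
end Groth.Agent.S1038
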