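import Groth.Statements.S10380
import Groth.Agent.AlgSpDec.DecentMor

set_option backward.isDefEq.respectTransparency false
set_option backward.isDefEq.respectTransparency.types false
-- import your own Groth.Agent.* helpers here

set_option autoImplicit false
universe u
open CategoryTheory CategoryTheory.Limits AlgebraicGeometry Topology TopologicalSpace
open AlgSp

namespace Groth.Agent.S10380

/-- A morphism f : X ⟶ Y of algebraic spaces over a scheme S whose source X is decent is a decent
morphism. -/
theorem result {S : Scheme.{u}} {X Y : AlgSp.Space S} (f : X ⟶ Y)
    (hX : AlgSp.IsDecent X.obj) : AlgSp.IsDecentMor f.hom := Groth.Agent.AlgSpDec.isDecentMor_of_isDecent X.property Y.property f.hom hX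
end Groth.Agent.S10380
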