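import Groth.Statements.S10381
import Groth.Agent.AlgSpDec.DecentMor

set_option backward.isDefEq.respectTransparency false
set_option backward.isDefEq.respectTransparency.types false
-- import your own Groth.Agent.* helpers here

set_option autoImplicit false
universe u
open CategoryTheory CategoryTheory.Limits AlgebraicGeometry Topology TopologicalSpace
open AlgSp

namespace Groth.Agent.S10381

/-- If f : X ⟶ Y is a decent morphism of algebraic spaces over a scheme S and Y is decent, then X is
decent. -/
theorem result {S : Scheme.{u}} {X Y : AlgSp.Space S} (f : X ⟶ Y)
    (hf : AlgSp.IsDecentMor f.hom) (hY : AlgSp.IsDecent Y.obj) : AlgSp.IsDecent X.obj := Groth.Agent.AlgSpDec.isDecent_of_isDecentMor X.property f.hom hf hY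
end Groth.Agent.S10381
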