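import Groth.Statements.S10384
import Groth.Agent.AlgSpDec.DecentMor

set_option backward.isDefEq.respectTransparency false
set_option backward.isDefEq.respectTransparency.types false
-- import your own Groth.Agent.* helpers here

set_option autoImplicit false
universe u
open CategoryTheory CategoryTheory.Limits AlgebraicGeometry Topology TopologicalSpace
open AlgSp

namespace Groth.Agent.S10384

/-- Let f : X ⟶ Y be a quasi-compact, etale and surjective morphism of algebraic spaces over a scheme S.
If X is decent then Y is decent. -/
theorem result {S : Scheme.{u}} {X Y : AlgSp.Space S} (f : X ⟶ Y)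
    (hq : AlgSp.IsQuasiCompactMor f.hom) (he : AlgSp.IsEtaleMor f.hom) (hs : AlgSp.IsSurjectiveMor f.hom)
    (hX : AlgSp.IsDecent X.obj) : AlgSp.IsDecent Y.obj := Groth.Agent.AlgSpDec.isDecent_of_qc_surjective X.property Y.property f.hom hq hs hX
end Groth.Agent.S10384
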