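import Groth.Statements.S10387
import Groth.Agent.AlgSpDec.DecentMor
import Groth.Agent.AlgSpDec.Glue
import Groth.Agent.AlgSpLib.Covers

set_option backward.isDefEq.respectTransparency false
set_option backward.isDefEq.respectTransparency.types false
-- import your own Groth.Agent.* helpers here

set_option autoImplicit false
universe u
open CategoryTheory CategoryTheory.Limits AlgebraicGeometry Topology TopologicalSpace
open AlgSp

namespace Groth.Agent.S10387

/-- (5) ⇒ (1): let S be a scheme, X and Y algebraic spaces over S, f : X ⟶ Y a morphism, and V ⟶ Y a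
surjective etale morphism from a scheme. If the base change V ×_Y X ⟶ V is a decent morphism, then f
is decent. -/
theorem result {S : Scheme.{u}} {X Y : AlgSp.Space S} (f : X ⟶ Y) {V : Over S}
    (p : (AlgSp.yon S).obj V ⟶ Y.obj) (hp : AlgSp.RepWith @Etale p) (hps : AlgSp.RepWith @Surjective p)
    (X' : AlgSp.Sp S) (fst : X' ⟶ X.obj) (snd : X' ⟶ (AlgSp.yon S).obj V) (hsq : IsPullback fst snd f.hom p)
    (h : AlgSp.IsDecentMor snd) : AlgSp.IsDecentMor f.hom := by
  refine Groth.Agent.AlgSpDec.isDecentMor_of_affine X.property Y.property f.hom fun Z g P pf ps hZ sqP => ?_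
  have hr : AlgSp.Representable p := hp.rep
  let T := hr.pullback g
  let r : T ⟶ Z := hr.snd g
  have hre : Etale r.left := hp.property_snd g
  have hrs : Surjective r.left := hps.property _ _ _ (hr.isPullback g)
  have : IsAffine Z.left := hZ
  obtain ⟨m, W, idx, k, hW, hk, hWs⟩ := Groth.Agent.AlgSpLib.exists_affine_refinement (fun _ : Unit => T) (fun _ => r)
    (fun _ => r.left.isOpenMap) (fun z => ⟨(), r.left.surjective z⟩)
  let W' : ULift.{u} (Fin m) → Over S := fun j => W j.down
  have : ∀ j, IsAffine (W' j).left := fun j => hW j.down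
  let T' : Over S := Groth.Agent.AlgSpDec.sigmaOver W'
  have : IsAffine T'.left := inferInstanceAs (IsAffine (∐ fun j => (W' j).left))
  let q : T' ⟶ T := CategoryTheory.Over.homMk (Sigma.desc fun j => (k j.down).left) (Sigma.hom_ext _ _ fun j => by
    change Sigma.ι _ j ≫ Sigma.desc _ ≫ T.hom = Sigma.ι _ j ≫ Sigma.desc _
    rw [Sigma.ι_desc_assoc, Sigma.ι_desc]
    exact Over.w _)
  have hq : ∀ j, Groth.Agent.AlgSpDec.sigmaι W' j ≫ q = k j.down := fun j => Over.OverMorphism.ext (Sigma.ι_desc _ j)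
  have hce : Etale (q ≫ r).left := by
    refine IsZariskiLocalAtSource.of_openCover (sigmaOpenCover fun j => (W' j).left) fun j => ?_
    change Etale (Sigma.ι (fun j => (W' j).left) j ≫ Sigma.desc _ ≫ r.left)
    rw [Sigma.ι_desc_assoc]
    have := hk j.down
    exact inferInstance
  have hcs : Surjective (q ≫ r).left := ⟨fun z => by
    obtain ⟨j, y, rfl⟩ := hWs z
    refine ⟨(Groth.Agent.AlgSpDec.sigmaι W' ⟨j⟩).left y, ?_⟩
    rw [← Scheme.Hom.comp_apply, ← Over.comp_left, ← Category.assoc, hq]⟩
  have hc : AlgSp.RepWith @Etale ((AlgSp.yon S).map (q ≫ r)) := (AlgSp.repWith_yon_map_iff _ _).2 hce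
  have hc' : AlgSp.RepWith @QuasiCompact ((AlgSp.yon S).map (q ≫ r)) := by
    refine (AlgSp.repWith_yon_map_iff _ _).2 ?_
    exact inferInstance
  let P' := pullback ps ((AlgSp.yon S).map (q ≫ r))
  have sP : IsPullback (pullback.fst ps ((AlgSp.yon S).map (q ≫ r))) (pullback.snd ps ((AlgSp.yon S).map (q ≫ r)))
      ps ((AlgSp.yon S).map (q ≫ r)) := IsPullback.of_hasPullback _ _
  have hPs := Groth.Agent.AlgSpLib.isAlgSpace_of_isPullback sqP X.property (AlgSp.IsAlgSpace.yon_obj Z) Y.property
  have hP's := Groth.Agent.AlgSpLib.isAlgSpace_of_isPullback sP hPs (AlgSp.IsAlgSpace.yon_obj _) (AlgSp.IsAlgSpace.yon_obj _)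
  have hdec : AlgSp.IsDecent P' := by
    let v : (AlgSp.yon S).obj T' ⟶ (AlgSp.yon S).obj V := (AlgSp.yon S).map q ≫ (AlgSp.yon S).map (hr.fst' g)
    have e : v ≫ p = (AlgSp.yon S).map (q ≫ r) ≫ g := by
      rw [Category.assoc, Functor.relativelyRepresentable.map_fst', hr.w, Functor.map_comp, Category.assoc]
    refine h v (hsq.lift (pullback.fst ps _ ≫ pf) (pullback.snd ps _ ≫ v) ?_) (pullback.snd ps _) ?_
    · rw [Category.assoc, sqP.w, Category.assoc, e, ← Category.assoc, pullback.condition, Category.assoc]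
    · refine IsPullback.of_right ?_ (hsq.lift_snd _ _ _) hsq
      rw [IsPullback.lift_fst, e]
      exact sP.paste_horiz sqP
  refine Groth.Agent.AlgSpDec.isDecent_of_qc_surjective hP's hPs (pullback.fst ps _)
    (Groth.Agent.AlgSpPts.isQuasiCompactMor_of_repWith (Groth.Agent.AlgSpLib.repWith_of_isPullback sP.flip hc')) ?_ hdec
  exact Groth.Agent.AlgSpLib.surjective_map_of_repWith
    (Groth.Agent.AlgSpLib.repWith_of_isPullback sP.flip ((AlgSp.repWith_yon_map_iff _ _).2 hcs))
end Groth.Agent.S10387
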