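import Groth.Statements.S10390
import Groth.Agent.AlgSpDec.MonoPtsFibre

set_option backward.isDefEq.respectTransparency false
set_option backward.isDefEq.respectTransparency.types false
-- import your own Groth.Agent.* helpers here

set_option autoImplicit false
universe u
open CategoryTheory CategoryTheory.Limits AlgebraicGeometry Topology TopologicalSpace
open AlgSp

namespace Groth.Agent.S10390

/-- Let S be a scheme, X and Y algebraic spaces over S, and f : X ⟶ Y a morphism, and let y ∈ |Y| be a
point represented by a monomorphism Spec k ⟶ Y which is representable quasi-compact. Then for the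
fibre X_k = Spec k ×_Y X the map |X_k| → |X| is a homeomorphism of |X_k| onto f⁻¹({y}) with its
induced topology. -/
theorem result {S : Scheme.{u}} {X Y : AlgSp.Space S} (f : X ⟶ Y)
    (r : AlgSp.FieldPt Y.obj) (hm : Mono r.toHom) (hq : AlgSp.RepWith @QuasiCompact r.toHom)
    (Xk : AlgSp.Space S) (fst : Xk ⟶ X) (snd : Xk.obj ⟶ (AlgSp.yon S).obj r.pt) (hsq : IsPullback fst.hom snd f.hom r.toHom) :
    IsEmbedding (AlgSp.Points.map fst.hom) ∧
      Set.range (AlgSp.Points.map fst.hom) = AlgSp.Points.map f.hom ⁻¹' {AlgSp.Points.mk r} :=  @AlgSpDec.isEmbedding_fibre S X.obj Y.obj X.property Y.property f.hom r hm hq Xk.obj fst.hom snd hsq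
end Groth.Agent.S10390
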