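import Groth.Statements.S10393
import Groth.Agent.AlgSpPts.Diag
import Groth.Agent.AlgSpPts.FppfTarget
import Groth.Agent.AlgSpPts.OpenSub
import Groth.Agent.AlgSpPts.Imm
import Groth.Agent.AlgSpDec.LqfScheme
import Groth.Agent.AlgSpDec.OnePointGeneral
import Groth.Agent.S10378
import Groth.Agent.AlgSpLib.EtaleSmoothLocal

set_option backward.isDefEq.respectTransparency false
set_option backward.isDefEq.respectTransparency.types false
-- import your own Groth.Agent.* helpers here

set_option autoImplicit false
universe u
open CategoryTheory CategoryTheory.Limits AlgebraicGeometry Topology TopologicalSpace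
open AlgSp

namespace Groth.Agent.S10393

/-- Let S be a scheme, Y a scheme over S whose underlying topological space is discrete (equivalently, Y
is a disjoint union of spectra of local rings of dimension zero), and X an algebraic space over S
with a monomorphism X ⟶ Y over S. Then X is a scheme. -/
theorem result {S : Scheme.{u}} (Y : Over S) [DiscreteTopology ↥Y.left]
    (X : AlgSp.Space S) (f : X ⟶ (AlgSp.ofScheme S).obj Y) [Mono f.hom] : X.obj.obj.IsRepresentable :=  by
  have hY : AlgSp.RepWith @IsImmersion (Limits.diag ((AlgSp.yon S).obj Y)) := by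
    have e : (prod.lift (𝟙 Y) (𝟙 Y)).left = pullback.diagonal Y.hom ≫ (Over.prodLeftIsoPullback Y Y).inv := by
      rw [Iso.eq_comp_inv]
      apply pullback.hom_ext
      · rw [Category.assoc, Over.prodLeftIsoPullback_hom_fst, pullback.diagonal_fst, ← Over.comp_left, prod.lift_fst]
        rfl
      · rw [Category.assoc, Over.prodLeftIsoPullback_hom_snd, pullback.diagonal_snd, ← Over.comp_left, prod.lift_snd]
        rfl
    have e' : Limits.diag ((AlgSp.yon S).obj Y) =
        (AlgSp.yon S).map (prod.lift (𝟙 Y) (𝟙 Y)) ≫ prodComparison (AlgSp.yon S) Y Y := by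
      apply prod.hom_ext
      · rw [Category.assoc, prodComparison_fst, ← Functor.map_comp, prod.lift_fst]
        simp
      · rw [Category.assoc, prodComparison_snd, ← Functor.map_comp, prod.lift_snd]
        simp
    rw [e']
    refine AlgSpLib.repWith_comp ((AlgSp.repWith_yon_map_iff _ _).2 ?_) (AlgSpLib.repWith_of_isIso _ _)
    rw [e]
    infer_instance
  have hX : AlgSp.IsLocallySeparatedSp X.obj := by
    refine AlgSpLib.repWith_of_isPullback (f := Limits.diag _) (g := prod.map f.hom f.hom) (fst := f.hom) ?_ hY
    refine ⟨⟨by apply prod.hom_ext <;> simp⟩, ⟨PullbackCone.IsLimit.mk _ (fun s => s.snd ≫ prod.fst) ?_ ?_ ?_⟩⟩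
    · intro s
      have h1 := s.condition =≫ prod.fst
      simp at h1
      rw [Category.assoc, ← h1]
    · intro s
      have h1 := s.condition =≫ prod.fst
      have h2 := s.condition =≫ prod.snd
      simp at h1 h2
      apply prod.hom_ext
      · simp
      · rw [← cancel_mono f.hom]
        simp only [Category.assoc, prod.lift_snd, Category.comp_id]
        rw [← h2, h1]
    · intro s m _ m2
      rw [← m2]
      simp
  have hd : AlgSp.IsDecent X.obj := S10378.result X hX
  have hT := AlgSpDec.t0Space_points X.property hd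
  have hc : Continuous fun x : AlgSp.Points X.obj => AlgSp.Points.toScheme Y (AlgSp.Points.map f.hom x) :=
    (AlgSp.Points.schemeHomeo Y).symm.continuous.comp (AlgSp.Points.continuous_map f.hom)
  have hinj : Function.Injective (AlgSp.Points.map f.hom) := fun w w' h => by
    obtain ⟨d, hd, hd'⟩ := AlgSpLib.exists_point_of_isPullback (IsKernelPair.id_of_mono f.hom) h
    rw [AlgSp.Points.map_id] at hd hd'
    exact hd.symm.trans hd'
  obtain ⟨Q, ⟨e⟩⟩ := AlgSpDec.exists_rep_of_points X.property fun x => by
    have hx : IsOpen ({x} : Set (AlgSp.Points X.obj)) := by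
      refine (isOpen_discrete ({AlgSp.Points.toScheme Y (AlgSp.Points.map f.hom x)} : Set ↥Y.left)).preimage hc
        |> fun h => ?_
      convert! h using 1
      ext x'
      simp only [Set.mem_singleton_iff, Set.mem_preimage]
      exact ⟨fun h => h ▸ rfl, fun h => hinj ((AlgSp.Points.schemeHomeo Y).symm.injective h)⟩
    obtain ⟨X', j, hX', hj, hr⟩ := AlgSpPts.exists_open_subspace X.property hx
    have hemb := AlgSpPts.isEmbedding_map X.property
      (AlgSpLib.repWith_mono (Q := @IsImmersion) (fun _ _ g (_ : IsOpenImmersion g) => inferInstanceAs (IsImmersion g)) _ hj)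
    obtain ⟨x', hx'⟩ : x ∈ Set.range (AlgSp.Points.map j) := hr ▸ rfl
    have : Nonempty (AlgSp.Points X') := ⟨x'⟩
    have : Subsingleton (AlgSp.Points X') := ⟨fun a b => hemb.injective
      ((show AlgSp.Points.map j a = x from (hr.le ⟨a, rfl⟩)).trans
        (show AlgSp.Points.map j b = x from (hr.le ⟨b, rfl⟩)).symm)⟩
    have hdj : AlgSp.IsDecent X' := AlgSpDec.isDecent_of_isEtaleMor hX' X.property j
      (AlgSpLib.isEtaleMor_of_repWith_isOpenImmersion hj) hd
    obtain ⟨Z, -, ⟨e⟩⟩ := AlgSpDec.exists_affine_iso_of_subsingleton hX' hdj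
    refine ⟨Z, e.hom ≫ j, AlgSp.Points.toScheme Z (AlgSp.Points.map e.inv x'),
      AlgSpLib.repWith_comp (AlgSpLib.repWith_of_isIso _ e.hom) hj, ?_⟩
    rw [AlgSp.Points.ofPt_eq_map_ofScheme, AlgSp.Points.ofScheme_toScheme, ← AlgSp.Points.map_comp,
      e.inv_hom_id_assoc, hx']
  exact AlgSpDec.isRepresentable_of_iso e
end Groth.Agent.S10393
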