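import Groth.Statements.S10397
import Groth.Agent.AlgSpDec.DecentGeneric

set_option backward.isDefEq.respectTransparency false
set_option backward.isDefEq.respectTransparency.types false
-- import your own Groth.Agent.* helpers here

set_option autoImplicit false
universe u
open CategoryTheory CategoryTheory.Limits AlgebraicGeometry Topology TopologicalSpace
open AlgSp

namespace Groth.Agent.S10397

/-- (1) ⇔ (3): an algebraic space X over a scheme S is decent with |X| having finitely many irreducible
components if and only if X has a dense open subscheme X' with finitely many irreducible components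
whose generic points x'_j give quasi-compact morphisms Spec κ(x'_j) ⟶ X. -/
theorem result {S : Scheme.{u}} (X : AlgSp.Space S) :
    (AlgSp.IsDecent X.obj ∧ (irreducibleComponents (AlgSp.Points X.obj)).Finite) ↔
      ∃ (X' : Over S) (j : (AlgSp.yon S).obj X' ⟶ X.obj), AlgSp.RepWith @IsOpenImmersion j ∧
        Dense (Set.range (AlgSp.Points.ofPt j)) ∧ (irreducibleComponents ↥X'.left).Finite ∧
        ∀ x' : ↥X'.left, (∃ T ∈ irreducibleComponents ↥X'.left, IsGenericPoint x' T) →
          AlgSp.RepWith @QuasiCompact (AlgSp.FieldPt.ofPt j x').toHom := 
  Groth.Agent.AlgSpDec.isDecent_finite_components_iff X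
end Groth.Agent.S10397
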