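import Groth.Statements.S10398
import Groth.Agent.AlgSpDec.GenericFinite
import Groth.Agent.AlgSpLib.AffineDescProps
import Groth.Agent.AlgSpLib.LargestOpen

set_option backward.isDefEq.respectTransparency false
set_option backward.isDefEq.respectTransparency.types false
-- import your own Groth.Agent.* helpers here

set_option autoImplicit false
universe u
open CategoryTheory CategoryTheory.Limits AlgebraicGeometry Topology TopologicalSpace
open AlgSp Groth.Agent.AlgSpLib Groth.Agent.AlgSpPts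

namespace Groth.Agent.S10398

/-- (2) ⇒ (3): let S be a scheme, X and Y algebraic spaces over S, and f : X ⟶ Y a quasi-separated
morphism of finite type, and let y ∈ |Y| be a codimension 0 point of Y. Suppose that at every point
of |X| lying over y the morphism f is quasi-finite. Then there is an open subspace Y' ⊆ Y containing
y for which the morphism Y' ×_Y X ⟶ Y' is finite. -/
theorem result {S : Scheme.{u}} {X Y : AlgSp.Space S} (f : X ⟶ Y)
    (hqs : AlgSp.IsQuasiSeparatedMor f.hom) (hft : AlgSp.IsFiniteTypeMor f.hom) (y : AlgSp.Points Y.obj)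
    (hy : AlgSp.HasAt (fun U u => ringKrullDim ↥(U.presheaf.stalk u) = 0) Y.obj y)
    (hqf : ∀ x : AlgSp.Points X.obj, AlgSp.Points.map f.hom x = y → AlgSp.HasAtMor (fun U _ h u => ∃ W : U.Opens, u ∈ W ∧ LocallyQuasiFinite (W.ι ≫ h) ∧ LocallyOfFiniteType (W.ι ≫ h)) f.hom x) :
    ∃ (Y' X' : AlgSp.Space S) (j : Y' ⟶ Y) (fst : X' ⟶ Y') (snd : X' ⟶ X), AlgSp.RepWith @IsOpenImmersion j.hom ∧
      y ∈ Set.range (AlgSp.Points.map j.hom) ∧ IsPullback fst.hom snd.hom j.hom f.hom ∧
      AlgSp.IsFiniteMor fst.hom :=  by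
  obtain ⟨W, c, w, hc, hcw, hdim⟩ := hy
  obtain ⟨V, iV, v, hV, hiV, hvw, hb⟩ := AlgSpDec.exists_affine_restrict hc w
  have : IsAffine V.left := hV
  let b : (AlgSp.yon S).obj V ⟶ Y.obj := (yon S).map iV ≫ c
  have hbv : Points.ofPt b v = y := by rw [AlgSpLib.ofPt_comp, hvw, hcw]
  have hv : Order.coheight v = 0 := by
    rw [AlgSpPts.coheight_eq_of_charts hb hc (hbv.trans hcw.symm)]
    rw [ringKrullDim_stalk_eq_coheight] at hdim
    exact_mod_cast hdim
  have hl := hft.1
  have sqP := IsPullback.of_hasPullback f.hom b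
  have hP : IsAlgSpace (pullback f.hom b) :=
    AlgSpLib.isAlgSpace_of_isPullback sqP X.property (IsAlgSpace.yon_obj _) Y.property
  obtain ⟨V', ι, hι, ⟨v', hv'⟩, hfin⟩ := AlgSpDec.GenericFinite.exists_finite_nbhd hP (pullback.snd f.hom b)
    (locP_of_isPullback sqP X.property Y.property (IsAlgSpace.yon_obj _) hl)
    (isQuasiCompactMor_of_isPullback sqP hft.2) (isQuasiSeparatedMor_of_isPullback sqP hqs) v hv
    (fun z hz => by
      refine AlgSpDec.RelDimSp.baseChange sqP X.property Y.property (IsAlgSpace.yon_obj _) hl z 0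
        ((S10313.qfAt_iff hl _).1 (hqf _ ?_))
      rw [← Points.map_comp, sqP.w, Points.map_comp, hz, ← Points.ofPt_eq_map_ofScheme, hbv])
  let c₀ : (AlgSp.yon S).obj V' ⟶ Y.obj := (yon S).map ι ≫ b
  have hιe : RepWith @Etale ((yon S).map ι) := (repWith_yon_map_iff _ ι).2 (inferInstanceAs (Etale ι.left))
  have hc₀ : RepWith @Etale c₀ := repWith_comp hιe hb
  have hy₀ : y ∈ Set.range (Points.ofPt c₀) := ⟨v', by rw [AlgSpLib.ofPt_comp, hv', hbv]⟩
  obtain ⟨Y', j, hY', hj, hrange⟩ := exists_open_subspace Y.property (isOpenMap_ofPt hc₀).isOpen_range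
  have hrc : ∀ z, Points.map c₀ z ∈ Set.range (Points.ofPt c₀) := fun z => by
    obtain ⟨T, g, t, -, rfl⟩ := AlgSpLib.exists_ofPt_eq z
    obtain ⟨g', rfl⟩ := (yon S).map_surjective g
    exact ⟨g'.left t, by rw [Points.map_ofPt]; exact (AlgSpLib.ofPt_comp g' c₀ t).symm⟩
  obtain ⟨c', hc'⟩ := exists_lift_openImmersion (IsAlgSpace.yon_obj V') hY' Y.property hj c₀ (by
    rintro _ ⟨z, rfl⟩; rw [hrange]; exact hrc z)
  have hje : RepWith @Etale j :=
    AlgSpLib.repWith_mono (fun _ _ e (_ : IsOpenImmersion e) => (inferInstance : Etale e)) _ hj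
  have hc'e : RepWith @Etale c' := repWith_etale_of_comp c' j (by rw [hc']; exact hc₀) hje
  have hc's : IsSurjectiveMor c' := fun y' => by
    obtain ⟨t, ht⟩ : Points.map j y' ∈ Set.range (Points.ofPt c₀) := hrange ▸ ⟨y', rfl⟩
    have : Mono j := AlgSpDec.mono_of_openImmersion hj
    refine ⟨Points.ofScheme V' t, injective_map (AlgSpLib.repWith_mono
      (fun _ _ e (_ : IsOpenImmersion e) => e.isOpenEmbedding.injective) _ hj) ?_⟩
    rw [← Points.map_comp, hc', ← Points.ofPt_eq_map_ofScheme, ht]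
  have hX' : IsAlgSpace (pullback j f.hom) :=
    AlgSpLib.isAlgSpace_of_isPullback (IsPullback.of_hasPullback j f.hom) hY' X.property Y.property
  refine ⟨⟨Y', hY'⟩, ⟨_, hX'⟩, ObjectProperty.homMk j, ObjectProperty.homMk (pullback.fst j f.hom),
    ObjectProperty.homMk (pullback.snd j f.hom), hj, ?_, IsPullback.of_hasPullback _ _, ?_⟩
  · show y ∈ Set.range (Points.map j)
    rw [hrange]; exact hy₀
  · have sq₁ := IsPullback.of_hasPullback (pullback.fst j f.hom) c'
    refine (isLocalOnBase_fpqc_isFiniteMor (fun _ : PUnit.{u + 1} => _) (fun _ => c') hY'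
      (fun _ => IsAlgSpace.yon_obj V') (isFpqcCover_of_isEtaleMor (IsAlgSpace.yon_obj _) hY'
        (isEtaleMor_of_repWith hc'e) hc's) (pullback.fst j f.hom) hX' (fun _ => _)
      (fun _ => pullback.snd (pullback.fst j f.hom) c') (fun _ => pullback.fst (pullback.fst j f.hom) c')
      (fun _ => isAlgSpace_of_isPullback sq₁ hX' (IsAlgSpace.yon_obj _) hY') (fun _ => sq₁)).2 fun _ => ?_
    have sq₂ : IsPullback (pullback.fst (pullback.fst j f.hom) c' ≫ pullback.snd j f.hom)
        (pullback.snd (pullback.fst j f.hom) c') f.hom c₀ :=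
      hc' ▸ sq₁.paste_horiz (IsPullback.of_hasPullback j f.hom).flip
    have sq₃ := (IsPullback.of_hasPullback (pullback.snd f.hom b) ((yon S).map ι)).paste_horiz sqP
    show IsFiniteMor (pullback.snd (pullback.fst j f.hom) c')
    rw [AlgSpDec.isFiniteMor_iff_repWith] at hfin ⊢
    rw [← sq₂.isoIsPullback_hom_snd _ _ sq₃]
    exact repWith_comp (repWith_of_isIso _ _) hfin
end Groth.Agent.S10398
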