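import Groth.Statements.S10399
import Groth.Agent.AlgSpDec.CodimZeroFibre

set_option backward.isDefEq.respectTransparency false
set_option backward.isDefEq.respectTransparency.types false
-- import your own Groth.Agent.* helpers here

set_option autoImplicit false
universe u
open CategoryTheory CategoryTheory.Limits AlgebraicGeometry Topology TopologicalSpace
open AlgSp

namespace Groth.Agent.S10399

/-- Let f : X ⟶ Y be a morphism locally of finite type of algebraic spaces over a scheme S and y a
codimension 0 point of Y. The following are equivalent: (1) every point of |X| over y has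
codimension 0 on X; (2) f is quasi-finite at all points over y; (3) f is quasi-finite at all
codimension 0 points of X over y. Stated as (1) ⇔ (2) together with (3) ⇒ (1). -/
theorem result {S : Scheme.{u}} {X Y : AlgSp.Space S} (f : X ⟶ Y)
    (hf : AlgSp.LocP @LocallyOfFiniteType f.hom) (y : AlgSp.Points Y.obj) (hy : AlgSp.HasAt (fun U u => ringKrullDim ↥(U.presheaf.stalk u) = 0) Y.obj y) :
    ((∀ x : AlgSp.Points X.obj, AlgSp.Points.map f.hom x = y → AlgSp.HasAt (fun U u => ringKrullDim ↥(U.presheaf.stalk u) = 0) X.obj x) ↔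
        (∀ x : AlgSp.Points X.obj, AlgSp.Points.map f.hom x = y → AlgSp.HasAtMor (fun U _ h u => ∃ W : U.Opens, u ∈ W ∧ LocallyQuasiFinite (W.ι ≫ h) ∧ LocallyOfFiniteType (W.ι ≫ h)) f.hom x)) ∧
      ((∀ x : AlgSp.Points X.obj, AlgSp.Points.map f.hom x = y → AlgSp.HasAt (fun U u => ringKrullDim ↥(U.presheaf.stalk u) = 0) X.obj x → AlgSp.HasAtMor (fun U _ h u => ∃ W : U.Opens, u ∈ W ∧ LocallyQuasiFinite (W.ι ≫ h) ∧ LocallyOfFiniteType (W.ι ≫ h)) f.hom x) →
        ∀ x : AlgSp.Points X.obj, AlgSp.Points.map f.hom x = y → AlgSp.HasAt (fun U u => ringKrullDim ↥(U.presheaf.stalk u) = 0) X.obj x) := 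
  Groth.Agent.AlgSpDec.CodimZeroFibre.iff_and_imp f hf y hy
end Groth.Agent.S10399
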