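import Groth.Statements.S10400
import Groth.Agent.AlgSpDec.GenericFiniteMax
import Groth.Agent.AlgSpLib.AffineDescProps
import Groth.Agent.AlgSpLib.LargestOpen

set_option backward.isDefEq.respectTransparency false
set_option backward.isDefEq.respectTransparency.types false
-- import your own Groth.Agent.* helpers here

set_option autoImplicit false
universe u
open CategoryTheory CategoryTheory.Limits AlgebraicGeometry Topology TopologicalSpace
open AlgSp Groth.Agent.AlgSpLib Groth.Agent.AlgSpPts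

namespace Groth.Agent.S10400

/-- Let f : X ⟶ Y be a morphism locally of finite type of algebraic spaces over a scheme S with Y
decent. Assume the codimension 0 points of X and of Y form finite sets, that a point of X has
codimension 0 exactly when its image does, and that f is quasi-compact or separated. Then there is a
dense open subspace V ⊆ Y with f⁻¹(V) ⟶ V finite. -/
theorem result {S : Scheme.{u}} {X Y : AlgSp.Space S} (f : X ⟶ Y)
    (hf : AlgSp.LocP @LocallyOfFiniteType f.hom) (hY : AlgSp.IsDecent Y.obj)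
    (hX0 : {x : AlgSp.Points X.obj | AlgSp.HasAt (fun U u => ringKrullDim ↥(U.presheaf.stalk u) = 0) X.obj x}.Finite)
    (hY0 : {y : AlgSp.Points Y.obj | AlgSp.HasAt (fun U u => ringKrullDim ↥(U.presheaf.stalk u) = 0) Y.obj y}.Finite)
    (hpre : ∀ x : AlgSp.Points X.obj, AlgSp.HasAt (fun U u => ringKrullDim ↥(U.presheaf.stalk u) = 0) X.obj x ↔ AlgSp.HasAt (fun U u => ringKrullDim ↥(U.presheaf.stalk u) = 0) Y.obj (AlgSp.Points.map f.hom x))
    (hqs : AlgSp.IsQuasiCompactMor f.hom ∨ AlgSp.IsSeparatedMor f.hom) :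
    ∃ (V X' : AlgSp.Space S) (j : V ⟶ Y) (fst : X' ⟶ V) (snd : X' ⟶ X), AlgSp.RepWith @IsOpenImmersion j.hom ∧
      Dense (Set.range (AlgSp.Points.map j.hom)) ∧ IsPullback fst.hom snd.hom j.hom f.hom ∧
      AlgSp.IsFiniteMor fst.hom :=  by
  classical
  let P0 : AlgSp.Points Y.obj → Prop := fun y => HasAt (fun U u => ringKrullDim ↥(U.presheaf.stalk u) = 0) Y.obj y
  have coh : ∀ {Z : AlgSp.Space S} {T : Over S} (c : (yon S).obj T ⟶ Z.obj) (t : T.left), RepWith @Etale c →
      (HasAt (fun U u => ringKrullDim ↥(U.presheaf.stalk u) = 0) Z.obj (Points.ofPt c t) ↔ Order.coheight t = 0) := by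
    intro Z T c t hc
    refine ⟨fun ⟨T', c', t', hc', he, hd⟩ => ?_, fun h => ⟨T, c, t, hc, rfl, ?_⟩⟩
    · rw [coheight_eq_of_charts hc hc' he.symm]
      replace hd : ringKrullDim ↥(T'.left.presheaf.stalk t') = 0 := hd
      rw [ringKrullDim_stalk_eq_coheight] at hd
      exact_mod_cast hd
    · show ringKrullDim ↥(T.left.presheaf.stalk t) = 0
      rw [ringKrullDim_stalk_eq_coheight, h]; rfl
  -- finiteness near each point of codimension zero
  have key : ∀ y : {y : AlgSp.Points Y.obj | P0 y}, ∃ (V : Over S) (c : (yon S).obj V ⟶ Y.obj), RepWith @Etale c ∧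
      y.1 ∈ Set.range (Points.ofPt c) ∧ IsFiniteMor (pullback.snd f.hom c) := by
    rintro ⟨y, hy⟩
    obtain ⟨V₀, b₀, v₀, hV₀, hb₀, hbv₀⟩ := AlgSpDec.exists_affine_chart_at Y.property y
    haveI : IsAffine V₀.left := hV₀
    have hv₀ : Order.coheight v₀ = 0 := (coh b₀ v₀ hb₀).1 (by rw [hbv₀]; exact hy)
    have hfinmax : {w : V₀.left | Order.coheight w = 0}.Finite :=
      (hY0.preimage' fun z _ => AlgSpDec.finite_fibre Y.property hY hb₀ z).subset fun w hw => (coh b₀ w hb₀).2 hw
    have hcl : IsClosed (⋃ w ∈ {w : V₀.left | Order.coheight w = 0} \ {v₀}, closure ({w} : Set V₀.left)) :=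
      (hfinmax.subset Set.sdiff_subset).isClosed_biUnion fun _ _ => isClosed_closure
    obtain ⟨V₁, hV₁, hvV₁, hsub⟩ := exists_isAffineOpen_mem_and_subset (U := (⟨_, hcl.isOpen_compl⟩ : V₀.left.Opens))
      (x := v₀) (by
        simp only [← SetLike.mem_coe, TopologicalSpace.Opens.coe_mk, Set.mem_compl_iff, Set.mem_iUnion, not_exists]
        rintro w ⟨hw, hne⟩ hcl'
        exact hne (AlgSpDec.eq_of_specializes_of_coheight hv₀ (specializes_iff_mem_closure.2 hcl')))
    let ι₁ : Over.mk (V₁.ι ≫ V₀.hom) ⟶ V₀ := Over.homMk V₁.ι rfl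
    let V : Over S := Over.mk (V₁.ι ≫ V₀.hom)
    haveI : IsAffine V.left := hV₁
    let v : V.left := ⟨v₀, hvV₁⟩
    let b : (yon S).obj V ⟶ Y.obj := (yon S).map ι₁ ≫ b₀
    have hb : RepWith @Etale b := repWith_comp ((repWith_yon_map_iff _ ι₁).2 (inferInstanceAs (Etale V₁.ι))) hb₀
    have hbv : Points.ofPt b v = y := by rw [ofPt_comp, ← hbv₀]; rfl
    have huniq : ∀ w : V.left, Order.coheight w = 0 ↔ w = v := by
      intro w
      have he : Order.coheight w = Order.coheight (V₁.ι w) := coheight_eq_of_etale V₁.ι w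
      refine ⟨fun hw => ?_, fun hw => by rw [he, hw]; exact hv₀⟩
      by_contra hne
      have h1 := hsub (show V₁.ι w ∈ V₁ from w.2)
      exact h1 (Set.mem_biUnion (show V₁.ι w ∈ {w : V₀.left | Order.coheight w = 0} \ {v₀} from
        ⟨he.symm.trans hw, fun e => hne (V₁.ι.isOpenEmbedding.injective e)⟩) (subset_closure rfl))
    have sqP := IsPullback.of_hasPullback f.hom b
    have hP : IsAlgSpace (pullback f.hom b) := isAlgSpace_of_isPullback sqP X.property (IsAlgSpace.yon_obj _) Y.property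
    have hpe : RepWith @Etale (pullback.fst f.hom b) := repWith_of_isPullback sqP.flip hb
    have hm : AlgSpDec.GenericFinite.MaxOver (pullback.snd f.hom b) v := fun T c t hc => by
      obtain ⟨k, hk⟩ := (yon S).map_surjective (c ≫ pullback.snd f.hom b)
      rw [AlgSpDec.GenericFinite.map_ofPt_eq hk.symm]
      refine Iff.trans ?_ (Points.schemeHomeo V).injective.eq_iff.symm
      rw [← coh (c ≫ pullback.fst f.hom b) t (repWith_comp hc hpe), hpre,
        show Points.map f.hom (Points.ofPt (c ≫ pullback.fst f.hom b) t) = Points.ofPt b (k.left t) by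
          rw [Points.map_ofPt, Category.assoc, sqP.w, ← Category.assoc, ← hk, ofPt_comp], coh b _ hb, huniq]
    obtain ⟨V', ι, hι, ⟨v', hv'⟩, hfin⟩ := AlgSpDec.GenericFinite.exists_finite_nbhd_max hP (pullback.snd f.hom b)
      (locP_of_isPullback sqP X.property Y.property (IsAlgSpace.yon_obj _) hf) v ((huniq v).2 rfl) hm
      (hqs.imp (fun h => isQuasiCompactMor_of_isPullback sqP h) fun h => ⟨isSeparatedMor_of_isPullback sqP h, by
        obtain ⟨A, aX, haX, haXs⟩ := X.property.atlas
        have sW := hb.rep.isPullback' (aX ≫ f.hom)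
        let e : (yon S).obj (hb.rep.pullback (aX ≫ f.hom)) ⟶ pullback f.hom b :=
          pullback.lift ((yon S).map (hb.rep.snd (aX ≫ f.hom)) ≫ aX) ((yon S).map (hb.rep.fst' (aX ≫ f.hom)))
            (by rw [Category.assoc, sW.w])
        have sE : IsPullback ((yon S).map (hb.rep.snd (aX ≫ f.hom))) e aX (pullback.fst f.hom b) :=
          IsPullback.of_bot (by rw [pullback.lift_snd]; exact sW.flip) (pullback.lift_fst _ _ _).symm sqP
        choose pre hpre' using surjective_ofPt haXs
        refine ⟨_, e, ⋃ u ∈ pre '' {x | HasAt (fun U u => ringKrullDim ↥(U.presheaf.stalk u) = 0) X.obj x},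
          (hb.rep.snd (aX ≫ f.hom)).left ⁻¹' {u} ∩ (hb.rep.fst' (aX ≫ f.hom)).left ⁻¹' ((⊤ : V.left.Opens) : Set V.left),
          repWith_of_isPullback sE haX, (hX0.image pre).biUnion fun u _ =>
            AlgSpDec.finite_fibre_pullback hb ⊤ isCompact_univ u
              (AlgSpDec.repWith_quasiCompact_toHom Y.property hY _), fun z hz => ?_⟩
        have hx0 : HasAt (fun U u => ringKrullDim ↥(U.presheaf.stalk u) = 0) X.obj (Points.map (pullback.fst f.hom b) z) := by
          rw [hpre, ← Points.map_comp, sqP.w, Points.map_comp, hz, ← Points.ofPt_eq_map_ofScheme, hbv]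
          exact hy
        obtain ⟨z', hz', hz''⟩ := exists_point_of_isPullback sE
          (x := Points.ofScheme A (pre (Points.map (pullback.fst f.hom b) z))) (y := z)
          (by rw [← Points.ofPt_eq_map_ofScheme, hpre'])
        obtain ⟨T', g, t', -, rfl⟩ := exists_ofPt_eq z'
        obtain ⟨g', rfl⟩ := (yon S).map_surjective g
        refine ⟨g'.left t', ?_, ?_⟩
        · refine Set.mem_biUnion (Set.mem_image_of_mem pre hx0) ⟨?_, trivial⟩
          refine (Points.schemeHomeo A).injective ?_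
          refine Eq.trans ?_ hz'
          rw [Points.map_ofPt]
          rw [← Category.comp_id ((yon S).map g' ≫ (yon S).map (hb.rep.snd (aX ≫ f.hom))), Category.assoc,
            ofPt_comp, ofPt_comp]
          try rfl
        · rw [← hz'', Points.map_ofPt, ofPt_comp]⟩)
    refine ⟨V', (yon S).map ι ≫ b, repWith_comp ((repWith_yon_map_iff _ ι).2 (inferInstanceAs (Etale ι.left))) hb,
      ⟨v', by rw [ofPt_comp, hv', hbv]⟩, ?_⟩
    have sq₃ := (IsPullback.of_hasPullback (pullback.snd f.hom b) ((yon S).map ι)).paste_horiz sqP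
    rw [AlgSpDec.isFiniteMor_iff_repWith] at hfin ⊢
    rw [← (IsPullback.of_hasPullback f.hom ((yon S).map ι ≫ b)).isoIsPullback_hom_snd _ _ sq₃]
    exact repWith_comp (repWith_of_isIso _ _) hfin
  choose Vy cy hcy hycy hfin using key
  haveI := hY0.to_subtype
  obtain ⟨n, ⟨e⟩⟩ := Finite.exists_equiv_fin {y : AlgSp.Points Y.obj | P0 y}
  let idx : ULift.{u} (Fin n) → {y : AlgSp.Points Y.obj | P0 y} := fun i => e.symm i.down
  let O : Set (AlgSp.Points Y.obj) := ⋃ i, Set.range (Points.ofPt (cy (idx i)))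
  have hO : IsOpen O := isOpen_iUnion fun i => (isOpenMap_ofPt (hcy _)).isOpen_range
  obtain ⟨Y', j, hY', hj, hrange⟩ := exists_open_subspace Y.property hO
  have hrc : ∀ i z, Points.map (cy (idx i)) z ∈ O := fun i z => by
    obtain ⟨T, g, t, -, rfl⟩ := exists_ofPt_eq z
    obtain ⟨g', rfl⟩ := (yon S).map_surjective g
    exact Set.mem_iUnion.2 ⟨i, g'.left t, by rw [Points.map_ofPt]; exact (ofPt_comp g' _ t).symm⟩
  choose c' hc' using fun i => exists_lift_openImmersion (IsAlgSpace.yon_obj _) hY' Y.property hj (cy (idx i))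
    (by rintro _ ⟨z, rfl⟩; rw [hrange]; exact hrc i z)
  have hje : RepWith @Etale j :=
    repWith_mono (fun _ _ e (_ : IsOpenImmersion e) => (inferInstance : Etale e)) _ hj
  have hc'e : ∀ i, RepWith @Etale (c' i) := fun i =>
    repWith_etale_of_comp (c' i) j (by rw [hc' i]; exact hcy _) hje
  have hc's : ∀ y', ∃ i z, Points.map (c' i) z = y' := fun y' => by
    obtain ⟨i, t, ht⟩ : ∃ i t, Points.ofPt (cy (idx i)) t = Points.map j y' := by
      simpa [O] using (hrange ▸ ⟨y', rfl⟩ : Points.map j y' ∈ O)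
    refine ⟨i, Points.ofScheme _ t, injective_map (repWith_mono
      (fun _ _ e (_ : IsOpenImmersion e) => e.isOpenEmbedding.injective) _ hj) ?_⟩
    rw [← Points.map_comp, hc', ← Points.ofPt_eq_map_ofScheme, ht]
  have hX' : IsAlgSpace (pullback j f.hom) :=
    isAlgSpace_of_isPullback (IsPullback.of_hasPullback j f.hom) hY' X.property Y.property
  refine ⟨⟨Y', hY'⟩, ⟨_, hX'⟩, ObjectProperty.homMk j, ObjectProperty.homMk (pullback.fst j f.hom),
    ObjectProperty.homMk (pullback.snd j f.hom), hj, ?_, IsPullback.of_hasPullback _ _, ?_⟩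
  · show Dense (Set.range (Points.map j))
    rw [hrange, dense_iff_inter_open]
    rintro Ω hΩ ⟨z, hz⟩
    obtain ⟨A, aY, haY, haYs⟩ := Y.property.atlas
    obtain ⟨t, rfl⟩ := surjective_ofPt haYs z
    obtain ⟨η, hη, hη0⟩ := AlgSpDec.exists_codimZero_mem
      ⟨Points.ofPt aY ⁻¹' Ω, hΩ.preimage (Points.continuous_ofPt aY)⟩ ⟨t, hz⟩
    let y₀ : {y : AlgSp.Points Y.obj | P0 y} := ⟨Points.ofPt aY η, (coh aY η haY).2 hη0⟩
    refine ⟨_, hη, Set.mem_iUnion.2 ⟨⟨e y₀⟩, ?_⟩⟩
    have he : idx ⟨e y₀⟩ = y₀ := e.symm_apply_apply y₀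
    exact he.symm ▸ hycy y₀
  · have hcov : IsFpqcCover (fun i => (yon S).obj (Vy (idx i))) c' := by
      refine isFpqcCover_of_isFppfCover hY' (fun _ => IsAlgSpace.yon_obj _) _ ⟨fun i => ⟨?_, ?_⟩, hc's⟩
      · exact locP_mono (P := @Etale) (Q := @Flat) (fun _ _ g (_ : Etale g) => inferInstanceAs (Flat g))
          (locP_of_repWith (hc'e i))
      · exact locP_mono (P := @Etale) (Q := @LocallyOfFinitePresentation)
          (fun _ _ g (_ : Etale g) => inferInstanceAs (LocallyOfFinitePresentation g)) (locP_of_repWith (hc'e i))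
    refine (isLocalOnBase_fpqc_isFiniteMor (fun i => _) c' hY'
      (fun _ => IsAlgSpace.yon_obj _) hcov (pullback.fst j f.hom) hX' (fun _ => _)
      (fun i => pullback.snd (pullback.fst j f.hom) (c' i)) (fun i => pullback.fst (pullback.fst j f.hom) (c' i))
      (fun i => isAlgSpace_of_isPullback (IsPullback.of_hasPullback _ _) hX' (IsAlgSpace.yon_obj _) hY')
      (fun i => IsPullback.of_hasPullback _ _)).2 fun i => ?_
    have sq₂ : IsPullback (pullback.fst (pullback.fst j f.hom) (c' i) ≫ pullback.snd j f.hom)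
        (pullback.snd (pullback.fst j f.hom) (c' i)) f.hom (cy (idx i)) :=
      hc' i ▸ (IsPullback.of_hasPullback _ _).paste_horiz (IsPullback.of_hasPullback j f.hom).flip
    have hF := hfin (idx i)
    show IsFiniteMor (pullback.snd (pullback.fst j f.hom) (c' i))
    rw [AlgSpDec.isFiniteMor_iff_repWith] at hF ⊢
    rw [← sq₂.isoIsPullback_hom_snd _ _ (IsPullback.of_hasPullback f.hom (cy (idx i)))]
    exact repWith_comp (repWith_of_isIso _ _) hF
end Groth.Agent.S10400
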