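import Groth.Statements.S10401
import Groth.Agent.AlgSpLib.Rep

set_option backward.isDefEq.respectTransparency false
set_option backward.isDefEq.respectTransparency.types false
-- import your own Groth.Agent.* helpers here

set_option autoImplicit false
universe u
open CategoryTheory CategoryTheory.Limits AlgebraicGeometry Topology TopologicalSpace
open AlgSp

namespace Groth.Agent.S10401

/-- If Y is a Jacobson algebraic space and X is an algebraic space that is locally of finite type over
Y, then X is Jacobson. -/
theorem result {S : Scheme.{u}} {X Y : AlgSp.Space S} (hX : AlgSp.EtaleLocally (fun U => JacobsonSpace ↥U) X.obj)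
    (f : Y ⟶ X) (hf : AlgSp.LocP @LocallyOfFiniteType f.hom) : AlgSp.EtaleLocally (fun U => JacobsonSpace ↥U) Y.obj := by
  obtain ⟨U, a, ha, ha', hU⟩ := hX
  obtain ⟨V, b, hb, hb'⟩ := Y.property.atlas
  have hr : AlgSp.Representable a := ha.rep
  let r := hr.snd (b ≫ f.hom)
  let v := hr.fst' (b ≫ f.hom)
  have hre : Etale r.left := ha.property_snd _
  have hrs : Surjective r.left := ha'.property _ _ _ (hr.isPullback (b ≫ f.hom))
  have hwb : AlgSp.RepWith @Etale ((AlgSp.yon S).map r ≫ b) :=
    Groth.Agent.AlgSpLib.repWith_comp ((AlgSp.repWith_yon_map_iff _ _).2 hre) hb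
  have hw : ((AlgSp.yon S).map r ≫ b) ≫ f.hom = (AlgSp.yon S).map v ≫ a := by
    rw [Category.assoc, Functor.relativelyRepresentable.map_fst', hr.w]
  have : LocallyOfFiniteType v.left := hf _ a v hwb ha hw
  have : JacobsonSpace U.left := hU
  exact ⟨_, _, hwb, Groth.Agent.AlgSpLib.repWith_comp ((AlgSp.repWith_yon_map_iff _ _).2 hrs) hb',
    LocallyOfFiniteType.jacobsonSpace v.left⟩
end Groth.Agent.S10401
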