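import Groth.Statements.S10402
import Groth.Agent.AlgSpLib.JacobsonEt
import Groth.Agent.AlgSpLib.LocP
import Groth.Agent.AlgSpPts.Univ

set_option backward.isDefEq.respectTransparency false
set_option backward.isDefEq.respectTransparency.types false
-- import your own Groth.Agent.* helpers here

set_option autoImplicit false
universe u
open CategoryTheory CategoryTheory.Limits AlgebraicGeometry Topology TopologicalSpace
open AlgSp Groth.Agent.AlgSpLib

namespace Groth.Agent.S10402

/-- Let S be a scheme and X a Jacobson algebraic space over S. Fix a finite type point x of |X|, and let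
g : W ⟶ X be locally of finite type, where W is a scheme. If x lies in the image of |W| → |X|, then
some closed point of W is mapped to x. -/
theorem result {S : Scheme.{u}} (X : AlgSp.Space S) (hX : AlgSp.EtaleLocally (fun U => JacobsonSpace ↥U) X.obj)
    (x : AlgSp.Points X.obj) (hx : AlgSp.HasAt (fun U u => IsClosed ({u} : Set ↥U)) X.obj x) {W : Over S} (g : (AlgSp.yon S).obj W ⟶ X.obj)
    (hg : AlgSp.LocP @LocallyOfFiniteType g) (hxW : x ∈ Set.range (AlgSp.Points.ofPt g)) :
    ∃ w : ↥W.left, IsClosed ({w} : Set ↥W.left) ∧ AlgSp.Points.ofPt g w = x :=  by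
  obtain ⟨U, a, w₀, ha, rfl, hw₀⟩ := hx
  obtain ⟨V, b, hb, hbs, hV⟩ := hX
  obtain ⟨w, hw⟩ := hxW
  have : JacobsonSpace ↥V.left := hV
  have h1 : Etale (hb.rep.snd a).left := hb.property_snd a
  have h2 : Surjective (hb.rep.snd a).left := hbs.property_snd a
  have h3 : Etale (hb.rep.fst' a).left := ha.property _ _ _ (hb.rep.isPullback' a).flip
  obtain ⟨r, hr⟩ := (hb.rep.snd a).left.surjective w₀
  have hrc : IsClosed ({r} : Set ↥(hb.rep.pullback a).left) := by
    have hF := hw₀.preimage (hb.rep.snd a).left.continuous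
    have : LocallyQuasiFinite (hb.rep.snd a).left := locallyQuasiFinite_of_formallyUnramified _
    have : DiscreteTopology ↥((hb.rep.snd a).left ⁻¹' {w₀}) :=
      ((hb.rep.snd a).left.isDiscrete_preimage_singleton w₀).to_subtype
    simpa using hF.isClosedMap_subtype_val _ (isClosed_discrete {(⟨r, hr⟩ : ↥((hb.rep.snd a).left ⁻¹' {w₀}))})
  have hvc : IsClosed ({(hb.rep.fst' a).left r} : Set ↥V.left) :=
    Scheme.Hom.closePoints_subset_preimage_closedPoints (hb.rep.fst' a).left hrc
  have hvx : Points.ofPt b ((hb.rep.fst' a).left r) = Points.ofPt a w₀ := by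
    rw [← ofPt_comp, (hb.rep.isPullback' a).w, ofPt_comp, hr]
  have h4 : Etale (hb.rep.snd g).left := hb.property_snd g
  have h5 : Surjective (hb.rep.snd g).left := hbs.property_snd g
  have h6 : LocallyOfFiniteType (hb.rep.fst' g).left :=
    hg ((yon S).map (hb.rep.snd g)) b (hb.rep.fst' g) ((repWith_yon_map_iff _ _).2 h4) hb
      (hb.rep.isPullback' g).w.symm
  have : JacobsonSpace ↥(hb.rep.pullback g).left := LocallyOfFiniteType.jacobsonSpace (hb.rep.fst' g).left
  obtain ⟨p₀, hp₀, -⟩ := Groth.Agent.AlgSpPts.exists_lift (hb.rep.isPullback' g)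
    (x := AlgSp.Points.ofScheme V ((hb.rep.fst' a).left r)) (t := w)
    (by rw [← Points.ofPt_eq_map_ofScheme, hvx, hw])
  obtain ⟨p, hp, hpc⟩ := nonempty_inter_closedPoints (Z := (hb.rep.fst' g).left ⁻¹' {(hb.rep.fst' a).left r})
    ⟨p₀, by
      have := congrArg (Points.toScheme V) hp₀
      rwa [Points.toScheme_ofPt, Points.toScheme_ofScheme] at this⟩
    ((hvc.preimage (hb.rep.fst' g).left.continuous).isLocallyClosed)
  refine ⟨(hb.rep.snd g).left p, JacobsonEt.isClosed_image_of_etale _ hpc, ?_⟩
  rw [← ofPt_comp, ← (hb.rep.isPullback' g).w, ofPt_comp, show (hb.rep.fst' g).left p = _ from hp, hvx]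
end Groth.Agent.S10402
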