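import Groth.Statements.S10403
import Groth.Agent.AlgSpLib.EtLocalInst
import Groth.Agent.AlgSpLib.Points
import Groth.Agent.AlgSpPts.Univ
import Groth.Agent.AlgSpDec.Basic

set_option backward.isDefEq.respectTransparency false
set_option backward.isDefEq.respectTransparency.types false
-- import your own Groth.Agent.* helpers here

set_option autoImplicit false
universe u
open CategoryTheory CategoryTheory.Limits AlgebraicGeometry Topology TopologicalSpace
open AlgSp Groth.Agent.AlgSpLib

namespace Groth.Agent.S10403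

/-- For a decent Jacobson algebraic space X over a scheme S, the finite type points of |X| are exactly
the closed points. -/
theorem result {S : Scheme.{u}} (X : AlgSp.Space S) (hd : AlgSp.IsDecent X.obj)
    (hX : AlgSp.EtaleLocally (fun U => JacobsonSpace ↥U) X.obj) (x : AlgSp.Points X.obj) :
    AlgSp.HasAt (fun U u => IsClosed ({u} : Set ↥U)) X.obj x ↔ IsClosed ({x} : Set (AlgSp.Points X.obj)) :=  by
  obtain ⟨V, b, hb, hbs, hV⟩ := hX
  have : JacobsonSpace ↥V.left := hV
  refine ⟨?_, fun hxc => ?_⟩
  · rintro ⟨U, a, w₀, ha, rfl, hw₀⟩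
    have hcl : ∀ v : ↥V.left, Points.ofPt b v = Points.ofPt a w₀ → IsClosed ({v} : Set ↥V.left) := by
      intro v hv
      obtain ⟨r, hr, hr'⟩ := Groth.Agent.AlgSpPts.exists_lift (hb.rep.isPullback' a)
        (x := AlgSp.Points.ofScheme V v) (t := w₀) (by rw [← Points.ofPt_eq_map_ofScheme, hv])
      have hr2 : (hb.rep.fst' a).left r = v := by
        have := congrArg (Points.toScheme V) hr
        rwa [Points.toScheme_ofPt, Points.toScheme_ofScheme] at this
      have h1 : Etale (hb.rep.snd a).left := hb.property_snd a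
      have h3 : Etale (hb.rep.fst' a).left := ha.property _ _ _ (hb.rep.isPullback' a).flip
      have hrc : IsClosed ({r} : Set ↥(hb.rep.pullback a).left) := by
        have hF := hw₀.preimage (hb.rep.snd a).left.continuous
        have : LocallyQuasiFinite (hb.rep.snd a).left := locallyQuasiFinite_of_formallyUnramified _
        have : DiscreteTopology ↥((hb.rep.snd a).left ⁻¹' {w₀}) :=
          ((hb.rep.snd a).left.isDiscrete_preimage_singleton w₀).to_subtype
        simpa using hF.isClosedMap_subtype_val _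
          (isClosed_discrete {(⟨r, hr'⟩ : ↥((hb.rep.snd a).left ⁻¹' {w₀}))})
      exact hr2 ▸ Scheme.Hom.closePoints_subset_preimage_closedPoints (hb.rep.fst' a).left hrc
    rw [← (isQuotientMap_ofPt hb hbs).isClosed_preimage, ← isOpen_compl_iff, isOpen_iff_mem_nhds]
    intro v hv
    obtain ⟨O, hO, hvO, -⟩ := exists_isAffineOpen_mem_and_subset (U := (⊤ : V.left.Opens)) (x := v) trivial
    let W : Over S := Over.mk (O.ι ≫ V.hom)
    let j : W ⟶ V := CategoryTheory.Over.homMk O.ι rfl
    have : IsAffine O.toScheme := hO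
    have : CompactSpace ↥W.left := inferInstanceAs (CompactSpace ↥O.toScheme)
    have hfin := Groth.Agent.AlgSpDec.finite_fibre X.property hd (U := W) (a := (yon S).map j ≫ b)
      (repWith_comp ((repWith_yon_map_iff _ _).2 (inferInstanceAs (Etale O.ι))) hb) (Points.ofPt a w₀)
    have hclosed : IsClosed (O.ι '' (Points.ofPt ((yon S).map j ≫ b) ⁻¹' {Points.ofPt a w₀})) := by
      rw [← Set.biUnion_of_singleton (O.ι '' _)]
      refine (hfin.image O.ι).isClosed_biUnion ?_
      rintro _ ⟨z, hz, rfl⟩
      refine hcl _ ?_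
      rw [Set.mem_preimage, ofPt_comp] at hz
      exact hz
    refine Filter.mem_of_superset ((O.isOpen.inter hclosed.isOpen_compl).mem_nhds ⟨hvO, ?_⟩) ?_
    · rintro ⟨z, hz, hzv⟩
      rw [Set.mem_preimage, ofPt_comp] at hz
      exact hv (hzv ▸ hz)
    · rintro z ⟨hzO, hz⟩ hzx
      refine hz ⟨⟨z, hzO⟩, ?_, rfl⟩
      rw [Set.mem_preimage, ofPt_comp]
      exact hzx
  · obtain ⟨v₀, hv₀⟩ := surjective_ofPt hbs x
    obtain ⟨v, hv, hvc⟩ := nonempty_inter_closedPoints (Z := Points.ofPt b ⁻¹' {x}) ⟨v₀, hv₀⟩
      ((hxc.preimage (Points.continuous_ofPt b)).isLocallyClosed)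
    exact ⟨V, b, v, hb, hv, hvc⟩
end Groth.Agent.S10403
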