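import Groth.Statements.S10404
import Groth.Agent.AlgSpLib.EtLocalInst
import Groth.Agent.AlgSpLib.Points
import Groth.Agent.AlgSpDec.Fibres
import Groth.Agent.AlgSpDec.Basic
import Groth.Agent.S10403

set_option backward.isDefEq.respectTransparency false
set_option backward.isDefEq.respectTransparency.types false
-- import your own Groth.Agent.* helpers here

set_option autoImplicit false
universe u
open CategoryTheory CategoryTheory.Limits AlgebraicGeometry Topology TopologicalSpace
open AlgSp Groth.Agent.AlgSpLib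

namespace Groth.Agent.S10404

/-- A decent algebraic space X over a scheme S is Jacobson if and only if the topological space |X| is
Jacobson. -/
theorem result {S : Scheme.{u}} (X : AlgSp.Space S) (hd : AlgSp.IsDecent X.obj) :
    AlgSp.EtaleLocally (fun U => JacobsonSpace ↥U) X.obj ↔ JacobsonSpace (AlgSp.Points X.obj) :=  by
  constructor
  · intro hX
    have h := hX
    obtain ⟨V, b, hb, hbs, hV⟩ := hX
    have : JacobsonSpace ↥V.left := hV
    rw [jacobsonSpace_iff_locallyClosed]
    intro Z hZ hZ'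
    obtain ⟨x, hx⟩ := hZ
    obtain ⟨v₀, hv₀⟩ := surjective_ofPt hbs x
    obtain ⟨v, hv, hvc⟩ := nonempty_inter_closedPoints (Z := Points.ofPt b ⁻¹' Z) ⟨v₀, by rwa [Set.mem_preimage, hv₀]⟩
      (hZ'.preimage (Points.continuous_ofPt b))
    exact ⟨Points.ofPt b v, hv, (Groth.Agent.S10403.result X hd h _).1 ⟨V, b, v, hb, rfl, hvc⟩⟩
  · intro hX
    obtain ⟨-, U, b, hb, hbs⟩ := X.property
    refine ⟨U, b, hb, hbs, ?_⟩
    show JacobsonSpace ↥U.left
    rw [jacobsonSpace_iff_locallyClosed]
    intro Z hZ hZ'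
    obtain ⟨z₀, hz₀⟩ := hZ
    obtain ⟨V, C, hV, hC, rfl⟩ := hZ'
    obtain ⟨D, hD, hzD, hDV⟩ := exists_isAffineOpen_mem_and_subset (U := ⟨V, hV⟩) (x := z₀) hz₀.1
    let W : Over S := Over.mk (D.ι ≫ U.hom)
    let j : W ⟶ U := CategoryTheory.Over.homMk D.ι rfl
    have : IsAffine D.toScheme := hD
    have hcW : CompactSpace ↥W.left := inferInstanceAs (CompactSpace ↥D.toScheme)
    have ha : RepWith @Etale ((yon S).map j ≫ b) :=
      repWith_comp ((repWith_yon_map_iff _ _).2 (inferInstanceAs (Etale D.ι))) hb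
    obtain ⟨z, hzC, hz⟩ := (hC.preimage D.ι.continuous).exists_closed_singleton ⟨⟨z₀, hzD⟩, hz₀.2⟩
    have hax : ∀ w : ↥W.left, Points.ofPt ((yon S).map j ≫ b) w = Points.ofPt b (D.ι w) :=
      fun w => ofPt_comp j b w
    have hfin := Groth.Agent.AlgSpDec.finite_fibre X.property hd (U := W) ha (Points.ofPt b (D.ι z))
    have hopen : IsOpen ((closure ((Points.ofPt ((yon S).map j ≫ b) ⁻¹' {Points.ofPt b (D.ι z)}) \ {z}))ᶜ :
        Set ↥W.left) := isClosed_closure.isOpen_compl
    have hz' : (z : ↥W.left) ∉ closure ((Points.ofPt ((yon S).map j ≫ b) ⁻¹' {Points.ofPt b (D.ι z)}) \ {z}) := by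
      intro h
      obtain ⟨w, ⟨hw, hwz⟩, hzw⟩ := Set.mem_iUnion₂.1 (closure_minimal
        (fun y hy => Set.mem_biUnion hy (subset_closure (Set.mem_singleton y)))
        ((hfin.sdiff).isClosed_biUnion fun y _ => isClosed_closure (s := ({y} : Set ↥W.left))) h)
      exact hwz (Groth.Agent.AlgSpDec.eq_of_specializes_of_isDecent hd ha ((hax z).trans hw.symm)
        (specializes_iff_mem_closure.2 hzw)).symm
    have hx : IsClosed ({Points.ofPt b (D.ι z)} : Set (Points X.obj)) := by
      apply isClosed_singleton_of_isLocallyClosed_singleton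
      refine ⟨Points.ofPt ((yon S).map j ≫ b) '' (closure _)ᶜ, _,
        isOpenMap_ofPt ha _ hopen, (isOpenMap_ofPt ha _ (hz.isOpen_compl.inter hopen)).isClosed_compl, ?_⟩
      ext y
      constructor
      · rintro rfl
        refine ⟨⟨z, hz', hax z⟩, ?_⟩
        rintro ⟨w, ⟨hwz, hw⟩, he⟩
        exact hw (subset_closure ⟨he, hwz⟩)
      · rintro ⟨⟨w, hw, rfl⟩, hy⟩
        by_contra hne
        refine hy ⟨w, ⟨?_, hw⟩, rfl⟩
        intro hwz
        exact hne (by rw [Set.mem_singleton_iff, show w = z from hwz, hax])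
    refine ⟨D.ι z, ⟨hDV z.2, hzC⟩, ?_⟩
    refine isClosed_of_closure_subset fun w hw => ?_
    have hs : D.ι z ⤳ w := specializes_iff_mem_closure.2 hw
    have hw' : Points.ofPt b w = Points.ofPt b (D.ι z) :=
      closure_minimal (s := {D.ι z}) (t := Points.ofPt b ⁻¹' {Points.ofPt b (D.ι z)}) (by simp)
        (hx.preimage (Points.continuous_ofPt b)) hw
    exact Groth.Agent.AlgSpDec.eq_of_specializes_of_isDecent hd hb hw' hs
end Groth.Agent.S10404
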