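import Groth.Statements.S1041
import Groth.Agent.KFlatLib.Scheme.ExtendOdd
import Groth.Agent.KFlatLib.Scheme.GeneratorSupport
-- import your own Groth.Agent.* helpers here

set_option autoImplicit false
universe u
open CategoryTheory CategoryTheory.Limits AlgebraicGeometry
attribute [local instance] HasDerivedCategory.standard
open Perf

open Groth.Agent.KFlatLib TopologicalSpace

namespace Groth.Agent.S1041

/-- Let X be an affine scheme, T ⊆ X a closed subset with quasi-compact complement, U a quasi-compact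
open and F a perfect object of D(O_U) whose cohomology sheaves are supported on T ∩ U. Then F ⊕ F[1]
extends to X as a perfect complex whose cohomology sheaves are supported on T (through a
representing complex restricted termwise; the binary direct sum in D(O_U) is assumed to exist, which
it does). -/
theorem result (X : Scheme.{u}) [IsAffine X] (T : Set X) (hT : IsClosed T) (hTc : IsCompact Tᶜ)
    (U : X.Opens) (hU : IsCompact (U : Set X))
    (F : DCoh.D (U : Scheme.{u})) (hF : DCoh.IsPerfect F)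
    (hFT : ∀ i : ℤ, CohB1.support (DCoh.HD F i) ⊆ {x : ↥(U : Scheme.{u}) | U.ι.base x ∈ T}) [HasBinaryBiproduct F (F⟦(1 : ℤ)⟧)] :
    ∃ G : CochainComplex X.Modules ℤ, DCoh.IsPerfect (DCoh.toD X G) ∧ (∀ i : ℤ, CohB1.support (DCoh.HD (DCoh.toD X G) i) ⊆ T) ∧
      Nonempty (DerivedCategory.Q.obj ((DCoh.restrictCx U).obj G) ≅ F ⊞ F⟦(1 : ℤ)⟧) := by
  let O : X.Opens := ⟨Tᶜ, hT.isOpen_compl⟩
  obtain ⟨R, hR, hRz, ⟨e⟩⟩ := ExtendOdd.exists_odd_supp U O hU hTc F ((isPerfect_iff _).1 hF)
    (GeneratorSupport.isZero_rho_of_support (U.ι ⁻¹ᵁ O) hFT fun _ hy hy' => hy hy') 0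
  let e₀ := repIso R
  refine ⟨DerivedCategory.Q.objPreimage R, (isPerfect_iff _).2 (hR.of_iso e₀.symm),
    fun i => GeneratorSupport.support_subset_of_isZero_rho O (fun _ hx => hx)
      (hRz.of_iso ((rho O.ι).mapIso e₀)) i,
    ⟨((Scheme.Modules.restrictFunctor U.ι).mapDerivedCategoryFactors.app _).symm ≪≫
      (rho U.ι).mapIso e₀ ≪≫ e ≪≫ biprod.mapIso (Iso.refl _) (eqToIso (by norm_num))⟩⟩

end Groth.Agent.S1041
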