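import Groth.Statements.S10410
import Groth.Agent.AlgSpDec.MonoPtsDescend

set_option backward.isDefEq.respectTransparency false
set_option backward.isDefEq.respectTransparency.types false
-- import your own Groth.Agent.* helpers here

set_option autoImplicit false
universe u
open CategoryTheory CategoryTheory.Limits AlgebraicGeometry Topology TopologicalSpace
open AlgSp

namespace Groth.Agent.S10410

/-- Let X be an algebraic space over a scheme S, x ∈ |X|, and φ : U ⟶ X etale with U a scheme. Then x
lies in the image of |U| and the fibres of |U| → |X| and |U ×_X U| → |X| over x are finite, if and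
only if x is represented by a monomorphism Spec k ⟶ X such that Spec k ×_X U is a nonempty scheme
finite over k. -/
theorem result {S : Scheme.{u}} (X : AlgSp.Space S) (x : AlgSp.Points X.obj)
    {U : Over S} (φ : (AlgSp.yon S).obj U ⟶ X.obj) (hφ : AlgSp.RepWith @Etale φ) :
    (x ∈ Set.range (AlgSp.Points.ofPt φ) ∧ (AlgSp.Points.ofPt φ ⁻¹' {x}).Finite ∧
        ∀ (R : Over S) (s t : R ⟶ U), IsPullback ((AlgSp.yon S).map t) ((AlgSp.yon S).map s) φ φ →
          (AlgSp.Points.ofPt ((AlgSp.yon S).map t ≫ φ) ⁻¹' {x}).Finite) ↔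
      ∃ p : AlgSp.FieldPt X.obj, AlgSp.Points.mk p = x ∧ Mono p.toHom ∧
        ∀ (T : Over S) (c : T ⟶ p.pt) (snd : (AlgSp.yon S).obj T ⟶ (AlgSp.yon S).obj U),
          IsPullback ((AlgSp.yon S).map c) snd p.toHom φ → Nonempty ↥T.left ∧ IsFinite c.left :=  AlgSpDec.finite_fibres_iff_mono X.property x φ hφ
end Groth.Agent.S10410
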