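import Groth.Statements.S10412
import Groth.Agent.AlgSpDec.VeryReasonable

set_option backward.isDefEq.respectTransparency false
set_option backward.isDefEq.respectTransparency.types false
-- import your own Groth.Agent.* helpers here

set_option autoImplicit false
universe u
open CategoryTheory CategoryTheory.Limits AlgebraicGeometry Topology TopologicalSpace
open AlgSp

namespace Groth.Agent.S10412

/-- For an algebraic space X over a scheme S the following are equivalent: (1) X has a Zariski covering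
by open subspaces X_i, each X_i admitting a surjective, etale and quasi-compact morphism U_i ⟶ X_i
with U_i a scheme; (2) there are etale morphisms U_i ⟶ X from schemes, jointly surjective, such that
for each i both projection morphisms from U_i ×_X U_i to U_i are quasi-compact. -/
theorem result {S : Scheme.{u}} (X : AlgSp.Space S) :
    (∃ (ι : Type u) (Xi : ι → AlgSp.Space S) (j : ∀ i, Xi i ⟶ X) (U : ι → Over S)
        (a : ∀ i, (AlgSp.yon S).obj (U i) ⟶ (Xi i).obj),
        AlgSp.IsZarCover (fun i => (Xi i).obj) (fun i => (j i).hom) ∧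
          ∀ i, AlgSp.RepWith @Etale (a i) ∧ AlgSp.RepWith @Surjective (a i) ∧ AlgSp.RepWith @QuasiCompact (a i)) ↔
      ∃ (ι : Type u) (U : ι → Over S) (φ : ∀ i, (AlgSp.yon S).obj (U i) ⟶ X.obj),
        (∀ i, AlgSp.RepWith @Etale (φ i)) ∧
          (∀ x : AlgSp.Points X.obj, ∃ (i : ι) (v : ↥(U i).left), AlgSp.Points.ofPt (φ i) v = x) ∧
          ∀ (i : ι) (R : Over S) (s t : R ⟶ U i), IsPullback ((AlgSp.yon S).map t) ((AlgSp.yon S).map s) (φ i) (φ i) →
            QuasiCompact s.left ∧ QuasiCompact t.left :=  by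
  constructor
  · rintro ⟨ι, Xi, j, U, a, ⟨hj, hcov⟩, ha⟩
    refine ⟨ι, U, fun i => a i ≫ (j i).hom, fun i => AlgSpLib.repWith_comp (ha i).1 ?_, fun x => ?_, fun i R s t sq => ?_⟩
    · exact ⟨(hj i).rep, fun _ _ g fst snd sq => by
        haveI : IsOpenImmersion snd.left := (hj i).property g fst snd sq
        exact (inferInstance : Etale snd.left)⟩
    · obtain ⟨i, z, rfl⟩ := hcov x
      obtain ⟨v, rfl⟩ := AlgSpLib.surjective_ofPt (ha i).2.1 z
      exact ⟨i, v, (AlgSp.Points.map_ofPt _ _ _).symm⟩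
    · exact AlgSpDec.quasiCompact_kernelPair (ha i).2.2 (hj i) sq
  · rintro ⟨ι, U, φ, hφ, hcov, hqc⟩
    choose Xi j a h₁ h₂ h₃ h₄ h₅ h₆ using fun i => AlgSpDec.exists_qc_cover X.property (hφ i) (hqc i)
    refine ⟨ι, Xi, fun i => ObjectProperty.homMk (j i), U, a, ⟨h₂, fun x => ?_⟩, fun i => ⟨h₃ i, h₄ i, h₅ i⟩⟩
    obtain ⟨i, v, hv⟩ := hcov x
    exact ⟨i, show x ∈ Set.range (AlgSp.Points.map (j i)) by rw [h₆ i]; exact ⟨v, hv⟩⟩
end Groth.Agent.S10412
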