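import Groth.Statements.S10413
import Groth.Agent.AlgSpLib.Points

set_option backward.isDefEq.respectTransparency false
set_option backward.isDefEq.respectTransparency.types false
-- import your own Groth.Agent.* helpers here

set_option autoImplicit false
universe u
open CategoryTheory CategoryTheory.Limits AlgebraicGeometry Topology TopologicalSpace
open AlgSp

namespace Groth.Agent.S10413

/-- Let S be a scheme, X and Y algebraic spaces over S, and X ⟶ Y a representable morphism. If every
point of Y can be represented by a monomorphism into Y from the spectrum of a field, then every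
point of X can likewise be represented by such a monomorphism into X. -/
theorem result {S : Scheme.{u}} {X Y : AlgSp.Space S} (f : X ⟶ Y) (hf : AlgSp.Representable f.hom)
    (hY : ∀ y : AlgSp.Points Y.obj, ∃ q : AlgSp.FieldPt Y.obj, AlgSp.Points.mk q = y ∧ Mono q.toHom)
    (x : AlgSp.Points X.obj) : ∃ p : AlgSp.FieldPt X.obj, AlgSp.Points.mk p = x ∧ Mono p.toHom := by
  obtain ⟨q, hq, hqm⟩ := hY (AlgSp.Points.map f.hom x)
  have sq := hf.isPullback q.toHom
  obtain ⟨z, hz, -⟩ := Groth.Agent.AlgSpLib.exists_point_of_isPullback sq (x := x)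
    (y := AlgSp.Points.ofPt (𝟙 _) (IsLocalRing.closedPoint q.K))
    (by rw [AlgSp.Points.map_ofPt, Category.id_comp, ← Groth.Agent.AlgSpLib.mk_eq_ofPt, hq])
  let W := hf.pullback q.toHom
  let w : ↥W.left := AlgSp.Points.toScheme W z
  let ι : Over.mk (W.left.fromSpecResidueField w ≫ W.hom) ⟶ W := CategoryTheory.Over.homMk (W.left.fromSpecResidueField w) rfl
  have : Mono ι := (Over.forget S).mono_of_mono_map (inferInstanceAs (Mono (W.left.fromSpecResidueField w)))
  have : Mono (hf.fst q.toHom) := sq.mono_fst_of_mono
  have hmono : Mono ((AlgSp.yon S).map ι ≫ hf.fst q.toHom) := mono_comp _ _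
  refine ⟨AlgSp.FieldPt.ofPt (hf.fst q.toHom) w, ?_, ?_⟩
  · show AlgSp.Points.ofPt (hf.fst q.toHom) w = x
    rw [AlgSp.Points.ofPt_eq_map_ofScheme]
    show AlgSp.Points.map (hf.fst q.toHom) (AlgSp.Points.ofScheme W (AlgSp.Points.toScheme W z)) = x
    rw [AlgSp.Points.ofScheme_toScheme, hz]
  · rw [AlgSp.FieldPt.toHom_ofPt]
    exact hmono
end Groth.Agent.S10413
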