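import Groth.Statements.S10414
import Groth.Agent.AlgSpDec.MonoPoint

set_option backward.isDefEq.respectTransparency false
set_option backward.isDefEq.respectTransparency.types false
-- import your own Groth.Agent.* helpers here

set_option autoImplicit false
universe u
open CategoryTheory CategoryTheory.Limits AlgebraicGeometry Topology TopologicalSpace
open AlgSp

namespace Groth.Agent.S10414

theorem exists_fieldPt {S : Scheme.{u}} {F : AlgSp.Sp S} {k : Type u} [Field k] {str : Spec (CommRingCat.of k) ⟶ S}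
    (q : (AlgSp.yon S).obj (Over.mk str) ⟶ F) (t : ↥(Spec (CommRingCat.of k))) (hm : Mono q) :
    ∃ p : AlgSp.FieldPt F, AlgSp.Points.mk p = AlgSp.Points.ofPt q t ∧ Mono p.toHom := by
  obtain ⟨v, rfl⟩ := (AlgSp.J S).uliftYonedaEquiv.symm.surjective q
  exact ⟨⟨k, str, v⟩, (AlgSp.Points.ofPt_toHom ⟨k, str, v⟩ t).symm, hm⟩

/-- Let S be a scheme, X an algebraic space over S, x ∈ |X|, and Z_x ⟶ X the residual space of x (a
monomorphism with image {x} from a space which admits a locally finitely presented, flat, surjective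
morphism whose source is the spectrum of a field). Then Z_x is isomorphic to Spec k' for some field
k' if and only if the point x is represented by some monomorphism Spec k ⟶ X. (The decent case, in
which the right side holds at every point, is not part of this row.) -/
theorem result {S : Scheme.{u}} (X : AlgSp.Space S) (x : AlgSp.Points X.obj)
    {Z : AlgSp.Space S} (i : Z ⟶ X) [Mono i.hom] (hi : Set.range (AlgSp.Points.map i.hom) = {x})
    (hZ : ∃ (k : Type u) (_ : Field k) (str : Spec (CommRingCat.of k) ⟶ S) (p : (AlgSp.yon S).obj (Over.mk str) ⟶ Z.obj),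
        AlgSp.LocP @LocallyOfFinitePresentation p ∧ AlgSp.LocP @Flat p ∧ AlgSp.IsSurjectiveMor p) :
    (∃ (k : Type u) (_ : Field k) (str : Spec (CommRingCat.of k) ⟶ S), Nonempty (Z.obj ≅ (AlgSp.yon S).obj (Over.mk str))) ↔
      ∃ p : AlgSp.FieldPt X.obj, AlgSp.Points.mk p = x ∧ Mono p.toHom :=  by
  constructor
  · rintro ⟨k, hk, str, ⟨e⟩⟩
    obtain ⟨q, hq⟩ : ∃ q : (AlgSp.yon S).obj (Over.mk str) ⟶ X.obj, e.inv ≫ i.hom = q := ⟨_, rfl⟩
    have hm : Mono q := hq ▸ inferInstance
    obtain ⟨pp, hpp, hmm⟩ := exists_fieldPt q (IsLocalRing.closedPoint k) hm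
    have h : AlgSp.Points.ofPt q (IsLocalRing.closedPoint k) ∈ Set.range (AlgSp.Points.map i.hom) :=
        ⟨_, (AlgSp.Points.map_ofPt e.inv i.hom _).trans (by rw [hq])⟩
    rw [hi] at h
    exact ⟨pp, hpp.trans (Set.mem_singleton_iff.1 h), hmm⟩
  · rintro ⟨p, hpx, hp⟩
    have sq := IsPullback.of_hasPullback i.hom p.toHom
    have hW := Groth.Agent.AlgSpLib.isAlgSpace_pullback Z.property (AlgSp.IsAlgSpace.yon_obj p.pt) X.property i.hom p.toHom
    obtain ⟨z, hz⟩ : x ∈ Set.range (AlgSp.Points.map i.hom) := by rw [hi]; rfl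
    obtain ⟨w, -, -⟩ := Groth.Agent.AlgSpLib.exists_point_of_isPullback sq (x := z)
      (y := AlgSp.Points.ofScheme p.pt (IsLocalRing.closedPoint p.K)) (by
        rw [hz, ← AlgSp.Points.ofPt_eq_map_ofScheme, ← Groth.Agent.AlgSpLib.mk_eq_ofPt, hpx])
    have : Mono (pullback.snd i.hom p.toHom) := inferInstance
    have := Groth.Agent.AlgSpDec.isIso_of_mono_field hW (pullback.snd i.hom p.toHom) w
    let c : (AlgSp.yon S).obj p.pt ⟶ Z.obj := inv (pullback.snd i.hom p.toHom) ≫ pullback.fst i.hom p.toHom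
    have hc : c ≫ i.hom = p.toHom := by
      rw [Category.assoc, pullback.condition, IsIso.inv_hom_id_assoc]
    have : Mono c := mono_of_mono_fac hc
    obtain ⟨k, hk, str, q, h₁, h₂, h₃⟩ := hZ
    obtain ⟨hr, hN, -, hsub⟩ := Groth.Agent.AlgSpDec.flat_lfp_cover_package Z.property q h₁ h₂ h₃
    have := Groth.Agent.AlgSpDec.isIso_of_mono_of_point (AlgSp.IsAlgSpace.yon_obj p.pt) Z.property hr hN c
      (AlgSp.Points.ofScheme p.pt (IsLocalRing.closedPoint p.K))
    exact ⟨p.K, inferInstance, p.str, ⟨(asIso c).symm⟩⟩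
end Groth.Agent.S10414
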