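import Groth.Statements.S10416
import Groth.Agent.AlgSpDec.ResidualFactor
import Groth.Agent.AlgSpDec.RedInduced
import Groth.Agent.AlgSpPts.Imm

set_option backward.isDefEq.respectTransparency false
set_option backward.isDefEq.respectTransparency.types false
-- import your own Groth.Agent.* helpers here

set_option autoImplicit false
universe u
open CategoryTheory CategoryTheory.Limits AlgebraicGeometry Topology TopologicalSpace
open AlgSp

namespace Groth.Agent.S10416

/-- Let S be a scheme, X a locally Noetherian algebraic space over S, x ∈ |X|, and i : Z_x ⟶ X the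
residual space at x. Then x is closed in |X| if and only if i is a closed immersion. -/
theorem result {S : Scheme.{u}} {X Z : AlgSp.Space S}
    (hX : AlgSp.IsLocNoethSp X.obj) (x : AlgSp.Points X.obj) (i : Z ⟶ X) [Mono i.hom]
    (hi : Set.range (AlgSp.Points.map i.hom) = {x}) (hZ : ∃ (k : Type u) (_ : Field k) (str : Spec (CommRingCat.of k) ⟶ S) (p : (AlgSp.yon S).obj (Over.mk str) ⟶ Z.obj),
        AlgSp.LocP @LocallyOfFinitePresentation p ∧ AlgSp.LocP @Flat p ∧ AlgSp.IsSurjectiveMor p) :
    IsClosed ({x} : Set (AlgSp.Points X.obj)) ↔ AlgSp.RepWith @IsClosedImmersion i.hom :=  by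
  refine ⟨fun hcl => ?_, fun h => ?_⟩
  · obtain ⟨W, j, hj, hr, hW⟩ := Groth.Agent.AlgSpDec.exists_reduced_induced X.property hcl
    obtain ⟨l, hl⟩ := Groth.Agent.AlgSpDec.exists_lift_of_reduced Z.property X.property hX i.hom
      (x := x) (by rw [hi]; rfl) j hW fun y => by
        have := Set.mem_range_self (f := AlgSp.Points.map j) y
        rw [hr] at this
        exact this
    obtain ⟨w, hw⟩ : x ∈ Set.range (AlgSp.Points.map j) := hr.symm ▸ rfl
    have : Mono j := Groth.Agent.AlgSpPts.mono_of_repWith (Groth.Agent.AlgSpLib.repWith_mono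
      (fun _ _ e (_ : IsClosedImmersion e) => inferInstanceAs (Mono e)) _ hj)
    have : Mono l := mono_of_mono_fac hl
    obtain ⟨k, hk, str, q, h₁, h₂, h₃⟩ := hZ
    obtain ⟨hr', hN, -, hsub⟩ := Groth.Agent.AlgSpDec.flat_lfp_cover_package Z.property q h₁ h₂ h₃
    have := Groth.Agent.AlgSpDec.isIso_of_mono_of_point W.property Z.property hr' hN l w
    rw [show i.hom = inv l ≫ j by rw [← hl, IsIso.inv_hom_id_assoc]]
    exact Groth.Agent.AlgSpLib.repWith_comp (Groth.Agent.AlgSpLib.repWith_of_isIso _ _) hj
  · rw [← hi]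
    exact (Groth.Agent.AlgSpPts.isClosedMap_map (Groth.Agent.AlgSpLib.repWith_mono
      (fun _ _ e (_ : IsClosedImmersion e) => inferInstanceAs (UniversallyClosed e)) _ h)).isClosed_range
end Groth.Agent.S10416
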