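import Groth.Statements.S10424
import Groth.Agent.AlgSpDec.BddFibres

set_option backward.isDefEq.respectTransparency false
set_option backward.isDefEq.respectTransparency.types false
-- import your own Groth.Agent.* helpers here

set_option autoImplicit false
universe u
open CategoryTheory CategoryTheory.Limits AlgebraicGeometry Topology TopologicalSpace
open AlgSp

namespace Groth.Agent.S10424

/-- Let X be an algebraic space over a scheme S, V ⟶ U a morphism of schemes over S and U ⟶ X a
morphism. Suppose that the fibres of V ⟶ U and of U ⟶ X are universally bounded. Then V ⟶ X also has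
universally bounded fibres. -/
theorem result {S : Scheme.{u}} (X : AlgSp.Space S) {U V : Over S} (f : V ⟶ U)
    (g : (AlgSp.yon S).obj U ⟶ X.obj) (hf : W4dec.HasUnivBddFibres ((AlgSp.yon S).map f)) (hg : W4dec.HasUnivBddFibres g) :
    W4dec.HasUnivBddFibres ((AlgSp.yon S).map f ≫ g) :=  by
  obtain ⟨r, hr⟩ := hf
  obtain ⟨n, hn⟩ := hg
  exact ⟨r * n, Groth.Agent.AlgSpDec.degFibresLE_comp X.2 f g hr hn⟩
end Groth.Agent.S10424
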