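import Groth.Statements.S10427
import Groth.Agent.AlgSpDec.BddFibres

set_option backward.isDefEq.respectTransparency false
set_option backward.isDefEq.respectTransparency.types false
-- import your own Groth.Agent.* helpers here

set_option autoImplicit false
universe u
open CategoryTheory CategoryTheory.Limits AlgebraicGeometry Topology TopologicalSpace
open AlgSp

namespace Groth.Agent.S10427

/-- Let X be an algebraic space over a scheme S and U ⟶ V ⟶ X with U, V schemes, U ⟶ V surjective and
flat. If U ⟶ X has universally bounded fibres, then so does V ⟶ X. -/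
theorem result {S : Scheme.{u}} (X : AlgSp.Space S) {U V : Over S} (f : U ⟶ V)
    [Surjective f.left] [Flat f.left] (h : (AlgSp.yon S).obj V ⟶ X.obj) (hg : W4dec.HasUnivBddFibres ((AlgSp.yon S).map f ≫ h)) :
    W4dec.HasUnivBddFibres h :=  by
  obtain ⟨n, hn⟩ := hg
  exact ⟨n, Groth.Agent.AlgSpDec.degFibresLE_of_flat_surjective X.2 f h hn⟩
end Groth.Agent.S10427
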