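import Groth.Statements.S10429
import Groth.Agent.AlgSpDec.BddFibres2

set_option backward.isDefEq.respectTransparency false
set_option backward.isDefEq.respectTransparency.types false
-- import your own Groth.Agent.* helpers here

set_option autoImplicit false
universe u
open CategoryTheory CategoryTheory.Limits AlgebraicGeometry Topology TopologicalSpace
open AlgSp

namespace Groth.Agent.S10429

/-- For an algebraic space X over a scheme S, if there are etale morphisms U_i ⟶ X from schemes with ∐
U_i ⟶ X surjective and each U_i ⟶ X with universally bounded fibres, then every etale morphism U ⟶ X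
from an affine scheme has universally bounded fibres (the converse implication is immediate). -/
theorem result {S : Scheme.{u}} (X : AlgSp.Space S) {ι : Type u} (U : ι → Over S)
    (φ : ∀ i, (AlgSp.yon S).obj (U i) ⟶ X.obj) (hφ : ∀ i, AlgSp.RepWith @Etale (φ i))
    (hsurj : ∀ x : AlgSp.Points X.obj, ∃ (i : ι) (v : ↥(U i).left), AlgSp.Points.ofPt (φ i) v = x)
    (hb : ∀ i, W4dec.HasUnivBddFibres (φ i)) {V : Over S} [IsAffine V.left] (ψ : (AlgSp.yon S).obj V ⟶ X.obj)
    (hψ : AlgSp.RepWith @Etale ψ) : W4dec.HasUnivBddFibres ψ := 
  Groth.Agent.AlgSpDec.hasUnivBddFibres_of_etale_cover X.2 U φ hφ hsurj hb ψ hψ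
end Groth.Agent.S10429
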