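import Groth.Statements.S10430
import Groth.Agent.AlgSpDec.BddFibres

set_option backward.isDefEq.respectTransparency false
set_option backward.isDefEq.respectTransparency.types false
-- import your own Groth.Agent.* helpers here

set_option autoImplicit false
universe u
open CategoryTheory CategoryTheory.Limits AlgebraicGeometry Topology TopologicalSpace
open AlgSp

namespace Groth.Agent.S10430

/-- If every etale morphism U ⟶ X from an affine scheme to the algebraic space X has universally bounded
fibres, then X is decent. -/
theorem result {S : Scheme.{u}} (X : AlgSp.Space S)
    (h : ∀ (U : Over S) (φ : (AlgSp.yon S).obj U ⟶ X.obj), IsAffine U.left → AlgSp.RepWith @Etale φ → W4dec.HasUnivBddFibres φ) :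
    AlgSp.IsDecent X.obj := 
  Groth.Agent.AlgSpDec.isDecent_of_bddFibres X.2 h
end Groth.Agent.S10430
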