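import Groth.Statements.S10431
import Groth.Agent.AlgSpDec.BddFibres2

set_option backward.isDefEq.respectTransparency false
set_option backward.isDefEq.respectTransparency.types false
-- import your own Groth.Agent.* helpers here

set_option autoImplicit false
universe u
open CategoryTheory CategoryTheory.Limits AlgebraicGeometry Topology TopologicalSpace
open AlgSp

namespace Groth.Agent.S10431

/-- Let S be a scheme, X and Y algebraic spaces over S, and X ⟶ Y a representable morphism. If every
etale morphism from an affine scheme to Y has universally bounded fibres, then so does every etale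
morphism from an affine scheme to X. -/
theorem result {S : Scheme.{u}} {X Y : AlgSp.Space S} (f : X ⟶ Y)
    (hf : AlgSp.Representable f.hom)
    (hY : ∀ (V : Over S) (ψ : (AlgSp.yon S).obj V ⟶ Y.obj), IsAffine V.left → AlgSp.RepWith @Etale ψ → W4dec.HasUnivBddFibres ψ)
    (U : Over S) (φ : (AlgSp.yon S).obj U ⟶ X.obj) (hU : IsAffine U.left) (hφ : AlgSp.RepWith @Etale φ) :
    W4dec.HasUnivBddFibres φ :=  by
  haveI := hU
  exact Groth.Agent.AlgSpDec.hasUnivBddFibres_of_representable X.2 Y.2 f.hom hf hY U φ hφ
end Groth.Agent.S10431
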