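import Groth.Statements.S10432
import Groth.Agent.AlgSpDec.BddFibres2

set_option backward.isDefEq.respectTransparency false
set_option backward.isDefEq.respectTransparency.types false
-- import your own Groth.Agent.* helpers here

set_option autoImplicit false
universe u
open CategoryTheory CategoryTheory.Limits AlgebraicGeometry Topology TopologicalSpace
open AlgSp

namespace Groth.Agent.S10432

/-- Let X be an algebraic space over a scheme S with a Zariski covering by open subspaces X_i ⟶ X such
that every etale morphism from an affine scheme to X_i has universally bounded fibres. Then every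
etale morphism from an affine scheme to X has universally bounded fibres. -/
theorem result {S : Scheme.{u}} (X : AlgSp.Space S) {ι : Type u}
    (Xi : ι → AlgSp.Space S) (j : ∀ i, Xi i ⟶ X) (hj : AlgSp.IsZarCover (fun i => (Xi i).obj) (fun i => (j i).hom))
    (h : ∀ (i : ι) (V : Over S) (ψ : (AlgSp.yon S).obj V ⟶ (Xi i).obj), IsAffine V.left → AlgSp.RepWith @Etale ψ → W4dec.HasUnivBddFibres ψ)
    (U : Over S) (φ : (AlgSp.yon S).obj U ⟶ X.obj) (hU : IsAffine U.left) (hφ : AlgSp.RepWith @Etale φ) :
    W4dec.HasUnivBddFibres φ :=  by
  haveI := hU
  exact Groth.Agent.AlgSpDec.hasUnivBddFibres_of_zarCover X.2 (fun i => (Xi i).obj) (fun i => (Xi i).2) (fun i => (j i).hom) hj h U φ hφ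
end Groth.Agent.S10432
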