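import Groth.Statements.S10433
import Groth.Agent.AlgSpDec.DegStrat

set_option backward.isDefEq.respectTransparency false
set_option backward.isDefEq.respectTransparency.types false
-- import your own Groth.Agent.* helpers here

set_option autoImplicit false
universe u
open CategoryTheory CategoryTheory.Limits AlgebraicGeometry Topology TopologicalSpace
open AlgSp

namespace Groth.Agent.S10433

/-- Let S be a scheme, X an algebraic space over S, W a scheme over S, and W ⟶ X a morphism which is
flat, separated, locally of finite presentation and locally quasi-finite, with universally bounded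
fibres. Then X has closed subspaces, each reduced, ∅ = Z_{-1} ⊆ Z_0 ⊆ ⋯ ⊆ Z_n with |Z_n| = |X| such
that, putting X_r = Z_r ∖ Z_{r-1}, for every morphism g : T ⟶ X the second projection W ×_X T ⟶ T is
a finite locally free morphism of degree r exactly when g(|T|) ⊆ |X_r|. (Indexing: Zs 0 = Z_{-1}, Zs
(r+1) = Z_r.) -/
theorem result {S : Scheme.{u}} (X : AlgSp.Space S) {W : Over S}
    (w : (AlgSp.yon S).obj W ⟶ X.obj) (hfl : AlgSp.RepWith @Flat w) (hfp : AlgSp.RepWith @LocallyOfFinitePresentation w)
    (hsep : AlgSp.RepWith @IsSeparated w) (hqf : AlgSp.RepWith @LocallyQuasiFinite w) (hb : W4dec.HasUnivBddFibres w) :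
    ∃ (n : ℕ) (Zs : ℕ → AlgSp.Space S) (i : ∀ r, Zs r ⟶ X),
      (∀ r, AlgSp.IsRedInduced (Set.range (AlgSp.Points.map (i r).hom)) (i r).hom) ∧
      IsEmpty (AlgSp.Points (Zs 0).obj) ∧ Set.range (AlgSp.Points.map (i (n + 1)).hom) = Set.univ ∧
      (∀ r, Set.range (AlgSp.Points.map (i r).hom) ⊆ Set.range (AlgSp.Points.map (i (r + 1)).hom)) ∧
      ∀ (r : ℕ) (T : AlgSp.Space S) (g : T ⟶ X) (P : AlgSp.Sp S) (fst : P ⟶ (AlgSp.yon S).obj W) (snd : P ⟶ T.obj),
        IsPullback fst snd w g.hom →
          (AlgSp.IsFinLocFreeOfDegMor r snd ↔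
            Set.range (AlgSp.Points.map g.hom) ⊆
              Set.range (AlgSp.Points.map (i (r + 1)).hom) \ Set.range (AlgSp.Points.map (i r).hom)) :=  by
  exact AlgSpDec.QfData.exists_degree_stratification ⟨X.2, hfl, hfp, hsep, hqf, hb⟩
end Groth.Agent.S10433
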