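import Groth.Statements.S10439
import Groth.Agent.AlgSpDec.Basic

set_option backward.isDefEq.respectTransparency false
set_option backward.isDefEq.respectTransparency.types false
-- import your own Groth.Agent.* helpers here

set_option autoImplicit false
universe u
open CategoryTheory CategoryTheory.Limits AlgebraicGeometry Topology TopologicalSpace
open AlgSp

namespace Groth.Agent.S10439

/-- A birational morphism between decent algebraic spaces over a scheme S, each with only finitely many
irreducible components, is dominant: the image of |X| is dense in |Y|. -/
theorem result {S : Scheme.{u}} {X Y : AlgSp.Space S} (f : X ⟶ Y)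
    (hX : AlgSp.IsDecent X.obj) (hY : AlgSp.IsDecent Y.obj)
    (hXf : (irreducibleComponents (AlgSp.Points X.obj)).Finite)
    (hYf : (irreducibleComponents (AlgSp.Points Y.obj)).Finite)
    (hf : W4stk3decentspacesp2.IsBirational f.hom) : AlgSp.IsDominantMor f.hom :=  by
  have := AlgSpDec.quasiSober_points Y.property hY
  have : ∀ y : AlgSp.Points Y.obj, y ∈ closure (Set.range (AlgSp.Points.map f.hom)) := fun y => by
    obtain ⟨T, hT, hyT⟩ := exists_mem_irreducibleComponents_subset_of_isIrreducible _
      (isIrreducible_singleton (x := y))
    let η := hT.1.genericPoint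
    have hη : closure {η} = T := hT.1.isGenericPoint_genericPoint (isClosed_of_mem_irreducibleComponents T hT) |>.def
    obtain ⟨x, -, hx⟩ := hf.bijOn.surjOn (show η ∈ genericPoints (AlgSp.Points Y.obj) from by
      change closure {η} ∈ irreducibleComponents _
      rw [hη]; exact hT)
    have hsub : ({η} : Set (AlgSp.Points Y.obj)) ⊆ Set.range (AlgSp.Points.map f.hom) := Set.singleton_subset_iff.2 ⟨x, hx⟩
    refine closure_mono hsub ?_
    rw [hη]
    exact hyT rfl
  exact fun y => this y
end Groth.Agent.S10439
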