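import Groth.Statements.S1044
import Groth.Agent.KFlatLib.Scheme.Generator
-- import your own Groth.Agent.* helpers here

set_option autoImplicit false
universe u
open CategoryTheory CategoryTheory.Limits AlgebraicGeometry
attribute [local instance] HasDerivedCategory.standard
open Perf

namespace Groth.Agent.S1044

/-- Let A be a ring, f₁, …, f_r elements of A, X = Spec A, U ⊆ X the open complement of V(f₁, …, f_r)
with inclusion j, and K the perfect object of D(O_X) associated with the Koszul complex on f₁, …,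
f_r. Assuming Rj_* exists (and tilde is recorded as exact), for E ∈ D(O_X) with quasi-coherent
cohomology sheaves the following are equivalent: E is of the form Rj_*M for some M ∈ D_QCoh(O_U)
(equivalently E = Rj_*(E|_U)); every morphism K[n] ⟶ E, n ∈ ℤ, is zero. -/
theorem result (A : Type u) [CommRing A] (fs : List A) [PreservesFiniteLimits (tilde.functor (CommRingCat.of A))]
    [DCoh.HasRpush (LocCoh.puncturedOpen A (Ideal.span {a | a ∈ fs})).ι]
    (E : DCoh.D (Spec (CommRingCat.of A))) (hE : DCoh.IsQCohD E) :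
    (∃ M : DCoh.D (LocCoh.puncturedOpen A (Ideal.span {a | a ∈ fs}) : Scheme.{u}), DCoh.IsQCohD M ∧
        Nonempty (E ≅ (DCoh.Rpush (LocCoh.puncturedOpen A (Ideal.span {a | a ∈ fs})).ι).obj M)) ↔
    ∀ (n : ℤ) (φ : ((DCoh.tildeD (CommRingCat.of A)).obj (DerivedCategory.Q.obj (Koszul.koszul A fs)))⟦n⟧ ⟶ E), φ = 0 := by
  let U := KFlatLib.KoszulOrth.pU fs
  obtain ⟨adj⟩ : Nonempty (DCoh.restrictD U.ι ⊣ DCoh.Rpush U.ι) := KFlatLib.nonempty_rho_adj U.ι
  constructor
  · rintro ⟨M, -, ⟨e⟩⟩ n φ
    exact (cancel_mono e.hom).1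
      ((KFlatLib.KoszulOrth.koszul_orth_rpush fs adj n M (φ ≫ e.hom)).trans zero_comp.symm)
  · intro h
    obtain ⟨N, i, δ, hT, hz⟩ := KFlatLib.KoszulOrth.exists_fibre fs E adj hE
    haveI : IsIso (adj.unit.app E) := (Pretriangulated.Triangle.isZero₁_iff_isIso₂ _ hT).1
      (KFlatLib.Generator.isZero_of_subsingleton_stalk fun n x =>
        ModuleCat.subsingleton_of_isZero ((DerSch.stalkFunctor _ x).map_isZero (hz n (h (-n)))))
    exact ⟨_, KFlatLib.isQCohD_restrictD U.ι hE, ⟨asIso (adj.unit.app E)⟩⟩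

end Groth.Agent.S1044
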