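import Groth.Statements.S10441
import Groth.Agent.AlgSpDec.ElemBranches

set_option backward.isDefEq.respectTransparency false
set_option backward.isDefEq.respectTransparency.types false
-- import your own Groth.Agent.* helpers here

set_option autoImplicit false
universe u
open CategoryTheory CategoryTheory.Limits AlgebraicGeometry Topology TopologicalSpace
open AlgSp

namespace Groth.Agent.S10441

/-- For a decent algebraic space X over a scheme S and x ∈ |X|, fix an elementary etale neighbourhood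
(U₀, u₀) of (X, x) and a henselization R of O_{U₀, u₀} (a model of the henselian local ring at x).
The following are equivalent: (1) O_{U, u} has exactly one minimal prime whenever (U, u) is an
elementary etale neighbourhood of (X, x); (2) a unique irreducible component of U passes through u
for all such (U, u); (3) O_{U, u} is unibranch for all such (U, u); (4) R has exactly one minimal
prime. -/
theorem result {S : Scheme.{u}} (X : AlgSp.Space S)
    (hX : AlgSp.IsDecent X.obj) (x : AlgSp.Points X.obj) {U₀ : Over S}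
    (a₀ : (AlgSp.yon S).obj U₀ ⟶ X.obj) (u₀ : ↥U₀.left) (h₀ : AlgSp.IsElemEtaleNbhd a₀ u₀ x)
    (R : Type u) [CommRing R] [IsLocalRing R] [Algebra ↥(U₀.left.presheaf.stalk u₀) R]
    [IsLocalHom (algebraMap ↥(U₀.left.presheaf.stalk u₀) R)] [Hensel.IsHenselization ↥(U₀.left.presheaf.stalk u₀) R] :
    ((∀ (U : Over S) (a : (AlgSp.yon S).obj U ⟶ X.obj) (u : ↥U.left), AlgSp.IsElemEtaleNbhd a u x →
        CAlgX.HasUniqueMinimalPrime ↥(U.left.presheaf.stalk u)) ↔
      (∀ (U : Over S) (a : (AlgSp.yon S).obj U ⟶ X.obj) (u : ↥U.left), AlgSp.IsElemEtaleNbhd a u x →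
        {Z : Set ↥U.left | Z ∈ irreducibleComponents ↥U.left ∧ u ∈ Z}.encard = 1)) ∧
    ((∀ (U : Over S) (a : (AlgSp.yon S).obj U ⟶ X.obj) (u : ↥U.left), AlgSp.IsElemEtaleNbhd a u x →
        {Z : Set ↥U.left | Z ∈ irreducibleComponents ↥U.left ∧ u ∈ Z}.encard = 1) ↔
      (∀ (U : Over S) (a : (AlgSp.yon S).obj U ⟶ X.obj) (u : ↥U.left), AlgSp.IsElemEtaleNbhd a u x →
        CAlg2.IsUnibranch ↥(U.left.presheaf.stalk u))) ∧
    ((∀ (U : Over S) (a : (AlgSp.yon S).obj U ⟶ X.obj) (u : ↥U.left), AlgSp.IsElemEtaleNbhd a u x →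
        CAlg2.IsUnibranch ↥(U.left.presheaf.stalk u)) ↔ CAlgX.HasUniqueMinimalPrime R) :=  by
  have h1 := Groth.Agent.AlgSpDec.ElemBranches.encard_iff X.property hX 1 h₀ R
  have h3 := Groth.Agent.AlgSpDec.ElemBranches.numBranchesAt_iff X.property hX 1 h₀ R
  have hR := Groth.Agent.AlgSpDec.ElemBranches.encard_minimalPrimes_henselization ↥(U₀.left.presheaf.stalk u₀) R
  simp only [Groth.Agent.AlgSpDec.ElemBranches.hasUniqueMinimalPrime_iff_encard,
    Groth.Agent.AlgSpDec.ElemBranches.encard_components_eq, ← Groth.Agent.BrnchLib.isUnibranch_iff]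
  have a1 : (∀ (U : Over S) (a : (AlgSp.yon S).obj U ⟶ X.obj) (u : ↥U.left), AlgSp.IsElemEtaleNbhd a u x →
      (minimalPrimes ↥(U.left.presheaf.stalk u)).encard = 1) ↔ (minimalPrimes R).encard = 1 := by
    constructor
    · intro h
      exact h1.1 ⟨fun U a u hu => (h U a u hu).le, U₀, a₀, u₀, h₀, h U₀ a₀ u₀ h₀⟩
    · intro h U a u hu
      exact le_antisymm ((h1.2 h).1 U a u hu) (Set.one_le_encard_iff_nonempty.2 (by
        obtain ⟨P, hP, -⟩ := Ideal.exists_minimalPrimes_le (I := (⊥ : Ideal ↥(U.left.presheaf.stalk u)))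
          (J := IsLocalRing.maximalIdeal ↥(U.left.presheaf.stalk u)) bot_le
        exact ⟨P, hP⟩))
  have a3 : (∀ (U : Over S) (a : (AlgSp.yon S).obj U ⟶ X.obj) (u : ↥U.left), AlgSp.IsElemEtaleNbhd a u x →
      Brnch.numBranches ↥(U.left.presheaf.stalk u) = 1) ↔ (minimalPrimes R).encard = 1 := by
    constructor
    · intro h
      exact hR.trans (h U₀ a₀ u₀ h₀)
    · intro h U a u hu
      exact (Groth.Agent.AlgSpDec.ElemBranches.numBranches_eq_of_elem X.property hX hu h₀).trans (hR.symm.trans h)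
  exact ⟨trivial, a1.trans a3.symm, a3⟩
end Groth.Agent.S10441
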