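import Groth.Statements.S10444
import Groth.Agent.AlgSpDec.FibreDiscrete

set_option backward.isDefEq.respectTransparency false
set_option backward.isDefEq.respectTransparency.types false
-- import your own Groth.Agent.* helpers here

set_option autoImplicit false
universe u
open CategoryTheory CategoryTheory.Limits AlgebraicGeometry Topology TopologicalSpace
open AlgSp

set_option linter.style.haveILetI false

namespace Groth.Agent.S10444

/-- Take f : X ⟶ Y locally of finite type between algebraic spaces over a scheme S, a field-valued point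
Spec k ⟶ Y whose class y ∈ |Y| lies in the image of |f|, the fibre product X_k = Spec k ×_Y X, and
the fibre F = |f|⁻¹(y) ⊆ |X| with the induced topology. Numbering the conditions (1) F finite, (2) F
discrete, (3) dim F = 0, (4) |X_k| finite, (5) |X_k| discrete, (6) dim |X_k| = 0, (7) dim X_k = 0,
(8) f quasi-finite at all points over y: (5) ⇔ (7) ⇔ (8); (5) ⇒ (6), with the converse when X_k is
decent; (4) ⇒ (5) when X_k is decent; (4) ⇒ (1); (2) ⇒ (3); if Y is decent then (2) ⇔ (5); if X and
Y are decent then (3) ⇒ (2) and (1) ⇒ (2). (The published statement asserts (5) ⇔ (6) for every f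
and (2) ⇔ (3) whenever Y is decent, and does not exclude an empty fibre; for the quotient of the
affine line over a field of characteristic zero by an infinite cyclic group of translations, mapping
to the point, the space of points is infinite and indiscrete, so (3) and (6) hold while (2) and (5)
fail, and for y outside the image (5) holds while (6) and (7) fail; hence the decency hypotheses on
those two converses and the hypothesis that y is in the image. Finiteness of |X_k| for an arbitrary
field k in the class of y is not derived here from (1).) -/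
theorem result {S : Scheme.{u}} {X Y : AlgSp.Space S} (f : X ⟶ Y)
    (hf : AlgSp.LocP @LocallyOfFiniteType f.hom) (r : AlgSp.FieldPt Y.obj)
    (hy : AlgSp.Points.mk r ∈ Set.range (AlgSp.Points.map f.hom)) (Xk : AlgSp.Space S) (fst : Xk ⟶ X)
    (snd : Xk.obj ⟶ (AlgSp.yon S).obj r.pt) (hsq : IsPullback fst.hom snd f.hom r.toHom) :
    (DiscreteTopology (AlgSp.Points Xk.obj) ↔ AlgSp.dim Xk.obj = 0) ∧
    (AlgSp.dim Xk.obj = 0 ↔
      ∀ x : AlgSp.Points X.obj, AlgSp.Points.map f.hom x = AlgSp.Points.mk r → AlgSp.HasAtMor (fun U _ h u => ∃ W : U.Opens, u ∈ W ∧ LocallyQuasiFinite (W.ι ≫ h) ∧ LocallyOfFiniteType (W.ι ≫ h)) f.hom x) ∧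
    (DiscreteTopology (AlgSp.Points Xk.obj) → topologicalKrullDim (AlgSp.Points Xk.obj) = 0) ∧
    (AlgSp.IsDecent Xk.obj → topologicalKrullDim (AlgSp.Points Xk.obj) = 0 →
      DiscreteTopology (AlgSp.Points Xk.obj)) ∧
    (AlgSp.IsDecent Xk.obj → Finite (AlgSp.Points Xk.obj) → DiscreteTopology (AlgSp.Points Xk.obj)) ∧
    (Finite (AlgSp.Points Xk.obj) → (AlgSp.Points.map f.hom ⁻¹' {AlgSp.Points.mk r}).Finite) ∧
    (DiscreteTopology ↥(AlgSp.Points.map f.hom ⁻¹' {AlgSp.Points.mk r}) → topologicalKrullDim ↥(AlgSp.Points.map f.hom ⁻¹' {AlgSp.Points.mk r}) = 0) ∧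
    (AlgSp.IsDecent Y.obj → (DiscreteTopology ↥(AlgSp.Points.map f.hom ⁻¹' {AlgSp.Points.mk r}) ↔ DiscreteTopology (AlgSp.Points Xk.obj))) ∧
    (AlgSp.IsDecent Y.obj → AlgSp.IsDecent X.obj →
      (topologicalKrullDim ↥(AlgSp.Points.map f.hom ⁻¹' {AlgSp.Points.mk r}) = 0 → DiscreteTopology ↥(AlgSp.Points.map f.hom ⁻¹' {AlgSp.Points.mk r})) ∧
        ((AlgSp.Points.map f.hom ⁻¹' {AlgSp.Points.mk r}).Finite → DiscreteTopology ↥(AlgSp.Points.map f.hom ⁻¹' {AlgSp.Points.mk r}))) :=  by
  open Groth.Agent.AlgSpDec.FibreDiscrete Groth.Agent.AlgSpDec Groth.Agent.AlgSpLib Groth.Agent.AlgSpPts in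
  have hq : AlgSp.LocP @LocallyOfFiniteType snd :=
    locP_of_isPullback hsq X.property Y.property (AlgSp.IsAlgSpace.yon_obj _) hf
  haveI hsub : Subsingleton (AlgSp.Points ((AlgSp.yon S).obj r.pt)) := subsingleton_points_field
  have hr : ∀ s : AlgSp.Points ((AlgSp.yon S).obj r.pt), AlgSp.Points.map r.toHom s = AlgSp.Points.mk r := fun s => by
    rw [Subsingleton.elim s (AlgSp.Points.ofScheme r.pt (IsLocalRing.closedPoint r.K)), mk_eq_ofPt]
    rw [← AlgSp.Points.ofPt_eq_map_ofScheme]
  have hmem : ∀ z : AlgSp.Points Xk.obj, AlgSp.Points.map f.hom (AlgSp.Points.map fst.hom z) = AlgSp.Points.mk r :=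
    fun z => by rw [← AlgSp.Points.map_comp, hsq.w, AlgSp.Points.map_comp, hr]
  have hlift : ∀ x : AlgSp.Points X.obj, AlgSp.Points.map f.hom x = AlgSp.Points.mk r →
      ∃ z : AlgSp.Points Xk.obj, AlgSp.Points.map fst.hom z = x := fun x hx => by
    obtain ⟨z, hz, -⟩ := exists_point_of_isPullback hsq (x := x)
      (y := AlgSp.Points.ofScheme r.pt (IsLocalRing.closedPoint r.K)) (by rw [hr, hx])
    exact ⟨z, hz⟩
  obtain ⟨x₀, hx₀⟩ := hy
  haveI : Nonempty (AlgSp.Points Xk.obj) := ⟨(hlift x₀ hx₀).choose⟩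
  haveI : Nonempty ↥(AlgSp.Points.map f.hom ⁻¹' {AlgSp.Points.mk r}) := ⟨⟨x₀, hx₀⟩⟩
  have hiff : DiscreteTopology (AlgSp.Points Xk.obj) ↔
      ∀ x : AlgSp.Points X.obj, AlgSp.Points.map f.hom x = AlgSp.Points.mk r → Q0 f.hom x := by
    rw [discrete_iff_q0 Xk.property hq]
    refine ⟨fun h x hx => ?_, fun h z => (q0_baseChange_iff hsq X.property Y.property hf z).2 (h _ (hmem z))⟩
    obtain ⟨z, rfl⟩ := hlift x hx
    exact (q0_baseChange_iff hsq X.property Y.property hf z).1 (h z)
  refine ⟨discrete_iff_dim Xk.property hq, ?_, fun h => by exact @krullDim_discrete _ _ h _,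
    fun hd h0 => discrete_of_krullDim Xk.property hq hd h0,
    fun hd hfin => @discrete_of_finite _ _ _ _ _ _ Xk.property hq hd hfin, fun hfin => ?_,
    fun h => by exact @krullDim_discrete _ _ h _, fun hYd => ?_, fun hYd hXd => ⟨fun h0 => ?_, fun hfin => ?_⟩⟩
  · rw [← discrete_iff_dim Xk.property hq, hiff]
    exact forall₂_congr fun x _ => (Groth.Agent.S10313.qfAt_iff hf x).symm
  · exact (Set.finite_range (AlgSp.Points.map fst.hom)).subset fun x hx => hlift x hx
  · rw [hiff]
    refine ⟨fun h x hx => q0_of_isOpen X.property Y.property hf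
      (⟨x, hx⟩ : ↥(AlgSp.Points.map f.hom ⁻¹' {AlgSp.Points.mk r})) (@isOpen_discrete _ _ h _),
      fun h => discreteTopology_iff_isOpen_singleton.2 fun x => ?_⟩
    exact isOpen_of_q0 X.property Y.property hYd hf x (h x.1 x.2)
  · haveI := t0Space_points X.property hXd
    exact discreteTopology_iff_isOpen_singleton.2 fun x => isOpen_of_q0 X.property Y.property hYd hf x
      (q0_of_localDim X.property Y.property hf x
        (le_antisymm ((localDim_le_krullDim x).trans h0.le) (localDim_nonneg x)))
  · exact discreteTopology_iff_isOpen_singleton.2 fun x => isOpen_of_q0 X.property Y.property hYd hf x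
      (q0_of_finite X.property Y.property hf hXd hfin x.1 x.2)
end Groth.Agent.S10444
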