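import Groth.Statements.S10445
import Groth.Agent.AlgSpDec.FibreDiscrete

set_option backward.isDefEq.respectTransparency false
set_option backward.isDefEq.respectTransparency.types false
-- import your own Groth.Agent.* helpers here

set_option autoImplicit false
universe u
open CategoryTheory CategoryTheory.Limits AlgebraicGeometry Topology TopologicalSpace
open AlgSp

namespace Groth.Agent.S10445

/-- Take f : X ⟶ Y locally of finite type between algebraic spaces over a scheme S, a field-valued point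
Spec k ⟶ Y with class y, the fibre product X_k = Spec k ×_Y X, x ∈ |X| over y, x̃ ∈ |X_k| over x,
and F = |f|⁻¹(y) with the induced topology. Numbering the conditions (1) dim_x F = 0, (2) x isolated
in F, (3) x closed in F with no proper generization in F, (4) dim_{x̃} |X_k| = 0, (5) x̃ isolated in
|X_k|, (6) x̃ closed in |X_k| with no proper generization, (7) dim_{x̃}(X_k) = 0 (local dimension of
an etale chart), (8) f quasi-finite at x: (5) ⇔ (6) ⇔ (7) ⇔ (8); (4) ⇔ (5) when X_k is decent; (2) ⇔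
(5) and (3) ⇔ (6) when Y is decent; (1) ⇔ (2) when X and Y are decent. -/
theorem result {S : Scheme.{u}} {X Y : AlgSp.Space S} (f : X ⟶ Y)
    (hf : AlgSp.LocP @LocallyOfFiniteType f.hom) (r : AlgSp.FieldPt Y.obj) (Xk : AlgSp.Space S) (fst : Xk ⟶ X)
    (snd : Xk.obj ⟶ (AlgSp.yon S).obj r.pt) (hsq : IsPullback fst.hom snd f.hom r.toHom)
    (x : AlgSp.Points X.obj) (hx : x ∈ (AlgSp.Points.map f.hom ⁻¹' {AlgSp.Points.mk r})) (xt : AlgSp.Points Xk.obj)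
    (hxt : AlgSp.Points.map fst.hom xt = x) :
    ((IsOpen ({xt} : Set (AlgSp.Points Xk.obj)) ↔
      IsClosed ({xt} : Set (AlgSp.Points Xk.obj)) ∧ ∀ x' : AlgSp.Points Xk.obj, x' ⤳ xt → x' = xt) ∧
    (IsOpen ({xt} : Set (AlgSp.Points Xk.obj)) ↔ AlgSp.HasAt (fun U u => FlatMor.localDim ↥U u = 0) Xk.obj xt) ∧
    (AlgSp.HasAt (fun U u => FlatMor.localDim ↥U u = 0) Xk.obj xt ↔ AlgSp.HasAtMor (fun U _ h u => ∃ W : U.Opens, u ∈ W ∧ LocallyQuasiFinite (W.ι ≫ h) ∧ LocallyOfFiniteType (W.ι ≫ h)) f.hom x) ∧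
    (AlgSp.IsDecent Xk.obj →
      (FlatMor.localDim (AlgSp.Points Xk.obj) xt = 0 ↔ IsOpen ({xt} : Set (AlgSp.Points Xk.obj)))) ∧
    (AlgSp.IsDecent Y.obj →
      (IsOpen ({(⟨x, hx⟩ : ↥(AlgSp.Points.map f.hom ⁻¹' {AlgSp.Points.mk r}))} : Set ↥(AlgSp.Points.map f.hom ⁻¹' {AlgSp.Points.mk r})) ↔ IsOpen ({xt} : Set (AlgSp.Points Xk.obj))) ∧
      ((IsClosed ({(⟨x, hx⟩ : ↥(AlgSp.Points.map f.hom ⁻¹' {AlgSp.Points.mk r}))} : Set ↥(AlgSp.Points.map f.hom ⁻¹' {AlgSp.Points.mk r})) ∧ ∀ x' : ↥(AlgSp.Points.map f.hom ⁻¹' {AlgSp.Points.mk r}), x' ⤳ (⟨x, hx⟩ : ↥(AlgSp.Points.map f.hom ⁻¹' {AlgSp.Points.mk r})) → x' = (⟨x, hx⟩ : ↥(AlgSp.Points.map f.hom ⁻¹' {AlgSp.Points.mk r}))) ↔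
        IsClosed ({xt} : Set (AlgSp.Points Xk.obj)) ∧ ∀ x' : AlgSp.Points Xk.obj, x' ⤳ xt → x' = xt)) ∧
    (AlgSp.IsDecent Y.obj → AlgSp.IsDecent X.obj →
      (FlatMor.localDim ↥(AlgSp.Points.map f.hom ⁻¹' {AlgSp.Points.mk r}) (⟨x, hx⟩ : ↥(AlgSp.Points.map f.hom ⁻¹' {AlgSp.Points.mk r})) = 0 ↔ IsOpen ({(⟨x, hx⟩ : ↥(AlgSp.Points.map f.hom ⁻¹' {AlgSp.Points.mk r}))} : Set ↥(AlgSp.Points.map f.hom ⁻¹' {AlgSp.Points.mk r}))))) :=  by
  open Groth.Agent.AlgSpDec.FibreDiscrete Groth.Agent.AlgSpDec Groth.Agent.AlgSpLib Groth.Agent.AlgSpPts in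
  have hq : AlgSp.LocP @LocallyOfFiniteType snd :=
    locP_of_isPullback hsq X.property Y.property (AlgSp.IsAlgSpace.yon_obj _) hf
  have hq0 : Q0 snd xt ↔ Q0 f.hom x := by
    rw [← hxt]; exact q0_baseChange_iff hsq X.property Y.property hf xt
  have hxo : ∀ hYd : AlgSp.IsDecent Y.obj,
      (IsOpen ({(⟨x, hx⟩ : ↥(AlgSp.Points.map f.hom ⁻¹' {AlgSp.Points.mk r}))} :
        Set ↥(AlgSp.Points.map f.hom ⁻¹' {AlgSp.Points.mk r})) ↔ Q0 f.hom x) := fun hYd =>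
    ⟨fun h => q0_of_isOpen X.property Y.property hf ⟨x, hx⟩ h,
      fun h => isOpen_of_q0 X.property Y.property hYd hf ⟨x, hx⟩ h⟩
  refine ⟨(isOpen_iff_q0 Xk.property hq xt).trans (isClosed_iff_q0 Xk.property hq xt).symm,
    (isOpen_iff_q0 Xk.property hq xt).trans (hasAt_iff_q0 Xk.property hq xt).symm,
    ((hasAt_iff_q0 Xk.property hq xt).trans hq0).trans (Groth.Agent.S10313.qfAt_iff hf x).symm,
    fun hd => (localDim_iff_q0 Xk.property hq hd xt).trans (isOpen_iff_q0 Xk.property hq xt).symm,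
    fun hYd => ⟨(hxo hYd).trans (hq0.symm.trans (isOpen_iff_q0 Xk.property hq xt).symm), ?_⟩,
    fun hYd hXd => ⟨fun h => ?_, fun h => localDim_eq_zero_of_isOpen _ h⟩⟩
  · rw [isClosed_iff_q0 Xk.property hq xt, hq0]
    refine ⟨fun h => q0_of_isClosed X.property Y.property hf ⟨x, hx⟩ h.1 h.2, fun h =>
      ⟨isClosed_of_q0 X.property Y.property hYd hf ⟨x, hx⟩ h, fun x' hx' => ?_⟩⟩
    exact hx'.mem_open ((hxo hYd).2 h) rfl
  · haveI := t0Space_points X.property hXd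
    exact (hxo hYd).2 (q0_of_localDim X.property Y.property hf ⟨x, hx⟩ h)
end Groth.Agent.S10445
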