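import Groth.Statements.S1045
import Groth.Agent.KExact.KoszulFactor
import Groth.Agent.KFlatLib.Scheme.SummandLift
-- import your own Groth.Agent.* helpers here

set_option autoImplicit false
set_option linter.style.haveILetI false
set_option backward.isDefEq.respectTransparency false
set_option backward.isDefEq.respectTransparency.types false

universe u
open CategoryTheory CategoryTheory.Limits AlgebraicGeometry
attribute [local instance] HasDerivedCategory.standard
open Perf

namespace Groth.Agent.S1045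

/-- Let A be a ring, f₁, …, f_r elements of A, X = Spec A and U ⊆ X the open complement of V(f₁, …,
f_r). Let E ∈ D(O_X) have quasi-coherent cohomology sheaves with Hⁱ(E)|_U = 0 for -r < i ≤ 0. Then
(tilde being recorded as exact) every morphism s : O_X ⟶ E in D(O_X) factors as O_X ⟶ K_e ⟶ E for
some e ≥ 0, where K_e is the object of D(O_X) associated with the Koszul complex on f₁^e, …, f_r^e. -/
theorem result (A : Type u) [CommRing A] (fs : List A) [PreservesFiniteLimits (tilde.functor (CommRingCat.of A))]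
    (E : DCoh.D (Spec (CommRingCat.of A))) (hE : DCoh.IsQCohD E)
    (hU : ∀ i : ℤ, -(fs.length : ℤ) < i → i ≤ 0 → IsZero ((DCoh.HD E i).restrict (LocCoh.puncturedOpen A (Ideal.span {a | a ∈ fs})).ι))
    (s : DCoh.inD (Spec (CommRingCat.of A)) (Coh.structureModule (Spec (CommRingCat.of A))) ⟶ E) :
    ∃ (e : ℕ) (ψ : (DCoh.tildeD (CommRingCat.of A)).obj (DerivedCategory.Q.obj (Koszul.koszul A (fs.map (fun a => a ^ e)))) ⟶ E)
      (t : DCoh.inD (Spec (CommRingCat.of A)) (Coh.structureModule (Spec (CommRingCat.of A))) ⟶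
        (DCoh.tildeD (CommRingCat.of A)).obj (DerivedCategory.Q.obj (Koszul.koszul A (fs.map (fun a => a ^ e))))),
      t ≫ ψ = s := by
  haveI : (tilde.functor (CommRingCat.of A)).Additive := Groth.Agent.KFlatLib.tilde_additive _
  haveI : PreservesFiniteColimits (tilde.functor (CommRingCat.of A)) := Groth.Agent.QCoh.tilde_preservesFiniteColimits
  obtain ⟨M, ⟨e⟩⟩ := Groth.Agent.KFlatLib.exists_tildeD_iso (R := CommRingCat.of A) hE
  let u : DCoh.inD (Spec (CommRingCat.of A)) (Coh.structureModule (Spec (CommRingCat.of A))) ≅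
      (DCoh.tildeD (CommRingCat.of A)).obj (Groth.Agent.KFlatLib.KoszulOrth.kQ ([] : List A)) :=
    (DerivedCategory.singleFunctor _ 0).mapIso (tildeSelf (R := CommRingCat.of A)).symm ≪≫
      (((tilde.functor (CommRingCat.of A)).mapDerivedCategorySingleFunctor 0).app (ModuleCat.of A A)).symm ≪≫
        (DCoh.tildeD (CommRingCat.of A)).mapIso
          ((DerivedCategory.singleFunctorIsoCompQ (ModuleCat.{u} A) 0).app (ModuleCat.of A A))
  obtain ⟨x, hx⟩ := (Groth.Agent.KFlatLib.tildeD_map_bijective (R := CommRingCat.of A)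
    (Groth.Agent.KFlatLib.KoszulOrth.kQ ([] : List A)) M).2 (u.inv ≫ s ≫ e.inv)
  obtain ⟨t, -, hfac⟩ := Groth.Agent.KExact.exists_units (N := M) fs
  obtain ⟨k, ψ, hψ⟩ := hfac x fun i h1 h2 f hf y =>
    Groth.Agent.KFlatLib.SummandLift.torsion_of_isZero_hd fs M i
      (((hU i h1 h2).of_iso ((Scheme.Modules.restrictFunctor _).mapIso
        ((DerivedCategory.homologyFunctor _ i).mapIso e))).of_iso (Groth.Agent.KFlatLib.restrictHDIso _ _ i)) f hf y
  refine ⟨k, (DCoh.tildeD (CommRingCat.of A)).map ψ ≫ e.hom, u.hom ≫ (DCoh.tildeD (CommRingCat.of A)).map (t k), ?_⟩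
  rw [Category.assoc, ← Category.assoc ((DCoh.tildeD (CommRingCat.of A)).map (t k)), ← Functor.map_comp, hψ, hx]
  simp
end Groth.Agent.S1045
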