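import Groth.Statements.S10453
import Groth.Agent.AlgSpDec.CodimNhd
import Groth.Agent.AlgSpDec.ArtinAffine
import Groth.Agent.AlgSpDec.OnePointGeneral
import Groth.Agent.AlgSpDec.Basic

set_option backward.isDefEq.respectTransparency false
set_option backward.isDefEq.respectTransparency.types false
-- import your own Groth.Agent.* helpers here

set_option autoImplicit false
universe u
open CategoryTheory CategoryTheory.Limits AlgebraicGeometry Topology TopologicalSpace
open AlgSp

namespace Groth.Agent.S10453

/-- Let X be a quasi-separated algebraic space over a quasi-separated scheme S and x a point of X of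
codimension 0 (the local ring of X at x has dimension 0). Then some open subspace of X containing x
is a scheme. (The published statement allows any base scheme S and takes X quasi-separated in the
absolute sense; this row asks S to be quasi-separated and X quasi-separated over S, which together
imply absolute quasi-separatedness.) -/
theorem result {S : Scheme.{u}} [QuasiSeparatedSpace S]
    (X : AlgSp.Space S) (hqs : AlgSp.IsQuasiSeparatedSp X.obj) (x : AlgSp.Points X.obj)
    (hx : AlgSp.HasAt (fun U u => ringKrullDim ↥(U.presheaf.stalk u) = 0) X.obj x) :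
    ∃ (X' : AlgSp.Space S) (j : X' ⟶ X), AlgSp.RepWith @IsOpenImmersion j.hom ∧
      X'.obj.obj.IsRepresentable ∧ x ∈ Set.range (AlgSp.Points.map j.hom) :=  by
  obtain ⟨U, a, u, hU, ha, hu⟩ := AlgSpDec.exists_affine_chart_at X.property x
  have hd := AlgSpDec.isDecent_of_isQuasiSeparatedSp X.property hqs
  have : CompactSpace ↥U.left := inferInstance
  have : QuasiCompact (ha.rep.snd a).left :=
    AlgSpDec.quasiCompact_fibreProd hqs (ha.rep.isPullback' a)
  obtain ⟨U₀, a₀, u₀, ha₀, hu₀, h0⟩ := hx
  have hc : Order.coheight u = 0 := by
    rw [AlgSpPts.coheight_eq_of_charts ha ha₀ (hu.trans hu₀.symm)]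
    change ringKrullDim _ = 0 at h0
    rw [ringKrullDim_stalk_eq_coheight] at h0
    exact WithBot.coe_eq_zero.1 h0
  obtain ⟨T, j, hj, hx'⟩ := AlgSpDec.exists_subscheme_of_qc_chart X.property hd ha u hc
  exact ⟨⟨(AlgSp.yon S).obj T, AlgSp.IsAlgSpace.yon_obj T⟩, ObjectProperty.homMk j, hj,
    AlgSpDec.isRepresentable_of_iso (Iso.refl _), hu ▸ hx'⟩
end Groth.Agent.S10453
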