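import Groth.Statements.S6620
import Groth.Agent.TriCat.RPlus

set_option autoImplicit false
universe w w' v v' u u'
open CategoryTheory CategoryTheory.Limits
open CohDer

namespace Groth.Agent.S6620

/-- Part (1): in the case where A has enough injectives (so that RF is defined on all of D⁺(A)): let F :
A ⥤ B be an additive functor between abelian categories, A with enough injectives, and K ∈ D⁺(A)
with Hⁱ(K) = 0 for i < a. Then Hⁱ(RF(K)) = 0 for i < a. -/
theorem result {A : Type u} [Category.{v} A] [Abelian A] [HasDerivedCategory.{w} A] [EnoughInjectives A]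
    {B : Type u'} [Category.{v'} B] [Abelian B] [HasDerivedCategory.{w'} B]
    (F : A ⥤ B) [F.Additive] (K : DerivedCategory.Plus A) (a : ℤ) [K.IsGE a] :
    (F.rightDerivedFunctorPlus.obj K).IsGE a := by
  obtain ⟨L, hL, ⟨e⟩⟩ := DerivedCategory.Plus.exists_injective_nonempty_iso K a
  let e' := F.rightDerivedFunctorPlus.mapIso e.symm ≪≫
    (Groth.Agent.TriCat.rightDerivedPlusIso A F).app
      ((HomotopyCategory.Plus.quotient (InjectiveObject A)).obj L)
  rw [← DerivedCategory.Plus.isGE_ι_obj_iff]
  have : CochainComplex.IsStrictlyGE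
      (((InjectiveObject.ι A).mapHomologicalComplex (ComplexShape.up ℤ)).obj L.obj) a :=
    inferInstance
  have : CochainComplex.IsStrictlyGE ((F.mapHomologicalComplex (ComplexShape.up ℤ)).obj
      (((InjectiveObject.ι A).mapHomologicalComplex (ComplexShape.up ℤ)).obj L.obj)) a :=
    inferInstance
  refine DerivedCategory.TStructure.t.isGE_of_iso (X := DerivedCategory.Q.obj ((F.mapHomologicalComplex (ComplexShape.up ℤ)).obj
      (((InjectiveObject.ι A).mapHomologicalComplex (ComplexShape.up ℤ)).obj L.obj))) ?_ a
  exact ((DerivedCategory.quotientCompQhIso B).app _).symm ≪≫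
    DerivedCategory.Plus.ι.mapIso e'.symm

end Groth.Agent.S6620
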