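import Groth.Statements.S1046
import Groth.Agent.CxSuppLib.Depth
import Groth.Agent.TriCat.RPlus
import Groth.Agent.S6620
import Groth.Agent.KFlatLib.Scheme.RpushQCoh
-- import your own Groth.Agent.* helpers here

set_option autoImplicit false
set_option linter.style.haveILetI false
set_option backward.isDefEq.respectTransparency false
set_option backward.isDefEq.respectTransparency.types false

universe u
open CategoryTheory CategoryTheory.Limits AlgebraicGeometry
attribute [local instance] HasDerivedCategory.standard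
open Perf

namespace Groth.Agent.S1046

open CategoryTheory.Limits AlgebraicGeometry
open Groth.Agent.KFlatLib

set_option linter.style.haveILetI false
set_option backward.isDefEq.respectTransparency false
set_option backward.isDefEq.respectTransparency.types false

/-- On bounded below objects the two derived functors of sections with support agree. -/
lemma nonempty_plus_iso {U X : Scheme.{u}} (j : U ⟶ X) [IsOpenImmersion j] [EnoughInjectives X.Modules]
    [CxOX.HasRgammaZ j] (E : DerivedCategory.Plus X.Modules) :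
    Nonempty (((DCoh.RgammaZPlus j).obj E).obj ≅ (CxOX.RgammaZ j).obj E.obj) := by
  obtain ⟨a, ha⟩ := E.property
  haveI : E.IsGE a := (DerivedCategory.Plus.isGE_ι_obj_iff E a).1 ha
  obtain ⟨L, hL, ⟨e⟩⟩ := DerivedCategory.Plus.exists_injective_nonempty_iso E a
  let e' := (DCoh.RgammaZPlus j).mapIso e.symm ≪≫
    (Groth.Agent.TriCat.rightDerivedPlusIso X.Modules (DCoh.gammaZ j)).app
      ((HomotopyCategory.Plus.quotient (InjectiveObject X.Modules)).obj L)
  let I := ((InjectiveObject.ι X.Modules).mapHomologicalComplex (ComplexShape.up ℤ)).obj L.obj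
  let P := ((DCoh.gammaZ j).mapHomologicalComplex (ComplexShape.up ℤ)).obj I
  haveI : CochainComplex.IsStrictlyGE I a := inferInstance
  haveI : ∀ n, Injective (I.X n) := fun n => (L.obj.X n).property
  haveI : CochainComplex.IsKInjective I := CochainComplex.isKInjective_of_injective I a
  let W := HomotopyCategory.quasiIso X.Modules (ComplexShape.up ℤ)
  let α := (CxOX.gammaZKh j).totalRightDerivedUnit DerivedCategory.Qh W
  haveI : IsIso (α.app ((CxSuppLib.qq X).obj I)) := isIso_rightDerivedUnit_of_kInjective (CxOX.gammaZKh j) I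
  let eK : DerivedCategory.Qh.obj ((CxSuppLib.qq X).obj I) ≅ E.obj :=
    DerivedCategory.Plus.ι.mapIso e
  let eP : ((DCoh.RgammaZPlus j).obj E).obj ≅ DerivedCategory.Q.obj P :=
    DerivedCategory.Plus.ι.mapIso e' ≪≫ (DerivedCategory.quotientCompQhIso X.Modules).app P
  exact ⟨eP ≪≫ ((DerivedCategory.quotientCompQhIso X.Modules).app P).symm ≪≫
    DerivedCategory.Qh.mapIso (((DCoh.gammaZ j).mapHomotopyCategoryFactors (ComplexShape.up ℤ)).app I).symm ≪≫
    asIso (α.app ((CxSuppLib.qq X).obj I)) ≪≫ (CxOX.RgammaZ j).mapIso eK⟩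


/-- Let U ⊆ X be an open subscheme with quasi-compact inclusion and T = X ∖ U. Assuming O_X-modules have
enough injectives (true, not recorded), for every bounded below E ∈ D(O_X) with quasi-coherent
cohomology sheaves, the derived sections with support RΓ_T(E) (right derived functor of F ↦ ker(F →
j_*(F|_U))) has quasi-coherent cohomology sheaves, all supported on T. -/
theorem result (X : Scheme.{u}) (U : X.Opens) [QuasiCompact U.ι] [EnoughInjectives X.Modules]
    (E : DerivedCategory.Plus X.Modules) (hE : DCoh.IsQCohD E.obj) :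
    DCoh.IsQCohD ((DCoh.RgammaZPlus U.ι).obj E).obj ∧
    ∀ i : ℤ, CohB1.support (DCoh.HD ((DCoh.RgammaZPlus U.ι).obj E).obj i) ⊆ (U : Set X)ᶜ := by
  haveI : CxOX.HasRgammaZ U.ι := CxSuppLib.hasRD (DCoh.gammaZ U.ι)
  obtain ⟨eΓ⟩ := nonempty_plus_iso U.ι E
  obtain ⟨F, _, g, δ, hT, hA, ⟨eF⟩⟩ := CxSuppLib.exists_triangle U.ι E.obj
  have hF : DCoh.IsQCohD F := isQCohD_of_iso eF.symm (isQCohD_restrictD _ hE)
  haveI : QuasiSeparated U.ι := inferInstance
  refine ⟨isQCohD_of_iso eΓ.symm (isQCohD_obj₁ hT hE (isQCohD_rpush U.ι hF)), fun i => ?_⟩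
  have hs := (CxSuppLib.isSuppD_iff U.ι _).2
    (hA.of_iso ((DCoh.restrictD U.ι).mapIso eΓ)) i
  rwa [Scheme.Opens.range_ι] at hs
end Groth.Agent.S1046
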