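import Groth.Statements.S10465
import Groth.Agent.AlgSpLib.Points
import Groth.Agent.AlgSpLib.EtLocalInst
import Groth.Agent.FBaseLib.Components

set_option backward.isDefEq.respectTransparency false
set_option backward.isDefEq.respectTransparency.types false
-- import your own Groth.Agent.* helpers here

set_option autoImplicit false
universe u
open CategoryTheory CategoryTheory.Limits AlgebraicGeometry Topology TopologicalSpace
open AlgSp Groth.Agent.AlgSpLib

namespace Groth.Agent.S10465

/-- For a field extension k'/k and an algebraic space X over k, geometric connectedness of X over k is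
equivalent to geometric connectedness of its base change X_{k'} over k' (the base changes of X_{k'}
to extensions K of k' being the base changes X_K of X, geometric connectedness of X_{k'} over k'
reads: |X_K| is connected for every field K over k'). -/
theorem result (k : Type u) [Field k] (X : AlgSp.Space (Spec (CommRingCat.of k))) (k' : Type u) [Field k'] [Algebra k k'] :
    (∀ (K : Type u) [Field K] [Algebra k K], ConnectedSpace (AlgSp.Points (X.obj ⨯ (AlgSp.yon (Spec (CommRingCat.of k))).obj (Over.mk (Spec.map (CommRingCat.ofHom (algebraMap k K))))))) ↔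
      ∀ (K : Type u) [Field K] [Algebra k K] [Algebra k' K] [IsScalarTower k k' K],
        ConnectedSpace (AlgSp.Points (X.obj ⨯ (AlgSp.yon (Spec (CommRingCat.of k))).obj (Over.mk (Spec.map (CommRingCat.ofHom (algebraMap k K)))))) :=  by
  refine ⟨fun h K _ _ _ _ => h K, fun h K _ _ => ?_⟩
  obtain ⟨M, iM, ikM, iKM, ik'M, t1, t2⟩ := Groth.Agent.FBaseLib.exists_field_compositum (k := k) K k'
  let j : Over.mk (Spec.map (CommRingCat.ofHom (algebraMap k M))) ⟶ Over.mk (Spec.map (CommRingCat.ofHom (algebraMap k K))) :=
    Over.homMk (Spec.map (CommRingCat.ofHom (algebraMap K M))) (by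
      simp only [Over.mk_hom]
      rw [← Spec.map_comp, ← CommRingCat.ofHom_comp, ← IsScalarTower.algebraMap_eq])
  have hj : RepWith @Surjective ((yon _).map j) := (repWith_yon_map_iff _ _).2
    ⟨fun x => ⟨IsLocalRing.closedPoint M, Subsingleton.elim (α := PrimeSpectrum K) _ _⟩⟩
  have sq : IsPullback (prod.snd : X.obj ⨯ (yon _).obj _ ⟶ _) (prod.map (𝟙 X.obj) ((yon _).map j))
      ((yon _).map j) (prod.snd : X.obj ⨯ (yon _).obj _ ⟶ _) :=
    ⟨⟨by simp⟩, ⟨PullbackCone.IsLimit.mk _ (fun s => prod.lift (s.snd ≫ prod.fst) s.fst)
      (fun s => by simp) (fun s => by apply Limits.prod.hom_ext <;> simp [s.condition])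
      (fun s l h1 h2 => by
        apply Limits.prod.hom_ext
        · have := h2 =≫ prod.fst
          simpa using this
        · simpa using h1)⟩⟩
  have := h M
  exact (surjective_map_of_isPullback sq (surjective_map_of_repWith hj)).connectedSpace (Points.continuous_map _)
end Groth.Agent.S10465
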