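import Groth.Statements.S10467
import Groth.Agent.AlgSpDec.FieldConn

set_option backward.isDefEq.respectTransparency false
set_option backward.isDefEq.respectTransparency.types false
-- import your own Groth.Agent.* helpers here

set_option autoImplicit false
universe u
open CategoryTheory CategoryTheory.Limits AlgebraicGeometry Topology TopologicalSpace
open AlgSp

namespace Groth.Agent.S10467

/-- Let k be a separably closed field, K an extension field of k and X an algebraic space over k. Then
X_K ⟶ X induces a bijection of connected components. -/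
theorem result (k : Type u) [Field k] [IsSepClosed k]
    (X : AlgSp.Space (Spec (CommRingCat.of k))) (K : Type u) [Field K] [Algebra k K] :
    Function.Bijective (Continuous.connectedComponentsMap
      (AlgSp.Points.continuous_map (Limits.prod.fst : (X.obj ⨯ (AlgSp.yon (Spec (CommRingCat.of k))).obj (Over.mk (Spec.map (CommRingCat.ofHom (algebraMap k K))))) ⟶ X.obj))) :=  by
  refine AlgSpDec.FieldBC.connectedComponentsMap_bijective_of_open _
    (AlgSpDec.FieldBC.isOpenMap_fst _ X.property) fun x => ?_
  obtain ⟨U, a, ha, ha'⟩ := X.property.atlas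
  obtain ⟨u, rfl⟩ := AlgSpLib.surjective_ofPt ha' x
  letI : U.left.Over (Spec (CommRingCat.of k)) := ⟨U.hom⟩
  convert (GeomField.isConnected_preimage (k := k) (X := U.left) K (isConnected_singleton (x := u))).image
    (AlgSp.Points.ofPt (AlgSpDec.FieldBC.chart a (AlgSpDec.FieldBC.sp k K))) (AlgSp.Points.continuous_ofPt _).continuousOn using 1
  ext z
  constructor
  · intro hz
    obtain ⟨w, hw, rfl⟩ := AlgSpDec.FieldBC.exists_lift a _ u z (Eq.symm hz)
    exact ⟨w, hw, rfl⟩
  · rintro ⟨w, hw, rfl⟩
    exact (AlgSpDec.FieldBC.map_fst_ofPt a (AlgSpDec.FieldBC.sp k K) w).trans (congrArg (AlgSp.Points.ofPt a) hw)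
end Groth.Agent.S10467
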