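import Groth.Statements.S10476
import Groth.Agent.AlgSpDec.GeomRed

set_option backward.isDefEq.respectTransparency false
set_option backward.isDefEq.respectTransparency.types false
-- import your own Groth.Agent.* helpers here

set_option autoImplicit false
universe u
open CategoryTheory CategoryTheory.Limits AlgebraicGeometry Topology TopologicalSpace
open AlgSp Groth.Agent.AlgSpDec

namespace Groth.Agent.S10476

/-- (1) ⇔ (2): let k be a field of characteristic p > 0 and X an algebraic space over k. Then X is
geometrically reduced over k exactly when X_K is reduced for all field extensions K of k. -/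
theorem result (k : Type u) [Field k] (p : ℕ) [Fact p.Prime] [CharP k p]
    (X : AlgSp.Space (Spec (CommRingCat.of k))) :
    (∀ x : AlgSp.Points X.obj, (∃ (U : Over (Spec (CommRingCat.of k))) (a : (AlgSp.yon (Spec (CommRingCat.of k))).obj U ⟶ X.obj) (u : ↥U.left),
      AlgSp.RepWith @Etale a ∧ AlgSp.Points.ofPt a u = x ∧ FBase.IsGeomReducedAt U.hom u)) ↔
      ∀ (K : Type u) [Field K] [Algebra k K], AlgSp.EtaleLocally (fun U => IsReduced U) (X.obj ⨯ (AlgSp.yon (Spec (CommRingCat.of k))).obj (Over.mk (Spec.map (CommRingCat.ofHom (algebraMap k K))))) :=  by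
  obtain ⟨U, a, ha, hs⟩ := X.property.atlas
  constructor
  · intro h K _ _
    refine GeomRed.bc_isReduced_of_geomReduced K ha hs fun u => ?_
    exact (GeomRed.exists_chart_iff ha u).1 (h (AlgSp.Points.ofPt a u))
  · intro h x
    obtain ⟨u, rfl⟩ := AlgSpLib.surjective_ofPt hs x
    refine ⟨U, a, u, ha, rfl, fun K _ _ z hz => ?_⟩
    exact (GeomRed.bc_isReduced_iff K ha hs).1 (h K) z
end Groth.Agent.S10476
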