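import Groth.Statements.S10478
import Groth.Agent.AlgSpDec.GeomRed

set_option backward.isDefEq.respectTransparency false
set_option backward.isDefEq.respectTransparency.types false
-- import your own Groth.Agent.* helpers here

set_option autoImplicit false
universe u
open CategoryTheory CategoryTheory.Limits AlgebraicGeometry Topology TopologicalSpace
open AlgSp Groth.Agent.AlgSpDec

namespace Groth.Agent.S10478

/-- (3) ⇒ (2): let k be a field of characteristic p > 0 and X an algebraic space over k. If X_{k'} is
reduced whenever k' is a finite purely inseparable extension of k, then X_K is reduced for every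
field extension K of k. -/
theorem result (k : Type u) [Field k] (p : ℕ) [Fact p.Prime]
    [CharP k p] (X : AlgSp.Space (Spec (CommRingCat.of k)))
    (h : ∀ (k' : Type u) [Field k'] [Algebra k k'], Module.Finite k k' → IsPurelyInseparable k k' →
      AlgSp.EtaleLocally (fun U => IsReduced U) (X.obj ⨯ (AlgSp.yon (Spec (CommRingCat.of k))).obj (Over.mk (Spec.map (CommRingCat.ofHom (algebraMap k k'))))))
    (K : Type u) [Field K] [Algebra k K] : AlgSp.EtaleLocally (fun U => IsReduced U) (X.obj ⨯ (AlgSp.yon (Spec (CommRingCat.of k))).obj (Over.mk (Spec.map (CommRingCat.ofHom (algebraMap k K))))) :=  by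
  obtain ⟨U, a, ha, hs⟩ := X.property.atlas
  refine GeomRed.bc_isReduced_of_geomReduced K ha hs fun u => ?_
  letI : U.left.Over (Spec (CommRingCat.of k)) := ⟨U.hom⟩
  refine Groth.Agent.GeomField.isGeomReducedAt_of_purelyInseparable (k := k) u fun k' _ _ _ _ z _ => ?_
  exact (GeomRed.bc_isReduced_iff k' ha hs).1 (h k' inferInstance inferInstance) z
end Groth.Agent.S10478
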