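import Groth.Statements.S10481
import Groth.Agent.AlgSpDec.GeomRed

set_option backward.isDefEq.respectTransparency false
set_option backward.isDefEq.respectTransparency.types false
-- import your own Groth.Agent.* helpers here

set_option autoImplicit false
universe u
open CategoryTheory CategoryTheory.Limits AlgebraicGeometry Topology TopologicalSpace
open AlgSp Groth.Agent.AlgSpDec

namespace Groth.Agent.S10481

/-- Let k be a field, f : X ⟶ Y a morphism of algebraic spaces over k and x a point of X at which f is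
etale. Then X is geometrically reduced at x if and only if Y is geometrically reduced at the image
of x. -/
theorem result (k : Type u) [Field k] {X Y : AlgSp.Space (Spec (CommRingCat.of k))} (f : X ⟶ Y)
    (x : AlgSp.Points X.obj)
    (he : AlgSp.HasAtMor (fun U _ h u => ∃ W : U.Opens, u ∈ W ∧ Etale (W.ι ≫ h)) f.hom x) :
    (∃ (U : Over (Spec (CommRingCat.of k))) (a : (AlgSp.yon (Spec (CommRingCat.of k))).obj U ⟶ X.obj) (u : ↥U.left),
      AlgSp.RepWith @Etale a ∧ AlgSp.Points.ofPt a u = x ∧ FBase.IsGeomReducedAt U.hom u) ↔ (∃ (U : Over (Spec (CommRingCat.of k))) (a : (AlgSp.yon (Spec (CommRingCat.of k))).obj U ⟶ Y.obj) (u : ↥U.left),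
      AlgSp.RepWith @Etale a ∧ AlgSp.Points.ofPt a u = (AlgSp.Points.map f.hom x) ∧ FBase.IsGeomReducedAt U.hom u) :=  by
  obtain ⟨U, V, a, b, g, u, ha, hb, hc, rfl, W, hu, hW⟩ := he
  have hy : AlgSp.Points.map f.hom (AlgSp.Points.ofPt a u) = AlgSp.Points.ofPt b (g.left u) := by
    rw [AlgSp.Points.map_ofPt, hc, AlgSpLib.ofPt_comp]
  rw [hy]
  refine (GeomRed.exists_chart_iff ha u).trans (Iff.trans ?_ (GeomRed.exists_chart_iff hb _).symm)
  have h₁ := GeomRed.isGeomReducedAt_comp_etale W.ι U.hom ⟨u, hu⟩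
  have h₂ := GeomRed.isGeomReducedAt_comp_etale (W.ι ≫ g.left) V.hom ⟨u, hu⟩
  rw [Category.assoc, Over.w g] at h₂
  exact h₁.symm.trans h₂
end Groth.Agent.S10481
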