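import Groth.Statements.S10482
import Groth.Agent.AlgSpDec.DimMaps

set_option backward.isDefEq.respectTransparency false
set_option backward.isDefEq.respectTransparency.types false
-- import your own Groth.Agent.* helpers here

set_option autoImplicit false
universe u
open CategoryTheory CategoryTheory.Limits AlgebraicGeometry Topology TopologicalSpace
open AlgSp

namespace Groth.Agent.S10482

/-- (1) ⇔ (2): let k be a field and X an algebraic space over k. Then X is locally quasi-finite over k
if and only if X is locally of finite type over k of dimension at most 0. (The published statement
says dimension 0; dimension at most 0 is used so that the empty space, whose dimension is the bottom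
element, is covered by both sides.) -/
theorem result (k : Type u) [Field k] (X : AlgSp.Space (Spec (CommRingCat.of k))) (p : X.obj ⟶ (AlgSp.yon (Spec (CommRingCat.of k))).obj (Over.mk (𝟙 _))) :
    AlgSp.LocP (@LocallyQuasiFinite ⊓ @LocallyOfFiniteType : MorphismProperty Scheme.{u}) p ↔ AlgSp.LocP @LocallyOfFiniteType p ∧ AlgSp.dim X.obj ≤ 0 :=  AlgSpDec.lqf_iff_lft_dim_le_zero X.property p
end Groth.Agent.S10482
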