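import Groth.Statements.S10484
import Groth.Agent.AlgSpDec.MonoDiscrete
import Groth.Agent.AlgSpLib.LocP
import Groth.Agent.AlgSpLib.EtLocalInst
import Groth.Agent.AlgSpDec.MonoPtsFibre
import Groth.Agent.S10393

set_option backward.isDefEq.respectTransparency false
set_option backward.isDefEq.respectTransparency.types false
-- import your own Groth.Agent.* helpers here

set_option autoImplicit false
universe u
open CategoryTheory CategoryTheory.Limits AlgebraicGeometry Topology TopologicalSpace
open AlgSp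

namespace Groth.Agent.S10484

theorem exists_iso_of_isRepresentable {S : Scheme.{u}} {X : AlgSp.Sp S} (h : X.obj.IsRepresentable) :
    ∃ T : Over S, Nonempty ((AlgSp.yon S).obj T ≅ X) := by
  obtain ⟨T, ⟨r⟩⟩ := h.has_representation
  refine ⟨T, ⟨(fullyFaithfulSheafToPresheaf _ _).preimageIso (NatIso.ofComponents
    (fun A => (Equiv.ulift.trans r.homEquiv).toIso) fun {A B} f => ?_)⟩⟩
  ext a
  exact r.homEquiv_comp f.unop a.down

/-- For a field k, local quasi-finiteness over k passes from the target Y of a monomorphism f : X ⟶ Y of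
algebraic spaces over k to its source X. -/
theorem result (k : Type u) [Field k] {X Y : AlgSp.Space (Spec (CommRingCat.of k))} (f : X ⟶ Y)
    [Mono f.hom] (q : Y.obj ⟶ (AlgSp.yon (Spec (CommRingCat.of k))).obj (Over.mk (𝟙 _))) (hq : AlgSp.LocP (@LocallyQuasiFinite ⊓ @LocallyOfFiniteType : MorphismProperty Scheme.{u}) q) :
    AlgSp.LocP (@LocallyQuasiFinite ⊓ @LocallyOfFiniteType : MorphismProperty Scheme.{u}) (f.hom ≫ q) :=  by
  obtain ⟨W, c, hc, hc'⟩ := Y.property.atlas
  obtain ⟨qW, hqW⟩ := (AlgSp.yon (Spec (CommRingCat.of k))).map_surjective (c ≫ q)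
  have hid : AlgSp.RepWith @Etale (𝟙 ((AlgSp.yon (Spec (CommRingCat.of k))).obj (Over.mk (𝟙 _)))) :=
    AlgSp.repWith_id _ _
  obtain ⟨h₁, h₂⟩ := hq c (𝟙 _) qW hc hid (by rw [Category.comp_id, hqW])
  have : DiscreteTopology ↥W.left := Groth.Agent.AlgSpDec.discreteTopology_over_field' qW.left
  have : IsLocallyNoetherian W.left :=
    @LocallyOfFiniteType.isLocallyNoetherian W.left (Spec (CommRingCat.of k)) qW.left h₂ inferInstance
  let P : AlgSp.Space (Spec (CommRingCat.of k)) := ⟨pullback f.hom c,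
    Groth.Agent.AlgSpLib.isAlgSpace_pullback X.property (AlgSp.IsAlgSpace.yon_obj W) Y.property f.hom c⟩
  let π : P ⟶ (AlgSp.ofScheme (Spec (CommRingCat.of k))).obj W := ⟨pullback.snd f.hom c⟩
  have : Mono π.hom := inferInstanceAs (Mono (pullback.snd f.hom c))
  have : Mono π := (ObjectProperty.ι (AlgSp.IsAlgSpace (S := Spec (CommRingCat.of k)))).mono_of_mono_map this
  obtain ⟨Q, ⟨e⟩⟩ := exists_iso_of_isRepresentable
    (Groth.Agent.S10393.result W P π)
  obtain ⟨g, hg⟩ := (AlgSp.yon (Spec (CommRingCat.of k))).map_surjective (e.hom ≫ pullback.snd f.hom c)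
  have hm : Mono ((AlgSp.yon (Spec (CommRingCat.of k))).map g) := by rw [hg]; exact mono_comp _ _
  have : Mono g := (AlgSp.yon (Spec (CommRingCat.of k))).mono_of_mono_map hm
  have : Mono g.left := inferInstanceAs (Mono ((Over.forget _).map g))
  have hlft := Groth.Agent.AlgSpDec.locallyOfFiniteType_of_mono_discrete g.left
  have : LocallyQuasiFinite qW.left := h₁
  have : LocallyOfFiniteType qW.left := h₂
  have hgq : LocallyQuasiFinite g.left := inferInstance
  refine Groth.Agent.AlgSpLib.locP_of_chart (a := e.hom ≫ pullback.fst f.hom c) (h := g ≫ qW)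
    (Groth.Agent.AlgSpLib.repWith_comp (Groth.Agent.AlgSpLib.repWith_of_isIso _ e.hom)
      (Groth.Agent.AlgSpLib.repWith_fst f.hom hc))
    (Groth.Agent.AlgSpLib.repWith_comp (Groth.Agent.AlgSpLib.repWith_of_isIso _ e.hom)
      (Groth.Agent.AlgSpLib.repWith_fst f.hom hc')) hid ?_
    ⟨inferInstanceAs (LocallyQuasiFinite (g.left ≫ qW.left)), inferInstanceAs (LocallyOfFiniteType (g.left ≫ qW.left))⟩
  rw [Category.comp_id, Functor.map_comp, hg, Category.assoc, Category.assoc, hqW, pullback.condition_assoc]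
end Groth.Agent.S10484
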