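import Groth.Statements.S10485
import Groth.Agent.AlgSpDec.GenericQf

set_option backward.isDefEq.respectTransparency false
set_option backward.isDefEq.respectTransparency.types false
-- import your own Groth.Agent.* helpers here

set_option autoImplicit false
universe u
open CategoryTheory CategoryTheory.Limits AlgebraicGeometry Topology TopologicalSpace
open AlgSp

namespace Groth.Agent.S10485

/-- (4) ⇔ (5): let f : X ⟶ Y be a dominant morphism locally of finite type between integral algebraic
spaces over a scheme S, with generic points x and y. Then f is quasi-finite at x if and only if x is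
the only point of X mapping to y. -/
theorem result {S : Scheme.{u}} {X Y : AlgSp.Space S} (hXi : AlgSp.IsIntegralSp X.obj) (hYi : AlgSp.IsIntegralSp Y.obj)
    (f : X ⟶ Y) (hft : AlgSp.LocP @LocallyOfFiniteType f.hom) (hd : AlgSp.IsDominantMor f.hom)
    (x : AlgSp.Points X.obj) (hx : IsGenericPoint x (Set.univ : Set (AlgSp.Points X.obj)))
    (y : AlgSp.Points Y.obj) (hy : IsGenericPoint y (Set.univ : Set (AlgSp.Points Y.obj))) :
    AlgSp.HasAtMor (fun U _ h u => ∃ W : U.Opens, u ∈ W ∧ LocallyQuasiFinite (W.ι ≫ h) ∧ LocallyOfFiniteType (W.ι ≫ h)) f.hom x ↔ (∀ x' : AlgSp.Points X.obj, AlgSp.Points.map f.hom x' = y → x' = x) :=  by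
  open Groth.Agent.AlgSpDec.GenericQf in
  have hxy := map_generic Y.property hYi.2.1 hd hx hy
  rw [Groth.Agent.S10313.qfAt_iff hft]
  exact ⟨fun h x' hx' => unique_of_q0 X.property Y.property hYi.2.1 hft hx h x' (hx'.trans hxy.symm),
    fun h => q0_of_unique X.property Y.property hXi.2.1 hft hxy h⟩
end Groth.Agent.S10485
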