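import Groth.Statements.S11161
import Groth.Agent.H9Misc.ThickMain

set_option autoImplicit false
universe w w' v v' u u'
open CategoryTheory CategoryTheory.Limits
open CohDer

namespace Groth.Agent.S11161

/-- Let ι : A' ⥤ A be an exact fully faithful functor of abelian categories whose essential image is
closed under extensions, and suppose every object of A' admits a monomorphism into an object of A'
whose image in A is injective. Then every object Z of D(A) with H^i(Z) = 0 for i < a and all
cohomology objects in the essential image of ι is isomorphic to the image under D(A') ⥤ D(A) of a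
complex I of objects of A', zero in degrees < a, whose terms are injective in A. -/
theorem result {A' : Type u'} [Category.{v'} A'] [Abelian A'] [HasDerivedCategory.{w'} A']
    {A : Type u} [Category.{v} A] [Abelian A] [HasDerivedCategory.{w} A]
    (ι : A' ⥤ A) [ι.Additive] [PreservesFiniteLimits ι] [PreservesFiniteColimits ι] [ι.Full] [ι.Faithful]
    (hext : ∀ S : ShortComplex A, S.ShortExact → ι.essImage S.X₁ → ι.essImage S.X₃ → ι.essImage S.X₂)
    (hinj : ∀ X' : A', ∃ (Y' : A') (i : X' ⟶ Y'), Mono i ∧ Injective (ι.obj Y'))
    (Z : DerivedCategory A) (a : ℤ) [Z.IsGE a]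
    (hZ : ∀ i : ℤ, ι.essImage ((DerivedCategory.homologyFunctor A i).obj Z)) :
    ∃ (I : CochainComplex A' ℤ), I.IsStrictlyGE a ∧ (∀ n : ℤ, Injective (ι.obj (I.X n))) ∧
      Nonempty (ι.mapDerivedCategory.obj (DerivedCategory.Q.obj I) ≅ Z) := by
  exact Groth.Agent.H9Misc.ThickMain.exists_preimage ι hext hinj Z a hZ

end Groth.Agent.S11161
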