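import Groth.Statements.S11166
import Groth.Agent.S11160
import Groth.Agent.S11161
import Groth.Agent.H9Misc.QCohDerivedFun
import Groth.Agent.QCoh.Extension

set_option autoImplicit false
universe u
open CategoryTheory CategoryTheory.Limits AlgebraicGeometry
attribute [local instance] HasDerivedCategory.standard
open Coherent

namespace Groth.Agent.S11166

/-- For a locally Noetherian scheme X the natural functor D⁺(QCoh(X)) ⥤ D⁺_qc(O_X) is an equivalence:
granting that quasi-coherent modules form an abelian full subcategory of all O_X-modules with exact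
inclusion (instance hypotheses that always hold), the induced functor D(QCoh(X)) ⥤ D(O_X) is fully
faithful on cohomologically bounded below objects, and every object of D(O_X) with Hⁱ = 0 for i < a
and quasi-coherent cohomology sheaves is isomorphic to the image of an object of D(QCoh(X)) with Hⁱ
= 0 for i < a. -/
theorem result (X : Scheme.{u}) [IsLocallyNoetherian X]
    [ObjectProperty.ContainsZero (fun M : X.Modules => Coh.IsQCoh M)] [ObjectProperty.IsClosedUnderKernels (fun M : X.Modules => Coh.IsQCoh M)]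
    [ObjectProperty.IsClosedUnderCokernels (fun M : X.Modules => Coh.IsQCoh M)] [ObjectProperty.IsClosedUnderFiniteProducts (fun M : X.Modules => Coh.IsQCoh M)]
    [PreservesFiniteLimits (ObjectProperty.ι (fun M : X.Modules => Coh.IsQCoh M))] [PreservesFiniteColimits (ObjectProperty.ι (fun M : X.Modules => Coh.IsQCoh M))] :
    (∀ (M N : DerivedCategory (ObjectProperty.FullSubcategory (fun M : X.Modules => Coh.IsQCoh M))) (a b : ℤ), M.IsGE a → N.IsGE b →
        Function.Bijective (fun f : M ⟶ N => (ObjectProperty.ι (fun M : X.Modules => Coh.IsQCoh M)).mapDerivedCategory.map f)) ∧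
      ∀ (K : DCoh.D X) (a : ℤ), K.IsGE a → DCoh.IsQCohD K →
        ∃ M : DerivedCategory (ObjectProperty.FullSubcategory (fun M : X.Modules => Coh.IsQCoh M)), M.IsGE a ∧
          Nonempty ((ObjectProperty.ι (fun M : X.Modules => Coh.IsQCoh M)).mapDerivedCategory.obj M ≅ K) := by
  let P : ObjectProperty X.Modules := fun M => Coh.IsQCoh M
  have hess : ∀ {N : X.Modules}, (ObjectProperty.ι (fun M : X.Modules => Coh.IsQCoh M)).essImage N → Coh.IsQCoh N := by
    rintro N ⟨M', ⟨e⟩⟩
    exact (Groth.Agent.QCoh.isQCoh_iff_iso e).1 M'.2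
  have hext : ∀ S : ShortComplex X.Modules, S.ShortExact →
      (ObjectProperty.ι (fun M : X.Modules => Coh.IsQCoh M)).essImage S.X₁ →
      (ObjectProperty.ι (fun M : X.Modules => Coh.IsQCoh M)).essImage S.X₃ →
      (ObjectProperty.ι (fun M : X.Modules => Coh.IsQCoh M)).essImage S.X₂ := fun S hS h1 h3 =>
    ⟨⟨S.X₂, Groth.Agent.QCoh.isQCoh_X₂ hS (hess h1) (hess h3)⟩, ⟨Iso.refl _⟩⟩
  have hinj : ∀ X' : ObjectProperty.FullSubcategory (fun M : X.Modules => Coh.IsQCoh M),
      ∃ (Y' : ObjectProperty.FullSubcategory (fun M : X.Modules => Coh.IsQCoh M)) (i : X' ⟶ Y'),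
        Mono i ∧ Injective ((ObjectProperty.ι (fun M : X.Modules => Coh.IsQCoh M)).obj Y') := fun X' => by
    obtain ⟨I, m, hm, hI, hq, -⟩ := Groth.Agent.H9Misc.QCohDerivedFun.exists_emb X'.1 X'.2
    refine ⟨⟨I, hq⟩, ObjectProperty.homMk m, ?_, hI⟩
    haveI : Mono ((ObjectProperty.ι (fun M : X.Modules => Coh.IsQCoh M)).map
        (ObjectProperty.homMk m : X' ⟶ ⟨I, hq⟩)) := hm
    exact (ObjectProperty.ι (fun M : X.Modules => Coh.IsQCoh M)).mono_of_mono_map inferInstance
  refine ⟨fun M N a b hM hN => ?_, fun K a hK hKq => ?_⟩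
  · haveI := hM
    haveI := hN
    exact Groth.Agent.S11160.result _ hext hinj M N a b
  · haveI := hK
    obtain ⟨I, hI, -, ⟨e⟩⟩ := Groth.Agent.S11161.result _ hext hinj K a
      (fun i => ⟨⟨_, hKq i⟩, ⟨Iso.refl _⟩⟩)
    exact ⟨DerivedCategory.Q.obj I, inferInstance, ⟨e⟩⟩

end Groth.Agent.S11166
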