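import Groth.Statements.S7262
import Groth.Agent.KExact.MinusTransfer
import Groth.Agent.KExact.CohLift
import Groth.Agent.KFlatLib.Scheme.CohD
import Groth.Agent.QCohAb.Basic
-- import your own Groth.Agent.* helpers here

set_option autoImplicit false
set_option linter.style.haveILetI false
set_option backward.isDefEq.respectTransparency false
set_option backward.isDefEq.respectTransparency.types false

universe u
open CategoryTheory CategoryTheory.Limits AlgebraicGeometry
attribute [local instance] HasDerivedCategory.standard
open Perf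

attribute [-instance] CategoryTheory.catToReflQuiver Int.instConditionallyCompleteLinearOrder

namespace Groth.Agent.S7262

/-- Let X be a Noetherian scheme. Granting that quasi-coherent O_X-modules, and coherent O_X-modules,
each contain zero and are closed under kernels, cokernels and finite products in all O_X-modules
(true facts carried as instance hypotheses; they make QCoh(O_X) and Coh(O_X) abelian categories) and
that the inclusion Coh(O_X) ⥤ QCoh(O_X) is exact, the induced functor D(Coh(O_X)) ⥤ D(QCoh(O_X))
restricts to an equivalence from D⁻(Coh(O_X)) onto the bounded above objects of D(QCoh(O_X)) with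
coherent cohomology: it is fully faithful on bounded above objects, and every bounded above object
of D(QCoh(O_X)) all of whose cohomology objects are coherent is in its essential image, as the image
of a bounded above object. -/
theorem result (X : Scheme.{u}) [IsNoetherian X]
    [ObjectProperty.ContainsZero (fun M : X.Modules => Coh.IsQCoh M)] [ObjectProperty.IsClosedUnderKernels (fun M : X.Modules => Coh.IsQCoh M)]
    [ObjectProperty.IsClosedUnderCokernels (fun M : X.Modules => Coh.IsQCoh M)] [ObjectProperty.IsClosedUnderFiniteProducts (fun M : X.Modules => Coh.IsQCoh M)]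
    [ObjectProperty.ContainsZero (fun M : X.Modules => Coh.IsCoh M)] [ObjectProperty.IsClosedUnderKernels (fun M : X.Modules => Coh.IsCoh M)]
    [ObjectProperty.IsClosedUnderCokernels (fun M : X.Modules => Coh.IsCoh M)] [ObjectProperty.IsClosedUnderFiniteProducts (fun M : X.Modules => Coh.IsCoh M)]
    [PreservesFiniteLimits (ObjectProperty.lift (fun M : X.Modules => Coh.IsQCoh M) (ObjectProperty.ι (fun M : X.Modules => Coh.IsCoh M)) (fun M => M.property.1))]
    [PreservesFiniteColimits (ObjectProperty.lift (fun M : X.Modules => Coh.IsQCoh M) (ObjectProperty.ι (fun M : X.Modules => Coh.IsCoh M)) (fun M => M.property.1))] :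
    (∀ (M N : DerivedCategory (ObjectProperty.FullSubcategory (fun M : X.Modules => Coh.IsCoh M))) (b : ℤ), M.IsLE b → N.IsLE b →
      Function.Bijective (fun φ : M ⟶ N => (ObjectProperty.lift (fun M : X.Modules => Coh.IsQCoh M) (ObjectProperty.ι (fun M : X.Modules => Coh.IsCoh M)) (fun M => M.property.1)).mapDerivedCategory.map φ)) ∧
    ∀ (K : DerivedCategory (ObjectProperty.FullSubcategory (fun M : X.Modules => Coh.IsQCoh M))) (b : ℤ), K.IsLE b →
      (∀ i : ℤ, Coh.IsCoh ((DerivedCategory.homologyFunctor (ObjectProperty.FullSubcategory (fun M : X.Modules => Coh.IsQCoh M)) i).obj K).obj) →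
      ∃ M : DerivedCategory (ObjectProperty.FullSubcategory (fun M : X.Modules => Coh.IsCoh M)), M.IsLE b ∧
        Nonempty ((ObjectProperty.lift (fun M : X.Modules => Coh.IsQCoh M) (ObjectProperty.ι (fun M : X.Modules => Coh.IsCoh M)) (fun M => M.property.1)).mapDerivedCategory.obj M ≅ K) := by
  haveI : (ObjectProperty.ι (fun M : X.Modules => Coh.IsQCoh M)).Full := inferInstance
  haveI : PreservesFiniteLimits (ObjectProperty.ι (fun M : X.Modules => Coh.IsQCoh M)) :=
    Groth.Agent.QCohAb.preservesFiniteLimits_ι X
  haveI : PreservesFiniteColimits (ObjectProperty.ι (fun M : X.Modules => Coh.IsQCoh M)) :=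
    Groth.Agent.QCohAb.preservesFiniteColimits_ι X
  let incl := ObjectProperty.ι (fun M : X.Modules => Coh.IsQCoh M)
  let F := ObjectProperty.lift (fun M : X.Modules => Coh.IsQCoh M) (ObjectProperty.ι (fun M : X.Modules => Coh.IsCoh M)) (fun M => M.property.1)
  have hess : ∀ N : ObjectProperty.FullSubcategory (fun M : X.Modules => Coh.IsQCoh M), F.essImage N ↔ Coh.IsCoh N.obj := by
    refine fun N => ⟨fun h => ?_, fun h => ⟨⟨N.obj, h⟩, ⟨Iso.refl _⟩⟩⟩
    obtain ⟨M, ⟨e⟩⟩ := h
    haveI : Mono (incl.map e.inv) := inferInstance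
    exact Groth.Agent.QCoh.isCoh_of_mono (incl.map e.inv) M.property N.property
  haveI : F.essImage.ContainsZero := by
    obtain ⟨Z, hZ, hZ'⟩ := ObjectProperty.exists_prop_of_containsZero (fun M : X.Modules => Coh.IsCoh M)
    exact ⟨⟨⟨Z, hZ'.1⟩, (IsZero.of_full_of_faithful_of_isZero incl _ hZ), (hess _).2 hZ'⟩⟩
  haveI : F.essImage.IsClosedUnderSubobjects := ⟨fun {A B} f _ hB => (hess A).2 (by
    haveI : Mono (incl.map f) := inferInstance
    exact Groth.Agent.QCoh.isCoh_of_mono (incl.map f) ((hess B).1 hB) A.property)⟩
  haveI : F.essImage.IsClosedUnderQuotients := ⟨fun {A B} f _ hA => (hess B).2 (by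
    haveI : Epi (incl.map f) := inferInstance
    exact Groth.Agent.QCoh.isCoh_of_epi (incl.map f) ((hess A).1 hA) B.property)⟩
  haveI : F.essImage.IsClosedUnderExtensions := ⟨fun {S} hS h₁ h₃ => (hess _).2
    (Groth.Agent.KFlatLib.isCoh_of_shortExact (hS.map_of_exact incl) ((hess _).1 h₁) ((hess _).1 h₃))⟩
  haveI : F.essImage.IsSerreClass := { }
  haveI : F.Additive := inferInstance
  have h := Groth.Agent.KExact.MinusTransfer.main F (fun A B π hπ hB => by
    haveI : Epi (incl.map π) := inferInstance
    obtain ⟨M', i, hi, hM', he⟩ := Groth.Agent.KExact.CohLift.exists_coh_sub_epi A.property ((hess B).1 hB) (incl.map π)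
    refine ⟨⟨M', hM'.1⟩, ObjectProperty.homMk i, ?_, (hess _).2 hM', ?_⟩
    · haveI : Mono (incl.map (ObjectProperty.homMk i : (⟨M', hM'.1⟩ : ObjectProperty.FullSubcategory _) ⟶ A)) := hi
      exact incl.mono_of_mono_map inferInstance
    · haveI : Epi (incl.map ((ObjectProperty.homMk i : (⟨M', hM'.1⟩ : ObjectProperty.FullSubcategory _) ⟶ A) ≫ π)) := he
      exact incl.epi_of_epi_map inferInstance)
  exact ⟨h.1, fun K b hK hH => h.2 K b hK fun n => (hess _).2 (hH n)⟩
end Groth.Agent.S7262
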