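import Groth.Statements.S1049
import Groth.Agent.S7262
import Groth.Agent.S11166
import Groth.Agent.KExact.MinusTransfer
import Groth.Agent.QCohAb.Basic
-- import your own Groth.Agent.* helpers here

set_option autoImplicit false
set_option linter.style.haveILetI false
set_option backward.isDefEq.respectTransparency false
set_option backward.isDefEq.respectTransparency.types false

universe u
open CategoryTheory CategoryTheory.Limits AlgebraicGeometry
attribute [local instance] HasDerivedCategory.standard
open Perf

attribute [-instance] CategoryTheory.catToReflQuiver Int.instConditionallyCompleteLinearOrder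

namespace Groth.Agent.S1049

/-- Let X be a Noetherian scheme. Granting that coherent modules contain zero and are closed under
kernels, cokernels and finite products in all O_X-modules, with exact inclusion (true on a
Noetherian scheme, carried as instance hypotheses; they make Coh(O_X) an abelian category), the
induced functor D(Coh(O_X)) ⥤ D(O_X) is fully faithful on bounded objects, and a bounded object of
D(O_X) with coherent cohomology sheaves is isomorphic to the image of a bounded object of
D(Coh(O_X)). -/
theorem result (X : Scheme.{u}) [IsNoetherian X]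
    [ObjectProperty.ContainsZero (fun M : X.Modules => Coh.IsCoh M)] [ObjectProperty.IsClosedUnderKernels (fun M : X.Modules => Coh.IsCoh M)]
    [ObjectProperty.IsClosedUnderCokernels (fun M : X.Modules => Coh.IsCoh M)] [ObjectProperty.IsClosedUnderFiniteProducts (fun M : X.Modules => Coh.IsCoh M)]
    [PreservesFiniteLimits (ObjectProperty.ι (fun M : X.Modules => Coh.IsCoh M))] [PreservesFiniteColimits (ObjectProperty.ι (fun M : X.Modules => Coh.IsCoh M))] :
    (∀ (M N : DerivedCategory (ObjectProperty.FullSubcategory (fun M : X.Modules => Coh.IsCoh M))) (a b : ℤ), M.IsGE a → M.IsLE b → N.IsGE a → N.IsLE b →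
      Function.Bijective (fun φ : M ⟶ N => (ObjectProperty.ι (fun M : X.Modules => Coh.IsCoh M)).mapDerivedCategory.map φ)) ∧
    ∀ (K : DCoh.D X) (a b : ℤ), K.IsGE a → K.IsLE b → DCoh.IsCohD K →
      ∃ M : DerivedCategory (ObjectProperty.FullSubcategory (fun M : X.Modules => Coh.IsCoh M)), M.IsGE a ∧ M.IsLE b ∧
        Nonempty ((ObjectProperty.ι (fun M : X.Modules => Coh.IsCoh M)).mapDerivedCategory.obj M ≅ K) := by
  haveI : PreservesFiniteLimits (ObjectProperty.ι (fun M : X.Modules => Coh.IsQCoh M)) :=
    Groth.Agent.QCohAb.preservesFiniteLimits_ι X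
  haveI : PreservesFiniteColimits (ObjectProperty.ι (fun M : X.Modules => Coh.IsQCoh M)) :=
    Groth.Agent.QCohAb.preservesFiniteColimits_ι X
  haveI : ObjectProperty.ContainsZero (fun M : X.Modules => Coh.IsQCoh M) :=
    inferInstanceAs (QCohCat.isQCoh X).ContainsZero
  haveI : ObjectProperty.IsClosedUnderKernels (fun M : X.Modules => Coh.IsQCoh M) :=
    inferInstanceAs (QCohCat.isQCoh X).IsClosedUnderKernels
  haveI : ObjectProperty.IsClosedUnderCokernels (fun M : X.Modules => Coh.IsQCoh M) :=
    inferInstanceAs (QCohCat.isQCoh X).IsClosedUnderCokernels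
  haveI : ObjectProperty.IsClosedUnderFiniteProducts (fun M : X.Modules => Coh.IsQCoh M) :=
    inferInstanceAs (QCohCat.isQCoh X).IsClosedUnderFiniteProducts
  let P := ObjectProperty.ι (fun M : X.Modules => Coh.IsQCoh M)
  let C := ObjectProperty.ι (fun M : X.Modules => Coh.IsCoh M)
  let F := ObjectProperty.lift (fun M : X.Modules => Coh.IsQCoh M) C (fun M => M.property.1)
  haveI : F.Additive := ⟨fun {a b f g} => ObjectProperty.hom_ext _ rfl⟩
  haveI : PreservesFiniteLimits (F ⋙ P) := inferInstanceAs (PreservesFiniteLimits C)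
  haveI : PreservesFiniteColimits (F ⋙ P) := inferInstanceAs (PreservesFiniteColimits C)
  haveI : PreservesFiniteLimits F := preservesFiniteLimits_of_reflects_of_preserves F P
  haveI : PreservesFiniteColimits F := preservesFiniteColimits_of_reflects_of_preserves F P
  obtain ⟨h7, h7'⟩ := Groth.Agent.S7262.result X
  obtain ⟨h6, h6'⟩ := Groth.Agent.S11166.result X
  obtain ⟨c⟩ := Groth.Agent.KExact.MinusTransfer.nonempty_comp_iso F P C (ObjectProperty.liftCompιIso _ _ _)
  have hGE : ∀ {A B : Type (u + 1)} [Category.{u} A] [Category.{u} B] [Abelian A] [Abelian B] (G : A ⥤ B) [G.Additive]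
      [PreservesFiniteLimits G] [PreservesFiniteColimits G] [G.Full] [G.Faithful] (M : DerivedCategory A) (a : ℤ),
      M.IsGE a ↔ (G.mapDerivedCategory.obj M).IsGE a := by
    intro A B _ _ _ _ G _ _ _ _ _ M a
    rw [DerivedCategory.isGE_iff, DerivedCategory.isGE_iff]
    refine forall₂_congr fun i _ => ?_
    exact ⟨fun h => (G.map_isZero h).of_iso ((Groth.Agent.KFlatLib.mapDCHomologyIso G i).app M),
      fun h => IsZero.of_full_of_faithful_of_isZero G _ (h.of_iso ((Groth.Agent.KFlatLib.mapDCHomologyIso G i).app M).symm)⟩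
  refine ⟨fun M N a b hMa hMb hNa hNb => ?_, fun K a b ha hb hK => ?_⟩
  · have b1 := h7 M N b hMb hNb
    have b2 := h6 (F.mapDerivedCategory.obj M) (F.mapDerivedCategory.obj N) a a ((hGE F M a).1 hMa) ((hGE F N a).1 hNa)
    have e : (fun φ : M ⟶ N => C.mapDerivedCategory.map φ) =
        (fun t => c.inv.app M ≫ t ≫ c.hom.app N) ∘ (fun t => P.mapDerivedCategory.map t) ∘
          (fun φ => F.mapDerivedCategory.map φ) := by
      funext φ
      exact ((Iso.inv_comp_eq (c.app M)).2 (c.hom.naturality φ)).symm
    rw [e]
    exact (Iso.homCongr (c.app M) (c.app N)).bijective.comp (b2.comp b1)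
  · obtain ⟨M₁, hM₁, ⟨e₁⟩⟩ := h6' K a ha fun i => (hK i).1
    have hM₁b : M₁.IsLE b := Groth.Agent.KExact.MinusTransfer.isLE_of_map (F := P) M₁ b (by
      rw [DerivedCategory.isLE_iff]
      exact fun i hi => ((DerivedCategory.isLE_iff _ _).1 hb i hi).of_iso
        ((DerivedCategory.homologyFunctor X.Modules i).mapIso e₁))
    obtain ⟨M, hM, ⟨e⟩⟩ := h7' M₁ b hM₁b fun i => by
      let e' := ((Groth.Agent.KFlatLib.mapDCHomologyIso P i).app M₁).symm ≪≫
        (DerivedCategory.homologyFunctor X.Modules i).mapIso e₁
      haveI : Mono e'.hom := inferInstance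
      exact Groth.Agent.QCoh.isCoh_of_mono e'.hom (hK i) ((DerivedCategory.homologyFunctor _ i).obj M₁).property
    refine ⟨M, (hGE F M a).2 ?_, hM, ⟨(c.app M).symm ≪≫ P.mapDerivedCategory.mapIso e ≪≫ e₁⟩⟩
    rw [DerivedCategory.isGE_iff]
    exact fun i hi => ((DerivedCategory.isGE_iff _ _).1 hM₁ i hi).of_iso
      ((DerivedCategory.homologyFunctor _ i).mapIso e)
end Groth.Agent.S1049
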