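import Groth.Statements.S10490
import Groth.Agent.SmoothSecLib.Basic
import Groth.Agent.AlgSpLib.EtLocalInst
import Groth.Agent.AlgSpLib.Points

set_option backward.isDefEq.respectTransparency false
set_option backward.isDefEq.respectTransparency.types false
-- import your own Groth.Agent.* helpers here

set_option autoImplicit false
universe u
open CategoryTheory CategoryTheory.Limits AlgebraicGeometry Topology TopologicalSpace
open AlgSp

namespace Groth.Agent.S10490

/-- Let k be a field and X an algebraic space smooth over k. Then the points of X which are images of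
morphisms Spec k' ⟶ X over k with k' a finite separable extension of k form a dense subset of |X|. -/
theorem result (k : Type u) [Field k] (X : AlgSp.Space (Spec (CommRingCat.of k))) (p : X.obj ⟶ (AlgSp.yon (Spec (CommRingCat.of k))).obj (Over.mk (𝟙 _))) (hp : AlgSp.LocP @Smooth p) :
    Dense {x : AlgSp.Points X.obj | ∃ (k' : Type u) (_ : Field k') (_ : Algebra k k'),
      Module.Finite k k' ∧ Algebra.IsSeparable k k' ∧
        ∃ v : X.obj.obj.obj (Opposite.op (Over.mk (Spec.map (CommRingCat.ofHom (algebraMap k k'))))),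
          AlgSp.Points.mk ⟨k', Spec.map (CommRingCat.ofHom (algebraMap k k')), v⟩ = x} :=  by
  obtain ⟨U, a, ha, ha'⟩ := X.property.atlas
  let S₀ := Spec (CommRingCat.of k)
  let V : Over S₀ := Over.mk (𝟙 S₀)
  obtain ⟨h, hh⟩ := (AlgSp.yon S₀).map_surjective (a ≫ p)
  have hleft : h.left = U.hom := by simpa [V] using Over.w h
  have hsm : Smooth U.hom := hleft ▸ hp a (𝟙 _) h ha (AlgSpLib.repWith_of_isIso _ _)
    (by rw [hh, Category.comp_id])
  refine dense_iff_inter_open.2 fun O hO hne => ?_
  obtain ⟨y, hy⟩ := hne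
  obtain ⟨x, hx⟩ := AlgSpLib.surjective_ofPt ha' y
  let O' : U.left.Opens := ⟨AlgSp.Points.ofPt a ⁻¹' O, (AlgSpLib.isOpen_iff_chart ha ha').1 hO⟩
  obtain ⟨k', _, _, hfin, hsep, t, ht, htO⟩ := SmoothSecLib.exists_separable_point U.hom O'
    (x := x) (show AlgSp.Points.ofPt a x ∈ O from hx ▸ hy)
  let m : (Over.mk (Spec.map (CommRingCat.ofHom (algebraMap k k'))) : Over S₀) ⟶ U := Over.homMk t ht
  let Φ := (AlgSp.yon S₀).map m ≫ a
  refine ⟨AlgSp.Points.ofPt Φ (IsLocalRing.closedPoint k'), ?_, k', inferInstance, inferInstance,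
    hfin, hsep, (AlgSp.J _).uliftYonedaEquiv Φ, ?_⟩
  · rw [AlgSpLib.ofPt_comp]
    exact htO
  · rw [AlgSpLib.mk_eq_ofPt]
    congr 1
    exact (AlgSp.J _).uliftYonedaEquiv.symm_apply_apply Φ
end Groth.Agent.S10490
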