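import Groth.Statements.S10491
import Groth.Agent.AlgSpLib.Points
import Groth.Agent.AlgSpLib.EtLocalInst

set_option backward.isDefEq.respectTransparency false
set_option backward.isDefEq.respectTransparency.types false
-- import your own Groth.Agent.* helpers here

set_option autoImplicit false
universe u
open CategoryTheory CategoryTheory.Limits AlgebraicGeometry Topology TopologicalSpace
open AlgSp Groth.Agent.AlgSpLib

namespace Groth.Agent.S10491

/-- Let X be an algebraic space over a scheme S which is locally Noetherian, and T ⊂ |X| a closed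
subset. Then every point of |X| has a neighbourhood meeting only finitely many irreducible
components of T. -/
theorem result {S : Scheme.{u}} (X : AlgSp.Space S)
    (hX : AlgSp.IsLocNoethSp X.obj) (T : Set (AlgSp.Points X.obj)) (hT : IsClosed T) :
    LocallyFinite (fun Z : ↥(irreducibleComponents ↥T) => ((↑) : ↥T → AlgSp.Points X.obj) '' (Z : Set ↥T)) :=  by
  classical
  obtain ⟨U, p, hp, hps, hN⟩ := hX
  have : IsLocallyNoetherian U.left := hN
  intro x
  obtain ⟨u, rfl⟩ := surjective_ofPt hps x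
  obtain ⟨D, hD, huD, -⟩ := exists_isAffineOpen_mem_and_subset (U := (⊤ : U.left.Opens)) (x := u) trivial
  have : IsNoetherianRing Γ(U.left, D) := IsLocallyNoetherian.component_noetherian ⟨D, hD⟩
  have : NoetherianSpace ↥D := noetherianSpace_of_isAffineOpen D hD
  let φ : ↥D → Points X.obj := fun z => Points.ofPt p z.1
  have hφc : Continuous φ := (Points.continuous_ofPt p).comp continuous_subtype_val
  have hφo : IsOpenMap φ := (isOpenMap_ofPt hp).comp D.isOpen.isOpenMap_subtype_val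
  obtain ⟨F, hF, hFc, hFi, hFU⟩ := NoetherianSpace.exists_finite_set_isClosed_irreducible (hT.preimage hφc)
  refine ⟨Set.range φ, hφo.isOpen_range.mem_nhds ⟨⟨u, huD⟩, rfl⟩, ?_⟩
  have hfin : (F.image fun C => ((↑) : ↥T → Points X.obj) ⁻¹' closure (φ '' C)).Finite := hF.image _
  refine (hfin.preimage Subtype.val_injective.injOn).subset fun Z hZ => ?_
  obtain ⟨y, hyZ, hyW⟩ := hZ
  have hirr : IsIrreducible (((↑) : ↥T → Points X.obj) '' (Z : Set ↥T)) :=
    Z.2.1.image _ continuous_subtype_val.continuousOn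
  let s : Finset (Set (Points X.obj)) := insert (Set.range φ)ᶜ (hF.toFinset.image fun C => closure (φ '' C))
  have hs : ∀ z ∈ s, IsClosed z := by
    simp only [s, Finset.mem_insert, Finset.mem_image]
    rintro z (rfl | ⟨C, -, rfl⟩)
    · exact hφo.isOpen_range.isClosed_compl
    · exact isClosed_closure
  have hcov : ((↑) : ↥T → Points X.obj) '' (Z : Set ↥T) ⊆ ⋃₀ ↑s := by
    rintro _ ⟨t, htZ, rfl⟩
    by_cases h : (t : Points X.obj) ∈ Set.range φ
    · obtain ⟨z, hz⟩ := h
      have hzT : z ∈ φ ⁻¹' T := by rw [Set.mem_preimage, hz]; exact t.2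
      obtain ⟨C, hC, hzC⟩ := Set.mem_sUnion.1 (hFU ▸ hzT)
      exact ⟨closure (φ '' C), by simpa [s] using Or.inr ⟨C, hC, rfl⟩, subset_closure ⟨z, hzC, hz⟩⟩
    · exact ⟨(Set.range φ)ᶜ, by simp [s], h⟩
  obtain ⟨z, hz, hZz⟩ := (isIrreducible_iff_sUnion_isClosed.1 hirr) s hs hcov
  simp only [s, Finset.mem_insert, Finset.mem_image, Set.Finite.mem_toFinset] at hz
  rcases hz with rfl | ⟨C, hC, rfl⟩
  · exact absurd hyW (hZz hyZ)
  refine ⟨C, hC, ?_⟩
  have hsub : closure (φ '' C) ⊆ T := closure_minimal (by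
    rintro _ ⟨c, hc, rfl⟩
    exact (hFU ▸ Set.mem_sUnion.2 ⟨C, hC, hc⟩ : c ∈ φ ⁻¹' T)) hT
  have hCi : IsIrreducible (closure (φ '' C)) := ((hFi C hC).image φ hφc.continuousOn).closure
  have hi : IsIrreducible (((↑) : ↥T → Points X.obj) ⁻¹' closure (φ '' C)) := by
    refine ⟨?_, ?_⟩
    · obtain ⟨a, ha⟩ := hCi.1
      exact ⟨⟨a, hsub ha⟩, ha⟩
    · rintro _ _ ⟨a, ha, rfl⟩ ⟨b, hb, rfl⟩ ⟨t, ht, hta⟩ ⟨t', ht', htb⟩
      obtain ⟨w, hw, hwa, hwb⟩ := hCi.2 a b ha hb ⟨t.1, ht, hta⟩ ⟨t'.1, ht', htb⟩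
      exact ⟨⟨w, hsub hw⟩, hw, hwa, hwb⟩
  exact le_antisymm (Z.2.2 hi fun t ht => hZz ⟨t, ht, rfl⟩) fun t ht => hZz ⟨t, ht, rfl⟩
end Groth.Agent.S10491
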