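import Groth.Statements.S10492
import Groth.Agent.AlgSpDec.NormalIntegralNbhd
import Groth.Agent.AlgSpDec.Basic

set_option backward.isDefEq.respectTransparency false
set_option backward.isDefEq.respectTransparency.types false
-- import your own Groth.Agent.* helpers here

set_option autoImplicit false
set_option linter.style.haveILetI false
universe u
open CategoryTheory CategoryTheory.Limits AlgebraicGeometry Topology TopologicalSpace
open AlgSp

namespace Groth.Agent.S10492

/-- Let X be a normal integral algebraic space over a scheme S. Each point x of X lies in the image of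
some etale morphism U ⟶ X from an affine scheme U that is normal and integral. -/
theorem result {S : Scheme.{u}} (X : AlgSp.Space S)
    (hXi : AlgSp.IsIntegralSp X.obj)
    (hXn : AlgSp.EtaleLocally (fun U => ∀ u : ↥U, IsDomain ↥(U.presheaf.stalk u) ∧
      IsIntegrallyClosed ↥(U.presheaf.stalk u)) X.obj)
    (x : AlgSp.Points X.obj) :
    ∃ (U : Over S) (a : (AlgSp.yon S).obj U ⟶ X.obj), AlgSp.RepWith @Etale a ∧ IsAffine U.left ∧
      IsIntegral U.left ∧ IsIntegrallyClosed ↥Γ(U.left, ⊤) ∧ x ∈ Set.range (AlgSp.Points.ofPt a) :=  by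
  haveI := hXi.2.2
  haveI := AlgSpDec.quasiSober_points X.property hXi.2.1
  obtain ⟨η, hη⟩ : ∃ η : AlgSp.Points X.obj, IsGenericPoint η (Set.univ : Set (AlgSp.Points X.obj)) :=
    QuasiSober.sober ((irreducibleSpace_def _).1 inferInstance) isClosed_univ
  obtain ⟨U₀, p, hp, hp', hn⟩ := hXn
  obtain ⟨v₀, rfl⟩ := AlgSpLib.surjective_ofPt hp' x
  obtain ⟨W, ι, w, hW, hι, hw, ha⟩ := AlgSpDec.exists_affine_restrict hp v₀
  haveI := hW
  haveI := hι
  have tr : ∀ {A B : Scheme.{u}} (j : A ⟶ B) [IsOpenImmersion j], Pi1.IsNormalScheme B → Pi1.IsNormalScheme A := by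
    intro A B j _ h a
    obtain ⟨h₁, h₂⟩ := h (j a)
    haveI := h₁
    haveI := h₂
    exact ⟨(asIso (j.stalkMap a)).commRingCatIsoToRingEquiv.symm.toMulEquiv.isDomain _,
      IsIntegrallyClosed.of_equiv (asIso (j.stalkMap a)).commRingCatIsoToRingEquiv⟩
  have hWn : Pi1.IsNormalScheme W.left := tr ι.left hn
  obtain ⟨O, hO, hwO, hOi⟩ := AlgSpDec.exists_integral_nbhd
    (AlgSpDec.finite_genericPoints_chart hXi ha hη) (fun z => (hWn z).1) w
  let j : Over.mk (O.ι ≫ W.hom) ⟶ W := Over.homMk O.ι rfl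
  haveI : IsAffine O.toScheme := hO
  haveI := hOi
  have hcl : IsIntegrallyClosed ↥Γ(O.toScheme, ⊤) := by
    have key := (Groth.Agent.S9821.result O.toScheme).1 (tr O.ι hWn)
    exact @key ⊤ ⟨⟨⟨w, hwO⟩, trivial⟩⟩ (isAffineOpen_top _)
  refine ⟨Over.mk (O.ι ≫ W.hom), (AlgSp.yon S).map j ≫ (AlgSp.yon S).map ι ≫ p,
    AlgSpLib.repWith_comp ((AlgSp.repWith_yon_map_iff _ j).2 (inferInstanceAs (Etale O.ι))) ha,
    hO, hOi, hcl, (⟨w, hwO⟩ : ↥O), ?_⟩
  rw [AlgSpLib.ofPt_comp, AlgSpLib.ofPt_comp, ← hw]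
  rfl
end Groth.Agent.S10492
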