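import Groth.Statements.S10494
import Groth.Agent.AlgSpLib.WeakAssUnit
import Groth.Agent.AlgSpLib.Points
import Groth.Agent.AlgSpLib.Rep

set_option backward.isDefEq.respectTransparency false
set_option backward.isDefEq.respectTransparency.types false
-- import your own Groth.Agent.* helpers here

set_option autoImplicit false
universe u
open CategoryTheory CategoryTheory.Limits AlgebraicGeometry Topology TopologicalSpace
open AlgSp

namespace Groth.Agent.S10494

/-- Let X be an integral algebraic space over a scheme S. Then Γ(X, O_X) is a domain. -/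
theorem result {S : Scheme.{u}} (X : AlgSp.Space S)
    (hX : AlgSp.IsIntegralSp X.obj) : IsDomain ↥(AlgSp.gsectEt (AlgSp.OEt X.obj)) :=  by
  obtain ⟨hred, -, hirr⟩ := hX
  have key : ∀ s : ↥(AlgSp.gsectEt (AlgSp.OEt X.obj)), s ≠ 0 → ∃ (E : AlgSp.EtOver X.obj) (W : E.obj.left.left.Opens),
      ((limit.π (AlgSp.OEt X.obj).obj (Opposite.op E)).hom s).down ∈
        {g | W = E.obj.left.left.basicOpen g} ∧ (W : Set ↥E.obj.left.left).Nonempty := by
    intro s hs
    by_contra hcon
    push Not at hcon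
    refine hs (Concrete.limit_ext _ _ _ fun j => ?_)
    rw [map_zero]
    have : IsReduced j.unop.obj.left.left :=
      AlgSpLib.WeakAssUnit.isReduced_chart hred j.unop.obj.hom j.unop.property
    refine ULift.down_injective ?_
    refine (basicOpen_eq_bot_iff (X := j.unop.obj.left.left) _).1 ?_
    ext x
    exact iff_of_false (fun hx => (Set.eq_empty_iff_forall_notMem.1 (hcon j.unop _ rfl) x) hx) (fun hx => hx)
  obtain ⟨x₀⟩ := hirr.2
  obtain ⟨U, a, ha, has⟩ := X.property.atlas
  obtain ⟨u₀, -⟩ := AlgSpLib.surjective_ofPt has x₀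
  have : Nontrivial ↥(AlgSp.gsectEt (AlgSp.OEt X.obj)) := by
    refine ⟨⟨1, 0, fun h => ?_⟩⟩
    have h1 := congrArg (fun z => ((limit.π (AlgSp.OEt X.obj).obj (Opposite.op (AlgSp.EtOver.mk a ha))).hom z).down) h
    simp only [map_one, map_zero] at h1
    have h2 : (⊤ : U.left.Opens) = ⊥ := by
      rw [← Scheme.basicOpen_of_isUnit (X := U.left) (U := ⊤) (f := 1) isUnit_one]
      change U.left.basicOpen (1 : Γ(U.left, ⊤)) = ⊥
      rw [show (1 : Γ(U.left, ⊤)) = 0 from h1, Scheme.basicOpen_zero]
    exact (h2.le (TopologicalSpace.Opens.mem_top u₀) : u₀ ∈ (⊥ : U.left.Opens))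
  have : NoZeroDivisors ↥(AlgSp.gsectEt (AlgSp.OEt X.obj)) := by
    refine ⟨fun {s t} hst => ?_⟩
    by_contra hh
    push Not at hh
    obtain ⟨E, W, hW, w, hw⟩ := key s hh.1
    obtain ⟨E', W', hW', w', hw'⟩ := key t hh.2
    have hopen := AlgSpLib.isOpenMap_ofPt E.property _ W.isOpen
    have hopen' := AlgSpLib.isOpenMap_ofPt E'.property _ W'.isOpen
    have := hirr.toPreirreducibleSpace
    obtain ⟨x, -, ⟨v, hv, hvx⟩, ⟨v', hv', hvx'⟩⟩ := PreirreducibleSpace.isPreirreducible_univ _ _ hopen hopen'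
      ⟨_, trivial, w, hw, rfl⟩ ⟨_, trivial, w', hw', rfl⟩
    have sq := E.property.rep.isPullback' E'.obj.hom
    obtain ⟨r, hr, hr'⟩ := AlgSpLib.exists_ofPt_of_eq sq (hvx.trans hvx'.symm)
    let c := E.property.rep.snd E'.obj.hom
    let c' := E.property.rep.fst' E'.obj.hom
    have hc : AlgSp.RepWith @Etale ((AlgSp.yon S).map c) :=
      (AlgSp.repWith_yon_map_iff _ _).2 (E.property.property_snd E'.obj.hom)
    let R : AlgSp.EtOver X.obj := AlgSp.EtOver.mk ((AlgSp.yon S).map c ≫ E'.obj.hom)
      (AlgSpLib.repWith_comp hc E'.property)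
    let g' : R ⟶ E' := AlgSp.EtOver.homMk c rfl
    let g : R ⟶ E := AlgSp.EtOver.homMk c' sq.w
    have hs := congrArg (fun m => (m.hom s).down) (limit.w (AlgSp.OEt X.obj).obj g.op)
    have ht := congrArg (fun m => (m.hom t).down) (limit.w (AlgSp.OEt X.obj).obj g'.op)
    have h0 := congrArg (fun z => ((limit.π (AlgSp.OEt X.obj).obj (Opposite.op R)).hom z).down) hst
    simp only [map_mul, map_zero] at h0
    have h1 : r ∈ R.obj.left.left.basicOpen ((limit.π (AlgSp.OEt X.obj).obj (Opposite.op R)).hom s).down := by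
      rw [← hs]
      change r ∈ R.obj.left.left.basicOpen (c'.left.appTop _)
      refine (Scheme.preimage_basicOpen_top c'.left _).le ?_
      refine (show W = _ from hW).le ?_
      exact hr.symm ▸ hv
    have h2 : r ∈ R.obj.left.left.basicOpen ((limit.π (AlgSp.OEt X.obj).obj (Opposite.op R)).hom t).down := by
      rw [← ht]
      change r ∈ R.obj.left.left.basicOpen (c.left.appTop _)
      refine (Scheme.preimage_basicOpen_top c.left _).le ?_
      refine (show W' = _ from hW').le ?_
      exact hr'.symm ▸ hv'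
    have h3 : r ∈ R.obj.left.left.basicOpen (((limit.π (AlgSp.OEt X.obj).obj (Opposite.op R)).hom s).down *
        ((limit.π (AlgSp.OEt X.obj).obj (Opposite.op R)).hom t).down) := by
      rw [Scheme.basicOpen_mul]; exact ⟨h1, h2⟩
    rw [show ((limit.π (AlgSp.OEt X.obj).obj (Opposite.op R)).hom s).down *
        ((limit.π (AlgSp.OEt X.obj).obj (Opposite.op R)).hom t).down = 0 from h0, Scheme.basicOpen_zero] at h3
    exact h3
  exact NoZeroDivisors.to_isDomain _
end Groth.Agent.S10494
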