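import Groth.Statements.S10496
import Groth.Agent.AlgSpDec.RedInduced
import Groth.Agent.AlgSpPts.Imm
import Groth.Agent.AlgSpLib.Rep
import Groth.Agent.S10351

set_option backward.isDefEq.respectTransparency false
set_option backward.isDefEq.respectTransparency.types false
-- import your own Groth.Agent.* helpers here

set_option autoImplicit false
universe u
open CategoryTheory CategoryTheory.Limits AlgebraicGeometry Topology TopologicalSpace
open AlgSp

namespace Groth.Agent.S10496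

/-- Let X be a decent algebraic space over a scheme S. For every irreducible closed subset T of |X|
there is an integral closed subspace Z of X with |Z| = T. -/
theorem result {S : Scheme.{u}} (X : AlgSp.Space S)
    (hX : AlgSp.IsDecent X.obj) (T : Set (AlgSp.Points X.obj)) (hT : IsClosed T) (hTi : IsIrreducible T) :
    ∃ (Z : AlgSp.Space S) (i : Z ⟶ X), AlgSp.RepWith @IsClosedImmersion i.hom ∧ AlgSp.IsIntegralSp Z.obj ∧
      Set.range (AlgSp.Points.map i.hom) = T :=  by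
  obtain ⟨Z, j, hj, hr, hred⟩ := AlgSpDec.exists_reduced_induced X.property hT
  let i : Z ⟶ X := ObjectProperty.homMk j
  refine ⟨Z, i, hj, ⟨hred, S10351.result i hj.rep hX, ?_⟩, hr⟩
  have hemb := AlgSpPts.isEmbedding_map X.property
    (AlgSpLib.repWith_mono (Q := @IsImmersion) (fun _ _ g (_ : IsClosedImmersion g) => inferInstanceAs (IsImmersion g)) _ hj)
  have : Nonempty (AlgSp.Points Z.obj) := by
    obtain ⟨x, hx⟩ := hTi.1
    rw [← hr] at hx
    obtain ⟨z, -⟩ := hx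
    exact ⟨z⟩
  have : PreirreducibleSpace (AlgSp.Points Z.obj) := ⟨fun O₁ O₂ h₁ h₂ hne₁ hne₂ => by
    obtain ⟨O₁', hO₁', rfl⟩ := hemb.isInducing.isOpen_iff.1 h₁
    obtain ⟨O₂', hO₂', rfl⟩ := hemb.isInducing.isOpen_iff.1 h₂
    obtain ⟨z₁, -, hz₁⟩ := hne₁
    obtain ⟨z₂, -, hz₂⟩ := hne₂
    obtain ⟨x, hxT, hx₁, hx₂⟩ := hTi.2 O₁' O₂' hO₁' hO₂' ⟨_, hr ▸ ⟨z₁, rfl⟩, hz₁⟩ ⟨_, hr ▸ ⟨z₂, rfl⟩, hz₂⟩
    obtain ⟨z, rfl⟩ := hr.ge hxT
    exact ⟨z, trivial, hx₁, hx₂⟩⟩
  exact ⟨inferInstance⟩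
end Groth.Agent.S10496
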