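import Groth.Statements.S10497
import Groth.Agent.AlgSpDec.GeomRed
import Groth.Agent.AlgSpDec.DecentMor
import Groth.Agent.AlgSpPts.Descent

set_option backward.isDefEq.respectTransparency false
set_option backward.isDefEq.respectTransparency.types false
-- import your own Groth.Agent.* helpers here

set_option autoImplicit false
universe u
open CategoryTheory CategoryTheory.Limits AlgebraicGeometry Topology TopologicalSpace
open AlgSp

namespace Groth.Agent.S10497

/-- Let k be a field and X a decent algebraic space over k. Then all base changes X_K to field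
extensions K of k are integral exactly when X is geometrically reduced over k and every |X_K| is
irreducible. -/
theorem result (k : Type u) [Field k] (X : AlgSp.Space (Spec (CommRingCat.of k))) (hX : AlgSp.IsDecent X.obj) :
    (∀ (K : Type u) [Field K] [Algebra k K], AlgSp.IsIntegralSp (X.obj ⨯ (AlgSp.yon (Spec (CommRingCat.of k))).obj (Over.mk (Spec.map (CommRingCat.ofHom (algebraMap k K)))))) ↔
      (∀ x : AlgSp.Points X.obj, (∃ (U : Over (Spec (CommRingCat.of k))) (a : (AlgSp.yon (Spec (CommRingCat.of k))).obj U ⟶ X.obj) (u : ↥U.left),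
      AlgSp.RepWith @Etale a ∧ AlgSp.Points.ofPt a u = x ∧ FBase.IsGeomReducedAt U.hom u)) ∧
        ∀ (K : Type u) [Field K] [Algebra k K], IrreducibleSpace (AlgSp.Points (X.obj ⨯ (AlgSp.yon (Spec (CommRingCat.of k))).obj (Over.mk (Spec.map (CommRingCat.ofHom (algebraMap k K)))))) :=  by
  have hd : ∀ (K : Type u) [Field K] [Algebra k K], AlgSp.IsDecent
      (X.obj ⨯ (AlgSp.yon (Spec (CommRingCat.of k))).obj (Over.mk (Spec.map (CommRingCat.ofHom (algebraMap k K))))) := by
    intro K _ _
    have ht : IsTerminal ((AlgSp.yon (Spec (CommRingCat.of k))).obj (Over.mk (𝟙 (Spec (CommRingCat.of k))))) :=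
      AlgSpPts.isTerminalYon _
    exact AlgSpDec.isDecent_of_isPullback (IsPullback.of_is_product (prodIsProd _ _) ht)
      X.property (AlgSp.IsAlgSpace.yon_obj _) (AlgSp.IsAlgSpace.yon_obj _) hX (AlgSpDec.isDecent_yon _)
  obtain ⟨U, a, ha, hs⟩ := X.property.atlas
  constructor
  · intro h
    refine ⟨fun x => ?_, fun K _ _ => (h K).2.2⟩
    obtain ⟨u, rfl⟩ := AlgSpLib.surjective_ofPt hs x
    exact ⟨U, a, u, ha, rfl, AlgSpDec.GeomRed.geomReduced_of_perfect (AlgebraicClosure k) ha hs
      (h (AlgebraicClosure k)).1 u⟩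
  · rintro ⟨hg, hirr⟩ K _ _
    refine ⟨AlgSpDec.GeomRed.bc_isReduced_of_geomReduced K ha hs fun u => ?_, hd K, hirr K⟩
    obtain ⟨U', a', u', ha', he, h'⟩ := hg (AlgSp.Points.ofPt a u)
    exact AlgSpDec.GeomRed.isGeomReducedAt_of_charts ha' ha he h'
end Groth.Agent.S10497
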