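import Groth.Statements.S10499
import Groth.Agent.AlgSpDec.QfCodimOne
import Groth.Agent.AlgSpVal.DvrSep

set_option backward.isDefEq.respectTransparency false
set_option backward.isDefEq.respectTransparency.types false
-- import your own Groth.Agent.* helpers here

set_option autoImplicit false
universe u
open CategoryTheory CategoryTheory.Limits AlgebraicGeometry Topology TopologicalSpace
open AlgSp

namespace Groth.Agent.S10499

/-- Let f : X ⟶ Y be a proper morphism of algebraic spaces over a scheme S with Y locally Noetherian,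
and let y be a point of Y of codimension at most 1. If the points of |X| where f is quasi-finite
form a dense subset, then there is an open subspace Y' of Y containing y such that the base change
of f to Y' is finite. -/
theorem result {S : Scheme.{u}} {X Y : AlgSp.Space S} (f : X ⟶ Y)
    (hf : AlgSp.IsProperMor f.hom) (hY : AlgSp.IsLocNoethSp Y.obj) (y : AlgSp.Points Y.obj)
    (hy : AlgSp.HasAt (fun U u => ringKrullDim ↥(U.presheaf.stalk u) ≤ 1) Y.obj y)
    (h : Dense {x : AlgSp.Points X.obj | AlgSp.HasAtMor (fun U _ h u => ∃ W : U.Opens, u ∈ W ∧ LocallyQuasiFinite (W.ι ≫ h) ∧ LocallyOfFiniteType (W.ι ≫ h)) f.hom x}) :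
    ∃ (Y' : AlgSp.Space S) (j : Y' ⟶ Y), AlgSp.RepWith @IsOpenImmersion j.hom ∧
      y ∈ Set.range (AlgSp.Points.map j.hom) ∧
      ∀ (P : AlgSp.Space S) (fst : P ⟶ Y') (snd : P ⟶ X), IsPullback fst.hom snd.hom j.hom f.hom →
        AlgSp.IsFiniteMor fst.hom :=  by
  have hX := AlgSpVal.isLocNoethSp_of_lft X.property Y.property f.hom hf.2.1.1 hY
  obtain ⟨X', i, hi, -, -, hbc⟩ := Groth.Agent.S10313.result f hf.2.1.1
  have hq : {x : Points X.obj | HasAtMor (fun U _ h u => ∃ W : U.Opens, u ∈ W ∧ LocallyQuasiFinite (W.ι ≫ h) ∧ LocallyOfFiniteType (W.ι ≫ h)) f.hom x} = Set.range (Points.map i.hom) := by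
    ext x
    have := hbc Y X (𝟙 Y) (𝟙 X) f (IsPullback.id_horiz _) x
    rw [show (𝟙 X : X ⟶ X).hom = 𝟙 X.obj from rfl, Points.map_id] at this
    exact this.symm
  have hopen : IsOpen (Set.range (Points.map i.hom)) := (AlgSpPts.isOpenMap_map
    (AlgSpLib.repWith_mono (fun _ _ e (_ : IsOpenImmersion e) => (inferInstance : UniversallyOpen e)) _ hi)).isOpen_range
  rw [hq] at h
  obtain ⟨V, j, hj, hjy, H⟩ := AlgSpDec.FiniteNbhd.exists_open_finite f hf y
    (AlgSpDec.QfCodimOne.qfAt_of_codim_le_one f hf.2.1.1 hY y hy fun x hx => hq.ge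
      (AlgSpDec.QfCodimOne.mem_of_dense hopen h x hx fun U a ha => AlgSpDec.isLocallyNoetherian_chart ha hX))
  exact ⟨V, j, hj, hjy, fun P fst snd sq => H P snd fst sq.flip⟩
end Groth.Agent.S10499
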