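import Groth.Statements.S1050
import Groth.Agent.H9Misc.SerreMinus

set_option autoImplicit false
universe w w' v u
open CategoryTheory CategoryTheory.Limits
open CohDer

namespace Groth.Agent.S1050

/-- Let P be a Serre class in an abelian category A (so that the full subcategory on P is abelian; its
closure under kernels, cokernels, finite products and the exactness of the inclusion are carried as
instance hypotheses) such that for every epimorphism X ⟶ Y with P Y there is a subobject X' of X
with P X' mapping onto Y. Then the induced functor D(P) ⥤ D(A) is fully faithful on bounded above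
objects, and every bounded above object of D(A) all of whose cohomology objects satisfy P is in its
essential image from a bounded above object; that is, D⁻(P) ≃ D⁻_P(A). -/
theorem result {A : Type u} [Category.{v} A] [Abelian A] [HasDerivedCategory.{w} A]
    (P : ObjectProperty A) [P.IsSerreClass] [P.IsClosedUnderKernels] [P.IsClosedUnderCokernels]
    [P.IsClosedUnderFiniteProducts] [HasDerivedCategory.{w'} P.FullSubcategory]
    [PreservesFiniteLimits P.ι] [PreservesFiniteColimits P.ι]
    (hlift : ∀ (X Y : A) (π : X ⟶ Y), Epi π → P Y → ∃ (X' : A) (i : X' ⟶ X), Mono i ∧ P X' ∧ Epi (i ≫ π)) :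
    (∀ (M N : DerivedCategory P.FullSubcategory) (b : ℤ), M.IsLE b → N.IsLE b →
      Function.Bijective (fun φ : M ⟶ N => P.ι.mapDerivedCategory.map φ)) ∧
    ∀ (K : DerivedCategory A) (b : ℤ), K.IsLE b → (∀ n : ℤ, P ((DerivedCategory.homologyFunctor A n).obj K)) →
      ∃ M : DerivedCategory P.FullSubcategory, M.IsLE b ∧ Nonempty (P.ι.mapDerivedCategory.obj M ≅ K) := by
  exact ⟨fun M N b hM _ => Groth.Agent.H9Misc.SerreMinus.bijective P hlift M N b hM,
    fun K b hK hH => Groth.Agent.H9Misc.SerreMinus.exists_preimage P hlift K b hK hH⟩

end Groth.Agent.S1050
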