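import Groth.Statements.S10500
import Groth.Agent.AlgSpDec.FiniteNbhd
import Groth.Agent.AlgSpDec.Basic
import Groth.Agent.AlgSpDec.Fibres
import Groth.Agent.DimFormula.QuasiSection

set_option backward.isDefEq.respectTransparency false
set_option backward.isDefEq.respectTransparency.types false
-- import your own Groth.Agent.* helpers here

set_option autoImplicit false
universe u
open CategoryTheory CategoryTheory.Limits AlgebraicGeometry Topology TopologicalSpace
open AlgSp

namespace Groth.Agent.S10500

/-- Let X and Y be integral algebraic spaces over a scheme S with generic points x and y, and f : X ⟶ Y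
a morphism which is proper and dominant. Then f is an alteration (finite over some nonempty open
subspace of Y) if and only if x is the only point of X mapping to y. -/
theorem result {S : Scheme.{u}} {X Y : AlgSp.Space S}
    (hXi : AlgSp.IsIntegralSp X.obj) (hYi : AlgSp.IsIntegralSp Y.obj) (f : X ⟶ Y) (hp : AlgSp.IsProperMor f.hom)
    (hd : AlgSp.IsDominantMor f.hom)
    (x : AlgSp.Points X.obj) (hx : IsGenericPoint x (Set.univ : Set (AlgSp.Points X.obj)))
    (y : AlgSp.Points Y.obj) (hy : IsGenericPoint y (Set.univ : Set (AlgSp.Points Y.obj))) :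
    (∃ (V : AlgSp.Space S) (j : V ⟶ Y), AlgSp.RepWith @IsOpenImmersion j.hom ∧ Nonempty (AlgSp.Points V.obj) ∧
      ∀ (P : AlgSp.Space S) (fst : P ⟶ V) (snd : P ⟶ X), IsPullback fst.hom snd.hom j.hom f.hom →
        AlgSp.IsFiniteMor fst.hom) ↔ (∀ x' : AlgSp.Points X.obj, AlgSp.Points.map f.hom x' = y → x' = x) :=  by
  haveI : T0Space (Points Y.obj) := AlgSpDec.t0Space_points Y.property hYi.2.1
  have hl := hp.2.1.1
  have hfx : Points.map f.hom x = y := by
    refine IsGenericPoint.eq (hx.image (Points.continuous_map _)) ?_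
    have hden : closure (Points.map f.hom '' Set.univ) = Set.univ := by
      rw [Set.image_univ]; exact hd.closure_eq
    rwa [hden]
  constructor
  · rintro ⟨V, j, hj, hne, H⟩ x' hx'
    have hjo : IsOpen (Set.range (Points.map j.hom)) := (AlgSpPts.isOpenMap_map
      (AlgSpLib.repWith_mono (fun _ _ e (_ : IsOpenImmersion e) => (inferInstance : UniversallyOpen e)) _ hj)).isOpen_range
    obtain ⟨v, hv⟩ : y ∈ Set.range (Points.map j.hom) :=
      (hy.mem_open_set_iff hjo).2 (by rw [Set.univ_inter]; exact Set.range_nonempty _)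
    have sq : IsPullback (pullback.fst j.hom f.hom) (pullback.snd j.hom f.hom) j.hom f.hom :=
      IsPullback.of_hasPullback _ _
    let P : AlgSp.Space S := ⟨pullback j.hom f.hom,
      AlgSpLib.isAlgSpace_of_isPullback sq V.property X.property Y.property⟩
    have hfin : IsFiniteMor (pullback.fst j.hom f.hom) := H P (ObjectProperty.homMk (pullback.fst j.hom f.hom))
      (ObjectProperty.homMk (pullback.snd j.hom f.hom)) sq
    have hF := AlgSpDec.isFiniteMor_iff_repWith.1 hfin
    obtain ⟨z, -, hz⟩ := AlgSpLib.exists_point_of_isPullback sq (x := v) (y := x') (hv.trans hx'.symm)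
    obtain ⟨U, W, a, b, k, ha, ha', hb, -, w⟩ := AlgSpLib.exists_chart P.property V.property (pullback.fst j.hom f.hom)
    obtain ⟨u', rfl⟩ := AlgSpLib.surjective_ofPt ha' z
    have hq : (@LocallyQuasiFinite ⊓ @LocallyOfFiniteType : MorphismProperty Scheme.{u}) k.left :=
      AlgSpLib.locP_of_repWith (P := (@LocallyQuasiFinite ⊓ @LocallyOfFiniteType : MorphismProperty Scheme.{u})) (AlgSpLib.repWith_mono
      (fun _ _ e (_ : IsFinite e) => (⟨inferInstance, inferInstance⟩ :
        (@LocallyQuasiFinite ⊓ @LocallyOfFiniteType : MorphismProperty Scheme.{u}) e)) _ hF) a b k ha hb w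
    have hje : RepWith @Etale j.hom :=
      AlgSpLib.repWith_mono (fun _ _ e (_ : IsOpenImmersion e) => (inferInstance : Etale e)) _ hj
    let a₁ := a ≫ pullback.snd j.hom f.hom
    let b₁ := b ≫ j.hom
    have ha₁ : RepWith @Etale a₁ := AlgSpLib.repWith_comp ha (AlgSpLib.repWith_of_isPullback sq hje)
    have hb₁ : RepWith @Etale b₁ := AlgSpLib.repWith_comp hb hje
    have w₁ : a₁ ≫ f.hom = (yon S).map k ≫ b₁ := by
      rw [Category.assoc, ← sq.w, ← Category.assoc, w, Category.assoc]
    have hux : Points.ofPt a₁ u' = x' := by rw [← hz, Points.map_ofPt]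
    obtain ⟨u, hus, hu⟩ := AlgSpDec.exists_specializes_lift_of_isDecent hXi.2.1 ha₁ (u := u') (x' := x)
      (hx.specializes (Set.mem_univ _))
    have hk : k.left u' = k.left u := by
      refine AlgSpDec.eq_of_specializes_of_isDecent hYi.2.1 hb₁ ?_ (hus.map k.left.continuous)
      rw [← AlgSpLib.ofPt_comp, ← AlgSpLib.ofPt_comp, ← w₁, ← Points.map_ofPt a₁, ← Points.map_ofPt a₁, hu]
      rw [show Points.ofPt a₁ u' = x' from hux, hx', hfx]
    have : LocallyQuasiFinite k.left := hq.1
    haveI := (k.left.isDiscrete_preimage_singleton (k.left u)).to_subtype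
    have h1 : (⟨u, rfl⟩ : ↥(k.left ⁻¹' {k.left u})) = ⟨u', hk⟩ :=
      (specializes_iff_eq).1 (subtype_specializes_iff _ _ |>.2 hus)
    rw [← hux, ← hu]
    exact congrArg (Points.ofPt a₁) (congrArg Subtype.val h1).symm
  · intro h
    obtain ⟨V, j, hj, hjy, H⟩ := AlgSpDec.FiniteNbhd.exists_open_finite f hp y fun x' hx' => by
      obtain ⟨U, W, a, b, k, ha, ha', hb, -, w⟩ := AlgSpLib.exists_chart X.property Y.property f.hom
      obtain ⟨u, rfl⟩ := AlgSpLib.surjective_ofPt ha' x'
      haveI : LocallyOfFiniteType k.left := hl a b k ha hb w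
      refine (S10313.qfAt_iff hl _).2 ⟨U, W, a, b, k, u, ha, hb, w, rfl, ?_⟩
      refine (AlgSpDec.FieldFibre.fibreDimAt_eq_zero_iff_rd k.left u).2 fun z _ hkz =>
        DimFormula.rd_eq_zero_of_closed k.left fun t hkt hs => ?_
      have key : ∀ s, k.left s = k.left u → Points.ofPt a s = x := fun s hks => h _ (by
        rw [Points.map_ofPt, w, AlgSpLib.ofPt_comp, hks, ← AlgSpLib.ofPt_comp, ← w, ← Points.map_ofPt, hx'])
      exact AlgSpDec.eq_of_specializes_of_isDecent hXi.2.1 ha
        ((key t (hkt.trans hkz)).trans (key z hkz).symm) hs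
    obtain ⟨v, hv⟩ := hjy
    exact ⟨V, j, hj, ⟨v⟩, fun P fst snd sq => H P snd fst sq.flip⟩
end Groth.Agent.S10500
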