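import Groth.Statements.S10502
import Groth.Agent.AlgSpDec.GeomRed

set_option backward.isDefEq.respectTransparency false
set_option backward.isDefEq.respectTransparency.types false
-- import your own Groth.Agent.* helpers here

set_option autoImplicit false
universe u
open CategoryTheory CategoryTheory.Limits AlgebraicGeometry Topology TopologicalSpace
open AlgSp Groth.Agent.AlgSpDec

namespace Groth.Agent.S10502

/-- Let k be a field, X an algebraic space over k and K/k a field extension. Then X being geometrically
reduced over k is equivalent to its base change X_K being geometrically reduced over K. -/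
theorem result (k : Type u) [Field k] (X : AlgSp.Space (Spec (CommRingCat.of k))) (K : Type u) [Field K] [Algebra k K] :
    (∀ x : AlgSp.Points X.obj, (∃ (U : Over (Spec (CommRingCat.of k))) (a : (AlgSp.yon (Spec (CommRingCat.of k))).obj U ⟶ X.obj) (u : ↥U.left),
      AlgSp.RepWith @Etale a ∧ AlgSp.Points.ofPt a u = x ∧ FBase.IsGeomReducedAt U.hom u)) ↔
      ∀ x' : AlgSp.Points (X.obj ⨯ (AlgSp.yon (Spec (CommRingCat.of k))).obj (Over.mk (Spec.map (CommRingCat.ofHom (algebraMap k K))))), (∃ (U' : Over (Spec (CommRingCat.of k))) (a' : (AlgSp.yon (Spec (CommRingCat.of k))).obj U' ⟶ (X.obj ⨯ (AlgSp.yon (Spec (CommRingCat.of k))).obj (Over.mk (Spec.map (CommRingCat.ofHom (algebraMap k K))))))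
        (q : U' ⟶ Over.mk (Spec.map (CommRingCat.ofHom (algebraMap k K)))) (u' : ↥U'.left),
        AlgSp.RepWith @Etale a' ∧ a' ≫ Limits.prod.snd = (AlgSp.yon (Spec (CommRingCat.of k))).map q ∧
          AlgSp.Points.ofPt a' u' = x' ∧ FBase.IsGeomReducedAt q.left u') :=  by
  obtain ⟨U, a, ha, hs⟩ := X.property.atlas
  constructor
  · intro h x'
    obtain ⟨w, rfl, hw⟩ := GeomRed.exists_bc_point K hs x'
    exact (GeomRed.exists_chart_bc_iff K ha w).2 ((GeomRed.exists_chart_iff ha _).1 (h _))
  · intro h x
    obtain ⟨x', hx'⟩ := GeomRed.surjective_fst K x hs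
    obtain ⟨w, hw₁, hw⟩ := GeomRed.exists_bc_point K hs x'
    subst hw₁
    rw [hx'] at hw
    subst hw
    exact (GeomRed.exists_chart_iff ha _).2 ((GeomRed.exists_chart_bc_iff K ha w).1 (h _))
end Groth.Agent.S10502
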