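import Groth.Statements.S10509
import Groth.Agent.SmoothSecLib.Basic
import Groth.Agent.AlgSpLib.EtLocalInst

set_option backward.isDefEq.respectTransparency false
set_option backward.isDefEq.respectTransparency.types false
-- import your own Groth.Agent.* helpers here

set_option autoImplicit false
universe u
open CategoryTheory CategoryTheory.Limits AlgebraicGeometry
open AlgSp

namespace Groth.Agent.S10509

/-- A smooth covering of an algebraic space `X` over `S` by algebraic spaces can be refined by an etale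
covering of `X` by algebraic spaces: there is an etale covering `{U_j ⟶ X}` each member of which
factors through some member of the given smooth covering. -/
theorem result {S : Scheme.{u}} (X : AlgSp.Space S) {ι : Type u}
    (Xi : ι → AlgSp.Space S) (g : ∀ i, Xi i ⟶ X)
    (h : AlgSp.IsSmCover (fun i => (Xi i).obj) (fun i => (g i).hom)) :
    ∃ (κ : Type u) (U : κ → AlgSp.Space S) (c : ∀ j, U j ⟶ X),
      AlgSp.IsEtCover (fun j => (U j).obj) (fun j => (c j).hom) ∧
      ∀ j, ∃ (i : ι) (r : U j ⟶ Xi i), r ≫ g i = c j :=  by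
  obtain ⟨U₀, p₀, -, hp₀'⟩ := X.property.atlas
  have key : ∀ v : ↥U₀.left, ∃ (W : Over S) (c : (AlgSp.yon S).obj W ⟶ X.obj) (i : ι)
      (r : (AlgSp.yon S).obj W ⟶ (Xi i).obj) (w : ↥W.left),
      AlgSp.RepWith @Etale c ∧ r ≫ (g i).hom = c ∧ AlgSp.Points.ofPt c w = AlgSp.Points.ofPt p₀ v := by
    intro v
    obtain ⟨i, y, hy⟩ := h.2 (AlgSp.Points.ofPt p₀ v)
    obtain ⟨U, V, a, b, φ, ha, ha', hb, -, w⟩ := AlgSpLib.exists_chart (Xi i).property X.property (g i).hom
    have hsm : Smooth φ.left := h.1 i a b φ ha hb w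
    obtain ⟨u, hu⟩ := AlgSpLib.surjective_ofPt ha' y
    obtain ⟨S', e, s', -, he, hes, l, hl⟩ := SmoothSecLib.exists_etale_section_scheme φ.left u
    let W : Over S := Over.mk (e ≫ V.hom)
    let q : W ⟶ V := Over.homMk e rfl
    let L : W ⟶ U := Over.homMk l (by
      show l ≫ U.hom = e ≫ V.hom
      rw [← Over.w φ, ← Category.assoc, hl])
    have hLq : L ≫ φ = q := Over.OverMorphism.ext hl
    refine ⟨W, (AlgSp.yon S).map q ≫ b, i, (AlgSp.yon S).map L ≫ a, s',
      AlgSpLib.repWith_comp ((AlgSp.repWith_yon_map_iff _ _).2 he) hb, ?_, ?_⟩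
    · rw [Category.assoc, w, ← Category.assoc, ← Functor.map_comp, hLq]
    · rw [← hy, ← hu, AlgSpLib.ofPt_comp, AlgSp.Points.map_ofPt, w, AlgSpLib.ofPt_comp]
      exact congrArg _ hes
  choose W c i r w hc hr hw using key
  refine ⟨↥U₀.left, fun v => ⟨(AlgSp.yon S).obj (W v), AlgSp.IsAlgSpace.yon_obj _⟩,
    fun v => ObjectProperty.homMk (c v),
    ⟨fun v => AlgSpLib.isEtaleMor_of_repWith (hc v), fun x => ?_⟩,
    fun v => ⟨i v, ObjectProperty.homMk (r v), ObjectProperty.hom_ext _ (hr v)⟩⟩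
  obtain ⟨v, rfl⟩ := AlgSpLib.surjective_ofPt hp₀' x
  refine ⟨v, AlgSp.Points.ofPt (𝟙 _) (w v), ?_⟩
  rw [AlgSp.Points.map_ofPt, Category.id_comp]
  exact hw v
end Groth.Agent.S10509
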