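import Groth.Statements.S1051
import Groth.Agent.H9Misc.Postnikov

set_option autoImplicit false
universe v u
open CategoryTheory
open CohDer

namespace Groth.Agent.S1051

open CategoryTheory.Pretriangulated in
/-- Let X be a chain complex in a triangulated category D and n a natural number; consider the finite
complex Xₙ → Xₙ₋₁ → … → X₀. If every morphism Xᵢ[i - j - 2] ⟶ Xⱼ with j + 2 < i ≤ n vanishes, then
there is a Postnikov system for it: objects Yₖ (k ≤ n), an isomorphism Y₀ ⟶ X₀, and for each k < n a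
distinguished triangle Yₖ₊₁ ⟶ Xₖ₊₁ ⟶ Yₖ ⟶ Yₖ₊₁[1] such that Xₖ₊₁ ⟶ Yₖ ⟶ Xₖ is the differential of X. -/
theorem result {D : Type u} [Category.{v} D] [Preadditive D] [Limits.HasZeroObject D] [HasShift D ℤ]
    [∀ n : ℤ, (shiftFunctor D n).Additive] [Pretriangulated D] [IsTriangulated D]
    (X : ChainComplex D ℕ) (n : ℕ)
    (hX : ∀ i j : ℕ, j + 2 < i → i ≤ n → ∀ φ : (shiftFunctor D ((i : ℤ) - j - 2)).obj (X.X i) ⟶ X.X j, φ = 0) :
    ∃ (Y : ℕ → D) (a : ∀ k, Y k ⟶ X.X k) (b : ∀ k, X.X (k + 1) ⟶ Y k) (c : ∀ k, Y k ⟶ (shiftFunctor D (1 : ℤ)).obj (Y (k + 1))),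
      IsIso (a 0) ∧ ∀ k, k < n → Triangle.mk (a (k + 1)) (b k) (c k) ∈ distinguishedTriangles ∧ b k ≫ a k = X.d (k + 1) k := by
  exact Groth.Agent.H9Misc.exists_postnikov X n hX

end Groth.Agent.S1051
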