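import Groth.Statements.S10510
import Groth.Agent.AlgSpLib.Covers

set_option backward.isDefEq.respectTransparency false
set_option backward.isDefEq.respectTransparency.types false
-- import your own Groth.Agent.* helpers here

set_option autoImplicit false
universe u
open CategoryTheory CategoryTheory.Limits AlgebraicGeometry
open AlgSp

namespace Groth.Agent.S10510

/-- An fppf covering `{X_i ⟶ X}` of an algebraic space `X` over `S` by algebraic spaces is jointly
surjective as a family of maps of fppf sheaves: every `h_T ⟶ X` from a scheme `T` over `S` lifts,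
locally for the fppf topology on `T`, through members of the family. -/
theorem result {S : Scheme.{u}} (X : AlgSp.Space S) {ι : Type u}
    (Xi : ι → AlgSp.Space S) (g : ∀ i, Xi i ⟶ X)
    (h : AlgSp.IsFppfCover (fun i => (Xi i).obj) (fun i => (g i).hom))
    (T : Over S) (t : (AlgSp.yon S).obj T ⟶ X.obj) :
    ∃ (κ : Type u) (Tk : κ → Over S) (c : ∀ k, Tk k ⟶ T),
      Sieve.ofArrows Tk c ∈ AlgSp.J S T ∧
      ∀ k, ∃ (i : ι) (l : (AlgSp.yon S).obj (Tk k) ⟶ (Xi i).obj), l ≫ (g i).hom = (AlgSp.yon S).map (c k) ≫ t := Groth.Agent.AlgSpLib.exists_fppf_local_lift X.property (fun i => (Xi i).property) _ h T t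
end Groth.Agent.S10510
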