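import Groth.Statements.S10512
import Groth.Agent.AlgSpLib.EtOverBig

set_option backward.isDefEq.respectTransparency false
set_option backward.isDefEq.respectTransparency.types false

set_option autoImplicit false
universe u
open CategoryTheory CategoryTheory.Limits AlgebraicGeometry
open AlgSp

namespace Groth.Agent.S10512

/-- For a morphism `f : Y ⟶ X` of algebraic spaces over `S`, the functor from the small etale site of
`Y` (scheme objects) to the big etale site `(Spaces/X)_{etale}` sending `h_U ⟶ Y` to `h_U ⟶ Y ⟶ X`
is cocontinuous; for `f = 𝟙` this is the cocontinuity of the inclusion of the small etale site of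
`X` into its big etale site. (Stated for the small etale site with scheme objects, which defines the
same topos as the one with algebraic-space objects.) -/
theorem result {S : Scheme.{u}} {X Y : AlgSp.Space S} (f : Y ⟶ X) :
    (AlgSp.EtOver.toEtSpOver Y ⋙ ObjectProperty.ι (fun E : Over Y => AlgSp.IsEtaleMor E.hom.hom) ⋙
        Over.map f).IsCocontinuous (AlgSp.etTop Y.obj) (AlgSp.spacesTopOver AlgSp.IsEtaleMor X) :=
  Groth.Agent.AlgSpLib.EtOverBig.isCocontinuous f

end Groth.Agent.S10512
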