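import Groth.Statements.S7190
import Groth.Agent.FppfRefine.Ph

set_option autoImplicit false
set_option backward.isDefEq.respectTransparency.types false
universe w u
open FlatMor

namespace Groth.Agent.S7190

open AlgebraicGeometry CategoryTheory Limits in
/-- An fppf covering {T_i → T} of schemes (flat, locally of finite presentation, jointly surjective) is
a ph covering. -/
theorem result {T : Scheme.{u}} (E : PreZeroHypercover.{w} T)
    (hflat : ∀ i, Flat (E.f i)) (hfp : ∀ i, LocallyOfFinitePresentation (E.f i))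
    (hsurj : ∀ t : T, ∃ (i : E.I₀) (x : E.X i), E.f i x = t) : HTop.IsPhCover E := by
  haveI := hfp
  refine ⟨fun i => inferInstance, fun U => ?_⟩
  let B := Γ(T, (U : T.Opens))
  have hU : IsAffineOpen (U : T.Opens) := U.2
  haveI : IsAffine ((U : T.Opens) : Scheme.{u}) := U.2
  have hpick : ∀ p : PrimeSpectrum B, ∃ (i : E.I₀) (V : (E.X i).Opens) (hV : IsAffineOpen V)
      (e : V ≤ E.f i ⁻¹ᵁ (U : T.Opens)) (q : PrimeSpectrum Γ(E.X i, V)),
      PrimeSpectrum.comap ((E.f i).appLE (U : T.Opens) V e).hom q = p := fun p => by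
    have ht : hU.fromSpec p ∈ (U : T.Opens) := hU.range_fromSpec.le ⟨p, rfl⟩
    obtain ⟨i, x, hx⟩ := hsurj (hU.fromSpec p)
    obtain ⟨V, hV, hxV, hVle'⟩ :=
      exists_isAffineOpen_mem_and_subset (x := x) (U := E.f i ⁻¹ᵁ (U : T.Opens)) (by
        show E.f i x ∈ (U : T.Opens)
        rw [hx]; exact ht)
    have hVle : V ≤ E.f i ⁻¹ᵁ (U : T.Opens) := hVle'
    obtain ⟨q, hq⟩ := hV.range_fromSpec.ge hxV
    refine ⟨i, V, hV, hVle, q, hU.fromSpec.isOpenEmbedding.injective ?_⟩
    show (Spec.map ((E.f i).appLE (U : T.Opens) V hVle) ≫ hU.fromSpec).base q = _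
    rw [hU.SpecMap_appLE_fromSpec _ hV]
    exact (congrArg (E.f i).base hq).trans hx
  choose i V hV e q hq using hpick
  let B' : PrimeSpectrum B → Type u := fun p => Γ(E.X (i p), V p)
  letI : ∀ p, Algebra B (B' p) := fun p => ((E.f (i p)).appLE (U : T.Opens) (V p) (e p)).hom.toAlgebra
  obtain ⟨Q, _, _, hQfin, hQsurj, hQ⟩ := Groth.Agent.FppfRefine.exists_finite_cover_of_fppf (B := B) B'
    (fun p => HasRingHomProperty.appLE @Flat (E.f (i p)) (hflat (i p)) U ⟨V p, hV p⟩ (e p))
    (fun p => HasRingHomProperty.appLE @LocallyOfFinitePresentation (E.f (i p)) (hfp (i p)) U ⟨V p, hV p⟩ (e p))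
    (fun p => ⟨p, q p, hq p⟩)
  choose a ha k j hj using hQ
  haveI := hQfin
  have hspan : Ideal.span (Set.range a) = ⊤ := by
    by_contra hne
    obtain ⟨m, hm, hle⟩ := Ideal.exists_le_maximal _ hne
    exact ha ⟨m, hm.isPrime⟩ (hle (Ideal.subset_span ⟨_, rfl⟩))
  obtain ⟨t, hts, ht⟩ := Submodule.mem_span_finite_of_mem_span ((Ideal.eq_top_iff_one _).1 hspan)
  have htb : ∀ b : t, ∃ p, a p = (b : Q) := fun b => hts b.2
  choose pt hpt using htb
  let en := t.equivFin
  let c : Fin t.card → PrimeSpectrum Q := fun n => pt (en.symm n)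
  let g : Spec (CommRingCat.of Q) ⟶ ((U : T.Opens) : Scheme.{u}) :=
    Spec.map (CommRingCat.ofHom (algebraMap B Q)) ≫ hU.isoSpec.inv
  let op : ∀ n, Spec (CommRingCat.of (Localization.Away (a (c n)))) ⟶ Spec (CommRingCat.of Q) :=
    fun n => Spec.map (CommRingCat.ofHom (algebraMap Q (Localization.Away (a (c n)))))
  haveI : IsFinite (Spec.map (CommRingCat.ofHom (algebraMap B Q))) := by
    rw [IsFinite.SpecMap_iff, CommRingCat.hom_ofHom, RingHom.finite_algebraMap]
    infer_instance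
  haveI : Surjective (Spec.map (CommRingCat.ofHom (algebraMap B Q))) := ⟨hQsurj⟩
  refine ⟨⟨Fin t.card, fun n => Spec (CommRingCat.of (Localization.Away (a (c n)))), fun n => op n ≫ g⟩,
    ⟨inferInstance, inferInstanceAs (Finite (Fin _)), fun n => isAffine_Spec _, Spec (CommRingCat.of Q), g, op,
      inferInstance, inferInstance, fun n => inferInstanceAs (IsOpenImmersion (Spec.map _)), fun n => rfl,
      fun x => ?_⟩, fun n => ?_⟩
  · by_contra hx
    push_neg at hx
    refine x.2.ne_top ((Ideal.eq_top_iff_one _).2 ((Submodule.span_le (p := x.asIdeal)).2 (fun b hb => ?_) ht))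
    by_contra hbx
    refine hx (en ⟨b, hb⟩) ?_
    show x ∈ Set.range (PrimeSpectrum.comap (algebraMap Q (Localization.Away (a (c (en ⟨b, hb⟩))))))
    rw [PrimeSpectrum.localization_away_comap_range (Localization.Away (a (c (en ⟨b, hb⟩)))) (a (c (en ⟨b, hb⟩)))]
    show a (pt (en.symm (en ⟨b, hb⟩))) ∉ x.asIdeal
    rw [Equiv.symm_apply_apply, hpt]
    exact hbx
  · refine ⟨i (k (c n)), Spec.map (CommRingCat.ofHom (j (c n))) ≫ (hV (k (c n))).fromSpec, ?_⟩
    show (Spec.map (CommRingCat.ofHom (j (c n))) ≫ (hV (k (c n))).fromSpec) ≫ E.f (i (k (c n))) =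
      ((op n) ≫ Spec.map (CommRingCat.ofHom (algebraMap B Q)) ≫ hU.isoSpec.inv) ≫ (U : T.Opens).ι
    rw [Category.assoc, ← hU.SpecMap_appLE_fromSpec (E.f (i (k (c n)))) (hV (k (c n))) (e (k (c n))),
      Category.assoc, Category.assoc, IsAffineOpen.isoSpec_inv_ι, ← Spec.map_comp_assoc, ← Spec.map_comp_assoc]
    congr 2
    exact CommRingCat.hom_ext (hj (c n))

end Groth.Agent.S7190
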