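import Groth.Statements.S10514
import Groth.Agent.AlgSpLib.LocP
import Groth.Agent.AlgSpLib.EtLocalInst
import Groth.Agent.AlgSpLib.Points
import Groth.Agent.AlgSpLib.Rep
import Groth.Agent.S7190
import Groth.Agent.HTopCov.PhBind

set_option backward.isDefEq.respectTransparency false
set_option backward.isDefEq.respectTransparency.types false
-- import your own Groth.Agent.* helpers here

set_option autoImplicit false
universe u
open CategoryTheory CategoryTheory.Limits AlgebraicGeometry
open AlgSp

namespace Groth.Agent.S10514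

/-- An fppf covering of an algebraic space `X` over `S` by algebraic spaces is a ph covering of `X`: its
members are locally of finite type and every morphism from an affine scheme `Z` to `X` admits a
standard ph covering of `Z` whose members lift through members of the family. -/
theorem result {S : Scheme.{u}} (X : AlgSp.Space S) {ι : Type u}
    (Xi : ι → AlgSp.Space S) (g : ∀ i, Xi i ⟶ X)
    (h : AlgSp.IsFppfCover (fun i => (Xi i).obj) (fun i => (g i).hom)) :
    AlgSp.IsPhCover (fun i => (Xi i).obj) (fun i => (g i).hom) :=  by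
  refine ⟨fun i => ?_, fun Z hZ z => ?_⟩
  · exact Groth.Agent.AlgSpLib.locP_mono (fun _ _ f (hf : LocallyOfFinitePresentation f) => inferInstanceAs (LocallyOfFiniteType f)) (h.1 i).2
  choose W b hb hbs using fun i => (Groth.Agent.AlgSpLib.isAlgSpace_of_isPullback
    (IsPullback.of_hasPullback z (g i).hom) (AlgSp.IsAlgSpace.yon_obj Z) (Xi i).property X.property).atlas
  choose k hk using fun i => (AlgSp.yon S).map_surjective (b i ≫ pullback.fst z (g i).hom)
  have hP : ∀ (P : MorphismProperty Scheme.{u}) [Groth.Agent.AlgSpLib.IsEtLocal P], ∀ i,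
      AlgSp.LocP P (g i).hom → P (k i).left := fun P _ i hi => by
    have := Groth.Agent.AlgSpLib.locP_of_isPullback (IsPullback.of_hasPullback z (g i).hom).flip
      (Xi i).property X.property (AlgSp.IsAlgSpace.yon_obj Z) hi
    exact this (b i) (𝟙 _) (k i) (hb i) (AlgSp.repWith_id @Etale Z) (by rw [Category.comp_id, hk])
  let E : PreZeroHypercover.{u} Z.left := ⟨ι, fun i => (W i).left, fun i => (k i).left⟩
  have hE : HTop.IsPhCover E := by
    refine Groth.Agent.S7190.result E (fun i => hP @Flat i (h.1 i).1)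
      (fun i => hP @LocallyOfFinitePresentation i (h.1 i).2) fun t => ?_
    obtain ⟨i, x, hx⟩ := h.2 (AlgSp.Points.ofPt z t)
    obtain ⟨p, hp, -⟩ := Groth.Agent.AlgSpLib.exists_point_of_isPullback
      (IsPullback.of_hasPullback z (g i).hom) (x := AlgSp.Points.ofPt (𝟙 _) t) (y := x)
      (by rw [AlgSp.Points.map_ofPt, Category.id_comp, hx])
    obtain ⟨w, rfl⟩ := Groth.Agent.AlgSpLib.surjective_ofPt (hbs i) p
    refine ⟨i, w, ?_⟩
    have e := congrArg (AlgSp.Points.toScheme Z) hp
    rw [AlgSp.Points.map_ofPt, ← hk, ← (AlgSp.yon S).map_id, AlgSp.Points.toScheme_ofPt,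
      AlgSp.Points.toScheme_ofPt] at e
    simpa using e
  haveI : IsAffine Z.left := hZ
  obtain ⟨F, hF, hr⟩ := Groth.Agent.HTopCov.IsPhCover.exists_refine hE (𝟙 Z.left)
  refine ⟨F, hF, fun j => ?_⟩
  obtain ⟨i, m, hm⟩ := hr j
  let φ : Over.mk (F.f j) ⟶ Over.mk (k i).left := Over.homMk m (by simpa using hm)
  let m' : Over.mk (F.f j ≫ Z.hom) ⟶ W i := Over.homMk m (by
    have e : m ≫ (k i).left = F.f j := by simpa using hm
    calc m ≫ (W i).hom = m ≫ (k i).left ≫ Z.hom := by rw [Over.w]
      _ = F.f j ≫ Z.hom := by rw [← Category.assoc, e])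
  refine ⟨i, (AlgSp.yon S).map m' ≫ b i ≫ pullback.snd z (g i).hom, ?_⟩
  rw [Category.assoc, Category.assoc, ← pullback.condition, ← Category.assoc (b i), ← hk,
    ← Category.assoc, ← (AlgSp.yon S).map_comp]
  congr 2
  ext
  simpa [m'] using hm
end Groth.Agent.S10514
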