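import Groth.Statements.S10516
import Groth.Agent.AlgSpLib.LocP
import Groth.Agent.AlgSpLib.EtLocalInst

set_option backward.isDefEq.respectTransparency false
set_option backward.isDefEq.respectTransparency.types false
-- import your own Groth.Agent.* helpers here

set_option autoImplicit false
universe u
open CategoryTheory CategoryTheory.Limits AlgebraicGeometry
open AlgSp

namespace Groth.Agent.S10516

/-- The base change of a ph covering of an algebraic space `X` by algebraic spaces along a morphism of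
algebraic spaces `X' ⟶ X` is a ph covering of `X'`; the base changes `X' ×_X X_i ⟶ X'` are given as
pullback squares of sheaves whose corners `X'_i` are algebraic spaces. -/
theorem result {S : Scheme.{u}} {X X' : AlgSp.Space S} (a : X' ⟶ X) {ι : Type u}
    (Xi : ι → AlgSp.Space S) (g : ∀ i, Xi i ⟶ X) (Xi' : ι → AlgSp.Space S) (q : ∀ i, Xi' i ⟶ X')
    (p : ∀ i, Xi' i ⟶ Xi i) (sq : ∀ i, IsPullback (q i).hom (p i).hom a.hom (g i).hom)
    (h : AlgSp.IsPhCover (fun i => (Xi i).obj) (fun i => (g i).hom)) :
    AlgSp.IsPhCover (fun i => (Xi' i).obj) (fun i => (q i).hom) := by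
  refine ⟨fun i => Groth.Agent.AlgSpLib.locP_of_isPullback (sq i).flip (Xi i).property X.property X'.property (h.1 i),
    fun Z hZ z => ?_⟩
  obtain ⟨F, hF, hl⟩ := h.2 Z hZ (z ≫ a.hom)
  refine ⟨F, hF, fun j => ?_⟩
  obtain ⟨i, l, hl⟩ := hl j
  exact ⟨i, (sq i).lift ((AlgSp.yon S).map (Over.homMk (F.f j) rfl : Over.mk (F.f j ≫ Z.hom) ⟶ Z) ≫ z) l
    (by rw [Category.assoc]; exact hl.symm), (sq i).lift_fst _ _ _⟩
end Groth.Agent.S10516
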