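import Groth.Statements.S10517
import Groth.Agent.AlgSpLib.LocP
import Groth.Agent.AlgSpLib.EtLocalInst
import Groth.Agent.HTopCov.PhBind

set_option backward.isDefEq.respectTransparency false
set_option backward.isDefEq.respectTransparency.types false
-- import your own Groth.Agent.* helpers here

set_option autoImplicit false
universe u
open CategoryTheory CategoryTheory.Limits AlgebraicGeometry
open AlgSp

namespace Groth.Agent.S10517

/-- If `{X_i ⟶ X}` is a ph covering of the algebraic space `X` by algebraic spaces and each `X_i` has a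
ph covering `{X_ij ⟶ X_i}` by algebraic spaces, then the composites `X_ij ⟶ X_i ⟶ X`, indexed by the
pairs `(i, j)`, form a ph covering of `X`. -/
theorem result {S : Scheme.{u}} (X : AlgSp.Space S) {ι : Type u}
    (Xi : ι → AlgSp.Space S) (g : ∀ i, Xi i ⟶ X) (κ : ι → Type u) (Xij : ∀ i, κ i → AlgSp.Space S)
    (gij : ∀ i j, Xij i j ⟶ Xi i)
    (h : AlgSp.IsPhCover (fun i => (Xi i).obj) (fun i => (g i).hom))
    (hij : ∀ i, AlgSp.IsPhCover (fun j => (Xij i j).obj) (fun j => (gij i j).hom)) :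
    AlgSp.IsPhCover (fun r : Σ i, κ i => (Xij r.1 r.2).obj) (fun r => (gij r.1 r.2 ≫ g r.1).hom) :=  by
  refine ⟨fun r => Groth.Agent.AlgSpLib.locP_comp (Xij r.1 r.2).property (Xi r.1).property X.property
    ((hij r.1).1 r.2) (h.1 r.1), fun Z hZ z => ?_⟩
  obtain ⟨F, hF, hl⟩ := h.2 Z hZ z
  choose i l hl using hl
  choose G hG hl' using fun j => (hij (i j)).2 (Over.mk (F.f j ≫ Z.hom)) (hF.isAffine_obj j) (l j)
  choose i' l' hl' using hl'
  obtain ⟨F', hF', ⟨ψ⟩⟩ := Groth.Agent.HTopCov.exists_standardPh_bind F hF G hG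
  refine ⟨F', hF', fun a => ?_⟩
  let j := (ψ.s₀ a).1
  let b := (ψ.s₀ a).2
  let ψa : F'.X a ⟶ (G j).X b := ψ.h₀ a
  have hw : ψa ≫ (G j).f b ≫ F.f j = F'.f a := ψ.w₀ a
  let φ : Over.mk (F'.f a ≫ Z.hom) ⟶ Over.mk ((G j).f b ≫ (Over.mk (F.f j ≫ Z.hom)).hom) :=
    Over.homMk ψa (by simp [← hw])
  refine ⟨⟨i j, i' j b⟩, (AlgSp.yon S).map φ ≫ l' j b, ?_⟩
  change ((AlgSp.yon S).map φ ≫ l' j b) ≫ (gij (i j) (i' j b)).hom ≫ (g (i j)).hom = _
  rw [Category.assoc, ← Category.assoc (l' j b), hl' j b, Category.assoc, hl j,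
    ← Category.assoc, ← Category.assoc, ← (AlgSp.yon S).map_comp, ← (AlgSp.yon S).map_comp]
  congr 2
  ext
  simpa [φ] using hw
end Groth.Agent.S10517
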