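import Groth.Statements.S10523
import Groth.Agent.AlgSpLib.LocalBaseTop

set_option backward.isDefEq.respectTransparency false
set_option backward.isDefEq.respectTransparency.types false
-- import your own Groth.Agent.* helpers here

set_option autoImplicit false
universe u
open CategoryTheory CategoryTheory.Limits AlgebraicGeometry
open AlgSp

namespace Groth.Agent.S10523

/-- The property of morphisms of algebraic spaces over S given by f is universally submersive (every
base change along a morphism from an algebraic space is a quotient map on points) is fpqc local on
the base: for an fpqc covering of an algebraic space Y by algebraic spaces Y_i, a morphism f : X ⟶ Y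
of algebraic spaces and cartesian squares X_i = Y_i ×_Y X, f has the property if and only if every
X_i ⟶ Y_i has it. -/
theorem result (S : Scheme.{u}) :
    AlgSp.IsLocalOnBase (AlgSp.IsFpqcCover (S := S)) AlgSp.IsUnivSubmersiveMor := Groth.Agent.AlgSpLib.isLocalOnBase_univSp Groth.Agent.AlgSpLib.testOnCover_isQuotientMap
end Groth.Agent.S10523
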