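import Groth.Statements.S10527
import Groth.Agent.AlgSpLib.EtLocalInst
import Groth.Agent.AlgSpLib.LocalBase

set_option backward.isDefEq.respectTransparency false
set_option backward.isDefEq.respectTransparency.types false
-- import your own Groth.Agent.* helpers here

set_option autoImplicit false
universe u
open CategoryTheory CategoryTheory.Limits AlgebraicGeometry
open AlgSp

namespace Groth.Agent.S10527

/-- The property of morphisms of algebraic spaces over S given by f is locally of finite presentation
(on etale charts) is fpqc local on the base: for an fpqc covering of an algebraic space Y by
algebraic spaces Y_i, a morphism f : X ⟶ Y of algebraic spaces and cartesian squares X_i = Y_i ×_Y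
X, f has the property if and only if every X_i ⟶ Y_i has it. -/
theorem result (S : Scheme.{u}) :
    AlgSp.IsLocalOnBase (AlgSp.IsFpqcCover (S := S)) (AlgSp.LocP @LocallyOfFinitePresentation) :=
  Groth.Agent.AlgSpLib.isLocalOnBase_fpqc_locP

end Groth.Agent.S10527
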