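import Groth.Statements.S1053
import Groth.Agent.H9Misc.ProjVanish
import Mathlib

set_option autoImplicit false
universe w v u
open CategoryTheory CategoryTheory.Limits
open CohDer

namespace Groth.Agent.S1053

/-- Let P and K be cochain complexes in an abelian category with P bounded, consisting of projective
objects and zero in degrees below n, and with Hⁱ(K) = 0 for all i ≥ n. Then every morphism P ⟶ K in
the homotopy category and every morphism P ⟶ K in the derived category is zero. -/
theorem result {A : Type u} [Category.{v} A] [Abelian A] [HasDerivedCategory.{w} A]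
    (P K : CochainComplex A ℤ) (n b : ℤ) [P.IsStrictlyGE n] [P.IsStrictlyLE b] (hP : ∀ i : ℤ, Projective (P.X i))
    (hK : ∀ i : ℤ, n ≤ i → IsZero (K.homology i)) :
    (∀ φ : (HomotopyCategory.quotient A (ComplexShape.up ℤ)).obj P ⟶ (HomotopyCategory.quotient A (ComplexShape.up ℤ)).obj K, φ = 0) ∧
    (∀ φ : DerivedCategory.Q.obj P ⟶ DerivedCategory.Q.obj K, φ = 0) := by
  have h := Groth.Agent.H9Misc.ProjVanish.eq_zero_Kh P K n b hP hK
  refine ⟨h, fun φ => ?_⟩
  haveI := hP
  haveI := CochainComplex.isKProjective_of_projective P b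
  let e := DerivedCategory.quotientCompQhIso A
  obtain ⟨ψ, hψ⟩ := (CochainComplex.IsKProjective.Qh_map_bijective P
    ((HomotopyCategory.quotient A (ComplexShape.up ℤ)).obj K)).2 (e.hom.app P ≫ φ ≫ e.inv.app K)
  rw [h ψ, DerivedCategory.Qh.map_zero] at hψ
  rw [← cancel_epi (e.hom.app P), ← cancel_mono (e.inv.app K), Category.assoc, comp_zero, zero_comp]
  exact hψ.symm

end Groth.Agent.S1053
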