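import Groth.Statements.S10550
import Groth.Agent.AlgSpLib.LocalSourceInst
import Groth.Agent.SrcDescent.SchemeFppf

set_option backward.isDefEq.respectTransparency false
set_option backward.isDefEq.respectTransparency.types false
-- import your own Groth.Agent.* helpers here

set_option autoImplicit false
universe u
open CategoryTheory CategoryTheory.Limits AlgebraicGeometry
open AlgSp

namespace Groth.Agent.S10550

/-- The property of morphisms of algebraic spaces over S given by f is locally of finite type (on etale
charts) is fppf local on the source: for a morphism f : X ⟶ Y of algebraic spaces and a fppf
covering of X by algebraic spaces X_i, f has the property if and only if every composite X_i ⟶ X ⟶ Y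
has it. -/
theorem result (S : Scheme.{u}) :
    AlgSp.IsLocalOnSource (AlgSp.IsFppfCover (S := S)) (AlgSp.LocP @LocallyOfFiniteType) := Groth.Agent.AlgSpLib.isLocalOnSource_fppf _
end Groth.Agent.S10550
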