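import Groth.Statements.S10551
import Groth.Agent.AlgSpLib.OpenMor

set_option backward.isDefEq.respectTransparency false
set_option backward.isDefEq.respectTransparency.types false
-- import your own Groth.Agent.* helpers here

set_option autoImplicit false
universe u
open CategoryTheory CategoryTheory.Limits AlgebraicGeometry
open AlgSp

namespace Groth.Agent.S10551

/-- The property of morphisms of algebraic spaces over S given by f is open (the induced map on spaces
of points is open) is fppf local on the source: for a morphism f : X ⟶ Y of algebraic spaces and a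
fppf covering of X by algebraic spaces X_i, f has the property if and only if every composite X_i ⟶
X ⟶ Y has it. -/
theorem result (S : Scheme.{u}) :
    AlgSp.IsLocalOnSource (AlgSp.IsFppfCover (S := S)) AlgSp.IsOpenMor := by
  intro ι X Xi g hX hXi hg Y f hY
  refine ⟨fun hf i => ?_, fun h => ?_⟩
  · have := (Groth.Agent.AlgSpLib.isOpenMap_map_of_fppf (hXi i) hX (g i) (hg.1 i).1 (hg.1 i).2)
    show IsOpenMap (AlgSp.Points.map (g i ≫ f))
    rw [show AlgSp.Points.map (g i ≫ f) = AlgSp.Points.map f ∘ AlgSp.Points.map (g i) from
      funext (AlgSp.Points.map_comp _ _)]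
    exact IsOpenMap.comp hf this
  · refine Groth.Agent.AlgSpLib.isOpenMap_of_jointlySurjective (fun i => AlgSp.Points.map (g i))
      (fun i => AlgSp.Points.continuous_map (g i)) hg.2 _ fun i => ?_
    rw [← show AlgSp.Points.map (g i ≫ f) = AlgSp.Points.map f ∘ AlgSp.Points.map (g i) from
      funext (AlgSp.Points.map_comp _ _)]
    exact h i
end Groth.Agent.S10551
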