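import Groth.Statements.S10552
import Groth.Agent.AlgSpLib.OpenMor

set_option backward.isDefEq.respectTransparency false
set_option backward.isDefEq.respectTransparency.types false
-- import your own Groth.Agent.* helpers here

set_option autoImplicit false
universe u
open CategoryTheory CategoryTheory.Limits AlgebraicGeometry
open AlgSp

namespace Groth.Agent.S10552

/-- The property of morphisms of algebraic spaces over S given by f is universally open (every base
change along a morphism from an algebraic space is open on points) is fppf local on the source: for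
a morphism f : X ⟶ Y of algebraic spaces and a fppf covering of X by algebraic spaces X_i, f has the
property if and only if every composite X_i ⟶ X ⟶ Y has it. -/
theorem result (S : Scheme.{u}) :
    AlgSp.IsLocalOnSource (AlgSp.IsFppfCover (S := S)) AlgSp.IsUnivOpenMor := by
  intro ι X Xi g hX hXi hg Y f hY
  have key : ∀ ⦃Z Z' : AlgSp.Sp S⦄ (c : Z ⟶ Y) (fst : Z' ⟶ X) (snd : Z' ⟶ Z), AlgSp.IsAlgSpace Z →
      IsPullback fst snd f c → ∀ i,
      IsOpenMap (AlgSp.Points.map (pullback.snd (g i) fst)) := fun Z Z' c fst snd hZ sq i => by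
    have hZ' : AlgSp.IsAlgSpace Z' := Groth.Agent.AlgSpLib.isAlgSpace_of_isPullback sq hX hZ hY
    have sq' := IsPullback.of_hasPullback (g i) fst
    exact Groth.Agent.AlgSpLib.isOpenMap_map_of_fppf
      (Groth.Agent.AlgSpLib.isAlgSpace_pullback (hXi i) hZ' hX (g i) fst) hZ' _
      (Groth.Agent.AlgSpLib.locP_of_isPullback sq' (hXi i) hX hZ' (hg.1 i).1)
      (Groth.Agent.AlgSpLib.locP_of_isPullback sq' (hXi i) hX hZ' (hg.1 i).2)
  refine ⟨fun hf i Z Z'' hZ c fst snd sq => ?_, fun h Z Z' hZ c fst snd sq => ?_⟩
  · let sq₀ := IsPullback.of_hasPullback f c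
    let e := IsPullback.isoIsPullback _ _ sq ((IsPullback.of_hasPullback (g i) (pullback.fst f c)).paste_vert sq₀)
    show IsOpenMap (AlgSp.Points.map snd)
    have he : snd = e.hom ≫ pullback.snd (g i) (pullback.fst f c) ≫ pullback.snd f c :=
      (IsPullback.isoIsPullback_hom_snd _ _ _ _).symm
    rw [he, show AlgSp.Points.map (e.hom ≫ pullback.snd (g i) (pullback.fst f c) ≫ pullback.snd f c) =
      AlgSp.Points.map (pullback.snd f c) ∘ AlgSp.Points.map (pullback.snd (g i) (pullback.fst f c)) ∘
        AlgSp.Points.map e.hom from funext fun x => by simp [AlgSp.Points.map_comp]]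
    refine IsOpenMap.comp (hf hZ c _ _ sq₀) (IsOpenMap.comp (key c _ _ hZ sq₀ i) ?_)
    intro O hO
    have : AlgSp.Points.map e.hom '' O = AlgSp.Points.map e.inv ⁻¹' O := by
      ext y
      refine ⟨?_, fun hy => ⟨_, hy, by rw [← AlgSp.Points.map_comp, e.inv_hom_id, AlgSp.Points.map_id]⟩⟩
      rintro ⟨x, hx, rfl⟩
      show AlgSp.Points.map e.inv (AlgSp.Points.map e.hom x) ∈ O
      rwa [← AlgSp.Points.map_comp, e.hom_inv_id, AlgSp.Points.map_id]
    rw [this]
    exact hO.preimage (AlgSp.Points.continuous_map _)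
  · refine Groth.Agent.AlgSpLib.isOpenMap_of_jointlySurjective (fun i => AlgSp.Points.map (pullback.snd (g i) fst))
      (fun i => AlgSp.Points.continuous_map _) (fun z => ?_) _ fun i => ?_
    · obtain ⟨i, x, hx⟩ := hg.2 (AlgSp.Points.map fst z)
      obtain ⟨w, -, hw⟩ := Groth.Agent.AlgSpLib.exists_point_of_isPullback
        (IsPullback.of_hasPullback (g i) fst) hx
      exact ⟨i, w, hw⟩
    · rw [← show AlgSp.Points.map (pullback.snd (g i) fst ≫ snd) =
          AlgSp.Points.map snd ∘ AlgSp.Points.map (pullback.snd (g i) fst) from funext (AlgSp.Points.map_comp _ _)]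
      exact h i hZ c _ _ ((IsPullback.of_hasPullback (g i) fst).paste_vert sq)
end Groth.Agent.S10552
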