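import Groth.Statements.S10557
import Groth.Agent.AlgSpLib.LocSurjComp
import Groth.Agent.AlgSpPts.Sep

set_option backward.isDefEq.respectTransparency false
set_option backward.isDefEq.respectTransparency.types false
-- import your own Groth.Agent.* helpers here

set_option autoImplicit false
universe u
open CategoryTheory CategoryTheory.Limits AlgebraicGeometry
open AlgSp

namespace Groth.Agent.S10557

/-- Let g : X ⟶ Y and h : Y ⟶ Z be morphisms of algebraic spaces over S with g a surjection of fppf
sheaves (locally surjective for the fppf topology). For P one of flat, locally of finite type,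
locally of finite presentation (checked on etale charts): if the composite X ⟶ Z has P then h has P. -/
theorem result {S : Scheme.{u}} {X Y Z : AlgSp.Space S} (g : X ⟶ Y) (h : Y ⟶ Z)
    (hg : Sheaf.IsLocallySurjective g.hom) :
    (AlgSp.LocP @Flat (g ≫ h).hom → AlgSp.LocP @Flat h.hom) ∧
    (AlgSp.LocP @LocallyOfFiniteType (g ≫ h).hom → AlgSp.LocP @LocallyOfFiniteType h.hom) ∧
    (AlgSp.LocP @LocallyOfFinitePresentation (g ≫ h).hom →
      AlgSp.LocP @LocallyOfFinitePresentation h.hom) :=  by
  have hls : Sheaf.IsLocallySurjective g.hom := hg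
  refine ⟨fun H => ?_, fun H => ?_, fun H => ?_⟩
  · refine Groth.Agent.AlgSpLib.LocSurjComp.locP_of_comp X.property Y.property g.hom h.hom
      (fun k m p hf (_ : Flat (m ≫ k)) => ?_) H
    have : Flat (p ≫ m) := hf.1.2
    have : Surjective (p ≫ m) := hf.1.1
    exact Groth.Agent.AlgSpLib.LocSurjComp.flat_of_factor k m p
  · refine Groth.Agent.AlgSpLib.LocSurjComp.locP_of_comp X.property Y.property g.hom h.hom
      (fun k m p hf (_ : LocallyOfFiniteType (m ≫ k)) => ?_) H
    have : Surjective (p ≫ m) := hf.1.1
    have : Flat (p ≫ m) := hf.1.2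
    have hfp : LocallyOfFinitePresentation (p ≫ m) := hf.2
    have hm : LocallyOfFiniteType m := locallyOfFiniteType_of_comp m k
    have : LocallyOfFinitePresentation p :=
      Groth.Agent.AlgSpPts.locallyOfFinitePresentation_of_comp p m
    have : LocallyOfFiniteType ((p ≫ m) ≫ k) := by rw [Category.assoc]; infer_instance
    exact Groth.Agent.SrcDescent.locallyOfFiniteType_of_fppf_comp (p ≫ m) k
  · refine Groth.Agent.AlgSpLib.LocSurjComp.locP_of_comp X.property Y.property g.hom h.hom
      (fun k m p hf (_ : LocallyOfFinitePresentation (m ≫ k)) => ?_) H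
    have : Surjective (p ≫ m) := hf.1.1
    have : Flat (p ≫ m) := hf.1.2
    have hfp : LocallyOfFinitePresentation (p ≫ m) := hf.2
    have hm : LocallyOfFiniteType m := locallyOfFiniteType_of_comp m k
    have : LocallyOfFinitePresentation p :=
      Groth.Agent.AlgSpPts.locallyOfFinitePresentation_of_comp p m
    have : LocallyOfFinitePresentation ((p ≫ m) ≫ k) := by rw [Category.assoc]; infer_instance
    exact Groth.Agent.SrcDescent.locallyOfFinitePresentation_of_fppf_comp (p ≫ m) k
end Groth.Agent.S10557
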