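import Groth.Statements.S6196
import Groth.Agent.KExact.SpreadHom
-- import your own Groth.Agent.* helpers here

set_option autoImplicit false
set_option linter.style.haveILetI false
set_option backward.isDefEq.respectTransparency false
set_option backward.isDefEq.respectTransparency.types false

universe u
open CategoryTheory CategoryTheory.Limits AlgebraicGeometry
attribute [local instance] HasDerivedCategory.standard
open KSix

namespace Groth.Agent.S6196

open CategoryTheory.Limits AlgebraicGeometry
open Groth.Agent.KFlatLib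

set_option linter.style.haveILetI false
set_option backward.isDefEq.respectTransparency false
set_option backward.isDefEq.respectTransparency.types false


/-- Let X be a scheme, x ∈ X and P a perfect object of the derived category of the local ring of X at x.
Then there are an open neighbourhood U of x and a cochain complex F' of O_X-modules, perfect over U,
whose complex of stalks at x is isomorphic to P in that derived category. (The published statement
is for a point of a ringed topos; this row is the case of schemes, the complex being taken on all of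
X and asked to be perfect over U.) -/
theorem result {X : Scheme.{u}} (x : X) (P : Dual.D ((X.presheaf.stalk x) : Type u))
    (hP : DRing.IsPerfect ((X.presheaf.stalk x) : Type u) P) :
    ∃ (U : X.Opens) (F' : CochainComplex X.Modules ℤ), x ∈ U ∧
      DCoh.IsPerfect (DerivedCategory.Q.obj ((DCoh.restrictCx U).obj F')) ∧
      Nonempty (DRing.toD (((DerSch.stalkFunctor X x).mapHomologicalComplex (ComplexShape.up ℤ)).obj F') ≅ P) := by
  obtain ⟨E, a, b, hz, hp, ⟨eP⟩⟩ := hP
  let R := (X.presheaf.stalk x : Type u)
  haveI : ∀ i, Module.Free R (E.X i : Type u) := fun i => by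
    haveI := (hp i).1
    haveI := (hp i).2
    haveI : Module.Flat R (E.X i : Type u) := Module.Flat.of_projective
    exact Module.free_of_flat_of_isLocalRing
  haveI : ∀ i, Module.Finite R (E.X i : Type u) := fun i => (hp i).1
  let n : ℤ → ℕ := fun i => Module.finrank R (E.X i : Type u)
  let st := DerSch.stalkFunctor X x
  let M : ℤ → X.Modules := fun i => FlatMod.freeMod X (n i)
  let σ : ∀ i, st.obj (M i) ≅ E.X i := fun i =>
    (((eBasis x (n i)).repr).trans (Module.finBasis R (E.X i : Type u)).repr.symm).toModuleIso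
  have hn : ∀ i, i < a ∨ b < i → IsZero (M i) := fun i hi => by
    haveI := ModuleCat.subsingleton_of_isZero (hz i hi)
    have : n i = 0 := Module.finrank_zero_of_subsingleton
    change IsZero (FlatMod.freeMod X (n i))
    rw [this]
    exact isZero_freeMod_zero
  let dS : ∀ i, st.obj (M i) ⟶ st.obj (M (i + 1)) := fun i =>
    (σ i).hom ≫ E.d i (i + 1) ≫ (σ (i + 1)).inv
  obtain ⟨U, hU, hg⟩ := KExact.exists_nhd_forall (Finset.Icc a b) x
    (fun i W => ∀ hx : x ∈ W, ∃ g : (M i).restrict W.ι ⟶ (M (i + 1)).restrict W.ι,
      stalkAt hx g = dS i)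
    fun i _ => by
      obtain ⟨U, hU, h⟩ := KExact.exists_hom_of_stalk (Iso.refl (M i)) x (dS i)
      exact ⟨U, hU, fun W hW _ hx => h W hx hW⟩
  have hg' : ∀ i, ∃ g : (M i).restrict U.ι ⟶ (M (i + 1)).restrict U.ι, stalkAt hU g = dS i := fun i => by
    by_cases hi : i ∈ Finset.Icc a b
    · exact hg U le_rfl hU i hi hU
    · rw [Finset.mem_Icc] at hi
      exact ⟨0, (st.map_isZero (hn i (by omega))).eq_of_src _ _⟩
  choose g hg₀ using hg'
  obtain ⟨V, hV, hsq⟩ := KExact.exists_nhd_forall (Finset.Icc a b) x
    (fun i W => ∀ h : W ≤ U, resHom h (g i ≫ g (i + 1)) = 0) fun i _ => by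
      obtain ⟨V, hV, h⟩ := KExact.exists_resHom_zero (Iso.refl (M i)) hU (g i ≫ g (i + 1))
        (by rw [stalkAt_comp, hg₀, hg₀]; simp [dS])
      exact ⟨V, hV, fun W hW _ h' => h W h' hW⟩
  let W := U ⊓ V
  have hW : x ∈ W := ⟨hU, hV⟩
  let C : CochainComplex (W : Scheme.{u}).Modules ℤ :=
    CochainComplex.of (fun i => (M i).restrict W.ι) (fun i => resHom inf_le_left (g i)) fun i => by
      rw [← resHom_comp]
      by_cases hi : i ∈ Finset.Icc a b
      · exact hsq W inf_le_right hW i hi inf_le_left
      · rw [Finset.mem_Icc] at hi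
        exact ((Scheme.Modules.restrictFunctor W.ι).map_isZero (hn i (by omega))).eq_of_src _ _
  let T := Scheme.Modules.pushforward W.ι
  let F' := (T.mapHomologicalComplex (ComplexShape.up ℤ)).obj C
  have hsp : DCoh.IsStrictlyPerfect C :=
    ⟨⟨a, b, fun i hi => (Scheme.Modules.restrictFunctor W.ι).map_isZero (hn i hi)⟩, fun i =>
      H23.PullPush.isFinLocFree_of_iso ((Scheme.Modules.restrictFunctorIsoPullback W.ι).app _ ≪≫
        pullFreeIso _ _).symm (isFinLocFree_freeMod _)⟩
  let adj := Scheme.Modules.restrictAdjunction W.ι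
  haveI : ∀ i, IsIso (adj.counit.app (C.X i)) := fun i => inferInstance
  let eC : (DCoh.restrictCx W).obj F' ≅ C :=
    HomologicalComplex.Hom.isoOfComponents (fun i => asIso (adj.counit.app (C.X i)))
      fun i j _ => (adj.counit.naturality (C.d i j)).symm
  refine ⟨W, F', hW, (isPerfect_iff _).2 ((KExact.locSP_of_isStrictlyPerfect hsp).of_iso
    (DerivedCategory.Q.mapIso eC.symm)), ⟨DerivedCategory.Q.mapIso ?_ ≪≫ eP⟩⟩
  haveI : ∀ i, IsIso (st.map (unitW W (M i))) := fun i => isIso_stalk_unitW hW (M i)
  refine HomologicalComplex.Hom.isoOfComponents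
    (fun i => (asIso (st.map (unitW W (M i)))).symm ≪≫ σ i) fun i j hij => ?_
  obtain rfl : i + 1 = j := hij
  change (inv (st.map (unitW W (M i))) ≫ (σ i).hom) ≫ E.d i (i + 1) =
    st.map (T.map (C.d i (i + 1))) ≫ inv (st.map (unitW W (M (i + 1)))) ≫ (σ (i + 1)).hom
  rw [show C.d i (i + 1) = resHom inf_le_left (g i) from CochainComplex.of_d (fun i => (M i).restrict W.ι) (fun i => resHom (inf_le_left : W ≤ U) (g i)) i, Category.assoc,
    IsIso.inv_comp_eq, ← Category.assoc,
    ← st.map_comp]
  have h := stalkAt_spec hW (resHom inf_le_left (g i))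
  rw [KExact.stalkAt_resHom, hg₀] at h
  rw [← h]
  simp [dS]
end Groth.Agent.S6196
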