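import Groth.Statements.S1056
import Groth.Agent.KExact.SpreadHom
import Groth.Agent.KSixRel.AmpBaseChange
import Groth.Agent.S6196
import Groth.Agent.S6961
import Groth.Agent.KFlatLib.Scheme.LpullComp
-- import your own Groth.Agent.* helpers here

set_option autoImplicit false
set_option linter.style.haveILetI false
set_option backward.isDefEq.respectTransparency false
set_option backward.isDefEq.respectTransparency.types false

universe u
open CategoryTheory CategoryTheory.Limits AlgebraicGeometry Opposite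
attribute [local instance] HasDerivedCategory.standard
open Perf

namespace Groth.Agent.S1056

open CategoryTheory.Limits AlgebraicGeometry
open Groth.Agent.KFlatLib

set_option linter.style.haveILetI false
set_option backward.isDefEq.respectTransparency false
set_option backward.isDefEq.respectTransparency.types false

/-- An isomorphism of stalks passes to open subschemes. -/
lemma stalk_iso_open {X U : Scheme.{u}} (k : U ⟶ X) [IsOpenImmersion k]
    (E F : CochainComplex X.Modules ℤ) (v : U)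
    (h : Nonempty (DRing.toD ((stalkCx (k.base v)).obj E) ≅ DRing.toD ((stalkCx (k.base v)).obj F))) :
    Nonempty (DerivedCategory.Q.obj ((stalkCx v).obj ((rCx k).obj E)) ≅
      DerivedCategory.Q.obj ((stalkCx v).obj ((rCx k).obj F))) := by
  obtain ⟨e⟩ := h
  let φ := (k.stalkMap v).hom
  have hb : Function.Bijective φ := ConcreteCategory.bijective_of_isIso (k.stalkMap v)
  haveI := ModuleCat.preservesFiniteLimits_extendScalars_of_flat (RingHom.Flat.of_bijective hb)
  haveI : (ModuleCat.extendScalars.{u, u, u} φ).IsLeftAdjoint :=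
    (ModuleCat.extendRestrictScalarsAdj φ).isLeftAdjoint
  haveI : (ModuleCat.extendScalars.{u, u, u} φ).Additive :=
    (ModuleCat.extendRestrictScalarsAdj φ).left_adjoint_additive
  haveI : PreservesFiniteColimits (ModuleCat.extendScalars.{u, u, u} φ) := inferInstance
  let T := ModuleCat.extendScalars.{u, u, u} φ
  let s : ∀ G : CochainComplex X.Modules ℤ,
      DerivedCategory.Q.obj ((stalkCx v).obj ((rCx k).obj G)) ≅
        T.mapDerivedCategory.obj (DerivedCategory.Q.obj ((stalkCx (k.base v)).obj G)) := fun G =>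
    DerivedCategory.Q.mapIso ((stalkCx v).mapIso ((restrictPullCxIso k).app G) ≪≫
      stalkPullCxIso k v G) ≪≫ (T.mapDerivedCategoryFactors.app _).symm
  exact ⟨s E ≪≫ T.mapDerivedCategory.mapIso e ≪≫ (s F).symm⟩

/-- Acyclicity of the complex at a point. -/
def AcyclicAt {X : Scheme.{u}} (C : CochainComplex X.Modules ℤ) (y : X) : Prop :=
  ∀ i, IsZero ((DerSch.stalkFunctor X y).obj (C.homology i))

/-- Acyclicity at a point is detected after a flat pullback. -/
lemma acyclicAt_pullCx {Z W : Scheme.{u}} (g : Z ⟶ W) [Flat g] (C : CochainComplex W.Modules ℤ) (z : Z) :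
    AcyclicAt ((pullCx g).obj C) z ↔ AcyclicAt C (g.base z) := by
  let φ := (g.stalkMap z).hom
  have hflat : φ.Flat := Flat.stalkMap g z
  haveI := ModuleCat.preservesFiniteLimits_extendScalars_of_flat hflat
  haveI : (ModuleCat.extendScalars.{u, u, u} φ).IsLeftAdjoint :=
    (ModuleCat.extendRestrictScalarsAdj φ).isLeftAdjoint
  haveI : (ModuleCat.extendScalars.{u, u, u} φ).Additive :=
    (ModuleCat.extendRestrictScalarsAdj φ).left_adjoint_additive
  haveI : PreservesFiniteColimits (ModuleCat.extendScalars.{u, u, u} φ) := inferInstance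
  refine forall_congr' fun i => ?_
  let T := ModuleCat.extendScalars.{u, u, u} φ
  let S := DerSch.stalkFunctor W (g.base z)
  let e : (DerSch.stalkFunctor Z z).obj (((pullCx g).obj C).homology i) ≅ T.obj (S.obj (C.homology i)) :=
    ((((pullCx g).obj C).sc i).mapHomologyIso (DerSch.stalkFunctor Z z)).symm ≪≫
      (HomologicalComplex.homologyFunctor _ _ i).mapIso (stalkPullCxIso g z C) ≪≫
      (((stalkCx (g.base z)).obj C).sc i).mapHomologyIso T ≪≫
      T.mapIso ((C.sc i).mapHomologyIso S)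
  refine ⟨fun h => ?_, fun h => (T.map_isZero h).of_iso e⟩
  letI := φ.toAlgebra
  haveI : Module.Flat (W.presheaf.stalk (g.base z)) (Z.presheaf.stalk z) := hflat
  haveI : IsLocalHom (algebraMap (W.presheaf.stalk (g.base z)) (Z.presheaf.stalk z)) :=
    inferInstanceAs (IsLocalHom φ)
  haveI := Module.FaithfullyFlat.of_flat_of_isLocalHom
    (A := W.presheaf.stalk (g.base z)) (B := Z.presheaf.stalk z)
  haveI := ModuleCat.subsingleton_of_isZero (h.of_iso e.symm)
  haveI : Subsingleton (TensorProduct (W.presheaf.stalk (g.base z)) (Z.presheaf.stalk z)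
      (S.obj (C.homology i) : Type u)) := by assumption
  haveI : Subsingleton (S.obj (C.homology i) : Type u) :=
    (Module.FaithfullyFlat.subsingleton_tensorProduct_iff_right (W.presheaf.stalk (g.base z))
      (Z.presheaf.stalk z)).1 inferInstance
  exact ModuleCat.isZero_of_subsingleton _

/-- The acyclicity locus of a perfect complex is open. -/
lemma isOpen_acyclicAt {Z : Scheme.{u}} (C : CochainComplex Z.Modules ℤ) (h : LocSP (DCoh.toD Z C)) :
    IsOpen {z | AcyclicAt C z} := isOpen_iff_forall_mem_open.2 fun z hz => by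
  obtain ⟨U, j, _, ⟨v, rfl⟩, P, hP, ⟨e⟩⟩ := h z
  obtain ⟨a, b, hab⟩ := hP.1
  let e' : DerivedCategory.Q.obj P ≅ DerivedCategory.Q.obj ((rCx j).obj C) := e ≪≫ (rhoQ j).app C
  have hH : ∀ i, i < a ∨ b < i → IsZero (((rCx j).obj C).homology i) := fun i hi =>
    (ShortComplex.isZero_homology_of_isZero_X₂ _ (hab i hi)).of_iso
      (((DerivedCategory.homologyFunctorFactors U.Modules i).app _).symm ≪≫
        (DerivedCategory.homologyFunctor U.Modules i).mapIso e'.symm ≪≫
        (DerivedCategory.homologyFunctorFactors U.Modules i).app P)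
  have hr : ∀ (u : U) i, IsZero ((DerSch.stalkFunctor U u).obj (((rCx j).obj C).homology i)) ↔
      IsZero ((DerSch.stalkFunctor Z (j.base u)).obj (C.homology i)) := fun u i => by
    let q := (DerSch.stalkFunctor U u).mapIso ((C.sc i).mapHomologyIso (Scheme.Modules.restrictFunctor j))
    exact ⟨fun h => isZero_stalk_of_restrict j u (h.of_iso q.symm),
      fun h => (KExact.isZero_stalk_restrict j u h).of_iso q⟩
  obtain ⟨V, l, _, ⟨w, hw⟩, hV⟩ := KExact.exists_nhd_isZero_homology (b + 1 - a).toNat U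
    ((rCx j).obj C) a v
    (((LocSP.restrict' h j).of_iso ((rhoQ j).app C)).locPC a) (fun i hi => hH i (Or.inr (by omega)))
    fun i _ => (hr v i).2 (hz i)
  refine ⟨Set.range (l ≫ j).base, ?_, (l ≫ j).isOpenEmbedding.isOpen_range, ⟨w, by
    change j.base (l.base w) = _
    rw [hw]⟩⟩
  rintro _ ⟨t, rfl⟩ i
  refine (hr (l.base t) i).1 ?_
  by_cases hi : i < a
  · exact (DerSch.stalkFunctor U _).map_isZero (hH i (Or.inl hi))
  · exact isZero_stalk_of_restrict l t (((DerSch.stalkFunctor V t).map_isZero (hV i (by omega))).of_iso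
      ((DerSch.stalkFunctor V t).mapIso
        ((((rCx j).obj C).sc i).mapHomologyIso (Scheme.Modules.restrictFunctor l)).symm))

/-- The stalk of a complex whose flat pullback is perfect is perfect. -/
lemma perfect_stalk {X' X : Scheme.{u}} (f : X' ⟶ X) [Flat f] (x' : X') (R : CochainComplex X.Modules ℤ)
    (h : LocSP (DCoh.toD X' ((pullCx f).obj R))) :
    DRing.IsPerfect (X.presheaf.stalk (f.base x')) (DRing.toD ((stalkCx (f.base x')).obj R)) := by
  obtain ⟨U, j, _, ⟨v₀, rfl⟩, P, hP, ⟨e⟩⟩ := h x'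
  obtain ⟨a, b, hab⟩ := hP.1
  obtain ⟨W, hW, hfree⟩ := exists_free_nhd hab hP.2 v₀
  let w : W := ⟨v₀, hW⟩
  let k := W.ι ≫ j
  let g := k ≫ f
  let eW : DerivedCategory.Q.obj ((rCx W.ι).obj P) ≅
      DerivedCategory.Q.obj ((pullCx g).obj R) :=
    ((rhoQ W.ι).app P).symm ≪≫ (rho W.ι).mapIso e ≪≫ rhoComp W.ι j k rfl _ ≪≫
      (rhoQ k).app _ ≪≫ DerivedCategory.Q.mapIso ((restrictPullCxIso k).app _ ≪≫
        (pullCxCompIso k f).app R)
  let φ := (g.stalkMap w).hom
  have hflat : φ.Flat := Flat.stalkMap g w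
  letI := φ.toAlgebra
  haveI : Module.Flat (X.presheaf.stalk (g.base w)) ((W : Scheme.{u}).presheaf.stalk w) := hflat
  haveI : IsLocalHom (algebraMap (X.presheaf.stalk (g.base w)) ((W : Scheme.{u}).presheaf.stalk w)) :=
    inferInstanceAs (IsLocalHom φ)
  haveI := Module.FaithfullyFlat.of_flat_of_isLocalHom
    (A := X.presheaf.stalk (g.base w)) (B := (W : Scheme.{u}).presheaf.stalk w)
  refine Groth.Agent.S6961.result (R' := (W : Scheme.{u}).presheaf.stalk w) ((stalkCx (g.base w)).obj R) ?_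
  let st := DerSch.stalkFunctor (W : Scheme.{u}) w
  haveI := Functor.preservesFiniteLimits_of_preservesHomology st
  haveI := Functor.preservesFiniteColimits_of_preservesHomology st
  let E₀ : DRing.Cx ((W : Scheme.{u}).presheaf.stalk w) := (stalkCx w).obj ((rCx W.ι).obj P)
  have e₀ : DRing.toD E₀ ≅ DRing.toD
      (((ModuleCat.extendScalars (g.stalkMap w).hom).mapHomologicalComplex (ComplexShape.up ℤ)).obj
        ((stalkCx (g.base w)).obj R)) :=
    (st.mapDerivedCategoryFactors.app ((rCx W.ι).obj P)).symm ≪≫ st.mapDerivedCategory.mapIso eW ≪≫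
      st.mapDerivedCategoryFactors.app _ ≪≫ DerivedCategory.Q.mapIso (stalkPullCxIso g w R)
  refine ⟨E₀, a, b, fun i hi =>
    st.map_isZero ((Scheme.Modules.restrictFunctor W.ι).map_isZero (hab i hi)), fun i => ?_, ⟨e₀⟩⟩
  obtain ⟨n, ⟨ei⟩⟩ := hfree i
  have hf := finite_free_stalk_freeMod (U := (W : Scheme.{u})) w n
  haveI := hf.1
  haveI := hf.2.1
  let q := (st.mapIso ei).toLinearEquiv
  have hfree' := Module.Free.of_equiv' hf.1 q.symm
  exact ⟨Module.Finite.equiv q.symm, @Module.Projective.of_free _ _ _ _ _ hfree'⟩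


/-- Let f : X' → X be a flat, surjective, quasi-compact morphism of schemes (an fpqc covering by a
single morphism), and assume Lf^* exists. Then an object E of D(𝒪_X) is perfect if and only if Lf^*E
is perfect. -/
theorem result {X' X : Scheme.{u}} (f : X' ⟶ X) [Flat f] [Surjective f] [QuasiCompact f] [DCoh.HasLpull f] (E : DCoh.D X) :
    DCoh.IsPerfect E ↔ DCoh.IsPerfect ((DCoh.Lpull f).obj E) := by
  refine ⟨KFlatLib.isPerfect_lpull f, fun hpull => (isPerfect_iff _).2 fun x => ?_⟩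
  let R := repK E
  have hR' : LocSP (DCoh.toD X' ((pullCx f).obj R)) :=
    ((isPerfect_iff _).1 hpull).of_iso (lpullRepIso f E).symm
  obtain ⟨x', rfl⟩ := f.surjective x
  -- the stalk at `f x'` is perfect
  have hst : DRing.IsPerfect (X.presheaf.stalk (f.base x')) (DRing.toD ((stalkCx (f.base x')).obj R)) :=
    perfect_stalk f x' R hR'
  obtain ⟨U, F', hxU, hF', ⟨eF⟩⟩ := Groth.Agent.S6196.result (f.base x') _ hst
  obtain ⟨U₁, j, _, ⟨u₁, hu₁⟩, P, hP, ⟨eP⟩⟩ := (isPerfect_iff _).1 hF' ⟨f.base x', hxU⟩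
  obtain ⟨a, b, hab⟩ := hP.1
  obtain ⟨W, hW, hfree⟩ := exists_free_nhd hab hP.2 u₁
  let k := W.ι ≫ j ≫ U.ι
  let P₁ := (rCx W.ι).obj P
  let w : W := ⟨u₁, hW⟩
  have hkw : k.base w = f.base x' := by
    change U.ι.base (j.base u₁) = _
    rw [hu₁]
    rfl
  have hP₁ : DCoh.VanishesOutside P₁ a b := fun i hi =>
    (Scheme.Modules.restrictFunctor W.ι).map_isZero (hab i hi)
  have hfree₁ : ∀ i, ∃ n : ℕ, Nonempty (P₁.X i ≅ FlatMod.freeMod (W : Scheme.{u}) n) := fun i => by
    obtain ⟨n, ⟨e⟩⟩ := hfree i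
    exact ⟨n, ⟨e⟩⟩
  let eW : DerivedCategory.Q.obj P₁ ≅ DerivedCategory.Q.obj ((rCx k).obj F') :=
    ((rhoQ W.ι).app P).symm ≪≫ (rho W.ι).mapIso (eP ≪≫ (rho j).mapIso ((rhoQ U.ι).app F').symm ≪≫
      rhoComp j U.ι (j ≫ U.ι) rfl _) ≪≫ rhoComp W.ι (j ≫ U.ι) k rfl _ ≪≫ (rhoQ k).app F'
  have hst' : Nonempty (DRing.toD ((stalkCx (k.base w)).obj F') ≅
      DRing.toD ((stalkCx (k.base w)).obj R)) := by
    rw [hkw]
    exact ⟨eF⟩
  obtain ⟨e⟩ := stalk_iso_open k F' R w hst'
  let st := DerSch.stalkFunctor (W : Scheme.{u}) w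
  haveI := Functor.preservesFiniteLimits_of_preservesHomology st
  haveI := Functor.preservesFiniteColimits_of_preservesHomology st
  let γ := (st.mapDerivedCategoryFactors.app P₁).symm ≪≫ st.mapDerivedCategory.mapIso eW ≪≫
    st.mapDerivedCategoryFactors.app _ ≪≫ e
  haveI : ∀ i, Projective (((stalkCx w).obj P₁).X i) := fun i => by
    obtain ⟨n, ⟨ei⟩⟩ := hfree₁ i
    haveI := (finite_free_stalk_freeMod (U := (W : Scheme.{u})) w n).1
    haveI : Projective (st.obj (FlatMod.freeMod (W : Scheme.{u}) n)) :=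
      ModuleCat.projective_of_free (Module.Free.chooseBasis _ _)
    exact Projective.of_iso (st.mapIso ei).symm inferInstance
  haveI : CochainComplex.IsStrictlyLE ((stalkCx w).obj P₁) b :=
    (CochainComplex.isStrictlyLE_iff _ b).2 fun i hi => st.map_isZero (hP₁ i (Or.inr hi))
  haveI := CochainComplex.isKProjective_of_projective ((stalkCx w).obj P₁) b
  obtain ⟨φ, hφ⟩ := (homEq_of_isKProjective _ _).surj γ.hom
  let RW := (rCx k).obj R
  obtain ⟨W₂, hw₂, Φ, hΦ⟩ := KExact.exists_nhd_chainMap hP₁ hfree₁ w φ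
  let T := Scheme.Modules.pushforward W₂.ι
  let adj := Scheme.Modules.restrictAdjunction W₂.ι
  let G := (T.mapHomologicalComplex (ComplexShape.up ℤ)).obj ((rCx W₂.ι).obj RW)
  let η : RW ⟶ G :=
    { f := fun i => unitW W₂ (RW.X i), comm' := fun i j _ => (adj.unit.naturality (RW.d i j)).symm }
  let Φ' : P₁ ⟶ G :=
    { f := fun i => unitW W₂ (P₁.X i) ≫ T.map (Φ.f i)
      comm' := fun i j _ => by
        let Rr := Scheme.Modules.restrictFunctor W₂.ι
        change (_ ≫ T.map _) ≫ T.map (Rr.map (RW.d i j)) = P₁.d i j ≫ _ ≫ T.map _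
        rw [Category.assoc, ← T.map_comp,
          show Φ.f i ≫ Rr.map (RW.d i j) = Rr.map (P₁.d i j) ≫ Φ.f j from Φ.comm i j, T.map_comp,
          ← Category.assoc, ← Category.assoc]
        exact congrArg (· ≫ T.map (Φ.f j)) (adj.unit.naturality (P₁.d i j)).symm }
  have hstΦ : (stalkCx w).map Φ' = φ ≫ (stalkCx w).map η := by
    ext i : 1
    change st.map _ = φ.f i ≫ st.map _
    rw [← hΦ i, stalkAt_spec]
  haveI : ∀ i, IsIso (((stalkCx w).map η).f i) := fun i => isIso_stalk_unitW hw₂ (RW.X i)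
  haveI : IsIso ((stalkCx w).map η) := HomologicalComplex.Hom.isIso_of_components _
  have hqis : IsIso (DerivedCategory.Q.map ((stalkCx w).map Φ')) := by
    rw [hstΦ, Functor.map_comp, hφ]
    infer_instance
  let C := (rCx W₂.ι).obj (CochainComplex.mappingCone Φ')
  let w₂ : W₂ := ⟨w, hw₂⟩
  have hC0 : AcyclicAt C w₂ := fun i => by
    have hpc : IsPcMap (i - 1) (DerivedCategory.Q.map ((stalkCx w).map Φ')) := isPcMap_of_isIso _ _
    exact (KExact.isZero_stalk_restrict W₂.ι w₂
      ((((isPcMap_iff_cone (i - 1) _).1 hpc i (by omega)).of_iso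
        ((HomologicalComplex.homologyFunctor _ _ i).mapIso
          (CochainComplex.mappingCone.mapHomologicalComplexIso Φ' st))).of_iso
        (((CochainComplex.mappingCone Φ').sc i).mapHomologyIso st).symm)).of_iso
      ((DerSch.stalkFunctor _ w₂).mapIso
        (((CochainComplex.mappingCone Φ').sc i).mapHomologyIso (Scheme.Modules.restrictFunctor W₂.ι)))
  -- the pullback of the cone is perfect
  let c : (rCx W₂.ι).obj G ⟶ (rCx W₂.ι).obj RW :=
    { f := fun i => adj.counit.app _, comm' := fun i j _ => (adj.counit.naturality _).symm }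
  haveI : ∀ i, IsIso (c.f i) := fun i => by
    change IsIso (adj.counit.app _)
    infer_instance
  haveI : IsIso c := HomologicalComplex.Hom.isIso_of_components _
  let l := W₂.ι ≫ k
  let V : X.Opens := l.opensRange
  let r := (IsOpenImmersion.isoOfRangeEq V.ι l (by simp [V]))
  let ρ : (W₂ : Scheme.{u}) ⟶ (V : Scheme.{u}) := r.inv
  have hρ : ρ ≫ V.ι = l := IsOpenImmersion.isoOfRangeEq_inv_fac _ _ _
  let g₂ : ((f ⁻¹ᵁ V : X'.Opens) : Scheme.{u}) ⟶ (W₂ : Scheme.{u}) := (f ∣_ V) ≫ r.hom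
  have hg₂ : g₂ ≫ l = (f ⁻¹ᵁ V).ι ≫ f := by
    simp [g₂, r, IsOpenImmersion.isoOfRangeEq_hom_fac]
  haveI : Flat g₂ := by
    haveI : Flat (f ∣_ V) := IsZariskiLocalAtTarget.restrict (inferInstanceAs (Flat f)) V
    infer_instance
  haveI : Surjective g₂ := by
    haveI : Surjective (f ∣_ V) := IsZariskiLocalAtTarget.restrict (inferInstanceAs (Surjective f)) V
    infer_instance
  let Φ₂ := (rCx W₂.ι).map Φ'
  have hsp : DCoh.IsStrictlyPerfect ((rCx W₂.ι).obj P₁) :=
    isStrictlyPerfect_restrict _ (KExact.isStrictlyPerfect_of_free hP₁ hfree₁)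
  let rc : (rCx W₂.ι).obj RW ≅ (pullCx l).obj R :=
    (NatIso.mapHomologicalComplex (Scheme.Modules.restrictFunctorComp W₂.ι k).symm
      (ComplexShape.up ℤ)).app R ≪≫ (restrictPullCxIso l).app R
  have hpG : LocSP (DCoh.toD _ ((pullCx g₂).obj ((rCx W₂.ι).obj G))) :=
    (LocSP.restrict' hR' (f ⁻¹ᵁ V).ι).of_iso ((rhoQ _).app _ ≪≫ DerivedCategory.Q.mapIso
      ((restrictPullCxIso _).app _ ≪≫ (pullCxCompIso _ f).app R ≪≫
        (NatIso.mapHomologicalComplex (Scheme.Modules.pullbackCongr hg₂.symm) _).app R ≪≫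
        ((pullCxCompIso g₂ l).app R).symm ≪≫ (pullCx g₂).mapIso (rc.symm ≪≫ (asIso c).symm)))
  have hC' : LocSP (DCoh.toD _ ((pullCx g₂).obj C)) :=
    (locSP_obj₃ (DerivedCategory.Q.mapTriangle.obj
        (CochainComplex.mappingCone.triangle ((pullCx g₂).map Φ₂)))
      ((DerivedCategory.mem_distTriang_iff _).2 ⟨_, _, (pullCx g₂).map Φ₂, ⟨Iso.refl _⟩⟩)
      (KExact.locSP_of_isStrictlyPerfect (isStrictlyPerfect_pullback g₂ hsp)) hpG).of_iso
      (DerivedCategory.Q.mapIso ((CochainComplex.mappingCone.mapHomologicalComplexIso Φ₂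
          (Scheme.Modules.pullback g₂)).symm ≪≫ (pullCx g₂).mapIso
        (CochainComplex.mappingCone.mapHomologicalComplexIso Φ'
          (Scheme.Modules.restrictFunctor W₂.ι)).symm))
  let O : Set (W₂ : Scheme.{u}) := {y | AcyclicAt C y}
  have hpre : g₂.base ⁻¹' O = {z | AcyclicAt ((pullCx g₂).obj C) z} :=
    Set.ext fun z => (acyclicAt_pullCx g₂ C z).symm
  have hO : IsOpen O := by
    haveI : QuasiCompact g₂ := by
      haveI : QuasiCompact (f ∣_ V) := inferInstance
      infer_instance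
    refine (Flat.isQuotientMap_of_surjective g₂).isOpen_preimage.1 ?_
    rw [hpre]
    exact isOpen_acyclicAt _ hC'
  let O' : (W₂ : Scheme.{u}).Opens := ⟨O, hO⟩
  let Ψ := (rCx O'.ι).map Φ₂
  haveI : IsIso (DerivedCategory.Q.map Ψ) := by
    refine (DerivedCategory.isIso_iff _ _).2 fun i => ?_
    have h : IsPcMap (i - 1) (DerivedCategory.Q.map Ψ) := (isPcMap_iff_cone _ _).2 fun n _ => by
      refine IsZero.of_iso ?_ ((HomologicalComplex.homologyFunctor _ _ n).mapIso
        ((CochainComplex.mappingCone.mapHomologicalComplexIso Φ₂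
            (Scheme.Modules.restrictFunctor O'.ι)).symm ≪≫ (rCx O'.ι).mapIso
          (CochainComplex.mappingCone.mapHomologicalComplexIso Φ'
            (Scheme.Modules.restrictFunctor W₂.ι)).symm))
      refine IsZero.of_iso ?_ ((C.sc n).mapHomologyIso (Scheme.Modules.restrictFunctor O'.ι))
      exact isZero_of_stalk _ fun y => KExact.isZero_stalk_restrict O'.ι y (y.2 n)
    exact h.1 i (by omega)
  let m := O'.ι ≫ l
  refine ⟨_, m, inferInstance, ⟨⟨w₂, hC0⟩, hkw⟩, (rCx O'.ι).obj ((rCx W₂.ι).obj P₁),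
    isStrictlyPerfect_restrict _ hsp, ⟨?_⟩⟩
  exact asIso (DerivedCategory.Q.map Ψ) ≪≫ DerivedCategory.Q.mapIso ((rCx O'.ι).mapIso (asIso c)) ≪≫
    ((rhoQ O'.ι).app _).symm ≪≫ (rho O'.ι).mapIso (((rhoQ W₂.ι).app RW).symm ≪≫
      (rho W₂.ι).mapIso ((rhoQ k).app R).symm ≪≫ rhoComp W₂.ι k l rfl _) ≪≫
    rhoComp O'.ι l m rfl _ ≪≫ (rho m).mapIso (repKIso E)
end Groth.Agent.S1056
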