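import Groth.Statements.S10563
import Groth.Agent.AlgSpLib.DescendLocally

set_option backward.isDefEq.respectTransparency false
set_option backward.isDefEq.respectTransparency.types false
-- import your own Groth.Agent.* helpers here

set_option autoImplicit false
universe u
open CategoryTheory CategoryTheory.Limits AlgebraicGeometry
open AlgSp

namespace Groth.Agent.S10563

/-- Let f : X ⟶ Y be a morphism of algebraic spaces over S which is locally of finite presentation, flat
and surjective. If X is regular (etale locally a locally Noetherian scheme all of whose local rings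
are regular local rings) then Y is regular. -/
theorem result {S : Scheme.{u}} {X Y : AlgSp.Space S} (f : X ⟶ Y)
    (hfp : AlgSp.LocP @LocallyOfFinitePresentation f.hom) (hfl : AlgSp.LocP @Flat f.hom)
    (hs : AlgSp.IsSurjectiveMor f.hom)
    (hX : AlgSp.EtaleLocally (fun U => IsLocallyNoetherian U ∧ ∀ u : ↥U, IsRegularLocalRing ↥(U.presheaf.stalk u)) X.obj) :
    AlgSp.EtaleLocally (fun U => IsLocallyNoetherian U ∧ ∀ u : ↥U, IsRegularLocalRing ↥(U.presheaf.stalk u)) Y.obj := by
  have h : AlgSp.LocP (@Flat ⊓ @LocallyOfFinitePresentation) f.hom :=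
    fun _ _ a b v ha hb hw => ⟨hfl a b v ha hb hw, hfp a b v ha hb hw⟩
  exact Groth.Agent.AlgSpLib.etaleLocally_of_surjective _ _ Y.property f.hom h hs
    (fun _ _ r (_ : Etale r) hU => Groth.Agent.AlgSpLib.isRegular_of_etale r hU)
    (fun _ _ v hv (_ : Surjective v) hW => by
      obtain ⟨hf, hp⟩ := hv
      have : Flat v := hf
      have : LocallyOfFinitePresentation v := hp
      exact Groth.Agent.AlgSpLib.isRegular_of_flat v hW) hX
end Groth.Agent.S10563
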