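import Groth.Statements.S10564
import Groth.Agent.AlgSpLib.DescendLocally

set_option backward.isDefEq.respectTransparency false
set_option backward.isDefEq.respectTransparency.types false
-- import your own Groth.Agent.* helpers here

set_option autoImplicit false
universe u
open CategoryTheory CategoryTheory.Limits AlgebraicGeometry
open AlgSp

namespace Groth.Agent.S10564

/-- For a smooth morphism f : X ⟶ Y of algebraic spaces over S, reducedness of Y implies reducedness of
X, and when f is moreover surjective, reducedness of X implies reducedness of Y. -/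
theorem result {S : Scheme.{u}} {X Y : AlgSp.Space S} (f : X ⟶ Y) (hf : AlgSp.LocP @Smooth f.hom) :
    (AlgSp.IsReducedSp Y.obj → AlgSp.IsReducedSp X.obj) ∧
    (AlgSp.IsSurjectiveMor f.hom → AlgSp.IsReducedSp X.obj → AlgSp.IsReducedSp Y.obj) := by
  refine ⟨fun hY => ?_, fun hs hX => ?_⟩
  · obtain ⟨V, b, hb, hb', hV⟩ := hY
    obtain ⟨U, a, ha, ha'⟩ := X.property.atlas
    have hr : AlgSp.Representable b := hb.rep
    let r := hr.snd (a ≫ f.hom)
    let v := hr.fst' (a ≫ f.hom)
    have hre : Etale r.left := hb.property_snd _
    have hrs : Surjective r.left := hb'.property _ _ _ (hr.isPullback (a ≫ f.hom))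
    have hwa : AlgSp.RepWith @Etale ((AlgSp.yon S).map r ≫ a) :=
      Groth.Agent.AlgSpLib.repWith_comp ((AlgSp.repWith_yon_map_iff _ _).2 hre) ha
    have hw : ((AlgSp.yon S).map r ≫ a) ≫ f.hom = (AlgSp.yon S).map v ≫ b := by
      rw [Category.assoc, Functor.relativelyRepresentable.map_fst', hr.w]
    have : Smooth v.left := hf _ b v hwa hb hw
    have : IsReduced V.left := hV
    have := Groth.Agent.AlgSpLib.isReduced_of_smooth v.left
    exact ⟨U, a, ha, ha', Groth.Agent.FBaseLib.isReduced_of_flat_surjective r.left⟩
  · exact Groth.Agent.AlgSpLib.etaleLocally_of_surjective _ @Smooth Y.property f.hom hf hs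
      (fun _ _ r (_ : Etale r) (_ : IsReduced _) => Groth.Agent.AlgSpDec.isReduced_of_etaleMor r)
      (fun _ _ v (_ : Smooth v) (_ : Surjective v) (_ : IsReduced _) =>
        Groth.Agent.FBaseLib.isReduced_of_flat_surjective v) hX
end Groth.Agent.S10564
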