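import Groth.Statements.S10567
import Groth.Agent.AlgSpLib.SmoothLocal

set_option backward.isDefEq.respectTransparency false
set_option backward.isDefEq.respectTransparency.types false
-- import your own Groth.Agent.* helpers here

set_option autoImplicit false
universe u
open CategoryTheory CategoryTheory.Limits AlgebraicGeometry
open AlgSp

namespace Groth.Agent.S10567

/-- A property P of morphisms of algebraic spaces over S that is smooth local on the source, smooth
local on the base, and stable under postcomposition with smooth morphisms (whenever g : Y ⟶ Z is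
smooth and f : X ⟶ Y has P, the composite f ≫ g has P) is smooth local on source-and-target. -/
theorem result {S : Scheme.{u}} (P : MorphismProperty (AlgSp.Sp S))
    (h1 : AlgSp.IsLocalOnSource (AlgSp.IsSmCover (S := S)) P)
    (h2 : AlgSp.IsLocalOnBase (AlgSp.IsSmCover (S := S)) P)
    (h3 : ∀ ⦃X Y Z : AlgSp.Space S⦄ (f : X ⟶ Y) (g : Y ⟶ Z), P f.hom → AlgSp.LocP @Smooth g.hom → P (f ≫ g).hom) :
    AlgSp.IsSmoothLocalST P :=   Groth.Agent.AlgSpLib.isSmoothLocalST_of_local h1 h2 fun _ _ _ hX hY hZ f g hf hg =>
    h3 (X := ⟨_, hX⟩) (Y := ⟨_, hY⟩) (Z := ⟨_, hZ⟩) (ObjectProperty.homMk f) (ObjectProperty.homMk g) hf hg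
end Groth.Agent.S10567
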