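import Groth.Statements.S10569
import Groth.Agent.AlgSpLib.EtaleSmoothLocal

set_option backward.isDefEq.respectTransparency false
set_option backward.isDefEq.respectTransparency.types false
-- import your own Groth.Agent.* helpers here

set_option autoImplicit false
universe u
open CategoryTheory CategoryTheory.Limits AlgebraicGeometry
open AlgSp AlgSp.IsEtaleSmoothLocalST

namespace Groth.Agent.S10569

/-- For a property P of morphisms of algebraic spaces over S that is etale-smooth local on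
source-and-target and a morphism f : X ⟶ Y of algebraic spaces, each of the following is equivalent
to P f: (c) for some smooth b : V ⟶ Y, cartesian square W = X ×_Y V and etale e : U ⟶ W with U ⟶ W ⟶
X surjective, the composite U ⟶ W ⟶ V has P; (d) for every smooth b : V ⟶ Y, cartesian square W = X
×_Y V and etale e : U ⟶ W, the composite U ⟶ W ⟶ V has P; (e) for some smooth covering of Y by
algebraic spaces Y_i every base change Y_i ×_Y X ⟶ Y_i has P; (f) for some etale covering of X by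
algebraic spaces X_i every composite X_i ⟶ Y has P. (Condition (b) of the published list is the
defining locality condition, and its condition (g) combines (e) and (f); they are not repeated
here.) -/
theorem result {S : Scheme.{u}} {P : MorphismProperty (AlgSp.Sp S)}
    (hP : AlgSp.IsEtaleSmoothLocalST P) {X Y : AlgSp.Space S} (f : X ⟶ Y) :
    (P f.hom ↔ ∃ (U V W : AlgSp.Space S) (b : V ⟶ Y) (p : W ⟶ X) (q : W ⟶ V) (e : U ⟶ W),
      AlgSp.LocP @Smooth b.hom ∧ IsPullback p.hom q.hom f.hom b.hom ∧ AlgSp.IsEtaleMor e.hom ∧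
      AlgSp.IsSurjectiveMor (e ≫ p).hom ∧ P (e ≫ q).hom) ∧
    (P f.hom ↔ ∀ (U V W : AlgSp.Space S) (b : V ⟶ Y) (p : W ⟶ X) (q : W ⟶ V) (e : U ⟶ W),
      AlgSp.LocP @Smooth b.hom → IsPullback p.hom q.hom f.hom b.hom → AlgSp.IsEtaleMor e.hom → P (e ≫ q).hom) ∧
    (P f.hom ↔ ∃ (ι : Type u) (Yi Xi : ι → AlgSp.Space S) (g : ∀ i, Yi i ⟶ Y) (p : ∀ i, Xi i ⟶ Yi i)
      (q : ∀ i, Xi i ⟶ X), AlgSp.IsSmCover (fun i => (Yi i).obj) (fun i => (g i).hom) ∧
      (∀ i, IsPullback (q i).hom (p i).hom f.hom (g i).hom) ∧ ∀ i, P (p i).hom) ∧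
    (P f.hom ↔ ∃ (ι : Type u) (Xi : ι → AlgSp.Space S) (g : ∀ i, Xi i ⟶ X),
      AlgSp.IsEtCover (fun i => (Xi i).obj) (fun i => (g i).hom) ∧ ∀ i, P (g i ≫ f).hom) := by
  have hX := X.property
  have hY := Y.property
  have hsm : ∀ A : AlgSp.Space S, AlgSp.LocP @Smooth (𝟙 A : A ⟶ A).hom :=
    fun A => Groth.Agent.AlgSpLib.locP_smooth_of_isIso (𝟙 A.obj)
  have het : ∀ A : AlgSp.Space S, AlgSp.IsEtaleMor (𝟙 A : A ⟶ A).hom :=
    fun A => Groth.Agent.AlgSpLib.isEtaleMor_of_isIso (𝟙 A.obj)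
  have sq0 : IsPullback (𝟙 X : X ⟶ X).hom f.hom f.hom (𝟙 Y : Y ⟶ Y).hom :=
    IsPullback.of_horiz_isIso ⟨(Category.id_comp _).trans (Category.comp_id _).symm⟩
  have w0 : (𝟙 X : X ⟶ X) ≫ f = f := Category.id_comp f
  refine ⟨⟨fun hf => ⟨X, Y, X, 𝟙 Y, 𝟙 X, f, 𝟙 X, hsm Y, sq0, het X, ?_, by rw [w0]; exact hf⟩,
      fun ⟨U, V, W, b, p, q, e, hb, sq, he, hs, hh⟩ => (hP.locality hX hY _).2 fun x => ?_⟩,
    ⟨fun hf U V W b p q e hb sq he => hP.precomp U.property W.property V.property e.hom q.hom he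
        (hP.baseChange hX hY W.property V.property f.hom b.hom q.hom p.hom sq hb hf),
      fun h => w0 ▸ h X Y X (𝟙 Y) (𝟙 X) f (𝟙 X) (hsm Y) sq0 (het X)⟩,
    ⟨fun hf => ⟨PUnit.{u+1}, fun _ => Y, fun _ => X, fun _ => 𝟙 Y, fun _ => f, fun _ => 𝟙 X,
        ⟨fun _ => hsm Y, fun y => ⟨⟨⟩, y, AlgSp.Points.map_id y⟩⟩, fun _ => sq0, fun _ => hf⟩,
      fun ⟨ι, Yi, Xi, g, p, q, hg, sq, hp⟩ => (Groth.Agent.AlgSpLib.isLocalOnBase_sm' hP _ _ hY
        (fun i => (Yi i).property) hg f.hom hX _ (fun i => (p i).hom) (fun i => (q i).hom)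
        (fun i => (Xi i).property) sq).2 hp⟩,
    ⟨fun hf => ⟨PUnit.{u+1}, fun _ => X, fun _ => 𝟙 X,
        ⟨fun _ => het X, fun y => ⟨⟨⟩, y, AlgSp.Points.map_id y⟩⟩, fun _ => by rw [w0]; exact hf⟩,
      fun ⟨ι, Xi, g, hg, hp⟩ =>
        (Groth.Agent.AlgSpLib.isLocalOnSource_et hP _ (fun i => (g i).hom) hX (fun i => (Xi i).property) hg
          f.hom hY).2 hp⟩⟩
  · show AlgSp.IsSurjectiveMor ((𝟙 X : X ⟶ X).hom ≫ (𝟙 X : X ⟶ X).hom)
    exact Groth.Agent.AlgSpLib.isSurjectiveMor_of_isIso _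
  · obtain ⟨v, hv⟩ := hs x
    exact ⟨V.obj, W.obj, U.obj, b.hom, p.hom, q.hom, e.hom, v, V.property, W.property, U.property, hb, sq, he,
      hv, hh⟩
end Groth.Agent.S10569
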