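import Groth.Statements.S1057
import Groth.Agent.RelPC17.BaseChange
import Groth.Agent.KExact.RelTensor
-- import your own Groth.Agent.* helpers here

set_option autoImplicit false
set_option backward.isDefEq.respectTransparency false
set_option backward.isDefEq.respectTransparency.types false
universe u
open CategoryTheory CategoryTheory.Limits AlgebraicGeometry Opposite
attribute [local instance] HasDerivedCategory.standard
open Perf

namespace Groth.Agent.S1057

/-- For a covering by a single flat, surjective, quasi-compact morphism f : X' ⟶ X: assuming Lf^*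
exists, an object E of D(O_X) with quasi-coherent cohomology sheaves is m-pseudo-coherent if and
only if Lf^*E is m-pseudo-coherent. -/
theorem result {X' X : Scheme.{u}} (f : X' ⟶ X) [Flat f] [Surjective f] [QuasiCompact f] [DCoh.HasLpull f] (E : DCoh.D X) (hE : DCoh.IsQCohD E) (m : ℤ) :
    DCoh.IsPseudoCoherentD m E ↔ DCoh.IsPseudoCoherentD m ((DCoh.Lpull f).obj E) := by
  refine ⟨fun h => Groth.Agent.KFlatLib.isPseudoCoherentD_lpull f h, fun h => ?_⟩
  rw [Groth.Agent.KFlatLib.isPseudoCoherentD_iff] at h ⊢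
  have hid : Groth.Agent.RelPC17.ChartsPC (𝟙 X) := Groth.Agent.RelPC17.chartsPC_of_flat _
  refine (Groth.Agent.RelPC17.rel_iff_locPC (𝟙 X) hid m E).1 ?_
  haveI := Groth.Agent.KFlatLib.hasLpull (pullback.fst (𝟙 X) f)
  refine Groth.Agent.RelPC17.rel_of_lpull_family (𝟙 X) (fun _ : PUnit.{u + 1} => X') (fun _ => f)
    (fun V hV => Groth.Agent.RelPC17.exists_lifts_qc f V hV) hE (fun _ => ?_)
  haveI := Groth.Agent.KFlatLib.hasLpull (pullback.snd (𝟙 X) f)
  haveI := Groth.Agent.KFlatLib.hasLpull (pullback.snd (𝟙 X) f ≫ f)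
  refine (Groth.Agent.RelPC17.rel_iff_locPC _ (Groth.Agent.RelPC17.chartsPC_of_flat _) m _).2 ?_
  obtain ⟨c⟩ := Groth.Agent.KFlatLib.nonempty_lpull_comp (pullback.snd (𝟙 X) f) f
  obtain ⟨c'⟩ := Groth.Agent.KExact.nonempty_lpull_congr
    (show pullback.fst (𝟙 X) f = pullback.snd (𝟙 X) f ≫ f by rw [← pullback.condition, Category.comp_id]) E
  exact ((Groth.Agent.KFlatLib.isPseudoCoherentD_iff _ _).1 (Groth.Agent.KFlatLib.isPseudoCoherentD_lpull
    (pullback.snd (𝟙 X) f) ((Groth.Agent.KFlatLib.isPseudoCoherentD_iff _ _).2 h))).of_iso (c.app _ ≪≫ c'.symm)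

end Groth.Agent.S1057
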