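import Groth.Statements.S10571
import Groth.Agent.AlgSpDec.Glue
import Groth.Agent.AlgSpLib.Rep

set_option backward.isDefEq.respectTransparency false
set_option backward.isDefEq.respectTransparency.types false
-- import your own Groth.Agent.* helpers here

set_option autoImplicit false
universe u
open CategoryTheory CategoryTheory.Limits AlgebraicGeometry
open AlgSp

namespace Groth.Agent.S10571

/-- Suppose a property P of morphisms between algebraic spaces over S satisfies: (1) if finitely many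
morphisms X_i ⟶ Y_i have P then so does the induced morphism ∐ X_i ⟶ ∐ Y_i, (2) f : X ⟶ Y has P
exactly when, for each affine scheme Z and each h_Z ⟶ Y, the base change h_Z ×_Y X ⟶ h_Z has P, and
(3) for every surjective flat morphism of affine schemes Z' ⟶ Z over S and every f : X ⟶ h_Z, if the
base change h_{Z'} ×_{h_Z} X ⟶ h_{Z'} has P then f has P. Under these hypotheses, P is local on the
base for the fpqc topology. (The published statement asks (1) only for two morphisms; its proof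
applies (1) to a disjoint union indexed by a finite set that may be empty, and with (1) for two
morphisms only the property that holds for no morphism satisfies all three hypotheses without being
fpqc local on the base, as the empty covering of the empty algebraic space shows. This row asks (1)
for all finite families, the empty one included.) -/
theorem result {S : Scheme.{u}} (P : MorphismProperty (AlgSp.Sp S))
    (h1 : ∀ ⦃ι : Type u⦄ [Finite ι] (Xi Yi : ι → AlgSp.Sp S) (fi : ∀ i, Xi i ⟶ Yi i)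
      (cX : Cofan Xi) (cY : Cofan Yi) (hcX : IsColimit cX) (hcY : IsColimit cY) (m : cX.pt ⟶ cY.pt),
      (∀ i, AlgSp.IsAlgSpace (Xi i)) → (∀ i, AlgSp.IsAlgSpace (Yi i)) →
      AlgSp.IsAlgSpace cX.pt → AlgSp.IsAlgSpace cY.pt →
      (∀ i, cX.inj i ≫ m = fi i ≫ cY.inj i) → (∀ i, P (fi i)) → P m)
    (h2 : ∀ ⦃X Y : AlgSp.Sp S⦄, AlgSp.IsAlgSpace X → AlgSp.IsAlgSpace Y → ∀ (f : X ⟶ Y),
      P f ↔ ∀ (Z : Over S), IsAffine Z.left → ∀ (g : (AlgSp.yon S).obj Z ⟶ Y) (W : AlgSp.Sp S)
        (fst : W ⟶ X) (snd : W ⟶ (AlgSp.yon S).obj Z), AlgSp.IsAlgSpace W → IsPullback fst snd f g → P snd)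
    (h3 : ∀ ⦃Z Z' : Over S⦄ (c : Z' ⟶ Z), IsAffine Z.left → IsAffine Z'.left → Surjective c.left → Flat c.left →
      ∀ ⦃X X' : AlgSp.Sp S⦄ (f : X ⟶ (AlgSp.yon S).obj Z) (fst : X' ⟶ X) (f' : X' ⟶ (AlgSp.yon S).obj Z'),
        AlgSp.IsAlgSpace X → AlgSp.IsAlgSpace X' → IsPullback fst f' f ((AlgSp.yon S).map c) → P f' → P f) :
    AlgSp.IsLocalOnBase (AlgSp.IsFpqcCover (S := S)) P := by
  intro ι Y Yi g hY hYi hg X f hX Xi p q hXi sq
  refine ⟨fun hf i => ?_, fun hp => ?_⟩
  · rw [h2 (hXi i) (hYi i) (p i)]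
    intro Z hZ a W fst snd hW s
    exact (h2 hX hY f).1 hf Z hZ (a ≫ g i) W (fst ≫ q i) snd hW (s.paste_horiz (sq i))
  rw [h2 hX hY f]
  intro Z hZ a W fst snd hW s
  obtain ⟨m, T₀, c₀, hT₀, hc₀, hs₀, hl₀⟩ := hg.2 Z hZ a
  let T : ULift.{u} (Fin m) → Over S := fun j => T₀ j.down
  let c : ∀ j, T j ⟶ Z := fun j => c₀ j.down
  have hT : ∀ j, IsAffine (T j).left := fun j => hT₀ j.down
  let Z' : Over S := Groth.Agent.AlgSpDec.sigmaOver T
  let cc : Z' ⟶ Z := CategoryTheory.Over.homMk (Sigma.desc fun j => (c j).left)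
    (Sigma.hom_ext _ _ fun j => by
      change Sigma.ι _ j ≫ Sigma.desc _ ≫ Z.hom = Sigma.ι _ j ≫ Sigma.desc _
      rw [Sigma.ι_desc_assoc, Sigma.ι_desc]
      exact Over.w _)
  have hcc : ∀ j, Groth.Agent.AlgSpDec.sigmaι T j ≫ cc = c j := fun j => Over.OverMorphism.ext (Sigma.ι_desc _ j)
  have hZ' : IsAffine Z'.left :=
    have := hT
    inferInstanceAs (IsAffine (∐ fun j => (T j).left))
  have hflat : Flat cc.left := by
    refine IsZariskiLocalAtSource.of_openCover (sigmaOpenCover fun j => (T j).left) fun j => ?_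
    change Flat (Sigma.ι (fun j => (T j).left) j ≫ Sigma.desc _)
    rw [Sigma.ι_desc]
    exact hc₀ j.down
  have hsurj : Surjective cc.left := ⟨fun z => by
    obtain ⟨j, y, hy⟩ := hs₀ z
    refine ⟨(Groth.Agent.AlgSpDec.sigmaι T ⟨j⟩).left y, ?_⟩
    rw [← Scheme.Hom.comp_apply, ← Over.comp_left, hcc]
    exact hy⟩
  let cY : Cofan (fun j => (AlgSp.yon S).obj (T j)) :=
    Cofan.mk ((AlgSp.yon S).obj Z') fun j => (AlgSp.yon S).map (Groth.Agent.AlgSpDec.sigmaι T j)
  have hcY : IsColimit cY := mkCofanColimit cY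
    (fun s => (Groth.Agent.AlgSpDec.exists_hom_sigma T s.inj).choose)
    (fun s => (Groth.Agent.AlgSpDec.exists_hom_sigma T s.inj).choose_spec)
    (fun s m hm => Groth.Agent.AlgSpDec.hom_ext_sigma T fun j => (hm j).trans
      ((Groth.Agent.AlgSpDec.exists_hom_sigma T s.inj).choose_spec j).symm)
  let M := pullback snd ((AlgSp.yon S).map cc)
  have hM : AlgSp.IsAlgSpace M :=
    Groth.Agent.AlgSpLib.isAlgSpace_pullback hW (AlgSp.IsAlgSpace.yon_obj Z') (AlgSp.IsAlgSpace.yon_obj Z) _ _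
  let mY := pullback.snd snd ((AlgSp.yon S).map cc)
  let Mi : ULift.{u} (Fin m) → AlgSp.Sp S := fun j => pullback mY (cY.inj j)
  have hMi : ∀ j, AlgSp.IsAlgSpace (Mi j) := fun j =>
    Groth.Agent.AlgSpLib.isAlgSpace_pullback hM (AlgSp.IsAlgSpace.yon_obj (T j)) (AlgSp.IsAlgSpace.yon_obj Z') mY (cY.inj j)
  let cX : Cofan Mi := Cofan.mk M fun j => pullback.fst mY (cY.inj j)
  let α : Discrete.functor Mi ⟶ Discrete.functor (fun j => (AlgSp.yon S).obj (T j)) :=
    Discrete.natTrans fun j => (pullback.snd mY (cY.inj j.as) : Mi j.as ⟶ (AlgSp.yon S).obj (T j.as))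
  obtain ⟨hcX⟩ := ((FinitaryExtensive.isVanKampen_finiteCoproducts hcY) cX α mY
    (NatTrans.ext (funext fun j => (pullback.condition (f := mY) (g := cY.inj j.as)).symm)) (NatTrans.equifibered_of_discrete _)).2
    fun ⟨j⟩ => IsPullback.of_hasPullback mY (cY.inj j)
  refine h3 cc hZ hZ' hsurj hflat snd (pullback.fst _ _) mY hW hM (IsPullback.of_hasPullback _ _) ?_
  refine h1 Mi _ (fun j => pullback.snd mY (cY.inj j)) cX cY hcX hcY mY hMi
    (fun j => AlgSp.IsAlgSpace.yon_obj _) hM (AlgSp.IsAlgSpace.yon_obj _)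
    (fun j => pullback.condition) fun j => ?_
  obtain ⟨i, l, hl⟩ := hl₀ j.down
  have sj : IsPullback (pullback.fst mY (cY.inj j) ≫ pullback.fst snd ((AlgSp.yon S).map cc) ≫ fst)
      (pullback.snd mY (cY.inj j)) f (l ≫ g i) := by
    have := ((IsPullback.of_hasPullback mY (cY.inj j)).paste_horiz
      (IsPullback.of_hasPullback snd ((AlgSp.yon S).map cc))).paste_horiz s
    rw [Category.assoc, Category.assoc] at this
    have e : l ≫ g i = cY.inj j ≫ (AlgSp.yon S).map cc ≫ a := by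
      rw [hl, ← Category.assoc]
      refine congrArg (· ≫ a) ?_
      show (AlgSp.yon S).map (c₀ j.down) = (AlgSp.yon S).map (Groth.Agent.AlgSpDec.sigmaι T j) ≫ (AlgSp.yon S).map cc
      rw [← Functor.map_comp, hcc]
    rw [e]
    exact this
  refine (h2 (hXi i) (hYi i) (p i)).1 (hp i) (T j) (hT j) l (Mi j)
    ((sq i).lift (pullback.fst mY (cY.inj j) ≫ pullback.fst snd ((AlgSp.yon S).map cc) ≫ fst)
      (pullback.snd mY (cY.inj j) ≫ l) (by rw [sj.w, Category.assoc]))
    (pullback.snd mY (cY.inj j)) (hMi j) (IsPullback.of_right ?_ ((sq i).lift_snd _ _ _) (sq i))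
  rw [IsPullback.lift_fst]
  exact sj
end Groth.Agent.S10571
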