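import Groth.Statements.S10572
import Groth.Agent.AlgSpWA.FpqcHom

set_option backward.isDefEq.respectTransparency false
set_option backward.isDefEq.respectTransparency.types false
-- import your own Groth.Agent.* helpers here

set_option autoImplicit false
universe u
open CategoryTheory CategoryTheory.Limits AlgebraicGeometry
open AlgSp

namespace Groth.Agent.S10572

/-- Let {g_i : T_i ⟶ T} be a family of algebraic spaces over S forming an fpqc covering, and B an
algebraic space over S. Then Mor(T, B) ⟶ ∏ Mor(T_i, B) ⇉ ∏ Mor(T_i ×_T T_j, B) is an equalizer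
diagram: a morphism T ⟶ B is determined by its restrictions to the T_i, and every family T_i ⟶ B
agreeing on the fibre products T_i ×_T T_j comes from a morphism T ⟶ B. -/
theorem result {S : Scheme.{u}} {ι : Type u} {T : AlgSp.Space S}
    (Ti : ι → AlgSp.Space S) (g : ∀ i, Ti i ⟶ T)
    (hg : AlgSp.IsFpqcCover (fun i => (Ti i).obj) (fun i => (g i).hom)) (B : AlgSp.Space S) :
    (∀ a b : T ⟶ B, (∀ i, g i ≫ a = g i ≫ b) → a = b) ∧
    (∀ bi : ∀ i, Ti i ⟶ B,
      (∀ i j, pullback.fst (g i).hom (g j).hom ≫ (bi i).hom = pullback.snd (g i).hom (g j).hom ≫ (bi j).hom) →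
      ∃ b : T ⟶ B, ∀ i, g i ≫ b = bi i) :=  by
  refine ⟨fun a b h => ObjectProperty.hom_ext _ (Groth.Agent.AlgSpWA.FpqcHom.hom_ext _ hg B.property a.hom b.hom
    fun i => congrArg InducedCategory.Hom.hom (h i)), fun bi h => ?_⟩
  obtain ⟨b, hb⟩ := Groth.Agent.AlgSpWA.FpqcHom.exists_glue _ hg B.property (fun i => (bi i).hom) h
  exact ⟨ObjectProperty.homMk b, fun i => ObjectProperty.hom_ext _ (hb i)⟩
end Groth.Agent.S10572
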