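import Groth.Statements.S10574
import Groth.Agent.AlgSpLib.LargestOpenTop

set_option backward.isDefEq.respectTransparency false
set_option backward.isDefEq.respectTransparency.types false
-- import your own Groth.Agent.* helpers here

set_option autoImplicit false
universe u
open CategoryTheory CategoryTheory.Limits AlgebraicGeometry Topology TopologicalSpace
open AlgSp

namespace Groth.Agent.S10574

/-- For a property P of morphisms of algebraic spaces over S that is fppf local on the base and a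
morphism f : X ⟶ Y of algebraic spaces, there is a largest open subspace W(f) of Y over which the
restriction of f has P (open subspaces are recorded as open subsets of |Y|, and having P over V
means that for every open immersion W ⟶ Y with image V the base change X ×_Y W ⟶ W has P). Moreover
(1) every flat and locally finitely presented g : Y' ⟶ Y whose base change X ×_Y Y' ⟶ Y' has P has
image inside W(f), and (2) for every flat and locally finitely presented g : Y' ⟶ Y with base change
f', the largest open of Y' over which f' has P is the inverse image of W(f); in particular this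
applies to the members of an fppf covering of Y. (The syntomic topology case of the published
statement is not included.) -/
theorem result {S : Scheme.{u}} {P : MorphismProperty (AlgSp.Sp S)}
    (hP : AlgSp.IsLocalOnBase (AlgSp.IsFppfCover (S := S)) P) {X Y : AlgSp.Space S} (f : X ⟶ Y) :
    ∃ W : TopologicalSpace.Opens (AlgSp.Points Y.obj),
      (∀ (W₀ X₀ : AlgSp.Space S) (j₀ : W₀ ⟶ Y) (j₀' : X₀ ⟶ X) (f₀ : X₀ ⟶ W₀),
        AlgSp.RepWith @IsOpenImmersion j₀.hom → Set.range (AlgSp.Points.map j₀.hom) = (W : Set (AlgSp.Points Y.obj)) →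
        IsPullback j₀'.hom f₀.hom f.hom j₀.hom → P f₀.hom) ∧
      (∀ V : TopologicalSpace.Opens (AlgSp.Points Y.obj),
        (∀ (W₁ X₁ : AlgSp.Space S) (j₁ : W₁ ⟶ Y) (j₁' : X₁ ⟶ X) (f₁ : X₁ ⟶ W₁),
        AlgSp.RepWith @IsOpenImmersion j₁.hom → Set.range (AlgSp.Points.map j₁.hom) = (V : Set (AlgSp.Points Y.obj)) →
        IsPullback j₁'.hom f₁.hom f.hom j₁.hom → P f₁.hom) → V ≤ W) ∧
      (∀ (Y' X' : AlgSp.Space S) (g : Y' ⟶ Y) (g' : X' ⟶ X) (f' : X' ⟶ Y'),
        AlgSp.LocP @Flat g.hom → AlgSp.LocP @LocallyOfFinitePresentation g.hom → IsPullback g'.hom f'.hom f.hom g.hom → P f'.hom →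
        Set.range (AlgSp.Points.map g.hom) ⊆ (W : Set (AlgSp.Points Y.obj))) ∧
      (∀ (Y' X' : AlgSp.Space S) (g : Y' ⟶ Y) (g' : X' ⟶ X) (f' : X' ⟶ Y'),
        AlgSp.LocP @Flat g.hom → AlgSp.LocP @LocallyOfFinitePresentation g.hom → IsPullback g'.hom f'.hom f.hom g.hom →
        ∀ W' : TopologicalSpace.Opens (AlgSp.Points Y'.obj),
          (∀ (W₂ X₂ : AlgSp.Space S) (j₂ : W₂ ⟶ Y') (j₂' : X₂ ⟶ X') (f₂ : X₂ ⟶ W₂),
        AlgSp.RepWith @IsOpenImmersion j₂.hom → Set.range (AlgSp.Points.map j₂.hom) = (W' : Set (AlgSp.Points Y'.obj)) →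
        IsPullback j₂'.hom f₂.hom f'.hom j₂.hom → P f₂.hom) →
          (∀ V' : TopologicalSpace.Opens (AlgSp.Points Y'.obj),
            (∀ (W₃ X₃ : AlgSp.Space S) (j₃ : W₃ ⟶ Y') (j₃' : X₃ ⟶ X') (f₃ : X₃ ⟶ W₃),
        AlgSp.RepWith @IsOpenImmersion j₃.hom → Set.range (AlgSp.Points.map j₃.hom) = (V' : Set (AlgSp.Points Y'.obj)) →
        IsPullback j₃'.hom f₃.hom f'.hom j₃.hom → P f₃.hom) → V' ≤ W') →
          (W' : Set (AlgSp.Points Y'.obj)) = AlgSp.Points.map g.hom ⁻¹' (W : Set (AlgSp.Points Y.obj))) := by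
  obtain ⟨W, h1, h2, h3, h4⟩ := Groth.Agent.AlgSpLib.exists_largest_open Groth.Agent.AlgSpLib.openTopology_fppf hP f
  exact ⟨W, h1, h2, fun Y' X' g g' f' a b => h3 Y' X' g g' f' ⟨a, b⟩,
    fun Y' X' g g' f' a b => h4 Y' X' g g' f' ⟨a, b⟩⟩
end Groth.Agent.S10574
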