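import Groth.Statements.S10576
import Groth.Agent.AlgSpLib.LargestOpenTop

set_option backward.isDefEq.respectTransparency false
set_option backward.isDefEq.respectTransparency.types false
-- import your own Groth.Agent.* helpers here

set_option autoImplicit false
universe u
open CategoryTheory CategoryTheory.Limits AlgebraicGeometry Topology TopologicalSpace
open AlgSp

namespace Groth.Agent.S10576

/-- For a property P of morphisms of algebraic spaces over S that is etale local on the base and a
morphism f : X ⟶ Y of algebraic spaces, there is a largest open subspace W(f) of Y over which the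
restriction of f has P (open subspaces are recorded as open subsets of |Y|, and having P over V
means that for every open immersion W ⟶ Y with image V the base change X ×_Y W ⟶ W has P). Moreover
(1) every etale g : Y' ⟶ Y whose base change X ×_Y Y' ⟶ Y' has P has image inside W(f), and (2) for
every etale g : Y' ⟶ Y with base change f', the largest open of Y' over which f' has P is the
inverse image of W(f); in particular this applies to the members of an etale covering of Y. (The
published statement asserts (1) and (2) for every g that is flat and locally of finite presentation,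
syntomic, smooth or etale, whatever the topology; for a property that is only etale local on the
base this fails: with P the property that the source is reduced, k = F_p(t) and f = g the morphism
Spec k(t^{1/p}) ⟶ Spec k, the base change of f along g has non-reduced source, so the largest open
for it is empty while the inverse image of W(f) = |Y| is everything. This row therefore asks (1) and
(2) for etale g, which is what the published proof uses. The syntomic topology case is not
included.) -/
theorem result {S : Scheme.{u}} {P : MorphismProperty (AlgSp.Sp S)}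
    (hP : AlgSp.IsLocalOnBase (AlgSp.IsEtCover (S := S)) P) {X Y : AlgSp.Space S} (f : X ⟶ Y) :
    ∃ W : TopologicalSpace.Opens (AlgSp.Points Y.obj),
      (∀ (W₀ X₀ : AlgSp.Space S) (j₀ : W₀ ⟶ Y) (j₀' : X₀ ⟶ X) (f₀ : X₀ ⟶ W₀),
        AlgSp.RepWith @IsOpenImmersion j₀.hom → Set.range (AlgSp.Points.map j₀.hom) = (W : Set (AlgSp.Points Y.obj)) →
        IsPullback j₀'.hom f₀.hom f.hom j₀.hom → P f₀.hom) ∧
      (∀ V : TopologicalSpace.Opens (AlgSp.Points Y.obj),
        (∀ (W₁ X₁ : AlgSp.Space S) (j₁ : W₁ ⟶ Y) (j₁' : X₁ ⟶ X) (f₁ : X₁ ⟶ W₁),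
        AlgSp.RepWith @IsOpenImmersion j₁.hom → Set.range (AlgSp.Points.map j₁.hom) = (V : Set (AlgSp.Points Y.obj)) →
        IsPullback j₁'.hom f₁.hom f.hom j₁.hom → P f₁.hom) → V ≤ W) ∧
      (∀ (Y' X' : AlgSp.Space S) (g : Y' ⟶ Y) (g' : X' ⟶ X) (f' : X' ⟶ Y'),
        AlgSp.IsEtaleMor g.hom → IsPullback g'.hom f'.hom f.hom g.hom → P f'.hom →
        Set.range (AlgSp.Points.map g.hom) ⊆ (W : Set (AlgSp.Points Y.obj))) ∧
      (∀ (Y' X' : AlgSp.Space S) (g : Y' ⟶ Y) (g' : X' ⟶ X) (f' : X' ⟶ Y'),
        AlgSp.IsEtaleMor g.hom → IsPullback g'.hom f'.hom f.hom g.hom →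
        ∀ W' : TopologicalSpace.Opens (AlgSp.Points Y'.obj),
          (∀ (W₂ X₂ : AlgSp.Space S) (j₂ : W₂ ⟶ Y') (j₂' : X₂ ⟶ X') (f₂ : X₂ ⟶ W₂),
        AlgSp.RepWith @IsOpenImmersion j₂.hom → Set.range (AlgSp.Points.map j₂.hom) = (W' : Set (AlgSp.Points Y'.obj)) →
        IsPullback j₂'.hom f₂.hom f'.hom j₂.hom → P f₂.hom) →
          (∀ V' : TopologicalSpace.Opens (AlgSp.Points Y'.obj),
            (∀ (W₃ X₃ : AlgSp.Space S) (j₃ : W₃ ⟶ Y') (j₃' : X₃ ⟶ X') (f₃ : X₃ ⟶ W₃),
        AlgSp.RepWith @IsOpenImmersion j₃.hom → Set.range (AlgSp.Points.map j₃.hom) = (V' : Set (AlgSp.Points Y'.obj)) →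
        IsPullback j₃'.hom f₃.hom f'.hom j₃.hom → P f₃.hom) → V' ≤ W') →
          (W' : Set (AlgSp.Points Y'.obj)) = AlgSp.Points.map g.hom ⁻¹' (W : Set (AlgSp.Points Y.obj))) := Groth.Agent.AlgSpLib.exists_largest_open Groth.Agent.AlgSpLib.openTopology_etale hP f
end Groth.Agent.S10576
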