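import Groth.Statements.S10578
import Groth.Agent.AlgSpWA.FP

set_option backward.isDefEq.respectTransparency false
set_option backward.isDefEq.respectTransparency.types false
-- import your own Groth.Agent.* helpers here

set_option autoImplicit false
universe u
open CategoryTheory CategoryTheory.Limits AlgebraicGeometry
open AlgSp

namespace Groth.Agent.S10578

/-- Let f : X ⟶ Y be a morphism of algebraic spaces over S which is finite and of finite presentation,
and F a quasi-coherent O_X-module (on the small etale site). Then F is of finite presentation
exactly when its direct image f_*F is of finite presentation as an O_Y-module. (Representability of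
f, implied by finiteness, is carried as an explicit hypothesis because the direct image functor is
defined for representable morphisms.) -/
theorem result {S : Scheme.{u}} {X Y : AlgSp.Space S} (f : X ⟶ Y)
    (hrep : AlgSp.Representable f.hom) (hfin : AlgSp.IsFiniteMor f.hom) (hfp : AlgSp.IsFinitePresentationMor f.hom)
    (F : AlgSp.ModEt X.obj) [F.IsQuasicoherent] :
    F.IsFinitePresentation ↔ ((AlgSp.pushModEt hrep).obj F).IsFinitePresentation := 
  Groth.Agent.AlgSpWA.isFinitePresentation_push_iff F hrep Y.property hfin hfp.1
end Groth.Agent.S10578
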