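import Groth.Statements.S10586
import Groth.Agent.AlgSpLib.EtTopInv
import Groth.Agent.AlgSpLib.EtLift

set_option backward.isDefEq.respectTransparency false
set_option backward.isDefEq.respectTransparency.types false
-- import your own Groth.Agent.* helpers here

set_option autoImplicit false
universe u
open CategoryTheory CategoryTheory.Limits AlgebraicGeometry
open AlgSp

namespace Groth.Agent.S10586

/-- Let i : X ⟶ X' be a thickening of algebraic spaces over S (representable, every base change to a
scheme a surjective closed immersion). Then base change along i is an equivalence from the small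
etale site of X' (schemes etale over X') to the small etale site of X. -/
theorem result {S : Scheme.{u}} {X X' : AlgSp.Space S} (i : X ⟶ X')
    (hi : AlgSp.IsThickMor i.hom) :
    (AlgSp.EtOver.bc hi.1).IsEquivalence :=  by
  have h1 : AlgSp.RepWith @IsIntegralHom i.hom := Groth.Agent.AlgSpLib.repWith_mono (P := AlgSp.thick)
    (fun _ _ k hk => by have : IsClosedImmersion k := hk.1; exact inferInstanceAs (IsIntegralHom k)) _ hi
  have h2 : AlgSp.RepWith @UniversallyInjective i.hom := Groth.Agent.AlgSpLib.repWith_mono (P := AlgSp.thick)
    (fun _ _ k hk => by have : IsClosedImmersion k := hk.1; exact inferInstanceAs (UniversallyInjective k)) _ hi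
  have h3 : AlgSp.RepWith @Surjective i.hom := Groth.Agent.AlgSpLib.repWith_mono (P := AlgSp.thick)
    (fun _ _ k hk => hk.2) _ hi
  have := Groth.Agent.AlgSpLib.EtTopInv.bc_faithful hi.1 h1 h2 h3
  have := Groth.Agent.AlgSpLib.EtTopInv.bc_full hi.1 h1 h2 h3
  have := Groth.Agent.AlgSpLib.EtLift.bc_essSurj X.property X'.property hi
  exact {}
end Groth.Agent.S10586
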