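import Groth.Statements.S10589
import Groth.Agent.AlgSpLib.ThickSep

set_option backward.isDefEq.respectTransparency false
set_option backward.isDefEq.respectTransparency.types false
-- import your own Groth.Agent.* helpers here

set_option autoImplicit false
universe u
open CategoryTheory CategoryTheory.Limits AlgebraicGeometry
open AlgSp

namespace Groth.Agent.S10589

/-- Consider a morphism (f, f') from the thickening X ⊂ X' to the thickening Y ⊂ Y' of algebraic spaces
over S, meaning: i : X ⟶ X' and j : Y ⟶ Y' are thickenings (representable, every base change to a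
scheme a surjective closed immersion) and i ≫ f' = f ≫ j. Then f is separated if and only if f' is
separated, and f is quasi-separated if and only if f' is quasi-separated. -/
theorem result {S : Scheme.{u}} {X X' Y Y' : AlgSp.Space S} (i : X ⟶ X') (j : Y ⟶ Y')
    (f : X ⟶ Y) (f' : X' ⟶ Y')
    (hi : AlgSp.IsThickMor i.hom)
    (hj : AlgSp.IsThickMor j.hom) (w : i ≫ f' = f ≫ j) :
    (AlgSp.IsSeparatedMor f.hom ↔ AlgSp.IsSeparatedMor f'.hom) ∧
    (AlgSp.IsQuasiSeparatedMor f.hom ↔ AlgSp.IsQuasiSeparatedMor f'.hom) :=  by
  have w' : i.hom ≫ f'.hom = f.hom ≫ j.hom := congrArg (fun t => t.hom) w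
  exact ⟨Groth.Agent.AlgSpLib.isSeparatedMor_iff_of_thick X.property X'.property Y.property Y'.property hi hj w',
    Groth.Agent.AlgSpLib.isQuasiSeparatedMor_iff_of_thick X.property X'.property Y.property Y'.property hi hj w'⟩
end Groth.Agent.S10589
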