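import Groth.Statements.S10592
import Groth.Agent.AlgSpLib.ThickProps

set_option backward.isDefEq.respectTransparency false
set_option backward.isDefEq.respectTransparency.types false
-- import your own Groth.Agent.* helpers here

set_option autoImplicit false
universe u
open CategoryTheory CategoryTheory.Limits AlgebraicGeometry
open AlgSp

namespace Groth.Agent.S10592

/-- Consider a morphism (f, f') from the thickening X ⊂ X' to the thickening Y ⊂ Y' of algebraic spaces
over S, meaning: i : X ⟶ X' and j : Y ⟶ Y' are thickenings (representable, every base change to a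
scheme a surjective closed immersion) and i ≫ f' = f ≫ j. Assume moreover that the square is
cartesian (X = Y ×_{Y'} X') and that i is a finite order thickening (for one n, on every affine
etale scheme chart of X' the (n+1)-st power of the ideal of the base change of X vanishes). Then f
is a closed immersion, resp. proper, resp. finite, resp. an immersion, if and only if f' is
(immersions of algebraic spaces being the representable ones). -/
theorem result {S : Scheme.{u}} {X X' Y Y' : AlgSp.Space S} (i : X ⟶ X') (j : Y ⟶ Y')
    (f : X ⟶ Y) (f' : X' ⟶ Y')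
    (hi : AlgSp.IsThickMor i.hom)
    (hj : AlgSp.IsThickMor j.hom) (w : i ≫ f' = f ≫ j)
    (hcart : IsPullback i.hom f.hom f'.hom j.hom)
    (hfo : AlgSp.IsFinThickMor i.hom) :
    (AlgSp.RepWith @IsClosedImmersion f.hom ↔ AlgSp.RepWith @IsClosedImmersion f'.hom) ∧
    (AlgSp.IsProperMor f.hom ↔ AlgSp.IsProperMor f'.hom) ∧
    (AlgSp.IsFiniteMor f.hom ↔ AlgSp.IsFiniteMor f'.hom) ∧
    (AlgSp.RepWith @IsImmersion f.hom ↔ AlgSp.RepWith @IsImmersion f'.hom) :=  by
  have hl := Groth.Agent.AlgSpLib.ThickProps.lft_iff X'.property Y.property Y'.property hfo hj hcart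
  refine ⟨⟨fun h => ?_, fun h => Groth.Agent.AlgSpLib.repWith_of_isPullback hcart h⟩, ⟨fun h => ?_, fun h => ?_⟩,
    ⟨fun h => ?_, fun h => ?_⟩, ⟨fun h => ?_, fun h => Groth.Agent.AlgSpLib.repWith_of_isPullback hcart h⟩⟩
  · exact (Groth.Agent.AlgSpLib.ThickProps.isClosedImmersion_iff_of_lft X.property X'.property Y.property
      Y'.property hi hj hcart (hl.1 (Groth.Agent.AlgSpLib.locP_of_repWith
        (Groth.Agent.AlgSpLib.repWith_mono (Q := @LocallyOfFiniteType)
          (fun _ _ g (_ : IsClosedImmersion g) => inferInstanceAs (LocallyOfFiniteType g)) _ h)))).1 h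
  · exact (Groth.Agent.AlgSpLib.ThickProps.isProperMor_iff_of_lft X.property X'.property Y.property
      Y'.property hi hj hcart (hl.1 h.2.1.1)).1 h
  · exact (Groth.Agent.AlgSpLib.ThickProps.isProperMor_iff_of_lft X.property X'.property Y.property
      Y'.property hi hj hcart h.2.1.1).2 h
  · exact (Groth.Agent.AlgSpLib.ThickProps.isFiniteMor_iff_of_lft X.property X'.property Y.property
      Y'.property hi hj hcart (hl.1 (Groth.Agent.AlgSpLib.locP_of_repWith
        (Groth.Agent.AlgSpLib.repWith_mono (Q := @LocallyOfFiniteType)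
          (fun _ _ g (_ : IsFinite g) => inferInstanceAs (LocallyOfFiniteType g)) _
          (Groth.Agent.AlgSpDec.isFiniteMor_iff_repWith.1 h))))).1 h
  · exact Groth.Agent.AlgSpDec.isFiniteMor_iff_repWith.2
      (Groth.Agent.AlgSpLib.repWith_of_isPullback hcart (Groth.Agent.AlgSpDec.isFiniteMor_iff_repWith.1 h))
  · exact (Groth.Agent.AlgSpLib.ThickProps.isImmersion_iff_of_lft X.property X'.property Y.property
      Y'.property hi hj hcart (hl.1 (Groth.Agent.AlgSpLib.locP_of_repWith
        (Groth.Agent.AlgSpLib.repWith_mono (Q := @LocallyOfFiniteType)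
          (fun _ _ g (_ : IsImmersion g) => inferInstanceAs (LocallyOfFiniteType g)) _ h)))).1 h
end Groth.Agent.S10592
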