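import Groth.Statements.S10594
import Groth.Agent.AlgSpLib.ThickProps

set_option backward.isDefEq.respectTransparency false
set_option backward.isDefEq.respectTransparency.types false
-- import your own Groth.Agent.* helpers here

set_option autoImplicit false
universe u
open CategoryTheory CategoryTheory.Limits AlgebraicGeometry
open AlgSp

namespace Groth.Agent.S10594

/-- Consider a morphism (f, f') from the thickening X ⊂ X' to the thickening Y ⊂ Y' of algebraic spaces
over S, meaning: i : X ⟶ X' and j : Y ⟶ Y' are thickenings (representable, every base change to a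
scheme a surjective closed immersion) and i ≫ f' = f ≫ j. Assume moreover that the square is
cartesian (X = Y ×_{Y'} X') and that f and f' are locally of finite type. Then f is finite, resp. a
closed immersion, resp. an immersion, resp. proper, if and only if f' is (immersions of algebraic
spaces being the representable ones). -/
theorem result {S : Scheme.{u}} {X X' Y Y' : AlgSp.Space S} (i : X ⟶ X') (j : Y ⟶ Y')
    (f : X ⟶ Y) (f' : X' ⟶ Y')
    (hi : AlgSp.IsThickMor i.hom)
    (hj : AlgSp.IsThickMor j.hom) (w : i ≫ f' = f ≫ j)
    (hcart : IsPullback i.hom f.hom f'.hom j.hom)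
    (hft : AlgSp.LocP @LocallyOfFiniteType f.hom) (hft' : AlgSp.LocP @LocallyOfFiniteType f'.hom) :
    (AlgSp.IsFiniteMor f.hom ↔ AlgSp.IsFiniteMor f'.hom) ∧
    (AlgSp.RepWith @IsClosedImmersion f.hom ↔ AlgSp.RepWith @IsClosedImmersion f'.hom) ∧
    (AlgSp.RepWith @IsImmersion f.hom ↔ AlgSp.RepWith @IsImmersion f'.hom) ∧
    (AlgSp.IsProperMor f.hom ↔ AlgSp.IsProperMor f'.hom) := 
  ⟨Groth.Agent.AlgSpLib.ThickProps.isFiniteMor_iff_of_lft X.property X'.property Y.property Y'.property hi hj hcart hft',
    Groth.Agent.AlgSpLib.ThickProps.isClosedImmersion_iff_of_lft X.property X'.property Y.property Y'.property hi hj hcart hft',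
    Groth.Agent.AlgSpLib.ThickProps.isImmersion_iff_of_lft X.property X'.property Y.property Y'.property hi hj hcart hft',
    Groth.Agent.AlgSpLib.ThickProps.isProperMor_iff_of_lft X.property X'.property Y.property Y'.property hi hj hcart hft'⟩
end Groth.Agent.S10594
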