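import Groth.Statements.S10599
import Groth.Agent.AlgSpLib.ThickFlat

set_option backward.isDefEq.respectTransparency false
set_option backward.isDefEq.respectTransparency.types false
-- import your own Groth.Agent.* helpers here

set_option autoImplicit false
universe u
open CategoryTheory CategoryTheory.Limits AlgebraicGeometry
open AlgSp

namespace Groth.Agent.S10599

/-- Let iB : B ⟶ B' be a thickening of algebraic spaces over S (representable, every base change to a
scheme a surjective closed immersion), f' : X' ⟶ Y' a morphism of algebraic spaces over B' (via g' :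
Y' ⟶ B') with Y' locally of finite type over B' and X' flat and locally of finite presentation over
B', and f : X ⟶ Y, g : Y ⟶ B its base change to B (both squares to iB cartesian, iX ≫ f' = f ≫ iY).
Then f is locally of finite type of relative dimension d, resp. flat, resp. locally quasi-finite,
smooth, unramified, etale, if and only if f' is (etale-local sense; locally quasi-finite and
unramified include locally of finite type). -/
theorem result {S : Scheme.{u}} {X X' Y Y' B B' : AlgSp.Space S} (iX : X ⟶ X') (iY : Y ⟶ Y') (iB : B ⟶ B')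
    (f : X ⟶ Y) (f' : X' ⟶ Y') (g : Y ⟶ B) (g' : Y' ⟶ B')
    (hcX : IsPullback iX.hom (f ≫ g).hom (f' ≫ g').hom iB.hom) (hcY : IsPullback iY.hom g.hom g'.hom iB.hom)
    (w : iX ≫ f' = f ≫ iY)
    (hB : AlgSp.IsThickMor iB.hom)
    (hg' : AlgSp.LocP @LocallyOfFiniteType g'.hom)
    (hflat : AlgSp.LocP @Flat (f' ≫ g').hom) (hfp : AlgSp.LocP @LocallyOfFinitePresentation (f' ≫ g').hom) (d : ℕ) :
    ((AlgSp.LocP @LocallyOfFiniteType f.hom ∧
        ∀ x, AlgSp.HasAtMor (fun _ _ h u => FlatMor.fibreDimAt h u = (d : WithBot ℕ∞)) f.hom x) ↔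
      (AlgSp.LocP @LocallyOfFiniteType f'.hom ∧
        ∀ x', AlgSp.HasAtMor (fun _ _ h u => FlatMor.fibreDimAt h u = (d : WithBot ℕ∞)) f'.hom x')) ∧
    (AlgSp.LocP @Flat f.hom ↔ AlgSp.LocP @Flat f'.hom) ∧
    (AlgSp.LocP (@LocallyQuasiFinite ⊓ @LocallyOfFiniteType) f.hom ↔
      AlgSp.LocP (@LocallyQuasiFinite ⊓ @LocallyOfFiniteType) f'.hom) ∧
    (AlgSp.LocP @Smooth f.hom ↔ AlgSp.LocP @Smooth f'.hom) ∧
    (AlgSp.LocP (@LocallyOfFiniteType ⊓ @FormallyUnramified) f.hom ↔
      AlgSp.LocP (@LocallyOfFiniteType ⊓ @FormallyUnramified) f'.hom) ∧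
    (AlgSp.IsEtaleMor f.hom ↔ AlgSp.IsEtaleMor f'.hom) :=  by
  have D : Groth.Agent.AlgSpLib.ThickFlat.Datum iX.hom iY.hom iB.hom f.hom f'.hom g.hom g'.hom :=
    ⟨X.property, X'.property, Y.property, Y'.property, B'.property, hcX, hcY, congrArg (fun t => t.hom) w,
      ⟨hB, Or.inr ⟨hg', hfp⟩⟩, hflat⟩
  exact ⟨D.relDim_iff _, D.flat_iff, D.lqf_iff, D.smooth_iff, D.unram_iff, D.etale_iff⟩
end Groth.Agent.S10599
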