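import Groth.Statements.S10600
import Groth.Agent.AlgSpLib.ThickFlat

set_option backward.isDefEq.respectTransparency false
set_option backward.isDefEq.respectTransparency.types false
-- import your own Groth.Agent.* helpers here

set_option autoImplicit false
universe u
open CategoryTheory CategoryTheory.Limits AlgebraicGeometry
open AlgSp

namespace Groth.Agent.S10600

/-- Let iB : B ⟶ B' be a thickening of algebraic spaces over S (representable, every base change to a
scheme a surjective closed immersion), f' : X' ⟶ Y' a morphism of algebraic spaces over B' (via g' :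
Y' ⟶ B') with Y' locally of finite type over B' and X' flat and locally of finite presentation over
B', and f : X ⟶ Y, g : Y ⟶ B its base change to B (both squares to iB cartesian, iX ≫ f' = f ≫ iY).
Then f is an isomorphism, resp. an open immersion, resp. a monomorphism, resp. finite locally free,
resp. finite locally free of degree d, if and only if f' is. -/
theorem result {S : Scheme.{u}} {X X' Y Y' B B' : AlgSp.Space S} (iX : X ⟶ X') (iY : Y ⟶ Y') (iB : B ⟶ B')
    (f : X ⟶ Y) (f' : X' ⟶ Y') (g : Y ⟶ B) (g' : Y' ⟶ B')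
    (hcX : IsPullback iX.hom (f ≫ g).hom (f' ≫ g').hom iB.hom) (hcY : IsPullback iY.hom g.hom g'.hom iB.hom)
    (w : iX ≫ f' = f ≫ iY)
    (hB : AlgSp.IsThickMor iB.hom)
    (hg' : AlgSp.LocP @LocallyOfFiniteType g'.hom)
    (hflat : AlgSp.LocP @Flat (f' ≫ g').hom) (hfp : AlgSp.LocP @LocallyOfFinitePresentation (f' ≫ g').hom) :
    (IsIso f.hom ↔ IsIso f'.hom) ∧
    (AlgSp.RepWith @IsOpenImmersion f.hom ↔ AlgSp.RepWith @IsOpenImmersion f'.hom) ∧
    (Mono f.hom ↔ Mono f'.hom) ∧
    (AlgSp.IsFinLocFreeMor f.hom ↔ AlgSp.IsFinLocFreeMor f'.hom) ∧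
    (∀ d : ℕ, AlgSp.IsFinLocFreeOfDegMor d f.hom ↔ AlgSp.IsFinLocFreeOfDegMor d f'.hom) :=  by
  have D : Groth.Agent.AlgSpLib.ThickFlat.Datum iX.hom iY.hom iB.hom f.hom f'.hom g.hom g'.hom :=
    ⟨X.property, X'.property, Y.property, Y'.property, B'.property, hcX, hcY, congrArg (fun t => t.hom) w,
      ⟨hB, Or.inr ⟨hg', hfp⟩⟩, hflat⟩
  exact ⟨D.isIso_iff, D.isOpenImmersion_iff, D.mono_iff, D.finLocFree_iff, D.finLocFreeOfDeg_iff⟩
end Groth.Agent.S10600
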