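import Groth.Statements.S9940
import Groth.Agent.AlgSpPts.Descent
-- import your own Groth.Agent.* helpers here

set_option autoImplicit false
universe u
open CategoryTheory CategoryTheory.Limits AlgebraicGeometry
open AlgSp

namespace Groth.Agent.S9940

set_option backward.isDefEq.respectTransparency false
set_option backward.isDefEq.respectTransparency.types false

open AlgSp Groth.Agent.AlgSpLib Groth.Agent.AlgSpPts

/-- (4) ⇒ (1): universal injectivity of a morphism of algebraic spaces descends along a surjective base
change from a scheme. -/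
theorem result {S : Scheme.{u}} {X Y : AlgSp.Space S} (f : X ⟶ Y)
    (Z : Over S) (g : (AlgSp.yon S).obj Z ⟶ Y.obj) (hg : AlgSp.IsSurjectiveMor g) {P : AlgSp.Sp S}
    (fst : P ⟶ X.obj) (snd : P ⟶ (AlgSp.yon S).obj Z) (sq : IsPullback fst snd f.hom g)
    (h : AlgSp.IsUnivInjectiveMor snd) : AlgSp.IsUnivInjectiveMor f.hom :=  by
  intro W W' hW k fst' snd' sq'
  intro x x' hxx
  have sqT := IsPullback.of_hasPullback k g
  obtain ⟨z, hz⟩ := hg (Points.map k (Points.map snd' x))
  obtain ⟨t, ht1, ht2⟩ := exists_point_of_isPullback sqT hz.symm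
  have sqW := IsPullback.of_hasPullback snd' (pullback.fst k g)
  obtain ⟨y, hy1, hy2⟩ := exists_point_of_isPullback sqW ht1.symm
  obtain ⟨y', hy1', hy2'⟩ := exists_point_of_isPullback sqW (hxx.symm.trans ht1.symm)
  let m : pullback snd' (pullback.fst k g) ⟶ P := sq.lift (pullback.fst _ _ ≫ fst')
    (pullback.snd _ _ ≫ pullback.snd k g) (by
      rw [Category.assoc, sq'.w, ← Category.assoc, pullback.condition, Category.assoc, pullback.condition,
        Category.assoc])
  have sqm : IsPullback m (pullback.snd snd' (pullback.fst k g)) snd (pullback.snd k g) := by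
    refine IsPullback.of_right ?_ (sq.lift_snd _ _ _) sq
    rw [IsPullback.lift_fst, ← pullback.condition]
    exact sqW.paste_horiz sq'
  have := h (isAlgSpace_pullback hW (IsAlgSpace.yon_obj Z) Y.property k g) _ _ _ sqm (hy2.trans hy2'.symm)
  rw [← hy1, ← hy1', this]


end Groth.Agent.S9940
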