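import Groth.Statements.S10601
import Groth.Agent.AlgSpPts.InjEtale
import Groth.Agent.S9938
import Groth.Agent.S9940

set_option backward.isDefEq.respectTransparency false
set_option backward.isDefEq.respectTransparency.types false
-- import your own Groth.Agent.* helpers here

set_option autoImplicit false
universe u
open CategoryTheory CategoryTheory.Limits AlgebraicGeometry
open AlgSp Groth.Agent.AlgSpLib

namespace Groth.Agent.S10601

/-- Take a morphism f : X ⟶ Y of algebraic spaces over S that is locally of finite type and such that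
for every etale morphism V ⟶ Y of algebraic spaces the base change X ×_Y V ⟶ V is injective on
points. Then f is universally injective. -/
theorem result {S : Scheme.{u}} {X Y : AlgSp.Space S} (f : X ⟶ Y)
    (hft : AlgSp.LocP @LocallyOfFiniteType f.hom)
    (hinj : ∀ (V : AlgSp.Space S) (g : V ⟶ Y), AlgSp.IsEtaleMor g.hom →
      ∀ (P : AlgSp.Sp S) (fst : P ⟶ X.obj) (snd : P ⟶ V.obj), IsPullback fst snd f.hom g.hom →
        Function.Injective (AlgSp.Points.map snd)) :
    AlgSp.IsUnivInjectiveMor f.hom :=  by
  obtain ⟨-, Z, g, hg, hgs⟩ := Y.property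
  have sq := IsPullback.of_hasPullback f.hom g
  have hP : IsAlgSpace (pullback f.hom g) :=
    isAlgSpace_of_isPullback sq X.property (IsAlgSpace.yon_obj Z) Y.property
  refine S9940.result f Z g (surjective_map_of_repWith hgs) _ _ sq ?_
  let q' : (⟨pullback f.hom g, hP⟩ : AlgSp.Space S) ⟶ ⟨(yon S).obj Z, IsAlgSpace.yon_obj Z⟩ :=
    ObjectProperty.homMk (pullback.snd f.hom g)
  obtain ⟨-, U, p, hp, hps⟩ := id hP
  let h : U ⟶ Z := (yon S).preimage (p ≫ pullback.snd f.hom g)
  have hq : p ≫ pullback.snd f.hom g = (yon S).map h := ((yon S).map_preimage _).symm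
  have hfst : RepWith @Etale (pullback.fst f.hom g) :=
    MorphismProperty.pullback_fst _ _ hg
  have hh : LocallyOfFiniteType h.left :=
    hft (p ≫ pullback.fst f.hom g) g h (MorphismProperty.comp_mem _ _ _ hp hfst) hg
      (by rw [Category.assoc, sq.w, ← Category.assoc, hq])
  have hd := AlgSpPts.InjEtale.isSurjectiveMor_diagonal p (pullback.snd f.hom g) h hp hps hq hh
    (fun V e he => ?_)
  · exact (S9938.result q').2.2 hd
  · refine hinj ⟨(yon S).obj V, IsAlgSpace.yon_obj V⟩ (ObjectProperty.homMk ((yon S).map e ≫ g)) ?_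
      _ (pullback.fst (pullback.snd f.hom g) ((yon S).map e) ≫ pullback.fst f.hom g) _ ?_
    · intro W φ hφ
      exact MorphismProperty.comp_mem _ _ _ hφ
        (MorphismProperty.comp_mem _ _ _ ((repWith_yon_map_iff _ _).2 he) hg)
    · exact (IsPullback.of_hasPullback (pullback.snd f.hom g) ((yon S).map e)).flip.paste_vert sq.flip |>.flip
end Groth.Agent.S10601
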