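import Groth.Statements.S10602
import Groth.Agent.AlgSpDec.SmoothCriteria

set_option backward.isDefEq.respectTransparency false
set_option backward.isDefEq.respectTransparency.types false
-- import your own Groth.Agent.* helpers here

set_option autoImplicit false
universe u
open CategoryTheory CategoryTheory.Limits AlgebraicGeometry
open AlgSp

namespace Groth.Agent.S10602

/-- Take a morphism f : X ⟶ Y of algebraic spaces over S that is locally of finite type, with Y locally
Noetherian. Then f is smooth if and only if for every surjection π : B' → B of Artinian local rings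
whose kernel is principal and killed by the maximal ideal of B', every structure map Spec B' ⟶ S,
every α : Spec B ⟶ X and every β : Spec B' ⟶ Y locally of finite type with α ≫ f = Spec(π) ≫ β,
there is γ : Spec B' ⟶ X with Spec(π) ≫ γ = α and γ ≫ f = β. (The published statement asks for lifts
only against β of finite type, which can be vacuous when Y is not quasi-separated; this row asks for
lifts against every β locally of finite type.) -/
theorem result {S : Scheme.{u}} {X Y : AlgSp.Space S} (f : X ⟶ Y)
    (hY : AlgSp.IsLocNoethSp Y.obj) (hft : AlgSp.LocP @LocallyOfFiniteType f.hom) :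
    AlgSp.LocP @Smooth f.hom ↔
      ∀ (B' B : Type u) [CommRing B'] [CommRing B] [IsLocalRing B'] [IsLocalRing B]
        [IsArtinianRing B'] [IsArtinianRing B] (π : B' →+* B), Function.Surjective π →
        (∃ t : B', RingHom.ker π = Ideal.span {t} ∧ ∀ a ∈ IsLocalRing.maximalIdeal B', a * t = 0) →
        ∀ (s : Spec (CommRingCat.of B') ⟶ S)
          (α : (AlgSp.yon S).obj (Over.mk (Spec.map (CommRingCat.ofHom π) ≫ s)) ⟶ X.obj)
          (β : (AlgSp.yon S).obj (Over.mk s) ⟶ Y.obj),
          AlgSp.LocP @LocallyOfFiniteType β →
          α ≫ f.hom = (AlgSp.yon S).map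
            (Over.homMk (Spec.map (CommRingCat.ofHom π)) :
              Over.mk (Spec.map (CommRingCat.ofHom π) ≫ s) ⟶ Over.mk s) ≫ β →
          ∃ γ : (AlgSp.yon S).obj (Over.mk s) ⟶ X.obj,
            (AlgSp.yon S).map (Over.homMk (Spec.map (CommRingCat.ofHom π)) :
              Over.mk (Spec.map (CommRingCat.ofHom π) ≫ s) ⟶ Over.mk s) ≫ γ = α ∧ γ ≫ f.hom = β := 
  Groth.Agent.AlgSpDec.SmoothCriteria.smooth_iff_small f.hom hY hft
end Groth.Agent.S10602
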