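import Groth.Statements.S10605
import Groth.Agent.AlgSpLib.ClosedImmDesc

set_option backward.isDefEq.respectTransparency false
set_option backward.isDefEq.respectTransparency.types false
-- import your own Groth.Agent.* helpers here

set_option autoImplicit false
universe u
open CategoryTheory CategoryTheory.Limits AlgebraicGeometry
open AlgSp

namespace Groth.Agent.S10605

/-- The property of a morphism of algebraic spaces over S of being a thickening (representable, every
base change to a scheme a surjective closed immersion) is local on the base for the fpqc topology.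
(The published statement also claims the same for first order thickenings; this row states only the
thickening clause.) -/
theorem result {S : Scheme.{u}} :
    AlgSp.IsLocalOnBase (S := S) AlgSp.IsFpqcCover
      AlgSp.IsThickMor := by
  intro ι Y Yi g hY hYi hg X f hX Xi p q hXi sq
  refine ⟨fun hf i => Groth.Agent.AlgSpLib.repWith_of_isPullback (P := AlgSp.thick) (sq i) hf, fun hp => ?_⟩
  have hci := (Groth.Agent.AlgSpLib.isLocalOnBase_fpqc_isClosedImmersion Yi g hY hYi hg f hX Xi p q hXi sq).2
    fun i => ((Groth.Agent.AlgSpLib.repWith_inf_iff (P := @IsClosedImmersion) (Q := @Surjective) (p i)).1 (hp i)).1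
  refine (Groth.Agent.AlgSpLib.repWith_inf_iff f).2 ⟨hci, (Groth.Agent.AlgSpLib.repWith_surjective_iff hci.1).2 ?_⟩
  exact Groth.Agent.AlgSpLib.surjective_map_of_fpqc hg sq fun i =>
    Groth.Agent.AlgSpLib.surjective_map_of_repWith
      ((Groth.Agent.AlgSpLib.repWith_inf_iff (P := @IsClosedImmersion) (Q := @Surjective) (p i)).1 (hp i)).2
end Groth.Agent.S10605
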