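import Groth.Statements.S10607
import Groth.Agent.AlgSpLib.UHEssSurj
import Groth.Agent.AlgSpDec.AffineRep
import Groth.Agent.AlgSpPts.Univ

set_option backward.isDefEq.respectTransparency false
set_option backward.isDefEq.respectTransparency.types false
-- import your own Groth.Agent.* helpers here

set_option autoImplicit false
universe u
open CategoryTheory CategoryTheory.Limits AlgebraicGeometry
open AlgSp

namespace Groth.Agent.S10607

/-- Take a morphism f : X ⟶ Y of algebraic spaces over S that is integral, universally injective and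
surjective. Then V ↦ X ×_Y V is an equivalence from the category of algebraic spaces etale over Y to
the category of algebraic spaces etale over X, stated through pullback squares: (full faithfulness)
given V₁', V₂' etale over Y with base changes V₁, V₂ to X, every morphism V₁ ⟶ V₂ over X is the base
change of a unique morphism V₁' ⟶ V₂' over Y; (essential surjectivity) every algebraic space etale
over X is the base change of an algebraic space etale over Y. -/
theorem result {S : Scheme.{u}}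
    {X Y : AlgSp.Space S} (f : X ⟶ Y) (h1 : AlgSp.IsIntegralMor f.hom) (h2 : AlgSp.IsUnivInjectiveMor f.hom)
    (h3 : AlgSp.IsSurjectiveMor f.hom) :
    (∀ (V₁' V₂' V₁ V₂ : AlgSp.Space S) (a₁ : V₁' ⟶ Y) (a₂ : V₂' ⟶ Y) (b₁ : V₁ ⟶ X) (b₂ : V₂ ⟶ X)
        (c₁ : V₁ ⟶ V₁') (c₂ : V₂ ⟶ V₂'),
        AlgSp.IsEtaleMor a₁.hom → AlgSp.IsEtaleMor a₂.hom →
        IsPullback b₁.hom c₁.hom f.hom a₁.hom → IsPullback b₂.hom c₂.hom f.hom a₂.hom →
        ∀ φ : V₁ ⟶ V₂, φ ≫ b₂ = b₁ →
          ∃! φ' : V₁' ⟶ V₂', φ' ≫ a₂ = a₁ ∧ c₁ ≫ φ' = φ ≫ c₂) ∧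
    (∀ (V : AlgSp.Space S) (b : V ⟶ X), AlgSp.IsEtaleMor b.hom →
        ∃ (V' : AlgSp.Space S) (a : V' ⟶ Y) (c : V ⟶ V'),
          AlgSp.IsEtaleMor a.hom ∧ IsPullback b.hom c.hom f.hom a.hom) :=  by
  have hi := (Groth.Agent.AlgSpDec.isIntegralMor_iff_repWith).1 h1
  have hu : AlgSp.RepWith @UniversallyInjective f.hom := Groth.Agent.AlgSpLib.repWith_mono
    (P := (topologically fun φ => Function.Injective φ).universally)
    (fun _ _ k hk => by
      rw [universallyInjective_iff]
      exact hk) _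
    (Groth.Agent.AlgSpPts.repWith_universally_of_univSp (P := topologically fun φ => Function.Injective φ)
      (fun V U g hg => by
        show Function.Injective g.left
        rw [Groth.Agent.AlgSpPts.left_eq_conj g]
        exact (AlgSp.Points.schemeHomeo U).symm.injective.comp
          (hg.comp (AlgSp.Points.schemeHomeo V).injective)) hi.rep h2)
  have hf : Groth.Agent.AlgSpLib.UHDesc.IsUH f.hom :=
    ⟨hi, hu, Groth.Agent.AlgSpLib.repWith_surjective_of_surjective hi.rep h3⟩
  refine ⟨fun V₁' V₂' V₁ V₂ a₁ a₂ b₁ b₂ c₁ c₂ ha₁ ha₂ sq₁ sq₂ φ hφ => ?_, fun V b hb => ?_⟩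
  · have hc : Groth.Agent.AlgSpLib.UHDesc.IsUH c₁.hom := hf.of_isPullback sq₁

    obtain ⟨ψ, ⟨e1, e2⟩, hu⟩ := Groth.Agent.AlgSpLib.UHDesc.existsUnique_hom V₁'.property V₂'.property
      Y.property ha₂ hc a₁.hom ((φ ≫ c₂).hom) (by
        have := congrArg (fun k => k.hom ≫ f.hom) hφ
        simp only [ObjectProperty.FullSubcategory.comp_hom, Category.assoc] at this ⊢
        rw [← sq₂.w, this, sq₁.w])
    refine ⟨ObjectProperty.homMk ψ, ⟨ObjectProperty.hom_ext _ e1, ObjectProperty.hom_ext _ e2⟩,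
      fun ψ' ⟨h1', h2'⟩ => ObjectProperty.hom_ext _ (hu ψ'.hom ⟨congrArg (·.hom) h1', congrArg (·.hom) h2'⟩)⟩
  · obtain ⟨V', hV', a, c, ha, sq⟩ :=
      Groth.Agent.AlgSpLib.UHDesc.exists_descent X.property Y.property V.property hf hb
    exact ⟨⟨V', hV'⟩, ObjectProperty.homMk a, ObjectProperty.homMk c, ha, sq⟩
end Groth.Agent.S10607
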