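import Groth.Statements.S10608
import Groth.Agent.AlgSpDec.SmoothCriteria

set_option backward.isDefEq.respectTransparency false
set_option backward.isDefEq.respectTransparency.types false
-- import your own Groth.Agent.* helpers here

set_option autoImplicit false
universe u
open CategoryTheory CategoryTheory.Limits AlgebraicGeometry
open AlgSp

namespace Groth.Agent.S10608

/-- Take a morphism f : X ⟶ Y of algebraic spaces over S that is locally of finite type, with Y locally
Noetherian, and let x be a point of X. The following are equivalent: (1) f is smooth at x (in some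
chart diagram through x the chart morphism is smooth on an open neighbourhood); (2) for every
surjection π : B' → B of local rings with kernel of square zero, every structure map Spec B' ⟶ S,
every α : Spec B ⟶ X sending the closed point to x and every β : Spec B' ⟶ Y with α ≫ f = Spec(π) ≫
β there is γ : Spec B' ⟶ X with Spec(π) ≫ γ = α and γ ≫ f = β; (3) the same for π ranging over
surjections of Artinian local rings with kernel principal and killed by the maximal ideal. Stated as
(1) ↔ (2) and (1) ↔ (3). -/
theorem result {S : Scheme.{u}} {X Y : AlgSp.Space S} (f : X ⟶ Y)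
    (hY : AlgSp.IsLocNoethSp Y.obj) (hft : AlgSp.LocP @LocallyOfFiniteType f.hom) (x : AlgSp.Points X.obj) :
    (AlgSp.HasAtMor (fun U _ h u => ∃ W : U.Opens, u ∈ W ∧ Smooth (W.ι ≫ h)) f.hom x ↔
      ∀ (B' B : Type u) [CommRing B'] [CommRing B] [IsLocalRing B'] [IsLocalRing B] (π : B' →+* B),
        Function.Surjective π → RingHom.ker π ^ 2 = ⊥ →
        ∀ (s : Spec (CommRingCat.of B') ⟶ S)
          (α : (AlgSp.yon S).obj (Over.mk (Spec.map (CommRingCat.ofHom π) ≫ s)) ⟶ X.obj)
          (β : (AlgSp.yon S).obj (Over.mk s) ⟶ Y.obj),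
          AlgSp.Points.ofPt α (IsLocalRing.closedPoint B) = x →
          α ≫ f.hom = (AlgSp.yon S).map
            (Over.homMk (Spec.map (CommRingCat.ofHom π)) :
              Over.mk (Spec.map (CommRingCat.ofHom π) ≫ s) ⟶ Over.mk s) ≫ β →
          ∃ γ : (AlgSp.yon S).obj (Over.mk s) ⟶ X.obj,
            (AlgSp.yon S).map (Over.homMk (Spec.map (CommRingCat.ofHom π)) :
              Over.mk (Spec.map (CommRingCat.ofHom π) ≫ s) ⟶ Over.mk s) ≫ γ = α ∧ γ ≫ f.hom = β) ∧
    (AlgSp.HasAtMor (fun U _ h u => ∃ W : U.Opens, u ∈ W ∧ Smooth (W.ι ≫ h)) f.hom x ↔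
      ∀ (B' B : Type u) [CommRing B'] [CommRing B] [IsLocalRing B'] [IsLocalRing B]
        [IsArtinianRing B'] [IsArtinianRing B] (π : B' →+* B), Function.Surjective π →
        (∃ t : B', RingHom.ker π = Ideal.span {t} ∧ ∀ a ∈ IsLocalRing.maximalIdeal B', a * t = 0) →
        ∀ (s : Spec (CommRingCat.of B') ⟶ S)
          (α : (AlgSp.yon S).obj (Over.mk (Spec.map (CommRingCat.ofHom π) ≫ s)) ⟶ X.obj)
          (β : (AlgSp.yon S).obj (Over.mk s) ⟶ Y.obj),
          AlgSp.Points.ofPt α (IsLocalRing.closedPoint B) = x →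
          α ≫ f.hom = (AlgSp.yon S).map
            (Over.homMk (Spec.map (CommRingCat.ofHom π)) :
              Over.mk (Spec.map (CommRingCat.ofHom π) ≫ s) ⟶ Over.mk s) ≫ β →
          ∃ γ : (AlgSp.yon S).obj (Over.mk s) ⟶ X.obj,
            (AlgSp.yon S).map (Over.homMk (Spec.map (CommRingCat.ofHom π)) :
              Over.mk (Spec.map (CommRingCat.ofHom π) ≫ s) ⟶ Over.mk s) ≫ γ = α ∧ γ ≫ f.hom = β) := 
  Groth.Agent.AlgSpDec.SmoothCriteria.smoothAt_iff f.hom hY hft x
end Groth.Agent.S10608
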