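import Groth.Statements.S10611
import Groth.Agent.AlgSpLib.ThickFlat
import Groth.Agent.AlgSpLib.FlatAt

set_option backward.isDefEq.respectTransparency false
set_option backward.isDefEq.respectTransparency.types false
-- import your own Groth.Agent.* helpers here

set_option autoImplicit false
universe u
open CategoryTheory CategoryTheory.Limits AlgebraicGeometry
open AlgSp Groth.Agent.AlgSpLib

namespace Groth.Agent.S10611

/-- Let iB : B ⟶ B' be a thickening of algebraic spaces over S (representable, every base change to a
scheme a surjective closed immersion), f' : X' ⟶ Y' a morphism of algebraic spaces over B' (via g' :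
Y' ⟶ B') with Y' locally of finite type over B' and X' flat and locally of finite presentation over
B', and f : X ⟶ Y, g : Y ⟶ B its base change to B (both squares to iB cartesian, iX ≫ f' = f ≫ iY).
Then f is proper if and only if f' is proper, and f is finite if and only if f' is finite. (The
published statement lists nine further properties with the same equivalence: representable by
schemes, quasi-compact, universally closed, separated, quasi-separated, surjective, universally
injective, affine and universally open. Since iX and iY are again thickenings and X = Y ×_{Y'} X',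
those cases follow from the corresponding statements for morphisms of thickenings and are not
restated here.) -/
theorem result {S : Scheme.{u}} {X X' Y Y' B B' : AlgSp.Space S} (iX : X ⟶ X') (iY : Y ⟶ Y') (iB : B ⟶ B')
    (f : X ⟶ Y) (f' : X' ⟶ Y') (g : Y ⟶ B) (g' : Y' ⟶ B')
    (hcX : IsPullback iX.hom (f ≫ g).hom (f' ≫ g').hom iB.hom) (hcY : IsPullback iY.hom g.hom g'.hom iB.hom)
    (w : iX ≫ f' = f ≫ iY)
    (hB : AlgSp.IsThickMor iB.hom)
    (hg' : AlgSp.LocP @LocallyOfFiniteType g'.hom)
    (hflat : AlgSp.LocP @Flat (f' ≫ g').hom) (hfp : AlgSp.LocP @LocallyOfFinitePresentation (f' ≫ g').hom) :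
    (AlgSp.IsProperMor f.hom ↔ AlgSp.IsProperMor f'.hom) ∧
    (AlgSp.IsFiniteMor f.hom ↔ AlgSp.IsFiniteMor f'.hom) :=  by
  have hc : IsPullback iX.hom f.hom f'.hom iY.hom := IsPullback.of_bot hcX (congrArg (fun t => t.hom) w) hcY
  have hiY : IsThickMor iY.hom := repWith_of_isPullback hcY.flip hB
  have hiX : IsThickMor iX.hom := repWith_of_isPullback hc.flip hiY
  have hft : LocP @LocallyOfFiniteType f'.hom := locP_mono (fun _ _ k (_ : LocallyOfFinitePresentation k) =>
      inferInstanceAs (LocallyOfFiniteType k))
    (Groth.Agent.AlgSpLib.locP_lofp_of_comp X'.property Y'.property B'.property f'.hom g'.hom hfp hg')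
  exact ⟨Groth.Agent.AlgSpLib.ThickProps.isProperMor_iff_of_lft X.property X'.property Y.property Y'.property
    hiX hiY hc hft, Groth.Agent.AlgSpLib.ThickProps.isFiniteMor_iff_of_lft X.property X'.property Y.property Y'.property
    hiX hiY hc hft⟩
end Groth.Agent.S10611
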