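import Groth.Statements.S10614
import Groth.Agent.S10613
import Groth.Agent.S9922
import Groth.Agent.AlgSpPts.Sep

set_option backward.isDefEq.respectTransparency false
set_option backward.isDefEq.respectTransparency.types false
-- import your own Groth.Agent.* helpers here

set_option autoImplicit false
universe u
open CategoryTheory CategoryTheory.Limits AlgebraicGeometry
open AlgSp

namespace Groth.Agent.S10614

/-- For a morphism f : X ⟶ Y of algebraic spaces over S, being a closed immersion (representable by
closed immersions) is equivalent to each of: (a) universally closed plus unramified plus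
monomorphism; (b) universally closed plus unramified plus universally injective; (c) a universally
closed monomorphism that is locally of finite type; (d) universally closed, universally injective,
locally of finite type and formally unramified (lifting sense). (Unramified is the etale-local
condition locally of finite type and formally unramified on charts; monomorphisms are taken in fppf
sheaves.) -/
theorem result {S : Scheme.{u}} {X Y : AlgSp.Space S} (f : X ⟶ Y) :
    (AlgSp.RepWith @IsClosedImmersion f.hom ↔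
      (AlgSp.IsUnivClosedMor f.hom ∧ AlgSp.LocP (@LocallyOfFiniteType ⊓ @FormallyUnramified) f.hom ∧ Mono f.hom)) ∧
    (AlgSp.RepWith @IsClosedImmersion f.hom ↔
      (AlgSp.IsUnivClosedMor f.hom ∧ AlgSp.LocP (@LocallyOfFiniteType ⊓ @FormallyUnramified) f.hom ∧ AlgSp.IsUnivInjectiveMor f.hom)) ∧
    (AlgSp.RepWith @IsClosedImmersion f.hom ↔
      (AlgSp.IsUnivClosedMor f.hom ∧ AlgSp.LocP @LocallyOfFiniteType f.hom ∧ Mono f.hom)) ∧
    (AlgSp.RepWith @IsClosedImmersion f.hom ↔
      (AlgSp.IsUnivClosedMor f.hom ∧ AlgSp.IsUnivInjectiveMor f.hom ∧ AlgSp.LocP @LocallyOfFiniteType f.hom ∧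
        AlgSp.IsFormallyUnramifiedMor f.hom)) :=  by
  obtain ⟨hab, hac, had, hrep⟩ := Groth.Agent.S10613.result f
  have key : AlgSp.RepWith @IsClosedImmersion f.hom ↔
      (AlgSp.IsUnivClosedMor f.hom ∧ AlgSp.LocP @LocallyOfFiniteType f.hom ∧ Mono f.hom) := by
    refine ⟨fun h => ⟨?_, ?_, ?_⟩, fun ⟨huc, hft, hm⟩ => ?_⟩
    · exact (Groth.Agent.S9922.result f h.rep).1
        (Groth.Agent.AlgSpLib.repWith_mono (fun _ _ k (_ : IsClosedImmersion k) => inferInstanceAs (UniversallyClosed k)) _ h)
    · exact Groth.Agent.AlgSpLib.locP_of_repWith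
        (Groth.Agent.AlgSpLib.repWith_mono (fun _ _ k (_ : IsClosedImmersion k) => inferInstanceAs (LocallyOfFiniteType k)) _ h)
    · exact Groth.Agent.AlgSpPts.mono_of_repWith
        (Groth.Agent.AlgSpLib.repWith_mono (fun _ _ k (_ : IsClosedImmersion k) => inferInstanceAs (Mono k)) _ h)
    · obtain ⟨hr, hs, hq⟩ := hrep ⟨hft, hm⟩
      have hu := (Groth.Agent.S9922.result f hr).2 huc
      refine ⟨hr, fun U W g fst snd sq => ?_⟩
      obtain ⟨hql, hl⟩ : LocallyQuasiFinite snd.left ∧ LocallyOfFiniteType snd.left :=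
        AlgSp.locP_yon_map (Groth.Agent.AlgSpLib.locP_of_isPullback sq X.property Y.property
          (AlgSp.IsAlgSpace.yon_obj U) hq)
      have : UniversallyClosed snd.left := hu.property _ _ _ sq
      have : Mono ((AlgSp.yon S).map snd) := MorphismProperty.of_isPullback
        (P := MorphismProperty.monomorphisms (AlgSp.Sp S)) sq hm
      have : Mono snd := (AlgSp.yon S).mono_of_mono_map ‹_›
      have : Mono snd.left := inferInstance
      have : IsSeparated snd.left := inferInstance
      have : IsProper snd.left := {}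
      have : IsFinite snd.left := IsFinite.of_isProper_of_locallyQuasiFinite snd.left
      exact (IsClosedImmersion.iff_isFinite_and_mono snd.left).2 ⟨inferInstance, inferInstance⟩
  refine ⟨key.trans ⟨fun h => ⟨h.1, hac.2 ⟨h.2.1, h.2.2⟩⟩, fun h => ⟨h.1, hac.1 h.2⟩⟩,
    key.trans ⟨fun h => ⟨h.1, hab.1 (hac.2 ⟨h.2.1, h.2.2⟩)⟩, fun h => ⟨h.1, hac.1 (hab.2 h.2)⟩⟩, key,
    key.trans ⟨fun h => ⟨h.1, had.1 (hac.2 ⟨h.2.1, h.2.2⟩)⟩, fun h => ⟨h.1, hac.1 (had.2 h.2)⟩⟩⟩
end Groth.Agent.S10614
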