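import Groth.Statements.S10620
import Groth.Agent.AlgSpLib.Formal

set_option backward.isDefEq.respectTransparency false
set_option backward.isDefEq.respectTransparency.types false
-- import your own Groth.Agent.* helpers here

set_option autoImplicit false
universe u
open CategoryTheory CategoryTheory.Limits AlgebraicGeometry
open AlgSp

namespace Groth.Agent.S10620

/-- Let a : F ⟶ G and b : H ⟶ G be morphisms of fppf sheaves on (Sch/S) and let a' : P ⟶ H be the base
change of a along b (any pullback square). If a is formally smooth, resp. formally etale, resp.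
formally unramified, then so is a'. (The published statement is for transformations of arbitrary
presheaves of sets on (Sch/S)_fppf; this row takes fppf sheaves, the case of algebraic spaces.) -/
theorem result {S : Scheme.{u}} {F G H P : AlgSp.Sp S} (a : F ⟶ G) (b : H ⟶ G)
    (b' : P ⟶ F) (a' : P ⟶ H) (hP : IsPullback b' a' a b) :
    (AlgSp.IsFormallySmoothMor a → AlgSp.IsFormallySmoothMor a') ∧
    (AlgSp.IsFormallyEtaleMor a → AlgSp.IsFormallyEtaleMor a') ∧
    (AlgSp.IsFormallyUnramifiedMor a → AlgSp.IsFormallyUnramifiedMor a') := ⟨Groth.Agent.AlgSpLib.isFormallySmoothMor_of_isPullback hP,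
    fun h => (Groth.Agent.AlgSpLib.isFormallyEtaleMor_iff _).2
      ⟨Groth.Agent.AlgSpLib.isFormallySmoothMor_of_isPullback hP ((Groth.Agent.AlgSpLib.isFormallyEtaleMor_iff _).1 h).1,
        Groth.Agent.AlgSpLib.isFormallyUnramifiedMor_of_isPullback hP ((Groth.Agent.AlgSpLib.isFormallyEtaleMor_iff _).1 h).2⟩,
    Groth.Agent.AlgSpLib.isFormallyUnramifiedMor_of_isPullback hP⟩
end Groth.Agent.S10620
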