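import Groth.Statements.S10626
import Groth.Agent.AlgSpLib.InfCharts
import Groth.Agent.AlgSpLib.FlatUnramFEHom

set_option backward.isDefEq.respectTransparency false
set_option backward.isDefEq.respectTransparency.types false
-- import your own Groth.Agent.* helpers here

set_option autoImplicit false
universe u
open CategoryTheory CategoryTheory.Limits AlgebraicGeometry
open AlgSp

namespace Groth.Agent.S10626

/-- An unramified and flat morphism of algebraic spaces over S is formally etale (lifting sense). -/
theorem result {S : Scheme.{u}} {X Y : AlgSp.Space S} (f : X ⟶ Y)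
    (h1 : AlgSp.LocP (@LocallyOfFiniteType ⊓ @FormallyUnramified) f.hom) (h2 : AlgSp.LocP @Flat f.hom) :
    AlgSp.IsFormallyEtaleMor f.hom :=  by
  refine (Groth.Agent.AlgSpLib.isFormallyEtaleMor_iff_locP X.property Y.property f.hom).2
    fun U V a b h ha hb w => ?_
  obtain ⟨h1l, h1u⟩ := h1 a b h ha hb w
  have h2' := h2 a b h ha hb w
  have : LocallyOfFiniteType h.left := h1l
  have : FormallyUnramified h.left := h1u
  have : Flat h.left := h2'
  exact Groth.Agent.AlgSpLib.FlatUnramFE.isFormallyEtaleHom h.left
end Groth.Agent.S10626
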