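import Groth.Statements.S10629
import Groth.Agent.AlgSpDec.SmoothFormal

set_option backward.isDefEq.respectTransparency false
set_option backward.isDefEq.respectTransparency.types false
-- import your own Groth.Agent.* helpers here

set_option autoImplicit false
universe u
open CategoryTheory CategoryTheory.Limits AlgebraicGeometry
open AlgSp

namespace Groth.Agent.S10629

/-- A morphism f : X ⟶ Y of algebraic spaces over S is smooth if and only if it is locally of finite
presentation and formally smooth (lifting sense). -/
theorem result {S : Scheme.{u}} {X Y : AlgSp.Space S} (f : X ⟶ Y) :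
    AlgSp.LocP @Smooth f.hom ↔ AlgSp.LocP @LocallyOfFinitePresentation f.hom ∧ AlgSp.IsFormallySmoothMor f.hom := 
  Groth.Agent.AlgSpDec.SmoothFormal.smooth_iff f.hom
end Groth.Agent.S10629
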