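import Groth.Statements.S1063
import Groth.Agent.KFlatLib.Scheme.ResolutionDescent
import Groth.Agent.FittX.Sheaf
-- import your own Groth.Agent.* helpers here

set_option autoImplicit false
universe u
open CategoryTheory AlgebraicGeometry
open Perf

namespace Groth.Agent.S1063

/-- The resolution property descends along a surjective, finite locally free morphism f : X ⟶ Y; if
every finite-type quasi-coherent module on X is a quotient of a vector bundle, the same is true on
Y. -/
theorem result {X Y : Scheme.{u}} (f : X ⟶ Y) (hf : Mor2.IsFinLocFree f) [Surjective f]
    (hX : PerfAux.HasResolutionProperty X) : PerfAux.HasResolutionProperty Y := by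
  intro M hM hft
  obtain ⟨E, π, hE, hπ⟩ := hX ((Scheme.Modules.pullback f).obj M)
    (Groth.Agent.QCoh.isQCoh_pullback f hM) (Groth.Agent.FittX.isFT_pullback f hM hft)
  haveI := hπ
  exact Groth.Agent.KFlatLib.exists_epi_of_finLocFree f hf hM π hE

end Groth.Agent.S1063
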