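import Groth.Statements.S10632
import Groth.Agent.AlgSpLib.InfBC

set_option backward.isDefEq.respectTransparency false
set_option backward.isDefEq.respectTransparency.types false
-- import your own Groth.Agent.* helpers here

set_option autoImplicit false
universe u
open CategoryTheory CategoryTheory.Limits AlgebraicGeometry
open AlgSp

namespace Groth.Agent.S10632

/-- Let e : Z ⟶ Y be an etale morphism of algebraic spaces over S, hY : Y ⟶ X, and let (iY : Y ⟶ Y', hY'
: Y' ⟶ X) be a universal first order thickening of Y over X. Let e' : Z' ⟶ Y' be etale with iZ : Z ⟶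
Z' making Z = Y ×_{Y'} Z' a pullback square. Then (iZ, e' ≫ hY') is a universal first order
thickening of Z over X. -/
theorem result {S : Scheme.{u}} {Z Y Y' Z' X : AlgSp.Space S} (e : Z ⟶ Y)
    (he : AlgSp.IsEtaleMor e.hom) (hY : Y ⟶ X) (iY : Y ⟶ Y') (hY' : Y' ⟶ X)
    (HU : AlgSp.IsUnivFOThick hY.hom iY.hom hY'.hom) (iZ : Z ⟶ Z') (e' : Z' ⟶ Y') (he' : AlgSp.IsEtaleMor e'.hom)
    (sq : IsPullback e.hom iZ.hom iY.hom e'.hom) :
    AlgSp.IsUnivFOThick (e ≫ hY).hom iZ.hom (e' ≫ hY').hom := by
  exact AlgSpLib.isUnivFOThick_etale Y'.property Z'.property e.hom hY.hom iY.hom hY'.hom HU iZ.hom e'.hom he' sq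
end Groth.Agent.S10632
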