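import Groth.Statements.S10636
import Groth.Agent.AlgSpLib.InfBC

set_option backward.isDefEq.respectTransparency false
set_option backward.isDefEq.respectTransparency.types false
-- import your own Groth.Agent.* helpers here

set_option autoImplicit false
universe u
open CategoryTheory CategoryTheory.Limits AlgebraicGeometry
open AlgSp

namespace Groth.Agent.S10636

/-- Take a formally unramified morphism h : Z ⟶ X of algebraic spaces over S and let (i : Z ⟶ Z', h' :
Z' ⟶ X) be a universal first order thickening of Z over X. Then h' is formally unramified. -/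
theorem result {S : Scheme.{u}} {Z Z' X : AlgSp.Space S} (h : Z ⟶ X)
    (hh : AlgSp.IsFormallyUnramifiedMor h.hom) (i : Z ⟶ Z') (h' : Z' ⟶ X) (HU : AlgSp.IsUnivFOThick h.hom i.hom h'.hom) :
    AlgSp.IsFormallyUnramifiedMor h'.hom := by
  exact AlgSpLib.isFormallyUnramifiedMor_of_isUnivFOThick Z'.property hh HU
end Groth.Agent.S10636
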