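import Groth.Statements.S10637
import Groth.Agent.AlgSpLib.InfBC

set_option backward.isDefEq.respectTransparency false
set_option backward.isDefEq.respectTransparency.types false
-- import your own Groth.Agent.* helpers here

set_option autoImplicit false
universe u
open CategoryTheory CategoryTheory.Limits AlgebraicGeometry
open AlgSp

namespace Groth.Agent.S10637

/-- Let h : Z ⟶ X, f : Z ⟶ W, g : X ⟶ Y, h' : W ⟶ Y form a pullback square of algebraic spaces over S (Z
= X ×_Y W) with h' formally unramified, and let (iW : W ⟶ W', hW' : W' ⟶ Y) be a universal first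
order thickening of W over Y. If P = X ×_Y W' (a pullback square pX : P ⟶ X, pW : P ⟶ W') and iZ : Z
⟶ P is the morphism with iZ ≫ pX = h and iZ ≫ pW = f ≫ iW, then (iZ, pX) is a universal first order
thickening of Z over X. (The published statement also asserts that h is formally unramified, which
is the base change property of formal unramifiedness, and that the induced map of conormal sheaves
is surjective; this row omits both clauses.) -/
theorem result {S : Scheme.{u}} {Z X W Y W' P : AlgSp.Space S} (h : Z ⟶ X) (f : Z ⟶ W)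
    (g : X ⟶ Y) (h' : W ⟶ Y) (sq : IsPullback h.hom f.hom g.hom h'.hom) (hh' : AlgSp.IsFormallyUnramifiedMor h'.hom)
    (iW : W ⟶ W') (hW' : W' ⟶ Y) (HU : AlgSp.IsUnivFOThick h'.hom iW.hom hW'.hom)
    (pX : P ⟶ X) (pW : P ⟶ W') (sq' : IsPullback pX.hom pW.hom g.hom hW'.hom)
    (iZ : Z ⟶ P) (w1 : iZ ≫ pX = h) (w2 : iZ ≫ pW = f ≫ iW) :
    AlgSp.IsUnivFOThick h.hom iZ.hom pX.hom := by
  exact AlgSpLib.isUnivFOThick_baseChange W'.property h.hom f.hom g.hom h'.hom sq iW.hom hW'.hom HU pX.hom pW.hom sq'
    iZ.hom (congrArg (fun e => e.hom) w1) (congrArg (fun e => e.hom) w2)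
end Groth.Agent.S10637
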