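import Groth.Statements.S10644
import Groth.Agent.AlgSpDec.TripleLoci

set_option backward.isDefEq.respectTransparency false
set_option backward.isDefEq.respectTransparency.types false
-- import your own Groth.Agent.* helpers here

set_option autoImplicit false
universe u
open CategoryTheory CategoryTheory.Limits AlgebraicGeometry
open AlgSp

namespace Groth.Agent.S10644

/-- For morphisms f : X ⟶ Y, p : X ⟶ Z and q : Y ⟶ Z of algebraic spaces over S with f ≫ q = p, where p
is flat, universally closed and locally of finite presentation and q is closed, separated and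
locally of finite type, there is an open subspace W of Z with the following property: a morphism of
algebraic spaces g : Z' ⟶ Z factors through W exactly when the base change X' ⟶ Y' of f along g is
an isomorphism. Here the base change of f along g is any f' : X' ⟶ Y' obtained from pullback squares
Y' = Y ×_Z Z' and X' = X ×_Y Y' of algebraic spaces over S, and W ⊂ Z is given as a representable
open immersion w : W ⟶ Z. -/
theorem result {S : Scheme.{u}} {X Y Z : AlgSp.Space S}
    (f : X ⟶ Y) (p : X ⟶ Z) (q : Y ⟶ Z) (hc : f ≫ q = p)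
    (hp1 : AlgSp.LocP @LocallyOfFinitePresentation p.hom) (hp2 : AlgSp.LocP @Flat p.hom)
    (hp3 : AlgSp.IsUnivClosedMor p.hom) (hq1 : AlgSp.LocP @LocallyOfFiniteType q.hom)
    (hq2 : AlgSp.IsClosedMor q.hom) (hq3 : AlgSp.IsSeparatedMor q.hom) :
    ∃ (W : AlgSp.Space S) (w : W ⟶ Z), AlgSp.RepWith @IsOpenImmersion w.hom ∧
      ∀ (Z' : AlgSp.Space S) (g : Z' ⟶ Z),
        (∃ k : Z' ⟶ W, k ≫ w = g) ↔
          ∀ (Y' : AlgSp.Space S) (gY : Y' ⟶ Y) (q' : Y' ⟶ Z'),
            IsPullback gY.hom q'.hom q.hom g.hom →
            ∀ (X' : AlgSp.Space S) (gX : X' ⟶ X) (f' : X' ⟶ Y'),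
              IsPullback gX.hom f'.hom f.hom gY.hom →
                IsIso f'.hom :=  by
  open Groth.Agent.AlgSpDec.TripleLoci in
  have hp1' : LocP @LocallyOfFiniteType p.hom := fun U V a b h ha hb w => by
    have : LocallyOfFinitePresentation h.left := hp1 a b h ha hb w
    infer_instance
  let XX : AlgSp.Space S := ⟨Limits.pullback f.hom f.hom,
    AlgSpLib.isAlgSpace_pullback X.property X.property Y.property _ _⟩
  let pr0 : XX ⟶ X := ObjectProperty.homMk (Limits.pullback.fst f.hom f.hom)
  let pr1 : XX ⟶ X := ObjectProperty.homMk (Limits.pullback.snd f.hom f.hom)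
  have hXX : IsPullback pr0.hom pr1.hom f.hom f.hom := IsPullback.of_hasPullback _ _
  have hpc : IsClosedMor p.hom := hp3 Z.property (𝟙 _) (𝟙 _) p.hom (IsPullback.id_horiz _)
  have hpc' : IsClosedMor (pr1.hom ≫ p.hom) := (AlgSpPts.isUnivClosedMor_comp X.property Z.property
      (AlgSpPts.isUnivClosedMor_of_isPullback hXX (AlgSpDec.TripleLoci.univClosed_left hc hp3 hq3)) hp3)
      Z.property (𝟙 _) (𝟙 _) (pr1.hom ≫ p.hom) (IsPullback.id_horiz _)
  have hl := AlgSpDec.TripleLoci.locP_lfp_left hc hp1 hq1
  open Groth.Agent.AlgSpDec.TripleLoci in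
  exact exists_open_of_avoid _ (((hpc _ (isOpen_flatSet hc hp1 hp2 hq1).isClosed_compl).union
    (hq2 _ (isOpen_image_flatSet hc hp1 hp2 hq1).isClosed_compl)).union
    (isClosed_bad hc hp1' hpc hXX hpc')) _ fun Z' g => by
    have e1 := flatSurj_avoid_iff hc hp1 hp2 hq1 g
    have e2 := closedImm_avoid_iff hc hp1' hp3 hq3 hXX g
    constructor
    · intro H z hz
      rcases hz with hz | hz
      · exact e1.1 (fun Y' gY q' sY X' gX f' sX => ((isIso_iff f' (AlgSpLib.locP_of_isPullback sX
          X.property Y.property Y'.property hl)).1 (by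
            have := H Y' gY q' sY X' gX f' sX; infer_instance)).1) z hz
      · exact e2.1 (fun Y' gY q' sY X' gX f' sX => ((isIso_iff f' (AlgSpLib.locP_of_isPullback sX
          X.property Y.property Y'.property hl)).1 (by
            have := H Y' gY q' sY X' gX f' sX; infer_instance)).2) z hz
    · intro H Y' gY q' sY X' gX f' sX
      exact (isIso_iff f' (AlgSpLib.locP_of_isPullback sX X.property Y.property Y'.property hl)).2
        ⟨e1.2 (fun z hz => H z (Or.inl hz)) Y' gY q' sY X' gX f' sX,
          e2.2 (fun z hz => H z (Or.inr hz)) Y' gY q' sY X' gX f' sX⟩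
end Groth.Agent.S10644
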