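import Groth.Statements.S10646
import Groth.Agent.AlgSpDec.RelNorm.QfLocus

set_option backward.isDefEq.respectTransparency false
set_option backward.isDefEq.respectTransparency.types false
-- import your own Groth.Agent.* helpers here

set_option autoImplicit false
universe u
open CategoryTheory CategoryTheory.Limits AlgebraicGeometry
open AlgSp

namespace Groth.Agent.S10646

/-- For a separated morphism f : X ⟶ Y of finite type between algebraic spaces over S, with X ⟶ Y' ⟶ Y
(f' followed by ν) the normalization of Y in X, there is an open subspace U' of Y' (a representable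
open immersion j : U' ⟶ Y') such that for the inverse image P = X ×_{Y'} U' the projection P ⟶ U' is
an isomorphism and the image of |P| in |X| consists exactly of those points of |X| where f is
quasi-finite (some etale chart diagram through the point on which the top arrow is locally
quasi-finite and locally of finite type on an open neighbourhood). -/
theorem result {S : Scheme.{u}} {X Y Y' : AlgSp.Space S} (f : X ⟶ Y) (ν : Y' ⟶ Y) (f' : X ⟶ Y')
    (hf1 : AlgSp.IsFiniteTypeMor f.hom) (hf2 : AlgSp.IsSeparatedMor f.hom)
    (hn : AlgSp.IsRelNormalization f.hom ν.hom f'.hom) :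
    ∃ (U' : AlgSp.Space S) (j : U' ⟶ Y'), AlgSp.RepWith @IsOpenImmersion j.hom ∧
      ∀ (P : AlgSp.Space S) (fst : P ⟶ X) (snd : P ⟶ U'), IsPullback fst.hom snd.hom f'.hom j.hom →
        IsIso snd.hom ∧
          Set.range (AlgSp.Points.map fst.hom) = {x | AlgSp.HasAtMor (fun U _ h u => ∃ W : U.Opens, u ∈ W ∧ LocallyQuasiFinite (W.ι ≫ h) ∧ LocallyOfFiniteType (W.ι ≫ h)) f.hom x} := 
  Groth.Agent.AlgSpDec.RelNorm.exists_iso_open f ν f' hf1 hf2 hn
end Groth.Agent.S10646
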