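import Groth.Statements.S9955
import Groth.Agent.AlgSpDec.FieldFibre
import Groth.Agent.AlgSpPts.Props

set_option autoImplicit false
universe u
open CategoryTheory CategoryTheory.Limits AlgebraicGeometry
open AlgSp

namespace Groth.Agent.S9955

set_option backward.isDefEq.respectTransparency false
set_option backward.isDefEq.respectTransparency.types false

open AlgSp Groth.Agent.AlgSpLib Groth.Agent.AlgSpPts Groth.Agent.AlgSpDec

/-- A morphism locally of finite type is locally quasi-finite if and only if all its fibres over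
field-valued points have discrete spaces of points. -/
theorem result {S : Scheme.{u}} {X Y : AlgSp.Space S} (f : X ⟶ Y)
    (hf : AlgSp.LocP @LocallyOfFiniteType f.hom) :
    AlgSp.LocP ((@LocallyQuasiFinite : MorphismProperty Scheme.{u}) ⊓ @LocallyOfFiniteType) f.hom ↔
      ∀ (k : Type u) [Field k] (str : Spec (CommRingCat.of k) ⟶ S) (y : (AlgSp.yon S).obj (Over.mk str) ⟶ Y.obj)
        (P : AlgSp.Sp S) (fst : P ⟶ X.obj) (snd : P ⟶ (AlgSp.yon S).obj (Over.mk str)),
        IsPullback fst snd f.hom y → DiscreteTopology (AlgSp.Points P) := by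
  constructor
  · intro hq k _ str y P fst snd sq
    obtain ⟨hEt, -, -⟩ := seven_props ((@LocallyQuasiFinite : MorphismProperty Scheme.{u}) ⊓ @LocallyOfFiniteType)
      (Or.inr (Or.inr (Or.inr (Or.inr (Or.inr (Or.inl fun _ _ _ => Iff.rfl))))))
    have hP : IsAlgSpace P :=
      (isAlgSpace_pullback X.property (IsAlgSpace.yon_obj _) Y.property f.hom y).of_iso sq.isoPullback.symm
    have hq' := locP_of_isPullback sq X.property Y.property (IsAlgSpace.yon_obj _) hq
    obtain ⟨U, a, ha, ha'⟩ := hP.atlas
    obtain ⟨h, hh⟩ := (yon S).map_surjective (a ≫ snd)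
    obtain ⟨hl, -⟩ := hq' a (𝟙 _) h ha (repWith_id _ _) (by rw [Category.comp_id, hh])
    let h' : U.left ⟶ Spec (CommRingCat.of k) := h.left
    haveI : LocallyQuasiFinite h' := hl
    haveI : Subsingleton ↥(Spec (CommRingCat.of k)) := inferInstanceAs (Subsingleton (PrimeSpectrum k))
    have hd : DiscreteTopology ↥U.left := by
      have h1 := h'.isDiscrete_preimage_singleton (IsLocalRing.closedPoint k)
      rw [show h' ⁻¹' {IsLocalRing.closedPoint k} = Set.univ from
        Set.eq_univ_of_forall fun x => Subsingleton.elim _ _] at h1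
      exact isDiscrete_univ_iff.1 h1
    refine discreteTopology_iff_isOpen_singleton.2 fun z => ?_
    obtain ⟨v, rfl⟩ := surjective_ofPt ha' z
    rw [← Set.image_singleton]
    exact isOpenMap_ofPt ha _ (isOpen_discrete _)
  · intro H
    refine (RelDimSp.lqf_iff X.property Y.property hf).2 fun x => ?_
    obtain ⟨U₀, V₀, a₀, b₀, h₀, ha₀, ha₀', -, -, w₀⟩ := exists_chart X.property Y.property f.hom
    obtain ⟨u₀, rfl⟩ := surjective_ofPt ha₀' x
    let v := h₀.left u₀
    let str : Spec (CommRingCat.of ↥(V₀.left.residueField v)) ⟶ S := V₀.left.fromSpecResidueField v ≫ V₀.hom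
    let c : Over.mk str ⟶ V₀ := Over.homMk (V₀.left.fromSpecResidueField v) rfl
    let y : (yon S).obj (Over.mk str) ⟶ Y.obj := (yon S).map c ≫ b₀
    have sq := IsPullback.of_hasPullback f.hom y
    haveI : DiscreteTopology (Points (pullback f.hom y)) := H _ str y _ _ _ sq
    have hP : IsAlgSpace (pullback f.hom y) := isAlgSpace_pullback X.property (IsAlgSpace.yon_obj _) Y.property _ _
    obtain ⟨z, hz, -⟩ := exists_point_of_isPullback sq (x := Points.ofPt a₀ u₀)
      (y := Points.ofScheme (Over.mk str) (IsLocalRing.closedPoint ↥(V₀.left.residueField v))) (by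
        rw [Points.map_ofPt, w₀, ofPt_comp, ← Points.ofPt_eq_map_ofScheme, ofPt_comp]
        exact congrArg (Points.ofPt b₀) (Scheme.fromSpecResidueField_apply _ _).symm)
    obtain ⟨U, a, ha, ha'⟩ := hP.atlas
    obtain ⟨h, hh⟩ := (yon S).map_surjective (a ≫ pullback.snd f.hom y)
    obtain ⟨u, hu⟩ := surjective_ofPt ha' z
    have hl : LocallyOfFiniteType h.left :=
      locP_of_isPullback sq X.property Y.property (IsAlgSpace.yon_obj _) hf a (𝟙 _) h ha (repWith_id _ _)
        (by rw [Category.comp_id, hh])
    rw [← hz]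
    exact FieldFibre.hasAtMor_zero_of_fibre sq X.property Y.property hf z a ha h hh.symm u hu
      (FieldFibre.fibreDimAt_zero_of_discrete ha hh.symm u)

end Groth.Agent.S9955
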