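import Groth.Statements.S10649
import Groth.Agent.AlgSpDec.FiniteNbhd
import Groth.Agent.S9955

set_option backward.isDefEq.respectTransparency false
set_option backward.isDefEq.respectTransparency.types false
-- import your own Groth.Agent.* helpers here

set_option autoImplicit false
universe u
open CategoryTheory CategoryTheory.Limits AlgebraicGeometry
open AlgSp

namespace Groth.Agent.S10649

/-- The following conditions on a morphism f : X ⟶ Y of algebraic spaces over S are equivalent: (1)
finiteness of f; (2) f is locally quasi-finite as well as proper (locally quasi-finite and locally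
of finite type etale locally); (3) f is proper and for every field k and every k-point Spec k ⟶ Y
the fibre X_k (any pullback of f along it in fppf sheaves) has discrete space of points; (4) f is
universally closed, separated and locally of finite type, and every such fibre X_k has discrete
space of points. -/
theorem result {S : Scheme.{u}} {X Y : AlgSp.Space S} (f : X ⟶ Y) :
    [AlgSp.IsFiniteMor f.hom,
      AlgSp.IsProperMor f.hom ∧ AlgSp.LocP (@LocallyQuasiFinite ⊓ @LocallyOfFiniteType) f.hom,
      AlgSp.IsProperMor f.hom ∧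
        ∀ (k : AlgSp.FieldPt Y.obj) (Xk : AlgSp.Sp S) (fst : Xk ⟶ X.obj) (snd : Xk ⟶ (AlgSp.yon S).obj k.pt),
          IsPullback fst snd f.hom k.toHom → DiscreteTopology (AlgSp.Points Xk),
      AlgSp.IsUnivClosedMor f.hom ∧ AlgSp.IsSeparatedMor f.hom ∧ AlgSp.LocP @LocallyOfFiniteType f.hom ∧
        ∀ (k : AlgSp.FieldPt Y.obj) (Xk : AlgSp.Sp S) (fst : Xk ⟶ X.obj) (snd : Xk ⟶ (AlgSp.yon S).obj k.pt),
          IsPullback fst snd f.hom k.toHom → DiscreteTopology (AlgSp.Points Xk)].TFAE :=  by
  tfae_have 1 → 2 := fun h => by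
    have h' := (AlgSpDec.isFiniteMor_iff_affine_proper Y.property).1 h
    exact ⟨h'.2, AlgSpLib.locP_of_repWith (AlgSpLib.repWith_mono
      (fun _ _ e (_ : IsFinite e) => (⟨inferInstance, inferInstance⟩ :
        (@LocallyQuasiFinite ⊓ @LocallyOfFiniteType : MorphismProperty Scheme.{u}) e))
      _ (AlgSpDec.isFiniteMor_iff_repWith.1 h))⟩
  tfae_have 2 → 3 := fun ⟨hp, hq⟩ => ⟨hp, fun k Xk fst snd sq =>
    (Groth.Agent.S9955.result f hp.2.1.1).1 hq k.K k.str k.toHom Xk fst snd sq⟩
  tfae_have 3 → 4 := fun ⟨hp, hk⟩ => ⟨hp.2.2, hp.1, hp.2.1.1, hk⟩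
  tfae_have 4 → 1 := fun ⟨hu, hs, hl, hk⟩ => by
    have hq := (Groth.Agent.S9955.result f hl).2 fun k _ str y P fst snd sq =>
      hk { K := k, str := str, val := (J S).uliftYonedaEquiv y } P fst snd (by
        show IsPullback fst snd f.hom ((J S).uliftYonedaEquiv.symm ((J S).uliftYonedaEquiv y))
        rwa [Equiv.symm_apply_apply])
    have hr := AlgSpDec.representable_of_lqf_separated X.property Y.property f.hom hq hs
    have hu' := AlgSpDec.repWith_universallyClosed_of_univClosed hr hu
    exact AlgSpDec.FiniteNbhd.isFiniteMor_of_proper_lqf X.property Y.property ⟨hs, ⟨hl,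
      AlgSpPts.isQuasiCompactMor_of_repWith (AlgSpLib.repWith_mono
        (fun _ _ e (_ : UniversallyClosed e) => (inferInstance : QuasiCompact e)) _ hu')⟩, hu⟩ hq
  tfae_finish
end Groth.Agent.S10649
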