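import Groth.Statements.S10652
import Groth.Agent.AlgSpLib.LocP
import Groth.Agent.AlgSpLib.EtLocalInst
import Groth.Agent.AlgSpDec.SchDenseSp
import Groth.Agent.S0451

set_option backward.isDefEq.respectTransparency false
set_option backward.isDefEq.respectTransparency.types false
-- import your own Groth.Agent.* helpers here

set_option autoImplicit false
universe u
open CategoryTheory CategoryTheory.Limits AlgebraicGeometry
open AlgSp

namespace Groth.Agent.S10652

/-- For a flat morphism f : X ⟶ Y of algebraic spaces over S which is locally of finite type, and an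
open subspace j : V ⟶ Y which is quasi-compact (as a morphism) and scheme theoretically dense (on
some etale surjective scheme chart its inverse image is a schematically dense open): if the base
change X ×_Y V ⟶ V is locally of finite presentation then so is f. -/
theorem result {S : Scheme.{u}} {X Y V : AlgSp.Space S} (f : X ⟶ Y) (j : V ⟶ Y)
    (hf1 : AlgSp.LocP @LocallyOfFiniteType f.hom) (hf2 : AlgSp.LocP @Flat f.hom)
    (hj1 : AlgSp.IsQuasiCompactMor j.hom) (hj2 : AlgSp.IsSchDense j.hom)
    (P : AlgSp.Space S) (fst : P ⟶ X) (snd : P ⟶ V) (hP : IsPullback fst.hom snd.hom f.hom j.hom)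
    (hV : AlgSp.LocP @LocallyOfFinitePresentation snd.hom) :
    AlgSp.LocP @LocallyOfFinitePresentation f.hom :=  by
  obtain ⟨U, V₀, a, b, k, ha, ha', hb, hb', w⟩ :=
    Groth.Agent.AlgSpLib.exists_chart X.property Y.property f.hom
  refine Groth.Agent.AlgSpLib.locP_of_chart ha ha' hb w ?_
  have : LocallyOfFiniteType k.left := hf1 a b k ha hb w
  have : Flat k.left := hf2 a b k ha hb w
  let W := Groth.Agent.AlgSpDec.SchDenseSp.pre Y.property hj2.1 b
  obtain ⟨g, sqW⟩ := Groth.Agent.AlgSpDec.SchDenseSp.exists_isPullback Y.property hj2.1 b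
  have : QuasiCompact W.ι := Groth.Agent.AlgSpDec.SchDenseSp.quasiCompact_pre_ι Y.property hj2.1 hj1 b
  have hd : CInt.IsSchematicallyDense W := Groth.Agent.AlgSpDec.SchDenseSp.dense_pre Y.property hj2 hb
  have : IsSchemeTheoreticallyDominant W.ι := ⟨by
    refine le_antisymm (fun A s hs => ?_) bot_le
    rw [Scheme.IdealSheafData.ideal_bot]
    rw [Scheme.Hom.ker_apply, RingHom.mem_ker, Scheme.Opens.ι_app] at hs
    refine (injective_iff_map_eq_zero _).1 (hd A.1) s ?_
    have hle : A.1 ⊓ W ≤ W.ι ''ᵁ (W.ι ⁻¹ᵁ A.1) := fun x hx => ⟨⟨x, hx.2⟩, hx.1, rfl⟩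
    have := congrArg (V₀.left.presheaf.map (homOfLE hle).op).hom hs
    rw [map_zero] at this
    erw [← CommRingCat.comp_apply, ← Functor.map_comp] at this
    exact this⟩
  let i : Over.mk (W.ι ≫ V₀.hom) ⟶ V₀ := Over.homMk W.ι rfl
  let W' : U.left.Opens := k.left ⁻¹ᵁ W
  let i' : Over.mk (W'.ι ≫ U.hom) ⟶ U := Over.homMk W'.ι rfl
  let r : Over.mk (W'.ι ≫ U.hom) ⟶ Over.mk (W.ι ≫ V₀.hom) := Over.homMk (k.left ∣_ W) (by
    simp only [Over.mk_hom, morphismRestrict_ι_assoc, Over.w]; rfl)
  have hr : r ≫ i = i' ≫ k := Over.OverMorphism.ext (morphismRestrict_ι _ _)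
  let m := hP.lift ((AlgSp.yon S).map i' ≫ a) ((AlgSp.yon S).map r ≫ g) (by
    rw [Category.assoc, w, Category.assoc, sqW.w, ← Category.assoc, ← Category.assoc, ← Functor.map_comp,
      ← Functor.map_comp, ← hr])
  have hj : AlgSp.RepWith @Etale j.hom :=
    Groth.Agent.AlgSpLib.repWith_mono (fun _ _ f (hf : IsOpenImmersion f) => inferInstanceAs (Etale f)) _ hj2.1
  have hg : AlgSp.RepWith @Etale g := Groth.Agent.AlgSpLib.repWith_of_isPullback sqW.flip hb
  have hi : AlgSp.RepWith @Etale ((AlgSp.yon S).map i') :=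
    (AlgSp.repWith_yon_map_iff _ _).2 (inferInstanceAs (Etale W'.ι))
  have hm : AlgSp.RepWith @Etale m :=
    Groth.Agent.AlgSpLib.repWith_etale_of_comp m fst.hom
      (by rw [IsPullback.lift_fst]; exact (AlgSp.repWith_isMultiplicative (S := S) @Etale).comp_mem _ _ hi ha)
      (Groth.Agent.AlgSpLib.repWith_of_isPullback hP.flip hj)
  have : LocallyOfFinitePresentation (k.left ∣_ W) := hV m g r hm hg (hP.lift_snd _ _ _)
  exact Groth.Agent.S0451.result k.left W
end Groth.Agent.S10652
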