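import Groth.Statements.S1240
import Groth.Agent.Triage.FibMaxFlat
import Groth.Agent.FibDim.GenerizeDim
import Groth.Agent.FDescent.QuasiFlat

set_option autoImplicit false
universe u
open FlatMor

namespace Groth.Agent.S1240

open AlgebraicGeometry CategoryTheory in
/-- Let f : X → S be flat and locally of finite type and U ⊆ S a dense open such that the fibres of f at
points over U have local dimension at most e everywhere. If f is locally of finite presentation, or
U is retrocompact in S, then every fibre of f has local dimension at most e at every point. -/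
theorem result {X S : Scheme.{u}} (f : X ⟶ S) [Flat f] [LocallyOfFiniteType f]
    (U : S.Opens) (hU : Dense (U : Set S)) (e : ℕ)
    (hle : ∀ x : X, f.base x ∈ U → FlatMor.fibreDimAt f x ≤ e)
    (h : LocallyOfFinitePresentation f ∨ IsRetrocompact (U : Set S)) (x : X) :
    FlatMor.fibreDimAt f x ≤ e := by
  obtain ⟨z, hzx, hfz, hmax, he⟩ := FibDim.exists_fibMax_generization f x
  rw [he]
  suffices hkey : ∃ w, f.base w ∈ U ∧ FibDim.rd f z ≤ FibDim.rd f w by
    obtain ⟨w, hw, hzw⟩ := hkey
    have h1 := (FibDim.fibreDimAt_le_iff f w e).1 (hle w hw) w specializes_rfl rfl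
    exact_mod_cast hzw.trans h1
  rcases h with hlfp | hretro
  · obtain ⟨W, hzW, hW⟩ := Triage.FibMaxFlat.exists_nhd_fibreDimAt_eq f hmax
    obtain ⟨_, ⟨w, hwW, rfl⟩, hwU⟩ := hU.inter_open_nonempty _ (f.isOpenMap _ W.isOpen) ⟨f z, z, hzW, rfl⟩
    obtain ⟨v, hv, hfv, -, hve⟩ := FibDim.exists_fibMax_generization f w
    have hvU : f.base v ∈ U := by rw [show f.base v = f.base w from hfv]; exact hwU
    refine ⟨v, hvU, le_of_eq ?_⟩
    have := (hW w hwW).symm.trans hve
    exact_mod_cast this
  · haveI : QuasiCompact U.ι := ⟨fun W hW hWc => by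
      rw [U.ι.isOpenEmbedding.isInducing.isCompact_iff, Set.image_preimage_eq_inter_range,
        Scheme.Opens.range_ι, Set.inter_comm]
      exact hretro hWc hW⟩
    have hmem : f z ∈ closure (Set.range U.ι.base) := by
      rw [Scheme.Opens.range_ι, hU.closure_eq]; trivial
    obtain ⟨a, ha⟩ := FDescent.exists_specializes_of_mem_closure_range U.ι hmem
    by_cases hne : f z = a.1
    · exact ⟨z, hne.symm ▸ a.2, le_rfl⟩
    obtain ⟨A, _, _, _, τ, pt, η, hpt, hη, hgen⟩ := FibDim.exists_valuation_lift ha hne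
    obtain ⟨z', hz'p, hz'q, hz'rd⟩ :=
      FibDim.exists_rd_baseChange_eq (IsPullback.of_hasPullback f τ) z pt hpt.symm
    obtain ⟨ζ, hζ, hζη⟩ := FibDim.lifts_of_flat_stalk (Limits.pullback.snd f τ)
      (Flat.stalkMap (Limits.pullback.snd f τ) z') specializes_rfl (t := η) (hgen _)
    refine ⟨Limits.pullback.fst f τ ζ, ?_, ?_⟩
    · show (Limits.pullback.fst f τ ≫ f) ζ ∈ U
      rw [Limits.pullback.condition, Scheme.Hom.comp_apply, hζη, hη]
      exact a.2
    · have h1 := FibDim.rd_le_of_valuationRing (Limits.pullback.snd f τ) hζ (fun t => hζη ▸ hgen t)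
      exact (hz'rd.symm.le.trans h1).trans (FibDim.rd_baseChange_le (IsPullback.of_hasPullback f τ) ζ)

end Groth.Agent.S1240
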