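import Groth.Statements.S10653
import Groth.Agent.AlgSpDec.RelDimSp
import Groth.Agent.AlgSpDec.SchDenseSp
import Groth.Agent.AlgSpLib.LocP
import Groth.Agent.AlgSpLib.EtLocalInst
import Groth.Agent.AlgSpLib.Points
import Groth.Agent.S1240

set_option backward.isDefEq.respectTransparency false
set_option backward.isDefEq.respectTransparency.types false
-- import your own Groth.Agent.* helpers here

set_option autoImplicit false
universe u
open CategoryTheory CategoryTheory.Limits AlgebraicGeometry
open AlgSp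

namespace Groth.Agent.S10653

/-- For a flat morphism f : X ⟶ Y of algebraic spaces over S which is locally of finite type, and an
open subspace j : V ⟶ Y with |V| dense in |Y| such that the base change X ×_Y V ⟶ V has relative
dimension at most d (at every point some etale chart diagram has top arrow with local fibre
dimension at most d): if either j is quasi-compact or f is locally of finite presentation, then f
has relative dimension at most d at every point of |X|. -/
theorem result {S : Scheme.{u}} {X Y V : AlgSp.Space S} (f : X ⟶ Y) (j : V ⟶ Y) (d : ℕ)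
    (hf1 : AlgSp.LocP @Flat f.hom) (hf2 : AlgSp.LocP @LocallyOfFiniteType f.hom)
    (hj1 : AlgSp.RepWith @IsOpenImmersion j.hom) (hj2 : Dense (Set.range (AlgSp.Points.map j.hom)))
    (P : AlgSp.Space S) (fst : P ⟶ X) (snd : P ⟶ V) (hP : IsPullback fst.hom snd.hom f.hom j.hom)
    (hV : ∀ x, AlgSp.HasAtMor (fun _ _ h u => FlatMor.fibreDimAt h u ≤ (d : WithBot ℕ∞)) snd.hom x)
    (h : AlgSp.LocP @LocallyOfFinitePresentation f.hom ∨ AlgSp.IsQuasiCompactMor j.hom) :
    ∀ x, AlgSp.HasAtMor (fun _ _ h u => FlatMor.fibreDimAt h u ≤ (d : WithBot ℕ∞)) f.hom x :=  by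
  open Groth.Agent.AlgSpLib Groth.Agent.AlgSpDec in
  intro x
  obtain ⟨U, V₀, a, b, k, ha, ha', hb, -, w⟩ := exists_chart X.property Y.property f.hom
  obtain ⟨u, rfl⟩ := surjective_ofPt ha' x
  refine ⟨U, V₀, a, b, k, u, ha, hb, w, rfl, ?_⟩
  have : Flat k.left := hf1 a b k ha hb w
  have : LocallyOfFiniteType k.left := hf2 a b k ha hb w
  let W := SchDenseSp.pre Y.property hj1 b
  have hsn : LocP @LocallyOfFiniteType snd.hom := locP_of_isPullback hP X.property Y.property V.property hf2
  refine Groth.Agent.S1240.result k.left W (hj2.preimage (isOpenMap_ofPt hb)) d ?_ ?_ u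
  · intro t ht
    obtain ⟨v, hv⟩ := (SchDenseSp.mem_pre Y.property hj1 b _).1 ht
    obtain ⟨p, hp, -⟩ := exists_point_of_isPullback hP (x := Points.ofPt a t) (y := v) (by
      rw [hv, Points.map_ofPt, w, ofPt_comp])
    have hd : HasAtMor (fun _ _ h u => FlatMor.fibreDimAt h u = FlatMor.fibreDimAt k.left t) f.hom
        (Points.map fst.hom p) := ⟨U, V₀, a, b, k, t, ha, hb, w, hp.symm, rfl⟩
    obtain ⟨_, _, a₁, b₁, k₁, t₁, ha₁, hb₁, w₁, he₁, hd₁⟩ :=
      RelDimSp.baseChange hP X.property Y.property V.property hf2 p _ hd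
    obtain ⟨_, _, a₂, b₂, k₂, t₂, ha₂, hb₂, w₂, he₂, hd₂⟩ := hV p
    rw [← hd₁, RelDimSp.fibreDimAt_congr hsn ha₁ hb₁ w₁ ha₂ hb₂ w₂ (he₁.trans he₂.symm)]
    exact hd₂
  · refine h.imp (fun hp => hp a b k ha hb w) fun hqc t htc hto => ?_
    have : QuasiCompact W.ι := SchDenseSp.quasiCompact_pre_ι Y.property hj1 hqc b
    have := (QuasiCompact.isCompact_preimage (f := W.ι) t hto htc).image W.ι.continuous
    rwa [Set.image_preimage_eq_inter_range, Scheme.Opens.range_ι, Set.inter_comm] at this
end Groth.Agent.S10653
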