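import Groth.Statements.S10655
import Groth.Agent.AlgSpDec.FlatOpenImm

set_option backward.isDefEq.respectTransparency false
set_option backward.isDefEq.respectTransparency.types false
-- import your own Groth.Agent.* helpers here

set_option autoImplicit false
universe u
open CategoryTheory CategoryTheory.Limits AlgebraicGeometry
open AlgSp

namespace Groth.Agent.S10655

/-- For a separated flat morphism f : X ⟶ Y of algebraic spaces over S which is locally of finite type,
and an open subspace j : V ⟶ Y which is quasi-compact and scheme theoretically dense (on some etale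
surjective scheme chart its inverse image is a schematically dense open): if the base change X ×_Y V
⟶ V is an isomorphism then f is a representable open immersion. -/
theorem result {S : Scheme.{u}} {X Y V : AlgSp.Space S} (f : X ⟶ Y) (j : V ⟶ Y)
    (hf1 : AlgSp.IsSeparatedMor f.hom) (hf2 : AlgSp.LocP @LocallyOfFiniteType f.hom) (hf3 : AlgSp.LocP @Flat f.hom)
    (hj1 : AlgSp.IsQuasiCompactMor j.hom) (hj2 : AlgSp.IsSchDense j.hom)
    (P : AlgSp.Space S) (fst : P ⟶ X) (snd : P ⟶ V) (hP : IsPullback fst.hom snd.hom f.hom j.hom)
    (hV : IsIso snd.hom) :
    AlgSp.RepWith @IsOpenImmersion f.hom := 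
  Groth.Agent.AlgSpDec.FlatOpenImm.repWith_isOpenImmersion f j hf1 hf2 hf3 hj1 hj2 P fst snd hP hV
end Groth.Agent.S10655
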