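import Groth.Statements.S1066
import Groth.Agent.KExact.TensorBCMain
-- import your own Groth.Agent.* helpers here

set_option autoImplicit false
set_option linter.style.haveILetI false
set_option backward.isDefEq.respectTransparency false
set_option backward.isDefEq.respectTransparency.types false

universe u
open CategoryTheory CategoryTheory.Limits AlgebraicGeometry Opposite
attribute [local instance] HasDerivedCategory.standard
open Perf

namespace Groth.Agent.S1066

/-- In the case of a single module and in weak form: let f : X ⟶ S be quasi-compact and quasi-separated,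
E ∈ D(O_X) with quasi-coherent cohomology sheaves, G a quasi-coherent O_X-module flat over S, and g
: S' ⟶ S any morphism, with X' = X ×_S S', projections g' : X' ⟶ X and f' : X' ⟶ S'. Assuming the
derived functors exist, Lg^*Rf_*(E ⊗^L G) and Rf'_*(L(g')^*E ⊗^L (g')^*G) are isomorphic in
D(O_{S'}). (The source proves the canonical base change map is an isomorphism; here only the
existence of an isomorphism is asserted.) -/
theorem result {X S S' : Scheme.{u}} (f : X ⟶ S) [QuasiCompact f] [QuasiSeparated f] (g : S' ⟶ S)
    (E : DCoh.D X) (hE : DCoh.IsQCohD E) (G : X.Modules) (hG : Coh.IsQCoh G) (hflat : FlatMod.IsFlatOver f G)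
    [DCoh.HasLTensorMod G] [DCoh.HasRpush f] [DCoh.HasLpull g]
    [DCoh.HasLpull (pullback.fst f g)] [DCoh.HasRpush (pullback.snd f g)]
    [DCoh.HasLTensorMod ((Scheme.Modules.pullback (pullback.fst f g)).obj G)] :
    Nonempty ((DCoh.Lpull g).obj ((DCoh.Rpush f).obj ((DCoh.LTensorMod G).obj E)) ≅
      (DCoh.Rpush (pullback.snd f g)).obj ((DCoh.LTensorMod ((Scheme.Modules.pullback (pullback.fst f g)).obj G)).obj ((DCoh.Lpull (pullback.fst f g)).obj E))) := Groth.Agent.KExact.TensorBC.nonempty_iso (IsPullback.of_hasPullback f g) E hE G hG hflat
end Groth.Agent.S1066
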