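import Groth.Statements.S10661
import Groth.Agent.AlgSpWA.RegImmSp

set_option backward.isDefEq.respectTransparency false
set_option backward.isDefEq.respectTransparency.types false
-- import your own Groth.Agent.* helpers here

set_option autoImplicit false
universe u
open CategoryTheory CategoryTheory.Limits AlgebraicGeometry
open AlgSp

namespace Groth.Agent.S10661

/-- For an immersion i : Z ⟶ X of algebraic spaces over S with X locally Noetherian (some etale
surjective chart is a locally Noetherian scheme), the three conditions Koszul-regular immersion,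
H_1-regular immersion and quasi-regular immersion on i are equivalent. -/
theorem result {S : Scheme.{u}} {Z X : AlgSp.Space S} (i : Z ⟶ X) (hi : AlgSp.RepWith @IsImmersion i.hom)
    (hX : AlgSp.IsLocNoethSp X.obj) :
    (AlgSp.IsRegImmMor RegImm.Kind.koszul i.hom ↔ AlgSp.IsRegImmMor RegImm.Kind.h1 i.hom) ∧
      (AlgSp.IsRegImmMor RegImm.Kind.h1 i.hom ↔ AlgSp.IsRegImmMor RegImm.Kind.quasi i.hom) :=  by
  open Groth.Agent.AlgSpWA.RegImmSp in
  exact ⟨⟨isRegImmMor_of_locNoeth _ _ hX, isRegImmMor_of_locNoeth _ _ hX⟩,
    ⟨isRegImmMor_of_locNoeth _ _ hX, isRegImmMor_of_locNoeth _ _ hX⟩⟩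
end Groth.Agent.S10661
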