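import Groth.Statements.S10666
import Groth.Agent.AlgSpWA.RegImmSp

set_option backward.isDefEq.respectTransparency false
set_option backward.isDefEq.respectTransparency.types false
-- import your own Groth.Agent.* helpers here

set_option autoImplicit false
universe u
open CategoryTheory CategoryTheory.Limits AlgebraicGeometry
open AlgSp

namespace Groth.Agent.S10666

/-- For morphisms f : X ⟶ Y, p : X ⟶ Z, q : Y ⟶ Z of algebraic spaces over S with f ≫ q = p: if q is
smooth and p is a local complete intersection morphism, then so is f. -/
theorem result {S : Scheme.{u}} {X Y Z : AlgSp.Space S} (f : X ⟶ Y) (p : X ⟶ Z) (q : Y ⟶ Z) (hc : f ≫ q = p)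
    (hq : AlgSp.LocP @Smooth q.hom) (hp : AlgSp.IsLCIMor p.hom) :
    AlgSp.IsLCIMor f.hom :=  by
  exact Groth.Agent.AlgSpWA.RegImmSp.isLCIMor_of_comp_smooth X.property Y.property Z.property hq
    (by rw [← InducedCategory.comp_hom, hc]; exact hp)
end Groth.Agent.S10666
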