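import Groth.Statements.S10678
import Groth.Agent.AlgSpWA.FibreDimSp

set_option backward.isDefEq.respectTransparency false
set_option backward.isDefEq.respectTransparency.types false
-- import your own Groth.Agent.* helpers here

set_option autoImplicit false
universe u
open CategoryTheory CategoryTheory.Limits AlgebraicGeometry
open AlgSp

namespace Groth.Agent.S10678

/-- For a morphism f : X ⟶ Y of finite type between algebraic spaces over S, a point y of |Y| and any
field point k of Y in the class of y, with fibre X_k (pullback in fppf sheaves): the dimension of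
X_k (supremum of the dimensions of its etale scheme charts) is -∞ exactly when y lies outside the
image of |X|, and for every natural number d it is at most d exactly when f has relative dimension
at most d at every point of |X| over y (some etale chart diagram through the point whose top arrow
has local fibre dimension at most d there). -/
theorem result {S : Scheme.{u}} {X Y : AlgSp.Space S} (f : X ⟶ Y) (hf : AlgSp.IsFiniteTypeMor f.hom)
    (y : AlgSp.Points Y.obj) (k : AlgSp.FieldPt Y.obj) (hk : AlgSp.Points.mk k = y)
    (Xk : AlgSp.Sp S) (fst : Xk ⟶ X.obj) (snd : Xk ⟶ (AlgSp.yon S).obj k.pt) (h : IsPullback fst snd f.hom k.toHom) :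
    (AlgSp.dim Xk = ⊥ ↔ y ∉ Set.range (AlgSp.Points.map f.hom)) ∧
      ∀ d : ℕ, (AlgSp.dim Xk ≤ d ↔
        ∀ x : AlgSp.Points X.obj, AlgSp.Points.map f.hom x = y →
          AlgSp.HasAtMor (fun _ _ h u => FlatMor.fibreDimAt h u ≤ (d : WithBot ℕ∞)) f.hom x) :=  by
  open Groth.Agent.AlgSpWA.FibreDimSp in
  subst hk
  refine ⟨?_, fun d => ?_⟩
  · rw [← le_bot_iff, dim_le_iff_relDim h X.property Y.property hf.1 ⊥]
    refine ⟨fun H ⟨x, hx⟩ => relDim_ne_bot X.property Y.property hf.1 x (le_bot_iff.1 (H x hx)),
      fun H x hx => absurd ⟨x, hx⟩ H⟩
  · rw [dim_le_iff_relDim h X.property Y.property hf.1]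
    exact forall₂_congr fun x _ => relDim_le_iff X.property Y.property hf.1 x _
end Groth.Agent.S10678
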