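import Groth.Statements.S10682
import Groth.Agent.AlgSpDec.GeomRedFib
import Groth.Agent.AlgSpPts.Sep

set_option backward.isDefEq.respectTransparency false
set_option backward.isDefEq.respectTransparency.types false
-- import your own Groth.Agent.* helpers here

set_option autoImplicit false
universe u
open CategoryTheory CategoryTheory.Limits AlgebraicGeometry
open AlgSp Groth.Agent.AlgSpDec

namespace Groth.Agent.S10682

/-- For a flat proper morphism f : X ⟶ Y between algebraic spaces over S which is of finite
presentation, the set of points y of |Y| at which the fibre of f is geometrically reduced is open in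
|Y|; here the fibre of f at y being geometrically reduced means: for every field point k of Y in the
class of y and every field homomorphism k ⟶ k', the base change X_{k'} (pullback in fppf sheaves) is
reduced (some etale surjective scheme chart is reduced). -/
theorem result {S : Scheme.{u}} {X Y : AlgSp.Space S} (f : X ⟶ Y)
    (hf1 : AlgSp.LocP @Flat f.hom) (hf2 : AlgSp.IsProperMor f.hom) (hf3 : AlgSp.IsFinitePresentationMor f.hom) :
    IsOpen {y : AlgSp.Points Y.obj | ∀ (k : AlgSp.FieldPt Y.obj), AlgSp.Points.mk k = y →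
        ∀ (k' : Type u) [Field k'] (φ : k.K →+* k') (Xk' : AlgSp.Sp S) (a : Xk' ⟶ X.obj)
          (b : Xk' ⟶ (AlgSp.yon S).obj (Over.mk (Spec.map (CommRingCat.ofHom φ) ≫ k.str))),
          IsPullback a b f.hom ((AlgSp.yon S).map (Over.homMk (Spec.map (CommRingCat.ofHom φ)) rfl :
            Over.mk (Spec.map (CommRingCat.ofHom φ) ≫ k.str) ⟶ k.pt) ≫ k.toHom) →
          AlgSp.EtaleLocally (fun U => IsReduced U) Xk'} :=  by
  obtain ⟨V, b, hb, hbs⟩ := Y.property.atlas
  have sqX := IsPullback.of_hasPullback f.hom b
  have hX' : AlgSp.IsAlgSpace (pullback f.hom b) :=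
    AlgSpLib.isAlgSpace_of_isPullback sqX X.property (AlgSp.IsAlgSpace.yon_obj _) Y.property
  obtain ⟨U, c, hc, hcs⟩ := hX'.atlas
  let h : U ⟶ V := (AlgSp.yon S).preimage (c ≫ pullback.snd f.hom b)
  have hh : c ≫ pullback.snd f.hom b = (AlgSp.yon S).map h := ((AlgSp.yon S).map_preimage _).symm
  have ha : AlgSp.RepWith @Etale (c ≫ pullback.fst f.hom b) :=
    AlgSpLib.repWith_comp hc (AlgSpLib.repWith_of_isPullback sqX.flip hb)
  have hw : (c ≫ pullback.fst f.hom b) ≫ f.hom = (AlgSp.yon S).map h ≫ b := by
    rw [Category.assoc, sqX.w, ← Category.assoc, hh]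
  have : Flat h.left := hf1 _ b h ha hb hw
  have : LocallyOfFinitePresentation h.left := hf3.1 _ b h ha hb hw
  refine (AlgSpLib.isOpen_iff_chart hb hbs).2 ?_
  convert GeomRedFib.isOpen_locus_chart f b c h hc hcs hh
    (AlgSpPts.univSp_of_isPullback sqX hf2.2.2) using 1
  ext v
  refine Iff.trans ?_ (GeomRedFib.grFib_iff_mem_locus f b c h hc hcs hh v)
  refine Iff.trans ?_ (GeomRedFib.forall_grFib_iff f _)
  exact forall₂_congr fun k _ => (GeomRedFib.grFib_iff f k).symm
end Groth.Agent.S10682
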