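import Groth.Statements.S10683
import Groth.Agent.AlgSpDec.GeomRedFib
import Groth.Agent.AlgSpPts.Sep
import Groth.Agent.S10180

set_option backward.isDefEq.respectTransparency false
set_option backward.isDefEq.respectTransparency.types false
-- import your own Groth.Agent.* helpers here

set_option autoImplicit false
universe u
open CategoryTheory CategoryTheory.Limits AlgebraicGeometry
open AlgSp Groth.Agent.AlgSpDec

namespace Groth.Agent.S10683

/-- For a quasi-compact morphism f : X ⟶ Y between algebraic spaces over S which is locally of finite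
presentation, the set E of points of |Y| at which the fibre of f is geometrically reduced is etale
locally constructible: for every affine scheme V with a representable etale a : h_V ⟶ Y, the inverse
image of E in V is a constructible subset. Here the fibre of f at y being geometrically reduced
means: for every field point k of Y in the class of y and every field homomorphism k ⟶ k', the base
change X_{k'} (pullback in fppf sheaves) is reduced (some etale surjective scheme chart is reduced). -/
theorem result {S : Scheme.{u}} {X Y : AlgSp.Space S} (f : X ⟶ Y)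
    (hf1 : AlgSp.IsQuasiCompactMor f.hom) (hf2 : AlgSp.LocP @LocallyOfFinitePresentation f.hom)
    (V : Over S) (hV : IsAffine V.left) (a : (AlgSp.yon S).obj V ⟶ Y.obj) (ha : AlgSp.RepWith @Etale a) :
    Topology.IsConstructible ((AlgSp.Points.ofPt a) ⁻¹' {y : AlgSp.Points Y.obj | ∀ (k : AlgSp.FieldPt Y.obj), AlgSp.Points.mk k = y →
        ∀ (k' : Type u) [Field k'] (φ : k.K →+* k') (Xk' : AlgSp.Sp S) (a : Xk' ⟶ X.obj)
          (b : Xk' ⟶ (AlgSp.yon S).obj (Over.mk (Spec.map (CommRingCat.ofHom φ) ≫ k.str))),
          IsPullback a b f.hom ((AlgSp.yon S).map (Over.homMk (Spec.map (CommRingCat.ofHom φ)) rfl :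
            Over.mk (Spec.map (CommRingCat.ofHom φ) ≫ k.str) ⟶ k.pt) ≫ k.toHom) →
          AlgSp.EtaleLocally (fun U => IsReduced U) Xk'}) :=  by
  have sqX := IsPullback.of_hasPullback f.hom a
  have hX' : AlgSp.IsAlgSpace (pullback f.hom a) :=
    AlgSpLib.isAlgSpace_of_isPullback sqX X.property (AlgSp.IsAlgSpace.yon_obj _) Y.property
  have : CompactSpace ↥V.left := inferInstance
  have hqc : AlgSp.IsQuasiCompactSp (pullback f.hom a) :=
    hf1 (AlgSp.IsAlgSpace.yon_obj V) (AlgSpLib.isQuasiCompactSp_yon V) a _ _ sqX
  obtain ⟨U, c, hU, hc, hcs⟩ := (S10180.result ⟨_, hX'⟩).1 hqc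
  let h : U ⟶ V := (AlgSp.yon S).preimage (c ≫ pullback.snd f.hom a)
  have hh : c ≫ pullback.snd f.hom a = (AlgSp.yon S).map h := ((AlgSp.yon S).map_preimage _).symm
  have : LocallyOfFinitePresentation h.left :=
    hf2 _ a h (AlgSpLib.repWith_comp hc (AlgSpLib.repWith_of_isPullback sqX.flip ha)) ha
      (by rw [Category.assoc, sqX.w, ← Category.assoc, hh])
  have : QuasiCompact h.left :=
    (HasAffineProperty.iff_of_isAffine (P := @QuasiCompact)).2 (inferInstanceAs (CompactSpace ↥U.left))
  convert (Groth.Agent.FlatMisc.GeomRedConstr.isLocallyConstructible_locus h.left).isConstructible using 1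
  ext v
  refine Iff.trans ?_ (GeomRedFib.grFib_iff_mem_locus f a c h hc hcs hh v)
  refine Iff.trans ?_ (GeomRedFib.forall_grFib_iff f _)
  exact forall₂_congr fun k _ => (GeomRedFib.grFib_iff f k).symm
end Groth.Agent.S10683
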