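import Groth.Statements.S10695
import Groth.Agent.AlgSpWA.ElemPushout

set_option backward.isDefEq.respectTransparency false
set_option backward.isDefEq.respectTransparency.types false
-- import your own Groth.Agent.* helpers here

set_option autoImplicit false
universe u
open CategoryTheory CategoryTheory.Limits AlgebraicGeometry
open AlgSp

namespace Groth.Agent.S10695

/-- Suppose `(U ⊂ W, f : V → W)`, a square of algebraic spaces over `S`, is elementary distinguished
(`j` an open immersion, `f` etale and an isomorphism over the reduced closed complement of `U`) and
let `P` with its two projections be a fibre product `U ×_W V`. Then `W` is the pushout of `U` and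
`V` along `P` among algebraic spaces over `S`. -/
theorem result {S : Scheme.{u}} {U V W P : AlgSp.Space S} (j : U ⟶ W) (f : V ⟶ W)
    (hsq : AlgSp.IsElemDistSq j.hom f.hom) (p : P ⟶ U) (q : P ⟶ V)
    (hP : IsPullback p.hom q.hom j.hom f.hom) : IsPushout p q j f :=  by
  exact Groth.Agent.AlgSpWA.ElemPushout.isPushout j f hsq p q hP
end Groth.Agent.S10695
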