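import Groth.Statements.S10702
import Groth.Agent.AlgSpLib.Descent2

set_option backward.isDefEq.respectTransparency false
set_option backward.isDefEq.respectTransparency.types false
-- import your own Groth.Agent.* helpers here

set_option autoImplicit false
universe u
open CategoryTheory CategoryTheory.Limits AlgebraicGeometry
open AlgSp

namespace Groth.Agent.S10702

/-- Consider a commutative diagram of algebraic spaces over `S` with top row `A → C → E`, bottom row `B
→ D → F` and vertical maps `A → B`, `C → D`, `E → F`. If the left square and the outer rectangle are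
cartesian and `B → D` is surjective etale, then the right square is cartesian. -/
theorem result {S : Scheme.{u}} {A B C D E F : AlgSp.Space S} (ac : A ⟶ C) (ab : A ⟶ B)
    (cd : C ⟶ D) (bd : B ⟶ D) (ce : C ⟶ E) (df : D ⟶ F) (ef : E ⟶ F)
    (hl : IsPullback ac.hom ab.hom cd.hom bd.hom) (hcomm : cd ≫ df = ce ≫ ef)
    (hout : IsPullback (ac ≫ ce).hom ab.hom ef.hom (bd ≫ df).hom) (hsurj : AlgSp.IsSurjectiveMor bd.hom)
    (het : AlgSp.IsEtaleMor bd.hom) : IsPullback ce.hom cd.hom ef.hom df.hom := Groth.Agent.AlgSpLib.isPullback_of_etale_surjective A.property B.property C.property D.property E.property F.property hl (congrArg (·.hom) hcomm) hout hsurj het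
end Groth.Agent.S10702
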