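import Groth.Statements.S10705
import Groth.Agent.AlgSpLib.GlueFpqc

set_option backward.isDefEq.respectTransparency false
set_option backward.isDefEq.respectTransparency.types false

set_option autoImplicit false
universe u
open CategoryTheory CategoryTheory.Limits AlgebraicGeometry
open AlgSp

namespace Groth.Agent.S10705

/-- Let `f : Y → X` be a quasi-compact quasi-separated morphism of algebraic spaces over `S`, `i : Z →
X` a closed immersion of finite presentation such that `f⁻¹Z → Z` is an isomorphism and `f` is flat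
at every point of `|f⁻¹Z|`, and let `U ⊂ X` be the open subspace complementary to `Z`. Let `a : X₁ →
X₂` be a morphism of algebraic spaces over `X`. If the base change of `a` to `U` and the base change
of `a` to `Y` are isomorphisms, then `a` is an isomorphism: the formal glueing functor reflects
isomorphisms. -/
theorem result {S : Scheme.{u}} {X Y Z FZ U : AlgSp.Space S} (f : Y ⟶ X)
    (hqc : AlgSp.IsQuasiCompactMor f.hom) (hqs : AlgSp.IsQuasiSeparatedMor f.hom) (i : Z ⟶ X)
    (hi : AlgSp.RepWith @IsClosedImmersion i.hom) (hifp : AlgSp.LocP @LocallyOfFinitePresentation i.hom)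
    (iY : FZ ⟶ Y) (fZ : FZ ⟶ Z) (hFZ : IsPullback iY.hom fZ.hom f.hom i.hom) [IsIso fZ]
    (hflat : ∀ y ∈ Set.range (AlgSp.Points.map iY.hom), AlgSp.IsFlatAtMor f.hom y) (j : U ⟶ X)
    (hj : AlgSp.RepWith @IsOpenImmersion j.hom)
    (hU : Set.range (AlgSp.Points.map j.hom) = (Set.range (AlgSp.Points.map i.hom))ᶜ)
    {X₁ X₂ QU QU₁ QY QY₁ : AlgSp.Space S} (p₂ : X₂ ⟶ X) (a : X₁ ⟶ X₂)
    (qU : QU ⟶ X₂) (rU : QU ⟶ U) (hQU : IsPullback qU.hom rU.hom p₂.hom j.hom) (aU : QU₁ ⟶ QU)
    (bU : QU₁ ⟶ X₁) (hQU₁ : IsPullback bU.hom aU.hom a.hom qU.hom) [IsIso aU] (qY : QY ⟶ X₂) (rY : QY ⟶ Y)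
    (hQY : IsPullback qY.hom rY.hom p₂.hom f.hom) (aY : QY₁ ⟶ QY) (bY : QY₁ ⟶ X₁)
    (hQY₁ : IsPullback bY.hom aY.hom a.hom qY.hom) [IsIso aY] : IsIso a := by
  open Groth.Agent.AlgSpLib in
  haveI : IsIso fZ.hom := inferInstanceAs (IsIso ((ObjectProperty.ι _).map fZ))
  haveI : IsIso aU.hom := inferInstanceAs (IsIso ((ObjectProperty.ι _).map aU))
  haveI : IsIso aY.hom := inferInstanceAs (IsIso ((ObjectProperty.ι _).map aY))
  obtain ⟨ι, W, w, hw, hor⟩ := exists_fpqcCover_glue X.property Y.property Z.property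
    f.hom i.hom hi hifp iY.hom fZ.hom hFZ hflat j.hom hj hU
  have hP : ∀ k, AlgSp.IsAlgSpace (pullback p₂.hom (w k)) := fun k =>
    isAlgSpace_pullback X₂.property (AlgSp.IsAlgSpace.yon_obj (W k)) X.property _ _
  have hcov := isFpqcCover_of_isPullback X.property X₂.property
    (fun k => AlgSp.IsAlgSpace.yon_obj (W k)) (fun k => IsPullback.of_hasPullback p₂.hom (w k)) hw
  have key : ∀ {B Q Q₁ : AlgSp.Sp S} {W' : AlgSp.Sp S} (b : B ⟶ X.obj) (w' : W' ⟶ X.obj) (l : W' ⟶ B)
      (_ : l ≫ b = w') {q : Q ⟶ X₂.obj} {r : Q ⟶ B} (_ : IsPullback q r p₂.hom b) {a' : Q₁ ⟶ Q}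
      {c : Q₁ ⟶ X₁.obj} (_ : IsPullback c a' a.hom q) (_ : IsIso a'),
      IsIso (pullback.snd a.hom (pullback.fst p₂.hom w')) := by
    intro B Q Q₁ W' b w' l hl q r hQ a' c hQ₁ ha'
    let m : pullback p₂.hom w' ⟶ Q := hQ.lift (pullback.fst _ _) (pullback.snd _ _ ≫ l)
      (by rw [pullback.condition, Category.assoc, hl])
    have hm : m ≫ q = pullback.fst p₂.hom w' := hQ.lift_fst _ _ _
    have sq₂ := (IsPullback.of_hasPullback a' m).paste_horiz hQ₁
    rw [hm] at sq₂
    rw [← (IsPullback.of_hasPullback a.hom (pullback.fst p₂.hom w')).isoIsPullback_hom_snd _ _ sq₂]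
    infer_instance
  have hiso : IsIso a.hom := isIso_of_fpqc X₁.property X₂.property hP
    (fun k => isAlgSpace_pullback X₁.property (hP k) X₂.property _ _) hcov
    (fun k => IsPullback.of_hasPullback a.hom (pullback.fst p₂.hom (w k))) fun k => by
      rcases hor k with ⟨l, hl⟩ | ⟨l, hl⟩
      · exact key j.hom (w k) l hl hQU hQU₁ ‹_›
      · exact key f.hom (w k) l hl hQY hQY₁ ‹_›
  haveI : IsIso ((ObjectProperty.ι _).map a) := hiso
  exact isIso_of_reflects_iso a (ObjectProperty.ι _)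

end Groth.Agent.S10705
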