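import Groth.Statements.S10706
import Groth.Agent.EtGlueSp.Glueable

set_option backward.isDefEq.respectTransparency false
set_option backward.isDefEq.respectTransparency.types false
-- import your own Groth.Agent.* helpers here

set_option autoImplicit false
universe u
open CategoryTheory CategoryTheory.Limits AlgebraicGeometry TensorProduct
open AlgSp

namespace Groth.Agent.S10706

/-- Let `(R → R', f)` be a glueing pair and `Y` an algebraic space over `Spec R`. The following are
equivalent: (1) there is an etale covering of `Y` by affine schemes `Spec A_k` with every `A_k`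
glueable as an `R`-module; (2) for every affine scheme `Spec A` etale over `Y`, the `R`-module `A`
is glueable. -/
theorem result (R : Type u) [CommRing R] (R' : Type u) [CommRing R'] [Algebra R R']
    (f : R) (hRR' : EtGlue.IsGlueingPair R R' f) (Y : AlgSp.Space (Spec (CommRingCat.of R))) :
    (∃ (ι : Type u) (A : ι → Type u) (_ : ∀ k, CommRing (A k)) (_ : ∀ k, Algebra R (A k))
        (g : ∀ k, (AlgSp.yon (Spec (CommRingCat.of R))).obj (Over.mk (Spec.map (CommRingCat.ofHom (algebraMap R (A k)))) : Over (Spec (CommRingCat.of R))) ⟶ Y.obj),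
        (∀ k, AlgSp.RepWith @Etale (g k)) ∧ (∀ y : AlgSp.Points Y.obj, ∃ k, y ∈ Set.range (AlgSp.Points.map (g k))) ∧
          ∀ k, EtGlue.IsGlueable R R' f (A k)) ↔
      (∀ (A : Type u) [CommRing A] [Algebra R A]
      (g : (AlgSp.yon (Spec (CommRingCat.of R))).obj (Over.mk (Spec.map (CommRingCat.ofHom (algebraMap R A))) : Over (Spec (CommRingCat.of R))) ⟶ Y.obj),
      AlgSp.RepWith @Etale g → EtGlue.IsGlueable R R' f A) :=  by
  constructor
  · rintro ⟨ι, B, _, _, gB, het, hcov, hgl⟩ A _ _ g hg
    let P := fun k => (het k).rep.pullback g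
    haveI : ∀ k, Etale ((het k).rep.snd g).left := fun k => (het k).property_snd g
    haveI : ∀ k, Etale ((het k).rep.fst' g).left := fun k =>
      hg.property (gB k) _ _ ((het k).rep.isPullback' g).flip
    let str : ∀ i : Σ k, (P k).left.affineOpens, Spec Γ((P i.1).left, i.2.1) ⟶ Spec (CommRingCat.of A) :=
      fun i => i.2.2.fromSpec ≫ ((het i.1).rep.snd g).left
    let strB : ∀ i : Σ k, (P k).left.affineOpens, Spec Γ((P i.1).left, i.2.1) ⟶ Spec (CommRingCat.of (B i.1)) :=
      fun i => i.2.2.fromSpec ≫ ((het i.1).rep.fst' g).left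
    let α := fun i => (Spec.preimage (str i)).hom
    let β := fun i => (Spec.preimage (strB i)).hom
    letI : ∀ i : Σ k, (P k).left.affineOpens, Algebra A Γ((P i.1).left, i.2.1) := fun i => (α i).toAlgebra
    letI : ∀ i : Σ k, (P k).left.affineOpens, Algebra R Γ((P i.1).left, i.2.1) :=
      fun i => ((α i).comp (algebraMap R A)).toAlgebra
    refine EtGlueSp.isGlueable_of_jointly_injective hRR' (fun i : Σ k, (P k).left.affineOpens => Γ((P i.1).left, i.2.1))
      (fun i => { α i with commutes' := fun r => rfl }) (fun i => ?_) ?_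
    · letI : Algebra (B i.1) Γ((P i.1).left, i.2.1) := (β i).toAlgebra
      have : IsScalarTower R (B i.1) Γ((P i.1).left, i.2.1) := .of_algebraMap_eq' <| by
        apply congrArg CommRingCat.Hom.hom (a₁ := CommRingCat.ofHom ((α i).comp (algebraMap R A)))
          (a₂ := CommRingCat.ofHom ((β i).comp (algebraMap R (B i.1))))
        apply Spec.map_injective
        rw [CommRingCat.ofHom_comp, CommRingCat.ofHom_comp, Spec.map_comp, Spec.map_comp]
        show Spec.map (Spec.preimage (str i)) ≫ _ = Spec.map (Spec.preimage (strB i)) ≫ _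
        rw [Spec.map_preimage, Spec.map_preimage]
        simp only [str, strB, Category.assoc]
        exact congrArg (_ ≫ ·) ((Over.w ((het i.1).rep.snd g)).trans (Over.w ((het i.1).rep.fst' g)).symm)
      have hf : (β i).Flat := by
        have h : Flat (Spec.map (Spec.preimage (strB i))) := by
          rw [Spec.map_preimage]
          simp only [strB]
          infer_instance
        exact (HasRingHomProperty.Spec_iff (P := @Flat)).1 h
      have : Module.Flat (B i.1) Γ((P i.1).left, i.2.1) := hf
      exact EtGlueSp.isGlueable_of_flat_tower hRR' (hgl i.1) _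
    · intro a ha
      haveI : ∀ i : Σ k, (P k).left.affineOpens, Module.Flat A Γ((P i.1).left, i.2.1) := fun i => by
        have h : Flat (Spec.map (Spec.preimage (str i))) := by
          rw [Spec.map_preimage]
          simp only [str]
          infer_instance
        exact ((HasRingHomProperty.Spec_iff (P := @Flat)).1 h : _)
      refine EtGlueSp.eq_zero_of_jointly_flat (B := fun i : Σ k, (P k).left.affineOpens => Γ((P i.1).left, i.2.1))
        (fun t => ?_) ha
      obtain ⟨k, x, hx⟩ := hcov (Points.map g (Points.ofScheme _ t))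
      obtain ⟨z, -, hz⟩ := AlgSpLib.exists_point_of_isPullback ((het k).rep.isPullback g) hx
      have hz' := congrArg (Points.toScheme _) hz
      rw [← Points.ofScheme_toScheme _ z, Points.map_ofPt, Category.id_comp, Points.toScheme_ofPt,
        Points.toScheme_ofScheme] at hz'
      obtain ⟨W, hW, hzW, -⟩ := exists_isAffineOpen_mem_and_subset (U := (⊤ : (P k).left.Opens))
        (x := Points.toScheme _ z) trivial
      rw [← SetLike.mem_coe, ← hW.range_fromSpec] at hzW
      obtain ⟨q, hq⟩ := hzW
      refine ⟨⟨k, W, hW⟩, q, ?_⟩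
      show (Spec.map (Spec.preimage (str ⟨k, W, hW⟩))) q = t
      rw [Spec.map_preimage]
      show ((het k).rep.snd g).left (hW.fromSpec q) = t
      rw [hq]
      exact hz'
  · intro h
    obtain ⟨U, p, hpe, hps, ι, A, _, _, j, hje, hcov, hje'⟩ := EtGlueSp.exists_charts Y.property
    refine ⟨ι, A, inferInstance, inferInstance, fun k => (yon _).map (j k) ≫ p, hje', fun y => ?_,
      fun k => h (A k) _ (hje' k)⟩
    obtain ⟨x, rfl⟩ := AlgSpLib.surjective_ofPt hps y
    obtain ⟨k, t, rfl⟩ := hcov x
    refine ⟨k, Points.ofScheme _ t, ?_⟩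
    rw [Points.map_ofPt, Category.id_comp, AlgSpLib.ofPt_comp]
end Groth.Agent.S10706
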