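import Groth.Statements.S10707
import Groth.Agent.EtGlueSp.Glueable
import Groth.Agent.EtGlueSp.Eq

set_option backward.isDefEq.respectTransparency false
set_option backward.isDefEq.respectTransparency.types false
-- import your own Groth.Agent.* helpers here

set_option autoImplicit false
universe u
open CategoryTheory CategoryTheory.Limits AlgebraicGeometry TensorProduct
open AlgSp
attribute [local instance] Algebra.TensorProduct.rightAlgebra

namespace Groth.Agent.S10707

/-- Let `(R → R', f)` be a glueing pair, `X = Spec R`, `U = Spec R_f`, `X' = Spec R'`, and let `Y`, `Z`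
be algebraic spaces over `X` glueable for `(R → R', f)`. Two morphisms `a, b : Y → Z` over `X` whose
base changes to `U` agree and whose base changes to `X'` agree are equal. -/
theorem result (R : Type u) [CommRing R] (R' : Type u) [CommRing R'] [Algebra R R']
    (f : R) (hRR' : EtGlue.IsGlueingPair R R' f) {Y Z YU YX' : AlgSp.Space (Spec (CommRingCat.of R))}
    (hY : (∀ (A : Type u) [CommRing A] [Algebra R A]
      (g : (AlgSp.yon (Spec (CommRingCat.of R))).obj (Over.mk (Spec.map (CommRingCat.ofHom (algebraMap R A))) : Over (Spec (CommRingCat.of R))) ⟶ Y.obj),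
      AlgSp.RepWith @Etale g → EtGlue.IsGlueable R R' f A))
    (hZ : (∀ (A : Type u) [CommRing A] [Algebra R A]
      (g : (AlgSp.yon (Spec (CommRingCat.of R))).obj (Over.mk (Spec.map (CommRingCat.ofHom (algebraMap R A))) : Over (Spec (CommRingCat.of R))) ⟶ Z.obj),
      AlgSp.RepWith @Etale g → EtGlue.IsGlueable R R' f A))
    (a b : Y ⟶ Z) (πZ : Z.obj ⟶ (AlgSp.yon (Spec (CommRingCat.of R))).obj (Over.mk (𝟙 _)))
    (inU : (Over.mk (Spec.map (CommRingCat.ofHom (algebraMap R (Localization.Away f)))) : Over (Spec (CommRingCat.of R))) ⟶ Over.mk (𝟙 _))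
    (uY : YU ⟶ Y) (vY : YU.obj ⟶ (AlgSp.yon (Spec (CommRingCat.of R))).obj (Over.mk (Spec.map (CommRingCat.ofHom (algebraMap R (Localization.Away f)))) : Over (Spec (CommRingCat.of R))))
    (hYU : IsPullback uY.hom vY (a.hom ≫ πZ) ((AlgSp.yon (Spec (CommRingCat.of R))).map inU))
    (inX' : (Over.mk (Spec.map (CommRingCat.ofHom (algebraMap R R'))) : Over (Spec (CommRingCat.of R))) ⟶ Over.mk (𝟙 _))
    (uY' : YX' ⟶ Y) (vY' : YX'.obj ⟶ (AlgSp.yon (Spec (CommRingCat.of R))).obj (Over.mk (Spec.map (CommRingCat.ofHom (algebraMap R R'))) : Over (Spec (CommRingCat.of R))))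
    (hYX' : IsPullback uY'.hom vY' (a.hom ≫ πZ) ((AlgSp.yon (Spec (CommRingCat.of R))).map inX'))
    (haU : uY ≫ a = uY ≫ b) (haX' : uY' ≫ a = uY' ≫ b) : a = b :=  by
  obtain ⟨U, p, hpe, hps, ι, A, _, _, j, hje, hcov, hje'⟩ := EtGlueSp.exists_charts Y.property
  haveI := hje
  haveI : Epi p := AlgSpLib.epi_of_etale_surjective hpe hps
  have key : ∀ k, (yon _).map (j k) ≫ p ≫ a.hom = (yon _).map (j k) ≫ p ≫ b.hom := by
    intro k
    have hp := EtGlue7.glueingPair_of_isGlueable hRR'.1 (A k) (hY (A k) _ (hje' k))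
    have hterm : ∀ {T : Over (Spec (CommRingCat.of R))}
        (u v : (yon _).obj T ⟶ (yon _).obj (Over.mk (𝟙 _))), u = v := fun {T} u v => by
      obtain ⟨u, rfl⟩ := (yon _).map_surjective u
      obtain ⟨v, rfl⟩ := (yon _).map_surjective v
      congr 1
      ext1
      exact ((Category.comp_id u.left).symm.trans (Over.w u)).trans
        ((Category.comp_id v.left).symm.trans (Over.w v)).symm
    have aux : ∀ {B C : Type u} [CommRing B] [CommRing C] [Algebra R B] (α : A k →+* C) (δ : B →+* C)
        (_ : δ.comp (algebraMap R B) = α.comp (algebraMap R (A k))) {P : Space (Spec (CommRingCat.of R))}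
        (uP : P ⟶ Y) (vP : P.obj ⟶ (yon _).obj (EtGlueSp.specOver B))
        (inB : EtGlueSp.specOver (R := R) B ⟶ Over.mk (𝟙 _))
        (_ : IsPullback uP.hom vP (a.hom ≫ πZ) ((yon _).map inB)) (_ : uP ≫ a = uP ≫ b),
        (yon _).map (EtGlueSp.specHom α (Spec.map (CommRingCat.ofHom (algebraMap R (A k))))) ≫
            (yon _).map (j k) ≫ p ≫ a.hom =
          (yon _).map (EtGlueSp.specHom α (Spec.map (CommRingCat.ofHom (algebraMap R (A k))))) ≫
            (yon _).map (j k) ≫ p ≫ b.hom := by
      intro B C _ _ _ α δ hδ P uP vP inB sq heq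
      let σ := EtGlueSp.specHom α (Spec.map (CommRingCat.ofHom (algebraMap R (A k))))
      let l : Over.mk (Spec.map (CommRingCat.ofHom α) ≫ Spec.map (CommRingCat.ofHom (algebraMap R (A k)))) ⟶
          EtGlueSp.specOver (R := R) B :=
        Over.homMk (Spec.map (CommRingCat.ofHom δ)) (by
          show _ ≫ Spec.map _ = _ ≫ Spec.map _
          rw [← Spec.map_comp, ← Spec.map_comp, ← CommRingCat.ofHom_comp, ← CommRingCat.ofHom_comp, hδ])
      let w := sq.lift ((yon _).map σ ≫ (yon _).map (j k) ≫ p) ((yon _).map l) (hterm _ _)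
      have hw : w ≫ uP.hom = (yon _).map σ ≫ (yon _).map (j k) ≫ p := sq.lift_fst ..
      have h : uP.hom ≫ a.hom = uP.hom ≫ b.hom := congrArg InducedCategory.Hom.hom heq
      simp only [← Category.assoc]
      simp only [Category.assoc]
      rw [← Category.assoc ((yon _).map (j k)), ← Category.assoc ((yon _).map σ), ← hw, Category.assoc, h,
        ← Category.assoc, hw]
      simp only [Category.assoc]
      rfl
    refine EtGlueSp.eq_of_glueingPair Z.property hp _ _ _ ?_ ?_
    · exact aux (algebraMap (A k) (Localization.Away (algebraMap R (A k) f)))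
        (Localization.awayMap (algebraMap R (A k)) f)
        (RingHom.ext fun r => by simp [Localization.awayMap, IsLocalization.Away.map]) uY vY inU hYU haU
    · exact aux (algebraMap (A k) (R' ⊗[R] A k)) (Algebra.TensorProduct.includeLeft (R := R) (S := R) (A := R') (B := A k)).toRingHom
        (RingHom.ext fun r =>
          ((Algebra.TensorProduct.includeLeft (R := R) (S := R) (A := R') (B := A k)).commutes r).trans
            ((Algebra.TensorProduct.includeRight (R := R) (A := R') (B := A k)).commutes r).symm) uY' vY' inX' hYX' haX'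
  have hpab : p ≫ a.hom = p ≫ b.hom := by
    refine AlgSpLib.hom_ext_of_covering _ _ (R := Sieve.generate (Presieve.ofArrows _ j)) ?_ ?_
    · exact AlgSpDec.mem_J_of_jointly j (fun x => by obtain ⟨k, t, ht⟩ := hcov x; exact ⟨k, t, ht⟩) _
        fun k => Sieve.le_generate _ _ _ (Presieve.ofArrows.mk k)
    · rintro T _ ⟨_, φ, _, ⟨k⟩, rfl⟩
      rw [Functor.map_comp, Category.assoc, Category.assoc, key k]
  exact InducedCategory.hom_ext ((cancel_epi p).1 hpab)
end Groth.Agent.S10707
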