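import Groth.Statements.S10714
import Groth.Agent.AlgSpWA.ThickPOChart

set_option backward.isDefEq.respectTransparency false
set_option backward.isDefEq.respectTransparency.types false
-- import your own Groth.Agent.* helpers here

set_option autoImplicit false
universe u
open CategoryTheory CategoryTheory.Limits AlgebraicGeometry
open AlgSp

namespace Groth.Agent.S10714

/-- Let `t : X → X'` be a thickening and `f : X → Y` an affine morphism of algebraic spaces over `S`
with pushout `Y' = Y ⨿_X X'`, and let `w : W' → Y'` be flat. Then `W'` is the pushout, in the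
category of algebraic spaces over `S`, of its base changes `W' ×_{Y'} Y` and `W' ×_{Y'} X'` along
their common base change to `X`: the counit of the glueing adjunction at `W'` is an isomorphism. -/
theorem result {S : Scheme.{u}} {X X' Y Y' W' WY WX' WX : AlgSp.Space S}
    (t : X ⟶ X') (ht : AlgSp.IsThickMor t.hom) (f : X ⟶ Y) (hf : AlgSp.IsAffineMor f.hom) (f' : X' ⟶ Y')
    (t' : Y ⟶ Y') (hY' : IsPushout t f f' t') (w : W' ⟶ Y') (hw : AlgSp.LocP @Flat w.hom) (aY : WY ⟶ W')
    (bY : WY ⟶ Y) (hWY : IsPullback aY.hom bY.hom w.hom t'.hom) (aX' : WX' ⟶ W') (bX' : WX' ⟶ X')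
    (hWX' : IsPullback aX'.hom bX'.hom w.hom f'.hom) (cY : WX ⟶ WY) (cX' : WX ⟶ WX') (bX : WX ⟶ X)
    (hWX₁ : IsPullback cY.hom bX.hom bY.hom f.hom) (hWX₂ : IsPullback cX'.hom bX.hom bX'.hom t.hom)
    (hcomm : cY ≫ aY = cX' ≫ aX') :
    IsPushout cY cX' aY aX' :=  by
  exact Groth.Agent.AlgSpWA.ThickPO.isPushout_of_flat t ht f hf hY' w hw hWY hWX' hWX₁ hWX₂ hcomm
end Groth.Agent.S10714
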