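import Groth.Statements.S10727
import Groth.Agent.EtGlue7.Glueing
-- import your own Groth.Agent.* helpers here

set_option autoImplicit false
universe u
open TensorProduct
open EtAlg

namespace Groth.Agent.S10727

/-- Glueing affine schemes along a glueing pair, stated for their coordinate rings. Let `(R → R', f)` be
a glueing pair, `A₁` an `R`-algebra in which `f` is invertible, `A'` an `R'`-algebra and `φ : A'_f ≅
R' ⊗_R A₁` an isomorphism of `R'`-algebras. Then there is an `R`-algebra `A`, glueable as an
`R`-module, with isomorphisms `A_f ≅ A₁` of `R`-algebras and `R' ⊗_R A ≅ A'` of `R'`-algebras under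
which `φ` is the canonical identification `(R' ⊗_R A)_f = R' ⊗_R A_f`. (The published statement is
that base change is an equivalence between affine schemes over `Spec R` that are glueable and
triples of affine schemes over `Spec R_f`, `Spec R'_f`, `Spec R'` with cartesian squares; this row
states only that every such triple arises, on coordinate rings.) -/
theorem result (R : Type u) [CommRing R] (R' : Type u) [CommRing R'] [Algebra R R']
    (f : R) (hRR' : EtGlue.IsGlueingPair R R' f) (A₁ : Type u) [CommRing A₁] [Algebra R A₁]
    (h₁ : IsUnit (algebraMap R A₁ f)) (A' : Type u) [CommRing A'] [Algebra R A'] [Algebra R' A']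
    [IsScalarTower R R' A'] (φ : Localization.Away (algebraMap R A' f) ≃ₐ[R'] R' ⊗[R] A₁) :
    ∃ (A : Type u) (_ : CommRing A) (_ : Algebra R A) (_ : EtGlue.IsGlueable R R' f A)
      (e₁ : Localization.Away (algebraMap R A f) ≃ₐ[R] A₁) (e' : R' ⊗[R] A ≃ₐ[R'] A'),
      ∀ a : A, φ (algebraMap A' (Localization.Away (algebraMap R A' f)) (e' ((1 : R') ⊗ₜ[R] a))) =
        (1 : R') ⊗ₜ[R] e₁ (algebraMap A (Localization.Away (algebraMap R A f)) a) := by
  exact Groth.Agent.EtGlue7.exists_glueable_algebra hRR' A₁ h₁ A' φ

end Groth.Agent.S10727
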