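import Groth.Statements.S1075
import Groth.Agent.TriCat.DerivedProducts
import Groth.Agent.TriCat.Resolve
import Mathlib.Algebra.Homology.HomotopyCategory.KInjective

set_option autoImplicit false
universe w v u
open CategoryTheory CategoryTheory.Limits
open CohDer

namespace Groth.Agent.S1075

/-- In D(A), for A abelian with enough injectives and countable products, every sequence of
bounded-below objects has a product, so derived limits of such sequences exist. -/
theorem result {A : Type u} [Category.{v} A] [Abelian A] [HasDerivedCategory.{w} A]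
    [HasLimitsOfShape (Discrete ℕ) A] [EnoughInjectives A]
    (K : ℕ → DerivedCategory A) (hK : ∀ n, ∃ a : ℤ, (K n).IsGE a) : HasProduct K := by
  have hres : ∀ n, ∃ L : CochainComplex A ℤ, L.IsKInjective ∧ Nonempty (DerivedCategory.Q.obj L ≅ K n) := fun n => by
    obtain ⟨a, ha⟩ := hK n
    obtain ⟨C, hC, ⟨e⟩⟩ := DerivedCategory.exists_iso_Q_obj_of_isGE (K n) a
    obtain ⟨L, α, hL, hI, -, hα⟩ := Groth.Agent.TriCat.exists_quasiIso_resolution (fun X : A => Injective X)
      ⟨_, isZero_zero A, inferInstance⟩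
      (fun X => ⟨Injective.under X, Injective.ι X, inferInstance, inferInstance⟩) C a
    haveI := hI
    exact ⟨L, CochainComplex.isKInjective_of_injective L a, ⟨(asIso (DerivedCategory.Q.map α)).symm ≪≫ e.symm⟩⟩
  choose L hL e using hres
  let q := HomotopyCategory.quotient A (ComplexShape.up ℤ)
  have hprod : (HomotopyCategory.subcategoryAcyclic A).rightOrthogonal (q.obj (∏ᶜ L)) := by
    intro X f hX
    obtain ⟨X₀, rfl⟩ := HomotopyCategory.quotient_obj_surjective X
    obtain ⟨g, rfl⟩ := q.map_surjective f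
    have hz : q.map g = q.map 0 := Groth.Agent.TriCat.quotient_hom_ext_pi g 0 fun j => by
      haveI := hL j
      show q.map (g ≫ Pi.π L j) = q.map (0 ≫ Pi.π L j)
      rw [zero_comp, q.map_zero _ _]
      exact CochainComplex.IsKInjective.rightOrthogonal (L j) _ hX
    exact hz.trans (q.map_zero _ _)
  have hbij : ∀ (M : CochainComplex A ℤ), (HomotopyCategory.subcategoryAcyclic A).rightOrthogonal (q.obj M) →
      ∀ X₀ : CochainComplex A ℤ, Function.Bijective
        (DerivedCategory.Qh.map : (q.obj X₀ ⟶ q.obj M) → _) := fun M hM X₀ =>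
    ObjectProperty.rightOrthogonal.map_bijective_of_isTriangulated hM DerivedCategory.Qh (q.obj X₀)
  let e' : ∀ j, DerivedCategory.Qh.obj (q.obj (L j)) ≅ K j := fun j =>
    (DerivedCategory.quotientCompQhIso A).app (L j) ≪≫ (e j).some
  have hlift : ∀ s : Fan K, ∃ l : s.pt ⟶ DerivedCategory.Qh.obj (q.obj (∏ᶜ L)),
      (∀ j, l ≫ DerivedCategory.Qh.map (q.map (Pi.π L j)) ≫ (e' j).hom = s.proj j) ∧
        ∀ m : s.pt ⟶ DerivedCategory.Qh.obj (q.obj (∏ᶜ L)),
          (∀ j, m ≫ DerivedCategory.Qh.map (q.map (Pi.π L j)) ≫ (e' j).hom = s.proj j) → m = l := fun s => by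
    let X₀ := DerivedCategory.Q.objPreimage s.pt
    let t : DerivedCategory.Qh.obj (q.obj X₀) ≅ s.pt :=
      (DerivedCategory.quotientCompQhIso A).app X₀ ≪≫ DerivedCategory.Q.objObjPreimageIso _
    have hh : ∀ j, ∃ g : X₀ ⟶ L j, DerivedCategory.Qh.map (q.map g) = t.hom ≫ s.proj j ≫ (e' j).inv := fun j => by
      haveI := hL j
      obtain ⟨f, hf⟩ := (hbij (L j) (CochainComplex.IsKInjective.rightOrthogonal (L j)) X₀).2
        (t.hom ≫ s.proj j ≫ (e' j).inv)
      obtain ⟨g, rfl⟩ := q.map_surjective f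
      exact ⟨g, hf⟩
    choose g hg using hh
    refine ⟨t.inv ≫ DerivedCategory.Qh.map (q.map (Pi.lift g)), fun j => ?_, fun m hm => ?_⟩
    · rw [Category.assoc, ← Functor.map_comp_assoc, ← q.map_comp, Pi.lift_π, hg]
      simp
    · obtain ⟨f, hf⟩ := (hbij _ hprod X₀).2 (t.hom ≫ m)
      obtain ⟨g', rfl⟩ := q.map_surjective f
      have : q.map g' = q.map (Pi.lift g) := Groth.Agent.TriCat.quotient_hom_ext_pi _ _ fun j => by
        haveI := hL j
        refine (hbij (L j) (CochainComplex.IsKInjective.rightOrthogonal (L j)) X₀).1 ?_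
        show DerivedCategory.Qh.map (q.map (g' ≫ _)) = DerivedCategory.Qh.map (q.map (_ ≫ _))
        rw [q.map_comp, Functor.map_comp, hf, Pi.lift_π, hg, ← hm j]
        simp
      rw [← this, hf]
      simp
  choose lift h₁ h₂ using hlift
  exact ⟨⟨⟨Fan.mk _ fun j => DerivedCategory.Qh.map (q.map (Pi.π L j)) ≫ (e' j).hom,
    Fan.IsLimit.mk _ lift h₁ h₂⟩⟩⟩

end Groth.Agent.S1075
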