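import Groth.Statements.S10750
import Groth.Agent.AlgSpDec.FiniteNbhd
import Groth.Agent.AlgSpDec.LimDescent
import Groth.Agent.AlgSpDec.Fibres
import Groth.Agent.AlgSpDec.Basic

set_option backward.isDefEq.respectTransparency false
set_option backward.isDefEq.respectTransparency.types false
-- import your own Groth.Agent.* helpers here

set_option autoImplicit false
universe u
open CategoryTheory CategoryTheory.Limits AlgebraicGeometry Opposite
open AlgSp

namespace Groth.Agent.S10750

/-- Take a proper morphism f : X ⟶ Y of algebraic spaces over S whose target Y is locally Noetherian,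
and let y be a geometric point of Y such that the fibre X_y (a pullback of f along the corresponding
morphism from the spectrum of the algebraically closed field) has finitely many points. Then there
is an open subspace V of Y containing the image of y such that the base change X ×_Y V ⟶ V is
finite. -/
theorem result {S : Scheme.{u}} {X Y : AlgSp.Space S}
    (f : X ⟶ Y) (hY : AlgSp.IsLocNoethSp Y.obj) (hf : AlgSp.IsProperMor f.hom) (y : AlgSp.FieldPt Y.obj)
    (hy : y.IsGeometric) (Xy : AlgSp.Sp S) (fst : Xy ⟶ X.obj) (snd : Xy ⟶ (AlgSp.yon S).obj y.pt)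
    (hsq : IsPullback fst snd f.hom y.toHom) (hfin : Finite (AlgSp.Points Xy)) :
    ∃ (V : AlgSp.Space S) (j : V ⟶ Y), AlgSp.RepWith @IsOpenImmersion j.hom ∧
      AlgSp.Points.mk y ∈ Set.range (AlgSp.Points.map j.hom) ∧
        ∀ (P : AlgSp.Space S) (fst' : P ⟶ X) (snd' : P ⟶ V), IsPullback fst'.hom snd'.hom f.hom j.hom →
          AlgSp.IsFiniteMor snd'.hom :=  by
  have hXy : IsAlgSpace Xy := AlgSpLib.isAlgSpace_of_isPullback hsq X.property (IsAlgSpace.yon_obj _) Y.property
  have hp := AlgSpPts.isProperMor_of_isPullback hsq X.property Y.property (IsAlgSpace.yon_obj _) hf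
  have hqk : IsQuasiCompactSp ((yon S).obj y.pt) :=
    ⟨y.pt, 𝟙 _, repWith_id _ _, repWith_id _ _,
      (inferInstance : CompactSpace (PrimeSpectrum y.K))⟩
  have hqc : IsQuasiCompactSp Xy := hp.2.1.2 (IsAlgSpace.yon_obj _) hqk (𝟙 _) (𝟙 _) snd (IsPullback.id_horiz _)
  obtain ⟨U, a, hU, ha, has⟩ := AlgSpDec.exists_affine_atlas hqc
  have hfib : ∀ z : Points Xy, (Points.ofPt a ⁻¹' {z}).Finite := fun z => by
    induction z using Points.ind with
    | h p =>
    have : RepWith @QuasiCompact p.toHom := by
      refine AlgSpLib.of_comp_of_diagonal (RepWith @QuasiCompact) p.toHom snd ?_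
        (AlgSpLib.repWith_mono (fun _ _ e (_ : IsClosedImmersion e) => (inferInstance : QuasiCompact e)) _ hp.1)
      obtain ⟨k, hk⟩ := (yon S).map_surjective (p.toHom ≫ snd)
      rw [← hk]
      exact (repWith_yon_map_iff _ _).2 (AlgSpDec.quasiCompact_of_subsingleton _)
    exact AlgSpDec.finite_fibre_of_repWith ha p this
  have : Finite (Points Xy) := hfin
  have : Finite ↥U.left := by
    rw [← Set.finite_univ_iff]
    exact (Set.finite_iUnion hfib).subset fun u _ => Set.mem_iUnion.2 ⟨Points.ofPt a u, rfl⟩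
  obtain ⟨k, hk⟩ := (yon S).map_surjective (a ≫ snd)
  have hl : LocallyOfFiniteType k.left :=
    hp.2.1.1 a (𝟙 _) k ha (repWith_id _ _) (by rw [Category.comp_id, hk])
  let k' : U.left ⟶ Spec (CommRingCat.of y.K) := k.left
  have : LocallyOfFiniteType k' := hl
  have : JacobsonSpace ↥U.left := LocallyOfFiniteType.jacobsonSpace k'
  have : DiscreteTopology (Points Xy) := discreteTopology_iff_forall_isOpen.2 fun s => by
    rw [← Set.image_preimage_eq s (AlgSpLib.surjective_ofPt has)]
    exact AlgSpLib.isOpenMap_ofPt ha _ (isOpen_discrete _)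
  obtain ⟨V, j, hj, hjy, H⟩ := AlgSpDec.FiniteNbhd.exists_open_finite f hf (Points.mk y) fun x hx => by
    obtain ⟨z, rfl, -⟩ := AlgSpLib.exists_point_of_isPullback hsq (x := x)
      (y := Points.ofScheme y.pt (IsLocalRing.closedPoint y.K)) (by
        rw [hx, ← Points.ofPt_eq_map_ofScheme, Points.ofPt_toHom])
    obtain ⟨u, hu⟩ := AlgSpLib.surjective_ofPt has z
    exact (S10313.qfAt_iff hf.2.1.1 _).2 (AlgSpDec.FieldFibre.hasAtMor_zero_of_fibre hsq X.property Y.property
      hf.2.1.1 z a ha k hk.symm u hu (AlgSpDec.FieldFibre.fibreDimAt_zero_of_discrete ha hk.symm u))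
  exact ⟨V, j, hj, hjy, H⟩
end Groth.Agent.S10750
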