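import Groth.Statements.S10751
import Groth.Agent.AlgSpWA.PushCoh

set_option backward.isDefEq.respectTransparency false
set_option backward.isDefEq.respectTransparency.types false
-- import your own Groth.Agent.* helpers here

set_option autoImplicit false
universe u
open CategoryTheory CategoryTheory.Limits AlgebraicGeometry Opposite
open AlgSp

namespace Groth.Agent.S10751

/-- Let f : X ⟶ Y be an affine morphism of algebraic spaces over S; such a morphism is representable,
and the representability is carried as a hypothesis. Let M be a quasi-coherent O_X-module on the
small etale site of X. Then for every i ≥ 0 the groups H^i(X, M) and H^i(Y, f_* M) are isomorphic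
(existence of an isomorphism of abelian groups only; the canonical comparison map is not named
here). -/
theorem result {S : Scheme.{u}} {X Y : AlgSp.Space S}
    (f : X ⟶ Y) (hf : AlgSp.Representable f.hom) (haff : AlgSp.IsAffineMor f.hom) (M : AlgSp.ModEt X.obj)
    [M.IsQuasicoherent] (i : ℕ) :
    Nonempty (AlgSp.HModEt X.obj M i ≃+ AlgSp.HModEt Y.obj ((AlgSp.pushModEt hf).obj M) i) := 
  Groth.Agent.AlgSpWA.PushCoh.nonempty_HEt_addEquiv_pushEt hf X.property Y.property haff i _
    (Groth.Agent.AlgSpWA.AffAcyclic.isAcyclic_of_isQuasicoherent M)
end Groth.Agent.S10751
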