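import Groth.Statements.S10759
import Groth.Agent.AlgSpWA.SupportSplit

set_option backward.isDefEq.respectTransparency false
set_option backward.isDefEq.respectTransparency.types false
-- import your own Groth.Agent.* helpers here

set_option autoImplicit false
universe u
open CategoryTheory CategoryTheory.Limits AlgebraicGeometry Opposite
open AlgSp

namespace Groth.Agent.S10759

/-- Let X be a Noetherian algebraic space over S (quasi-compact, quasi-separated, locally Noetherian)
and F a coherent O_X-module on the small etale site of X (of finite presentation, X being locally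
Noetherian) with Supp(F) = Z ∪ Z' for closed subsets Z, Z' of |X| (the support being the set of
points over which the stalk of F at a geometric point is nonzero). Then there is a short exact
sequence 0 ⟶ G' ⟶ F ⟶ G ⟶ 0 of coherent modules with Supp(G') ⊂ Z' and Supp(G) ⊂ Z: a monomorphism
G' ⟶ F with G' and its cokernel coherent, the stalks of G' vanishing at geometric points outside Z'
and those of the cokernel vanishing at geometric points outside Z. -/
theorem result {S : Scheme.{u}} (X : AlgSp.Space S)
    (hqc : AlgSp.IsQuasiCompactSp X.obj) (hqs : AlgSp.IsQuasiSeparatedSp X.obj) (hN : AlgSp.IsLocNoethSp X.obj)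
    (F : AlgSp.ModEt X.obj) [F.IsFinitePresentation] (Z Z' : Set (AlgSp.Points X.obj)) (hZ : IsClosed Z)
    (hZ' : IsClosed Z')
    (hsupp : ∀ x : AlgSp.FieldPt X.obj, x.IsGeometric →
      (AlgSp.Points.mk x ∈ Z ∪ Z' ↔ ¬ IsZero (AlgSp.stalkEt x ((AlgSp.toAbEt X.obj).obj F)))) :
    ∃ (G' : AlgSp.ModEt X.obj) (a : G' ⟶ F), Mono a ∧ G'.IsFinitePresentation ∧
      (cokernel a).IsFinitePresentation ∧
        (∀ x : AlgSp.FieldPt X.obj, x.IsGeometric → AlgSp.Points.mk x ∉ Z' →
          IsZero (AlgSp.stalkEt x ((AlgSp.toAbEt X.obj).obj G'))) ∧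
        (∀ x : AlgSp.FieldPt X.obj, x.IsGeometric → AlgSp.Points.mk x ∉ Z →
          IsZero (AlgSp.stalkEt x ((AlgSp.toAbEt X.obj).obj (cokernel a)))) :=  by
  exact Groth.Agent.AlgSpWA.exists_support_split F Z' hZ' X.property hN Z hZ hsupp
end Groth.Agent.S10759
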