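import Groth.Statements.S10767
import Groth.Agent.AlgSpDec.InductionPrinciple

set_option backward.isDefEq.respectTransparency false
set_option backward.isDefEq.respectTransparency.types false
-- import your own Groth.Agent.* helpers here

set_option autoImplicit false
universe u
open CategoryTheory CategoryTheory.Limits AlgebraicGeometry
open AlgSp

namespace Groth.Agent.S10767

/-- Take a quasi-compact, quasi-separated algebraic space X over S, a family B of objects of the site of
algebraic spaces etale over X, and a property P of such objects. Assume (1) every member of B is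
quasi-compact and quasi-separated, (2) a quasi-compact open subspace of a member of B is in B, (3)
every object isomorphic to an affine scheme is in B and satisfies P, and (4) for every elementary
distinguished square (U ⊂ W, V ⟶ W) with W in B, U quasi-compact, V affine and any fibre product U
×_W V, whenever P is true of U, V and U ×_W V it is true of W. Then every member of B has property
P. Quasi-separatedness is relative to S with S quasi-separated. -/
theorem result {S : Scheme.{u}} [QuasiSeparatedSpace ↥S] (X : AlgSp.Space S)
    (hXc : AlgSp.IsQuasiCompactSp X.obj) (hXs : AlgSp.IsQuasiSeparatedSp X.obj)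
    (B P : AlgSp.EtSpOver X → Prop)
    (h1 : ∀ W, B W → AlgSp.IsQuasiCompactSp W.obj.left.obj ∧ AlgSp.IsQuasiSeparatedSp W.obj.left.obj)
    (h2 : ∀ (W U : AlgSp.EtSpOver X) (j : U ⟶ W), B W → AlgSp.RepWith @IsOpenImmersion j.hom.left.hom →
      AlgSp.IsQuasiCompactSp U.obj.left.obj → B U)
    (h3 : ∀ (V : AlgSp.EtSpOver X) (T : Over S), IsAffine T.left →
      Nonempty ((AlgSp.yon S).obj T ≅ V.obj.left.obj) → B V ∧ P V)
    (h4 : ∀ (W U V UV : AlgSp.EtSpOver X) (j : U ⟶ W) (f : V ⟶ W) (p : UV ⟶ U) (q : UV ⟶ V),
      B W → AlgSp.IsQuasiCompactSp U.obj.left.obj →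
      (∃ T : Over S, IsAffine T.left ∧ Nonempty ((AlgSp.yon S).obj T ≅ V.obj.left.obj)) →
      AlgSp.IsElemDistSq j.hom.left.hom f.hom.left.hom →
      IsPullback p.hom.left.hom q.hom.left.hom j.hom.left.hom f.hom.left.hom →
      P U → P V → P UV → P W) :
    ∀ W : AlgSp.EtSpOver X, B W → P W :=  by
  exact Groth.Agent.AlgSpDec.InductionPrinciple.induction_principle P B h2 h3 h4 h1
end Groth.Agent.S10767
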