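import Groth.Statements.S1077
import Groth.Agent.H9Misc.SubobjJH

set_option autoImplicit false
universe v u
open CategoryTheory CategoryTheory.Limits
open CohDer

namespace Groth.Agent.S1077

/-- An object X of an abelian category is Artinian and Noetherian if and only if there is a finite chain
of subobjects ⊥ = F₀ ≤ F₁ ≤ … ≤ Fₙ = ⊤ of X whose successive quotients Fᵢ₊₁/Fᵢ are simple. -/
theorem result {A : Type u} [Category.{v} A] [Abelian A] (X : A) :
    (IsArtinianObject X ∧ IsNoetherianObject X) ↔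
      ∃ (n : ℕ) (F : Fin (n + 1) → Subobject X) (hF : Monotone F), F 0 = ⊥ ∧ F (Fin.last n) = ⊤ ∧
        ∀ i : Fin n, Simple (cokernel (Subobject.ofLE (F (Fin.castSucc i)) (F (Fin.succ i)) (hF (Fin.castSucc_lt_succ (i := i)).le))) := by
  exact ⟨fun ⟨_, _⟩ => Groth.Agent.H9Misc.exists_chain X,
    fun ⟨n, F, hF, h0, hn, hs⟩ => Groth.Agent.H9Misc.artinian_noetherian_of_chain n F hF h0 hn hs⟩

end Groth.Agent.S1077
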