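import Groth.Statements.S10787
import Groth.Agent.LC.InjNoeth
import Groth.Agent.LC.InjBasic
import Mathlib

set_option autoImplicit false
universe u
open CategoryTheory CategoryTheory.Limits
open CAlg

namespace Groth.Agent.S10787
open Groth.Agent in
theorem exists_exhaustion {A : Type u} [CommRing A] [IsNoetherianRing A] {E : Type u} [AddCommGroup E]
    [Module A E] (p : Ideal A) [p.IsPrime] (g : p.ResidueField →ₗ[A] E) (hg : InjHull.IsInjectiveHull g) :
    ∃ T : ℕ → Submodule A E, Monotone T ∧ (∀ x, ∃ n, x ∈ T n) ∧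
      ∀ n, ∃ (B : Type u) (_ : CommRing B) (_ : Algebra A B) (_ : IsArtinianRing B) (_ : Module B (T n))
        (_ : IsScalarTower A B (T n)), Module.Finite B (T n) := by
  classical
  have hE := hg.isInjective
  let L := Localization.AtPrime p
  have hs0 : ∀ s : A, s ∉ p → ∀ x : E, s • x = 0 → x = 0 := by
    intro s hs x hx
    by_contra hx0
    obtain ⟨r, ⟨y, hy⟩, hr⟩ := (LC.isEssentialInj_iff.1 hg.toIsEssentialInj).2 x hx0
    have h1 : g (s • y) = 0 := by rw [map_smul, hy, smul_comm, hx, smul_zero]
    rw [map_eq_zero_iff g hg.injective, Algebra.smul_def, mul_eq_zero] at h1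
    rcases h1 with h1 | h1
    · exact hs (Ideal.algebraMap_residueField_eq_zero.1 h1)
    · exact hr (by rw [← hy, h1, map_zero])
  haveI hloc : IsLocalizedModule p.primeCompl (LinearMap.id : E →ₗ[A] E) := by
    refine ⟨fun s => ?_, fun y => ⟨⟨y, 1⟩, by simp⟩, fun {x y} h => ⟨1, by simpa using h⟩⟩
    rw [Module.End.isUnit_iff]
    refine ⟨(injective_iff_map_eq_zero _).2 fun x hx => hs0 s s.2 x hx, fun x => ?_⟩
    have hinj : Function.Injective (LinearMap.lsmul A E (s : A)) :=
      (injective_iff_map_eq_zero _).2 fun x hx => hs0 s s.2 x hx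
    obtain ⟨r, hr⟩ := LC.exists_extension (LinearMap.lsmul A E (s : A)) hinj (LinearMap.id : E →ₗ[A] E)
    refine ⟨r x, ?_⟩
    show (s : A) • r x = x
    rw [← map_smul]
    exact LinearMap.congr_fun hr x
  letI : Module L E :=
    (IsLocalizedModule.iso p.primeCompl (LinearMap.id : E →ₗ[A] E)).symm.toAddEquiv.module L
  haveI : IsScalarTower A L E := ⟨fun a c x => by
    let e := IsLocalizedModule.iso p.primeCompl (LinearMap.id : E →ₗ[A] E)
    show e ((a • c) • e.symm x) = a • e (c • e.symm x)
    rw [smul_assoc, map_smul]⟩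
  let m := IsLocalRing.maximalIdeal L
  let T : ℕ → Submodule L E := fun n => Submodule.torsionBySet L E ((m ^ n : Ideal L) : Set L)
  have hT : ∀ n x, x ∈ T n ↔ ∀ a ∈ m ^ n, a • x = 0 := fun n x => by
    simp [T, Submodule.mem_torsionBySet_iff]
  let gL : p.ResidueField →ₗ[L] E := g.extendScalarsOfIsLocalization p.primeCompl L
  have hT1 : T 1 ≤ Submodule.span L {g 1} := by
    intro x hx
    by_cases hx0 : x = 0
    · rw [hx0]; exact zero_mem _
    obtain ⟨r, ⟨y, hy⟩, hr⟩ := (LC.isEssentialInj_iff.1 hg.toIsEssentialInj).2 x hx0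
    have hrp : r ∉ p := fun hrp => hr (by
      rw [← algebraMap_smul L r x]
      exact (hT 1 x).1 hx _ (by
        rw [pow_one]; exact (IsLocalization.AtPrime.to_map_mem_maximal_iff L p r).2 hrp))
    obtain ⟨c, rfl⟩ := IsLocalRing.residue_surjective (R := L) y
    have hu : IsUnit (algebraMap A L r) := IsLocalization.map_units L (⟨r, hrp⟩ : p.primeCompl)
    refine (Submodule.smul_mem_iff_of_isUnit _ hu).1 ?_
    rw [algebraMap_smul, ← hy, show g (IsLocalRing.residue L c) = gL (c • 1) by
      rw [Algebra.smul_def, mul_one]; rfl, map_smul]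
    exact Submodule.smul_mem _ c (Submodule.mem_span_singleton_self _)
  have hfin : ∀ n, (T n).FG := by
    intro n
    induction n with
    | zero =>
      rw [show T 0 = ⊥ from eq_bot_iff.2 fun x hx => by
        rw [Submodule.mem_bot, ← one_smul L x]
        exact (hT 0 x).1 hx 1 (by rw [pow_zero, Ideal.one_eq_top]; trivial)]
      exact Submodule.fg_bot
    | succ n ih =>
      haveI : Module.Finite L (T n) := Module.Finite.iff_fg.2 ih
      haveI : IsNoetherian L (T n) := isNoetherian_of_isNoetherianRing_of_finite L _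
      haveI : IsNoetherian L (T 1) := isNoetherian_of_injective (Submodule.inclusion hT1)
        (Submodule.inclusion_injective hT1)
      obtain ⟨k, a, ha⟩ := Submodule.fg_iff_exists_fin_generating_family.1 (IsNoetherian.noetherian m)
      have ham : ∀ i, a i ∈ m := fun i => ha ▸ Submodule.subset_span ⟨i, rfl⟩
      let φ : T (n + 1) →ₗ[L] (Fin k → T n) := LinearMap.pi fun i =>
        (LinearMap.lsmul L E (a i) ∘ₗ (T (n + 1)).subtype).codRestrict (T n) fun x => (hT n _).2
          fun c hc => by
            show c • a i • (x : E) = 0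
            rw [← mul_smul]
            exact (hT (n + 1) x).1 x.2 _ (by rw [pow_succ]; exact Ideal.mul_mem_mul hc (ham i))
      have hker : ∀ x : T (n + 1), x ∈ LinearMap.ker φ → (x : E) ∈ T 1 := fun x hx => (hT 1 _).2 fun c hc => by
        rw [pow_one, ← ha] at hc
        induction hc using Submodule.span_induction with
        | mem c hc =>
          obtain ⟨i, rfl⟩ := hc
          exact congrArg Subtype.val (congrFun (LinearMap.mem_ker.1 hx) i)
        | zero => exact zero_smul L _
        | add c d _ _ h1 h2 => rw [add_smul, h1, h2, add_zero]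
        | smul b c _ h1 => rw [smul_assoc, h1, smul_zero]
      let ι : LinearMap.ker φ →ₗ[L] T 1 :=
        ((T (n + 1)).subtype ∘ₗ (LinearMap.ker φ).subtype).codRestrict _ fun x => hker x.1 x.2
      haveI : IsNoetherian L (LinearMap.ker φ) := isNoetherian_of_injective ι
        fun x y h => Subtype.ext (Subtype.ext (by simpa [ι] using congrArg Subtype.val h))
      haveI : Module.Finite L (T (n + 1)) := ⟨Submodule.fg_of_fg_map_of_fg_inf_ker φ
        (IsNoetherian.noetherian _) (by rw [top_inf_eq]; exact Module.Finite.iff_fg.1 inferInstance)⟩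
      exact Module.Finite.iff_fg.1 inferInstance
  have htors : LocCoh.IsPowerTorsion p p.ResidueField := fun y => ⟨1, fun a ha => by
    rw [Algebra.smul_def, Ideal.algebraMap_residueField_eq_zero.2 (by simpa using ha), zero_mul]⟩
  refine ⟨fun n => (T n).restrictScalars A, fun n n' hnn x hx => (hT n' x).2 fun a ha =>
    (hT n x).1 hx a (Ideal.pow_le_pow_right hnn ha), fun x => ?_, fun n => ?_⟩
  · obtain ⟨n, hn⟩ := LC.isPowerTorsion_of_isEssentialInj p htors hg.toIsEssentialInj x
    refine ⟨n, (hT n x).2 fun c hc => ?_⟩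
    rw [show m = p.map (algebraMap A L) from Localization.AtPrime.map_eq_maximalIdeal.symm,
      ← Ideal.map_pow, Ideal.map] at hc
    induction hc using Submodule.span_induction with
    | mem c hc =>
      obtain ⟨a, ha, rfl⟩ := hc
      rw [algebraMap_smul]; exact hn a ha
    | zero => exact zero_smul L _
    | add c d _ _ h1 h2 => rw [add_smul, h1, h2, add_zero]
    | smul b c _ h1 => rw [smul_assoc, h1, smul_zero]
  · haveI : IsArtinianRing (L ⧸ m ^ n) := by
      rw [isArtinianRing_iff_isNoetherianRing_krullDimLE_zero]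
      refine ⟨inferInstance, Ring.KrullDimLE.mk₀ fun P hP => ?_⟩
      have hle : m ^ n ≤ P.comap (Ideal.Quotient.mk (m ^ n)) := fun a ha => by
        rw [Ideal.mem_comap, Ideal.Quotient.eq_zero_iff_mem.2 ha]; exact zero_mem _
      haveI : (P.comap (Ideal.Quotient.mk (m ^ n))).IsPrime := Ideal.comap_isPrime _ _
      have : (P.comap (Ideal.Quotient.mk (m ^ n))).IsMaximal := by
        rw [show P.comap (Ideal.Quotient.mk (m ^ n)) = m from
          (IsLocalRing.le_maximalIdeal Ideal.IsPrime.ne_top').antisymm
            (Ideal.IsPrime.le_of_pow_le hle)]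
        exact IsLocalRing.maximalIdeal.isMaximal L
      rw [← Ideal.map_comap_of_surjective _ Ideal.Quotient.mk_surjective P]
      exact (Ideal.map_eq_top_or_isMaximal_of_surjective _ Ideal.Quotient.mk_surjective this).resolve_left
        (by rw [Ideal.map_comap_of_surjective _ Ideal.Quotient.mk_surjective P]; exact hP.ne_top)
    haveI : Module.Finite L (T n) := Module.Finite.iff_fg.2 (hfin n)
    haveI : Module.Finite (L ⧸ m ^ n) (T n) := Module.Finite.of_restrictScalars_finite L _ _
    let e0 : ↥((T n).restrictScalars A) ≃ₗ[A] T n :=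
      (Submodule.restrictScalarsEquiv A L E (T n)).restrictScalars A
    letI iM : Module (L ⧸ m ^ n) ↥((T n).restrictScalars A) := e0.toAddEquiv.module (L ⧸ m ^ n)
    refine ⟨L ⧸ m ^ n, inferInstance, inferInstance, inferInstance, iM, ?_, ?_⟩
    · exact ⟨fun a c x => by
        show e0.symm ((a • c) • e0 x) = a • e0.symm (c • e0 x)
        rw [smul_assoc, map_smul]⟩
    · let e1 : T n ≃ₗ[L ⧸ m ^ n] ↥((T n).restrictScalars A) :=
        { e0.symm.toAddEquiv with
          map_smul' := fun c x => by
            show e0.symm (c • x) = e0.symm (c • e0 (e0.symm x))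
            rw [e0.apply_symm_apply] }
      exact Module.Finite.equiv e1



/-- Let A be a Noetherian ring and J an injective A-module (an injective object of QCoh of the affine
scheme Spec A, through the equivalence with A-modules). Then J is a filtered colimit of A-modules
each of which is a finite module over some Artinian A-algebra B, the A-module structure being
restricted from B; these are the modules underlying pushforwards to Spec A of coherent sheaves on
spectra of Artinian rings. -/
theorem result (A : Type u) [CommRing A] [IsNoetherianRing A]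
    (J : Type u) [AddCommGroup J] [Module A J] [Module.Injective A J] :
    ∃ (ι : Type u) (_ : SmallCategory ι) (_ : IsFiltered ι) (D : ι ⥤ ModuleCat.{u} A)
      (c : Cocone D) (_ : IsColimit c), Nonempty (c.pt ≅ ModuleCat.of A J) ∧
      ∀ i : ι, ∃ (B : Type u) (_ : CommRing B) (_ : Algebra A B) (_ : IsArtinianRing B)
        (_ : Module B (D.obj i)) (_ : IsScalarTower A B (D.obj i)), Module.Finite B (D.obj i) := by
  classical
  obtain ⟨S, hS, hind, htop⟩ := Groth.Agent.LC.exists_decomposition J ‹_›
  have hex : ∀ E : S, ∃ T : ℕ → Submodule A (E : Submodule A J), Monotone T ∧ (∀ x, ∃ n, x ∈ T n) ∧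
      ∀ n, ∃ (B : Type u) (_ : CommRing B) (_ : Algebra A B) (_ : IsArtinianRing B) (_ : Module B (T n))
        (_ : IsScalarTower A B (T n)), Module.Finite B (T n) := by
    intro E
    obtain ⟨p, hp, g, hg⟩ := Groth.Agent.LC.exists_residueField_hull (hS E E.2).1 (hS E E.2).2
    exact exists_exhaustion p g hg
  choose T hmono hcov hB using hex
  choose B iB1 iB2 iB3 iB4 iB5 iB6 using hB
  let V : S → ℕ → Submodule A J := fun E n => (T E n).map (E : Submodule A J).subtype
  let D : Finset S × ℕ → Submodule A J := fun F => ⨆ E : F.1, V E F.2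
  have hD : Monotone D := fun F F' hF => iSup_le fun E =>
    le_trans (Submodule.map_mono (hmono E.1 hF.2)) (le_iSup (fun E : F'.1 => V E F'.2) ⟨E.1, hF.1 E.2⟩)
  have hall : ∀ x : J, ∃ F, x ∈ D F := by
    intro x
    have hx : x ∈ sSup S := by rw [htop]; trivial
    rw [sSup_eq_iSup'] at hx
    induction hx using Submodule.iSup_induction' with
    | mem E y hy =>
      obtain ⟨n, hn⟩ := hcov E ⟨y, hy⟩
      exact ⟨({E}, n), (le_iSup (fun E' : ({E} : Finset S) => V E' n) ⟨E, Finset.mem_singleton_self E⟩)
        ⟨⟨y, hy⟩, hn, rfl⟩⟩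
    | zero => exact ⟨(∅, 0), zero_mem _⟩
    | add y z _ _ hy hz =>
      obtain ⟨F, hF⟩ := hy
      obtain ⟨F', hF'⟩ := hz
      exact ⟨F ⊔ F', add_mem (hD le_sup_left hF) (hD le_sup_right hF')⟩
  letI : SmallCategory (Finset S × ℕ) := Preorder.smallCategory _
  let K : Finset S × ℕ ⥤ ModuleCat.{u} A :=
    { obj := fun F => ModuleCat.of A (D F)
      map := fun {F F'} h => ModuleCat.ofHom (Submodule.inclusion (hD (leOfHom h)))
      map_id := fun F => by ext x; rfl
      map_comp := fun f g => by ext x; rfl }
  let c : Cocone K :=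
    { pt := ModuleCat.of A J
      ι := { app := fun F => ModuleCat.ofHom (D F).subtype
             naturality := fun F F' h => by ext x; rfl } }
  have hc : IsColimit c := by
    refine isColimitOfReflects (CategoryTheory.forget (ModuleCat.{u} A)) ?_
    refine Limits.Types.FilteredColimit.isColimitOf _ _ (fun x => ?_) (fun i j xi xj h => ?_)
    · obtain ⟨F, hF⟩ := hall x
      exact ⟨F, ⟨x, hF⟩, rfl⟩
    · exact ⟨i ⊔ j, homOfLE le_sup_left, homOfLE le_sup_right, Subtype.ext h⟩
  refine ⟨Finset S × ℕ, inferInstance, inferInstance, K, c, hc, ⟨Iso.refl _⟩, fun F => ?_⟩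
  -- the artinian ring acting on a stage
  let M : F.1 → Type u := fun E => ↥(T E.1 F.2)
  let φ : ((E : F.1) → M E) →ₗ[A] J :=
    ∑ E : F.1, (E.1 : Submodule A J).subtype ∘ₗ (T E.1 F.2).subtype ∘ₗ LinearMap.proj E
  have hind' : iSupIndep (fun E : F.1 => ((E.1 : S) : Submodule A J)) :=
    ((sSupIndep_iff S).1 hind).comp Subtype.val_injective
  have hφapp : ∀ x, φ x = ∑ E : F.1, ((x E : (E.1 : Submodule A J)) : J) := fun x => by
    simp [φ, LinearMap.sum_apply]
  have hφinj : Function.Injective φ := by
    refine (injective_iff_map_eq_zero φ).2 fun x hx => funext fun E => ?_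
    rw [hφapp] at hx
    have := (iSupIndep_iff_finset_sum_eq_zero_imp_eq_zero _).1 hind' Finset.univ
      (fun E => ((x E : (E.1 : Submodule A J)) : J)) (fun E _ => (x E).1.2) hx E (Finset.mem_univ E)
    exact Subtype.ext (Subtype.ext this)
  have hφran : LinearMap.range φ = D F := by
    refine le_antisymm ?_ (iSup_le fun E => ?_)
    · rintro _ ⟨x, rfl⟩
      rw [hφapp]
      exact Submodule.sum_mem _ fun E _ => (le_iSup (fun E : F.1 => V E F.2) E) ⟨(x E).1, (x E).2, rfl⟩
    · rintro _ ⟨y, hy, rfl⟩
      refine ⟨Pi.single E ⟨y, hy⟩, ?_⟩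
      rw [hφapp, Finset.sum_eq_single E (fun E' _ hne => by simp [Pi.single_eq_of_ne hne])
        (fun h => absurd (Finset.mem_univ E) h), Pi.single_eq_same]
      rfl
  let e : D F ≃ₗ[A] ((E : F.1) → M E) :=
    ((LinearEquiv.ofInjective φ hφinj).trans (LinearEquiv.ofEq _ _ hφran)).symm
  let P := (E : F.1) → B E.1 F.2
  letI : CommRing P := Pi.commRing
  letI iPM : Module P ((E : F.1) → M E) := Pi.module' (f := fun E : F.1 => B E.1 F.2)
  haveI : IsScalarTower A P ((E : F.1) → M E) := ⟨fun a b x => funext fun E => smul_assoc a (b E) (x E)⟩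
  letI iD : Module P (D F) := e.toAddEquiv.module P
  haveI : IsScalarTower A P (D F) := ⟨fun a b x => by
    show e.symm ((a • b) • e x) = a • e.symm (b • e x)
    rw [smul_assoc, map_smul]⟩
  haveI hfin : Module.Finite P ((E : F.1) → M E) := by
    choose G hG using fun E : F.1 => (iB6 E.1 F.2).fg_top
    refine ⟨⟨Finset.univ.biUnion fun E => (G E).image (Pi.single E), top_le_iff.1 fun x _ => ?_⟩⟩
    rw [← Finset.univ_sum_single x]
    refine Submodule.sum_mem _ fun E _ => ?_
    generalize x E = z
    have hx : z ∈ Submodule.span (B E.1 F.2) (G E : Set (T E.1 F.2)) := by rw [hG]; trivial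
    induction hx using Submodule.span_induction with
    | mem y hy =>
      exact Submodule.subset_span (Finset.mem_biUnion.2 ⟨E, Finset.mem_univ E, Finset.mem_image_of_mem _ hy⟩)
    | zero => rw [Pi.single_zero]; exact zero_mem _
    | add y z _ _ hy hz => rw [Pi.single_add]; exact add_mem hy hz
    | smul b y _ hy =>
      have : (Pi.single E (b • y) : (E : F.1) → M E) = (Pi.single E b : P) • Pi.single E y := by
        funext E'
        by_cases h : E' = E
        · subst h
          show _ = (Pi.single E' b : P) E' • (Pi.single E' y : (E : F.1) → M E) E'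
          rw [Pi.single_eq_same, Pi.single_eq_same, Pi.single_eq_same]
        · show _ = (Pi.single E b : P) E' • (Pi.single E y : (E : F.1) → M E) E'
          rw [Pi.single_eq_of_ne h, Pi.single_eq_of_ne h, zero_smul]
      rw [this]
      exact Submodule.smul_mem _ _ hy
  refine ⟨P, inferInstance, inferInstance, inferInstance, iD, ‹_›, ?_⟩
  let e' : ((E : F.1) → M E) ≃ₗ[P] D F :=
    { e.symm.toAddEquiv with
      map_smul' := fun b x => by
        show e.symm (b • x) = e.symm (b • e (e.symm x))
        rw [e.apply_symm_apply] }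
  exact Module.Finite.equiv e'


end Groth.Agent.S10787
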