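import Groth.Statements.S10792
import Groth.Agent.AlgSpLib.CartierPoints

set_option backward.isDefEq.respectTransparency false
set_option backward.isDefEq.respectTransparency.types false
-- import your own Groth.Agent.* helpers here

set_option autoImplicit false
universe u
open CategoryTheory CategoryTheory.Limits AlgebraicGeometry Topology TopologicalSpace
open AlgSp

namespace Groth.Agent.S10792

/-- (2) ⇔ (4): let X be an algebraic space over a scheme S and D ⟶ X a closed subspace (representable by
closed immersions). Then D is an effective Cartier divisor in the one-chart sense if and only if for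
every point x of |D| there are an affine scheme U over S, a representable etale h_U ⟶ X, a point u
of U mapping to the image of x in |X|, and a nonzerodivisor f of the ring A of global functions of U
such that the inverse image of D in U is the closed subscheme Spec (A/(f)), that is, the closed
subscheme of the quasi-coherent ideal sheaf of U whose ideal of global sections is generated by f. -/
theorem result {S : Scheme.{u}} (X D : AlgSp.Space S) (i : D ⟶ X)
    (hi : AlgSp.RepWith @IsClosedImmersion i.hom) :
    AlgSp.IsEffCartierSub i.hom ↔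
      ∀ x : AlgSp.Points D.obj,
        ∃ (U : Over S) (_ : IsAffine U.left) (a : (AlgSp.yon S).obj U ⟶ X.obj) (u : ↥U.left)
          (f : Γ(U.left, ⊤)) (I : U.left.IdealSheafData)
          (fst : (AlgSp.yon S).obj (Over.mk (I.subschemeι ≫ U.hom)) ⟶ D.obj),
          AlgSp.RepWith @Etale a ∧ AlgSp.Points.ofPt a u = AlgSp.Points.map i.hom x ∧
            f ∈ nonZeroDivisors Γ(U.left, ⊤) ∧
            I.ideal ⟨⊤, isAffineOpen_top U.left⟩ = Ideal.span {f} ∧
            IsPullback fst ((AlgSp.yon S).map (Over.homMk I.subschemeι rfl : Over.mk (I.subschemeι ≫ U.hom) ⟶ U)) i.hom a :=  by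
  open Groth.Agent.AlgSpLib in
  refine ⟨fun h x => ?_, fun h => ?_⟩
  · obtain ⟨V, φ, hφ, hφs⟩ := X.property.atlas
    have hE := Cartier.isEffCartier_cutIdeal hi h φ hφ
    obtain ⟨v, hv⟩ := surjective_ofPt hφs (AlgSp.Points.map i.hom x)
    obtain ⟨O, hvO, hO, htop, f, hf, hI⟩ := Cartier.exists_affine_generator hE v
    let U : Over S := Over.mk (O.ι ≫ V.hom)
    let g : U ⟶ V := CategoryTheory.Over.homMk O.ι rfl
    have ha : RepWith @Etale ((yon S).map g ≫ φ) :=
      repWith_comp ((repWith_yon_map_iff _ _).2 (inferInstanceAs (Etale O.ι))) hφ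
    obtain ⟨fst, sq⟩ := Cartier.exists_isPullback_cutIdeal hi ((yon S).map g ≫ φ)
    refine ⟨U, hO, (yon S).map g ≫ φ, ⟨v, hvO⟩, f, _, fst, ha, ?_, hf, ?_, sq⟩
    · rw [← hv, ofPt_comp]
      rfl
    · rw [Cartier.cutIdeal_comp hi φ g]
      exact hI
  · refine Cartier.isEffCartierSub_of_points X.property hi fun x => ?_
    obtain ⟨U, hU, a, w, f, I, fst, ha, haw, hf, hI, sq⟩ := h x
    rw [Cartier.eq_cutIdeal hi sq] at hI
    exact ⟨U, a, w, ha, haw, Cartier.isEffCartier_of_affine hf hI⟩
end Groth.Agent.S10792
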