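import Groth.Statements.S10793
import Groth.Agent.AlgSpLib.CartierCompl

set_option backward.isDefEq.respectTransparency false
set_option backward.isDefEq.respectTransparency.types false
-- import your own Groth.Agent.* helpers here

set_option autoImplicit false
universe u
open CategoryTheory CategoryTheory.Limits AlgebraicGeometry Topology TopologicalSpace
open AlgSp

namespace Groth.Agent.S10793

/-- For an algebraic space X over a scheme S, an effective Cartier divisor D ⟶ X (in the one-chart
sense) and the open subspace U ⟶ X complementary to D, that is, a morphism representable by open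
immersions whose image in |X| is the complement of the image of |D|: the inclusion of U in X is an
affine morphism, and in the scheme-theoretic sense (one-chart form) U is dense in X. -/
theorem result {S : Scheme.{u}} (X D U : AlgSp.Space S)
    (i : D ⟶ X) (hD : AlgSp.IsEffCartierSub i.hom) (j : U ⟶ X) (hj : AlgSp.RepWith @IsOpenImmersion j.hom)
    (hU : Set.range (AlgSp.Points.map j.hom) = (Set.range (AlgSp.Points.map i.hom))ᶜ) :
    AlgSp.IsAffineMor j.hom ∧ AlgSp.IsSchDense j.hom :=  by
  obtain ⟨V, φ, hφ, hφs⟩ := X.property.atlas
  exact ⟨Groth.Agent.AlgSpLib.Cartier.isAffineMor_compl X.property hD.1 hj hU φ hφ hφs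
      (ModPairLib.isLocPrincipal_of_isEffCartier
        (Groth.Agent.AlgSpLib.Cartier.isEffCartier_cutIdeal hD.1 hD φ hφ)),
    Groth.Agent.AlgSpLib.Cartier.isSchDense_compl X.property hD.1 hD hj hU⟩
end Groth.Agent.S10793
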