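import Groth.Statements.S10794
import Groth.Agent.AlgSpLib.Cartier
import Groth.Agent.AlgSpLib.CartierDim

set_option backward.isDefEq.respectTransparency false
set_option backward.isDefEq.respectTransparency.types false
-- import your own Groth.Agent.* helpers here

set_option autoImplicit false
universe u
open CategoryTheory CategoryTheory.Limits AlgebraicGeometry Topology TopologicalSpace
open AlgSp

namespace Groth.Agent.S10794

/-- Let X be an algebraic space over a scheme S, D ⟶ X an effective Cartier divisor (one-chart sense)
and x a point of |D|. If the dimension of X at the image of x is d, in the sense that some etale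
scheme chart of X has local dimension d at a point over it, and d is finite, then the dimension of D
at x is strictly smaller: some etale scheme chart of D has local dimension less than d at a point
over x. -/
theorem result {S : Scheme.{u}} (X D : AlgSp.Space S) (i : D ⟶ X)
    (hD : AlgSp.IsEffCartierSub i.hom) (x : AlgSp.Points D.obj) (d : WithBot ℕ∞)
    (hd : AlgSp.HasAt (fun U u => FlatMor.localDim ↥U u = d) X.obj (AlgSp.Points.map i.hom x)) (hfin : d ≠ ⊤) :
    AlgSp.HasAt (fun V v => FlatMor.localDim ↥V v < d) D.obj x :=  by
  obtain ⟨U, a, w, ha, haw, hw⟩ := hd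
  have hi := hD.1
  obtain ⟨fst, sq⟩ := Groth.Agent.AlgSpLib.Cartier.exists_isPullback_cutIdeal hi a
  obtain ⟨v, hv, hvw⟩ := Groth.Agent.AlgSpPts.exists_lift sq haw.symm
  refine ⟨Over.mk ((Groth.Agent.AlgSpLib.Cartier.cutIdeal hi a).subschemeι ≫ U.hom), fst, v,
    Groth.Agent.AlgSpLib.repWith_of_isPullback sq.flip ha, hv, ?_⟩
  have hv' : (Groth.Agent.AlgSpLib.Cartier.cutIdeal hi a).subschemeι v = w := hvw
  subst hv'
  subst hw
  exact Groth.Agent.AlgSpLib.CartierDim.localDim_lt
    (Groth.Agent.AlgSpLib.Cartier.isEffCartier_cutIdeal hi hD a ha) v hfin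
end Groth.Agent.S10794
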