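import Groth.Statements.S10795
import Groth.Agent.AlgSpLib.CartierOps

set_option backward.isDefEq.respectTransparency false
set_option backward.isDefEq.respectTransparency.types false
-- import your own Groth.Agent.* helpers here

set_option autoImplicit false
universe u
open CategoryTheory CategoryTheory.Limits AlgebraicGeometry Topology TopologicalSpace
open AlgSp

namespace Groth.Agent.S10795

/-- For algebraic spaces X and Y over a scheme S, a flat morphism f : X ⟶ Y and an effective Cartier
divisor D ⟶ Y (one-chart sense), the inverse image of D under f is an effective Cartier divisor on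
X: for every pullback square of D ⟶ Y along f, the projection to X is an effective Cartier divisor
(one-chart sense). -/
theorem result {S : Scheme.{u}} (X Y D P : AlgSp.Space S) (f : X ⟶ Y)
    (hf : AlgSp.LocP @Flat f.hom) (i : D ⟶ Y) (hD : AlgSp.IsEffCartierSub i.hom)
    (fst : P ⟶ D) (snd : P ⟶ X) (hP : IsPullback fst.hom snd.hom i.hom f.hom) :
    AlgSp.IsEffCartierSub snd.hom :=  by
  have hi := hD.1
  have hs : RepWith @IsClosedImmersion snd.hom := Groth.Agent.AlgSpLib.repWith_of_isPullback hP hi
  obtain ⟨U, V, a, b, h, ha, ha', hb, -, w⟩ := Groth.Agent.AlgSpLib.exists_chart X.property Y.property f.hom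
  refine Groth.Agent.AlgSpLib.Cartier.isEffCartierSub_of_atlas hs a ha ha' ?_
  rw [Groth.Agent.AlgSpLib.Cartier.cutIdeal_isPullback hi hP hs a, w,
    Groth.Agent.AlgSpLib.Cartier.cutIdeal_comp hi b h]
  have : Flat h.left := hf a b h ha hb w
  exact Groth.Agent.BlowUpLib.isEffCartier_comap_flat _
    (Groth.Agent.AlgSpLib.Cartier.isEffCartier_cutIdeal hi hD b hb)
end Groth.Agent.S10795
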