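import Groth.Statements.S10798
import Groth.Agent.AlgSpLib.Cartier
import Groth.Agent.AlgSpLib.CartierDepth

set_option backward.isDefEq.respectTransparency false
set_option backward.isDefEq.respectTransparency.types false
-- import your own Groth.Agent.* helpers here

set_option autoImplicit false
universe u
open CategoryTheory CategoryTheory.Limits AlgebraicGeometry Topology TopologicalSpace
open AlgSp

namespace Groth.Agent.S10798

/-- Let X be a locally Noetherian algebraic space over a scheme S satisfying Serre's condition (S_k), in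
the etale-local sense: some etale surjective chart of X from a locally Noetherian scheme all of
whose local rings O satisfy min(k, dim O) ≤ depth O. Let D ⟶ X be an effective Cartier divisor
(one-chart sense). Then D is locally Noetherian and (S_{k-1}) in the same sense (with k - 1 read as
0 when k = 0). -/
theorem result {S : Scheme.{u}} (X D : AlgSp.Space S) (k : ℕ)
    (hX : AlgSp.EtaleLocally (fun U => IsLocallyNoetherian U ∧ ∀ x : ↥U,
        min ((k : ℕ) : WithBot ℕ∞) (ringKrullDim ↥(U.presheaf.stalk x)) ≤
          ((LocCoh.depth ↥(U.presheaf.stalk x) ↥(U.presheaf.stalk x) : ℕ∞) : WithBot ℕ∞)) X.obj)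
    (i : D ⟶ X) (hD : AlgSp.IsEffCartierSub i.hom) :
    AlgSp.EtaleLocally (fun V => IsLocallyNoetherian V ∧ ∀ v : ↥V,
        min ((k - 1 : ℕ) : WithBot ℕ∞) (ringKrullDim ↥(V.presheaf.stalk v)) ≤
          ((LocCoh.depth ↥(V.presheaf.stalk v) ↥(V.presheaf.stalk v) : ℕ∞) : WithBot ℕ∞)) D.obj :=  by
  obtain ⟨U, a, ha, has, hN, hS⟩ := hX
  have : IsLocallyNoetherian U.left := hN
  have hi := hD.1
  obtain ⟨fst, sq⟩ := Groth.Agent.AlgSpLib.Cartier.exists_isPullback_cutIdeal hi a
  exact ⟨_, fst, Groth.Agent.AlgSpLib.repWith_of_isPullback sq.flip ha,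
    Groth.Agent.AlgSpLib.repWith_of_isPullback sq.flip has,
    LocallyOfFiniteType.isLocallyNoetherian (Groth.Agent.AlgSpLib.Cartier.cutIdeal hi a).subschemeι,
    fun v => Groth.Agent.AlgSpLib.CartierDepth.Sk_subscheme
      (Groth.Agent.AlgSpLib.Cartier.isEffCartier_cutIdeal hi hD a ha) k hS v⟩
end Groth.Agent.S10798
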