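import Groth.Statements.S10799
import Groth.Agent.AlgSpLib.Cartier
import Groth.Agent.AlgSpLib.CartierDepth

set_option backward.isDefEq.respectTransparency false
set_option backward.isDefEq.respectTransparency.types false
-- import your own Groth.Agent.* helpers here

set_option autoImplicit false
universe u
open CategoryTheory CategoryTheory.Limits AlgebraicGeometry Topology TopologicalSpace
open AlgSp

namespace Groth.Agent.S10799

/-- Let X be an algebraic space over a scheme S which is locally Noetherian and normal in the
etale-local sense: some etale surjective chart of X from a locally Noetherian scheme all of whose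
local rings are integrally closed domains. Let D ⟶ X be an effective Cartier divisor (one-chart
sense). Then D is (S_1): some etale surjective chart of D from a locally Noetherian scheme all of
whose local rings O satisfy min(1, dim O) ≤ depth O. -/
theorem result {S : Scheme.{u}} (X D : AlgSp.Space S)
    (hX : AlgSp.EtaleLocally (fun U => IsLocallyNoetherian U ∧ Pi1.IsNormalScheme U) X.obj)
    (i : D ⟶ X) (hD : AlgSp.IsEffCartierSub i.hom) :
    AlgSp.EtaleLocally (fun V => IsLocallyNoetherian V ∧ ∀ v : ↥V,
        min ((1 : ℕ) : WithBot ℕ∞) (ringKrullDim ↥(V.presheaf.stalk v)) ≤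
          ((LocCoh.depth ↥(V.presheaf.stalk v) ↥(V.presheaf.stalk v) : ℕ∞) : WithBot ℕ∞)) D.obj :=  by
  obtain ⟨U, a, ha, has, hN, hS⟩ := hX
  have : IsLocallyNoetherian U.left := hN
  have hi := hD.1
  obtain ⟨fst, sq⟩ := Groth.Agent.AlgSpLib.Cartier.exists_isPullback_cutIdeal hi a
  exact ⟨_, fst, Groth.Agent.AlgSpLib.repWith_of_isPullback sq.flip ha,
    Groth.Agent.AlgSpLib.repWith_of_isPullback sq.flip has,
    LocallyOfFiniteType.isLocallyNoetherian (Groth.Agent.AlgSpLib.Cartier.cutIdeal hi a).subschemeι,
    fun v => Groth.Agent.AlgSpLib.CartierDepth.Sk_subscheme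
      (Groth.Agent.AlgSpLib.Cartier.isEffCartier_cutIdeal hi hD a ha) 2 (fun x => by
        have := (hS x).1
        have := (hS x).2
        exact Groth.Agent.AlgSpLib.CartierDepth.one_two_le_depth_of_normal _) v⟩
end Groth.Agent.S10799
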