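import Groth.Statements.S10804
import Groth.Agent.AlgSpDec.LocNoethFibre

set_option backward.isDefEq.respectTransparency false
set_option backward.isDefEq.respectTransparency.types false
-- import your own Groth.Agent.* helpers here

set_option autoImplicit false
universe u
open CategoryTheory CategoryTheory.Limits AlgebraicGeometry Topology TopologicalSpace
open AlgSp

namespace Groth.Agent.S10804

/-- (3) ⇒ (4): let f : X ⟶ Y be a morphism of algebraic spaces over a scheme S, and let p : Spec k ⟶ Y
and p₀ : Spec k₀ ⟶ Y be field-valued points defining the same point of |Y|, with h_{Spec k₀} ⟶ Y a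
monomorphism. If the fibre X_p = Spec k ×_Y X (any pullback of f along the morphism of p) is locally
Noetherian, then the fibre X_{p₀} is locally Noetherian. -/
theorem result {S : Scheme.{u}} (X Y : AlgSp.Space S) (f : X ⟶ Y)
    (p p₀ : AlgSp.FieldPt Y.obj) (hpp : AlgSp.Points.mk p = AlgSp.Points.mk p₀) (hmono : Mono p₀.toHom)
    (hNoeth : ∀ ⦃P : AlgSp.Sp S⦄ (fst : P ⟶ X.obj) (snd : P ⟶ (AlgSp.yon S).obj p.pt),
      IsPullback fst snd f.hom p.toHom → AlgSp.IsLocNoethSp P)
    {Q : AlgSp.Sp S} (qfst : Q ⟶ X.obj) (qsnd : Q ⟶ (AlgSp.yon S).obj p₀.pt)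
    (hQ : IsPullback qfst qsnd f.hom p₀.toHom) :
    AlgSp.IsLocNoethSp Q :=  @AlgSpDec.LocNoethFibre.of_mono S X Y f p p₀ hpp hmono hNoeth Q qfst qsnd hQ
end Groth.Agent.S10804
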