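import Groth.Statements.S10811
import Groth.Agent.AlgSpWA.Global

set_option backward.isDefEq.respectTransparency false
set_option backward.isDefEq.respectTransparency.types false
-- import your own Groth.Agent.* helpers here

set_option autoImplicit false
universe u
open CategoryTheory CategoryTheory.Limits AlgebraicGeometry Topology TopologicalSpace
open AlgSp

namespace Groth.Agent.S10811

/-- Let X be an algebraic space over a scheme S and 0 ⟶ F₁ ⟶ F₂ ⟶ F₃ ⟶ 0 a short exact sequence of
quasi-coherent O_X-modules on the small etale site of X. Then the weakly associated points satisfy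
WeakAss(F₂) ⊆ WeakAss(F₁) ∪ WeakAss(F₃) and WeakAss(F₁) ⊆ WeakAss(F₂). -/
theorem result {S : Scheme.{u}} (X : AlgSp.Space S)
    (C : ShortComplex (AlgSp.ModEt X.obj)) (hC : C.ShortExact)
    [C.X₁.IsQuasicoherent] [C.X₂.IsQuasicoherent] [C.X₃.IsQuasicoherent] :
    AlgSp.WeakAssEt C.X₂ ⊆ AlgSp.WeakAssEt C.X₁ ∪ AlgSp.WeakAssEt C.X₃ ∧
      AlgSp.WeakAssEt C.X₁ ⊆ AlgSp.WeakAssEt C.X₂ := 
  Groth.Agent.AlgSpWA.weakAssEt_shortExact C hC
end Groth.Agent.S10811
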