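import Groth.Statements.S10813
import Groth.Agent.AlgSpLib.CartierOps
import Groth.Agent.BlowUpX.Basic

set_option backward.isDefEq.respectTransparency false
set_option backward.isDefEq.respectTransparency.types false
-- import your own Groth.Agent.* helpers here

set_option autoImplicit false
universe u
open CategoryTheory CategoryTheory.Limits AlgebraicGeometry Topology TopologicalSpace
open AlgSp

namespace Groth.Agent.S10813

/-- Let X be an algebraic space over a scheme S, let Z ⟶ X and Y ⟶ X be closed subspaces cut out by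
quasi-coherent sheaves of ideals I and J, and let D ⟶ X be the closed subspace which the product I·J
cuts out. If D is an effective Cartier divisor (one-chart sense), then so are Z and Y, and D is
their sum. -/
theorem result {S : Scheme.{u}} (X Z Y D : AlgSp.Space S)
    (iZ : Z ⟶ X) (iY : Y ⟶ X) (iD : D ⟶ X) (I J : AlgSp.IdealEt X.obj) (hI : I.IsQCoh) (hJ : J.IsQCoh)
    (hZ : AlgSp.IsCutOutBy I iZ.hom) (hY : AlgSp.IsCutOutBy J iY.hom) (hD : AlgSp.IsCutOutBy (I * J) iD.hom)
    (hDc : AlgSp.IsEffCartierSub iD.hom) :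
    AlgSp.IsEffCartierSub iZ.hom ∧ AlgSp.IsEffCartierSub iY.hom :=  by
  obtain ⟨U, a, ha, ha'⟩ := X.property.atlas
  have h := Groth.Agent.AlgSpLib.Cartier.isEffCartier_cutIdeal hD.1 hDc a ha
  rw [Groth.Agent.AlgSpLib.Cartier.cutIdeal_mul hZ hY hD a ha] at h
  exact ⟨Groth.Agent.AlgSpLib.Cartier.isEffCartierSub_of_atlas hZ.1 a ha ha'
      (Groth.Agent.BlowUpX.isEffCartier_left_of_mul h),
    Groth.Agent.AlgSpLib.Cartier.isEffCartierSub_of_atlas hY.1 a ha ha'
      (Groth.Agent.BlowUpX.isEffCartier_left_of_mul (mul_comm _ (Groth.Agent.AlgSpLib.Cartier.cutIdeal hY.1 a) ▸ h))⟩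
end Groth.Agent.S10813
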