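import Groth.Statements.S10814
import Groth.Agent.AlgSpLib.CartierOps
import Groth.Agent.ModPairLib.Quot

set_option backward.isDefEq.respectTransparency false
set_option backward.isDefEq.respectTransparency.types false
-- import your own Groth.Agent.* helpers here

set_option autoImplicit false
universe u
open CategoryTheory CategoryTheory.Limits AlgebraicGeometry Topology TopologicalSpace
open AlgSp

namespace Groth.Agent.S10814

/-- Let X be an algebraic space over a scheme S and D₁, D₂ ⟶ X effective Cartier divisors (one-chart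
sense) with quasi-coherent ideal sheaves I₁, I₂ on the small etale site. Then their sum, the closed
subspace D ⟶ X cut out by the product ideal I₁·I₂, is an effective Cartier divisor. -/
theorem result {S : Scheme.{u}} (X D₁ D₂ D : AlgSp.Space S)
    (i₁ : D₁ ⟶ X) (i₂ : D₂ ⟶ X) (i : D ⟶ X) (I₁ I₂ : AlgSp.IdealEt X.obj) (hI₁ : I₁.IsQCoh) (hI₂ : I₂.IsQCoh)
    (h₁ : AlgSp.IsCutOutBy I₁ i₁.hom) (h₂ : AlgSp.IsCutOutBy I₂ i₂.hom) (hD : AlgSp.IsCutOutBy (I₁ * I₂) i.hom)
    (e₁ : AlgSp.IsEffCartierSub i₁.hom) (e₂ : AlgSp.IsEffCartierSub i₂.hom) :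
    AlgSp.IsEffCartierSub i.hom :=  by
  obtain ⟨U, a, ha, ha'⟩ := X.property.atlas
  refine Groth.Agent.AlgSpLib.Cartier.isEffCartierSub_of_atlas hD.1 a ha ha' ?_
  rw [Groth.Agent.AlgSpLib.Cartier.cutIdeal_mul h₁ h₂ hD a ha]
  exact ModPairLib.isEffCartier_mul
    (Groth.Agent.AlgSpLib.Cartier.isEffCartier_cutIdeal h₁.1 e₁ a ha)
    (Groth.Agent.AlgSpLib.Cartier.isEffCartier_cutIdeal h₂.1 e₂ a ha)
end Groth.Agent.S10814
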