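import Groth.Statements.S10818
import Groth.Agent.AlgSpWA.Push

set_option backward.isDefEq.respectTransparency false
set_option backward.isDefEq.respectTransparency.types false
-- import your own Groth.Agent.* helpers here

set_option autoImplicit false
universe u
open CategoryTheory CategoryTheory.Limits AlgebraicGeometry Topology TopologicalSpace
open AlgSp

namespace Groth.Agent.S10818

/-- Let f : X ⟶ Y be an affine morphism of algebraic spaces over a scheme S (representable; the
representability is carried as a separate hypothesis) and F a quasi-coherent O_X-module on the small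
etale site of X with f_*F quasi-coherent. Then WeakAss(f_*F) ⊆ f(WeakAss(F)) as subsets of |Y|. -/
theorem result {S : Scheme.{u}} (X Y : AlgSp.Space S) (f : X ⟶ Y)
    (hf : AlgSp.Representable f.hom) (haff : AlgSp.IsAffineMor f.hom)
    (M : AlgSp.ModEt X.obj) [M.IsQuasicoherent] [((AlgSp.pushModEt hf).obj M).IsQuasicoherent] :
    AlgSp.WeakAssEt ((AlgSp.pushModEt hf).obj M) ⊆ AlgSp.Points.map f.hom '' AlgSp.WeakAssEt M := 
  Groth.Agent.AlgSpWA.weakAssEt_push_subset hf haff M
end Groth.Agent.S10818
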