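import Groth.Statements.S10819
import Groth.Agent.AlgSpWA.Pull

set_option backward.isDefEq.respectTransparency false
set_option backward.isDefEq.respectTransparency.types false
-- import your own Groth.Agent.* helpers here

set_option autoImplicit false
universe u
open CategoryTheory CategoryTheory.Limits AlgebraicGeometry Topology TopologicalSpace
open AlgSp

namespace Groth.Agent.S10819

/-- Take a finite flat morphism f : X ⟶ Y between algebraic spaces over a scheme S (representable; the
representability and the existence of the pullback functor f^* on modules are carried as
hypotheses), G a quasi-coherent O_Y-module on the small etale site of Y with f^*G quasi-coherent,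
and x a point of |X| with image y in |Y|. Then x is a weakly associated point of f^*G if and only if
y is a weakly associated point of G. -/
theorem result {S : Scheme.{u}} (X Y : AlgSp.Space S) (f : X ⟶ Y)
    (hf : AlgSp.Representable f.hom) (hfin : AlgSp.IsFiniteMor f.hom) (hflat : AlgSp.LocP @Flat f.hom)
    [(SheafOfModules.pushforward.{u + 1} (AlgSp.bcRingHom hf)).IsRightAdjoint]
    (G : AlgSp.ModEt Y.obj) [G.IsQuasicoherent] [((AlgSp.pullModEt hf).obj G).IsQuasicoherent]
    (x : AlgSp.Points X.obj) :
    x ∈ AlgSp.WeakAssEt ((AlgSp.pullModEt hf).obj G) ↔ AlgSp.Points.map f.hom x ∈ AlgSp.WeakAssEt G := 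
  Groth.Agent.AlgSpWA.mem_weakAssEt_pull_iff hf X.property Y.property hfin hflat G x
end Groth.Agent.S10819
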