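import Groth.Statements.S1082
import Groth.Agent.FilLib.ResolveMono

set_option autoImplicit false
universe v u
open CategoryTheory CategoryTheory.Limits Opposite
open FilD

namespace Groth.Agent.S1082

/-- Let A be an abelian category with enough injectives and K a bounded below cochain complex of finite
filtered objects. There are a bounded below complex I of filtered injective objects and a filtered
quasi-isomorphism K ⟶ I each of whose components Kⁿ ⟶ Iⁿ is a strict monomorphism. -/
theorem result {A : Type u} [Category.{v} A] [Abelian A] [EnoughInjectives A] (K : CochainComplex (FilD.FilF A) ℤ) (a : ℤ) [K.IsStrictlyGE a] :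
    ∃ (I : CochainComplex (FilD.FilF A) ℤ) (a' : ℤ) (φ : K ⟶ I), I.IsStrictlyGE a' ∧ (∀ n, FilD.IsFilteredInjective (I.X n)) ∧
      FilD.IsFilteredQuasiIso φ ∧ ∀ n, Mono (φ.f n) ∧ FilD.IsStrict (φ.f n) := by
  have : (K⟦a⟧).IsStrictlyGE 0 := K.isStrictlyGE_shift a a 0 (by lia)
  obtain ⟨I, φ, hI, hinj, hφ, hmono⟩ := Groth.Agent.FilLib.exists_resolution_mono (K⟦a⟧)
  let e : K ≅ (K⟦a⟧)⟦-a⟧ :=
    ((shiftFunctorCompIsoId (CochainComplex (FilD.FilF A) ℤ) a (-a) (by lia)).app K).symm
  refine ⟨I⟦-a⟧, a - 1, e.hom ≫ φ⟦-a⟧', I.isStrictlyGE_shift (-1) (-a) (a - 1) (by lia),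
    fun n => hinj _, fun p => ?_, fun n => ?_⟩
  · have := Groth.Agent.FilLib.isFilteredQuasiIso_shift φ (-a) hφ p
    rw [Functor.map_comp]
    infer_instance
  · let i := HomologicalComplex.Hom.isoApp e n
    exact ⟨@mono_comp _ _ _ _ _ i.hom inferInstance _ (hmono (n + -a)).1,
      Groth.Agent.FilLib.strict_iso_comp i _ (hmono (n + -a)).2⟩

end Groth.Agent.S1082
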