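import Groth.Statements.S10820
import Groth.Agent.VarDim.Proj

set_option autoImplicit false
set_option backward.isDefEq.respectTransparency false
set_option backward.isDefEq.respectTransparency.types false
set_option linter.style.haveILetI false
set_option linter.unusedSectionVars false
set_option maxHeartbeats 400000
universe u
open AlgebraicGeometry Topology TopologicalSpace
open Variety

namespace Groth.Agent.S10820


open MvPolynomial Groth.Agent.VarDim Groth.Agent.VarDim.ProjN in
theorem exists_common (k : Type u) [Field k] (n : ℕ) (hn : 2 ≤ n) (p q : MvPolynomial (Fin (n + 1)) k)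
    (hp : (Ideal.span {p}).IsHomogeneous (CohB1.polyGrading n k))
    (hq : (Ideal.span {q}).IsHomogeneous (CohB1.polyGrading n k))
    (hpv : p ∈ vertex k n) (hqv : q ∈ vertex k n) :
    ∃ c : ProjectiveSpectrum (CohB1.polyGrading n k), p ∈ (pp c).asIdeal ∧ q ∈ (pp c).asIdeal := by
  classical
  let J := Ideal.span ({p, q} : Set (MvPolynomial (Fin (n + 1)) k))
  have hJ : J.IsHomogeneous (CohB1.polyGrading n k) := by
    rw [show J = Ideal.span {p} ⊔ Ideal.span {q} from Ideal.span_insert p {q}]
    exact hp.sup hq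
  have hle : J ≤ vertex k n := Ideal.span_le.2 (by rintro a (rfl | rfl) <;> assumption)
  obtain ⟨P, hP, -⟩ := Ideal.exists_minimalPrimes_le hle
  obtain ⟨c, hc⟩ := exists_point_minimal hJ hP (fun h => by
    subst h
    have h1 := Ideal.height_le_card_of_mem_minimalPrimes_span_finset
      (s := ({p, q} : Finset (MvPolynomial (Fin (n + 1)) k))) (p := vertex k n) (by simpa [J] using hP)
    have h2 := height_add_coheight_pp (vertexPoint k n)
    rw [coheight_vertexPoint, add_zero, ← PrimeSpectrum.height_eq_orderHeight,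
      show (vertexPoint k n).asIdeal = vertex k n from rfl] at h2
    rw [h2] at h1
    have h3 : n + 1 ≤ ({p, q} : Finset (MvPolynomial (Fin (n + 1)) k)).card := by exact_mod_cast h1
    have h4 : ({p, q} : Finset (MvPolynomial (Fin (n + 1)) k)).card ≤ 2 := Finset.card_le_two
    omega)
  exact ⟨c, hc.ge (hP.1.2 (Ideal.subset_span (Or.inl rfl))), hc.ge (hP.1.2 (Ideal.subset_span (Or.inr rfl)))⟩

/-- For a field k, n ≥ 2 and a nonzero homogeneous polynomial f of degree d ≥ 1 in n + 1 variables, the
hypersurface V_+(f) in projective n-space over k (as a subspace of Proj of the polynomial ring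
graded by degree) is connected and nonempty. -/
theorem result (k : Type u) [Field k] (n d : ℕ) (hn : 2 ≤ n)
    (f : MvPolynomial (Fin (n + 1)) k) (hf : f.IsHomogeneous d) (hd : 0 < d) (hf0 : f ≠ 0) :
    IsConnected (ProjectiveSpectrum.zeroLocus (CohB1.polyGrading n k)
      ({f} : Set (MvPolynomial (Fin (n + 1)) k))) := by
  classical
  open Groth.Agent.VarDim Groth.Agent.VarDim.ProjN in
  have key : ∀ a : ProjectiveSpectrum (CohB1.polyGrading n k), f ∈ (pp a).asIdeal →
      ∃ (p : MvPolynomial (Fin (n + 1)) k) (x : ProjectiveSpectrum (CohB1.polyGrading n k)),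
        p ∣ f ∧ (pp x).asIdeal = Ideal.span {p} ∧ p ∈ (pp a).asIdeal := by
    intro a ha
    obtain ⟨m, hm⟩ := UniqueFactorizationMonoid.exists_prime_iff.2 ⟨f, hf0, fun hu => (pp a).2.ne_top
      (Ideal.eq_top_of_isUnit_mem _ ha hu)⟩
    obtain ⟨F, hF⟩ := UniqueFactorizationMonoid.exists_prime_factors f hf0
    obtain ⟨u, hu⟩ := hF.2
    have hprod : F.prod ∈ (pp a).asIdeal := by
      rw [← hu] at ha
      exact (Ideal.IsPrime.mem_or_mem (pp a).2 ha).resolve_right fun h =>
        (pp a).2.ne_top (Ideal.eq_top_of_isUnit_mem _ h u.isUnit)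
    obtain ⟨p, hpF, hpa⟩ := ((pp a).2.multiset_prod_mem_iff_exists_mem F).1 hprod
    have hdvd : p ∣ f := hu ▸ (Multiset.dvd_prod hpF).mul_right _
    obtain ⟨x, hx, -⟩ := exists_point_span (k := k) (n := n) (by omega) (hF.1 p hpF) hf0 hf hdvd
    exact ⟨p, x, hdvd, hx, hpa⟩
  open Groth.Agent.VarDim Groth.Agent.VarDim.ProjN in
  have hmem : ∀ a : ProjectiveSpectrum (CohB1.polyGrading n k),
      a ∈ ProjectiveSpectrum.zeroLocus (CohB1.polyGrading n k) ({f} : Set (MvPolynomial (Fin (n + 1)) k)) ↔
        f ∈ (pp a).asIdeal := fun a => Set.singleton_subset_iff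
  constructor
  · have hfv : f ∈ VarDim.ProjN.vertex k n := by
      show MvPolynomial.constantCoeff f = 0
      rw [MvPolynomial.constantCoeff_eq]
      exact hf.coeff_eq_zero (by simpa using hd.ne)
    have hfh : (Ideal.span {f}).IsHomogeneous (CohB1.polyGrading n k) := Ideal.homogeneous_span _ _ (by
      rintro a (rfl : a = f)
      exact ⟨d, hf⟩)
    obtain ⟨c, hc, -⟩ := exists_common k n hn f f hfh hfh hfv hfv
    exact ⟨c, (hmem c).2 hc⟩
  · refine isPreconnected_of_forall_pair fun a ha b hb => ?_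
    obtain ⟨p, x, hpf, hx, hpa⟩ := key a ((hmem a).1 ha)
    obtain ⟨q, y, hqf, hy, hqb⟩ := key b ((hmem b).1 hb)
    obtain ⟨c, hpc, hqc⟩ := exists_common k n hn p q (hx ▸ VarDim.ProjN.isHomogeneous_pp x)
      (hy ▸ VarDim.ProjN.isHomogeneous_pp y)
      (VarDim.ProjN.le_vertex_of_isHomogeneous (VarDim.ProjN.isHomogeneous_pp x) (VarDim.ProjN.pp x).2.ne_top
        (hx.ge (Ideal.mem_span_singleton_self p)))
      (VarDim.ProjN.le_vertex_of_isHomogeneous (VarDim.ProjN.isHomogeneous_pp y) (VarDim.ProjN.pp y).2.ne_top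
        (hy.ge (Ideal.mem_span_singleton_self q)))
    have hcl : ∀ (z : ProjectiveSpectrum (CohB1.polyGrading n k)) (r : MvPolynomial (Fin (n + 1)) k) (w : ProjectiveSpectrum (CohB1.polyGrading n k)),
        (VarDim.ProjN.pp z).asIdeal = Ideal.span {r} → r ∈ (VarDim.ProjN.pp w).asIdeal → w ∈ closure {z} :=
      fun z r w hz hw => (ProjectiveSpectrum.le_iff_mem_closure _ z w).1
        (VarDim.ProjN.pp_le_pp.1 (hz ▸ (Ideal.span_singleton_le_iff_mem _).2 hw))
    have hsub : ∀ (z : ProjectiveSpectrum (CohB1.polyGrading n k)) (r : MvPolynomial (Fin (n + 1)) k),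
        (VarDim.ProjN.pp z).asIdeal = Ideal.span {r} → r ∣ f →
        closure {z} ⊆ ProjectiveSpectrum.zeroLocus (CohB1.polyGrading n k) ({f} : Set (MvPolynomial (Fin (n + 1)) k)) :=
      fun z r hz hr => (ProjectiveSpectrum.isClosed_zeroLocus _ _).closure_subset_iff.2
        (Set.singleton_subset_iff.2 ((hmem z).2 (hz.ge (Ideal.mem_span_singleton.2 hr))))
    exact ⟨closure {x} ∪ closure {y}, Set.union_subset (hsub x p hx hpf) (hsub y q hy hqf),
      Or.inl (hcl x p a hx hpa), Or.inr (hcl y q b hy hqb),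
      IsPreconnected.union c (hcl x p c hx hpc) (hcl y q c hy hqc)
        isPreconnected_singleton.closure isPreconnected_singleton.closure⟩

end Groth.Agent.S10820
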