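import Groth.Statements.S10821
import Groth.Agent.VarDim.Proj

set_option autoImplicit false
universe u
open AlgebraicGeometry Topology TopologicalSpace
open Variety

namespace Groth.Agent.S10821


open Groth.Agent.VarDim Groth.Agent.VarDim.ProjN Order MvPolynomial

theorem coheight_eq_height {k : Type u} [Field k] {n : ℕ}
    (Z : TopologicalSpace.IrreducibleCloseds (ProjectiveSpectrum (CohB1.polyGrading n k))) :
    Order.coheight Z = height Z.2.genericPoint := by
  letI := specializationOrder (ProjectiveSpectrum (CohB1.polyGrading n k))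
  rw [← coheight_orderIso irreducibleSetEquivPoints Z]
  show @coheight _ (specializationPreorder _) _ = _
  rw [specializationPreorder_eq]
  rfl

/-- For a field k and an irreducible closed subset Z of projective n-space over k, Z has codimension 1
(the longest chain of irreducible closed subsets strictly above Z has length 1) if and only if Z is
the zero set V_+(f) of an irreducible homogeneous polynomial f in n + 1 variables. -/
theorem result (k : Type u) [Field k] (n : ℕ)
    (Z : TopologicalSpace.IrreducibleCloseds (ProjectiveSpectrum (CohB1.polyGrading n k))) :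
    Order.coheight Z = 1 ↔
      ∃ (d : ℕ) (f : MvPolynomial (Fin (n + 1)) k), f.IsHomogeneous d ∧ Irreducible f ∧
        (Z : Set (ProjectiveSpectrum (CohB1.polyGrading n k))) =
          ProjectiveSpectrum.zeroLocus (CohB1.polyGrading n k) ({f} : Set (MvPolynomial (Fin (n + 1)) k)) := by
  rw [coheight_eq_height]
  set z := Z.2.genericPoint with hzdef
  have hzg : ∀ y, y ∈ (Z : Set (ProjectiveSpectrum (CohB1.polyGrading n k))) ↔ z ≤ y := by
    intro y
    rw [ProjectiveSpectrum.le_iff_mem_closure, hzdef, Z.2.genericPoint_closure_eq,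
      Z.3.closure_eq]
    rfl
  obtain ⟨o, ho⟩ := exists_bot_point (k := k) (n := n)
  have hoz : o ≤ z := pp_le_pp.1 (by rw [ho]; exact bot_le)
  constructor
  · intro h1
    have hne : (pp z).asIdeal ≠ ⊥ := by
      intro hb
      have : height z = 0 := height_eq_zero.2 fun y hy => pp_le_pp.1 (by rw [hb]; exact bot_le)
      rw [this] at h1
      exact zero_ne_one h1
    obtain ⟨a, haz, ha0⟩ := Submodule.exists_mem_ne_zero_of_ne_bot hne
    obtain ⟨f, hfz, hf0, d, hf⟩ : ∃ f ∈ (pp z).asIdeal, f ≠ 0 ∧ ∃ d, f.IsHomogeneous d := by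
      by_contra! hall
      refine ha0 ?_
      rw [← sum_homogeneousComponent a]
      refine Finset.sum_eq_zero fun i _ => ?_
      by_contra hi
      refine hall _ ?_ hi i (homogeneousComponent_isHomogeneous i a)
      have := isHomogeneous_pp z i haz
      rwa [proj_apply] at this
    obtain ⟨p, hpz, hp⟩ : ∃ p ∈ (pp z).asIdeal, Prime p ∧ p ∣ f := by
      obtain ⟨s, hs, u, hu⟩ := UniqueFactorizationMonoid.exists_prime_factors f hf0
      have hmem : s.prod ∈ (pp z).asIdeal := by
        rw [← hu] at hfz
        exact ((Ideal.unit_mul_mem_iff_mem _ u.isUnit).1 (by rwa [mul_comm]))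
      obtain ⟨p, hps, hpz⟩ := ((pp z).2.multiset_prod_mem_iff_exists_mem s).1 hmem
      exact ⟨p, hpz, hs p hps, (Multiset.dvd_prod hps).trans ⟨u, hu.symm⟩⟩
    obtain ⟨hp, hpf⟩ := hp
    have hP : (Ideal.span {p}).IsPrime := (Ideal.span_singleton_prime hp.ne_zero).2 hp
    have hPh := span_isHomogeneous_of_dvd hp hf0 hf hpf
    have hle : Ideal.span {p} ≤ (pp z).asIdeal := (Ideal.span_singleton_le_iff_mem _).2 hpz
    obtain ⟨x, hx⟩ := exists_point hP hPh fun h =>
      (pp_lt_vertexPoint z).not_ge (h ▸ hle : vertex k n ≤ _)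
    have hxz : x ≤ z := pp_le_pp.1 (hx ▸ hle)
    have heq : x = z := by
      rcases hxz.lt_or_eq with h | h
      · have hox : o < x := lt_iff_le_not_ge.2 ⟨pp_le_pp.1 (by rw [ho]; exact bot_le), fun h' => by
          have h'' := pp_le_pp.2 h'
          rw [hx, ho, le_bot_iff, Ideal.span_singleton_eq_bot] at h''
          exact hp.ne_zero h''⟩
        have := (add_le_add_left (height_add_one_le hox) 1).trans (height_add_one_le h)
        rw [h1] at this
        have h2 : (1 : ℕ∞) + 1 ≤ 1 := (add_le_add_left le_add_self 1).trans this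
        exact absurd h2 (by decide)
      · exact h
    obtain ⟨e, he⟩ := exists_isHomogeneous_of_span hp.ne_zero hPh
    refine ⟨e, p, he, hp.irreducible, Set.ext fun y => ?_⟩
    rw [hzg, ← heq, ← pp_le_pp, hx, Ideal.span_singleton_le_iff_mem]
    exact ⟨fun h => Set.singleton_subset_iff.2 h, fun h => h rfl⟩
  · rintro ⟨d, f, hf, hfi, hZ⟩
    have hfp := hfi.prime
    have hP : (Ideal.span {f}).IsPrime := (Ideal.span_singleton_prime hfp.ne_zero).2 hfp
    have hzZ : z ∈ (Z : Set (ProjectiveSpectrum (CohB1.polyGrading n k))) := (hzg z).2 le_rfl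
    have hfz : f ∈ (pp z).asIdeal := by
      rw [hZ] at hzZ
      exact hzZ rfl
    obtain ⟨x, hx⟩ := exists_point hP (span_isHomogeneous_of_dvd hfp hfp.ne_zero hf dvd_rfl) fun h =>
      (pp_lt_vertexPoint z).not_ge (h ▸ (Ideal.span_singleton_le_iff_mem _).2 hfz : vertex k n ≤ _)
    have hzx : z ≤ x := (hzg x).1 (by
      rw [hZ]
      exact Set.singleton_subset_iff.2 (hx.ge (Ideal.mem_span_singleton_self f)))
    have heq : z = x := le_antisymm hzx (pp_le_pp.1 (hx ▸ (Ideal.span_singleton_le_iff_mem _).2 hfz))
    refine le_antisymm ?_ ?_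
    · refine le_trans (height_le_height_apply_of_strictMono _ pp_strictMono z) ?_
      exact le_of_eq (height_span hfp (heq ▸ hx))
    · have hoz' : o < z := lt_of_le_of_ne hoz fun h => hfp.ne_zero (by
        rw [heq] at h
        rw [← h, ho] at hx
        exact Ideal.span_singleton_eq_bot.1 hx.symm)
      exact le_trans le_add_self (height_add_one_le hoz')

end Groth.Agent.S10821
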