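import Groth.Statements.S10822
import Groth.Agent.VarDim.Proj

set_option autoImplicit false
universe u
open AlgebraicGeometry Topology TopologicalSpace
open Variety

namespace Groth.Agent.S10822


open Groth.Agent.VarDim Groth.Agent.VarDim.ProjN Order MvPolynomial

theorem pdim_add_one {k : Type u} [Field k] {n : ℕ} {g c : ProjectiveSpectrum (CohB1.polyGrading n k)}
    {f : MvPolynomial (Fin (n + 1)) k} (hf : f ∉ (pp g).asIdeal)
    (hc : (pp c).asIdeal ∈ ((pp g).asIdeal ⊔ Ideal.span {f}).minimalPrimes) :
    pdim c + 1 = pdim g := by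
  classical
  have h := coheight_le_of_mem_minimalPrimes_sup (k := k) (q := pp g) (p := pp c) {f} (by simpa using hc)
  have hlt : g < c := lt_iff_le_not_ge.2 ⟨pp_le_pp.1 (le_sup_left.trans hc.1.2), fun h' =>
    hf (pp_le_pp.2 h' (hc.1.2 (Ideal.mem_sup_right (Ideal.subset_span rfl))))⟩
  have h' := pdim_strictAnti hlt
  rw [coheight_pp_eq, coheight_pp_eq, Finset.card_singleton] at h
  have : pdim g + 1 ≤ pdim c + 1 + 1 := by exact_mod_cast h
  omega

/-- Let k be a field, X an irreducible closed subset of projective n-space over k of positive dimension,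
and f a homogeneous polynomial in n + 1 variables whose zero set V_+(f) is nonempty and does not
contain X. Then X meets V_+(f), and every irreducible component C of X ∩ V_+(f) has dim C + 1 = dim
X, i.e. codimension 1 in X (all maximal chains of irreducible closed subsets of X have length dim
X). -/
theorem result (k : Type u) [Field k] (n d : ℕ)
    (X : Set (ProjectiveSpectrum (CohB1.polyGrading n k))) (hXc : IsClosed X) (hXi : IsIrreducible X)
    (hXd : 0 < topologicalKrullDim ↥X)
    (f : MvPolynomial (Fin (n + 1)) k) (hf : f.IsHomogeneous d)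
    (hV : (ProjectiveSpectrum.zeroLocus (CohB1.polyGrading n k)
      ({f} : Set (MvPolynomial (Fin (n + 1)) k))).Nonempty)
    (hX : ¬ X ⊆ ProjectiveSpectrum.zeroLocus (CohB1.polyGrading n k)
      ({f} : Set (MvPolynomial (Fin (n + 1)) k))) :
    (X ∩ ProjectiveSpectrum.zeroLocus (CohB1.polyGrading n k)
        ({f} : Set (MvPolynomial (Fin (n + 1)) k))).Nonempty ∧
      ∀ C ∈ irreducibleComponents ↥(X ∩ ProjectiveSpectrum.zeroLocus (CohB1.polyGrading n k)
          ({f} : Set (MvPolynomial (Fin (n + 1)) k))),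
        topologicalKrullDim ↥C + 1 = topologicalKrullDim ↥X := by
  classical
  obtain ⟨g, hg, hdg⟩ := exists_genericPoint hXc hXi
  let J : Ideal (MvPolynomial (Fin (n + 1)) k) := (pp g).asIdeal ⊔ Ideal.span {f}
  have hJ : J.IsHomogeneous (CohB1.polyGrading n k) :=
    (isHomogeneous_pp g).sup (Ideal.homogeneous_span _ _ (by
      rintro a (rfl : a = f)
      exact ⟨d, hf⟩))
  have hY : ∀ y, y ∈ X ∩ ProjectiveSpectrum.zeroLocus (CohB1.polyGrading n k) {f} ↔
      J ≤ (pp y).asIdeal := by
    intro y
    constructor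
    · rintro ⟨h1, h2⟩
      exact sup_le (pp_le_pp.2 ((hg y).1 h1)) (Ideal.span_le.2 h2)
    · intro h
      exact ⟨(hg y).2 (pp_le_pp.1 (le_sup_left.trans h)),
        fun a ha => h (Ideal.mem_sup_right (Ideal.subset_span ha))⟩
  have hfg : f ∉ (pp g).asIdeal := fun h => hX fun y hy => by
    rintro a (rfl : a = f)
    exact pp_le_pp.2 ((hg y).1 hy) h
  refine ⟨?_, fun C hC => ?_⟩
  · obtain ⟨v, hv⟩ := hV
    have hfv : f ∈ vertex k n := (pp_lt_vertexPoint v).le (hv rfl)
    have hle : J ≤ vertex k n := sup_le (pp_lt_vertexPoint g).le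
      (Ideal.span_le.2 (by rintro a (rfl : a = f); exact hfv))
    obtain ⟨P, hP, -⟩ := Ideal.exists_minimalPrimes_le hle
    obtain ⟨c, hc⟩ := exists_point_minimal hJ hP (fun h => by
      subst h
      have h := coheight_le_of_mem_minimalPrimes_sup (k := k) (q := pp g) (p := vertexPoint k n) {f}
        (by simpa [vertexPoint, J] using hP)
      rw [coheight_pp_eq, coheight_vertexPoint, Finset.card_singleton, zero_add] at h
      rw [hdg] at hXd
      have h1 : pdim g + 1 ≤ 1 := by exact_mod_cast h
      have h2 : 0 < pdim g := by exact_mod_cast hXd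
      omega)
    exact ⟨c, (hY c).2 (hc ▸ hP.1.2)⟩
  · obtain ⟨c, hcY, hmin, hdim⟩ := exists_minimal_of_mem_irreducibleComponents
      (hXc.inter (ProjectiveSpectrum.isClosed_zeroLocus _ _)) hC
    rw [hdim, hdg, ← pdim_add_one hfg (mem_minimalPrimes_of_minimal hJ ((hY c).1 hcY)
      fun e he hec => hmin e ((hY e).2 he) hec), Nat.cast_succ]

end Groth.Agent.S10822
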