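import Groth.Statements.S10823
import Groth.Agent.VarDim.Proj

set_option autoImplicit false
universe u
open AlgebraicGeometry Topology TopologicalSpace
open Variety

namespace Groth.Agent.S10823


open Groth.Agent.VarDim Groth.Agent.VarDim.ProjN Order MvPolynomial

/-- Let k be a field, X an irreducible closed subset of projective n-space over k, and f_1, …, f_r
nonzero homogeneous polynomials of positive degrees in n + 1 variables. Then every irreducible
component C of X ∩ V_+(f_1, …, f_r) has codimension at most r in X, i.e. dim X ≤ dim C + r, and if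
dim X ≥ r the intersection is nonempty. -/
theorem result (k : Type u) [Field k] (n r : ℕ)
    (X : Set (ProjectiveSpectrum (CohB1.polyGrading n k))) (hXc : IsClosed X) (hXi : IsIrreducible X)
    (f : Fin r → MvPolynomial (Fin (n + 1)) k) (d : Fin r → ℕ)
    (hf : ∀ i, (f i).IsHomogeneous (d i)) (hd : ∀ i, 0 < d i) (hf0 : ∀ i, f i ≠ 0) :
    (∀ C ∈ irreducibleComponents ↥(X ∩ ProjectiveSpectrum.zeroLocus (CohB1.polyGrading n k) (Set.range f)),
        topologicalKrullDim ↥X ≤ topologicalKrullDim ↥C + (r : WithBot ℕ∞)) ∧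
      ((r : WithBot ℕ∞) ≤ topologicalKrullDim ↥X →
        (X ∩ ProjectiveSpectrum.zeroLocus (CohB1.polyGrading n k) (Set.range f)).Nonempty) := by
  classical
  obtain ⟨g, hg, hdg⟩ := exists_genericPoint hXc hXi
  let J : Ideal (MvPolynomial (Fin (n + 1)) k) := (pp g).asIdeal ⊔ Ideal.span (Set.range f)
  have hJ : J.IsHomogeneous (CohB1.polyGrading n k) :=
    (isHomogeneous_pp g).sup (Ideal.homogeneous_span _ _ (by
      rintro a ⟨i, rfl⟩
      exact ⟨d i, hf i⟩))
  have hY : ∀ y, y ∈ X ∩ ProjectiveSpectrum.zeroLocus (CohB1.polyGrading n k) (Set.range f) ↔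
      J ≤ (pp y).asIdeal := by
    intro y
    constructor
    · rintro ⟨h1, h2⟩
      exact sup_le (pp_le_pp.2 ((hg y).1 h1)) (Ideal.span_le.2 h2)
    · intro h
      exact ⟨(hg y).2 (pp_le_pp.1 (le_sup_left.trans h)),
        fun a ha => h (Ideal.mem_sup_right (Ideal.subset_span ha))⟩
  have key : ∀ P : PrimeSpectrum (MvPolynomial (Fin (n + 1)) k), P.asIdeal ∈ J.minimalPrimes →
      coheight (pp g) ≤ coheight P + (r : ℕ∞) := by
    intro P hP
    refine (coheight_le_of_mem_minimalPrimes_sup (k := k) (q := pp g) (p := P)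
      (Finset.univ.image f) (by simpa [J] using hP)).trans (add_le_add_right ?_ _)
    exact_mod_cast Finset.card_image_le.trans (le_of_eq (Finset.card_fin r))
  refine ⟨fun C hC => ?_, fun hr => ?_⟩
  · obtain ⟨c, hcY, hmin, hdim⟩ := exists_minimal_of_mem_irreducibleComponents
      (hXc.inter (ProjectiveSpectrum.isClosed_zeroLocus _ _)) hC
    rw [hdim, hdg]
    have h := key (pp c) (mem_minimalPrimes_of_minimal hJ ((hY c).1 hcY)
      fun e he hec => hmin e ((hY e).2 he) hec)
    rw [coheight_pp_eq, coheight_pp_eq] at h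
    have h' : pdim g + 1 ≤ pdim c + 1 + r := by exact_mod_cast h
    have : pdim g ≤ pdim c + r := by omega
    exact_mod_cast this
  · have hle : J ≤ vertex k n := sup_le (pp_lt_vertexPoint g).le (Ideal.span_le.2 (by
      rintro a ⟨i, rfl⟩
      show constantCoeff (f i) = 0
      rw [constantCoeff_eq]
      exact (hf i).coeff_eq_zero (by simpa using (hd i).ne)))
    obtain ⟨P, hP, -⟩ := Ideal.exists_minimalPrimes_le hle
    obtain ⟨c, hc⟩ := exists_point_minimal hJ hP (fun h => by
      subst h
      have h := key (vertexPoint k n) hP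
      rw [coheight_pp_eq, coheight_vertexPoint, zero_add] at h
      rw [hdg] at hr
      have h1 : pdim g + 1 ≤ r := by exact_mod_cast h
      have h2 : r ≤ pdim g := by exact_mod_cast hr
      omega)
    exact ⟨c, (hY c).2 (hc ▸ hP.1.2)⟩

end Groth.Agent.S10823
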