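import Groth.Statements.S10824
import Mathlib.RingTheory.Polynomial.UniqueFactorization
import Mathlib.Data.Nat.Choose.Basic
import Mathlib.LinearAlgebra.Dimension.RankNullity
import Groth.Agent.ComodLib.GradedAug
import Groth.Agent.Hensel.NoethCriterion

set_option autoImplicit false
set_option backward.isDefEq.respectTransparency false
set_option backward.isDefEq.respectTransparency.types false
set_option linter.style.haveILetI false
set_option linter.unusedSectionVars false
set_option maxHeartbeats 400000
universe u
open Variety

namespace Groth.Agent.S10824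


open MvPolynomial in
theorem dim3 (k : Type u) [Field k] (d : ℕ) :
    Module.Finite k (homogeneousSubmodule (Fin 3) k d) ∧
      Module.finrank k (homogeneousSubmodule (Fin 3) k d) = (d + 2).choose 2 := by
  refine ⟨(ComodLib.GradedAug.finrank_homogeneous 3 d).1, ?_⟩
  rw [(ComodLib.GradedAug.finrank_homogeneous 3 d).2, show 3 + d - 1 = d + 2 by omega]
  exact Nat.choose_symm_add

theorem choose_identity (e n m : ℕ) :
    (e + n + m + 2).choose 2 + (e + 2).choose 2 = (e + m + 2).choose 2 + (e + n + 2).choose 2 + n * m := by
  have h : ∀ x : ℕ, (x + 2).choose 2 * 2 = (x + 2) * (x + 1) := fun x => by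
    rw [Nat.choose_two_right, show x + 2 - 1 = x + 1 from rfl]
    exact Nat.div_mul_cancel ((Nat.even_mul_pred_self (x + 2)).two_dvd)
  have h1 := h (e + n + m); have h2 := h e; have h3 := h (e + m); have h4 := h (e + n)
  nlinarith

open MvPolynomial in
theorem finrank_quot (k : Type u) [Field k] (n m e : ℕ)
    (f g : MvPolynomial (Fin 3) k) (hf : f.IsHomogeneous n) (hg : g.IsHomogeneous m)
    (hg0 : g ≠ 0) (hfg : IsRelPrime f g) :
    Module.finrank k
        (↥(homogeneousSubmodule (Fin 3) k (e + n + m)) ⧸
          Submodule.comap (homogeneousSubmodule (Fin 3) k (e + n + m)).subtype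
            ((Ideal.span ({f, g} : Set (MvPolynomial (Fin 3) k))).restrictScalars k)) = n * m := by
  haveI := fun j => (dim3 k j).1
  let P := fun j => homogeneousSubmodule (Fin 3) k j
  let φ : ↥(P (e + m)) × ↥(P (e + n)) →ₗ[k] ↥(P (e + n + m)) :=
    LinearMap.codRestrict _
      ((LinearMap.mulRight k f ∘ₗ (P (e + m)).subtype).coprod (LinearMap.mulRight k g ∘ₗ (P (e + n)).subtype))
      (fun x => by
        show x.1.1 * f + x.2.1 * g ∈ homogeneousSubmodule (Fin 3) k (e + n + m)
        refine Submodule.add_mem _ ?_ ?_
        · rw [show e + n + m = e + m + n by omega]; exact IsHomogeneous.mul x.1.2 hf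
        · exact IsHomogeneous.mul x.2.2 hg)
  have hφ : ∀ x, (φ x : MvPolynomial (Fin 3) k) = x.1.1 * f + x.2.1 * g := fun x => rfl
  have hrange : LinearMap.range φ = Submodule.comap (P (e + n + m)).subtype
      ((Ideal.span ({f, g} : Set (MvPolynomial (Fin 3) k))).restrictScalars k) := by
    apply le_antisymm
    · rintro _ ⟨x, rfl⟩
      exact Ideal.mem_span_pair.2 ⟨x.1.1, x.2.1, rfl⟩
    · intro p hp
      obtain ⟨a, b, hab⟩ := Ideal.mem_span_pair.1 hp
      refine ⟨(⟨homogeneousComponent (e + m) a, homogeneousComponent_isHomogeneous _ _⟩,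
        ⟨homogeneousComponent (e + n) b, homogeneousComponent_isHomogeneous _ _⟩), Subtype.ext ?_⟩
      rw [hφ]
      show homogeneousComponent (e + m) a * f + homogeneousComponent (e + n) b * g = p.1
      have h := congrArg (homogeneousComponent (e + n + m)) hab
      rw [map_add, Hensel.homogeneousComponent_mul_of_isHomogeneous a hf,
        Hensel.homogeneousComponent_mul_of_isHomogeneous b hg, if_pos (by omega), if_pos (by omega),
        show e + n + m - n = e + m by omega, show e + n + m - m = e + n by omega] at h
      rw [h]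
      exact homogeneousComponent_of_mem p.2 |>.trans (if_pos rfl)
  let ψ : ↥(P e) →ₗ[k] ↥(P (e + m)) × ↥(P (e + n)) :=
    LinearMap.prod ((LinearMap.mulRight k g ∘ₗ (P e).subtype).codRestrict _ fun c => IsHomogeneous.mul c.2 hg)
      (-(LinearMap.mulRight k f ∘ₗ (P e).subtype).codRestrict _ fun c => IsHomogeneous.mul c.2 hf)
  have hker : LinearMap.ker φ = LinearMap.range ψ := by
    apply le_antisymm
    · intro x hx
      have h0 : x.1.1 * f + x.2.1 * g = 0 := (hφ x).symm.trans (congrArg Subtype.val (LinearMap.mem_ker.1 hx))
      have hdvd : g ∣ x.1.1 := hfg.symm.dvd_of_dvd_mul_right ⟨-x.2.1, by linear_combination h0⟩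
      obtain ⟨c, hc⟩ := hdvd
      have hc' : x.1.1 = homogeneousComponent e c * g := by
        have h := congrArg (homogeneousComponent (e + m)) (hc.trans (mul_comm g c))
        rw [homogeneousComponent_of_mem x.1.2, if_pos rfl,
          Hensel.homogeneousComponent_mul_of_isHomogeneous c hg, if_pos (by omega),
          show e + m - m = e by omega] at h
        exact h
      refine ⟨⟨homogeneousComponent e c, homogeneousComponent_isHomogeneous _ _⟩,
        Prod.ext (Subtype.ext hc'.symm) (Subtype.ext ?_)⟩
      show -(homogeneousComponent e c * f) = x.2.1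
      apply mul_right_cancel₀ hg0
      rw [hc'] at h0
      linear_combination (-1 : MvPolynomial (Fin 3) k) * h0
    · rintro _ ⟨c, rfl⟩
      refine LinearMap.mem_ker.2 (Subtype.ext ?_)
      rw [hφ]
      show c.1 * g * f + -(c.1 * f) * g = 0
      ring
  have hψ : Function.Injective ψ := fun a b h =>
    Subtype.ext (mul_right_cancel₀ hg0 (congrArg (fun x => (x.1 : MvPolynomial (Fin 3) k)) h))
  have h1 := LinearMap.finrank_range_add_finrank_ker φ
  rw [hker, LinearMap.finrank_range_of_inj hψ, Module.finrank_prod, (dim3 k _).2, (dim3 k _).2, (dim3 k _).2] at h1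
  have h2 := Submodule.finrank_quotient_add_finrank (LinearMap.range φ)
  rw [(dim3 k _).2, hrange] at h2
  rw [hrange] at h1
  simp only [P] at h1 h2
  have h3 := choose_identity e n m
  omega

/-- Let k be a field, S the polynomial ring in three variables over k with degree-d part S_d, and f, g
nonzero homogeneous polynomials of positive degrees n and m with no common non-unit factor. Then for
every d ≥ n + m the degree-d part of S/(f, g), namely S_d modulo its intersection with the ideal (f,
g), has dimension n·m over k. -/
theorem result (k : Type u) [Field k] (n m d : ℕ)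
    (f g : MvPolynomial (Fin 3) k) (hf : f.IsHomogeneous n) (hg : g.IsHomogeneous m)
    (hn : 0 < n) (hm : 0 < m) (hf0 : f ≠ 0) (hg0 : g ≠ 0) (hfg : IsRelPrime f g) (hd : n + m ≤ d) :
    Module.finrank k
        (↥(MvPolynomial.homogeneousSubmodule (Fin 3) k d) ⧸
          Submodule.comap (MvPolynomial.homogeneousSubmodule (Fin 3) k d).subtype
            ((Ideal.span ({f, g} : Set (MvPolynomial (Fin 3) k))).restrictScalars k)) = n * m := by
  obtain ⟨e, rfl⟩ : ∃ e, d = e + n + m := ⟨d - n - m, by omega⟩
  exact finrank_quot k n m e f g hf hg hg0 hfg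

end Groth.Agent.S10824
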