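import Groth.Statements.S10825
import Groth.Agent.EGA41Lib.IntDim
import Mathlib

set_option autoImplicit false
universe u
open Topology
open CAlg

namespace Groth.Agent.S10825

/-- Let A → B be an injective integral homomorphism of integral domains with fraction fields K and L, L
a finite extension of K, and A integrally closed. For b in B the norm N_{L/K}(b) lies in A; if a
denotes this element of A, then the image of the closed set V(b) of Spec B under Spec B → Spec A is
exactly V(a), and V(b) and V(a) have the same dimension. -/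
theorem result
    (A B K L : Type u) [CommRing A] [IsDomain A] [CommRing B] [IsDomain B] [Algebra A B]
    [Field K] [Field L] [Algebra A K] [IsFractionRing A K] [Algebra B L] [IsFractionRing B L]
    [Algebra A L] [Algebra K L] [IsScalarTower A B L] [IsScalarTower A K L]
    [FiniteDimensional K L] [Algebra.IsIntegral A B] [IsIntegrallyClosed A]
    (hinj : Function.Injective (algebraMap A B))
    (b : B) (a : A) (ha : algebraMap A K a = Algebra.norm K (algebraMap B L b)) :
    PrimeSpectrum.comap (algebraMap A B) '' PrimeSpectrum.zeroLocus ({b} : Set B) =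
        PrimeSpectrum.zeroLocus ({a} : Set A) ∧
      topologicalKrullDim ↥(PrimeSpectrum.zeroLocus ({b} : Set B)) =
        topologicalKrullDim ↥(PrimeSpectrum.zeroLocus ({a} : Set A)) := by
  classical
  haveI : FaithfulSMul A B := (faithfulSMul_iff_algebraMap_injective A B).2 hinj
  have hbi : IsIntegral A b := Algebra.IsIntegral.isIntegral b
  let bL := algebraMap B L b
  have hbL : IsIntegral A bL := hbi.map (IsScalarTower.toAlgHom A B L)
  have hP : minpoly A bL = minpoly A b :=
    minpoly.algebraMap_eq (IsFractionRing.injective B L) b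
  have hK : minpoly K bL = (minpoly A b).map (algebraMap A K) := by
    rw [← hP]; exact minpoly.isIntegrallyClosed_eq_field_fractions' K hbL
  set P := minpoly A b with hPdef
  have hmon : P.Monic := minpoly.monic hbi
  -- the norm
  have hbK : IsIntegral K bL := Algebra.IsIntegral.isIntegral bL
  obtain ⟨s, m, hm, hs, hanorm⟩ : ∃ (s : A) (m : ℕ), 0 < m ∧ IsUnit s ∧ a = (s * P.coeff 0) ^ m := by
    refine ⟨(-1) ^ (IntermediateField.adjoin.powerBasis hbK).dim,
      Module.finrank (IntermediateField.adjoin K {bL}) L, Module.finrank_pos,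
      (IsUnit.neg isUnit_one).pow _, IsFractionRing.injective A K ?_⟩
    rw [ha, Algebra.norm_eq_norm_adjoin K bL, map_pow]
    congr 1
    have h1 := Algebra.PowerBasis.norm_gen_eq_coeff_zero_minpoly (IntermediateField.adjoin.powerBasis hbK)
    rw [IntermediateField.adjoin.powerBasis_gen] at h1
    rw [h1, IntermediateField.minpoly_gen K bL, hK, Polynomial.coeff_map, map_mul, map_pow, map_neg, map_one]
  let c := P.coeff 0
  have hVa : PrimeSpectrum.zeroLocus ({a} : Set A) = PrimeSpectrum.zeroLocus ({c} : Set A) := by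
    ext p
    simp only [PrimeSpectrum.mem_zeroLocus, Set.singleton_subset_iff, SetLike.mem_coe, hanorm]
    rw [p.2.pow_mem_iff_mem m hm]
    exact Ideal.unit_mul_mem_iff_mem _ hs
  have hcb : algebraMap A B c ∈ Ideal.span ({b} : Set B) := by
    rw [Ideal.mem_span_singleton]
    have h0 : Polynomial.aeval b P = 0 := minpoly.aeval A b
    rw [← P.X_mul_divX_add, map_add, map_mul, Polynomial.aeval_X, Polynomial.aeval_C] at h0
    exact ⟨- Polynomial.aeval b P.divX, by rw [mul_neg]; exact eq_neg_of_add_eq_zero_right h0⟩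
  have himage : PrimeSpectrum.comap (algebraMap A B) '' PrimeSpectrum.zeroLocus ({b} : Set B) =
      PrimeSpectrum.zeroLocus ({a} : Set A) := by
    rw [hVa]
    ext p
    constructor
    · rintro ⟨q, hq, rfl⟩
      simp only [PrimeSpectrum.mem_zeroLocus, Set.singleton_subset_iff, SetLike.mem_coe] at hq ⊢
      exact (Ideal.span_singleton_le_iff_mem q.asIdeal).2 hq hcb
    · intro hp
      simp only [PrimeSpectrum.mem_zeroLocus, Set.singleton_subset_iff, SetLike.mem_coe] at hp
      let φ : AdjoinRoot P →+* A ⧸ p.asIdeal := AdjoinRoot.lift (Ideal.Quotient.mk p.asIdeal) 0 (by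
        rw [Polynomial.eval₂_at_zero]; exact Ideal.Quotient.eq_zero_iff_mem.2 hp)
      let e := minpoly.equivAdjoin (R := A) hbi
      let ψ : Algebra.adjoin A ({b} : Set B) →+* A ⧸ p.asIdeal := φ.comp e.symm.toRingEquiv.toRingHom
      have hψA : ∀ x : A, ψ (algebraMap A _ x) = Ideal.Quotient.mk p.asIdeal x := fun x => by
        show φ (e.symm (algebraMap A _ x)) = _
        rw [e.symm.commutes, AdjoinRoot.algebraMap_eq]
        exact AdjoinRoot.lift_of _
      have hψb : ψ ⟨b, Algebra.subset_adjoin rfl⟩ = 0 := by
        show φ (e.symm _) = 0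
        rw [show e.symm ⟨b, Algebra.subset_adjoin rfl⟩ = AdjoinRoot.root P from
          e.symm_apply_eq.2 (Subtype.ext (by simp [e, minpoly.equivAdjoin, AdjoinRoot.liftAlgHom]; erw [AdjoinRoot.lift_root]))]
        exact AdjoinRoot.lift_root _
      haveI : (RingHom.ker ψ).IsPrime := RingHom.ker_isPrime ψ
      haveI : Algebra.IsIntegral (Algebra.adjoin A ({b} : Set B)) B := Algebra.IsIntegral.tower_top A
      obtain ⟨Q, -, hQ, hQl⟩ := Ideal.exists_ideal_over_prime_of_isIntegral (S := B) (RingHom.ker ψ) ⊥
        (by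
          intro x hx
          have : x = 0 := Subtype.ext (show (x : B) = 0 by simpa [Ideal.mem_comap] using hx)
          rw [this]; exact zero_mem _)
      refine ⟨⟨Q, hQ⟩, ?_, ?_⟩
      · simp only [PrimeSpectrum.mem_zeroLocus, Set.singleton_subset_iff, SetLike.mem_coe]
        have : (⟨b, Algebra.subset_adjoin rfl⟩ : Algebra.adjoin A ({b} : Set B)) ∈
            Q.comap (algebraMap (Algebra.adjoin A ({b} : Set B)) B) := by rw [hQl]; exact hψb
        exact this
      · apply PrimeSpectrum.ext
        ext x
        show algebraMap A B x ∈ Q ↔ x ∈ p.asIdeal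
        rw [IsScalarTower.algebraMap_apply A (Algebra.adjoin A ({b} : Set B)) B, ← Ideal.mem_comap, hQl,
          RingHom.mem_ker, hψA, Ideal.Quotient.eq_zero_iff_mem]
  refine ⟨himage, ?_⟩
  let I : Ideal B := Ideal.span {b}
  let J : Ideal A := I.comap (algebraMap A B)
  letI : Algebra (A ⧸ J) (B ⧸ I) := (Ideal.quotientMap I (algebraMap A B) le_rfl).toAlgebra
  haveI : IsScalarTower A (A ⧸ J) (B ⧸ I) := IsScalarTower.of_algebraMap_eq fun _ => rfl
  haveI : Algebra.IsIntegral A (B ⧸ I) :=
    Algebra.IsIntegral.of_surjective (Ideal.Quotient.mkₐ A I) Ideal.Quotient.mk_surjective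
  haveI : Algebra.IsIntegral (A ⧸ J) (B ⧸ I) := Algebra.IsIntegral.tower_top A
  have hdim : ringKrullDim (B ⧸ I) = ringKrullDim (A ⧸ J) :=
    Groth.Agent.EGA41Lib.ringKrullDim_eq_of_integral Ideal.quotientMap_injective
  have hJ : PrimeSpectrum.zeroLocus (J : Set A) = PrimeSpectrum.zeroLocus ({a} : Set A) := by
    refine le_antisymm ?_ ?_
    · rw [hVa]
      exact PrimeSpectrum.zeroLocus_anti_mono (Set.singleton_subset_iff.2 hcb)
    · rw [← himage]
      rintro _ ⟨q, hq, rfl⟩ x hx
      simp only [PrimeSpectrum.mem_zeroLocus, Set.singleton_subset_iff, SetLike.mem_coe] at hq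
      exact (Ideal.span_singleton_le_iff_mem q.asIdeal).2 hq hx
  have key : ∀ {C : Type u} [CommRing C] (N : Ideal C),
      topologicalKrullDim ↥(PrimeSpectrum.zeroLocus (N : Set C)) = ringKrullDim (C ⧸ N) := by
    intro C _ N
    have he := (PrimeSpectrum.isClosedEmbedding_comap_of_surjective (C ⧸ N) (Ideal.Quotient.mk N)
      Ideal.Quotient.mk_surjective).isEmbedding
    rw [← PrimeSpectrum.topologicalKrullDim_eq_ringKrullDim]
    refine (IsHomeomorph.topologicalKrullDim_eq _
      (he.toHomeomorph.trans (Homeomorph.setCongr ?_)).isHomeomorph).symm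
    rw [range_comap_of_surjective _ _ Ideal.Quotient.mk_surjective, Ideal.mk_ker]
  rw [← hJ, ← PrimeSpectrum.zeroLocus_span {b}, key, key, hdim]


end Groth.Agent.S10825
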