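import Groth.Statements.S10826
import Groth.Agent.PSLib.Basic

set_option autoImplicit false
open CAlg

namespace Groth.Agent.S10826

/-- Let R be a commutative ring, n ≥ 1, and φ an R-algebra homomorphism from the power series ring in n
variables over R to itself that sends each variable to a power series without constant term. If the
Jacobian matrix at the origin, whose (i, j) entry is the coefficient of X_j in φ(X_i), has
invertible determinant in R, then φ is an isomorphism (bijective). -/
theorem result
    (R : Type*) [CommRing R] (n : ℕ) (hn : 1 ≤ n)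
    (φ : MvPowerSeries (Fin n) R →ₐ[R] MvPowerSeries (Fin n) R)
    (h0 : ∀ i, MvPowerSeries.constantCoeff (φ (MvPowerSeries.X i)) = 0)
    (hJ : IsUnit (Matrix.det (Matrix.of fun i j : Fin n =>
      MvPowerSeries.coeff (Finsupp.single j 1) (φ (MvPowerSeries.X i))))) :
    Function.Bijective φ := by
  classical
  refine PSLib.bijective_of_first_order φ (fun i => PSLib.mem_vars_iff.2 (h0 i)) fun j => ?_
  set J : Matrix (Fin n) (Fin n) R := Matrix.of fun i j : Fin n =>
    MvPowerSeries.coeff (Finsupp.single j 1) (φ (MvPowerSeries.X i)) with hJdef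
  refine Submodule.mem_sup.2 ⟨∑ i, MvPowerSeries.C (J⁻¹ j i) * φ (MvPowerSeries.X i),
    Ideal.sum_mem _ fun i _ => Ideal.mul_mem_left _ _ (Ideal.subset_span ⟨i, rfl⟩),
    MvPowerSeries.X j - ∑ i, MvPowerSeries.C (J⁻¹ j i) * φ (MvPowerSeries.X i), ?_, by abel⟩
  refine PSLib.mem_pow_iff.2 fun d hd => ?_
  rw [map_sub, map_sum]
  simp only [MvPowerSeries.coeff_C_mul]
  by_cases hd0 : d = 0
  · subst hd0
    simp [MvPowerSeries.coeff_zero_eq_constantCoeff_apply, h0]
  · obtain ⟨l, rfl⟩ : ∃ l, d = Finsupp.single l 1 := by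
      have h1 : Finsupp.degree d = 1 := by
        have := mt (Finsupp.degree_eq_zero_iff d).1 hd0
        omega
      obtain ⟨l, hl⟩ := Finsupp.ne_iff.1 hd0
      refine ⟨l, ?_⟩
      have hle : Finsupp.single l 1 ≤ d :=
        Finsupp.single_le_iff.2 (Nat.one_le_iff_ne_zero.2 (by simpa using hl))
      have h2 := congrArg Finsupp.degree (add_tsub_cancel_of_le hle)
      rw [map_add, Finsupp.degree_single, h1] at h2
      have h3 : d - Finsupp.single l 1 = 0 := (Finsupp.degree_eq_zero_iff _).1 (by omega)
      exact le_antisymm (tsub_eq_zero_iff_le.1 h3) hle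
    have h2 : ∑ i, J⁻¹ j i * J i l = (1 : Matrix (Fin n) (Fin n) R) j l := by
      rw [← Matrix.nonsing_inv_mul J hJ, Matrix.mul_apply]
    simp only [hJdef, Matrix.of_apply] at h2 ⊢
    rw [h2, MvPowerSeries.coeff_X, Matrix.one_apply]
    simp [Finsupp.single_left_inj, eq_comm]


end Groth.Agent.S10826
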