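import Groth.Statements.S10827
import Mathlib
import Groth.Agent.S10824
import Groth.Agent.ComodLib.GradedAug
import Groth.Agent.Hensel.NoethCriterion
-- import your own Groth.Agent.* helpers here

set_option autoImplicit false
universe u
open Variety

namespace Groth.Agent.S10827

open MvPolynomial

variable (k : Type u) [Field k]

/-- `T ↦ c` -/
noncomputable def ev (c : MvPolynomial (Fin 2) k) : MvPolynomial (Fin 3) k →ₐ[k] MvPolynomial (Fin 2) k :=
  MvPolynomial.aeval (Fin.cons (MvPolynomial.X 0) (Fin.cons (MvPolynomial.X 1)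
    (Fin.cons c Fin.elim0)) : Fin 3 → MvPolynomial (Fin 2) k)

noncomputable def lift2 : MvPolynomial (Fin 2) k →ₐ[k] MvPolynomial (Fin 3) k :=
  MvPolynomial.rename Fin.castSucc

theorem ev_lift (c : MvPolynomial (Fin 2) k) (q : MvPolynomial (Fin 2) k) : ev k c (lift2 k q) = q := by
  have h : (ev k c).comp (lift2 k) = AlgHom.id k _ := by
    refine MvPolynomial.algHom_ext fun i => ?_
    fin_cases i <;> simp [ev, lift2] <;> rfl
  exact DFunLike.congr_fun h q

theorem ev_T (c : MvPolynomial (Fin 2) k) : ev k c (X 2) = c := by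
  simp [ev]; rfl

theorem dvd_sub_lift (c : k) (p : MvPolynomial (Fin 3) k) :
    (X 2 - C c) ∣ p - lift2 k (ev k (C c) p) := by
  induction p using MvPolynomial.induction_on with
  | C a => simp [ev, lift2]
  | add a b ha hb =>
    rw [map_add, map_add, add_sub_add_comm]; exact dvd_add ha hb
  | mul_X a i ha =>
    have hi : (X 2 - C c) ∣ X i - lift2 k (ev k (C c) (X i)) := by
      fin_cases i
      · simp [ev, lift2]
      · simp [ev, lift2]
      · show (X 2 - C c) ∣ X 2 - lift2 k (ev k (C c) (X 2))
        rw [ev_T]; simp [lift2]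
    rw [map_mul, map_mul, mul_sub_mul_comm_aux]
    exact dvd_add (dvd_mul_of_dvd_left ha _) (dvd_mul_of_dvd_right hi _)
where
  mul_sub_mul_comm_aux {a b c d : MvPolynomial (Fin 3) k} : a * b - c * d = (a - c) * b + c * (b - d) := by ring

variable {k}

theorem lift_isHomogeneous {q : MvPolynomial (Fin 2) k} {j : ℕ} (h : q.IsHomogeneous j) :
    (lift2 k q).IsHomogeneous j := h.rename_isHomogeneous

section Main

variable {n m : ℕ} {f g : MvPolynomial (Fin 3) k}

theorem T_regular (hn : 0 < n) (hf : f.IsHomogeneous n)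
    (hT : IsRelPrime (ev k 0 f) (ev k 0 g)) (x : MvPolynomial (Fin 3) k)
    (h : X 2 * x ∈ Ideal.span ({f, g} : Set (MvPolynomial (Fin 3) k))) :
    x ∈ Ideal.span ({f, g} : Set (MvPolynomial (Fin 3) k)) := by
  obtain ⟨a, b, hab⟩ := Ideal.mem_span_pair.1 h
  have hab0 : ev k 0 a * ev k 0 f + ev k 0 b * ev k 0 g = 0 := by
    rw [← map_mul, ← map_mul, ← map_add, hab, map_mul, ev_T, zero_mul]
  have hg0 : ev k 0 g ≠ 0 := by
    intro h0
    have hu : IsUnit (ev k 0 f) := hT dvd_rfl (by rw [h0]; exact dvd_zero _)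
    obtain ⟨r, hr, hr'⟩ := MvPolynomial.isUnit_iff_eq_C_of_isReduced.1 hu
    have hhom : (ev k 0 f).IsHomogeneous n := by
      have := hf.aeval (Fin.cons (X 0) (Fin.cons (X 1) (Fin.cons 0 Fin.elim0)) :
        Fin 3 → MvPolynomial (Fin 2) k) (n := 1) (fun i => by
          fin_cases i
          · exact isHomogeneous_X _ _
          · exact isHomogeneous_X _ _
          · exact isHomogeneous_zero _ _ _)
      rwa [one_mul] at this
    have h00 : coeff 0 (ev k 0 f) = 0 := hhom.coeff_eq_zero (by simp; omega)
    rw [hr', coeff_zero_C] at h00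
    exact hr.ne_zero h00
  obtain ⟨c, hc⟩ := hT.symm.dvd_of_dvd_mul_right
    (⟨-ev k 0 b, by linear_combination hab0⟩ : ev k 0 g ∣ ev k 0 a * ev k 0 f)
  have hb' : ev k 0 b = -(c * ev k 0 f) := by
    apply mul_right_cancel₀ hg0
    rw [hc] at hab0
    linear_combination hab0
  have hdiv : ∀ p, ev k 0 p = 0 → X 2 ∣ p := fun p hp => by
    have := dvd_sub_lift k 0 p
    simpa [hp] using this
  obtain ⟨a', ha'⟩ := hdiv (a - lift2 k c * g) (by rw [map_sub, map_mul, ev_lift, hc]; ring)
  obtain ⟨b', hb''⟩ := hdiv (b + lift2 k c * f) (by rw [map_add, map_mul, ev_lift, hb']; ring)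
  refine Ideal.mem_span_pair.2 ⟨a', b', mul_left_cancel₀ (MvPolynomial.X_ne_zero 2) ?_⟩
  linear_combination hab - f * ha' - g * hb''

theorem hcomp_mul {f : MvPolynomial (Fin 3) k} (hf : f.IsHomogeneous n) (a : MvPolynomial (Fin 3) k)
    (I : Ideal (MvPolynomial (Fin 3) k)) (hI : f ∈ I) (j : ℕ) :
    homogeneousComponent j (a * f) ∈ I := by
  rw [Hensel.homogeneousComponent_mul_of_isHomogeneous a hf]
  split_ifs
  · exact I.mul_mem_left _ hI
  · exact I.zero_mem

theorem kernel (hn : 0 < n) (hf : f.IsHomogeneous n) (hg : g.IsHomogeneous m)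
    (hT : IsRelPrime (ev k 0 f) (ev k 0 g)) {d : ℕ} (p : MvPolynomial (Fin 3) k)
    (hp : p.IsHomogeneous d)
    (h : ev k 1 p ∈ Ideal.span ({ev k 1 f, ev k 1 g} : Set (MvPolynomial (Fin 2) k))) :
    p ∈ Ideal.span ({f, g} : Set (MvPolynomial (Fin 3) k)) := by
  set I := Ideal.span ({f, g} : Set (MvPolynomial (Fin 3) k)) with hI
  obtain ⟨a, b, hab⟩ := Ideal.mem_span_pair.1 h
  obtain ⟨w, hw⟩ := dvd_sub_lift k 1 (p - (lift2 k a * f + lift2 k b * g))
  rw [map_sub, map_add, map_mul, map_mul] at hw
  simp only [← map_one C, ev_lift] at hw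
  rw [show (C 1 : MvPolynomial (Fin 2) k) = 1 from map_one C, hab, sub_self, map_zero, sub_zero,
    show (C 1 : MvPolynomial (Fin 3) k) = 1 from map_one C] at hw
  have hTX : (X 2 : MvPolynomial (Fin 3) k).IsHomogeneous 1 := isHomogeneous_X _ _
  have key : ∀ j, (if j = d then p else 0) -
      ((if 1 ≤ j then homogeneousComponent (j - 1) w * X 2 else 0) - homogeneousComponent j w) ∈ I := by
    intro j
    have e := congrArg (homogeneousComponent j) hw
    rw [map_sub, map_add, sub_mul, one_mul, map_sub, mul_comm (X 2) w,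
      Hensel.homogeneousComponent_mul_of_isHomogeneous w hTX, homogeneousComponent_of_mem hp] at e
    rw [← e, sub_sub_cancel]
    exact I.add_mem (hcomp_mul hf _ I (Ideal.subset_span (by simp)) j)
      (hcomp_mul hg _ I (Ideal.subset_span (by simp)) j)
  have hlow : ∀ j < d, homogeneousComponent j w ∈ I := by
    intro j
    induction j with
    | zero =>
      intro hj
      have := key 0
      simpa [hj.ne] using this
    | succ j ih =>
      intro hj
      have h1 := I.sub_mem (key (j + 1)) (I.mul_mem_right (X 2) (I.neg_mem (ih (by omega))))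
      simpa [hj.ne] using h1
  have hhigh : ∀ i, homogeneousComponent (d + i) w + X 2 ^ i * p ∈ I := by
    intro i
    induction i with
    | zero =>
      have h1 := key d
      rw [if_pos rfl] at h1
      rcases Nat.eq_zero_or_pos d with hd | hd
      · subst hd; simpa [add_comm] using h1
      · rw [if_pos (show 1 ≤ d from hd)] at h1
        have h2 := I.add_mem h1 (I.mul_mem_right (X 2) (hlow (d - 1) (by omega)))
        convert h2 using 1
        simp; ring
    | succ i ih =>
      have h1 := I.add_mem (key (d + (i + 1))) (I.mul_mem_right (X 2) ih)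
      rw [if_neg (by omega), if_pos (by omega), show d + (i + 1) - 1 = d + i by omega] at h1
      convert h1 using 1
      ring
  have hfin := hhigh (w.totalDegree + 1)
  rw [homogeneousComponent_eq_zero _ _ (by omega), zero_add] at hfin
  clear hlow hhigh key
  generalize w.totalDegree + 1 = i at hfin
  induction i with
  | zero => simpa using hfin
  | succ i ih =>
    refine ih (T_regular hn hf hT _ ?_)
    rwa [← mul_assoc, ← pow_succ']

variable (f g) in
/-- dehomogenisation of degree `d` forms -/
noncomputable def dh (d : ℕ) : homogeneousSubmodule (Fin 3) k d →ₗ[k]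
    (MvPolynomial (Fin 2) k ⧸ Ideal.span ({ev k 1 f, ev k 1 g} : Set (MvPolynomial (Fin 2) k))) :=
  (Ideal.Quotient.mkₐ k _).toLinearMap ∘ₗ (ev k 1).toLinearMap ∘ₗ (homogeneousSubmodule (Fin 3) k d).subtype

variable (f g) in
theorem dh_mono {d d' : ℕ} (h : d ≤ d') : LinearMap.range (dh f g d) ≤ LinearMap.range (dh f g d') := by
  rintro _ ⟨p, rfl⟩
  refine ⟨⟨X 2 ^ (d' - d) * p.1, ?_⟩, ?_⟩
  · have := ((isHomogeneous_X k (2 : Fin 3)).pow (d' - d)).mul p.2
    rwa [one_mul, Nat.sub_add_cancel h] at this
  · simp [dh, ev_T]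

theorem finrank_quotient (hn : 0 < n) (hm : 0 < m) (hf : f.IsHomogeneous n) (hg : g.IsHomogeneous m)
    (hf0 : f ≠ 0) (hg0 : g ≠ 0) (hfg : IsRelPrime f g) (hT : IsRelPrime (ev k 0 f) (ev k 0 g)) :
    Module.finrank k (MvPolynomial (Fin 2) k ⧸
      Ideal.span ({ev k 1 f, ev k 1 g} : Set (MvPolynomial (Fin 2) k))) = n * m := by
  have hker : ∀ d, LinearMap.ker (dh f g d) = Submodule.comap (homogeneousSubmodule (Fin 3) k d).subtype
      ((Ideal.span ({f, g} : Set (MvPolynomial (Fin 3) k))).restrictScalars k) := by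
    intro d
    ext p
    simp only [LinearMap.mem_ker, Submodule.mem_comap, Submodule.restrictScalars_mem, dh,
      LinearMap.comp_apply, Submodule.subtype_apply, AlgHom.toLinearMap_apply,
      Ideal.Quotient.mkₐ_eq_mk, Ideal.Quotient.eq_zero_iff_mem]
    refine ⟨kernel hn hf hg hT p.1 p.2, fun h => ?_⟩
    obtain ⟨a, b, hab⟩ := Ideal.mem_span_pair.1 h
    exact Ideal.mem_span_pair.2 ⟨ev k 1 a, ev k 1 b, by rw [← hab, map_add, map_mul, map_mul]⟩
  have hr : ∀ d, n + m ≤ d → Module.finrank k (LinearMap.range (dh f g d)) = n * m ∧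
      Module.Finite k (LinearMap.range (dh f g d)) := by
    intro d hd
    haveI := (ComodLib.GradedAug.finrank_homogeneous (k := k) 3 d).1
    refine ⟨?_, inferInstance⟩
    rw [← (dh f g d).quotKerEquivRange.finrank_eq, (Submodule.quotEquivOfEq _ _ (hker d)).finrank_eq]
    exact S10824.result k n m d f g hf hg hn hm hf0 hg0 hfg hd
  suffices h : LinearMap.range (dh f g (n + m)) = ⊤ by
    rw [← (hr (n + m) le_rfl).1, h, finrank_top]
  rw [eq_top_iff]
  intro q _
  obtain ⟨q, rfl⟩ := Ideal.Quotient.mk_surjective q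
  rw [← sum_homogeneousComponent q, map_sum]
  refine Submodule.sum_mem _ fun j _ => ?_
  have hmem : Ideal.Quotient.mk _ (homogeneousComponent j q) ∈ LinearMap.range (dh f g j) :=
    ⟨⟨lift2 k (homogeneousComponent j q), lift_isHomogeneous (homogeneousComponent_isHomogeneous j q)⟩,
      by simp [dh, ev_lift]⟩
  obtain ⟨hr2, hfin⟩ := hr (max j (n + m)) (le_max_right _ _)
  haveI := hfin
  rw [Submodule.eq_of_le_of_finrank_eq (dh_mono f g (le_max_right j (n + m)))
    ((hr _ le_rfl).1.trans hr2.symm)]
  exact dh_mono f g (le_max_left _ _) hmem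

end Main

/-- Let k be a field and f, g nonzero homogeneous polynomials of positive degrees n and m in three
variables X, Y, T without common non-unit factor, and assume that f(X, Y, 0) and g(X, Y, 0) are also
without common non-unit factor in k[X, Y] (no common point of the two curves lies on the line T =
0). Then the quotient of k[X, Y] by the ideal generated by f(X, Y, 1) and g(X, Y, 1) has dimension
n·m over k. (The published statement is that two plane curves without common component have total
intersection number equal to the product of their degrees; its argument moves a line off the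
finitely many common points and then proves exactly this affine count, which is what this row
states, over an arbitrary field.) -/
theorem result (k : Type u) [Field k] (n m : ℕ)
    (f g : MvPolynomial (Fin 3) k) (hf : f.IsHomogeneous n) (hg : g.IsHomogeneous m)
    (hn : 0 < n) (hm : 0 < m) (hf0 : f ≠ 0) (hg0 : g ≠ 0) (hfg : IsRelPrime f g)
    (hT : IsRelPrime
      (MvPolynomial.aeval (Fin.cons (MvPolynomial.X 0) (Fin.cons (MvPolynomial.X 1)
        (Fin.cons 0 Fin.elim0)) : Fin 3 → MvPolynomial (Fin 2) k) f)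
      (MvPolynomial.aeval (Fin.cons (MvPolynomial.X 0) (Fin.cons (MvPolynomial.X 1)
        (Fin.cons 0 Fin.elim0)) : Fin 3 → MvPolynomial (Fin 2) k) g)) :
    Module.finrank k (MvPolynomial (Fin 2) k ⧸ Ideal.span
      ({MvPolynomial.aeval (Fin.cons (MvPolynomial.X 0) (Fin.cons (MvPolynomial.X 1)
          (Fin.cons 1 Fin.elim0)) : Fin 3 → MvPolynomial (Fin 2) k) f,
        MvPolynomial.aeval (Fin.cons (MvPolynomial.X 0) (Fin.cons (MvPolynomial.X 1)
          (Fin.cons 1 Fin.elim0)) : Fin 3 → MvPolynomial (Fin 2) k) g} :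
        Set (MvPolynomial (Fin 2) k))) = n * m := finrank_quotient hn hm hf hg hf0 hg0 hfg hT

end Groth.Agent.S10827
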