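import Groth.Statements.S10828
import Mathlib

set_option autoImplicit false
universe u
open CategoryTheory AlgebraicGeometry
open Variety

namespace Groth.Agent.S10828

set_option backward.isDefEq.respectTransparency false
set_option backward.isDefEq.respectTransparency.types false

variable {k K : Type u} [Field k] [Field K] [Algebra k K]

/-- two embeddings of an algebraic extension into an algebraic closure are conjugate -/
theorem exists_algEquiv_comp [IsAlgClosure k K] {L : Type u} [Field L] (φ : k →+* L) (e₁ e₂ : L →+* K)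
    (h₁ : e₁.comp φ = algebraMap k K) (h₂ : e₂.comp φ = algebraMap k K) :
    ∃ σ : K ≃ₐ[k] K, σ.toRingHom.comp e₁ = e₂ := by
  letI := φ.toAlgebra
  haveI : Algebra.IsAlgebraic k K := IsAlgClosure.isAlgebraic
  haveI : IsAlgClosed K := IsAlgClosure.isAlgClosed k
  let f₂ : L →ₐ[k] K := ⟨e₂, fun a => DFunLike.congr_fun h₂ a⟩
  letI := e₁.toAlgebra
  haveI : IsScalarTower k L K := IsScalarTower.of_algebraMap_eq fun a => (DFunLike.congr_fun h₁ a).symm
  haveI : Normal k K := IsAlgClosure.normal k K
  refine ⟨AlgEquiv.ofBijective (f₂.liftNormal K) (AlgHom.normal_bijective k K K _), RingHom.ext fun x => ?_⟩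
  exact f₂.liftNormal_commutes K x

theorem point_eq {X : Scheme.{u}} (x : X) (e : X.residueField x ⟶ CommRingCat.of K) :
    (Spec.map e ≫ X.fromSpecResidueField x).base (IsLocalRing.closedPoint K) = x :=
  X.fromSpecResidueField_apply x _

/-- a point with an embedding of its residue field into an algebraic extension of `k` is closed -/
theorem isClosed_point [Algebra.IsAlgebraic k K] {X : Scheme.{u}} (f : X ⟶ Spec (CommRingCat.of k))
    (x : X) (e : X.residueField x ⟶ CommRingCat.of K)
    (he : (Spec.map e ≫ X.fromSpecResidueField x) ≫ f = Spec.map (CommRingCat.ofHom (algebraMap k K))) :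
    IsClosed ({x} : Set X) := by
  obtain ⟨φ, hφ⟩ : ∃ φ, Spec.map φ = X.fromSpecResidueField x ≫ f := ⟨_, Spec.map_preimage _⟩
  rw [Category.assoc, ← hφ, ← Spec.map_comp] at he
  have he' : φ ≫ e = CommRingCat.ofHom (algebraMap k K) := Spec.map_injective he
  have hint : φ.hom.IsIntegral := fun a => by
    obtain ⟨P, hm, hP⟩ := Algebra.IsIntegral.isIntegral (R := k) (e.hom a)
    refine ⟨P, hm, e.hom.injective ?_⟩
    rw [Polynomial.hom_eval₂, map_zero, ← CommRingCat.hom_comp, he']
    exact hP
  haveI : IsIntegralHom (X.fromSpecResidueField x ≫ f) := hφ ▸ IsIntegralHom.SpecMap_iff.2 hint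
  rw [← closure_eq_iff_isClosed]
  refine (Set.subset_singleton_iff.2 fun y hy => ?_).antisymm subset_closure
  obtain ⟨U, hU, hyU, -⟩ := exists_isAffineOpen_mem_and_subset (U := (⊤ : X.Opens)) (x := y) trivial
  obtain ⟨z, hzU, hz⟩ := mem_closure_iff.1 hy U U.2 hyU
  obtain rfl : z = x := hz
  haveI : IsAffine U.toScheme := hU
  let g := IsOpenImmersion.lift U.ι (X.fromSpecResidueField z)
    (by rw [X.range_fromSpecResidueField, U.range_ι]; exact Set.singleton_subset_iff.2 hzU)
  have hg : g ≫ U.ι = X.fromSpecResidueField z := IsOpenImmersion.lift_fac _ _ _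
  haveI : IsIntegralHom (g ≫ U.ι ≫ f) := by rw [← Category.assoc, hg]; infer_instance
  haveI : IsSeparated (U.ι ≫ f) := inferInstance
  haveI : IsIntegralHom g := IsIntegralHom.of_comp g (U.ι ≫ f)
  have hc := g.isClosedMap _ isClosed_univ
  rw [Set.image_univ] at hc
  have hzr : (⟨z, hzU⟩ : U) ∈ Set.range g := by
    refine ⟨IsLocalRing.closedPoint _, U.ι.isOpenEmbedding.injective ?_⟩
    rw [← Scheme.Hom.comp_apply, hg]
    exact X.fromSpecResidueField_apply z _
  have hcl : (⟨y, hyU⟩ : U) ∈ closure ({⟨z, hzU⟩} : Set U) := by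
    rw [Topology.IsEmbedding.subtypeVal.closure_eq_preimage_closure_image, Set.image_singleton]
    exact hy
  obtain ⟨s, hs⟩ := (hc.closure_subset_iff.2 (Set.singleton_subset_iff.2 hzr)) hcl
  have := congrArg U.ι hs
  rw [← Scheme.Hom.comp_apply, hg] at this
  exact this.symm.trans (X.fromSpecResidueField_apply z _)

/-- Let k be a field, K an algebraic closure of k with its group G of k-automorphisms, and X a k-scheme
locally of finite type. The map sending a K-valued point of X over k to its image point identifies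
the closed points of X with the G-orbits in X(K): a point is closed if and only if it is the image
of some K-valued point, and two K-valued points have the same image if and only if one is obtained
from the other by composing with Spec of a k-automorphism of K. -/
theorem result (k K : Type u) [Field k] [Field K]
    [Algebra k K] [IsAlgClosure k K] {X : Scheme.{u}} (f : X ⟶ Spec (CommRingCat.of k))
    [LocallyOfFiniteType f] :
    (∀ x : X, IsClosed ({x} : Set X) ↔
        ∃ p : Spec (CommRingCat.of K) ⟶ X, p ≫ f = Spec.map (CommRingCat.ofHom (algebraMap k K)) ∧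
          p.base (IsLocalRing.closedPoint K) = x) ∧
      ∀ p q : Spec (CommRingCat.of K) ⟶ X,
        p ≫ f = Spec.map (CommRingCat.ofHom (algebraMap k K)) →
        q ≫ f = Spec.map (CommRingCat.ofHom (algebraMap k K)) →
          (p.base (IsLocalRing.closedPoint K) = q.base (IsLocalRing.closedPoint K) ↔
            ∃ σ : K ≃ₐ[k] K, q = Spec.map (CommRingCat.ofHom σ.toRingHom) ≫ p) := by
  haveI : Algebra.IsAlgebraic k K := IsAlgClosure.isAlgebraic
  haveI : IsAlgClosed K := IsAlgClosure.isAlgClosed k
  refine ⟨fun x => ⟨fun hx => ?_, ?_⟩, ?_⟩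
  · haveI := isClosed_singleton_iff_isClosedImmersion.1 hx
    obtain ⟨φ, hφ⟩ : ∃ φ, Spec.map φ = X.fromSpecResidueField x ≫ f := ⟨_, Spec.map_preimage _⟩
    haveI : LocallyOfFiniteType (Spec.map φ) := hφ ▸ inferInstance
    letI := φ.hom.toAlgebra
    haveI : Algebra.FiniteType k (X.residueField x) :=
      (HasRingHomProperty.Spec_iff (P := @LocallyOfFiniteType) (φ := φ)).1 ‹_›
    haveI : Module.Finite k (X.residueField x) := finite_of_finite_type_of_isJacobsonRing k (X.residueField x)
    let e : X.residueField x →ₐ[k] K := IsAlgClosed.lift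
    refine ⟨Spec.map (CommRingCat.ofHom e.toRingHom) ≫ X.fromSpecResidueField x, ?_, point_eq x _⟩
    rw [Category.assoc, ← hφ, ← Spec.map_comp]
    exact congrArg Spec.map (CommRingCat.hom_ext (RingHom.ext e.commutes))
  · rintro ⟨p, hp, rfl⟩
    obtain ⟨⟨x, e⟩, rfl⟩ := (Scheme.SpecToEquivOfField K X).symm.surjective p
    change IsClosed {(Spec.map e ≫ X.fromSpecResidueField x).base (IsLocalRing.closedPoint K)}
    rw [point_eq x e]
    exact isClosed_point f x e hp
  intro p q hp hq
  refine ⟨fun h => ?_, ?_⟩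
  · obtain ⟨⟨x, e₁⟩, rfl⟩ := (Scheme.SpecToEquivOfField K X).symm.surjective p
    obtain ⟨⟨y, e₂⟩, rfl⟩ := (Scheme.SpecToEquivOfField K X).symm.surjective q
    obtain rfl : x = y := (point_eq x e₁).symm.trans (h.trans (point_eq y e₂))
    obtain ⟨φ, hφ⟩ : ∃ φ, Spec.map φ = X.fromSpecResidueField x ≫ f := ⟨_, Spec.map_preimage _⟩
    have aux : ∀ e : X.residueField x ⟶ CommRingCat.of K,
        (Spec.map e ≫ X.fromSpecResidueField x) ≫ f = Spec.map (CommRingCat.ofHom (algebraMap k K)) →
          e.hom.comp φ.hom = algebraMap k K := fun e he => by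
      rw [Category.assoc, ← hφ, ← Spec.map_comp] at he
      exact congrArg CommRingCat.Hom.hom (Spec.map_injective he)
    obtain ⟨σ, hσ⟩ := exists_algEquiv_comp φ.hom e₁.hom e₂.hom (aux e₁ hp) (aux e₂ hq)
    refine ⟨σ, ?_⟩
    change Spec.map e₂ ≫ _ = Spec.map (CommRingCat.ofHom σ.toRingHom) ≫ Spec.map e₁ ≫ _
    rw [← Spec.map_comp_assoc]
    congr 2
    exact CommRingCat.hom_ext hσ.symm
  · rintro ⟨σ, rfl⟩
    rw [Scheme.Hom.comp_base, TopCat.comp_app]
    exact congrArg p.base (Subsingleton.elim (α := PrimeSpectrum K) _ _)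

end Groth.Agent.S10828
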