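import Groth.Statements.S10831
import Groth.Agent.H23.TopDim

set_option autoImplicit false
universe u
open Topology TopologicalSpace
open TopDim

namespace Groth.Agent.S10831

/-- The Krull dimension of a topological space is the supremum of the Krull dimensions of its
irreducible components. -/
theorem result (X : Type u) [TopologicalSpace X] :
    topologicalKrullDim X = ⨆ Y ∈ irreducibleComponents X, topologicalKrullDim ↥Y := by
  exact Groth.Agent.H23.TopDim.dim_eq_iSup_irreducibleComponents

end Groth.Agent.S10831
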