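import Groth.Statements.S10832
import Groth.Agent.VarDim.Local
import Mathlib.AlgebraicGeometry.Artinian
import Mathlib.AlgebraicGeometry.Morphisms.Finite
import Mathlib.RingTheory.Jacobson.Artinian

set_option autoImplicit false
universe u
open CategoryTheory AlgebraicGeometry Topology
open Variety

namespace Groth.Agent.S10832


open Groth.Agent.VarDim TopologicalSpace Opposite TopCat.Presheaf

theorem discrete_of_finite (k : Type u) [Field k] {X : Scheme.{u}} (f : X ⟶ Spec (CommRingCat.of k))
    [IsAffine X] (h : f.appTop.hom.Finite) : DiscreteTopology ↥X := by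
  let φ : k →+* Γ(X, ⊤) := baseMap f
  letI := φ.toAlgebra
  have hfin : Module.Finite k Γ(X, ⊤) := by
    have h' : φ.Finite := h.comp (RingHom.Finite.of_surjective _
      (Scheme.ΓSpecIso (CommRingCat.of k)).symm.commRingCatIsoToRingEquiv.surjective)
    exact h'
  have : IsArtinianRing Γ(X, ⊤) := IsArtinianRing.of_finite k Γ(X, ⊤)
  have : DiscreteTopology ↥(Spec Γ(X, ⊤)) :=
    inferInstanceAs (DiscreteTopology (PrimeSpectrum Γ(X, ⊤)))
  exact X.isoSpec.hom.homeomorph.symm.discreteTopology

theorem finite_appTop_of_discrete (k : Type u) [Field k] {X : Scheme.{u}} (f : X ⟶ Spec (CommRingCat.of k))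
    [LocallyOfFiniteType f] [IsAffine X] [DiscreteTopology ↥X] : f.appTop.hom.Finite := by
  have : IsLocallyNoetherian X := LocallyOfFiniteType.isLocallyNoetherian f
  have : IsLocallyArtinian X := IsLocallyArtinian.of_isLocallyNoetherian_of_discreteTopology
  let φ : k →+* Γ(X, ⊤) := baseMap f
  letI := φ.toAlgebra
  have hft : f.appTop.hom.FiniteType := HasRingHomProperty.appTop (P := @LocallyOfFiniteType) f inferInstance
  have : Algebra.FiniteType k Γ(X, ⊤) :=
    RingHom.finiteType_algebraMap.1 (hft.comp (RingHom.FiniteType.of_surjective _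
      (Scheme.ΓSpecIso (CommRingCat.of k)).symm.commRingCatIsoToRingEquiv.surjective))
  have : Module.Finite k Γ(X, ⊤) := Module.finite_of_isArtinianRing k _
  exact RingHom.Finite.of_comp_finite
    (f := (Scheme.ΓSpecIso (CommRingCat.of k)).inv.hom) (g := f.appTop.hom) this

theorem germ_bijective {X : Scheme.{u}} [DiscreteTopology ↥X] :
    Function.Bijective (fun s : Γ(X, ⊤) => fun x : X => X.presheaf.germ ⊤ x trivial s) := by
  let U : X → X.Opens := fun x => ⟨{x}, isOpen_discrete _⟩
  have hcover : (⊤ : X.Opens) ≤ iSup U := fun x _ => Opens.mem_iSup.2 ⟨x, rfl⟩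
  have hle : ∀ (x : X) (W : X.Opens), x ∈ W → U x ≤ W := fun x W hx y hy => by
    rw [show y = x from hy]; exact hx
  constructor
  · intro s t h
    refine X.sheaf.eq_of_locally_eq' U ⊤ (fun x => homOfLE le_top) hcover s t fun x => ?_
    obtain ⟨W, hxW, iU, iV, e⟩ := germ_eq X.presheaf x (U := ⊤) (V := ⊤) trivial trivial s t
      (congrFun h x)
    have e' := congrArg (X.presheaf.map (homOfLE (hle x W hxW)).op) e
    rw [← ConcreteCategory.comp_apply, ← ConcreteCategory.comp_apply, ← Functor.map_comp,
      ← Functor.map_comp] at e'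
    exact e'
  · intro g
    have hloc : ∀ x : X, ∃ s : Γ(X, U x), X.presheaf.germ (U x) x rfl s = g x := fun x => by
      obtain ⟨W, hxW, s, hs⟩ := germ_exist X.presheaf (g x)
      exact ⟨X.presheaf.map (homOfLE (hle x W hxW)).op s, by
        rw [X.presheaf.germ_res_apply]; exact hs⟩
    choose s hs using hloc
    obtain ⟨t, ht, -⟩ := X.sheaf.existsUnique_gluing' U ⊤ (fun x => homOfLE le_top) hcover s
      (fun x y => by
        by_cases hxy : x = y
        · subst hxy; rfl
        · refine X.sheaf.eq_of_locally_eq' (fun i : PEmpty.{u + 1} => i.elim) _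
            (fun i => i.elim) ?_ _ _ fun i => i.elim
          intro z hz
          exact absurd ((show z = x from hz.1).symm.trans (show z = y from hz.2)) hxy)
    refine ⟨t, funext fun x => ?_⟩
    show X.presheaf.germ ⊤ x trivial t = g x
    rw [← hs x, ← ht x]
    exact (X.presheaf.germ_res_apply (homOfLE le_top) x rfl t).symm

/-- For a nonempty scheme X of finite type over a field k the following are equivalent: X has Krull
dimension 0; X is affine with ring of global sections finite over k and equal to the product of all
its local rings via the germ maps; the underlying space of X is discrete; the underlying space of X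
is finite. -/
theorem result (k : Type u) [Field k] {X : Scheme.{u}} [Nonempty X]
    (f : X ⟶ Spec (CommRingCat.of k)) [LocallyOfFiniteType f] [QuasiCompact f] :
    [topologicalKrullDim ↥X = 0,
      IsAffine X ∧ f.appTop.hom.Finite ∧
        Function.Bijective (fun s : Γ(X, ⊤) => fun x : X => X.presheaf.germ ⊤ x trivial s),
      DiscreteTopology ↥X,
      Finite ↥X].TFAE := by
  have : IsLocallyNoetherian X := LocallyOfFiniteType.isLocallyNoetherian f
  have : CompactSpace X := (quasiCompact_iff_compactSpace f).1 inferInstance
  have h0 : ∀ [DiscreteTopology ↥X], topologicalKrullDim ↥X = 0 := by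
    intro _
    refine le_antisymm (topologicalKrullDim_zero_of_discreteTopology _) ?_
    rw [topologicalKrullDim_eq_iSup_deg f]
    exact le_iSup_of_le (Classical.arbitrary X) (WithBot.coe_le_coe.2 zero_le)
  tfae_have 1 → 3 := fun h => by
    have := IsLocallyArtinian.of_topologicalKrullDim_le_zero h.le
    infer_instance
  tfae_have 3 → 4 := fun _ => finite_of_compact_of_discrete
  tfae_have 4 → 1 := fun _ => by
    have : JacobsonSpace X := LocallyOfFiniteType.jacobsonSpace f
    exact h0
  tfae_have 3 → 2 := fun _ => by
    have : Finite X := finite_of_compact_of_discrete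
    exact ⟨inferInstance, finite_appTop_of_discrete k f, germ_bijective⟩
  tfae_have 2 → 3 := fun ⟨_, h, _⟩ => discrete_of_finite k f h
  tfae_finish

end Groth.Agent.S10832
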