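import Groth.Statements.S10833
import Groth.Agent.VarDim.Catenary

set_option autoImplicit false
universe u
open Variety

namespace Groth.Agent.S10833

open Groth.Agent.VarDim Order

/-- Let k be a field and A a k-algebra of finite type that is an integral domain. Then every chain of
prime ideals of A admitting no refinement — it starts at the zero ideal, ends at a maximal ideal,
and no prime ideal lies strictly between two consecutive members — has length equal to the Krull
dimension of A. -/
theorem result (k A : Type u) [Field k] [CommRing A]
    [IsDomain A] [Algebra k A] [Algebra.FiniteType k A] (c : LTSeries (PrimeSpectrum A))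
    (h0 : c.head.asIdeal = ⊥) (hmax : c.last.asIdeal.IsMaximal)
    (hsat : ∀ i : Fin c.length, c i.castSucc ⋖ c i.succ) :
    (c.length : WithBot ℕ∞) = ringKrullDim A := by
  have h := coheight_head_eq k hsat
  have hlast : coheight c.last = 0 := by
    rw [coheight_eq_zero]
    intro q hq
    exact (PrimeSpectrum.ext (hmax.eq_of_le q.2.ne_top hq)).ge
  rw [hlast, zero_add] at h
  have h2 := coheight_eq_ringKrullDim_quotient c.head
  rw [h, h0, ringKrullDim_eq_of_ringEquiv (RingEquiv.quotientBot A)] at h2
  exact h2

end Groth.Agent.S10833
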