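import Groth.Statements.S7629
import Mathlib.AlgebraicGeometry.SpreadingOut
import Mathlib.AlgebraicGeometry.FunctionField

set_option autoImplicit false
universe u
open CategoryTheory CategoryTheory.Limits AlgebraicGeometry
open Variety

namespace Groth.Agent.S7629


theorem homOfLE_val {X : Scheme.{u}} {U U' : X.Opens} (h : U' ≤ U) (w : U'.toScheme) :
    (X.homOfLE h w).1 = w.1 :=
  congr($(Scheme.homOfLE_ι X h) w)

theorem cancel_map_inv {A B : CommRingCat.{u}} (φ : A ⟶ B) [IsIso φ] {W : Scheme.{u}} (a b : Spec B ⟶ W)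
    (h : Spec.map (inv φ) ≫ a = Spec.map (inv φ) ≫ b) : a = b := by
  have h2 := congrArg (Spec.map φ ≫ ·) h
  simpa only [← Category.assoc, ← Spec.map_comp, IsIso.inv_hom_id, Spec.map_id, Category.id_comp] using h2

theorem comp_pt {X Y Z : Scheme.{u}} (f : X ⟶ Y) (g : Y ⟶ Z) {h : X ⟶ Z} (he : f ≫ g = h) (x : X) :
    g (f x) = h x := by subst he; rfl

theorem agree {X Z : Scheme.{u}} [IsIntegral X] {U : X.Opens} (hη : genericPoint ↥X ∈ U) (a b : U.toScheme ⟶ Z)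
    (h : U.fromSpecStalkOfMem _ hη ≫ a = U.fromSpecStalkOfMem _ hη ≫ b) :
    ∃ (U' : X.Opens) (hle : U' ≤ U), genericPoint ↥X ∈ U' ∧ X.homOfLE hle ≫ a = X.homOfLE hle ≫ b := by
  have : Nonempty U.toScheme := ⟨⟨_, hη⟩⟩
  have : IsIntegral U.toScheme := isIntegral_of_isOpenImmersion U.ι
  let η : U.toScheme := ⟨genericPoint ↥X, hη⟩
  have h' : U.toScheme.fromSpecStalk η ≫ a = U.toScheme.fromSpecStalk η ≫ b := by
    rw [Scheme.Opens.fromSpecStalkOfMem, Category.assoc, Category.assoc] at h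
    exact @cancel_map_inv _ _ (U.ι.stalkMap η) inferInstance _ _ _ h
  obtain ⟨W, hW, hab⟩ := spread_out_unique_of_isGermInjective' a b h'
  have hle : U.ι ''ᵁ W ≤ U := by
    rintro x ⟨w, -, rfl⟩
    exact w.2
  refine ⟨U.ι ''ᵁ W, hle, ⟨η, hW, rfl⟩, ?_⟩
  have : X.homOfLE hle = (U.ι.isoImage W).inv ≫ W.ι := by
    rw [← cancel_mono U.ι, Scheme.homOfLE_ι, Category.assoc, ← U.ι.isoImage_hom_ι, Iso.inv_hom_id_assoc]
  rw [this, Category.assoc, Category.assoc, hab]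

theorem ofMem_homOfLE {X : Scheme.{u}} {U U' : X.Opens} (hle : U' ≤ U) {x : X} (hx : x ∈ U') :
    U'.fromSpecStalkOfMem x hx ≫ X.homOfLE hle = U.fromSpecStalkOfMem x (hle hx) := by
  rw [← cancel_mono U.ι, Category.assoc, Scheme.homOfLE_ι, Scheme.Opens.fromSpecStalkOfMem_ι,
    Scheme.Opens.fromSpecStalkOfMem_ι]

theorem map_point {X Y : Scheme.{u}} [IsIntegral X] [IsIntegral Y] (ε : Y.functionField ≅ X.functionField)
    {U : X.Opens} (hη : genericPoint ↥X ∈ U) (f : U.toScheme ⟶ Y)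
    (hf : Spec.map ε.hom ≫ Y.fromSpecStalk (genericPoint ↥Y) = U.fromSpecStalkOfMem _ hη ≫ f) :
    f ⟨genericPoint ↥X, hη⟩ = genericPoint ↥Y := by
  let p : Spec (X.presheaf.stalk (genericPoint ↥X)) := IsLocalRing.closedPoint _
  have h1 : U.fromSpecStalkOfMem _ hη p = ⟨genericPoint ↥X, hη⟩ := by
    apply Subtype.ext
    show U.ι (U.fromSpecStalkOfMem _ hη p) = genericPoint ↥X
    rw [← Scheme.Hom.comp_apply, Scheme.Opens.fromSpecStalkOfMem_ι, Scheme.fromSpecStalk_closedPoint]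
  rw [← h1, ← Scheme.Hom.comp_apply, ← hf, Scheme.Hom.comp_apply]
  have : Subsingleton ↥(Spec Y.functionField) := inferInstanceAs (Subsingleton (PrimeSpectrum Y.functionField))
  rw [show Spec.map ε.hom p = IsLocalRing.closedPoint _ from Subsingleton.elim _ _]
  exact Scheme.fromSpecStalk_closedPoint

theorem inverse_open {X Y : Scheme.{u}} [IsIntegral X] [IsIntegral Y] (ε : Y.functionField ≅ X.functionField)
    {U : X.Opens} (hη : genericPoint ↥X ∈ U) (f : U.toScheme ⟶ Y)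
    (hf : Spec.map ε.hom ≫ Y.fromSpecStalk (genericPoint ↥Y) = U.fromSpecStalkOfMem _ hη ≫ f)
    {V : Y.Opens} (hV : genericPoint ↥Y ∈ V) (g : V.toScheme ⟶ X)
    (hg : Spec.map ε.inv ≫ X.fromSpecStalk (genericPoint ↥X) = V.fromSpecStalkOfMem _ hV ≫ g) :
    ∃ (U₂ : X.Opens) (hle : U₂ ≤ U) (c : U₂.toScheme ⟶ V.toScheme), genericPoint ↥X ∈ U₂ ∧
      c ≫ V.ι = X.homOfLE hle ≫ f ∧ c ≫ g = U₂.ι := by
  have hfη := map_point ε hη f hf
  have hle : U.ι ''ᵁ (f ⁻¹ᵁ V) ≤ U := by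
    rintro x ⟨w, -, rfl⟩
    exact w.2
  have hη₁ : genericPoint ↥X ∈ U.ι ''ᵁ (f ⁻¹ᵁ V) :=
    ⟨⟨_, hη⟩, show f _ ∈ V by rw [hfη]; exact hV, rfl⟩
  have hrange : Set.range (X.homOfLE hle ≫ f) ⊆ Set.range V.ι := by
    rintro y ⟨x, rfl⟩
    rw [Scheme.Opens.range_ι]
    obtain ⟨w, hw, hwx⟩ := x.2
    rw [Scheme.Hom.comp_apply]
    have : X.homOfLE hle x = w := Subtype.ext ((homOfLE_val hle x).trans hwx.symm)
    rw [this]
    exact hw
  let c := IsOpenImmersion.lift V.ι (X.homOfLE hle ≫ f) hrange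
  have hc : c ≫ V.ι = X.homOfLE hle ≫ f := IsOpenImmersion.lift_fac ..
  have hst : (U.ι ''ᵁ (f ⁻¹ᵁ V)).fromSpecStalkOfMem _ hη₁ ≫ c = Spec.map ε.hom ≫ V.fromSpecStalkOfMem _ hV := by
    rw [← cancel_mono V.ι, Category.assoc, hc, ← Category.assoc, ofMem_homOfLE, ← hf, Category.assoc,
      Scheme.Opens.fromSpecStalkOfMem_ι]
  obtain ⟨U₂, hle₂, hη₂, h₂⟩ := agree hη₁ (c ≫ g) (U.ι ''ᵁ (f ⁻¹ᵁ V)).ι (by
    rw [← Category.assoc, hst, Category.assoc, ← hg, ← Spec.map_comp_assoc, ε.inv_hom_id, Spec.map_id,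
      Category.id_comp, Scheme.Opens.fromSpecStalkOfMem_ι])
  refine ⟨U₂, hle₂.trans hle, X.homOfLE hle₂ ≫ c, hη₂, ?_, ?_⟩
  · rw [Category.assoc, hc, ← Category.assoc, Scheme.homOfLE_homOfLE]
  · rw [Category.assoc, h₂, Scheme.homOfLE_ι]

theorem over_spec {k : Type u} [Field k] (X : Scheme.{u}) [X.Over (Spec (CommRingCat.of k))] (x : X) :
    X.fromSpecStalk x ≫ (X ↘ (Spec (CommRingCat.of k))) =
      Spec.map (CommRingCat.ofHom (Curv2.stalkMap k X x)) := by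
  set p := X ↘ (Spec (CommRingCat.of k))
  have hp : p = X.toSpecΓ ≫ Spec.map ((Scheme.ΓSpecIso (CommRingCat.of k)).inv ≫ p.appTop) := by
    rw [Spec.map_comp, ← Scheme.toSpecΓ_naturality_assoc, toSpecΓ_SpecMap_ΓSpecIso_inv, Category.comp_id]
  conv_lhs => rw [hp, Scheme.fromSpecStalk_toSpecΓ_assoc, ← Spec.map_comp]
  rfl

/-- (2) ⇒ (3): let X and Y be varieties over a field k (integral, separated, of finite type) and suppose
the function fields k(X) and k(Y) are isomorphic as k-algebras. Then there are nonempty open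
subschemes U ⊆ X and V ⊆ Y which are isomorphic as schemes over k. -/
theorem result (k : Type u) [Field k] (X : Scheme.{u}) [X.Over (Spec (CommRingCat.of k))] [IsIntegral X] [IsSeparated (X ↘ (Spec (CommRingCat.of k)))] [LocallyOfFiniteType (X ↘ (Spec (CommRingCat.of k)))] [QuasiCompact (X ↘ (Spec (CommRingCat.of k)))]
    (Y : Scheme.{u}) [Y.Over (Spec (CommRingCat.of k))] [IsIntegral Y] [IsSeparated (Y ↘ (Spec (CommRingCat.of k)))] [LocallyOfFiniteType (Y ↘ (Spec (CommRingCat.of k)))] [QuasiCompact (Y ↘ (Spec (CommRingCat.of k)))]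
    (e : X.functionField ≅ Y.functionField)
    (he : e.hom.hom.comp (Curv2.stalkMap k X (genericPoint X)) = Curv2.stalkMap k Y (genericPoint Y)) :
    ∃ (U : X.Opens) (V : Y.Opens), (U : Set ↥X).Nonempty ∧
      ∃ φ : (U : Scheme.{u}) ≅ (V : Scheme.{u}), φ.hom ≫ V.ι ≫ (Y ↘ (Spec (CommRingCat.of k))) = U.ι ≫ (X ↘ (Spec (CommRingCat.of k))) := by
  set pX := X ↘ (Spec (CommRingCat.of k))
  set pY := Y ↘ (Spec (CommRingCat.of k))
  have hhe : CommRingCat.ofHom (Curv2.stalkMap k X (genericPoint ↥X)) ≫ e.hom =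
      CommRingCat.ofHom (Curv2.stalkMap k Y (genericPoint ↥Y)) := CommRingCat.hom_ext he
  have hφ : (Spec.map e.inv ≫ Y.fromSpecStalk (genericPoint ↥Y)) ≫ pY = X.fromSpecStalk (genericPoint ↥X) ≫ pX := by
    rw [Category.assoc, over_spec Y, over_spec X, ← Spec.map_comp, ← hhe, Category.assoc,
      e.hom_inv_id]
    exact congrArg Spec.map (Category.comp_id _)
  have hψ : (Spec.map e.hom ≫ X.fromSpecStalk (genericPoint ↥X)) ≫ pX = Y.fromSpecStalk (genericPoint ↥Y) ≫ pY := by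
    rw [Category.assoc, over_spec Y, over_spec X, ← Spec.map_comp, hhe]
  obtain ⟨U, hU, f, hf, hfk⟩ := spread_out_of_isGermInjective' pX pY _ hφ
  obtain ⟨V, hV, g, hg, hgk⟩ := spread_out_of_isGermInjective' pY pX _ hψ
  obtain ⟨U₂, hU₂, c, hηU₂, hc, hcg⟩ := inverse_open e.symm hU f hf hV g hg
  obtain ⟨V₂, hV₂, d, hηV₂, hd, hdf⟩ := inverse_open e hV g hg hU f hf
  let U' : X.Opens := U₂.ι ''ᵁ (c ⁻¹ᵁ (V.ι ⁻¹ᵁ V₂))
  let V' : Y.Opens := V₂.ι ''ᵁ (d ⁻¹ᵁ (U.ι ⁻¹ᵁ U₂))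
  have hle : U' ≤ U₂ := by rintro x ⟨w, -, rfl⟩; exact w.2
  have hle' : V' ≤ V₂ := by rintro x ⟨w, -, rfl⟩; exact w.2
  have hne : genericPoint ↥X ∈ U' := by
    let w : U₂.toScheme := ⟨_, hηU₂⟩
    refine ⟨w, ?_, rfl⟩
    show (c w).1 ∈ V₂
    rw [show (c w).1 = f (X.homOfLE hU₂ w) from comp_pt c V.ι hc w,
      show X.homOfLE hU₂ w = ⟨_, hU₂ hηU₂⟩ from Subtype.ext (homOfLE_val hU₂ w),
      map_point e.symm hU f hf]
    exact hηV₂
  -- the restricted maps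
  have hcd : ∀ w : U'.toScheme, V.ι (c (X.homOfLE hle w)) ∈ V' := by
    intro w
    obtain ⟨a, ha, haw⟩ := w.2
    rw [show X.homOfLE hle w = a from Subtype.ext ((homOfLE_val hle w).trans haw.symm)]
    have ha' : V.ι (c a) ∈ V₂ := ha
    let b : V₂.toScheme := ⟨V.ι (c a), ha'⟩
    refine ⟨b, ?_, rfl⟩
    show (d b).1 ∈ U₂
    rw [show (d b).1 = g (Y.homOfLE hV₂ b) from comp_pt d U.ι hd b,
      show Y.homOfLE hV₂ b = c a from Subtype.ext (homOfLE_val hV₂ b),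
      show g (c a) = a.1 from comp_pt c g hcg a]
    exact a.2
  have hdc : ∀ w : V'.toScheme, U.ι (d (Y.homOfLE hle' w)) ∈ U' := by
    intro w
    obtain ⟨a, ha, haw⟩ := w.2
    rw [show Y.homOfLE hle' w = a from Subtype.ext ((homOfLE_val hle' w).trans haw.symm)]
    have ha' : U.ι (d a) ∈ U₂ := ha
    let b : U₂.toScheme := ⟨U.ι (d a), ha'⟩
    refine ⟨b, ?_, rfl⟩
    show (c b).1 ∈ V₂
    rw [show (c b).1 = f (X.homOfLE hU₂ b) from comp_pt c V.ι hc b,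
      show X.homOfLE hU₂ b = d a from Subtype.ext (homOfLE_val hU₂ b),
      show f (d a) = a.1 from comp_pt d f hdf a]
    exact a.2
  have hr : Set.range (X.homOfLE hle ≫ c ≫ V.ι) ⊆ Set.range V'.ι := by
    rintro y ⟨w, rfl⟩
    rw [Scheme.Opens.range_ι]
    exact hcd w
  have hr' : Set.range (Y.homOfLE hle' ≫ d ≫ U.ι) ⊆ Set.range U'.ι := by
    rintro y ⟨w, rfl⟩
    rw [Scheme.Opens.range_ι]
    exact hdc w
  let α := IsOpenImmersion.lift V'.ι _ hr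
  let β := IsOpenImmersion.lift U'.ι _ hr'
  have hα : α ≫ V'.ι = X.homOfLE hle ≫ c ≫ V.ι := IsOpenImmersion.lift_fac ..
  have hβ : β ≫ U'.ι = Y.homOfLE hle' ≫ d ≫ U.ι := IsOpenImmersion.lift_fac ..
  have hαV : α ≫ Y.homOfLE (hle'.trans hV₂) = X.homOfLE hle ≫ c := by
    rw [← cancel_mono V.ι, Category.assoc, Scheme.homOfLE_ι, hα, Category.assoc]
  have hβU : β ≫ X.homOfLE (hle.trans hU₂) = Y.homOfLE hle' ≫ d := by
    rw [← cancel_mono U.ι, Category.assoc, Scheme.homOfLE_ι, hβ, Category.assoc]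
  refine ⟨U', V', ⟨_, hne⟩, ⟨α, β, ?_, ?_⟩, ?_⟩
  · have h1 : β ≫ U'.ι = Y.homOfLE (hle'.trans hV₂) ≫ g := by
      rw [hβ, hd, ← Category.assoc, Scheme.homOfLE_homOfLE]
    rw [← cancel_mono U'.ι, Category.assoc, h1, reassoc_of% hαV, hcg, Scheme.homOfLE_ι, Category.id_comp]
  · have h1 : α ≫ V'.ι = X.homOfLE (hle.trans hU₂) ≫ f := by
      rw [hα, hc, ← Category.assoc, Scheme.homOfLE_homOfLE]
    rw [← cancel_mono V'.ι, Category.assoc, h1, reassoc_of% hβU, hdf, Scheme.homOfLE_ι, Category.id_comp]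
  · show α ≫ V'.ι ≫ pY = U'.ι ≫ pX
    rw [reassoc_of% hα, reassoc_of% hc, hfk, Scheme.homOfLE_ι_assoc, Scheme.homOfLE_ι_assoc]

end Groth.Agent.S7629
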