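import Groth.Statements.S10835
import Groth.Agent.S7629
import Groth.Agent.SmoothReg.Scheme
import Mathlib.FieldTheory.PrimitiveElement
import Mathlib.FieldTheory.SeparableClosure
import Mathlib.FieldTheory.Minpoly.IsIntegrallyClosed
import Mathlib.RingTheory.Polynomial.UniqueFactorization

set_option autoImplicit false
universe u
open CategoryTheory AlgebraicGeometry
attribute [local instance] Curv2.stalkAlgebra
open Variety

namespace Groth.Agent.S10835

set_option backward.isDefEq.respectTransparency false
set_option backward.isDefEq.respectTransparency.types false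
set_option maxHeartbeats 1000000
set_option synthInstance.maxHeartbeats 400000

/-- A separable finite extension of the fraction field of an integrally closed domain is generated by a root of a
monic polynomial over the domain. -/
theorem exists_monic_primitive (R K L : Type u) [CommRing R] [IsDomain R] [IsIntegrallyClosed R] [Field K] [Field L]
    [Algebra R K] [IsFractionRing R K] [Algebra R L] [Algebra K L] [IsScalarTower R K L] [FiniteDimensional K L]
    [Algebra.IsSeparable K L] :
    ∃ (g : Polynomial R), g.Monic ∧ Irreducible (g.map (algebraMap R K)) ∧ (g.map (algebraMap R K)).Separable ∧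
      ∃ i : AdjoinRoot g →ₐ[R] L, Function.Injective i ∧ ∀ z : L, ∃ a b, i b ≠ 0 ∧ z * i b = i a := by
  obtain ⟨θ, hθ⟩ := Field.exists_primitive_element K L
  obtain ⟨y, hy, hint⟩ : ∃ y ≠ (0 : R), IsIntegral R (y • θ) := by
    refine IsAlgebraic.exists_integral_multiple ?_
    exact (IsFractionRing.isAlgebraic_iff R K L).2 (Algebra.IsAlgebraic.isAlgebraic θ)
  set α := y • θ with hα
  have hy' : algebraMap R K y ≠ 0 := fun h0 => hy (IsFractionRing.injective R K (h0.trans (map_zero _).symm))
  have htop : IntermediateField.adjoin K {α} = ⊤ := by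
    rw [eq_top_iff, ← hθ, IntermediateField.adjoin_simple_le_iff]
    have h1 : θ = (algebraMap R K y)⁻¹ • α := by
      rw [hα, ← algebraMap_smul K y θ, smul_smul, inv_mul_cancel₀ hy', one_smul]
    rw [h1]
    exact IntermediateField.smul_mem _ (IntermediateField.mem_adjoin_simple_self K α)
  refine ⟨minpoly R α, minpoly.monic hint, ?_, ?_, ?_⟩
  · rw [← minpoly.isIntegrallyClosed_eq_field_fractions' K hint]
    exact minpoly.irreducible (Algebra.IsIntegral.isIntegral α)
  · rw [← minpoly.isIntegrallyClosed_eq_field_fractions' K hint]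
    exact Algebra.IsSeparable.isSeparable K α
  haveI : Module.IsTorsionFree R L := Module.isTorsionFree_iff_algebraMap_injective.2 (by
    rw [IsScalarTower.algebraMap_eq R K L]
    exact (algebraMap K L).injective.comp (IsFractionRing.injective R K))
  let i₀ : AdjoinRoot (minpoly R α) →ₐ[R] L := (Algebra.adjoin R ({α} : Set L)).val.comp (minpoly.equivAdjoin hint).toAlgHom
  have hi : Function.Injective i₀ := Subtype.val_injective.comp (minpoly.equivAdjoin hint).injective
  refine ⟨i₀, hi, fun z => ?_⟩
  have hzadj : z ∈ Algebra.adjoin K ({α} : Set L) := by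
    rw [← IntermediateField.adjoin_simple_toSubalgebra_of_isAlgebraic (Algebra.IsAlgebraic.isAlgebraic α), htop]
    trivial
  obtain ⟨p, rfl⟩ := (Algebra.adjoin_singleton_eq_range_aeval K α).le hzadj
  obtain ⟨⟨c, hc⟩, hp⟩ := IsLocalization.integerNormalization_map_to_map (nonZeroDivisors R) p
  let q := IsLocalization.integerNormalization (nonZeroDivisors R) p
  refine ⟨AdjoinRoot.mk _ q, algebraMap R _ c, ?_, ?_⟩
  · rw [AlgHom.commutes, IsScalarTower.algebraMap_apply R K L]
    exact (map_ne_zero _).2 fun h0 => nonZeroDivisors.ne_zero hc (IsFractionRing.injective R K (h0.trans (map_zero _).symm))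
  · show Polynomial.aeval α p * i₀ (algebraMap R _ c) = i₀ (AdjoinRoot.mk _ q)
    rw [AlgHom.commutes]
    have h2 : i₀ (AdjoinRoot.mk _ q) = Polynomial.aeval α q := by
      rw [← AdjoinRoot.aeval_eq, ← Polynomial.aeval_algHom_apply]
      congr 1
      simp [i₀]
    rw [h2, ← Polynomial.aeval_map_algebraMap K α q, hp, Algebra.smul_def, map_mul,
      IsScalarTower.algebraMap_apply R K (Polynomial K), Polynomial.algebraMap_eq, Polynomial.aeval_C,
      ← IsScalarTower.algebraMap_apply R K L, mul_comm]

/-- A field with a separating transcendence basis is the function field of a monic hypersurface. -/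
theorem exists_monic_model (k L : Type u) [Field k] [Field L] [Algebra k L] [Algebra.EssFiniteType k L]
    {d : ℕ} (s : Fin d → L) (hs : IsTranscendenceBasis k s)
    (hsep : Algebra.IsSeparable ↥(IntermediateField.adjoin k (Set.range s)) L) :
    ∃ (g : Polynomial (MvPolynomial (Fin d) k)), g.Monic ∧
      Irreducible (g.map (algebraMap (MvPolynomial (Fin d) k) (FractionRing (MvPolynomial (Fin d) k)))) ∧
      (g.map (algebraMap (MvPolynomial (Fin d) k) (FractionRing (MvPolynomial (Fin d) k)))).Separable ∧
      ∃ i : AdjoinRoot g →ₐ[k] L, Function.Injective i ∧ ∀ z : L, ∃ a b, i b ≠ 0 ∧ z * i b = i a := by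
  letI : Algebra (FractionRing (MvPolynomial (Fin d) k)) L :=
    ((algebraMap ↥(IntermediateField.adjoin k (Set.range s)) L).comp hs.1.aevalEquivField.toRingEquiv.toRingHom).toAlgebra
  letI : Algebra (MvPolynomial (Fin d) k) L := (MvPolynomial.aeval s : MvPolynomial (Fin d) k →ₐ[k] L).toRingHom.toAlgebra
  haveI : IsScalarTower k (MvPolynomial (Fin d) k) L :=
    IsScalarTower.of_algebraMap_eq fun c => ((MvPolynomial.aeval s).commutes c).symm
  haveI : IsScalarTower k (FractionRing (MvPolynomial (Fin d) k)) L := IsScalarTower.of_algebraMap_eq fun c => by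
    show _ = algebraMap ↥(IntermediateField.adjoin k (Set.range s)) L (hs.1.aevalEquivField (algebraMap k _ c))
    rw [AlgEquiv.commutes]
    rfl
  haveI : IsScalarTower (MvPolynomial (Fin d) k) (FractionRing (MvPolynomial (Fin d) k)) L :=
    IsScalarTower.of_algebraMap_eq fun r => (hs.1.aevalEquivField_algebraMap_apply_coe r).symm
  haveI : Algebra.IsSeparable (FractionRing (MvPolynomial (Fin d) k)) L :=
    Algebra.IsSeparable.of_equiv_equiv hs.1.aevalEquivField.symm.toRingEquiv (RingEquiv.refl L)
    (RingHom.ext fun x => by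
      show algebraMap _ L (hs.1.aevalEquivField (hs.1.aevalEquivField.symm x)) = algebraMap _ L x
      rw [AlgEquiv.apply_symm_apply])
  haveI : Algebra.EssFiniteType (FractionRing (MvPolynomial (Fin d) k)) L :=
    Algebra.EssFiniteType.of_comp k (FractionRing (MvPolynomial (Fin d) k)) L
  haveI : FiniteDimensional (FractionRing (MvPolynomial (Fin d) k)) L := Algebra.finite_of_essFiniteType_of_isAlgebraic
  haveI hic : IsIntegrallyClosed (MvPolynomial (Fin d) k) := UniqueFactorizationMonoid.instIsIntegrallyClosed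
  obtain ⟨g, h1, h2, h3, i, hi, hz⟩ :=
    exists_monic_primitive (MvPolynomial (Fin d) k) (FractionRing (MvPolynomial (Fin d) k)) L
  exact ⟨g, h1, h2, h3, i.restrictScalars k, hi, hz⟩

/-- Let k be a field and X an integral scheme of finite type over k whose function field admits a
transcendence basis s_1, …, s_d over k over which it is separable algebraic (this holds whenever the
function field is a separable extension of k in the sense of field theory, e.g. for k perfect, and
then d = dim X). Then some nonempty open subscheme of X is isomorphic, over k, to a nonempty open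
subscheme of Spec k[T_1, …, T_d][T]/(g) for a monic polynomial g over k[T_1, …, T_d] which is
irreducible and separable over the fraction field k(T_1, …, T_d). -/
theorem result (k : Type u) [Field k]
    (X : Scheme.{u}) [X.Over (Spec (CommRingCat.of k))] [IsIntegral X]
    [LocallyOfFiniteType (X ↘ Spec (CommRingCat.of k))] [QuasiCompact (X ↘ Spec (CommRingCat.of k))]
    (d : ℕ) (s : Fin d → X.presheaf.stalk (genericPoint X)) (hs : IsTranscendenceBasis k s)
    (hsep : Algebra.IsSeparable ↥(IntermediateField.adjoin k (Set.range s)) (X.presheaf.stalk (genericPoint X))) :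
    ∃ (g : Polynomial (MvPolynomial (Fin d) k)), g.Monic ∧
      Irreducible (g.map (algebraMap (MvPolynomial (Fin d) k) (FractionRing (MvPolynomial (Fin d) k)))) ∧
      (g.map (algebraMap (MvPolynomial (Fin d) k) (FractionRing (MvPolynomial (Fin d) k)))).Separable ∧
      ∃ (U : X.Opens) (V : (Spec (CommRingCat.of (AdjoinRoot g))).Opens) (e : (U : Scheme.{u}) ≅ (V : Scheme.{u})),
        (U : Set X).Nonempty ∧ (V : Set (Spec (CommRingCat.of (AdjoinRoot g)))).Nonempty ∧
        e.hom ≫ V.ι ≫ Spec.map (CommRingCat.ofHom (algebraMap k (AdjoinRoot g))) =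
          U.ι ≫ (X ↘ Spec (CommRingCat.of k)) := by
  let η := genericPoint X
  obtain ⟨U₀, hU₀, hηU, -⟩ := exists_isAffineOpen_mem_and_subset (U := (⊤ : X.Opens)) (x := η) trivial
  haveI : Nonempty U₀ := ⟨⟨_, hηU⟩⟩
  haveI : IsAffine U₀.toScheme := hU₀
  haveI : Algebra.EssFiniteType k (X.presheaf.stalk η) := by
    letI := (SmoothReg.affMap (X ↘ Spec (CommRingCat.of k)) U₀).toAlgebra
    haveI : Algebra.FiniteType k Γ(X, U₀) := SmoothReg.finiteType_affMap (X ↘ Spec (CommRingCat.of k)) hU₀
    haveI := functionField_isFractionRing_of_isAffineOpen X U₀ hU₀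
    haveI : IsScalarTower k Γ(X, U₀) X.functionField := IsScalarTower.of_algebraMap_eq fun c => by
      show X.presheaf.germ ⊤ _ _ _ = X.presheaf.germ U₀ _ _ _
      exact (X.presheaf.germ_res_apply (homOfLE (le_top : U₀ ≤ ⊤)) η hηU _).symm
    haveI : Algebra.EssFiniteType Γ(X, U₀) X.functionField :=
      .of_isLocalization _ (nonZeroDivisors Γ(X, U₀))
    exact Algebra.EssFiniteType.comp k Γ(X, U₀) X.functionField
  letI : Field (X.presheaf.stalk η) := inferInstanceAs (Field X.functionField)
  obtain ⟨g, hg, hirr, hsp, i, hi, hfrac⟩ := exists_monic_model k (X.presheaf.stalk η) s hs hsep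
  refine ⟨g, hg, hirr, hsp, ?_⟩
  let B := CommRingCat.of (AdjoinRoot g)
  haveI : IsDomain B := hi.isDomain i
  let Y := Spec B
  letI : Y.Over (Spec (CommRingCat.of k)) := ⟨Spec.map (CommRingCat.ofHom (algebraMap k (AdjoinRoot g)))⟩
  haveI : LocallyOfFiniteType (Y ↘ Spec (CommRingCat.of k)) := by
    haveI := hg.finite_adjoinRoot
    haveI : Algebra.FiniteType k (AdjoinRoot g) :=
      Algebra.FiniteType.trans (S := MvPolynomial (Fin d) k) inferInstance inferInstance
    exact (HasRingHomProperty.Spec_iff (P := @LocallyOfFiniteType)).2 (RingHom.finiteType_algebraMap.2 inferInstance)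
  haveI : IsSeparated (Y ↘ Spec (CommRingCat.of k)) :=
    inferInstanceAs (IsSeparated (Spec.map (CommRingCat.ofHom (algebraMap k (AdjoinRoot g)))))
  haveI : QuasiCompact (Y ↘ Spec (CommRingCat.of k)) :=
    inferInstanceAs (QuasiCompact (Spec.map (CommRingCat.ofHom (algebraMap k (AdjoinRoot g)))))
  letI : U₀.toScheme.Over (Spec (CommRingCat.of k)) := ⟨U₀.ι ≫ X ↘ Spec (CommRingCat.of k)⟩
  haveI : IsIntegral U₀.toScheme := isIntegral_of_isOpenImmersion U₀.ι
  haveI : LocallyOfFiniteType (U₀.toScheme ↘ Spec (CommRingCat.of k)) :=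
    inferInstanceAs (LocallyOfFiniteType (U₀.ι ≫ _))
  haveI : IsSeparated (U₀.toScheme ↘ Spec (CommRingCat.of k)) := by
    haveI : IsAffineHom (U₀.toScheme ↘ Spec (CommRingCat.of k)) := isAffineHom_of_isAffine _
    infer_instance
  haveI : QuasiCompact (U₀.toScheme ↘ Spec (CommRingCat.of k)) := by
    haveI : IsAffineHom (U₀.toScheme ↘ Spec (CommRingCat.of k)) := isAffineHom_of_isAffine _
    infer_instance
  letI : Algebra B (X.presheaf.stalk η) := i.toRingHom.toAlgebra
  haveI : IsFractionRing B (X.presheaf.stalk η) := by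
    constructor; constructor
    · intro b
      exact isUnit_iff_ne_zero.2 fun h0 => nonZeroDivisors.ne_zero b.2 (hi (h0.trans (map_zero i).symm))
    · intro z
      obtain ⟨a, b, hb, hz⟩ := hfrac z
      exact ⟨(a, ⟨b, mem_nonZeroDivisors_of_ne_zero fun h0 => hb (by rw [h0, map_zero])⟩), hz⟩
    · intro a b hab
      exact ⟨1, by rw [hi hab]⟩
  letI : Algebra B Y.functionField := @instAlgebraCarrierFunctionFieldSpec B ‹IsDomain B›
  haveI : IsFractionRing B Y.functionField := @functionField_isFractionRing_of_affine B ‹IsDomain B›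
  let ψ : X.presheaf.stalk η ≃ₐ[B] Y.functionField :=
    IsLocalization.algEquiv (nonZeroDivisors B) _ _
  have hη : U₀.ι (genericPoint U₀.toScheme) = η := genericPoint_eq_of_isOpenImmersion U₀.ι
  let a : U₀.toScheme.functionField ≅ X.presheaf.stalk η :=
    (asIso (U₀.ι.stalkMap (genericPoint U₀.toScheme))).symm ≪≫ X.presheaf.stalkCongr (Inseparable.of_eq hη)
  let e : U₀.toScheme.functionField ≅ Y.functionField := a ≪≫ ψ.toRingEquiv.toCommRingCatIso
  have he : e.hom.hom.comp (Curv2.stalkMap k U₀.toScheme (genericPoint U₀.toScheme)) =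
      Curv2.stalkMap k Y (genericPoint Y) := by
    refine RingHom.ext fun c => ?_
    have h1 : a.hom.hom (Curv2.stalkMap k U₀.toScheme (genericPoint U₀.toScheme) c) = Curv2.stalkMap k X η c := by
      have h0 : (U₀.ι.stalkMap (genericPoint U₀.toScheme)).hom
          (Curv2.stalkMap k X (U₀.ι (genericPoint U₀.toScheme)) c) =
          Curv2.stalkMap k U₀.toScheme (genericPoint U₀.toScheme) c := by
        show (U₀.ι.stalkMap _).hom (X.presheaf.germ ⊤ _ trivial _) = _
        rw [Scheme.Hom.germ_stalkMap_apply]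
        rfl
      rw [← h0]
      show (X.presheaf.stalkCongr (Inseparable.of_eq hη)).hom.hom
        ((inv (U₀.ι.stalkMap (genericPoint U₀.toScheme))).hom ((U₀.ι.stalkMap _).hom _)) = _
      rw [show (inv (U₀.ι.stalkMap (genericPoint U₀.toScheme))).hom ((U₀.ι.stalkMap _).hom
          (Curv2.stalkMap k X (U₀.ι (genericPoint U₀.toScheme)) c)) =
          Curv2.stalkMap k X (U₀.ι (genericPoint U₀.toScheme)) c from
        DFunLike.congr_fun (congrArg CommRingCat.Hom.hom (IsIso.hom_inv_id (U₀.ι.stalkMap (genericPoint U₀.toScheme)))) _]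
      rw [TopCat.Presheaf.stalkCongr_hom]
      exact TopCat.Presheaf.germ_stalkSpecializes_apply X.presheaf (U := ⊤) trivial _ _
    show ψ (a.hom.hom _) = _
    rw [h1]
    show ψ (algebraMap k (X.presheaf.stalk η) c) = _
    rw [← i.commutes c]
    refine (ψ.commutes (algebraMap k (AdjoinRoot g) c)).trans ?_
    have h2 : (Spec.map (CommRingCat.ofHom (algebraMap k (AdjoinRoot g)))).appTop.hom
        ((Scheme.ΓSpecIso (CommRingCat.of k)).inv.hom c) =
        (Scheme.ΓSpecIso B).inv.hom (algebraMap k (AdjoinRoot g) c) :=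
      (DFunLike.congr_fun (congrArg CommRingCat.Hom.hom
        (Scheme.ΓSpecIso_inv_naturality (CommRingCat.ofHom (algebraMap k (AdjoinRoot g))))) c).symm
    show _ = (Spec B).presheaf.germ ⊤ _ trivial
      ((Spec.map (CommRingCat.ofHom (algebraMap k (AdjoinRoot g)))).appTop.hom ((Scheme.ΓSpecIso (CommRingCat.of k)).inv.hom c))
    rw [h2]
    rfl
  obtain ⟨U, V, hU, φ, hφ⟩ := S7629.result k U₀.toScheme Y e he
  have hne : (U₀.ι ''ᵁ U : Set X).Nonempty := hU.image _
  refine ⟨U₀.ι ''ᵁ U, V, (U₀.ι.isoImage U).symm ≪≫ φ, hne, ?_, ?_⟩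
  · obtain ⟨u, hu⟩ := hU
    exact ⟨_, (φ.hom ⟨u, hu⟩).2⟩
  · rw [Iso.trans_hom, Iso.symm_hom, Category.assoc]
    refine (congrArg ((U₀.ι.isoImage U).inv ≫ ·) hφ).trans ?_
    show (U₀.ι.isoImage U).inv ≫ U.ι ≫ U₀.ι ≫ _ = _
    rw [← Category.assoc U.ι, ← U₀.ι.isoImage_hom_ι U, Category.assoc, Iso.inv_hom_id_assoc]

end Groth.Agent.S10835
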