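import Groth.Statements.S10836
import Mathlib.RingTheory.Localization.Free
import Mathlib.RingTheory.LocalRing.Module
import Mathlib.RingTheory.Spectrum.Prime.FreeLocus

set_option autoImplicit false
universe u
open Coh

namespace Groth.Agent.S10836
open TensorProduct

theorem finrank_quotient_eq_rankAtStalk {R N : Type*} [CommRing R] [AddCommGroup N] [Module R N]
    [Module.Finite R N] [Module.Flat R N] (P : MaximalSpectrum R) :
    Module.finrank (R ⧸ P.asIdeal) ((R ⧸ P.asIdeal) ⊗[R] N) = Module.rankAtStalk N P.toPrimeSpectrum := by
  haveI := P.isMaximal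
  letI := Ideal.Quotient.field P.asIdeal
  refine Eq.trans ?_ (Ideal.finrank_fiber_eq_rankAtStalk (M := N) P.asIdeal)
  exact ((AlgebraTensorModule.cancelBaseChange R (R ⧸ P.asIdeal) P.asIdeal.ResidueField
    P.asIdeal.ResidueField N).finrank_eq.symm.trans Module.finrank_baseChange).symm

/-- Let A be a commutative ring, M a finitely generated projective A-module whose rank at every prime is
r, and Z a finite set of prime ideals of A. Then there is an element s of A outside every prime of Z
such that the localized module M_s has a basis of r elements over A_s. (The published statement is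
for a finite locally free module of constant rank r on a scheme and a finite set of points inside an
affine open Spec A, and produces a basic open D(s) containing the points on which the module is free
of rank r; its argument begins by replacing the scheme with Spec A, and this row states that case.) -/
theorem result (A : Type u) [CommRing A]
    (M : Type u) [AddCommGroup M] [Module A M] [Module.Finite A M] [Module.Projective A M] (r : ℕ)
    (hr : ∀ p : PrimeSpectrum A, Module.rankAtStalk M p = r)
    (Z : Set (PrimeSpectrum A)) (hZ : Z.Finite) :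
    ∃ s : A, (∀ p ∈ Z, s ∉ p.asIdeal) ∧
      Nonempty (Module.Basis (Fin r) (Localization.Away s) (LocalizedModule (Submonoid.powers s) M)) := by
  let S : Submonoid A :=
    { carrier := {a | ∀ p ∈ Z, a ∉ p.asIdeal}
      one_mem' := fun p _ h => p.isPrime.ne_top ((Ideal.eq_top_iff_one _).2 h)
      mul_mem' := fun {a b} ha hb p hp h => (p.isPrime.mem_or_mem h).elim (ha p hp) (hb p hp) }
  let B := Localization S
  let c : MaximalSpectrum B → PrimeSpectrum A := fun P => PrimeSpectrum.comap (algebraMap A B) P.toPrimeSpectrum
  have hc : Function.Injective c := fun P Q h => by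
    apply MaximalSpectrum.toPrimeSpectrum_injective
    exact PrimeSpectrum.localization_comap_injective B S h
  have hcle : ∀ P, ∃ z ∈ Z, (c P).asIdeal ≤ z.asIdeal := fun P => by
    have hdisj : Disjoint (S : Set A) ((c P).asIdeal : Set A) := by
      rw [Set.disjoint_left]
      intro a ha hP
      exact P.isMaximal.ne_top (Ideal.eq_top_of_isUnit_mem _ hP (IsLocalization.map_units B ⟨a, ha⟩))
    have hsub : ((c P).asIdeal : Set A) ⊆ ⋃ z ∈ (hZ.toFinset : Set (PrimeSpectrum A)), (z.asIdeal : Set A) := fun a ha => by
      by_contra h
      simp only [Set.Finite.coe_toFinset, Set.mem_iUnion, not_exists] at h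
      exact Set.disjoint_left.1 hdisj (fun p hp hap => h p hp hap) ha
    rcases isEmpty_or_nonempty Z with hZe | ⟨⟨z₀, hz₀⟩⟩
    · exact absurd ((c P).asIdeal.zero_mem) (Set.disjoint_left.1 hdisj (fun p hp => (hZe.false ⟨p, hp⟩).elim))
    obtain ⟨z, hz, hle⟩ := (Ideal.subset_union_prime z₀ z₀ (fun z _ _ _ => z.isPrime)).1 hsub
    exact ⟨z, hZ.mem_toFinset.1 hz, hle⟩
  have hcmem : ∀ P, c P ∈ Z := fun P => by
    obtain ⟨z, hz, hle⟩ := hcle P
    have hd : Disjoint (S : Set A) (z.asIdeal : Set A) := Set.disjoint_left.2 fun a ha => ha z hz
    let Q := Ideal.map (algebraMap A B) z.asIdeal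
    haveI : Q.IsPrime := IsLocalization.isPrime_of_isPrime_disjoint S B _ z.isPrime hd
    have e : Ideal.comap (algebraMap A B) Q = z.asIdeal := IsLocalization.comap_map_of_isPrime_disjoint S B z.isPrime hd
    have hPQ : P.asIdeal ≤ Q := by
      rw [← IsLocalization.map_comap S B P.asIdeal]
      exact Ideal.map_mono hle
    have : P.asIdeal = Q := P.isMaximal.eq_of_le ‹Q.IsPrime›.ne_top hPQ
    convert hz
    exact PrimeSpectrum.ext (by show Ideal.comap _ P.asIdeal = _; rw [this, e])
  haveI : Finite (MaximalSpectrum B) :=
    @Finite.of_injective _ Z hZ.to_subtype (fun P => ⟨c P, hcmem P⟩) (fun P Q h => hc (congrArg Subtype.val h))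
  haveI : Module.FinitePresentation A M := Module.finitePresentation_of_projective A M
  obtain ⟨b⟩ := Module.nonempty_basis_of_flat_of_finrank_eq B (B ⊗[A] M) r fun P => by
    rw [← hr (c P), finrank_quotient_eq_rankAtStalk]
    exact Module.rankAtStalk_baseChange P.toPrimeSpectrum
  obtain ⟨s, hs, b', -⟩ := Module.FinitePresentation.exists_basis_localizedModule_powers S
    (TensorProduct.mk A B M 1) B b
  exact ⟨s, hs, ⟨b'⟩⟩

end Groth.Agent.S10836
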