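import Groth.Statements.S10840
import Groth.Agent.VarDim.Proj

set_option autoImplicit false
universe u
open AlgebraicGeometry Topology
open Variety

namespace Groth.Agent.S10840


open Groth.Agent.VarDim Groth.Agent.VarDim.ProjN Order MvPolynomial

/-- For a field k and nonzero homogeneous polynomials f, g of positive degrees in three variables, the
common zero set V_+(f, g) in the projective plane over k is zero-dimensional as a topological
subspace exactly when f and g are coprime, i.e. their only common divisors are the non-zero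
constants. -/
theorem result (k : Type u) [Field k] (n m : ℕ)
    (f g : MvPolynomial (Fin 3) k) (hf : f.IsHomogeneous n) (hg : g.IsHomogeneous m)
    (hn : 0 < n) (hm : 0 < m) (hf0 : f ≠ 0) (hg0 : g ≠ 0) :
    topologicalKrullDim ↥(ProjectiveSpectrum.zeroLocus (CohB1.polyGrading 2 k)
        ({f, g} : Set (MvPolynomial (Fin 3) k))) = 0 ↔ IsRelPrime f g := by
  classical
  constructor
  · intro hdim h hhf hhg
    by_contra hu
    have hh0 : h ≠ 0 := fun h0 => hf0 (by subst h0; exact zero_dvd_iff.1 hhf)
    obtain ⟨p, hp, hph⟩ := WfDvdMonoid.exists_irreducible_factor hu hh0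
    obtain ⟨x, hx, hxd⟩ := exists_point_span (k := k) (n := 2) two_pos hp.prime hf0 hf (hph.trans hhf)
    have hxV : x ∈ ProjectiveSpectrum.zeroLocus (CohB1.polyGrading 2 k) ({f, g} : Set (MvPolynomial (Fin 3) k)) := by
      rintro a (rfl | rfl)
      · exact hx.ge (Ideal.mem_span_singleton.2 (hph.trans hhf))
      · exact hx.ge (Ideal.mem_span_singleton.2 (hph.trans hhg))
    have h1 := le_topologicalKrullDim (ProjectiveSpectrum.isClosed_zeroLocus _ _) hxV
    rw [hdim] at h1
    have : pdim x ≤ 0 := by exact_mod_cast h1
    omega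
  · intro hrel
    have hz : ∀ z ∈ ProjectiveSpectrum.zeroLocus (CohB1.polyGrading 2 k) ({f, g} : Set (MvPolynomial (Fin 3) k)),
        pdim z = 0 := by
      intro z hzV
      by_contra h0
      have hfz : f ∈ (pp z).asIdeal := hzV (Or.inl rfl)
      have hgz : g ∈ (pp z).asIdeal := hzV (Or.inr rfl)
      obtain ⟨p, hp, hpz⟩ := exists_prime_of_pdim (z := z) (by omega) (fun hb => hf0 (by
        rw [hb] at hfz; exact hfz))
      rw [hpz, Ideal.mem_span_singleton] at hfz hgz
      exact hp.not_unit (hrel hfz hgz)
    obtain ⟨c, hc⟩ : (ProjectiveSpectrum.zeroLocus (CohB1.polyGrading 2 k)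
        ({f, g} : Set (MvPolynomial (Fin 3) k))).Nonempty := by
      let J : Ideal (MvPolynomial (Fin 3) k) := Ideal.span {f, g}
      have hJ : J.IsHomogeneous (CohB1.polyGrading 2 k) := Ideal.homogeneous_span _ _ (by
        rintro a (rfl | rfl)
        exacts [⟨n, hf⟩, ⟨m, hg⟩])
      have hle : J ≤ vertex k 2 := Ideal.span_le.2 (by
        rintro a (rfl | rfl) <;> show constantCoeff a = 0 <;> rw [constantCoeff_eq]
        · exact hf.coeff_eq_zero (by simpa using hn.ne)
        · exact hg.coeff_eq_zero (by simpa using hm.ne))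
      obtain ⟨P, hP, -⟩ := Ideal.exists_minimalPrimes_le hle
      obtain ⟨c, hc⟩ := exists_point_minimal hJ hP (fun h => by
        subst h
        have h1 := Ideal.height_le_card_of_mem_minimalPrimes_span_finset
          (s := ({f, g} : Finset (MvPolynomial (Fin 3) k))) (p := vertex k 2) (by simpa [J] using hP)
        have h2 := height_add_coheight_pp (vertexPoint k 2)
        rw [coheight_vertexPoint, add_zero, ← PrimeSpectrum.height_eq_orderHeight] at h2
        have h3 : (3 : ℕ) ≤ ({f, g} : Finset (MvPolynomial (Fin 3) k)).card := by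
          rw [show (vertexPoint k 2).asIdeal = vertex k 2 from rfl] at h2
          rw [h2] at h1
          exact_mod_cast h1
        have h4 : ({f, g} : Finset (MvPolynomial (Fin 3) k)).card ≤ 2 := Finset.card_le_two
        omega)
      exact ⟨c, fun a ha => hc.ge (hP.1.2 (Ideal.subset_span ha))⟩
    rw [topologicalKrullDim_eq (ProjectiveSpectrum.isClosed_zeroLocus _ _)]
    refine le_antisymm (iSup_le fun z => ?_) (le_iSup_of_le ⟨c, hc⟩ ?_)
    · rw [hz z.1 z.2]; rfl
    · rw [hz c hc]; rfl

end Groth.Agent.S10840
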