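import Groth.Statements.S10841
import Groth.Agent.VarDim.Fibre

set_option autoImplicit false
universe u
open CategoryTheory AlgebraicGeometry Topology
open Variety

namespace Groth.Agent.S10841


open Groth.Agent.VarDim Order

/-- Let k be a field, X an irreducible scheme of finite type over k, and f : Y → X a morphism over k
from a scheme Y of finite type over k whose image contains the generic point of X. Then dim Y ≥ dim
X. -/
theorem result (k : Type u) [Field k] {X Y : Scheme.{u}}
    (p : X ⟶ Spec (CommRingCat.of k)) (q : Y ⟶ Spec (CommRingCat.of k))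
    [LocallyOfFiniteType p] [QuasiCompact p] [LocallyOfFiniteType q] [QuasiCompact q]
    [IrreducibleSpace ↥X] (f : Y ⟶ X) (hf : f ≫ p = q)
    (hη : genericPoint ↥X ∈ Set.range f.base) :
    topologicalKrullDim ↥X ≤ topologicalKrullDim ↥Y := by
  obtain ⟨y, hy⟩ := hη
  have : LocallyOfFiniteType f := by subst hf; exact locallyOfFiniteType_of_comp f p
  rw [topologicalKrullDim_eq_deg_genericPoint p, topologicalKrullDim_eq_iSup_deg q]
  refine le_iSup_of_le y (WithBot.coe_le_coe.2 (Nat.cast_le.2 ?_))
  have h := deg_map_le f p hf y
  rwa [show f y = genericPoint ↥X from hy] at h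

end Groth.Agent.S10841
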