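import Groth.Statements.S10842
import Groth.Agent.VarGeom.Normal

set_option autoImplicit false
universe u
open CategoryTheory AlgebraicGeometry
open Variety

namespace Groth.Agent.S10842

/-- A quasi-compact scheme whose local rings at all closed points are integrally closed domains is
normal, i.e. all of its local rings are integrally closed domains. -/
theorem result (X : Scheme.{u}) [CompactSpace ↥X]
    (h : ∀ x : X, IsClosed ({x} : Set X) →
      IsDomain (X.presheaf.stalk x) ∧ IsIntegrallyClosed (X.presheaf.stalk x)) :
    Pi1.IsNormalScheme X := by
  intro x
  exact Groth.Agent.VarGeom.normal_of_closedPoints X h x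

end Groth.Agent.S10842
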