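import Groth.Statements.S10843
import Mathlib
import Groth.Agent.VarDim.Basic

set_option autoImplicit false
universe u
open CAlg

namespace Groth.Agent.S10843
theorem dim_eq_of_finite {k A : Type u} [Field k] [CommRing A] [Algebra k A] (s : ℕ)
    (φ : MvPolynomial (Fin s) k →ₐ[k] A) (hf : φ.toRingHom.Finite) (hi : Function.Injective φ) :
    ringKrullDim A = (s : WithBot ℕ∞) := by
  letI := φ.toRingHom.toAlgebra
  haveI : Module.Finite (MvPolynomial (Fin s) k) A := hf
  haveI : FaithfulSMul (MvPolynomial (Fin s) k) A := (faithfulSMul_iff_algebraMap_injective _ _).2 hi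
  rw [Groth.Agent.VarDim.ringKrullDim_eq_of_isIntegral (R := MvPolynomial (Fin s) k),
    MvPolynomial.ringKrullDim_of_isNoetherianRing]
  simp


/-- For a field k, a nonzero finitely generated k-algebra A and a natural number d, the algebra A has
Krull dimension d exactly when some injective k-algebra map from the polynomial ring in d variables
over k to A makes A a finite module over that polynomial ring. -/
theorem result (k A : Type u) [Field k]
    [CommRing A] [Nontrivial A] [Algebra k A] [Algebra.FiniteType k A] (d : ℕ) :
    ringKrullDim A = (d : WithBot ℕ∞) ↔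
      ∃ φ : MvPolynomial (Fin d) k →ₐ[k] A, φ.toRingHom.Finite ∧ Function.Injective φ := by
  constructor
  · intro hd
    obtain ⟨s, g, hg, hgf⟩ := exists_finite_inj_algHom_of_fg k A
    have := dim_eq_of_finite s g hgf hg
    rw [hd] at this
    obtain rfl : d = s := by exact_mod_cast this
    exact ⟨g, hgf, hg⟩
  · rintro ⟨φ, hf, hi⟩
    exact dim_eq_of_finite d φ hf hi


end Groth.Agent.S10843
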