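import Groth.Statements.S10845
import Groth.Agent.VanishId.Basic

set_option autoImplicit false
universe u
open RepF

namespace Groth.Agent.S10845

open AlgebraicGeometry CategoryTheory in
/-- For a scheme S and a homomorphism v : E → F of quasi-coherent O_S-modules with F finite locally
free, there is a quasi-coherent ideal sheaf on S whose closed subscheme Z has the property that a
morphism of schemes f : T → S factors through the inclusion Z → S if and only if the pulled-back
homomorphism f^*v : f^*E → f^*F is zero. -/
theorem result {S : Scheme.{u}} {E F : S.Modules}
    [Coh.IsQCoh E] [Coh.IsQCoh F] (hF : FlatMod.IsFinLocFree F) (v : E ⟶ F) :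
    ∃ I : S.IdealSheafData, ∀ (T : Scheme.{u}) (f : T ⟶ S),
      (∃ g : T ⟶ I.subscheme, g ≫ I.subschemeι = f) ↔ (Scheme.Modules.pullback f).map v = 0 := by
  exact Groth.Agent.VanishId.exists_ideal inferInstance hF v


end Groth.Agent.S10845
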