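import Groth.Statements.S10847
import Groth.Agent.FittX.Sheaf
import Mathlib.AlgebraicGeometry.IdealSheaf.Functorial
import Mathlib.AlgebraicGeometry.Morphisms.Immersion

set_option autoImplicit false
universe u
open FlatMod

namespace Groth.Agent.S10847
open AlgebraicGeometry CategoryTheory

theorem sheafIdeal_mono {X : Scheme.{u}} {F : X.Modules} (hF : Coh.IsQCoh F) (hft : CohB1.IsFT F)
    {k l : ℕ} (h : k ≤ l) : Fitt.sheafIdeal F k ≤ Fitt.sheafIdeal F l := by
  intro U
  haveI := Groth.Agent.QCoh.finite_of_isFT hF hft U.2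
  rw [Groth.Agent.FittX.sheafIdeal_ideal hF hft, Groth.Agent.FittX.sheafIdeal_ideal hF hft]
  exact Groth.Agent.FittX.ideal_mono h

theorem pullback_rank_iff {X T : Scheme.{u}} {F : X.Modules} (hF : Coh.IsQCoh F) (hft : CohB1.IsFT F)
    (f : T ⟶ X) (r : ℕ) :
    FlatMod.IsFinLocFreeOfRank r ((Scheme.Modules.pullback f).obj F) ↔
      (if r = 0 then (⊥ : X.IdealSheafData) else Fitt.sheafIdeal F (r - 1)) ≤ f.ker ∧
        Set.range f.base ⊆ ((Fitt.sheafIdeal F r).support : Set X)ᶜ := by
  have hq := Groth.Agent.QCoh.isQCoh_pullback f hF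
  have hf' := Groth.Agent.FittX.isFT_pullback f hF hft
  rw [Groth.Agent.FittX.isFinLocFreeOfRank_iff hq hf' r]
  have hc : ∀ k, Fitt.sheafIdeal ((Scheme.Modules.pullback f).obj F) k = (Fitt.sheafIdeal F k).comap f :=
    fun k => (Groth.Agent.FittX.sheafIdeal_comap f hF hft k).symm
  refine and_congr ?_ ?_
  · rw [← Scheme.IdealSheafData.map_bot f, Scheme.IdealSheafData.le_map_iff_comap_le]
    rcases Nat.eq_zero_or_pos r with rfl | hr
    · rw [if_pos rfl, Scheme.IdealSheafData.comap_bot]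
      exact ⟨fun _ => le_rfl, fun _ k hk => absurd hk (Nat.not_lt_zero k)⟩
    · rw [if_neg hr.ne', le_bot_iff, ← hc]
      exact ⟨fun h => h _ (Nat.sub_lt hr one_pos), fun h k hk =>
        le_bot_iff.1 ((sheafIdeal_mono hq hf' (by omega)).trans h.le)⟩
  · have h0 : Set.range f.base ⊆ ((Fitt.sheafIdeal F r).support : Set X)ᶜ ↔
        Fitt.sheafIdeal ((Scheme.Modules.pullback f).obj F) r = ⊤ := by
      rw [hc, ← Scheme.IdealSheafData.support_eq_bot_iff, Scheme.IdealSheafData.support_comap,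
        ← SetLike.coe_set_eq, TopologicalSpace.Closeds.coe_preimage, TopologicalSpace.Closeds.coe_bot,
        Set.eq_empty_iff_forall_notMem, Set.range_subset_iff]
      rfl
    rw [h0]
    exact ⟨fun h => h r le_rfl, fun h k hk => top_le_iff.1 (h.ge.trans (sheafIdeal_mono hq hf' hk))⟩


open AlgebraicGeometry CategoryTheory in
/-- Let X be a scheme, F a finite-type quasi-coherent O_X-module and r a natural number. Then there is
an immersion i : Z → X (a subscheme of X) such that a morphism of schemes f : T → X factors through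
i if and only if the pullback f^*F is finite locally free of rank r. -/
theorem result {X : Scheme.{u}} (F : X.Modules)
    [Coh.IsQCoh F] (hF : CohB1.IsFT F) (r : ℕ) :
    ∃ (Z : Scheme.{u}) (i : Z ⟶ X), IsImmersion i ∧ ∀ (T : Scheme.{u}) (f : T ⟶ X),
      (∃ g : T ⟶ Z, g ≫ i = f) ↔ FlatMod.IsFinLocFreeOfRank r ((Scheme.Modules.pullback f).obj F) := by
  have hq : Coh.IsQCoh F := ‹_›
  let I : X.IdealSheafData := if r = 0 then ⊥ else Fitt.sheafIdeal F (r - 1)
  let O : X.Opens := ⟨((Fitt.sheafIdeal F r).support : Set X)ᶜ, (Fitt.sheafIdeal F r).support.isClosed.isOpen_compl⟩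
  let U' : I.subscheme.Opens := I.subschemeι ⁻¹ᵁ O
  refine ⟨U', U'.ι ≫ I.subschemeι, inferInstance, fun T f => ?_⟩
  rw [pullback_rank_iff hq hF f r]
  constructor
  · rintro ⟨g, rfl⟩
    refine ⟨?_, ?_⟩
    · refine le_trans I.ker_subschemeι.ge ?_
      rw [← Category.assoc]
      exact Scheme.Hom.le_ker_comp _ _
    · rintro _ ⟨t, rfl⟩
      exact (g.base t).2
  · rintro ⟨hI, hO⟩
    have hk : I.subschemeι.ker ≤ f.ker := I.ker_subschemeι.trans_le hI
    let g₀ := IsClosedImmersion.lift I.subschemeι f hk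
    have hg : g₀ ≫ I.subschemeι = f := IsClosedImmersion.lift_fac _ _ _
    refine ⟨IsOpenImmersion.lift U'.ι g₀ ?_, ?_⟩
    · rw [Scheme.Opens.range_ι]
      rintro _ ⟨t, rfl⟩
      show I.subschemeι.base (g₀.base t) ∈ O
      rw [← Scheme.Hom.comp_apply, hg]
      exact hO ⟨t, rfl⟩
    · rw [IsOpenImmersion.lift_fac_assoc, hg]


end Groth.Agent.S10847
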