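import Groth.Statements.S10849
import Groth.Agent.Horrocks.Field
import Mathlib.Data.Fin.Tuple.Sort

set_option autoImplicit false
universe u
open VbP1

namespace Groth.Agent.S10849

/-- Let k be a field and n a natural number. For every invertible n × n matrix A with entries in the
Laurent polynomial ring k[T, T⁻¹] there are matrices P and Q over k[T], invertible over k[T], and
integers d_1 ≥ d_2 ≥ … ≥ d_n (indexed by Fin n, antitone) such that A = P · diag(T^{d_i}) · Q⁻,
where Q⁻ is obtained from Q by the substitution T ↦ T⁻¹ (so Q⁻ is invertible over k[T⁻¹]). -/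
theorem result (k : Type u) [Field k] (n : ℕ)
    (A : Matrix (Fin n) (Fin n) (LaurentPolynomial k)) (hA : IsUnit A) :
    ∃ (P Q : Matrix (Fin n) (Fin n) (Polynomial k)) (d : Fin n → ℤ),
      IsUnit P ∧ IsUnit Q ∧ Antitone d ∧
        A = P.map Polynomial.toLaurent * Matrix.diagonal (fun i => LaurentPolynomial.T (d i)) *
          (Q.map Polynomial.toLaurent).map LaurentPolynomial.invert := by
  classical
  obtain ⟨Z, Y, d, hZ, hY, h⟩ := Horrocks.exists_birkhoff A.transpose
    (by rw [Matrix.det_transpose]; exact (Matrix.isUnit_iff_isUnit_det A).1 hA)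
  let σ := Tuple.sort fun i => -d i
  obtain ⟨Z', hZ'⟩ : ∃ Z', Z * Z' = 1 := ⟨Z⁻¹, Matrix.mul_nonsing_inv Z hZ⟩
  have hA' : A.transpose = Horrocks.negM Y * Matrix.diagonal (fun i => LaurentPolynomial.T (d i)) *
      Horrocks.posM Z' := by
    rw [← h, Matrix.mul_assoc, ← Horrocks.posM_mul, hZ']
    simp [Horrocks.posM, Matrix.map_one]
  refine ⟨Z'.transpose.submatrix id σ, Y.transpose.submatrix σ id, d ∘ σ, ?_, ?_, ?_, ?_⟩
  · rw [Matrix.isUnit_iff_isUnit_det]
    have : IsUnit Z'.det := IsUnit.of_mul_eq_one _ (by rw [mul_comm, ← Matrix.det_mul, hZ', Matrix.det_one])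
    have e : Z'.transpose.submatrix id σ = Z'.transpose * (1 : Matrix (Fin n) (Fin n) _).submatrix id σ := by
      ext i j; simp [Matrix.mul_apply, Matrix.one_apply]
    rw [e, Matrix.det_mul, Matrix.det_transpose]
    refine this.mul ?_
    rw [Matrix.det_permute', Matrix.det_one, mul_one]
    exact (Units.isUnit _).map (Int.castRingHom (Polynomial k))
  · rw [Matrix.isUnit_iff_isUnit_det]
    rw [Matrix.det_permute, Matrix.det_transpose]
    exact ((Units.isUnit _).map (Int.castRingHom (Polynomial k))).mul hY
  · intro i j hij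
    simpa [σ] using Tuple.monotone_sort (fun i => -d i) hij
  · have := congrArg Matrix.transpose hA'
    rw [Matrix.transpose_transpose] at this
    rw [this]
    refine Matrix.ext fun i j => ?_
    rw [Matrix.transpose_apply, Matrix.mul_apply, Matrix.mul_apply]
    simp only [Matrix.mul_diagonal, Matrix.map_apply, Matrix.submatrix_apply, Matrix.transpose_apply, id,
      Function.comp_apply, Horrocks.negM, Horrocks.posM, Horrocks.negL_apply]
    rw [← Equiv.sum_comp σ]
    refine Finset.sum_congr rfl fun l _ => ?_
    ring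

end Groth.Agent.S10849
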