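import Groth.Statements.S10851


set_option autoImplicit false
universe u
open Mero

namespace Groth.Agent.S10851

open AlgebraicGeometry in
/-- Let X be a locally Noetherian scheme and D a divisor on X (a global section of K_X^×/O_X^×). Then
the support of D has codimension at least 1 in X: for every point z at which the germ of D is
non-trivial, the local ring O_{X,z} has Krull dimension at least 1. -/
theorem result {X : Scheme.{u}} [IsLocallyNoetherian X]
    (D : Mero.Divisor X) (z : X) (hz : z ∈ Mero.supp D) :
    (1 : WithBot ℕ∞) ≤ ringKrullDim (X.presheaf.stalk z) := by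
  by_contra hcon
  have hdim : Ring.KrullDimLE 0 (X.presheaf.stalk z) := by
    rw [Ring.krullDimLE_iff, Nat.cast_zero]
    have h := not_le.1 hcon
    revert h
    generalize ringKrullDim (X.presheaf.stalk z) = d
    induction d using WithBot.recBotCoe with
    | bot => exact fun _ => bot_le
    | coe d =>
      intro h
      have h' : d < 1 := by exact_mod_cast h
      rw [ENat.lt_one_iff_eq_zero] at h'
      simp [h']
  have hu : ∀ a ∈ Mero.regStalk X z, IsUnit a := by
    intro a ha
    by_contra hna
    have h1 : a ∈ IsLocalRing.maximalIdeal (X.presheaf.stalk z) := hna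
    rw [← Ring.KrullDimLE.nilradical_eq_maximalIdeal] at h1
    obtain ⟨n, hn⟩ := h1
    exact nonZeroDivisors.ne_zero (pow_mem (Mero.regStalk_le_nonZeroDivisors z ha) n) hn
  apply hz
  obtain ⟨g, hg⟩ := QuotientGroup.mk_surjective (D.1 z)
  rw [← hg, QuotientGroup.eq_one_iff]
  let e := IsLocalization.atUnits (X.presheaf.stalk z) (Mero.regStalk X z) (S := Mero.KStalk X z) hu
  refine ⟨Units.map e.symm.toRingEquiv.toRingHom.toMonoidHom g, Units.ext ?_⟩
  change algebraMap _ _ (e.symm (g : Mero.KStalk X z)) = _
  rw [← e.commutes, Algebra.algebraMap_self_apply, e.apply_symm_apply]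

end Groth.Agent.S10851
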