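import Groth.Statements.S10852
import Groth.Agent.H23.GrassRep
-- import your own Groth.Agent.* helpers here

set_option autoImplicit false
universe u
open Grass

namespace Groth.Agent.S10852

open AlgebraicGeometry CategoryTheory in
/-- Let R be a commutative ring and k < n natural numbers. Suppose the scheme X over Spec R represents
the Grassmannian functor of rank-k locally free quotients of the free module R^n (bijections,
compatible with base change along R-algebra maps, between Spec R-morphisms Spec A → X and submodules
of A^n whose quotient is finite projective of constant rank k). Then the structure morphism X → Spec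
R is smooth of relative dimension k(n − k), and X has a finite open covering by subschemes each
isomorphic over Spec R to affine space of dimension k(n − k). -/
theorem result (R : Type u) [CommRing R]
    (n k : ℕ) (hk : k < n) (X : Over (Spec (CommRingCat.of R)))
    (e : ∀ A : CommAlgCat.{u} R,
      (Over.mk (Spec.map (CommRingCat.ofHom (algebraMap R A))) ⟶ X) ≃
        (Module.Grassmannian.functor (R := R) (M := Fin n → R) k).obj A)
    (he : ∀ (A B : CommAlgCat.{u} R) (φ : A ⟶ B)
      (g : Over.mk (Spec.map (CommRingCat.ofHom (algebraMap R A))) ⟶ X)
      (g' : Over.mk (Spec.map (CommRingCat.ofHom (algebraMap R B))) ⟶ X),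
      g'.left = Spec.map (CommRingCat.ofHom φ.hom.toRingHom) ≫ g.left →
        e B g' = (Module.Grassmannian.functor (R := R) (M := Fin n → R) k).map φ (e A g)) :
    SmoothOfRelativeDimension (k * (n - k)) X.hom ∧
      ∃ (ι : Type) (_ : Finite ι) (U : ι → X.left.Opens), ⨆ i, U i = ⊤ ∧
        ∀ i, Nonempty (Over.mk ((U i).ι ≫ X.hom) ≅
          Over.mk (𝔸(ULift.{u} (Fin (k * (n - k))); Spec (CommRingCat.of R)) ↘ Spec (CommRingCat.of R))) := by
  
  have he' : Synt29.RepOpen.IsNat X (H23.GrassRep.F R n k) e := fun A B φ g => he A B φ g _ rfl
  exact ⟨H23.GrassRep.smoothOfRelativeDimension he', H23.GrassRep.Idx n k, inferInstance,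
    H23.GrassRep.chartOpen he', H23.GrassRep.iSup_chartOpen he', H23.GrassRep.nonempty_chartOpen_iso he'⟩

end Groth.Agent.S10852
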