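import Groth.Statements.S10856


set_option autoImplicit false
universe u
open Mero

namespace Groth.Agent.S10856

open AlgebraicGeometry CategoryTheory TopologicalSpace in
/-- Let X be a scheme and f a global section of the sheaf of meromorphic functions K_X. The domain of
definition of f, i.e. the set of points x whose value f_x ∈ K_{X,x} lies in the image of the local
ring O_{X,x}, is the underlying set of an open subscheme D of X, and D is schematically dense in X:
for every open subset V of X the restriction map from sections of O_X over V to sections over V ∩ D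
is injective. -/
theorem result {X : Scheme.{u}} (f : Γ(Mero.kmod X, ⊤)) :
    ∃ D : X.Opens,
      (D : Set X) = {x | f.1 ⟨x, Opens.mem_top x⟩ ∈ (algebraMap (X.presheaf.stalk x) (Mero.KStalk X x)).range} ∧
        ∀ V : X.Opens, Function.Injective (X.presheaf.map (homOfLE (inf_le_left : V ⊓ D ≤ V)).op) := by
  let P : X → Prop := fun x => f.1 ⟨x, Opens.mem_top x⟩ ∈ (algebraMap (X.presheaf.stalk x) (Mero.KStalk X x)).range
  have hf : ∀ x : X, ∃ (U : X.Opens), x ∈ U ∧ ∃ (a : Γ(X, U)) (b : Mero.regSub X U),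
      ∀ y : U, f.1 ⟨y.1, Opens.mem_top y.1⟩ = LocalizedModule.mk (X.presheaf.germ U y.1 y.2 a) (Mero.regGerm y b) := by
    intro x
    obtain ⟨U, hxU, i, a, b, h⟩ := f.2 ⟨x, Opens.mem_top x⟩
    exact ⟨U, hxU, a, b, h⟩
  have hP : ∀ (U : X.Opens) (a : Γ(X, U)) (b : Mero.regSub X U)
      (h : ∀ y : U, f.1 ⟨y.1, Opens.mem_top y.1⟩ = LocalizedModule.mk (X.presheaf.germ U y.1 y.2 a) (Mero.regGerm y b))
      (y : U), P y.1 ↔ ∃ c, c * X.presheaf.germ U y.1 y.2 b.1 = X.presheaf.germ U y.1 y.2 a := by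
    intro U a b h y
    have hmk : f.1 ⟨y.1, Opens.mem_top y.1⟩ * algebraMap (X.presheaf.stalk y.1) (Mero.KStalk X y.1)
        (X.presheaf.germ U y.1 y.2 b.1) = algebraMap (X.presheaf.stalk y.1) (Mero.KStalk X y.1)
        (X.presheaf.germ U y.1 y.2 a) := by
      rw [h y]
      refine Eq.trans ?_ (IsLocalization.mk'_spec (Mero.KStalk X y.1) (X.presheaf.germ U y.1 y.2 a)
        (Mero.regGerm y b))
      rw [← Localization.mk_eq_mk']
      rfl
    have hu := IsLocalization.map_units (Mero.KStalk X y.1) (Mero.regGerm y b)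
    constructor
    · rintro ⟨c, hc⟩
      refine ⟨c, Mero.algebraMap_KStalk_injective y.1 ?_⟩
      rw [map_mul, hc, hmk]
    · rintro ⟨c, hc⟩
      refine ⟨c, hu.mul_left_inj.1 ?_⟩
      rw [hmk, ← map_mul]
      exact congrArg _ hc
  have hopen : IsOpen {x | P x} := by
    rw [isOpen_iff_forall_mem_open]
    intro x hx
    obtain ⟨U, hxU, a, b, h⟩ := hf x
    obtain ⟨c, hc⟩ := (hP U a b h ⟨x, hxU⟩).1 hx
    obtain ⟨W, hxW, c', rfl⟩ := TopCat.Presheaf.exists_germ_eq X.presheaf c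
    have e : X.presheaf.germ (W ⊓ U) x ⟨hxW, hxU⟩ (X.presheaf.map (homOfLE inf_le_left).op c' * X.presheaf.map (homOfLE inf_le_right).op b.1) =
        X.presheaf.germ (W ⊓ U) x ⟨hxW, hxU⟩ (X.presheaf.map (homOfLE inf_le_right).op a) := by
      rw [map_mul, TopCat.Presheaf.germ_res_apply, TopCat.Presheaf.germ_res_apply, TopCat.Presheaf.germ_res_apply]
      exact hc
    obtain ⟨W', hxW', i, j, hW'⟩ := TopCat.Presheaf.germ_eq (U := W ⊓ U) (V := W ⊓ U) X.presheaf x ⟨hxW, hxU⟩ ⟨hxW, hxU⟩ _ _ e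
    refine ⟨W', fun y hy => (hP U a b h ⟨y, (i.le hy).2⟩).2 ⟨X.presheaf.germ W y (i.le hy).1 c', ?_⟩, W'.2, hxW'⟩
    have := congrArg (X.presheaf.germ W' y hy) hW'
    simp only [TopCat.Presheaf.germ_res_apply, map_mul] at this
    exact this
  refine ⟨⟨{x | P x}, hopen⟩, rfl, fun V => ?_⟩
  refine (injective_iff_map_eq_zero _).2 fun s hs => ?_
  refine TopCat.Presheaf.section_ext X.sheaf V _ 0 fun x hx => ?_
  obtain ⟨U, hxU, a, b, h⟩ := hf x
  obtain ⟨_, ⟨W, hW, rfl⟩, hxW, hWle⟩ :=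
    X.isBasis_affineOpens.exists_subset_of_mem_open (show x ∈ V ⊓ U from ⟨hx, hxU⟩) (V ⊓ U).2
  have hWV : W ≤ V := fun y hy => (hWle hy).1
  have hWU : W ≤ U := fun y hy => (hWle hy).2
  have hW' : IsAffineOpen W := hW
  haveI := hW'.isLocalization_basicOpen (X.presheaf.map (homOfLE hWU).op b.1)
  have hsub : X.basicOpen (X.presheaf.map (homOfLE hWU).op b.1) ≤ V ⊓ ⟨{x | P x}, hopen⟩ := by
    intro y hy
    have hyW : y ∈ W := X.basicOpen_le _ hy
    refine ⟨hWV hyW, (hP U a b h ⟨y, hWU hyW⟩).2 ?_⟩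
    have hu : IsUnit (X.presheaf.germ U y (hWU hyW) b.1) := by
      have := (X.mem_basicOpen _ y hyW).1 hy
      rwa [TopCat.Presheaf.germ_res_apply] at this
    exact ⟨X.presheaf.germ U y (hWU hyW) a * ↑hu.unit⁻¹, by rw [mul_assoc, IsUnit.val_inv_mul, mul_one]⟩
  have h0 : algebraMap Γ(X, W) Γ(X, X.basicOpen (X.presheaf.map (homOfLE hWU).op b.1))
      (X.presheaf.map (homOfLE hWV).op s) = 0 := by
    have h1 := congrArg (X.presheaf.map (homOfLE hsub).op) hs
    rw [map_zero, ← ConcreteCategory.comp_apply, ← Functor.map_comp] at h1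
    rw [RingHom.algebraMap_toAlgebra, ← ConcreteCategory.comp_apply, ← Functor.map_comp]
    exact h1
  obtain ⟨⟨c, n, rfl⟩, hc⟩ := (IsLocalization.map_eq_zero_iff (Submonoid.powers (X.presheaf.map (homOfLE hWU).op b.1)) _ _).1 h0
  have h2 := congrArg (X.presheaf.germ W x hxW) hc
  simp only [map_mul, map_pow, map_zero, TopCat.Presheaf.germ_res_apply] at h2
  show X.presheaf.germ V x hx s = X.presheaf.germ V x hx 0
  rw [map_zero]
  exact (mul_right_mem_nonZeroDivisors_eq_zero_iff (pow_mem (b.2 ⟨x, hxU⟩) n)).1 ((mul_comm _ _).trans h2)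

end Groth.Agent.S10856
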