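import Groth.Statements.S10857
import Groth.Agent.FPEnough.SecColim
import Groth.Agent.QCoh.Support

set_option autoImplicit false
universe u
open QCohSup

namespace Groth.Agent.S10857
set_option backward.isDefEq.respectTransparency false
set_option backward.isDefEq.respectTransparency.types false
open CategoryTheory CategoryTheory.Limits AlgebraicGeometry
open Groth.Agent

theorem exists_affine_open {X : Scheme.{u}} (x : X) : ∃ V : X.Opens, IsAffineOpen V ∧ x ∈ V := by
  obtain ⟨_, ⟨V, hV, rfl⟩, hx, -⟩ := X.isBasis_affineOpens.exists_subset_of_mem_open (Set.mem_univ x) isOpen_univ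
  exact ⟨V, hV, hx⟩


open AlgebraicGeometry CategoryTheory CategoryTheory.Limits in
/-- Take a quasi-compact scheme X, a finite-type quasi-coherent O_X-module F, and G a quasi-coherent
O_X-module which is the colimit of a filtered diagram of quasi-coherent O_X-modules G_j. A
homomorphism u : G → F is an epimorphism if and only if there is an index j₀ such that for every
index j admitting a map from j₀ the composite G_j → G → F is an epimorphism. -/
theorem result {X : Scheme.{u}} [CompactSpace X]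
    {J : Type u} [SmallCategory J] [IsFiltered J] (D : J ⥤ X.Modules) [∀ j, Coh.IsQCoh (D.obj j)]
    (c : Cocone D) (hc : IsColimit c) [Coh.IsQCoh c.pt]
    (F : X.Modules) [Coh.IsQCoh F] (hF : CohB1.IsFT F) (u : c.pt ⟶ F) :
    Epi u ↔ ∃ j₀ : J, ∀ j : J, Nonempty (j₀ ⟶ j) → Epi (c.ι.app j ≫ u) := by
  refine ⟨fun hu => ?_, fun ⟨j₀, h⟩ => ?_⟩
  · haveI := hu
    choose V hV hxV using fun x : X => exists_affine_open x
    obtain ⟨S, hS⟩ := isCompact_univ.elim_finite_subcover (fun x => (V x : Set X)) (fun x => (V x).2)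
      (fun x _ => Set.mem_iUnion.2 ⟨x, hxV x⟩)
    haveI : ∀ x, Module.Finite Γ(X, V x) Γ(F, V x) := fun x => QCoh.finite_of_isFT ‹Coh.IsQCoh F› hF (hV x)
    choose n v hv using fun x : X => Module.Finite.exists_fin (R := Γ(X, V x)) (M := Γ(F, V x))
    choose y hy using fun (x : X) (i : Fin (n x)) =>
      QCoh.app_surjective_of_epi ‹Coh.IsQCoh c.pt› ‹Coh.IsQCoh F› u (hV x) (v x i)
    choose jj z hz using fun (x : X) (i : Fin (n x)) =>
      (FPEnough.sections_colimit (G := D) (c := c) inferInstance hc (hV x)).1 (y x i)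
    classical
    obtain ⟨j₀, hj₀⟩ := IsFiltered.sup_objs_exists (Finset.univ.image fun p : Σ x : S, Fin (n x.1) => jj p.1.1 p.2)
    refine ⟨j₀, fun j ⟨g⟩ => Preadditive.epi_of_isZero_cokernel _ ?_⟩
    let ψ := c.ι.app j ≫ u
    have hC : Coh.IsQCoh (cokernel ψ) := QCoh.isQCoh_cokernel inferInstance ‹Coh.IsQCoh F› ψ
    refine QCoh.isZero_of_cover hC (fun x : S => V x.1) (fun x => hV x.1) (fun p => ?_) fun x => ?_
    · obtain ⟨x, hx, hpx⟩ := Set.mem_iUnion₂.1 (hS (Set.mem_univ p))
      exact ⟨⟨x, hx⟩, hpx⟩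
    refine subsingleton_of_forall_eq 0 fun q => ?_
    obtain ⟨m, rfl⟩ := QCoh.app_surjective_of_epi ‹Coh.IsQCoh F› hC (cokernel.π ψ) (hV x.1) q
    have hm : m ∈ Submodule.span Γ(X, V x.1) (Set.range (v x.1)) := hv x.1 ▸ Submodule.mem_top
    induction hm using Submodule.span_induction with
    | mem _ h =>
      obtain ⟨i, rfl⟩ := h
      obtain ⟨g'⟩ := hj₀ (Finset.mem_image_of_mem (fun p : Σ x : S, Fin (n x.1) => jj p.1.1 p.2) (Finset.mem_univ ⟨x, i⟩))
      rw [← hy x.1 i, ← hz x.1 i, ← c.w (g' ≫ g)]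
      exact congr($(cokernel.condition ψ).app (V x.1) ((D.map (g' ≫ g)).app (V x.1) (z x.1 i)))
    | zero => exact map_zero _
    | add a b _ _ ha hb => rw [map_add, ha, hb, add_zero]
    | smul r a _ ha => rw [Scheme.Modules.Hom.app_smul, ha, smul_zero]
  · haveI := h j₀ ⟨𝟙 j₀⟩
    exact epi_of_epi (c.ι.app j₀) u

end Groth.Agent.S10857
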