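import Groth.Statements.S10859
import Groth.Agent.H23.GrassSubfun
-- import your own Groth.Agent.* helpers here

set_option autoImplicit false
universe u
open Grass

namespace Groth.Agent.S10859

open AlgebraicGeometry CategoryTheory in
/-- Let R be a commutative ring, v : M₁ → M₂ a surjective homomorphism of R-modules and k a natural
number. Suppose X₁ and X₂ are schemes over Spec R representing the Grassmannian functors of rank-k
locally free quotients of M₁ and of M₂ (bijections e₁, e₂ between Spec R-morphisms Spec A → X_i and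
submodules of A ⊗_R M_i with finite projective quotient of constant rank k, compatible with base
change along R-algebra maps). Then there is a Spec R-morphism c : X₂ → X₁ which on A-valued points
sends a submodule N of A ⊗_R M₂ to its preimage under A ⊗ v, and every such c is a closed immersion.
(The published statement is for a surjection of quasi-coherent modules over an arbitrary base
scheme, where the two Grassmannians are known to be schemes; this row takes the base affine and the
two representing schemes as hypotheses, with no finiteness condition on the modules.) -/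
theorem result (R : Type u) [CommRing R]
    (M₁ M₂ : Type u) [AddCommGroup M₁] [Module R M₁]
    [AddCommGroup M₂] [Module R M₂]
    (v : M₁ →ₗ[R] M₂) (hv : Function.Surjective v) (k : ℕ)
    (X₁ X₂ : Over (Spec (CommRingCat.of R)))
    (e₁ : ∀ A : CommAlgCat.{u} R,
      (Over.mk (Spec.map (CommRingCat.ofHom (algebraMap R A))) ⟶ X₁) ≃
        (Module.Grassmannian.functor (R := R) (M := M₁) k).obj A)
    (he₁ : ∀ (A B : CommAlgCat.{u} R) (φ : A ⟶ B)
      (g : Over.mk (Spec.map (CommRingCat.ofHom (algebraMap R A))) ⟶ X₁)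
      (g' : Over.mk (Spec.map (CommRingCat.ofHom (algebraMap R B))) ⟶ X₁),
      g'.left = Spec.map (CommRingCat.ofHom φ.hom.toRingHom) ≫ g.left →
        e₁ B g' = (Module.Grassmannian.functor (R := R) (M := M₁) k).map φ (e₁ A g))
    (e₂ : ∀ A : CommAlgCat.{u} R,
      (Over.mk (Spec.map (CommRingCat.ofHom (algebraMap R A))) ⟶ X₂) ≃
        (Module.Grassmannian.functor (R := R) (M := M₂) k).obj A)
    (he₂ : ∀ (A B : CommAlgCat.{u} R) (φ : A ⟶ B)
      (g : Over.mk (Spec.map (CommRingCat.ofHom (algebraMap R A))) ⟶ X₂)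
      (g' : Over.mk (Spec.map (CommRingCat.ofHom (algebraMap R B))) ⟶ X₂),
      g'.left = Spec.map (CommRingCat.ofHom φ.hom.toRingHom) ≫ g.left →
        e₂ B g' = (Module.Grassmannian.functor (R := R) (M := M₂) k).map φ (e₂ A g)) :
    (∃ c : X₂ ⟶ X₁, ∀ (A : CommAlgCat.{u} R)
        (g : Over.mk (Spec.map (CommRingCat.ofHom (algebraMap R A))) ⟶ X₂),
        (e₁ A (g ≫ c)).toSubmodule = (e₂ A g).toSubmodule.comap (v.baseChange A)) ∧
      ∀ c : X₂ ⟶ X₁, (∀ (A : CommAlgCat.{u} R)
        (g : Over.mk (Spec.map (CommRingCat.ofHom (algebraMap R A))) ⟶ X₂),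
        (e₁ A (g ≫ c)).toSubmodule = (e₂ A g).toSubmodule.comap (v.baseChange A)) →
        IsClosedImmersion c.left := by
  
  have h₁ : Synt29.RepOpen.IsNat X₁ _ e₁ := fun A B φ g => he₁ A B φ g _ rfl
  have h₂ : Synt29.RepOpen.IsNat X₂ _ e₂ := fun A B φ g => he₂ A B φ g _ rfl
  refine ⟨?_, fun c hc => ?_⟩
  · obtain ⟨c, hc⟩ := H23.GrassSubfun.exists_hom_of_nat h₂ h₁ (fun A => H23.GrassSubfun.pull v hv)
      (fun A B φ x => (H23.GrassSubfun.map_pull v hv φ.hom x).symm)
    exact ⟨c, fun A g => congrArg Module.Grassmannian.toSubmodule (hc A g)⟩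
  have hc2 : ∀ (A : CommAlgCat.{u} R) (g : Over.mk (Spec.map (CommRingCat.ofHom (algebraMap R A))) ⟶ X₂),
      e₁ A (g ≫ c) = H23.GrassSubfun.pull v hv (e₂ A g) := fun A g => Module.Grassmannian.ext (hc A g)
  haveI hmono : Mono c.left := H23.GrassSubfun.mono_left_of_injective c fun A a b hab =>
    (e₂ A).injective (H23.GrassSubfun.pull_injective v hv (by rw [← hc2, ← hc2, hab]))
  obtain ⟨Z, i, hi, hchar⟩ := H23.GrassClosed.exists_closed h₁
    (fun A N => ∀ m ∈ LinearMap.ker v, (1 : A) ⊗ₜ[R] m ∈ N.toSubmodule) (fun A N => by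
      refine ⟨H23.GrassSubfun.idealOf N ((fun m => (1 : A) ⊗ₜ[R] m) '' (LinearMap.ker v : Set M₁)), fun B φ => ?_⟩
      refine (H23.GrassSubfun.idealOf_le_ker_iff φ.hom N _).trans ⟨fun h m hm => ?_, ?_⟩
      · have h1 := h _ ⟨m, hm, rfl⟩
        rw [H23.GrassSubfun.ι_tmul, _root_.map_one] at h1
        exact h1
      · rintro h _ ⟨m, hm, rfl⟩
        rw [H23.GrassSubfun.ι_tmul, _root_.map_one]
        exact h m hm)
  let i' : Over.mk (i ≫ X₁.hom) ⟶ X₁ := Over.homMk i rfl
  obtain ⟨l, hl⟩ := H23.GrassSubfun.exists_lift_of_mono c.left i (H23.GrassSubfun.affCover X₂) fun U =>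
    (hchar _ (H23.GrassClosed.gU U ≫ c)).2 fun m hm => by
      rw [hc2]; exact H23.GrassSubfun.mem_pull v hv _ hm
  obtain ⟨r, hr⟩ := H23.GrassSubfun.exists_lift_of_mono i c.left
    (H23.GrassSubfun.affCover (Over.mk (i ≫ X₁.hom))) fun U => by
      let a := H23.GrassClosed.gU U
      obtain ⟨N, hN⟩ := H23.GrassSubfun.exists_pull_eq v hv _ ((hchar _ (a ≫ i')).1 ⟨a.left, rfl⟩)
      refine ⟨((e₂ _).symm N).left, ?_⟩
      have h3 : (e₂ _).symm N ≫ c = a ≫ i' := (e₁ _).injective (by rw [hc2, Equiv.apply_symm_apply]; exact hN)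
      exact congrArg CommaMorphism.left h3
  have : IsIso l := ⟨r, by rw [← cancel_mono c.left, Category.assoc, hr, hl, Category.id_comp],
    by rw [← cancel_mono i, Category.assoc, hl, hr, Category.id_comp]⟩
  rw [← hl]
  infer_instance

end Groth.Agent.S10859
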