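import Groth.Statements.S10860
import Mathlib.AlgebraicGeometry.ZariskisMainTheorem

set_option autoImplicit false
universe u
open Mor

namespace Groth.Agent.S10860

open CategoryTheory AlgebraicGeometry in
/-- For a proper morphism f : X → Y, the set V of points of Y with finite fibre is open, and f
restricted over V is finite (stated as the existence of an open subscheme of Y whose underlying set
is exactly V and over which f is finite). -/
theorem result {X Y : Scheme.{u}} (f : X ⟶ Y) [IsProper f] :
    ∃ U : Y.Opens, (U : Set Y) = {y : Y | (f.base ⁻¹' {y}).Finite} ∧ IsFinite (f ∣_ U) := by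
  have key : ∀ (V : Y.Opens), IsFinite (f ∣_ V) → ∀ y ∈ V, (f.base ⁻¹' {y}).Finite := by
    intro V hV y hy
    have h := ((f ∣_ V).finite_preimage_singleton ⟨y, hy⟩).image (f ⁻¹ᵁ V).ι
    refine h.subset fun x hx => ?_
    have hxV : x ∈ f ⁻¹ᵁ V := by
      show f x ∈ V
      rw [show f x = y from hx]; exact hy
    refine ⟨⟨x, hxV⟩, Subtype.ext ?_, rfl⟩
    simpa using hx
  let U : Y.Opens := ⟨{y : Y | (f.base ⁻¹' {y}).Finite}, isOpen_iff_forall_mem_open.mpr fun y hy => by
    obtain ⟨V, hyV, hV⟩ := exists_isFinite_morphismRestrict_of_finite_preimage_singleton f y hy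
    exact ⟨V, key V hV, V.2, hyV⟩⟩
  refine ⟨U, rfl, ?_⟩
  haveI : LocallyQuasiFinite (f ∣_ U) := by
    refine .of_finite_preimage_singleton _ fun y => ?_
    refine Set.Finite.of_finite_image ?_ (f ⁻¹ᵁ U).ι.isOpenEmbedding.injective.injOn
    refine y.2.subset ?_
    rintro _ ⟨x, hx, rfl⟩
    have : (f ∣_ U) x = y := hx
    simp [← this]
  exact .of_isProper_of_locallyQuasiFinite _

end Groth.Agent.S10860
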