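import Groth.Statements.S10863
import Mathlib

set_option autoImplicit false
universe u
open CAlg

namespace Groth.Agent.S10863
/-- The residue field at a maximal ideal is the quotient. -/
noncomputable def quotEquiv {k B : Type u} [Field k] [CommRing B] [Algebra k B] (I : Ideal B) [I.IsMaximal] :
    (B ⧸ I) ≃ₐ[k] I.ResidueField :=
  AlgEquiv.ofBijective (IsScalarTower.toAlgHom k (B ⧸ I) I.ResidueField) I.bijective_algebraMap_quotient_residueField

/-- Homomorphisms to an algebraically closed field, counted by their kernels. -/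
theorem natCard_algHom {k B Ω : Type u} [Field k] [CommRing B] [Algebra k B] [Module.Finite k B]
    [Field Ω] [IsAlgClosed Ω] [Algebra k Ω] :
    Nat.card (B →ₐ[k] Ω) = ∑ᶠ m : MaximalSpectrum B,
      Field.finSepDegree k (IsLocalRing.ResidueField (Localization.AtPrime m.asIdeal)) := by
  classical
  haveI : IsArtinianRing B := IsArtinianRing.of_finite k B
  have hker : ∀ φ : B →ₐ[k] Ω, (RingHom.ker φ).IsMaximal := fun φ =>
    haveI := RingHom.ker_isPrime φ
    IsArtinianRing.isMaximal_of_isPrime (RingHom.ker φ)
  let F : (Σ m : MaximalSpectrum B, ((B ⧸ m.asIdeal) →ₐ[k] Ω)) → (B →ₐ[k] Ω) :=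
    fun x => x.2.comp (Ideal.Quotient.mkₐ k x.1.asIdeal)
  have hF : Function.Bijective F := by
    refine ⟨fun x y h => ?_, fun φ => ?_⟩
    · obtain ⟨⟨m, hm⟩, a⟩ := x
      obtain ⟨⟨m', hm'⟩, b⟩ := y
      have key : ∀ (I : Ideal B) [I.IsMaximal] (c : (B ⧸ I) →ₐ[k] Ω),
          RingHom.ker (c.comp (Ideal.Quotient.mkₐ k I)) = I := by
        intro I hI c
        refine (hI.eq_of_le (RingHom.ker_ne_top _) fun z hz => ?_).symm
        show c (Ideal.Quotient.mk I z) = 0
        rw [Ideal.Quotient.eq_zero_iff_mem.2 hz, map_zero]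
      obtain rfl : m = m' := by
        rw [← key m a, ← key m' b]
        exact congrArg _ h
      rw [Ideal.Quotient.algHom_ext (R₁ := k) (f := a) (g := b) h]
    · exact ⟨⟨⟨RingHom.ker φ, hker φ⟩, Ideal.Quotient.liftₐ _ φ fun a ha => ha⟩,
        Ideal.Quotient.liftₐ_comp _ _ _⟩
  haveI : Fintype (MaximalSpectrum B) := Fintype.ofFinite _
  rw [← Nat.card_eq_of_bijective F hF, Nat.card_sigma, finsum_eq_sum_of_fintype]
  refine Finset.sum_congr rfl fun m _ => ?_
  letI : Field (B ⧸ m.asIdeal) := Ideal.Quotient.field m.asIdeal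
  rw [← Field.finSepDegree_eq_of_isAlgClosed k (B ⧸ m.asIdeal) Ω]
  exact Field.finSepDegree_eq_of_equiv _ _ _ (quotEquiv (k := k) m.asIdeal)


open TensorProduct in
/-- Let k be a field, A a finite-dimensional local k-algebra with residue field κ, and k' a field
extension of k. Then the separable degree of κ over k equals the sum over the maximal ideals m' of
k' ⊗_k A (the points of the base-changed finite scheme lying over the given point) of the separable
degrees over k' of their residue fields. -/
theorem result (k A k' : Type u) [Field k] [CommRing A] [Algebra k A]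
    [Module.Finite k A] [IsLocalRing A] [Field k'] [Algebra k k'] :
    Field.finSepDegree k (IsLocalRing.ResidueField A) =
      ∑ᶠ m : MaximalSpectrum (k' ⊗[k] A),
        Field.finSepDegree k' (IsLocalRing.ResidueField (Localization.AtPrime m.asIdeal)) := by
  classical
  letI Ω := AlgebraicClosure k'
  haveI : IsArtinianRing A := IsArtinianRing.of_finite k A
  rw [← natCard_algHom (k := k') (B := k' ⊗[k] A) (Ω := AlgebraicClosure k'),
    Field.finSepDegree_eq_of_isAlgClosed k (IsLocalRing.ResidueField A) (AlgebraicClosure k'),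
    Nat.card_congr (Algebra.TensorProduct.liftEquivRight k k' A (AlgebraicClosure k')).symm]
  refine Nat.card_eq_of_bijective
    (fun c => c.comp (IsScalarTower.toAlgHom k A (IsLocalRing.ResidueField A))) ⟨fun a b h => ?_, fun φ => ?_⟩
  · ext x
    obtain ⟨y, rfl⟩ := IsLocalRing.residue_surjective x
    exact AlgHom.congr_fun h y
  · haveI := RingHom.ker_isPrime φ
    have hmax : (RingHom.ker φ).IsMaximal := IsArtinianRing.isMaximal_of_isPrime (RingHom.ker φ)
    exact ⟨Ideal.Quotient.liftₐ (IsLocalRing.maximalIdeal A) φ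
      fun a ha => RingHom.mem_ker.1 ((IsLocalRing.eq_maximalIdeal hmax).ge ha), AlgHom.ext fun _ => rfl⟩


end Groth.Agent.S10863
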