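import Groth.Statements.S10864
import Groth.Agent.LinProj5.Basic
import Groth.Agent.Proj16.Points
import Groth.Agent.PnCoh.Chow.Proper
import Groth.Agent.H23.PnChart
import Groth.Agent.S10829
import Groth.Agent.GrpSchLib.FieldDim
import Groth.Agent.VarDim.Top

set_option autoImplicit false
universe u
open Variety

namespace Groth.Agent.S10864

open CategoryTheory AlgebraicGeometry in
/-- Let k be an infinite field and X a closed subscheme of projective n-space over k, of dimension d
(topological Krull dimension, a natural number). Then there is a finite surjective morphism X →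
P^d_k over k. -/
theorem result (k : Type u) [Field k] [Infinite k] (X : Scheme.{u})
    (n : ℕ) (ι : X ⟶ CohB1.ProjSpace n k) [IsClosedImmersion ι] (d : ℕ) (hd : topologicalKrullDim X = d) :
    ∃ π : X ⟶ CohB1.ProjSpace d k, π ≫ CohB1.ProjSpace.toSpec d k = ι ≫ CohB1.ProjSpace.toSpec n k ∧
      IsFinite π ∧ Surjective π := by
  haveI : AlgebraicGeometry.IsNoetherian (CohB1.ProjSpace n k) := Proj16.isNoetherian_proj _
  haveI : TopologicalSpace.NoetherianSpace X := ι.isClosedEmbedding.isInducing.noetherianSpace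
  obtain ⟨l, hl, hcov⟩ := LinProj5.exists_linear_cover (d := d) ι hd
  let π := LinProj5.proj l hl ι hcov
  have hπ : π ≫ CohB1.ProjSpace.toSpec d k = ι ≫ CohB1.ProjSpace.toSpec n k := LinProj5.proj_toSpec l hl ι hcov
  haveI : IsAffineHom π := LinProj5.isAffineHom_proj l hl ι hcov
  haveI : IsProper (CohB1.ProjSpace.toSpec n k) := PnCoh.Chow.isProper_toSpec n k
  haveI : IsProper (CohB1.ProjSpace.toSpec d k) := PnCoh.Chow.isProper_toSpec d k
  haveI : IsProper π := by
    haveI : IsProper (π ≫ CohB1.ProjSpace.toSpec d k) := hπ ▸ inferInstance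
    exact IsProper.of_comp π (CohB1.ProjSpace.toSpec d k)
  haveI : IsFinite π := IsFinite.iff_isProper_and_isAffineHom.2 ⟨inferInstance, inferInstance⟩
  refine ⟨π, hπ, inferInstance, ⟨fun y => ?_⟩⟩
  haveI : AlgebraicGeometry.IsIntegral (CohB1.ProjSpace d k) := H23.PnChart.isIntegral_projSpace d k
  have hdX : ⨆ x : X, ((Order.height x : ℕ∞) : WithBot ℕ∞) = (d : WithBot ℕ∞) :=
    (VarDim.topologicalKrullDim_eq_iSup_height X).symm.trans hd
  have hdP : ⨆ x : CohB1.ProjSpace d k, ((Order.height x : ℕ∞) : WithBot ℕ∞) = (d : WithBot ℕ∞) :=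
    (VarDim.topologicalKrullDim_eq_iSup_height (CohB1.ProjSpace d k)).symm.trans (S10829.result k d)
  haveI : Nonempty X := by
    by_contra h
    haveI := not_nonempty_iff.1 h
    rw [iSup_of_empty] at hdX
    exact WithBot.bot_ne_coe hdX
  obtain ⟨x, hx⟩ : ∃ x : X, Order.height x = (d : ℕ∞) := by
    have h0 : (⨆ x : X, Order.height x) = (d : ℕ∞) := by
      rw [← WithBot.coe_iSup (OrderTop.bddAbove _)] at hdX
      exact WithBot.coe_injective hdX
    obtain ⟨x, hx⟩ := ENat.exists_eq_iSup_of_lt_top (f := fun x : X => Order.height x)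
      (by rw [h0]; exact WithTop.coe_lt_top d)
    exact ⟨x, hx.trans h0⟩
  have hgen : π x = genericPoint (CohB1.ProjSpace d k) := by
    by_contra hne
    have hlt : π x < genericPoint (CohB1.ProjSpace d k) :=
      lt_of_le_not_ge (genericPoint_specializes _ : _ ⤳ _) fun h => hne ((genericPoint_specializes (π x)).antisymm h).eq.symm
    have h1 := Order.height_add_one_le hlt
    rw [← GrpSchLib.height_apply_of_isIntegralHom π x, hx] at h1
    have h2 : ((Order.height (genericPoint (CohB1.ProjSpace d k)) : ℕ∞) : WithBot ℕ∞) ≤ (d : WithBot ℕ∞) :=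
      hdP ▸ le_iSup (fun x : CohB1.ProjSpace d k => ((Order.height x : ℕ∞) : WithBot ℕ∞)) _
    have h3 : Order.height (genericPoint (CohB1.ProjSpace d k)) ≤ (d : ℕ∞) := WithBot.coe_le_coe.1 h2
    have : d + 1 ≤ d := by exact_mod_cast h1.trans h3
    omega
  have hy : y ∈ closure ({genericPoint (CohB1.ProjSpace d k)} : Set _) :=
    specializes_iff_mem_closure.1 (genericPoint_specializes y)
  exact closure_minimal (Set.singleton_subset_iff.2 (show genericPoint (CohB1.ProjSpace d k) ∈ Set.range π from ⟨x, hgen⟩)) π.isClosedMap.isClosed_range hy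

end Groth.Agent.S10864
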