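import Groth.Statements.S10865
import Groth.Agent.QCoh.DevissageIdeal

set_option autoImplicit false
universe u
open Coherent

namespace Groth.Agent.S10865

open CategoryTheory CategoryTheory.Limits AlgebraicGeometry in
/-- Let X be a nonempty Noetherian scheme and K an isomorphism-closed class of O_X-modules such that (a)
in a short exact sequence of coherent modules, if the middle and right terms lie in K so does the
left one, and if the two outer terms lie in K so does the middle one; (b) if a coherent F has some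
d-fold direct sum (d ≥ 1) in K then F lies in K. If for every integral closed subscheme i : Z → X
there is a coherent O_Z-module with nonzero stalk at the generic point whose direct image under i
lies in K, then every coherent O_X-module lies in K. (For the empty scheme the hypotheses hold for
the empty class, so X is taken nonempty here.) -/
theorem result (X : Scheme.{u}) [IsNoetherian X] [Nonempty X]
    (K : ObjectProperty X.Modules) [K.IsClosedUnderIsomorphisms]
    (ha : ∀ S : ShortComplex X.Modules, S.ShortExact → Coh.IsCoh S.X₁ → Coh.IsCoh S.X₂ → Coh.IsCoh S.X₃ →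
      (K S.X₂ → K S.X₃ → K S.X₁) ∧ (K S.X₁ → K S.X₃ → K S.X₂))
    (hb : ∀ (F : X.Modules) (d : ℕ), 1 ≤ d → Coh.IsCoh F → K (∐ fun _ : Fin d => F) → K F)
    (hgen : ∀ (Z : Scheme.{u}) (i : Z ⟶ X) [IsClosedImmersion i] [IsIntegral Z],
      ∃ H : Z.Modules, Coh.IsCoh H ∧ Nontrivial (H.presheaf.stalk (genericPoint Z)) ∧
        K ((Scheme.Modules.pushforward i).obj H))
    (F : X.Modules) (hF : Coh.IsCoh F) : K F := by
  haveI := Groth.Agent.QCoh.hasFiniteBiproducts X
  have hzero : ∀ M : X.Modules, Limits.IsZero M → K M := fun M hM => by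
    let x : X := Classical.arbitrary X
    haveI := Groth.Agent.QCoh.isIntegral_closure_point (X := X) x
    let i := Scheme.IdealSheafData.subschemeι
      (Scheme.IdealSheafData.vanishingIdeal (TopologicalSpace.Closeds.closure {x}))
    obtain ⟨H, hH, -, hK⟩ := hgen _ i
    have hG := Groth.Agent.QCoh.isCoh_push i hH
    have hS : (ShortComplex.mk (0 : M ⟶ (Coh.push i).obj H) (𝟙 _) Limits.zero_comp).ShortExact :=
      .mk' (ShortComplex.exact_of_f_is_kernel _ (Limits.KernelFork.IsLimit.ofι _ _
        (fun _ _ => 0) (fun g hg => by rw [Limits.zero_comp]; simpa using hg.symm)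
        (fun _ _ _ _ => hM.eq_of_tgt _ _))) ⟨fun _ _ _ => hM.eq_of_tgt _ _⟩ inferInstance
    exact (ha _ hS (Groth.Agent.QCoh.isCoh_isZero hM hG) hG hG).1 hK hK
  refine Groth.Agent.QCoh.devissage K (fun M N h hM => K.prop_of_iso h.some hM) hzero Set.univ
    (fun S hS a b c _ => (ha S hS a b c).2) (fun ξ _ hsmall Z i _ _ hr => ?_)
    (fun S hS a b c _ => (ha S hS a b c).1) hF (Set.subset_univ _)
  haveI : IsNoetherian Z :=
    { __ := LocallyOfFiniteType.isLocallyNoetherian i
      __ := QuasiCompact.compactSpace_of_compactSpace i }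
  obtain ⟨H, hH, hnt, hK⟩ := hgen Z i
  have hξ : i (genericPoint Z) = ξ :=
    (inseparable_iff_closure_eq.2 ((Groth.Agent.QCoh.range_eq_closure i).symm.trans hr)).eq
  have hG := Groth.Agent.QCoh.isCoh_push i hH
  have hGs : CohB1.support ((Coh.push i).obj H) ⊆ closure {ξ} :=
    (Groth.Agent.QCoh.support_push_subset i hH.1).trans hr.le
  obtain ⟨U, hU, hξU⟩ := Groth.Agent.QCoh.exists_affine_mem (i (genericPoint Z))
  have hkill : ∀ a : Γ(X, U), i (genericPoint Z) ∉ X.basicOpen a →
      ∀ m : Γ((Coh.push i).obj H, U), a • m = 0 := fun a hax m => by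
    refine (Groth.Agent.QCoh.pushforward_smul i U a m).trans ?_
    have h0 : i.app U a = 0 := by
      by_contra hne
      have h' := (Groth.Agent.QCoh.ne_zero_iff_mem_basicOpen (i.app U a)).1 hne
      rw [← Scheme.preimage_basicOpen] at h'
      exact hax h'
    rw [h0]
    exact zero_smul Γ(Z, i ⁻¹ᵁ U) (show Γ(H, i ⁻¹ᵁ U) from m)
  obtain ⟨r, I, ι, φ, hι, hI, hI0, hφ, hc, hr0⟩ := Groth.Agent.QCoh.exists_sum_ideal hG i hU hξU hkill
  have hmem : i (genericPoint Z) ∈ CohB1.support ((Coh.push i).obj H) := by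
    have hA := hU.preimage i
    obtain ⟨m, hm⟩ := (Groth.Agent.QCoh.mem_support_iff hH.1 hA hξU).1
      (not_subsingleton_iff_nontrivial.2 hnt)
    refine (Groth.Agent.QCoh.mem_support_iff hG.1 hU hξU).2 ⟨m, fun f hf h0 => hm (i.app U f) ?_ ?_⟩
    · rw [← Scheme.preimage_basicOpen]; exact hf
    · exact (Groth.Agent.QCoh.pushforward_smul i U f m).symm.trans h0
  haveI := hφ
  have hS := Groth.Agent.QCoh.isCoh_biproduct (fun _ : ULift.{u} (Fin r) => (Coh.push i).obj I)
    fun _ => Groth.Agent.QCoh.isCoh_push i hI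
  have hC := Groth.Agent.QCoh.isCoh_cokernel hS.1 hG φ
  have hsum : K (⨁ fun _ : ULift.{u} (Fin r) => (Coh.push i).obj I) :=
    (ha (ShortComplex.mk φ (Limits.cokernel.π φ) (Limits.cokernel.condition φ))
      (.mk' (ShortComplex.exact_of_g_is_cokernel _ (Limits.cokernelIsCokernel φ)) hφ inferInstance)
      hS hG hC).1 hK (hsmall _ hC
        ((Groth.Agent.QCoh.support_of_epi hG.1 hC.1 (Limits.cokernel.π φ)).trans hGs) (hξ ▸ hc))
  have hIc := Groth.Agent.QCoh.isCoh_push i hI
  have hKI : K ((Coh.push i).obj I) := hb _ r (hr0 hmem) hIc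
    (K.prop_of_iso ((Limits.biproduct.whiskerEquiv Equiv.ulift.{u} fun _ => Iso.refl _) ≪≫
      Limits.biproduct.isoCoproduct _) hsum)
  haveI : Mono ((Coh.push i).map ι) := Functor.map_mono _ ι
  have hO := Groth.Agent.QCoh.isCoh_push_structure i
  have hC' := Groth.Agent.QCoh.isCoh_cokernel hIc.1 hO ((Coh.push i).map ι)
  refine (ha (ShortComplex.mk ((Coh.push i).map ι) (Limits.cokernel.π _) (Limits.cokernel.condition _))
    (.mk' (ShortComplex.exact_of_g_is_cokernel _ (Limits.cokernelIsCokernel _)) ‹_› inferInstance)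
    hIc hO hC').2 hKI (hsmall _ hC' ?_ (hξ ▸ (Groth.Agent.QCoh.mem_support_push_ideal i ι hI.1 hI0).2))
  exact ((Groth.Agent.QCoh.support_of_epi hO.1 hC'.1 (Limits.cokernel.π _)).trans
    (Groth.Agent.QCoh.support_push_subset i Groth.Agent.QCoh.isQCoh_structureModule)).trans hr.le

end Groth.Agent.S10865
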