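import Groth.Statements.S10866
import Groth.Agent.QCoh.DevissageTheta

set_option autoImplicit false
universe u
open Coherent

namespace Groth.Agent.S10866
set_option backward.isDefEq.respectTransparency false
set_option backward.isDefEq.respectTransparency.types false
open CategoryTheory CategoryTheory.Limits AlgebraicGeometry TopologicalSpace
namespace Aux
theorem isNoetherian_closed {X Z : Scheme.{u}} [IsNoetherian X] (i : Z ⟶ X) [IsClosedImmersion i] : IsNoetherian Z := by
  haveI : CompactSpace Z := i.isClosedEmbedding.compactSpace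
  haveI : IsLocallyNoetherian Z := LocallyOfFiniteType.isLocallyNoetherian i
  exact {}

theorem eq_zero_of_generic {Z : Scheme.{u}} [IsIntegral Z] {U : Z.Opens} (a : Γ(Z, U))
    (ha : (𝟙 Z : Z ⟶ Z) (genericPoint Z) ∉ Z.basicOpen a) : a = 0 := by
  by_contra h
  exact ha ((QCoh.ne_zero_iff_mem_basicOpen a).1 h)

theorem isCoh_push_ext {X Y : Scheme.{u}} [IsNoetherian Y] (f : X ⟶ Y) [QuasiCompact f] [QuasiSeparated f]
    {S : ShortComplex X.Modules} (hS : S.ShortExact) (h2 : Coh.IsQCoh S.X₂)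
    (p1 : Coh.IsCoh ((Scheme.Modules.pushforward f).obj S.X₁))
    (p3 : Coh.IsCoh ((Scheme.Modules.pushforward f).obj S.X₃)) :
    Coh.IsCoh ((Scheme.Modules.pushforward f).obj S.X₂) := by
  refine QCoh.isCoh_iff.2 ⟨QCoh.isQCoh_pushforward f h2, fun U => ?_⟩
  haveI := QCoh.noetherian_sections U
  haveI := QCoh.finite_sections p1 U.2
  haveI := QCoh.finite_sections p3 U.2
  let a := (Scheme.Modules.pushforward f).map S.f
  let b := (Scheme.Modules.pushforward f).map S.g
  let la : Γ((Scheme.Modules.pushforward f).obj S.X₁, U.1) →ₗ[Γ(Y, U.1)] Γ((Scheme.Modules.pushforward f).obj S.X₂, U.1) :=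
    { toFun := a.app U.1, map_add' := map_add (a.app U.1).hom, map_smul' := fun r x => a.app_smul r x }
  let lb : Γ((Scheme.Modules.pushforward f).obj S.X₂, U.1) →ₗ[Γ(Y, U.1)] Γ((Scheme.Modules.pushforward f).obj S.X₃, U.1) :=
    { toFun := b.app U.1, map_add' := map_add (b.app U.1).hom, map_smul' := fun r x => b.app_smul r x }
  refine ⟨Submodule.fg_of_fg_map_of_fg_inf_ker lb (IsNoetherian.noetherian _) ?_⟩
  rw [top_inf_eq, show LinearMap.ker lb = LinearMap.range la from le_antisymm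
    (fun x hx => QCoh.exists_app_f_eq hS (f ⁻¹ᵁ U.1) x hx)
    (by rintro _ ⟨y, rfl⟩; exact QCoh.app_g_f (S := S) (f ⁻¹ᵁ U.1) y)]
  exact Module.Finite.iff_fg.1 inferInstance

theorem support_structure {X Z : Scheme.{u}} (i : Z ⟶ X) [IsClosedImmersion i] :
    CohB1.support ((Scheme.Modules.pushforward i).obj (Coh.structureModule Z)) ⊆ Set.range i :=
  QCoh.support_push_subset i QCoh.isQCoh_structureModule

theorem notMem_cokernel {X Z : Scheme.{u}} [IsNoetherian X] (i : Z ⟶ X) [IsClosedImmersion i] [IsIntegral Z]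
    {J : Z.Modules} (ιJ : J ⟶ Coh.structureModule Z) [Mono ιJ] (hJ : Coh.IsCoh J) (hJ0 : ¬ IsZero J) {ξ : X}
    (hr : Set.range i = closure {ξ}) :
    ξ ∉ CohB1.support (cokernel ((Scheme.Modules.pushforward i).map ιJ)) := by
  have hξ : i (genericPoint Z) = ξ :=
    (inseparable_iff_closure_eq.2 ((QCoh.range_eq_closure i).symm.trans hr)).eq
  obtain ⟨V, hV, hξV⟩ := QCoh.exists_affine_mem ξ
  have hW : IsAffineOpen (i ⁻¹ᵁ V) := hV.preimage i
  have hηW : genericPoint Z ∈ i ⁻¹ᵁ V := by show i (genericPoint Z) ∈ V; rw [hξ]; exact hξV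
  obtain ⟨y, hy⟩ : ∃ y : Γ(J, i ⁻¹ᵁ V), y ≠ 0 := by
    by_contra h
    push Not at h
    haveI : Nonempty ↥(i ⁻¹ᵁ V) := ⟨⟨_, hηW⟩⟩
    refine hJ0 (QCoh.isZero_of_app_eq_zero hJ.1 fun W x => ?_)
    by_contra hx
    have hx' : ιJ.app W.1 x ≠ 0 := fun h0 => hx (QCoh.app_injective ιJ W.1 (h0.trans (map_zero _).symm))
    obtain ⟨g, hg, hηg⟩ := hW.exists_basicOpen_le (V := W.1)
      ⟨genericPoint Z, Z.basicOpen_le _ ((QCoh.ne_zero_iff_mem_basicOpen (show Γ(Z, W.1) from ιJ.app W.1 x)).1 hx')⟩ hηW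
    obtain ⟨n, z, hz⟩ := QCoh.exists_pow_smul_eq_map hJ.1 hW g (J.presheaf.map (homOfLE hg).op x)
    have h1 : IsUnit (Z.presheaf.map (homOfLE (Z.basicOpen_le g)).op g) :=
      RingedSpace.isUnit_res_basicOpen Z.toRingedSpace g
    rw [h z, map_zero] at hz
    have h2 := (h1.pow n).smul_left_cancel.1 (hz.symm.trans (smul_zero _).symm)
    have h3 : (ιJ.app W.1 x : Γ(Z, W.1)) = 0 := by
      apply map_injective_of_isIntegral Z (homOfLE hg) (H := ⟨⟨_, hηg⟩⟩)
      refine Eq.trans ?_ (map_zero _).symm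
      exact (QCoh.map_app_comm ιJ (homOfLE hg) x).symm.trans ((congrArg (ιJ.app _) h2).trans (map_zero _))
    exact hx' h3
  have hb : ιJ.app _ y ≠ 0 := fun h0 => hy (QCoh.app_injective ιJ _ (h0.trans (map_zero _).symm))
  obtain ⟨a, ha⟩ := i.app_surjective V hV (show Γ(Z, i ⁻¹ᵁ V) from ιJ.app _ y)
  have hηa : ξ ∈ X.basicOpen a := by
    have h := (QCoh.ne_zero_iff_mem_basicOpen (show Γ(Z, i ⁻¹ᵁ V) from ιJ.app _ y)).1 hb
    rw [← ha, ← Scheme.preimage_basicOpen] at h
    rw [← hξ]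
    exact h
  refine QCoh.notMem_support_cokernel (QCoh.isQCoh_pushforward i hJ.1)
    (QCoh.isQCoh_pushforward i QCoh.isQCoh_structureModule) _ hV hξV fun z => ⟨a, hηa,
      (show Γ(Z, i ⁻¹ᵁ V) from z) • y, ?_⟩
  show ιJ.app (i ⁻¹ᵁ V) ((show Γ(Z, i ⁻¹ᵁ V) from z) • y) = i.app V a * (show Γ(Z, i ⁻¹ᵁ V) from z)
  rw [Scheme.Modules.Hom.app_smul, ha]
  exact mul_comm (show Γ(Z, i ⁻¹ᵁ V) from z) (show Γ(Z, i ⁻¹ᵁ V) from ιJ.app _ y)
end Aux

open CategoryTheory AlgebraicGeometry in
/-- Let f : X → Y be a morphism of Noetherian schemes such that for every integral closed subscheme i :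
Z → X there is a coherent O_Z-module with nonzero stalk at the generic point of Z whose direct image
under i followed by f is coherent on Y. Then the direct image f_*F of every coherent O_X-module F is
coherent. -/
theorem result {X Y : Scheme.{u}} [IsNoetherian X] [IsNoetherian Y]
    (f : X ⟶ Y)
    (hgen : ∀ (Z : Scheme.{u}) (i : Z ⟶ X) [IsClosedImmersion i] [IsIntegral Z],
      ∃ H : Z.Modules, Coh.IsCoh H ∧ Nontrivial (H.presheaf.stalk (genericPoint Z)) ∧
        Coh.IsCoh ((Scheme.Modules.pushforward (i ≫ f)).obj H))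
    (F : X.Modules) (hF : Coh.IsCoh F) : Coh.IsCoh ((Scheme.Modules.pushforward f).obj F) := by
  haveI : QuasiSeparated f := inferInstance
  haveI : QuasiCompact f := ⟨fun U hU _ => NoetherianSpace.isCompact _⟩
  haveI := QCoh.hasFiniteBiproducts
  let P : X.Modules → Prop := fun M => Coh.IsCoh ((Scheme.Modules.pushforward f).obj M)
  have hsub : ∀ {L M : X.Modules} (k : L ⟶ M) [Mono k], P M → Coh.IsQCoh L → P L := fun k _ hM hL =>
    QCoh.isCoh_of_mono ((Scheme.Modules.pushforward f).map k) hM (QCoh.isQCoh_pushforward f hL)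
  have hiso : ∀ M N : X.Modules, Nonempty (M ≅ N) → P M → P N := fun M N ⟨e⟩ hM => by
    have hN : Coh.IsQCoh ((Scheme.Modules.pushforward f).obj N) :=
      (QCoh.isQCoh_iff_iso ((Scheme.Modules.pushforward f).mapIso e)).1 hM.1
    exact QCoh.isCoh_of_epi ((Scheme.Modules.pushforward f).mapIso e).hom hM hN
  have h0 : ∀ M : X.Modules, IsZero M → P M := fun M hM => by
    have hq := QCoh.isQCoh_structureModule (X := Y)
    exact QCoh.isCoh_isZero ((Scheme.Modules.pushforward f).map_isZero hM) (QCoh.isCoh_structureModule' (X := Y))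
  refine QCoh.devissage_ideals P hiso h0 Set.univ (fun S hS h1 h2 h3 p1 p3 => ?_)
    (fun ξ _ hsmall Z i _ _ hr I ι hι hI hI0 => ?_) hF (Set.subset_univ _)
  · exact Aux.isCoh_push_ext f hS h2.1 p1 p3
  haveI : IsNoetherian Z := Aux.isNoetherian_closed i
  obtain ⟨H, hH, hHη, hHP⟩ := hgen Z i
  have hHP' : P ((Scheme.Modules.pushforward i).obj H) := by
    have e := (Scheme.Modules.pushforwardComp i f).app H
    exact QCoh.isCoh_of_epi e.inv hHP ((QCoh.isQCoh_iff_iso e).2 hHP.1)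
  have hsupp : genericPoint Z ∈ CohB1.support H := not_subsingleton_iff_nontrivial.2 hHη
  obtain ⟨U, hU, hηU⟩ := QCoh.exists_affine_mem (genericPoint Z)
  obtain ⟨r, J, ιJ, φ, hιJ, hJc, hJ0, hφ, -, hr0⟩ := QCoh.exists_sum_ideal hH (𝟙 Z) hU hηU
    (fun a ha m => by
      rw [Aux.eq_zero_of_generic a ha, zero_smul])
  haveI := hιJ
  haveI := hφ
  let k : J ⟶ H := ((Scheme.Modules.pushforwardId Z).app J).inv ≫
    biproduct.ι (fun _ : ULift.{u} (Fin r) => (Coh.push (𝟙 Z)).obj J) ⟨⟨0, hr0 hsupp⟩⟩ ≫ φ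
  haveI : Mono k := inferInstance
  haveI : PreservesFiniteLimits (Scheme.Modules.pushforward i) :=
    inferInstance
  have hPJ : P ((Scheme.Modules.pushforward i).obj J) :=
    hsub ((Scheme.Modules.pushforward i).map k) hHP' (QCoh.isQCoh_pushforward i hJc.1)
  have hA : Coh.IsCoh ((Scheme.Modules.pushforward i).obj (Coh.structureModule Z)) := QCoh.isCoh_push_structure i
  have hiJ : Coh.IsCoh ((Scheme.Modules.pushforward i).obj J) :=
    QCoh.isCoh_of_mono ((Scheme.Modules.pushforward i).map ιJ) hA (QCoh.isQCoh_pushforward i hJc.1)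
  let g := (Scheme.Modules.pushforward i).map ιJ
  have hC := QCoh.isCoh_cokernel hiJ.1 hA g
  have hsO : CohB1.support ((Scheme.Modules.pushforward i).obj (Coh.structureModule Z)) ⊆ closure {ξ} := by
    refine (Aux.support_structure i).trans ?_
    rw [hr]
  have hPO : P ((Scheme.Modules.pushforward i).obj (Coh.structureModule Z)) := by
    refine Aux.isCoh_push_ext f (S := ShortComplex.mk g (cokernel.π g) (cokernel.condition g))
      (.mk' (ShortComplex.exact_of_g_is_cokernel _ (cokernelIsCokernel g)) inferInstance inferInstance) hA.1 hPJ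
      (hsmall _ hC ((QCoh.support_of_epi hA.1 hC.1 (cokernel.π g)).trans hsO) ?_)
    exact Aux.notMem_cokernel i ιJ hJc hJ0 hr
  exact hsub ((Scheme.Modules.pushforward i).map ι) hPO (QCoh.isQCoh_pushforward i hI)

end Groth.Agent.S10866
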