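import Groth.Statements.S10868
import Groth.Agent.MorLib.IndQA

set_option autoImplicit false
universe u
open Mor

namespace Groth.Agent.S10868

open CategoryTheory AlgebraicGeometry in
/-- f : X → Y is a finite morphism exactly when it is proper and quasi-affine (quasi-compact, with the
inverse image of every affine open subscheme of Y a quasi-affine scheme). -/
theorem result {X Y : Scheme.{u}} (f : X ⟶ Y) :
    IsFinite f ↔ IsProper f ∧ Mor2.IsQuasiAffine f := by
  refine ⟨fun h => ⟨inferInstance, inferInstance, fun V hV => ?_⟩, fun ⟨hp, hq⟩ => ?_⟩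
  · haveI : IsAffine (f ⁻¹ᵁ V : Scheme.{u}) := hV.preimage f
    infer_instance
  · refine IsFinite.iff_isProper_and_isAffineHom.mpr ⟨hp, ⟨fun V hV => ?_⟩⟩
    haveI := hq.2 V hV
    haveI : IsAffine (V : Scheme.{u}) := hV
    let Q : Scheme.{u} := f ⁻¹ᵁ V
    haveI : UniversallyClosed (Q.toSpecΓ ≫ Spec.map (f ∣_ V).appTop) := by
      rw [← Scheme.toSpecΓ_naturality]; infer_instance
    haveI : UniversallyClosed Q.toSpecΓ := .of_comp_of_isSeparated _ (Spec.map (f ∣_ V).appTop)
    haveI : IsClosedImmersion Q.toSpecΓ :=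
      IsClosedImmersion.of_isPreimmersion _ Q.toSpecΓ.isClosedMap.isClosed_range
    exact isAffine_of_isAffineHom Q.toSpecΓ

end Groth.Agent.S10868
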