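import Groth.Statements.S1087
import Groth.Agent.FilLib.Trunc

set_option autoImplicit false
universe v u
open CategoryTheory CategoryTheory.Limits Opposite
open FilD

namespace Groth.Agent.S1087

/-- Let K be a cochain complex of finite filtered objects of an abelian category such that Hⁿ(grᵖ K) = 0
for all p and all n < a. Then there is a filtered quasi-isomorphism K ⟶ L with Lⁿ = 0 for all n < a. -/
theorem result {A : Type u} [Category.{v} A] [Abelian A] (K : CochainComplex (FilD.FilF A) ℤ) (a : ℤ)
    (hK : ∀ (p n : ℤ), n < a → IsZero (((FilD.grCx p).obj K).homology n)) :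
    ∃ (L : CochainComplex (FilD.FilF A) ℤ) (φ : K ⟶ L), L.IsStrictlyGE a ∧ FilD.IsFilteredQuasiIso φ := by
  exact Groth.Agent.FilLib.exists_low' K a hK

end Groth.Agent.S1087
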