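import Groth.Statements.S10870
import Groth.Agent.PlLib.DetRing
import Groth.Agent.VarDim.Basic
import Mathlib.RingTheory.Flat.FaithfullyFlat.Algebra
import Mathlib.RingTheory.TensorProduct.MvPolynomial
import Mathlib.FieldTheory.IsAlgClosed.AlgebraicClosure

set_option autoImplicit false
universe u
open CAlgX

namespace Groth.Agent.S10870

attribute [local instance] MvPolynomial.algebraMvPolynomial in
theorem dim_descend (k L : Type u) [Field k] [Field L] [Algebra k L] [Algebra.IsIntegral k L] {σ : Type}
    (I : Ideal (MvPolynomial σ k)) :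
    ringKrullDim (MvPolynomial σ L ⧸ I.map (MvPolynomial.map (algebraMap k L))) =
      ringKrullDim (MvPolynomial σ k ⧸ I) := by
  let A := MvPolynomial σ k
  let B := MvPolynomial σ L
  haveI : Algebra.IsIntegral A B := ⟨fun x => by
    induction x using MvPolynomial.induction_on with
    | C c =>
      rw [← MvPolynomial.algebraMap_eq]
      exact ((Algebra.IsIntegral.isIntegral (R := k) c).map (IsScalarTower.toAlgHom k L B)).tower_top
    | add p q hp hq => exact hp.add hq
    | mul_X p i hp =>
      refine hp.mul ?_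
      rw [show (MvPolynomial.X i : B) = algebraMap A B (MvPolynomial.X i) from (MvPolynomial.map_X _ i).symm]
      exact isIntegral_algebraMap⟩
  haveI : Module.Flat A B := Module.Flat.isBaseChange k A L B (Algebra.IsPushout.out (R := k) (S := A) (R' := L) (S' := B))
  haveI : Module.FaithfullyFlat A B := inferInstance
  let J : Ideal B := I.map (algebraMap A B)
  haveI : J.LiesOver I := ⟨(Ideal.comap_map_eq_self_of_faithfullyFlat (A := A) (B := B) I).symm⟩
  haveI : Algebra.IsIntegral (A ⧸ I) (B ⧸ J) := inferInstance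
  haveI : FaithfulSMul (A ⧸ I) (B ⧸ J) := inferInstance
  exact Groth.Agent.VarDim.ringKrullDim_eq_of_isIntegral (R := A ⧸ I) (S := B ⧸ J)

theorem dim_algClosed (K : Type u) [Field K] [Infinite K] (n m r : ℕ) (hn : 0 < n) (hr : r ≤ min n m) :
    ringKrullDim (MvPolynomial (Fin m × Fin n) K ⧸
      CAlgX.minorIdeal (W4bk4grassmannian.genMatrix K m n) (r + 1)) = ((r * (n + m - r) : ℕ) : WithBot ℕ∞) := by
  have h : ∀ s, s ≤ m → s ≤ n → (s ≤ r ↔ s < r + 1) := fun s _ _ => by omega
  have hI := Groth.Agent.PlLib.cellIdeal_cellPhi (m := m) (n := n) K (σ := r) (t := r + 1) (by omega) (by omega) h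
  rw [← hI, (Groth.Agent.PlLib.cm_and_dim_cell (K := K) (r := m) hn _).2, Groth.Agent.PlLib.codeg_cellPhi]


/-- For a field k and 0 ≤ r ≤ min(n, m), the affine determinantal scheme of n × m matrices of rank at
most r over k — the spectrum of the polynomial ring on the entries of the generic n × m matrix
modulo the ideal of its (r+1) × (r+1) minors — has dimension r(m + n − r). -/
theorem result (k : Type u) [Field k] (n m r : ℕ) (hr : r ≤ min n m) :
    ringKrullDim (MvPolynomial (Fin n × Fin m) k ⧸ CAlgX.minorIdeal (Matrix.of fun (i : Fin n) (j : Fin m) => (MvPolynomial.X (i, j) : MvPolynomial (Fin n × Fin m) k)) (r + 1)) =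
      ((r * (m + n - r) : ℕ) : WithBot ℕ∞) := by
  rcases Nat.eq_zero_or_pos m with rfl | hm
  · obtain rfl : r = 0 := by omega
    have h0 : CAlgX.minorIdeal (Matrix.of fun (i : Fin n) (j : Fin 0) => (MvPolynomial.X (i, j) : MvPolynomial (Fin n × Fin 0) k)) (0 + 1) = ⊥ := by
      rw [CAlgX.minorIdeal, Ideal.span_eq_bot]
      rintro _ ⟨⟨f, g⟩, rfl⟩
      exact (g 0).elim0
    rw [h0, ringKrullDim_eq_of_ringEquiv (RingEquiv.quotientBot _), MvPolynomial.ringKrullDim_of_isNoetherianRing,
      ringKrullDim_eq_zero_of_field]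
    simp
  let L := AlgebraicClosure k
  rw [← dim_descend k L (CAlgX.minorIdeal (Matrix.of fun (i : Fin n) (j : Fin m) => (MvPolynomial.X (i, j) : MvPolynomial (Fin n × Fin m) k)) (r + 1))]
  have hmap : (CAlgX.minorIdeal (Matrix.of fun (i : Fin n) (j : Fin m) => (MvPolynomial.X (i, j) : MvPolynomial (Fin n × Fin m) k)) (r + 1)).map
      (MvPolynomial.map (algebraMap k L)) = CAlgX.minorIdeal (W4bk4grassmannian.genMatrix L n m) (r + 1) := by
    rw [CAlgX.minorIdeal, CAlgX.minorIdeal, Ideal.map_span, ← Set.range_comp]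
    congr 2
    funext fg
    simp only [Function.comp_apply, RingHom.map_det]
    congr 1
    ext i j
    simp [W4bk4grassmannian.genMatrix]
  rw [hmap, dim_algClosed L m n r hm (by omega)]


end Groth.Agent.S10870
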