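import Groth.Statements.S10871
import Mathlib

set_option autoImplicit false
universe u
open AlgebraicGeometry
open Curves

namespace Groth.Agent.S10871

/-- Every open subscheme of the spectrum of a Dedekind domain is affine. -/
theorem result (A : Type u) [CommRing A] [IsDedekindDomain A]
    (U : (Spec (CommRingCat.of A)).Opens) : IsAffineOpen U := by
  classical
  by_cases hU : U = ⊥
  · subst hU; exact isAffineOpen_bot _
  let bot' : PrimeSpectrum A := ⟨⊥, Ideal.isPrime_bot⟩
  have h0 : bot' ∈ (U.1 : Set (PrimeSpectrum A)) := by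
    by_contra h
    refine hU (bot_unique fun x hx => ?_)
    have : bot' ⤳ (x : PrimeSpectrum A) := (PrimeSpectrum.le_iff_specializes _ _).1 bot_le
    exact absurd (this.mem_open U.isOpen hx) h
  have hfin : ∀ W : Set (PrimeSpectrum A), IsClosed W → bot' ∉ W → W.Finite := by
    intro W hW h0
    obtain ⟨I, rfl⟩ := (PrimeSpectrum.isClosed_iff_zeroLocus_ideal W).1 hW
    have hI : I ≠ ⊥ := fun h => h0 (by simp [h, bot'])
    refine Set.Finite.of_finite_image (f := PrimeSpectrum.asIdeal) (Set.Finite.subset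
      ((Ideal.finite_factors hI).image (fun v => v.asIdeal)) ?_) (fun a _ b _ h => PrimeSpectrum.ext h)
    rintro _ ⟨q, hq, rfl⟩
    have hq' : I ≤ q.asIdeal := hq
    have hne : q.asIdeal ≠ ⊥ := fun h => hI (le_bot_iff.1 (h ▸ hq'))
    exact ⟨⟨q.asIdeal, q.isPrime, hne⟩, Ideal.dvd_iff_le.2 hq', rfl⟩
  have : IsAffineHom U.ι := by
    refine isAffineHom_of_forall_exists_isAffineOpen _ fun (x : PrimeSpectrum A) => ?_
    have key : ∃ g : A, g ∉ x.asIdeal ∧
        IsAffineOpen (X := Spec (CommRingCat.of A)) (PrimeSpectrum.basicOpen g ⊓ U) := by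
      by_cases hx : x ∈ (U.1 : Set (PrimeSpectrum A))
      · obtain ⟨_, ⟨_, ⟨g, rfl⟩, rfl⟩, hxg, hgU⟩ :=
          PrimeSpectrum.isBasis_basic_opens.exists_subset_of_mem_open hx U.isOpen
        refine ⟨g, hxg, ?_⟩
        have he : (PrimeSpectrum.basicOpen g : (Spec (CommRingCat.of A)).Opens) ⊓ U = PrimeSpectrum.basicOpen g :=
          inf_eq_left.2 hgU
        exact he.symm ▸ IsAffineOpen.Spec_basicOpen (R := CommRingCat.of A) g
      · have hne : x.asIdeal ≠ ⊥ := fun h => hx ((PrimeSpectrum.ext h : x = bot') ▸ h0)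
        obtain ⟨π, hπ, hπ0⟩ := (Submodule.ne_bot_iff _).1 hne
        have hT : ((PrimeSpectrum.zeroLocus {π}) ∪ (U.1 : Set (PrimeSpectrum A))ᶜ).Finite :=
          hfin _ ((PrimeSpectrum.isClosed_zeroLocus _).union U.isOpen.isClosed_compl)
            (by rintro (h | h); exacts [hπ0 (by simpa [bot'] using h), h h0])
        have hg : ∀ q ∈ hT.toFinset.erase x, ∃ g : A, g ∈ q.asIdeal ∧ g ∉ x.asIdeal := by
          intro q hq
          obtain ⟨hqx, hq⟩ := Finset.mem_erase.1 hq
          have hqne : q.asIdeal ≠ ⊥ := by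
            intro h
            rw [Set.Finite.mem_toFinset, (PrimeSpectrum.ext h : q = bot')] at hq
            rcases hq with h' | h'; exacts [hπ0 (by simpa [bot'] using h'), h' h0]
          by_contra hcon
          push Not at hcon
          exact hqx (PrimeSpectrum.ext ((q.isPrime.isMaximal hqne).eq_of_le x.isPrime.ne_top hcon))
        choose! g hgq hgx using hg
        refine ⟨∏ q ∈ hT.toFinset.erase x, g q, fun h => ?_, ?_⟩
        · obtain ⟨q, hq, h⟩ := (x.isPrime.prod_mem_iff).1 h
          exact hgx q hq h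
        have hmem : ∀ q : PrimeSpectrum A, (π ∈ q.asIdeal ∨ q ∉ (U.1 : Set (PrimeSpectrum A))) → q ≠ x →
            ∏ i ∈ hT.toFinset.erase x, g i ∈ q.asIdeal := fun q h hne => by
          have hq : q ∈ hT.toFinset.erase x := Finset.mem_erase.2 ⟨hne, hT.mem_toFinset.2 (h.imp (fun h => by simpa using h) id)⟩
          exact Ideal.mem_of_dvd _ (Finset.dvd_prod_of_mem _ hq) (hgq q hq)
        have he : (PrimeSpectrum.basicOpen (∏ q ∈ hT.toFinset.erase x, g q) ⊓ U : TopologicalSpace.Opens (PrimeSpectrum A)) =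
            PrimeSpectrum.basicOpen ((∏ q ∈ hT.toFinset.erase x, g q) * π) := by
          ext q
          simp only [TopologicalSpace.Opens.coe_inf, Set.mem_inter_iff, SetLike.mem_coe,
            PrimeSpectrum.mem_basicOpen, q.isPrime.mul_mem_iff_mem_or_mem, not_or]
          constructor
          · rintro ⟨h1, h2⟩
            exact ⟨h1, fun hπq => h1 (hmem q (Or.inl hπq) fun e => hx (e ▸ h2))⟩
          · rintro ⟨h1, h2⟩
            refine ⟨h1, by_contra fun hqU => h1 (hmem q (Or.inr hqU) fun e => h2 (e ▸ hπ))⟩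
        exact he ▸ IsAffineOpen.Spec_basicOpen _
    obtain ⟨g, hxg, haff⟩ := key
    refine ⟨PrimeSpectrum.basicOpen g, hxg, IsAffineOpen.Spec_basicOpen _, ?_⟩
    rw [← U.ι.isAffineOpen_iff_of_isOpenImmersion]
    erw [Scheme.Hom.image_preimage_eq_opensRange_inf]
    rw [Scheme.Opens.opensRange_ι]
    convert haff using 1
    exact inf_comm _ _
  exact isAffine_of_isAffineHom U.ι

end Groth.Agent.S10871
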