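import Groth.Statements.S10876
import Groth.Agent.LocalCrit.Flatness
import Mathlib.RingTheory.Flat.Equalizer
import Mathlib.RingTheory.LocalRing.ResidueField.Basic
import Mathlib.RingTheory.LocalRing.Quotient
import Mathlib.Tactic

set_option autoImplicit false
universe u
open TensorProduct
open CAlg

namespace Groth.Agent.S10876
open TensorProduct IsLocalRing

theorem ker_eq_bot_of_flat {R E P : Type u} [CommRing R] [AddCommGroup E] [Module R E]
    [AddCommGroup P] [Module R P] [Module.Flat R P] (f : E →ₗ[R] P) (hf : Function.Surjective f)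
    (I : Ideal R) (hI : IsNilpotent I) (h : LinearMap.ker f ≤ I • (⊤ : Submodule R E)) :
    LinearMap.ker f = ⊥ := by
  obtain ⟨k, hk⟩ := hI
  have hKinj := LinearMap.lTensor_injective_of_exact_of_flat (R := R) (M := ↥(LinearMap.ker f))
    f hf (LinearMap.ker f).subtype (LinearMap.ker f).subtype_injective
    (LinearMap.exact_subtype_ker_map f) (R ⧸ I)
  have hzero : ∀ z, (LinearMap.ker f).subtype.lTensor (R ⧸ I) z = 0 := fun z => by
    induction z using TensorProduct.induction_on with
    | zero => simp
    | add z w hz hw => rw [map_add, hz, hw, add_zero]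
    | tmul q y =>
      rw [LinearMap.lTensor_tmul]
      have : ∀ t ∈ I • (⊤ : Submodule R E), q ⊗ₜ[R] t = 0 := by
        intro t ht
        induction ht using Submodule.smul_induction_on' with
        | smul a ha w _ =>
          have hq : a • q = 0 := by
            obtain ⟨q, rfl⟩ := Ideal.Quotient.mk_surjective q
            exact Ideal.Quotient.eq_zero_iff_mem.2 (I.mul_mem_right q ha)
          rw [tmul_smul, smul_tmul', hq, zero_tmul]
        | add p _ r _ hp hr => rw [tmul_add, hp, hr, add_zero]
      exact this _ (h y.2)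
  haveI : Subsingleton ((R ⧸ I) ⊗[R] ↥(LinearMap.ker f)) :=
    ⟨fun z w => hKinj (by rw [hzero, hzero])⟩
  haveI : Subsingleton (↥(LinearMap.ker f) ⧸ I • (⊤ : Submodule R ↥(LinearMap.ker f))) :=
    (TensorProduct.quotTensorEquivQuotSMul _ I).symm.toEquiv.subsingleton
  have htop : I • (⊤ : Submodule R ↥(LinearMap.ker f)) = ⊤ :=
    Submodule.Quotient.subsingleton_iff.1 ‹_›
  have hpow : ∀ n, I ^ n • (⊤ : Submodule R ↥(LinearMap.ker f)) = ⊤ := by
    intro n
    induction n with
    | zero => simp
    | succ n ih => rw [pow_succ, ← smul_eq_mul, Submodule.smul_assoc, htop, ih]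
  rw [eq_bot_iff]
  intro x hx
  have h1 : (⟨x, hx⟩ : LinearMap.ker f) ∈ I ^ k • (⊤ : Submodule R ↥(LinearMap.ker f)) := by
    rw [hpow]; exact Submodule.mem_top
  rw [hk, Submodule.zero_eq_bot, Submodule.bot_smul, Submodule.mem_bot] at h1
  rw [Submodule.mem_bot]
  exact congrArg Subtype.val h1

theorem flat_of_injective_of_nilpotent {C C' M : Type u} [CommRing C] [IsLocalRing C] [CommRing C']
    [Algebra C C'] (hinj : Function.Injective (algebraMap C C'))
    (hnil : IsNilpotent (maximalIdeal C)) [AddCommGroup M] [Module C M]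
    [Module.Flat C' (C' ⊗[C] M)] : Module.Flat C M := by
  obtain ⟨k, hk⟩ := hnil
  let S : Submodule C M := maximalIdeal C • ⊤
  let m := maximalIdeal C
  letI : Module (ResidueField C) (M ⧸ S) :=
    (inferInstance : Module (C ⧸ m) (M ⧸ m • (⊤ : Submodule C M)))
  haveI : IsScalarTower C (ResidueField C) (M ⧸ S) :=
    (inferInstance : IsScalarTower C (C ⧸ m) (M ⧸ m • (⊤ : Submodule C M)))
  let b := Module.Free.chooseBasis (ResidueField C) (M ⧸ S)
  choose v hv using fun i => S.mkQ_surjective (b i)
  let ι := Module.Free.ChooseBasisIndex (ResidueField C) (M ⧸ S)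
  let π : (ι →₀ C) →ₗ[C] M := Finsupp.linearCombination C v
  have hπ0 : ∀ c : ι →₀ C, S.mkQ (π c) =
      Finsupp.linearCombination (ResidueField C) b (c.mapRange (residue C) (map_zero _)) := by
    intro c
    induction c using Finsupp.induction_linear with
    | zero => simp
    | add x y hx hy => rw [Finsupp.mapRange_add (map_add _), map_add, map_add, map_add, hx, hy]
    | single i a =>
      simp only [π, Finsupp.linearCombination_single, Finsupp.mapRange_single, map_smul, hv]
      exact (algebraMap_smul (ResidueField C) a (b i)).symm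
  have hsurj : Function.Surjective π := by
    have h1 : ∀ n, (⊤ : Submodule C M) ≤ LinearMap.range π ⊔ m ^ n • ⊤ := by
      intro n
      induction n with
      | zero => simp
      | succ n ih =>
        have h2 : (⊤ : Submodule C M) ≤ LinearMap.range π ⊔ m • ⊤ := fun x _ => by
          obtain ⟨c, hc⟩ := Finsupp.mapRange_surjective (residue C) (map_zero _)
            residue_surjective (b.repr (S.mkQ x))
          have h3 : S.mkQ (π c) = S.mkQ x := by
            rw [hπ0, hc]; exact b.linearCombination_repr _
          rw [← sub_add_cancel x (π c), add_comm]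
          exact Submodule.add_mem_sup ⟨c, rfl⟩ ((Submodule.Quotient.eq S).1 h3.symm)
        refine ih.trans (sup_le le_sup_left ?_)
        calc m ^ n • (⊤ : Submodule C M) ≤ m ^ n • (LinearMap.range π ⊔ m • ⊤) :=
              Submodule.smul_mono le_rfl h2
          _ ≤ LinearMap.range π ⊔ m ^ (n + 1) • ⊤ := by
              rw [Submodule.smul_sup, ← Submodule.smul_assoc, smul_eq_mul, ← pow_succ]
              exact sup_le_sup_right Submodule.smul_le_right _
    intro x
    have := h1 k (Submodule.mem_top (x := x))
    rwa [show m ^ k = ⊥ from hk, Submodule.bot_smul, sup_bot_eq] at this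
  have hker : LinearMap.ker π ≤ m • (⊤ : Submodule C (ι →₀ C)) := fun c hc => by
    have h1 : Finsupp.linearCombination (ResidueField C) b (c.mapRange (residue C) (map_zero _)) = 0 := by
      rw [← hπ0, LinearMap.mem_ker.1 hc, map_zero]
    have h2 : c.mapRange (residue C) (map_zero _) = 0 :=
      linearIndependent_iff.1 b.linearIndependent _ h1
    rw [← Finsupp.sum_single c]
    refine Submodule.sum_mem _ fun i _ => ?_
    rw [show Finsupp.single i (c i) = c i • Finsupp.single i (1 : C) by simp]
    refine Submodule.smul_mem_smul ?_ Submodule.mem_top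
    exact Ideal.Quotient.eq_zero_iff_mem.1 (DFunLike.congr_fun h2 i)
  have hbot : LinearMap.ker π = ⊥ := by
    let π' := π.baseChange C'
    let K := LinearMap.ker π'
    let m' : Ideal C' := m.map (algebraMap C C')
    have hπ' : Function.Surjective π' := LinearMap.lTensor_surjective C' hsurj
    have hexC := lTensor_exact (R := C) (M := ↥(LinearMap.ker π)) (N := ι →₀ C) C'
      (LinearMap.exact_subtype_ker_map π) hsurj
    have hKm : K ≤ m' • (⊤ : Submodule C' (C' ⊗[C] (ι →₀ C))) := fun y hy => by
      obtain ⟨z, rfl⟩ := (hexC y).1 hy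
      induction z using TensorProduct.induction_on with
      | zero => simp
      | add z w hz hw =>
        have hz' : (LinearMap.ker π).subtype.lTensor C' z ∈ K :=
          (hexC).apply_apply_eq_zero z
        have hw' : (LinearMap.ker π).subtype.lTensor C' w ∈ K :=
          (hexC).apply_apply_eq_zero w
        rw [map_add]; exact add_mem (hz hz') (hw hw')
      | tmul c x =>
        have : ∀ t ∈ m • (⊤ : Submodule C (ι →₀ C)),
            c ⊗ₜ[C] t ∈ m' • (⊤ : Submodule C' (C' ⊗[C] (ι →₀ C))) := by
          intro t ht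
          induction ht using Submodule.smul_induction_on' with
          | smul a ha w _ =>
            rw [tmul_smul, ← algebraMap_smul C' a (c ⊗ₜ[C] w)]
            exact Submodule.smul_mem_smul (Ideal.mem_map_of_mem _ ha) Submodule.mem_top
          | add p _ q _ hp hq => rw [tmul_add]; exact add_mem hp hq
        exact this _ (hker x.2)
    have hKbot : K = ⊥ := ker_eq_bot_of_flat π' hπ' m' ⟨k, by
      rw [← Ideal.map_pow, show m ^ k = ⊥ from hk, Ideal.map_bot, Submodule.zero_eq_bot]⟩ hKm
    rw [eq_bot_iff]
    intro x hx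
    have h1 : (1 : C') ⊗ₜ[C] x ∈ K := by
      show π.lTensor C' ((1 : C') ⊗ₜ x) = 0
      rw [LinearMap.lTensor_tmul, LinearMap.mem_ker.1 hx, tmul_zero]
    rw [hKbot, Submodule.mem_bot] at h1
    have h2 : Function.Injective ((Algebra.linearMap C C').rTensor (ι →₀ C)) :=
      Module.Flat.rTensor_preserves_injective_linearMap _ hinj
    have h3 : (1 : C) ⊗ₜ[C] x = 0 := h2 (by
      rw [map_zero, LinearMap.rTensor_tmul, Algebra.linearMap_apply, map_one, h1])
    simpa using congrArg (TensorProduct.lid C _) h3
  exact Module.Flat.of_linearEquiv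
    (LinearEquiv.ofBijective π ⟨LinearMap.ker_eq_bot.1 hbot, hsurj⟩).symm

theorem keepsInjective_of_injective {A A' M : Type u} [CommRing A] [IsLocalRing A] [CommRing A']
    [Algebra A A'] [AddCommGroup M] [Module A M] [Module.Flat A' (A' ⊗[A] M)] (n : ℕ) :
    Groth.Agent.LocalCrit.KeepsInjective
      ((((maximalIdeal A) ^ n).map (algebraMap A A')).comap (algebraMap A A')) M := by
  generalize hJ : (((maximalIdeal A) ^ n).map (algebraMap A A')).comap (algebraMap A A') = J
  by_cases htop : J = ⊤
  · intro N N' _ _ _ _ g hN _ _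
    haveI : Subsingleton N := ⟨fun a b => by
      have h1 : ∀ y : N, y = 0 := fun y => by
        simpa using @hN y ⟨1, by rw [htop]; exact Submodule.mem_top⟩
      rw [h1 a, h1 b]⟩
    haveI : Subsingleton (N ⊗[A] M) := inferInstance
    exact Function.injective_of_subsingleton _
  let I' : Ideal A' := ((maximalIdeal A) ^ n).map (algebraMap A A')
  letI : Algebra (A ⧸ J) (A' ⧸ I') :=
    (Ideal.quotientMap I' (algebraMap A A') (show J ≤ I'.comap _ from hJ.ge)).toAlgebra
  haveI : IsScalarTower A (A ⧸ J) (A' ⧸ I') := .of_algebraMap_eq' rfl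
  haveI : Nontrivial (A ⧸ J) := Ideal.Quotient.nontrivial_iff.2 htop
  haveI : IsLocalRing (A ⧸ J) :=
    IsLocalRing.of_surjective' (Ideal.Quotient.mk J) Ideal.Quotient.mk_surjective
  have hinj : Function.Injective (algebraMap (A ⧸ J) (A' ⧸ I')) :=
    Ideal.quotientMap_injective' (show I'.comap _ ≤ J from hJ.le)
  have hnil : IsNilpotent (maximalIdeal (A ⧸ J)) := by
    refine ⟨n, ?_⟩
    have h1 : maximalIdeal (A ⧸ J) = (maximalIdeal A).map (Ideal.Quotient.mk J) :=
      ((IsLocalRing.map_maximalIdeal_of_surjective _ Ideal.Quotient.mk_surjective)).symm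
    rw [h1, ← Ideal.map_pow, Submodule.zero_eq_bot, Ideal.map_eq_bot_iff_le_ker, Ideal.mk_ker, ← hJ]
    exact Ideal.le_comap_map
  haveI : Module.Flat (A' ⧸ I') ((A' ⧸ I') ⊗[A ⧸ J] ((A ⧸ J) ⊗[A] M)) :=
    Module.Flat.of_linearEquiv
      ((AlgebraTensorModule.cancelBaseChange A (A ⧸ J) (A' ⧸ I') (A' ⧸ I') M).trans
        (AlgebraTensorModule.cancelBaseChange A A' (A' ⧸ I') (A' ⧸ I') M).symm)
  haveI := flat_of_injective_of_nilpotent (M := (A ⧸ J) ⊗[A] M) hinj hnil
  exact Groth.Agent.LocalCrit.keepsInjective_of_flat J M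


/-- Descent of flatness along finite injective maps: let A → B be a local homomorphism of Noetherian
local rings and A → A' an injective ring homomorphism making A' a finite A-module. Then B is A-flat
if and only if the base change A' ⊗_A B is A'-flat. -/
theorem result (A B A' : Type u) [CommRing A] [CommRing B]
    [CommRing A'] [IsNoetherianRing A] [IsLocalRing A] [IsNoetherianRing B] [IsLocalRing B]
    [Algebra A B] [IsLocalHom (algebraMap A B)] [Algebra A A'] [Module.Finite A A']
    (hinj : Function.Injective (algebraMap A A')) :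
    Module.Flat A B ↔ Module.Flat A' (A' ⊗[A] B) := by
  refine ⟨fun _ => inferInstance, fun hflat => ?_⟩
  refine Groth.Agent.LocalCrit.flat_of_forall_quotient_pow (B := B) (maximalIdeal A) ?_ fun n => ?_
  · refine le_trans ?_ (IsLocalRing.jacobson_eq_maximalIdeal (⊥ : Ideal B) bot_ne_top).ge
    exact ((IsLocalRing.local_hom_TFAE (algebraMap A B)).out 0 2).mp ‹_›
  · let N : Submodule A A' := LinearMap.range (Algebra.linearMap A A')
    obtain ⟨c, hc⟩ := Ideal.exists_pow_inf_eq_pow_smul (maximalIdeal A) N
    intro X Y _ _ _ _ g hX hY hg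
    have hle : (((maximalIdeal A) ^ (n + c)).map (algebraMap A A')).comap (algebraMap A A') ≤
        (maximalIdeal A) ^ n := fun a ha => by
      have h1 : algebraMap A A' a ∈ (maximalIdeal A) ^ (n + c) • ⊤ ⊓ N := by
        refine ⟨?_, ⟨a, rfl⟩⟩
        rw [SetLike.mem_coe, Ideal.smul_top_eq_map]
        exact ha
      rw [hc (n + c) (Nat.le_add_left c n), Nat.add_sub_cancel] at h1
      have h2 : algebraMap A A' a ∈ Submodule.map (Algebra.linearMap A A') ((maximalIdeal A) ^ n) := by
        have h3 : (maximalIdeal A) ^ n • N = Submodule.map (Algebra.linearMap A A') ((maximalIdeal A) ^ n) := by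
          rw [show N = Submodule.map (Algebra.linearMap A A') ⊤ from LinearMap.range_eq_map _,
            ← Submodule.map_smul'', smul_eq_mul, Ideal.mul_top]
        rw [← h3]
        exact Submodule.smul_mono le_rfl inf_le_right h1
      obtain ⟨b, hb, hb'⟩ := h2
      rwa [← hinj hb']
    exact keepsInjective_of_injective (A' := A') (n + c) g (fun y a => @hX y ⟨a, hle a.2⟩)
      (fun y a => @hY y ⟨a, hle a.2⟩) hg


end Groth.Agent.S10876
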