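import Groth.Statements.S10877
import Mathlib

set_option autoImplicit false
universe u
open CategoryTheory AlgebraicGeometry
open FlatMor

namespace Groth.Agent.S10877

open CategoryTheory.Limits
set_option backward.isDefEq.respectTransparency.types false

/-- A separated morphism f : X → Y, with X having finitely many irreducible components, which restricts
to an open immersion on each member of a cover of X by dense open subsets, is an open immersion. -/
theorem result {X Y : Scheme.{u}} (f : X ⟶ Y) [IsSeparated f]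
    (hfin : (irreducibleComponents (X : Type u)).Finite) {ι : Type u} (U : ι → X.Opens)
    (hU : ⨆ i, U i = ⊤) (hd : ∀ i, Dense (U i : Set X)) (h : ∀ i, IsOpenImmersion ((U i).ι ≫ f)) :
    IsOpenImmersion f := by
  have hcov : ∀ x : X, ∃ i, x ∈ U i := fun x => by
    have : x ∈ (⨆ i, U i : X.Opens) := by rw [hU]; trivial
    exact TopologicalSpace.Opens.mem_iSup.1 this
  have hinj : Function.Injective f := by
    intro x x' hxx
    obtain ⟨i, hi⟩ := hcov x
    obtain ⟨j, hj⟩ := hcov x'
    have := h i
    have := h j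
    let a : (U i).toScheme := (⟨x, hi⟩ : U i)
    let b : (U j).toScheme := (⟨x', hj⟩ : U j)
    obtain ⟨ω, hω1, hω2⟩ := Scheme.Pullback.exists_preimage_pullback
      (f := (U i).ι ≫ f) (g := (U j).ι ≫ f) a b hxx
    let m : pullback ((U i).ι ≫ f) ((U j).ι ≫ f) ⟶ pullback f f :=
      pullback.map _ _ _ _ (U i).ι (U j).ι (𝟙 Y) (by simp) (by simp)
    have hm1 : m ≫ pullback.fst f f = pullback.fst _ _ ≫ (U i).ι := pullback.lift_fst _ _ _
    have hm2 : m ≫ pullback.snd f f = pullback.snd _ _ ≫ (U j).ι := pullback.lift_snd _ _ _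
    have hC : IsClosed (m ⁻¹' Set.range (pullback.diagonal f)) :=
      (pullback.diagonal f).isClosedEmbedding.isClosed_range.preimage m.continuous
    have key : m ω ∈ Set.range (pullback.diagonal f) := by
      by_contra hne
      let p := pullback.fst ((U i).ι ≫ f) ((U j).ι ≫ f)
      have hopen : IsOpen ((U i).ι '' (p '' (m ⁻¹' Set.range (pullback.diagonal f))ᶜ)) :=
        (U i).ι.isOpenEmbedding.isOpenMap _ (p.isOpenEmbedding.isOpenMap _ hC.isOpen_compl)
      obtain ⟨z, hz1, hz2⟩ := (hd j).inter_open_nonempty _ hopen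
        ⟨_, ⟨_, ⟨ω, hne, rfl⟩, rfl⟩⟩
      obtain ⟨_, ⟨v, hv, rfl⟩, rfl⟩ := hz1
      let W : X.Opens := U i ⊓ U j
      let l : W.toScheme ⟶ pullback ((U i).ι ≫ f) ((U j).ι ≫ f) :=
        pullback.lift (X.homOfLE inf_le_left) (X.homOfLE inf_le_right) (by simp [W])
      have hl1 : l ≫ p = X.homOfLE inf_le_left := pullback.lift_fst _ _ _
      have hl2 : l ≫ pullback.snd _ _ = X.homOfLE inf_le_right := pullback.lift_snd _ _ _
      let w : W.toScheme := (⟨(U i).ι (p v), ⟨(p v).2, hz2⟩⟩ : W)
      have hl : l w = v := by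
        refine p.isOpenEmbedding.injective ((U i).ι.isOpenEmbedding.injective ?_)
        exact congrArg (fun q : W.toScheme ⟶ X => q w)
          (((reassoc_of% hl1) (U i).ι).trans (X.homOfLE_ι inf_le_left))
      apply hv
      refine ⟨W.ι w, ?_⟩
      have hlm : W.ι ≫ pullback.diagonal f = l ≫ m := by
        refine pullback.hom_ext ?_ ?_
        · rw [Category.assoc, Category.assoc, pullback.diagonal_fst, Category.comp_id, hm1]
          exact (((reassoc_of% hl1) (U i).ι).trans (X.homOfLE_ι inf_le_left)).symm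
        · rw [Category.assoc, Category.assoc, pullback.diagonal_snd, Category.comp_id, hm2]
          exact (((reassoc_of% hl2) (U j).ι).trans (X.homOfLE_ι inf_le_right)).symm
      exact (congrArg (fun q : W.toScheme ⟶ pullback f f => q w) hlm).trans (congrArg m hl)
    obtain ⟨z, hz⟩ := key
    have e1 : pullback.fst f f (m ω) = x :=
      (congrArg (fun q : _ ⟶ X => q ω) hm1).trans
        (congrArg (U i).ι hω1)
    have e2 : pullback.snd f f (m ω) = x' :=
      (congrArg (fun q : _ ⟶ X => q ω) hm2).trans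
        (congrArg (U j).ι hω2)
    rw [← e1, ← e2, ← hz]
    exact (congrArg (fun q : X ⟶ X => q z) (pullback.diagonal_fst f)).trans
      (congrArg (fun q : X ⟶ X => q z) (pullback.diagonal_snd f)).symm
  have hemb : Topology.IsOpenEmbedding f := by
    refine .of_continuous_injective_isOpenMap f.continuous hinj fun s hs => ?_
    rw [show f '' s = ⋃ i, ((U i).ι ≫ f) '' ((U i).ι ⁻¹' s) from ?_]
    · exact isOpen_iUnion fun i => by
        have := h i
        exact ((U i).ι ≫ f).isOpenEmbedding.isOpenMap _ (hs.preimage (U i).ι.continuous)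
    ext y
    constructor
    · rintro ⟨x, hx, rfl⟩
      obtain ⟨i, hi⟩ := hcov x
      exact Set.mem_iUnion.2 ⟨i, (⟨x, hi⟩ : U i), hx, rfl⟩
    · intro hy
      obtain ⟨i, w, hw, rfl⟩ := Set.mem_iUnion.1 hy
      exact ⟨(U i).ι w, hw, rfl⟩
  have hst : ∀ x, IsIso (f.stalkMap x) := fun x => by
    obtain ⟨i, hi⟩ := hcov x
    have := h i
    let w : (U i).toScheme := (⟨x, hi⟩ : U i)
    have e : ((U i).ι ≫ f).stalkMap w = f.stalkMap x ≫ (U i).ι.stalkMap w :=
      Scheme.Hom.stalkMap_comp _ _ _
    have h1 : IsIso (((U i).ι ≫ f).stalkMap w) := (IsOpenImmersion.iff_isIso_stalkMap.1 (h i)).2 w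
    have h2 : IsIso ((U i).ι.stalkMap w) :=
      (IsOpenImmersion.iff_isIso_stalkMap.1 (inferInstance : IsOpenImmersion (U i).ι)).2 w
    have : IsIso (f.stalkMap x ≫ (U i).ι.stalkMap w) := e ▸ h1
    exact @IsIso.of_isIso_comp_right _ _ _ _ _ (f.stalkMap x) ((U i).ι.stalkMap w) h2 this
  exact IsOpenImmersion.of_isIso_stalkMap f hemb

end Groth.Agent.S10877
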