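import Groth.Statements.S10878
import Mathlib

set_option autoImplicit false
universe u
open CategoryTheory AlgebraicGeometry
open FlatMor

namespace Groth.Agent.S10878

/-- A separated morphism f : X → Y, with X having finitely many irreducible components, which restricts
to an immersion on each member of a cover of X by dense open subsets, is an immersion. -/
theorem result {X Y : Scheme.{u}} (f : X ⟶ Y) [IsSeparated f]
    (hfin : (irreducibleComponents (X : Type u)).Finite) {ι : Type u} (U : ι → X.Opens)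
    (hU : ⨆ i, U i = ⊤) (hd : ∀ i, Dense (U i : Set X)) (h : ∀ i, IsImmersion ((U i).ι ≫ f)) :
    IsImmersion f := by
  haveI : ∀ i, IsImmersion ((U i).ι ≫ f) := h
  let W : ι → Y.Opens := fun i => ((U i).ι ≫ f).coborderRange
  have hle : ∀ i, U i ≤ f ⁻¹ᵁ W i := fun i x hx => subset_coborder ⟨⟨x, hx⟩, rfl⟩
  have hcl : ∀ i, IsClosedImmersion (f ∣_ W i) := by
    intro i
    let inc := X.homOfLE (hle i)
    have hc : inc ≫ (f ∣_ W i) = ((U i).ι ≫ f).liftCoborder := by
      rw [← cancel_mono (W i).ι]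
      simp [inc, W, Scheme.Hom.liftCoborder_ι]
    haveI : IsSeparated (f ∣_ W i) := inferInstance
    haveI : IsClosedImmersion (inc ≫ (f ∣_ W i)) := hc ▸ inferInstance
    haveI : IsClosedImmersion inc := IsClosedImmersion.of_comp inc (f ∣_ W i)
    have hsurj : Function.Surjective inc.base := by
      rw [← Set.range_eq_univ, Set.eq_univ_iff_forall]
      intro z
      rw [← inc.isClosedEmbedding.isClosed_range.closure_eq]
      have : (U i : Set X) ∩ (f ⁻¹ᵁ W i : Set X) ⊆ (Subtype.val : ↥(f ⁻¹ᵁ W i) → X) '' Set.range inc.base := by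
        rintro y ⟨hy, hy'⟩
        refine ⟨inc.base ⟨y, hy⟩, ⟨_, rfl⟩, ?_⟩
        simp [inc]
      have hz : z.1 ∈ closure ((Subtype.val : ↥(f ⁻¹ᵁ W i) → X) '' Set.range inc.base) := by
        refine closure_mono this ?_
        rw [Set.inter_comm]
        exact (f ⁻¹ᵁ W i).isOpen.inter_closure ⟨z.2, (hd i).closure_eq ▸ trivial⟩
      exact closure_subtype.mpr hz
    haveI : Surjective inc := ⟨hsurj⟩
    haveI : IsIso inc := (isIso_iff_isOpenImmersion_and_surjective inc).mpr ⟨inferInstance, inferInstance⟩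
    have : f ∣_ W i = CategoryTheory.inv inc ≫ ((U i).ι ≫ f).liftCoborder := by rw [← hc]; simp
    rw [this]; infer_instance
  let Wt : Y.Opens := ⨆ i, W i
  have htop : f ⁻¹ᵁ Wt = ⊤ := by
    rw [eq_top_iff, ← hU]
    exact iSup_le fun i => (hle i).trans (fun x hx => TopologicalSpace.Opens.mem_iSup.mpr ⟨i, hx⟩)
  haveI : IsClosedImmersion (f ∣_ Wt) := by
    refine IsZariskiLocalAtTarget.of_iSup_eq_top (P := @IsClosedImmersion) (fun i => Wt.ι ⁻¹ᵁ W i) ?_ (fun i => ?_)
    · rw [eq_top_iff]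
      rintro z -
      obtain ⟨i, hi⟩ := TopologicalSpace.Opens.mem_iSup.mp z.2
      exact TopologicalSpace.Opens.mem_iSup.mpr ⟨i, hi⟩
    · rw [MorphismProperty.arrow_mk_iso_iff @IsClosedImmersion (morphismRestrictRestrict f Wt (Wt.ι ⁻¹ᵁ W i))]
      have e : Wt.ι ''ᵁ Wt.ι ⁻¹ᵁ W i = W i := by
        rw [Scheme.Hom.image_preimage_eq_opensRange_inf, Scheme.Opens.opensRange_ι, inf_eq_right]
        exact le_iSup W i
      rw [e]
      exact hcl i
  haveI : IsIso (f ⁻¹ᵁ Wt).ι := by
    rw [htop]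
    exact (isIso_iff_isOpenImmersion_and_surjective _).mpr ⟨inferInstance, ⟨fun z => ⟨⟨z, trivial⟩, rfl⟩⟩⟩
  have hf : f = CategoryTheory.inv (f ⁻¹ᵁ Wt).ι ≫ (f ∣_ Wt) ≫ Wt.ι := by
    rw [morphismRestrict_ι, IsIso.inv_hom_id_assoc]
  rw [hf]; infer_instance

end Groth.Agent.S10878
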