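import Groth.Statements.S10880
import Mathlib
import Groth.Agent.FlatDvr.Dvr

set_option autoImplicit false
universe u
open CategoryTheory AlgebraicGeometry
open FlatMor

namespace Groth.Agent.S10880

set_option backward.isDefEq.respectTransparency.types false
open CategoryTheory.Limits

open Groth.Agent.FlatDvr IsLocalRing in
theorem flat_closed {R : Type u} [CommRing R] [IsDomain R] [IsDiscreteValuationRing R] {X : Scheme.{u}}
    (f : X ⟶ Spec (CommRingCat.of R)) [IsLocallyNoetherian X]
    {y : Spec (CommRingCat.of R)} (hy : y = closedPoint R) (w : ↥(f.fiber y))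
    (hgen : ∀ z, z ⤳ f.fiberι y w → (∀ v, v ⤳ z → v = z) → f z ≠ f (f.fiberι y w))
    (hred : _root_.IsReduced ((f.fiber y).presheaf.stalk w)) :
    (f.stalkMap (f.fiberι y w)).hom.Flat := by
  set x := f.fiberι y w with hxdef
  have hfx : f x = closedPoint R := (fiberι_apply_eq f w).trans hy
  obtain ⟨hdom, hdvr⟩ := isDvr_stalk hfx
  let O := (Spec (CommRingCat.of R)).presheaf.stalk (f x)
  let φ : O →+* X.presheaf.stalk x := (f.stalkMap x).hom
  obtain ⟨π, hπ⟩ := IsDiscreteValuationRing.exists_irreducible O
  have hm := (IsDiscreteValuationRing.irreducible_iff_uniformizer π).1 hπ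
  have hker : RingHom.ker ((f.fiberι y).stalkMap w).hom = Ideal.span {φ π} := by
    rw [ker_stalkMap_fiberι]
    show (maximalIdeal O).map φ = _
    rw [hm, Ideal.map_span, Set.image_singleton]
  have ht : φ π ∈ maximalIdeal (X.presheaf.stalk x) := fun hu => hπ.not_isUnit (isUnit_of_map_unit φ π hu)
  have hmin : ∀ P ∈ minimalPrimes (X.presheaf.stalk x), φ π ∉ P := by
    intro P hP hπP
    haveI := hP.1.1
    let p : PrimeSpectrum (X.presheaf.stalk x) := ⟨P, hP.1.1⟩
    let z := X.fromSpecStalk x p
    have hfz : f z = f x := by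
      refine (UnivOpen.map_fromSpecStalk f (x := x) p).trans ?_
      convert Scheme.fromSpecStalk_closedPoint
      refine PrimeSpectrum.ext ((maximalIdeal.isMaximal O).eq_of_le (Ideal.IsPrime.ne_top inferInstance) ?_).symm
      rw [hm, Ideal.span_le, Set.singleton_subset_iff]
      exact hπP
    have hzx : z ⤳ x := by
      have : z ∈ Set.range (X.fromSpecStalk x) := ⟨p, rfl⟩
      rw [Scheme.range_fromSpecStalk] at this
      exact this
    refine hgen z hzx (fun v hv => ?_) hfz
    obtain ⟨q, rfl⟩ : v ∈ Set.range (X.fromSpecStalk x) := by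
      rw [Scheme.range_fromSpecStalk]; exact hv.trans hzx
    let q' : PrimeSpectrum (X.presheaf.stalk x) := q
    have hqp : q'.asIdeal ≤ P := (PrimeSpectrum.le_iff_specializes q' p).2
      ((X.fromSpecStalk x).isEmbedding.isInducing.specializes_iff.1 hv)
    exact congrArg (X.fromSpecStalk x) (show q' = p from
      PrimeSpectrum.ext (le_antisymm hqp (hP.2 ⟨q'.2, bot_le⟩ hqp)))
  haveI := hred
  letI := φ.toAlgebra
  show Module.Flat O (X.presheaf.stalk x)
  rw [Module.Flat.flat_iff_torsion_eq_bot_of_isBezout, eq_bot_iff]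
  rintro m ⟨⟨a, ha⟩, ham⟩
  obtain ⟨n, u, rfl⟩ := IsDiscreteValuationRing.eq_unit_mul_pow_irreducible (nonZeroDivisors.ne_zero ha) hπ
  change φ (↑u * π ^ n) * m = 0 at ham
  rw [map_mul, map_pow, mul_assoc, (u.isUnit.map φ).mul_right_eq_zero] at ham
  show m = 0
  clear ha
  induction n with
  | zero => simpa using ham
  | succ n ih =>
    refine ih ?_
    rw [pow_succ', mul_assoc] at ham
    exact eq_zero_of_mul_eq_zero_of_quotient_reduced _ ht hker hmin ham

theorem maximal_mem_dense {X : Scheme.{u}} [IsLocallyNoetherian X] {G : Set X} (hG : Dense G) {z : X}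
    (hz : ∀ v, v ⤳ z → v = z) : ∃ g ∈ G, z ⤳ g := by
  obtain ⟨_, ⟨U, hU, rfl⟩, hzU, -⟩ :=
    X.isBasis_affineOpens.exists_subset_of_mem_open (Set.mem_univ z) isOpen_univ
  have : IsNoetherianRing Γ(X, U) := IsLocallyNoetherian.component_noetherian ⟨U, hU⟩
  have : TopologicalSpace.NoetherianSpace (Scheme.Opens.toScheme U) := noetherianSpace_of_isAffineOpen U hU
  let z' : Scheme.Opens.toScheme U := (⟨z, hzU⟩ : U)
  obtain ⟨o, ho, ⟨v, hv⟩, hoZ⟩ := TopologicalSpace.NoetherianSpace.exists_isOpen_nonempty_subset_irreducibleComponent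
    (irreducibleComponent z') (irreducibleComponent_mem_irreducibleComponents z')
  obtain ⟨ζ, hζ⟩ := QuasiSober.sober (isIrreducible_irreducibleComponent (x := z')) isClosed_irreducibleComponent
  have hζz : ζ = z' := (Scheme.Opens.ι U).isOpenEmbedding.injective
    (hz _ ((hζ.specializes mem_irreducibleComponent).map (Scheme.Opens.ι U).continuous))
  obtain ⟨g, hg1, hg2⟩ := hG.inter_open_nonempty _ ((Scheme.Opens.ι U).isOpenEmbedding.isOpenMap _ ho) ⟨_, v, hv, rfl⟩
  obtain ⟨g', hg', rfl⟩ := hg1
  refine ⟨_, hg2, ?_⟩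
  have : z' ⤳ g' := hζz ▸ hζ.specializes (hoZ hg')
  exact this.map (Scheme.Opens.ι U).continuous

/-- Let R be a discrete valuation ring and X a locally Noetherian scheme over Spec R whose
scheme-theoretic special fibre is reduced and such that every maximal point of the special fibre
lies in the closure of the generic fibre, i.e. the generic fibre is dense in X. Then X is flat over
R. -/
theorem result (R : Type u) [CommRing R] [IsDomain R]
    [IsDiscreteValuationRing R] {X : Scheme.{u}} (f : X ⟶ Spec (CommRingCat.of R)) [IsLocallyNoetherian X]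
    (hred : IsReduced (f.fiber (IsLocalRing.closedPoint R)))
    (hdense : Dense (f.base ⁻¹' {genericPoint (Spec (CommRingCat.of R))})) : Flat f := by
  refine Flat.of_stalkMap f fun x => ?_
  by_cases hx : f x = IsLocalRing.closedPoint R
  · obtain ⟨w, rfl⟩ : x ∈ Set.range (f.fiberι (IsLocalRing.closedPoint R)) := by
      rw [f.range_fiberι]; exact hx
    refine flat_closed f rfl w (fun z _ hz hfz => ?_) inferInstance
    obtain ⟨g, hg, hzg⟩ := maximal_mem_dense hdense hz
    have hgz := hzg.map f.continuous
    rw [show f g = genericPoint (Spec (CommRingCat.of R)) from hg, hfz, hx] at hgz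
    have h1 : (genericPoint (Spec (CommRingCat.of R))) ⤳ (IsLocalRing.closedPoint R : Spec (CommRingCat.of R)) :=
      genericPoint_specializes _
    have h2 := hgz.antisymm h1
    have h3 := h2.eq
    rw [genericPoint_eq_bot_of_affine] at h3
    exact IsDiscreteValuationRing.not_a_field R (congrArg PrimeSpectrum.asIdeal h3)
  · have hbot : (f x : PrimeSpectrum R).asIdeal = ⊥ := by
      by_contra hne
      refine hx (PrimeSpectrum.ext ?_)
      exact IsLocalRing.eq_maximalIdeal (Ideal.IsPrime.isMaximal (f x : PrimeSpectrum R).2 hne)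
    let y : Spec (CommRingCat.of R) := f x
    letI : Algebra R ((Spec (CommRingCat.of R)).presheaf.stalk y) := StructureSheaf.stalkAlgebra R y
    haveI : IsLocalization.AtPrime ((Spec (CommRingCat.of R)).presheaf.stalk y) (y : PrimeSpectrum R).asIdeal :=
      StructureSheaf.IsLocalization.to_stalk (CommRingCat.of R) y
    have hm : IsLocalRing.maximalIdeal ((Spec (CommRingCat.of R)).presheaf.stalk y) = ⊥ := by
      rw [← IsLocalization.AtPrime.map_eq_maximalIdeal (y : PrimeSpectrum R).asIdeal]
      simp only [y, hbot, Ideal.map_bot]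
    letI : Field ((Spec (CommRingCat.of R)).presheaf.stalk (f x)) :=
      (IsLocalRing.isField_iff_maximalIdeal_eq.2 hm).toField
    letI := (f.stalkMap x).hom.toAlgebra
    exact (inferInstance : Module.Flat ((Spec (CommRingCat.of R)).presheaf.stalk (f x)) (X.presheaf.stalk x))

end Groth.Agent.S10880
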