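import Groth.Statements.S10881
import Mathlib
import Groth.Agent.FlatMisc.FiniteRegular
import Groth.Agent.DimFormula.DedekindFlat

set_option autoImplicit false
universe u
open CategoryTheory AlgebraicGeometry
open FlatMor

namespace Groth.Agent.S10881

/-- A finite morphism f : X → Y between regular schemes (locally Noetherian with regular local rings)
under which each irreducible component of X dominates some irreducible component of Y is flat, hence
finite locally free. (The published statement asks only that f be dominant; for X the disjoint union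
of the affine line and a point, mapped to the affine line Y by the identity and the inclusion of a
closed point, f is finite and dominant between regular schemes but not flat, and the published
argument uses injectivity of the local ring maps, which holds exactly under the component-wise
dominance assumed here.) -/
theorem result {X Y : Scheme.{u}} (f : X ⟶ Y) [IsFinite f]
    [IsLocallyNoetherian X] [IsLocallyNoetherian Y]
    (hX : ∀ x : X, IsRegularLocalRing (X.presheaf.stalk x))
    (hY : ∀ y : Y, IsRegularLocalRing (Y.presheaf.stalk y))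
    (hdom : ∀ Z ∈ irreducibleComponents (X : Type u), closure (f.base '' Z) ∈ irreducibleComponents (Y : Type u)) :
    Flat f := by
  refine Flat.of_stalkMap f fun x => ?_
  haveI := hX x
  haveI := hY (f x)
  haveI := Groth.Agent.RegLoc6.isDomain_of_isRegularLocalRing (X.presheaf.stalk x)
  haveI := Groth.Agent.RegLoc6.isDomain_of_isRegularLocalRing (Y.presheaf.stalk (f x))
  letI := (f.stalkMap x).hom.toAlgebra
  haveI : IsLocalHom (algebraMap (Y.presheaf.stalk (f x)) (X.presheaf.stalk x)) :=
    inferInstanceAs (IsLocalHom (f.stalkMap x).hom)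
  -- the stalk map is injective, as components dominate components
  have hinj : Function.Injective (algebraMap (Y.presheaf.stalk (f x)) (X.presheaf.stalk x)) := by
    let z := X.fromSpecStalk x (⟨⊥, Ideal.isPrime_bot⟩ : PrimeSpectrum (X.presheaf.stalk x))
    have hzx : z ⤳ x := by
      have : z ∈ Set.range (X.fromSpecStalk x) := ⟨_, rfl⟩
      rwa [Scheme.range_fromSpecStalk] at this
    have hzmax : ∀ w, w ⤳ z → w = z := fun w hw => by
      obtain ⟨q, rfl⟩ := Groth.Agent.DimFormula.fromSpecStalk_range_of_specializes (hw.trans hzx)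
      have := (X.fromSpecStalk x).isEmbedding.isInducing.specializes_iff.1 hw
      exact congrArg _ (PrimeSpectrum.ext (le_bot_iff.mp ((PrimeSpectrum.le_iff_specializes _ _).2 this)))
    obtain ⟨Z, hZ, hzZ⟩ := exists_mem_irreducibleComponents_subset_of_isIrreducible _ (isIrreducible_singleton (x := z))
    have hξ : closure {z} = Z := by
      have h1 := hZ.1.isGenericPoint_genericPoint_closure
      rw [(isClosed_of_mem_irreducibleComponents Z hZ).closure_eq] at h1
      rw [← hzmax _ (h1.specializes (hzZ rfl))]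
      exact h1
    have hcl : closure (f.base '' Z) = closure {f z} := by
      rw [← hξ, closure_image_closure f.continuous, Set.image_singleton]
    have hmaxY := hdom Z hZ
    rw [hcl] at hmaxY
    obtain ⟨q, hq⟩ : ∃ q, Y.fromSpecStalk (f x) q = f z := Groth.Agent.DimFormula.fromSpecStalk_range_of_specializes (hzx.map f.continuous)
    let η := Y.fromSpecStalk (f x) (⟨⊥, Ideal.isPrime_bot⟩ : PrimeSpectrum (Y.presheaf.stalk (f x)))
    have hη : η ⤳ f z := by
      rw [← hq]
      exact ((PrimeSpectrum.le_iff_specializes (⟨⊥, Ideal.isPrime_bot⟩ : PrimeSpectrum (Y.presheaf.stalk (f x))) q).1 bot_le).map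
        (Y.fromSpecStalk (f x)).continuous
    have heq : η = f z := IsGenericPoint.eq (show IsGenericPoint η (closure {f z}) from
      le_antisymm (hmaxY.2 isIrreducible_singleton.closure (specializes_iff_closure_subset.mp hη)) (specializes_iff_closure_subset.mp hη)) rfl
    have h3 : f z = Y.fromSpecStalk (f x) (PrimeSpectrum.comap (f.stalkMap x).hom ⟨⊥, Ideal.isPrime_bot⟩) := by
      show (X.fromSpecStalk x ≫ f) _ = _
      rw [← Scheme.SpecMap_stalkMap_fromSpecStalk f]
      rfl
    have h4 := congrArg PrimeSpectrum.asIdeal ((Y.fromSpecStalk (f x)).isEmbedding.injective (h3 ▸ heq))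
    rw [RingHom.injective_iff_ker_eq_bot]
    exact h4.symm
  obtain ⟨U, hU, hxU, -⟩ := exists_isAffineOpen_mem_and_subset (X := Y) (x := f x) (U := ⊤) trivial
  have hV : IsAffineOpen (f ⁻¹ᵁ U) := hU.preimage f
  have hxV : x ∈ f ⁻¹ᵁ U := hxU
  letI := (f.app U).hom.toAlgebra
  haveI : Module.Finite Γ(Y, U) Γ(X, f ⁻¹ᵁ U) := IsFinite.finite_app f U hU
  letI := TopCat.Presheaf.algebra_section_stalk Y.presheaf (⟨f x, hxU⟩ : U)
  letI := TopCat.Presheaf.algebra_section_stalk X.presheaf (⟨x, hxV⟩ : (f ⁻¹ᵁ U : X.Opens))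
  haveI := hU.isLocalization_stalk ⟨f x, hxU⟩
  haveI := hV.isLocalization_stalk ⟨x, hxV⟩
  letI : Algebra Γ(Y, U) (X.presheaf.stalk x) :=
    ((algebraMap Γ(X, f ⁻¹ᵁ U) (X.presheaf.stalk x)).comp (algebraMap Γ(Y, U) Γ(X, f ⁻¹ᵁ U))).toAlgebra
  haveI : IsScalarTower Γ(Y, U) Γ(X, f ⁻¹ᵁ U) (X.presheaf.stalk x) := .of_algebraMap_eq fun _ => rfl
  haveI : IsScalarTower Γ(Y, U) (Y.presheaf.stalk (f x)) (X.presheaf.stalk x) := .of_algebraMap_eq fun a =>
    (Scheme.Hom.germ_stalkMap_apply f U x hxU a).symm
  haveI : (hV.primeIdealOf ⟨x, hxV⟩).asIdeal.LiesOver (hU.primeIdealOf ⟨f x, hxU⟩).asIdeal := ⟨by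
    ext a
    rw [Ideal.under_def, Ideal.mem_comap,
      ← IsLocalization.AtPrime.to_map_mem_maximal_iff (Y.presheaf.stalk (f x)) (hU.primeIdealOf ⟨f x, hxU⟩).asIdeal a,
      ← IsLocalization.AtPrime.to_map_mem_maximal_iff (X.presheaf.stalk x) (hV.primeIdealOf ⟨x, hxV⟩).asIdeal,
      ← IsScalarTower.algebraMap_apply, IsScalarTower.algebraMap_apply Γ(Y, U) (Y.presheaf.stalk (f x)) (X.presheaf.stalk x)]
    exact ⟨fun h => map_nonunit _ _ h, fun h hu => h (hu.map _)⟩⟩
  exact Groth.Agent.FlatMisc.FiniteRegular.flat_localization (hU.primeIdealOf ⟨f x, hxU⟩).asIdeal (hV.primeIdealOf ⟨x, hxV⟩).asIdeal hinj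

end Groth.Agent.S10881
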