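import Groth.Statements.S10882
import Groth.Agent.S2082
import Groth.Agent.RelCodim6.Basic
import Groth.Agent.VarDim.IrredFibres
import Groth.Agent.VarDim.Local
-- import your own Groth.Agent.* helpers here

set_option autoImplicit false
universe u
open CategoryTheory AlgebraicGeometry
open FlatMor

set_option backward.isDefEq.respectTransparency false
set_option backward.isDefEq.respectTransparency.types false
set_option linter.style.haveILetI false

namespace Groth.Agent.S10882

open AlgebraicGeometry CategoryTheory TopologicalSpace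

/-- The local ring at a closed point of an equidimensional scheme has the dimension of the scheme. -/
theorem dim_stalk_closed {k : Type u} [Field k] {X : Scheme.{u}} (p : X ⟶ Spec (CommRingCat.of k))
    [LocallyOfFiniteType p] (e : ℕ) (he : ∀ Z ∈ irreducibleComponents (X : Type u), topologicalKrullDim Z = e)
    {c : X} (hc : IsClosed ({c} : Set X)) : ringKrullDim (X.presheaf.stalk c) = e := by
  obtain ⟨b, hb, ⟨η, hη, hd⟩, hmax⟩ := VarDim.exists_deg_add_stalk p c
  have h0 : VarDim.deg p c = 0 := (VarDim.closedPoint_iff_deg_eq_zero p c).1 hc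
  have hηmax : ∀ y, y ⤳ η → y = η := fun y hy =>
    VarDim.eq_of_specializes_of_deg_le p hy (hd ▸ hmax y (hy.trans hη))
  have h1 := he _ (VarDim.closure_mem_irreducibleComponents hηmax)
  rw [VarDim.topologicalKrullDim_closure_singleton p η, hd, h0, zero_add] at h1
  rw [hb, ← h1]
  rfl

/-- Flatness at the closed points of a Jacobson scheme is flatness. -/
theorem flat_of_closed {X Y : Scheme.{u}} [JacobsonSpace X] (f : X ⟶ Y)
    (H : ∀ c : X, IsClosed ({c} : Set X) → (f.stalkMap c).hom.Flat) : Flat f := by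
  rw [HasRingHomProperty.iff_appLE (P := @Flat)]
  intro V U e
  have hU := U.2
  letI : Algebra Γ(Y, V.1) Γ(X, U.1) := (f.appLE V.1 U.1 e).hom.toAlgebra
  have hmem : ∀ P : PrimeSpectrum Γ(X, U.1), hU.fromSpec P ∈ U.1 := fun P => VarDim.fromSpec_mem hU P
  refine Module.flat_of_isLocalized_maximal Γ(X, U.1) Γ(X, U.1)
    (fun P _ => Localization.AtPrime P) (fun P _ => Algebra.linearMap _ _) fun P hP => ?_
  set c := hU.fromSpec ⟨P, inferInstance⟩ with hcdef
  have hc : IsClosed ({c} : Set X) := by
    refine isClosed_singleton_of_isLocallyClosed_singleton ?_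
    have hcl : IsClosed ({(⟨P, inferInstance⟩ : PrimeSpectrum Γ(X, U.1))} : Set (PrimeSpectrum Γ(X, U.1))) :=
      (PrimeSpectrum.isClosed_singleton_iff_isMaximal _).2 hP
    have h := hcl.isLocallyClosed.image hU.fromSpec.isOpenEmbedding.isInducing
      hU.fromSpec.isOpenEmbedding.isOpen_range.isLocallyClosed
    rwa [Set.image_singleton] at h
  have hfc : f c ∈ V.1 := e (hmem ⟨P, inferInstance⟩)
  have hfl : ((f.stalkMap c).hom.comp (Y.presheaf.germ V.1 (f c) hfc).hom).Flat :=
    RingHom.Flat.comp (by
      letI := TopCat.Presheaf.algebra_section_stalk Y.presheaf (U := V.1) ⟨f c, hfc⟩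
      haveI := V.2.isLocalization_stalk ⟨f c, hfc⟩
      exact IsLocalization.flat _ (V.2.primeIdealOf ⟨f c, hfc⟩).asIdeal.primeCompl) (H c hc)
  have heq : (f.stalkMap c).hom.comp (Y.presheaf.germ V.1 (f c) hfc).hom =
      (X.presheaf.germ U.1 c (hmem ⟨P, inferInstance⟩)).hom.comp (f.appLE V.1 U.1 e).hom := by
    rw [← CommRingCat.hom_comp, ← CommRingCat.hom_comp, Scheme.Hom.germ_stalkMap, Scheme.Hom.appLE,
      Category.assoc, X.presheaf.germ_res]
  rw [heq] at hfl
  letI : Algebra Γ(X, U.1) (X.presheaf.stalk c) :=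
    TopCat.Presheaf.algebra_section_stalk X.presheaf ⟨c, hmem ⟨P, inferInstance⟩⟩
  letI : Algebra Γ(Y, V.1) (X.presheaf.stalk c) :=
    ((algebraMap Γ(X, U.1) (X.presheaf.stalk c)).comp (algebraMap Γ(Y, V.1) Γ(X, U.1))).toAlgebra
  haveI : IsScalarTower Γ(Y, V.1) Γ(X, U.1) (X.presheaf.stalk c) := IsScalarTower.of_algebraMap_eq' rfl
  haveI : IsLocalization.AtPrime (X.presheaf.stalk c) P :=
    hU.isLocalization_stalk' ⟨P, inferInstance⟩ (hmem ⟨P, inferInstance⟩)
  haveI : Module.Flat Γ(Y, V.1) (X.presheaf.stalk c) := hfl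
  exact Module.Flat.of_linearEquiv
    ((IsLocalization.algEquiv P.primeCompl (Localization.AtPrime P) (X.presheaf.stalk c)).restrictScalars
      Γ(Y, V.1)).toLinearEquiv

/-- Let X and Y be schemes locally of finite type over a field k and f : X → Y a k-morphism, with Y
regular (all local rings regular), X Cohen–Macaulay (all local rings Cohen–Macaulay), X
equidimensional of dimension e, Y equidimensional of dimension d ≤ e, and all fibres of f
equidimensional of dimension e − d (every irreducible component of every fibre has dimension e − d).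
Then f is flat. -/
theorem result (k : Type u) [Field k] {X Y : Scheme.{u}}
    (q : Y ⟶ Spec (CommRingCat.of k)) [LocallyOfFiniteType q] (f : X ⟶ Y) [LocallyOfFiniteType (f ≫ q)]
    (hY : ∀ y : Y, IsRegularLocalRing (Y.presheaf.stalk y))
    (hX : ∀ x : X, LocCoh.IsCohenMacaulayLocalRing (X.presheaf.stalk x))
    (e d : ℕ) (hde : d ≤ e)
    (hXe : ∀ Z ∈ irreducibleComponents (X : Type u), topologicalKrullDim Z = e)
    (hYd : ∀ Z ∈ irreducibleComponents (Y : Type u), topologicalKrullDim Z = d)
    (hfib : ∀ y : Y, ∀ Z ∈ irreducibleComponents (f.base ⁻¹' {y}), topologicalKrullDim Z = (e - d : ℕ)) :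
    Flat f := by
  haveI : IsLocallyNoetherian Y := LocallyOfFiniteType.isLocallyNoetherian q
  haveI : LocallyOfFiniteType f := locallyOfFiniteType_of_comp f q
  haveI : JacobsonSpace X := LocallyOfFiniteType.jacobsonSpace (f ≫ q)
  refine flat_of_closed f fun c hc => ?_
  have hy : IsClosed ({f c} : Set Y) := by
    rw [VarDim.closedPoint_iff_deg_eq_zero q]
    have h1 : VarDim.deg q (f c) ≤ VarDim.deg (f ≫ q) c := VarDim.deg_map_le (f := f) (q := q) rfl c
    rw [(VarDim.closedPoint_iff_deg_eq_zero (f ≫ q) c).1 hc] at h1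
    omega
  haveI : IsRegularLocalRing (Y.presheaf.stalk (f c)) := hY _
  haveI : LocCoh.IsCohenMacaulayLocalRing (X.presheaf.stalk c) := hX c
  letI : Algebra (Y.presheaf.stalk (f c)) (X.presheaf.stalk c) := (f.stalkMap c).hom.toAlgebra
  haveI : IsLocalHom (algebraMap (Y.presheaf.stalk (f c)) (X.presheaf.stalk c)) :=
    inferInstanceAs (IsLocalHom (f.stalkMap c).hom)
  refine S2082.result ?_
  let F := f.fiber (f c)
  let z : F := f.asFiber c
  have hz : IsClosed ({z} : Set F) := by
    have : ({z} : Set F) = f.fiberι (f c) ⁻¹' {c} := by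
      ext w
      constructor
      · rintro rfl; exact f.fiberι_asFiber c
      · intro hw
        exact (f.fiberι (f c)).isEmbedding.injective ((hw : f.fiberι (f c) w = c).trans (f.fiberι_asFiber c).symm)
    rw [this]
    exact hc.preimage (f.fiberι (f c)).continuous
  have hF : ∀ Z ∈ irreducibleComponents (F : Type u), topologicalKrullDim Z = ((e - d : ℕ) : WithBot ℕ∞) := by
    intro Z hZ
    let g := f.fiberHomeo (f c)
    have hgZ : g '' Z ∈ irreducibleComponents (f.base ⁻¹' {f c} : Set X) := by
      have h := preimage_mem_irreducibleComponents hZ g.symm.isOpenEmbedding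
        (by rw [g.symm.surjective.range_eq, Set.inter_univ]; exact hZ.1.1)
      rwa [← g.image_eq_preimage_symm] at h
    rw [← hfib (f c) _ hgZ]
    exact IsHomeomorph.topologicalKrullDim_eq _ (g.image Z).isHomeomorph
  rw [dim_stalk_closed (f ≫ q) e hXe hc, dim_stalk_closed q d hYd hy]
  refine Eq.trans ?_ (congrArg _ ((RelCodim6.fiberStalk_dim f c).symm.trans
    (dim_stalk_closed (f.fiberToSpecResidueField (f c)) (e - d) hF hz)).symm)
  rw [← Nat.cast_add, Nat.add_sub_cancel' hde]

end Groth.Agent.S10882
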