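import Groth.Statements.S10883
import Groth.Agent.MinorAux.Basic
import Mathlib

set_option autoImplicit false
universe u
open CAlgX

namespace Groth.Agent.S10883
open Matrix TensorProduct
open scoped TensorProduct

/-- The generic matrix. -/
noncomputable abbrev gen (k : Type u) [CommRing k] (n m : ℕ) : Matrix (Fin n) (Fin m) (MvPolynomial (Fin n × Fin m) k) :=
  Matrix.of fun i j => MvPolynomial.X (i, j)

/-- A matrix with vanishing larger minors is determined by an invertible block. -/
theorem eq_of_minors {C : Type*} [CommRing C] {n m r : ℕ} (M : Matrix (Fin n) (Fin m) C) (f : Fin r → Fin n)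
    (g : Fin r → Fin m) (hM : ∀ (F : Fin (r + 1) → Fin n) (G : Fin (r + 1) → Fin m), (M.submatrix F G).det = 0)
    [Invertible (M.submatrix f g)] :
    M = M.submatrix id g * ⅟(M.submatrix f g) * M.submatrix f id := by
  ext i j
  let e : Fin r ⊕ Unit ≃ Fin (r + 1) := (Equiv.sumCongr (Equiv.refl _) finOneEquiv.symm).trans finSumFinEquiv
  have h := hM (Sum.elim f (fun _ => i) ∘ e.symm) (Sum.elim g (fun _ => j) ∘ e.symm)
  rw [← Matrix.submatrix_submatrix, Matrix.det_submatrix_equiv_self] at h
  have hb : M.submatrix (Sum.elim f (fun _ : Unit => i)) (Sum.elim g (fun _ : Unit => j)) =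
      Matrix.fromBlocks (M.submatrix f g) (M.submatrix f fun _ => j) (M.submatrix (fun _ => i) g)
        (M.submatrix (fun _ => i) fun _ => j) := by
    ext (a | a) (b | b) <;> rfl
  rw [hb, Matrix.det_fromBlocks₁₁] at h
  have hu : IsUnit (M.submatrix f g).det := Matrix.isUnit_det_of_invertible _
  have h0 := (hu.mul_right_eq_zero).1 h
  rw [Matrix.det_unique, Matrix.sub_apply, sub_eq_zero] at h0
  exact h0

theorem smooth_away {k : Type u} [Field k] {n m r : ℕ} (f : Fin r → Fin n) (g : Fin r → Fin m)
    (L : Type u) [CommRing L] [Algebra k L]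
    [Algebra (MvPolynomial (Fin n × Fin m) k ⧸ CAlgX.minorIdeal (gen k n m) (r + 1)) L]
    [IsScalarTower k (MvPolynomial (Fin n × Fin m) k ⧸ CAlgX.minorIdeal (gen k n m) (r + 1)) L]
    [IsLocalization.Away (Ideal.Quotient.mk (CAlgX.minorIdeal (gen k n m) (r + 1)) ((gen k n m).submatrix f g).det) L] :
    Algebra.FormallySmooth k L := by
  classical
  refine Algebra.FormallySmooth.of_comp_surjective fun C _ _ J hJ φ => ?_
  let A := MvPolynomial (Fin n × Fin m) k ⧸ CAlgX.minorIdeal (gen k n m) (r + 1)
  let q := Ideal.Quotient.mkₐ k J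
  let θ : MvPolynomial (Fin n × Fin m) k →ₐ[k] C ⧸ J :=
    (φ.comp (IsScalarTower.toAlgHom k A L)).comp (Ideal.Quotient.mkₐ k _)
  have hθ : ∀ {s : ℕ} (F : Fin s → Fin n) (G : Fin s → Fin m),
      θ ((gen k n m).submatrix F G).det = (((gen k n m).map θ).submatrix F G).det :=
    fun F G => AlgHom.map_det θ _
  let Mb : Matrix (Fin n) (Fin m) (C ⧸ J) := (gen k n m).map θ
  have hMb : ∀ (F : Fin (r + 1) → Fin n) (G : Fin (r + 1) → Fin m), (Mb.submatrix F G).det = 0 := fun F G => by
    rw [show Mb = (gen k n m).map θ from rfl, ← hθ]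
    show φ (algebraMap A L (Ideal.Quotient.mk _ _)) = 0
    rw [Ideal.Quotient.eq_zero_iff_mem.2 (Groth.Agent.MinorAux.det_submatrix_mem _ F G), map_zero, map_zero]
  have hu0 : IsUnit (Mb.submatrix f g).det := by
    rw [show Mb = (gen k n m).map θ from rfl, ← hθ]
    exact (IsLocalization.Away.algebraMap_isUnit (Ideal.Quotient.mk (CAlgX.minorIdeal (gen k n m) (r + 1))
      ((gen k n m).submatrix f g).det)).map φ
  choose lft hlft using fun x : C ⧸ J => Ideal.Quotient.mk_surjective (I := J) x
  let N : Matrix (Fin n) (Fin m) C := Mb.map lft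
  have hN : N.map q = Mb := by ext i j; exact hlft _
  have hnil : ∀ x ∈ J, IsNilpotent x := fun x hx => ⟨2, by
    have : x ^ 2 ∈ J ^ 2 := Ideal.pow_mem_pow hx 2
    rwa [hJ, Ideal.mem_bot] at this⟩
  have hlift : ∀ x : C, IsUnit (q x) → IsUnit x := fun x hx => by
    obtain ⟨y, hy⟩ := hx.exists_right_inv
    obtain ⟨y, rfl⟩ := Ideal.Quotient.mk_surjective y
    have hmem : x * y - 1 ∈ J := Ideal.Quotient.eq.1 ((map_mul (Ideal.Quotient.mk J) x y).trans (hy.trans (map_one _).symm))
    have h1 : IsUnit (x * y) := by simpa using (hnil _ hmem).isUnit_add_one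
    exact isUnit_of_mul_isUnit_left h1
  have hB : IsUnit (N.submatrix f g).det := hlift _ (by
    rw [AlgHom.map_det]
    show IsUnit ((N.submatrix f g).map q).det
    rw [← Matrix.submatrix_map, hN]; exact hu0)
  letI := Matrix.invertibleOfIsUnitDet _ hB
  letI := Matrix.invertibleOfIsUnitDet _ hu0
  let M : Matrix (Fin n) (Fin m) C := N.submatrix id g * ⅟(N.submatrix f g) * N.submatrix f id
  have hM : M.map q = Mb := by
    have hi : (⅟(N.submatrix f g)).map q = ⅟(Mb.submatrix f g) := by
      refine (invOf_eq_right_inv ?_).symm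
      rw [← hN, Matrix.submatrix_map, ← Matrix.map_mul, mul_invOf_self, Matrix.map_one _ (map_zero q) (map_one q)]
    simp only [M]
    rw [Matrix.map_mul, Matrix.map_mul, hi, ← Matrix.submatrix_map, ← Matrix.submatrix_map, hN]
    exact (eq_of_minors Mb f g hMb).symm
  let ψ₀ : MvPolynomial (Fin n × Fin m) k →ₐ[k] C := MvPolynomial.aeval fun p => M p.1 p.2
  have hψ : ∀ a ∈ CAlgX.minorIdeal (gen k n m) (r + 1), ψ₀ a = 0 := by
    have hle : CAlgX.minorIdeal (gen k n m) (r + 1) ≤ RingHom.ker ψ₀.toRingHom := by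
      refine Groth.Agent.MinorAux.minorIdeal_le fun F G => ?_
      show ψ₀ _ = 0
      have hz : (M.submatrix F G).det ∈ (⊥ : Ideal C) := by
        rw [← Groth.Agent.MinorAux.minorIdeal_mul_eq_bot (N.submatrix id g * ⅟(N.submatrix f g)) (N.submatrix f id)
          (Nat.lt_succ_self r)]
        exact Groth.Agent.MinorAux.det_submatrix_mem _ F G
      rw [AlgHom.map_det, show ψ₀.mapMatrix ((gen k n m).submatrix F G) = M.submatrix F G from by
        ext a b; simp [ψ₀]]
      exact hz
    exact fun a ha => hle ha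
  let ψ₁ : A →ₐ[k] C := Ideal.Quotient.liftₐ _ ψ₀ hψ
  have hcomp : (q.comp ψ₁) = φ.comp (IsScalarTower.toAlgHom k A L) := by
    refine Ideal.Quotient.algHom_ext k (MvPolynomial.algHom_ext fun p => ?_)
    show q (ψ₁ (Ideal.Quotient.mk _ (MvPolynomial.X p))) = Mb p.1 p.2
    rw [← hM]
    exact congrArg q (MvPolynomial.aeval_X _ p)
  have hunit : ∀ y : Submonoid.powers (Ideal.Quotient.mk (CAlgX.minorIdeal (gen k n m) (r + 1))
      ((gen k n m).submatrix f g).det), IsUnit (ψ₁ y) := by
    rintro ⟨_, i, rfl⟩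
    show IsUnit (ψ₁ (_ ^ i))
    rw [map_pow]
    refine IsUnit.pow _ (hlift _ ?_)
    show IsUnit ((q.comp ψ₁) _)
    rw [hcomp]
    exact (IsLocalization.Away.algebraMap_isUnit (Ideal.Quotient.mk (CAlgX.minorIdeal (gen k n m) (r + 1))
      ((gen k n m).submatrix f g).det)).map φ
  refine ⟨IsLocalization.liftAlgHom (M := Submonoid.powers (Ideal.Quotient.mk _ ((gen k n m).submatrix f g).det)) hunit, ?_⟩
  refine IsLocalization.algHom_ext (Submonoid.powers (Ideal.Quotient.mk (CAlgX.minorIdeal (gen k n m) (r + 1))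
      ((gen k n m).submatrix f g).det)) (AlgHom.ext fun a => ?_)
  show q (IsLocalization.lift (M := Submonoid.powers (Ideal.Quotient.mk (CAlgX.minorIdeal (gen k n m) (r + 1))
      ((gen k n m).submatrix f g).det)) hunit (algebraMap A L a)) = φ (algebraMap A L a)
  rw [IsLocalization.lift_eq]
  exact AlgHom.congr_fun hcomp a

theorem derivation_det_eq_zero {k R : Type*} [CommRing k] [CommRing R] [Algebra k R] (d : Derivation k R R)
    {r : ℕ} (M : Matrix (Fin r) (Fin r) R) (h : ∀ i j, d (M i j) = 0) : d M.det = 0 := by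
  classical
  rw [Matrix.det_apply, map_sum]
  refine Finset.sum_eq_zero fun σ _ => ?_
  rw [Units.smul_def, map_zsmul]
  suffices ∀ s : Finset (Fin r), d (∏ i ∈ s, M (σ i) i) = 0 by rw [this, smul_zero]
  intro s
  induction s using Finset.induction with
  | empty => simp
  | insert a s ha ih => rw [Finset.prod_insert ha, Derivation.leibniz, ih, h]; simp

theorem pderiv_minor_mem (k : Type u) [CommRing k] (n m r : ℕ) (F : Fin (r + 1) → Fin n)
    (G : Fin (r + 1) → Fin m) (p : Fin n × Fin m) :
    MvPolynomial.pderiv p ((gen k n m).submatrix F G).det ∈ CAlgX.minorIdeal (gen k n m) r := by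
  classical
  by_cases hF : Function.Injective F
  swap
  · obtain ⟨a, b, hab, hne⟩ := Function.not_injective_iff.1 hF
    rw [Matrix.det_zero_of_row_eq hne (funext fun c => by simp [hab]), map_zero]
    exact zero_mem _
  by_cases hp : ∃ i, F i = p.1
  swap
  · push Not at hp
    rw [derivation_det_eq_zero _ _ fun i j => by
      simp only [Matrix.submatrix_apply, Matrix.of_apply]
      rw [MvPolynomial.pderiv_X_of_ne]
      intro e; exact hp i (by rw [← e])]
    exact zero_mem _
  obtain ⟨i₀, hi₀⟩ := hp
  rw [Matrix.det_succ_row _ i₀, map_sum]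
  refine Ideal.sum_mem _ fun j _ => ?_
  rw [Derivation.leibniz, derivation_det_eq_zero (MvPolynomial.pderiv p)
    (((gen k n m).submatrix F G).submatrix i₀.succAbove j.succAbove) (fun a b => by
      simp only [Matrix.submatrix_apply, Matrix.of_apply]
      rw [MvPolynomial.pderiv_X_of_ne]
      intro e
      exact Fin.succAbove_ne i₀ a (hF ((congrArg Prod.fst e).trans hi₀.symm))), smul_zero, zero_add, smul_eq_mul]
  refine Ideal.mul_mem_right _ _ ?_
  rw [Matrix.submatrix_submatrix]
  exact Groth.Agent.MinorAux.det_submatrix_mem _ _ _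

theorem tmul_mem_smul_top {A : Type*} [CommSemiring A] {N M : Type*} [AddCommMonoid N] [Module A N]
    [AddCommMonoid M] [Module A M] (J : Ideal A) {x : M} (hx : x ∈ J • (⊤ : Submodule A M)) (y : N) :
    y ⊗ₜ[A] x ∈ J • (⊤ : Submodule A (N ⊗[A] M)) := by
  refine Submodule.smul_induction_on hx (fun a ha z _ => ?_) (fun z w hz hw => ?_)
  · rw [TensorProduct.tmul_smul]; exact Submodule.smul_mem_smul ha Submodule.mem_top
  · rw [TensorProduct.tmul_add]; exact add_mem hz hw

theorem mem_smul_of_split {A : Type*} [CommRing A] {K m : Ideal A} (hsq : K ^ 2 ≤ m • K) {W : Type*}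
    [AddCommGroup W] [Module A W] (φ : K.Cotangent →ₗ[A] W) (l : W →ₗ[A] K.Cotangent) (hl : l.comp φ = LinearMap.id)
    (x : A) (hx : x ∈ K) (h : φ (K.toCotangent ⟨x, hx⟩) ∈ m • (⊤ : Submodule A W)) : x ∈ m • K := by
  have h2 : K.toCotangent ⟨x, hx⟩ ∈ m • (⊤ : Submodule A K.Cotangent) := by
    have := Submodule.mem_map_of_mem (f := l) h
    rw [Submodule.map_smul''] at this
    rw [show l (φ (K.toCotangent ⟨x, hx⟩)) = K.toCotangent ⟨x, hx⟩ from LinearMap.congr_fun hl _] at this
    exact Submodule.smul_mono le_rfl le_top this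
  rw [← LinearMap.range_eq_top.2 K.toCotangent_surjective, ← Submodule.map_top, ← Submodule.map_smul''] at h2
  obtain ⟨w, hw, e⟩ := h2
  rw [Ideal.toCotangent_eq] at e
  have hw' : (w : A) ∈ m • K := by
    have := Submodule.mem_map_of_mem (f := K.subtype) hw
    rwa [Submodule.map_smul'', Submodule.map_subtype_top] at this
  have := sub_mem hw' (hsq e)
  simpa using this

theorem mem_smul_ker {k S T : Type*} [CommRing k] [CommRing S] [CommRing T] [Algebra k S] [Algebra k T]
    [Algebra S T] [IsScalarTower k S T] [Algebra.FormallySmooth k S]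
    (hsurj : Function.Surjective (algebraMap S T)) (hs : Algebra.FormallySmooth k T) (m : Ideal S)
    (hKm : RingHom.ker (algebraMap S T) ≤ m) (x : S) (hx : x ∈ RingHom.ker (algebraMap S T))
    (hD : KaehlerDifferential.D k S x ∈ m • (⊤ : Submodule S (Ω[S⁄k]))) :
    x ∈ m • RingHom.ker (algebraMap S T) := by
  obtain ⟨l, hl⟩ := (Algebra.FormallySmooth.iff_split_injection (R := k) (P := S) (A := T) hsurj).1 hs
  have hsq : RingHom.ker (algebraMap S T) ^ 2 ≤ m • RingHom.ker (algebraMap S T) := by
    rw [pow_two, smul_eq_mul]; exact Ideal.mul_mono_left hKm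
  refine mem_smul_of_split hsq _ l hl x hx ?_
  rw [KaehlerDifferential.kerCotangentToTensor_toCotangent]
  exact tmul_mem_smul_top _ hD 1

/-- No smooth point at which the equations are killed to first order. -/
theorem not_smooth_of_gradient {k : Type u} [Field k] {σ : Type} [Fintype σ]
    (I : Ideal (MvPolynomial σ k)) (hI : I ≠ ⊥) (P : Ideal (MvPolynomial σ k ⧸ I)) [P.IsPrime]
    (hgrad : ∀ x ∈ I, ∀ p : σ, MvPolynomial.pderiv p x ∈ P.comap (Ideal.Quotient.mk I)) :
    ¬ Algebra.FormallySmooth k (Localization.AtPrime P) := by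
  classical
  intro hs
  let R := MvPolynomial σ k
  let Q : Ideal R := P.comap (Ideal.Quotient.mk I)
  let S := Localization.AtPrime Q
  let T := Localization.AtPrime P
  let π : S →+* T := Localization.localRingHom Q P (Ideal.Quotient.mk I) rfl
  have hπc : ∀ x : R, π (algebraMap R S x) = algebraMap _ T (Ideal.Quotient.mk I x) := fun x =>
    Localization.localRingHom_to_map _ _ _ rfl x
  letI : Algebra S T := π.toAlgebra
  haveI : IsScalarTower k S T := IsScalarTower.of_algebraMap_eq fun c => by
    rw [RingHom.algebraMap_toAlgebra, IsScalarTower.algebraMap_apply k R S, hπc,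
      IsScalarTower.algebraMap_apply k (R ⧸ I) T]
    rfl
  have hsurj : Function.Surjective (algebraMap S T) := by
    intro y
    obtain ⟨a, s, rfl⟩ := IsLocalization.exists_mk'_eq P.primeCompl y
    obtain ⟨a, rfl⟩ := Ideal.Quotient.mk_surjective a
    obtain ⟨b, hb⟩ := Ideal.Quotient.mk_surjective (s : R ⧸ I)
    have hbP : b ∈ Q.primeCompl := fun h => s.2 (by rw [← hb]; exact h)
    refine ⟨IsLocalization.mk' S a (⟨b, hbP⟩ : Q.primeCompl), ?_⟩
    rw [IsLocalization.eq_mk'_iff_mul_eq, ← hb, RingHom.algebraMap_toAlgebra, ← hπc, ← hπc, ← map_mul,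
      IsLocalization.mk'_spec]
  haveI : Algebra.FormallySmooth R S := Algebra.FormallySmooth.of_isLocalization Q.primeCompl
  haveI : Algebra.FormallySmooth k S := Algebra.FormallySmooth.comp k R S
  have hker : RingHom.ker (algebraMap S T) = I.map (algebraMap R S) := by
    refine le_antisymm (fun y hy => ?_) (Ideal.map_le_iff_le_comap.2 fun x hx => ?_)
    · obtain ⟨a, s, rfl⟩ := IsLocalization.exists_mk'_eq Q.primeCompl y
      have h0 : algebraMap (R ⧸ I) T (Ideal.Quotient.mk I a) = 0 := by
        rw [← hπc, ← IsLocalization.mk'_spec S a s, map_mul]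
        rw [RingHom.mem_ker, RingHom.algebraMap_toAlgebra] at hy
        rw [hy, zero_mul]
      obtain ⟨⟨t, ht⟩, htt⟩ := (IsLocalization.map_eq_zero_iff P.primeCompl T _).1 h0
      obtain ⟨t, rfl⟩ := Ideal.Quotient.mk_surjective t
      rw [← map_mul, Ideal.Quotient.eq_zero_iff_mem] at htt
      exact (IsLocalization.mk'_mem_map_algebraMap_iff Q.primeCompl S I a s).2 ⟨t, ht, htt⟩
    · rw [Ideal.mem_comap, RingHom.mem_ker, RingHom.algebraMap_toAlgebra, hπc,
        Ideal.Quotient.eq_zero_iff_mem.2 hx, map_zero]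
  let K := RingHom.ker (algebraMap S T)
  have hD : ∀ x ∈ I, KaehlerDifferential.D k S (algebraMap R S x) ∈
      IsLocalRing.maximalIdeal S • (⊤ : Submodule S (Ω[S⁄k])) := fun x hx => by
    rw [← KaehlerDifferential.map_D k k R S,
      ← (KaehlerDifferential.mvPolynomialBasis k σ).sum_repr (KaehlerDifferential.D k R x), map_sum]
    refine Submodule.sum_mem _ fun p _ => ?_
    rw [map_smul, KaehlerDifferential.mvPolynomialBasis_repr_apply, ← algebraMap_smul S (MvPolynomial.pderiv p x)]
    refine Submodule.smul_mem_smul ?_ Submodule.mem_top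
    rw [← Localization.AtPrime.map_eq_maximalIdeal]
    exact Ideal.mem_map_of_mem _ (hgrad x hx p)
  have hle : K ≤ IsLocalRing.maximalIdeal S • K := by
    rw [show K = I.map (algebraMap R S) from hker, Ideal.map_le_iff_le_comap, ← hker]
    intro x hx
    exact mem_smul_ker hsurj hs _ (IsLocalRing.le_maximalIdeal (RingHom.ker_ne_top _)) _
      (hker.ge (Ideal.mem_map_of_mem _ hx)) (hD x hx)
  have hK0 : K = ⊥ := Submodule.eq_bot_of_le_smul_of_le_jacobson_bot _ _ (IsNoetherian.noetherian _) hle
    (IsLocalRing.maximalIdeal_le_jacobson ⊥)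
  refine hI (eq_bot_iff.2 fun x hx => ?_)
  have h0 : algebraMap R S x = 0 := by
    rw [← Ideal.mem_bot, ← hK0]; exact hker.ge (Ideal.mem_map_of_mem _ hx)
  exact IsLocalization.injective S Q.primeCompl_le_nonZeroDivisors (by rw [h0, map_zero])


/-- Let k be a field and 0 < r < min(n, m), and let B be the coordinate ring of the affine determinantal
scheme of n × m matrices of rank at most r over k (polynomial ring on the entries of the generic
matrix modulo its (r+1) × (r+1) minors). A prime P of B is a smooth point over k (the localization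
B_P is formally smooth over k) exactly when it corresponds to a matrix of rank exactly r, i.e. when
P does not contain the image of the ideal generated by the r × r minors. -/
theorem result (k : Type u) [Field k] (n m r : ℕ) (hr0 : 0 < r)
    (hr : r < min n m)
    (P : PrimeSpectrum (MvPolynomial (Fin n × Fin m) k ⧸ CAlgX.minorIdeal (Matrix.of fun (i : Fin n) (j : Fin m) => (MvPolynomial.X (i, j) : MvPolynomial (Fin n × Fin m) k)) (r + 1))) :
    P ∈ Algebra.smoothLocus k (MvPolynomial (Fin n × Fin m) k ⧸ CAlgX.minorIdeal (Matrix.of fun (i : Fin n) (j : Fin m) => (MvPolynomial.X (i, j) : MvPolynomial (Fin n × Fin m) k)) (r + 1)) ↔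
      ¬ (CAlgX.minorIdeal (Matrix.of fun (i : Fin n) (j : Fin m) => (MvPolynomial.X (i, j) : MvPolynomial (Fin n × Fin m) k)) r).map
          (Ideal.Quotient.mk (CAlgX.minorIdeal (Matrix.of fun (i : Fin n) (j : Fin m) => (MvPolynomial.X (i, j) : MvPolynomial (Fin n × Fin m) k)) (r + 1))) ≤ P.asIdeal := by
  classical
  let R := MvPolynomial (Fin n × Fin m) k
  let I := CAlgX.minorIdeal (gen k n m) (r + 1)
  constructor
  · intro hP hle
    refine not_smooth_of_gradient I ?_ P.asIdeal ?_ hP
    · intro h0
      let F : Fin (r + 1) → Fin n := Fin.castLE (by omega)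
      let G : Fin (r + 1) → Fin m := Fin.castLE (by omega)
      have h := Groth.Agent.MinorAux.det_submatrix_mem (gen k n m) F G
      rw [show CAlgX.minorIdeal (gen k n m) (r + 1) = ⊥ from h0, Ideal.mem_bot] at h
      have h1 := congrArg (MvPolynomial.eval fun p : Fin n × Fin m => if (p.1 : ℕ) = p.2 then (1 : k) else 0) h
      rw [RingHom.map_det, map_zero, show (MvPolynomial.eval fun p : Fin n × Fin m => if (p.1 : ℕ) = p.2 then (1 : k) else 0).mapMatrix
        ((gen k n m).submatrix F G) = (1 : Matrix (Fin (r + 1)) (Fin (r + 1)) k) from by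
          ext a b
          simp [Matrix.one_apply, F, G, Fin.ext_iff], Matrix.det_one] at h1
      exact one_ne_zero h1
    · intro x hx p
      rw [Ideal.map_le_iff_le_comap] at hle
      refine Submodule.span_induction (fun y hy => ?_) (by rw [map_zero]; exact zero_mem _)
        (fun y z _ _ hy hz => by rw [map_add]; exact add_mem hy hz) (fun c y hy' hy => ?_) hx
      · obtain ⟨⟨F, G⟩, rfl⟩ := hy
        exact hle (pderiv_minor_mem k n m r F G p)
      · rw [smul_eq_mul, Derivation.leibniz, smul_eq_mul, smul_eq_mul]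
        refine add_mem (Ideal.mul_mem_left _ _ hy) (Ideal.mul_mem_right _ _ ?_)
        rw [Ideal.mem_comap, (Ideal.Quotient.eq_zero_iff_mem (I := I)).2 hy']
        exact zero_mem _
  · intro hnle
    rw [Ideal.map_le_iff_le_comap] at hnle
    obtain ⟨F, G, hFG⟩ : ∃ (F : Fin r → Fin n) (G : Fin r → Fin m),
        Ideal.Quotient.mk I ((gen k n m).submatrix F G).det ∉ P.asIdeal := by
      by_contra hc
      push Not at hc
      exact hnle (Groth.Agent.MinorAux.minorIdeal_le fun F G => hc F G)
    haveI : Algebra.FinitePresentation k (R ⧸ I) :=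
      Algebra.FinitePresentation.quotient (IsNoetherian.noetherian I)
    exact (Algebra.basicOpen_subset_smoothLocus_iff (R := k) (A := R ⧸ I)
      (f := Ideal.Quotient.mk I ((gen k n m).submatrix F G).det)).2 (smooth_away F G _) hFG


end Groth.Agent.S10883
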