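import Groth.Statements.S10884
import Groth.Agent.VarDim.Fibre

set_option autoImplicit false
universe u
open CategoryTheory AlgebraicGeometry
open Variety

namespace Groth.Agent.S10884


open Groth.Agent.VarDim Order

/-- Let Y be a scheme of finite type over a field k and f : X → Y a dominant morphism of finite type all
of whose non-empty fibres have dimension r. Then dim X = r + dim Y. -/
theorem result (k : Type u) [Field k] {X Y : Scheme.{u}}
    (q : Y ⟶ Spec (CommRingCat.of k)) [LocallyOfFiniteType q] [QuasiCompact q]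
    (f : X ⟶ Y) [LocallyOfFiniteType f] [QuasiCompact f] (hdom : DenseRange f.base) (r : ℕ)
    (hfib : ∀ y : Y, (f.base ⁻¹' {y}).Nonempty → topologicalKrullDim (f.base ⁻¹' {y}) = r) :
    topologicalKrullDim X = (r : WithBot ℕ∞) + topologicalKrullDim Y := by
  refine le_antisymm ?_ ?_
  · rw [topologicalKrullDim_eq_iSup_deg (f ≫ q), topologicalKrullDim_eq_iSup_deg q]
    refine iSup_le fun x => ?_
    have h1 : ((fdeg f x : ℕ∞) : WithBot ℕ∞) ≤ (r : WithBot ℕ∞) := by
      rw [← hfib (f x) ⟨x, rfl⟩, topologicalKrullDim_preimage_singleton f (f x)]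
      exact le_iSup_of_le ⟨x, rfl⟩ le_rfl
    have h2 : ((deg q (f x) : ℕ∞) : WithBot ℕ∞) ≤ ⨆ y : Y, ((deg q y : ℕ∞) : WithBot ℕ∞) :=
      le_iSup (fun y : Y => ((deg q y : ℕ∞) : WithBot ℕ∞)) (f x)
    refine le_trans (le_of_eq ?_) (add_le_add h1 h2)
    rw [deg_comp_eq f q, add_comm (deg q (f x))]
    norm_cast
  · have : CompactSpace Y := (quasiCompact_iff_compactSpace q).1 inferInstance
    have : CompactSpace X := (quasiCompact_iff_compactSpace (f ≫ q)).1 inferInstance
    rcases isEmpty_or_nonempty Y with hY | hY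
    · rw [show topologicalKrullDim Y = ⊥ by rw [topologicalKrullDim_eq_iSup_deg q, iSup_of_empty]]
      simp
    obtain ⟨η, hmax, -, hη⟩ := exists_deg_eq_topologicalKrullDim q (X := Y)
    have hηr := mem_range_of_maximal (f ≫ q) f (by rw [hdom.closure_range]; trivial : η ∈ closure (Set.range f)) hmax
    obtain ⟨z, hz⟩ := hηr
    have h := hfib η ⟨z, hz⟩
    rw [hη, ← h, topologicalKrullDim_preimage_singleton f η, topologicalKrullDim_eq_iSup_deg (f ≫ q)]
    have : Nonempty ↥(f ⁻¹' {η}) := ⟨⟨z, hz⟩⟩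
    rw [topologicalKrullDim_preimage_singleton f η] at h
    obtain ⟨x, hx⟩ : ∃ x : f ⁻¹' {η}, r ≤ fdeg f x.1 := by
      by_contra! hlt
      rcases Nat.eq_zero_or_pos r with rfl | hr
      · exact Nat.not_lt_zero _ (hlt (Classical.arbitrary _))
      · have : (r : WithBot ℕ∞) ≤ ((r - 1 : ℕ) : WithBot ℕ∞) := h.symm.le.trans (iSup_le fun x =>
          WithBot.coe_le_coe.2 (Nat.cast_le.2 (by have := hlt x; omega)))
        norm_cast at this
        omega
    rw [h]
    refine le_iSup_of_le x.1 ?_
    rw [deg_comp_eq f q, show f x.1 = η from x.2]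
    have : r + deg q η ≤ deg q η + fdeg f x.1 := by omega
    exact_mod_cast this

end Groth.Agent.S10884
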