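import Groth.Statements.S10885
import Groth.Agent.VarDim.Fibre

set_option autoImplicit false
universe u
open CategoryTheory AlgebraicGeometry
open Variety

namespace Groth.Agent.S10885


open Groth.Agent.VarDim Order

/-- Let Y be a scheme of finite type over a field k, r ≥ 0, and f : X → Y a morphism of finite type
whose fibre over every maximal point of Y has dimension at least r. Then dim X ≥ r + dim Y. -/
theorem result (k : Type u) [Field k] {X Y : Scheme.{u}}
    (q : Y ⟶ Spec (CommRingCat.of k)) [LocallyOfFiniteType q] [QuasiCompact q]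
    (f : X ⟶ Y) [LocallyOfFiniteType f] [QuasiCompact f] (r : ℕ)
    (hfib : ∀ η : Y, (∀ y : Y, y ⤳ η → y = η) → (r : WithBot ℕ∞) ≤ topologicalKrullDim (f.base ⁻¹' {η})) :
    (r : WithBot ℕ∞) + topologicalKrullDim Y ≤ topologicalKrullDim X := by
  have : CompactSpace Y := (quasiCompact_iff_compactSpace q).1 inferInstance
  rcases isEmpty_or_nonempty Y with hY | hY
  · rw [show topologicalKrullDim Y = ⊥ by rw [topologicalKrullDim_eq_iSup_deg q, iSup_of_empty]]
    simp
  obtain ⟨η, hmax, -, hη⟩ := exists_deg_eq_topologicalKrullDim q (X := Y)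
  rw [hη, topologicalKrullDim_eq_iSup_deg (f ≫ q)]
  have h := hfib η hmax
  rw [topologicalKrullDim_preimage_singleton f η] at h
  obtain ⟨x, hx⟩ : ∃ x : f ⁻¹' {η}, r ≤ fdeg f x.1 := by
    by_contra! hlt
    rcases Nat.eq_zero_or_pos r with rfl | hr
    · rcases isEmpty_or_nonempty ↥(f ⁻¹' {η}) with he | hne
      · rw [iSup_of_empty] at h
        simp at h
      · exact Nat.not_lt_zero _ (hlt (Classical.arbitrary _))
    · have : (r : WithBot ℕ∞) ≤ ((r - 1 : ℕ) : WithBot ℕ∞) := h.trans (iSup_le fun x =>
        WithBot.coe_le_coe.2 (Nat.cast_le.2 (by have := hlt x; omega)))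
      norm_cast at this
      omega
  refine le_iSup_of_le x.1 ?_
  rw [deg_comp_eq f q, show f x.1 = η from x.2]
  have : r + deg q η ≤ deg q η + fdeg f x.1 := by omega
  exact_mod_cast this

end Groth.Agent.S10885
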