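import Groth.Statements.S10886
import Mathlib.Topology.Sober
import Mathlib.Order.KrullDimension
import Mathlib.AlgebraicGeometry.Properties

set_option autoImplicit false
universe u
open CategoryTheory AlgebraicGeometry
open Curves

namespace Groth.Agent.S10886

/-- In an irreducible Noetherian scheme of dimension one every constructible subset is either a finite
set of closed points or the complement of such a set; in particular it is open or closed. -/
theorem result {X : Scheme.{u}} [IsNoetherian X]
    [IrreducibleSpace X] (hX : topologicalKrullDim X = 1) (s : Set X) (hs : Topology.IsConstructible s) :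
    (s.Finite ∧ (∀ x ∈ s, IsClosed ({x} : Set X))) ∨ (sᶜ.Finite ∧ ∀ x ∈ sᶜ, IsClosed ({x} : Set X)) := by
  classical
  set η := genericPoint X with hη
  have hgen : closure ({η} : Set X) = Set.univ := genericPoint_closure X
  have hclosed : ∀ x : X, x ≠ η → IsClosed ({x} : Set X) := by
    intro x hx
    rw [← closure_eq_iff_isClosed]
    by_contra hne
    obtain ⟨y, hy, hyx⟩ : ∃ y ∈ closure ({x} : Set X), y ≠ x := by
      by_contra hc; push Not at hc
      exact hne (Set.Subset.antisymm hc subset_closure)
    let Z : X → TopologicalSpace.IrreducibleCloseds X := fun z =>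
      ⟨closure {z}, isIrreducible_singleton.closure, isClosed_closure⟩
    have hZ : ∀ a b : X, a ∈ closure ({b} : Set X) → a ≠ b → Z a < Z b := by
      intro a b hab hne'
      refine lt_of_le_of_ne (show closure ({a} : Set X) ⊆ closure {b} from closure_minimal (by simpa using hab) isClosed_closure) fun he => hne' ?_
      exact inseparable_iff_eq.1 (inseparable_iff_closure_eq.2 (congrArg TopologicalSpace.IrreducibleCloseds.carrier he))
    have h1 := hZ y x hy hyx
    have h2 := hZ x η (by rw [hgen]; trivial) hx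
    let l : LTSeries (TopologicalSpace.IrreducibleCloseds X) := ⟨2, ![Z y, Z x, Z η], Fin.forall_fin_two.2 ⟨h1, h2⟩⟩
    have hlen : l.length = 2 := rfl
    have := Order.LTSeries.length_le_krullDim l
    change ((l.length : ℕ) : WithBot ℕ∞) ≤ topologicalKrullDim X at this
    rw [hX, hlen] at this
    exact absurd this (by decide)
  have hfin : ∀ T : Set X, IsClosed T → η ∉ T → T.Finite := by
    intro T hT hηT
    obtain ⟨S, hSf, hSc, hSi, hST⟩ := TopologicalSpace.NoetherianSpace.exists_finite_set_isClosed_irreducible hT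
    rw [hST]
    refine hSf.sUnion fun t ht => ?_
    obtain ⟨z, hz⟩ := QuasiSober.sober (hSi t ht) (hSc t ht)
    have hzt : z ∈ t := hz.mem
    have hzη : z ≠ η := fun h => hηT (hST ▸ ⟨t, ht, h ▸ hzt⟩)
    rw [← hz.def, (hclosed z hzη).closure_eq]
    exact Set.finite_singleton z
  have key : ∀ t : Set X, Topology.IsConstructible t →
      (η ∈ t → ∃ U : Set X, IsOpen U ∧ η ∈ U ∧ U ⊆ t) ∧ (η ∉ t → ∃ U : Set X, IsOpen U ∧ η ∈ U ∧ U ⊆ tᶜ) := by
    intro t ht
    induction ht using Topology.IsConstructible.empty_union_induction with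
    | open_retrocompact U hU _ =>
      refine ⟨fun h => ⟨U, hU, h, le_rfl⟩, fun h => ⟨Set.univ, isOpen_univ, trivial, fun x _ hx => h ?_⟩⟩
      exact ((genericPoint_specializes x).mem_open hU hx)
    | union s' _ t' _ hs' ht' =>
      constructor
      · rintro (h | h)
        · obtain ⟨U, h1, h2, h3⟩ := hs'.1 h; exact ⟨U, h1, h2, h3.trans Set.subset_union_left⟩
        · obtain ⟨U, h1, h2, h3⟩ := ht'.1 h; exact ⟨U, h1, h2, h3.trans Set.subset_union_right⟩
      · intro h
        simp only [Set.mem_union, not_or] at h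
        obtain ⟨U, h1, h2, h3⟩ := hs'.2 h.1
        obtain ⟨V, h1', h2', h3'⟩ := ht'.2 h.2
        exact ⟨U ∩ V, h1.inter h1', ⟨h2, h2'⟩, fun x hx => by simpa using ⟨h3 hx.1, h3' hx.2⟩⟩
    | compl s' _ hs' =>
      refine ⟨fun h => hs'.2 h, fun h => ?_⟩
      obtain ⟨U, h1, h2, h3⟩ := hs'.1 (by simpa using h)
      exact ⟨U, h1, h2, by simpa using h3⟩
  have hfinc : ∀ t : Set X, (∃ U : Set X, IsOpen U ∧ η ∈ U ∧ U ⊆ t) → tᶜ.Finite ∧ ∀ x ∈ tᶜ, IsClosed ({x} : Set X) := by
    rintro t ⟨U, hU, hηU, hUt⟩
    exact ⟨(hfin Uᶜ hU.isClosed_compl (by simpa using hηU)).subset (Set.compl_subset_compl.2 hUt),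
      fun x hx => hclosed x fun h => hx (h ▸ hUt hηU)⟩
  by_cases h : η ∈ s
  · exact Or.inr (hfinc s ((key s hs).1 h))
  · have := hfinc sᶜ ((key s hs).2 h)
    rw [compl_compl] at this
    exact Or.inl this

end Groth.Agent.S10886
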