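import Groth.Statements.S10887
import Mathlib
import Groth.Agent.DimFormula.DedekindFlat
import Groth.Agent.SchTop.Closed

set_option autoImplicit false
universe u
open CategoryTheory AlgebraicGeometry
open FlatMor

namespace Groth.Agent.S10887

/-- (i) ⇔ (iii): let Y be a Dedekind scheme — an integral Noetherian scheme of dimension at most one all
of whose local rings are regular — and f : X → Y a morphism of schemes with X reduced. Then f is
flat if and only if every irreducible component of X dominates Y. (Without reducedness only the
forward implication holds.) -/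
theorem result {X Y : Scheme.{u}} [IsIntegral Y]
    [IsNoetherian Y] (hreg : ∀ y : Y, IsRegularLocalRing (Y.presheaf.stalk y)) (hdim : topologicalKrullDim Y ≤ 1)
    (f : X ⟶ Y) [IsReduced X] :
    Flat f ↔ ∀ Z ∈ irreducibleComponents (X : Type u), Dense (f.base '' Z) := by
  classical
  have hgen : ∀ Z ∈ irreducibleComponents (X : Type u), ∃ η : X, closure {η} = Z ∧ ∀ z, z ⤳ η → z = η := by
    intro Z hZ
    refine ⟨hZ.1.genericPoint, ?_, fun z hz => ?_⟩
    · have h := hZ.1.isGenericPoint_genericPoint_closure
      rwa [(isClosed_of_mem_irreducibleComponents Z hZ).closure_eq] at h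
    · have h := hZ.1.isGenericPoint_genericPoint_closure
      rw [(isClosed_of_mem_irreducibleComponents Z hZ).closure_eq] at h
      have h2 : Z ⊆ closure {z} := h.def ▸ specializes_iff_closure_subset.mp hz
      exact IsGenericPoint.eq (le_antisymm (hZ.2 isIrreducible_singleton.closure h2) h2) h
  constructor
  · intro hf Z hZ
    obtain ⟨η, hη, hmax⟩ := hgen Z hZ
    obtain ⟨z, hz, hz'⟩ := Flat.generalizingMap f ((genericPoint_spec Y).specializes (Set.mem_univ (f η)))
    have : genericPoint Y ∈ f.base '' Z := by
      refine ⟨z, ?_, hz'⟩
      rw [hmax z hz, ← hη]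
      exact subset_closure rfl
    refine Dense.mono (Set.singleton_subset_iff.mpr this) ?_
    rw [dense_iff_closure_eq]
    exact (genericPoint_spec Y).def
  · intro h
    refine Groth.Agent.DimFormula.flat_of_regular_dim_le_one (fun y => ⟨hreg y, (Groth.Agent.SchTop.ringKrullDim_stalk_le y).trans hdim⟩) f fun η hmax => ?_
    obtain ⟨Z, hZ, hηZ⟩ := exists_mem_irreducibleComponents_subset_of_isIrreducible _ (isIrreducible_singleton (x := η))
    obtain ⟨ξ, hξ, -⟩ := hgen Z hZ
    have hξη : ξ ⤳ η := specializes_iff_mem_closure.mpr (hξ ▸ hηZ rfl)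
    rw [hmax ξ hξη] at hξ
    have hsub : f.base '' Z ⊆ closure {f η} := by
      rw [← hξ]
      refine (image_closure_subset_closure_image f.continuous).trans ?_
      rw [Set.image_singleton]
    have hd : closure {f η} = Set.univ := by
      have := (h Z hZ).mono hsub
      rwa [dense_iff_closure_eq, closure_closure] at this
    exact IsGenericPoint.eq hd (genericPoint_spec Y)

end Groth.Agent.S10887
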