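import Groth.Statements.S10889
import Mathlib
import Groth.Agent.S0403
import Groth.Agent.S0404
import Groth.Agent.FlatMisc.DimNear

set_option autoImplicit false
universe u
open CategoryTheory AlgebraicGeometry
open FlatMor

namespace Groth.Agent.S10889

/-- Let f : X → Y be proper, flat and of finite presentation, and let V be the set of points of Y whose
fibre is (non-empty and) zero-dimensional. Then V is a clopen subset of Y, and over every open
subset of V the restriction of f is finite, hence finite locally free. -/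
theorem result {X Y : Scheme.{u}} (f : X ⟶ Y) [IsProper f] [Flat f]
    [LocallyOfFinitePresentation f] :
    IsClopen {y : Y | topologicalKrullDim (f.base ⁻¹' {y}) = 0} ∧
      ∀ U : Y.Opens, (U : Set Y) ⊆ {y : Y | topologicalKrullDim (f.base ⁻¹' {y}) = 0} → IsFinite (f ∣_ U) := by
  have hdim : ∀ y : Y, topologicalKrullDim ↥(f.fiber y) = topologicalKrullDim ↥(f.base ⁻¹' {y}) := fun y =>
    (f.fiberHomeo y).isHomeomorph.topologicalKrullDim_eq
  have hset : {y : Y | topologicalKrullDim ↥(f.base ⁻¹' {y}) = 0} =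
      Set.range f ∩ {y : Y | topologicalKrullDim ↥(f.fiber y) ≤ 0} := by
    ext y
    simp only [Set.mem_setOf_eq, Set.mem_inter_iff, hdim, Set.mem_range]
    constructor
    · intro h
      refine ⟨?_, h.le⟩
      by_contra hne
      haveI : IsEmpty ↥(f.base ⁻¹' {y}) := ⟨fun x => hne ⟨x.1, x.2⟩⟩
      haveI : IsEmpty (TopologicalSpace.IrreducibleCloseds ↥(f.base ⁻¹' {y})) :=
        ⟨fun c => c.isIrreducible.nonempty.elim fun x _ => isEmptyElim x⟩
      rw [topologicalKrullDim, Order.krullDim_eq_bot] at h
      simp at h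
    · rintro ⟨⟨x, hx⟩, h⟩
      refine le_antisymm h ?_
      haveI : Nonempty ↥(f.base ⁻¹' {y}) := ⟨⟨x, hx⟩⟩
      haveI : Nonempty (TopologicalSpace.IrreducibleCloseds ↥(f.base ⁻¹' {y})) :=
        ⟨⟨closure {(⟨x, hx⟩ : ↥(f.base ⁻¹' {y}))}, isIrreducible_singleton.closure, isClosed_closure⟩⟩
      exact Order.krullDim_nonneg
  have hset' : {y : Y | topologicalKrullDim ↥(f.fiber y) ≤ 0} = {y : Y | (0 : WithBot ℕ∞) < topologicalKrullDim ↥(f.fiber y)}ᶜ := by
    ext y
    simp
  refine ⟨?_, ?_⟩
  · rw [hset]
    refine ⟨f.isClosedMap.isClosed_range.inter ?_, f.isOpenMap.isOpen_range.inter (Groth.Agent.S0403.result f 0)⟩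
    rw [hset', isClosed_compl_iff]
    exact Groth.Agent.S0404.result f 0
  · intro U hU
    haveI : LocallyQuasiFinite (f ∣_ U) := (locallyQuasiFinite_iff_finite_preimage_singleton).mpr fun s => by
      have h0 : topologicalKrullDim ↥((f ∣_ U).fiber s) ≤ 0 := by
        rw [Groth.Agent.FlatMisc.DimNear.fibre_dim_restrict, hdim]
        exact (hU s.2).le
      haveI : IsLocallyNoetherian ((f ∣_ U).fiber s) := LocallyOfFiniteType.isLocallyNoetherian ((f ∣_ U).fiberToSpecResidueField s)
      haveI : IsLocallyArtinian ((f ∣_ U).fiber s) := IsLocallyArtinian.of_topologicalKrullDim_le_zero h0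
      haveI : CompactSpace ↥((f ∣_ U).fiber s) := QuasiCompact.compactSpace_of_compactSpace ((f ∣_ U).fiberToSpecResidueField s)
      haveI : IsArtinianScheme ((f ∣_ U).fiber s) := {}
      rw [← (f ∣_ U).range_fiberι s]
      exact Set.finite_range _
    exact IsFinite.of_isProper_of_locallyQuasiFinite (f ∣_ U)

end Groth.Agent.S10889
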