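import Groth.Statements.S1089
import Groth.Agent.FilLib.Resolve

set_option autoImplicit false
universe v u
open CategoryTheory CategoryTheory.Limits Opposite
open FilD

namespace Groth.Agent.S1089

/-- Let A be an abelian category with enough injectives and X a finite filtered object. There are a
cochain complex I of filtered injective objects with Iⁿ = 0 for n < 0 and a filtered
quasi-isomorphism X[0] ⟶ I. -/
theorem result {A : Type u} [Category.{v} A] [Abelian A] [EnoughInjectives A] (X : FilD.FilF A) :
    ∃ (I : CochainComplex (FilD.FilF A) ℤ) (φ : (CochainComplex.singleFunctor (FilD.FilF A) 0).obj X ⟶ I), I.IsStrictlyGE 0 ∧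
      (∀ n, FilD.IsFilteredInjective (I.X n)) ∧ FilD.IsFilteredQuasiIso φ := by
  obtain ⟨I, φ, h1, h2, h3⟩ :=
    Groth.Agent.FilLib.exists_resolution ((CochainComplex.singleFunctor (FilD.FilF A) 0).obj X)
  exact ⟨I, φ, h1, h2, h3⟩

end Groth.Agent.S1089
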