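import Groth.Statements.S10890
import Groth.Agent.MinorAux.Basic

set_option autoImplicit false
universe u
open CAlgX

namespace Groth.Agent.S10890

/-- (i) ⇔ (ii): let R be a local ring, A an n × m matrix over R regarded as a linear map R^m → R^n, and
1 ≤ r ≤ n. Then the image of A is a direct summand of R^n of rank r if and only if every (r+1) ×
(r+1) minor of A is zero and the r × r minors of A generate the unit ideal. (The printed statement
is over an arbitrary ring with 'direct summand of rank r'; its proof localises at once, and this row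
states the local case, where a direct summand of R^n is free and its rank is its finrank.) -/
theorem result (R : Type u) [CommRing R] [IsLocalRing R] (n m r : ℕ)
    (hr : 1 ≤ r) (hrn : r ≤ n) (A : Matrix (Fin n) (Fin m) R) :
    (∃ N' : Submodule R (Fin n → R), IsCompl (LinearMap.range (Matrix.mulVecLin A)) N' ∧
        Module.finrank R (LinearMap.range (Matrix.mulVecLin A)) = r) ↔
      (CAlgX.minorIdeal A (r + 1) = ⊥ ∧ CAlgX.minorIdeal A r = ⊤) := by
  classical
  constructor
  · rintro ⟨N', hN', hrk⟩
    haveI : Module.Projective R (LinearMap.range A.mulVecLin) := Module.Projective.of_split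
      (LinearMap.range A.mulVecLin).subtype (Submodule.linearProjOfIsCompl _ _ hN')
      (LinearMap.ext fun x => Submodule.linearProjOfIsCompl_apply_left hN' x)
    haveI : Module.Finite R (LinearMap.range A.mulVecLin) := inferInstance
    haveI : Module.Free R (LinearMap.range A.mulVecLin) := Module.free_of_flat_of_isLocalRing
    let φ : LinearMap.range A.mulVecLin ≃ₗ[R] (Fin r → R) :=
      (Module.finBasisOfFinrankEq R (LinearMap.range A.mulVecLin) hrk).equivFun
    let C : Matrix (Fin n) (Fin r) R :=
      LinearMap.toMatrix' ((LinearMap.range A.mulVecLin).subtype ∘ₗ φ.symm.toLinearMap)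
    let B : Matrix (Fin r) (Fin m) R := LinearMap.toMatrix' (φ.toLinearMap ∘ₗ A.mulVecLin.rangeRestrict)
    let L : Matrix (Fin r) (Fin n) R :=
      LinearMap.toMatrix' (φ.toLinearMap ∘ₗ Submodule.linearProjOfIsCompl _ _ hN')
    have hA : A = C * B := by
      apply Matrix.toLin'.injective
      rw [Matrix.toLin'_mul, Matrix.toLin'_toMatrix', Matrix.toLin'_toMatrix']
      refine LinearMap.ext fun x => ?_
      simp
    have hLA : L * A = B := by
      apply Matrix.toLin'.injective
      rw [Matrix.toLin'_mul, Matrix.toLin'_toMatrix', Matrix.toLin'_toMatrix']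
      refine LinearMap.ext fun x => ?_
      simp only [LinearMap.comp_apply]
      exact congrArg φ (Submodule.linearProjOfIsCompl_apply_left hN' (A.mulVecLin.rangeRestrict x))
    obtain ⟨s, hs⟩ := Module.projective_lifting_property (φ.toLinearMap ∘ₗ A.mulVecLin.rangeRestrict) LinearMap.id
      (φ.surjective.comp A.mulVecLin.surjective_rangeRestrict)
    have hBR : B * LinearMap.toMatrix' s = 1 := by
      rw [← LinearMap.toMatrix'_comp, hs, LinearMap.toMatrix'_id]
    refine ⟨by rw [hA]; exact MinorAux.minorIdeal_mul_eq_bot C B (Nat.lt_succ_self r),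
      (Ideal.eq_top_iff_one _).2 ?_⟩
    have h1 : (((L * A) * LinearMap.toMatrix' s).submatrix id id).det ∈ CAlgX.minorIdeal A r :=
      ((MinorAux.minorIdeal_mul_right_le _ _ r).trans (MinorAux.minorIdeal_mul_left_le _ _ r))
        (MinorAux.det_submatrix_mem _ id id)
    rwa [hLA, hBR, Matrix.submatrix_id_id, Matrix.det_one] at h1
  · rintro ⟨h1, h2⟩
    obtain ⟨f, g, hu⟩ : ∃ (f : Fin r → Fin n) (g : Fin r → Fin m), IsUnit (A.submatrix f g).det := by
      by_contra hcon
      push Not at hcon
      have : CAlgX.minorIdeal A r ≤ IsLocalRing.maximalIdeal R :=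
        MinorAux.minorIdeal_le fun f g => (IsLocalRing.mem_maximalIdeal _).2 (hcon f g)
      rw [h2, top_le_iff] at this
      exact (IsLocalRing.maximalIdeal.isMaximal R).ne_top this
    let M := A.submatrix f g
    letI : Invertible M := M.invertibleOfIsUnitDet hu
    let C : Matrix (Fin n) (Fin r) R := A.submatrix id g
    let D : Matrix (Fin r) (Fin m) R := ⅟M * A.submatrix f id
    have hA : A = C * D := by
      ext i j
      have h0 : (Matrix.fromBlocks M (A.submatrix f (fun _ : Fin 1 => j)) (A.submatrix (fun _ : Fin 1 => i) g)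
          (A.submatrix (fun _ : Fin 1 => i) (fun _ : Fin 1 => j))).det = 0 := by
        let ff : Fin r ⊕ Fin 1 → Fin n := Sum.elim f fun _ => i
        let gg : Fin r ⊕ Fin 1 → Fin m := Sum.elim g fun _ => j
        have e : Matrix.fromBlocks M (A.submatrix f (fun _ : Fin 1 => j)) (A.submatrix (fun _ : Fin 1 => i) g)
          (A.submatrix (fun _ : Fin 1 => i) (fun _ : Fin 1 => j)) = A.submatrix ff gg := by
          ext (a | a) (b | b) <;> rfl
        rw [e, ← Matrix.det_submatrix_equiv_self (finSumFinEquiv (m := r) (n := 1)).symm, Matrix.submatrix_submatrix]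
        have := MinorAux.det_submatrix_mem A (ff ∘ (finSumFinEquiv (m := r) (n := 1)).symm)
          (gg ∘ (finSumFinEquiv (m := r) (n := 1)).symm)
        rw [h1, Ideal.mem_bot] at this
        exact this
      rw [Matrix.det_fromBlocks₁₁, hu.mul_right_eq_zero, Matrix.det_fin_one] at h0
      simp only [Matrix.sub_apply, Matrix.submatrix_apply, sub_eq_zero] at h0
      rw [h0, Matrix.mul_assoc]
      rfl
    let L : Matrix (Fin r) (Fin n) R := ⅟M * (1 : Matrix (Fin n) (Fin n) R).submatrix f id
    have hone : (1 : Matrix (Fin n) (Fin n) R).submatrix f id * C = M := by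
      ext a b
      simp [C, M, Matrix.mul_apply, Matrix.one_apply]
    have hLC : L * C = 1 := by rw [Matrix.mul_assoc, hone, invOf_mul_self]
    have hDg : D * (1 : Matrix (Fin m) (Fin m) R).submatrix id g = 1 := by
      rw [Matrix.mul_assoc]
      have : A.submatrix f id * (1 : Matrix (Fin m) (Fin m) R).submatrix id g = M := by
        ext a b
        simp [M, Matrix.mul_apply, Matrix.one_apply]
      rw [this, invOf_mul_self]
    have hr' : LinearMap.range A.mulVecLin = LinearMap.range C.mulVecLin := by
      refine le_antisymm ?_ ?_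
      · rintro _ ⟨x, rfl⟩
        exact ⟨D.mulVec x, by simp [hA, Matrix.mulVec_mulVec]⟩
      · rintro _ ⟨x, rfl⟩
        refine ⟨((1 : Matrix (Fin m) (Fin m) R).submatrix id g).mulVec x, ?_⟩
        simp only [Matrix.mulVecLin_apply, Matrix.mulVec_mulVec]
        rw [hA, Matrix.mul_assoc, hDg, Matrix.mul_one]
    have hli : L.mulVecLin ∘ₗ C.mulVecLin = LinearMap.id := by
      rw [← Matrix.mulVecLin_mul, hLC, Matrix.mulVecLin_one]
    refine ⟨LinearMap.ker L.mulVecLin, ?_, ?_⟩
    · rw [hr']
      refine ⟨Submodule.disjoint_def.2 ?_, codisjoint_iff.2 (eq_top_iff.2 fun x _ => ?_)⟩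
      · rintro _ ⟨y, rfl⟩ hy
        rw [LinearMap.mem_ker, ← LinearMap.comp_apply, hli, LinearMap.id_apply] at hy
        rw [hy, map_zero]
      · refine Submodule.mem_sup.2 ⟨C.mulVecLin (L.mulVecLin x), ⟨_, rfl⟩, x - C.mulVecLin (L.mulVecLin x), ?_,
          add_sub_cancel _ _⟩
        rw [LinearMap.mem_ker, map_sub, ← LinearMap.comp_apply L.mulVecLin, hli, LinearMap.id_apply, sub_self]
    · rw [hr', LinearMap.finrank_range_of_inj, Module.finrank_fin_fun]
      exact Function.LeftInverse.injective (g := L.mulVecLin) fun x => LinearMap.congr_fun hli x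


end Groth.Agent.S10890
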