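import Groth.Statements.S10891
import Mathlib

set_option autoImplicit false
universe u
open CAlg

namespace Groth.Agent.S10891

/-- Let k be a field containing a primitive r-th root of unity ζ and 0 < a < r. The cyclic group of r-th
roots of unity acts on k[X, Y] through the generator X ↦ ζ⁻¹ X, Y ↦ ζ^(−a) Y, and the ring of
invariants of this action is generated as a k-algebra by the monomials X^i Y^j with 0 ≤ i, j ≤ r,
(i, j) ≠ (r, r) and i + a·j ≡ 0 (mod r). (The printed statement writes n for the order of the group,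
which the surrounding section calls r.) -/
theorem result (k : Type u) [Field k] (r a : ℕ) (ha : 0 < a) (har : a < r)
    (ζ : k) (hζ : IsPrimitiveRoot ζ r) (p : MvPolynomial (Fin 2) k) :
    MvPolynomial.aeval (fun i : Fin 2 => if i = 0 then MvPolynomial.C ζ⁻¹ * MvPolynomial.X 0
        else MvPolynomial.C (ζ⁻¹ ^ a) * (MvPolynomial.X 1 : MvPolynomial (Fin 2) k)) p = p ↔
      p ∈ Algebra.adjoin k {q : MvPolynomial (Fin 2) k | ∃ i j : ℕ, i ≤ r ∧ j ≤ r ∧ ¬ (i = r ∧ j = r) ∧
        r ∣ i + a * j ∧ q = MvPolynomial.X 0 ^ i * MvPolynomial.X 1 ^ j} := by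
  classical
  let σ := MvPolynomial.aeval (R := k) (fun i : Fin 2 => if i = 0 then MvPolynomial.C ζ⁻¹ * MvPolynomial.X 0
        else MvPolynomial.C (ζ⁻¹ ^ a) * (MvPolynomial.X 1 : MvPolynomial (Fin 2) k))
  have hr : 0 < r := ha.trans har
  have hmono : ∀ (m : Fin 2 →₀ ℕ) (c : k), σ (MvPolynomial.monomial m c) =
      MvPolynomial.monomial m (c * ζ⁻¹ ^ (m 0 + a * m 1)) := by
    intro m c
    rw [MvPolynomial.monomial_eq, MvPolynomial.monomial_eq]
    simp only [σ, Finsupp.prod_fintype, pow_zero, implies_true, Fin.prod_univ_two, map_mul, map_pow,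
      MvPolynomial.aeval_C, MvPolynomial.aeval_X, MvPolynomial.algebraMap_eq, if_pos,
      show ¬ (1 : Fin 2) = 0 from by decide, if_false, pow_add, pow_mul]
    ring
  change σ p = p ↔ _
  constructor
  · intro hp
    rw [p.as_sum]
    refine Subalgebra.sum_mem _ fun m hm => ?_
    have hdvd : r ∣ m 0 + a * m 1 := by
      have h1 : MvPolynomial.coeff m (σ p) = MvPolynomial.coeff m p * ζ⁻¹ ^ (m 0 + a * m 1) := by
        conv_lhs => rw [p.as_sum, map_sum, MvPolynomial.coeff_sum]
        rw [Finset.sum_eq_single m]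
        · simp [hmono]
        · intro b _ hb; simp [hmono, hb]
        · intro h; exact absurd hm h
      rw [hp] at h1
      have h2 : ζ⁻¹ ^ (m 0 + a * m 1) = 1 :=
        mul_left_cancel₀ (MvPolynomial.mem_support_iff.1 hm) (by rw [mul_one]; exact h1.symm)
      exact hζ.dvd_of_pow_eq_one _ (by simpa [inv_pow] using h2)
    have e : MvPolynomial.monomial m (MvPolynomial.coeff m p) = algebraMap k _ (MvPolynomial.coeff m p) *
        ((MvPolynomial.X 0 ^ r) ^ (m 0 / r) * (MvPolynomial.X 1 ^ r) ^ (m 1 / r) *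
          (MvPolynomial.X 0 ^ (m 0 % r) * MvPolynomial.X 1 ^ (m 1 % r))) := by
      rw [MvPolynomial.monomial_eq, MvPolynomial.algebraMap_eq]
      simp only [Finsupp.prod_fintype, pow_zero, implies_true, Fin.prod_univ_two]
      congr 1
      conv_lhs => rw [← Nat.div_add_mod (m 0) r, ← Nat.div_add_mod (m 1) r, pow_add, pow_add, pow_mul, pow_mul]
      ring
    rw [e]
    have hgen : ∀ i j : ℕ, i ≤ r → j ≤ r → ¬ (i = r ∧ j = r) → r ∣ i + a * j →
        (MvPolynomial.X 0 ^ i * MvPolynomial.X 1 ^ j : MvPolynomial (Fin 2) k) ∈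
          Algebra.adjoin k {q : MvPolynomial (Fin 2) k | ∃ i j : ℕ, i ≤ r ∧ j ≤ r ∧ ¬ (i = r ∧ j = r) ∧
            r ∣ i + a * j ∧ q = MvPolynomial.X 0 ^ i * MvPolynomial.X 1 ^ j} :=
      fun i j h1 h2 h3 h4 => Algebra.subset_adjoin ⟨i, j, h1, h2, h3, h4, rfl⟩
    refine Subalgebra.mul_mem _ (Subalgebra.algebraMap_mem _ _) (Subalgebra.mul_mem _ (Subalgebra.mul_mem _ ?_ ?_) ?_)
    · exact Subalgebra.pow_mem _ (by simpa using hgen r 0 le_rfl (Nat.zero_le _) (by omega) (by simp)) _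
    · exact Subalgebra.pow_mem _ (by simpa using hgen 0 r (Nat.zero_le _) le_rfl (by omega) (by simp)) _
    · refine hgen (m 0 % r) (m 1 % r) (Nat.mod_lt _ hr).le (Nat.mod_lt _ hr).le
        (fun h => (Nat.mod_lt _ hr).ne h.1) ?_
      rw [Nat.dvd_iff_mod_eq_zero] at hdvd ⊢
      rw [← hdvd]
      simp [Nat.add_mod, Nat.mul_mod]
  · intro hp
    refine (Algebra.adjoin_le (S := AlgHom.equalizer σ (AlgHom.id k (MvPolynomial (Fin 2) k))) ?_) hp
    · rintro q ⟨i, j, _, _, _, hd, rfl⟩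
      obtain ⟨t, ht⟩ := hd
      change σ (MvPolynomial.X 0 ^ i * MvPolynomial.X 1 ^ j) = MvPolynomial.X 0 ^ i * MvPolynomial.X 1 ^ j
      rw [MvPolynomial.X_pow_eq_monomial, MvPolynomial.X_pow_eq_monomial, MvPolynomial.monomial_mul, hmono]
      congr 1
      simp [ht, pow_mul, inv_pow, hζ.pow_eq_one]


end Groth.Agent.S10891
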