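import Groth.Statements.S10893
import Groth.Agent.MeroCurveLib.Decomp

set_option autoImplicit false
universe u
open CategoryTheory AlgebraicGeometry
open Curves

namespace Groth.Agent.S10893

/-- Let C be an absolute curve (Noetherian, local rings at closed points one-dimensional) none of whose
points is open, and U ⊆ C an open dense subset. Then there is an effective divisor D on C with
support contained in U and meeting every irreducible component of C. -/
theorem result {C : Scheme.{u}} [IsNoetherian C]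
    (hC : ∀ x : C, IsClosed ({x} : Set C) → ringKrullDim (C.presheaf.stalk x) = 1)
    (hpt : ∀ x : C, ¬ IsOpen ({x} : Set C)) (U : C.Opens) (hU : Dense (U : Set C)) :
    ∃ D : Mero.Divisor C, Mero.IsEffective D ∧ Mero.supp D ⊆ (U : Set C) ∧
      ∀ Z ∈ irreducibleComponents (C : Type u), (Mero.supp D ∩ Z).Nonempty := by
  classical
  have hfinc : (irreducibleComponents (C : Type u)).Finite := TopologicalSpace.NoetherianSpace.finite_irreducibleComponents
  have hex : ∀ Z ∈ irreducibleComponents (C : Type u), ∃ y : C, y ∈ Z ∧ y ∈ U ∧ IsClosed ({y} : Set C) ∧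
      ∃ a : Mero.regStalk C y, ¬ IsUnit (a : C.presheaf.stalk y) := by
    intro Z hZ
    have hZc : IsClosed Z := isClosed_of_mem_irreducibleComponents Z hZ
    obtain ⟨η, hη⟩ := QuasiSober.sober hZ.1 hZc
    obtain ⟨W, hWo, hWne, hWZ⟩ := TopologicalSpace.NoetherianSpace.exists_isOpen_nonempty_subset_irreducibleComponent Z hZ
    obtain ⟨z, hzW, hzU⟩ := hU.inter_open_nonempty W hWo hWne
    obtain ⟨_, ⟨V, hV, rfl⟩, hzV, hle⟩ :=
      C.isBasis_affineOpens.exists_subset_of_mem_open (show z ∈ W ∩ (U : Set C) from ⟨hzW, hzU⟩) (hWo.inter U.2)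
    have hVZ : ∀ y ∈ V, η ⤳ y := fun y hy => hη.specializes (hWZ (hle hy).1)
    obtain ⟨y, hyV, hy, ha⟩ := MeroCurveLib.exists_regular_nonunit hC hpt hV ((hVZ z hzV).mem_open V.2 hzV) hVZ
    exact ⟨y, hWZ (hle hyV).1, (hle hyV).2, hy, ha⟩
  choose y hyZ hyU hyc a ha using hex
  let T : Set C := {x | ∃ Z, ∃ hZ : Z ∈ irreducibleComponents (C : Type u), y Z hZ = x}
  have hT : T.Finite := by
    haveI := hfinc.to_subtype
    refine (Set.finite_range fun Z : irreducibleComponents (C : Type u) => y Z.1 Z.2).subset ?_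
    rintro x ⟨Z, hZ, rfl⟩
    exact ⟨⟨Z, hZ⟩, rfl⟩
  have hsel : ∀ x : C, ∃ b : Mero.regStalk C x, (x ∈ T → ¬ IsUnit (b : C.presheaf.stalk x)) ∧ (x ∉ T → b = 1) := by
    intro x
    by_cases h : x ∈ T
    · obtain ⟨Z, hZ, rfl⟩ := h
      exact ⟨a Z hZ, fun _ => ha Z hZ, fun h' => absurd ⟨Z, hZ, rfl⟩ h'⟩
    · exact ⟨1, fun h' => absurd h' h, fun _ => rfl⟩
  choose b hb1 hb2 using hsel
  have hone : ∀ x ∉ T, MeroCurveLib.cls (b x) = 1 := fun x hx => by rw [hb2 x hx, MeroCurveLib.cls_one]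
  refine ⟨⟨fun x => MeroCurveLib.cls (b x), MeroCurveLib.mem_divisorGroup_of hC _
    (hT.subset fun x hx => by_contra fun h => hx (hone x h)) (fun x hx => hone x ?_)⟩, fun x => ⟨b x, rfl⟩, ?_, ?_⟩
  · rintro ⟨Z, hZ, rfl⟩
    exact hx (hyc Z hZ)
  · intro x hx
    obtain ⟨Z, hZ, rfl⟩ : x ∈ T := by_contra fun h => hx (hone x h)
    exact hyU Z hZ
  · exact fun Z hZ => ⟨y Z hZ, fun h => hb1 _ ⟨Z, hZ, rfl⟩ (MeroCurveLib.isUnit_of_cls_eq_one h), hyZ Z hZ⟩

end Groth.Agent.S10893
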