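import Groth.Statements.S10894
import Groth.Agent.MeroCurveLib.Decomp

set_option autoImplicit false
universe u
open CategoryTheory AlgebraicGeometry
open Curves

namespace Groth.Agent.S10894

/-- On an absolute curve C (Noetherian, local rings at closed points one-dimensional) every divisor D is
a difference of two effective divisors each supported inside the support of D (divisors are written
multiplicatively, so the difference is D₁ · D₂⁻¹). -/
theorem result {C : Scheme.{u}} [IsNoetherian C]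
    (hC : ∀ x : C, IsClosed ({x} : Set C) → ringKrullDim (C.presheaf.stalk x) = 1) (D : Mero.Divisor C) :
    ∃ D₁ D₂ : Mero.Divisor C, Mero.IsEffective D₁ ∧ Mero.IsEffective D₂ ∧ D = D₁ * D₂⁻¹ ∧
      Mero.supp D₁ ⊆ Mero.supp D ∧ Mero.supp D₂ ⊆ Mero.supp D := by
  classical
  obtain ⟨hfin, hgen⟩ := MeroCurveLib.finite_of_mem_divisorGroup hC D.1 D.2
  choose a s has using fun x : C => MeroCurveLib.exists_cls_div (D.1 x)
  have mk : ∀ b : ∀ x : C, Mero.regStalk C x, ∃ E : Mero.Divisor C, Mero.IsEffective E ∧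
      Mero.supp E ⊆ Mero.supp D ∧ ∀ x ∈ Mero.supp D, E.1 x = MeroCurveLib.cls (b x) := by
    intro b
    refine ⟨⟨fun x => if D.1 x = 1 then 1 else MeroCurveLib.cls (b x),
      MeroCurveLib.mem_divisorGroup_of hC _ (hfin.subset fun x hx h => hx (if_pos h))
        (fun x hx => if_pos (hgen x hx))⟩, fun x => ?_, fun x hx h => hx (if_pos h), fun x hx => if_neg hx⟩
    by_cases h : D.1 x = 1
    · exact ⟨1, (if_pos h).trans (MeroCurveLib.cls_one x).symm⟩
    · exact ⟨b x, if_neg h⟩
  obtain ⟨D₁, e₁, s₁, v₁⟩ := mk a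
  obtain ⟨D₂, e₂, s₂, v₂⟩ := mk s
  refine ⟨D₁, D₂, e₁, e₂, Subtype.ext (funext fun x => ?_), s₁, s₂⟩
  rw [Subgroup.coe_mul, Subgroup.coe_inv, Pi.mul_apply, Pi.inv_apply]
  by_cases h : x ∈ Mero.supp D
  · rw [v₁ x h, v₂ x h, ← has]
  · rw [show D₁.1 x = 1 from by_contra fun h1 => h (s₁ h1), show D₂.1 x = 1 from by_contra fun h1 => h (s₂ h1),
      inv_one]
    exact (not_not.1 h).trans (one_mul (1 : Mero.Germ C x)).symm

end Groth.Agent.S10894
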