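import Groth.Statements.S10895
import Groth.Agent.SmallFlat.Misc

set_option autoImplicit false
universe u
open CategoryTheory AlgebraicGeometry
open FlatMor

namespace Groth.Agent.S10895

/-- A closed immersion of finite presentation which is flat at a point x is an isomorphism over some
open neighbourhood of the image of x. -/
theorem result {X Y : Scheme.{u}} (f : X ⟶ Y) [IsClosedImmersion f]
    [LocallyOfFinitePresentation f] (x : X) (hflat : (f.stalkMap x).hom.Flat) :
    ∃ V : Y.Opens, f.base x ∈ V ∧ IsIso (f ∣_ V) := by
  exact Groth.Agent.SmallFlat.exists_isIso_restrict_of_flat_at f x hflat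

end Groth.Agent.S10895
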