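import Groth.Statements.S10897
import Groth.Agent.CubicLib.Conv

set_option autoImplicit false
universe u
open Cubic

namespace Groth.Agent.S10897

/-- Over an algebraically closed field of characteristic zero, through a point s of a smooth cubic
surface S = V_+(f) ⊂ P^3 there pass at most three lines contained in S, and these lines are
coplanar. With s given by a nonzero vector v with f(v) = 0, the lines through s on S are the
2-dimensional subspaces of k^4 containing v on which f vanishes; there are at most three of them and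
one 3-dimensional subspace contains them all. -/
theorem result (k : Type u) [Field k] [IsAlgClosed k] [CharZero k]
    (f : MvPolynomial (Fin 4) k) (hf : f.IsHomogeneous 3) (hf0 : f ≠ 0)
    (hsm : ∀ v : Fin 4 → k, v ≠ 0 → MvPolynomial.eval v f = 0 →
      ∃ i : Fin 4, MvPolynomial.eval v (MvPolynomial.pderiv i f) ≠ 0)
    (v : Fin 4 → k) (hv : v ≠ 0) (hfv : MvPolynomial.eval v f = 0) :
    {U : Submodule k (Fin 4 → k) | v ∈ U ∧ (Module.finrank k ↥U = 2 ∧ ∀ u ∈ U, MvPolynomial.eval u f = 0)}.Finite ∧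
      {U : Submodule k (Fin 4 → k) | v ∈ U ∧ (Module.finrank k ↥U = 2 ∧ ∀ u ∈ U, MvPolynomial.eval u f = 0)}.ncard ≤ 3 ∧
      ∃ H : Submodule k (Fin 4 → k), Module.finrank k ↥H = 3 ∧
        ∀ U : Submodule k (Fin 4 → k), v ∈ U → (Module.finrank k ↥U = 2 ∧ ∀ u ∈ U, MvPolynomial.eval u f = 0) → U ≤ H := by
  obtain ⟨G, hG, hsmG, -⟩ := Groth.Agent.CubicLib.exists_smooth_cubic f hf hsm
  simp only [hG] at hfv ⊢
  obtain ⟨H, hH, hle, hfour⟩ := Groth.Agent.CubicLib.lines_through hsmG hv hfv
  classical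
  have hsub : ∀ T : Finset (Submodule k (Fin 4 → k)),
      (∀ U ∈ T, v ∈ U ∧ (Module.finrank k ↥U = 2 ∧ ∀ u ∈ U, G.F u = 0)) → T.card ≤ 3 := by
    intro T hT
    by_contra hlt
    obtain ⟨T', hT', hcard⟩ := Finset.exists_subset_card_eq (show 4 ≤ T.card by omega)
    let e := T'.equivFinOfCardEq hcard
    exact hfour (fun i => (e.symm i : Submodule k (Fin 4 → k)))
      (fun i => ⟨(hT _ (hT' (e.symm i).2)).2.1, (hT _ (hT' (e.symm i).2)).1, (hT _ (hT' (e.symm i).2)).2.2⟩)
      (Subtype.val_injective.comp e.symm.injective)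
  have hfin : {U : Submodule k (Fin 4 → k) | v ∈ U ∧ (Module.finrank k ↥U = 2 ∧ ∀ u ∈ U, G.F u = 0)}.Finite := by
    by_contra hinf
    obtain ⟨T, hT, hcard⟩ := Set.Infinite.exists_subset_card_eq hinf 4
    have := hsub T fun U hU => hT hU
    omega
  refine ⟨hfin, ?_, H, hH, hle⟩
  rw [Set.ncard_eq_toFinset_card _ hfin]
  exact hsub _ fun U hU => hfin.mem_toFinset.1 hU

end Groth.Agent.S10897
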