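import Groth.Statements.S10902
import Groth.Agent.VarDim.Basic
import Mathlib.Algebra.Module.SpanRankOperations
import Mathlib.RingTheory.Unramified.Finite
import Mathlib.RingTheory.Unramified.LocalRing
import Mathlib.RingTheory.Etale.Kaehler
import Mathlib.FieldTheory.AlgebraicClosure
import Mathlib.RingTheory.AlgebraicIndependent.TranscendenceBasis
set_option autoImplicit false
universe u
open TensorProduct
open SmVar

namespace Groth.Agent.S10902

open TensorProduct

/-- The transcendence degree is at most the dimension of the differentials. -/
theorem trdeg_le_finrank (k L : Type u) [Field k] [Field L] [Algebra k L] [Algebra.EssFiniteType k L] :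
    Algebra.trdeg k L ≤ (Module.finrank L Ω[L⁄k] : ℕ) := by
  obtain ⟨t, htsub, hspan, hli⟩ := exists_linearIndependent L (Set.range (KaehlerDifferential.D k L))
  rw [KaehlerDifferential.span_range_derivation] at hspan
  let b := Module.Basis.mk hli (by rw [Subtype.range_coe, hspan])
  haveI : Finite t := Module.Finite.finite_basis b
  haveI := Fintype.ofFinite t
  choose x hx using fun y : t => htsub y.2
  let F := IntermediateField.adjoin k (Set.range x)
  haveI : Algebra.EssFiniteType F L := Algebra.EssFiniteType.of_comp k F L
  haveI : Algebra.FormallyUnramified F L := by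
    constructor
    refine subsingleton_of_forall_eq 0 fun ω => ?_
    obtain ⟨η, rfl⟩ := KaehlerDifferential.map_surjective k F L ω
    have : η ∈ Submodule.span L (t : Set Ω[L⁄k]) := by rw [hspan]; trivial
    induction this using Submodule.span_induction with
    | mem y hy =>
      obtain ⟨l, hl, rfl⟩ : ∃ l, l ∈ Set.range x ∧ KaehlerDifferential.D k L l = y :=
        ⟨_, ⟨⟨y, hy⟩, rfl⟩, hx ⟨y, hy⟩⟩
      rw [KaehlerDifferential.map_D, Algebra.algebraMap_self_apply,
        show l = algebraMap F L ⟨l, IntermediateField.subset_adjoin k _ hl⟩ from rfl,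
        Derivation.map_algebraMap]
    | zero => simp
    | add y z _ _ hy hz => simp [hy, hz]
    | smul a y _ hy => simp [hy]
  haveI : Module.Finite F L := Algebra.FormallyUnramified.finite_of_free F L
  haveI : Algebra.IsAlgebraic F L := Algebra.IsAlgebraic.of_finite F L
  haveI : Algebra.IsAlgebraic (Algebra.adjoin k (Set.range x)) L :=
    IntermediateField.isAlgebraic_adjoin_iff_top.1 inferInstance
  obtain ⟨T, hTs, hT⟩ := exists_isTranscendenceBasis_subset (R := k) (Set.range x)
  rw [← hT.cardinalMk_eq_trdeg]
  refine (Cardinal.mk_le_mk_of_subset hTs).trans (Cardinal.mk_range_le.trans ?_)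
  rw [Module.finrank_eq_card_basis b, Cardinal.mk_fintype]

/-- The fibre dimension of a finite module does not decrease under specialisation. -/
theorem finrank_fibre_le {A : Type u} [CommRing A] (M : Type u) [AddCommGroup M] [Module A M]
    [Module.Finite A M] (q P : Ideal A) [q.IsPrime] [P.IsPrime] (h : q ≤ P) :
    Module.finrank q.ResidueField (q.ResidueField ⊗[A] M) ≤
      Module.finrank P.ResidueField (P.ResidueField ⊗[A] M) := by
  let S := Localization.AtPrime P
  have hu : ∀ y : P.primeCompl, IsUnit (algebraMap A q.ResidueField y) := fun y =>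
    isUnit_iff_ne_zero.2 fun e => y.2 (h (Ideal.algebraMap_residueField_eq_zero.1 e))
  letI : Algebra S q.ResidueField := (IsLocalization.lift (M := P.primeCompl) hu).toAlgebra
  haveI : IsScalarTower A S q.ResidueField := .of_algebraMap_eq fun a =>
    (IsLocalization.lift_eq hu a).symm
  let N : Submodule S (S ⊗[A] M) := ⊤
  have hfg : N.FG := Module.Finite.fg_top
  have h1 : Module.finrank q.ResidueField (q.ResidueField ⊗[A] M) =
      (⊤ : Submodule q.ResidueField (q.ResidueField ⊗[S] N)).spanFinrank := by
    rw [← Module.finrank_eq_spanFinrank_of_free]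
    exact ((AlgebraTensorModule.congr (LinearEquiv.refl q.ResidueField q.ResidueField)
      (Submodule.topEquiv (R := S) (M := S ⊗[A] M))).trans
      (AlgebraTensorModule.cancelBaseChange A S q.ResidueField q.ResidueField M)).finrank_eq.symm
  have h2 : Module.finrank P.ResidueField (P.ResidueField ⊗[A] M) =
      (⊤ : Submodule P.ResidueField (P.ResidueField ⊗[S] N)).spanFinrank := by
    rw [← Module.finrank_eq_spanFinrank_of_free]
    exact ((AlgebraTensorModule.congr (LinearEquiv.refl P.ResidueField P.ResidueField)
      (Submodule.topEquiv (R := S) (M := S ⊗[A] M))).trans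
      (AlgebraTensorModule.cancelBaseChange A S P.ResidueField P.ResidueField M)).finrank_eq.symm
  rw [h1, h2]
  exact (TensorProduct.spanFinrank_top_le_of_fg N hfg).trans_eq
    (TensorProduct.spanFinrank_top_eq_of_residueField N hfg).symm


/-- Let k be a field and A a k-algebra of finite type (X = Spec A a k-scheme of finite type), P a prime
ideal of A, and suppose P contains a prime q with dim A/q ≥ n, i.e. the point P lies on an
irreducible component of X of dimension at least n. Then the fibre at P of the sheaf of
differentials of X over k has dimension at least n over the residue field: dim_{κ(P)} (κ(P) ⊗_A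
Ω_{A/k}) ≥ n. (The published statement asks every irreducible component of X to have dimension ≥ n
and concludes this at every point.) -/
theorem result (k : Type u) [Field k]
    (A : Type u) [CommRing A] [Algebra k A] [Algebra.FiniteType k A] (n : ℕ)
    (P : Ideal A) [P.IsPrime] (q : Ideal A) [q.IsPrime] (hqP : q ≤ P)
    (hq : (n : WithBot ℕ∞) ≤ ringKrullDim (A ⧸ q)) :
    n ≤ Module.finrank P.ResidueField (P.ResidueField ⊗[A] (Ω[A⁄k])) := by
  refine le_trans ?_ (finrank_fibre_le (Ω[A⁄k]) q P hqP)
  obtain ⟨m, hm, htr⟩ := Groth.Agent.VarDim.exists_dim_eq_trdeg k (A ⧸ q)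
  haveI : Algebra.EssFiniteType k q.ResidueField := Algebra.EssFiniteType.comp k A q.ResidueField
  haveI : Algebra.FormallyUnramified A q.ResidueField :=
    Algebra.FormallyUnramified.comp A (Localization.AtPrime q) q.ResidueField
  have h1 : (m : Cardinal) ≤ Algebra.trdeg k q.ResidueField := by
    rw [← htr]
    exact trdeg_le_of_injective (IsScalarTower.toAlgHom k (A ⧸ q) q.ResidueField)
      q.injective_algebraMap_quotient_residueField
  have h2 : m ≤ Module.finrank q.ResidueField (Ω[q.ResidueField⁄k]) := by
    exact_mod_cast h1.trans (trdeg_le_finrank k q.ResidueField)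
  rw [hm] at hq
  have hnm : n ≤ m := by exact_mod_cast hq
  refine (hnm.trans h2).trans (LinearMap.finrank_le_finrank_of_surjective
    (f := KaehlerDifferential.mapBaseChange k A q.ResidueField) fun x => ?_)
  exact (KaehlerDifferential.exact_mapBaseChange_map k A q.ResidueField x).1 (Subsingleton.elim _ _)

end Groth.Agent.S10902
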