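import Groth.Statements.S10903
import Groth.Agent.LC.GorLoc
import Groth.Agent.LC.GorHull
import Groth.Agent.LC.DepthExt
import Groth.Agent.LC.Annihilator
import Groth.Agent.VarDim.Basic
import Mathlib.RingTheory.RegularLocalRing.Polynomial

set_option autoImplicit false
universe u
open CInt

namespace Groth.Agent.S10903

/-- Let k be a field, S = k[x_0, …, x_n], and f_1, …, f_r with r ≤ n homogeneous polynomials of positive
degrees whose ideal J = (f_1, …, f_r) has height r — the subscheme of P^n_k cut out by the
hypersurfaces f_i = 0 has codimension r, an ideal-theoretic complete intersection. Then J is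
saturated with respect to the irrelevant ideal (x_0, …, x_n): an element g of S such that, for each
i, x_i^m g ∈ J for some m, already lies in J. Hence J is the full homogeneous ideal of that
subscheme (a global complete intersection). -/
theorem result (k : Type u) [Field k] (n r : ℕ)
    (hr : r ≤ n) (f : Fin r → MvPolynomial (Fin (n + 1)) k) (d : Fin r → ℕ)
    (hf : ∀ i, (f i).IsHomogeneous (d i)) (hd : ∀ i, 0 < d i)
    (hJ : (Ideal.span (Set.range f)).height = r) (g : MvPolynomial (Fin (n + 1)) k)
    (hg : ∀ i : Fin (n + 1), ∃ m : ℕ, MvPolynomial.X i ^ m * g ∈ Ideal.span (Set.range f)) :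
    g ∈ Ideal.span (Set.range f) := by
    classical
    set J := Ideal.span (Set.range f) with hJdef
    set m : Ideal (MvPolynomial (Fin (n + 1)) k) := RingHom.ker (MvPolynomial.constantCoeff) with hm
    haveI hmax : m.IsMaximal := RingHom.ker_isMaximal_of_surjective _ fun c => ⟨MvPolynomial.C c, MvPolynomial.constantCoeff_C _ c⟩
    have hmX : m = Ideal.span (Set.range MvPolynomial.X) := by
      rw [← Set.image_univ]
      ext x
      rw [hm, RingHom.mem_ker, MvPolynomial.mem_ideal_span_X_image, MvPolynomial.constantCoeff_eq]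
      constructor
      · intro h s hs
        by_contra hc
        push Not at hc
        have : s = 0 := Finsupp.ext fun i => hc i (Set.mem_univ i)
        exact MvPolynomial.mem_support_iff.mp hs (this ▸ h)
      · intro h
        by_contra hc
        obtain ⟨i, -, hi⟩ := h 0 (MvPolynomial.mem_support_iff.mpr hc)
        exact hi rfl
    have hfm : ∀ i, f i ∈ m := fun i => by
      show MvPolynomial.constantCoeff (f i) = 0
      rw [MvPolynomial.constantCoeff_eq]
      refine (hf i).coeff_eq_zero ?_
      have := hd i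
      simp
      omega
    have hmh : (m.height : WithBot ℕ∞) = ((n + 1 : ℕ) : WithBot ℕ∞) := by
      have hdim : ringKrullDim (MvPolynomial (Fin (n + 1)) k) = (n + 1 : ℕ) := by
        rw [MvPolynomial.ringKrullDim_of_isNoetherianRing, ringKrullDim_eq_zero_of_field, zero_add]
        simp
      have h := Groth.Agent.VarDim.height_add_coheight_eq k (n + 1) _ hdim ⟨m, hmax.isPrime⟩
      have hco : Order.coheight (⟨m, hmax.isPrime⟩ : PrimeSpectrum _) = 0 :=
        Order.coheight_eq_zero.mpr fun q hq => (hmax.eq_of_le q.2.ne_top hq).ge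
      rw [hco, add_zero] at h
      rw [(⟨m, hmax.isPrime⟩ : PrimeSpectrum _).height_eq_orderHeight]
      exact congrArg (fun x : ℕ∞ => (x : WithBot ℕ∞)) h
    let R := Localization.AtPrime m
    haveI : IsRegularLocalRing R := IsRegularRing.isRegularLocalRing_localization m
    haveI := Groth.Agent.LC.gorenstein_of_isRegularLocalRing (R := R)
    haveI := Groth.Agent.LC.isCohenMacaulayLocalRing_of_gorenstein (R := R)
    let a := algebraMap (MvPolynomial (Fin (n + 1)) k) R
    let xs : List R := (List.ofFn f).map a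
    have hlen : xs.length = r := by simp [xs]
    have hxs : ∀ x ∈ xs, x ∈ IsLocalRing.maximalIdeal R := by
      intro x hx
      obtain ⟨y, hy, rfl⟩ := List.mem_map.mp hx
      obtain ⟨i, rfl⟩ := List.mem_ofFn.mp hy
      exact (IsLocalization.AtPrime.to_map_mem_maximal_iff R m (f i)).mpr (hfm i)
    have hJ' : Ideal.ofList xs = J.map a := by
      rw [← Ideal.map_ofList]
      exact congrArg _ (congrArg Ideal.span (Set.ext fun x => List.mem_ofFn))
    have hreg : RingTheory.Sequence.IsWeaklyRegular R xs := by
      refine (Groth.Agent.LC.idealDepth_ofList_eq_length_iff (M := R) xs hxs).mp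
        (le_antisymm (Groth.Agent.LC.idealDepth_ofList_le_length xs hxs) ?_)
      rw [Groth.Agent.LC.idealDepth_self_eq_height, hJ', hlen, ← hJ, Ideal.height_eq_inf_minimalPrimes (J.map a)]
      refine le_iInf₂ fun Q hQ => ?_
      haveI := hQ.1.1
      refine le_trans ?_ (le_of_eq (IsLocalization.height_under m.primeCompl Q))
      exact Ideal.height_mono (Ideal.map_le_iff_le_comap.mp hQ.1.2)
    have hq := Groth.Agent.LC.idealDepth_quot_ofList (M := R) (IsLocalRing.maximalIdeal R) hreg hxs
    rw [Groth.Agent.LC.idealDepth_self_eq_height, hlen, show (IsLocalRing.maximalIdeal R).height = ((n + 1 : ℕ) : ℕ∞) by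
      apply WithBot.coe_injective
      rw [IsLocalRing.maximalIdeal_height_eq_ringKrullDim, IsLocalization.AtPrime.ringKrullDim_eq_height m R]
      exact hmh] at hq
    have hne : IsLocalRing.maximalIdeal R • (⊤ : Submodule R (R ⧸ (Ideal.ofList xs • ⊤ : Submodule R R))) ≠ ⊤ :=
      Groth.Agent.LC.smul_top_quot_ne_top _
        (Groth.Agent.LC.smul_top_ne_top_of_le_maximal le_rfl) (Ideal.span_le.mpr hxs)
    obtain ⟨rs, hrs, hrmem, hrlen⟩ := Groth.Agent.Alg6.exists_length_ge_of_le_idealDepth hne (n := 1) (by
      by_contra h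
      rw [Nat.cast_one, Order.one_le_iff_ne_zero, not_not] at h
      rw [h, zero_add, Nat.cast_inj] at hq
      omega)
    obtain ⟨y, ys, rfl⟩ : ∃ y ys, rs = y :: ys := by
      cases rs with
      | nil => simp at hrlen
      | cons y ys => exact ⟨y, ys, rfl⟩
    have hy := ((RingTheory.Sequence.isWeaklyRegular_cons_iff _ y ys).mp hrs).1
    set gb : R ⧸ (Ideal.ofList xs • ⊤ : Submodule R R) := Submodule.Quotient.mk (a g) with hgb
    let Ann : Ideal R := LinearMap.ker (LinearMap.toSpanSingleton R _ gb)
    have hrad : IsLocalRing.maximalIdeal R ≤ Ann.radical := by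
      rw [← Localization.AtPrime.map_eq_maximalIdeal]
      refine (le_of_eq (congrArg (Ideal.map a) hmX)).trans ?_
      rw [Ideal.map_span, Ideal.span_le]
      rintro _ ⟨_, ⟨i, rfl⟩, rfl⟩
      obtain ⟨e, he⟩ := hg i
      refine ⟨e, ?_⟩
      show (a (MvPolynomial.X i)) ^ e • gb = 0
      rw [hgb, ← map_pow, ← Submodule.Quotient.mk_smul, show a (MvPolynomial.X i ^ e) • a g = a (MvPolynomial.X i ^ e) * a g from rfl, ← map_mul, Submodule.Quotient.mk_eq_zero,
        Ideal.smul_eq_mul, Ideal.mul_top, hJ']
      exact Ideal.mem_map_of_mem a he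
    obtain ⟨e, he⟩ := hrad (hrmem y List.mem_cons_self)
    have hg0 : gb = 0 := (hy.pow e).right_eq_zero_of_smul he
    rw [hgb, Submodule.Quotient.mk_eq_zero, Ideal.smul_eq_mul, Ideal.mul_top, hJ'] at hg0
    obtain ⟨u, hu, hug⟩ := (IsLocalization.algebraMap_mem_map_algebraMap_iff m.primeCompl R J g).mp hg0
    let K : Ideal (MvPolynomial (Fin (n + 1)) k) := Submodule.comap (LinearMap.toSpanSingleton _ _ g) J
    by_contra hgJ
    have hK : K ≠ ⊤ := fun h => hgJ (by
      have h1 : (1 : MvPolynomial (Fin (n + 1)) k) • g ∈ J := (h ▸ Submodule.mem_top : (1 : MvPolynomial (Fin (n + 1)) k) ∈ K)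
      rwa [one_smul] at h1)
    obtain ⟨M, hM, hKM⟩ := Ideal.exists_le_maximal K hK
    have hmM : m ≤ M := by
      rw [hmX, Ideal.span_le]
      rintro _ ⟨i, rfl⟩
      obtain ⟨e, he⟩ := hg i
      exact hM.isPrime.mem_of_pow_mem e (hKM he)
    exact hu (hmax.eq_of_le hM.ne_top hmM ▸ hKM hug)

end Groth.Agent.S10903
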