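import Groth.Statements.S10908
import Mathlib.RingTheory.Localization.Integral
import Mathlib.RingTheory.GradedAlgebra.Radical
import Mathlib.RingTheory.IntegralClosure.IntegrallyClosed

set_option linter.style.haveILetI false
set_option backward.isDefEq.respectTransparency false
set_option backward.isDefEq.respectTransparency.types false
-- import your own Groth.Agent.* helpers here

set_option autoImplicit false
universe u
open ProjDeg

namespace Groth.Agent.S10908

open TopologicalSpace Opposite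

section
variable {R A : Type u} [CommRing R] [CommRing A] [IsDomain A] [Algebra R A] (𝒜 : ℕ → Submodule R A) [GradedAlgebra 𝒜]

theorem mem_of_mul_mem {g c : A} {j m : ℕ} (hg : g ∈ 𝒜 j) (hg0 : g ≠ 0) (hgc : g * c ∈ 𝒜 (j + m)) : c ∈ 𝒜 m := by
  have h1 := DirectSum.coe_decompose_mul_of_left_mem_of_le 𝒜 (b := c) hg (Nat.le_add_right j m)
  rw [DirectSum.decompose_of_mem_same 𝒜 hgc, Nat.add_sub_cancel_left] at h1
  exact (mul_left_cancel₀ hg0 h1) ▸ (DirectSum.decompose 𝒜 c m).2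

/-- Global sections of twists of an integrally closed domain generated in degree one. -/
theorem exists_globalOf [IsNoetherianRing A] (hgen : ∀ i : ℕ, 𝒜 1 * 𝒜 i = 𝒜 (i + 1)) (h1 : 𝒜 1 ≠ ⊥)
    (hint : IsIntegrallyClosed A) (d : ℕ) (s : Twist.sectN (𝒜 := 𝒜) (d : ℤ) (op ⊤)) :
    ∃ a : 𝒜 d, Twist.globalOf 𝒜 a = s := by
  classical
  obtain ⟨e₁, he₁, he₁0⟩ := Submodule.exists_mem_ne_zero_of_ne_bot h1
  let x₀ : ProjectiveSpectrum 𝒜 :=
    ⟨⊥, by show (⊥ : HomogeneousIdeal 𝒜).toIdeal.IsPrime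
           rw [HomogeneousIdeal.toIdeal_bot]; exact Ideal.isPrime_bot,
      fun h => he₁0 (by
        have : e₁ ∈ (⊥ : HomogeneousIdeal 𝒜).toIdeal :=
          h (HomogeneousIdeal.mem_irrelevant_of_mem 𝒜 one_pos he₁)
        rwa [HomogeneousIdeal.toIdeal_bot] at this)⟩
  obtain ⟨V₀, hx₀, i₀V, i₀, j₀, ⟨a₀, ha₀⟩, ⟨g₀, hg₀⟩, hnin₀, hdeg₀, hval₀⟩ := s.2 ⟨x₀, trivial⟩
  replace hdeg₀ : (i₀ : ℤ) = j₀ + d ∨ a₀ = 0 := hdeg₀
  have hg₀0 : g₀ ≠ 0 := fun h => hnin₀ ⟨x₀, hx₀⟩ (h ▸ zero_mem _)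
  have hloc : ∀ x : (⊤ : Opens (ProjectiveSpectrum.top 𝒜)), ∃ (i j : ℕ) (a : 𝒜 i) (g : 𝒜 j)
      (hg : g.1 ∉ x.1.asHomogeneousIdeal), (s.1 x).1 = Localization.mk a.1 ⟨g.1, hg⟩ ∧ a.1 * g₀ = a₀ * g.1 := by
    intro x
    obtain ⟨V, hx, iV, i, j, a, g, hnin, -, hval⟩ := s.2 x
    refine ⟨i, j, a, g, hnin ⟨x.1, hx⟩, hval ⟨x.1, hx⟩, ?_⟩
    have hsp : x₀ ⤳ x.1 := specializes_iff_mem_closure.2 ((ProjectiveSpectrum.le_iff_mem_closure 𝒜 x₀ x.1).1 ((ProjectiveSpectrum.as_ideal_le_as_ideal 𝒜 x₀ x.1).1 bot_le))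
    have hxV : x₀ ∈ V := hsp.mem_open V.2 hx
    have h := (hval ⟨x₀, hxV⟩).symm.trans (hval₀ ⟨x₀, hx₀⟩)
    rw [Localization.mk_eq_mk_iff, Localization.r_iff_exists] at h
    obtain ⟨⟨c, hc⟩, hc'⟩ := h
    have hc0 : c ≠ 0 := fun h0 => hc (h0 ▸ zero_mem _)
    have := mul_left_cancel₀ hc0 hc'
    simpa [mul_comm] using this
  let S : Set A := {g | SetLike.IsHomogeneousElem 𝒜 g ∧ g₀ ∣ a₀ * g}
  let D : Ideal A := Ideal.span S
  have hDd : ∀ g ∈ D, g₀ ∣ a₀ * g := fun g hg => by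
    induction hg using Submodule.span_induction with
    | mem g hg => exact hg.2
    | zero => simp
    | add p q _ _ hp hq => rw [mul_add]; exact dvd_add hp hq
    | smul c p _ hp => rw [smul_eq_mul, mul_left_comm]; exact Dvd.dvd.mul_left hp c
  have hrad : (HomogeneousIdeal.irrelevant 𝒜).toIdeal ≤ D.radical := by
    have hD : D.IsHomogeneous 𝒜 := Ideal.homogeneous_span 𝒜 S fun g hg => hg.1
    rw [hD.radical_eq]
    refine le_sInf fun P ⟨hP, hDP, hPp⟩ => ?_
    by_contra hirr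
    obtain ⟨i, j, a, g, hg, -, heq⟩ := hloc ⟨⟨⟨P, hP⟩, hPp, hirr⟩, trivial⟩
    exact hg (hDP (Ideal.subset_span ⟨⟨j, g.2⟩, a.1, by rw [← heq, mul_comm]⟩))
  obtain ⟨M, hM⟩ := Ideal.exists_pow_le_of_le_radical_of_fg hrad (IsNoetherian.noetherian _)
  have hpow : ∀ m, ∀ y ∈ 𝒜 m, y ∈ (HomogeneousIdeal.irrelevant 𝒜).toIdeal ^ m := by
    intro m
    induction m with
    | zero => intro y _; rw [pow_zero, Ideal.one_eq_top]; trivial
    | succ m ih =>
      intro y hy
      rw [← hgen m] at hy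
      refine Submodule.mul_induction_on hy (fun p hp q hq => ?_) fun p q hp hq => add_mem hp hq
      rw [pow_succ']
      exact Ideal.mul_mem_mul (HomogeneousIdeal.mem_irrelevant_of_mem 𝒜 one_pos hp) (ih q hq)
  let J : Ideal A := Ideal.span {y | ∃ m, M ≤ m ∧ y ∈ 𝒜 m}
  obtain ⟨a, ha, hae⟩ : ∃ a ∈ 𝒜 d, a₀ = g₀ * a := by
    rcases eq_or_ne a₀ 0 with h0 | h0
    · exact ⟨0, zero_mem _, by rw [h0, mul_zero]⟩
    have hi : i₀ = j₀ + d := by
      rcases hdeg₀ with h | h
      · omega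
      · exact absurd h h0
    have hstep : ∀ y ∈ J, ∃ y' ∈ J, a₀ * y = g₀ * y' := by
      intro y hy
      induction hy using Submodule.span_induction with
      | mem y hy =>
        obtain ⟨m, hm, hym⟩ := hy
        obtain ⟨c, hc⟩ := hDd y (hM (Ideal.pow_le_pow_right hm (hpow m y hym)))
        refine ⟨c, Ideal.subset_span ⟨d + m, by omega, mem_of_mul_mem 𝒜 hg₀ hg₀0 ?_⟩, hc⟩
        rw [← hc, ← add_assoc, ← hi]
        exact SetLike.mul_mem_graded ha₀ hym
      | zero => exact ⟨0, zero_mem _, by simp⟩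
      | add p q _ _ hp hq =>
        obtain ⟨p', hp', hp''⟩ := hp
        obtain ⟨q', hq', hq''⟩ := hq
        exact ⟨p' + q', add_mem hp' hq', by rw [mul_add, mul_add, hp'', hq'']⟩
      | smul c p _ hp =>
        obtain ⟨p', hp', hp''⟩ := hp
        exact ⟨c * p', J.mul_mem_left c hp', by rw [smul_eq_mul, mul_left_comm, hp'', mul_left_comm]⟩
    let K := FractionRing A
    have hg0K : algebraMap A K g₀ ≠ 0 := (map_ne_zero_iff _ (IsFractionRing.injective A K)).2 hg₀0
    let x : K := algebraMap A K a₀ / algebraMap A K g₀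
    let N : Submodule A K := Submodule.map (Algebra.linearMap A K) J
    have hN : N ≠ ⊥ := by
      rw [Submodule.ne_bot_iff]
      refine ⟨algebraMap A K (e₁ ^ M), ⟨e₁ ^ M, Ideal.subset_span ⟨M, le_rfl, ?_⟩, rfl⟩, ?_⟩
      · simpa using SetLike.pow_mem_graded M he₁
      · exact (map_ne_zero_iff _ (IsFractionRing.injective A K)).2 (pow_ne_zero M he₁0)
    have hx : IsIntegral A x := by
      refine isIntegral_of_smul_mem_submodule N hN ((IsNoetherian.noetherian J).map _) x ?_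
      rintro _ ⟨y, hy, rfl⟩
      obtain ⟨y', hy', hy''⟩ := hstep y hy
      refine ⟨y', hy', ?_⟩
      show algebraMap A K y' = x * algebraMap A K y
      rw [div_mul_eq_mul_div, eq_div_iff hg0K, ← map_mul, ← map_mul, hy'', mul_comm]
    obtain ⟨a, ha⟩ := IsIntegrallyClosed.isIntegral_iff.1 hx
    rw [eq_div_iff hg0K, ← map_mul] at ha
    have hae : a₀ = g₀ * a := by rw [mul_comm]; exact (IsFractionRing.injective A K ha).symm
    exact ⟨a, mem_of_mul_mem 𝒜 hg₀ hg₀0 (by rw [← hae, ← hi]; exact ha₀), hae⟩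
  refine ⟨⟨a, ha⟩, Subtype.ext (funext fun x => Subtype.ext ?_)⟩
  obtain ⟨i, j, b, g, hg, hval, heq⟩ := hloc x
  rw [hval]
  show Localization.mk a ⟨1, _⟩ = Localization.mk b.1 ⟨g.1, hg⟩
  rw [Localization.mk_eq_mk_iff, Localization.r_iff_exists]
  refine ⟨1, ?_⟩
  have : b.1 = a * g.1 := mul_left_cancel₀ hg₀0 (by rw [mul_comm g₀ b.1, heq, hae, mul_assoc])
  simp [this, mul_comm]

theorem globalOf_injective (h1 : 𝒜 1 ≠ ⊥) (d : ℕ) :
    Function.Injective (fun a : ↥(𝒜 d) => Twist.globalOf 𝒜 a) := by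
  obtain ⟨e₁, he₁, he₁0⟩ := Submodule.exists_mem_ne_zero_of_ne_bot h1
  intro a b hab
  let x₀ : ProjectiveSpectrum 𝒜 :=
    ⟨⊥, by show (⊥ : HomogeneousIdeal 𝒜).toIdeal.IsPrime
           rw [HomogeneousIdeal.toIdeal_bot]; exact Ideal.isPrime_bot,
      fun h => he₁0 (by
        have : e₁ ∈ (⊥ : HomogeneousIdeal 𝒜).toIdeal :=
          h (HomogeneousIdeal.mem_irrelevant_of_mem 𝒜 one_pos he₁)
        rwa [HomogeneousIdeal.toIdeal_bot] at this)⟩
  have h := congrArg (fun s : Twist.sectN (𝒜 := 𝒜) (d : ℤ) (op ⊤) => (s.1 ⟨x₀, trivial⟩).1) hab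
  change Localization.mk a.1 _ = Localization.mk b.1 _ at h
  rw [Localization.mk_eq_mk_iff, Localization.r_iff_exists] at h
  obtain ⟨⟨c, hc⟩, hc'⟩ := h
  have hc0 : c ≠ 0 := fun h0 => hc (h0 ▸ zero_mem _)
  exact Subtype.ext (by simpa using mul_left_cancel₀ hc0 hc')

end

/-- Let S be a Noetherian graded integral domain, graded by the natural numbers as an algebra over a
ring R, generated by its degree-one part over S_0 (S_1 S_i = S_{i+1}) with S_1 ≠ 0, and integrally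
closed in its field of fractions (so that X = Proj S is projectively normal). Then for every d ≥ 0
the canonical map from S_d to the global sections of the twisting sheaf O_X(d), sending a to the
section a/1, is bijective. (The underlying lemma: every global section of O_X(d) is an element of
the homogeneous fraction ring integral over S.) (The published corollary takes the degree-zero part
to be a finitely generated algebra over a field; this row assumes only that the ring is Noetherian,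
which is all the argument uses.) -/
theorem result {R A : Type u} [CommRing R] [CommRing A] [IsDomain A]
    [IsNoetherianRing A] [Algebra R A] (𝒜 : ℕ → Submodule R A) [GradedAlgebra 𝒜]
    (hgen : ∀ i : ℕ, 𝒜 1 * 𝒜 i = 𝒜 (i + 1)) (h1 : 𝒜 1 ≠ ⊥) (hint : IsIntegrallyClosed A) (d : ℕ) :
    Function.Bijective (fun a : ↥(𝒜 d) => Twist.globalOf 𝒜 a) := by
  exact ⟨globalOf_injective 𝒜 h1 d, fun s => exists_globalOf 𝒜 hgen h1 hint d s⟩

end Groth.Agent.S10908
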