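import Groth.Statements.S1091
import Groth.Agent.FilLib.Precomp
import Groth.Agent.FilLib.Cat

set_option autoImplicit false
universe v u
open CategoryTheory CategoryTheory.Limits Opposite
open FilD Groth.Agent.FilLib

namespace Groth.Agent.S1091

lemma homotopy_single_zero {C : Type u} [Category.{v} C] [Preadditive C] [HasZeroObject C]
    {X : C} {L : CochainComplex C ℤ}
    (φ ψ : (CochainComplex.singleFunctor C 0).obj X ⟶ L) (h : Homotopy φ ψ) :
    ∃ k : X ⟶ L.X (-1), (HomologicalComplex.singleObjXSelf (.up ℤ) 0 X).inv ≫ φ.f 0 =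
      (HomologicalComplex.singleObjXSelf (.up ℤ) 0 X).inv ≫ ψ.f 0 + k ≫ L.d (-1) 0 := by
  have e : φ.f 0 = h.hom 0 (-1) ≫ L.d (-1) 0 + ψ.f 0 := by
    rw [h.comm 0, dNext_eq _ (show (ComplexShape.up ℤ).Rel 0 1 from rfl),
      prevD_eq _ (show (ComplexShape.up ℤ).Rel (-1) 0 by simp),
      show ((CochainComplex.singleFunctor C 0).obj X).d 0 1 = 0 from rfl, zero_comp, zero_add]
  refine ⟨(HomologicalComplex.singleObjXSelf (.up ℤ) 0 X).inv ≫ h.hom 0 (-1), ?_⟩
  refine (congrArg ((HomologicalComplex.singleObjXSelf (.up ℤ) 0 X).inv ≫ ·) e).trans ?_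
  refine (Preadditive.comp_add _ _ _ _ _ _).trans ((add_comm _ _).trans ?_)
  exact congrArg (_ + ·) (Category.assoc _ _ _).symm


lemma single_ext {C : Type u} [Category.{v} C] [Preadditive C] [HasZeroObject C]
    {X : C} {L : CochainComplex C ℤ}
    (φ ψ : (CochainComplex.singleFunctor C 0).obj X ⟶ L) (h : φ.f 0 = ψ.f 0) : φ = ψ :=
  HomologicalComplex.from_single_hom_ext h

lemma map_comp_zero {C : Type u} [Category.{v} C] [Preadditive C] [HasZeroObject C]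
    {X Y : C} {L : CochainComplex C ℤ} (f : X ⟶ Y)
    (b : (CochainComplex.singleFunctor C 0).obj Y ⟶ L) (b0 : Y ⟶ L.X 0)
    (hb : b.f 0 = (HomologicalComplex.singleObjXSelf (.up ℤ) 0 Y).hom ≫ b0) :
    ((CochainComplex.singleFunctor C 0).map f ≫ b).f 0 =
      (HomologicalComplex.singleObjXSelf (.up ℤ) 0 X).hom ≫ f ≫ b0 := by
  refine ((congrArg₂ (· ≫ ·) (HomologicalComplex.single_map_f_self (.up ℤ) 0 f) hb)).trans ?_
  simp

/-- Let A be an abelian category with enough injectives and S = (X ⟶ Y ⟶ Z) a short complex of finite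
filtered objects which is short exact at every filtration level (a short exact sequence of
Fil^f(A)). Given filtered quasi-isomorphisms X[0] ⟶ I and Z[0] ⟶ J into complexes of filtered
injective objects vanishing in negative degrees, there are a complex M, morphisms I ⟶ M ⟶ J which
are termwise split short exact (each Mⁿ is the direct sum of Iⁿ and Jⁿ via these maps), and a
morphism Y[0] ⟶ M making the two squares commute. -/
theorem result {A : Type u} [Category.{v} A] [Abelian A] [EnoughInjectives A] (S : ShortComplex (FilD.FilF A))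
    (hS : ∀ p : ℤ, (S.map ((FilD.IsFinFil A).ι ⋙ (evaluation ℤᵒᵖ A).obj (op p))).ShortExact)
    (I : CochainComplex (FilD.FilF A) ℤ) [I.IsStrictlyGE 0] (hI : ∀ n, FilD.IsFilteredInjective (I.X n))
    (a : (CochainComplex.singleFunctor (FilD.FilF A) 0).obj S.X₁ ⟶ I) (ha : FilD.IsFilteredQuasiIso a)
    (J : CochainComplex (FilD.FilF A) ℤ) [J.IsStrictlyGE 0] (hJ : ∀ n, FilD.IsFilteredInjective (J.X n))
    (c : (CochainComplex.singleFunctor (FilD.FilF A) 0).obj S.X₃ ⟶ J) (hc : FilD.IsFilteredQuasiIso c) :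
    ∃ (M : CochainComplex (FilD.FilF A) ℤ) (α : I ⟶ M) (β : M ⟶ J) (b : (CochainComplex.singleFunctor (FilD.FilF A) 0).obj S.X₂ ⟶ M),
      (∀ n, ∃ (r : M.X n ⟶ I.X n) (s : J.X n ⟶ M.X n), α.f n ≫ r = 𝟙 _ ∧ s ≫ β.f n = 𝟙 _ ∧ α.f n ≫ β.f n = 0 ∧
        r ≫ α.f n + β.f n ≫ s = 𝟙 _) ∧
      a ≫ α = (CochainComplex.singleFunctor (FilD.FilF A) 0).map S.f ≫ b ∧ b ≫ β = (CochainComplex.singleFunctor (FilD.FilF A) 0).map S.g ≫ c := by

  have hw : ∀ x : ℤᵒᵖ, S.f.hom.app x ≫ S.g.hom.app x = 0 := fun x =>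
    NatTrans.congr_app (comp_hom_zero S) x
  have hmono : ∀ x : ℤᵒᵖ, Mono (S.f.hom.app x) := fun x => (hS x.unop).mono_f
  have hepi : ∀ x : ℤᵒᵖ, Epi (S.g.hom.app x) := fun x => (hS x.unop).epi_g
  have : Mono S.f := mono_of_mono_app S.f hmono
  have hsf : FilD.IsStrict S.f := strict_of_exact_levels S fun p => (hS p).exact
  have : Epi S.g.hom := NatTrans.epi_of_epi_app _
  have hSF : (S.map (FilD.IsFinFil A).ι).Exact := exact_of_levels _ fun x => (hS x.unop).exact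
  have hepig : Epi S.g := ⟨fun φ ψ e => by
    ext1
    exact (cancel_epi S.g.hom).1 (congrArg (fun η => η.hom) e)⟩
  let eX : ∀ X : FilD.FilF A, ((CochainComplex.singleFunctor (FilD.FilF A) 0).obj X).X 0 ≅ X :=
    fun X => HomologicalComplex.singleObjXSelf (.up ℤ) 0 X
  let a0 : S.X₁ ⟶ I.X 0 := (eX S.X₁).inv ≫ a.f 0
  let c0 : S.X₃ ⟶ J.X 0 := (eX S.X₃).inv ≫ c.f 0
  have hc0 : ∀ k, c0 ≫ J.d 0 k = 0 := fun k => by
    rw [Category.assoc, c.comm 0 k,
      show ((CochainComplex.singleFunctor (FilD.FilF A) 0).obj S.X₃).d 0 k = 0 from rfl,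
      zero_comp, comp_zero]
  have ha0 : ∀ k, a0 ≫ I.d 0 k = 0 := fun k => by
    rw [Category.assoc, a.comm 0 k,
      show ((CochainComplex.singleFunctor (FilD.FilF A) 0).obj S.X₁).d 0 k = 0 from rfl,
      zero_comp, comp_zero]
  obtain ⟨r, hr⟩ := exists_extension S.f a0 hsf (hI 0)
  have hfr : S.f ≫ r = a0 := hr
  have hk : S.f.hom ≫ (r ≫ I.d 0 (0 + 1)).hom = 0 := by
    show (S.f ≫ r ≫ I.d 0 (0 + 1)).hom = 0
    rw [reassoc_of% hfr, ha0]
    rfl
  have : Epi (S.map (FilD.IsFinFil A).ι).g := ‹Epi S.g.hom›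
  let t : S.X₃ ⟶ I.X (0 + 1) := ObjectProperty.homMk (hSF.desc (r ≫ I.d 0 (0 + 1)).hom hk)
  have ht : S.g ≫ t = r ≫ I.d 0 (0 + 1) := by
    ext1
    exact hSF.g_desc _ hk
  have htd : ∀ k, t ≫ I.d (0 + 1) k = 0 := fun k => by
    rw [← cancel_epi S.g, reassoc_of% ht, HomologicalComplex.d_comp_d, comp_zero, comp_zero]
  let γ : (CochainComplex.singleFunctor (FilD.FilF A) 0).obj S.X₃ ⟶ I⟦(1 : ℤ)⟧ :=
    HomologicalComplex.mkHomFromSingle t (fun k _ => by
      show t ≫ ((1 : ℤ).negOnePow • I.d (0 + 1) (k + 1)) = 0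
      rw [Linear.comp_units_smul, htd, smul_zero])
  have hγ : γ.f 0 = (HomologicalComplex.singleObjXSelf (.up ℤ) 0 S.X₃).hom ≫ t :=
    HomologicalComplex.mkHomFromSingle_f _ _
  have : (I⟦(1 : ℤ)⟧).IsStrictlyGE (-1) := I.isStrictlyGE_shift 0 1 (-1) (by lia)
  obtain ⟨β, hβ⟩ := (precomp_bijective (I⟦(1 : ℤ)⟧) (-1) (fun n => hI (n + 1)) c hc).2
    ((HomotopyCategory.quotient _ _).map γ)
  obtain ⟨δ, rfl⟩ := (HomotopyCategory.quotient _ _).map_surjective β
  let h := HomotopyCategory.homotopyOfEq (c ≫ δ) γ (by rw [Functor.map_comp]; exact hβ)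
  let δ' : ∀ n, J.X n ⟶ I.X (n + 1) := fun n => δ.f n
  obtain ⟨k, hk0⟩ : ∃ k : S.X₃ ⟶ I.X (-1 + 1), c0 ≫ (δ.f 0 : J.X 0 ⟶ I.X (0 + 1)) =
      t + k ≫ ((1 : ℤ).negOnePow • I.d (-1 + 1) (0 + 1)) := by
    obtain ⟨k, hk0⟩ := homotopy_single_zero _ _ h
    refine ⟨k, (Category.assoc _ _ _).trans (hk0.trans (congrArg (· + _) ?_))⟩
    refine (congrArg ((HomologicalComplex.singleObjXSelf (.up ℤ) 0 S.X₃).inv ≫ ·) hγ).trans ?_
    exact Iso.inv_hom_id_assoc _ _
  obtain ⟨h0, hcomm⟩ : ∃ h0 : S.X₃ ⟶ I.X 0, c0 ≫ δ' 0 = t - h0 ≫ I.d 0 (0 + 1) := by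
    have aux : ∀ (m : ℤ), m = 0 → ∀ k : S.X₃ ⟶ I.X m,
        c0 ≫ (δ.f 0 : J.X 0 ⟶ I.X (0 + 1)) = t + k ≫ ((1 : ℤ).negOnePow • I.d m (0 + 1)) →
        ∃ h0 : S.X₃ ⟶ I.X 0, c0 ≫ δ' 0 = t - h0 ≫ I.d 0 (0 + 1) := by
      rintro m rfl k hk
      exact ⟨k, by show c0 ≫ (δ.f 0 : J.X 0 ⟶ I.X (0 + 1)) = _; rw [hk, Int.negOnePow_one, Units.neg_smul, one_smul, Preadditive.comp_neg,
        sub_eq_add_neg]⟩
    exact aux _ (by simp) k hk0
  have hδ : ∀ n, δ' n ≫ I.d (n + 1) (n + 1 + 1) + J.d n (n + 1) ≫ δ' (n + 1) = 0 := fun n => by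
    have e : δ' n ≫ ((1 : ℤ).negOnePow • I.d (n + 1) (n + 1 + 1)) = J.d n (n + 1) ≫ δ' (n + 1) :=
      δ.comm n (n + 1)
    rw [← e, Int.negOnePow_one, Units.neg_smul, one_smul, Preadditive.comp_neg, add_neg_cancel]
  let dM : ∀ n, I.X n ⊞ J.X n ⟶ I.X (n + 1) ⊞ J.X (n + 1) := fun n =>
    biprod.lift (biprod.fst ≫ I.d n (n + 1) - biprod.snd ≫ δ' n) (biprod.snd ≫ J.d n (n + 1))
  let M : CochainComplex (FilD.FilF A) ℤ := CochainComplex.of (fun n => I.X n ⊞ J.X n) dM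
    (fun n => by
      apply biprod.hom_ext
      · rw [Category.assoc, biprod.lift_fst, Preadditive.comp_sub, biprod.lift_fst_assoc,
          biprod.lift_snd_assoc, Preadditive.sub_comp, Category.assoc, I.d_comp_d, comp_zero,
          zero_comp, zero_sub, Category.assoc, Category.assoc, ← neg_add', ← Preadditive.comp_add,
          hδ, comp_zero, neg_zero]
      · rw [Category.assoc, biprod.lift_snd, biprod.lift_snd_assoc, Category.assoc, J.d_comp_d,
          comp_zero, zero_comp])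
  have hMd : ∀ n, M.d n (n + 1) = biprod.lift (biprod.fst ≫ I.d n (n + 1) - biprod.snd ≫ δ' n)
      (biprod.snd ≫ J.d n (n + 1)) := fun n => CochainComplex.of_d (fun n => I.X n ⊞ J.X n) dM n
  let α : I ⟶ M :=
    { f := fun n => (biprod.inl : I.X n ⟶ I.X n ⊞ J.X n)
      comm' := fun i j (hij : i + 1 = j) => by
        subst hij
        rw [hMd]
        apply biprod.hom_ext <;> simp }
  let βM : M ⟶ J :=
    { f := fun n => (biprod.snd : I.X n ⊞ J.X n ⟶ J.X n)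
      comm' := fun i j (hij : i + 1 = j) => by
        subst hij
        rw [hMd]
        exact (biprod.lift_snd _ _).symm }
  let b0 : S.X₂ ⟶ I.X 0 ⊞ J.X 0 := biprod.lift (r - S.g ≫ h0) (S.g ≫ c0)
  let b : (CochainComplex.singleFunctor (FilD.FilF A) 0).obj S.X₂ ⟶ M :=
    HomologicalComplex.mkHomFromSingle b0 (fun k (hk : 0 + 1 = k) => by
      subst hk
      rw [hMd]
      apply biprod.hom_ext
      · rw [Category.assoc, biprod.lift_fst, zero_comp]
        show biprod.lift (r - S.g ≫ h0) (S.g ≫ c0) ≫ _ = 0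
        rw [Preadditive.comp_sub, biprod.lift_fst_assoc, biprod.lift_snd_assoc,
          Preadditive.sub_comp, Category.assoc, Category.assoc, ← ht, hcomm, Preadditive.comp_sub,
          sub_self]
      · rw [Category.assoc, biprod.lift_snd, zero_comp]
        show biprod.lift (r - S.g ≫ h0) (S.g ≫ c0) ≫ _ = 0
        rw [biprod.lift_snd_assoc, Category.assoc, hc0, comp_zero])
  have hb : b.f 0 = (eX S.X₂).hom ≫ b0 :=
    HomologicalComplex.mkHomFromSingle_f _ _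
  refine ⟨M, α, βM, b, fun n => ⟨biprod.fst, biprod.inr, biprod.inl_fst, biprod.inr_snd,
    biprod.inl_snd, biprod.total⟩, ?_, ?_⟩
  · refine single_ext _ _ ?_
    refine Eq.trans ?_ (map_comp_zero S.f b b0 hb).symm
    have key : S.f ≫ b0 = a0 ≫ (biprod.inl : I.X 0 ⟶ I.X 0 ⊞ J.X 0) := by
      apply biprod.hom_ext <;> simp [b0, hfr, Preadditive.comp_sub]
    refine Eq.trans ?_ (congrArg ((eX S.X₁).hom ≫ ·) key.symm)
    exact (((eX S.X₁).hom_inv_id_assoc (a.f 0 ≫ α.f 0)).symm).trans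
      (congrArg (_ ≫ ·) (Category.assoc _ _ _).symm)
  · refine single_ext _ _ ?_
    refine Eq.trans ?_ (map_comp_zero S.g c c0 ((eX S.X₃).hom_inv_id_assoc _).symm).symm
    refine (congrArg (· ≫ (biprod.snd : I.X 0 ⊞ J.X 0 ⟶ J.X 0)) hb).trans ?_
    exact (Category.assoc _ _ _).trans (congrArg (_ ≫ ·) (biprod.lift_snd _ _))

end Groth.Agent.S1091
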