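import Groth.Statements.S10914
import Groth.Agent.VarDim.IrredFibres

set_option autoImplicit false
universe u
open CategoryTheory CategoryTheory.Limits AlgebraicGeometry TopologicalSpace
open ProjDeg

namespace Groth.Agent.S10914


open Groth.Agent.VarDim Order

/-- Let k be a field, X and Y reduced schemes proper over k and f : X → Y a k-morphism with (i) f
surjective, (ii) every fibre X_y over a closed point y irreducible, (iii) all these fibres of the
same dimension m, and (iv) Y irreducible. Then X is irreducible and dim X = dim Y + m. (The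
published statement takes X, Y projective over k and f projective; its proof uses only that f is a
closed map and upper semicontinuity of fibre dimension, i.e. properness.) -/
theorem result (k : Type u) [Field k] {X Y : Scheme.{u}}
    (pX : X ⟶ Spec (CommRingCat.of k)) (pY : Y ⟶ Spec (CommRingCat.of k)) [IsProper pX] [IsProper pY]
    [IsReduced X] [IsReduced Y] (f : X ⟶ Y) (hf : f ≫ pY = pX) (hsurj : Function.Surjective f)
    [IrreducibleSpace ↥Y] (m : ℕ)
    (hirr : ∀ y : ↥Y, IsClosed ({y} : Set ↥Y) → IrreducibleSpace ↥(f.fiber y))
    (hdim : ∀ y : ↥Y, IsClosed ({y} : Set ↥Y) → topologicalKrullDim ↥(f.fiber y) = m) :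
    IrreducibleSpace ↥X ∧ topologicalKrullDim ↥X = topologicalKrullDim ↥Y + m := by
  have hfi : ∀ y : ↥Y, IsClosed ({y} : Set ↥Y) → IsIrreducible (f ⁻¹' {y}) := fun y hy => by
    have := hirr y hy
    rw [← f.range_fiberι y, ← Set.image_univ]
    exact (IrreducibleSpace.isIrreducible_univ _).image _ (f.fiberι y).continuous.continuousOn
  have hdi : ∀ y : ↥Y, IsClosed ({y} : Set ↥Y) → topologicalKrullDim ↥(f ⁻¹' {y}) = m := fun y hy =>
    (IsHomeomorph.topologicalKrullDim_eq _ (f.fiberHomeo y).isHomeomorph).symm.trans (hdim y hy)
  have : CompactSpace X := (quasiCompact_iff_compactSpace pX).1 inferInstance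
  have : IsProper (f ≫ pY) := by rw [hf]; infer_instance
  have : IsProper f := IsProper.of_comp f pY
  rw [add_comm]
  exact irreducible_and_dim f pY hf m hfi hdi fun z hz =>
    dominant_of_isClosedMap f pY hf m hfi hdi f.isClosedMap hz

end Groth.Agent.S10914
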