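import Groth.Statements.S10915
import Groth.Agent.VarDim.Proj
import Mathlib.GroupTheory.CosetCover
import Mathlib.LinearAlgebra.Finsupp.LinearCombination

set_option autoImplicit false
set_option backward.isDefEq.respectTransparency false
set_option backward.isDefEq.respectTransparency.types false
set_option linter.style.haveILetI false
set_option linter.unusedSectionVars false
set_option maxHeartbeats 400000
universe u
open ProjDeg

namespace Groth.Agent.S10915


open MvPolynomial Groth.Agent.VarDim Groth.Agent.VarDim.ProjN in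
theorem exists_avoiding (k : Type u) [Field k] [Infinite k] (n : ℕ)
    (F : Set (Ideal (MvPolynomial (Fin (n + 1)) k))) (hF : F.Finite)
    (h : ∀ P ∈ F, P.IsPrime ∧ P.IsHomogeneous (CohB1.polyGrading n k) ∧ P ≠ vertex k n) :
    ∃ l : MvPolynomial (Fin (n + 1)) k, l.IsHomogeneous 1 ∧ ∀ P ∈ F, l ∉ P := by
  classical
  let L : (Fin (n + 1) → k) →ₗ[k] MvPolynomial (Fin (n + 1)) k := Fintype.linearCombination k MvPolynomial.X
  let S : Finset (Submodule k (Fin (n + 1) → k)) := hF.toFinset.image fun P => (P.restrictScalars k).comap L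
  have htop : ⊤ ∉ S := by
    intro ht
    obtain ⟨P, hP, hPt⟩ := Finset.mem_image.1 ht
    obtain ⟨hp, hh, hne⟩ := h P (hF.mem_toFinset.1 hP)
    refine hne (le_antisymm (le_vertex_of_isHomogeneous hh hp.ne_top) ?_)
    show RingHom.ker constantCoeff ≤ P
    refine le_trans (fun a ha => ?_) (Ideal.span_le.2 ?_ : MvPolynomial.idealOfVars (Fin (n + 1)) k ≤ P)
    · show a ∈ MvPolynomial.idealOfVars (Fin (n + 1)) k
      rw [← pow_one (MvPolynomial.idealOfVars (Fin (n + 1)) k), MvPolynomial.mem_pow_idealOfVars_iff]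
      intro x hx
      rw [Nat.one_le_iff_ne_zero, ne_eq, Finsupp.degree_eq_zero_iff]
      rintro rfl
      exact MvPolynomial.mem_support_iff.1 hx ha
    rintro _ ⟨i, rfl⟩
    have := hPt.ge (show Pi.single i 1 ∈ (⊤ : Submodule k (Fin (n + 1) → k)) from trivial)
    simpa [L, Fintype.linearCombination_apply_single] using this
  obtain ⟨c, hc⟩ := (Set.ne_univ_iff_exists_notMem _).1 (Subspace.biUnion_ne_univ_of_top_notMem htop)
  refine ⟨L c, ?_, fun P hP hl => hc (Set.mem_iUnion₂.2
    ⟨_, Finset.mem_image.2 ⟨P, hF.mem_toFinset.2 hP, rfl⟩, hl⟩)⟩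
  rw [Fintype.linearCombination_apply]
  refine MvPolynomial.IsHomogeneous.sum _ _ _ fun i _ => ?_
  rw [smul_eq_C_mul]
  exact (isHomogeneous_X k i).C_mul _

open MvPolynomial Groth.Agent.VarDim Groth.Agent.VarDim.ProjN in
theorem exists_forms (k : Type u) [Field k] [Infinite k] (n r : ℕ) (I : Ideal (MvPolynomial (Fin (n + 1)) k))
    (hI : I.IsHomogeneous (CohB1.polyGrading n k)) [hIp : I.IsPrime]
    (hdim : ringKrullDim (MvPolynomial (Fin (n + 1)) k ⧸ I) = (r : WithBot ℕ∞) + 1) :
    ∀ j, j ≤ r + 1 → ∃ h : Fin j → MvPolynomial (Fin (n + 1)) k, (∀ i, (h i).IsHomogeneous 1) ∧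
      ∀ P : PrimeSpectrum (MvPolynomial (Fin (n + 1)) k),
        P.asIdeal ∈ (I ⊔ Ideal.span (Set.range h)).minimalPrimes → Order.coheight P ≤ (r + 1 - j : ℕ) := by
  intro j
  induction j with
  | zero =>
    intro _
    refine ⟨Fin.elim0, fun i => i.elim0, fun P hP => ?_⟩
    rw [show Set.range (Fin.elim0 : Fin 0 → MvPolynomial (Fin (n + 1)) k) = ∅ from Set.range_eq_empty _,
      Ideal.span_empty, sup_bot_eq, Ideal.minimalPrimes_eq_subsingleton_self] at hP
    have h1 := coheight_eq_ringKrullDim_quotient P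
    rw [show P.asIdeal = I from hP, hdim, show ((r : WithBot ℕ∞) + 1) = (((r + 1 : ℕ) : ℕ∞) : WithBot ℕ∞) by norm_cast,
      WithBot.coe_inj] at h1
    rw [h1, Nat.sub_zero]
  | succ j ih =>
    intro hj
    obtain ⟨h, hh, hco⟩ := ih (by omega)
    let J := I ⊔ Ideal.span (Set.range h)
    have hJ : J.IsHomogeneous (CohB1.polyGrading n k) :=
      hI.sup (Ideal.homogeneous_span _ _ (by rintro _ ⟨i, rfl⟩; exact ⟨1, hh i⟩))
    obtain ⟨l, hl, hlP⟩ := exists_avoiding k n {P | P ∈ J.minimalPrimes ∧ P ≠ vertex k n}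
      (J.finite_minimalPrimes_of_isNoetherianRing.subset fun P hP => hP.1)
      (fun P hP => ⟨hP.1.1.1, minimalPrimes_isHomogeneous hJ hP.1, hP.2⟩)
    refine ⟨Fin.snoc h l, fun i => ?_, fun P hP => ?_⟩
    · refine Fin.lastCases ?_ (fun i => ?_) i
      · rw [Fin.snoc_last]; exact hl
      · rw [Fin.snoc_castSucc]; exact hh i
    have hJP : J ≤ P.asIdeal := le_trans (sup_le_sup_left (Ideal.span_mono (by
      rintro _ ⟨i, rfl⟩
      exact ⟨i.castSucc, Fin.snoc_castSucc ..⟩)) I) hP.1.2
    have hlmem : l ∈ P.asIdeal :=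
      hP.1.2 (Ideal.mem_sup_right (Ideal.subset_span ⟨Fin.last j, Fin.snoc_last ..⟩))
    obtain ⟨Q, hQ, hQP⟩ := Ideal.exists_minimalPrimes_le hJP
    by_cases hv : Q = vertex k n
    · have : P = vertexPoint k n := PrimeSpectrum.ext
        (vertex_isMaximal.eq_of_le P.2.ne_top (hv ▸ hQP)).symm
      rw [this, coheight_vertexPoint]
      exact zero_le
    · have hlt : (⟨Q, hQ.1.1⟩ : PrimeSpectrum (MvPolynomial (Fin (n + 1)) k)) < P :=
        lt_of_le_not_ge hQP fun hle => hlP Q ⟨hQ, hv⟩ (hle hlmem)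
      have h1 := (Order.coheight_add_one_le hlt).trans (hco _ hQ)
      rw [show (r + 1 - j : ℕ) = (r + 1 - (j + 1)) + 1 by omega, Nat.cast_add, Nat.cast_one] at h1
      exact (ENat.add_le_add_iff_right ENat.one_ne_top).1 h1

/-- Let k be an algebraically closed field, R = k[X_0, …, X_n] graded by degree, and I a homogeneous
prime ideal with dim R/I = r + 1, so that X = V_+(I) ⊆ P^n_k is a projective variety of dimension r.
Then there are r + 1 linear forms h_1, …, h_{r+1} (homogeneous of degree 1) whose common zero set in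
P^n_k does not meet X, i.e. the ideal I + (h_1, …, h_{r+1}) contains some power of the irrelevant
ideal (X_0, …, X_n). (The published statement says that a generic linear subspace of dimension n − r
− 1 misses X; this row asserts only that one such subspace, cut out by r + 1 linear forms, exists.) -/
theorem result (k : Type u) [Field k] [IsAlgClosed k]
    (n r : ℕ) (I : Ideal (MvPolynomial (Fin (n + 1)) k)) (hIh : I.IsHomogeneous (CohB1.polyGrading n k)) [I.IsPrime]
    (hdim : ringKrullDim (MvPolynomial (Fin (n + 1)) k ⧸ I) = (r : WithBot ℕ∞) + 1) :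
    ∃ h : Fin (r + 1) → MvPolynomial (Fin (n + 1)) k, (∀ i, (h i).IsHomogeneous 1) ∧
      ∃ N : ℕ, (Ideal.span (Set.range (MvPolynomial.X : Fin (n + 1) → MvPolynomial (Fin (n + 1)) k))) ^ N ≤
        I ⊔ Ideal.span (Set.range h) := by
  obtain ⟨h, hh, hco⟩ := exists_forms k n r I hIh hdim (r + 1) le_rfl
  refine ⟨h, hh, ?_⟩
  have hJ : (I ⊔ Ideal.span (Set.range h)).IsHomogeneous (CohB1.polyGrading n k) :=
    hIh.sup (Ideal.homogeneous_span _ _ (by rintro _ ⟨i, rfl⟩; exact ⟨1, hh i⟩))
  have hrad : VarDim.ProjN.vertex k n ≤ (I ⊔ Ideal.span (Set.range h)).radical := by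
    rw [← Ideal.sInf_minimalPrimes]
    refine le_sInf fun P hP => ?_
    haveI := hP.1.1
    have h0 : Order.coheight (⟨P, hP.1.1⟩ : PrimeSpectrum (MvPolynomial (Fin (n + 1)) k)) = 0 := by
      have := hco ⟨P, hP.1.1⟩ hP
      simpa using this
    have hle : P ≤ VarDim.ProjN.vertex k n :=
      VarDim.ProjN.le_vertex_of_isHomogeneous (VarDim.ProjN.minimalPrimes_isHomogeneous hJ hP) hP.1.1.ne_top
    have hmax : IsMax (⟨P, hP.1.1⟩ : PrimeSpectrum (MvPolynomial (Fin (n + 1)) k)) := Order.coheight_eq_zero.1 h0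
    exact hmax (b := VarDim.ProjN.vertexPoint k n) hle
  obtain ⟨N, hN⟩ := Ideal.exists_radical_pow_le_of_fg (I ⊔ Ideal.span (Set.range h)) (IsNoetherian.noetherian _)
  refine ⟨N, le_trans (Ideal.pow_right_mono (le_trans ?_ hrad) N) hN⟩
  rw [Ideal.span_le]
  rintro _ ⟨i, rfl⟩
  exact MvPolynomial.constantCoeff_X k i

end Groth.Agent.S10915
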