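import Groth.Statements.S10921
import Groth.Agent.S4228
import Groth.Agent.SmoothVarLib.Basic
import Groth.Agent.H23.PnChart

set_option autoImplicit false
universe u
open CategoryTheory CategoryTheory.Limits AlgebraicGeometry TopologicalSpace
open SmVar

namespace Groth.Agent.S10921
set_option backward.isDefEq.respectTransparency.types false

open CategoryTheory AlgebraicGeometry
open HomogeneousLocalization (Away)

noncomputable section

variable {n : ℕ} {k : Type u} [Field k]

local notation "𝒜" => CohB1.polyGrading n k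
local notation "T" => (MvPolynomial.X : Fin (n + 1) → MvPolynomial (Fin (n + 1)) k)

theorem linear_eq_sum (h : ↥(𝒜 1)) :
    (h : MvPolynomial (Fin (n + 1)) k) = ∑ i, MvPolynomial.C
      (MvPolynomial.coeff (Finsupp.single i 1) (h : MvPolynomial (Fin (n + 1)) k)) * T i := by
  classical
  have h1 : (h : MvPolynomial (Fin (n + 1)) k) ∈ Submodule.span k (Set.range T) :=
    MvPolynomial.homogeneousSubmodule_one_eq_span_X (σ := Fin (n + 1)) (R := k) ▸ h.2
  obtain ⟨c, hc⟩ := (Submodule.mem_span_range_iff_exists_fun k).1 h1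
  conv_lhs => rw [← hc]
  refine Finset.sum_congr rfl fun i _ => ?_
  rw [← hc, MvPolynomial.coeff_sum, Finset.sum_eq_single i]
  · rw [MvPolynomial.smul_eq_C_mul, MvPolynomial.coeff_C_mul, MvPolynomial.coeff_X]
    simp
  · intro l _ hli
    rw [MvPolynomial.smul_eq_C_mul, MvPolynomial.coeff_C_mul]
    simp [MvPolynomial.coeff_X', Finsupp.single_eq_single_iff, hli]
  · exact fun hi => absurd (Finset.mem_univ i) hi

theorem mk_eq_dehom (j : Fin (n + 1)) (h : ↥(𝒜 1)) :
    (HomogeneousLocalization.mk ⟨1, h, ⟨T j, MvPolynomial.isHomogeneous_X k j⟩,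
        ⟨1, pow_one _⟩⟩ : Away 𝒜 (T j)) = ZetaLib.dehom n k j h := by
  refine HomogeneousLocalization.val_injective _ ?_
  have hu : IsUnit (algebraMap (MvPolynomial (Fin (n + 1)) k)
      (Localization (Submonoid.powers (T j))) (T j) ^ 1) :=
    (IsLocalization.map_units _ (⟨T j, 1, pow_one _⟩ : Submonoid.powers (T j))).pow 1
  refine hu.mul_left_injective ?_
  show _ * _ = _ * _
  rw [ZetaLib.val_dehom_mul n k j (h.2 : (h : MvPolynomial (Fin (n + 1)) k).IsHomogeneous 1),
    HomogeneousLocalization.val_mk, pow_one, ← Localization.mk_one_eq_algebraMap,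
    ← Localization.mk_one_eq_algebraMap, Localization.mk_mul, Localization.mk_eq_mk_iff,
    Localization.r_iff_exists]
  exact ⟨1, by simp [mul_comm]⟩

/-- A homogeneous prime not containing some variable misses the linear forms off a proper subspace. -/
theorem exists_not_mem (P : Ideal (MvPolynomial (Fin (n + 1)) k)) (i : Fin (n + 1)) (hi : T i ∉ P) :
    ∃ g : MvPolynomial (Fin (n + 1)) k, g ≠ 0 ∧ ∀ a : Fin (n + 1) → k,
      MvPolynomial.eval a g ≠ 0 → ∑ l, MvPolynomial.C (a l) * T l ∉ P := by
  classical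
  let L : (Fin (n + 1) → k) →ₗ[k] MvPolynomial (Fin (n + 1)) k ⧸ P :=
    ∑ l, (LinearMap.proj l : (Fin (n + 1) → k) →ₗ[k] k).smulRight (Ideal.Quotient.mk P (T l))
  have hL : ∀ a, L a = Ideal.Quotient.mk P (∑ l, MvPolynomial.C (a l) * T l) := by
    intro a
    simp only [L, LinearMap.sum_apply, LinearMap.smulRight_apply, LinearMap.proj_apply, map_sum]
    refine Finset.sum_congr rfl fun l _ => ?_
    rw [← MvPolynomial.smul_eq_C_mul]
    rfl
  let e : Fin (n + 1) → k := Pi.single i 1
  have he : L e ≠ 0 := by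
    rw [hL, Ne, Ideal.Quotient.eq_zero_iff_mem]
    convert hi using 2
    rw [Finset.sum_eq_single i (fun l _ hl => by simp [e, Pi.single_eq_of_ne hl]) (by simp)]
    simp [e]
  obtain ⟨f, hf0, hf⟩ := Submodule.exists_le_ker_of_lt_top (LinearMap.ker L)
    (lt_top_iff_ne_top.2 fun h => he (LinearMap.mem_ker.1 (h ▸ Submodule.mem_top)))
  let g : MvPolynomial (Fin (n + 1)) k := ∑ l, MvPolynomial.C (f (Pi.single l 1)) * T l
  have hg : ∀ a, MvPolynomial.eval a g = f a := by
    intro a
    conv_rhs => rw [pi_eq_sum_univ' a]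
    simp only [g, map_sum, map_mul, MvPolynomial.eval_C, MvPolynomial.eval_X, map_smul, smul_eq_mul]
    exact Finset.sum_congr rfl fun l _ => mul_comm _ _
  refine ⟨g, fun h0 => hf0 (LinearMap.ext fun a => ?_), fun a ha hmem => ha ?_⟩
  · rw [← hg a, h0, map_zero]; rfl
  · rw [hg]
    refine LinearMap.mem_ker.1 (hf (LinearMap.mem_ker.2 ?_))
    rw [hL, Ideal.Quotient.eq_zero_iff_mem]
    exact hmem

/-- The algebraic core: outside a proper closed set of coefficients a hyperplane section of a
regular algebra of finite type over an algebraically closed field is regular. -/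
theorem affine_bertini [IsAlgClosed k] (j : Fin (n + 1)) (A : Type u) [CommRing A] [Algebra k A]
    [Algebra.FiniteType k A] [IsDomain A] [IsRegularRing A] (x : Fin n → A)
    (hx : Function.Surjective (MvPolynomial.aeval x : MvPolynomial (Fin n) k →ₐ[k] A)) :
    ∃ g : MvPolynomial (Fin (n + 1)) k, g ≠ 0 ∧ ∀ a : Fin (n + 1) → k, MvPolynomial.eval a g ≠ 0 →
      ∀ (h : A), h = algebraMap k A (a j) + ∑ i, algebraMap k A (a (j.succAbove i)) * x i →
        ∀ (q : Ideal (A ⧸ Ideal.span {h})) [q.IsPrime], IsRegularLocalRing (Localization.AtPrime q) := by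
  obtain ⟨r, hr, -⟩ := VarDim.exists_dim_eq_trdeg k A
  haveI : Infinite k := IsAlgClosed.instInfinite
  obtain ⟨g, hg0, hg⟩ := S4228.result k n r A x hx (by
    intro P hP
    rw [IsDomain.minimalPrimes_eq_singleton_bot, Set.mem_singleton_iff] at hP
    subst hP
    rw [← hr]
    exact ringKrullDim_eq_of_ringEquiv (RingEquiv.quotientBot A))
  let σ : Fin (n + 1) → Fin (n + 1) := Fin.cons j j.succAbove
  have hσ : Function.Injective σ := by
    refine Fin.cons_injective_iff.2 ⟨?_, j.succAbove_right_injective⟩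
    rintro ⟨i, hi⟩
    exact Fin.succAbove_ne j i hi
  refine ⟨MvPolynomial.rename σ g, ?_, fun a ha h hh q _ => ?_⟩
  · exact (map_ne_zero_iff _ (MvPolynomial.rename_injective σ hσ)).2 hg0
  rw [MvPolynomial.eval_rename] at ha
  have h0 : algebraMap k A ((a ∘ σ) 0) + ∑ i : Fin n, algebraMap k A ((a ∘ σ) i.succ) * x i = h := by
    rw [hh]
    simp [σ]
  have key := hg (a ∘ σ) ha
  rw [h0] at key
  haveI : Algebra.Smooth k A := SmoothVarLib.smooth_of_regular k A
  obtain ⟨f, hfq, hf⟩ := key q inferInstance ⟨1, fun h1 => (Ideal.IsPrime.ne_top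
      (Ideal.comap_isPrime (Ideal.Quotient.mk _) q)) ((Ideal.eq_top_iff_one _).2 h1), by
    rw [HasRingHomProperty.Spec_iff (P := @Smooth), CommRingCat.hom_ofHom,
      RingHom.smooth_algebraMap]
    haveI : Algebra.Smooth A (Localization.Away (1 : A)) := ⟨Algebra.FormallySmooth.of_isLocalization
      (Submonoid.powers (1 : A)), IsLocalization.Away.finitePresentation 1⟩
    exact Algebra.Smooth.comp k A _⟩
  haveI : Algebra.FiniteType k (A ⧸ Ideal.span {h}) :=
    Algebra.FiniteType.trans (S := A) inferInstance inferInstance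
  haveI : Algebra.FinitePresentation k (A ⧸ Ideal.span {h}) :=
    Algebra.FinitePresentation.of_finiteType.1 inferInstance
  have hsm : Smooth (Spec.map (CommRingCat.ofHom (algebraMap k (Localization.Away f)))) :=
    hf.smooth
  rw [HasRingHomProperty.Spec_iff (P := @Smooth), CommRingCat.hom_ofHom,
    RingHom.smooth_algebraMap] at hsm
  haveI : Algebra.IsSmoothAt k q :=
    Algebra.basicOpen_subset_smoothLocus_iff_smooth.2 hsm
      (show (⟨q, inferInstance⟩ : PrimeSpectrum _) ∈ PrimeSpectrum.basicOpen f from hfq)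
  exact CotTLib.isRegularLocalRing_of_isSmoothAt (k := k) q

variable (n k) in
/-- The hyperplane section in a localisation. -/
theorem regular_quotient (A S : Type u) [CommRing A] [CommRing S] [Algebra A S] (p : Ideal A)
    [p.IsPrime] [IsLocalization.AtPrime S p] (h : A) (hp : h ∈ p)
    (H : ∀ (q : Ideal (A ⧸ Ideal.span {h})) [q.IsPrime], IsRegularLocalRing (Localization.AtPrime q)) :
    IsRegularLocalRing (S ⧸ Ideal.span {algebraMap A S h}) := by
  let I : Ideal A := Ideal.span {h}
  have hI : I ≤ p := by simpa [I, Ideal.span_le] using hp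
  haveI hq : (p.map (Ideal.Quotient.mk I)).IsPrime :=
    Ideal.map_isPrime_of_surjective Ideal.Quotient.mk_surjective (by rwa [Ideal.mk_ker])
  have hqc : (p.map (Ideal.Quotient.mk I)).comap (Ideal.Quotient.mk I) = p :=
    Ideal.comap_map_of_surjective' _ Ideal.Quotient.mk_surjective p |>.trans
      (by rw [Ideal.mk_ker, sup_eq_left]; exact hI)
  have hM : Algebra.algebraMapSubmonoid (A ⧸ I) p.primeCompl =
      (p.map (Ideal.Quotient.mk I)).primeCompl := by
    ext y
    constructor
    · rintro ⟨a, ha, rfl⟩ hmem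
      exact ha (hqc.le (Ideal.mem_comap.2 hmem))
    · intro hy
      obtain ⟨a, rfl⟩ := Ideal.Quotient.mk_surjective y
      exact ⟨a, fun ha => hy (Ideal.mem_map_of_mem _ ha), rfl⟩
  haveI : IsLocalization.AtPrime (S ⧸ I.map (algebraMap A S)) (p.map (Ideal.Quotient.mk I)) := by
    have := (inferInstance : IsLocalization (Algebra.algebraMapSubmonoid (A ⧸ I) p.primeCompl)
      (S ⧸ I.map (algebraMap A S)))
    rwa [hM] at this
  haveI := H (p.map (Ideal.Quotient.mk I))
  haveI : IsRegularLocalRing (S ⧸ I.map (algebraMap A S)) :=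
    IsRegularLocalRing.of_ringEquiv (IsLocalization.algEquiv
      (p.map (Ideal.Quotient.mk I)).primeCompl
      (Localization.AtPrime (p.map (Ideal.Quotient.mk I))) (S ⧸ I.map (algebraMap A S))).toRingEquiv
  exact IsRegularLocalRing.of_ringEquiv (Ideal.quotEquivOfEq
    (show I.map (algebraMap A S) = Ideal.span {algebraMap A S h} by
      rw [Ideal.map_span, Set.image_singleton]))

theorem chart_bertini [IsAlgClosed k] (X : Scheme.{u}) [IsIntegral X] (ι : X ⟶ CohB1.ProjSpace n k)
    [IsClosedImmersion ι] (hreg : ∀ x : ↥X, IsRegularLocalRing ↑(X.presheaf.stalk x))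
    (j : Fin (n + 1)) :
    ∃ g : MvPolynomial (Fin (n + 1)) k, g ≠ 0 ∧ ∀ h : ↥(𝒜 1),
      MvPolynomial.eval (fun i => MvPolynomial.coeff (Finsupp.single i 1)
        (h : MvPolynomial (Fin (n + 1)) k)) g ≠ 0 →
      ∀ x : ↥X, IsClosed ({x} : Set ↥X) →
        (h : MvPolynomial (Fin (n + 1)) k) ∈ (ι.base x).asHomogeneousIdeal →
        ∀ (hj : T j ∉ (ι.base x).asHomogeneousIdeal),
          IsRegularLocalRing (↑(X.presheaf.stalk x) ⧸ Ideal.span
            {(ι.stalkMap x).hom ((Proj.stalkIso' 𝒜 (ι.base x)).symm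
              (HomogeneousLocalization.mk
                ⟨1, h, ⟨T j, MvPolynomial.isHomogeneous_X k j⟩, hj⟩))}) := by
  let U : (CohB1.ProjSpace n k).Opens := Proj.basicOpen 𝒜 (T j)
  have hU : IsAffineOpen U := by
    show IsAffineOpen (Proj.basicOpen 𝒜 (T j))
    rw [← Proj.opensRange_awayι 𝒜 (T j) (ZetaLib.X_mem_one n k j) Nat.one_pos]
    exact isAffineOpen_opensRange _
  let V : X.Opens := ι ⁻¹ᵁ U
  by_cases hVne : Nonempty ↥V
  swap
  · exact ⟨1, one_ne_zero, fun h _ x _ _ hj => absurd ⟨⟨x, hj⟩⟩ hVne⟩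
  have hV : IsAffineOpen V := hU.preimage ι
  let φ₀ : CommRingCat.of (Away 𝒜 (T j)) ⟶ Γ(X, V) :=
    (Proj.basicOpenIsoAway 𝒜 (T j) (ZetaLib.X_mem_one n k j) Nat.one_pos).hom ≫ ι.app U
  let φ : Away 𝒜 (T j) →+* Γ(X, V) := φ₀.hom
  have hφ : Function.Surjective φ :=
    (ι.app_surjective U hU).comp (ConcreteCategory.bijective_of_isIso
      (Proj.basicOpenIsoAway 𝒜 (T j) (ZetaLib.X_mem_one n k j) Nat.one_pos).hom).2
  letI : Algebra k Γ(X, V) := (φ.comp (ZetaLib.base n k j)).toAlgebra
  let x : Fin n → Γ(X, V) := fun i => φ (ZetaLib.coord n k j (j.succAbove i))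
  have hsurj : Function.Surjective (MvPolynomial.aeval x : MvPolynomial (Fin n) k →ₐ[k] Γ(X, V)) := by
    rw [← AlgHom.range_eq_top, eq_top_iff]
    rintro z -
    obtain ⟨w, rfl⟩ := hφ z
    obtain ⟨P, rfl⟩ := ZetaLib.surjective_dehom n k j w
    induction P using MvPolynomial.induction_on with
    | C c => exact ⟨MvPolynomial.C c, by simp [ZetaLib.dehom]; rfl⟩
    | add p q hp hq => rw [map_add, map_add]; exact add_mem hp hq
    | mul_X p i hp =>
      rw [map_mul, map_mul]
      refine mul_mem hp ?_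
      simp only [ZetaLib.dehom, MvPolynomial.eval₂Hom_X']
      rcases Fin.eq_self_or_eq_succAbove j i with rfl | ⟨l, rfl⟩
      · rw [H23.PnChart.coord_self, map_one]; exact one_mem _
      · exact ⟨MvPolynomial.X l, MvPolynomial.aeval_X x l⟩
  haveI : Algebra.FiniteType k Γ(X, V) := Algebra.FiniteType.of_surjective _ hsurj
  haveI : IsNoetherianRing Γ(X, V) := Algebra.FiniteType.isNoetherianRing k _
  haveI : IsDomain Γ(X, V) := @IsIntegral.component_integral X _ V hVne
  haveI : IsRegularRing Γ(X, V) := isRegularRing_iff.2 fun p hp => by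
    let y : PrimeSpectrum Γ(X, V) := ⟨p, hp⟩
    have hy : hV.fromSpec y ∈ V := hV.range_fromSpec.le ⟨y, rfl⟩
    letI := TopCat.Presheaf.algebra_section_stalk X.presheaf ⟨hV.fromSpec y, hy⟩
    haveI : IsLocalization.AtPrime (X.presheaf.stalk (hV.fromSpec y)) p :=
      hV.isLocalization_stalk' y hy
    haveI := hreg (hV.fromSpec y)
    exact IsRegularLocalRing.of_ringEquiv (IsLocalization.algEquiv p.primeCompl
      (X.presheaf.stalk (hV.fromSpec y)) (Localization.AtPrime p)).toRingEquiv
  obtain ⟨g, hg0, hg⟩ := affine_bertini j Γ(X, V) x hsurj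
  refine ⟨g, hg0, fun h ha x₀ hx₀ hmem hj => ?_⟩
  let y : V := ⟨x₀, hj⟩
  letI := TopCat.Presheaf.algebra_section_stalk X.presheaf y
  haveI := hV.isLocalization_stalk y
  let p := (hV.primeIdealOf y).asIdeal
  have heq : φ (ZetaLib.dehom n k j h) = algebraMap k Γ(X, V)
      (MvPolynomial.coeff (Finsupp.single j 1) (h : MvPolynomial (Fin (n + 1)) k)) +
      ∑ i, algebraMap k Γ(X, V) (MvPolynomial.coeff (Finsupp.single (j.succAbove i) 1)
        (h : MvPolynomial (Fin (n + 1)) k)) * x i := by
    conv_lhs => rw [linear_eq_sum h, Fin.sum_univ_succAbove _ j]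
    simp [ZetaLib.dehom, x, H23.PnChart.coord_self, RingHom.algebraMap_toAlgebra]
  let z : Away 𝒜 (T j) := HomogeneousLocalization.mk
    ⟨1, h, ⟨T j, MvPolynomial.isHomogeneous_X k j⟩, ⟨1, pow_one _⟩⟩
  have hgerm : algebraMap Γ(X, V) (X.presheaf.stalk x₀) (φ (ZetaLib.dehom n k j h)) =
      (ι.stalkMap x₀).hom ((Proj.stalkIso' 𝒜 (ι.base x₀)).symm
        (HomogeneousLocalization.mk ⟨1, h, ⟨T j, MvPolynomial.isHomogeneous_X k j⟩, hj⟩)) := by
    rw [← mk_eq_dehom]
    have h1 : (CohB1.ProjSpace n k).presheaf.germ U (ι.base x₀) hj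
        ((Proj.awayToSection 𝒜 (T j)).hom z) = (Proj.stalkIso' 𝒜 (ι.base x₀)).symm
          (HomogeneousLocalization.mk ⟨1, h, ⟨T j, MvPolynomial.isHomogeneous_X k j⟩, hj⟩) := by
      refine (congr($(ProjectiveSpectrum.Proj.awayToSection_germ 𝒜 (T j) (ι.base x₀) hj) z)).trans ?_
      rfl
    rw [← h1]
    exact (Scheme.Hom.germ_stalkMap_apply ι U x₀ hj _).symm
  have hp : φ (ZetaLib.dehom n k j h) ∈ p := by
    by_contra hnp
    have hu := IsLocalization.map_units (X.presheaf.stalk x₀)
      (⟨φ (ZetaLib.dehom n k j h), hnp⟩ : p.primeCompl)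
    rw [show ((⟨φ (ZetaLib.dehom n k j h), hnp⟩ : p.primeCompl) : Γ(X, V)) =
      φ (ZetaLib.dehom n k j h) from rfl, hgerm] at hu
    have hu2 := IsUnit.of_map (ι.stalkMap x₀).hom _ hu
    have hu3 := hu2.map (Proj.stalkIso' 𝒜 (ι.base x₀))
    erw [RingEquiv.apply_symm_apply] at hu3
    have hu4 := hu3.map (algebraMap _ (Localization (ι.base x₀).asHomogeneousIdeal.toIdeal.primeCompl))
    rw [HomogeneousLocalization.algebraMap_apply, HomogeneousLocalization.val_mk,
      Localization.mk_eq_mk', IsLocalization.AtPrime.isUnit_mk'_iff _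
        (ι.base x₀).asHomogeneousIdeal.toIdeal] at hu4
    exact hu4 hmem
  rw [← hgerm]
  exact regular_quotient Γ(X, V) (X.presheaf.stalk x₀) p _ hp (hg _ ha _ heq)

end

/-- Let k be an algebraically closed field and X ⊆ P^n_k a nonsingular projective variety, given as an
integral scheme X with a closed immersion ι into projective n-space all of whose local rings are
regular. For a linear form h = Σ a_i X_i let H be the hyperplane h = 0 and H ∩ X the
scheme-theoretic intersection. Then the hyperplanes H which do not contain X and for which H ∩ X is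
regular at each of its closed points form a set containing a nonempty Zariski-open subset of the
dual projective space: there is a nonzero polynomial g in the coefficients a_0, …, a_n such that
every h with g(a) ≠ 0 has these two properties. Regularity of H ∩ X at a closed point x of X lying
on H is expressed on the local ring: O_{X,x} modulo the image of the germ of h/X_j (any j with
X_j(x) ≠ 0) is a regular local ring. (The published statement asserts that the set of good
hyperplanes is itself open and dense and that H ∩ X is a regular subvariety; this row asserts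
regularity of H ∩ X at its closed points for all hyperplanes outside a proper closed set, and not
irreducibility, which fails for curves of degree ≥ 2.) -/
theorem result (k : Type u) [Field k] [IsAlgClosed k] (n : ℕ)
    (X : Scheme.{u}) [IsIntegral X] (ι : X ⟶ CohB1.ProjSpace n k) [IsClosedImmersion ι]
    (hreg : ∀ x : ↥X, IsRegularLocalRing ↑(X.presheaf.stalk x)) :
    ∃ g : MvPolynomial (Fin (n + 1)) k, g ≠ 0 ∧
      ∀ h : ↥(CohB1.polyGrading n k 1),
        MvPolynomial.eval (fun i => MvPolynomial.coeff (Finsupp.single i 1) (h : MvPolynomial (Fin (n + 1)) k)) g ≠ 0 →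
          (∃ x : ↥X, (h : MvPolynomial (Fin (n + 1)) k) ∉ (ι.base x).asHomogeneousIdeal) ∧
          ∀ x : ↥X, IsClosed ({x} : Set ↥X) →
            (h : MvPolynomial (Fin (n + 1)) k) ∈ (ι.base x).asHomogeneousIdeal →
            ∀ (j : Fin (n + 1))
              (hj : (MvPolynomial.X j : MvPolynomial (Fin (n + 1)) k) ∉ (ι.base x).asHomogeneousIdeal),
              IsRegularLocalRing (↑(X.presheaf.stalk x) ⧸ Ideal.span
                {(ι.stalkMap x).hom ((Proj.stalkIso' (CohB1.polyGrading n k) (ι.base x)).symm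
                  (HomogeneousLocalization.mk
                    ⟨1, h, ⟨MvPolynomial.X j, MvPolynomial.isHomogeneous_X k j⟩, hj⟩))}) := by
  classical
  choose g hg0 hg using chart_bertini X ι hreg
  let η : ↥X := genericPoint ↥X
  obtain ⟨i, hi⟩ := ZetaLib.exists_mem_chart (n := n) (k := k) (ι.base η)
  rw [ZetaLib.mem_range_chart] at hi
  obtain ⟨g₁, hg₁, hg₁'⟩ := exists_not_mem (ι.base η).asHomogeneousIdeal.toIdeal i hi
  refine ⟨g₁ * ∏ j, g j, mul_ne_zero hg₁ (Finset.prod_ne_zero_iff.2 fun j _ => hg0 j), fun h hh => ?_⟩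
  rw [map_mul, map_prod, mul_ne_zero_iff, Finset.prod_ne_zero_iff] at hh
  refine ⟨⟨η, fun hmem => hg₁' _ hh.1 ?_⟩, fun x hx hmem j hj =>
    hg j h (hh.2 j (Finset.mem_univ j)) x hx hmem hj⟩
  rw [← linear_eq_sum h]
  exact hmem

end Groth.Agent.S10921
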