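import Groth.Statements.S10926
import Groth.Agent.S10925
import Groth.Agent.H23.PicMul

set_option autoImplicit false
universe u
open CategoryTheory CategoryTheory.Limits AlgebraicGeometry
open PicF

namespace Groth.Agent.S10926
open Groth.Agent

/-- Let k be an algebraically closed field, Y an integral scheme of finite type over k, f : X → Y flat
and projective (f = i ≫ pr for a closed immersion i : X → P^n_Y) with every fibre X_y integral, and
L, M invertible O_X-modules whose pullbacks to each fibre X_y are isomorphic. Then there is an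
invertible O_Y-module E with L ≅ M ⊗ f^*E. -/
theorem result (k : Type u) [Field k] [IsAlgClosed k]
    {X Y : Scheme.{u}} (g : Y ⟶ Spec (CommRingCat.of k)) [LocallyOfFiniteType g] [QuasiCompact g]
    [IsIntegral Y] (n : ℕ) (i : X ⟶ CohB1.ProjSpaceOver n Y) [IsClosedImmersion i]
    (f : X ⟶ Y) (hf : f = i ≫ CohB1.ProjSpaceOver.toBase n Y) [Flat f]
    (hint : ∀ y : Y, IsIntegral (f.fiber y))
    (L M : X.Modules) (hL : PicF.IsInvertible L) (hM : PicF.IsInvertible M)
    (hLM : ∀ y : Y, Nonempty ((Scheme.Modules.pullback (f.fiberι y)).obj L ≅ (Scheme.Modules.pullback (f.fiberι y)).obj M)) :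
    ∃ E : Y.Modules, PicF.IsInvertible E ∧
      Nonempty (L ≅ CohB1.tensorMod M ((Scheme.Modules.pullback f).obj E)) := by

    obtain ⟨D, hD, ⟨eD⟩⟩ := H23.PicInv.exists_inverse hM
    have htriv : ∀ y : Y, Nonempty ((Scheme.Modules.pullback (f.fiberι y)).obj (CohB1.tensorMod L D) ≅
        Coh.structureModule (f.fiber y)) := fun y => by
      obtain ⟨e⟩ := hLM y
      obtain ⟨p⟩ := H23.PicMul.pull (f.fiberι y) L D
      obtain ⟨q⟩ := H23.PicMul.pull (f.fiberι y) M D
      obtain ⟨u⟩ := PicClLib.nonempty_pullback_structureModule (f.fiberι y)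
      exact ⟨p ≪≫ PicGrp.tensorModIso e (Iso.refl _) ≪≫ q.symm ≪≫
        (Scheme.Modules.pullback (f.fiberι y)).mapIso eD ≪≫ u⟩
    obtain ⟨hE, hc⟩ := S10925.result k g n i f hf hint (CohB1.tensorMod L D) (H23.PicMul.isInvertible_tensor hL hD) htriv
    haveI := hc
    let c := asIso ((Scheme.Modules.pullbackPushforwardAdjunction f).counit.app (CohB1.tensorMod L D))
    obtain ⟨a⟩ := H23.PicMul.assoc L D M
    obtain ⟨b⟩ := H23.PicMul.comm D M
    obtain ⟨w⟩ := H23.PicMul.comm (CohB1.tensorMod L D) M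
    obtain ⟨v⟩ := H23.PicMul.unit L
    exact ⟨_, hE, ⟨v.symm ≪≫ PicGrp.tensorModIso (Iso.refl _) eD.symm ≪≫ PicGrp.tensorModIso (Iso.refl _) b.symm ≪≫ a.symm ≪≫
      w ≪≫ PicGrp.tensorModIso (Iso.refl _) c.symm⟩⟩

end Groth.Agent.S10926
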