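import Groth.Statements.S10927
import Groth.Agent.GenSmooth5.Target
import Groth.Agent.GrpSchLib.Action
import Groth.Agent.Synt29.FibreLocal
import Groth.Agent.S0353

set_option linter.style.haveILetI false
set_option backward.isDefEq.respectTransparency false
set_option backward.isDefEq.respectTransparency.types false

set_option autoImplicit false
universe u
open CategoryTheory CategoryTheory.Limits MonoidalCategory CartesianMonoidalCategory MonObj GrpObj AlgebraicGeometry
open Variety

namespace Groth.Agent.S10927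

open CategoryTheory.MonoidalCategory CartesianMonoidalCategory MonObj in
/-- Translation by a point carrying one point of the group to another commutes with the orbit map. -/
theorem exists_translate {S : Scheme.{u}} {G X : Over S} [GrpObj G] (a : AlgGrp.Action G X)
    (x : 𝟙_ (Over S) ⟶ X) (c s : 𝟙_ (Over S) ⟶ G) :
    ∃ (L : G ≅ G) (T : X ≅ X), L.hom ≫ a.orbitMap x = a.orbitMap x ≫ T.hom ∧ c ≫ L.hom = s := by
  let L : (𝟙_ (Over S) ⟶ G) → (G ⟶ G) := fun g => (toUnit G ≫ g) * 𝟙 G
  let T : (𝟙_ (Over S) ⟶ G) → (X ⟶ X) := fun g => lift (toUnit X ≫ g) (𝟙 X) ≫ a.act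
  have hL : ∀ g h, L g ≫ L h = L (h * g) := fun g h => by
    simp only [L, MonObj.comp_mul, Category.comp_id, comp_toUnit_assoc]
    rw [_root_.mul_assoc]
  have hT : ∀ g h, T g ≫ T h = T (h * g) := fun g h => by
    simp only [T]
    rw [← Category.assoc, comp_lift, Category.comp_id, comp_toUnit_assoc, GrpSchLib.act_mul, MonObj.comp_mul]
  have hL1 : L 1 = 𝟙 G := by simp [L]
  have hT1 : T 1 = 𝟙 X := by simp [T, GrpSchLib.act_one]
  refine ⟨⟨L (s * c⁻¹), L (s * c⁻¹)⁻¹, by rw [hL, inv_mul_cancel, hL1], by rw [hL, mul_inv_cancel, hL1]⟩,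
    ⟨T (s * c⁻¹), T (s * c⁻¹)⁻¹, by rw [hT, inv_mul_cancel, hT1], by rw [hT, mul_inv_cancel, hT1]⟩, ?_, ?_⟩
  · simp only [L, T, AlgGrp.Action.orbitMap]
    rw [← Category.assoc, comp_lift, Category.comp_id, comp_toUnit_assoc]
    conv_rhs => rw [← Category.assoc, comp_lift, Category.comp_id, comp_toUnit_assoc, GrpSchLib.act_mul]
  · simp only [L]
    rw [MonObj.comp_mul, Category.comp_id, comp_toUnit_assoc, Subsingleton.elim (toUnit (𝟙_ (Over S))) (𝟙 _),
      Category.id_comp, inv_mul_cancel_right]

theorem smoothLocus_comp_iso {A B C : Scheme.{u}} (φ : A ⟶ B) [LocallyOfFinitePresentation φ] (T : B ⟶ C) [IsIso T]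
    (z : A) : z ∈ (φ ≫ T).smoothLocus ↔ z ∈ φ.smoothLocus := by
  rw [← Synt29.FibreLocal.exists_smooth_iff, ← Synt29.FibreLocal.exists_smooth_iff]
  refine exists_congr fun U => and_congr_right fun _ => ?_
  rw [← Category.assoc]
  exact MorphismProperty.cancel_right_of_respectsIso @Smooth _ T

/-- Let k be an algebraically closed field of characteristic zero, G a group variety over k (an
integral, separated k-group scheme of finite type) and X a homogeneous space for G: a k-variety
(integral, separated, of finite type over k) with an action of G such that G(k) acts transitively on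
X(k). Then for every k-point x of X the orbit map G → X, g ↦ g · x, is smooth. -/
theorem result (k : Type u) [Field k] [IsAlgClosed k] [CharZero k]
    (G X : Over (Spec (CommRingCat.of k))) [GrpObj G] (a : AlgGrp.Action G X)
    [IsIntegral G.left] [IsSeparated G.hom] [LocallyOfFiniteType G.hom] [QuasiCompact G.hom]
    [IsIntegral X.left] [IsSeparated X.hom] [LocallyOfFiniteType X.hom] [QuasiCompact X.hom]
    (htrans : ∀ x x' : 𝟙_ (Over (Spec (CommRingCat.of k))) ⟶ X,
      ∃ σ : 𝟙_ (Over (Spec (CommRingCat.of k))) ⟶ G, CartesianMonoidalCategory.lift σ x ≫ a.act = x')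
    (x : 𝟙_ (Over (Spec (CommRingCat.of k))) ⟶ X) :
    Smooth (a.orbitMap x).left := by
  haveI : Smooth G.hom := S0353.result k G
  set φ := a.orbitMap x with hφdef
  haveI : LocallyOfFiniteType (φ.left ≫ X.hom) := by rw [Over.w φ]; infer_instance
  haveI : LocallyOfFiniteType φ.left := locallyOfFiniteType_of_comp φ.left X.hom
  haveI : IsLocallyNoetherian X.left := LocallyOfFiniteType.isLocallyNoetherian X.hom
  haveI : LocallyOfFinitePresentation φ.left := inferInstance
  obtain ⟨V, hVne, hV⟩ := GenSmooth5.exists_open_smooth_preimage G.hom X.hom φ.left (Over.w φ)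
  haveI := hV
  have hVO : φ.left ⁻¹ᵁ V ≤ φ.left.smoothLocus := fun z hz =>
    (Synt29.FibreLocal.exists_smooth_iff φ.left z).1 ⟨φ.left ⁻¹ᵁ V, hz, by rw [← morphismRestrict_ι]; infer_instance⟩
  haveI : JacobsonSpace X.left := LocallyOfFiniteType.jacobsonSpace X.hom
  haveI : JacobsonSpace G.left := LocallyOfFiniteType.jacobsonSpace G.hom
  obtain ⟨x', hx'V, hx'⟩ := nonempty_inter_closedPoints hVne V.2.isLocallyClosed
  let sx := (pointEquivClosedPoint X.hom).symm ⟨x', hx'⟩
  have hsx : sx.1 (IsLocalRing.closedPoint k) = x' :=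
    congrArg Subtype.val ((pointEquivClosedPoint X.hom).apply_symm_apply ⟨x', hx'⟩)
  obtain ⟨σ, hσ⟩ := htrans x (Over.homMk sx.1 sx.2)
  have hσφ : σ ≫ φ = CartesianMonoidalCategory.lift σ x ≫ a.act := by
    rw [hφdef, AlgGrp.Action.orbitMap, ← Category.assoc, comp_lift, Category.comp_id, comp_toUnit_assoc,
      Subsingleton.elim (toUnit (𝟙_ (Over (Spec (CommRingCat.of k))))) (𝟙 _), Category.id_comp]
  have hσV : φ.left (σ.left (IsLocalRing.closedPoint k)) ∈ V := by
    have h1 := congrArg (fun e : 𝟙_ (Over (Spec (CommRingCat.of k))) ⟶ X => e.left (IsLocalRing.closedPoint k))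
      (hσφ.trans hσ)
    exact (h1.trans hsx) ▸ hx'V
  rw [← Scheme.Hom.smoothLocus_eq_top_iff, ← TopologicalSpace.Opens.coe_eq_univ, ← not_ne_iff,
    ← Set.nonempty_compl]
  intro H
  obtain ⟨c, hc, hcc⟩ := nonempty_inter_closedPoints H φ.left.smoothLocus.2.isClosed_compl.isLocallyClosed
  let sc := (pointEquivClosedPoint G.hom).symm ⟨c, hcc⟩
  have hsc : sc.1 (IsLocalRing.closedPoint k) = c :=
    congrArg Subtype.val ((pointEquivClosedPoint G.hom).apply_symm_apply ⟨c, hcc⟩)
  obtain ⟨L, T, hLT, hcL⟩ := exists_translate a x (Over.homMk sc.1 sc.2) σ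
  haveI : IsIso L.hom.left := ((Over.forget _).mapIso L).isIso_hom
  haveI : IsIso T.hom.left := ((Over.forget _).mapIso T).isIso_hom
  have h1 : L.hom.left c = σ.left (IsLocalRing.closedPoint k) := by
    rw [← hsc]
    exact congrArg (fun e : 𝟙_ (Over (Spec (CommRingCat.of k))) ⟶ G => e.left (IsLocalRing.closedPoint k)) hcL
  apply hc
  refine (smoothLocus_comp_iso φ.left T.hom.left c).1 ?_
  have h2 : φ.left ≫ T.hom.left = L.hom.left ≫ φ.left := (congrArg CommaMorphism.left hLT).symm
  rw! [h2]
  rw [← Scheme.Hom.preimage_smoothLocus_eq, Scheme.Hom.mem_preimage, h1]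
  exact hVO hσV

end Groth.Agent.S10927
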