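import Groth.Statements.S10928
import Groth.Agent.Kleiman5.Basic

set_option linter.style.haveILetI false
set_option backward.isDefEq.respectTransparency false
set_option backward.isDefEq.respectTransparency.types false

set_option autoImplicit false
universe u
open CategoryTheory CategoryTheory.Limits MonoidalCategory CartesianMonoidalCategory MonObj GrpObj AlgebraicGeometry
open Variety

namespace Groth.Agent.S10928

/-- Let k be an algebraically closed field of characteristic zero, G a group variety over k (integral,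
separated k-group scheme of finite type), X a homogeneous space for G (a k-variety with a G-action
such that G(k) acts transitively on X(k)) of dimension n, and f : Y → X, g : Z → X morphisms of
k-schemes where Y and Z are nonsingular varieties over k (integral, separated, smooth of finite type
over k) of dimensions r and s. For a k-point σ of G write f^σ : Y → X for y ↦ σ · f(y). Then there
is a nonempty open subset V ⊆ G such that for every k-point σ of G lying in V the scheme Y^σ ×_X Z
(fibre product of f^σ and g) is smooth over k and is either empty or of dimension r + s − n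
(dimensions are topological Krull dimensions). -/
theorem result (k : Type u) [Field k] [IsAlgClosed k] [CharZero k]
    (G X : Over (Spec (CommRingCat.of k))) [GrpObj G] (a : AlgGrp.Action G X)
    [IsIntegral G.left] [IsSeparated G.hom] [LocallyOfFiniteType G.hom] [QuasiCompact G.hom]
    [IsIntegral X.left] [IsSeparated X.hom] [LocallyOfFiniteType X.hom] [QuasiCompact X.hom]
    (htrans : ∀ x x' : 𝟙_ (Over (Spec (CommRingCat.of k))) ⟶ X,
      ∃ σ : 𝟙_ (Over (Spec (CommRingCat.of k))) ⟶ G, CartesianMonoidalCategory.lift σ x ≫ a.act = x')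
    {Y Z : Scheme.{u}} (f : Y ⟶ X.left) (g : Z ⟶ X.left)
    [IsIntegral Y] [IsSeparated (f ≫ X.hom)] [QuasiCompact (f ≫ X.hom)] [Smooth (f ≫ X.hom)]
    [IsIntegral Z] [IsSeparated (g ≫ X.hom)] [QuasiCompact (g ≫ X.hom)] [Smooth (g ≫ X.hom)]
    (n r s : ℕ) (hn : topologicalKrullDim ↥X.left = n) (hr : topologicalKrullDim ↥Y = r)
    (hs : topologicalKrullDim ↥Z = s) :
    ∃ V : G.left.Opens, (V : Set ↥G.left).Nonempty ∧
      ∀ σ : 𝟙_ (Over (Spec (CommRingCat.of k))) ⟶ G, Set.range σ.left.base ⊆ (V : Set ↥G.left) →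
        ∀ fσ : Y ⟶ X.left,
          fσ = (CartesianMonoidalCategory.lift (CartesianMonoidalCategory.toUnit (Over.mk (f ≫ X.hom)) ≫ σ)
            (Over.homMk f) ≫ a.act).left →
          Smooth (pullback.fst fσ g ≫ f ≫ X.hom) ∧
            (IsEmpty ↥(pullback fσ g) ∨ (n ≤ r + s ∧ topologicalKrullDim ↥(pullback fσ g) = ((r + s - n : ℕ) : WithBot ℕ∞))) := by
  haveI : Smooth G.hom := S0353.result k G
  let Yo : Over (Spec (CommRingCat.of k)) := Over.mk (f ≫ X.hom)
  haveI : Smooth Yo.hom := ‹Smooth (f ≫ X.hom)›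
  haveI : QuasiCompact Yo.hom := ‹QuasiCompact (f ≫ X.hom)›
  let fo : Yo ⟶ X := Over.homMk f
  obtain ⟨_, _⟩ := Kleiman5.smooth_tensor_hom (G := G) (Y := Yo)
  let h := (Kleiman5.sweep a fo).left
  have hh : h ≫ X.hom = (G ⊗ Yo).hom := Over.w _
  haveI hhs : Smooth h := Kleiman5.smooth_sweep a fo htrans
  haveI : QuasiSeparated X.hom := inferInstance
  haveI : QuasiCompact (h ≫ X.hom) := hh ▸ ‹QuasiCompact (G ⊗ Yo).hom›
  haveI : QuasiCompact h := QuasiCompact.of_comp h X.hom
  let W := pullback h g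
  let q : W ⟶ G.left := pullback.fst h g ≫ (CartesianMonoidalCategory.fst G Yo).left
  let qW : W ⟶ Spec (CommRingCat.of k) := pullback.snd h g ≫ g ≫ X.hom
  have hG : (CartesianMonoidalCategory.fst G Yo).left ≫ G.hom = (G ⊗ Yo).hom := Over.w _
  have hqW : q ≫ G.hom = qW := by
    simp only [q, qW, Category.assoc]
    rw [hG, ← hh, pullback.condition_assoc]
  haveI : Smooth qW := inferInstance
  haveI : QuasiCompact (pullback.snd h g) := inferInstance
  haveI : QuasiCompact qW := inferInstance
  haveI : LocallyOfFiniteType qW := inferInstance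
  obtain ⟨V, hVne, hV⟩ := GenSmooth5.exists_open_smooth_preimage qW G.hom q hqW
  haveI := hV
  refine ⟨V, hVne, fun σ hσV fσ hfσ => ?_⟩
  let j : Yo ⟶ G ⊗ Yo := CartesianMonoidalCategory.lift (toUnit Yo ≫ σ) (𝟙 Yo)
  have hjh : j.left ≫ h = fσ := by
    have := congrArg CommaMorphism.left (Kleiman5.lift_sweep a fo (toUnit Yo ≫ σ) (𝟙 Yo))
    rw [Category.id_comp] at this
    exact this.trans hfσ.symm
  have hj2 : j.left ≫ pullback.snd G.hom (f ≫ X.hom) = 𝟙 Y :=
    congrArg CommaMorphism.left (lift_snd (toUnit Yo ≫ σ) (𝟙 Yo))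
  have hσ1 : σ.left ≫ G.hom = 𝟙 (Spec (CommRingCat.of k)) := Over.w σ
  have hj1 : j.left ≫ (CartesianMonoidalCategory.fst G Yo).left = (f ≫ X.hom) ≫ σ.left :=
    congrArg CommaMorphism.left (lift_fst (toUnit Yo ≫ σ) (𝟙 Yo))
  have sq1 : IsPullback j.left (f ≫ X.hom) (CartesianMonoidalCategory.fst G Yo).left σ.left := by
    refine IsPullback.of_right ?_ hj1 (IsPullback.of_hasPullback G.hom (f ≫ X.hom)).flip
    rw [hσ1, hj2]
    exact @IsPullback.of_horiz_isIso _ _ _ _ _ _ _ _ _ _ (IsIso.id _) (IsIso.id _) ⟨(Category.id_comp _).trans (Category.comp_id _).symm⟩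
  let m : pullback fσ g ⟶ W := pullback.lift (pullback.fst fσ g ≫ j.left) (pullback.snd fσ g)
    (by rw [Category.assoc, hjh, pullback.condition])
  have hm1 : m ≫ pullback.fst h g = pullback.fst fσ g ≫ j.left := pullback.lift_fst _ _ _
  have sq2 : IsPullback m (pullback.fst fσ g) (pullback.fst h g) j.left := by
    refine IsPullback.of_right ?_ hm1 (IsPullback.of_hasPullback h g).flip
    rw [pullback.lift_snd, hjh]
    exact (IsPullback.of_hasPullback fσ g).flip
  let qF : pullback fσ g ⟶ Spec (CommRingCat.of k) := pullback.fst fσ g ≫ f ≫ X.hom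
  have sq : IsPullback m qF q σ.left := sq2.paste_vert sq1
  have hmem : ∀ z, m z ∈ q ⁻¹ᵁ V := fun z => by
    show q (m z) ∈ V
    rw [← Scheme.Hom.comp_apply, sq.w, Scheme.Hom.comp_apply]
    exact hσV ⟨_, rfl⟩
  have hrange : Set.range σ.left ⊆ Set.range V.ι := by rw [Scheme.Opens.range_ι]; exact hσV
  let σ' := IsOpenImmersion.lift V.ι σ.left hrange
  let m' := IsOpenImmersion.lift (q ⁻¹ᵁ V).ι m (by
    rw [Scheme.Opens.range_ι]; rintro _ ⟨z, rfl⟩; exact hmem z)
  have hsm : Smooth qF := by
    refine MorphismProperty.of_isPullback (P := @Smooth) (f' := m') (g' := qF) (f := σ') (g := q ∣_ V) ?_ hV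
    refine IsPullback.of_right ?_ ?_ (isPullback_morphismRestrict q V).flip
    · rw [IsOpenImmersion.lift_fac, IsOpenImmersion.lift_fac]; exact sq
    · rw [← cancel_mono V.ι, Category.assoc, morphismRestrict_ι, IsOpenImmersion.lift_fac_assoc,
        Category.assoc, IsOpenImmersion.lift_fac, sq.w]
  refine ⟨hsm, ?_⟩
  by_cases hne : IsEmpty ↥(pullback fσ g)
  · exact Or.inl hne
  right
  rw [not_isEmpty_iff] at hne
  haveI := hne
  haveI : Smooth qF := hsm
  haveI : LocallyOfFiniteType qF := inferInstance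
  haveI : LocallyOfFiniteType q := by
    haveI : LocallyOfFiniteType (q ≫ G.hom) := hqW ▸ inferInstance
    exact locallyOfFiniteType_of_comp q G.hom
  haveI : IrreducibleSpace Y := inferInstance
  haveI : IrreducibleSpace Z := inferInstance
  haveI : IrreducibleSpace G.left := inferInstance
  haveI : IrreducibleSpace X.left := inferInstance
  obtain ⟨z₀⟩ := hne
  obtain ⟨dG, hdG⟩ := Kleiman5.exists_fibreDim G.hom (genericPoint G.left)
  have hdimG : ∀ x, FlatMor.fibreDimAt G.hom x = (dG : WithBot ℕ∞) := fun x => by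
    have hd : topologicalKrullDim G.left = dG := by
      obtain ⟨z, hz, -, -, he⟩ := FibDim.exists_fibMax_generization G.hom (genericPoint G.left)
      have hzg : z = genericPoint G.left := (hz.antisymm (genericPoint_specializes z)).eq
      rw [← hdG, he, ← FibDim.dim_closure_inter_fibre G.hom z]
      have hset : closure ({z} : Set G.left) ∩ G.hom ⁻¹' {G.hom z} = Set.univ := by
        ext w
        simp [Subsingleton.elim (α := Spec (CommRingCat.of k)) (G.hom w) (G.hom z), hzg,
          (genericPoint_spec G.left).def]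
      exact ((Homeomorph.setCongr hset).trans (Homeomorph.Set.univ G.left)).isHomeomorph.topologicalKrullDim_eq.symm
    exact Kleiman5.fibreDimAt_eq_dim G.hom hd x
  have key : ∀ z, n ≤ r + s ∧ FlatMor.fibreDimAt qF z = ((r + s - n : ℕ) : WithBot ℕ∞) := by
    intro z
    obtain ⟨F, hF⟩ := Kleiman5.exists_fibreDim qF z
    let w := m z
    let v := (pullback.fst h g) w
    obtain ⟨A, hA⟩ := Kleiman5.exists_fibreDim h v
    have hqflat : (q.stalkMap w).hom.Flat :=
      (Synt29.FibreLocal.flat_stalkMap_comp_ι (q ⁻¹ᵁ V) ((q ⁻¹ᵁ V).ι ≫ q) q rfl ⟨w, hmem z⟩).1 <| by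
        haveI : Smooth ((q ⁻¹ᵁ V).ι ≫ q) := by rw [← morphismRestrict_ι]; infer_instance
        exact Flat.stalkMap _ _
    have eF : FlatMor.fibreDimAt q w = (F : WithBot ℕ∞) := (FibDim.fibreDimAt_baseChange sq z).symm.trans hF
    have eS : FlatMor.fibreDimAt (pullback.snd h g) w = (A : WithBot ℕ∞) :=
      (FibDim.fibreDimAt_baseChange (IsPullback.of_hasPullback h g) w).trans hA
    have eY : FlatMor.fibreDimAt (CartesianMonoidalCategory.fst G Yo).left v = (r : WithBot ℕ∞) :=
      (FibDim.fibreDimAt_baseChange (p := pullback.snd G.hom (f ≫ X.hom))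
        (q := pullback.fst G.hom (f ≫ X.hom)) (f := f ≫ X.hom) (g := G.hom)
        (IsPullback.of_hasPullback G.hom (f ≫ X.hom)).flip v).trans
        (Kleiman5.fibreDimAt_eq_dim (f ≫ X.hom) hr _)
    haveI : Flat (CartesianMonoidalCategory.fst G Yo).left :=
      inferInstanceAs (Flat (pullback.fst G.hom (f ≫ X.hom)))
    haveI : LocallyOfFiniteType (CartesianMonoidalCategory.fst G Yo).left :=
      inferInstanceAs (LocallyOfFiniteType (pullback.fst G.hom (f ≫ X.hom)))
    have c1 : FlatMor.fibreDimAt (G ⊗ Yo).hom v = ((r + dG : ℕ) : WithBot ℕ∞) := by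
      rw [← hG, FibDim.fibreDimAt_comp_of_flat _ G.hom v (Flat.stalkMap _ v), eY, hdimG]
      norm_cast
    have c2 : FlatMor.fibreDimAt (h ≫ X.hom) v = ((A + n : ℕ) : WithBot ℕ∞) := by
      rw [FibDim.fibreDimAt_comp_of_flat h X.hom v (Flat.stalkMap _ v), hA, Kleiman5.fibreDimAt_eq_dim X.hom hn]
      norm_cast
    have c3 : FlatMor.fibreDimAt qW w = ((A + s : ℕ) : WithBot ℕ∞) := by
      show FlatMor.fibreDimAt (pullback.snd h g ≫ g ≫ X.hom) w = _
      rw [FibDim.fibreDimAt_comp_of_flat _ (g ≫ X.hom) w (Flat.stalkMap _ w), eS,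
        Kleiman5.fibreDimAt_eq_dim (g ≫ X.hom) hs]
      norm_cast
    have c4 : FlatMor.fibreDimAt (q ≫ G.hom) w = ((F + dG : ℕ) : WithBot ℕ∞) := by
      rw [FibDim.fibreDimAt_comp_of_flat q G.hom w hqflat, eF, hdimG]
      norm_cast
    rw [hh, c1] at c2
    rw [hqW, c3] at c4
    have e1 : r + dG = A + n := by exact_mod_cast c2
    have e2 : A + s = F + dG := by exact_mod_cast c4
    exact ⟨by omega, hF.trans (by congr 1; exact_mod_cast (by omega : F = r + s - n))⟩
  exact ⟨(key z₀).1, Kleiman5.dim_eq_of_fibreDimAt qF fun z => (key z).2⟩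

end Groth.Agent.S10928
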