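import Groth.Statements.S10929
import Groth.Agent.GenSmooth5.Basic

set_option backward.isDefEq.respectTransparency.types false
set_option backward.isDefEq.respectTransparency false
set_option linter.style.haveILetI false
-- import your own Groth.Agent.* helpers here

set_option autoImplicit false
universe u
open CategoryTheory CategoryTheory.Limits AlgebraicGeometry
open Variety

namespace Groth.Agent.S10929

/-- Let k be an algebraically closed field of characteristic zero, X and Y integral schemes of finite
type over k and f : X → Y a dominant k-morphism. Then there is a nonempty open subscheme U of X such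
that f restricted to U is a smooth morphism U → Y. -/
theorem result (k : Type u) [Field k] [IsAlgClosed k] [CharZero k]
    {X Y : Scheme.{u}} (qX : X ⟶ Spec (CommRingCat.of k)) (qY : Y ⟶ Spec (CommRingCat.of k))
    [LocallyOfFiniteType qX] [QuasiCompact qX] [LocallyOfFiniteType qY] [QuasiCompact qY]
    [IsIntegral X] [IsIntegral Y] (f : X ⟶ Y) (hf : f ≫ qY = qX) (hdom : DenseRange f.base) :
    ∃ U : X.Opens, (U : Set ↥X).Nonempty ∧ Smooth (U.ι ≫ f) := by
  open Groth.Agent in
  haveI : LocallyOfFiniteType (f ≫ qY) := hf ▸ inferInstance
  haveI : LocallyOfFiniteType f := locallyOfFiniteType_of_comp f qY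
  haveI : IsLocallyNoetherian Y := LocallyOfFiniteType.isLocallyNoetherian qY
  haveI : LocallyOfFinitePresentation f := LocallyOfFinitePresentation.iff_locallyOfFiniteType.2 ‹_›
  haveI : IsDominant f := ⟨hdom⟩
  have hη : f (genericPoint X) = genericPoint Y := by
    have h1 := (genericPoint_spec X).image f.continuous
    rw [Set.image_univ, hdom.closure_range] at h1
    exact h1.eq (genericPoint_spec Y)
  haveI : CharZero Y.functionField := charZero_of_injective_ringHom (R := k)
    (f := ((Y.presheaf.germ ⊤ (genericPoint Y) trivial).hom.comp
      ((Scheme.ΓSpecIso (CommRingCat.of k)).inv ≫ qY.appTop).hom)) (RingHom.injective _)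
  obtain ⟨U, hξU, hU⟩ := GenSmooth5.exists_open_smooth f hη
  exact ⟨U, ⟨_, hξU⟩, hU⟩

end Groth.Agent.S10929
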