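import Groth.Statements.S10931
import Groth.Agent.Synt29.PnBott
import Groth.Agent.PnCoh.Chow.Proper

set_option autoImplicit false
universe u
open CategoryTheory CategoryTheory.Limits AlgebraicGeometry
open ProjDual

namespace Groth.Agent.S10931

/-- Let k be a field, p ≤ r and q ≤ r natural numbers, P = P^r_k with structure map to Spec k, Ω =
Ω^1_{P/k} (the conormal sheaf of the diagonal), L an O_P-module which is a p-th exterior power of Ω
and L' one which is an (r − p)-th exterior power of Ω, and d an integer; write M(d) = M ⊗ O_P(d).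
Then H^q(P, L(d)) = H^q(P^r, Ω^p(d)) and H^{r−q}(P, L'(−d)) = H^{r−q}(P^r, Ω^{r−p}(−d)) have the
same dimension over k. (The published statement asserts an isomorphism between these two cohomology
groups, obtained from Serre duality; this row records the equality of dimensions.) -/
theorem result (k : Type u) [Field k] (r p q : ℕ)
    (hp : p ≤ r) (hq : q ≤ r) (L L' : (CohB1.ProjSpace r k).Modules)
    (hL : ExtPow.IsExtPow p (Omega.sheaf (CohB1.ProjSpace.toSpec r k)) L)
    (hL' : ExtPow.IsExtPow (r - p) (Omega.sheaf (CohB1.ProjSpace.toSpec r k)) L') (d : ℤ) :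
    Module.finrank k (Coh.HH (CohB1.ProjSpace r k) (CohB1.tensorMod L (Twist.twistProjSpace r k d)) q) =
      Module.finrank k (Coh.HH (CohB1.ProjSpace r k)
        (CohB1.tensorMod L' (Twist.twistProjSpace r k (-d))) (r - q)) := by
  haveI : QuasiSeparated (CohB1.ProjSpace.toSpec r k) := by
    haveI := Groth.Agent.PnCoh.Chow.isProper_toSpec r k
    infer_instance

  have main : ∀ (p q : ℕ), p ≤ r → q ≤ r → ∀ d : ℤ, 0 < d → ∀ M M' : (CohB1.ProjSpace r k).Modules,
      PicF.cl M = Groth.Agent.Synt29.PnEuler.hodge r k p d → PicF.cl M' = Groth.Agent.Synt29.PnEuler.hodge r k (r - p) (-d) →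
      Module.finrank k (Coh.HH (CohB1.ProjSpace r k) M q) = Module.finrank k (Coh.HH (CohB1.ProjSpace r k) M' (r - q)) := by
    intro p q hp hq d hd M M' hM hM'
    obtain ⟨m, rfl⟩ : ∃ m : ℕ, d = m := ⟨d.toNat, by omega⟩
    by_cases hc : q = 0 ∧ p < m
    · obtain ⟨rfl, hpm⟩ := hc
      rw [Nat.sub_zero, Groth.Agent.Synt29.PnBott.h0 r k m p hp hpm M hM, Groth.Agent.Synt29.PnBott.hn r k m (by omega) p hp hpm M' hM']
    · haveI := Groth.Agent.Synt29.PnHodge.vanish_pos r k m hd (r + 1) p q (by omega) (fun h => by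
        by_contra hlt; exact hc ⟨h, by omega⟩) M hM
      haveI := Groth.Agent.Synt29.PnHodge.vanish_nonpos r k (-(m : ℤ)) (by omega) (r - p) (r - q) (fun h => by
        by_contra hlt; exact hc ⟨by omega, by omega⟩) (fun h => by omega) M' hM'
      rw [Module.finrank_zero_of_subsingleton, Module.finrank_zero_of_subsingleton]
  have hM := Groth.Agent.Synt29.PnEuler.cl_eq_hodge r k hL d
  have hM' := Groth.Agent.Synt29.PnEuler.cl_eq_hodge r k hL' (-d)
  rcases lt_trichotomy d 0 with hd | rfl | hd
  · have h := main (r - p) (r - q) (by omega) (by omega) (-d) (by omega) _ _ hM'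
      (by rw [neg_neg, show r - (r - p) = p by omega]; exact hM)
    rw [show r - (r - q) = q by omega] at h
    exact h.symm
  · rw [neg_zero] at hM' ⊢
    by_cases hpq : p = q
    · subst hpq
      rcases Nat.eq_zero_or_pos r with rfl | hr
      · obtain rfl : p = 0 := by omega
        exact Groth.Agent.Synt29.PnBott.finrank_of_cl 0 k (hM.trans hM'.symm) 0
      · obtain ⟨e⟩ := Groth.Agent.Synt29.PnHodge.diag r k hr p hp _ hM
        obtain ⟨e'⟩ := Groth.Agent.Synt29.PnHodge.diag r k hr (r - p) (Nat.sub_le r p) _ hM'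
        rw [e.finrank_eq, e'.finrank_eq]
    · haveI := Groth.Agent.Synt29.PnHodge.vanish_nonpos r k 0 le_rfl p q (fun _ => by omega) (fun h => hpq h.2) _ hM
      haveI := Groth.Agent.Synt29.PnHodge.vanish_nonpos r k 0 le_rfl (r - p) (r - q) (fun _ => by omega)
        (fun h => hpq (by have := h.2; omega)) _ hM'
      rw [Module.finrank_zero_of_subsingleton, Module.finrank_zero_of_subsingleton]
  · exact main p q hp hq d hd _ _ hM hM'

end Groth.Agent.S10931
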