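import Groth.Statements.S10933
import Groth.Agent.ExtSelf.Basic

set_option autoImplicit false
universe u
open CategoryTheory
open CAlg

namespace Groth.Agent.S10933
open CategoryTheory


/-- Let A be a (Noetherian) regular local ring, M a finitely generated A-module and d a natural number.
Then the projective dimension of M equals d if and only if Ext^j_A(M, A) = 0 for every j > d and
Ext^d_A(M, A) ≠ 0. (Projective dimension valued in WithBot ℕ∞, the zero module having projective
dimension ⊥.) -/
theorem result (A : Type u) [CommRing A] [IsRegularLocalRing A]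
    (M : Type u) [AddCommGroup M] [Module A M] [Module.Finite A M] (d : ℕ) :
    projectiveDimension (ModuleCat.of A M) = (d : WithBot ℕ∞) ↔
      ((∀ j : ℕ, d < j → Subsingleton (Abelian.Ext (ModuleCat.of A M) (ModuleCat.of A A) j)) ∧
        Nontrivial (Abelian.Ext (ModuleCat.of A M) (ModuleCat.of A A) d)) := by
  obtain ⟨N, hN⟩ : ∃ N : ℕ, ringKrullDim A = N :=
    ⟨_, (IsRegularLocalRing.spanFinrank_maximalIdeal (R := A)).symm⟩
  have hge := projectiveDimension_ge_iff (ModuleCat.of A M) d
  have hle := projectiveDimension_le_iff (ModuleCat.of A M) d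
  constructor
  · intro h
    have hd : HasProjectiveDimensionLT (ModuleCat.of A M) (d + 1) := hle.1 h.le
    refine ⟨fun j hj => HasProjectiveDimensionLT.subsingleton (ModuleCat.of A M) (d + 1) j (by omega) _, ?_⟩
    by_contra hnt
    rw [not_nontrivial_iff_subsingleton] at hnt
    refine hge.1 h.ge ?_
    cases d with
    | zero =>
      haveI := projective_iff_hasProjectiveDimensionLT_one.2 hd
      haveI : Module.Projective A M := (IsProjective.iff_projective (R := A) M).2 ‹_›
      haveI : Module.FinitePresentation A M := Module.finitePresentation_of_finite A M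
      haveI : Module.Free A M := Module.free_of_flat_of_isLocalRing
      refine (hasProjectiveDimensionLT_zero_iff_isZero _).2 (ModuleCat.isZero_iff_subsingleton.2 ?_)
      refine subsingleton_of_forall_eq 0 fun x => ?_
      let b := Module.Free.chooseBasis A M
      refine b.repr.injective (Finsupp.ext fun i => ?_)
      have := LinearMap.congr_fun (congrArg ModuleCat.Hom.hom ((Abelian.Ext.mk₀_bijective
        (ModuleCat.of A M) (ModuleCat.of A A)).1
        (@Subsingleton.elim _ hnt (Abelian.Ext.mk₀ (ModuleCat.ofHom (b.coord i))) (Abelian.Ext.mk₀ 0)))) x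
      simpa using this
    | succ m => exact Groth.Agent.ExtSelf.drop m M hd hnt
  · rintro ⟨h, hnt⟩
    refine le_antisymm (hle.2 (Groth.Agent.ExtSelf.pdLT_of_vanish M hN d fun j hj _ => h j hj)) (hge.2 fun hd => ?_)
    haveI := hnt
    exact not_subsingleton _ (HasProjectiveDimensionLT.subsingleton (ModuleCat.of A M) d d le_rfl (ModuleCat.of A A))


end Groth.Agent.S10933
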