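import Groth.Statements.S10935
import Groth.Agent.CurveCohLib.SubBundle
import Groth.Agent.AssPtX.FlatDvr17

set_option autoImplicit false
set_option backward.isDefEq.respectTransparency false
set_option backward.isDefEq.respectTransparency.types false
set_option linter.style.haveILetI false
universe u
open CategoryTheory CategoryTheory.Limits AlgebraicGeometry
open FlatMor

namespace Groth.Agent.S10935

/-- Let Y be an integral, regular (every local ring a regular local ring), one-dimensional scheme with
generic point η, X a Noetherian scheme and f : X → Y a morphism. Then f is flat if and only if every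
associated point x of X — a point such that the maximal ideal of O_{X,x} is an associated prime of
O_{X,x} — satisfies f(x) = η. -/
theorem result {X Y : Scheme.{u}} (f : X ⟶ Y)
    [IsIntegral Y] (hreg : ∀ y : Y, IsRegularLocalRing (Y.presheaf.stalk y))
    (hY : topologicalKrullDim ↥Y = 1) [IsNoetherian X] :
    Flat f ↔ ∀ x : X, Curv2.IsAssPoint (Coh.structureModule X) x → f.base x = genericPoint ↥Y := by
  have hY' : ∀ y : Y, IsRegularLocalRing (Y.presheaf.stalk y) ∧ ringKrullDim (Y.presheaf.stalk y) ≤ 1 := fun y =>
    ⟨hreg y, (CurveCohLib.ringKrullDim_stalk_le_topologicalKrullDim y).trans hY.le⟩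
  constructor
  · intro hf x hx
    exact AssPtX.map_eq_genericPoint_of_flat
      (fun y => by haveI := hreg y; exact RegLoc6.isDomain_of_isRegularLocalRing _) f x hx
  · intro h
    refine AssPtX.flat_of_assPoints hY' f fun x hx => ?_
    rw [show f x = genericPoint Y from h x hx]
    exact Field.toIsField Y.functionField

end Groth.Agent.S10935
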