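import Groth.Statements.S10937
import Groth.Agent.SmoothCot.Scheme
import Groth.Agent.S5019
import Groth.Agent.S2768

set_option autoImplicit false
universe u
open CategoryTheory CategoryTheory.Limits AlgebraicGeometry
open Variety

namespace Groth.Agent.S10937

/-- (a)⇔(b): let k be an algebraically closed field, X and Y nonsingular varieties over k (integral,
separated, of finite type and smooth over k) with dim Y = dY and dim X = dY + n, and f : X → Y a
k-morphism. Then f is smooth of relative dimension n if and only if Ω_{X/Y} (the conormal sheaf of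
the diagonal of f) is locally free of rank n. -/
theorem result (k : Type u) [Field k] [IsAlgClosed k]
    {X Y : Scheme.{u}} (qX : X ⟶ Spec (CommRingCat.of k)) (qY : Y ⟶ Spec (CommRingCat.of k))
    [IsIntegral X] [IsSeparated qX] [LocallyOfFiniteType qX] [QuasiCompact qX] [Smooth qX]
    [IsIntegral Y] [IsSeparated qY] [LocallyOfFiniteType qY] [QuasiCompact qY] [Smooth qY]
    (f : X ⟶ Y) (hf : f ≫ qY = qX) (n dY : ℕ) (hY : topologicalKrullDim ↥Y = dY)
    (hX : topologicalKrullDim ↥X = ((dY + n : ℕ) : WithBot ℕ∞)) :
    SmoothOfRelativeDimension n f ↔ FlatMod.IsFinLocFreeOfRank n (Omega.sheaf f) := by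
  haveI : IsSeparated f := by
    haveI : IsSeparated (f ≫ qY) := hf ▸ inferInstance
    exact IsSeparated.of_comp f qY
  constructor
  · intro hs x
    haveI := hs
    haveI : Smooth f := SmoothOfRelativeDimension.smooth n f
    obtain ⟨U, m, hxU, hi, hdim⟩ :=
      S5019.result f (Omega.sheaf f) _ (OmegaUniv.isUniversal_dOmega f) x
    rw [S2768.result n f x] at hdim
    have hm : m = n := by exact_mod_cast hdim.symm
    exact ⟨U, hxU, hm ▸ hi⟩
  · intro h
    have hT : ∀ x : X, IsClosed ({x} : Set ↥X) →
        Function.Injective (FixPt.cotangentMapAt f x (f.base x) rfl) :=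
      fun x hx => SmoothCot.injective_of_omega qX qY f hf hX hY h hx
    have h' := SmoothCot.smoothOfRelativeDimension_of_injective qX qY f hf (dY + n) dY hX hY hT
    rwa [Nat.add_sub_cancel_left] at h'

end Groth.Agent.S10937
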