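import Groth.Statements.S10938
import Groth.Agent.TangentRank5.Basic

set_option autoImplicit false
universe u
open CategoryTheory CategoryTheory.Limits AlgebraicGeometry
open Variety

namespace Groth.Agent.S10938

open TopologicalSpace in
/-- A subspace covered by finitely many closed sets of dimension at most `r` has dimension at most `r`. -/
theorem topologicalKrullDim_le_of_cover {Y : Type u} [TopologicalSpace Y] {A : Set Y} {S : Set (Set Y)}
    (hS : S.Finite) (hc : ∀ C ∈ S, IsClosed C) (hA : A ⊆ ⋃₀ S) (r : ℕ)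
    (hdim : ∀ C ∈ S, topologicalKrullDim C ≤ r) : topologicalKrullDim A ≤ r := by
  refine iSup_le fun p => ?_
  let T : Set Y := Subtype.val '' (p.last.carrier)
  have hTi : IsIrreducible T := p.last.isIrreducible'.image _ continuous_subtype_val.continuousOn
  obtain ⟨C, hC, hTC⟩ := isIrreducible_iff_sUnion_isClosed.1 hTi hS.toFinset
    (fun C hC => hc C (hS.mem_toFinset.1 hC))
    (by rw [hS.coe_toFinset]; exact (Subtype.coe_image_subset A _).trans hA)
  rw [hS.mem_toFinset] at hC
  have hmem : ∀ i, ∀ a ∈ (p i).carrier, a.1 ∈ C := fun i a ha =>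
    hTC ⟨a, (show (p i).carrier ⊆ p.last.carrier from p.monotone (Fin.le_last i)) ha, rfl⟩
  let g : ∀ i, (p i).carrier → C := fun i a => ⟨a.1.1, hmem i a.1 a.2⟩
  have hg : ∀ i, Continuous (g i) := fun i => by fun_prop
  let q : Fin (p.length + 1) → IrreducibleCloseds C := fun i =>
    { carrier := closure (Set.range (g i))
      isIrreducible' := by
        haveI : IrreducibleSpace (p i).carrier := Subtype.irreducibleSpace (p i).isIrreducible'
        rw [← Set.image_univ]
        exact ((IrreducibleSpace.isIrreducible_univ _).image _ (hg i).continuousOn).closure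
      isClosed' := isClosed_closure }
  have hq : StrictMono q := fun i j hij => by
    have hlt : (p i).carrier ⊂ (p j).carrier := p.strictMono hij
    refine lt_of_le_of_ne (show (q i).carrier ⊆ (q j).carrier from closure_mono ?_) fun he => ?_
    · rintro _ ⟨a, rfl⟩
      exact ⟨⟨a.1, hlt.1 a.2⟩, rfl⟩
    obtain ⟨a, haj, hai⟩ := Set.not_subset.1 hlt.2
    refine hai ?_
    have h1 : g j ⟨a, haj⟩ ∈ closure (Set.range (g i)) :=
      (congrArg IrreducibleCloseds.carrier he).ge (subset_closure ⟨_, rfl⟩)
    rw [← (p i).isClosed'.closure_eq, closure_subtype]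
    rw [closure_subtype] at h1
    convert h1 using 2
    ext y
    simp only [Set.mem_image, Set.mem_range]
    constructor
    · rintro ⟨b, hb, rfl⟩; exact ⟨g i ⟨b, hb⟩, ⟨⟨b, hb⟩, rfl⟩, rfl⟩
    · rintro ⟨_, ⟨b, rfl⟩, rfl⟩; exact ⟨b.1, b.2, rfl⟩
  exact le_trans (le_iSup (fun p : LTSeries (IrreducibleCloseds C) => (p.length : WithBot ℕ∞))
    (LTSeries.mk p.length q hq)) (hdim C hC)

/-- Let k be an algebraically closed field of characteristic zero, X and Y schemes of finite type over
k, f : X → Y a k-morphism and r a natural number. Let X_r be the set of closed points x of X such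
that the tangent map T_x f : T_x X → T_{f(x)} Y has rank at most r — equivalently, the image of the
cotangent map m_{f(x)}/m_{f(x)}^2 → m_x/m_x^2 is contained in the span of at most r vectors over the
residue field. Then the closure of f(X_r) in Y has (topological Krull) dimension at most r. -/
theorem result (k : Type u) [Field k] [IsAlgClosed k] [CharZero k]
    {X Y : Scheme.{u}} (qX : X ⟶ Spec (CommRingCat.of k)) (qY : Y ⟶ Spec (CommRingCat.of k))
    [LocallyOfFiniteType qX] [QuasiCompact qX] [LocallyOfFiniteType qY] [QuasiCompact qY]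
    (f : X ⟶ Y) (hf : f ≫ qY = qX) (r : ℕ) :
    topologicalKrullDim ↥(closure (f.base '' {x : ↥X | IsClosed ({x} : Set ↥X) ∧
      ∃ S : Finset (IsLocalRing.CotangentSpace (X.presheaf.stalk x)), S.card ≤ r ∧
        (LinearMap.range (FixPt.cotangentMapAt f x (f.base x) rfl) : Set (IsLocalRing.CotangentSpace (X.presheaf.stalk x))) ⊆
          (Submodule.span (IsLocalRing.ResidueField (X.presheaf.stalk x))
            (S : Set (IsLocalRing.CotangentSpace (X.presheaf.stalk x))) : Set (IsLocalRing.CotangentSpace (X.presheaf.stalk x)))})) ≤ r := by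
  letI : X.Over (Spec (CommRingCat.of k)) := ⟨qX⟩
  letI : Y.Over (Spec (CommRingCat.of k)) := ⟨qY⟩
  haveI : LocallyOfFiniteType (X ↘ Spec (CommRingCat.of k)) := ‹LocallyOfFiniteType qX›
  haveI : LocallyOfFiniteType (Y ↘ Spec (CommRingCat.of k)) := ‹LocallyOfFiniteType qY›
  haveI : IsLocallyNoetherian X := LocallyOfFiniteType.isLocallyNoetherian qX
  haveI : CompactSpace X := QuasiCompact.compactSpace_of_compactSpace qX
  haveI : AlgebraicGeometry.IsNoetherian X := {}
  generalize hXr : {x : ↥X | IsClosed ({x} : Set ↥X) ∧ _} = Xr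
  suffices ∀ C : TopologicalSpace.Closeds X, topologicalKrullDim (closure (f.base '' ((C : Set X) ∩ Xr))) ≤ r by
    have h := this ⊤
    rwa [TopologicalSpace.Closeds.coe_top, Set.univ_inter] at h
  intro C
  induction C using WellFoundedLT.induction with
  | _ C IH =>
  rcases (C : Set X).eq_empty_or_nonempty with he | hne
  · rw [he, Set.empty_inter]
    exact topologicalKrullDim_le_of_cover (S := ∅) Set.finite_empty (by simp) (by simp) r (by simp)
  by_cases hden : closure ((C : Set X) ∩ Xr) = C
  swap
  · have hsub : closure ((C : Set X) ∩ Xr) ⊆ C := closure_minimal Set.inter_subset_left C.isClosed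
    refine le_of_eq_of_le ?_ (IH ⟨closure ((C : Set X) ∩ Xr), isClosed_closure⟩ (lt_of_le_of_ne hsub
      fun h => hden (congrArg SetLike.coe h)))
    have : (C : Set X) ∩ Xr = closure ((C : Set X) ∩ Xr) ∩ Xr :=
      Set.Subset.antisymm (fun x hx => ⟨subset_closure hx, hx.2⟩) (fun x hx => ⟨hsub hx.1, hx.2⟩)
    conv_lhs => rw [this]
    rfl
  by_cases hirr : IsIrreducible (C : Set X)
  swap
  · obtain ⟨s₁, s₂, hs₁, hs₂, hC, h₁, h₂⟩ : ∃ s₁ s₂ : Set X, IsClosed s₁ ∧ IsClosed s₂ ∧
        (C : Set X) ⊆ s₁ ∪ s₂ ∧ ¬ (C : Set X) ⊆ s₁ ∧ ¬ (C : Set X) ⊆ s₂ := by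
      by_contra hcon
      refine hirr ⟨hne, isPreirreducible_iff_isClosed_union_isClosed.2 fun s₁ s₂ hs₁ hs₂ hC => ?_⟩
      by_contra hn
      push Not at hn
      exact hcon ⟨s₁, s₂, hs₁, hs₂, hC, hn.1, hn.2⟩
    refine topologicalKrullDim_le_of_cover (S := {closure (f.base '' ((C : Set X) ∩ s₁ ∩ Xr)),
      closure (f.base '' ((C : Set X) ∩ s₂ ∩ Xr))}) (Set.toFinite _) ?_ ?_ r ?_
    · rintro _ (rfl | rfl) <;> exact isClosed_closure
    · rw [Set.sUnion_pair, ← closure_union, ← Set.image_union]
      refine closure_mono (Set.image_mono fun x hx => ?_)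
      exact (hC hx.1).imp (fun h => ⟨⟨hx.1, h⟩, hx.2⟩) fun h => ⟨⟨hx.1, h⟩, hx.2⟩
    · rintro _ (rfl | rfl)
      · exact IH ⟨(C : Set X) ∩ s₁, C.isClosed.inter hs₁⟩ (lt_of_le_of_ne Set.inter_subset_left
          fun h => h₁ (Set.inter_eq_left.1 (congrArg SetLike.coe h)))
      · exact IH ⟨(C : Set X) ∩ s₂, C.isClosed.inter hs₂⟩ (lt_of_le_of_ne Set.inter_subset_left
          fun h => h₂ (Set.inter_eq_left.1 (congrArg SetLike.coe h)))
  let I := Scheme.IdealSheafData.vanishingIdeal C
  have hran : Set.range I.subschemeι = C := H23.RedSub.range_vanishingIdeal C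
  have e : I.subscheme ≃ₜ (C : Set X) := (I.subschemeι.isClosedEmbedding.isEmbedding.toHomeomorph).trans
    (Homeomorph.setCongr hran)
  haveI : IrreducibleSpace I.subscheme := by
    haveI := Subtype.irreducibleSpace hirr
    exact e.symm.surjective.irreducibleSpace e.symm.continuous
  haveI : AlgebraicGeometry.IsIntegral I.subscheme := isIntegral_of_irreducibleSpace_of_isReduced _
  have hcl : closure (f.base '' ((C : Set X) ∩ Xr)) = closure (Set.range (I.subschemeι ≫ f)) := by
    rw [← closure_image_closure f.continuous, hden]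
    rw [show Set.range (I.subschemeι ≫ f) = f.base '' (C : Set X) by rw [← hran, ← Set.range_comp]; rfl]
  rw [hcl]
  refine TangentRank5.dim_le_of_dense (k := k) f hf I.subschemeι (I.subschemeι ⁻¹' Xr) ?_ r fun w hw => ?_
  · rw [dense_iff_closure_eq,
      I.subschemeι.isClosedEmbedding.isEmbedding.isInducing.closure_eq_preimage_closure_image,
      Set.image_preimage_eq_range_inter, hran, hden, ← hran, Set.preimage_range]
  · have : I.subschemeι w ∈ Xr := hw
    rw [← hXr] at this
    exact this

end Groth.Agent.S10938
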