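import Groth.Statements.S9616
import Mathlib

set_option autoImplicit false
universe u
open CAlg

namespace Groth.Agent.S9616

/-- Let S be an ℕ-graded ring, p_1, …, p_r homogeneous prime ideals of S and I ⊆ S₊ a homogeneous ideal
not contained in any p_i. Then there is a homogeneous element x ∈ I of positive degree with x ∉ p_i
for all i. -/
theorem result {R S : Type u} [CommRing R] [CommRing S] [Algebra R S] (𝒜 : ℕ → Submodule R S) [GradedAlgebra 𝒜]
    {r : ℕ} (p : Fin r → HomogeneousIdeal 𝒜) (hp : ∀ i, (p i).toIdeal.IsPrime) (I : HomogeneousIdeal 𝒜) (hI : I ≤ HomogeneousIdeal.irrelevant 𝒜) (h : ∀ i, ¬ I ≤ p i) :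
    ∃ x : S, ∃ d : ℕ, 0 < d ∧ x ∈ 𝒜 d ∧ x ∈ I ∧ ∀ i, x ∉ p i := by
  classical
  have key : ∀ T : Finset (Fin r), (∀ i ∈ T, ∀ j ∈ T, p i ≤ p j → i = j) →
      ∃ x : S, ∃ d : ℕ, 0 < d ∧ x ∈ 𝒜 d ∧ x ∈ I ∧ ∀ i ∈ T, x ∉ p i := by
    intro T hT
    rcases T.eq_empty_or_nonempty with rfl | hne
    · exact ⟨0, 1, one_pos, zero_mem _, zero_mem _, by simp⟩
    have hz : ∀ i, ∃ (d : ℕ) (z : S), 0 < d ∧ z ∈ 𝒜 d ∧ z ∈ I ∧ z ∉ p i := by
      intro i
      obtain ⟨y, hy, hyp⟩ := SetLike.not_le_iff_exists.1 (h i)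
      rw [← DirectSum.sum_support_decompose 𝒜 y] at hyp
      by_contra! hc
      refine hyp (sum_mem fun j _ => ?_)
      rcases Nat.eq_zero_or_pos j with rfl | hj
      · have : (DirectSum.decompose 𝒜 y 0 : S) = 0 := by
          have := (HomogeneousIdeal.mem_irrelevant_iff 𝒜 y).1 (hI hy)
          rwa [GradedRing.proj_apply] at this
        rw [this]; exact zero_mem _
      · exact hc j _ hj (SetLike.coe_mem _) (I.isHomogeneous j hy)
    have hw : ∀ i j, ¬ p j ≤ p i → ∃ (d : ℕ) (w : S), w ∈ 𝒜 d ∧ w ∈ p j ∧ w ∉ p i := by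
      intro i j hij
      obtain ⟨y, hy, hyp⟩ := SetLike.not_le_iff_exists.1 hij
      rw [← DirectSum.sum_support_decompose 𝒜 y] at hyp
      by_contra! hc
      exact hyp (sum_mem fun k _ => hc k _ (SetLike.coe_mem _) ((p j).isHomogeneous k hy))
    have hxi : ∀ i ∈ T, ∃ (d : ℕ) (x : S), 0 < d ∧ x ∈ 𝒜 d ∧ x ∈ I ∧ x ∉ p i ∧ ∀ j ∈ T, j ≠ i → x ∈ p j := by
      intro i hi
      obtain ⟨d, z, hd, hz1, hz2, hz3⟩ := hz i
      have hw' : ∀ j ∈ T.erase i, ∃ (d : ℕ) (w : S), w ∈ 𝒜 d ∧ w ∈ p j ∧ w ∉ p i := fun j hj =>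
        hw i j fun hle => Finset.ne_of_mem_erase hj (hT j (Finset.mem_of_mem_erase hj) i hi hle)
      choose! dw w hw1 hw2 hw3 using hw'
      refine ⟨d + ∑ j ∈ T.erase i, dw j, z * ∏ j ∈ T.erase i, w j, by omega,
        SetLike.mul_mem_graded hz1 (SetLike.prod_mem_graded 𝒜 _ _ hw1), I.toIdeal.mul_mem_right _ hz2, ?_, ?_⟩
      · intro hmem
        rcases (hp i).mem_or_mem hmem with hc | hc
        · exact hz3 hc
        · obtain ⟨j, hj, hjp⟩ := ((hp i).prod_mem_iff).1 hc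
          exact hw3 j hj hjp
      · intro j hj hji
        exact (p j).toIdeal.mul_mem_left _ (Ideal.mem_of_dvd _
          (Finset.dvd_prod_of_mem w (Finset.mem_erase.2 ⟨hji, hj⟩)) (hw2 j (Finset.mem_erase.2 ⟨hji, hj⟩)))
    choose! d x hd hx1 hx2 hx3 hx4 using hxi
    let D := ∏ i ∈ T, d i
    have hD : 0 < D := Finset.prod_pos hd
    have hdiv : ∀ i ∈ T, D / d i * d i = D := fun i hi => Nat.div_mul_cancel (Finset.dvd_prod_of_mem d hi)
    have hk : ∀ i ∈ T, D / d i ≠ 0 := fun i hi h0 => by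
      have := hdiv i hi; rw [h0, zero_mul] at this; omega
    refine ⟨∑ i ∈ T, x i ^ (D / d i), D, hD, sum_mem fun i hi => ?_, ?_, fun i hi hc => ?_⟩
    · have := SetLike.pow_mem_graded (D / d i) (hx1 i hi)
      rwa [smul_eq_mul, hdiv i hi] at this
    · show _ ∈ I.toIdeal
      exact sum_mem fun i hi => Ideal.pow_mem_of_mem _ (hx2 i hi) _ (Nat.pos_of_ne_zero (hk i hi))
    · have hrest : ∑ j ∈ T.erase i, x j ^ (D / d j) ∈ (p i).toIdeal := sum_mem fun j hj =>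
        Ideal.pow_mem_of_mem _ (hx4 j (Finset.mem_of_mem_erase hj) i hi (Finset.ne_of_mem_erase hj).symm) _
          (Nat.pos_of_ne_zero (hk j (Finset.mem_of_mem_erase hj)))
      have hsum := Finset.add_sum_erase T (fun j => x j ^ (D / d j)) hi
      have : x i ^ (D / d i) ∈ (p i).toIdeal := by
        have hc' : ∑ j ∈ T, x j ^ (D / d j) ∈ (p i).toIdeal := hc
        rw [← hsum] at hc'
        exact ((p i).toIdeal.add_mem_iff_left hrest).1 hc'
      exact hx3 i hi ((hp i).mem_of_pow_mem _ this)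
  let T := Finset.univ.filter fun i : Fin r => ∀ j, p i ≤ p j → p j ≤ p i ∧ i ≤ j
  obtain ⟨x, d, hd, hxd, hxI, hx⟩ := key T fun i hi j hj hij => by
    obtain ⟨h1, h2⟩ := (Finset.mem_filter.1 hi).2 j hij
    exact le_antisymm h2 ((Finset.mem_filter.1 hj).2 i h1).2
  refine ⟨x, d, hd, hxd, hxI, fun i hxi => ?_⟩
  obtain ⟨q, hiq, hq⟩ := (Set.finite_range p).exists_le_maximal (Set.mem_range_self i)
  obtain ⟨j0, hj0⟩ := hq.1
  have hne : ((Finset.univ : Finset (Fin r)).filter fun j => p j = q).Nonempty :=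
    ⟨j0, Finset.mem_filter.2 ⟨Finset.mem_univ _, hj0⟩⟩
  obtain ⟨j, hj, hjmin⟩ := Finset.exists_min_image _ id hne
  have hjq : p j = q := (Finset.mem_filter.1 hj).2
  refine hx j (Finset.mem_filter.2 ⟨Finset.mem_univ _, fun l hl => ?_⟩) (hjq ▸ hiq hxi)
  have hle : p l ≤ q := hq.2 ⟨l, rfl⟩ (hjq ▸ hl)
  exact ⟨hjq ▸ hle, hjmin l (Finset.mem_filter.2 ⟨Finset.mem_univ _, le_antisymm hle (hjq ▸ hl)⟩)⟩


end Groth.Agent.S9616
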