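import Groth.Statements.S10939
import Groth.Agent.Proj16.Points
import Groth.Agent.S9616

set_option autoImplicit false
universe u
open CategoryTheory CategoryTheory.Limits AlgebraicGeometry
open Variety

namespace Groth.Agent.S10939

set_option backward.isDefEq.respectTransparency false
set_option backward.isDefEq.respectTransparency.types false

/-- The basic open of a polynomial in projective space. -/
noncomputable def DD {k : Type u} [Field k] {n : ℕ} (h : MvPolynomial (Fin (n + 1)) k) : (CohB1.ProjSpace n k).Opens :=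
  Proj.basicOpen (CohB1.polyGrading n k) h

/-- A homogeneous polynomial of positive degree vanishing on a closed set but at none of finitely many points outside. -/
theorem exists_avoid {k : Type u} [Field k] {n : ℕ} (C : Set (CohB1.ProjSpace n k)) (hC : IsClosed C)
    (M : Set (CohB1.ProjSpace n k)) (hM : M.Finite) (hMC : ∀ p ∈ M, p ∉ C) :
    ∃ (h : MvPolynomial (Fin (n + 1)) k) (d : ℕ), 0 < d ∧ h.IsHomogeneous d ∧
      C ⊆ (DD h : Set (CohB1.ProjSpace n k))ᶜ ∧
      M ⊆ (DD h : Set (CohB1.ProjSpace n k)) := by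
  haveI := hM.to_subtype
  obtain ⟨m, ⟨e⟩⟩ := Finite.exists_equiv_fin M
  let C' : Set (ProjectiveSpectrum (CohB1.polyGrading n k)) := C
  let p : Fin m → ProjectiveSpectrum (CohB1.polyGrading n k) := fun i => (e.symm i).1
  let I : HomogeneousIdeal (CohB1.polyGrading n k) :=
    HomogeneousIdeal.irrelevant _ ⊓ ProjectiveSpectrum.vanishingIdeal C'
  have hnot : ∀ i, ¬ I ≤ (p i).asHomogeneousIdeal := by
    intro i hle
    haveI := (p i).isPrime
    have hle' : (HomogeneousIdeal.irrelevant (CohB1.polyGrading n k)).toIdeal ⊓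
        (ProjectiveSpectrum.vanishingIdeal C').toIdeal ≤ (p i).asHomogeneousIdeal.toIdeal := hle
    rcases (Ideal.IsPrime.inf_le (p i).isPrime).1 hle' with h | h
    · exact (p i).not_irrelevant_le h
    · have h2 : p i ∈ ProjectiveSpectrum.zeroLocus (CohB1.polyGrading n k) (ProjectiveSpectrum.vanishingIdeal C' : Set _) := h
      rw [ProjectiveSpectrum.zeroLocus_vanishingIdeal_eq_closure] at h2
      exact hMC _ (e.symm i).2 ((IsClosed.closure_eq (s := C') hC) ▸ h2 : p i ∈ C')
  obtain ⟨x, d, hd, hx, hxI, hxp⟩ := S9616.result (CohB1.polyGrading n k) (fun i => (p i).asHomogeneousIdeal)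
    (fun i => (p i).isPrime) I inf_le_left hnot
  refine ⟨x, d, hd, hx, fun y hy hy' => ?_, fun y hy => ?_⟩
  · exact hy' ((ProjectiveSpectrum.mem_vanishingIdeal C' x).1 ((inf_le_right : I ≤ _) hxI) y hy)
  · have := hxp (e ⟨y, hy⟩)
    simp only [p, Equiv.symm_apply_apply] at this
    exact this

/-- Let k be a field, P = P^n_k = Proj k[x_0, …, x_n], and i_X : X → P, i_Y : Y → P closed immersions
with X of dimension r. Then there are homogeneous polynomials h_1, …, h_{r+1} of positive degree,
with basic opens D_j = D_+(h_j) and hypersurfaces H_j = P ∖ D_j, such that every H_j contains Y and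
X ∖ Y = ⋃_j (X ∖ H_j), i.e. every point of X outside Y lies in some D_j; moreover each X ∖ H_j = X ∩
D_j is affine. (The published statement takes X and Y reduced; the assertion only concerns the
underlying closed sets.) -/
theorem result (k : Type u) [Field k] (n r : ℕ)
    {X Y : Scheme.{u}} (iX : X ⟶ CohB1.ProjSpace n k) (iY : Y ⟶ CohB1.ProjSpace n k)
    [IsClosedImmersion iX] [IsClosedImmersion iY] (hX : topologicalKrullDim ↥X = r) :
    ∃ (h : Fin (r + 1) → MvPolynomial (Fin (n + 1)) k) (D : Fin (r + 1) → (CohB1.ProjSpace n k).Opens),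
      (∀ j, D j = Proj.basicOpen (CohB1.polyGrading n k) (h j)) ∧
      (∀ j, ∃ d : ℕ, 0 < d ∧ (h j).IsHomogeneous d) ∧
      (∀ j, Set.range iY.base ⊆ (D j : Set ↥(CohB1.ProjSpace n k))ᶜ) ∧
      (Set.range iX.base \ Set.range iY.base ⊆ ⋃ j, (D j : Set ↥(CohB1.ProjSpace n k))) ∧
      ∀ j, IsAffineOpen (iX ⁻¹ᵁ (D j)) := by
  haveI hP : AlgebraicGeometry.IsNoetherian (CohB1.ProjSpace n k) := Proj16.isNoetherian_proj _
  haveI : TopologicalSpace.NoetherianSpace X := iX.isClosedEmbedding.isInducing.noetherianSpace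
  let C : Set (CohB1.ProjSpace n k) := Set.range iY.base
  have hC : IsClosed C := iY.isClosedEmbedding.isClosed_range
  let cl : X → TopologicalSpace.IrreducibleCloseds X := fun x =>
    ⟨closure {x}, isIrreducible_singleton.closure, isClosed_closure⟩
  -- after `j` steps the points left over have `j` strict generalisations
  have main : ∀ j : ℕ, ∃ (h : Fin j → MvPolynomial (Fin (n + 1)) k),
      (∀ i, ∃ d : ℕ, 0 < d ∧ (h i).IsHomogeneous d) ∧
      (∀ i, C ⊆ (DD (h i) : Set (CohB1.ProjSpace n k))ᶜ) ∧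
      ∀ x : X, iX x ∉ C → (∀ i, iX x ∉ DD (h i)) →
        ∃ p : LTSeries (TopologicalSpace.IrreducibleCloseds X), p.length = j ∧ p.head = cl x := by
    intro j
    induction j with
    | zero => exact ⟨Fin.elim0, fun i => i.elim0, fun i => i.elim0, fun x _ _ => ⟨RelSeries.singleton _ (cl x), rfl, rfl⟩⟩
    | succ j ih =>
      obtain ⟨h, hdeg, hvan, hchain⟩ := ih
      let Cl : Set X := ⋂ i, iX ⁻¹' (DD (h i) : Set (CohB1.ProjSpace n k))ᶜ
      have hCl : IsClosed Cl := isClosed_iInter fun i => (TopologicalSpace.Opens.isOpen _).isClosed_compl.preimage iX.continuous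
      obtain ⟨S, hS, hScl, hSirr, hSU⟩ := TopologicalSpace.NoetherianSpace.exists_finite_set_isClosed_irreducible hCl
      haveI := hS.to_subtype
      let gen : S → X := fun t => IsIrreducible.genericPoint (hSirr t.1 t.2)
      have hgen : ∀ t : S, closure {gen t} = t.1 := fun t => by
        exact IsIrreducible.isGenericPoint_genericPoint (hSirr t.1 t.2) (hScl t.1 t.2)
      let M : Set (CohB1.ProjSpace n k) := (fun t => iX (gen t)) '' {t : S | iX (gen t) ∉ C}
      obtain ⟨h₀, d, hd, hh₀, hh₀C, hh₀M⟩ := exists_avoid C hC M (Set.toFinite _) (by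
        rintro _ ⟨t, ht, rfl⟩; exact ht)
      refine ⟨Fin.cons h₀ h, Fin.cases ⟨d, hd, by simpa using hh₀⟩ (by simpa using hdeg),
        Fin.cases (by simpa using hh₀C) (by simpa using hvan), fun x hxC hx => ?_⟩
      have hxCl : x ∈ Cl := Set.mem_iInter.2 fun i => by simpa using hx i.succ
      obtain ⟨t, ht, hxt⟩ := Set.mem_sUnion.1 (hSU ▸ hxCl)
      have hsp : gen ⟨t, ht⟩ ⤳ x := specializes_iff_mem_closure.2 ((hgen ⟨t, ht⟩).symm ▸ hxt)
      have hgC : iX (gen ⟨t, ht⟩) ∉ C := fun hg => hxC ((hsp.map iX.continuous).mem_closed hC hg)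
      have hgCl : gen ⟨t, ht⟩ ∈ Cl := by
        rw [hSU]
        exact Set.mem_sUnion.2 ⟨t, ht, (hgen ⟨t, ht⟩).le (subset_closure rfl)⟩
      obtain ⟨p, hp, hph⟩ := hchain _ hgC fun i => (Set.mem_iInter.1 hgCl i :)
      have hlt : cl x < p.head := by
        rw [hph]
        refine lt_of_le_of_ne (closure_minimal (Set.singleton_subset_iff.2 (specializes_iff_mem_closure.1 hsp))
          isClosed_closure) fun he => ?_
        have h1 : gen ⟨t, ht⟩ ∈ closure ({x} : Set X) :=
          (congrArg (fun c => (c.carrier : Set X)) he).ge (subset_closure rfl)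
        have h2 : x = gen ⟨t, ht⟩ := ((specializes_iff_mem_closure.2 h1).antisymm hsp).eq
        exact (by simpa using hx 0 : iX x ∉ DD h₀)
          (h2 ▸ hh₀M ⟨⟨t, ht⟩, hgC, rfl⟩)
      exact ⟨p.cons (cl x) hlt, by rw [RelSeries.cons_length, hp], RelSeries.head_cons _ _ _⟩
  obtain ⟨h, hdeg, hvan, hchain⟩ := main (r + 1)
  refine ⟨h, fun j => Proj.basicOpen (CohB1.polyGrading n k) (h j), fun _ => rfl, hdeg, hvan, ?_, fun j => ?_⟩
  · rintro _ ⟨⟨x, rfl⟩, hxC⟩
    by_contra hx
    simp only [Set.mem_iUnion, not_exists] at hx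
    obtain ⟨p, hp, -⟩ := hchain x hxC hx
    have h1 : (p.length : WithBot ℕ∞) ≤ topologicalKrullDim X :=
      le_iSup (fun q : LTSeries (TopologicalSpace.IrreducibleCloseds X) => (q.length : WithBot ℕ∞)) p
    rw [hp, hX] at h1
    have : r + 1 ≤ r := by exact_mod_cast h1
    omega
  · obtain ⟨d, hd, hj⟩ := hdeg j
    exact (Proj.isAffineOpen_basicOpen (CohB1.polyGrading n k) (h j) hj hd).preimage iX

end Groth.Agent.S10939
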