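import Groth.Statements.S10940
import Groth.Agent.AffCov7.Main
-- import your own Groth.Agent.* helpers here

set_option autoImplicit false
universe u
open CategoryTheory CategoryTheory.Limits AlgebraicGeometry
open Variety

namespace Groth.Agent.S10940

/-- Let k be a field and X a quasi-projective variety over k of dimension r: an integral scheme with an
immersion j : X → P^n_k. Then X admits a cover by r + 1 affine open subschemes. (Consequently the
cohomology of every quasi-coherent O_X-module vanishes above degree r; that consequence is the
general vanishing above the number of affines in a cover and is not restated here. The published
statement is for varieties over an algebraically closed field; the argument, r + 1 hypersurfaces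
through the boundary of the closure of X, works over any field, so k is an arbitrary field here.) -/
theorem result (k : Type u) [Field k] (n r : ℕ)
    {X : Scheme.{u}} (j : X ⟶ CohB1.ProjSpace n k) [IsImmersion j] [IsIntegral X]
    (hX : topologicalKrullDim ↥X = r) :
    ∃ U : Fin (r + 1) → X.Opens, (∀ i, IsAffineOpen (U i)) ∧ ⨆ i, U i = ⊤ := by
  exact Groth.Agent.AffCov7.exists_cover_of_immersion j r hX.le

end Groth.Agent.S10940
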