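import Groth.Statements.S10942
import Groth.Agent.KFlatLib.Scheme.AffineSections
import Groth.Agent.KFlatLib.Scheme.Pullback
import Groth.Agent.KFlatLib.Scheme.Tensor

set_option autoImplicit false
universe u
open CategoryTheory AlgebraicGeometry Opposite
open Coherent

namespace Groth.Agent.S10942
namespace Aux
open CategoryTheory CategoryTheory.Limits AlgebraicGeometry Opposite MonoidalCategory
open Groth.Agent
set_option backward.isDefEq.respectTransparency false
set_option backward.isDefEq.respectTransparency.types false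

variable {X : Scheme.{u}} {U V : X.Opens}

theorem image_le (h : U ≤ V) : U.ι ''ᵁ ⊤ ≤ V.ι ''ᵁ ⊤ := by rwa [U.ι_image_top, V.ι_image_top]

/-- The inclusion of extensions by zero. -/
noncomputable def incl (h : U ≤ V) : KFlatLib.secObj U ⟶ KFlatLib.secObj V :=
  (KFlatLib.secEquiv U (KFlatLib.secObj V)).symm
    ((KFlatLib.secObj V).presheaf.map (homOfLE (image_le h)).op (KFlatLib.secEquiv V _ (𝟙 _)))

theorem secEquiv_incl (h : U ≤ V) {M : X.Modules} (g : KFlatLib.secObj V ⟶ M) :
    KFlatLib.secEquiv U M (incl h ≫ g) = M.presheaf.map (homOfLE (image_le h)).op (KFlatLib.secEquiv V M g) := by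
  rw [KFlatLib.secEquiv_naturality, incl, Equiv.apply_symm_apply]
  have h2 := KFlatLib.secEquiv_naturality V (𝟙 (KFlatLib.secObj V)) g
  rw [Category.id_comp] at h2
  rw [h2]
  exact NatTrans.naturality_apply g.mapPresheaf (homOfLE (image_le h)).op _

theorem isSplitMono_stalk_incl (h : U ≤ V) (x : X) : IsSplitMono ((DerSch.stalkFunctor X x).map (incl h)) := by
  classical
  let P : ModuleCat.{u} (X.presheaf.stalk x) := (DerSch.stalkFunctor X x).obj (KFlatLib.secObj U)
  let t : ∀ _ : PLift (x ∈ U.ι ''ᵁ ⊤), (P : Type u) :=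
    show ∀ _ : PLift (x ∈ U.ι ''ᵁ ⊤), (P : Type u) from
      KFlatLib.secEquiv U _ ((KFlatLib.skyAdj x).homEquiv _ _ (𝟙 P))
  let s : Γ((KFlatLib.sky x).obj P, V.ι ''ᵁ ⊤) :=
    show ∀ _ : PLift (x ∈ V.ι ''ᵁ ⊤), (P : Type u) from fun _ => if hx : x ∈ U.ι ''ᵁ ⊤ then t ⟨hx⟩ else 0
  refine IsSplitMono.mk' ⟨((KFlatLib.skyAdj x).homEquiv _ _).symm ((KFlatLib.secEquiv V _).symm s), ?_⟩
  apply ((KFlatLib.skyAdj x).homEquiv _ _).injective
  rw [Adjunction.homEquiv_naturality_left, Equiv.apply_symm_apply]
  apply (KFlatLib.secEquiv U _).injective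
  rw [secEquiv_incl, Equiv.apply_symm_apply]
  exact funext fun hx => dif_pos hx.down

theorem mono_tensor_incl (F : X.Modules) (h : U ≤ V) : Mono ((DCoh.tensorBi.obj F).map (incl h)) := by
  let S := ShortComplex.mk (0 : KFlatLib.secObj U ⟶ (DCoh.tensorBi.obj F).obj (KFlatLib.secObj U))
    ((DCoh.tensorBi.obj F).map (incl h)) zero_comp
  refine (ShortComplex.exact_iff_mono S rfl).1 ((KFlatLib.exact_iff_stalk S).2 fun x => ?_)
  obtain ⟨⟨r, hr⟩⟩ := (isSplitMono_stalk_incl h x).exists_splitMono
  let T := tensorLeft ((DerSch.stalkFunctor X x).obj F)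
  let e := KFlatLib.stalkTensorLeftIso F x
  haveI hm : Mono (T.map ((DerSch.stalkFunctor X x).map (incl h))) :=
    (SplitMono.mono ⟨T.map r, by rw [← T.map_comp, hr, T.map_id]⟩)
  haveI : Mono (S.map (DerSch.stalkFunctor X x)).g := by
    show Mono ((DCoh.tensorBi.obj F ⋙ DerSch.stalkFunctor X x).map (incl h))
    rw [← NatIso.naturality_2 e (incl h)]
    exact inferInstanceAs (Mono (e.hom.app _ ≫ T.map ((DerSch.stalkFunctor X x).map (incl h)) ≫ e.inv.app _))
  exact (ShortComplex.exact_iff_mono _ (by simp [S])).2 inferInstance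

theorem surjective_res_image (F I : X.Modules) [DCoh.HasSheafHom F] (hI : Injective I) (h : U ≤ V)
    {U' V' : X.Opens} (hU : U' = U.ι ''ᵁ ⊤) (hV : V' = V.ι ''ᵁ ⊤) (h' : U' ≤ V') :
    Function.Surjective (((DCoh.sheafHom F).obj I).val.map (homOfLE h').op).hom := by
  subst hU hV
  intro s
  haveI := mono_tensor_incl F h
  haveI := hI
  let a := (KFlatLib.secEquiv U _).symm (show Γ((DCoh.sheafHom F).obj I, U.ι ''ᵁ ⊤) from s)
  let b := (DCoh.sheafHomAdj F).homEquiv _ _
    (Injective.factorThru (((DCoh.sheafHomAdj F).homEquiv _ _).symm a) ((DCoh.tensorBi.obj F).map (incl h)))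
  refine ⟨KFlatLib.secEquiv V _ b, ?_⟩
  have hb : incl h ≫ b = a := by
    rw [← Adjunction.homEquiv_naturality_left, Injective.comp_factorThru, Equiv.apply_symm_apply]
  have h2 := secEquiv_incl h b
  rw [hb, Equiv.apply_symm_apply] at h2
  exact h2.symm

theorem surjective_res (F I : X.Modules) [DCoh.HasSheafHom F] (hI : Injective I) (U V : X.Opens) (hUV : U ≤ V) :
    Function.Surjective (((DCoh.sheafHom F).obj I).val.map (homOfLE hUV).op).hom :=
  surjective_res_image F I hI hUV U.ι_image_top.symm V.ι_image_top.symm hUV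

end Aux


/-- Let X be a scheme, F an O_X-module for which the internal Hom functor Hom(F, -) exists (as the right
adjoint of F ⊗ -; always true) and I an injective object of the category of O_X-modules. Then the
O_X-module Hom(F, I) is flasque: for all opens U ⊆ V of X the restriction map Hom(F, I)(V) → Hom(F,
I)(U) is surjective. -/
theorem result (X : Scheme.{u}) (F I : X.Modules)
    [DCoh.HasSheafHom F] (hI : Injective I) (U V : X.Opens) (hUV : U ≤ V) :
    Function.Surjective (((DCoh.sheafHom F).obj I).val.map (homOfLE hUV).op).hom := by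

    exact Aux.surjective_res F I hI U V hUV

end Groth.Agent.S10942
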