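import Groth.Statements.S10944
import Groth.Agent.SmallFlat.Comps

set_option autoImplicit false
universe u
open CategoryTheory AlgebraicGeometry
open FlatMor

namespace Groth.Agent.S10944

/-- Let f : X → Y be a flat morphism of Noetherian schemes and Y' an irreducible component of Y. Then
f⁻¹(Y') is the union of the irreducible components Z of X with f(Z) ⊆ Y'. -/
theorem result {X Y : Scheme.{u}}
    [IsNoetherian X] [IsNoetherian Y] (f : X ⟶ Y) [Flat f]
    (Y' : Set ↥Y) (hY' : Y' ∈ irreducibleComponents ↥Y) :
    f.base ⁻¹' Y' = ⋃₀ {Z : Set ↥X | Z ∈ irreducibleComponents ↥X ∧ f.base '' Z ⊆ Y'} := by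
  exact Groth.Agent.SmallFlat.preimage_component f Y' hY'

end Groth.Agent.S10944
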