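import Groth.Statements.S10947
import Groth.Agent.H28.PushFil
import Groth.Agent.QuotFunLib.ExtFinite
import Groth.Agent.PnCoh.Finite.SerreVanishing
import Groth.Agent.Lib.SupportVanish
import Groth.Agent.Pic13Lib.SectBound
import Groth.Agent.QCoh.Support

set_option autoImplicit false
universe u
open CategoryTheory AlgebraicGeometry
open Coherent

namespace Groth.Agent.S10947

/-- Let k be a field and X a quasi-projective scheme over k, given with an immersion ι : X → P^N_k into
a projective space. If n is a natural number with H^i(X, E) = 0 for all finite locally free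
O_X-modules E and all i > n, then H^i(X, F) = 0 for all coherent O_X-modules F (quasi-coherent of
finite type) and all i > n. -/
theorem result
    (k : Type u) [Field k] (N : ℕ) {X : Scheme.{u}} (ι : X ⟶ CohB1.ProjSpace N k) [IsImmersion ι]
    (n : ℕ) (h : ∀ E : X.Modules, FlatMod.IsFinLocFree E → ∀ i : ℕ, n < i → Subsingleton (Coh.HH X E i))
    (F : X.Modules) (hF : Coh.IsCoh F) (i : ℕ) (hi : n < i) :
    Subsingleton (Coh.HH X F i) := by
  haveI hproper : IsProper (CohB1.ProjSpace.toSpec N k) := PnCoh.Chow.isProper_toSpec N k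
  haveI : IsLocallyNoetherian (CohB1.ProjSpace N k) :=
    LocallyOfFiniteType.isLocallyNoetherian (CohB1.ProjSpace.toSpec N k)
  haveI : CompactSpace (CohB1.ProjSpace N k) :=
    QuasiCompact.compactSpace_of_compactSpace (CohB1.ProjSpace.toSpec N k)
  haveI : IsNoetherian (CohB1.ProjSpace N k) := {}
  haveI : (CohB1.ProjSpace N k).IsSeparated := ⟨by
    rw [show Limits.terminal.from (CohB1.ProjSpace N k) = CohB1.ProjSpace.toSpec N k ≫ Limits.terminal.from _ from
      Limits.terminal.hom_ext _ _]
    infer_instance⟩
  haveI : LocallyOfFiniteType ι := inferInstance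
  haveI : IsLocallyNoetherian X := LocallyOfFiniteType.isLocallyNoetherian ι
  haveI : CompactSpace X := by
    have h1 : IsCompact (Set.univ : Set X) := by
      rw [ι.isEmbedding.isInducing.isCompact_iff, Set.image_univ]
      exact TopologicalSpace.NoetherianSpace.isCompact _
    exact ⟨h1⟩
  haveI : IsNoetherian X := {}
  haveI : X.IsSeparated := ⟨by
    rw [show Limits.terminal.from X = ι ≫ Limits.terminal.from _ from Limits.terminal.hom_ext _ _]
    infer_instance⟩
  have hA := H28.PushFil.isAmple_immersion ι (Pic13Lib.NumTriv.isAmple_twistProjSpace_one (k := k) (n := N))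
  have hE := QuotFunLib.ExtFinite.hasEnoughLocFree_of_ample hA
  obtain ⟨s, hs, hsu⟩ := isCompact_iff_finite_and_eq_biUnion_affineOpens.mp
    (show IsCompact ((⊤ : X.Opens) : Set X) from isCompact_univ)
  haveI := hs.fintype
  let U : Fin (Fintype.card s) → X.Opens := fun j => ((Fintype.equivFin s).symm j).1.1
  have hU : ∀ j, IsAffineOpen (U j) := fun j => ((Fintype.equivFin s).symm j).1.2
  have hcov : (⊤ : X.Opens) = ⨆ j, U j := by
    refine le_antisymm ?_ le_top
    rw [hsu]
    exact iSup₂_le fun V hV => le_of_eq_of_le (by simp [U]) (le_iSup U (Fintype.equivFin s ⟨V, hV⟩))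
  have hbig : ∀ G : X.Modules, Coh.IsCoh G → ∀ q, Fintype.card s + 1 ≤ q → Subsingleton (Coh.HH X G q) := by
    intro G hG q hq
    refine QCoh.Ab.subsingleton_H_of_HU_top (X := X.toPresheafedSpace.carrier) (QCoh.abSheaf G) q ?_
    rw [hcov]
    exact QCoh.subsingleton_HU_iSup hG.1 IsAffineOpen (fun _ h => h) (fun V W hV hW => hV.inf hW)
      _ U hU q (by omega)
  suffices H : ∀ (d : ℕ) (G : X.Modules), Coh.IsCoh G → ∀ i, n < i → Fintype.card s + 1 ≤ i + d →
      Subsingleton (Coh.HH X G i) from H (Fintype.card s + 1) F hF i hi (by omega)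
  intro d
  induction d with
  | zero => exact fun G hG i _ hle => hbig G hG i (by omega)
  | succ d ih =>
    intro G hG i hni hle
    obtain ⟨E, π, hEf, hπ⟩ := hE G hG
    have hK : Coh.IsCoh (Limits.kernel π) := QCoh.isCoh_kernel (H28.PushLocFree.isCoh_of_isFinLocFree hEf) hG π
    have hS : (CategoryTheory.ShortComplex.mk (Limits.kernel.ι π) π (Limits.kernel.condition π)).ShortExact :=
      { exact := CategoryTheory.ShortComplex.exact_kernel π }
    exact PnCoh.Finite.subsingleton_HH_X₃ hS i (h E hEf i hni) (ih _ hK (i + 1) (by omega) (by omega))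

end Groth.Agent.S10947
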