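import Groth.Statements.S10948
import Groth.Agent.H9Misc.GenPushFree

set_option autoImplicit false
set_option backward.isDefEq.respectTransparency false
set_option backward.isDefEq.respectTransparency.types false
set_option linter.style.haveILetI false
universe u
open CategoryTheory AlgebraicGeometry
open Coherent

namespace Groth.Agent.S10948

/-- Let f : X → Y be a finite surjective morphism of integral Noetherian schemes. Then there are an
integer r ≥ 1, a coherent O_X-module M (quasi-coherent of finite type) and a morphism of O_Y-modules
α : O_Y^r → f_*M (O_Y^r the free O_Y-module on r generators) such that the map induced by α on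
stalks of the underlying abelian sheaves at the generic point of Y is an isomorphism. -/
theorem result
    {X Y : Scheme.{u}} [IsIntegral X] [IsNoetherian X] [IsIntegral Y] [IsNoetherian Y]
    (f : X ⟶ Y) [IsFinite f] [Surjective f] :
    ∃ (r : ℕ) (M : X.Modules) (α : (SheafOfModules.free (ULift.{u} (Fin r)) : Y.Modules) ⟶
        (Scheme.Modules.pushforward f).obj M),
      0 < r ∧ Coh.IsCoh M ∧
      IsIso ((TopCat.Presheaf.stalkFunctor AddCommGrpCat.{u} (genericPoint ↥Y)).map
        ((SheafOfModules.toSheaf Y.ringCatSheaf).map α).hom) := by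
  obtain ⟨r, M, α, V, hr, hM, hV, hη, hb⟩ := Groth.Agent.H9Misc.GenPushFree.exists_free_to_push f
  let e := Groth.Agent.QCoh.freeModIso Y r
  refine ⟨r, M, e.inv ≫ α, hr, hM, ?_⟩
  have hA : Coh.IsQCoh (SheafOfModules.free (ULift.{u} (Fin r)) : Y.Modules) :=
    (Groth.Agent.QCoh.isQCoh_iff_iso e).1 (Groth.Agent.CurveDeg.isCoh_of_isFinLocFree
      (Groth.Agent.GenusOneSS.isFinLocFree_freeMod r)).1
  have hB := (Groth.Agent.QCoh.isCoh_pushforward_finite f hM).1
  have hb' : Function.Bijective ((e.inv ≫ α).app V) := by
    have h : Function.Bijective (e.inv.app V) := ConcreteCategory.bijective_of_isIso (e.inv.app V)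
    exact hb.comp h
  have h := Groth.Agent.H9Misc.GenPushFree.bijective_stalk hA hB (e.inv ≫ α) hV hb' hη
  refine (ConcreteCategory.isIso_iff_bijective _).2 ?_
  exact h

end Groth.Agent.S10948
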