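import Groth.Statements.S10949
import Groth.Agent.H9Misc.GenPushHom

set_option autoImplicit false
set_option backward.isDefEq.respectTransparency false
set_option backward.isDefEq.respectTransparency.types false
set_option linter.style.haveILetI false
universe u
open CategoryTheory CategoryTheory.Limits AlgebraicGeometry
open Coherent

namespace Groth.Agent.S10949

/-- Let f : X → Y be a finite surjective morphism of integral Noetherian schemes and F a coherent
O_Y-module (quasi-coherent of finite type). Then there are an integer r ≥ 1, a coherent O_X-module G
and a morphism of O_Y-modules β : f_*G → F^r (the coproduct of r copies of F) such that the map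
induced by β on stalks of the underlying abelian sheaves at the generic point of Y is an
isomorphism. -/
theorem result
    {X Y : Scheme.{u}} [IsIntegral X] [IsNoetherian X] [IsIntegral Y] [IsNoetherian Y]
    (f : X ⟶ Y) [IsFinite f] [Surjective f] (F : Y.Modules) (hF : Coh.IsCoh F) :
    ∃ (r : ℕ) (G : X.Modules) (β : (Scheme.Modules.pushforward f).obj G ⟶ ∐ fun _ : ULift.{u} (Fin r) => F),
      0 < r ∧ Coh.IsCoh G ∧
      IsIso ((TopCat.Presheaf.stalkFunctor AddCommGrpCat.{u} (genericPoint ↥Y)).map
        ((SheafOfModules.toSheaf Y.ringCatSheaf).map β).hom) := by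
  obtain ⟨r, G, β, hr, hG, hb⟩ := Groth.Agent.H9Misc.GenPushHom.exists_push_hom f F hF
  refine ⟨r, G, β, hr, hG, ?_⟩
  refine (ConcreteCategory.isIso_iff_bijective _).2 ?_
  have h := (ConcreteCategory.isIso_iff_bijective ((DerSch.stalkFunctor Y (genericPoint Y)).map β)).1 hb
  exact h

end Groth.Agent.S10949
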