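import Groth.Statements.S10951
import Groth.Agent.Lib.DualRange
import Groth.Agent.S10934

set_option autoImplicit false
set_option backward.isDefEq.respectTransparency false
set_option backward.isDefEq.respectTransparency.types false
set_option linter.style.haveILetI false
set_option linter.unusedSectionVars false
set_option maxHeartbeats 400000
universe u
open CategoryTheory AlgebraicGeometry
open ProjDual

namespace Groth.Agent.S10951

open CategoryTheory CategoryTheory.Limits AlgebraicGeometry

theorem hvan {k : Type u} [Field k] {N n : ℕ} {X : Scheme.{u}} (ι : X ⟶ CohB1.ProjSpace N k) [IsClosedImmersion ι]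
    (hn : topologicalKrullDim ↥X = n)
    (hCM : ∀ x : X, IsClosed ({x} : Set ↥X) →
      LocCoh.IsCohenMacaulayLocalRing (X.presheaf.stalk x) ∧ ringKrullDim (X.presheaf.stalk x) = n)
    (p : ℕ) (hp : p < n) :
    ∃ m₀ : ℤ, ∀ m : ℤ, m₀ ≤ m → Subsingleton (Coh.HH X (DualRange.tw ι (-m)) p) := by
  obtain ⟨q₀, hq⟩ := (S10934.result k N n ι hn).1 hCM (Coh.structureModule X)
    (H23.PullPush.isFinLocFree_of_isInvertible InvX.isInvertible_structureModule)
  refine ⟨q₀, fun m hm => ?_⟩
  have h := hq m.toNat (by omega) p hp
  rw [Int.toNat_of_nonneg (by omega)] at h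
  let w : CohB1.tensorMod (Coh.structureModule X) (DualRange.tw ι (-m)) ≅ DualRange.tw ι (-m) :=
    (H23.PicMul.comm _ (DualRange.tw ι (-m))).some ≪≫ KFlatLib.tensorUnitIso (DualRange.tw ι (-m))
  exact QCoh.subsingleton_HH_of_iso w p h

/-- (a)⇒(c): let k be a field and X a k-scheme with a closed immersion ι into P^N_k over k, of dimension
n, such that the local ring of X at every closed point is Cohen–Macaulay of Krull dimension n. Let
(ω, t) be a dualizing sheaf for X: ω a coherent O_X-module and t : H^n(X, ω) → k a k-linear map such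
that for every coherent F and every k-linear form ψ on H^n(X, F) there is exactly one φ : F → ω with
ψ = t ∘ H^n(φ). Then for every coherent O_X-module F and every i ≤ n, the group Ext^i(F, ω) in the
category of O_X-modules (the Ext instance is the stated hypothesis; it holds) vanishes if and only
if H^(n-i)(X, F) vanishes. (The published statement says the duality maps θ^i : Ext^i(F, ω) →
H^(n-i)(X, F)' are bijective; lacking the k-linear structure on these Ext groups, only the
equivalence of vanishing is stated.) -/
theorem result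
    (k : Type u) [Field k] (N n : ℕ) (X : Scheme.{u}) [X.Over (Spec (CommRingCat.of k))]
    (ι : X ⟶ CohB1.ProjSpace N k) [IsClosedImmersion ι]
    (hι : ι ≫ CohB1.ProjSpace.toSpec N k = X ↘ Spec (CommRingCat.of k))
    (hn : topologicalKrullDim ↥X = n)
    (hCM : ∀ x : X, IsClosed ({x} : Set ↥X) →
      LocCoh.IsCohenMacaulayLocalRing (X.presheaf.stalk x) ∧ ringKrullDim (X.presheaf.stalk x) = n)
    [HasExt.{u} X.Modules]
    (ω : X.Modules) (hω : Coh.IsCoh ω) (t : Coh.HH X ω n →ₗ[k] k)
    (hdual : ∀ F : X.Modules, Coh.IsCoh F → ∀ ψ : Coh.HH X F n →ₗ[k] k,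
        ∃! φ : F ⟶ ω, ∀ x : Coh.HH X F n,
          ψ x = t (Sheaf.H.map ((SheafOfModules.toSheaf X.ringCatSheaf).map φ) n x))
    (F : X.Modules) (hF : Coh.IsCoh F) (i : ℕ) (hi : i ≤ n) :
    Subsingleton (Abelian.Ext F ω i) ↔ Subsingleton (Coh.HH X F (n - i)) := by
  obtain ⟨e⟩ := DualRange.nonempty_equiv ι hω t hdual n (fun p hp _ => hvan ι hn hCM p hp) hF i hi hi
  rw [e.toEquiv.subsingleton_congr]
  exact Module.subsingleton_dual_iff k

end Groth.Agent.S10951
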