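import Groth.Statements.S10953
import Groth.Agent.H23.SepCrit

set_option autoImplicit false
universe u
open RedSep

namespace Groth.Agent.S10953

open AlgebraicGeometry CategoryTheory in
/-- For a morphism of schemes f : X → S to an affine scheme S such that any two points of X with the
same image in S lie in one common affine open subset of X, the morphism f is separated. -/
theorem result {X S : Scheme.{u}} [IsAffine S] (f : X ⟶ S)
    (h : ∀ x y : X, f x = f y → ∃ U : X.Opens, IsAffineOpen U ∧ x ∈ U ∧ y ∈ U) :
    IsSeparated f := by
  exact Groth.Agent.H23.SepCrit.isSeparated_of_pairs_affine f h

end Groth.Agent.S10953
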