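import Groth.Statements.S10955
import Groth.Agent.S2788
import Mathlib.RingTheory.Etale.Kaehler
import Mathlib.RingTheory.Smooth.Local
import Mathlib.RingTheory.LocalRing.Module
set_option autoImplicit false
universe u
open scoped TensorProduct
open Unram

namespace Groth.Agent.S10955

open KaehlerDifferential TensorProduct

theorem map_map {A B C L : Type u} [CommRing A] [CommRing B] [CommRing C] [CommRing L]
    [Algebra A B] [Algebra A C] [Algebra A L] [Algebra B C] [Algebra B L] [Algebra C L]
    [IsScalarTower A B C] [IsScalarTower A B L] [IsScalarTower A C L] [IsScalarTower B C L]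
    (ω : Ω[B⁄A]) : map A A C L (map A A B C ω) = map A A B L ω := by
  induction (show ω ∈ Submodule.span B (Set.range (D A B)) by rw [span_range_derivation]; trivial)
    using Submodule.span_induction with
  | mem x hx =>
    obtain ⟨b, rfl⟩ := hx
    rw [map_D, map_D, map_D, ← IsScalarTower.algebraMap_apply]
  | zero => simp
  | add x y _ _ hx hy => simp [hx, hy]
  | smul b x _ hx =>
    simp only [map_smul, LinearMap.map_smul_of_tower, hx]

/-- Changing the ring of the middle tensor product does not change injectivity of the fibre map. -/
theorem injective_iff {A B C L κ : Type u} [CommRing A] [CommRing B] [CommRing C] [CommRing L]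
    [CommRing κ] [Algebra A B] [Algebra A C] [Algebra A L] [Algebra B C] [Algebra B L] [Algebra C L]
    [Algebra B κ] [Algebra C κ] [Algebra L κ] [IsScalarTower B C κ] [IsScalarTower C L κ]
    [IsScalarTower B L κ] [IsScalarTower A B C] [IsScalarTower A B L] [IsScalarTower A C L]
    [IsScalarTower B C L] [Algebra.FormallyEtale C L] :
    Function.Injective ((mapBaseChange A B C).lTensor κ) ↔
      Function.Injective ((mapBaseChange A B L).lTensor κ) := by
  let a := (AlgebraTensorModule.cancelBaseChange B C κ κ Ω[B⁄A]).trans
    (AlgebraTensorModule.cancelBaseChange B L κ κ Ω[B⁄A]).symm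
  let b := (AlgebraTensorModule.cancelBaseChange C L κ κ Ω[C⁄A]).symm.trans
    (AlgebraTensorModule.congr (LinearEquiv.refl κ κ) (tensorKaehlerEquivOfFormallyEtale A C L))
  have key : ∀ x, b ((mapBaseChange A B C).lTensor κ x) = (mapBaseChange A B L).lTensor κ (a x) := by
    intro x
    induction x with
    | zero => simp
    | add x y hx hy => simp only [map_add, hx, hy]
    | tmul t y =>
      induction y with
      | zero => simp
      | add y z hy hz => simp only [tmul_add, map_add, hy, hz]
      | tmul c ω =>
        simp only [a, b, LinearMap.lTensor_tmul, mapBaseChange_tmul, LinearEquiv.trans_apply,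
          AlgebraTensorModule.cancelBaseChange_symm_tmul, AlgebraTensorModule.congr_tmul,
          LinearEquiv.refl_apply, AlgebraTensorModule.cancelBaseChange_tmul,
          tensorKaehlerEquivOfFormallyEtale_apply]
        rw [map_smul, map_map, ← IsScalarTower.algebraMap_smul L c (map A A B L ω), one_smul, one_smul,
          tmul_smul, smul_tmul', IsScalarTower.algebraMap_smul]
  constructor
  · intro h y z e
    obtain ⟨y, rfl⟩ := a.surjective y
    obtain ⟨z, rfl⟩ := a.surjective z
    rw [← key, ← key] at e
    rw [h (b.injective e)]
  · intro h y z e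
    exact a.injective (h (by rw [← key, ← key, e]))


/-- Let A → B → C be ring homomorphisms with B and C finitely presented over A, let q be a prime ideal
of C and p its inverse image in B, and assume that C is smooth over A at q and that B is smooth over
A at p. Then C is smooth over B at q if and only if the map obtained from the canonical map C ⊗_B
Ω_{B/A} → Ω_{C/A} by tensoring over C with the residue field k(q) is injective. -/
theorem result (A B C : Type u) [CommRing A] [CommRing B]
    [CommRing C] [Algebra A B] [Algebra B C] [Algebra A C] [IsScalarTower A B C]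
    [Algebra.FinitePresentation A B] [Algebra.FinitePresentation A C] (q : Ideal C) [q.IsPrime]
    (hC : Algebra.IsSmoothAt A q) (hB : Algebra.IsSmoothAt A (q.under B)) :
    Algebra.IsSmoothAt B q ↔
      Function.Injective ((KaehlerDifferential.mapBaseChange A B C).lTensor q.ResidueField) := by
  haveI hCA : Algebra.FormallySmooth A (Localization.AtPrime q) := hC
  haveI hBA : Algebra.FormallySmooth A (Localization.AtPrime (q.under B)) := hB
  let p := q.under B
  let L := Localization.AtPrime q
  let P := Localization.AtPrime p
  haveI : Algebra.EssFiniteType A L := Algebra.EssFiniteType.comp A C L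
  haveI : Algebra.EssFiniteType A P := Algebra.EssFiniteType.comp A B P
  letI : Algebra P L := Localization.AtPrime.algebraOfLiesOver p q
  haveI : IsScalarTower B P L := inferInstance
  let eM : L ⊗[P] Ω[P⁄A] ≃ₗ[L] L ⊗[B] Ω[B⁄A] :=
    (AlgebraTensorModule.congr (LinearEquiv.refl L L)
      (tensorKaehlerEquivOfFormallyEtale A B P).symm).trans
      (AlgebraTensorModule.cancelBaseChange B P L L Ω[B⁄A])
  haveI : Module.Finite L (L ⊗[B] Ω[B⁄A]) := Module.Finite.equiv eM
  haveI : Module.Free L Ω[L⁄A] := Module.free_of_flat_of_isLocalRing
  rw [injective_iff (L := L) (κ := q.ResidueField)]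
  refine Iff.trans ?_ (IsLocalRing.split_injective_iff_lTensor_residueField_injective
    (mapBaseChange A B L))
  refine ⟨fun h => ((Groth.Agent.S2788.result A B C q).1 ⟨h, hC⟩).2, fun h => ?_⟩
  exact ((Groth.Agent.S2788.result A B C q).2 ⟨hC, h⟩).1

end Groth.Agent.S10955
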