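import Groth.Statements.S10956
import Mathlib

set_option autoImplicit false
universe u
open scoped TensorProduct
open CAlg

namespace Groth.Agent.S10956
open TensorProduct

noncomputable def theL (R A B : Type u) [CommRing R] [CommRing A] [CommRing B] [Algebra R A] [Algebra R B] :
    A ⊗[R] B →ₗ[R] (A ⊗[R] B) ⊗[A] Ω[A⁄R] :=
  TensorProduct.lift <| LinearMap.mk₂ R
    (fun a b => ((1 : A) ⊗ₜ[R] b) ⊗ₜ[A] KaehlerDifferential.D R A a)
    (fun a a' b => by rw [map_add, TensorProduct.tmul_add])
    (fun c a b => by rw [Derivation.map_smul, TensorProduct.tmul_smul])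
    (fun a b b' => by rw [TensorProduct.tmul_add, TensorProduct.add_tmul])
    (fun c a b => by rw [TensorProduct.tmul_smul]; exact (TensorProduct.smul_tmul' c _ _).symm)


/-- Let R be a commutative ring, A and B commutative R-algebras and T = A ⊗_R B, an A-algebra through
the left factor. There is a T-linear map r from Ω_{T/R} to T ⊗_A Ω_{A/R} sending d(a ⊗ b) to (1 ⊗ b)
⊗ da for all a in A and b in B, and together with the canonical map Ω_{T/R} → Ω_{T/A} it identifies
Ω_{T/R} with the product (T ⊗_A Ω_{A/R}) × Ω_{T/A}. (The published statement is the isomorphism of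
(Ω_{A/R} ⊗_R B) ⊕ (A ⊗_R Ω_{B/R}) with Ω_{T/R} matching the exterior differentials; it is stated
here through the canonical identifications T ⊗_A Ω_{A/R} = Ω_{A/R} ⊗_R B and Ω_{T/A} = A ⊗_R
Ω_{B/R}.) -/
theorem result (R A B : Type u) [CommRing R] [CommRing A] [CommRing B]
    [Algebra R A] [Algebra R B] :
    ∃ r : Ω[(A ⊗[R] B)⁄R] →ₗ[A ⊗[R] B] ((A ⊗[R] B) ⊗[A] Ω[A⁄R]),
      (∀ (a : A) (b : B), r (KaehlerDifferential.D R (A ⊗[R] B) (a ⊗ₜ[R] b)) =
          ((1 : A) ⊗ₜ[R] b) ⊗ₜ[A] KaehlerDifferential.D R A a) ∧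
        Function.Bijective (fun ω : Ω[(A ⊗[R] B)⁄R] =>
          (r ω, KaehlerDifferential.map R A (A ⊗[R] B) (A ⊗[R] B) ω)) := by
  classical
  let L := theL R A B
  have hL : ∀ a b, L (a ⊗ₜ b) = ((1 : A) ⊗ₜ[R] b) ⊗ₜ[A] KaehlerDifferential.D R A a := fun a b => rfl
  let Dr : Derivation R (A ⊗[R] B) ((A ⊗[R] B) ⊗[A] Ω[A⁄R]) := Derivation.mk' L (by
    intro x y
    induction x using TensorProduct.induction_on with
    | zero => rw [zero_mul, map_zero, smul_zero, zero_smul, add_zero]
    | add x₁ x₂ h₁ h₂ =>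
      rw [add_mul, map_add, h₁, h₂, map_add, add_smul, smul_add]
      abel
    | tmul a b =>
      induction y using TensorProduct.induction_on with
      | zero => rw [mul_zero, map_zero, smul_zero, zero_smul, add_zero]
      | add y₁ y₂ h₁ h₂ =>
        rw [mul_add, map_add, h₁, h₂, map_add, add_smul, smul_add]
        abel
      | tmul a' b' =>
        rw [Algebra.TensorProduct.tmul_mul_tmul, hL, hL, hL, (KaehlerDifferential.D R A).leibniz,
          TensorProduct.tmul_add, ← TensorProduct.smul_tmul, ← TensorProduct.smul_tmul,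
          TensorProduct.smul_tmul' (a ⊗ₜ[R] b), TensorProduct.smul_tmul' (a' ⊗ₜ[R] b'), smul_eq_mul, smul_eq_mul,
          Algebra.TensorProduct.tmul_mul_tmul, Algebra.TensorProduct.tmul_mul_tmul, TensorProduct.smul_tmul',
          TensorProduct.smul_tmul', smul_eq_mul, smul_eq_mul, mul_comm b' b])
  have hr : ∀ (a : A) (b : B), Dr.liftKaehlerDifferential (KaehlerDifferential.D R (A ⊗[R] B) (a ⊗ₜ[R] b)) =
      ((1 : A) ⊗ₜ[R] b) ⊗ₜ[A] KaehlerDifferential.D R A a := fun a b => by
    rw [Derivation.liftKaehlerDifferential_comp_D]; exact hL a b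
  let r := Dr.liftKaehlerDifferential
  let ψ := KaehlerDifferential.mapBaseChange R A (A ⊗[R] B)
  have hrψ : ∀ u, r (ψ u) = u := by
    intro u
    induction u using TensorProduct.induction_on with
    | zero => simp
    | add u v hu hv => rw [map_add, map_add, hu, hv]
    | tmul t ω =>
      have hω : ω ∈ Submodule.span A (Set.range (KaehlerDifferential.D R A)) := by
        rw [KaehlerDifferential.span_range_derivation]; trivial
      induction hω using Submodule.span_induction generalizing t with
      | mem _ h =>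
        obtain ⟨a, rfl⟩ := h
        simp only [ψ, KaehlerDifferential.mapBaseChange_tmul, KaehlerDifferential.map_D, map_smul, r,
          Algebra.TensorProduct.algebraMap_apply, Algebra.algebraMap_self, RingHom.id_apply, hr]
        rw [TensorProduct.smul_tmul', smul_eq_mul, ← Algebra.TensorProduct.one_def, mul_one]
      | zero => simp
      | add x y _ _ hx hy => rw [TensorProduct.tmul_add, map_add, map_add, hx, hy]
      | smul c x _ hx => rw [← TensorProduct.smul_tmul, hx]
  have hex := KaehlerDifferential.exact_mapBaseChange_map R A (A ⊗[R] B)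
  refine ⟨r, hr, fun ω ω' h => ?_, fun x => ?_⟩
  · simp only [Prod.mk.injEq] at h
    obtain ⟨u, hu⟩ := (hex (ω - ω')).1 (by rw [map_sub, h.2, sub_self])
    have h2 := hrψ u
    rw [hu, map_sub, h.1, sub_self] at h2
    rw [← sub_eq_zero, ← hu, ← h2, map_zero]
  · obtain ⟨ω₀, hω₀⟩ := KaehlerDifferential.map_surjective R A (A ⊗[R] B) x.2
    refine ⟨ω₀ + ψ (x.1 - r ω₀), Prod.ext ?_ ?_⟩
    · simp only [map_add, hrψ, add_sub_cancel]
    · simp only [map_add, hω₀]
      rw [(hex _).2 ⟨_, rfl⟩, add_zero]


end Groth.Agent.S10956
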