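import Groth.Statements.S10957
import Mathlib

set_option autoImplicit false
universe u
open CAlg

namespace Groth.Agent.S10957

/-- Let A be a Noetherian local integral domain that is normal (integrally closed in its field of
fractions). If there is a nonzero element a of A such that the maximal ideal of A is an associated
prime of the A-module A/(a), then A is a discrete valuation ring. (The other conditions listed in
the published result — normal of dimension one, maximal ideal nonzero principal, regular of
dimension one — are the library's standard characterisations; this row records the criterion through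
an associated prime.) -/
theorem result
    (A : Type u) [CommRing A] [IsDomain A] [IsNoetherianRing A] [IsLocalRing A] [IsIntegrallyClosed A]
    (a : A) (ha : a ≠ 0)
    (hass : IsLocalRing.maximalIdeal A ∈ associatedPrimes A (A ⧸ Ideal.span ({a} : Set A))) :
    IsDiscreteValuationRing A := by
  classical
  let K := FractionRing A
  obtain ⟨hmp, q, hq⟩ := isAssociatedPrime_iff.1 hass
  obtain ⟨x, rfl⟩ := Ideal.Quotient.mk_surjective q
  have hmem : ∀ y : A, y ∈ IsLocalRing.maximalIdeal A ↔ a ∣ y * x := fun y => by
    rw [hq, Submodule.mem_colon_singleton, Submodule.mem_bot, Algebra.smul_def,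
      Ideal.Quotient.algebraMap_eq, ← map_mul, Ideal.Quotient.eq_zero_iff_dvd]
  have hxna : ¬ a ∣ x := fun h => hmp.ne_top (Ideal.eq_top_iff_one _ |>.2 ((hmem 1).2 (by rwa [one_mul])))
  have hexists : ∃ t ∈ IsLocalRing.maximalIdeal A, ∃ u, t * x = a * u ∧ IsUnit u := by
    by_contra hc
    push Not at hc
    have ha' : algebraMap A K a ≠ 0 := fun h => ha (IsFractionRing.injective A K (h.trans (map_zero _).symm))
    let z : K := algebraMap A K x / algebraMap A K a
    have hz : IsIntegral A z := by
      refine isIntegral_of_smul_mem_submodule (Submodule.map (Algebra.linearMap A K) (IsLocalRing.maximalIdeal A))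
        ?_ ((IsNoetherian.noetherian _).map _) z ?_
      · intro hbot
        have ham : a ∈ IsLocalRing.maximalIdeal A := (hmem a).2 (dvd_mul_right _ _)
        have : algebraMap A K a ∈ Submodule.map (Algebra.linearMap A K) (IsLocalRing.maximalIdeal A) := ⟨a, ham, rfl⟩
        rw [hbot] at this
        exact ha' this
      · rintro _ ⟨y, hy, rfl⟩
        obtain ⟨u, hu⟩ := (hmem y).1 hy
        have hu' : u ∈ IsLocalRing.maximalIdeal A := by
          rw [IsLocalRing.mem_maximalIdeal, mem_nonunits_iff]
          exact hc y hy u hu
        refine ⟨u, hu', ?_⟩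
        show algebraMap A K u = z * algebraMap A K y
        rw [div_mul_eq_mul_div, eq_div_iff ha', ← map_mul, ← map_mul, mul_comm u a, ← hu, mul_comm]
    obtain ⟨y, hy⟩ := (IsIntegrallyClosed.isIntegral_iff (R := A)).1 hz
    refine hxna ⟨y, IsFractionRing.injective A K ?_⟩
    rw [map_mul, hy]
    show algebraMap A K x = algebraMap A K a * (algebraMap A K x / algebraMap A K a)
    rw [mul_div_cancel₀ _ ha']
  obtain ⟨t, ht, u, htu, hu⟩ := hexists
  have hprin : (IsLocalRing.maximalIdeal A).IsPrincipal := by
    refine ⟨t, le_antisymm (fun y hy => ?_) ((Submodule.span_singleton_le_iff_mem _ _).2 ht)⟩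
    obtain ⟨z, hz⟩ := (hmem y).1 hy
    obtain ⟨v, rfl⟩ := hu
    refine Submodule.mem_span_singleton.2 ⟨z * ↑v⁻¹, ?_⟩
    have hx0 : x ≠ 0 := fun h => hxna (h ▸ dvd_zero a)
    rw [smul_eq_mul]
    apply mul_right_cancel₀ hx0
    rw [mul_assoc, htu, hz]
    linear_combination z * a * v.inv_mul
  have hnf : ¬ IsField A := by
    intro hF
    rw [IsLocalRing.isField_iff_maximalIdeal_eq] at hF
    have : a ∈ IsLocalRing.maximalIdeal A := (hmem a).2 (dvd_mul_right _ _)
    rw [hF, Submodule.mem_bot] at this
    exact ha this
  exact ((IsDiscreteValuationRing.TFAE A hnf).out 4 0).1 hprin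


end Groth.Agent.S10957
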