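import Groth.Statements.S10959
import Groth.Agent.Lib.AVAmple
import Groth.Agent.Lib.AVDual

set_option autoImplicit false
set_option backward.isDefEq.respectTransparency false
set_option backward.isDefEq.respectTransparency.types false
set_option linter.style.haveILetI false
set_option linter.unusedSectionVars false
set_option maxHeartbeats 400000
universe u
open CategoryTheory MonoidalCategory CartesianMonoidalCategory MonObj GrpObj AlgebraicGeometry
open AbVar

namespace Groth.Agent.S10959

/-- Let K be an algebraically closed field and A an abelian variety over K (a group scheme over Spec K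
with proper smooth structure morphism and irreducible underlying space). Let Z be a closed subset of
A which is not all of A, and z a K-valued point of A. Then there is a K-valued point x of A such
that the point underlying z lies neither in the translate of Z by x nor in the translate of Z by the
inverse of x; here the translation by x is the morphism A → A given on points by a ↦ a·x, the
product of the identity and the constant map x in the group of morphisms into A. (The published
statement takes Z to be the support of an effective divisor; this row allows any closed subset other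
than A.) -/
theorem result
    (K : Type u) [Field K] [IsAlgClosed K] (A : Over (Spec (CommRingCat.of K)))
    [GrpObj A] [IsProper A.hom] [Smooth A.hom] [IrreducibleSpace A.left]
    (Z : Set A.left) (hZ : IsClosed Z) (hZne : Z ≠ Set.univ)
    (z : 𝟙_ (Over (Spec (CommRingCat.of K))) ⟶ A) :
    ∃ x : 𝟙_ (Over (Spec (CommRingCat.of K))) ⟶ A,
      Disjoint (Set.range z.left.base)
        ((𝟙 A * (toUnit A ≫ x)).left.base '' Z ∪ (𝟙 A * (toUnit A ≫ x)⁻¹).left.base '' Z) := by
  haveI : GeometricallyReduced A.hom := H23.RigidGamma.geometricallyReduced_of_smooth A.hom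
  haveI : GeometricallyIntegral A.hom := H23.MaxAbelian.geometricallyIntegral_of_connected A
  haveI : IsCommMonObj A := isCommMonObj_of_isProper_of_geometricallyIntegral A
  let U : A.left.Opens := ⟨Zᶜ, hZ.isOpen_compl⟩
  have hU : U ≠ ⊥ := (TopologicalSpace.Opens.ne_bot_iff_nonempty U).2 (Set.nonempty_compl.2 hZne)
  have happ : ∀ (a b : 𝟙_ (Over (Spec (CommRingCat.of K))) ⟶ A), (AVAmple.tr b).left (AVAmple.pt a) = AVAmple.pt (a * b) := by
    intro a b
    have h : a ≫ AVAmple.tr b = a * b := by rw [AVAmple.comp_tr, AVAmple.unit_comp]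
    rw [← h]
    rfl
  have hinvapp : ∀ (a : 𝟙_ (Over (Spec (CommRingCat.of K))) ⟶ A), (GrpObj.inv (X := A)).left (AVAmple.pt a) = AVAmple.pt a⁻¹ :=
    fun a => rfl
  haveI : IsIso (GrpObj.inv (X := A)).left :=
    inferInstanceAs (IsIso ((Over.forget _).map (GrpObj.inv (X := A))))
  obtain ⟨x, hx1, hx2⟩ := AVAmple.exists_pt_mem
    (AVAmple.inf_ne_bot hU ((GrpObj.inv (X := A)).left ≫ (AVAmple.tr z).left) (AVAmple.tr z).left)
  refine ⟨x, ?_⟩
  have hzr : Set.range z.left.base = {AVAmple.pt z} := by
    ext y
    constructor
    · rintro ⟨t, rfl⟩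
      exact congrArg (⇑z.left) (@Subsingleton.elim (↥(Spec (CommRingCat.of K))) _ t (IsLocalRing.closedPoint K))
    · rintro rfl
      exact ⟨_, rfl⟩
  rw [hzr, Set.disjoint_singleton_left]
  have key : ∀ c : 𝟙_ (Over (Spec (CommRingCat.of K))) ⟶ A, AVAmple.pt (z * c⁻¹) ∈ U →
      AVAmple.pt z ∉ ⇑(AVAmple.tr c).left '' Z := by
    rintro c hc ⟨q, hq, hqz⟩
    have h2 : AVAmple.pt (z * c⁻¹) = q := by
      apply (AVAmple.tr c).left.homeomorph.injective
      show (AVAmple.tr c).left (AVAmple.pt (z * c⁻¹)) = (AVAmple.tr c).left q
      rw [happ, inv_mul_cancel_right, hqz]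
    exact hc (h2 ▸ hq)
  rintro (h | h)
  · refine key x ?_ h
    have : (AVAmple.tr z).left ((GrpObj.inv (X := A)).left (AVAmple.pt x)) ∈ U := hx1
    rwa [hinvapp, happ, mul_comm] at this
  · refine key x⁻¹ ?_ ?_
    · have : (AVAmple.tr z).left (AVAmple.pt x) ∈ U := hx2
      rw [happ, mul_comm] at this
      rwa [_root_.inv_inv]
    · rwa [← GrpObj.comp_inv] at h

end Groth.Agent.S10959
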