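import Groth.Statements.S10961
import Groth.Agent.MeroX.GenericVals
-- import your own Groth.Agent.* helpers here

set_option autoImplicit false
universe u
open CategoryTheory AlgebraicGeometry TopologicalSpace
open Mero

namespace Groth.Agent.S10961

/-- Let X be a reduced scheme with only finitely many irreducible components, with generic points x_1,
…, x_r, and let U be an open subset of X. Then the ring of sections over U of the sheaf of
meromorphic functions K_X maps bijectively, by evaluation, onto the product of the rings K_{X,x_i}
over those generic points x_i that lie in U; moreover for each generic point x_i the local ring of X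
at x_i is a field and maps bijectively onto K_{X,x_i}, so that K_{X,x_i} is the residue field of
x_i. (The hypothesis holds for every Noetherian scheme; for X integral it says that K_X is the
constant sheaf with value the function field.) -/
theorem result
    (X : Scheme.{u}) [IsReduced X] (hfin : (irreducibleComponents (X : Type u)).Finite) (U : X.Opens) :
    Function.Bijective (fun s : Γ(Mero.kmod X, U) =>
      fun x : {x : U // closure ({x.1} : Set X) ∈ irreducibleComponents (X : Type u)} =>
        Mero.evalK X U x.1 s) ∧
    (∀ x : X, closure ({x} : Set X) ∈ irreducibleComponents (X : Type u) →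
      IsField (X.presheaf.stalk x) ∧
        Function.Bijective (algebraMap (X.presheaf.stalk x) (Mero.KStalk X x))) := by
  have hfin' : MeroX.FinAss X := MeroX.finAss_of_locallyFinite fun x =>
    ⟨⊤, trivial, hfin.subset fun Z hZ => hZ.1⟩
  have hmax : ∀ x : X, closure ({x} : Set X) ∈ irreducibleComponents (X : Type u) → ∀ y : X, y ⤳ x → y = x := by
    intro x hx y hy
    have hle : closure ({x} : Set X) ≤ closure {y} :=
      closure_minimal (Set.singleton_subset_iff.2 (specializes_iff_mem_closure.1 hy)) isClosed_closure
    have h1 := hx.2 isIrreducible_singleton.closure hle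
    exact ((specializes_iff_mem_closure.2 (h1 (subset_closure rfl))).antisymm hy).eq.symm
  refine ⟨⟨fun s t h => ?_, fun q => ?_⟩, fun x hx =>
    ⟨MeroX.isField_stalk (hmax x hx), MeroX.algebraMap_bijective (MeroX.mem_ass_of_max (hmax x hx))⟩⟩
  · rw [← sub_eq_zero]
    refine MeroX.ext_kmod fun y => MeroX.kmod_eq_zero_of_ass _ (fun z hz => ?_) y
    exact sub_eq_zero.2 (congrFun h ⟨z, MeroX.closure_mem_components fun w hw => MeroX.eq_of_ass_of_reduced hz hw⟩)
  · obtain ⟨W, g, s, -, -, hs⟩ := MeroX.exists_kmod_values hfin' MeroX.inc_of_reduced U fun ξ hξ =>
      q ⟨ξ, MeroX.closure_mem_components fun w hw => MeroX.eq_of_ass_of_reduced hξ hw⟩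
    exact ⟨s, funext fun ξ => hs ξ.1 (MeroX.mem_ass_of_max (hmax _ ξ.2))⟩

end Groth.Agent.S10961
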