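import Groth.Statements.S10962
import Groth.Agent.GrTwistX.Ample
import Groth.Agent.AmpleX.QAGenerated
import Groth.Agent.AmpleX.QuasiAffine
import Groth.Agent.AmpleX.RelAffine
import Groth.Agent.PnCoh.Finite.TwistInv
import Groth.Agent.H23.PicMul
import Groth.Agent.Lib.PnDualCoh
import Groth.Agent.S0843
import Groth.Agent.S0844

set_option autoImplicit false
universe u
open CategoryTheory CategoryTheory.Limits AlgebraicGeometry TopologicalSpace
open SDiv

namespace Groth.Agent.S10962
open CategoryTheory CategoryTheory.Limits AlgebraicGeometry TopologicalSpace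
open Groth.Agent
attribute [local instance] Groth.Agent.H23.PicMul.clMonoid

section
variable {X : Scheme.{u}} {M : X.Modules}

theorem hom_eq_zero (h : Subsingleton Γ(M, ⊤)) (s : Coh.structureModule X ⟶ M) : s = 0 :=
  AmpleX.eq_zero_of_one_eq_zero s (Subsingleton.elim _ _)

theorem isEmpty_of_frame_eq_zero {U : X.Opens} {e : Γ(M, U)} (he : InvX.IsFrame e) (h : e = 0)
    {x : X} (hx : x ∈ U) : False := by
  haveI : Nonempty U.toScheme := ⟨⟨x, hx⟩⟩
  have h1 : (1 : Γ(X, U)) = 0 := (he U le_rfl).1 (by subst h; simp)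
  have h2 := congrArg (X.presheaf.germ U x hx) h1
  rw [map_one, map_zero] at h2
  exact one_ne_zero h2

theorem genLocus_of_subsingleton (h : Subsingleton Γ(M, ⊤)) (s : Coh.structureModule X ⟶ M) {x : X}
    (hx : x ∈ CohB1.genLocus M s) : False := by
  obtain ⟨U, hxU, he⟩ := InvX.mem_genLocus hx
  refine isEmpty_of_frame_eq_zero he ?_ hxU
  rw [Subsingleton.elim (InvX.one s) 0, map_zero]

theorem not_gg_of_subsingleton (hM : PicF.IsInvertible M) (h : Subsingleton Γ(M, ⊤)) (x : X)
    (hgg : Curv2.IsGloballyGenerated M) : False := by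
  obtain ⟨ι, p, hp⟩ := hgg
  let F : X.Modules := SheafOfModules.free ι
  change F ⟶ M at p
  have hp0 : p = 0 := Cofan.IsColimit.hom_ext (SheafOfModules.isColimitFreeCofan ι) _ _ fun i =>
    (hom_eq_zero h ((SheafOfModules.freeCofan (R := X.ringCatSheaf) ι).inj i ≫ p)).trans comp_zero.symm
  rw [hp0] at hp
  haveI : Epi (0 : F ⟶ M) := hp
  have hz : IsZero M := IsZero.of_epi_zero F M
  obtain ⟨U, hxU, e, he⟩ := InvX.exists_frame hM x
  refine isEmpty_of_frame_eq_zero he ?_ hxU
  have := congrArg (fun f : M ⟶ M => f.app U e) (hz.eq_of_src (𝟙 M) 0)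
  simpa using this

end

theorem cR_mem {R : Type u} [CommRing R] {n : ℕ} (j : ULift.{u} (Fin (n + 1))) :
    PnDual.coordsR R n j ∈ CohB1.polyGrading n R 1 :=
  MvPolynomial.isHomogeneous_X R j.down

theorem cR_cover {R : Type u} [CommRing R] {n : ℕ} :
    ⨆ j, PnCoh.Finite.D (CohB1.polyGrading n R) (PnDual.coordsR R n j) = ⊤ := by
  refine top_le_iff.1 ((PnCoh.iSup_mOpen_single (ι := Fin (n + 1)) (R := R)).ge.trans ?_)
  exact iSup_le fun j => le_iSup_of_le (ULift.up j) le_rfl

section
variable (R : Type u) [CommRing R] (n : ℕ)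

theorem cl_twist_pow (a : ℤ) (j : ℕ) :
    PicF.cl (Twist.twistProjSpace n R a) ^ j = PicF.cl (Twist.twistProjSpace n R (a * j)) := by
  induction j with
  | zero =>
    rw [pow_zero, Nat.cast_zero, mul_zero, H23.PicMul.one_def]
    have h1 := PnCoh.Finite.isIso_oneHom (𝒜 := CohB1.polyGrading n R) (PnDual.coordsR R n)
      cR_mem cR_cover
    exact H23.PicMul.cl_eq_iff.2 ⟨@asIso _ _ _ _ _ h1⟩
  | succ j ih =>
    rw [pow_succ, ih, ← H23.PicMul.cl_tensor]
    refine H23.PicMul.cl_eq_iff.2 ?_
    obtain ⟨t⟩ := PnCoh.Finite.twist_tensor_iso (PnDual.coordsR R n)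
      cR_mem cR_cover (a * j) a
    exact ⟨t ≪≫ eqToIso (congrArg (Twist.twistProjSpace n R) (by push_cast; ring))⟩

theorem subsingleton_twist {d : ℤ} (hn : 1 ≤ n) (hd : d < 0) :
    Subsingleton Γ(Twist.twistProjSpace n R d, ⊤) := by
  haveI := S0844.result R n d 0 (fun h => by omega) (fun h => by omega)
  exact (CategoryTheory.Sheaf.H.equiv₀ (Coh.toAb (Twist.twistProjSpace n R d))
    Limits.isTerminalTop).symm.toEquiv.subsingleton

theorem nonempty_projSpace [Nontrivial R] : Nonempty (CohB1.ProjSpace n R) := by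
  by_contra hne
  haveI := not_nonempty_iff.1 hne
  haveI : Subsingleton ↑((Coh.toAb (Twist.twistProjSpace n R ((0 : ℕ) : ℤ))).obj.obj (Opposite.op ⊤)) :=
    ⟨fun s t => TopCat.Presheaf.section_ext
      (⟨(Twist.twistProjSpace n R ((0 : ℕ) : ℤ)).presheaf,
        (Twist.twistProjSpace n R ((0 : ℕ) : ℤ)).isSheaf⟩ : TopCat.Sheaf AddCommGrpCat _) ⊤ s t
      fun x _ => isEmptyElim x⟩
  haveI := (CategoryTheory.Sheaf.H.equiv₀ (Coh.toAb (Twist.twistProjSpace n R ((0 : ℕ) : ℤ)))
    Limits.isTerminalTop).toEquiv.subsingleton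
  obtain ⟨e⟩ := S0843.result R n 0
  haveI := e.symm.toEquiv.subsingleton
  have h1 : (⟨1, MvPolynomial.isHomogeneous_one _ _⟩ :
      MvPolynomial.homogeneousSubmodule (Fin (n + 1)) R 0) = 0 := Subsingleton.elim _ _
  exact one_ne_zero (congrArg Subtype.val h1)

end


/-- Let R be a nonzero ring and n ≥ 1, and let X be projective n-space over R. For an integer d, the
Serre twist O_X(d) is ample if and only if d > 0. (Ample is taken in the sense that X is
quasi-compact and covered by the affine open non-vanishing loci X_s of global sections s of positive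
tensor powers; for the quasi-compact separated scheme X this agrees with the definition through
finitely many generating sections with quasi-affine non-vanishing loci. The published remark also
asserts that O_X(d) is very ample relative to R for d > 0; that clause is not part of this row.) -/
theorem result (R : Type u) [CommRing R] [Nontrivial R] (n : ℕ) (hn : 1 ≤ n) (d : ℤ) :
    CohB1.IsAmple (Twist.twistProjSpace n R d) ↔ 0 < d := by
  classical
  obtain ⟨x⟩ := nonempty_projSpace R n
  constructor
  · intro h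
    by_contra hd
    rcases lt_or_eq_of_le (not_lt.1 hd) with hd | rfl
    · obtain ⟨m, s, hx, -⟩ := h.2.2 x
      obtain ⟨t⟩ : Nonempty (CohB1.tensorPow (Twist.twistProjSpace n R d) (m + 1) ≅
          Twist.twistProjSpace n R (d * (m + 1 : ℕ))) := by
        rw [← H23.PicMul.cl_eq_iff, H23.PicMul.cl_tensorPow, cl_twist_pow]
      have hx' := (InvX.genLocus_comp_iso s t).ge hx
      exact genLocus_of_subsingleton
        (subsingleton_twist R n hn (mul_neg_of_neg_of_pos hd (by positivity))) _ hx'
    · have h1 := PnCoh.Finite.isIso_oneHom (𝒜 := CohB1.polyGrading n R) (PnDual.coordsR R n)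
        cR_mem cR_cover
      have hO : CohB1.IsAmple (Coh.structureModule (CohB1.ProjSpace n R)) :=
        AmpleX.isAmple_of_iso (@asIso _ _ _ _ _ h1).symm h
      haveI : (Proj (CohB1.polyGrading n R)).IsQuasiAffine := AmpleX.isQuasiAffine_of_isAmple hO
      have hM := PnCoh.Finite.isInvertible_twist (𝒜 := CohB1.polyGrading n R) (PnDual.coordsR R n)
        cR_mem cR_cover (-1)
      exact not_gg_of_subsingleton hM (subsingleton_twist R n hn (by norm_num)) x
        (AmpleX.isGloballyGenerated_of_isQuasiAffine (PnCoh.isQCoh_twist_mvPolynomial _ R (-1)))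
  · intro hd
    obtain ⟨d, rfl⟩ := Int.eq_ofNat_of_zero_le hd.le
    have hd' : 0 < d := by omega
    exact GrTwistX.isAmple_twist (𝒜 := CohB1.polyGrading n R) hd'
      (Finset.univ.image fun i : Fin (n + 1) => (MvPolynomial.X i : MvPolynomial (Fin (n + 1)) R) ^ d)
      (fun g hg => by
        obtain ⟨i, -, rfl⟩ := Finset.mem_image.1 hg
        simpa using (MvPolynomial.isHomogeneous_X R i).pow d)
      (fun y => by
        obtain ⟨i, hi⟩ := Opens.mem_iSup.1 ((cR_cover (R := R) (n := n)).ge (trivial : y ∈ ⊤))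
        exact ⟨_, Finset.mem_image.2 ⟨i.down, Finset.mem_univ _, rfl⟩, fun hy => hi (y.isPrime.mem_of_pow_mem d hy)⟩)


end Groth.Agent.S10962
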