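import Groth.Statements.S10966
import Groth.Agent.VAmpleX.Eventually
import Groth.Agent.S2336

set_option autoImplicit false
universe u
open CategoryTheory CategoryTheory.Limits AlgebraicGeometry
open RelAmple

namespace Groth.Agent.S10966

/-- Let R be a nonzero ring and X an affine scheme of finite type over R, with structure morphism q : X
→ Spec R. Then every invertible O_X-module L is very ample relative to q: there are a natural number
n and an immersion i : X → P^n over Spec R, compatible with q, such that i^*O(1) ≅ L. -/
theorem result (R : Type u) [CommRing R] [Nontrivial R]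
    {X : Scheme.{u}} [IsAffine X] (q : X ⟶ Spec (CommRingCat.of R)) [LocallyOfFiniteType q]
    (L : X.Modules) (hL : PicF.IsInvertible L) :
    RelAmple.IsRelVeryAmplePn q L := by
  have hO : CohB1.IsAmple (Coh.structureModule X) := (Groth.Agent.S2336.result X).1 inferInstance
  obtain ⟨n₀, hn₀⟩ := Groth.Agent.VAmpleX.eventually_veryAmple q hO hL
  letI := Groth.Agent.H23.PicMul.clMonoid X
  have hcl : PicF.cl (CohB1.tensorMod (CohB1.tensorPow (Coh.structureModule X) n₀) L) = PicF.cl L := by
    rw [Groth.Agent.H23.PicMul.cl_tensor, Groth.Agent.H23.PicMul.cl_tensorPow,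
      show PicF.cl (Coh.structureModule X) = 1 from rfl, one_pow, one_mul]
  obtain ⟨e⟩ := Groth.Agent.H23.PicMul.cl_eq_iff.1 hcl
  exact Groth.Agent.VAmpleX.isRelVeryAmplePn_of_iso q e (hn₀ n₀ le_rfl)

end Groth.Agent.S10966
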