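import Groth.Statements.S10973
import Groth.Agent.FFLib.Rational

set_option autoImplicit false
open FunFld Groth.Agent.FFLib WithZero

namespace Groth.Agent.S10973

/-- Two nonzero elements of a function field of one variable with the same principal divisor differ by a
constant multiple. -/
theorem result (k K : Type*) [Field k] [Field K] [Algebra k K]
    (hK : FunFld.IsFunctionField k K) (x y : K) (hx : x ≠ 0) (hy : y ≠ 0)
    (h : ∀ P : FunFld.Place k K, P.ord x = P.ord y) : ∃ c : k, x = c • y := by
  have hm : x * y⁻¹ ∈ FunFld.L (0 : FunFld.Divisor k K) :=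
    (mem_L_iff_ord (mul_ne_zero hx (inv_ne_zero hy))).mpr fun P => by
      rw [ord_mul P hx (inv_ne_zero hy), ord_inv, h P]; simp
  rw [L_zero_eq hK] at hm
  obtain ⟨c, hc⟩ := hm
  refine ⟨c, ?_⟩
  rw [Algebra.smul_def, show algebraMap k K c = x * y⁻¹ from hc, inv_mul_cancel_right₀ hy]

end Groth.Agent.S10973
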