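import Groth.Statements.S10975
import Groth.Agent.FFLib.Rational

set_option autoImplicit false
open FunFld Groth.Agent.FFLib WithZero

namespace Groth.Agent.S10975

/-- `A(D₁ ⊔ D₂) = A(D₁) + A(D₂)` for divisors of a function field of one variable. -/
theorem result (k K : Type*) [Field k] [Field K] [Algebra k K] (D₁ D₂ : FunFld.Divisor k K) :
    FunFld.AD (D₁ ⊔ D₂) = FunFld.AD D₁ ⊔ FunFld.AD D₂ := by
  classical
  refine le_antisymm (fun a ha => ?_) (sup_le (AD_mono le_sup_left) (AD_mono le_sup_right))
  let b : FunFld.Place k K → K := fun P => if D₂ P ≤ D₁ P then a P else 0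
  refine Submodule.mem_sup.mpr ⟨b, fun P => ?_, a - b, fun P => ?_, add_sub_cancel _ _⟩
  · by_cases hle : D₂ P ≤ D₁ P
    · simpa [b, hle] using ha P
    · simp [b, hle]
  · by_cases hle : D₂ P ≤ D₁ P
    · simp [b, hle]
    · simpa [b, hle, (not_le.mp hle).le] using ha P

end Groth.Agent.S10975
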