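import Groth.Statements.S10984
import Groth.Agent.FFLib.Rational

set_option autoImplicit false
open FunFld Groth.Agent.FFLib WithZero

namespace Groth.Agent.S10984

/-- `dim_k W(D) = g - δ(D)` for every divisor `D` of a function field of one variable of genus `g`,
where `W(D)` is the space of Weil differentials vanishing on `A(D) + K`. -/
theorem result (k K : Type*) [Field k] [Field K] [Algebra k K]
    (hK : FunFld.IsFunctionField k K) (D : FunFld.Divisor k K) :
    FiniteDimensional k (FunFld.WD D) ∧
    (Module.finrank k (FunFld.WD D) : ℤ) = (FunFld.genus k K : ℤ) - (D.deg + 1 - FunFld.ell D) := by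
  refine ⟨WD_finite hK D, ?_⟩
  rw [WD_finrank hK D]; ring

end Groth.Agent.S10984
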