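import Groth.Statements.S10986
import Groth.Agent.FFLib.Rational

set_option autoImplicit false
open FunFld Groth.Agent.FFLib WithZero

namespace Groth.Agent.S10986

/-- `L(D) · W(C) ⊆ W(C - D)`: if `x ∈ L(D)` and `ω` vanishes on `A(C) + K` then `xω` vanishes on `A(C -
D) + K`. -/
theorem result (k K : Type*) [Field k] [Field K] [Algebra k K]
    (C D : FunFld.Divisor k K) (x : K) (hxD : x ∈ FunFld.L D)
    (hx : ∀ a ∈ FunFld.adele k K, x • a ∈ FunFld.adele k K)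
    (ω : Module.Dual k (FunFld.adele k K)) (hω : ω ∈ FunFld.WD C) :
    FunFld.mulW x hx ω ∈ FunFld.WD (C - D) := by
  refine mem_WD.mpr fun a ha => mem_WD.mp hω ⟨_, hx _ a.2⟩ ?_
  obtain ⟨b, hb, c, ⟨y, rfl⟩, hbc⟩ := Submodule.mem_sup.mp ha
  show x • a.1 ∈ SD C
  rw [← hbc, smul_add]
  refine Submodule.mem_sup.mpr ⟨x • b, fun P => ?_, _, ⟨x * y, rfl⟩, rfl⟩
  rw [Pi.smul_apply, smul_eq_mul, map_mul]
  refine (mul_le_mul' (hxD P) (hb P)).trans_eq ?_
  rw [← exp_add, Finsupp.sub_apply, add_sub_cancel]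

end Groth.Agent.S10986
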