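import Groth.Statements.S10988
import Groth.Agent.FFLib.Rational

set_option autoImplicit false
open FunFld Groth.Agent.FFLib WithZero

namespace Groth.Agent.S10988

/-- `dim_K W_K = 1` for a function field of one variable: every Weil differential is `xω₁` for a fixed
nonzero Weil differential `ω₁` and some `x ∈ K`. -/
theorem result (k K : Type*) [Field k] [Field K] [Algebra k K]
    (hK : FunFld.IsFunctionField k K) (h : ∀ (x : K), ∀ a ∈ FunFld.adele k K, x • a ∈ FunFld.adele k K)
    (ω₁ ω₂ : Module.Dual k (FunFld.adele k K)) (h₁ : FunFld.IsWeil ω₁) (h0 : ω₁ ≠ 0)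
    (h₂ : FunFld.IsWeil ω₂) : ∃ x : K, FunFld.mulW x (h x) ω₁ = ω₂ := by
  exact exists_mW_eq hK h₁ h0 h₂

end Groth.Agent.S10988
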