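import Groth.Statements.S10989
import Groth.Agent.FFLib.Rational

set_option autoImplicit false
open FunFld Groth.Agent.FFLib WithZero

namespace Groth.Agent.S10989

/-- Any two canonical divisors of a function field of one variable are linearly equivalent. -/
theorem result (k K : Type*) [Field k] [Field K] [Algebra k K]
    (hK : FunFld.IsFunctionField k K) (C₁ C₂ : FunFld.Divisor k K) (h₁ : FunFld.IsCanonical k K C₁) (h₂ : FunFld.IsCanonical k K C₂) :
    ∃ x : K, x ≠ 0 ∧ C₂ = C₁ + FunFld.div k x := by
  exact (canonical_iff hK h₁ C₂).mp h₂

end Groth.Agent.S10989
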