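import Groth.Statements.S10991
import Groth.Agent.FFLib.Rational

set_option autoImplicit false
open FunFld Groth.Agent.FFLib WithZero

namespace Groth.Agent.S10991

/-- For a Weil differential `ω` with divisor `C`, every element of `W(D)` is `xω` for a unique `x ∈ L(C
- D)` (together with the fact that `xω` vanishes on `A(D)+K` for `x ∈ L(C - D)`, multiplication by
`ω` is a bijection `L(C - D) → W(D)`). -/
theorem result (k K : Type*) [Field k] [Field K] [Algebra k K]
    (hK : FunFld.IsFunctionField k K) (h : ∀ (x : K), ∀ a ∈ FunFld.adele k K, x • a ∈ FunFld.adele k K)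
    (ω : Module.Dual k (FunFld.adele k K)) (C : FunFld.Divisor k K) (hω : FunFld.IsDivOf ω C)
    (D : FunFld.Divisor k K) (ω' : Module.Dual k (FunFld.adele k K)) (hω' : ω' ∈ FunFld.WD D) :
    ∃! x : K, x ∈ FunFld.L (C - D) ∧ FunFld.mulW x (h x) ω = ω' := by
  have h0 : ω ≠ 0 := by
    intro h0
    obtain ⟨P⟩ := exists_place hK.1
    have := (hω (C + Finsupp.single P 1)).mp (h0 ▸ zero_mem _) P
    simp at this
  obtain ⟨hinj, hsurj⟩ := dualityMap_bijective hK h0 hω D
  obtain ⟨x, hx⟩ := hsurj ⟨ω', hω'⟩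
  refine ⟨x.1, ⟨x.2, congrArg Subtype.val hx⟩, fun y ⟨hy1, hy2⟩ => ?_⟩
  exact congrArg Subtype.val (hinj (a₁ := ⟨y, hy1⟩) (a₂ := x) (Subtype.ext (hy2.trans (congrArg Subtype.val hx).symm)))

end Groth.Agent.S10991
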