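import Groth.Statements.S10992
import Groth.Agent.FFLib.Rational

set_option autoImplicit false
open FunFld Groth.Agent.FFLib WithZero

namespace Groth.Agent.S10992

/-- A divisor `C` of a function field of one variable of genus `g` is canonical iff `ℓ(C) = g` and `deg
C = 2g - 2`. -/
theorem result (k K : Type*) [Field k] [Field K] [Algebra k K]
    (hK : FunFld.IsFunctionField k K) (C : FunFld.Divisor k K) :
    FunFld.IsCanonical k K C ↔ (FunFld.ell C = FunFld.genus k K ∧ C.deg = 2 * FunFld.genus k K - 2) := by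
  refine ⟨fun h => ⟨ell_canonical hK h, deg_canonical hK h⟩, fun ⟨h1, h2⟩ => ?_⟩
  obtain ⟨C₀, hC₀⟩ := exists_canonical hK
  have h3 := riemann_roch hK hC₀ C
  have h4 : 0 < FunFld.ell (C₀ - C) := by omega
  obtain ⟨z, hz0, -, hz⟩ := exists_le_add_div hK.1 h4
  have h5 : (0 : FunFld.Divisor k K) = C₀ - C + FunFld.div k z := deg_eq_of_le hK.1 hz (by
    rw [Divisor.deg_add, deg_div hK.1, Divisor.deg_sub, deg_canonical hK hC₀, h2]; simp)
  refine (canonical_iff hK hC₀ C).mpr ⟨z, hz0, ?_⟩
  rw [eq_comm, ← sub_eq_zero, h5]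
  abel

end Groth.Agent.S10992
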