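import Groth.Statements.S10993
import Groth.Agent.FFLib.Rational

set_option autoImplicit false
open FunFld Groth.Agent.FFLib WithZero

namespace Groth.Agent.S10993

/-- `ℓ(D) = deg D + 1 - g` whenever `deg D ≥ 2g - 1` (such divisors are nonspecial). -/
theorem result (k K : Type*) [Field k] [Field K] [Algebra k K]
    (hK : FunFld.IsFunctionField k K) (D : FunFld.Divisor k K) (h : 2 * (FunFld.genus k K : ℤ) - 1 ≤ D.deg) :
    (FunFld.ell D : ℤ) = D.deg + 1 - FunFld.genus k K := by
  exact ell_of_deg_gt hK (by omega)

end Groth.Agent.S10993
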