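import Groth.Statements.S10994
import Groth.Agent.FFLib.Rational

set_option autoImplicit false
open FunFld Groth.Agent.FFLib WithZero

namespace Groth.Agent.S10994

/-- A function field of one variable has genus `0` and a place of degree `1` iff it is a rational
function field `k(x)`. -/
theorem result (k K : Type*) [Field k] [Field K] [Algebra k K]
    (hK : FunFld.IsFunctionField k K) :
    (FunFld.genus k K = 0 ∧ ∃ P : FunFld.Place k K, P.deg = 1) ↔
      ∃ x : K, IntermediateField.adjoin k ({x} : Set K) = ⊤ := by
  constructor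
  · rintro ⟨hg, P, hP⟩
    classical
    have h := ell_of_deg_gt hK (D := Finsupp.single P 1) (by
      rw [Divisor.deg_single, hP, hg]; simp)
    rw [Divisor.deg_single, hP, hg] at h
    have hnot : ¬ FunFld.L (Finsupp.single P (1 : ℤ)) ≤ FunFld.L (0 : FunFld.Divisor k K) := fun hle => by
      have := L_finite hK.1 (0 : FunFld.Divisor k K)
      have := Submodule.finrank_mono hle
      have h1 := ell_zero hK
      simp only [FunFld.ell] at h h1 this
      omega
    obtain ⟨x, hx, hx0⟩ := SetLike.not_le_iff_exists.mp hnot
    have hxne : x ≠ 0 := fun e => hx0 (e ▸ zero_mem _)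
    have hord := (mem_L_iff_ord hxne).mp hx
    have hP1 : P.ord x = -1 := by
      by_contra hh
      refine hx0 ((mem_L_iff_ord hxne).mpr fun Q => ?_)
      by_cases hQ : P = Q
      · subst hQ; have := hord P; simp at this ⊢; omega
      · simpa [hQ] using hord Q
    exact ⟨x, adjoin_eq_top_of_pole hK.1 hP hP1 fun Q hQ => by simpa [Ne.symm hQ] using hord Q⟩
  · rintro ⟨x, hx⟩
    obtain ⟨hg, P, hP, -⟩ := genus_eq_zero_of_adjoin hK hx
    exact ⟨hg, P, hP⟩

end Groth.Agent.S10994
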