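import Groth.Statements.S10996
import Groth.Agent.FFLib.Rational

set_option autoImplicit false
open FunFld Groth.Agent.FFLib WithZero

namespace Groth.Agent.S10996

/-- In a function field of one variable of positive genus, distinct places of degree one are not
linearly equivalent. -/
theorem result (k K : Type*) [Field k] [Field K] [Algebra k K]
    (hK : FunFld.IsFunctionField k K) (hg : 0 < FunFld.genus k K) (P P' : FunFld.Place k K) (hP : P.deg = 1) (hP' : P'.deg = 1)
    (x : K) (hx : x ≠ 0) (h : Finsupp.single P 1 - Finsupp.single P' 1 = FunFld.div k x) : P = P' := by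
  classical
  by_contra hne
  have hd : ∀ Q : FunFld.Place k K, Q.ord x =
      (if P = Q then 1 else 0) - (if P' = Q then 1 else 0) := fun Q => by
    rw [← div_apply hK.1, ← h, Finsupp.sub_apply, Finsupp.single_apply, Finsupp.single_apply]
  have hP'ord : P'.ord x = -1 := by rw [hd, if_neg hne, if_pos rfl]; norm_num
  have htop := adjoin_eq_top_of_pole hK.1 hP' hP'ord fun Q hQ => by
    rw [hd, if_neg (Ne.symm hQ)]; split <;> norm_num
  have := (genus_eq_zero_of_adjoin hK htop).1
  omega

end Groth.Agent.S10996
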