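import Groth.Statements.S10997
import Groth.Agent.FFLib.Rational

set_option autoImplicit false
open FunFld Groth.Agent.FFLib WithZero

namespace Groth.Agent.S10997

/-- Given distinct places `P∞, P_1, …, P_n` of a function field of one variable, elements `x_i` and
integers `m_i`, some `x ∈ K` has `ord_{P_i}(x - x_i) = m_i` for all `i` and is integral outside
`{P∞, P_1, …, P_n}`. -/
theorem result (k K : Type*) [Field k] [Field K] [Algebra k K]
    (hK : FunFld.IsFunctionField k K) (Pinf : FunFld.Place k K) (n : ℕ) (P : Fin n → FunFld.Place k K) (hP : Function.Injective P)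
    (hinf : Pinf ∉ Set.range P) (x : Fin n → K) (m : Fin n → ℤ) :
    ∃ y : K, (∀ i, (P i).1 (y - x i) = WithZero.exp (-(m i))) ∧
      ∀ Q : FunFld.Place k K, Q ≠ Pinf → Q ∉ Set.range P → Q.1 y ≤ 1 := by
  classical
  have hF := hK.1
  obtain ⟨N, hN⟩ := exists_riemann_eq hK
  choose t ht0 ht using fun i => exists_val_eq_exp (P i) (-(m i))
  let E₀ : FunFld.Divisor k K := ∑ i, Finsupp.single (P i) (-(m i) - 1)
  let c : ℕ := (N - E₀.deg).toNat
  let E : FunFld.Divisor k K := E₀ + Finsupp.single Pinf (c : ℤ)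
  have hdeg : N ≤ E.deg := by
    rw [Divisor.deg_add, Divisor.deg_single]
    have := deg_pos hF Pinf
    have h1 : N - E₀.deg ≤ c := Int.self_le_toNat _
    have h2 : (c : ℤ) * 1 ≤ c * Pinf.deg := mul_le_mul_of_nonneg_left (by omega) (by omega)
    omega
  have hEi : ∀ i, E (P i) = -(m i) - 1 := fun i => by
    simp only [E, E₀, Finsupp.add_apply, Finsupp.finsetSum_apply]
    rw [Finset.sum_eq_single i (fun j _ hj => by simp [hP.ne hj]) (by simp),
      Finsupp.single_eq_same, Finsupp.single_apply, if_neg (fun h => hinf ⟨i, h.symm⟩), add_zero]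
  have hEQ : ∀ Q, Q ≠ Pinf → Q ∉ Set.range P → E Q = 0 := fun Q h1 h2 => by
    simp only [E, E₀, Finsupp.add_apply, Finsupp.finsetSum_apply]
    rw [Finset.sum_eq_zero fun j _ => by rw [Finsupp.single_apply, if_neg fun h => h2 ⟨j, h⟩],
      Finsupp.single_apply, if_neg (Ne.symm h1), add_zero]
  let a : FunFld.Place k K → K :=
    fun Q => if h : ∃ i, P i = Q then x h.choose + t h.choose else 0
  have hai : ∀ i, a (P i) = x i + t i := fun i => by
    have h : ∃ j, P j = P i := ⟨i, rfl⟩
    simp only [a, dif_pos h]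
    rw [hP h.choose_spec]
  have ha0 : ∀ Q, Q ∉ Set.range P → a Q = 0 := fun Q hQ => dif_neg hQ
  have ha : a ∈ FunFld.adele k K := by
    rw [mem_adele]
    refine (Set.finite_range P).subset fun Q hQ => ?_
    by_contra hn
    simp [ha0 Q hn] at hQ
  have hm : a ∈ SD E := by
    rw [SD_eq_adele hK (by have := hN E hdeg; omega)]; exact ha
  obtain ⟨b, hb, d, ⟨y, rfl⟩, hby⟩ := Submodule.mem_sup.mp hm
  have hy : ∀ Q, y = a Q - b Q := fun Q => by rw [← hby]; simp [diag_apply]
  refine ⟨y, fun i => ?_, fun Q h1 h2 => ?_⟩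
  · have hlt : (P i).1 (-b (P i)) < (P i).1 (t i) := by
      rw [Valuation.map_neg, ht, lt_exp_iff_le_exp_pred]
      have := hb (P i)
      rwa [hEi] at this
    rw [hy (P i), hai, show x i + t i - b (P i) - x i = t i + -b (P i) by ring,
      Valuation.map_add_eq_of_lt_left _ hlt, ht]
  · have := hb Q
    rw [hEQ Q h1 h2, exp_zero] at this
    rw [hy Q, ha0 Q h2, zero_sub, Valuation.map_neg]
    exact this

end Groth.Agent.S10997
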