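import Groth.Statements.S10998
import Groth.Agent.FFLib.Elliptic

set_option autoImplicit false
open FunFld Groth.Agent.FFLib WithZero

namespace Groth.Agent.S10998

/-- A genus-one function field with a place `P₀` of degree one is `k(x, y)` with `x ∈ L(2P₀)`, `y ∈
L(3P₀)` of pole orders `2` and `3`, and `y² + f(x) y + g(x) = 0` for polynomials `f` of degree `≤ 1`
and `g` of degree `3`. -/
theorem result (k K : Type*) [Field k] [Field K] [Algebra k K]
    (hK : FunFld.IsFunctionField k K) (hg : FunFld.genus k K = 1) (P₀ : FunFld.Place k K) (hP : P₀.deg = 1) :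
    ∃ x y : K, x ∈ FunFld.L (Finsupp.single P₀ 2) ∧ y ∈ FunFld.L (Finsupp.single P₀ 3) ∧
      P₀.ord x = -2 ∧ P₀.ord y = -3 ∧
      IntermediateField.adjoin k ({x, y} : Set K) = ⊤ ∧
      ∃ f g : Polynomial k, f.natDegree ≤ 1 ∧ g.natDegree = 3 ∧
        y ^ 2 + Polynomial.aeval x f * y + Polynomial.aeval x g = 0 := by
  classical
  have hgap : ∀ m : ℕ, 2 ≤ m → ¬ IsGap P₀ m := fun m hm h => by
    obtain ⟨j, rfl⟩ : ∃ j, m = j + 1 := ⟨m - 1, by omega⟩
    have h1 := (isGap_succ_iff hK P₀ j).mp h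
    have h2 := ell_single_of_genus_one hK hg hP (n := j + 1) (by omega)
    have h3 := ell_single_of_genus_one hK hg hP (n := j) (by omega)
    push_cast at h2
    omega
  obtain ⟨x, hx, hx0, hxo⟩ := exists_ord_of_not_gap hK (by omega : (1 : ℕ) ≤ 2) (hgap 2 le_rfl)
  obtain ⟨y, hy, hy0, hyo⟩ := exists_ord_of_not_gap hK (by omega : (1 : ℕ) ≤ 3) (hgap 3 (by omega))
  push_cast at hx hxo hy hyo
  have hpoles : ∀ (z : K) (c : ℤ), 0 ≤ c → z ∈ FunFld.L (Finsupp.single P₀ c) → z ≠ 0 →
      P₀.ord z = -c → (poles z : FunFld.Divisor k K) = Finsupp.single P₀ c := fun z c hc hz hz0 hzo => by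
    ext Q
    rw [poles, Finsupp.mapRange_apply, div_apply hK.1]
    have := (mem_L_iff_ord hz0).mp hz Q
    rcases eq_or_ne Q P₀ with rfl | hQ
    · simp [hzo, hc]
    · simp [hQ, Ne.symm hQ] at this ⊢
      omega
  refine ⟨x, y, hx, hy, hxo, hyo, ?_, ?_⟩
  · have htx := transcendental_of_ord_ne_zero P₀ (x := x) (by omega)
    have hty := transcendental_of_ord_ne_zero P₀ (x := y) (by omega)
    have := IsFF.finite_adjoin hK.1 htx
    have h2 := deg_poles hK.1 htx
    rw [hpoles x 2 (by norm_num) hx hx0 hxo, Divisor.deg_single, hP] at h2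
    have h3 := deg_poles hK.1 hty
    rw [hpoles y 3 (by norm_num) hy hy0 hyo, Divisor.deg_single, hP] at h3
    set F := IntermediateField.adjoin k ({x, y} : Set K)
    have d2 : Module.finrank F K ∣ Module.finrank (IntermediateField.adjoin k ({x} : Set K)) K :=
      IntermediateField.finrank_dvd_of_le_left (IntermediateField.adjoin.mono _ _ _ (by simp))
    have d3 : Module.finrank F K ∣ Module.finrank (IntermediateField.adjoin k ({y} : Set K)) K :=
      IntermediateField.finrank_dvd_of_le_left (IntermediateField.adjoin.mono _ _ _ (by simp))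
    have e2 : Module.finrank (IntermediateField.adjoin k ({x} : Set K)) K = 2 := by omega
    have e3 : Module.finrank (IntermediateField.adjoin k ({y} : Set K)) K = 3 := by omega
    rw [e2] at d2
    rw [e3] at d3
    have hone : Module.finrank F K = 1 := Nat.dvd_one.mp ((Nat.dvd_gcd d2 d3).trans (by norm_num))
    rw [eq_top_iff]
    intro z _
    obtain ⟨c, hc⟩ := (finrank_eq_one_iff_of_nonzero' (1 : K) one_ne_zero).mp hone z
    rw [← hc, IntermediateField.smul_def, smul_eq_mul, mul_one]
    exact c.2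
  · obtain ⟨-, hspan⟩ := basis_L hK hg hP hx hxo hy hyo (n := 6) (by norm_num)
    have hy2 : y ^ 2 ∈ FunFld.L (Finsupp.single P₀ ((6 : ℕ) : ℤ)) := by
      have := mul_mem_L hy hy
      rw [← Finsupp.single_add] at this
      rw [sq]; exact this
    rw [← hspan, Submodule.mem_span_range_iff_exists_fun] at hy2
    obtain ⟨c, hc⟩ := hy2
    have hc' : (∑ i : Fin 4, c (Sum.inl i) • x ^ (i : ℕ)) +
        ∑ i : Fin 2, c (Sum.inr i) • (x ^ (i : ℕ) * y) = y ^ 2 := by
      rw [← hc, Fintype.sum_sum_type]; rfl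
    simp only [Fin.sum_univ_four, Fin.sum_univ_two, Algebra.smul_def] at hc'
    set a0 := c (Sum.inl (0 : Fin 4))
    set a1 := c (Sum.inl (1 : Fin 4))
    set a2 := c (Sum.inl (2 : Fin 4))
    set a3 := c (Sum.inl (3 : Fin 4))
    set b0 := c (Sum.inr (0 : Fin 2))
    set b1 := c (Sum.inr (1 : Fin 2))
    have ha3 : a3 ≠ 0 := by
      intro h0
      have hm : y ^ 2 ∈ FunFld.L (Finsupp.single P₀ ((5 : ℕ) : ℤ)) := by
        rw [← (basis_L hK hg hP hx hxo hy hyo (n := 5) (by norm_num)).2, ← hc']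
        rw [h0, map_zero, zero_mul, add_zero]
        simp only [← Algebra.smul_def]
        refine add_mem (add_mem (add_mem ?_ ?_) ?_) (add_mem ?_ ?_)
        · exact Submodule.smul_mem _ _ (Submodule.subset_span ⟨Sum.inl ⟨0, by norm_num⟩, by simp⟩)
        · exact Submodule.smul_mem _ _ (Submodule.subset_span ⟨Sum.inl ⟨1, by norm_num⟩, by simp⟩)
        · exact Submodule.smul_mem _ _ (Submodule.subset_span ⟨Sum.inl ⟨2, by norm_num⟩, by simp⟩)
        · exact Submodule.smul_mem _ _ (Submodule.subset_span ⟨Sum.inr ⟨0, by norm_num⟩, by simp⟩)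
        · exact Submodule.smul_mem _ _ (Submodule.subset_span ⟨Sum.inr ⟨1, by norm_num⟩, by simp⟩)
      have := (mem_L_iff_ord (pow_ne_zero _ hy0)).mp hm P₀
      rw [ord_pow, hyo] at this
      simp at this
    open Polynomial in
    refine ⟨-(C b0 + C b1 * X), -(C a0 + C a1 * X + C a2 * X ^ 2 + C a3 * X ^ 3), ?_, ?_, ?_⟩
    · rw [Polynomial.natDegree_neg, add_comm]; exact Polynomial.natDegree_linear_le
    · rw [Polynomial.natDegree_neg]
      refine le_antisymm (by compute_degree) (Polynomial.le_natDegree_of_ne_zero ?_)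
      simp [Polynomial.coeff_C, Polynomial.coeff_X, ha3]
    · simp only [map_neg, map_add, map_mul, map_pow, Polynomial.aeval_C, Polynomial.aeval_X]
      simp only [Fin.val_zero, Fin.val_one, Fin.val_two, pow_zero, pow_one, mul_one, one_mul] at hc'
      have e3 : ((3 : Fin 4) : ℕ) = 3 := rfl
      rw [e3] at hc'
      linear_combination -hc'

end Groth.Agent.S10998
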