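import Groth.Statements.S10999
import Groth.Agent.FFLib.Small

set_option autoImplicit false
open FunFld Groth.Agent.FFLib WithZero

namespace Groth.Agent.S10999

/-- In a genus-one function field with a place `P₀` of degree one, `P ↦ P - P₀` is a bijection from the
places of degree one onto the divisor classes of degree zero. The geometric description of the group
law is not stated. -/
theorem result (k K : Type*) [Field k] [Field K] [Algebra k K]
    (hK : FunFld.IsFunctionField k K) (hg : FunFld.genus k K = 1) (P₀ : FunFld.Place k K) (hP : P₀.deg = 1)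
    (D : FunFld.Divisor k K) (hD : D.deg = 0) :
    ∃! P : FunFld.Place k K, P.deg = 1 ∧
      ∃ x : K, x ≠ 0 ∧ D = Finsupp.single P 1 - Finsupp.single P₀ 1 + FunFld.div k x := by
  classical
  have h1 := ell_of_deg_gt hK (D := D + Finsupp.single P₀ 1) (by
    rw [Divisor.deg_add, Divisor.deg_single, hD, hP, hg]; norm_num)
  rw [Divisor.deg_add, Divisor.deg_single, hD, hP, hg] at h1
  obtain ⟨P, z, hPd, hz0, hz⟩ := exists_single_of_deg_one hK.1 (E := D + Finsupp.single P₀ 1)
    (by rw [Divisor.deg_add, Divisor.deg_single, hD, hP]; norm_num) (by omega)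
  have hD' : D = Finsupp.single P 1 - Finsupp.single P₀ 1 + FunFld.div k z⁻¹ := by
    rw [div_inv hK.1, ← hz]; abel
  refine ⟨P, ⟨hPd, z⁻¹, inv_ne_zero hz0, hD'⟩, ?_⟩
  rintro P' ⟨hP'd, w, hw0, hw⟩
  by_contra hne
  let u : K := z⁻¹ * w⁻¹
  have hu : ∀ Q : FunFld.Place k K, Q.ord u =
      (if P' = Q then 1 else 0) - (if P = Q then 1 else 0) := fun Q => by
    have e := congrArg (fun D : FunFld.Divisor k K => D Q) (hD'.symm.trans hw)
    simp only [u, Finsupp.add_apply, Finsupp.sub_apply, div_apply hK.1, Finsupp.single_apply] at e ⊢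
    rw [ord_mul Q (inv_ne_zero hz0) (inv_ne_zero hw0), ord_inv Q w]
    omega
  have hPord : P.ord u = -1 := by rw [hu, if_neg hne, if_pos rfl]; norm_num
  have htop := adjoin_eq_top_of_pole hK.1 hPd hPord fun Q hQ => by
    rw [hu, if_neg (Ne.symm hQ)]; split <;> norm_num
  have := (genus_eq_zero_of_adjoin hK htop).1
  omega

end Groth.Agent.S10999
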