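import Groth.Statements.S11001
import Groth.Agent.FFLib.Geometric

set_option autoImplicit false
open Groth.Agent
universe u v
open FunFld

namespace Groth.Agent.S11001

/-- For a geometric function field of one variable `K/k` of characteristic `p > 0`, `[K : kK^p] = p`. -/
theorem result (k : Type u) (K : Type v) [Field k] [Field K] [Algebra k K] (p : ℕ) [Fact p.Prime] [CharP K p]
    (hK : FunFld.IsFunctionField k K) (hg : FunFld.IsGeometric k K) :
    Module.finrank (IntermediateField.adjoin k (Set.range fun y : K => y ^ p)) K = p := by
  obtain ⟨x, hx, hsep⟩ := FFLib.exists_separating_element hK hg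
  exact (FFLib.powField_facts p hK hx hsep).1

end Groth.Agent.S11001
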