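import Groth.Statements.S11005
import Groth.Agent.FFLib.Geometric

set_option autoImplicit false
open Groth.Agent
universe u v
open FunFld

namespace Groth.Agent.S11005

/-- An intermediate field `K₀` of a geometric function field of one variable `K/k` that is
transcendental over `k` is again a geometric function field of one variable over `k`. -/
theorem result (k : Type u) (K : Type v) [Field k] [Field K] [Algebra k K]
    (hK : FunFld.IsFunctionField k K) (hg : FunFld.IsGeometric k K) (K₀ : IntermediateField k K)
    (h₀ : ∃ x ∈ K₀, Transcendental k x) : FunFld.IsFunctionField k K₀ ∧ FunFld.IsGeometric k K₀ := by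
  obtain ⟨x, hx0, hx⟩ := h₀
  have hx' : Transcendental k (⟨x, hx0⟩ : K₀) := fun h => hx (h.algHom K₀.val)
  haveI := FFLib.IsFF.finite_adjoin hK.1 hx
  have hle : IntermediateField.adjoin k ({x} : Set K) ≤ K₀ :=
    IntermediateField.adjoin_simple_le_iff.mpr hx0
  refine ⟨⟨⟨⟨x, hx0⟩, hx', ?_⟩, fun y hy => ?_⟩, fun k' _ _ hfin => ?_⟩
  · letI := (IntermediateField.inclusion hle).toRingHom.toAlgebra
    haveI : IsScalarTower (IntermediateField.adjoin k ({x} : Set K)) K₀ K :=
      IsScalarTower.of_algebraMap_eq fun _ => rfl
    haveI hf : FiniteDimensional (IntermediateField.adjoin k ({x} : Set K)) K₀ :=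
      FiniteDimensional.left _ K₀ K
    let e : IntermediateField.adjoin k ({(⟨x, hx0⟩ : K₀)} : Set K₀) ≃+*
        IntermediateField.adjoin k ({x} : Set K) :=
      ((IntermediateField.equivMap _ K₀.val).trans (IntermediateField.equivOfEq (by
        rw [IntermediateField.adjoin_map, Set.image_singleton]; rfl))).toRingEquiv
    exact Module.Finite.of_equiv_equiv e.symm (RingEquiv.refl K₀) (RingHom.ext fun z => by
      obtain ⟨w, rfl⟩ := e.surjective z
      refine Subtype.ext ?_
      simp only [RingHom.comp_apply]
      rw [show ((e.symm : _ →+* _) (e w)) = w from e.symm_apply_apply w]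
      rfl)
  · obtain ⟨c, hc⟩ := hK.2 (y : K) (hy.algHom K₀.val)
    exact ⟨c, Subtype.ext hc⟩
  · let f := Algebra.TensorProduct.map (AlgHom.id k k') K₀.val
    have hinj : Function.Injective f :=
      Module.Flat.lTensor_preserves_injective_linearMap (M := k') K₀.val.toLinearMap K₀.val.injective
    haveI : IsDomain (TensorProduct k k' K) := (hg k' hfin).isDomain
    haveI : IsDomain (TensorProduct k k' K₀) := hinj.isDomain f.toRingHom
    haveI := hfin
    haveI : Algebra.IsIntegral K₀ (TensorProduct k K₀ k') := Algebra.IsIntegral.of_finite _ _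
    haveI : IsDomain (TensorProduct k K₀ k') :=
      (Algebra.TensorProduct.comm k K₀ k').toMulEquiv.isDomain (TensorProduct k k' K₀)
    exact MulEquiv.isField (isField_of_isIntegral_of_isField' (R := K₀) (Field.toIsField K₀))
      (Algebra.TensorProduct.comm k k' K₀).toMulEquiv

end Groth.Agent.S11005
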