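import Groth.Statements.S11006
import Groth.Agent.FFLib.Diff.ScalarExt

set_option autoImplicit false
open Groth.Agent
universe u v
open FunFld

namespace Groth.Agent.S11006

/-- For `K/k` a geometric function field of one variable and `k'/k` finite, the field `K' = k' ⊗_k K` is
a geometric function field of one variable over `k'`: some element of `K'` is transcendental over
`k'` with `K'` of finite degree over the subfield it generates over `k'`, `k'` is algebraically
closed in `K'`, and `K'` stays a field after tensoring over `k'` with any finite field extension of
`k'`. -/
theorem result (k k' : Type u) (K K' : Type v) [Field k] [Field k'] [Field K] [Field K']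
    [Algebra k k'] [FiniteDimensional k k'] [Algebra k K] [Algebra K K'] [Algebra k' K'] [Algebra k K']
    [IsScalarTower k k' K'] [IsScalarTower k K K']
    (h : Function.Bijective (Algebra.TensorProduct.productMap
      (IsScalarTower.toAlgHom k k' K') (IsScalarTower.toAlgHom k K K')))
    (hK : FunFld.IsFunctionField k K) (hg : FunFld.IsGeometric k K) :
    FunFld.IsFunctionField k' K' ∧ FunFld.IsGeometric k' K' := by
  exact FFLib.isFunctionField_scalar_ext h hK hg

end Groth.Agent.S11006
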