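import Groth.Statements.S11007
import Groth.Agent.FFLib.Geometric

set_option autoImplicit false
open Groth.Agent
universe u v
open FunFld

namespace Groth.Agent.S11007

/-- In a geometric function field of one variable of characteristic `p > 0`, `kK^p` is the only
intermediate field over which `K` is purely inseparable of degree `p`. The companion assertion about
the natural map on Kähler differentials is not stated. -/
theorem result (k : Type u) (K : Type v) [Field k] [Field K] [Algebra k K] (p : ℕ) [Fact p.Prime] [CharP K p]
    (hK : FunFld.IsFunctionField k K) (hg : FunFld.IsGeometric k K) (K₀ : IntermediateField k K) :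
    (IsPurelyInseparable K₀ K ∧ Module.finrank K₀ K = p) ↔ K₀ = IntermediateField.adjoin k (Set.range fun y : K => y ^ p) := by
  obtain ⟨x, hx, hsep⟩ := FFLib.exists_separating_element hK hg
  obtain ⟨hfin, -, -⟩ := FFLib.powField_facts p hK hx hsep
  have hp : p.Prime := Fact.out
  haveI : ExpChar K p := .prime hp
  constructor
  · rintro ⟨hpi, hdeg⟩
    haveI := hpi
    haveI : ExpChar K₀ p := (algebraMap K₀ K).expChar (algebraMap K₀ K).injective p
    haveI : FiniteDimensional K₀ K := Module.finite_of_finrank_pos (by rw [hdeg]; exact hp.pos)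
    have hle : IntermediateField.adjoin k (Set.range fun y : K => y ^ p) ≤ K₀ := by
      rw [IntermediateField.adjoin_le_iff]
      rintro _ ⟨a, rfl⟩
      obtain ⟨n, c, hc⟩ := IsPurelyInseparable.minpoly_eq_X_pow_sub_C K₀ p a
      have hd := minpoly.natDegree_le (A := K₀) a
      rw [hc, Polynomial.natDegree_X_pow_sub_C, hdeg] at hd
      have hn : n ≤ 1 := (Nat.pow_le_pow_iff_right hp.one_lt).mp (hd.trans_eq (pow_one p).symm)
      have h0 := minpoly.aeval K₀ a
      rw [hc, map_sub, map_pow, Polynomial.aeval_X, Polynomial.aeval_C, sub_eq_zero] at h0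
      show a ^ p ∈ K₀
      have h1 : a ^ p ^ n ∈ K₀ := h0 ▸ c.2
      interval_cases n
      · rw [pow_zero, pow_one] at h1; exact pow_mem h1 p
      · rwa [pow_one] at h1
    haveI : FiniteDimensional (IntermediateField.adjoin k (Set.range fun y : K => y ^ p)) K :=
      Module.finite_of_finrank_pos (by rw [show Module.finrank _ K = p from hfin]; exact hp.pos)
    exact (IntermediateField.eq_of_le_of_finrank_eq' hle (hfin.trans hdeg.symm)).symm
  · rintro rfl
    refine ⟨?_, hfin⟩
    haveI : ExpChar (IntermediateField.adjoin k (Set.range fun y : K => y ^ p)) p :=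
      (algebraMap (IntermediateField.adjoin k (Set.range fun y : K => y ^ p)) K).expChar
        (algebraMap (IntermediateField.adjoin k (Set.range fun y : K => y ^ p)) K).injective p
    rw [isPurelyInseparable_iff_pow_mem _ p]
    exact fun a => ⟨1, ⟨⟨a ^ p, IntermediateField.subset_adjoin _ _ ⟨a, rfl⟩⟩, by simp⟩⟩

end Groth.Agent.S11007
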