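import Groth.Statements.S11008
import Groth.Agent.FFLib.AbsIrred

set_option autoImplicit false
universe u v
open scoped IntermediateField.algebraAdjoinAdjoin TensorProduct
open FunFld

namespace Groth.Agent.S11008

open Groth.Agent

/-- `K/k` is a geometric function field of one variable iff `K = k(x, y)` where the relation ideal of
`(x, y)` in `k[X, Y]` is generated by an absolutely irreducible polynomial `f`. -/
theorem result (k : Type u) (K : Type v) [Field k] [Field K] [Algebra k K] :
    (FunFld.IsFunctionField k K ∧ FunFld.IsGeometric k K) ↔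
      ∃ (x y : K) (f : MvPolynomial (Fin 2) k),
        IntermediateField.adjoin k ({x, y} : Set K) = ⊤ ∧
        (∀ (k' : Type u) [Field k'] [Algebra k k'], FiniteDimensional k k' →
          Irreducible (MvPolynomial.map (algebraMap k k') f)) ∧
        RingHom.ker (MvPolynomial.aeval ![x, y] : MvPolynomial (Fin 2) k →ₐ[k] K) = Ideal.span {f} := by

  classical
  have hrange : ∀ x y : K, Set.range ![x, y] = {x, y} := fun x y => by simp [Matrix.range_cons, Set.pair_comm]
  constructor
  · rintro ⟨hK, hg⟩
    obtain ⟨x, hx, hsep⟩ := FFLib.exists_separating_element hK hg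
    haveI := FFLib.IsFF.finite_adjoin hK.1 hx
    obtain ⟨y, hy⟩ := Field.exists_primitive_element (IntermediateField.adjoin k ({x} : Set K)) K
    have hxy : IntermediateField.adjoin k ({x, y} : Set K) = ⊤ := by
      have h := congrArg (IntermediateField.restrictScalars k) hy
      rw [IntermediateField.restrictScalars_top, IntermediateField.adjoin_adjoin_left, Set.singleton_union] at h
      exact h
    haveI : (RingHom.ker (MvPolynomial.aeval ![x, y] : MvPolynomial (Fin 2) k →ₐ[k] K)).IsPrime := RingHom.ker_isPrime _
    obtain ⟨f, hf, hker⟩ := FFLib.exists_principal (P := RingHom.ker (MvPolynomial.aeval ![x, y] : MvPolynomial (Fin 2) k →ₐ[k] K))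
      (fun h => FFLib.not_algebraicIndependent_pair hK x y
        ((RingHom.injective_iff_ker_eq_bot _).mpr h))
      (fun h => hx (FFLib.isAlgebraic_of_ker_isMaximal ![x, y] h 0))
    refine ⟨x, y, f, hxy, fun k' _ _ hfin => ?_, hker⟩
    exact FFLib.irreducible_map_ext ![x, y] k' hker hf.ne_zero (hg k' hfin)
  · rintro ⟨x, y, f, hxy, hirr, hker⟩
    have hgen : IntermediateField.adjoin k (Set.range ![x, y]) = ⊤ := by rw [hrange]; exact hxy
    have hf : Irreducible f := by
      have h := hirr k inferInstance
      rwa [Algebra.algebraMap_self, MvPolynomial.map_id] at h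
    have htr : Transcendental k x ∨ Transcendental k y := by
      by_contra! hall
      have hdeg : ∀ i : Fin 2, f.degreeOf i = 0 := fun i => by
        obtain ⟨j, hji⟩ : ∃ j : Fin 2, j ≠ i := (by decide : ∀ i : Fin 2, ∃ j : Fin 2, j ≠ i) i
        have halg : IsAlgebraic k (![x, y] j) := by
          fin_cases j
          · exact not_not.mp hall.1
          · exact not_not.mp hall.2
        obtain ⟨p, hp0, hp⟩ := halg
        have hPne : Polynomial.aeval (MvPolynomial.X j : MvPolynomial (Fin 2) k) p ≠ 0 := fun h =>
          MvPolynomial.transcendental_X (R := k) j ⟨p, hp0, h⟩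
        obtain ⟨q, hq⟩ : f ∣ Polynomial.aeval (MvPolynomial.X j : MvPolynomial (Fin 2) k) p := by
          rw [← Ideal.mem_span_singleton, ← hker, RingHom.mem_ker, ← Polynomial.aeval_algHom_apply,
            MvPolynomial.aeval_X]
          exact hp
        have h0 : (Polynomial.aeval (MvPolynomial.X j : MvPolynomial (Fin 2) k) p).degreeOf i = 0 := by
          refine Nat.le_zero.mp ?_
          clear hq hPne hp hp0
          induction p using Polynomial.induction_on with
          | C c => simp [MvPolynomial.algebraMap_eq, MvPolynomial.degreeOf_C]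
          | add p r hp hr => rw [map_add]; exact (MvPolynomial.degreeOf_add_le i _ _).trans (max_le hp hr)
          | monomial n c _ =>
            rw [map_mul, map_pow, Polynomial.aeval_C, Polynomial.aeval_X, MvPolynomial.algebraMap_eq]
            exact (MvPolynomial.degreeOf_mul_le i _ _).trans (le_of_eq (by
              rw [MvPolynomial.degreeOf_C, zero_add]
              exact Nat.le_zero.mp ((MvPolynomial.degreeOf_pow_le _ _ _).trans (by
                simp [MvPolynomial.degreeOf_X_of_ne hji.symm]))))
        rw [hq, MvPolynomial.degreeOf_mul_eq hf.ne_zero (fun e => hPne (by rw [hq, e, mul_zero]))] at h0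
        omega
      have htd : f.totalDegree = 0 := (MvPolynomial.totalDegree_eq_zero_iff (p := f)).mpr fun m hm i =>
        Nat.le_zero.mp (hdeg i ▸ MvPolynomial.monomial_le_degreeOf i hm)
      obtain hC := MvPolynomial.totalDegree_eq_zero_iff_eq_C.mp htd
      refine hf.not_isUnit (hC ▸ (Ne.isUnit fun h0 => hf.ne_zero ?_).map MvPolynomial.C)
      rw [hC, h0, map_zero]
    have hdep : ¬ AlgebraicIndependent k ![x, y] := fun h => hf.ne_zero (by
      have hb := (RingHom.injective_iff_ker_eq_bot _).mp h
      rw [hker, Ideal.span_singleton_eq_bot] at hb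
      exact hb)
    have key : ∀ a b : K, Transcendental k a → IntermediateField.adjoin k ({a, b} : Set K) = ⊤ →
        ¬ AlgebraicIndependent k ![a, b] → FiniteDimensional (IntermediateField.adjoin k ({a} : Set K)) K := by
      intro a b ha hab hd
      have halg : IsAlgebraic (IntermediateField.adjoin k ({a} : Set K)) b := by
        by_contra hb
        refine hd ?_
        have hb' : Transcendental (Algebra.adjoin k (Set.range fun _ : Fin 1 => a)) b := fun h => hb (by
          rw [Set.range_const] at h
          exact (IsFractionRing.isAlgebraic_iff (Algebra.adjoin k ({a} : Set K))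
            (IntermediateField.adjoin k ({a} : Set K)) K).mp h)
        have h := ((algebraicIndependent_unique_type_iff.mpr ha).option_iff_transcendental b).mpr hb'
        have h' := h.comp (fun i : Fin 2 => (![some 0, none] : Fin 2 → Option (Fin 1)) i)
          (by intro i j; fin_cases i <;> fin_cases j <;> simp)
        convert h' using 1
        funext i; fin_cases i <;> rfl
      haveI := IntermediateField.adjoin.finiteDimensional halg.isIntegral
      have htop : IntermediateField.adjoin (IntermediateField.adjoin k ({a} : Set K)) ({b} : Set K) = ⊤ := by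
        apply IntermediateField.restrictScalars_injective k
        rw [IntermediateField.restrictScalars_top, IntermediateField.adjoin_adjoin_left, Set.singleton_union]
        exact hab
      exact Module.Finite.equiv ((IntermediateField.equivOfEq htop).trans IntermediateField.topEquiv).toLinearEquiv
    have hgeo : FunFld.IsGeometric k K := by
      intro k' _ _ hfin
      haveI := FFLib.noZeroDivisors_ext ![x, y] k' hker hgen (hirr k' hfin)
      let e := (Algebra.TensorProduct.comm k K k').toRingEquiv
      haveI : NoZeroDivisors (K ⊗[k] k') :=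
        e.injective.noZeroDivisors _ (map_zero e) (map_mul e)
      haveI : Nontrivial (K ⊗[k] k') :=
        (Algebra.TensorProduct.includeLeft_injective (R := k) (S := k) (A := K) (B := k')
          (algebraMap k k').injective).nontrivial
      haveI : IsDomain (K ⊗[k] k') := NoZeroDivisors.to_isDomain _
      haveI : Algebra.IsIntegral K (K ⊗[k] k') := Algebra.IsIntegral.of_finite _ _
      exact e.symm.toMulEquiv.isField (isField_of_isIntegral_of_isField' (R := K) (Field.toIsField K))
    refine ⟨⟨?_, fun c hc => ?_⟩, hgeo⟩
    · rcases htr with h | h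
      · exact ⟨x, h, key x y h hxy hdep⟩
      · refine ⟨y, h, key y x h (by rw [Set.pair_comm]; exact hxy) fun h' => hdep ?_⟩
        have h'' := h'.comp ![1, 0] (by intro i j; fin_cases i <;> fin_cases j <;> simp)
        convert h'' using 1
        funext i; fin_cases i <;> rfl
    · by_contra hcr
      let F := AdjoinRoot (minpoly k c)
      haveI : Fact (Irreducible (minpoly k c)) := ⟨minpoly.irreducible hc.isIntegral⟩
      haveI : FiniteDimensional k F := (AdjoinRoot.powerBasis (minpoly.ne_zero hc.isIntegral)).finite
      let g : F := AdjoinRoot.root (minpoly k c)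
      let ψ : F →ₐ[k] K := (IntermediateField.adjoin k ({c} : Set K)).val.comp
        (IntermediateField.adjoinRootEquivAdjoin k hc.isIntegral).toAlgHom
      have hψ : ψ g = c := by
        show ((IntermediateField.adjoinRootEquivAdjoin k hc.isIntegral) (AdjoinRoot.root (minpoly k c)) : K) = c
        rw [IntermediateField.adjoinRootEquivAdjoin_apply_root, IntermediateField.AdjoinSimple.coe_gen]
      have hne : ∀ a : k, algebraMap k F a ≠ g := fun a h => hcr ⟨a, by rw [← hψ, ← h, AlgHom.commutes]⟩
      obtain ⟨φ, hφ1, hφg⟩ : ∃ φ : F →ₗ[k] k, φ 1 = 0 ∧ φ g = 1 := by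
        have hg : g ∉ Submodule.span k ({1} : Set F) := fun h => by
          obtain ⟨a, ha⟩ := Submodule.mem_span_singleton.mp h
          exact hne a (by rw [Algebra.algebraMap_eq_smul_one]; exact ha)
        obtain ⟨φ, h1, h0⟩ := Submodule.exists_dual_map_eq_bot_of_notMem hg inferInstance
        refine ⟨(φ g)⁻¹ • φ, ?_, by simp [inv_mul_cancel₀ h1]⟩
        have := (Submodule.eq_bot_iff _).mp h0 _ ⟨1, Submodule.mem_span_singleton_self _, rfl⟩
        simp [this]
      letI := (hgeo F inferInstance).toField
      let m : F ⊗[k] K →ₐ[k] K := Algebra.TensorProduct.lift ψ (AlgHom.id k K) fun _ _ => Commute.all _ _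
      have heq : g ⊗ₜ[k] (1 : K) - (1 : F) ⊗ₜ[k] c = 0 :=
        m.toRingHom.injective (by simp [m, hψ])
      have := congrArg ((TensorProduct.lid k K).toLinearMap ∘ₗ TensorProduct.map φ LinearMap.id) heq
      simp [hφ1, hφg] at this

end Groth.Agent.S11008
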