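import Groth.Statements.S11013
import Groth.Agent.FFLib.Galois

set_option autoImplicit false
open FunFld Groth.Agent.FFLib WithZero

namespace Groth.Agent.S11013

/-- In a finite Galois extension `K'/K` of a geometric function field of one variable, the Galois group
acts transitively on the places of `K'` above a given place of `K`. -/
theorem result (k K K' : Type*) [Field k] [Field K] [Field K'] [Algebra k K] [Algebra K K'] [Algebra k K']
    [IsScalarTower k K K'] [FiniteDimensional K K'] (hK : FunFld.IsFunctionField k K) (hg : FunFld.IsGeometric k K) [IsGalois K K']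
    (Q₁ Q₂ : FunFld.Place k K')
    (h : (Q₁.1.comap (algebraMap K K')).IsEquiv (Q₂.1.comap (algebraMap K K'))) :
    ∃ σ : K' ≃ₐ[K] K', Q₁.1.comap (σ : K' →+* K') = Q₂.1 := by
  obtain ⟨P, e, -, he⟩ := exists_over hK.1 Q₁
  obtain ⟨P', e', he'1, he'⟩ := exists_over hK.1 Q₂
  have hP : P' = P := place_eq_of_iff fun x => by
    have h1 : Q₁.1 (algebraMap K K' x) ≤ 1 ↔ Q₂.1 (algebraMap K K' x) ≤ 1 := h.le_one_iff_le_one
    rw [he x, he' x, pow_le_one_iff (by have := over_pos hK.1 he; omega),
      pow_le_one_iff (by omega)] at h1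
    exact h1.symm
  subst hP
  obtain ⟨σ, hσ⟩ := exists_conj hK.1 ⟨e, he⟩ ⟨e', he'⟩
  exact ⟨σ, congrArg Subtype.val hσ⟩

end Groth.Agent.S11013
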