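import Groth.Statements.S11016
import Groth.Agent.FFLib.Rational

set_option autoImplicit false
open FunFld Groth.Agent.FFLib WithZero

namespace Groth.Agent.S11016

/-- `L(D) ≠ 0` iff there is an effective divisor linearly equivalent to `D`. -/
theorem result (k K : Type*) [Field k] [Field K] [Algebra k K]
    (hK : FunFld.IsFunctionField k K) (D : FunFld.Divisor k K) :
    FunFld.L D ≠ ⊥ ↔ ∃ x : K, x ≠ 0 ∧ 0 ≤ D + FunFld.div k x := by
  constructor
  · intro h
    have := L_finite hK.1 D
    have hpos : 0 < FunFld.ell D := Nat.pos_of_ne_zero fun e => h (Submodule.finrank_eq_zero.mp e)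
    obtain ⟨z, hz, -, hz'⟩ := exists_le_add_div hK.1 hpos
    exact ⟨z, hz, hz'⟩
  · rintro ⟨x, hx, hle⟩ hb
    have hm : x ∈ FunFld.L D := (mem_L_iff_ord hx).mpr fun P => by
      have := hle P
      simp [div_apply hK.1] at this
      omega
    rw [hb] at hm
    exact hx hm

end Groth.Agent.S11016
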