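import Groth.Statements.S11017
import Groth.Agent.FFLib.Rational

set_option autoImplicit false
open FunFld Groth.Agent.FFLib WithZero

namespace Groth.Agent.S11017

/-- For a Weil differential `ω` with divisor `C`, `ord_P [ω] ≥ e` iff `ω` kills every repartition
concentrated at `P` with `P`-component of order at least `-e`. -/
theorem result (k K : Type*) [Field k] [Field K] [Algebra k K] (ω : Module.Dual k (FunFld.adele k K)) (C : FunFld.Divisor k K) (hω : FunFld.IsDivOf ω C)
    (P : FunFld.Place k K) (e : ℤ) :
    e ≤ C P ↔ ∀ (a : FunFld.Place k K → K) (ha : a ∈ FunFld.adele k K),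
      (∀ Q, Q ≠ P → a Q = 0) → P.1 (a P) ≤ WithZero.exp e → ω ⟨a, ha⟩ = 0 := by
  classical
  have hC := (hω C).mpr le_rfl
  constructor
  · intro he a ha h0 hP
    refine mem_WD.mp hC ⟨a, ha⟩ (Submodule.mem_sup_left fun Q => ?_)
    rcases eq_or_ne Q P with rfl | hQ
    · exact hP.trans (exp_le_exp.mpr he)
    · simp [h0 Q hQ]
  · intro h
    by_contra he
    have hE : ω ∈ FunFld.WD (C + Finsupp.single P (e - C P)) := by
      refine mem_WD.mpr fun a ha => ?_
      obtain ⟨b, hb, c, hc, hbc⟩ := Submodule.mem_sup.mp ha
      have hmem : (Pi.single P (b P) : FunFld.Place k K → K) ∈ FunFld.adele k K := by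
        rw [mem_adele]
        refine (Set.finite_singleton P).subset fun Q hQ => ?_
        by_contra hn
        simp [Pi.single_eq_of_ne (show Q ≠ P from hn)] at hQ
      have h1 := h _ hmem (fun Q hQ => Pi.single_eq_of_ne hQ _) (by simpa using hb P)
      have h2 : (a - ⟨_, hmem⟩ : FunFld.adele k K).1 ∈ SD C := by
        show a.1 - Pi.single P (b P) ∈ SD C
        rw [← hbc, add_sub_right_comm]
        refine add_mem (Submodule.mem_sup_left fun Q => ?_) (Submodule.mem_sup_right hc)
        rcases eq_or_ne Q P with rfl | hQ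
        · simp
        · simpa [hQ] using hb Q
      have h3 := mem_WD.mp hC _ h2
      rwa [map_sub, h1, sub_zero] at h3
    have := (hω _).mp hE P
    simp at this
    omega

end Groth.Agent.S11017
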