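import Groth.Statements.S11018
import Groth.Agent.FFLib.Ram.ConstExt

set_option autoImplicit false
open Groth.Agent
universe u v
open FunFld

namespace Groth.Agent.S11018

/-- Every place with separable residue field is nonsingular: for all finite `k'/k` the integral closure
of `O_P` in `k' ⊗_k K` is `k' ⊗_k O_P`. -/
theorem result (k k' : Type u) (K K' : Type v) [Field k] [Field k'] [Field K] [Field K']
    [Algebra k k'] [FiniteDimensional k k'] [Algebra k K] [Algebra K K'] [Algebra k' K'] [Algebra k K']
    [IsScalarTower k k' K'] [IsScalarTower k K K']
    (h : Function.Bijective (Algebra.TensorProduct.productMap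
      (IsScalarTower.toAlgHom k k' K') (IsScalarTower.toAlgHom k K K')))
    (hK : FunFld.IsFunctionField k K) (hg : FunFld.IsGeometric k K)
    (P : FunFld.Place k K) [Algebra.IsSeparable k (IsLocalRing.ResidueField P.O)]
    [Algebra P.O K'] [IsScalarTower P.O K K'] :
    (integralClosure P.O K').toSubring =
      (Algebra.adjoin P.O (Set.range (algebraMap k' K'))).toSubring := by
  exact (FFLib.constExt_left (FFLib.residue_finite hK.1 P) h hK.1 P (FFLib.resHom P) (fun a => FFLib.residue_eq_zero P a)).1

end Groth.Agent.S11018
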