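import Groth.Statements.S11021
import Groth.Agent.FFLib.Galois

set_option autoImplicit false
open FunFld Groth.Agent.FFLib WithZero

namespace Groth.Agent.S11021

/-- For a place `Q` above `P` in a finite Galois extension of a geometric function field of one
variable, the decomposition group has order `e(Q|P) f(Q|P)`; stated as `|G₀| · deg P = e · deg_k Q`. -/
theorem result (k K K' : Type*) [Field k] [Field K] [Field K'] [Algebra k K] [Algebra K K'] [Algebra k K']
    [IsScalarTower k K K'] [FiniteDimensional K K'] (hK : FunFld.IsFunctionField k K) (hg : FunFld.IsGeometric k K) [IsGalois K K'] (Q : FunFld.Place k K') (P : FunFld.Place k K) (e : ℕ) (he : FunFld.IsOverWith Q P e) :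
    Nat.card ((Q.O).decompositionSubgroup K) * P.deg = e * Q.deg := by
  have h1 := card_over_mul_stabilizer hK.1 (Q := Q) (P := P) ⟨e, he⟩
  have h2 := card_over_mul_ram_deg hK.1 he
  rw [← h1, mul_assoc] at h2
  refine (Nat.eq_of_mul_eq_mul_left ?_ h2).symm
  exact Nat.pos_of_ne_zero fun h0 => by
    rw [h0, zero_mul] at h1
    exact absurd h1.symm (Module.finrank_pos (R := K) (M := K')).ne'

end Groth.Agent.S11021
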