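import Groth.Statements.S11026
import Groth.Agent.FFLib.Geometric

set_option autoImplicit false
universe u v
open FunFld

namespace Groth.Agent.S11026

open Groth.Agent

/-- A weakly separable finite extension `K'/k'` of a geometric function field `K/k` (the map `Ω_{K/k} →
Ω_{K'/k'}` injective) is separable over the compositum `k'K`. -/
theorem result (k k' : Type u) (K K' : Type v) [Field k] [Field k'] [Field K] [Field K']
    [Algebra k k'] [Algebra k K] [Algebra K K'] [Algebra k' K'] [Algebra k K']
    [IsScalarTower k k' K'] [IsScalarTower k K K'] [FiniteDimensional K K']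
    (hK : FunFld.IsFunctionField k K) (hg : FunFld.IsGeometric k K)
    (hK' : FunFld.IsFunctionField k' K') (hg' : FunFld.IsGeometric k' K')
    (hw : Function.Injective (KaehlerDifferential.map k k' K K')) :
    Algebra.IsSeparable (IntermediateField.adjoin K (Set.range (algebraMap k' K'))) K' := by

  classical
  set E := IntermediateField.adjoin K (Set.range (algebraMap k' K')) with hE
  haveI : FiniteDimensional E K' := Module.Finite.of_restrictScalars_finite K E K'
  haveI : Algebra.IsAlgebraic E K' := Algebra.IsAlgebraic.of_finite _ _
  obtain h0 | ⟨p, hp, hpK⟩ := CharP.exists' K'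
  · haveI : CharZero E := ⟨fun a b h => Nat.cast_injective (R := K') (by simpa using congrArg (algebraMap E K') h)⟩
    exact Algebra.IsSeparable.of_integral E K'
  obtain ⟨x, hx, hsep⟩ := FFLib.exists_separating_element hK hg
  obtain ⟨x', hx', hsep'⟩ := FFLib.exists_separating_element hK' hg'
  obtain ⟨z, hz⟩ : ∃ z : K, algebraMap K K' z ∉ FFLib.powField k' K' p := by
    by_contra! hall
    refine FFLib.D_ne_zero hK hx hsep (hw ?_)
    rw [KaehlerDifferential.map_D, map_zero]
    exact FFLib.D_eq_zero_of_mem p (hall x)
  have hz' := FFLib.isSeparable_of_notMem p hK' hx' hsep' hz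
  set F := IntermediateField.adjoin k' ({algebraMap K K' z} : Set K') with hF
  let Ek : IntermediateField k' K' := E.toSubfield.toIntermediateField fun c =>
    IntermediateField.subset_adjoin K _ ⟨c, rfl⟩
  have hle : F ≤ Ek := IntermediateField.adjoin_simple_le_iff.mpr (E.algebraMap_mem z)
  letI : Algebra F E := ((algebraMap F K').codRestrict E.toSubfield fun a => hle a.2).toAlgebra
  haveI : IsScalarTower F E K' := IsScalarTower.of_algebraMap_eq fun _ => rfl
  exact Algebra.isSeparable_tower_top_of_isSeparable F E K'

end Groth.Agent.S11026
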