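import Groth.Statements.S11028
import Groth.Agent.FFLib.Quad.Rat

set_option autoImplicit false
open Groth.Agent
open FunFld

namespace Groth.Agent.S11028

/-- For `k` perfect of characteristic `2` and `K = k(x, y)` with `y² + y = f(x)`, all poles of `f` of
odd order `2d_i - 1` at places `p_i` of `k(x)`, the genus of `K` is `-1 + ∑ d_i deg p_i`. -/
theorem result (k K : Type*) [Field k] [Field K] [PerfectField k] (h2 : ringChar k = 2) [Algebra k K]
    [Algebra (RatFunc k) K] [IsScalarTower k (RatFunc k) K] (hK : FunFld.IsFunctionField k K)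
    (hdeg : Module.finrank (RatFunc k) K = 2) (y : K) (hy : y ∉ Set.range (algebraMap (RatFunc k) K))
    (f : RatFunc k) (heq : y ^ 2 + y = algebraMap (RatFunc k) K f)
    (hodd : ∀ P : FunFld.Place k (RatFunc k), FunFld.div k f P < 0 → Odd (FunFld.div k f P)) :
    (FunFld.genus k K : ℤ) = -1 + ∑ P ∈ (FunFld.div k f).support with FunFld.div k f P < 0,
      (1 - FunFld.div k f P) / 2 * (P.deg : ℤ) := by
  classical
  have hF := FFLib.isFF_ratFunc k
  set B : FunFld.Divisor k (RatFunc k) := (FunFld.div k f).mapRange (fun m => if m < 0 then (1 - m) / 2 else 0) (by simp) with hBdef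
  have hB : ∀ P : FunFld.Place k (RatFunc k), B P = if P.ord f < 0 then (1 - P.ord f) / 2 else 0 := fun P => by
    rw [hBdef, Finsupp.mapRange_apply, FFLib.div_apply hF]
  have h20 : (2 : RatFunc k) = 0 := by
    have h2k : (2 : k) = 0 := by
      have := CharP.cast_eq_zero k (ringChar k); rw [h2] at this; exact_mod_cast this
    rw [← map_ofNat (algebraMap k (RatFunc k)) 2, h2k, map_zero]
  have hloc := FFLib.quadLoc_as hdeg hy hF h20 heq (fun P hP => by
    have := hodd P (by rwa [FFLib.div_apply hF])
    rwa [FFLib.div_apply hF] at this) hB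
  have hg := FFLib.quad_genus hdeg hy hloc (FFLib.isFunctionField_ratFunc k) hK
  rw [FFLib.genus_ratFunc] at hg
  push_cast at hg
  rw [hg]
  have hdegB : B.deg = ∑ P ∈ (FunFld.div k f).support with FunFld.div k f P < 0,
      (1 - FunFld.div k f P) / 2 * (P.deg : ℤ) := by
    rw [FunFld.Divisor.deg, Finsupp.sum_mapRange_index (fun P => zero_mul _), Finsupp.sum, Finset.sum_filter]
    refine Finset.sum_congr rfl fun P _ => ?_
    split_ifs <;> simp
  rw [hdegB]

end Groth.Agent.S11028
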