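import Groth.Statements.S11034
import Groth.Agent.FFLib.Quadratic

set_option autoImplicit false
open Groth.Agent
open FunFld

namespace Groth.Agent.S11034

/-- For `char k ≠ 2` and `K = k(x, y)`, `y² = f(x)` with `f` squarefree, each irreducible factor `p` of
`f` has a unique place `P` of `K` above it, with `e(P|p) = 2`, `f(P|p) = 1` and `deg P = deg p`. The
zero divisor of `y` and the behaviour above the infinite place of `k(x)` are not stated. -/
theorem result (k K : Type*) [Field k] [Field K] (h2 : ringChar k ≠ 2) [Algebra k K]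
    [Algebra (RatFunc k) K] [IsScalarTower k (RatFunc k) K]
    (hdeg : Module.finrank (RatFunc k) K = 2) (y : K) (f : Polynomial k) (hf : Squarefree f)
    (hd : 1 ≤ f.natDegree)
    (heq : y ^ 2 = algebraMap (RatFunc k) K (algebraMap (Polynomial k) (RatFunc k) f))
    (p : Polynomial k) (hp : Irreducible p) (hpf : p ∣ f)
    (P₀ : FunFld.Place k (RatFunc k)) (hP₀ : P₀.1 (algebraMap (Polynomial k) (RatFunc k) p) < 1) :
    (∃! P : FunFld.Place k K, FunFld.IsOver P P₀) ∧
    ∀ P : FunFld.Place k K, FunFld.IsOver P P₀ → FunFld.IsOverWith P P₀ 2 ∧ P.deg = P₀.deg := by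
  have hF := FFLib.isFF_ratFunc k
  have hp0 : algebraMap (Polynomial k) (RatFunc k) p ≠ 0 := by simpa using hp.ne_zero
  have hX : 0 ≤ P₀.ord (RatFunc.X : RatFunc k) := by
    by_contra hneg
    obtain ⟨-, -, hord⟩ := FFLib.ratFunc_infinity P₀ (not_le.mp hneg)
    have h := (FFLib.val_lt_one_iff P₀ hp0).mp hP₀
    rw [hord p hp.ne_zero] at h
    omega
  have hf1 : P₀.ord (algebraMap (Polynomial k) (RatFunc k) f) = 1 := by
    rcases FFLib.ratFunc_squarefree P₀ hX hf with h | h
    · exfalso
      obtain ⟨r, rfl⟩ := hpf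
      have hr := FFLib.ratFunc_squarefree P₀ hX (hf.squarefree_of_dvd ⟨p, mul_comm p r⟩)
      have h1 := (FFLib.val_lt_one_iff P₀ hp0).mp hP₀
      rw [map_mul, FFLib.ord_mul P₀ hp0 (by simpa using right_ne_zero_of_mul hf.ne_zero)] at h
      omega
    · exact h
  exact FFLib.ramified_of_odd hF hdeg fun Q e he => ⟨Q.ord y, 1, odd_one, by
    have h3 := FFLib.ord_pow Q y 2
    rw [heq, FFLib.ord_over he, hf1] at h3
    push_cast at h3
    linarith⟩

end Groth.Agent.S11034
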