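import Groth.Statements.S11037
import Groth.Agent.FFLib.Numer

set_option autoImplicit false
open FunFld Groth.Agent.FFLib WithZero

namespace Groth.Agent.S11037

/-- Over a finite constant field with `q` elements the degree-zero divisor classes modulo principal
divisors form a finite group, of order `h`; and for `n ≥ 2g - 1` the number `a(n)` of effective
divisors of degree `n` is `h (q^(n-g+1) - 1)/(q - 1)` when `n` is the degree of some divisor, and
`0` otherwise. -/
theorem result
    (k K : Type*) [Field k] [Finite k] [Field K] [Algebra k K]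
    (hK : FunFld.IsFunctionField k K) :
    Finite ((FunFld.degHom k K).ker ⧸ (FunFld.prinDivs k K).addSubgroupOf (FunFld.degHom k K).ker) ∧
    ∀ n : ℕ, 2 * FunFld.genus k K ≤ n + 1 →
      ((∃ D : FunFld.Divisor k K, D.deg = n) →
        ((Nat.card k : ℤ) - 1) * (FunFld.effDivCount k K n : ℤ) =
          (FunFld.classNum k K : ℤ) * ((Nat.card k : ℤ) ^ (n + 1 - FunFld.genus k K) - 1)) ∧
      ((¬ ∃ D : FunFld.Divisor k K, D.deg = n) → FunFld.effDivCount k K n = 0) := by
  obtain ⟨D, hD⟩ := exists_deg_one hK
  have hfin := finite_pic0 (k := k) hK.1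
  have := Fintype.ofFinite (Pic0 k K)
  refine ⟨hfin, fun n hn => ⟨fun _ => ?_, fun h => absurd ⟨(n : ℤ) • D, by rw [deg_zsmul, hD, mul_one]⟩ h⟩⟩
  rw [effDivCount_formula hK n (D := (n : ℤ) • D) (by rw [deg_zsmul, hD, mul_one]), classNum_eq,
    Nat.card_eq_fintype_card (α := Pic0 k K)]
  have he : ∀ c : Pic0 k K, FunFld.ell ((n : ℤ) • D + rep c) = n + 1 - FunFld.genus k K := fun c => by
    have := ell_of_deg_gt hK (D := (n : ℤ) • D + rep c) (by
      rw [Divisor.deg_add, deg_zsmul, deg_rep, hD]; omega)
    rw [Divisor.deg_add, deg_zsmul, deg_rep, hD] at this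
    omega
  simp only [he, Finset.sum_const, Finset.card_univ, nsmul_eq_mul]
  ring

end Groth.Agent.S11037
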