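import Groth.Statements.S11038
import Groth.Agent.FFLib.Numer

set_option autoImplicit false
open FunFld Groth.Agent.FFLib WithZero

namespace Groth.Agent.S11038

/-- `L_K(1) = h_K`, the class number, where `L_K(t) = (1 - t)(1 - q t) Z_K(t)` is the numerator of the
zeta function. -/
theorem result
    (k K : Type*) [Field k] [Finite k] [Field K] [Algebra k K]
    (hK : FunFld.IsFunctionField k K) (p : Polynomial ℤ)
    (hp : (p : PowerSeries ℤ) = FunFld.numerZ k K) :
    p.eval 1 = (FunFld.classNum k K : ℤ) := by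
  obtain ⟨D, hD⟩ := exists_deg_one hK
  have hfin := finite_pic0 (k := k) hK.1
  have := Fintype.ofFinite (Pic0 k K)
  set g := FunFld.genus k K
  have hdeg : p.natDegree < 2 * g + 1 := by
    by_contra h
    have hp0 : p ≠ 0 := fun e => by simp [e] at h
    refine Polynomial.leadingCoeff_ne_zero.mpr hp0 ?_
    rw [Polynomial.leadingCoeff, ← Polynomial.coeff_coe, hp, numerZ_vanish hK hD _ (by omega)]
  rw [Polynomial.eval_eq_sum_range' hdeg]
  simp only [one_pow, mul_one, ← Polynomial.coeff_coe, hp]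
  have key : ∀ N : ℕ, ∑ i ∈ Finset.range (N + 1), PowerSeries.coeff i (FunFld.numerZ k K) =
      effCountZ k K N - (Nat.card k : ℤ) * effCountZ k K ((N : ℤ) - 1) := by
    intro N
    induction N with
    | zero =>
      rw [Finset.sum_range_one, coeff_numerZ]
      simp [effCountZ]
    | succ N ih =>
      rw [Finset.sum_range_succ, ih, coeff_numerZ]
      push_cast
      ring_nf
  rw [key]
  have hq : (1 : ℚ) < Nat.card k := by exact_mod_cast (Finite.one_lt_card : 1 < Nat.card k)
  have h1 := effCountZ_formula hK hD ((2 * g : ℕ) : ℤ)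
  have h2 := effCountZ_formula hK hD (((2 * g : ℕ) : ℤ) - 1)
  rw [secSum_symm hK hD ((2 * g : ℕ) : ℤ), secSum_neg hK.1 hD (by omega),
    show ((2 * g : ℕ) : ℤ) + 1 - g = (g : ℤ) + 1 by omega, zpow_add_one₀ (by positivity)] at h1
  rw [secSum_symm hK hD (((2 * g : ℕ) : ℤ) - 1), secSum_neg hK.1 hD (by omega),
    show ((2 * g : ℕ) : ℤ) - 1 + 1 - g = (g : ℤ) by omega] at h2
  have : ((Nat.card k : ℚ) - 1) * ((effCountZ k K ((2 * g : ℕ) : ℤ) -
      (Nat.card k : ℤ) * effCountZ k K (((2 * g : ℕ) : ℤ) - 1) : ℤ) : ℚ) =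
      ((Nat.card k : ℚ) - 1) * (FunFld.classNum k K : ℚ) := by
    push_cast at h1 h2 ⊢
    linear_combination h1 - (Nat.card k : ℚ) * h2
  exact_mod_cast mul_left_cancel₀ (by linarith) this

end Groth.Agent.S11038
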