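import Groth.Statements.S11039
import Groth.Agent.FFLib.Numer

set_option autoImplicit false
open FunFld Groth.Agent.FFLib WithZero

namespace Groth.Agent.S11039

/-- The numerator `L_K(t) = ∑ aᵢ tⁱ` of the zeta function of a function field of one variable of genus
`g` over a finite field with `q` elements has degree exactly `2g` and its coefficients satisfy
`a_{2g-i} = q^{g-i} aᵢ` for `0 ≤ i ≤ 2g`. -/
theorem result
    (k K : Type*) [Field k] [Finite k] [Field K] [Algebra k K]
    (hK : FunFld.IsFunctionField k K) :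
    (∀ n : ℕ, 2 * FunFld.genus k K < n → PowerSeries.coeff n (FunFld.numerZ k K) = 0) ∧
    PowerSeries.coeff (2 * FunFld.genus k K) (FunFld.numerZ k K) ≠ 0 ∧
    ∀ i : ℕ, i ≤ 2 * FunFld.genus k K →
      (((PowerSeries.coeff (2 * FunFld.genus k K - i) (FunFld.numerZ k K) : ℤ)) : ℚ) =
        (Nat.card k : ℚ) ^ ((FunFld.genus k K : ℤ) - i) *
          (((PowerSeries.coeff i (FunFld.numerZ k K) : ℤ)) : ℚ) := by
  obtain ⟨D, hD⟩ := exists_deg_one hK
  have hfin := finite_pic0 (k := k) hK.1
  have := Fintype.ofFinite (Pic0 k K)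
  set g := FunFld.genus k K
  have key : ∀ i : ℕ, i ≤ 2 * g →
      (((PowerSeries.coeff (2 * g - i) (FunFld.numerZ k K) : ℤ)) : ℚ) =
        (Nat.card k : ℚ) ^ ((g : ℤ) - i) * (((PowerSeries.coeff i (FunFld.numerZ k K) : ℤ)) : ℚ) :=
    fun i hi => numerZ_functional hK hD i (2 * g - i) (Nat.sub_add_cancel hi)
  refine ⟨fun n hn => numerZ_vanish hK hD n hn, fun h => ?_, key⟩
  have h0 : PowerSeries.coeff 0 (FunFld.numerZ k K) = 1 := by
    rw [coeff_numerZ]
    simp [effCountZ, effDivCount_zero hK.1]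
  have e := key 0 (Nat.zero_le _)
  simp only [Nat.sub_zero, h, h0] at e
  have hq : (0 : ℚ) < Nat.card k := by exact_mod_cast (Nat.card_pos : 0 < Nat.card k)
  simp at e
  exact absurd e.symm (pow_ne_zero _ hq.ne')

end Groth.Agent.S11039
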