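import Groth.Statements.S1104
import Groth.Agent.KExact.DQCohEquiv
-- import your own Groth.Agent.* helpers here

set_option autoImplicit false
set_option linter.style.haveILetI false
set_option backward.isDefEq.respectTransparency false
set_option backward.isDefEq.respectTransparency.types false

universe u
open CategoryTheory CategoryTheory.Limits AlgebraicGeometry
attribute [local instance] HasDerivedCategory.standard
open Perf

namespace Groth.Agent.S1104

/-- Let X be a Noetherian scheme. Granting that quasi-coherent modules contain zero and are closed under
kernels, cokernels and finite products in all O_X-modules, with exact inclusion (true facts, carried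
as instance hypotheses; they make QCoh(O_X) an abelian category), the induced functor D(QCoh(O_X)) ⥤
D(O_X) is full and faithful, and an object of D(O_X) lies in its essential image if and only if its
cohomology sheaves are quasi-coherent. -/
theorem result (X : Scheme.{u}) [IsNoetherian X]
    [ObjectProperty.ContainsZero (fun M : X.Modules => Coh.IsQCoh M)] [ObjectProperty.IsClosedUnderKernels (fun M : X.Modules => Coh.IsQCoh M)]
    [ObjectProperty.IsClosedUnderCokernels (fun M : X.Modules => Coh.IsQCoh M)] [ObjectProperty.IsClosedUnderFiniteProducts (fun M : X.Modules => Coh.IsQCoh M)]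
    [PreservesFiniteLimits (ObjectProperty.ι (fun M : X.Modules => Coh.IsQCoh M))] [PreservesFiniteColimits (ObjectProperty.ι (fun M : X.Modules => Coh.IsQCoh M))] :
    (ObjectProperty.ι (fun M : X.Modules => Coh.IsQCoh M)).mapDerivedCategory.Full ∧ (ObjectProperty.ι (fun M : X.Modules => Coh.IsQCoh M)).mapDerivedCategory.Faithful ∧
    ∀ K : DCoh.D X, DCoh.IsQCohD K ↔ ∃ M, Nonempty ((ObjectProperty.ι (fun M : X.Modules => Coh.IsQCoh M)).mapDerivedCategory.obj M ≅ K) := by
  exact Groth.Agent.KExact.DQCohEquiv.main (Groth.Agent.KExact.DQCohEquiv.good_top_of_noetherian (𝟙 X))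
end Groth.Agent.S1104
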