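import Groth.Statements.S11040
import Groth.Agent.FFLib.Weil.Roots

set_option autoImplicit false
open Groth.Agent
open FunFld

namespace Groth.Agent.S11040

/-- The numerator of the zeta function of a function field of one variable of genus `g` over a finite
field with `q` elements factors over `ℂ` as `∏ (1 - αᵢ t)` with `α₁, …, α_{2g}` algebraic integers,
numbered so that `αᵢ α_{2g-i+1} = q`. -/
theorem result
    (k K : Type*) [Field k] [Finite k] [Field K] [Algebra k K]
    (hK : FunFld.IsFunctionField k K) :
    ∃ α : Fin (2 * FunFld.genus k K) → ℂ, (∀ i, IsIntegral ℤ (α i)) ∧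
      PowerSeries.map (Int.castRingHom ℂ) (FunFld.numerZ k K) =
        ((∏ i, (1 - Polynomial.C (α i) * Polynomial.X) : Polynomial ℂ) : PowerSeries ℂ) ∧
      ∀ i, α i * α (Fin.rev i) = (Nat.card k : ℂ) := by
  exact FFLib.exists_reciprocal_roots hK

end Groth.Agent.S11040
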