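import Groth.Statements.S11041
import Groth.Agent.FFLib.Weil.RH

set_option autoImplicit false
open Groth.Agent
open FunFld

namespace Groth.Agent.S11041

/-- The Riemann hypothesis for a function field `K` of one variable over a finite field with `q`
elements: every complex root `z` of `L_K(t) = (1 - t)(1 - q t) Z_K(t)` satisfies `|z|² q = 1`;
equivalently the reciprocal roots `αᵢ` all have `|αᵢ| = q^{1/2}`. -/
theorem result
    (k K : Type*) [Field k] [Finite k] [Field K] [Algebra k K]
    (hK : FunFld.IsFunctionField k K) (p : Polynomial ℤ)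
    (hp : (p : PowerSeries ℤ) = FunFld.numerZ k K) (z : ℂ)
    (hz : (p.map (Int.castRingHom ℂ)).IsRoot z) :
    ‖z‖ ^ 2 * (Nat.card k : ℝ) = 1 := by
  obtain ⟨α, hα, hn⟩ := FFLib.norm_sq_root hK
  have hP : p.map (Int.castRingHom ℂ) = ∏ i, (1 - Polynomial.C (α i) * Polynomial.X) :=
    Polynomial.coe_injective ℂ (by rw [← hα, ← hp]; exact (Polynomial.polynomial_map_coe).trans rfl)
  rw [hP, Polynomial.IsRoot, Polynomial.eval_prod, Finset.prod_eq_zero_iff] at hz
  obtain ⟨i, -, hi⟩ := hz
  simp only [Polynomial.eval_sub, Polynomial.eval_one, Polynomial.eval_mul, Polynomial.eval_C, Polynomial.eval_X, sub_eq_zero] at hi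
  rw [← hn i, ← mul_pow, ← norm_mul, mul_comm, ← hi, norm_one, one_pow]

end Groth.Agent.S11041
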