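import Groth.Statements.S11043
import Mathlib.RingTheory.Polynomial.Cyclotomic.Basic
import Mathlib.Analysis.SpecialFunctions.Complex.Circle
import Mathlib.RingTheory.RootsOfUnity.Complex

set_option autoImplicit false


namespace Groth.Agent.S11043

/-- For positive integers `n`, `d` with `e = gcd(n, d)`, in `ℂ[t]` one has `(1 - t^{nd/e})^e = ∏_{θⁿ =
1} (1 - (θ t)^d)`, the product over the complex `n`-th roots of unity. -/
theorem result (n d : ℕ) (hn : 0 < n) (hd : 0 < d) :
    ((1 : Polynomial ℂ) - Polynomial.X ^ (n * d / Nat.gcd n d)) ^ Nat.gcd n d =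
      ∏ θ ∈ Polynomial.nthRootsFinset n (1 : ℂ),
        (1 - Polynomial.C (θ ^ d) * Polynomial.X ^ d) := by
  open Polynomial in
  have key : ∀ {R : Type} [CommRing R] [IsDomain R] {ζ : R} {m : ℕ}, 0 < m → IsPrimitiveRoot ζ m →
      ∀ F : R → Polynomial ℂ, ∏ θ ∈ nthRootsFinset m (1 : R), F θ = ∏ i ∈ Finset.range m, F (ζ ^ i) := by
    intro R _ _ ζ m hm h F
    classical
    have hsub : (Finset.range m).image (fun i => ζ ^ i) = nthRootsFinset m (1 : R) := by
      refine Finset.eq_of_subset_of_card_le (fun x hx => ?_) ?_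
      · obtain ⟨i, -, rfl⟩ := Finset.mem_image.mp hx
        rw [mem_nthRootsFinset hm, ← pow_mul, mul_comm, pow_mul, h.pow_eq_one, one_pow]
      · rw [h.card_nthRootsFinset, Finset.card_image_of_injOn, Finset.card_range]
        exact fun a ha b hb hab => h.pow_inj (Finset.mem_range.mp ha) (Finset.mem_range.mp hb) hab
    rw [← hsub, Finset.prod_image]
    exact fun a ha b hb hab => h.pow_inj (Finset.mem_range.mp ha) (Finset.mem_range.mp hb) hab
  have hζ := Complex.isPrimitiveRoot_exp n (by omega)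
  set ζ : ℂ := Complex.exp (2 * Real.pi * Complex.I / n)
  set g := Nat.gcd n d with hg
  have hg0 : 0 < g := Nat.gcd_pos_of_pos_left d hn
  obtain ⟨m, hm⟩ : g ∣ n := Nat.gcd_dvd_left n d
  obtain ⟨d', hd'⟩ : g ∣ d := Nat.gcd_dvd_right n d
  have hm0 : 0 < m := Nat.pos_of_ne_zero fun h => by simp [h] at hm; omega
  have hcop : Nat.Coprime d' m := by
    rw [Nat.coprime_comm]
    have h1 := hg
    rw [hm, hd', Nat.gcd_mul_left] at h1
    exact Nat.eq_of_mul_eq_mul_left hg0 (by rw [mul_one]; exact h1.symm)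
  have hη : IsPrimitiveRoot (ζ ^ d) m := by
    rw [hd', pow_mul]
    exact ((hζ.pow (by omega) hm).pow_of_coprime d' hcop)
  have hexp : n * d / g = m * d := by
    rw [hm, mul_assoc, Nat.mul_div_cancel_left _ hg0]
  rw [hexp, key hn hζ]
  let F : ℕ → Polynomial ℂ := fun i => 1 - Polynomial.C ((ζ ^ d) ^ i) * Polynomial.X ^ d
  have hF : ∀ i, (1 - Polynomial.C ((ζ ^ i) ^ d) * Polynomial.X ^ d) = F i := fun i => by
    simp only [F, ← pow_mul, mul_comm i d]
  simp only [hF]
  have hper : ∀ j, ∏ i ∈ Finset.range (j * m), F i = (∏ i ∈ Finset.range m, F i) ^ j := by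
    intro j
    induction j with
    | zero => simp
    | succ j ih =>
      rw [add_mul, one_mul, Finset.prod_range_add, ih, pow_succ]
      congr 1
      refine Finset.prod_congr rfl fun i _ => ?_
      simp only [F, pow_add]
      rw [mul_comm j m, pow_mul, hη.pow_eq_one, one_pow, one_mul]
  rw [hm, hper]
  congr 1
  have hC : IsPrimitiveRoot (Polynomial.C (ζ ^ d)) m := hη.map_of_injective Polynomial.C_injective
  have := hC.pow_sub_pow_eq_prod_sub_mul (1 : Polynomial ℂ) (Polynomial.X ^ d) hm0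
  rw [one_pow, key hm0 hC, ← pow_mul, mul_comm d m] at this
  rw [this]
  simp only [F, map_pow]

end Groth.Agent.S11043
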