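import Groth.Statements.S11045
import Groth.Agent.FFLib.Gaps

set_option autoImplicit false
open FunFld Groth.Agent.FFLib WithZero

namespace Groth.Agent.S11045

/-- Over an algebraically closed constant field, if `n ≥ 1` is a gap number at the place `P` (no
function has a pole of exact order `n` at `P` and no other pole, i.e. `L(nP) = L((n-1)P)`), then the
gap numbers at `P` make up at least half of the positive integers below `n`. -/
theorem result
    (k K : Type*) [Field k] [IsAlgClosed k] [Field K] [Algebra k K]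
    (hK : FunFld.IsFunctionField k K) (P : FunFld.Place k K) (n : ℕ) (hn : 1 ≤ n)
    (hgap : FunFld.L (Finsupp.single P (n : ℤ)) = FunFld.L (Finsupp.single P ((n : ℤ) - 1))) :
    n - 1 ≤ 2 * Set.ncard {m : ℕ | 1 ≤ m ∧ m < n ∧
      FunFld.L (Finsupp.single P (m : ℤ)) = FunFld.L (Finsupp.single P ((m : ℤ) - 1))} := by
  classical
  have hgap' : IsGap P n := hgap
  have hset : {m : ℕ | 1 ≤ m ∧ m < n ∧
      FunFld.L (Finsupp.single P (m : ℤ)) = FunFld.L (Finsupp.single P ((m : ℤ) - 1))} =
      ↑((Finset.Icc 1 (n - 1)).filter (IsGap P)) := by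
    ext m
    simp only [Set.mem_setOf_eq, Finset.coe_filter, Finset.mem_Icc, IsGap]
    exact ⟨fun ⟨a, b, c⟩ => ⟨⟨a, by omega⟩, c⟩, fun ⟨⟨a, b⟩, c⟩ => ⟨a, by omega, c⟩⟩
  rw [hset, Set.ncard_coe_finset]
  have hsplit := Finset.card_filter_add_card_filter_not (s := Finset.Icc 1 (n - 1)) (IsGap P)
  have hle : ((Finset.Icc 1 (n - 1)).filter (fun m => ¬ IsGap P m)).card ≤
      ((Finset.Icc 1 (n - 1)).filter (IsGap P)).card := by
    refine Finset.card_le_card_of_injOn (fun m => n - m) (fun m hm => ?_) (fun a ha b hb hab => ?_)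
    · simp only [Finset.mem_coe, Finset.mem_filter, Finset.mem_Icc] at hm ⊢
      refine ⟨by omega, ?_⟩
      by_contra h
      have := not_gap_add hK (a := m) (b := n - m) (by omega) (by omega) hm.2 h
      rw [Nat.add_sub_cancel' (by omega : m ≤ n)] at this
      exact this hgap'
    · simp only [Finset.mem_coe, Finset.mem_filter, Finset.mem_Icc] at ha hb
      simp only at hab
      omega
  rw [Nat.card_Icc] at hsplit
  omega

end Groth.Agent.S11045
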