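import Groth.Statements.S11047
import Groth.Agent.FFLib.SV.Aut

set_option autoImplicit false
open Groth.Agent
open FunFld

namespace Groth.Agent.S11047

/-- Over an algebraically closed constant field, a `k`-automorphism of a function field of one variable
of genus `g` that fixes more than `2g + 2` places is the identity. -/
theorem result
    (k K : Type*) [Field k] [IsAlgClosed k] [Field K] [Algebra k K]
    (hK : FunFld.IsFunctionField k K) (σ : K ≃ₐ[k] K)
    (h : ((2 * FunFld.genus k K + 2 : ℕ) : ℕ∞) <
      Set.encard {P : FunFld.Place k K | ∀ x : K, P.1 x < 1 → P.1 (σ x) < 1}) :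
    σ = 1 := by
  exact FFLib.eq_one_of_lt_fixed hK σ h

end Groth.Agent.S11047
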