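import Groth.Statements.S11049
import Mathlib

set_option autoImplicit false
open CAlg

namespace Groth.Agent.S11049

/-- For `k`-algebras `S ⊆ R` with `R` an integral domain and a nonzero `x ∈ S`, if `R/S` and `R/Rx` are
finite-dimensional over `k` then `dim_k R/Rx = dim_k S/Sx`. (The published statement allows `x = 0`;
then `R` is a field finite over `k` and the two sides are `dim_k R` and `dim_k S`, which differ for
`S = k ⊊ R`; the published proof multiplies by `x` as an injection, so `x ≠ 0` is assumed here.) -/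
theorem result
    (k R : Type*) [Field k] [CommRing R]
    [IsDomain R] [Algebra k R] (S : Subalgebra k R) (x : S) (hx : (x : R) ≠ 0)
    [Module.Finite k (R ⧸ Subalgebra.toSubmodule S)]
    [Module.Finite k (R ⧸ Ideal.span {(x : R)})] :
    Module.finrank k (R ⧸ Ideal.span {(x : R)}) = Module.finrank k (S ⧸ Ideal.span {x}) := by
  classical
  let Sk : Submodule k R := Subalgebra.toSubmodule S
  let μ : R →ₗ[k] R := LinearMap.mulLeft k (x : R)
  let W : Submodule k R := Sk.map μ
  let V : Submodule k R := (Ideal.span {(x : R)}).restrictScalars k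
  have hμ : Function.Injective μ := fun a b h => mul_left_cancel₀ hx h
  have hWV : W ≤ V := by
    rintro _ ⟨s, _, rfl⟩
    exact Ideal.mem_span_singleton'.2 ⟨s, mul_comm _ _⟩
  have hWS : W ≤ Sk := by
    rintro _ ⟨s, hs, rfl⟩
    exact S.mul_mem x.2 hs
  have hV : V = LinearMap.range μ := by
    ext y
    simp [V, μ, Ideal.mem_span_singleton', mul_comm]
  let j : (R ⧸ Sk) →ₗ[k] (R ⧸ W) := Submodule.mapQ _ _ μ fun s hs => ⟨s, hs, rfl⟩
  let i : (S ⧸ (Ideal.span {x}).restrictScalars k) →ₗ[k] (R ⧸ W) :=
    Submodule.mapQ _ _ (S.val.toLinearMap) (by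
      intro s hs
      obtain ⟨t, rfl⟩ := Ideal.mem_span_singleton'.1 hs
      exact ⟨t, t.2, by simp [μ, mul_comm]⟩)
  let p : (R ⧸ W) →ₗ[k] (R ⧸ V) := Submodule.factor hWV
  let q : (R ⧸ W) →ₗ[k] (R ⧸ Sk) := Submodule.factor hWS
  have hj : Function.Injective j := by
    rw [injective_iff_map_eq_zero]
    intro y hy
    obtain ⟨y, rfl⟩ := Submodule.Quotient.mk_surjective _ y
    obtain ⟨s, hs, hsy⟩ := (Submodule.Quotient.mk_eq_zero W).1 hy
    rw [Submodule.Quotient.mk_eq_zero, ← hμ hsy]
    exact hs
  have hi : Function.Injective i := by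
    rw [injective_iff_map_eq_zero]
    intro y hy
    obtain ⟨y, rfl⟩ := Submodule.Quotient.mk_surjective _ y
    obtain ⟨s, hs, hsy⟩ := (Submodule.Quotient.mk_eq_zero W).1 hy
    rw [Submodule.Quotient.mk_eq_zero]
    refine Ideal.mem_span_singleton'.2 ⟨⟨s, hs⟩, Subtype.ext ?_⟩
    simpa [μ, mul_comm] using hsy
  have e1 : LinearMap.ker p = LinearMap.range j := by
    ext y
    obtain ⟨y, rfl⟩ := Submodule.Quotient.mk_surjective _ y
    rw [LinearMap.mem_ker]
    constructor
    · intro h
      have : y ∈ LinearMap.range μ := hV ▸ (Submodule.Quotient.mk_eq_zero V).1 h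
      obtain ⟨r, rfl⟩ := this
      exact ⟨Submodule.Quotient.mk r, rfl⟩
    · rintro ⟨r, hr⟩
      obtain ⟨r, rfl⟩ := Submodule.Quotient.mk_surjective _ r
      rw [← hr]
      exact (Submodule.Quotient.mk_eq_zero V).2 (by rw [hV]; exact ⟨r, rfl⟩)
  have e2 : LinearMap.ker q = LinearMap.range i := by
    ext y
    obtain ⟨y, rfl⟩ := Submodule.Quotient.mk_surjective _ y
    rw [LinearMap.mem_ker]
    constructor
    · intro h
      exact ⟨Submodule.Quotient.mk ⟨y, (Submodule.Quotient.mk_eq_zero Sk).1 h⟩, rfl⟩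
    · rintro ⟨r, hr⟩
      obtain ⟨r, rfl⟩ := Submodule.Quotient.mk_surjective _ r
      rw [← hr]
      exact (Submodule.Quotient.mk_eq_zero Sk).2 r.2
  haveI : Module.Finite k (R ⧸ V) := Module.Finite.equiv ((Submodule.Quotient.restrictScalarsEquiv k (Ideal.span {(x : R)})).symm)
  haveI : Module.Finite k (R ⧸ W) := by
    haveI : Module.Finite k (LinearMap.ker p) := by rw [e1]; infer_instance
    haveI : Module.Finite k ((R ⧸ W) ⧸ LinearMap.ker p) :=
      Module.Finite.equiv (p.quotKerEquivOfSurjective (Submodule.factor_surjective _)).symm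
    exact Module.Finite.of_submodule_quotient (LinearMap.ker p)
  have d1 := p.finrank_range_add_finrank_ker
  have d2 := q.finrank_range_add_finrank_ker
  rw [LinearMap.range_eq_top.2 (Submodule.factor_surjective _), finrank_top, e1,
    LinearMap.finrank_range_of_inj hj] at d1
  rw [LinearMap.range_eq_top.2 (Submodule.factor_surjective _), finrank_top, e2,
    LinearMap.finrank_range_of_inj hi] at d2
  have f1 := (Submodule.Quotient.restrictScalarsEquiv k (Ideal.span {(x : R)})).finrank_eq
  have f2 := (Submodule.Quotient.restrictScalarsEquiv k (Ideal.span {x})).finrank_eq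
  change Module.finrank k (R ⧸ V) = _ at f1
  omega


end Groth.Agent.S11049
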