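import Groth.Statements.S11050
import Groth.Agent.FFLib.PlaneGen

set_option autoImplicit false
open Groth.Agent
open FunFld

namespace Groth.Agent.S11050

/-- Over an algebraically closed constant field, let `W` be a finite-dimensional subspace of the
function field `K` containing `1` and generating `K` over `k` (the span of an effective birational
projective map). Then `W` contains a separating variable `x`, and for each separating `x ∈ W` some
`y ∈ W` gives `K = k(x, y)`. -/
theorem result
    (k K : Type*) [Field k] [IsAlgClosed k] [Field K] [Algebra k K]
    (hK : FunFld.IsFunctionField k K) (W : Submodule k K)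
    [FiniteDimensional k W] (h1 : (1 : K) ∈ W)
    (hW : IntermediateField.adjoin k (W : Set K) = ⊤) :
    (∃ x ∈ W, Algebra.IsSeparable (IntermediateField.adjoin k ({x} : Set K)) K) ∧
    ∀ x ∈ W, Algebra.IsSeparable (IntermediateField.adjoin k ({x} : Set K)) K →
      ∃ y ∈ W, IntermediateField.adjoin k ({x, y} : Set K) = ⊤ := by
  exact ⟨FFLib.exists_separating_mem hK W hW, fun x hx hsep => FFLib.exists_generator_mem hK W hW hx hsep⟩

end Groth.Agent.S11050
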