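import Groth.Statements.S11051
import Groth.Agent.FFLib.PlaneGen

set_option autoImplicit false
open Groth.Agent
open FunFld

namespace Groth.Agent.S11051

/-- Over an algebraically closed constant field, for every separating variable `x` of a function field
`K` of one variable (`K` separable over `k(x)`) there is `y` with `K = k(x, y)` such that the span
of `1, x, y` contains a local parameter at every place. (The published statement takes any `x`; this
row takes `x` separating, which is what the published proof uses, since it works with the finitely
many places ramified over `k(x)`: for a constant `x` the conclusion fails for every `K`, and in
characteristic `p` it fails for `K = k(t)`, `x = t^p`, where every place is ramified over `k(x)` and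
no element of the span has order one at the place at infinity or, if `y` is not a polynomial in `t`,
at a pole of `y`.) -/
theorem result
    (k K : Type*) [Field k] [IsAlgClosed k] [Field K] [Algebra k K]
    (hK : FunFld.IsFunctionField k K) (x : K)
    (hsep : Algebra.IsSeparable (IntermediateField.adjoin k ({x} : Set K)) K) :
    ∃ y : K, IntermediateField.adjoin k ({x, y} : Set K) = ⊤ ∧
      ∀ P : FunFld.Place k K, ∃ f ∈ Submodule.span k ({1, x, y} : Set K),
        P.1 f = WithZero.exp (-1) := by
  exact FFLib.exists_generator_uniformizers hK hsep

end Groth.Agent.S11051
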