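import Groth.Statements.S12606
import Groth.Agent.FFLib.SV.DetVal

set_option autoImplicit false
open Groth.Agent
open FunFld

namespace Groth.Agent.S12606

/-- Over an algebraically closed constant field, let `P` be a strong fixed point of the `k`-endomorphism
`τ`, `φ = (φ₀, …, φₙ)` (`n ≥ 1`) an effective projective map normalized at `P` with `τ(φ)` not a
`K`-multiple of `φ`, `t` a local parameter at `P`, `j₁, …, jₙ` the `τ`-orders of `φ` and `j'₁, …,
j'ₙ` the orders of `φ` at `P`. Then `jₗ ≤ j'ₗ - j'₁` for `1 ≤ l ≤ n`. -/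
theorem result
    (k K : Type*) [Field k] [IsAlgClosed k] [Field K] [Algebra k K]
    (hK : FunFld.IsFunctionField k K) (τ : K →ₐ[k] K) (P : FunFld.Place k K) (hP : FunFld.IsStrongFixedPt τ P)
    {n : ℕ} (hn : 0 < n) (φ : Fin (n + 1) → K) (hφ : LinearIndependent k φ)
    (heff : (1 : K) ∈ Submodule.span k (Set.range φ)) (hnorm : ∀ i, P.1 (φ i) ≤ 1)
    (hτφ : ¬ ∃ y : K, ∀ i, τ (φ i) = y * φ i)
    (t : K) (ht : P.1 t = WithZero.exp (-1))
    (Ht : K →ₐ[k] PowerSeries K) (hHt : LocRes.IsHasseFamily t Ht)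
    (J : Fin n → ℕ) (hJ : FunFld.IsOrders K (FunFld.hcol τ Ht φ) J)
    (J' : Fin n → ℕ) (hJ' : FunFld.IsOrders (IsLocalRing.ResidueField P.O) (FunFld.hcolAt P Ht φ) J') :
    ∀ l, J l + J' ⟨0, hn⟩ ≤ J' l := by
  classical
  obtain ⟨ψ, hψ, hψt⟩ := FFLib.exists_expansion' hK P ht
  have hfix : FunFld.IsFixedPt τ P := fun z hz => (hP z hz).trans_lt (by
    rw [← WithZero.exp_zero, WithZero.exp_lt_exp]; norm_num)
  have hJk := (FFLib.isOrdersAt_iff hψ hnorm hK hψt hHt J').mp hJ'
  obtain ⟨p, rfl⟩ : ∃ p, n = p + 1 := ⟨n - 1, by omega⟩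
  -- columns of binomial coefficients of the orders and of their differences with the first one
  let j₀ := J' ⟨0, hn⟩
  have hj₀ : ∀ r, j₀ ≤ J' r := fun r => hJk.1.monotone (Fin.mk_le_of_le_val (Nat.zero_le _))
  let c : ℕ → Fin (p + 1) → k := fun i r => ((J' r).choose i : k)
  let c' : ℕ → Fin (p + 1) → k := fun i r => ((J' r - j₀).choose i : k)
  have htri : ∀ i, c i - (1 : k) • c' i ∈ Submodule.span k (c' '' Set.Iio i) := by
    intro i
    have : c i - (1 : k) • c' i = ∑ a ∈ Finset.range i, ((j₀.choose (i - a) : ℕ) : k) • c' a := by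
      ext r
      rw [Finset.sum_apply]
      simp only [c, c', Pi.sub_apply, Pi.smul_apply, smul_eq_mul, one_mul]
      have h := Nat.add_choose_eq (J' r - j₀) j₀ i
      rw [Nat.sub_add_cancel (hj₀ r), Finset.Nat.sum_antidiagonal_eq_sum_range_succ_mk,
        Finset.sum_range_succ, Nat.sub_self, Nat.choose_zero_right, mul_one] at h
      rw [h, Nat.cast_add, add_sub_cancel_right, Nat.cast_sum]
      exact Finset.sum_congr rfl fun a _ => by rw [Nat.cast_mul, mul_comm]
    rw [this]
    exact Submodule.sum_mem _ fun a ha =>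
      Submodule.smul_mem _ _ (Submodule.subset_span ⟨a, Finset.mem_range.mp ha, rfl⟩)
  obtain ⟨hflag, hjump⟩ := FFLib.jumps_of_triangular (c := c') (c' := c) (fun _ => (1 : k))
    (fun _ => one_ne_zero) htri
  let e : Fin (p + 1) → ℕ := fun r => J' r - j₀
  have he : LinearIndependent k (c' ∘ e) := by
    rw [← FFLib.det_cols_ne_zero_iff]
    rw [Matrix.det_of_isLowerTriangular]
    · refine Finset.prod_ne_zero_iff.mpr fun r _ => ?_
      simp [c', e]
    · intro r s hrs
      have hrs : r < s := hrs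
      have := hJk.1 hrs
      have := hj₀ r
      show (((J' r - j₀).choose (J' s - j₀) : ℕ) : k) = 0
      rw [Nat.choose_eq_zero_of_lt (by omega), Nat.cast_zero]
  have hspan : Submodule.span k (Set.range c') = ⊤ := by
    refine eq_top_iff.mpr (le_trans (le_of_eq ?_)
      (Submodule.span_mono (Set.range_subset_iff.mpr fun l => ⟨e l, rfl⟩ :
        Set.range (c' ∘ e) ⊆ Set.range c')))
    exact (he.span_eq_top_of_card_eq_finrank (by rw [Fintype.card_fin, Module.finrank_fin_fun])).symm
  have h0 : c' 0 ≠ 0 := fun h => by simpa [c'] using congrFun h 0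
  obtain ⟨Jc, hJc⟩ := FFLib.exists_isOrders (R := k) (c := c') (n := p)
    (Module.finrank_fin_fun k) hspan h0
  have he0 : e 0 = 0 := Nat.sub_self _
  have hetail : FFLib.jumpIdx (fun l : Fin p => e l.succ - 1) = e := by
    funext r
    induction r using Fin.cases with
    | zero => exact he0.symm
    | succ r =>
      have h1 : J' 0 < J' r.succ := hJk.1 (Fin.succ_pos r)
      have h2 : j₀ = J' 0 := rfl
      show J' r.succ - j₀ - 1 + 1 = J' r.succ - j₀
      omega
  have hJcle := FFLib.isOrders_le hJc h0 (J' := fun l : Fin p => e l.succ - 1) (fun a b hab => by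
    have h1 : J' 0 < J' a.succ := hJk.1 (Fin.succ_pos a)
    have h3 := hJk.1 (Fin.succ_lt_succ_iff.mpr hab)
    have h2 : j₀ = J' 0 := rfl
    show J' a.succ - j₀ - 1 < J' b.succ - j₀ - 1
    omega) (by rw [hetail]; exact he)
  let I := FFLib.jumpIdx Jc
  have hIle : ∀ r, I r ≤ e r := fun r => by
    induction r using Fin.cases with
    | zero => exact Nat.zero_le _
    | succ r =>
      have h := hJcle r
      have h1 := congrFun hetail r.succ
      simp only [FFLib.jumpIdx_succ] at h1
      simp only [I, FFLib.jumpIdx_succ]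
      omega
  have hcI : (FunFld.binomMat k J' I).det ≠ 0 := by
    have hc0 : c 0 ≠ 0 := fun h => by simpa [c] using congrFun h 0
    have hJc' : FunFld.IsOrders k c Jc := (FFLib.isOrders_congr (fun j => hjump (j + 1)) Jc).mpr hJc
    exact (FFLib.det_cols_ne_zero_iff _).mpr (FFLib.linearIndependent_jumpIdx hJc' hc0)
  have hIm : StrictMono I := FFLib.jumpIdx_strictMono hJc.1
  have hval := ((FFLib.val_det_wrMat hK hfix hψ ht hnorm hψt hHt hJk hφ heff I).2 (Or.inr hP)).mpr hcI
  intro l
  have h := FFLib.orders_le_of_det hφ τ hJ hIm (fun hd => by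
    rw [hd, map_zero] at hval
    exact WithZero.exp_ne_zero hval.symm) l
  have := hIle l
  have := hj₀ l
  have : e l = J' l - j₀ := rfl
  show J l + j₀ ≤ J' l
  omega

end Groth.Agent.S12606
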