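import Groth.Statements.S12604
import Groth.Agent.FFLib.SV.WDiv
import Groth.Agent.S12606

set_option autoImplicit false
open Groth.Agent
open FunFld

namespace Groth.Agent.S12604

/-- Over an algebraically closed constant field, let `τ` be a `k`-endomorphism of the function field `K`
of genus `g`, of degree `deg τ = [K : τ(K)]`, and `φ = (φ₀, …, φₙ)` a projective map such that
`τ(φ)` is not a `K`-multiple of `φ`, with `τ`-orders `j₁, …, jₙ`. Then the number `N` of strong
fixed points of `τ` (places whose maximal ideal `τ` maps into its square) is finite and `n N ≤ (n +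
deg τ) deg φ + (2g - 2)(j₁ + ⋯ + jₙ)`, i.e. `N ≤ (1/n) deg W(φ, τ)`. -/
theorem result
    (k K : Type*) [Field k] [IsAlgClosed k] [Field K] [Algebra k K]
    (hK : FunFld.IsFunctionField k K) (τ : K →ₐ[k] K) {n : ℕ} (φ : Fin (n + 1) → K) (hφ : LinearIndependent k φ)
    (hτφ : ¬ ∃ y : K, ∀ i, τ (φ i) = y * φ i) (s : K) (H : K →ₐ[k] PowerSeries K) (hH : LocRes.IsHasseFamily s H)
    (J : Fin n → ℕ) (hJ : FunFld.IsOrders K (FunFld.hcol τ H φ) J) :
    {P : FunFld.Place k K | FunFld.IsStrongFixedPt τ P}.Finite ∧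
    (n : ℤ) * (Set.ncard {P : FunFld.Place k K | FunFld.IsStrongFixedPt τ P} : ℤ) ≤
      ((n : ℤ) + Module.finrank τ.fieldRange K) * (FunFld.mapDiv k φ).deg +
        (2 * (FunFld.genus k K : ℤ) - 2) * ∑ l, (J l : ℤ) := by
  classical
  rcases Nat.eq_zero_or_pos n with rfl | hn
  · exact absurd ⟨τ (φ 0) / φ 0, fun i => by
      rw [Subsingleton.elim (α := Fin 1) i 0, div_mul_cancel₀ _ (hφ.ne_zero 0)]⟩ hτφ
  let Φ : ∀ P : FunFld.Place k K, K →ₐ[k] LaurentSeries k := fun P =>
    (FFLib.exists_expansion' hK P (FFLib.exists_unif P).choose_spec.2).choose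
  have hΦ : ∀ P, LocRes.IsExpansionAt P.1 (Φ P) := fun P =>
    (FFLib.exists_expansion' hK P (FFLib.exists_unif P).choose_spec.2).choose_spec.1
  set W := FunFld.wDiv τ H Φ s φ J
  set S := {P : FunFld.Place k K | FunFld.IsStrongFixedPt τ P}
  have key : ∀ P ∈ S, (n : ℤ) ≤ W P := by
    intro P hP
    obtain ⟨y, t, Ht, hy, ht, hHt, -, heff, hint, hmap⟩ := FFLib.exists_normalized hK hφ P
    obtain ⟨ψ, hψ, hψt⟩ := FFLib.exists_expansion' hK P ht
    have hfix : FunFld.IsFixedPt τ P := fun z hz => (hP z hz).trans_lt (by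
      rw [← WithZero.exp_zero, WithZero.exp_lt_exp]; norm_num)
    have hli := FFLib.li_smul hφ hy
    have hJy := (FFLib.orders_invariant hK τ hH hHt hy J).mpr hJ
    have hspan : Submodule.span k (Set.range (FFLib.pcol ψ (y • φ))) = ⊤ :=
      top_le_iff.mp ((FFLib.span_cols_eq_top (FFLib.linearIndependent_coeff hψ hli hint)).ge.trans
        (FFLib.span_range_pcol ψ (y • φ)))
    obtain ⟨J', hJ'⟩ := FFLib.exists_isOrders (R := k) (n := n) (Module.finrank_fin_fun k) hspan
      (FFLib.ccol_zero_ne hψ heff)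
    have h6 := S12606.result k K hK τ P hP hn (y • φ) hli heff hint (fun ⟨z, hz⟩ => hτφ ⟨z * y / τ y, fun i => by
      have h := hz i
      simp only [Pi.smul_apply, smul_eq_mul, map_mul] at h
      field_simp [(map_ne_zero τ).mpr hy]
      linear_combination h⟩) t ht Ht hHt J hJy J' ((FFLib.isOrdersAt_iff hψ hint hK hψt hHt J').mpr hJ')
    have h15 := (FFLib.val_det_wrMat hK hfix hψ ht hint hψt hHt hJ' hli heff J).1
    rw [FFLib.val_eq_exp P (FFLib.det_wrMat_ne_zero hli τ hJy), WithZero.exp_le_exp] at h15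
    rw [show W P = P.ord (FunFld.wrMat τ Ht (y • φ) J).det by
      show FunFld.wDiv τ H Φ s φ J P = _
      rw [← FFLib.wDiv_smul_change hK hφ τ hH hHt hy hΦ hJ, FFLib.wDiv_apply_fixed hK hfix hψ ht hint heff J hΦ]]
    have hsum : (n : ℤ) ≤ ∑ l, ((J' l : ℤ) - J l) := by
      calc (n : ℤ) = ∑ _l : Fin n, (1 : ℤ) := by simp
        _ ≤ _ := Finset.sum_le_sum fun l _ => by
          have := h6 l
          have := FFLib.orderAt_pos hJ' ⟨0, hn⟩
          omega
    omega
  have hsub : S ⊆ (W.support : Set _) := fun P hP => Finsupp.mem_support_iff.mpr (by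
    have := key P hP
    omega)
  have hfin : S.Finite := W.support.finite_toSet.subset hsub
  refine ⟨hfin, ?_⟩
  have h := FFLib.deg_wDiv hK τ hH hΦ (φ := φ) (J := J)
  rw [add_comm (Module.finrank τ.fieldRange K : ℤ) (n : ℤ)] at h
  rw [← h, Set.ncard_eq_toFinset_card _ hfin]
  calc (n : ℤ) * hfin.toFinset.card = ∑ _P ∈ hfin.toFinset, (n : ℤ) := by
        rw [Finset.sum_const, nsmul_eq_mul, mul_comm]
    _ ≤ ∑ P ∈ hfin.toFinset, W P := Finset.sum_le_sum fun P hP => key P (hfin.mem_toFinset.mp hP)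
    _ ≤ ∑ P ∈ W.support, W P := Finset.sum_le_sum_of_subset_of_nonneg
        (fun P hP => hsub (hfin.mem_toFinset.mp hP)) (fun P _ _ => FFLib.wDiv_nonneg hK hφ τ hH hΦ hJ P)
    _ = W.deg := by
        rw [FunFld.Divisor.deg, Finsupp.sum]
        exact Finset.sum_congr rfl fun P _ => by rw [FFLib.deg_eq_one hK.1 P, Nat.cast_one, mul_one]

end Groth.Agent.S12604
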