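import Groth.Statements.S11053
import Groth.Agent.S12604
import Groth.Agent.S12606
import Groth.Agent.FFLib.SV.Fixed

set_option autoImplicit false
set_option maxHeartbeats 2000000
open Groth.Agent
open FunFld

namespace Groth.Agent.S11053

/-- Over an algebraically closed constant field, let `τ` be a `k`-embedding of the function field `K` of
genus `g` into itself, of degree `deg τ = [K : τ(K)]`. A place is a strong fixed point of `τ` when
`τ` maps its maximal ideal into the square of that ideal. For every integer `n > g` there are at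
most `1 + deg τ + (n + deg τ / n) g + 2g²(g-1)/n` strong fixed points. -/
theorem result
    (k K : Type*) [Field k] [IsAlgClosed k] [Field K] [Algebra k K]
    (hK : FunFld.IsFunctionField k K) (τ : K →ₐ[k] K) (n : ℕ)
    (hn : FunFld.genus k K < n) :
    {P : FunFld.Place k K | ∀ x : K, P.1 x < 1 → P.1 (τ x) ≤ WithZero.exp (-2)}.Finite ∧
    (Set.ncard {P : FunFld.Place k K | ∀ x : K, P.1 x < 1 → P.1 (τ x) ≤ WithZero.exp (-2)} : ℝ) ≤
      1 + Module.finrank τ.fieldRange K +
        (n + (Module.finrank τ.fieldRange K : ℝ) / n) * FunFld.genus k K +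
        2 * (FunFld.genus k K : ℝ) ^ 2 * (FunFld.genus k K - 1) / n := by
  classical
  set g := FunFld.genus k K with hgdef
  set δ := Module.finrank τ.fieldRange K
  set S := {P : FunFld.Place k K | ∀ x : K, P.1 x < 1 → P.1 (τ x) ≤ WithZero.exp (-2)}
  have hterm : (0 : ℝ) ≤ 2 * (g : ℝ) ^ 2 * ((g : ℝ) - 1) / n := by
    rcases Nat.eq_zero_or_pos g with h | h
    · simp [h]
    · have : (1 : ℝ) ≤ g := by exact_mod_cast h
      exact div_nonneg (mul_nonneg (by positivity) (by linarith)) (Nat.cast_nonneg n)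
  rcases S.eq_empty_or_nonempty with hS | ⟨P, hP⟩
  · rw [hS]
    refine ⟨Set.finite_empty, ?_⟩
    simp only [Set.ncard_empty, Nat.cast_zero]
    positivity
  have hsP : FunFld.IsStrongFixedPt τ P := hP
  have hn0 : 0 < n := by omega
  obtain ⟨m, hm⟩ : ∃ m, n + g = m + 1 := ⟨n + g - 1, by omega⟩
  set D : FunFld.Divisor k K := Finsupp.single P ((n + g : ℕ) : ℤ) with hD
  have hdeg : D.deg = n + g := by
    rw [hD, FFLib.Divisor.deg_single, FFLib.deg_eq_one hK.1 P]; push_cast; ring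
  have hell : Module.finrank k (FunFld.L D) = n + 1 := by
    have h := FFLib.ell_of_deg_gt hK (D := D) (by rw [hdeg]; push_cast; omega)
    rw [hdeg, FunFld.ell] at h
    omega
  have := FFLib.L_finite hK.1 D
  let b := Module.finBasisOfFinrankEq k (FunFld.L D) hell
  let φ : Fin (n + 1) → K := fun i => (b i : K)
  have hφ : LinearIndependent k φ := b.linearIndependent.map' _ (FunFld.L D).ker_subtype
  have hspan : Submodule.span k (Set.range φ) = FunFld.L D := by
    rw [show φ = (FunFld.L D).subtype ∘ b from rfl, Set.range_comp, Submodule.span_image, b.span_eq,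
      Submodule.map_top, Submodule.range_subtype]
  have hpole : ∀ d : ℕ, 2 * g ≤ d → d ≤ n + g → ∃ x ∈ FunFld.L D, x ≠ 0 ∧ P.ord x = -(d : ℤ) ∧
      x ∈ FunFld.L (Finsupp.single P (d : ℤ)) := fun d h1 h2 => by
    obtain ⟨x, hx, hx0, ho⟩ := FFLib.exists_pole_only hK P (m := d) h1
    exact ⟨x, FFLib.L_mono (Finsupp.single_le_single.mpr (by exact_mod_cast h2)) hx, hx0, ho, hx⟩
  have hτid : τ ≠ AlgHom.id k K := fun h => FFLib.not_isStrongFixedPt_id P (h ▸ hsP)
  have hτφ : ¬ ∃ y : K, ∀ i, τ (φ i) = y * φ i := by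
    rintro ⟨z, hz⟩
    have hall : ∀ f ∈ FunFld.L D, τ f = z * f := by
      intro f hf
      rw [← hspan] at hf
      induction hf using Submodule.span_induction with
      | mem u hu => obtain ⟨i, rfl⟩ := hu; exact hz i
      | zero => simp
      | add u v _ _ hu hv => rw [map_add, hu, hv, mul_add]
      | smul c u _ hu => rw [map_smul, hu, mul_smul_comm]
    have hz1 : z = 1 := by
      have h1 := hall 1 fun Q => by
        rw [map_one, ← WithZero.exp_zero, WithZero.exp_le_exp, hD, Finsupp.single_apply]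
        split_ifs <;> positivity
      rwa [map_one, mul_one, eq_comm] at h1
    obtain ⟨x, hxD, hx0, ho, hx⟩ := hpole m (by omega) (by omega)
    obtain ⟨x', hx'D, hx'0, ho', hx'⟩ := hpole (m + 1) (by omega) (by omega)
    exact hτid (FFLib.eq_id_of_fix_pole_only hK τ hx hx0 ho hx' hx'0 ho'
      (by rw [hall x hxD, hz1, one_mul]) (by rw [hall x' hx'D, hz1, one_mul]))
  obtain ⟨y, t, Ht, hy, ht, hHt, ⟨j₀, hj₀⟩, heff, hint, hmap⟩ := FFLib.exists_normalized hK hφ P
  obtain ⟨J, hJ⟩ := FFLib.exists_orders hK hφ τ hHt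
  obtain ⟨hfin, hcount⟩ := S12604.result k K hK τ φ hφ hτφ t Ht hHt J hJ
  refine ⟨hfin, ?_⟩
  obtain ⟨ψ, hψ, hψt⟩ := FFLib.exists_expansion' hK P ht
  have hli := FFLib.li_smul hφ hy
  obtain ⟨J', hJ'⟩ := FFLib.exists_isOrders (R := k) (n := n) (Module.finrank_fin_fun k)
    (top_le_iff.mp ((FFLib.span_cols_eq_top (FFLib.linearIndependent_coeff hψ hli hint)).ge.trans
      (FFLib.span_range_pcol ψ (y • φ)))) (FFLib.ccol_zero_ne hψ heff)
  have hle : ∀ l, J l + J' ⟨0, hn0⟩ ≤ J' l :=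
    S12606.result k K hK τ P hsP hn0 (y • φ) hli heff hint (fun ⟨z, hz⟩ => hτφ ⟨z * y / τ y, fun i => by
      have h := hz i
      simp only [Pi.smul_apply, smul_eq_mul, map_mul] at h
      field_simp [(map_ne_zero τ).mpr hy]
      linear_combination h⟩) t ht Ht hHt J ((FFLib.orders_invariant hK τ hHt hHt hy J).mpr hJ) J'
      ((FFLib.isOrdersAt_iff hψ hint hK hψt hHt J').mpr hJ')
  have hmem : ∀ {f : K}, f ∈ FunFld.L D → y * f ∈ Submodule.span k (Set.range (y • φ)) := fun {f} hf => by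
    rw [← hspan] at hf
    have : Set.range (y • φ) = LinearMap.mulLeft k y '' Set.range φ := by
      rw [← Set.range_comp]; rfl
    rw [this, Submodule.span_image]
    exact Submodule.mem_map_of_mem hf
  have hordy : P.ord y = ((n + g : ℕ) : ℤ) := by
    refine le_antisymm ?_ ?_
    · have h1 : φ j₀ ∈ FunFld.L D := hspan ▸ Submodule.subset_span ⟨j₀, rfl⟩
      have h2 := (FFLib.mem_L_iff_ord (hφ.ne_zero j₀)).mp h1 P
      rw [hD, Finsupp.single_eq_same] at h2
      rw [hj₀, FFLib.ord_inv]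
      omega
    · obtain ⟨x, hxD, hx0, ho, -⟩ := hpole (n + g) (by omega) le_rfl
      have h2 := FFLib.val_le_one_of_mem_span hint (hmem hxD)
      rw [FFLib.val_le_one_iff P (mul_ne_zero hy hx0), FFLib.ord_mul P hy hx0, ho] at h2
      omega
  have hlow : ∀ j, 1 ≤ j → j + g ≤ n → j ∈ Set.range J' := fun j h1 h2 => by
    obtain ⟨x, hxD, hx0, ho, -⟩ := hpole (n + g - j) (by omega) (by omega)
    refine ((FFLib.mem_orders_iff hψ hint hJ' heff j).mpr ⟨y * x, hmem hxD, ?_⟩).resolve_left (by omega)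
    rw [FFLib.val_eq_exp P (mul_ne_zero hy hx0), FFLib.ord_mul P hy hx0, ho, hordy]
    congr 1
    omega
  have hmapD : FunFld.mapDiv k φ ≤ D := fun Q => by
    have h : ∀ i, -D Q ≤ Q.ord (φ i) := fun i => by
      have := (FFLib.mem_L_iff_ord (hφ.ne_zero i)).mp (hspan ▸ Submodule.subset_span (Set.mem_range_self i)) Q
      omega
    rw [FFLib.mapDiv_apply hK.1]
    have : -D Q ≤ Finset.univ.inf' Finset.univ_nonempty (fun i => Q.ord (φ i)) :=
      (Finset.le_inf'_iff _ _).mpr fun i _ => h i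
    omega
  have hd : (FunFld.mapDiv k φ).deg ≤ n + g := hdeg ▸ FFLib.Divisor.deg_mono hmapD
  have hup : ∀ l, (J' l : ℤ) ≤ n + g := fun l => by
    have h := FFLib.orderAt_le_deg hK hli heff hint hmap hψ hJ' l
    rw [FFLib.mapDiv_smul hK hφ.ne_zero hy, FFLib.Divisor.deg_sub, FFLib.deg_div hK.1, sub_zero] at h
    omega
  have hJ'ge : ∀ l : Fin n, (l : ℕ) + 1 ≤ J' l := fun l => by
    obtain ⟨i, hi⟩ := l
    induction i with
    | zero => exact FFLib.orderAt_pos hJ' _
    | succ i ih => exact Nat.succ_le_of_lt (lt_of_le_of_lt (ih (Nat.lt_of_succ_lt hi)) (hJ'.1 (Fin.mk_lt_mk.mpr i.lt_succ_self)))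
  have hJge : ∀ l : Fin n, (l : ℕ) ≤ J l := fun l => by
    obtain ⟨i, hi⟩ := l
    induction i with
    | zero => exact Nat.zero_le _
    | succ i ih => exact Nat.succ_le_of_lt (lt_of_le_of_lt (ih (Nat.lt_of_succ_lt hi)) (hJ.1 (Fin.mk_lt_mk.mpr i.lt_succ_self)))
  have hJle : ∀ l : Fin n, (J l : ℤ) ≤ (l : ℕ) + (if n - g ≤ (l : ℕ) then (g : ℤ) else 0) := by
    intro l
    have h1 := hle l
    have h2 := FFLib.orderAt_pos hJ' ⟨0, hn0⟩
    split_ifs with hl
    · have h3 : ∀ (i : ℕ) (hi : l.val + i < n), J' l + i ≤ J' ⟨l.val + i, hi⟩ := by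
        intro i
        induction i with
        | zero => intro hi; exact le_rfl
        | succ i ih => intro hi; exact Nat.succ_le_of_lt (lt_of_le_of_lt (ih (by omega)) (hJ'.1 (Fin.mk_lt_mk.mpr (by omega))))
      have h4 := h3 (n - 1 - l.val) (by omega)
      have h5 := hup ⟨l.val + (n - 1 - l.val), by omega⟩
      omega
    · choose e he using fun j : Fin (n - g) => hlow (j.val + 1) (by omega) (by omega)
      have hmono : StrictMono e := fun a c hac => hJ'.1.lt_iff_lt.mp (by rw [he, he]; exact Nat.succ_lt_succ hac)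
      have h3 : ∀ j : Fin (n - g), (j : ℕ) ≤ (e j : ℕ) := fun j => by
        obtain ⟨i, hi⟩ := j
        induction i with
        | zero => exact Nat.zero_le _
        | succ i ih => exact Nat.succ_le_of_lt (lt_of_le_of_lt (ih (Nat.lt_of_succ_lt hi)) (hmono (Fin.mk_lt_mk.mpr i.lt_succ_self)))
      have h4 : J' l ≤ J' (e ⟨l.val, by omega⟩) := hJ'.1.monotone (h3 ⟨l.val, by omega⟩)
      rw [he] at h4
      show (J l : ℤ) ≤ _
      simp only at h4
      omega
  have hsuml : (∑ l : Fin n, ((l : ℕ) : ℤ)) * 2 = (n : ℤ) * (n - 1) := by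
    have h : ∀ a : ℕ, (∑ i ∈ Finset.range a, (i : ℤ)) * 2 = (a : ℤ) * (a - 1) := by
      intro a
      induction a with
      | zero => simp
      | succ a ih => rw [Finset.sum_range_succ, add_mul, ih]; push_cast; ring
    rw [Fin.sum_univ_eq_sum_range (fun i => (i : ℤ))]
    exact h n
  have hlast : (∑ l : Fin n, if n - g ≤ (l : ℕ) then (g : ℤ) else 0) = (g : ℤ) * g := by
    rw [Fin.sum_univ_eq_sum_range (fun i => if n - g ≤ i then (g : ℤ) else 0), ← Finset.sum_filter,
      show (Finset.range n).filter (fun i => n - g ≤ i) = Finset.Ico (n - g) n by ext i; simp; omega,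
      Finset.sum_const, Nat.card_Ico, nsmul_eq_mul]
    congr 1
    exact_mod_cast (show n - (n - g) = g by omega)
  have hJsum : (2 * (g : ℤ) - 2) * ∑ l, (J l : ℤ) ≤ (g - 1) * ((n : ℤ) * (n - 1)) + 2 * (g - 1) * (g * g) := by
    rcases Nat.eq_zero_or_pos g with hg | hg
    · have h : ∑ l : Fin n, ((l : ℕ) : ℤ) ≤ ∑ l, (J l : ℤ) := Finset.sum_le_sum fun l _ => by exact_mod_cast hJge l
      rw [hg]
      simp only [Nat.cast_zero, mul_zero, zero_sub]
      linarith
    · have h : ∑ l, (J l : ℤ) ≤ (∑ l : Fin n, ((l : ℕ) : ℤ)) + (g : ℤ) * g := by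
        rw [← hlast, ← Finset.sum_add_distrib]; exact Finset.sum_le_sum fun l _ => hJle l
      have hg' : (0 : ℤ) ≤ 2 * g - 2 := by omega
      nlinarith [mul_le_mul_of_nonneg_left h hg']
  set N : ℕ := S.ncard
  have hZ : (n : ℤ) * N ≤ ((n : ℤ) + δ) * ((n : ℤ) + g) + ((g - 1) * ((n : ℤ) * (n - 1)) + 2 * (g - 1) * (g * g)) := by
    refine le_trans hcount (add_le_add ?_ hJsum)
    exact mul_le_mul_of_nonneg_left hd (by positivity)
  have hR : (n : ℝ) * N ≤ ((n : ℝ) + δ) * ((n : ℝ) + g) + ((g - 1) * ((n : ℝ) * (n - 1)) + 2 * (g - 1) * (g * g)) := by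
    exact_mod_cast hZ
  have hnR : (0 : ℝ) < n := by exact_mod_cast hn0
  rw [show (1 : ℝ) + δ + ((n : ℝ) + (δ : ℝ) / n) * g + 2 * (g : ℝ) ^ 2 * ((g : ℝ) - 1) / n =
    (((n : ℝ) + δ) * ((n : ℝ) + g) + ((g - 1) * ((n : ℝ) * (n - 1)) + 2 * (g - 1) * (g * g))) / n by
      field_simp; ring, le_div_iff₀ hnR, mul_comm]
  exact hR

end Groth.Agent.S11053
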