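import Groth.Statements.S1106
import Groth.Agent.KFlatLib.Scheme.ProperFlatPC
-- import your own Groth.Agent.* helpers here

set_option autoImplicit false
universe u
open CategoryTheory CategoryTheory.Limits AlgebraicGeometry
attribute [local instance] HasDerivedCategory.standard
open Perf

open Groth.Agent.KFlatLib

namespace Groth.Agent.S1106

/-- Let f : X ⟶ S be flat, proper and of finite presentation and E a pseudo-coherent object of D(O_X).
Assuming Rf_* exists, Rf_*E is pseudo-coherent on S. (The source adds compatibility with base
change.) -/
theorem result {X S : Scheme.{u}} (f : X ⟶ S) [IsProper f] [Flat f] [LocallyOfFinitePresentation f]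
    [DCoh.HasRpush f] (E : DCoh.D X) (hE : ∀ m : ℤ, DCoh.IsPseudoCoherentD m E) (m : ℤ) :
    DCoh.IsPseudoCoherentD m ((DCoh.Rpush f).obj E) := by
  exact (isPseudoCoherentD_iff _ _).2
    (TorBC.locPC_rpush_properFlat f E (fun k => (isPseudoCoherentD_iff _ _).1 (hE k)) m)

end Groth.Agent.S1106
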