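import Groth.Statements.S11061
import Groth.Agent.FFLib.Weil.NumerExt

set_option autoImplicit false
open Groth.Agent
open FunFld

namespace Groth.Agent.S11061

/-- If `L_K(t) = ∏ (1 - αᵢ t)` is the numerator of the zeta function of a function field of one variable
over a finite field, then the constant-field extension `Kₙ` of degree `n` has `L_{Kₙ}(t) = ∏ (1 -
αᵢⁿ t)`. -/
theorem result
    (k K k' K' : Type*) [Field k] [Finite k] [Field K] [Algebra k K] [Field k'] [Finite k']
    [Field K'] [Algebra k k'] [Algebra K K'] [Algebra k' K'] (hK : FunFld.IsFunctionField k K)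
    (hK' : FunFld.IsFunctionField k' K') (hce : FunFld.IsConstExt k K k' K')
    (α : Fin (2 * FunFld.genus k K) → ℂ)
    (hα : PowerSeries.map (Int.castRingHom ℂ) (FunFld.numerZ k K) =
      ((∏ i, (1 - Polynomial.C (α i) * Polynomial.X) : Polynomial ℂ) : PowerSeries ℂ)) :
    PowerSeries.map (Int.castRingHom ℂ) (FunFld.numerZ k' K') =
      ((∏ i, (1 - Polynomial.C (α i ^ Module.finrank k k') * Polynomial.X) : Polynomial ℂ) :
        PowerSeries ℂ) := by
  haveI : Module.Finite k k' := Module.Finite.of_finite
  refine FFLib.numerZ_eq_prod hK'.1 _ fun m hm => ?_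
  rw [FFLib.placeCount_isConstExt hK.1 hce hm,
    FFLib.placeCount_eq hK.1 α hα (Nat.mul_pos Module.finrank_pos hm), Module.natCard_eq_pow_finrank (K := k) (V := k')]
  push_cast
  simp only [← pow_mul]

end Groth.Agent.S11061
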