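import Groth.Statements.S11066
import Groth.Agent.FFLib.Separation

set_option autoImplicit false
open Groth.Agent
open FunFld

namespace Groth.Agent.S11066

/-- Over an algebraically closed constant field, for an effective projective map `φ` normalized at the
place `P` (`1` in the span of the entries, all entries integral at `P`), the local ring of `φ` at
`P` has an element of order one at `P` (a local parameter) exactly when the span of the entries has
one. The local ring consists of the quotients of polynomials over `k` in the ratios `φᵢ/φⱼ`, `φⱼ` of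
least order at `P`, with denominator a unit at `P`. -/
theorem result
    (k K : Type*) [Field k] [IsAlgClosed k] [Field K] [Algebra k K]
    (hK : FunFld.IsFunctionField k K) {n : ℕ} (φ : Fin (n + 1) → K)
    (P : FunFld.Place k K) (heff : (1 : K) ∈ Submodule.span k (Set.range φ))
    (hnorm : ∀ i, P.1 (φ i) ≤ 1) :
    (∃ t : K, FunFld.InLocRing φ P t ∧ P.1 t = WithZero.exp (-1)) ↔
      ∃ t ∈ Submodule.span k (Set.range φ), P.1 t = WithZero.exp (-1) := by
  classical
  have hex : ∃ j, P.1 (φ j) = 1 := by
    by_contra! hall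
    have hlt : ∀ z ∈ Submodule.span k (Set.range φ), P.1 z < 1 := by
      intro z hz
      induction hz using Submodule.span_induction with
      | mem z hz => obtain ⟨i, rfl⟩ := hz; exact lt_of_le_of_ne (hnorm i) (hall i)
      | zero => simp
      | add a b _ _ ha hb => exact (P.1.map_add a b).trans_lt (max_lt ha hb)
      | smul c a _ ha =>
        rw [Algebra.smul_def, map_mul]
        exact (mul_le_mul' (P.2.1 c) le_rfl).trans_lt (by rwa [one_mul])
    exact (hlt 1 heff).ne (map_one _)
  constructor
  · rintro ⟨t, ⟨j, hj0, hmin, u, hu, w, hw, hw1, he⟩, ht⟩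
    obtain ⟨j', hj'⟩ := hex
    have hj1 : P.1 (φ j) = 1 := le_antisymm (hnorm j) (hj'.symm.le.trans (hmin j'))
    have hu1 : P.1 u = WithZero.exp (-1 : ℤ) := by rw [← he, map_mul, ht, hw1, mul_one]
    by_contra! hall
    have hsmall : ∀ z : K, P.1 z < 1 → P.1 z ≠ WithZero.exp (-1 : ℤ) → P.1 z ≤ WithZero.exp (-2 : ℤ) := by
      intro z hz hne
      rcases eq_or_ne z 0 with rfl | h0
      · simp
      rw [FFLib.val_eq_exp P h0, ← WithZero.exp_zero, WithZero.exp_lt_exp] at hz
      rw [FFLib.val_eq_exp P h0, Ne, WithZero.exp_inj] at hne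
      rw [FFLib.val_eq_exp P h0, WithZero.exp_le_exp]
      omega
    have h2 : ∀ c : k, ∀ z : K, P.1 z ≤ WithZero.exp (-2 : ℤ) →
        P.1 (algebraMap k K c * z) ≤ WithZero.exp (-2 : ℤ) := fun c z hz => by
      rw [map_mul]; exact (mul_le_mul' (P.2.1 c) hz).trans (le_of_eq (one_mul _))
    have hle1 : ∀ z : K, P.1 z ≤ WithZero.exp (-2 : ℤ) → P.1 z ≤ 1 := fun z hz => hz.trans (by
      rw [← WithZero.exp_zero, WithZero.exp_le_exp]; norm_num)
    have key : ∀ z ∈ Algebra.adjoin k (Set.range fun i => φ i / φ j),
        ∃ c : k, P.1 (z - algebraMap k K c) ≤ WithZero.exp (-2 : ℤ) := by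
      intro z hz
      induction hz using Algebra.adjoin_induction with
      | mem z hz =>
        obtain ⟨i, rfl⟩ := hz
        obtain ⟨c, hc⟩ := FFLib.exists_value hK.1 (FFLib.deg_eq_one hK.1 P) (x := φ i / φ j)
          (by rw [map_div₀, hj1, div_one]; exact hnorm i)
        refine ⟨c, hsmall _ hc fun e => ?_⟩
        refine hall (φ i - c • φ j) (sub_mem (Submodule.subset_span ⟨i, rfl⟩)
          (Submodule.smul_mem _ _ (Submodule.subset_span ⟨j, rfl⟩))) ?_
        rw [show φ i - c • φ j = (φ i / φ j - algebraMap k K c) * φ j by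
          rw [Algebra.smul_def, sub_mul, div_mul_cancel₀ _ hj0], map_mul, hj1, mul_one]
        exact e
      | algebraMap c => exact ⟨c, by simp⟩
      | add a b _ _ ha hb =>
        obtain ⟨c, hc⟩ := ha
        obtain ⟨d, hd⟩ := hb
        exact ⟨c + d, by rw [map_add, add_sub_add_comm]; exact (P.1.map_add _ _).trans (max_le hc hd)⟩
      | mul a b _ _ ha hb =>
        obtain ⟨c, hc⟩ := ha
        obtain ⟨d, hd⟩ := hb
        refine ⟨c * d, ?_⟩
        have hb1 : P.1 b ≤ 1 := by
          rw [← sub_add_cancel b (algebraMap k K d)]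
          exact (P.1.map_add _ _).trans (max_le (hle1 _ hd) (P.2.1 d))
        rw [show a * b - algebraMap k K (c * d) =
          (a - algebraMap k K c) * b + algebraMap k K c * (b - algebraMap k K d) by
            rw [map_mul]; ring]
        refine (P.1.map_add _ _).trans (max_le ?_ (h2 c _ hd))
        rw [map_mul]
        exact (mul_le_mul' hc hb1).trans (le_of_eq (mul_one _))
    obtain ⟨c, hc⟩ := key u hu
    have hlt : P.1 (u - algebraMap k K c) < P.1 u := hc.trans_lt (by
      rw [hu1, WithZero.exp_lt_exp]; norm_num)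
    have hcu := P.1.map_sub_eq_of_lt_left hlt
    rw [sub_sub_cancel, hu1] at hcu
    rcases eq_or_ne c 0 with rfl | hc0
    · rw [map_zero, map_zero] at hcu; exact WithZero.exp_ne_zero hcu.symm
    · rw [FFLib.val_algebraMap P hc0, ← WithZero.exp_zero, WithZero.exp_inj] at hcu
      omega
  · rintro ⟨t, ht, htv⟩
    obtain ⟨j, hj⟩ := hex
    have hj0 : φ j ≠ 0 := fun e => by rw [e, map_zero] at hj; exact zero_ne_one hj
    have hmem : ∀ z ∈ Submodule.span k (Set.range φ),
        z / φ j ∈ Algebra.adjoin k (Set.range fun i => φ i / φ j) := by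
      intro z hz
      induction hz using Submodule.span_induction with
      | mem z hz => obtain ⟨i, rfl⟩ := hz; exact Algebra.subset_adjoin ⟨i, rfl⟩
      | zero => simp
      | add a b _ _ ha hb => rw [add_div]; exact add_mem ha hb
      | smul c a _ ha => rw [Algebra.smul_def, mul_div_assoc]; exact mul_mem (Subalgebra.algebraMap_mem _ c) ha
    refine ⟨t, ⟨j, hj0, fun i => (hnorm i).trans hj.ge, t / φ j, hmem t ht, 1 / φ j, hmem 1 heff, ?_, ?_⟩, htv⟩
    · rw [map_div₀, map_one, hj, div_one]
    · rw [mul_one_div]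

end Groth.Agent.S11066
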