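import Groth.Statements.S11067
import Groth.Agent.FFLib.PlaneModel
import Groth.Agent.FFLib.Exists

set_option autoImplicit false
open FunFld

namespace Groth.Agent.S11067

open Groth.Agent

/-- Over an algebraically closed constant field, for a plane curve with natural map `(1 : x : y)` (so `K
= k(x, y)`) and `y` integral over `k[x]`, the ring `k[x, y]` is the intersection of the rings
`O_P[y]` over the places `P` of `k(x)` at which `x` is integral. -/
theorem result
    (k K : Type*) [Field k] [IsAlgClosed k] [Field K] [Algebra k K]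
    (hK : FunFld.IsFunctionField k K) (x y : K) (hx : Transcendental k x)
    (hxy : IntermediateField.adjoin k ({x, y} : Set K) = ⊤)
    (hy : IsIntegral (Algebra.adjoin k ({x} : Set K)) y) :
    (Algebra.adjoin k ({x, y} : Set K) : Set K) =
      ⋂ (P : FunFld.Place k (IntermediateField.adjoin k ({x} : Set K)))
        (_ : P.1 ⟨x, IntermediateField.mem_adjoin_simple_self k x⟩ ≤ 1),
        (Subring.closure
          ((algebraMap (IntermediateField.adjoin k ({x} : Set K)) K '' (P.O : Set _)) ∪ {y}) :
          Set K) := by

  classical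
  set E := IntermediateField.adjoin k ({x} : Set K) with hE
  let x' : E := ⟨x, IntermediateField.mem_adjoin_simple_self k x⟩
  have hx' : Transcendental k x' := fun h => hx ((isAlgebraic_algebraMap_iff (algebraMap E K).injective).mpr h)
  have htopE : IntermediateField.adjoin k ({x'} : Set E) = ⊤ := by
    apply IntermediateField.map_injective E.val
    rw [IntermediateField.adjoin_map, Set.image_singleton, ← AlgHom.fieldRange_eq_map, IntermediateField.fieldRange_val]
    rfl
  have hFE : FunFld.IsFunctionField k E := by
    refine ⟨⟨x', hx', ?_⟩, fun c hc => ?_⟩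
    · rw [htopE]
      exact Module.Finite.of_surjective (Algebra.linearMap (⊤ : IntermediateField k E) E) fun z =>
        ⟨⟨z, IntermediateField.mem_top⟩, rfl⟩
    · obtain ⟨a, ha⟩ := hK.2 _ (isAlgebraic_algebraMap_iff (algebraMap E K).injective |>.mpr hc)
      exact ⟨a, Subtype.ext ha⟩
  have hyE : IsIntegral E y := by
    obtain ⟨q, hq, hq0⟩ := hy
    refine ⟨q.map ((Algebra.adjoin k ({x} : Set K)).val.toRingHom.codRestrict E fun z =>
      IntermediateField.algebra_adjoin_le_adjoin k _ z.2), hq.map _, ?_⟩
    rw [Polynomial.eval₂_map]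
    exact hq0
  set n := (minpoly E y).natDegree
  have huniq : ∀ r r' : Polynomial E, r.degree < (minpoly E y).degree → r'.degree < (minpoly E y).degree →
      Polynomial.aeval y r = Polynomial.aeval y r' → r = r' := fun r r' hr hr' h => by
    by_contra hne
    exact (minpoly.degree_le_of_ne_zero E y (sub_ne_zero.mpr hne) (by rw [map_sub, h, sub_self])).not_gt
      ((Polynomial.degree_sub_le r r').trans_lt (max_lt hr hr'))
  ext z
  simp only [Set.mem_iInter, SetLike.mem_coe]
  constructor
  · intro hz P hP
    induction hz using Algebra.adjoin_induction with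
    | mem w hw =>
      rcases hw with rfl | rfl
      · exact Subring.subset_closure (Or.inl ⟨x', hP, rfl⟩)
      · exact Subring.subset_closure (Or.inr rfl)
    | algebraMap c => exact Subring.subset_closure (Or.inl ⟨algebraMap k E c, P.2.1 c, rfl⟩)
    | add a b _ _ ha hb => exact add_mem ha hb
    | mul a b _ _ ha hb => exact mul_mem ha hb
  · intro hz
    have hrep : ∀ P : FunFld.Place k E, P.1 x' ≤ 1 → ∃ r : Polynomial E, r.degree < (minpoly E y).degree ∧
        (∀ i, P.1 (r.coeff i) ≤ 1) ∧ Polynomial.aeval y r = z := fun P hP => by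
      letI : Algebra P.O K := ((algebraMap E K).comp (algebraMap P.O E)).toAlgebra
      haveI : IsScalarTower P.O E K := IsScalarTower.of_algebraMap_eq fun _ => rfl
      have hle : ∀ w : Algebra.adjoin k ({x} : Set K), ∃ v : P.O, algebraMap P.O K v = w := fun ⟨w, hw⟩ => by
        induction hw using Algebra.adjoin_induction with
        | mem w hw => obtain rfl : w = x := hw; exact ⟨⟨x', hP⟩, rfl⟩
        | algebraMap c => exact ⟨⟨algebraMap k E c, P.2.1 c⟩, rfl⟩
        | add a b _ _ ha hb =>
          obtain ⟨v, hv⟩ := ha; obtain ⟨v', hv'⟩ := hb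
          exact ⟨v + v', by rw [map_add, hv, hv']⟩
        | mul a b _ _ ha hb =>
          obtain ⟨v, hv⟩ := ha; obtain ⟨v', hv'⟩ := hb
          exact ⟨v * v', by rw [map_mul, hv, hv']⟩
      choose v hv using hle
      have hinj : Function.Injective (algebraMap P.O K) := (algebraMap E K).injective.comp Subtype.val_injective
      have hyO : IsIntegral P.O y := by
        obtain ⟨q, hq, hq0⟩ := hy
        let e : Algebra.adjoin k ({x} : Set K) →+* P.O :=
          { toFun := v
            map_one' := hinj (by rw [hv, map_one]; rfl)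
            map_mul' := fun a b => hinj (by rw [map_mul, hv, hv, hv]; rfl)
            map_zero' := hinj (by rw [hv, map_zero]; rfl)
            map_add' := fun a b => hinj (by rw [map_add, hv, hv, hv]; rfl) }
        refine ⟨q.map e, hq.map _, ?_⟩
        rw [Polynomial.eval₂_map, show (algebraMap P.O K).comp e = algebraMap (Algebra.adjoin k ({x} : Set K)) K from
          RingHom.ext hv]
        exact hq0
      have hmin := minpoly.isIntegrallyClosed_eq_field_fractions' E hyO
      have hmonic := minpoly.monic hyO
      let T : Polynomial P.O →+* K := (Polynomial.aeval (R := P.O) y).toRingHom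
      have hcl : Subring.closure ((algebraMap E K '' (P.O : Set E)) ∪ {y}) ≤ T.range := Subring.closure_le.mpr (by
        rintro _ (⟨a, ha, rfl⟩ | rfl)
        · exact ⟨Polynomial.C ⟨a, ha⟩, (Polynomial.aeval_C (R := P.O) y ⟨a, ha⟩)⟩
        · exact ⟨Polynomial.X, Polynomial.aeval_X _⟩)
      obtain ⟨g, hg⟩ := hcl (hz P hP)
      refine ⟨(g %ₘ minpoly P.O y).map (algebraMap P.O E), ?_, fun i => ?_, ?_⟩
      · rw [hmin, Polynomial.degree_map_eq_of_injective (FaithfulSMul.algebraMap_injective P.O E),
          Polynomial.degree_map_eq_of_injective (FaithfulSMul.algebraMap_injective P.O E)]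
        exact Polynomial.degree_modByMonic_lt g hmonic
      · rw [Polynomial.coeff_map]
        exact ((g %ₘ minpoly P.O y).coeff i).2
      · rw [Polynomial.aeval_map_algebraMap, Polynomial.aeval_modByMonic_eq_self_of_root (minpoly.aeval _ _)]
        exact hg
    obtain ⟨P₀, hP₀⟩ := FFLib.exists_place_zero hFE.1 hx'
    obtain ⟨r, hr, -, hrz⟩ := hrep P₀ hP₀.le
    have hcoeff : ∀ i, algebraMap E K (r.coeff i) ∈ Algebra.adjoin k ({x, y} : Set K) := fun i => by
      obtain ⟨p, hp⟩ := FFLib.exists_eq_aeval hFE hx' (r := r.coeff i) (by rw [htopE]; trivial) fun Q hQ => by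
        obtain ⟨r', hr', hint, hr'z⟩ := hrep Q hQ
        rw [huniq r r' hr hr' (hrz.trans hr'z.symm)]
        exact hint i
      have h3 : E.val (Polynomial.aeval x' p) = Polynomial.aeval x p := (Polynomial.aeval_algHom_apply E.val x' p).symm
      show E.val (r.coeff i) ∈ Algebra.adjoin k ({x, y} : Set K)
      rw [hp, h3]
      exact Algebra.adjoin_mono (Set.singleton_subset_iff.mpr (Set.mem_insert _ _))
        (Polynomial.aeval_mem_adjoin_singleton k x)
    rw [← hrz, Polynomial.aeval_eq_sum_range]
    refine Subalgebra.sum_mem _ fun i _ => ?_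
    have hyR : y ∈ Algebra.adjoin k ({x, y} : Set K) := Algebra.subset_adjoin (Set.mem_insert_of_mem _ rfl)
    have e : r.coeff i • y ^ i = algebraMap E K (r.coeff i) * y ^ i := Algebra.smul_def _ _
    rw [e]
    exact Subalgebra.mul_mem _ (hcoeff i) (Subalgebra.pow_mem _ hyR i)

end Groth.Agent.S11067
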