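import Groth.Statements.S11071
import Groth.Agent.FFLib.ProjJac

set_option autoImplicit false
open FunFld

namespace Groth.Agent.S11071

open Groth.Agent

/-- Over an algebraically closed constant field, let `φ = (φ₀, …, φₙ)`, `n ≥ 1`, be a birational
projective map, `f₁, …, f_r` homogeneous generators of its ideal of homogeneous relations (the ideal
of the image curve), and `P` a place at which all `φᵢ/φ₀` are integral, with image point `a`. Then
`φ` is nonsingular at `P` if and only if the matrix `(∂fᵢ/∂Xⱼ(a))`, `1 ≤ j ≤ n`, has rank `n - 1`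
(entries read in the residue field of `P`). Here the local ring of `φ` at `P` consists of the
quotients of polynomials over `k` in the ratios `φᵢ/φ₀` with denominator a unit at `P`; `φ` is
nonsingular at `P` when this ring is the whole valuation ring. -/
theorem result (k K : Type*) [Field k] [IsAlgClosed k] [Field K] [Algebra k K]
    (hK : FunFld.IsFunctionField k K) {n : ℕ} (hn : 1 ≤ n)
    (φ : Fin (n + 1) → K) (hφ : LinearIndependent k φ)
    (hbir : IntermediateField.adjoin k (Set.range fun i => φ i / φ 0) = ⊤)
    (P : FunFld.Place k K) (hP : ∀ i, P.1 (φ i) ≤ P.1 (φ 0)) {r : ℕ}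
    (f : Fin r → MvPolynomial (Fin (n + 1)) k)
    (hhom : ∀ i, (f i).IsHomogeneous (f i).totalDegree)
    (hgen : Ideal.span (Set.range f) =
      RingHom.ker (MvPolynomial.aeval fun i => Polynomial.C (φ i) * Polynomial.X))
    (M : Matrix (Fin r) (Fin n) P.O)
    (hM : ∀ i j, ((M i j : P.O) : K) =
      MvPolynomial.aeval (fun l => φ l / φ 0) (MvPolynomial.pderiv j.succ (f i))) :
    FunFld.IsNonsingularAt φ P ↔ (M.map (IsLocalRing.residue P.O)).rank = n - 1 := by

  classical
  have h0 := hφ.ne_zero (0 : Fin (n + 1))
  obtain ⟨a, ha0, ha⟩ := FFLib.exists_values P φ hK h0 hP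
  rw [FFLib.nonsingular_iff_tangent P φ h0 hP ha h0 hbir (F := Set.range f) hgen.symm
    (by rintro _ ⟨i, rfl⟩; exact hhom i)]
  let y : Fin (n + 1) → P.O := fun l => ⟨φ l / φ 0, FFLib.val_ratio_le P φ h0 hP l⟩
  let A : Matrix (Fin r) (Fin n) k := Matrix.of fun i l => MvPolynomial.eval a (MvPolynomial.pderiv l.succ (f i))
  have hMA : M.map (IsLocalRing.residue P.O) = A.map (algebraMap k (IsLocalRing.ResidueField P.O)) := by
    ext i l
    have e : M i l = MvPolynomial.aeval y (MvPolynomial.pderiv l.succ (f i)) :=
      Subtype.ext ((hM i l).trans (FFLib.coe_aeval P y _).symm)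
    rw [Matrix.map_apply, e, FFLib.residue_aeval P ha y (fun _ => rfl)]
    rfl
  haveI : Algebra.IsIntegral k (IsLocalRing.ResidueField P.O) :=
    @Algebra.IsIntegral.of_finite k (IsLocalRing.ResidueField P.O) _ _ _ (FFLib.residue_finite hK.1 P)
  have hb := IsAlgClosed.algebraMap_bijective_of_isIntegral (k := k) (K := IsLocalRing.ResidueField P.O)
  let E := RingEquiv.ofBijective (algebraMap k (IsLocalRing.ResidueField P.O)) hb
  have hE : ∀ v : Fin n → k, (A.map E).mulVec (fun l => E (v l)) = fun i => E (A.mulVec v i) := fun v => by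
    funext i; simp [Matrix.mulVec, dotProduct, map_sum]
  have hrank : (A.map E).rank = A.rank := by
    let g : LinearMap.range A.mulVecLin ≃+ LinearMap.range (A.map E).mulVecLin :=
      { toFun := fun v => ⟨fun i => E (v.1 i), by
          obtain ⟨w, hw⟩ := v.2
          exact ⟨fun l => E (w l), by rw [Matrix.mulVecLin_apply, hE, ← hw, Matrix.mulVecLin_apply]⟩⟩
        invFun := fun v => ⟨fun i => E.symm (v.1 i), by
          obtain ⟨w, hw⟩ := v.2
          refine ⟨fun l => E.symm (w l), funext fun i => E.injective ?_⟩
          have := congrFun (hE (fun l => E.symm (w l))) i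
          simp only [RingEquiv.apply_symm_apply] at this
          rw [Matrix.mulVecLin_apply, E.apply_symm_apply, ← this, ← hw, Matrix.mulVecLin_apply]⟩
        left_inv := fun v => Subtype.ext (funext fun i => E.symm_apply_apply _)
        right_inv := fun v => Subtype.ext (funext fun i => E.apply_symm_apply _)
        map_add' := fun v w => Subtype.ext (funext fun i => map_add E _ _) }
    have := lift_rank_eq_of_equiv_equiv (R := k) (R' := IsLocalRing.ResidueField P.O) E g E.bijective
      fun c v => Subtype.ext (funext fun i => map_mul E _ _)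
    unfold Matrix.rank Module.finrank
    simpa using (congrArg Cardinal.toNat this).symm
  let T : FFLib.tangent (insert (MvPolynomial.X 0 - 1) (Set.range f)) a ≃ₗ[k] LinearMap.ker A.mulVecLin :=
    { toFun := fun v => ⟨fun l => v.1 l.succ, by
        obtain ⟨hv0, hv⟩ := FFLib.mem_tangent_insert.mp v.2
        rw [LinearMap.mem_ker, Matrix.mulVecLin_apply]
        funext i
        have := hv (f i) ⟨i, rfl⟩
        rw [Fin.sum_univ_succ, hv0, mul_zero, zero_add] at this
        exact this⟩
      invFun := fun w => ⟨Fin.cons 0 w.1, FFLib.mem_tangent_insert.mpr ⟨rfl, by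
        rintro _ ⟨i, rfl⟩
        rw [Fin.sum_univ_succ]
        simp only [Fin.cons_zero, Fin.cons_succ, mul_zero, zero_add]
        exact congrFun (LinearMap.mem_ker.mp w.2) i⟩⟩
      map_add' := fun _ _ => rfl
      map_smul' := fun _ _ => rfl
      left_inv := fun v => Subtype.ext (funext fun l => by
        refine Fin.cases ?_ (fun l => ?_) l
        · exact (FFLib.mem_tangent_insert.mp v.2).1.symm
        · rfl)
      right_inv := fun w => Subtype.ext (funext fun l => rfl) }
  have hsum := LinearMap.finrank_range_add_finrank_ker A.mulVecLin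
  rw [Module.finrank_fintype_fun_eq_card, Fintype.card_fin, ← Matrix.rank, ← T.finrank_eq] at hsum
  rw [hMA]
  show _ ↔ (A.map E).rank = n - 1
  rw [hrank]
  omega

end Groth.Agent.S11071
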