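import Groth.Statements.S11072
import Groth.Agent.FFLib.ProjJac

set_option autoImplicit false
open FunFld

namespace Groth.Agent.S11072

open Groth.Agent

/-- Over an algebraically closed constant field, a plane curve with defining irreducible homogeneous
polynomial `f` and birational natural map `φ = (φ₀ : φ₁ : φ₂)` is singular at the point `a = φ(P)`
(coordinates `(φᵢ/φⱼ)(P)` for an entry `φⱼ` of least order at `P`, read in the residue field) if and
only if `∂f/∂Xᵢ(a) = 0` for `i = 0, 1, 2`. Here `φ` is nonsingular at `P` when its local ring there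
(quotients of polynomials over `k` in the `φᵢ/φⱼ` with denominator a unit at `P`) is the whole
valuation ring. -/
theorem result (k K : Type*) [Field k] [IsAlgClosed k] [Field K] [Algebra k K]
    (hK : FunFld.IsFunctionField k K) (φ : Fin 3 → K)
    (hφ : LinearIndependent k φ)
    (hbir : IntermediateField.adjoin k (Set.range fun i => φ i / φ 0) = ⊤)
    (f : MvPolynomial (Fin 3) k) (hf : Irreducible f) (hhom : f.IsHomogeneous f.totalDegree)
    (hfφ : MvPolynomial.aeval φ f = 0) (P : FunFld.Place k K) (j : Fin 3)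
    (hj : ∀ i, P.1 (φ i) ≤ P.1 (φ j)) (a : Fin 3 → P.O) (ha : ∀ i, ((a i : P.O) : K) = φ i / φ j) :
    ¬ FunFld.IsNonsingularAt φ P ↔
      ∀ l : Fin 3, MvPolynomial.aeval (fun i => IsLocalRing.residue P.O (a i))
        (MvPolynomial.pderiv l f) = 0 := by

  classical
  have hj0 : φ j ≠ 0 := hφ.ne_zero j
  have h0 : φ 0 ≠ 0 := hφ.ne_zero 0
  obtain ⟨c, hc1, hc⟩ := FFLib.exists_values P φ hK hj0 hj
  rw [FFLib.nonsingular_iff_tangent P φ hj0 hj hc h0 hbir (F := {f}) (FFLib.plane_ker hK h0 hbir hf hhom hfφ)
    (by rintro _ rfl; exact hhom)]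
  set g : Fin 3 → k := fun l => MvPolynomial.eval c (MvPolynomial.pderiv l f) with hg
  have hres : ∀ l, MvPolynomial.aeval (fun i => IsLocalRing.residue P.O (a i)) (MvPolynomial.pderiv l f) =
      algebraMap k (IsLocalRing.ResidueField P.O) (g l) := fun l => by
    rw [hg, ← FFLib.residue_aeval P hc a ha]
    induction MvPolynomial.pderiv l f using MvPolynomial.induction_on with
    | C c => simp [FFLib.residue_algebraMap]
    | add p q hp hq => simp [hp, hq]
    | mul_X p i hp => simp [hp]
  simp only [hres, map_eq_zero]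
  have heuler : ∑ i, c i * g i = 0 := by
    have h := FFLib.sum_X_mul_pderiv_eval (K := k) hhom c
    rw [FFLib.eval_eq_zero P hc (FFLib.aeval_ratio_eq_zero φ hj0 hhom hfφ) |> fun e =>
      show MvPolynomial.aeval c f = 0 by rw [MvPolynomial.aeval_eq_eval]; exact e, mul_zero] at h
    simpa [MvPolynomial.aeval_eq_eval] using h
  have hcard : ∀ q : Fin 3, (Finset.univ.erase q).card = 2 := fun q => by simp
  constructor
  · intro hne
    by_contra! hall
    obtain ⟨p, hp⟩ := hall
    obtain ⟨i, hij, hi⟩ : ∃ i, i ≠ j ∧ g i ≠ 0 := by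
      by_contra! hz
      have hj' : g j = 0 := by
        rw [Finset.sum_eq_single j (fun b _ hb => by rw [hz b hb, mul_zero])
          (fun h => absurd (Finset.mem_univ j) h), hc1, one_mul] at heuler
        exact heuler
      rcases eq_or_ne p j with rfl | hpj
      · exact hp hj'
      · exact hp (hz p hpj)
    obtain ⟨l, hlj, hli, huniv⟩ : ∃ l, l ≠ j ∧ l ≠ i ∧ ∀ m, m = j ∨ m = i ∨ m = l := by
      exact (by decide : ∀ j i : Fin 3, i ≠ j → ∃ l, l ≠ j ∧ l ≠ i ∧ ∀ m, m = j ∨ m = i ∨ m = l) j i hij
    refine hne (finrank_eq_one_iff'.mpr ⟨⟨fun m => if m = l then g i else if m = i then -g l else 0,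
      FFLib.mem_tangent_insert.mpr ⟨by simp [hlj.symm, hij.symm], ?_⟩⟩, ?_, fun ⟨v, hv⟩ => ?_⟩)
    · rintro _ rfl
      show ∑ m, g m * _ = 0
      rw [Finset.sum_eq_add_of_mem l i (Finset.mem_univ _) (Finset.mem_univ _) hli fun m _ hm => by simp [hm.1, hm.2]]
      simp [hli.symm]
      ring
    · intro e
      exact hi (by simpa using congrFun (congrArg Subtype.val e) l)
    · obtain ⟨hv0, hv⟩ := FFLib.mem_tangent_insert.mp hv
      have hv' : ∑ m, g m * v m = 0 := hv f rfl
      rw [Finset.sum_eq_add_of_mem l i (Finset.mem_univ _) (Finset.mem_univ _) hli fun m _ hm => by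
        rcases huniv m with rfl | rfl | rfl
        · rw [hv0, mul_zero]
        · exact absurd rfl hm.2
        · exact absurd rfl hm.1] at hv'
      refine ⟨v l / g i, Subtype.ext (funext fun m => ?_)⟩
      rcases huniv m with rfl | rfl | rfl
      · simp [hlj.symm, hij.symm, hv0]
      · simp [hli.symm]
        field_simp
        linear_combination -hv'
      · simp [hi]
  · intro hall h
    have hle : LinearMap.ker (LinearMap.proj j : (Fin 3 → k) →ₗ[k] k) ≤
        FFLib.tangent (insert (MvPolynomial.X j - 1) {f}) c := fun v hv =>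
      FFLib.mem_tangent_insert.mpr ⟨hv, fun p hp => by
        obtain rfl : p = f := hp
        exact Finset.sum_eq_zero fun i _ => by rw [show MvPolynomial.eval c (MvPolynomial.pderiv i p) = 0 from hall i, zero_mul]⟩
    have h2 := Submodule.finrank_mono hle
    have h3 := LinearMap.finrank_range_add_finrank_ker (LinearMap.proj j : (Fin 3 → k) →ₗ[k] k)
    have h4 := Submodule.finrank_le (LinearMap.range (LinearMap.proj j : (Fin 3 → k) →ₗ[k] k))
    rw [Module.finrank_self] at h4
    rw [Module.finrank_fintype_fun_eq_card, Fintype.card_fin] at h3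
    omega

end Groth.Agent.S11072
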