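import Groth.Statements.S11074
import Groth.Agent.FFLib.ProjJac

set_option autoImplicit false
open FunFld

namespace Groth.Agent.S11074

open Groth.Agent

/-- Over an algebraically closed constant field, at a nonsingular point `a = φ(P)` of a plane curve
`V(f)` with birational natural map `φ = (φ₀ : φ₁ : φ₂)`, the tangent line is `(∂f/∂X₀(a) : ∂f/∂X₁(a)
: ∂f/∂X₂(a))`: the corresponding linear form, pulled back along `φ` normalized at `P`, vanishes to
order at least `2` at `P` (the tangent line being the one line whose pullback vanishes to order `≥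
2`). Nonsingular at `P` means that the local ring of `φ` at `P` (quotients of polynomials over `k`
in the `φᵢ/φⱼ`, `φⱼ` of least order at `P`, denominator a unit at `P`) is the whole valuation ring. -/
theorem result
    (k K : Type*) [Field k] [IsAlgClosed k] [Field K] [Algebra k K]
    (hK : FunFld.IsFunctionField k K) (φ : Fin 3 → K) (hφ : LinearIndependent k φ)
    (hbir : IntermediateField.adjoin k (Set.range fun i => φ i / φ 0) = ⊤)
    (f : MvPolynomial (Fin 3) k) (hf : Irreducible f) (hhom : f.IsHomogeneous f.totalDegree)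
    (hfφ : MvPolynomial.aeval φ f = 0) (P : FunFld.Place k K) (j : Fin 3)
    (hj : ∀ i, P.1 (φ i) ≤ P.1 (φ j)) (hns : FunFld.IsNonsingularAt φ P) (a : Fin 3 → P.O)
    (ha : ∀ i, ((a i : P.O) : K) = φ i / φ j) (c : Fin 3 → k)
    (hc : ∀ i, algebraMap k (IsLocalRing.ResidueField P.O) (c i) =
      MvPolynomial.aeval (fun l => IsLocalRing.residue P.O (a l)) (MvPolynomial.pderiv i f)) :
    P.1 (∑ i, c i • (φ i / φ j)) ≤ WithZero.exp (-2) := by

  classical
  have hj0 : φ j ≠ 0 := hφ.ne_zero j
  obtain ⟨b, hb1, hb⟩ := FFLib.exists_values P φ hK hj0 hj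
  have hcb : ∀ i, c i = MvPolynomial.eval b (MvPolynomial.pderiv i f) := fun i => by
    refine (algebraMap k (IsLocalRing.ResidueField P.O)).injective ((hc i).trans ?_)
    rw [← FFLib.residue_aeval P hb a ha]
    induction MvPolynomial.pderiv i f using MvPolynomial.induction_on with
    | C c => simp [FFLib.residue_algebraMap]
    | add p q hp hq => simp [hp, hq]
    | mul_X p i hp => simp [hp]
  have h0 : MvPolynomial.aeval (fun i => φ i / φ j) f = 0 := FFLib.aeval_ratio_eq_zero φ hj0 hhom hfφ
  have hfb := FFLib.eval_eq_zero P hb h0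
  have heuler : ∑ i, c i * b i = 0 := by
    have h := FFLib.sum_X_mul_pderiv_eval (K := k) hhom b
    simp only [MvPolynomial.aeval_eq_eval, RingHom.toFun_eq_coe] at h
    simp only [hcb]
    rw [show MvPolynomial.eval b f = 0 from hfb, mul_zero] at h
    simpa [mul_comm] using h
  have ht := FFLib.val_ptIdeal_sq P hb (FFLib.taylor_sq (x := fun i => φ i / φ j) (a := b) f)
  rw [Subalgebra.coe_sub, Subalgebra.coe_sub, FFLib.evalR_coe, h0, Subalgebra.coe_algebraMap,
    show MvPolynomial.eval b f = 0 from hfb, map_zero, sub_zero, zero_sub, Valuation.map_neg] at ht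
  convert ht using 2
  push_cast
  simp only [FFLib.evalR_coe, MvPolynomial.aeval_X, ← hcb, mul_sub, Finset.sum_sub_distrib, ← Algebra.smul_def]
  rw [show ∑ i, c i • algebraMap k K (b i) = 0 by simp only [Algebra.smul_def, ← map_mul, ← map_sum, heuler, map_zero],
    sub_zero]

end Groth.Agent.S11074
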