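import Groth.Statements.S11077
import Groth.Agent.FFLib.IntersectionMult

set_option autoImplicit false
open FunFld

namespace Groth.Agent.S11077

open Groth.Agent

/-- Over an algebraically closed constant field, for a plane curve `V(f)` with natural map `(1 : x :
y)`, a polynomial `g` not vanishing on the curve and a finite point `a = (c₀, c₁)` of the curve
below the place `P`, the intersection multiplicity of `V(g)` with the curve at `a` (the sum of
`ord_Q g(x, y)` over the places `Q` with image point `a`) equals `dim_k A/(f, g)` with `A` the local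
ring of the plane at `a`. Two places have the same image point when some entry of `(1, x, y)` has
least order at both and the ratios are congruent to common constants modulo both maximal ideals. -/
theorem result
    (k K : Type*) [Field k] [IsAlgClosed k] [Field K] [Algebra k K]
    (hK : FunFld.IsFunctionField k K) (x y : K)
    (hxy : IntermediateField.adjoin k ({x, y} : Set K) = ⊤) (f g : MvPolynomial (Fin 2) k)
    (hf : Irreducible f) (hfxy : MvPolynomial.aeval ![x, y] f = 0)
    (hgxy : MvPolynomial.aeval ![x, y] g ≠ 0) (P : FunFld.Place k K) (c : Fin 2 → k)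
    (hc : ∀ i, P.1 (![x, y] i - algebraMap k K (c i)) < 1)
    (M : Ideal (MvPolynomial (Fin 2) k)) [M.IsMaximal]
    (hM : M = Ideal.span {MvPolynomial.X 0 - MvPolynomial.C (c 0),
      MvPolynomial.X 1 - MvPolynomial.C (c 1)}) :
    ∑ᶠ Q ∈ {Q : FunFld.Place k K | FunFld.SameImage ![(1 : K), x, y] P Q},
        Q.ord (MvPolynomial.aeval ![x, y] g) =
      (Module.finrank k (Localization.AtPrime M ⧸
        Ideal.map (algebraMap (MvPolynomial (Fin 2) k) (Localization.AtPrime M))
          (Ideal.span {f, g})) : ℤ) := by

  obtain ⟨S, hS⟩ := FFLib.IntMult.exists_pointPlaces hK hxy c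
  have h := FFLib.IntMult.sum_ord_eq_finrank hK hxy hf hfxy hgxy hc S hS M hM
  rw [← h, show {Q : FunFld.Place k K | FunFld.SameImage ![(1 : K), x, y] P Q} = ↑S from
    Set.ext fun Q => (FFLib.IntMult.sameImage_iff hc Q).trans (hS Q).symm]
  exact finsum_mem_coe_finset _ _

end Groth.Agent.S11077
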