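import Groth.Statements.S11079
import Mathlib

set_option autoImplicit false
universe u
open CAlg

namespace Groth.Agent.S11079

/-- Let L/K be a finite Galois extension of fields, n a natural number, and B a map from the Galois
group of L over K to the invertible n × n matrices over L such that B(σ) · σ(B(τ)) = B(στ) for all
σ, τ, where σ acts on matrices entrywise and στ is the automorphism applying τ first. Then there is
an invertible matrix A over L with B(σ) = A⁻¹ · σ(A) for every σ; that is, every 1-cocycle of the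
Galois group with values in GL_n(L) is a coboundary. -/
theorem result (K L : Type u) [Field K] [Field L]
    [Algebra K L] [FiniteDimensional K L] [IsGalois K L] (n : ℕ)
    (B : (L ≃ₐ[K] L) → GL (Fin n) L)
    (hB : ∀ σ τ : L ≃ₐ[K] L,
      (B σ : Matrix (Fin n) (Fin n) L) * (B τ : Matrix (Fin n) (Fin n) L).map σ = (B (σ * τ) : Matrix (Fin n) (Fin n) L)) :
    ∃ A : GL (Fin n) L, ∀ σ : L ≃ₐ[K] L,
      (B σ : Matrix (Fin n) (Fin n) L) = ((A⁻¹ : GL (Fin n) L) : Matrix (Fin n) (Fin n) L) * (A : Matrix (Fin n) (Fin n) L).map σ := by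
  classical
  let Bi : (L ≃ₐ[K] L) → Matrix (Fin n) (Fin n) L := fun τ => ((B τ)⁻¹ : GL (Fin n) L)
  let f : (Fin n → L) → (Fin n → L) := fun v => ∑ τ : L ≃ₐ[K] L, Matrix.vecMul (τ ∘ v) (Bi τ)
  have hspan : Submodule.span L (Set.range f) = ⊤ := by
    by_contra hne
    obtain ⟨φ, hφ0, hφ⟩ := Submodule.exists_dual_map_eq_bot_of_lt_top (lt_top_iff_ne_top.2 hne) inferInstance
    have hzero : ∀ v, φ (f v) = 0 := fun v => by
      have := Submodule.mem_map_of_mem (f := φ) (Submodule.subset_span (R := L) (s := Set.range f) ⟨v, rfl⟩)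
      rw [hφ, Submodule.mem_bot] at this
      exact this
    let u : Fin n → L := fun c => φ (Pi.single c 1)
    have hφu : ∀ w, φ w = w ⬝ᵥ u := fun w => by
      conv_lhs => rw [pi_eq_sum_univ' w]
      simp [dotProduct, u]
    have hinj : Function.Injective fun σ : L ≃ₐ[K] L => (σ : L →* L) := fun σ τ h =>
      AlgEquiv.ext fun x => DFunLike.congr_fun h x
    have hli := (linearIndependent_monoidHom L L).comp _ hinj
    have hcomp : ∀ i τ, (Bi τ).mulVec u i = 0 := by
      intro i
      refine Fintype.linearIndependent_iff.1 hli _ ?_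
      funext c
      rw [Finset.sum_apply, Pi.zero_apply, ← hzero (Pi.single i c), hφu]
      simp only [f, sum_dotProduct, ← Matrix.dotProduct_mulVec]
      refine Finset.sum_congr rfl fun τ _ => ?_
      have : ⇑τ ∘ Pi.single i c = Pi.single i (τ c) := by
        funext j; by_cases h : j = i
        · subst h; simp
        · simp [h]
      rw [this, single_dotProduct]
      simp [mul_comm]
    have hu : u = 0 := by
      have h1 : (Bi 1).mulVec u = 0 := funext fun i => hcomp i 1
      have h2 : ((B 1 : Matrix (Fin n) (Fin n) L) * Bi 1).mulVec u = 0 := by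
        rw [← Matrix.mulVec_mulVec, h1, Matrix.mulVec_zero]
      rwa [show (B 1 : Matrix (Fin n) (Fin n) L) * Bi 1 = 1 from (B 1).mul_inv, Matrix.one_mulVec] at h2
    exact hφ0 (LinearMap.ext fun w => by rw [hφu, hu, dotProduct_zero]; rfl)
  obtain ⟨κ, a, ha, hsp, hli2⟩ := exists_linearIndependent' L f
  rw [hspan] at hsp
  let b := Module.Basis.mk hli2 hsp.ge
  haveI := Module.Finite.finite_basis b
  haveI := Fintype.ofFinite κ
  have hcard : Fintype.card κ = n := by rw [← Module.finrank_eq_card_basis b, Module.finrank_fin_fun]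
  let e : Fin n ≃ κ := (Fintype.equivFinOfCardEq hcard).symm
  let M : Matrix (Fin n) (Fin n) L := Matrix.of fun i => f (a (e i))
  have hM : IsUnit M :=
    Matrix.linearIndependent_rows_iff_isUnit.1 (hli2.comp _ e.injective)
  refine ⟨hM.unit, fun σ => ?_⟩
  have key : M.map σ = M * (B σ : Matrix (Fin n) (Fin n) L) := by
    ext i j
    have h1 : M.map σ i = ∑ τ : L ≃ₐ[K] L, Matrix.vecMul ((σ * τ : L ≃ₐ[K] L) ∘ a (e i)) ((Bi τ).map σ) := by
      funext j
      simp only [M, f, Matrix.map_apply, Matrix.of_apply, Finset.sum_apply, map_sum, Matrix.vecMul, dotProduct,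
        map_mul, AlgEquiv.mul_apply, Function.comp_apply]
    have h2 : ∀ τ, (Bi τ).map σ = Bi (σ * τ) * (B σ : Matrix (Fin n) (Fin n) L) := by
      intro τ
      have h3 : (B τ : Matrix (Fin n) (Fin n) L).map σ * (Bi τ).map σ = 1 := by
        rw [← Matrix.map_mul, show (B τ : Matrix (Fin n) (Fin n) L) * Bi τ = 1 from (B τ).mul_inv,
          Matrix.map_one _ (map_zero σ) (map_one σ)]
      have h4 : Bi (σ * τ) * (B σ : Matrix (Fin n) (Fin n) L) * (B τ : Matrix (Fin n) (Fin n) L).map σ = 1 := by
        rw [Matrix.mul_assoc, hB]; exact (B (σ * τ)).inv_mul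
      exact (left_inv_eq_right_inv h4 h3).symm
    rw [h1, show (M * (B σ : Matrix (Fin n) (Fin n) L)) i = Matrix.vecMul (M i) (B σ : Matrix (Fin n) (Fin n) L) from rfl]
    refine congrFun ?_ j
    rw [show M i = f (a (e i)) from rfl]
    simp only [f, Matrix.sum_vecMul, h2, ← Matrix.vecMul_vecMul]
    exact Fintype.sum_equiv (Equiv.mulLeft σ) _ _ fun τ => rfl
  rw [show ((hM.unit : GL (Fin n) L) : Matrix (Fin n) (Fin n) L) = M from hM.unit_spec, key, ← Matrix.mul_assoc]
  conv_rhs => rw [show ((hM.unit⁻¹ : GL (Fin n) L) : Matrix (Fin n) (Fin n) L) * M = 1 from hM.val_inv_mul]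
  rw [Matrix.one_mul]


end Groth.Agent.S11079
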