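import Groth.Statements.S1108
import Groth.Agent.KExact.AmpleFamily
-- import your own Groth.Agent.* helpers here

set_option autoImplicit false
set_option linter.style.haveILetI false
set_option backward.isDefEq.respectTransparency false
set_option backward.isDefEq.respectTransparency.types false

universe u
open CategoryTheory AlgebraicGeometry
open Perf

namespace Groth.Agent.S1108

/-- A scheme X admitting an ample invertible O_X-module has the resolution property: every
quasi-coherent O_X-module of finite type is a quotient of a finite locally free O_X-module. -/
theorem result (X : Scheme.{u}) (L : X.Modules) (hL : CohB1.IsAmple L) : PerfAux.HasResolutionProperty X := KExact.AmpleFamily.hasResolutionProperty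
    ⟨hL.2.1, fun x => by
      obtain ⟨n, s, hs, ha⟩ := hL.2.2 x
      exact ⟨L, n + 1, s, hL.1, Nat.succ_pos n, hs, ha⟩⟩
end Groth.Agent.S1108
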