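import Groth.Statements.S11081
import Groth.Agent.DiffTame.Basic

set_option autoImplicit false
universe u
attribute [local instance] FractionRing.liftAlgebra
open CAlg

namespace Groth.Agent.S11081
theorem trace_pi {k : Type u} [Field k] {ι : Type u} [Fintype ι] (R : ι → Type u) [∀ i, CommRing (R i)]
    [∀ i, Algebra k (R i)] [∀ i, Module.Finite k (R i)] (x : ∀ i, R i) :
    Algebra.trace k (∀ i, R i) x = ∑ i, Algebra.trace k (R i) (x i) := by
  classical
  have hd : Algebra.lmul k (∀ i, R i) x = ∑ i, (LinearMap.single k R i ∘ₗ Algebra.lmul k (R i) (x i)) ∘ₗ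
      LinearMap.proj i := by
    refine LinearMap.ext fun v => funext fun j => ?_
    simp [LinearMap.sum_apply, Finset.sum_apply, Pi.single_apply]
  rw [Algebra.trace_apply, hd, map_sum]
  refine Finset.sum_congr rfl fun i _ => ?_
  rw [LinearMap.trace_comp_comm', ← LinearMap.comp_assoc, LinearMap.proj_comp_single_same, LinearMap.id_comp]
  rfl

theorem trace_quot_pow {k B : Type u} [Field k] [CommRing B] [IsDedekindDomain B] (Q : Ideal B) [Q.IsMaximal]
    (hQ : Q ≠ ⊥) (e : ℕ) (he : 1 ≤ e) [Algebra k (B ⧸ Q ^ e)] [Algebra k (B ⧸ Q)] [Module.Finite k (B ⧸ Q ^ e)]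
    (hc : ∀ c : k, Ideal.Quotient.factor (Ideal.pow_le_self (Nat.one_le_iff_ne_zero.mp he) : Q ^ e ≤ Q)
      (algebraMap k (B ⧸ Q ^ e) c) = algebraMap k (B ⧸ Q) c) (x : B) :
    Algebra.trace k (B ⧸ Q ^ e) (Ideal.Quotient.mk _ x) =
      e • Algebra.trace k (B ⧸ Q) (Ideal.Quotient.mk _ x) := by
  obtain ⟨t, htQ, ht2⟩ := SetLike.exists_of_lt
    (Ideal.pow_right_strictAnti Q hQ (Ideal.IsMaximal.ne_top ‹_›) (by norm_num : 1 < 2))
  replace htQ : t ∈ Q := by simpa using htQ
  have hle : Ideal.span {t} ≤ Q := (Ideal.span_singleton_le_iff_mem _).2 htQ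
  have hgen : ∀ j, Q ≤ Ideal.span {t} ⊔ Q ^ (j + 1) := by
    intro j
    induction j with
    | zero => rw [zero_add, pow_one]; exact le_sup_right
    | succ j ih =>
      have h2 : Q ≤ Ideal.span {t} ⊔ Q ^ 2 := by
        have hlt : Q ^ 2 < Ideal.span {t} ⊔ Q ^ 2 :=
          lt_of_le_not_ge le_sup_right fun h => ht2 (h (Ideal.mem_sup_left (Ideal.mem_span_singleton_self t)))
        have hle2 : Ideal.span {t} ⊔ Q ^ 2 ≤ Q := sup_le hle (Ideal.pow_le_self two_ne_zero)
        exact (Ideal.eq_prime_pow_of_succ_lt_of_le (i := 1) hQ hlt (by rwa [pow_one]) ▸ (pow_one Q).ge)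
      refine h2.trans (sup_le le_sup_left ?_)
      rw [sq]
      calc Q * Q ≤ Q * (Ideal.span {t} ⊔ Q ^ (j + 1)) := Ideal.mul_mono_right ih
        _ ≤ Ideal.span {t} ⊔ Q ^ (j + 1 + 1) := by
          rw [Ideal.mul_sup, ← pow_succ']
          exact sup_le_sup_right Ideal.mul_le_right _
  have hpow : ∀ i, Q ^ i ≤ Ideal.span {t ^ i} ⊔ Q ^ (i + 1) := by
    intro i
    induction i with
    | zero => simp
    | succ i ih =>
      calc Q ^ (i + 1) = Q ^ i * Q := pow_succ Q i
        _ ≤ (Ideal.span {t ^ i} ⊔ Q ^ (i + 1)) * (Ideal.span {t} ⊔ Q ^ 2) := Ideal.mul_mono ih (hgen 1)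
        _ ≤ Ideal.span {t ^ (i + 1)} ⊔ Q ^ (i + 1 + 1) := by
          rw [Ideal.sup_mul, Ideal.mul_sup, Ideal.mul_sup, Ideal.span_singleton_mul_span_singleton, ← pow_succ]
          refine sup_le (sup_le le_sup_left (le_trans ?_ le_sup_right)) (sup_le (le_trans ?_ le_sup_right) (le_trans ?_ le_sup_right))
          · calc Ideal.span {t ^ i} * Q ^ 2 ≤ Q ^ i * Q ^ 2 :=
                Ideal.mul_mono_left ((Ideal.span_singleton_le_iff_mem _).2 (Ideal.pow_mem_pow htQ i))
              _ = Q ^ (i + 1 + 1) := (pow_add Q i 2).symm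
          · rw [pow_succ Q (i + 1)]
            exact Ideal.mul_mono_right hle
          · rw [← pow_add]
            exact Ideal.pow_le_pow_right (by omega)
  set T : B ⧸ Q ^ e := Ideal.Quotient.mk _ t with hT
  have hspan : ∀ b : B, Ideal.Quotient.mk (Q ^ e) b ∈ Ideal.span {T} ↔ b ∈ Q := fun b => by
    rw [Ideal.mem_span_singleton']
    constructor
    · rintro ⟨c, hc⟩
      obtain ⟨c, rfl⟩ := Ideal.Quotient.mk_surjective c
      rw [hT, ← map_mul, Ideal.Quotient.eq] at hc
      have := sub_mem (Q.mul_mem_left c htQ) (Ideal.pow_le_self (Nat.one_le_iff_ne_zero.mp he) hc)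
      rwa [sub_sub_cancel] at this
    · intro hb
      obtain ⟨a, ha, z, hz, rfl⟩ := Submodule.mem_sup.1 (hgen (e - 1) hb)
      obtain ⟨c, rfl⟩ := Ideal.mem_span_singleton'.1 ha
      rw [Nat.sub_add_cancel he] at hz
      exact ⟨Ideal.Quotient.mk _ c, by rw [map_add, map_mul, Ideal.Quotient.eq_zero_iff_mem.2 hz, add_zero]⟩
  have hu : ∀ b : B, b ∉ Q → IsUnit (Ideal.Quotient.mk (Q ^ e) b) := fun b hb => by
    have htop : Ideal.span {b} ⊔ Q ^ e = ⊤ := Ideal.sup_pow_eq_top
      ((Ideal.IsMaximal.out (I := Q)).2 _ (lt_of_le_of_ne le_sup_right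
        fun h => hb (h ▸ Ideal.mem_sup_left (Ideal.mem_span_singleton_self b))))
    obtain ⟨a, ha, z, hz, h1⟩ := Submodule.mem_sup.1 ((Ideal.eq_top_iff_one _).1 htop)
    obtain ⟨c, rfl⟩ := Ideal.mem_span_singleton'.1 ha
    exact IsUnit.of_mul_eq_one_right (Ideal.Quotient.mk _ c) (by
      rw [← map_mul, ← map_one (Ideal.Quotient.mk (Q ^ e)), ← h1, map_add, Ideal.Quotient.eq_zero_iff_mem.2 hz,
        add_zero])
  rw [Groth.Agent.DiffTame.trace_eq_nsmul (k := k) T e
    (by rw [hT, ← map_pow, Ideal.Quotient.eq_zero_iff_mem]; exact Ideal.pow_mem_pow htQ e)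
    (fun i hi h0 => by
      rw [hT, ← map_pow, Ideal.Quotient.eq_zero_iff_mem] at h0
      have hle' : Q ^ i ≤ Q ^ (i + 1) := (hpow i).trans
        (sup_le ((Ideal.span_singleton_le_iff_mem _).2 (Ideal.pow_le_pow_right hi h0)) le_rfl)
      exact (Ideal.pow_right_strictAnti Q hQ (Ideal.IsMaximal.ne_top ‹_›) (Nat.lt_succ_self i)).not_ge hle')
    (fun v hv => by
      obtain ⟨b, rfl⟩ := Ideal.Quotient.mk_surjective v
      exact hu b fun hb => hv ((hspan b).2 hb))
    (fun h => (Ideal.IsMaximal.ne_top ‹Q.IsMaximal›) ((Ideal.eq_top_iff_one _).2 ((hspan 1).1 (by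
      rw [Ideal.span_singleton_eq_top.2 h]; exact Submodule.mem_top))))
    (Ideal.Quotient.mk _ x)]
  congr 1
  let f : (B ⧸ Q ^ e) →ₐ[k] B ⧸ Q :=
    { Ideal.Quotient.factor (Ideal.pow_le_self (Nat.one_le_iff_ne_zero.mp he) : Q ^ e ≤ Q) with commutes' := hc }
  have hf : Function.Surjective f := Ideal.Quotient.factor_surjective (Ideal.pow_le_self (Nat.one_le_iff_ne_zero.mp he))
  have hker : RingHom.ker f = Ideal.span {T} := by
    ext v
    obtain ⟨b, rfl⟩ := Ideal.Quotient.mk_surjective v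
    rw [hspan, RingHom.mem_ker]
    exact Ideal.Quotient.eq_zero_iff_mem
  let ψ : ((B ⧸ Q ^ e) ⧸ Ideal.span {T}) ≃ₐ[k] B ⧸ Q :=
    (Ideal.quotientEquivAlgOfEq k hker.symm).trans (Ideal.quotientKerAlgEquivOfSurjective hf)
  rw [← Algebra.trace_eq_of_algEquiv ψ]
  rfl

set_option linter.style.haveILetI false in
theorem trace_residue (A B : Type u) [CommRing A] [CommRing B] [IsDedekindDomain A] [IsDedekindDomain B]
    [Algebra A B] [Module.Finite A B] [Module.IsTorsionFree A B]
    [Algebra.IsSeparable (FractionRing A) (FractionRing B)]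
    (p : Ideal A) [p.IsMaximal] (hp : p ≠ ⊥) (y : B) :
    Ideal.Quotient.mk p (Algebra.intTrace A B y) =
      ∑ᶠ Q : p.primesOver B,
        Q.1.ramificationIdx A • Algebra.trace (A ⧸ p) (B ⧸ Q.1) (Ideal.Quotient.mk Q.1 y) := by
  classical
  letI : Field (A ⧸ p) := Ideal.Quotient.field p
  let J := p.map (algebraMap A B)
  have hJ : J ≠ ⊥ := Ideal.map_ne_bot_of_ne_bot hp
  let ι := (UniqueFactorizationMonoid.factors J).toFinset
  let n : ι → ℕ := fun P => (UniqueFactorizationMonoid.factors J).count P.1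
  have hmem : ∀ P : Ideal B, P ∈ ι ↔ P ∈ p.primesOver B := fun P => by
    rw [Multiset.mem_toFinset, UniqueFactorizationMonoid.factors_eq_normalizedFactors,
      ← Ideal.mem_primesOver_iff_mem_normalizedFactors _ hp]
  let σ : ι ≃ p.primesOver B := Equiv.subtypeEquivRight hmem
  haveI : Fintype (p.primesOver B) := Fintype.ofEquiv ι σ
  have hn : ∀ P : ι, n P = (σ P).1.ramificationIdx A := fun P =>
    (Ideal.IsDedekindDomain.ramificationIdx_eq_factors_count (q := (σ P).1) (p := p) hJ).symm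
  have hle : ∀ P : ι, p ≤ (P.1 ^ n P).comap (algebraMap A B) := fun P => by
    have h1 := Ideal.le_pow_ramificationIdx' (p := p) (P := P.1)
    haveI : P.1.LiesOver p := (σ P).2.2
    haveI : P.1.IsPrime := (σ P).2.1
    rw [Ideal.ramificationIdx'_eq_ramificationIdx p P.1 hp] at h1
    rw [hn]
    exact Ideal.map_le_iff_le_comap.1 h1
  letI : ∀ P : ι, Algebra (A ⧸ p) (B ⧸ P.1 ^ n P) := fun P =>
    (Ideal.quotientMap (P.1 ^ n P) (algebraMap A B) (hle P)).toAlgebra
  let E : (B ⧸ J) ≃ₐ[A ⧸ p] ∀ P : ι, B ⧸ P.1 ^ n P :=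
    AlgEquiv.ofRingEquiv (f := IsDedekindDomain.quotientEquivPiFactors hJ) fun c => by
      obtain ⟨a, rfl⟩ := Ideal.Quotient.mk_surjective c
      rfl
  haveI : Module.Finite (A ⧸ p) (B ⧸ J) := Module.Finite.of_restrictScalars_finite A _ _
  haveI : Module.Finite (A ⧸ p) (∀ P : ι, B ⧸ P.1 ^ n P) := Module.Finite.equiv E.toLinearEquiv
  haveI : ∀ P : ι, Module.Finite (A ⧸ p) (B ⧸ P.1 ^ n P) := fun P =>
    Module.Finite.of_surjective (LinearMap.proj (φ := fun P : ι => B ⧸ P.1 ^ n P) P) fun v => ⟨Pi.single (M := fun P : ι => B ⧸ P.1 ^ n P) P v, by simp⟩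
  rw [← Algebra.trace_quotient_eq_of_isDedekindDomain, ← Algebra.trace_eq_of_algEquiv E, trace_pi,
    finsum_eq_sum_of_fintype, ← σ.sum_comp]
  refine Finset.sum_congr rfl fun P _ => ?_
  haveI hPp : P.1.IsPrime := (σ P).2.1
  haveI : P.1.LiesOver p := (σ P).2.2
  have hP0 : P.1 ≠ ⊥ := Ideal.ne_bot_of_liesOver_of_ne_bot hp P.1
  haveI : P.1.IsMaximal := hPp.isMaximal hP0
  have hpos : 1 ≤ n P := by
    rw [hn]
    exact Ideal.ramificationIdx_pos _ A
  rw [← hn]
  refine trace_quot_pow P.1 hP0 (n P) hpos (fun c => ?_) y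
  obtain ⟨a, rfl⟩ := Ideal.Quotient.mk_surjective c
  rfl


/-- Let A be a Dedekind domain, B a Dedekind domain which is a finitely generated torsion-free A-algebra
whose fraction field is separable over that of A (B is the integral closure of A in a finite
separable extension), p a nonzero prime ideal of A and y an element of B. Then the class modulo p of
the trace of y from B to A is the sum over the primes Q of B lying over p of e(Q|p) times the trace,
from B/Q to A/p, of the class of y modulo Q. -/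
theorem result (A B : Type u) [CommRing A] [CommRing B]
    [IsDedekindDomain A] [IsDedekindDomain B] [Algebra A B] [Module.Finite A B] [Module.IsTorsionFree A B]
    [Algebra.IsSeparable (FractionRing A) (FractionRing B)]
    (p : Ideal A) [p.IsMaximal] (hp : p ≠ ⊥) (y : B) :
    Ideal.Quotient.mk p (Algebra.intTrace A B y) =
      ∑ᶠ Q : p.primesOver B,
        Q.1.ramificationIdx A •
          Algebra.trace (A ⧸ p) (B ⧸ Q.1) (Ideal.Quotient.mk Q.1 y) := by
  exact trace_residue A B p hp y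


end Groth.Agent.S11081
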