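import Groth.Statements.S11082
import Mathlib
import Groth.Agent.OmegaField.Basis
-- import your own Groth.Agent.* helpers here

set_option autoImplicit false
universe u v
open CAlg

namespace Groth.Agent.S11082

/-- A finite extension whose differentials are spanned by base elements is separable. -/
theorem isSeparable_of_span {k : Type u} {F : Type v} [Field k] [Field F] [Algebra k F]
    (hF : Algebra.EssFiniteType k F) {ι : Type v} (x : ι → F) (hx : IsTranscendenceBasis k x)
    (h : Submodule.span F (Set.range fun i : ι => KaehlerDifferential.D k F (x i)) = ⊤) :
    Algebra.IsSeparable (IntermediateField.adjoin k (Set.range x)) F := by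
  haveI := hF
  set E := IntermediateField.adjoin k (Set.range x)
  haveI : Algebra.EssFiniteType E F := Algebra.EssFiniteType.of_comp k E F
  haveI : Subsingleton (Ω[F⁄E]) := by
    refine subsingleton_iff.2 fun a b => ?_
    suffices ∀ w : Ω[F⁄E], w = 0 by rw [this a, this b]
    intro w
    obtain ⟨v, rfl⟩ := KaehlerDifferential.map_surjective k E F w
    have hv : v ∈ Submodule.span F (Set.range fun i : ι => KaehlerDifferential.D k F (x i)) :=
      h ▸ Submodule.mem_top
    induction hv using Submodule.span_induction with
    | mem y hy =>
      obtain ⟨i, rfl⟩ := hy
      rw [KaehlerDifferential.map_D]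
      show KaehlerDifferential.D E F (algebraMap E F ⟨x i, IntermediateField.subset_adjoin k _ ⟨i, rfl⟩⟩) = 0
      exact Derivation.map_algebraMap _ _
    | zero => exact map_zero _
    | add a b _ _ ha hb => rw [map_add, ha, hb, add_zero]
    | smul c a _ ha => rw [map_smul, ha, smul_zero]
  haveI : Algebra.FormallyUnramified E F := ⟨inferInstance⟩
  exact Algebra.FormallyUnramified.isSeparable E F

/-- Let k be an algebraically closed field, F a field extension of k which is finitely generated as a
field, and x a transcendence basis of F over k indexed by a type ι. Then F is a separable algebraic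
extension of the subfield k(x) generated by the family (x is a separating transcendence basis) if
and only if the differentials d(x i) form a basis of the F-vector space of Kähler differentials of F
over k, i.e. they are linearly independent over F and span it. -/
theorem result (k : Type u) (F : Type v)
    [Field k] [IsAlgClosed k] [Field F] [Algebra k F] (hF : (⊤ : IntermediateField k F).FG)
    {ι : Type v} (x : ι → F) (hx : IsTranscendenceBasis k x) :
    Algebra.IsSeparable (IntermediateField.adjoin k (Set.range x)) F ↔
      (LinearIndependent F (fun i : ι => KaehlerDifferential.D k F (x i)) ∧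
        Submodule.span F (Set.range fun i : ι => KaehlerDifferential.D k F (x i)) = ⊤) := by
  refine ⟨fun h => ?_, fun h => isSeparable_of_span (IntermediateField.fg_top_iff.1 hF) x hx h.2⟩
  obtain ⟨b, hb⟩ := Groth.Agent.OmegaField.exists_basis k F x hx.1 h
  have hb' : (fun i : ι => KaehlerDifferential.D k F (x i)) = b := funext fun i => (hb i).symm
  rw [hb']
  exact ⟨b.linearIndependent, b.span_eq⟩

end Groth.Agent.S11082
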