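import Groth.Statements.S11084
import Groth.Agent.ValRank1.Basic

set_option autoImplicit false
universe u
open CAlg

namespace Groth.Agent.S11084

/-- Let k be a field and O a valuation subring of the field of rational functions k(x). Then O contains
the constants k and is different from k(x) if and only if O is the valuation ring of the P-adic
valuation at a nonzero prime P of the polynomial ring k[x], or O is the valuation ring of the
valuation at infinity (given by the degree). (The published statement has k algebraically closed, so
that these valuation rings correspond to the points of the projective line; the published proof does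
not use that k is algebraically closed. The published statement also asserts that distinct points
give distinct valuation rings, which this row does not state, and counts k(x) itself among the
valuation rings containing k; this row excludes it.) -/
theorem result (k : Type u) [Field k] [DecidableEq (RatFunc k)]
    (O : ValuationSubring (RatFunc k)) :
    ((algebraMap k (RatFunc k)).range ≤ O.toSubring ∧ O ≠ ⊤) ↔
      ((∃ v : IsDedekindDomain.HeightOneSpectrum (Polynomial k), O = (v.valuation (RatFunc k)).valuationSubring) ∨
        O = (RatFunc.inftyValuation k).valuationSubring) := by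
  classical
  have hv : ∀ x : RatFunc k, x ∈ (RatFunc.inftyValuation k).valuationSubring ↔ x = 0 ∨ x.intDegree ≤ 0 := by
    intro x
    rw [Valuation.mem_valuationSubring_iff]
    rcases eq_or_ne x 0 with rfl | hx
    · simp
    · rw [RatFunc.inftyValuation_apply, RatFunc.inftyValuationDef, if_neg hx, ← WithZero.exp_zero, WithZero.exp_le_exp]
      simp [hx]
  constructor
  · rintro ⟨hk, hO⟩
    by_cases hX : (RatFunc.X : RatFunc k) ∈ O
    · left
      refine (Groth.Agent.ValRank1.eq_valuationSubring_iff O).1 ⟨?_, hO⟩
      rintro _ ⟨p, rfl⟩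
      induction p using Polynomial.induction_on' with
      | add p q hp hq => rw [map_add]; exact O.toSubring.add_mem hp hq
      | monomial n a =>
        rw [← Polynomial.C_mul_X_pow_eq_monomial, map_mul, map_pow, RatFunc.algebraMap_C, RatFunc.algebraMap_X]
        refine O.toSubring.mul_mem (hk ⟨a, ?_⟩) (O.toSubring.pow_mem hX n)
        rw [RatFunc.algebraMap_eq_C]
    · right
      have hX' : (RatFunc.X : RatFunc k)⁻¹ ∈ O := (O.mem_or_inv_mem _).resolve_left hX
      have hXm : (⟨_, hX'⟩ : O) ∈ IsLocalRing.maximalIdeal O := by
        rw [IsLocalRing.mem_maximalIdeal]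
        intro h
        obtain ⟨c, hc⟩ := h.exists_right_inv
        have hc' : (RatFunc.X : RatFunc k)⁻¹ * (c : RatFunc k) = 1 := congrArg Subtype.val hc
        have : (c : RatFunc k) = RatFunc.X := by
          rw [eq_inv_of_mul_eq_one_right hc', inv_inv]
        exact hX (this ▸ c.2)
      have hunit : ∀ p : Polynomial k, p ≠ 0 → ∃ u : Oˣ,
          algebraMap (Polynomial k) (RatFunc k) p = ((u : O) : RatFunc k) * RatFunc.X ^ p.natDegree := by
        intro p hp
        let cmap : k →+* O := (algebraMap k (RatFunc k)).codRestrict O.toSubring fun a => hk ⟨a, rfl⟩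
        let y : O := ⟨_, hX'⟩
        let z : O := ∑ i ∈ Finset.range (p.natDegree + 1), cmap (p.coeff i) * y ^ (p.natDegree - i)
        have hz : IsUnit z := by
          by_contra h
          rw [← mem_nonunits_iff, ← IsLocalRing.mem_maximalIdeal] at h
          simp only [z, Finset.sum_range_succ, Nat.sub_self, pow_zero, mul_one] at h
          have h1 : (∑ i ∈ Finset.range p.natDegree, cmap (p.coeff i) * y ^ (p.natDegree - i)) ∈ IsLocalRing.maximalIdeal O :=
            Ideal.sum_mem _ fun i hi => Ideal.mul_mem_left _ _
              (Ideal.pow_mem_of_mem _ hXm _ (Nat.sub_pos_of_lt (Finset.mem_range.1 hi)))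
          have h2 : cmap (p.coeff p.natDegree) ∈ IsLocalRing.maximalIdeal O := by
            simpa using sub_mem h h1
          exact (IsLocalRing.mem_maximalIdeal _).1 h2
            ((IsUnit.mk0 _ (by simpa using Polynomial.leadingCoeff_ne_zero.2 hp)).map cmap)
        refine ⟨hz.unit, ?_⟩
        conv_lhs => rw [p.as_sum_range_C_mul_X_pow]
        simp only [IsUnit.unit_spec, z, AddSubmonoidClass.coe_finsetSum, MulMemClass.coe_mul, SubmonoidClass.coe_pow,
          Finset.sum_mul, map_sum, map_mul, map_pow, RatFunc.algebraMap_C, RatFunc.algebraMap_X]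
        refine Finset.sum_congr rfl fun i hi => ?_
        have hi' : i ≤ p.natDegree := Nat.lt_succ_iff.1 (Finset.mem_range.1 hi)
        change _ = algebraMap k (RatFunc k) (p.coeff i) * (RatFunc.X : RatFunc k)⁻¹ ^ (p.natDegree - i) * _
        rw [RatFunc.algebraMap_eq_C, inv_pow, mul_assoc]
        congr 1
        rw [eq_comm, inv_mul_eq_iff_eq_mul₀ (pow_ne_zero _ (RatFunc.X_ne_zero (K := k))), ← pow_add]
        congr 1
        omega
      refine SetLike.ext fun x => ?_
      rw [hv]
      rcases eq_or_ne x 0 with rfl | hx
      · simp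
      simp only [hx, false_or]
      have hn : x.num ≠ 0 := RatFunc.num_ne_zero hx
      obtain ⟨u, hu⟩ := hunit x.num hn
      obtain ⟨w, hw⟩ := hunit x.denom x.denom_ne_zero
      have e : x = ((u * w⁻¹ : Oˣ) : O) * (RatFunc.X : RatFunc k) ^ x.intDegree := by
        have hwinv : (((w⁻¹ : Oˣ) : O) : RatFunc k) * ((w : O) : RatFunc k) = 1 := by
          rw [← MulMemClass.coe_mul, ← Units.val_mul, inv_mul_cancel]; rfl
        conv_lhs => rw [← x.num_div_denom, hu, hw]
        rw [RatFunc.intDegree, zpow_sub₀ RatFunc.X_ne_zero, zpow_natCast, zpow_natCast, Units.val_mul,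
          MulMemClass.coe_mul, ← eq_inv_of_mul_eq_one_left hwinv |>.symm]
        field_simp
      constructor
      · intro hxO
        by_contra hlt
        rw [not_le] at hlt
        obtain ⟨m, hm⟩ : ∃ m : ℕ, x.intDegree = (m : ℤ) + 1 := ⟨(x.intDegree - 1).toNat, by omega⟩
        apply hX
        have hfac : (RatFunc.X : RatFunc k) =
            (((u * w⁻¹)⁻¹ : Oˣ) : O) * x * ((RatFunc.X : RatFunc k)⁻¹) ^ m := by
          rw [e, ← mul_assoc, ← MulMemClass.coe_mul, ← Units.val_mul, inv_mul_cancel, hm, zpow_add_one₀ RatFunc.X_ne_zero,
            zpow_natCast, inv_pow]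
          simp [mul_comm, mul_left_comm, RatFunc.X_ne_zero]
        rw [hfac]
        exact O.toSubring.mul_mem (O.toSubring.mul_mem (Subtype.prop _) hxO) (O.toSubring.pow_mem hX' m)
      · intro hle
        obtain ⟨m, hm⟩ : ∃ m : ℕ, x.intDegree = -(m : ℤ) := ⟨(-x.intDegree).toNat, by omega⟩
        rw [e, hm, zpow_neg, zpow_natCast, ← inv_pow]
        exact O.toSubring.mul_mem (Subtype.prop _) (O.toSubring.pow_mem hX' m)
  · rintro (⟨v, rfl⟩ | rfl)
    · obtain ⟨h1, h2⟩ := (Groth.Agent.ValRank1.eq_valuationSubring_iff (A := Polynomial k)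
        (v.valuation (RatFunc k)).valuationSubring).2 ⟨v, rfl⟩
      refine ⟨?_, h2⟩
      rintro _ ⟨a, rfl⟩
      exact h1 ⟨Polynomial.C a, by rw [RatFunc.algebraMap_C, RatFunc.algebraMap_eq_C]⟩
    · refine ⟨?_, ?_⟩
      · rintro _ ⟨a, rfl⟩
        change algebraMap k (RatFunc k) a ∈ (RatFunc.inftyValuation k).valuationSubring
        rw [hv]
        exact Or.inr (by rw [RatFunc.algebraMap_eq_C, RatFunc.intDegree_C])
      · intro h
        have : (RatFunc.X : RatFunc k) ∈ (RatFunc.inftyValuation k).valuationSubring := h ▸ trivial
        rw [hv, RatFunc.intDegree_X] at this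
        rcases this with h0 | h0
        · exact RatFunc.X_ne_zero h0
        · omega


end Groth.Agent.S11084
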