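import Groth.Statements.S11085
import Mathlib
import Groth.Agent.FFLib.Riemann
import Groth.Agent.FFLib.Exists
import Groth.Agent.VarDim.Basic

set_option autoImplicit false
universe u
open CAlg

namespace Groth.Agent.S11085
open IntermediateField Groth.Agent.FFLib FunFld

theorem isFF_of_affine_curve (k A F : Type u) [Field k]
    [CommRing A] [IsDomain A] [Algebra k A] [Algebra.FiniteType k A] (hA : ringKrullDim A = 1)
    [Field F] [Algebra A F] [IsFractionRing A F] [Algebra k F] [IsScalarTower k A F] : IsFF k F := by
  obtain ⟨s, g, hg, hgfin⟩ := exists_finite_inj_algHom_of_fg k A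
  letI := g.toRingHom.toAlgebra
  haveI : Module.Finite (MvPolynomial (Fin s) k) A := hgfin
  haveI : FaithfulSMul (MvPolynomial (Fin s) k) A := (faithfulSMul_iff_algebraMap_injective _ _).2 hg
  have hs : s = 1 := by
    have h1 := Groth.Agent.VarDim.ringKrullDim_eq_of_isIntegral (R := MvPolynomial (Fin s) k) (S := A)
    rw [hA, MvPolynomial.ringKrullDim_of_isNoetherianRing, ringKrullDim_eq_zero_of_field, zero_add, Nat.card_fin] at h1
    exact_mod_cast h1.symm
  subst hs
  let φ : MvPolynomial (Fin 1) k →ₐ[k] F := (IsScalarTower.toAlgHom k A F).comp g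
  have hφ : Function.Injective φ := (IsFractionRing.injective A F).comp hg
  let x : F := φ (MvPolynomial.X 0)
  have hφx : ∀ p : MvPolynomial (Fin 1) k, φ p ∈ k⟮x⟯ := by
    intro p
    induction p using MvPolynomial.induction_on with
    | C r => rw [show MvPolynomial.C r = algebraMap k _ r from rfl, AlgHom.commutes]; exact k⟮x⟯.algebraMap_mem r
    | add p q hp hq => rw [map_add]; exact add_mem hp hq
    | mul_X p i hp =>
      rw [map_mul]
      refine mul_mem hp ?_
      rw [Subsingleton.elim i 0]
      exact mem_adjoin_simple_self k x
  have hx : Transcendental k x := by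
    intro h
    obtain ⟨q, hq, hq0⟩ := h
    refine hq ?_
    have h1 : φ (Polynomial.aeval (MvPolynomial.X 0 : MvPolynomial (Fin 1) k) q) = φ 0 := by
      rw [← Polynomial.aeval_algHom_apply, map_zero]; exact hq0
    exact transcendental_iff.1 (MvPolynomial.transcendental_X k 0) q (hφ h1)
  refine ⟨x, hx, ?_⟩
  haveI : Algebra.EssFiniteType k F :=
    haveI := Algebra.EssFiniteType.of_isLocalization (R := A) F (nonZeroDivisors A)
    Algebra.EssFiniteType.comp k A F
  haveI : Algebra.EssFiniteType k⟮x⟯ F := Algebra.EssFiniteType.of_comp k _ F
  haveI : Algebra.IsAlgebraic k⟮x⟯ F := by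
    refine ⟨fun z => ?_⟩
    obtain ⟨a, b, -, rfl⟩ := IsFractionRing.div_surjective (A := A) z
    have hint : ∀ a : A, IsIntegral k⟮x⟯ (algebraMap A F a) := by
      intro a
      obtain ⟨P, hP, hP0⟩ := Algebra.IsIntegral.isIntegral (R := MvPolynomial (Fin 1) k) a
      let φ' : MvPolynomial (Fin 1) k →+* k⟮x⟯ := φ.toRingHom.codRestrict k⟮x⟯.toSubfield.toSubring hφx
      refine ⟨P.map φ', hP.map _, ?_⟩
      rw [Polynomial.eval₂_map, show (algebraMap k⟮x⟯ F).comp φ' = (algebraMap A F).comp g.toRingHom from rfl]
      have h2 := congrArg (algebraMap A F) hP0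
      rw [Polynomial.hom_eval₂, map_zero] at h2
      exact h2
    rw [div_eq_mul_inv]
    exact ((hint a).isAlgebraic.mul (hint b).isAlgebraic.inv)
  exact Algebra.finite_of_essFiniteType_of_isAlgebraic



/-- Let k be a field, A a finitely generated k-algebra which is an integral domain of Krull dimension
one (the coordinate ring of an affine curve), and F its field of fractions. Then the set of
valuation subrings of F which contain k but do not contain A is finite. (The published statement
speaks of all valuation rings of F different from F and not containing A, over an algebraically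
closed k; valuation rings not containing k must be excluded — for k an algebraic closure of a
rational function field in one variable t over a finite field and F = k(x), the t-adic valuation of
k has infinitely many extensions to F, none of whose rings contains A — and the published proof,
through the valuation at infinity of k(x), treats valuation rings containing k; it does not use that
k is algebraically closed.) -/
theorem result (k A F : Type u) [Field k]
    [CommRing A] [IsDomain A] [Algebra k A] [Algebra.FiniteType k A] (hA : ringKrullDim A = 1)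
    [Field F] [Algebra A F] [IsFractionRing A F] [Algebra k F] [IsScalarTower k A F] :
    {O : ValuationSubring F | (algebraMap k F).range ≤ O.toSubring ∧
        ¬ (algebraMap A F).range ≤ O.toSubring}.Finite := by
  classical
  have hF : IsFF k F := isFF_of_affine_curve k A F hA
  obtain ⟨T, hT⟩ := (Algebra.FiniteType.out : (⊤ : Subalgebra k A).FG)
  have hfin : (⋃ t ∈ T, (fun P : Place k F => P.O) '' {P | 1 < P.1 (algebraMap A F t)}).Finite := by
    refine T.finite_toSet.biUnion fun t _ => Set.Finite.image _ ?_
    refine (poles (k := k) (algebraMap A F t)).support.finite_toSet.subset fun P hP => ?_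
    rw [Finset.mem_coe, Finsupp.mem_support_iff]
    intro h0
    have := val_le_exp_poles hF (algebraMap A F t) P
    rw [h0, WithZero.exp_zero] at this
    exact not_le.2 hP this
  refine hfin.subset fun O hO => ?_
  obtain ⟨hk, hnot⟩ := hO
  have hk' : ∀ c : k, algebraMap k F c ∈ O := fun c => hk ⟨c, rfl⟩
  have hne : O ≠ ⊤ := by
    rintro rfl
    exact hnot fun z _ => trivial
  obtain ⟨P, rfl⟩ := exists_place_of_valuationSubring hF O hk' hne
  have hex : ∃ t ∈ T, algebraMap A F t ∉ P.O := by
    by_contra! h
    refine hnot ?_
    rintro _ ⟨a, rfl⟩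
    have ha : a ∈ Algebra.adjoin k (T : Set A) := hT ▸ Algebra.mem_top
    induction ha using Algebra.adjoin_induction with
    | mem a ha => exact h a ha
    | algebraMap r => rw [← IsScalarTower.algebraMap_apply]; exact hk' r
    | add a b _ _ ha hb => rw [map_add]; exact add_mem ha hb
    | mul a b _ _ ha hb => rw [map_mul]; exact mul_mem ha hb
  obtain ⟨t, ht, htO⟩ := hex
  simp only [Set.mem_iUnion]
  exact ⟨t, ht, P, show 1 < P.1 (algebraMap A F t) from not_le.1 htO, rfl⟩


end Groth.Agent.S11085
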