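import Groth.Statements.S11086
import Mathlib

set_option autoImplicit false
universe u
attribute [local instance] FractionRing.liftAlgebra
open CAlg

namespace Groth.Agent.S11086
open scoped nonZeroDivisors


/-- Let A be a Dedekind domain, B a Dedekind domain which is a finitely generated torsion-free A-algebra
with fraction field separable over that of A (the integral closure of A in a finite separable
extension), and S a submonoid of A consisting of non-zero-divisors. Let A_S and B_S be localizations
of A at S and of B at the image of S, with B_S an algebra over A_S compatibly with A and B (so A_S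
is integrally closed and B_S is a Dedekind domain, torsion-free over A_S). Then the ideal of B_S
generated by the different of B over A is the different of B_S over A_S. -/
theorem result (A B : Type u) [CommRing A] [CommRing B]
    [IsDedekindDomain A] [IsDedekindDomain B] [Algebra A B] [Module.Finite A B] [Module.IsTorsionFree A B]
    [Algebra.IsSeparable (FractionRing A) (FractionRing B)]
    (S : Submonoid A) (hS : S ≤ nonZeroDivisors A)
    (Aₛ Bₛ : Type u) [CommRing Aₛ] [CommRing Bₛ] [Algebra A Aₛ] [Algebra B Bₛ] [Algebra Aₛ Bₛ]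
    [Algebra A Bₛ] [IsScalarTower A Aₛ Bₛ] [IsScalarTower A B Bₛ]
    [IsLocalization S Aₛ] [IsLocalization (Algebra.algebraMapSubmonoid B S) Bₛ]
    [IsDomain Aₛ] [IsIntegrallyClosed Aₛ] [IsDedekindDomain Bₛ] [Module.IsTorsionFree Aₛ Bₛ] :
    Ideal.map (algebraMap B Bₛ) (differentIdeal A B) = differentIdeal Aₛ Bₛ := by
  have hinjAB : Function.Injective (algebraMap A B) := FaithfulSMul.algebraMap_injective A B
  let K := FractionRing A
  let L := FractionRing B
  have hK : ∀ s : S, IsUnit (algebraMap A K (s : A)) := fun s =>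
    IsLocalization.map_units K (⟨s, hS s.2⟩ : A⁰)
  let gK : Aₛ →+* K := IsLocalization.lift hK
  letI : Algebra Aₛ K := gK.toAlgebra
  haveI : IsScalarTower A Aₛ K := IsScalarTower.of_algebraMap_eq fun a => (IsLocalization.lift_eq hK a).symm
  have hSB : Algebra.algebraMapSubmonoid B S ≤ B⁰ := by
    rintro _ ⟨s, hs, rfl⟩
    refine mem_nonZeroDivisors_of_ne_zero fun h => ?_
    exact nonZeroDivisors.ne_zero (hS hs) (hinjAB (h.trans (map_zero _).symm))
  have hL : ∀ s : Algebra.algebraMapSubmonoid B S, IsUnit (algebraMap B L (s : B)) := fun s =>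
    IsLocalization.map_units L (⟨s, hSB s.2⟩ : B⁰)
  let gL : Bₛ →+* L := IsLocalization.lift hL
  letI : Algebra Bₛ L := gL.toAlgebra
  haveI : IsScalarTower B Bₛ L := IsScalarTower.of_algebraMap_eq fun b => (IsLocalization.lift_eq hL b).symm
  letI : Algebra Aₛ L := ((algebraMap Bₛ L).comp (algebraMap Aₛ Bₛ)).toAlgebra
  haveI : IsScalarTower Aₛ Bₛ L := IsScalarTower.of_algebraMap_eq fun _ => rfl
  haveI : IsScalarTower A Aₛ L := IsScalarTower.of_algebraMap_eq fun a => by
    rw [IsScalarTower.algebraMap_apply Aₛ Bₛ L, ← IsScalarTower.algebraMap_apply A Aₛ Bₛ,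
      IsScalarTower.algebraMap_apply A B Bₛ, ← IsScalarTower.algebraMap_apply B Bₛ L,
      ← IsScalarTower.algebraMap_apply A B L]
  haveI : IsScalarTower Aₛ K L := by
    refine IsScalarTower.of_algebraMap_eq' (IsLocalization.ringHom_ext S ?_)
    ext a
    simp only [RingHom.comp_apply, ← IsScalarTower.algebraMap_apply]
  haveI : IsFractionRing Aₛ K := IsFractionRing.isFractionRing_of_isDomain_of_isLocalization S Aₛ K
  haveI : IsFractionRing Bₛ L :=
    IsFractionRing.isFractionRing_of_isDomain_of_isLocalization (Algebra.algebraMapSubmonoid B S) Bₛ L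
  haveI : FiniteDimensional K L := Module.Finite.of_isLocalization A B A⁰
  haveI : Module.Finite Aₛ Bₛ := Module.Finite.of_isLocalization A B S
  haveI : IsIntegralClosure Bₛ Aₛ L := IsIntegralClosure.of_isIntegrallyClosed Bₛ Aₛ L
  haveI : IsIntegralClosure B A L := IsIntegralClosure.of_isIntegrallyClosed B A L
  have h : B⁰ ≤ Bₛ⁰.comap (algebraMap B Bₛ) :=
    nonZeroDivisors_le_comap_nonZeroDivisors_of_injective _ (IsLocalization.injective Bₛ hSB)
  have hmap : ∀ x : L, IsLocalization.map (S := L) L (algebraMap B Bₛ) h x = x := by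
    intro x
    have h1 : (IsLocalization.map (S := L) L (algebraMap B Bₛ) h : L →+* L) = RingHom.id L := by
      refine IsLocalization.ringHom_ext B⁰ ?_
      ext b
      simp only [RingHom.comp_apply, IsLocalization.map_eq, RingHom.id_apply,
        ← IsScalarTower.algebraMap_apply]
    exact RingHom.congr_fun h1 x
  let E : FractionalIdeal B⁰ L →+* FractionalIdeal Bₛ⁰ L := FractionalIdeal.extendedHom' L h
  have key : E (FractionalIdeal.dual A K 1) = FractionalIdeal.dual Aₛ K 1 := by
    refine FractionalIdeal.coeToSubmodule_injective ?_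
    simp only [E, FractionalIdeal.extendedHom'_apply, FractionalIdeal.coe_extended_eq_span]
    refine le_antisymm (Submodule.span_le.2 ?_) ?_
    · rintro _ ⟨x, hx, rfl⟩
      rw [hmap]
      rw [SetLike.mem_coe] at hx ⊢
      rw [FractionalIdeal.mem_coe, FractionalIdeal.mem_dual (one_ne_zero (α := FractionalIdeal Bₛ⁰ L))]
      rw [FractionalIdeal.mem_dual (one_ne_zero (α := FractionalIdeal B⁰ L))] at hx
      intro y hy
      obtain ⟨y, rfl⟩ := (FractionalIdeal.mem_one_iff _).1 hy
      obtain ⟨b, t, rfl⟩ := IsLocalization.exists_mk'_eq (Algebra.algebraMapSubmonoid B S) y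
      obtain ⟨s, hs, hst⟩ := t.2
      obtain ⟨a, ha⟩ := hx (algebraMap B L b) ((FractionalIdeal.mem_one_iff _).2 ⟨b, rfl⟩)
      refine ⟨IsLocalization.mk' Aₛ a ⟨s, hs⟩, ?_⟩
      have hne : algebraMap A K s ≠ 0 :=
        fun h0 => nonZeroDivisors.ne_zero (hS hs) (IsFractionRing.injective A K (h0.trans (map_zero _).symm))
      refine mul_left_cancel₀ hne ?_
      have e1 : algebraMap A K s * algebraMap Aₛ K (IsLocalization.mk' Aₛ a ⟨s, hs⟩) = algebraMap A K a := by
        rw [IsScalarTower.algebraMap_apply A Aₛ K s, ← map_mul, IsLocalization.mk'_spec' Aₛ a ⟨s, hs⟩,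
          ← IsScalarTower.algebraMap_apply]
      have e2 : algebraMap A L s * algebraMap Bₛ L (IsLocalization.mk' Bₛ b t) = algebraMap B L b := by
        rw [IsScalarTower.algebraMap_apply A B L, hst, IsScalarTower.algebraMap_apply B Bₛ L, ← map_mul,
          IsLocalization.mk'_spec', ← IsScalarTower.algebraMap_apply]
      rw [e1, ha, ← e2, IsScalarTower.algebraMap_apply A K L, ← Algebra.smul_def, map_smul, smul_eq_mul]
    · intro x hx
      rw [FractionalIdeal.mem_coe, FractionalIdeal.mem_dual (one_ne_zero (α := FractionalIdeal Bₛ⁰ L))] at hx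
      obtain ⟨T, hT⟩ := (Module.Finite.fg_top : (⊤ : Submodule A B).FG)
      have hb : ∀ b : B, ∃ c : Aₛ, algebraMap Aₛ K c = Algebra.traceForm K L x (algebraMap B L b) := fun b =>
        hx _ ((FractionalIdeal.mem_one_iff _).2
          ⟨algebraMap B Bₛ b, (IsScalarTower.algebraMap_apply B Bₛ L b).symm⟩)
      choose c hc using hb
      obtain ⟨s, hs⟩ := IsLocalization.exist_integer_multiples S T c
      have hmem : algebraMap A K (s : A) • x ∈ FractionalIdeal.dual A K (1 : FractionalIdeal B⁰ L) := by
        rw [FractionalIdeal.mem_dual (one_ne_zero (α := FractionalIdeal B⁰ L))]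
        intro y hy
        obtain ⟨b, rfl⟩ := (FractionalIdeal.mem_one_iff _).1 hy
        have hbT : b ∈ Submodule.span A (T : Set B) := hT ▸ Submodule.mem_top
        clear hy
        induction hbT using Submodule.span_induction with
        | mem b hb =>
          obtain ⟨a, ha⟩ := hs b hb
          refine ⟨a, ?_⟩
          rw [map_smul, LinearMap.smul_apply, ← hc b, IsScalarTower.algebraMap_apply A Aₛ K a, ha,
            Algebra.smul_def, map_mul, ← IsScalarTower.algebraMap_apply, smul_eq_mul]
        | zero => exact ⟨0, by simp only [map_zero]⟩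
        | add y z _ _ hy hz =>
          obtain ⟨p, hp⟩ := hy
          obtain ⟨q, hq⟩ := hz
          exact ⟨p + q, by simp only [map_add, hp, hq]⟩
        | smul a y _ hy =>
          obtain ⟨p, hp⟩ := hy
          refine ⟨a * p, ?_⟩
          rw [map_mul, hp, Algebra.smul_def a y, map_mul, ← IsScalarTower.algebraMap_apply A B L,
            IsScalarTower.algebraMap_apply A K L, ← Algebra.smul_def (algebraMap A K a) (algebraMap B L y)]
          simp only [map_smul, LinearMap.smul_apply, smul_eq_mul]
          try ring
      have hu : IsUnit (algebraMap Aₛ Bₛ (algebraMap A Aₛ (s : A))) :=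
        (IsLocalization.map_units Aₛ s).map _
      obtain ⟨u, hu⟩ := hu
      have hxu : x = (↑u⁻¹ : Bₛ) • (algebraMap A K (s : A) • x) := by
        have : algebraMap A K (s : A) • x = (u : Bₛ) • x := by
          rw [Algebra.smul_def, Algebra.smul_def, ← IsScalarTower.algebraMap_apply A K L, hu,
            ← IsScalarTower.algebraMap_apply Aₛ Bₛ L, ← IsScalarTower.algebraMap_apply A Aₛ L]
        rw [this, smul_smul, Units.inv_mul, one_smul]
      rw [hxu]
      exact Submodule.smul_mem _ _ (Submodule.subset_span ⟨_, hmem, hmap _⟩)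
  rw [← FractionalIdeal.coeIdeal_inj (K := L), coeIdeal_differentIdeal Aₛ K L Bₛ, ← key, ← map_inv₀,
    ← coeIdeal_differentIdeal A K L B]
  simp only [E, FractionalIdeal.extendedHom'_apply, FractionalIdeal.extended_coeIdeal_eq_map]


end Groth.Agent.S11086
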