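import Groth.Statements.S11087
import Mathlib
import Groth.Agent.Hensel.Local

set_option autoImplicit false
universe u
attribute [local instance] FractionRing.liftAlgebra
open CAlg

namespace Groth.Agent.S11087
open IsLocalRing Polynomial


/-- Let A be a complete discrete valuation ring and K a perfect field contained in A such that K → A →
A/m is bijective. Let B be a Dedekind domain which is a finite torsion-free A-algebra with fraction
field separable over that of A (the integral closure of A in a finite separable extension of its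
fraction field). Then for every maximal ideal M of B and every b in B there is exactly one element c
of B which is algebraic over K and congruent to b modulo M; in other words the algebraic closure of
K in B is a subfield mapping isomorphically onto B/M. -/
theorem result (K A B : Type u) [Field K]
    [PerfectField K] [CommRing A] [IsDomain A] [IsDiscreteValuationRing A]
    [IsAdicComplete (IsLocalRing.maximalIdeal A) A]
    [Algebra K A] (hK : Function.Bijective ((IsLocalRing.residue A).comp (algebraMap K A)))
    [CommRing B] [IsDedekindDomain B] [Algebra A B] [Module.Finite A B] [Module.IsTorsionFree A B]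
    [Algebra.IsSeparable (FractionRing A) (FractionRing B)] [Algebra K B] [IsScalarTower K A B]
    (M : Ideal B) [M.IsMaximal] (b : B) :
    ∃! c : B, IsAlgebraic K c ∧ b - c ∈ M := by
  haveI : HenselianLocalRing A := Groth.Agent.Hensel.henselianLocalRing_of_henselianRing A
  haveI : IsLocalRing B := by
    obtain ⟨_, e, he, hM⟩ := Groth.Agent.Hensel.exists_idempotents_of_henselian A B
    refine IsLocalRing.of_unique_max_ideal ⟨M, ‹_›, fun M' hM' => ?_⟩
    by_contra hne
    let m₁ : MaximalSpectrum B := ⟨M, ‹_›⟩
    let m₂ : MaximalSpectrum B := ⟨M', hM'⟩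
    have h2 : e m₁ = 1 :=
      (IsIdempotentElem.iff_eq_zero_or_one.1 (he.idem m₁)).resolve_left fun h => (hM m₁).1 (h ▸ M.zero_mem)
    have h3 := (hM m₁).2 m₂ (fun h => hne (congrArg MaximalSpectrum.asIdeal h))
    rw [h2] at h3
    exact hM'.ne_top ((Ideal.eq_top_iff_one _).2 h3)
  haveI : HenselianLocalRing B := Groth.Agent.Hensel.henselianLocalRing_of_finite A B
  have hMm : M = maximalIdeal B := IsLocalRing.eq_maximalIdeal ‹_›
  letI : Field (B ⧸ M) := Ideal.Quotient.field M
  have hres : IsIntegral K (Ideal.Quotient.mk M b) := by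
    have hAM : (maximalIdeal A).map (algebraMap A B) ≤ M := by
      rw [hMm]
      exact (Groth.Agent.Hensel.map_maximalIdeal_le_jacobson A B).trans
        (by rw [IsLocalRing.jacobson_eq_maximalIdeal ⊥ bot_ne_top])
    obtain ⟨p, hp, hp0⟩ := Algebra.IsIntegral.isIntegral (R := A) b
    let σ' : ResidueField A →+* K := (RingEquiv.ofBijective _ hK).symm.toRingHom
    refine ⟨(p.map (residue A)).map σ', (hp.map _).map _, ?_⟩
    have hcomp : ((algebraMap K (B ⧸ M)).comp σ').comp (residue A) = (Ideal.Quotient.mk M).comp (algebraMap A B) := by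
      refine RingHom.ext fun a => ?_
      simp only [RingHom.comp_apply]
      have h1 : residue A (algebraMap K A (σ' (residue A a))) = residue A a :=
        (RingEquiv.ofBijective _ hK).apply_symm_apply (residue A a)
      rw [← sub_eq_zero, ← map_sub, residue_eq_zero_iff] at h1
      rw [IsScalarTower.algebraMap_apply K B (B ⧸ M), IsScalarTower.algebraMap_apply K A B]
      refine Ideal.Quotient.eq.2 ?_
      rw [← map_sub]
      exact hAM (Ideal.mem_map_of_mem _ h1)
    rw [eval₂_map, eval₂_map, hcomp]
    have := congrArg (Ideal.Quotient.mk M) hp0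
    rw [hom_eval₂, map_zero] at this
    exact this
  let P : K[X] := minpoly K (Ideal.Quotient.mk M b)
  have hP : P.Monic := minpoly.monic hres
  have hsep : P.Separable := PerfectField.separable_of_irreducible (minpoly.irreducible hres)
  have hev : ∀ q : K[X], Ideal.Quotient.mk M (aeval b q) = aeval (Ideal.Quotient.mk M b) q := fun q =>
    (aeval_algHom_apply (Ideal.Quotient.mkₐ K M) b q).symm
  have h1 : (P.map (algebraMap K B)).eval b ∈ maximalIdeal B := by
    rw [← hMm, ← Ideal.Quotient.eq_zero_iff_mem, eval_map_algebraMap, hev]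
    exact minpoly.aeval K _
  have h2 : IsUnit ((P.map (algebraMap K B)).derivative.eval b) := by
    rw [derivative_map, eval_map_algebraMap]
    by_contra hu
    have hmem : aeval b P.derivative ∈ M := hMm ▸ (IsLocalRing.mem_maximalIdeal _).2 hu
    rw [← Ideal.Quotient.eq_zero_iff_mem, hev] at hmem
    exact hsep.aeval_derivative_ne_zero (minpoly.aeval K _) hmem
  obtain ⟨c, hc, hcb⟩ := HenselianLocalRing.is_henselian _ (hP.map _) b h1 h2
  have hroot : aeval c P = 0 := by rw [← eval_map_algebraMap]; exact hc
  have hcM : b - c ∈ M := by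
    rw [hMm, ← neg_sub]
    exact neg_mem hcb
  refine ⟨c, ⟨⟨P, hP.ne_zero, hroot⟩, hcM⟩, ?_⟩
  rintro c' ⟨hc', hc'M⟩
  by_contra hne
  have hint : IsIntegral K (c' - c) :=
    (isAlgebraic_iff_isIntegral.1 hc').sub (isAlgebraic_iff_isIntegral.1 ⟨P, hP.ne_zero, hroot⟩)
  haveI : Algebra.IsIntegral K (Algebra.adjoin K {c' - c}) :=
    ⟨fun x => by
      refine (isIntegral_algHom_iff (Algebra.adjoin K {c' - c}).val Subtype.val_injective).1 ?_
      exact Algebra.adjoin_le (S := integralClosure K B) (Set.singleton_subset_iff.2 hint) x.2⟩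
  have hF : IsField (Algebra.adjoin K {c' - c}) := isField_of_isIntegral_of_isField' (Field.toIsField K)
  obtain ⟨d, hd⟩ := hF.mul_inv_cancel (a := ⟨c' - c, Algebra.subset_adjoin rfl⟩)
    (fun h => hne (sub_eq_zero.1 (congrArg Subtype.val h)))
  have hu : IsUnit (c' - c) := IsUnit.of_mul_eq_one _ (congrArg Subtype.val hd)
  have hmem : c' - c ∈ M := by
    have := sub_mem hcM hc'M
    rwa [sub_sub_sub_cancel_left] at this
  exact (‹M.IsMaximal›).ne_top (Ideal.eq_top_of_isUnit_mem _ hmem hu)


end Groth.Agent.S11087
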