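import Groth.Statements.S11088
import Mathlib
import Groth.Agent.Hensel.Local

set_option autoImplicit false
universe u
attribute [local instance] FractionRing.liftAlgebra
open CAlg

namespace Groth.Agent.S11088

/-- Let A be a complete discrete valuation ring with maximal ideal m and B a Dedekind domain which is a
finite torsion-free A-algebra with fraction field separable over that of A (the integral closure of
A in a finite separable extension). Then for every maximal ideal M of B, with f the degree of B/M
over A/m, and every nonzero x in B, the multiplicity of m in the ideal generated by the norm of x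
equals f times the multiplicity of M in the ideal generated by x: v(N(x)) = f · w(x). -/
theorem result (A B : Type u) [CommRing A] [IsDomain A] [IsDiscreteValuationRing A]
    [IsAdicComplete (IsLocalRing.maximalIdeal A) A]
    [CommRing B] [IsDedekindDomain B] [Algebra A B] [Module.Finite A B] [Module.IsTorsionFree A B]
    [Algebra.IsSeparable (FractionRing A) (FractionRing B)]
    (M : Ideal B) [M.IsMaximal] (x : B) (hx : x ≠ 0) :
    emultiplicity (IsLocalRing.maximalIdeal A) (Ideal.span {Algebra.intNorm A B x}) =
      (M.inertiaDeg A : ℕ∞) * emultiplicity M (Ideal.span {x}) := by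
  classical
  haveI : HenselianLocalRing A := Groth.Agent.Hensel.henselianLocalRing_of_henselianRing A
  haveI : IsLocalRing B := by
    obtain ⟨_, e, he, hM⟩ := Groth.Agent.Hensel.exists_idempotents_of_henselian A B
    refine IsLocalRing.of_unique_max_ideal ⟨M, ‹_›, fun M' hM' => ?_⟩
    by_contra hne
    let m₁ : MaximalSpectrum B := ⟨M, ‹_›⟩
    let m₂ : MaximalSpectrum B := ⟨M', hM'⟩
    have h2 : e m₁ = 1 :=
      (IsIdempotentElem.iff_eq_zero_or_one.1 (he.idem m₁)).resolve_left fun h => (hM m₁).1 (h ▸ M.zero_mem)
    have h3 := (hM m₁).2 m₂ (fun h => hne (congrArg MaximalSpectrum.asIdeal h))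
    rw [h2] at h3
    exact hM'.ne_top ((Ideal.eq_top_iff_one _).2 h3)
  set m := IsLocalRing.maximalIdeal A
  have hm0 : m ≠ ⊥ := IsDiscreteValuationRing.not_a_field A
  haveI hover : M.LiesOver m := ⟨(IsLocalRing.eq_maximalIdeal (Ideal.IsMaximal.under A M)).symm⟩
  have hinj : Function.Injective (algebraMap A B) := FaithfulSMul.algebraMap_injective A B
  have hM0 : M ≠ ⊥ := fun h => hm0 (by
    rw [hover.over, h, Ideal.under_def, ← RingHom.ker_eq_comap_bot, (RingHom.injective_iff_ker_eq_bot _).1 hinj])
  have hpow : ∀ J : Ideal B, J ≠ ⊥ → ∃ w : ℕ, J = M ^ w := fun J hJ => by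
    obtain ⟨I, hI, hJI⟩ := Ideal.eq_prime_pow_mul_coprime hJ M
    have : I = ⊤ := by
      by_contra hI'
      rw [sup_of_le_left ((IsLocalRing.le_maximalIdeal hI').trans (IsLocalRing.eq_maximalIdeal ‹M.IsMaximal›).ge)] at hI
      exact Ideal.IsMaximal.ne_top ‹_› hI
    exact ⟨_, by rw [hJI, this, Ideal.mul_top]⟩
  have hmB : m.map (algebraMap A B) ≠ ⊥ := by
    rwa [Ne, Ideal.map_eq_bot_iff_of_injective hinj]
  obtain ⟨t, ht⟩ := hpow _ hmB
  have hpe : M.ramificationIdx A = t := by
    rw [← Ideal.ramificationIdx'_eq_ramificationIdx' m M hmB]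
    refine Ideal.ramificationIdx'_spec ht.le fun hle => ?_
    have := (Ideal.pow_right_strictAnti M hM0 (Ideal.IsMaximal.ne_top ‹_›)) (Nat.lt_succ_self t)
    exact this.not_ge (ht.ge.trans hle)
  haveI : Module.Free A B := Module.free_of_finite_type_torsion_free'
  haveI : Module.Flat A B := Module.Flat.of_free
  have huniq : ∀ q : m.primesOver B, q.1 = M := fun q => by
    have := q.2.2
    haveI := q.2.1
    have hq0 : q.1 ≠ ⊥ := fun h => hm0 (by
      rw [q.2.2.over, h, Ideal.under_def, ← RingHom.ker_eq_comap_bot, (RingHom.injective_iff_ker_eq_bot _).1 hinj])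
    exact (IsLocalRing.eq_maximalIdeal (Ideal.IsPrime.isMaximal q.2.1 hq0)).trans
      (IsLocalRing.eq_maximalIdeal ‹M.IsMaximal›).symm
  haveI : Unique (m.primesOver B) :=
    { default := ⟨M, inferInstance, hover⟩, uniq := fun q => Subtype.ext (huniq q) }
  have hef : t * M.inertiaDeg A = Module.finrank A B := by
    rw [← Ideal.sum_ramification_inertia_eq_finrank m B, Fintype.sum_unique, huniq, ← hpe]
  obtain ⟨s, hs⟩ := Ideal.exists_relNorm_eq_pow_of_isPrime (R := A) (S := B) M m
  have hm : Prime m := Ideal.prime_of_isPrime hm0 inferInstance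
  have hts : s * t = Module.finrank A B := by
    have h1 := Ideal.relNorm_algebraMap (S := B) m
    rw [ht, map_pow, hs, ← pow_mul] at h1
    exact (Ideal.pow_right_strictAnti m hm0 (Ideal.IsMaximal.ne_top inferInstance)).injective h1
  have ht0 : t ≠ 0 := fun h => by
    have := Module.finrank_pos (R := A) (M := B)
    rw [h, mul_zero] at hts
    omega
  have hsf : s = M.inertiaDeg A := mul_left_cancel₀ ht0 (by rw [hef, ← hts, mul_comm])
  obtain ⟨w, hw⟩ := hpow (Ideal.span {x}) (by rwa [Ne, Ideal.span_singleton_eq_bot])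
  rw [← Ideal.relNorm_singleton, hw, map_pow, hs, ← pow_mul, emultiplicity_pow_self hm.ne_zero hm.not_unit,
    emultiplicity_pow_self hM0 (Ideal.prime_of_isPrime hM0 inferInstance).not_unit, hsf, Nat.cast_mul]


end Groth.Agent.S11088
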