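import Groth.Statements.S11089
import Mathlib.RingTheory.RamificationInertia.Basic
import Mathlib.RingTheory.DiscreteValuationRing.TFAE
import Mathlib
import Groth.Agent.Hensel.Local
import Groth.Agent.Hensel.IntegralStrict

set_option autoImplicit false
universe u
attribute [local instance] FractionRing.liftAlgebra
open CAlg

namespace Groth.Agent.S11089
open IsLocalRing Polynomial in
theorem exists_root (A B : Type u) [CommRing A] [IsDomain A] [IsDiscreteValuationRing A]
    [IsAdicComplete (IsLocalRing.maximalIdeal A) A]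
    [CommRing B] [IsDedekindDomain B] [Algebra A B] [Module.Finite A B] [Module.IsTorsionFree A B]
    (M : Ideal B) [M.IsMaximal] (hram : M.ramificationIdx A = Module.finrank A B)
    (hm : IsUnit ((Module.finrank A B : ℕ) : A)) :
    ∃ u : B, u ∈ M ∧ u ∉ M ^ 2 ∧ u ^ Module.finrank A B ∈ (algebraMap A B).range ∧
      (minpoly A u).natDegree = Module.finrank A B := by
  haveI : HenselianLocalRing A := Groth.Agent.Hensel.henselianLocalRing_of_henselianRing A
  haveI : IsLocalRing B := Groth.Agent.Hensel.isLocalRing_of_isIntegral_domain A B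
  haveI : HenselianLocalRing B := Groth.Agent.Hensel.henselianLocalRing_of_isIntegral_local A B
  have hinj : Function.Injective (algebraMap A B) := FaithfulSMul.algebraMap_injective A B
  have hnf : ¬ IsField B := fun h => IsDiscreteValuationRing.not_isField A
    (isField_of_isIntegral_of_isField hinj h)
  haveI : IsDiscreteValuationRing B :=
    ((IsDiscreteValuationRing.TFAE B hnf).out 0 2 : IsDiscreteValuationRing B ↔ IsDedekindDomain B).2 inferInstance
  obtain rfl : M = maximalIdeal B := IsLocalRing.eq_maximalIdeal ‹_›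
  set m := Module.finrank A B with hmdef
  have hm0 : 0 < m := Module.finrank_pos
  haveI : (maximalIdeal B).LiesOver (maximalIdeal A) :=
    ⟨(IsLocalRing.eq_maximalIdeal (Ideal.isMaximal_comap_of_isIntegral_of_isMaximal (maximalIdeal B))).symm⟩
  have hf : (maximalIdeal B).inertiaDeg A = 1 := by
    haveI : Fintype ((maximalIdeal A).primesOver B) := Fintype.ofFinite _
    have hsum := Ideal.sum_ramification_inertia_eq_finrank (maximalIdeal A) B
    have hle := Finset.single_le_sum (f := fun q : (maximalIdeal A).primesOver B =>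
      q.1.ramificationIdx A * q.1.inertiaDeg A) (fun q _ => Nat.zero_le _)
      (Finset.mem_univ ⟨maximalIdeal B, inferInstance, inferInstance⟩)
    rw [hsum] at hle
    simp only [hram] at hle
    have hpos := (maximalIdeal B).inertiaDeg_pos A
    exact le_antisymm (Nat.le_of_mul_le_mul_left (hle.trans (Nat.mul_one m).ge) hm0) hpos
  rw [Ideal.inertiaDeg_eq_of_isMaximal (maximalIdeal A) (maximalIdeal B)] at hf
  obtain ⟨π, hπ⟩ := IsDiscreteValuationRing.exists_irreducible A
  obtain ⟨w, hw⟩ := IsDiscreteValuationRing.exists_irreducible B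
  have hπ0 : algebraMap A B π ≠ 0 := (map_ne_zero_iff _ hinj).2 hπ.ne_zero
  obtain ⟨j, ε, hj⟩ := IsDiscreteValuationRing.eq_unit_mul_pow_irreducible hπ0 hw
  have hwM : maximalIdeal B = Ideal.span {w} := hw.maximalIdeal_eq
  have hjm : j = m := by
    have hmap : (maximalIdeal A).map (algebraMap A B) = maximalIdeal B ^ j := by
      rw [hπ.maximalIdeal_eq, Ideal.map_span, Set.image_singleton, hj, hwM, Ideal.span_singleton_pow,
        Ideal.span_singleton_mul_left_unit ε.isUnit]
    have h0 : maximalIdeal B ≠ ⊥ := fun h => hnf (IsLocalRing.isField_iff_maximalIdeal_eq.2 h)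
    have h2 : (maximalIdeal A).ramificationIdx' (maximalIdeal B) = j :=
      Ideal.ramificationIdx'_spec hmap.le (hmap ▸ fun h =>
        (Ideal.pow_right_strictAnti _ h0 (maximalIdeal.isMaximal B).ne_top (Nat.lt_succ_self j)).not_ge h)
    rw [← h2, Ideal.ramificationIdx'_eq_ramificationIdx _ _ (IsDiscreteValuationRing.not_a_field A), hram]
  subst hjm
  letI : Field (A ⧸ maximalIdeal A) := Ideal.Quotient.field _
  obtain ⟨c, hc⟩ := exists_smul_eq_of_finrank_eq_one hf (one_ne_zero : (1 : B ⧸ maximalIdeal B) ≠ 0)
    (Ideal.Quotient.mk _ ↑ε⁻¹)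
  obtain ⟨a, rfl⟩ := Ideal.Quotient.mk_surjective c
  rw [Algebra.smul_def, mul_one] at hc
  have hdiff : algebraMap A B a - ↑ε⁻¹ ∈ maximalIdeal B := Ideal.Quotient.eq.1 hc
  have hau : IsUnit (algebraMap A B a) := by
    by_contra h
    exact (IsLocalRing.mem_maximalIdeal _).1 (by
      simpa using Ideal.sub_mem _ ((IsLocalRing.mem_maximalIdeal _).2 h) hdiff) ε⁻¹.isUnit
  have haA : IsUnit a := by
    haveI := Groth.Agent.Hensel.isLocalHom_of_isIntegral_local A B
    exact IsUnit.of_map (algebraMap A B) a hau
  let t : B := ↑ε⁻¹ * ↑hau.unit⁻¹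
  have ht1 : 1 - t ∈ maximalIdeal B := by
    have : (algebraMap A B a - ↑ε⁻¹) * ↑hau.unit⁻¹ = 1 - t := by
      rw [sub_mul, IsUnit.mul_val_inv]
    exact this ▸ Ideal.mul_mem_right _ _ hdiff
  have hmB : IsUnit ((m : ℕ) : B) := by
    rw [← map_natCast (algebraMap A B)]
    exact hm.map _
  obtain ⟨v, hv, hv1⟩ := HenselianLocalRing.is_henselian (X ^ m - C t) (monic_X_pow_sub_C t hm0.ne') 1
    (by simpa using ht1) (by simpa [derivative_X_pow] using hmB)
  have hvt : v ^ m = t := by simpa [sub_eq_zero] using hv
  have hvu : IsUnit v := by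
    by_contra h
    have hcon := Ideal.sub_mem _ ((IsLocalRing.mem_maximalIdeal _).2 h) hv1
    rw [sub_sub_cancel] at hcon
    exact (maximalIdeal.isMaximal B).ne_top ((Ideal.eq_top_iff_one _).2 hcon)
  let x := w * ↑hvu.unit⁻¹
  have hx : x ^ m = algebraMap A B (π * a) := by
    have h1 : v ^ m * (↑ε * algebraMap A B a) = 1 := by
      rw [hvt]
      show ↑ε⁻¹ * ↑hau.unit⁻¹ * (↑ε * algebraMap A B a) = 1
      rw [mul_mul_mul_comm, Units.inv_mul, IsUnit.val_inv_mul, one_mul]
    calc x ^ m = w ^ m * (↑hvu.unit⁻¹) ^ m * (v ^ m * (↑ε * algebraMap A B a)) := by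
          rw [h1, mul_one, mul_pow]
      _ = (↑hvu.unit⁻¹ * v) ^ m * (algebraMap A B a * (↑ε * w ^ m)) := by ring
      _ = algebraMap A B (π * a) := by
          rw [IsUnit.val_inv_mul, one_pow, one_mul, ← hj, ← map_mul, mul_comm]
  refine ⟨x, hwM ▸ Ideal.mem_span_singleton.2 (dvd_mul_right w _), fun h => ?_, ⟨_, hx.symm⟩, ?_⟩
  · rw [hwM, Ideal.span_singleton_pow, Ideal.mem_span_singleton] at h
    refine hw.not_isUnit (isUnit_of_dvd_one ?_)
    have h' : w ^ 2 ∣ w := by simpa [x, mul_assoc] using h.mul_right v
    obtain ⟨z, hz⟩ := h'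
    exact ⟨z, mul_left_cancel₀ hw.ne_zero (by rw [mul_one, ← mul_assoc, ← sq]; exact hz)⟩
  · have hq0 : (X ^ m - C (π * a)).natDegree = m := natDegree_X_pow_sub_C
    have hmo : (X ^ m - C (π * a)).Monic := monic_X_pow_sub_C _ hm0.ne'
    have hprime : (Ideal.span {π}).IsPrime := hπ.maximalIdeal_eq ▸ inferInstance
    have heis : (X ^ m - C (π * a)).IsEisensteinAt (Ideal.span {π}) := by
      refine ⟨?_, fun {i} hi => ?_, ?_⟩
      · rw [hmo.leadingCoeff]
        exact fun h => hprime.ne_top ((Ideal.eq_top_iff_one _).2 h)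
      · rw [hq0] at hi
        rw [coeff_sub, coeff_X_pow, if_neg hi.ne, coeff_C, zero_sub, neg_mem_iff]
        split_ifs
        · exact Ideal.mem_span_singleton.2 (dvd_mul_right π a)
        · exact zero_mem _
      · rw [coeff_sub, coeff_X_pow, if_neg hm0.ne, coeff_C_zero, zero_sub, neg_mem_iff, Ideal.span_singleton_pow,
          Ideal.mem_span_singleton, sq]
        exact fun h => hπ.not_isUnit (isUnit_of_dvd_unit ((mul_dvd_mul_iff_left hπ.ne_zero).1 h) haA)
    have hxi : IsIntegral A x := IsIntegral.of_finite A x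
    have hdvd : minpoly A x ∣ X ^ m - C (π * a) :=
      minpoly.isIntegrallyClosed_dvd hxi (by simp [hx])
    obtain ⟨q, hq⟩ := hdvd
    have hu := ((heis.irreducible hprime hmo.isPrimitive (hq0.symm ▸ hm0)).isUnit_or_isUnit hq).resolve_left
      (minpoly.not_isUnit A x)
    have hdeg := congrArg natDegree hq
    rw [hq0, natDegree_mul (minpoly.ne_zero hxi) hu.ne_zero, natDegree_eq_zero_of_isUnit hu, add_zero] at hdeg
    exact hdeg.symm


/-- Let A be a complete discrete valuation ring containing a field K with K → A → A/m bijective, and B a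
Dedekind domain which is a finite torsion-free A-algebra of rank m with fraction field separable
over that of A (the integral closure of A in a finite separable extension E of F = Frac A). If the
extension is totally ramified — the maximal ideal M of B has ramification index m — and m is a unit
in A, then some uniformizer u of B (an element of M not in M²) satisfies u^m ∈ A and generates E
over F: its minimal polynomial over A has degree m. -/
theorem result (K A B : Type u) [Field K]
    [CommRing A] [IsDomain A] [IsDiscreteValuationRing A]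
    [IsAdicComplete (IsLocalRing.maximalIdeal A) A]
    [Algebra K A] (hK : Function.Bijective ((IsLocalRing.residue A).comp (algebraMap K A)))
    [CommRing B] [IsDedekindDomain B] [Algebra A B] [Module.Finite A B] [Module.IsTorsionFree A B]
    [Algebra.IsSeparable (FractionRing A) (FractionRing B)]
    (M : Ideal B) [M.IsMaximal] (hram : M.ramificationIdx A = Module.finrank A B)
    (hm : IsUnit ((Module.finrank A B : ℕ) : A)) :
    ∃ u : B, u ∈ M ∧ u ∉ M ^ 2 ∧ u ^ Module.finrank A B ∈ (algebraMap A B).range ∧
      (minpoly A u).natDegree = Module.finrank A B := by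
  exact exists_root A B M hram hm


end Groth.Agent.S11089
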