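import Groth.Statements.S11091
import Groth.Agent.Hensel.IntegralStrict
import Mathlib

set_option autoImplicit false
universe u
attribute [local instance] FractionRing.liftAlgebra
open CAlg

namespace Groth.Agent.S11091

/-- Let A be a complete discrete valuation ring and B a Dedekind domain which is a finite torsion-free
A-algebra whose fraction field is separable over that of A (the integral closure of A in a finite
separable extension E of the fraction field F). Then B has exactly one maximal ideal; equivalently,
since the discrete valuations of E extending a multiple of the valuation of F correspond to the
nonzero primes of B, the valuation of F extends uniquely to E, and B is a complete discrete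
valuation ring. -/
theorem result (A B : Type u) [CommRing A] [IsDomain A] [IsDiscreteValuationRing A]
    [IsAdicComplete (IsLocalRing.maximalIdeal A) A]
    [CommRing B] [IsDedekindDomain B] [Algebra A B] [Module.Finite A B] [Module.IsTorsionFree A B]
    [Algebra.IsSeparable (FractionRing A) (FractionRing B)] :
    ∃! M : Ideal B, M.IsMaximal := by
  haveI : HenselianLocalRing A := Hensel.henselianLocalRing_of_henselianRing A
  haveI : IsLocalRing B := Hensel.isLocalRing_of_isIntegral_domain A B
  exact IsLocalRing.maximal_ideal_unique B


end Groth.Agent.S11091
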