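import Groth.Statements.S11092
import Mathlib
import Groth.Agent.OmegaField.Basis
-- import your own Groth.Agent.* helpers here

set_option autoImplicit false
universe u v
open CAlg

namespace Groth.Agent.S11092

theorem finrank_one (k : Type u) (F : Type v) [Field k] [IsAlgClosed k] [Field F] [Algebra k F]
    (hF : Algebra.EssFiniteType k F) (x : F) (hx : IsTranscendenceBasis k (fun _ : Unit => x)) :
    Module.finrank F (Ω[F⁄k]) = 1 := by
  haveI := hF
  obtain ⟨s, hs, hsep⟩ := exists_isTranscendenceBasis_and_isSeparable_of_perfectField k F
  obtain ⟨b, -⟩ := Groth.Agent.OmegaField.exists_basis k F ((↑) : s → F) hs.1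
    (by rw [Subtype.range_coe_subtype]; exact hsep)
  rw [Module.finrank_eq_card_basis b]
  have h := hs.lift_cardinalMk_eq hx
  simpa [Cardinal.mk_fintype] using h

/-- Let k be an algebraically closed field, K a field finitely generated over k admitting a one-element
transcendence basis over k (a function field of dimension one), and L a finite extension field of K
with the compatible k-algebra structure. Then the K-linear map from the Kähler differentials of K
over k to those of L over k induced by the inclusion is either the zero map or injective, and it is
injective if and only if L is separable over K. (The published statement takes K ⊆ L to be the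
function fields of two elliptic curves related by a nonzero homomorphism; its proof uses only that
they are function fields of dimension one over k.) -/
theorem result (k : Type u) (K L : Type v)
    [Field k] [IsAlgClosed k] [Field K] [Field L] [Algebra k K] [Algebra k L] [Algebra K L]
    [IsScalarTower k K L] (hK : (⊤ : IntermediateField k K).FG)
    (hx : ∃ x : K, IsTranscendenceBasis k (fun _ : Unit => x)) [FiniteDimensional K L] :
    (KaehlerDifferential.map k k K L = 0 ∨ Function.Injective (KaehlerDifferential.map k k K L)) ∧
      (Function.Injective (KaehlerDifferential.map k k K L) ↔ Algebra.IsSeparable K L) := by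
  obtain ⟨x, hx⟩ := hx
  haveI hK' : Algebra.EssFiniteType k K := IntermediateField.fg_top_iff.1 hK
  haveI hL' : Algebra.EssFiniteType k L := Algebra.EssFiniteType.comp k K L
  have hxL : IsTranscendenceBasis k (fun _ : Unit => algebraMap K L x) := by
    haveI : Algebra.IsAlgebraic K L := Algebra.IsAlgebraic.of_finite K L
    exact hx.algebraMap_comp (A := L)
  have h1 := finrank_one k K hK' x hx
  obtain ⟨ω, hω, hgen⟩ := finrank_eq_one_iff'.1 h1
  refine ⟨?_, ?_, fun hsep => ?_⟩
  · by_cases h0 : KaehlerDifferential.map k k K L ω = 0
    · left
      refine LinearMap.ext fun w => ?_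
      obtain ⟨c, rfl⟩ := hgen w
      rw [map_smul, h0, smul_zero, LinearMap.zero_apply]
    · right
      refine (injective_iff_map_eq_zero _).2 fun w hw => ?_
      obtain ⟨c, rfl⟩ := hgen w
      rw [map_smul] at hw
      rw [(smul_eq_zero.1 hw).resolve_right h0, zero_smul]
  · intro hinj
    have h2 := finrank_one k L hL' _ hxL
    have hne : KaehlerDifferential.map k k K L ω ≠ 0 := fun h => hω (hinj (h.trans (map_zero _).symm))
    have hspan := (finrank_eq_one_iff_of_nonzero' _ hne).1 h2
    haveI : Algebra.EssFiniteType K L := Algebra.EssFiniteType.of_comp k K L
    haveI : Subsingleton (Ω[L⁄K]) := by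
      refine subsingleton_iff.2 fun a b => ?_
      suffices ∀ w : Ω[L⁄K], w = 0 by rw [this a, this b]
      intro w
      obtain ⟨v, rfl⟩ := KaehlerDifferential.map_surjective k K L w
      obtain ⟨c, rfl⟩ := hspan v
      rw [map_smul, ← one_smul L (KaehlerDifferential.map k k K L ω), ← KaehlerDifferential.mapBaseChange_tmul,
        (KaehlerDifferential.exact_mapBaseChange_map k K L).apply_apply_eq_zero, smul_zero]
    haveI : Algebra.FormallyUnramified K L := ⟨inferInstance⟩
    exact Algebra.FormallyUnramified.isSeparable K L
  · haveI : Algebra.FormallyEtale K L := Algebra.FormallyEtale.of_isSeparable K L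
    intro a b hab
    have hinj : Function.Injective (TensorProduct.mk K L (Ω[K⁄k]) 1) :=
      Module.FaithfullyFlat.tensorProduct_mk_injective _
    refine hinj ((KaehlerDifferential.tensorKaehlerEquivOfFormallyEtale k K L).injective ?_)
    simpa [KaehlerDifferential.tensorKaehlerEquivOfFormallyEtale_apply] using hab

end Groth.Agent.S11092
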