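import Groth.Statements.S11093
import Groth.Agent.ArtinSchreierNF.Basic

set_option autoImplicit false
universe u
attribute [local instance] FractionRing.liftAlgebra
open CAlg

namespace Groth.Agent.S11093
open Groth.Agent


/-- Second assertion: (Artin–Schreier normal form): let K be a perfect field of characteristic p > 0, A
= K[[t]] the power series ring with fraction field F, and B a Dedekind domain which is a finite
torsion-free A-algebra whose fraction field E is Galois of degree p over F and totally ramified:
some maximal ideal of B has ramification index p over A. Then there are x in E generating E over F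
and α in F with x^p − x + α = 0, where α = a / t^m for a power series a with nonzero constant term
and a positive integer m not divisible by p. -/
theorem result (p : ℕ) [Fact p.Prime] (K : Type u) [Field K]
    [CharP K p] [PerfectField K] (B : Type u) [CommRing B] [IsDedekindDomain B]
    [Algebra (PowerSeries K) B] [Module.Finite (PowerSeries K) B] [Module.IsTorsionFree (PowerSeries K) B]
    [IsGalois (FractionRing (PowerSeries K)) (FractionRing B)]
    (hdeg : Module.finrank (FractionRing (PowerSeries K)) (FractionRing B) = p)
    (M : Ideal B) [M.IsMaximal] (hram : M.ramificationIdx (PowerSeries K) = p) :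
    ∃ x : FractionRing B, ∃ m : ℕ, ∃ a : PowerSeries K,
      IntermediateField.adjoin (FractionRing (PowerSeries K)) {x} = ⊤ ∧ 0 < m ∧ ¬ p ∣ m ∧
      PowerSeries.constantCoeff a ≠ 0 ∧
      x ^ p - x + algebraMap (FractionRing (PowerSeries K)) (FractionRing B)
        (algebraMap (PowerSeries K) (FractionRing (PowerSeries K)) a /
          algebraMap (PowerSeries K) (FractionRing (PowerSeries K)) (PowerSeries.X ^ m)) = 0 := by
  classical
  haveI : CharP (PowerSeries K) p := charP_of_injective_ringHom (PowerSeries.C_injective (R := K)) p
  haveI : CharP (FractionRing B) p :=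
    charP_of_injective_algebraMap (FaithfulSMul.algebraMap_injective (PowerSeries K) (FractionRing B)) p
  haveI : Module.Finite (FractionRing (PowerSeries K)) (FractionRing B) :=
    Module.finite_of_finrank_pos (hdeg ▸ (Fact.out : p.Prime).pos)
  obtain ⟨x, hx, α, hα⟩ := ArtinSchreierNF.exists_generator (F := FractionRing (PowerSeries K)) (E := FractionRing B) hdeg
  obtain ⟨a, s, hs, rfl⟩ := IsFractionRing.div_surjective (A := PowerSeries K) α
  have hs0 : s ≠ 0 := nonZeroDivisors.ne_zero hs
  have hu : IsUnit (PowerSeries.divXPowOrder s) := PowerSeries.isUnit_divided_by_X_pow_order hs0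
  obtain ⟨u, hu'⟩ := hu
  have hfac : PowerSeries.X ^ s.order.toNat * (u : PowerSeries K) = s := by
    rw [hu']; exact PowerSeries.X_pow_order_mul_divXPowOrder
  obtain ⟨y, hy, m, c, hm, hpm, hc, hyc⟩ :=
    ArtinSchreierNF.exists_normal_form p K B M hdeg hram s.order.toNat x (a * ↑u⁻¹) hx (by
      refine Eq.trans ?_ hα
      congr 1
      rw [map_div₀, ← IsScalarTower.algebraMap_apply, ← IsScalarTower.algebraMap_apply]
      have hinv : algebraMap (PowerSeries K) (FractionRing B) (↑u⁻¹ : PowerSeries K) *
          algebraMap (PowerSeries K) (FractionRing B) (u : PowerSeries K) = 1 := by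
        rw [← map_mul, Units.inv_mul, map_one]
      conv_rhs => rw [← hfac, map_mul, map_pow]
      rw [map_mul, eq_inv_of_mul_eq_one_left hinv]
      ring)
  refine ⟨y, m, c, ?_, hm, hpm, hc, ?_⟩
  · haveI := IntermediateField.isSimpleOrder_of_finrank_prime (FractionRing (PowerSeries K)) (FractionRing B)
      (hdeg ▸ (Fact.out : p.Prime))
    refine (IsSimpleOrder.eq_bot_or_eq_top _).resolve_left fun hbot => hy ?_
    exact IntermediateField.mem_bot.1 (hbot ▸ IntermediateField.mem_adjoin_simple_self _ y)
  · rw [map_div₀, ← IsScalarTower.algebraMap_apply, ← IsScalarTower.algebraMap_apply, map_pow]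
    exact hyc


end Groth.Agent.S11093
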