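import Groth.Statements.S11094
import Groth.Agent.AVTors.FFFunctor
import Groth.Agent.H23.EquidimFibres
-- import your own Groth.Agent.* helpers here

set_option autoImplicit false
universe u
open CategoryTheory CategoryTheory.Limits MonoidalCategory CartesianMonoidalCategory MonObj GrpObj AlgebraicGeometry
open AbVar

namespace Groth.Agent.S11094

set_option linter.style.haveILetI false
set_option backward.isDefEq.respectTransparency false
set_option backward.isDefEq.respectTransparency.types false
set_option maxHeartbeats 1000000

/-- Let k be an algebraically closed field, E and E′ elliptic curves over k — group schemes over Spec k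
whose underlying schemes are proper, smooth, integral and one-dimensional — and φ : E → E′ a
homomorphism which is finite, surjective and étale (a separable isogeny), sending the generic point
of E to that of E′, so that the function field of E′ maps into the function field of E. Then the
function field of E is a Galois extension of that of E′, and the number of its automorphisms over
the function field of E′ equals the number of k-valued points of E that φ sends to the unit of E′. -/
theorem result (k : Type u) [Field k] [IsAlgClosed k]
    (E E' : Over (Spec (CommRingCat.of k)))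
    [GrpObj E] [IsProper E.hom] [Smooth E.hom] [IsIntegral E.left] (hE : topologicalKrullDim E.left = 1)
    [GrpObj E'] [IsProper E'.hom] [Smooth E'.hom] [IsIntegral E'.left] (hE' : topologicalKrullDim E'.left = 1)
    (φ : E ⟶ E') [IsMonHom φ] [IsFinite φ.left] [Surjective φ.left] [Etale φ.left]
    (e : φ.left (genericPoint E.left) = genericPoint E'.left) :
    letI := ((E'.left.presheaf.stalkSpecializes (specializes_of_eq e) ≫
      φ.left.stalkMap (genericPoint E.left)).hom).toAlgebra
    IsGalois E'.left.functionField E.left.functionField ∧
      Nat.card (E.left.functionField ≃ₐ[E'.left.functionField] E.left.functionField) =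
        Nat.card {P : 𝟙_ (Over (Spec (CommRingCat.of k))) ⟶ E // P ≫ φ = η[E']} := by
  classical
  haveI : GeometricallyIntegral E.hom := Groth.Agent.H23.EquidimFibres.geometricallyIntegral_of_isAlgClosed
  haveI : GeometricallyIntegral E'.hom := Groth.Agent.H23.EquidimFibres.geometricallyIntegral_of_isAlgClosed
  haveI : IsCommMonObj E := isCommMonObj_of_isProper_of_geometricallyIntegral E
  haveI : IsCommMonObj E' := isCommMonObj_of_isProper_of_geometricallyIntegral E'
  haveI : IsLocallyNoetherian E'.left := LocallyOfFiniteType.isLocallyNoetherian E'.hom
  haveI : LocallyOfFinitePresentation φ.left := inferInstance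
  letI inst := ((E'.left.presheaf.stalkSpecializes (specializes_of_eq e) ≫
      φ.left.stalkMap (genericPoint E.left)).hom).toAlgebra
  show IsGalois _ _ ∧ _
  haveI : FiniteDimensional E'.left.functionField E.left.functionField :=
    Groth.Agent.AVDegLib.finiteDimensional_ff φ
  let Kp := {P : 𝟙_ (Over (Spec (CommRingCat.of k))) ⟶ E // P ≫ φ = η[E']}
  -- the kernel has as many points as the degree
  have hdeg : Nat.card Kp = Module.finrank E'.left.functionField E.left.functionField := by
    let p := pullback.fst η[E'].left φ.left
    have h1 : Kp ≃ {q : Spec (CommRingCat.of k) ⟶ pullback η[E'].left φ.left // q ≫ p = 𝟙 _} :=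
      { toFun := fun x => ⟨pullback.lift (𝟙 _) x.1.left
          ((Category.id_comp _).trans (congrArg Over.Hom.left x.2).symm), pullback.lift_fst _ _ _⟩
        invFun := fun q => ⟨Over.homMk (q.1 ≫ pullback.snd _ _) (by
            rw [Category.assoc, ← Over.w φ, ← pullback.condition_assoc, Over.w η[E'], ← Category.assoc, q.2]
            exact Category.id_comp _),
          Over.OverMorphism.ext (by
            show (q.1 ≫ pullback.snd _ _) ≫ φ.left = η[E'].left
            rw [Category.assoc, ← pullback.condition, ← Category.assoc, q.2]
            exact Category.id_comp _)⟩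
        left_inv := fun x => Subtype.ext (Over.OverMorphism.ext (pullback.lift_snd _ _ _))
        right_inv := fun q => Subtype.ext (pullback.hom_ext ((pullback.lift_fst _ _ _).trans q.2.symm)
          (pullback.lift_snd _ _ _)) }
    rw [Nat.card_congr (h1.trans (Groth.Agent.AVTors.sectEquiv p))]
    rw [← Groth.Agent.AVDegLib.finrank_eq φ (η[E'].left (IsLocalRing.closedPoint k)),
      ← Scheme.Hom.finrank_pullback_fst φ.left η[E'].left (IsLocalRing.closedPoint k)]
    exact (Groth.Agent.AVTors.natCard_le p _).2.2 inferInstance (MorphismProperty.pullback_fst (P := @Etale) _ _ inferInstance)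
  -- translations
  let t : (𝟙_ (Over (Spec (CommRingCat.of k))) ⟶ E) → (E ⟶ E) := fun P => (toUnit E ≫ P) * 𝟙 E
  have hcomp : ∀ P Q, t P ≫ t Q = t (Q * P) := fun P Q => by
    simp only [t]
    rw [MonObj.comp_mul, Category.comp_id, ← Category.assoc, comp_toUnit, MonObj.comp_mul, _root_.mul_assoc]
  have hone : t 1 = 𝟙 E := by
    simp only [t]
    rw [MonObj.comp_one, _root_.one_mul]
  haveI hiso : ∀ P, IsIso (t P) := fun P => ⟨t P⁻¹, by rw [hcomp, inv_mul_cancel, hone],
    by rw [hcomp, mul_inv_cancel, hone]⟩
  haveI : ∀ P, IsIso (t P).left := fun P => inferInstanceAs (IsIso ((Over.forget _).map (t P)))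
  have hker : ∀ P : Kp, t P.1 ≫ φ = φ := fun P => by
    simp only [t]
    rw [MonObj.mul_comp, Category.assoc, P.2, Category.id_comp]
    exact (congrArg (· * φ) Hom.one_def.symm).trans (_root_.one_mul φ)
  have hff : ∀ P : Kp, (Groth.Agent.AVDegLib.ffMap (t P.1)).comp (Groth.Agent.AVDegLib.ffMap φ) =
      Groth.Agent.AVDegLib.ffMap φ := fun P => by
    haveI : IsFinite (t P.1 ≫ φ).left := by rw [Over.comp_left]; infer_instance
    haveI : Surjective (t P.1 ≫ φ).left := by rw [Over.comp_left]; infer_instance
    rw [← Groth.Agent.AVTors.ffMap_comp (t P.1) φ]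
    exact Groth.Agent.AVTors.ffMap_congr (hker P)
  let σ : Kp → (E.left.functionField →ₐ[E'.left.functionField] E.left.functionField) := fun P =>
    AlgHom.mk (Groth.Agent.AVDegLib.ffMap (t P.1)) fun c => RingHom.congr_fun (hff P) c
  have hσ : Function.Injective σ := fun P Q h => by
    have h' : t P.1 = t Q.1 := Groth.Agent.AVTors.ffMap_injective (congrArg AlgHom.toRingHom h)
    exact Subtype.ext (by
      have := congrArg (fun f => η[E] ≫ f) h'
      simp only [t, MonObj.comp_mul, Category.comp_id, ← Category.assoc] at this
      rw [toUnit_unique (η[E] ≫ toUnit E) (𝟙 _), Category.id_comp, Category.id_comp] at this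
      exact mul_right_cancel this)
  let σ' : Kp → (E.left.functionField ≃ₐ[E'.left.functionField] E.left.functionField) := fun P =>
    AlgEquiv.ofBijective (σ P) (Algebra.IsAlgebraic.algHom_bijective (σ P))
  have hσ' : Function.Injective σ' := fun P Q h => hσ (AlgHom.ext fun x => DFunLike.congr_fun h x)
  have hcard : Nat.card (E.left.functionField ≃ₐ[E'.left.functionField] E.left.functionField) =
      Module.finrank E'.left.functionField E.left.functionField := by
    refine le_antisymm ?_ (hdeg ▸ Nat.card_le_card_of_injective σ' hσ')
    rw [Nat.card_eq_fintype_card]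
    exact AlgEquiv.card_le
  exact ⟨IsGalois.of_card_aut_eq_finrank _ _ hcard, hcard.trans hdeg.symm⟩

end Groth.Agent.S11094
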