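import Groth.Statements.S11095
import Groth.Agent.FlatLoc6.DefinedPrime
import Mathlib

set_option autoImplicit false
universe u
open CAlg

namespace Groth.Agent.S11095
open TensorProduct

theorem isField_tensor_fin {k : Type u} {K : Type u} [Field k] [Field K] [Algebra k K] (hK : ∀ y : K, IsAlgebraic k y → y ∈ Set.range (algebraMap k K)) (k' : Type u) [Field k']
    [Algebra k k'] [FiniteDimensional k k'] [Algebra.IsSeparable k k'] :
    IsField (k' ⊗[k] K) := by
  classical
  let pb := Field.powerBasisOfFiniteOfSeparable k k'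
  set g := minpoly k pb.gen
  have hint : IsIntegral k pb.gen := IsIntegral.of_finite _ _
  have hgm : g.Monic := minpoly.monic hint
  have hirr : Irreducible (g.map (algebraMap k K)) := by
    have hg1 : g.map (algebraMap k K) ≠ 1 := fun e => by
      have := congrArg Polynomial.natDegree e
      rw [Polynomial.natDegree_map, Polynomial.natDegree_one] at this
      exact (minpoly.natDegree_pos hint).ne' this
    refine ((hgm.map _).irreducible_iff_natDegree).mpr ⟨hg1, fun f₁ f₂ h₁ h₂ heq => ?_⟩
    have hdvd : f₁ ∣ g.map (algebraMap k K) := Dvd.intro _ heq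
    obtain ⟨q, hq⟩ : ∃ q : Polynomial k, q.map (algebraMap k K) = f₁ := by
      rw [← Polynomial.mem_lifts, Polynomial.lifts_iff_coeff_lifts]
      exact fun i => hK _ (Polynomial.isIntegral_coeff_of_dvd g f₁ hgm h₁ hdvd i).isAlgebraic
    have hq2 : q ∣ g := (Polynomial.map_dvd_map' (algebraMap k K)).mp (hq ▸ hdvd)
    rcases ((minpoly.irreducible hint).dvd_iff).mp hq2 with h | h
    · left
      rw [← hq, Polynomial.natDegree_map, Polynomial.natDegree_eq_zero_of_isUnit h]
    · right
      have h1 : f₁.natDegree = g.natDegree := by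
        rw [← hq, Polynomial.natDegree_map]
        exact Polynomial.natDegree_eq_of_degree_eq (Polynomial.degree_eq_degree_of_associated h).symm
      have h3 := congrArg Polynomial.natDegree heq
      rw [h₁.natDegree_mul h₂, Polynomial.natDegree_map, h1] at h3
      omega
  haveI : Fact (Irreducible (g.map (algebraMap k K))) := ⟨hirr⟩
  let L := AdjoinRoot (g.map (algebraMap k K))
  have hroot : Polynomial.aeval (AdjoinRoot.root (g.map (algebraMap k K)) : L) (minpoly k pb.gen) = 0 := by
    rw [← Polynomial.aeval_map_algebraMap K, AdjoinRoot.aeval_eq, AdjoinRoot.mk_self]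
  let ψ : k' →ₐ[k] L := pb.lift (AdjoinRoot.root (g.map (algebraMap k K))) hroot
  let Φ : K ⊗[k] k' →ₐ[K] L :=
    Algebra.TensorProduct.lift (Algebra.ofId K L) ψ fun _ _ => Commute.all _ _
  have hsurj : Function.Surjective Φ.toLinearMap := by
    intro w
    induction w using AdjoinRoot.induction_on with
    | ih q =>
      refine ⟨Polynomial.aeval ((1 : K) ⊗ₜ[k] pb.gen) q, ?_⟩
      show Φ _ = _
      rw [← Polynomial.aeval_algHom_apply,
        show Φ ((1 : K) ⊗ₜ[k] pb.gen) = AdjoinRoot.root (g.map (algebraMap k K)) by simp [Φ, ψ],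
        AdjoinRoot.aeval_eq]
  have hdim : Module.finrank K (K ⊗[k] k') = Module.finrank K L := by
    rw [Module.finrank_baseChange, (AdjoinRoot.powerBasis hirr.ne_zero).finrank,
      AdjoinRoot.powerBasis_dim, Polynomial.natDegree_map, pb.finrank, PowerBasis.natDegree_minpoly]
  haveI : FiniteDimensional K L := (AdjoinRoot.powerBasis hirr.ne_zero).finite
  have hbij : Function.Bijective Φ :=
    ⟨(LinearMap.injective_iff_surjective_of_finrank_eq_finrank hdim).mpr hsurj, hsurj⟩
  exact MulEquiv.isField (Field.toIsField L)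
    ((Algebra.TensorProduct.comm k k' K).toMulEquiv.trans (AlgEquiv.ofBijective Φ hbij).toMulEquiv)



/-- Let K₀ be a perfect field, K an algebraic extension of K₀ and F₀ a field extension of K₀ such that
K₀ is algebraically closed in F₀. Then the K₀-algebra F₀ ⊗ K is a field; consequently F₀ and K,
embedded in it by x ↦ x ⊗ 1 and y ↦ 1 ⊗ y, are linearly disjoint over K₀. -/
theorem result (K₀ F₀ K : Type u)
    [Field K₀] [PerfectField K₀] [Field F₀] [Algebra K₀ F₀] [Field K] [Algebra K₀ K]
    [Algebra.IsAlgebraic K₀ K] (h : algebraicClosure K₀ F₀ = ⊥) :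
    IsField (TensorProduct K₀ F₀ K) := by
  have hK : ∀ y : F₀, IsAlgebraic K₀ y → y ∈ Set.range (algebraMap K₀ F₀) := fun y hy =>
    IntermediateField.mem_bot.1 (h ▸ (mem_algebraicClosure_iff.2 hy))
  have hmain : IsField (K ⊗[K₀] F₀) := by
    haveI : Nontrivial (K ⊗[K₀] F₀) :=
      (Algebra.TensorProduct.includeRight_injective (A := K) (B := F₀) (algebraMap K₀ K).injective).nontrivial
    refine { exists_pair_ne := exists_pair_ne _, mul_comm := mul_comm, mul_inv_cancel := fun {z} hz => ?_ }
    obtain ⟨s, hs⟩ := Groth.Agent.FlatLoc6.exists_finset_defined K₀ K F₀ z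
    let L := IntermediateField.adjoin K₀ (s : Set K)
    obtain ⟨y, rfl⟩ := hs L (IntermediateField.subset_adjoin _ _)
    haveI : FiniteDimensional K₀ L := IntermediateField.finiteDimensional_adjoin fun x _ => Algebra.IsIntegral.isIntegral x
    obtain ⟨w, hw⟩ := (isField_tensor_fin hK L).mul_inv_cancel (fun h0 : y = 0 => hz (by rw [h0, map_zero]))
    exact ⟨Algebra.TensorProduct.map L.val (AlgHom.id K₀ F₀) w, by rw [← map_mul, hw, map_one]⟩
  exact MulEquiv.isField hmain (Algebra.TensorProduct.comm K₀ F₀ K).toMulEquiv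


end Groth.Agent.S11095
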