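import Groth.Statements.S11096
-- import your own Groth.Agent.* helpers here

set_option autoImplicit false
universe u
open Neron

namespace Groth.Agent.S11096

/-- Let a Weierstrass equation have coefficients in a commutative ring R and let I be an ideal with a₃,
a₄, a₆ ∈ I. If the discriminant Δ does not lie in I ^ 2, then a₆ does not lie in I ^ 2 and b₂ does
not lie in I. (For a discrete valuation ring with maximal ideal (π): if π divides a₃, a₄, a₆ and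
v(Δ) = 1, then v(a₆) = 1 and π does not divide b₂.) -/
theorem result {R : Type u} [CommRing R] (W : WeierstrassCurve R)
    (I : Ideal R) (h3 : W.a₃ ∈ I) (h4 : W.a₄ ∈ I) (h6 : W.a₆ ∈ I) (hΔ : W.Δ ∉ I ^ 2) :
    W.a₆ ∉ I ^ 2 ∧ W.b₂ ∉ I := by
  have h4b : W.b₄ ∈ I := by
    rw [WeierstrassCurve.b₄]; exact I.add_mem (I.mul_mem_left _ h4) (I.mul_mem_left _ h3)
  have h6b : W.b₆ ∈ I := by
    rw [WeierstrassCurve.b₆, pow_two]; exact I.add_mem (I.mul_mem_left _ h3) (I.mul_mem_left _ h6)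
  have h8b : W.b₈ ∈ I := by
    rw [WeierstrassCurve.b₈, show W.a₁ ^ 2 * W.a₆ + 4 * W.a₂ * W.a₆ - W.a₁ * W.a₃ * W.a₄ + W.a₂ * W.a₃ ^ 2 - W.a₄ ^ 2 =
      (W.a₁ ^ 2 + 4 * W.a₂) * W.a₆ + (W.a₂ * W.a₃ - W.a₁ * W.a₄) * W.a₃ + (-W.a₄) * W.a₄ by ring]
    exact I.add_mem (I.add_mem (I.mul_mem_left _ h6) (I.mul_mem_left _ h3)) (I.mul_mem_left _ h4)
  have hm : ∀ {a b : R}, a ∈ I → b ∈ I → a * b ∈ I ^ 2 := fun ha hb => by rw [pow_two]; exact Ideal.mul_mem_mul ha hb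
  have hΔe : W.Δ = -(W.b₂ ^ 2 * W.b₈) - 8 * W.b₄ * (W.b₄ * W.b₄) - 27 * (W.b₆ * W.b₆) + 9 * (W.b₂ * (W.b₄ * W.b₆)) := by
    rw [WeierstrassCurve.Δ]; ring
  refine ⟨fun h => hΔ ?_, fun h => hΔ ?_⟩
  · have h8 : W.b₈ ∈ I ^ 2 := by
      rw [WeierstrassCurve.b₈, show W.a₁ ^ 2 * W.a₆ + 4 * W.a₂ * W.a₆ - W.a₁ * W.a₃ * W.a₄ + W.a₂ * W.a₃ ^ 2 - W.a₄ ^ 2 =
        (W.a₁ ^ 2 + 4 * W.a₂) * W.a₆ + W.a₂ * (W.a₃ * W.a₃) + (-W.a₁) * (W.a₃ * W.a₄) + (-1) * (W.a₄ * W.a₄) by ring]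
      exact Ideal.add_mem _ (Ideal.add_mem _ (Ideal.add_mem _ (Ideal.mul_mem_left _ _ h) (Ideal.mul_mem_left _ _ (hm h3 h3)))
        (Ideal.mul_mem_left _ _ (hm h3 h4))) (Ideal.mul_mem_left _ _ (hm h4 h4))
    rw [hΔe]
    exact Ideal.add_mem _ (Ideal.sub_mem _ (Ideal.sub_mem _ (neg_mem (Ideal.mul_mem_left _ _ h8)) (Ideal.mul_mem_left _ _ (hm h4b h4b)))
      (Ideal.mul_mem_left _ _ (hm h6b h6b))) (Ideal.mul_mem_left _ _ (Ideal.mul_mem_left _ _ (hm h4b h6b)))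
  · rw [hΔe]
    exact Ideal.add_mem _ (Ideal.sub_mem _ (Ideal.sub_mem _ (neg_mem (Ideal.mul_mem_right _ _ (by rw [pow_two W.b₂]; exact hm h h))) (Ideal.mul_mem_left _ _ (hm h4b h4b)))
      (Ideal.mul_mem_left _ _ (hm h6b h6b))) (Ideal.mul_mem_left _ _ (Ideal.mul_mem_left _ _ (hm h4b h6b)))

end Groth.Agent.S11096
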