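import Mathlib
import Groth.Agent.CycCovLib.Regular

/-!
# Regularity of a Weierstrass model over a discrete valuation ring
-/

universe u

open Polynomial WeierstrassCurve.Affine
open scoped Polynomial.Bivariate

namespace Groth.Agent.WeierReg

variable {R : Type u} [CommRing R] (W : WeierstrassCurve.Affine R)

theorem polynomialX_eq_derivative :
    Bivariate.swap (R := R) (derivative (Bivariate.swap (R := R) W.polynomial)) = W.polynomialX := by
  simp only [WeierstrassCurve.Affine.polynomial, polynomialX, map_add, map_sub, map_mul, map_pow, Bivariate.swap_X,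
    Bivariate.swap_Y, Bivariate.swap_C_C, derivative_add, derivative_sub, derivative_mul, derivative_pow,
    derivative_C, derivative_X, map_natCast, map_ofNat, C_add, C_sub, C_mul, C_pow, map_one, map_zero]
  norm_num
  ring

theorem polynomialY_eq_derivative : derivative W.polynomial = W.polynomialY := by
  simp only [WeierstrassCurve.Affine.polynomial, polynomialY, derivative_add, derivative_sub, derivative_mul,
    derivative_pow, derivative_C, derivative_X, C_add, C_mul, map_ofNat]
  norm_num
  rw [show (C (2 : R[X]) : R[X][Y]) = 2 from map_ofNat C 2]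

theorem cube_eq :
    (C X : R[X][Y]) ^ 3 = 2 * W.polynomial - C X * W.polynomialX - Y * W.polynomialY - C (C W.a₃) * Y +
      C (C W.a₄) * C X + 2 * C (C W.a₆) := by
  simp only [WeierstrassCurve.Affine.polynomial, polynomialX, polynomialY, C_add, C_mul, C_pow, map_ofNat]
  ring

theorem sq_eq :
    (Y : R[X][Y]) ^ 2 = W.polynomial - C (C W.a₁) * C X * Y - C (C W.a₃) * Y + C X ^ 3 +
      C (C W.a₂) * C X ^ 2 + C (C W.a₄) * C X + C (C W.a₆) := by
  simp only [WeierstrassCurve.Affine.polynomial, C_add, C_mul, C_pow]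
  ring

variable [IsDomain R] [IsDiscreteValuationRing R]

omit [IsDomain R] [IsDiscreteValuationRing R] in
theorem derivs_mem (q : Ideal R[X][Y]) [q.IsPrime] (hF : W.polynomial ∈ q) {x : R[X][Y]} (hx : x ∉ q)
    (hxF : x * W.polynomial ∈ q ^ 2) : W.polynomialX ∈ q ∧ W.polynomialY ∈ q := by
  refine ⟨?_, ?_⟩
  · let s := Bivariate.swap (R := R)
    have h1 : s (x * W.polynomial) ∈ q.map (s : R[X][Y] →+* R[X][Y]) ^ 2 := by
      rw [← Ideal.map_pow]; exact Ideal.mem_map_of_mem (s : R[X][Y] →+* R[X][Y]) hxF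
    have h2 := CycCovLib.derivative_mem_of_mem_sq h1
    have h3 : s (derivative (s (x * W.polynomial))) ∈ q := by
      have h4 := Ideal.mem_map_of_mem (s : R[X][Y] →+* R[X][Y]) h2
      rw [Ideal.map_map, show (s : R[X][Y] →+* R[X][Y]).comp (s : R[X][Y] →+* R[X][Y]) = RingHom.id _ from
        RingHom.ext fun p => Bivariate.swap_swap_apply p, Ideal.map_id] at h4
      exact h4
    rw [map_mul, derivative_mul, map_add, map_mul, map_mul] at h3
    simp only [s, Bivariate.swap_swap_apply, polynomialX_eq_derivative] at h3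
    exact (Ideal.IsPrime.mem_or_mem inferInstance ((Ideal.add_mem_iff_right _ (q.mul_mem_left _ hF)).1 h3)).resolve_left hx
  · have h := CycCovLib.derivative_mem_of_mem_sq hxF
    rw [derivative_mul, polynomialY_eq_derivative] at h
    exact (Ideal.IsPrime.mem_or_mem inferInstance ((Ideal.add_mem_iff_right _ (q.mul_mem_left _ hF)).1 h)).resolve_left hx

theorem le_maximal_of_ne_bot (p : Ideal R) [p.IsPrime] (hp : p ≠ ⊥) : p = IsLocalRing.maximalIdeal R :=
  IsLocalRing.eq_maximalIdeal (Ideal.IsPrime.isMaximal inferInstance hp)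

/-- At the origin of the closed fibre the equation is not in the square of the prime. -/
theorem notMem_sq_origin (h6' : W.a₆ ∉ IsLocalRing.maximalIdeal R ^ 2) (q : Ideal R[X][Y]) [q.IsPrime]
    (hm : ∀ r ∈ IsLocalRing.maximalIdeal R, C (C r) ∈ q) (hX : C X ∈ q) (hY : (Y : R[X][Y]) ∈ q)
    (x : R[X][Y]) (hx : x ∉ q) : x * W.polynomial ∉ q ^ 2 := by
  intro h
  let e : R[X][Y] →+* R := evalEvalRingHom 0 0
  have hq : ∀ p ∈ q, e p ∈ IsLocalRing.maximalIdeal R := by
    intro p hp
    by_contra hu
    refine ‹q.IsPrime›.ne_top (Ideal.eq_top_of_isUnit_mem _ (?_ : C (C (e p)) ∈ q)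
      (((IsLocalRing.notMem_maximalIdeal.1 hu).map C).map C))
    have h1 : p = Y * divX p + (C X * C (divX (p.coeff 0)) + C (C ((p.coeff 0).coeff 0))) := by
      conv_lhs => rw [← X_mul_divX_add p, ← X_mul_divX_add (p.coeff 0), C_add, C_mul]
    have h2 : e p = (p.coeff 0).coeff 0 := by
      show p.evalEval 0 0 = _
      rw [evalEval, ← coeff_zero_eq_eval_zero, C_0, ← coeff_zero_eq_eval_zero]
    rw [h2]
    have h3 : C (C ((p.coeff 0).coeff 0)) = p - Y * divX p - C X * C (divX (p.coeff 0)) := by
      conv_rhs => arg 1; arg 1; rw [h1]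
      ring
    rw [h3]
    exact sub_mem (sub_mem hp (q.mul_mem_right _ hY)) (q.mul_mem_right _ hX)
  have hxu : IsUnit (e x) := by
    by_contra hu
    refine hx ?_
    have h1 : x = Y * divX x + (C X * C (divX (x.coeff 0)) + C (C ((x.coeff 0).coeff 0))) := by
      conv_lhs => rw [← X_mul_divX_add x, ← X_mul_divX_add (x.coeff 0), C_add, C_mul]
    have h2 : e x = (x.coeff 0).coeff 0 := by
      show x.evalEval 0 0 = _
      rw [evalEval, ← coeff_zero_eq_eval_zero, C_0, ← coeff_zero_eq_eval_zero]
    rw [h1]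
    exact add_mem (q.mul_mem_right _ hY) (add_mem (q.mul_mem_right _ hX) (hm _ (h2 ▸ hu)))
  have h2 : e (x * W.polynomial) ∈ IsLocalRing.maximalIdeal R ^ 2 := by
    have h3 := Ideal.mem_map_of_mem e h
    rw [Ideal.map_pow] at h3
    exact Ideal.pow_right_mono (Ideal.map_le_iff_le_comap.2 hq) 2 h3
  rw [map_mul, Ideal.unit_mul_mem_iff_mem _ hxu] at h2
  refine h6' ?_
  have h4 : e W.polynomial = -W.a₆ := by
    show W.polynomial.evalEval 0 0 = _
    exact evalEval_polynomial_zero
  rw [h4] at h2
  simpa using neg_mem h2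

/-- A prime of the plane containing the equation and both partial derivatives contains the origin. -/
theorem origin_mem (hΔ : W.Δ ≠ 0) (h3 : W.a₃ ∈ IsLocalRing.maximalIdeal R) (h4 : W.a₄ ∈ IsLocalRing.maximalIdeal R)
    (h6 : W.a₆ ∈ IsLocalRing.maximalIdeal R) (q : Ideal R[X][Y]) [q.IsPrime] (hF : W.polynomial ∈ q)
    (hX : W.polynomialX ∈ q) (hY : W.polynomialY ∈ q) :
    (∀ r ∈ IsLocalRing.maximalIdeal R, C (C r) ∈ q) ∧ C X ∈ q ∧ (Y : R[X][Y]) ∈ q := by
  let g : R[X][Y] →+* q.ResidueField := algebraMap _ _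
  let f : R →+* q.ResidueField := g.comp (C.comp C)
  have hp : RingHom.ker f ≠ ⊥ := by
    intro hbot
    have hf : Function.Injective f := (RingHom.injective_iff_ker_eq_bot f).2 hbot
    have hg : ∀ p : R[X][Y], g p = (p.map (mapRingHom f)).evalEval (g (C X)) (g Y) := by
      intro p
      have : g = (evalEvalRingHom (g (C X)) (g Y)).comp (mapRingHom (mapRingHom f)) := by
        refine Polynomial.ringHom_ext (fun a => ?_) ?_
        · show g (C a) = ((C a).map (mapRingHom f)).evalEval _ _
          rw [Polynomial.map_C, evalEval_C]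
          have : g.comp C = (Polynomial.evalRingHom (g (C X))).comp (mapRingHom f) :=
            Polynomial.ringHom_ext (fun r => by simp [f]) (by simp)
          exact RingHom.congr_fun this a
        · show g Y = ((Y : R[X][Y]).map (mapRingHom f)).evalEval _ _
          rw [Polynomial.map_X, evalEval_X]
      exact RingHom.congr_fun this p
    have hΔ' : (W.map f).toAffine.Δ ≠ 0 := by
      show (W.map f).Δ ≠ 0
      rw [WeierstrassCurve.map_Δ]
      exact fun h => hΔ (hf (h.trans (map_zero f).symm))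
    have hgz : ∀ p ∈ q, g p = 0 := fun p hp => Ideal.algebraMap_residueField_eq_zero.2 hp
    have heq : (W.map f).toAffine.Equation (g (C X)) (g Y) := by
      show (W.map f).toAffine.polynomial.evalEval _ _ = 0
      rw [map_polynomial, ← hg]
      exact hgz _ hF
    rcases ((equation_iff_nonsingular_of_Δ_ne_zero hΔ').1 heq).2 with h | h <;> refine h ?_
    · rw [map_polynomialX, ← hg]; exact hgz _ hX
    · rw [map_polynomialY, ← hg]; exact hgz _ hY
  haveI : (RingHom.ker f).IsPrime := RingHom.ker_isPrime f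
  have hm : ∀ r ∈ IsLocalRing.maximalIdeal R, C (C r) ∈ q := fun r hr => by
    rw [← le_maximal_of_ne_bot (RingHom.ker f) hp] at hr
    exact Ideal.algebraMap_residueField_eq_zero.1 hr
  have hXq : C X ∈ q := by
    refine Ideal.IsPrime.mem_of_pow_mem inferInstance 3 ?_
    rw [cube_eq W]
    exact add_mem (add_mem (sub_mem (sub_mem (sub_mem (q.mul_mem_left _ hF) (q.mul_mem_left _ hX))
      (q.mul_mem_left _ hY)) (q.mul_mem_right _ (hm _ h3))) (q.mul_mem_right _ (hm _ h4))) (q.mul_mem_left _ (hm _ h6))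
  refine ⟨hm, hXq, ?_⟩
  refine Ideal.IsPrime.mem_of_pow_mem inferInstance 2 ?_
  rw [sq_eq W]
  exact add_mem (add_mem (add_mem (add_mem (sub_mem (sub_mem hF (q.mul_mem_right _ (q.mul_mem_left _ hXq)))
    (q.mul_mem_right _ (hm _ h3))) (q.pow_mem_of_mem hXq 3 (by norm_num))) (q.mul_mem_left _ (q.pow_mem_of_mem hXq 2 (by norm_num))))
    (q.mul_mem_right _ (hm _ h4))) (hm _ h6)

theorem regular_of_notMem_sq (P : Ideal W.CoordinateRing) [P.IsPrime]
    (h : ∀ x ∉ P.comap (CoordinateRing.mk W), x * W.polynomial ∉ P.comap (CoordinateRing.mk W) ^ 2) :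
    IsRegularLocalRing (Localization.AtPrime P) :=
  CycCovLib.isRegular_of_not_mem_sq (CoordinateRing.mk W) AdjoinRoot.mk_surjective W.polynomial
    Ideal.mk_ker P h

theorem polynomial_mem (P : Ideal W.CoordinateRing) : W.polynomial ∈ P.comap (CoordinateRing.mk W) := by
  rw [Ideal.mem_comap, show CoordinateRing.mk W W.polynomial = 0 from AdjoinRoot.mk_self]
  exact P.zero_mem

end Groth.Agent.WeierReg
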