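import Groth.Statements.S11099
import Groth.Agent.WeilExt.Dedekind

set_option autoImplicit false
universe u
open CategoryTheory CategoryTheory.Limits AlgebraicGeometry
open Neron

namespace Groth.Agent.S11099

/-- Let R be a Dedekind domain, X → Spec R smooth, G → Spec R a proper group scheme, U ⊆ X an open
subscheme which is dense in every fibre of X → Spec R, and f : U → G a morphism over Spec R (a
rational map X ⇢ G over R whose domain is dense in all fibres). Then f extends uniquely to a
morphism X → G over Spec R: a rational map from a smooth R-scheme to a proper R-group scheme,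
defined densely on every fibre, is a morphism. -/
theorem result {R : Type u} [CommRing R] [IsDedekindDomain R] {X G : Scheme.{u}}
    (pX : X ⟶ Spec (CommRingCat.of R)) (pG : G ⟶ Spec (CommRingCat.of R)) [Smooth pX]
    [GrpObj (Over.mk pG)] [IsProper pG]
    (U : X.Opens) (hdense : ∀ x : X, x ∈ closure ((U : Set X) ∩ {y | pX.base y = pX.base x}))
    (f : (U : Scheme.{u}) ⟶ G) (hf : f ≫ pG = U.ι ≫ pX) :
    ∃! g : X ⟶ G, g ≫ pG = pX ∧ U.ι ≫ g = f := by
  haveI : IsLocallyNoetherian (Spec (CommRingCat.of R)) := inferInstance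
  have hS := Groth.Agent.WeilExt.isRegularLocalRing_stalk_spec (R := R)
  haveI : Smooth (Over.mk pX).hom := ‹Smooth pX›
  haveI : IsProper (Over.mk pG).hom := ‹IsProper pG›
  have hU : Dense (U : Set X) := fun x => closure_mono Set.inter_subset_left (hdense x)
  obtain ⟨V, hUV, g₁, hg₁, hg₁U, hV⟩ :=
    Groth.Agent.WeilExt.exists_extension_codimTwo (X := Over.mk pX) (Y := Over.mk pG) hS U hU f hf
  obtain ⟨g, ⟨hg, hgV⟩, -⟩ := Groth.Agent.WeilExt.existsUnique_extension (X := Over.mk pX)
    (G := Over.mk pG) hS V hV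
    (Groth.Agent.WeilExt.exists_fibre_generization_of_coheight pX V hV) g₁ hg₁
  have hgU : U.ι ≫ g = f := by
    rw [← Scheme.homOfLE_ι X hUV, Category.assoc]
    exact (congrArg (_ ≫ ·) hgV).trans hg₁U
  refine ⟨g, ⟨hg, hgU⟩, fun g' ⟨hg', hg'U⟩ => ?_⟩
  haveI : IsReduced X := Groth.Agent.WeilExt.isReduced_smooth hS pX
  haveI : IsDominant U.ι := ⟨by rw [DenseRange, Scheme.Opens.range_ι]; exact hU⟩
  exact ext_of_isDominant_of_isSeparated pG (hg'.trans hg.symm) U.ι (hg'U.trans hgU.symm)

end Groth.Agent.S11099
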