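import Groth.Statements.S1110
import Groth.Agent.FPEnough.Descend
import Groth.Agent.KFlatLib.Perfect.LocFree
import Groth.Agent.QCoh.FT
-- import your own Groth.Agent.* helpers here

set_option autoImplicit false
set_option linter.style.haveILetI false
set_option backward.isDefEq.respectTransparency false
set_option backward.isDefEq.respectTransparency.types false

universe u
open CategoryTheory AlgebraicGeometry
open Perf

namespace Groth.Agent.S1110

/-- For an affine morphism f : X ⟶ Y over a quasi-compact, quasi-separated Y, the resolution property
passes from Y up to X. (The source also treats quasi-affine f.) -/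
theorem result {X Y : Scheme.{u}} (f : X ⟶ Y) [IsAffineHom f] [CompactSpace ↥Y] [QuasiSeparatedSpace ↥Y]
    (hY : PerfAux.HasResolutionProperty Y) : PerfAux.HasResolutionProperty X := by
  intro F hF hft
  obtain ⟨H, q, hH, hfp, hq⟩ := FPEnough.exists_epi_pullback f hF hft
  obtain ⟨E, π, hE, hπ⟩ := hY H hH (QCoh.isFT_of_isFP hfp)
  haveI := hπ
  haveI := hq
  exact ⟨(Scheme.Modules.pullback f).obj E, (Scheme.Modules.pullback f).map π ≫ q,
    KFlatLib.isFinLocFree_pullback f hE, epi_comp _ _⟩
end Groth.Agent.S1110
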