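import Groth.Statements.S11100
import Groth.Agent.SectionSmooth.Local
import Groth.Agent.MorLib.SmoothLocus

set_option autoImplicit false
universe u
open CategoryTheory AlgebraicGeometry
open Neron

namespace Groth.Agent.S11100

theorem isSmoothAt_of_section {R A : Type u} [CommRing R] [IsDedekindDomain R] [CommRing A] [Algebra R A]
    [Algebra.FiniteType R A] (m : Ideal R) [m.IsPrime] (σ : A →ₐ[R] Localization.AtPrime m)
    (q : Ideal A) [q.IsPrime] (hq : (IsLocalRing.maximalIdeal (Localization.AtPrime m)).comap σ.toRingHom = q)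
    [IsRegularLocalRing (Localization.AtPrime q)] : Algebra.IsSmoothAt R q := by
  classical
  let Rt := Localization.AtPrime m
  let O := Localization.AtPrime q
  have hσu : ∀ y : q.primeCompl, IsUnit (σ y) := fun y => by
    by_contra h
    exact y.2 ((SetLike.ext_iff.mp hq (y : A)).mp h)
  let σ' : O →ₐ[R] Rt := IsLocalization.liftAlgHom (M := q.primeCompl) (f := σ) hσu
  have hσ' : ∀ z, σ' (algebraMap A O z) = σ z := fun z => IsLocalization.lift_eq _ z
  have hunit : ∀ r : m.primeCompl, IsUnit (algebraMap R O r) := fun r => by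
    rw [IsScalarTower.algebraMap_apply R A O]
    refine IsLocalization.map_units O (⟨algebraMap R A r, fun h => ?_⟩ : q.primeCompl)
    have h1 : σ (algebraMap R A r) ∈ IsLocalRing.maximalIdeal Rt := (SetLike.ext_iff.mp hq _).mpr h
    rw [AlgHom.commutes] at h1
    exact r.2 ((IsLocalization.AtPrime.to_map_mem_maximal_iff Rt m _).mp h1)
  letI : Algebra Rt O := (IsLocalization.lift (M := m.primeCompl) (g := algebraMap R O) hunit).toAlgebra
  haveI : IsScalarTower R Rt O := IsScalarTower.of_algebraMap_eq fun r => (IsLocalization.lift_eq _ r).symm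
  have hcomm : ∀ c : Rt, σ' (algebraMap Rt O c) = c := fun c => by
    have h : (σ'.toRingHom.comp (algebraMap Rt O)) = RingHom.id Rt := by
      refine IsLocalization.ringHom_ext m.primeCompl (RingHom.ext fun r => ?_)
      show σ' (algebraMap Rt O (algebraMap R Rt r)) = algebraMap R Rt r
      rw [← IsScalarTower.algebraMap_apply, AlgHom.commutes]
    exact RingHom.congr_fun h c
  let σR : O →ₐ[Rt] Rt := { σ'.toRingHom with commutes' := hcomm }
  obtain ⟨n, φ, hφ⟩ := Algebra.FiniteType.iff_quotient_mvPolynomial''.1 ‹Algebra.FiniteType R A›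
  haveI : IsRegularRing Rt := inferInstance
  have hev : ∀ g : MvPolynomial (Fin n) R,
      MvPolynomial.aeval (fun i => algebraMap A O (φ (MvPolynomial.X i))) (MvPolynomial.map (algebraMap R Rt) g) =
        algebraMap A O (φ g) := by
    intro g
    rw [MvPolynomial.aeval_map_algebraMap]
    have h : (IsScalarTower.toAlgHom R A O).comp φ = MvPolynomial.aeval (fun i => algebraMap A O (φ (MvPolynomial.X i))) :=
      MvPolynomial.algHom_ext fun i => by simp
    exact (AlgHom.congr_fun h g).symm
  haveI : Algebra.FormallySmooth Rt O := by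
    refine Groth.Agent.SectionSmooth.formallySmooth_of_section σR (fun i => algebraMap A O (φ (MvPolynomial.X i))) fun z => ?_
    obtain ⟨b, s, rfl⟩ := IsLocalization.exists_mk'_eq q.primeCompl z
    obtain ⟨g, rfl⟩ := hφ b
    obtain ⟨h, hh⟩ := hφ s.1
    refine ⟨MvPolynomial.map (algebraMap R Rt) g, MvPolynomial.map (algebraMap R Rt) h, ?_, ?_⟩
    · rw [hev, hh]
      exact IsLocalization.map_units O s
    · rw [hev, hev, hh, IsLocalization.mk'_spec]
  haveI : Algebra.FormallySmooth R Rt := Algebra.FormallySmooth.of_isLocalization m.primeCompl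
  exact Algebra.FormallySmooth.comp R Rt O

/-- Let R be a Dedekind domain and p : X → Spec R flat and locally of finite presentation with X regular
(all local rings regular). Then every section s of p factors through the smooth locus of p: for
every point t of Spec R, p is smooth at s(t). (The published statement is for regular arithmetic
surfaces over a Dedekind domain with perfect residue fields; this row assumes only that X is flat,
locally of finite presentation and regular.) -/
theorem result {R : Type u} [CommRing R] [IsDedekindDomain R]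
    {X : Scheme.{u}} (p : X ⟶ Spec (CommRingCat.of R)) [Flat p] [LocallyOfFinitePresentation p]
    (hreg : ∀ x : X, IsRegularLocalRing (X.presheaf.stalk x))
    (s : Spec (CommRingCat.of R) ⟶ X) (hs : s ≫ p = 𝟙 _) (t : Spec (CommRingCat.of R)) :
    s.base t ∈ p.smoothLocus := by
  classical
  set x := s.base t with hx
  obtain ⟨U, hU, hxU, -⟩ := exists_isAffineOpen_mem_and_subset (X := X) (x := x) (U := ⊤) trivial
  let g := hU.fromSpec
  have hrange : Set.range g.base = (U : Set X) := hU.range_fromSpec
  obtain ⟨z, hz⟩ : x ∈ Set.range g.base := hrange ▸ hxU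
  obtain ⟨φ, hφ⟩ : ∃ φ, Spec.map φ = g ≫ p := ⟨Spec.preimage _, Spec.map_preimage _⟩
  algebraize [φ.hom]
  haveI : Algebra.FiniteType R Γ(X, U) := by
    have : LocallyOfFiniteType (Spec.map φ) := by rw [hφ]; infer_instance
    exact (HasRingHomProperty.Spec_iff (P := @LocallyOfFiniteType)).mp this
  let m := t.asIdeal
  haveI : m.IsPrime := t.2
  haveI : z.asIdeal.IsPrime := z.2
  let l : CommRingCat.of R ⟶ CommRingCat.of (Localization.AtPrime m) :=
    CommRingCat.ofHom (algebraMap R (Localization.AtPrime m))
  have hlt : (Spec.map l).base (IsLocalRing.closedPoint (Localization.AtPrime m)) = t :=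
    PrimeSpectrum.ext (Localization.AtPrime.comap_maximalIdeal)
  let h := Spec.map l ≫ s
  have hhc : h.base (IsLocalRing.closedPoint (Localization.AtPrime m)) = x := by
    show s.base ((Spec.map l).base _) = x
    rw [hlt]
  have hrh : Set.range h.base ⊆ Set.range g.base := by
    rintro _ ⟨w, rfl⟩
    rw [hrange]
    exact ((IsLocalRing.specializes_closedPoint w).map h.continuous).mem_open U.2 (hhc ▸ hxU)
  obtain ⟨ψ, hψ⟩ : ∃ ψ, Spec.map ψ = IsOpenImmersion.lift g h hrh := ⟨Spec.preimage _, Spec.map_preimage _⟩
  have hψg : Spec.map ψ ≫ g = h := by rw [hψ, IsOpenImmersion.lift_fac]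
  have hφψ : φ ≫ ψ = l := by
    apply Spec.map_injective
    rw [Spec.map_comp, hφ, reassoc_of% hψg, Category.assoc, hs, Category.comp_id]
  let σ : Γ(X, U) →ₐ[R] Localization.AtPrime m :=
    { ψ.hom with commutes' := fun r => congr($hφψ r) }
  have hψc : (Spec.map ψ).base (IsLocalRing.closedPoint (Localization.AtPrime m)) = z := by
    apply g.isOpenEmbedding.injective
    rw [hz, ← hhc, ← hψg]
    rfl
  haveI : IsRegularLocalRing (Localization.AtPrime z.asIdeal) := by
    haveI := hreg (g.base z)
    exact IsRegularLocalRing.of_ringEquiv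
      ((asIso (g.stalkMap z)).commRingCatIsoToRingEquiv.trans (AlgebraicGeometry.Spec.stalkIso Γ(X, U) z).commRingCatIsoToRingEquiv)
  have hsm : Algebra.IsSmoothAt R z.asIdeal :=
    isSmoothAt_of_section m σ z.asIdeal (congrArg PrimeSpectrum.asIdeal hψc)
  rw [Scheme.Hom.mem_smoothLocus]
  have h1 := (Groth.Agent.MorLib.SmoothLoc.sm_Spec_iff (R := R) (A := Γ(X, U)) z).mpr hsm
  have h2 : CommRingCat.ofHom (algebraMap R Γ(X, U)) = φ := rfl
  rw [h2, hφ, Groth.Agent.MorLib.SmoothLoc.sm_comp_left, hz] at h1
  exact h1

end Groth.Agent.S11100
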