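import Groth.Statements.S11103
import Groth.Agent.NMP.BaseChange
import Mathlib.RingTheory.Flat.TorsionFree

set_option autoImplicit false
universe u
open CategoryTheory CategoryTheory.Limits AlgebraicGeometry
open Neron

namespace Groth.Agent.S11103

/-- Let R be a Dedekind domain with fraction field K, let R' be a Dedekind domain finite étale over R
(the integral closure of R in a finite unramified extension K' of K), and let N be a Néron model
over Spec R of its generic fibre N_K. Then the base change N' = N ×_R R' is a Néron model over Spec
R' of its generic fibre N'_{K'}: it is smooth, separated and of finite type over Spec R', and every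
K'-morphism from the generic fibre of a smooth R'-scheme to N'_{K'} extends uniquely to an
R'-morphism into N'. (The published statement concerns the Néron model of an elliptic curve with the
mapping property for rational maps; this row allows any N and tests the mapping property on
morphisms from smooth schemes. The property generally fails for ramified extensions.) -/
theorem result (R R' : Type u) [CommRing R] [IsDedekindDomain R]
    [CommRing R'] [IsDedekindDomain R'] [Algebra R R'] [Module.Finite R R'] [Algebra.Etale R R']
    (N : Over (Spec (CommRingCat.of R)))
    (hN : Neron.IsNeronModelOf R N ((Neron.genericFibre R).obj N) (Iso.refl _)) :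
    Neron.IsNeronModelOf R'
      ((Over.pullback (Spec.map (CommRingCat.ofHom (algebraMap R R')))).obj N)
      ((Neron.genericFibre R').obj ((Over.pullback (Spec.map (CommRingCat.ofHom (algebraMap R R')))).obj N))
      (Iso.refl _) := by
  obtain ⟨hsm, hsep, hlft, hqc, hmap⟩ := hN
  haveI := hsm
  haveI := hsep
  haveI := hlft
  haveI := hqc
  have hinj : Function.Injective (algebraMap R R') := by
    haveI : Module.Flat R R' := inferInstance
    haveI : Module.IsTorsionFree R R' := inferInstance
    exact FaithfulSMul.algebraMap_injective R R'
  haveI : FaithfulSMul R R' := (faithfulSMul_iff_algebraMap_injective R R').2 hinj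
  let K := FractionRing R
  let K' := FractionRing R'
  letI : Algebra K K' := FractionRing.liftAlgebra R K'
  haveI : IsScalarTower R K K' := inferInstance
  haveI : IsLocalization (Algebra.algebraMapSubmonoid R' (nonZeroDivisors R)) K' :=
    IsIntegralClosure.isLocalization R K K' R'
  haveI : Algebra.IsPushout R K R' K' :=
    Algebra.isPushout_of_isLocalization (nonZeroDivisors R) K R' K' |>.symm
  have hsq : IsPullback (Spec.map (CommRingCat.ofHom (algebraMap K K'))) (Neron.genPt R')
      (Neron.genPt R) (Spec.map (CommRingCat.ofHom (algebraMap R R'))) :=
    isPullback_SpecMap_of_isPushout _ _ _ _ (CommRingCat.isPushout_of_isPushout R K R' K')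
  let j := Spec.map (CommRingCat.ofHom (algebraMap R R'))
  haveI : Smooth j := by
    haveI : Etale j := (HasRingHomProperty.Spec_iff (P := @Etale)).2 (RingHom.etale_algebraMap.2 ‹_›)
    infer_instance
  refine ⟨inferInstanceAs (Smooth (pullback.snd N.hom j)), inferInstanceAs (IsSeparated (pullback.snd N.hom j)),
    inferInstanceAs (LocallyOfFiniteType (pullback.snd N.hom j)),
    inferInstanceAs (QuasiCompact (pullback.snd N.hom j)), fun Y hY => ?_⟩
  simp only [Iso.refl_hom, Category.comp_id] at hmap ⊢
  haveI := hY
  exact (Groth.Agent.NMP.bijective_pullback_map_iff _ _ _).2
    (Groth.Agent.NMP.bijective_baseChange hsq N Y ((Groth.Agent.NMP.bijective_pullback_map_iff _ _ _).1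
      (hmap (Over.mk (Y.hom ≫ j)) (inferInstanceAs (Smooth (Y.hom ≫ j))))))

end Groth.Agent.S11103
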