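import Groth.Statements.S11104
import Groth.Agent.WeierReg
-- import your own Groth.Agent.* helpers here

set_option autoImplicit false
universe u
open Neron

namespace Groth.Agent.S11104

/-- Let R be a discrete valuation ring with maximal ideal m and y² + a₁xy + a₃y = x³ + a₂x² + a₄x + a₆ a
Weierstrass equation over R with nonzero discriminant (an elliptic curve over the fraction field)
such that a₃, a₄, a₆ ∈ m and a₆ ∉ m². Then the affine scheme over R defined by the equation is
regular: every localization of its coordinate ring at a prime ideal is a regular local ring. (The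
published statement asserts regularity of the projective Weierstrass scheme in P²_R; this row states
it for the affine part.) -/
theorem result (R : Type u) [CommRing R] [IsDomain R]
    [IsDiscreteValuationRing R] (W : WeierstrassCurve.Affine R) (hΔ : W.Δ ≠ 0)
    (h3 : W.a₃ ∈ IsLocalRing.maximalIdeal R) (h4 : W.a₄ ∈ IsLocalRing.maximalIdeal R)
    (h6 : W.a₆ ∈ IsLocalRing.maximalIdeal R) (h6' : W.a₆ ∉ IsLocalRing.maximalIdeal R ^ 2)
    (P : Ideal W.CoordinateRing) [P.IsPrime] :
    IsRegularLocalRing (Localization.AtPrime P) := by
    refine Groth.Agent.WeierReg.regular_of_notMem_sq W P fun x hx hxF => ?_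
    have hF := Groth.Agent.WeierReg.polynomial_mem W P
    obtain ⟨hX, hY⟩ := Groth.Agent.WeierReg.derivs_mem W _ hF hx hxF
    obtain ⟨hm, hX0, hY0⟩ := Groth.Agent.WeierReg.origin_mem W hΔ h3 h4 h6 _ hF hX hY
    exact Groth.Agent.WeierReg.notMem_sq_origin W h6' _ hm hX0 hY0 x hx hxF

end Groth.Agent.S11104
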