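import Groth.Statements.S11106
import Mathlib
import Groth.Agent.DecompHens7.Basic
-- import your own Groth.Agent.* helpers here

set_option autoImplicit false
universe u
open Hensel

namespace Groth.Agent.S11106

/-- Let R be a discrete valuation ring with fraction field K, K^s a separable closure of K, R^s the
integral closure of R in K^s and P^s a maximal ideal of R^s. Let I be the inertia group of P^s — the
automorphisms σ of K^s over K with σ(x) − x ∈ P^s for every x ∈ R^s — and L its fixed field. Then
the integral closure of R in L, localized at the prime Q = P^s ∩ L, is a Henselian local ring (this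
ring is the strict Henselization of R; the statement that its residue field is an algebraic closure
of that of R is not included). -/
theorem result (R K Ks : Type u) [CommRing R] [IsDomain R]
    [IsDiscreteValuationRing R] [Field K] [Algebra R K] [IsFractionRing R K]
    [Field Ks] [Algebra K Ks] [IsSepClosure K Ks] [Algebra R Ks] [IsScalarTower R K Ks]
    (Ps : Ideal (integralClosure R Ks)) [Ps.IsMaximal]
    (L : IntermediateField K Ks)
    (hL : L = IntermediateField.fixedField
      (Subgroup.closure {σ : Ks ≃ₐ[K] Ks | ∀ x : integralClosure R Ks,
        ∃ h : σ (x : Ks) ∈ integralClosure R Ks, (⟨σ (x : Ks), h⟩ : integralClosure R Ks) - x ∈ Ps}))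
    (Q : Ideal (integralClosure R L)) [Q.IsPrime]
    (hQ : ∀ y : integralClosure R L, y ∈ Q ↔
      ∃ x : integralClosure R Ks, x ∈ Ps ∧ (x : Ks) = ((y : L) : Ks)) :
    HenselianLocalRing (Localization.AtPrime Q) := by
  refine DecompHens7.henselianLocalRing_fixedField Ps _ (fun σ hσ x hx => ?_) L hL Q hQ
  obtain ⟨h, hh⟩ := hσ x
  exact ⟨h, (Submodule.sub_mem_iff_left Ps hx).1 hh⟩

end Groth.Agent.S11106
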