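import Groth.Statements.S11107
import Groth.Agent.WeilExt.Dedekind

set_option autoImplicit false
universe u
open CategoryTheory AlgebraicGeometry
open Neron

namespace Groth.Agent.S11107

/-- Let R be a Dedekind domain, X → Spec R a smooth morphism, Y → Spec R a proper morphism, U ⊆ X a
dense open subscheme and f : U → Y a morphism over Spec R (a rational map X ⇢ Y over R). Then f
extends, over Spec R, to an open subscheme V ⊇ U of X such that every point of X outside V has a
local ring of Krull dimension at least 2: the locus where the rational map is undefined has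
codimension at least two. (The published statement assumes the rational map dominant; this row does
not.) -/
theorem result {R : Type u} [CommRing R] [IsDedekindDomain R]
    {X Y : Scheme.{u}} (pX : X ⟶ Spec (CommRingCat.of R)) (pY : Y ⟶ Spec (CommRingCat.of R))
    [Smooth pX] [IsProper pY] (U : X.Opens) (hU : Dense (U : Set X))
    (f : (U : Scheme.{u}) ⟶ Y) (hf : f ≫ pY = U.ι ≫ pX) :
    ∃ (V : X.Opens) (hUV : U ≤ V) (g : (V : Scheme.{u}) ⟶ Y),
      g ≫ pY = V.ι ≫ pX ∧ X.homOfLE hUV ≫ g = f ∧
      ∀ x : X, x ∉ V → (2 : WithBot ℕ∞) ≤ ringKrullDim (X.presheaf.stalk x) := by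
  haveI : IsLocallyNoetherian (Spec (CommRingCat.of R)) := inferInstance
  have hS := Groth.Agent.WeilExt.isRegularLocalRing_stalk_spec (R := R)
  haveI : Smooth (Over.mk pX).hom := ‹Smooth pX›
  haveI : IsProper (Over.mk pY).hom := ‹IsProper pY›
  obtain ⟨V, hUV, g, hg, hgU, hV⟩ :=
    Groth.Agent.WeilExt.exists_extension_codimTwo (X := Over.mk pX) (Y := Over.mk pY) hS U hU f hf
  refine ⟨V, hUV, g, hg, hgU, fun x hx => ?_⟩
  have h : ¬ Order.coheight x ≤ 1 := fun h => hx (hV x h)
  rw [not_le] at h
  have h2 : (2 : ℕ∞) ≤ Order.coheight x := by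
    have := Order.add_one_le_of_lt h
    simpa [one_add_one_eq_two] using this
  rw [ringKrullDim_stalk_eq_coheight]
  exact WithBot.coe_le_coe.2 h2

end Groth.Agent.S11107
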