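import Groth.Statements.S11108
import Groth.Agent.NLft.DensePts

set_option autoImplicit false
universe u
open CategoryTheory AlgebraicGeometry
open Neron

namespace Groth.Agent.S11108

/-- Let R be a strictly Henselian discrete valuation ring — Henselian with algebraically closed residue
field — and p : X → Spec R a smooth morphism. Then the image of the reduction map from R-valued
points of X to the special fibre is dense in the special fibre: every point of X over the closed
point of Spec R lies in the closure of the set of points s(𝔪), s a section of p and 𝔪 the closed
point. -/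
theorem result (R : Type u) [CommRing R] [IsDomain R]
    [IsDiscreteValuationRing R] [HenselianLocalRing R] [IsAlgClosed (IsLocalRing.ResidueField R)]
    {X : Scheme.{u}} (p : X ⟶ Spec (CommRingCat.of R)) [Smooth p]
    (x : X) (hx : p.base x = IsLocalRing.closedPoint R) :
    x ∈ closure {y : X | ∃ s : Spec (CommRingCat.of R) ⟶ X, s ≫ p = 𝟙 _ ∧
      s.base (IsLocalRing.closedPoint R) = y} := by
  rw [mem_closure_iff]
  intro W hW hxW
  obtain ⟨s, hs, hsW⟩ := Groth.Agent.NLft.exists_section_mem R p ⟨W, hW⟩ hxW hx
  exact ⟨_, hsW, s, hs, rfl⟩

end Groth.Agent.S11108
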