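import Groth.Statements.S11111
import Groth.Agent.KExact.RightAdjBdBC
import Groth.Agent.KExact.TorIndepHtor
-- import your own Groth.Agent.* helpers here

set_option autoImplicit false
set_option linter.style.haveILetI false
set_option backward.isDefEq.respectTransparency false
set_option backward.isDefEq.respectTransparency.types false

universe u
open CategoryTheory CategoryTheory.Limits AlgebraicGeometry
attribute [local instance] HasDerivedCategory.standard
open Dual3

namespace Groth.Agent.S11111

open Groth.Agent Groth.Agent.KFlatLib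


/-- Consider a cartesian square of quasi-compact quasi-separated schemes X' = X ×_Y Y' with f : X ⟶ Y, g
: Y' ⟶ Y and projections f' : X' ⟶ Y', g' : X' ⟶ X, and suppose the square is tor-independent in the
sense that for every affine open U of Y, every affine open U' of Y' mapped into U and every affine
open V of X mapped into U, the modules Tor_i over Γ(U, O_Y) of Γ(U', O_Y') and Γ(V, O_X) (computed
with a projective resolution of the second argument) vanish for all i > 0. Let the derived direct
images on D_QCoh of the four maps, the derived pullbacks Lg^*, Lg'^* with adjunctions Lg^* ⊣ Rg_*,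
Lg'^* ⊣ Rg'_*, and right adjoints a of Rf_* and a' of Rf'_* on D_QCoh be given as data. If the
functor a is bounded above, meaning that there is an integer d such that a(K) has vanishing
cohomology sheaves above degree n + d whenever K in D_QCoh(O_Y) has vanishing cohomology sheaves
above degree n, then a' is bounded above in the same sense. (The published statement is made for
every independent square, that is, every commutative square of quasi-compact quasi-separated schemes
for which the base-change map Lg^* Rf_* E ⟶ Rf'_* Lg'^* E is an isomorphism for all E in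
D_QCoh(O_X); this row takes a tor-independent cartesian square, which is such a square.) -/
theorem result (X Y X' Y' : Scheme.{u}) [CompactSpace X] [QuasiSeparatedSpace X] [CompactSpace Y] [QuasiSeparatedSpace Y] [CompactSpace X'] [QuasiSeparatedSpace X'] [CompactSpace Y'] [QuasiSeparatedSpace Y']
    (f : X ⟶ Y) (g : Y' ⟶ Y) (f' : X' ⟶ Y') (g' : X' ⟶ X) (hsq : IsPullback g' f' f g)
    [DCoh.HasRpush f] [DCoh.HasRpush f'] [DCoh.HasRpush g] [DCoh.HasRpush g']
    (htor : ∀ (U : Y.Opens), IsAffineOpen U → ∀ (U' : Y'.Opens), IsAffineOpen U' → ∀ (hU' : U' ≤ g ⁻¹ᵁ U)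
      (V : X.Opens), IsAffineOpen V → ∀ (hV : V ≤ f ⁻¹ᵁ U) (i : ℕ), 0 < i →
      Subsingleton (@DRing.Tor Γ(Y, U) _ i Γ(Y', U') Γ(X, V) _ (g.appLE U U' hU').hom.toModule _ (f.appLE U V hV).hom.toModule))
    (hf : DCoh.RpushPreservesQCoh f) (hf' : DCoh.RpushPreservesQCoh f') (hg : DCoh.RpushPreservesQCoh g)
    (hg' : DCoh.RpushPreservesQCoh g') (a : DCoh.DQCoh Y ⥤ DCoh.DQCoh X) (a' : DCoh.DQCoh Y' ⥤ DCoh.DQCoh X')
    (adj : DCoh.RpushQ f hf ⊣ a) (adj' : DCoh.RpushQ f' hf' ⊣ a') [DCoh.HasLpull g] [DCoh.HasLpull g']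
    (hLg : Dual3.LpullPreservesQCoh g) (hLg' : Dual3.LpullPreservesQCoh g')
    (adjg : Dual3.LpullQ g hLg ⊣ DCoh.RpushQ g hg) (adjg' : Dual3.LpullQ g' hLg' ⊣ DCoh.RpushQ g' hg')
    (hbd : ∃ d : ℤ, ∀ (K : DCoh.DQCoh Y) (n : ℤ), K.obj.IsLE n → (a.obj K).obj.IsLE (n + d)) :
    ∃ d' : ℤ, ∀ (K' : DCoh.DQCoh Y') (n : ℤ), K'.obj.IsLE n → (a'.obj K').obj.IsLE (n + d') := by
  obtain ⟨d, hd⟩ := hbd
  exact KExact.RightAdjBdBC.exists_bound_bc hsq (KExact.TorBCGen.torIndepG_of_appLE htor) hf hf' adj adj' hd
end Groth.Agent.S11111
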