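import Groth.Statements.S11112
import Groth.Agent.KFlatLib.Scheme.RHomBounded
-- import your own Groth.Agent.* helpers here

set_option autoImplicit false
universe u
open CategoryTheory CategoryTheory.Limits AlgebraicGeometry
attribute [local instance] HasDerivedCategory.standard
open Perf

namespace Groth.Agent.S11112

/-- Let X be a quasi-compact quasi-separated scheme, F a cochain complex of O_X-modules whose class in
D(O_X) is n-pseudo-coherent, and G an object of D(O_X) with quasi-coherent cohomology sheaves and
H^m(G) = 0 for all m < r. With the derived tensor product - ⊗^L F and the internal hom RHom(F, -) as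
its right adjoint (under existence binders), the cohomology sheaf H^j(RHom(F, G)) is quasi-coherent
for every j < r - n. In particular RHom(F, G) has quasi-coherent cohomology sheaves when F is
pseudo-coherent. -/
theorem result (X : Scheme.{u}) [CompactSpace X] [QuasiSeparatedSpace X]
    (F : CochainComplex X.Modules ℤ) (n : ℤ) (hF : DCoh.IsPseudoCoherentD n (DCoh.toD X F)) [DCoh.HasLTensorCx F]
    [DCoh.HasRSheafHom F] (G : DCoh.D X) (hG : DCoh.IsQCohD G) (r : ℤ)
    (hGr : ∀ m : ℤ, m < r → IsZero (DCoh.HD G m)) (j : ℤ) (hj : j < r - n) :
    Coh.IsQCoh (DCoh.HD ((DCoh.RSheafHom F).obj G) j) := by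
  haveI : G.IsGE r := (DerivedCategory.isGE_iff G r).2 hGr
  exact KFlatLib.isQCoh_HD_RSheafHom F G hG r j ((KFlatLib.isPseudoCoherentD_iff _ _).2
    (((KFlatLib.isPseudoCoherentD_iff _ _).1 hF).mono (by omega)))

end Groth.Agent.S11112
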