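import Groth.Statements.S11113
import Groth.Agent.KExact.DetectIso
-- import your own Groth.Agent.* helpers here

set_option autoImplicit false
set_option backward.isDefEq.respectTransparency false
set_option backward.isDefEq.respectTransparency.types false
universe u
open CategoryTheory CategoryTheory.Limits AlgebraicGeometry
attribute [local instance] HasDerivedCategory.standard
open Perf

namespace Groth.Agent.S11113

/-- Let f : X ⟶ Y be locally of finite presentation with X and Y quasi-compact quasi-separated, let Rf_*
exist, and suppose that for every cochain complex F of O_X-modules the derived tensor functor - ⊗^L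
F exists and has a right adjoint RHom(F, -) (existence binders). Let φ : A₁ ⟶ A₂ be a morphism in
D(O_X) between objects with quasi-coherent cohomology sheaves vanishing below some degree c. If Rf_*
RHom(F, φ) is an isomorphism for every complex F whose class in D(O_X) is pseudo-coherent, then φ is
an isomorphism. -/
theorem result {X Y : Scheme.{u}} [CompactSpace X] [QuasiSeparatedSpace X] [CompactSpace Y] [QuasiSeparatedSpace Y]
    (f : X ⟶ Y) [LocallyOfFinitePresentation f] [DCoh.HasRpush f]
    [hT : ∀ F : CochainComplex X.Modules ℤ, DCoh.HasLTensorCx F]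
    [hR : ∀ F : CochainComplex X.Modules ℤ, DCoh.HasRSheafHom F]
    {A₁ A₂ : DCoh.D X} (h₁ : DCoh.IsQCohD A₁) (h₂ : DCoh.IsQCohD A₂) (c : ℤ) [A₁.IsGE c] [A₂.IsGE c]
    (φ : A₁ ⟶ A₂)
    (h : ∀ F : CochainComplex X.Modules ℤ, (∀ m : ℤ, DCoh.IsPseudoCoherentD m (DCoh.toD X F)) →
      IsIso ((DCoh.Rpush f).map ((DCoh.RSheafHom F).map φ))) :
    IsIso φ := by
  exact Groth.Agent.KExact.isIso_of_rpush_RSheafHom f h₁ h₂ φ fun E _ _ hE =>
    h E fun m => (Groth.Agent.KFlatLib.isPseudoCoherentD_iff _ _).2
      (Groth.Agent.KFlatLib.LocSP.locPC ((Groth.Agent.KFlatLib.isPerfect_iff _).1 hE) m)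

end Groth.Agent.S11113
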