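import Groth.Statements.S11114
import Groth.Agent.KFlatLib.Scheme.InnerHom
import Groth.Agent.KFlatLib.Scheme.TildeD
import Groth.Agent.KFlatLib.Scheme.AffinePush
import Groth.Agent.KFlatLib.Scheme.RGammaPush
import Groth.Agent.KFlatLib.Scheme.RestrictHom
-- import your own Groth.Agent.* helpers here

set_option autoImplicit false
set_option linter.style.haveILetI false
set_option backward.isDefEq.respectTransparency false
set_option backward.isDefEq.respectTransparency.types false

universe u
open CategoryTheory CategoryTheory.Limits AlgebraicGeometry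
attribute [local instance] HasDerivedCategory.standard
open DCoh

namespace Groth.Agent.S11114

theorem quasiIso_iff_cone {C : Type*} [Category C] [Abelian C] [HasDerivedCategory C] {K L : CochainComplex C ℤ} (g : K ⟶ L) :
    QuasiIso g ↔ ∀ n, (CochainComplex.mappingCone g).ExactAt n := by
  have hT := DerivedCategory.mappingCone_triangle_distinguished g
  rw [← DerivedCategory.isIso_Q_map_iff_quasiIso (C := C) g]
  refine Iff.trans (Pretriangulated.Triangle.isZero₃_iff_isIso₁ _ hT).symm ⟨fun h n => ?_, fun h => ?_⟩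
  · rw [HomologicalComplex.exactAt_iff_isZero_homology]
    exact ((DerivedCategory.homologyFunctor C n).map_isZero h).of_iso
      ((DerivedCategory.homologyFunctorFactors C n).app (CochainComplex.mappingCone g)).symm
  · let M := DerivedCategory.Q.obj (CochainComplex.mappingCone g)
    have hn : ∀ n, IsZero ((DerivedCategory.homologyFunctor C n).obj M) := fun n =>
      ((HomologicalComplex.exactAt_iff_isZero_homology _ n).1 (h n)).of_iso
        ((DerivedCategory.homologyFunctorFactors C n).app (CochainComplex.mappingCone g))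
    haveI : IsIso (0 : M ⟶ M) := (DerivedCategory.isIso_iff _ _).2 fun n =>
      ⟨0, (hn n).eq_of_src _ _, (hn n).eq_of_src _ _⟩
    exact (IsZero.iff_id_eq_zero _).2 ((isIsoZeroEquiv M M).toFun inferInstance).1

theorem secEquiv_zero {X : Scheme.{u}} (V : X.Opens) (M : X.Modules) :
    KFlatLib.secEquiv V M 0 = 0 := by
  have h := KFlatLib.secEquiv_naturality V (0 : KFlatLib.secObj V ⟶ M) (0 : M ⟶ M)
  rw [comp_zero] at h
  exact h.trans (by simp)


/-- Let Y be a quasi-compact quasi-separated scheme and assume the unbounded derived functor of global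
sections RΓ(U, -) exists for every open U of Y (existence binder). A morphism φ : G₁ ⟶ G₂ in D(O_Y)
is an isomorphism if and only if for every affine open U of Y the morphism RΓ(U, φ|_U) of D(Ab),
obtained from φ through restriction to U and derived global sections, is an isomorphism. -/
theorem result {Y : Scheme.{u}} [CompactSpace Y] [QuasiSeparatedSpace Y]
    [hR : ∀ U : Y.Opens, DCoh.HasRΓ (U : Scheme.{u})] {G₁ G₂ : DCoh.D Y} (φ : G₁ ⟶ G₂) :
    IsIso φ ↔ ∀ U : Y.Opens, IsAffineOpen U →
      IsIso ((DCoh.RΓ (U : Scheme.{u})).map ((DCoh.restrictD U.ι).map φ)) := by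
  refine ⟨fun h U _ => inferInstance, fun h => ?_⟩
  obtain ⟨I, hI, -, ⟨eI⟩⟩ := KFlatLib.exists_kInjective_rep G₁
  obtain ⟨J, hJ, -, ⟨eJ⟩⟩ := KFlatLib.exists_kInjective_rep G₂
  haveI := hI
  haveI := hJ
  obtain ⟨g, hg⟩ := KFlatLib.exists_Q_map (eI.inv ≫ φ ≫ eJ.hom)
  suffices hq : QuasiIso g by
    haveI := (DerivedCategory.isIso_Q_map_iff_quasiIso _ g).2 hq
    have : φ = eI.hom ≫ DerivedCategory.Q.map g ≫ eJ.inv := by rw [hg]; simp
    rw [this]
    infer_instance
  refine (quasiIso_iff_cone g).2 (KFlatLib.exactAt_of_sections fun V hV n z hz => ?_)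
  haveI := hR V
  let F := Scheme.Modules.restrictFunctor V.ι ⋙ DCoh.gammaAb (V : Scheme.{u})
  let Fc := F.mapHomologicalComplex (ComplexShape.up ℤ)
  have hFg : QuasiIso (Fc.map g) := by
    let Rc := DCoh.restrictCx V
    haveI := KFlatLib.isKInjective_rCx V.ι I
    haveI := KFlatLib.isKInjective_rCx V.ι J
    let β := (DCoh.gammaKh (V : Scheme.{u})).totalRightDerivedUnit DerivedCategory.Qh
      (HomotopyCategory.quasiIso (V : Scheme.{u}).Modules (ComplexShape.up ℤ))
    let q := HomotopyCategory.quotient (V : Scheme.{u}).Modules (ComplexShape.up ℤ)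
    haveI : IsIso (β.app (q.obj (Rc.obj I))) := KFlatLib.isIso_rightDerivedUnit_of_kInjective (X := (V : Scheme.{u})) _ (Rc.obj I)
    haveI : IsIso (β.app (q.obj (Rc.obj J))) := KFlatLib.isIso_rightDerivedUnit_of_kInjective (X := (V : Scheme.{u})) _ (Rc.obj J)
    haveI h1 : IsIso ((DCoh.RΓ (V : Scheme.{u})).map ((DCoh.restrictD V.ι).map (DerivedCategory.Q.map g))) := by
      haveI := h V hV
      rw [hg, Functor.map_comp, Functor.map_comp, Functor.map_comp, Functor.map_comp]
      infer_instance
    haveI h2 : IsIso ((DCoh.RΓ (V : Scheme.{u})).map (DerivedCategory.Qh.map (q.map (Rc.map g)))) :=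
      (NatIso.isIso_map_iff (Functor.isoWhiskerRight
        ((Scheme.Modules.restrictFunctor V.ι).mapDerivedCategoryFactors) (DCoh.RΓ (V : Scheme.{u}))) g).1 h1
    have w := β.naturality (q.map (Rc.map g))
    haveI h3 : IsIso ((DCoh.gammaKh (V : Scheme.{u})).map (q.map (Rc.map g))) := by
      haveI : IsIso ((DCoh.gammaKh (V : Scheme.{u})).map (q.map (Rc.map g)) ≫ β.app _) :=
        w ▸ IsIso.comp_isIso' inferInstance h2
      exact IsIso.of_isIso_comp_right _ (β.app (q.obj (Rc.obj J)))
    have h4 : IsIso (DerivedCategory.Q.map (((DCoh.gammaAb (V : Scheme.{u})).mapHomologicalComplex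
        (ComplexShape.up ℤ)).map (Rc.map g))) := by
      refine (NatIso.isIso_map_iff (DerivedCategory.quotientCompQhIso AddCommGrpCat.{u}) _).1 ?_
      exact h3
    exact (DerivedCategory.isIso_Q_map_iff_quasiIso _ _).1 h4
  have hC : (Fc.obj (CochainComplex.mappingCone g)).ExactAt n :=
    ((quasiIso_iff_cone (Fc.map g)).1 hFg n).of_iso
      (CochainComplex.mappingCone.mapHomologicalComplexIso g F).symm
  rw [HomologicalComplex.exactAt_iff' _ (n - 1) n (n + 1) (by simp) (by simp),
    ShortComplex.ab_exact_iff] at hC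
  have hz' : ((CochainComplex.mappingCone g).d n (n + 1)).app (V.ι ''ᵁ ⊤) (KFlatLib.secEquiv V _ z) = 0 := by
    rw [← KFlatLib.secEquiv_naturality, hz, secEquiv_zero]
  obtain ⟨x, hx⟩ := hC (KFlatLib.secEquiv V _ z) hz'
  refine ⟨(KFlatLib.secEquiv V _).symm x, (KFlatLib.secEquiv V _).injective ?_⟩
  rw [KFlatLib.secEquiv_naturality, Equiv.apply_symm_apply]
  exact hx
end Groth.Agent.S11114
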