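import Groth.Statements.S11118
import Groth.Agent.KFlatLib.Scheme.Coproducts
-- import your own Groth.Agent.* helpers here

set_option autoImplicit false
universe u
open CategoryTheory CategoryTheory.Limits AlgebraicGeometry
attribute [local instance] HasDerivedCategory.standard
open Perf

namespace Groth.Agent.S11118

/-- Let X be a scheme and D a cochain complex of O_X-modules for which the total left derived functor -
⊗^L D exists. For a family C_i of objects of D(O_X) indexed by a small type, with direct sums ∐ C_i
and ∐ (C_i ⊗^L D) in D(O_X), the canonical map ∐ (C_i ⊗^L D) ⟶ (∐ C_i) ⊗^L D is an isomorphism. (The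
published statement is for ringed spaces; this row is the case of schemes.) -/
theorem result (X : Scheme.{u}) (D : CochainComplex X.Modules ℤ) [DCoh.HasLTensorCx D] {ι : Type u}
    (C : ι → DCoh.D X) [HasCoproduct C] [HasCoproduct (fun i => (DCoh.LTensorCx D).obj (C i))] :
    IsIso (Sigma.desc (fun i => (DCoh.LTensorCx D).map (Sigma.ι C i))) := Groth.Agent.KFlatLib.isIso_sigmaDesc_ltensor D C

end Groth.Agent.S11118
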