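import Groth.Statements.S1112
import Groth.Agent.KFlatLib.Scheme.AffineRpush
-- import your own Groth.Agent.* helpers here

set_option autoImplicit false
universe u
open CategoryTheory CategoryTheory.Limits AlgebraicGeometry
attribute [local instance] HasDerivedCategory.standard
open Perf

namespace Groth.Agent.S1112

/-- For a finite morphism f : X ⟶ Y whose direct image of the structure sheaf is a pseudo-coherent
O_Y-module, and E ∈ D(O_X) with quasi-coherent cohomology (Rf_* assumed to exist), E is
m-pseudo-coherent exactly when Rf_*E is. -/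
theorem result {X Y : Scheme.{u}} (f : X ⟶ Y) [IsFinite f] [DCoh.HasRpush f]
    (hO : ∀ m : ℤ, DCoh.IsPseudoCoherentD m (DCoh.inD Y ((Scheme.Modules.pushforward f).obj (Coh.structureModule X))))
    (E : DCoh.D X) (hE : DCoh.IsQCohD E) (m : ℤ) :
    DCoh.IsPseudoCoherentD m E ↔ DCoh.IsPseudoCoherentD m ((DCoh.Rpush f).obj E) := by
  exact KFlatLib.AffineRpush.pseudoCoherent_iff f hO E hE m

end Groth.Agent.S1112
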