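import Groth.Statements.S11122
import Groth.Agent.KFlatLib.Scheme.CohWindow
import Groth.Agent.KFlatLib.Perfect.Retract
-- import your own Groth.Agent.* helpers here

set_option autoImplicit false
universe u
open CategoryTheory CategoryTheory.Limits AlgebraicGeometry
attribute [local instance] HasDerivedCategory.standard
open Perf

open Groth.Agent.KFlatLib

namespace Groth.Agent.S11122

/-- Let f : X ⟶ Y be a quasi-compact quasi-separated morphism of schemes with Y quasi-compact, and
assume the unbounded derived direct image Rf_* exists. Suppose there is an integer k such that for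
every integer n and every object F of D(O_X) with bounded cohomology that is n-pseudo-coherent, Rf_*
F is (n + k)-pseudo-coherent. Then for every object F of D(O_X) that is n-pseudo-coherent for all n
(no boundedness assumed), Rf_* F is n-pseudo-coherent for all n. (The published statement obtains
the bound for proper pseudo-coherent f from a cited finiteness theorem; this row assumes the bound.) -/
theorem result {X Y : Scheme.{u}} (f : X ⟶ Y) [QuasiCompact f]
    [QuasiSeparated f] [CompactSpace Y] [DCoh.HasRpush f] (k : ℤ)
    (hK : ∀ (F : DCoh.D X) (n a b : ℤ), F.IsGE a → F.IsLE b → DCoh.IsPseudoCoherentD n F →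
      DCoh.IsPseudoCoherentD (n + k) ((DCoh.Rpush f).obj F))
    (F : DCoh.D X) (hF : ∀ m : ℤ, DCoh.IsPseudoCoherentD m F) (m : ℤ) :
    DCoh.IsPseudoCoherentD m ((DCoh.Rpush f).obj F) := by
  haveI : CompactSpace X := QuasiCompact.compactSpace_of_compactSpace f
  have hpc : ∀ m, LocPC m F := fun m => (isPseudoCoherentD_iff _ _).1 (hF m)
  have hq : DCoh.IsQCohD F := fun i => isQCoh_HD_of_pseudoCoherent (hF (i - 1)) i (by omega)
  obtain ⟨b, hb⟩ := exists_bound_of_locPC (hpc 0)
  obtain ⟨N, hN⟩ := Window.exists_rpush_window f
  let n : ℤ := m - k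
  let c : ℤ := min n m - N - 2
  let t : Triangulated.TStructure (DCoh.D X) := DerivedCategory.TStructure.t
  have hT := t.triangleLTGE_distinguished c F
  let F' := (t.truncGE c).obj F
  haveI hge : DerivedCategory.IsGE F' c := t.isGE_truncGE_obj F _ _ le_rfl
  haveI hle : DerivedCategory.IsLE ((t.truncLT c).obj F) (c - 1) := t.isLE_truncLT_obj F _ _ (by omega)
  have hF' : LocPC n F' := (locPC_two_of_three n _ hT).1
    (locPC_of_isZero _ _ fun i hi => DerivedCategory.isZero_of_isLE ((t.truncLT c).obj F) (c - 1) i (by omega)) (hpc n)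
  have hF'le : DerivedCategory.IsLE F' (max b c) := (DerivedCategory.isLE_iff _ _).2 fun i hi => by
    haveI := Window.isIso_hd_map_truncGEπ F c i (by omega)
    exact (hb i (by omega)).of_iso
      (asIso ((DerivedCategory.homologyFunctor X.Modules i).map ((t.truncGEπ c).app F))).symm
  obtain ⟨d, hd⟩ := exists_rpush_triangle f _ hT
  have h₃ := (isPseudoCoherentD_iff _ _).1 (hK F' n c (max b c) hge hF'le ((isPseudoCoherentD_iff _ _).2 hF'))
  rw [show n + k = m by omega] at h₃
  refine (isPseudoCoherentD_iff _ _).2 ((locPC_two_of_three m _ hd).2.1 (locPC_of_isZero _ _ fun i hi =>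
    hN _ (Window.isQCohD_truncLT hq c) i fun j hj _ =>
      DerivedCategory.isZero_of_isLE ((t.truncLT c).obj F) (c - 1) j (by omega)) h₃)

end Groth.Agent.S11122
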