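import Groth.Statements.S11125
import Groth.Agent.TriCat.KInjCriterion

set_option autoImplicit false
universe v u
open CategoryTheory
open CohDer

namespace Groth.Agent.S11125

/-- In an abelian category, a cochain complex I is K-injective with injective terms if and only if for
every short exact sequence 0 → A → B → C → 0 of cochain complexes whose third term C is acyclic,
every chain map A → I extends to a chain map B → I. -/
theorem result {A : Type u} [Category.{v} A] [Abelian A]
    (I : CochainComplex A ℤ) :
    (I.IsKInjective ∧ ∀ n : ℤ, Injective (I.X n)) ↔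
      ∀ (S : ShortComplex (CochainComplex A ℤ)), S.ShortExact → S.X₃.Acyclic →
        ∀ φ : S.X₁ ⟶ I, ∃ ψ : S.X₂ ⟶ I, S.f ≫ ψ = φ := by
  constructor
  · rintro ⟨hK, hI⟩ S hS hac φ
    have := hS.mono_f
    have e : Limits.cokernel S.f ≅ S.X₃ :=
      (Limits.cokernelIsCokernel S.f).coconePointUniqueUpToIso hS.gIsCokernel
    obtain ⟨ψ, hψ⟩ := Groth.Agent.TriCat.exists_extension_of_null (I := I) S.f e
      (fun ξ => CochainComplex.IsKInjective.nonempty_homotopy_zero ξ hac) φ
    exact ⟨ψ, hψ⟩
  · intro H
    refine Groth.Agent.TriCat.isKInjective_and_injective_of_lifting I fun K L α _ hac φ => ?_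
    exact H _ (Groth.Agent.TriCat.shortExact_cokernel α) hac φ

end Groth.Agent.S11125
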