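import Groth.Statements.S11127
import Groth.Agent.H9Misc.FaithfulLeftAdjMain

set_option autoImplicit false
universe w u₁ u₂
open CategoryTheory CategoryTheory.Limits
open CohDer

namespace Groth.Agent.S11127

/-- Let A and B be abelian categories with small hom-sets and all small colimits, B having exact
filtered colimits and a small separating family of noetherian objects. Let F : A ⥤ B be faithful and
exact with a right adjoint G preserving filtered colimits. Then an object a of A is noetherian if
and only if F a is noetherian in B. -/
theorem result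
    {A : Type u₁} [Category.{w} A] [Abelian A] [HasColimitsOfSize.{w, w} A]
    {B : Type u₂} [Category.{w} B] [Abelian B] [HasColimitsOfSize.{w, w} B] [AB5OfSize.{w, w} B]
    {ι : Type w} (s : ι → B) (hsN : ∀ i, IsNoetherianObject (s i))
    (hsep : ∀ ⦃X Y : B⦄ (f g : X ⟶ Y), (∀ (i : ι) (h : s i ⟶ X), h ≫ f = h ≫ g) → f = g)
    (F : A ⥤ B) (G : B ⥤ A) (adj : F ⊣ G) [F.Additive] [F.Faithful]
    [PreservesFiniteLimits F] [PreservesFiniteColimits F] [PreservesFilteredColimitsOfSize.{w, w} G]
    (a : A) : IsNoetherianObject a ↔ IsNoetherianObject (F.obj a) := by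
  exact ⟨fun h => have := h; Groth.Agent.H9Misc.FaithfulLeftAdj.isNoetherianObject_map F G adj s hsep hsN a,
    fun h => have := h; Groth.Agent.H9Misc.FaithfulLeftAdj.isNoetherianObject_of_map F a⟩

end Groth.Agent.S11127
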