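import Groth.Statements.S1113
import Groth.Agent.H9Misc.TFactor

set_option autoImplicit false
universe w v u
open CategoryTheory CategoryTheory.Limits
open CohDer

namespace Groth.Agent.S1113

/-- Let K : ℕᵒᵖ ⥤ CochainComplex A ℤ be a sequence of cochain maps … → K₂ → K₁ → K₀ in an abelian
category with Hⁱ(K₀) = 0 for i < 0 and such that for every j < n the map Hʲ(Kⱼ₊₁) → Hʲ(Kⱼ) is zero.
Then in the derived category the composite Kₙ → K₀ factors through the canonical truncation Kₙ →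
τ_{≥ n}Kₙ. -/
theorem result {A : Type u} [Category.{v} A] [Abelian A] [HasDerivedCategory.{w} A]
    (K : ℕᵒᵖ ⥤ CochainComplex A ℤ) (n : ℕ)
    (h0 : ∀ i : ℤ, i < 0 → IsZero ((K.obj (Opposite.op 0)).homology i))
    (hz : ∀ j : ℕ, j < n → HomologicalComplex.homologyMap (K.map (homOfLE (Nat.le_succ j)).op) (j : ℤ) = 0) :
    ∃ φ : DerivedCategory.Q.obj ((K.obj (Opposite.op n)).truncGE (n : ℤ)) ⟶ DerivedCategory.Q.obj (K.obj (Opposite.op 0)),
      DerivedCategory.Q.map ((K.obj (Opposite.op n)).πTruncGE (n : ℤ)) ≫ φ = DerivedCategory.Q.map (K.map (homOfLE (Nat.zero_le n)).op) := by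
  let t := DerivedCategory.TStructure.t (C := A)
  have hge0 : (DerivedCategory.Q.obj (K.obj (Opposite.op 0))).IsGE 0 :=
    (DerivedCategory.isGE_Q_obj_iff _ _).2
      ((CochainComplex.isGE_iff _ _).2 fun i hi =>
        (HomologicalComplex.exactAt_iff_isZero_homology _ _).2 (h0 i hi))
  have key : ∀ j : ℕ, j ≤ n → ∃ (Z : DerivedCategory A) (_ : Z.IsGE (j : ℤ))
      (π : DerivedCategory.Q.obj (K.obj (Opposite.op j)) ⟶ Z)
      (φ : Z ⟶ DerivedCategory.Q.obj (K.obj (Opposite.op 0))),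
      π ≫ φ = DerivedCategory.Q.map (K.map (homOfLE (Nat.zero_le j)).op) := by
    intro j
    induction j with
    | zero =>
      intro _
      exact ⟨_, hge0, DerivedCategory.Q.map (K.map (homOfLE (Nat.zero_le 0)).op), 𝟙 _,
        Category.comp_id _⟩
    | succ j ih =>
      intro hj
      obtain ⟨Z, hZ, π, φ, hφ⟩ := ih (Nat.le_of_succ_le hj)
      obtain ⟨g, hg⟩ := Groth.Agent.H9Misc.exists_desc_truncGE (j : ℤ)
        (DerivedCategory.Q.map (K.map (homOfLE (Nat.le_succ j)).op) ≫ π) (by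
          have e := DerivedCategory.homologyFunctorFactors_hom_naturality
            (K.map (homOfLE (Nat.le_succ j)).op) (j : ℤ)
          rw [Functor.map_comp,
            (cancel_mono _).1 (e.trans ((congrArg (_ ≫ ·) (hz j hj)).trans (comp_zero.trans zero_comp.symm))),
            zero_comp])
      refine ⟨_, t.isGE_truncGE_obj _ _ _ (by push_cast; lia), (t.truncGEπ ((j : ℤ) + 1)).app _,
        g ≫ φ, ?_⟩
      rw [← Category.assoc, hg, Category.assoc, hφ, ← Functor.map_comp, ← Functor.map_comp]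
      rfl
  obtain ⟨Z, hZ, π, φ, hφ⟩ := key n le_rfl
  obtain ⟨ψ, hψ⟩ := Groth.Agent.H9Misc.exists_desc_πTruncGE (K.obj (Opposite.op n)) (n : ℤ) π
  exact ⟨ψ ≫ φ, by rw [← Category.assoc, hψ, hφ]⟩

end Groth.Agent.S1113
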