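import Groth.Statements.S11130
import Groth.Agent.QCoh.Qcqs
import Groth.Agent.QCoh.Pullback
import Groth.Agent.QCoh.Local
import Groth.Agent.QCoh.Tilde
import Groth.Agent.KFlatLib.Scheme.FlatDescent
import Groth.Agent.S2547

set_option autoImplicit false
set_option backward.isDefEq.respectTransparency false
set_option backward.isDefEq.respectTransparency.types false
universe u
open CategoryTheory AlgebraicGeometry
open Desc

namespace Groth.Agent.S11130


section

open CategoryTheory CategoryTheory.Limits

/-- The unit, with its codomain spelled out. -/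
abbrev unitM {C D : Type*} [Category C] [Category D] {F : C ⥤ D} {G : D ⥤ C} (adj : F ⊣ G) (N : C) :
    N ⟶ G.obj (F.obj N) :=
  adj.unit.app N

/-- For an exact isomorphism-reflecting left adjoint, an object is the kernel of the two unit maps. -/
theorem isIso_lift_fork {C D : Type*} [Category C] [Category D] [Preadditive C] [HasKernels C]
    {F : C ⥤ D} {G : D ⥤ C} (adj : F ⊣ G) [F.ReflectsIsomorphisms] [PreservesFiniteLimits F] (M : C) :
    IsIso (kernel.lift (unitM adj (G.obj (F.obj M)) - G.map (F.map (unitM adj M))) (unitM adj M)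
      (by rw [Preadditive.comp_sub, sub_eq_zero]; exact adj.unit.naturality (adj.unit.app M))) := by
  let d := unitM adj (G.obj (F.obj M)) - G.map (F.map (unitM adj M))
  let a := F.map (kernel.ι d)
  have h0 : kernel.ι d ≫ unitM adj (G.obj (F.obj M)) = kernel.ι d ≫ G.map (F.map (unitM adj M)) := by
    rw [← sub_eq_zero, ← Preadditive.comp_sub]; exact kernel.condition d
  have ha : a ≫ adj.counit.app (F.obj M) ≫ F.map (unitM adj M) = a := by
    have e := congrArg (fun m => F.map m ≫ adj.counit.app (F.obj (G.obj (F.obj M)))) h0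
    simp only [Functor.map_comp, Category.assoc, Adjunction.left_triangle_components, Category.comp_id
      ] at e
    exact (congrArg (a ≫ ·) (adj.counit.naturality (F.map (unitM adj M)))).symm.trans e.symm
  refine @isIso_of_reflects_iso _ _ _ _ _ _ _ F ⟨a ≫ adj.counit.app (F.obj M), ?_, ?_⟩ _
  · rw [← Category.assoc, ← F.map_comp, kernel.lift_ι, Adjunction.left_triangle_components]
  · rw [← cancel_mono a, Category.assoc, Category.assoc, ← F.map_comp, kernel.lift_ι, Category.id_comp, ha]

end

section

open CategoryTheory CategoryTheory.Limits AlgebraicGeometry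

theorem reflectsIso {X Y : Scheme.{u}} (f : X ⟶ Y) [Flat f] [Surjective f] :
    (Scheme.Modules.pullback f).ReflectsIsomorphisms := by
  have := Groth.Agent.S2547.result f
  exact reflectsIsomorphisms_of_reflectsMonomorphisms_of_reflectsEpimorphisms _

theorem isQCoh_of_affineHom {X Y : Scheme.{u}} (f : X ⟶ Y) [Flat f] [Surjective f] [IsAffineHom f]
    (M : Y.Modules) (h : Coh.IsQCoh ((Scheme.Modules.pullback f).obj M)) : Coh.IsQCoh M := by
  let adj := Scheme.Modules.pullbackPushforwardAdjunction f
  have := reflectsIso f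
  have : (Scheme.Modules.pullback f).Additive := (Scheme.Modules.pullbackPushforwardAdjunction f).left_adjoint_additive
  have := KFlatLib.preservesHomology_pullback f
  have : PreservesFiniteLimits (Scheme.Modules.pullback f) :=
    Functor.preservesFiniteLimits_of_preservesHomology _
  let F := Scheme.Modules.pullback f
  let G := Scheme.Modules.pushforward f
  have hi := isIso_lift_fork adj M
  have h1 : Coh.IsQCoh (G.obj (F.obj M)) := QCoh.isQCoh_pushforward f h
  have h2 : Coh.IsQCoh (G.obj (F.obj (G.obj (F.obj M)))) :=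
    QCoh.isQCoh_pushforward f (QCoh.isQCoh_pullback f h1)
  exact (QCoh.isQCoh_iff_iso (@asIso _ _ _ _ _ hi)).2 (QCoh.isQCoh_kernel h1 h2 _)

theorem isQCoh_of_fpqc {X Y : Scheme.{u}} (f : X ⟶ Y) [Flat f] [Surjective f] [QuasiCompact f]
    (M : Y.Modules) (h : Coh.IsQCoh ((Scheme.Modules.pullback f).obj M)) : Coh.IsQCoh M := by
  refine QCoh.isQCoh_iff_affineCover.2 fun i => ?_
  let v := Y.affineCover.f i
  have : CompactSpace ↥(pullback f v) := QuasiCompact.compactSpace_of_compactSpace (pullback.snd f v)
  let 𝒰 := (pullback f v).affineCover.finiteSubcover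
  have : IsAffine (∐ 𝒰.X) := inferInstance
  let p : (∐ 𝒰.X) ⟶ pullback f v := Sigma.desc 𝒰.f
  have : Surjective p := ⟨fun x => ⟨Sigma.ι 𝒰.X (𝒰.idx x) (𝒰.covers x).choose, by
    rw [← Scheme.Hom.comp_apply, Sigma.ι_desc]; exact (𝒰.covers x).choose_spec⟩⟩
  have : Flat p := IsZariskiLocalAtSource.sigmaDesc (P := @Flat) fun _ => inferInstance
  have : Surjective (pullback.snd f v) := MorphismProperty.pullback_snd _ _ inferInstance
  let g := p ≫ pullback.snd f v
  have : IsAffineHom g := isAffineHom_of_isAffine g
  refine isQCoh_of_affineHom g _ ?_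
  let e : (Scheme.Modules.pullback g).obj (M.restrict v) ≅
      (Scheme.Modules.pullback (p ≫ pullback.fst f v)).obj ((Scheme.Modules.pullback f).obj M) :=
    (Scheme.Modules.pullback g).mapIso ((Scheme.Modules.restrictFunctorIsoPullback v).app M) ≪≫
      (Scheme.Modules.pullbackComp g v).app M ≪≫
      (Scheme.Modules.pullbackCongr (by simp [g, pullback.condition])).app M ≪≫
      ((Scheme.Modules.pullbackComp (p ≫ pullback.fst f v) f).app M).symm
  exact (QCoh.isQCoh_iff_iso e).2 (QCoh.isQCoh_pullback _ h)

end

/-- Let f : X → Y be a flat, surjective and quasi-compact morphism of schemes and M any O_Y-module. Then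
M is quasi-coherent if and only if the pullback f^*M is quasi-coherent. -/
theorem result {X Y : Scheme.{u}} (f : X ⟶ Y)
    [Flat f] [Surjective f] [QuasiCompact f] (M : Y.Modules) :
    Coh.IsQCoh M ↔ Coh.IsQCoh ((Scheme.Modules.pullback f).obj M) := by
  exact ⟨fun h => QCoh.isQCoh_pullback f h, isQCoh_of_fpqc f M⟩

end Groth.Agent.S11130
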