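import Groth.Statements.S11133
import Groth.Agent.CohPullX.FlatSections
import Groth.Agent.QCoh.ClosedPush
import Groth.Agent.QCoh.PullbackBC

set_option autoImplicit false
universe u
open CategoryTheory AlgebraicGeometry
open Coherent

namespace Groth.Agent.S11133
namespace Aux
open CategoryTheory CategoryTheory.Limits AlgebraicGeometry Opposite
open Groth.Agent
set_option backward.isDefEq.respectTransparency false
set_option backward.isDefEq.respectTransparency.types false
set_option linter.style.haveILetI false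

theorem isIso_bc {X S X' S' : Scheme.{u}} (f : X ⟶ S) (g : S' ⟶ S)
    (g' : X' ⟶ X) (f' : X' ⟶ S') (h : IsPullback g' f' f g) [QuasiCompact f] [QuasiSeparated f] [Flat g]
    (F : X.Modules) [Coh.IsQCoh F] :
    IsIso ((Scheme.Modules.pullback g).map ((Scheme.Modules.pushforward f).map
        ((Scheme.Modules.pullbackPushforwardAdjunction g').unit.app F)) ≫
      (Scheme.Modules.pullback g).map ((Scheme.Modules.pushforwardComp g' f ≪≫
          Scheme.Modules.pushforwardCongr h.w ≪≫ (Scheme.Modules.pushforwardComp f' g).symm).hom.app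
        ((Scheme.Modules.pullback g').obj F)) ≫
      (Scheme.Modules.pullbackPushforwardAdjunction g).counit.app
        ((Scheme.Modules.pushforward f').obj ((Scheme.Modules.pullback g').obj F))) := by
  haveI : QuasiCompact f' := MorphismProperty.of_isPullback h inferInstance
  haveI : QuasiSeparated f' := MorphismProperty.of_isPullback h inferInstance
  have hF' : Coh.IsQCoh ((Scheme.Modules.pullback g').obj F) := Groth.Agent.QCoh.isQCoh_pullback g' ‹_›
  set α := (Scheme.Modules.pushforward f).map ((Scheme.Modules.pullbackPushforwardAdjunction g').unit.app F) ≫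
      (Scheme.Modules.pushforwardComp g' f).hom.app ((Scheme.Modules.pullback g').obj F) ≫
      (Scheme.Modules.pushforwardCongr h.w).hom.app ((Scheme.Modules.pullback g').obj F) ≫
      (Scheme.Modules.pushforwardComp f' g).inv.app ((Scheme.Modules.pullback g').obj F) with hα
  let β : (Scheme.Modules.pullback g).obj ((Scheme.Modules.pushforward f).obj F) ⟶
      (Scheme.Modules.pushforward f').obj ((Scheme.Modules.pullback g').obj F) :=
    ((Scheme.Modules.pullbackPushforwardAdjunction g).homEquiv _ _).symm α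
  suffices IsIso β by
    have e : β = _ := Adjunction.homEquiv_counit (Scheme.Modules.pullbackPushforwardAdjunction g) _ _ α
    rw [e, hα] at this
    simpa only [Functor.map_comp, Category.assoc, Iso.trans_hom, Iso.symm_hom, NatTrans.comp_app] using this
  have hβ : ∀ (U : S.Opens) (W : S'.Opens) (hle : W ≤ g ⁻¹ᵁ U) (hle' : f' ⁻¹ᵁ W ≤ g' ⁻¹ᵁ (f ⁻¹ᵁ U))
      (m : Γ((Scheme.Modules.pushforward f).obj F, U)),
      β.app W (Groth.Agent.QCoh.pullSec g ((Scheme.Modules.pushforward f).obj F) hle m) =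
        (show Γ((Scheme.Modules.pushforward f').obj ((Scheme.Modules.pullback g').obj F), W) from
          Groth.Agent.QCoh.pullSec g' F hle' (show Γ(F, f ⁻¹ᵁ U) from m)) := by
    intro U W hle hle' m
    have h1 : (Scheme.Modules.pullbackPushforwardAdjunction g).unit.app _ ≫ (Scheme.Modules.pushforward g).map β = α :=
      ((Scheme.Modules.pullbackPushforwardAdjunction g).homEquiv_unit _ _ β).symm.trans (Equiv.apply_symm_apply _ α)
    have h2 : β.app (g ⁻¹ᵁ U) (((Scheme.Modules.pullbackPushforwardAdjunction g).unit.app ((Scheme.Modules.pushforward f).obj F)).app U m) =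
        α.app U m := congrArg (fun t => t.app U m) h1
    refine (Groth.Agent.QCoh.map_app_comm β (homOfLE hle) _).trans ?_
    refine (congrArg _ h2).trans ?_
    let z : Γ((Scheme.Modules.pullback g').obj F, g' ⁻¹ᵁ (f ⁻¹ᵁ U)) :=
      ((Scheme.Modules.pullbackPushforwardAdjunction g').unit.app F).app (f ⁻¹ᵁ U) (show Γ(F, f ⁻¹ᵁ U) from m)
    have e : g' ⁻¹ᵁ (f ⁻¹ᵁ U) = f' ⁻¹ᵁ (g ⁻¹ᵁ U) := by
      rw [← Scheme.Hom.comp_preimage, ← Scheme.Hom.comp_preimage, h.w]
    show ((Scheme.Modules.pullback g').obj F).presheaf.map (homOfLE (f'.preimage_mono hle)).op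
      (((Scheme.Modules.pullback g').obj F).presheaf.map (eqToHom e.symm).op z) =
      ((Scheme.Modules.pullback g').obj F).presheaf.map (homOfLE hle').op z
    exact Groth.Agent.QCoh.map_map (homOfLE (f'.preimage_mono hle)) (eqToHom e.symm) z
  refine Groth.Agent.QCoh.isIso_of_isBasis β
    (B := {W | IsAffineOpen W ∧ ∃ U : S.Opens, IsAffineOpen U ∧ W ≤ g ⁻¹ᵁ U}) ?_ ?_
  · refine TopologicalSpace.Opens.isBasis_iff_nbhd.2 fun {V} x hx => ?_
    obtain ⟨_, ⟨U, hU, rfl⟩, hxU, -⟩ :=
      S.isBasis_affineOpens.exists_subset_of_mem_open (Set.mem_univ (g x)) isOpen_univ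
    obtain ⟨_, ⟨W, hW, rfl⟩, hxW, hWle⟩ := S'.isBasis_affineOpens.exists_subset_of_mem_open
      (show x ∈ V ⊓ g ⁻¹ᵁ U from ⟨hx, hxU⟩) (V ⊓ g ⁻¹ᵁ U).isOpen
    exact ⟨W, ⟨hW, U, hU, fun y hy => (hWle hy).2⟩, hxW, fun y hy => (hWle hy).1⟩
  rintro W ⟨hW, U, hU, hle⟩
  have hle' : f' ⁻¹ᵁ W ≤ g' ⁻¹ᵁ (f ⁻¹ᵁ U) := by
    rw [← Scheme.Hom.comp_preimage, h.w, Scheme.Hom.comp_preimage]
    exact f'.preimage_mono hle
  letI : Algebra Γ(S, U) Γ(S', W) := (g.appLE U W hle).hom.toAlgebra
  letI : Module Γ(S, U) Γ(F, f ⁻¹ᵁ U) := Module.compHom _ (f.app U).hom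
  let P := (Scheme.Modules.pullback g').obj F
  letI : Module Γ(S', W) Γ(P, f' ⁻¹ᵁ W) := Module.compHom _ (f'.app W).hom
  letI : Module Γ(S, U) Γ(P, f' ⁻¹ᵁ W) := Module.compHom _ (algebraMap Γ(S, U) Γ(S', W))
  haveI : IsScalarTower Γ(S, U) Γ(S', W) Γ(P, f' ⁻¹ᵁ W) := .of_algebraMap_smul fun _ _ => rfl
  let G := (Scheme.Modules.pullback g).obj ((Scheme.Modules.pushforward f).obj F)
  letI : Module Γ(S, U) Γ(G, W) := Module.compHom _ (algebraMap Γ(S, U) Γ(S', W))
  haveI : IsScalarTower Γ(S, U) Γ(S', W) Γ(G, W) := .of_algebraMap_smul fun _ _ => rfl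
  let l₁ : Γ((Scheme.Modules.pushforward f).obj F, U) →ₗ[Γ(S, U)] Γ(G, W) :=
    { toFun := Groth.Agent.QCoh.pullSec g _ hle
      map_add' := Groth.Agent.QCoh.pullSec_add g _ hle
      map_smul' := fun r x => Groth.Agent.QCoh.pullSec_smul g _ hle r x }
  let φ : Γ(G, W) →ₗ[Γ(S', W)] Γ(P, f' ⁻¹ᵁ W) :=
    { toFun := β.app W
      map_add' := fun a b => map_add (β.app W).hom a b
      map_smul' := fun r x => Scheme.Modules.Hom.app_smul β r x }
  let l₂ : Γ(F, f ⁻¹ᵁ U) →ₗ[Γ(S, U)] Γ(P, f' ⁻¹ᵁ W) :=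
    { toFun := fun m => φ (l₁ m)
      map_add' := fun a b => by
        show φ (l₁ (show Γ((Scheme.Modules.pushforward f).obj F, U) from a + b)) = φ (l₁ a) + φ (l₁ b)
        rw [← map_add, ← map_add]
      map_smul' := fun r x => (congrArg φ (l₁.map_smul r x)).trans ((φ.restrictScalars Γ(S, U)).map_smul r (l₁ x)) }
  have hb₁ : IsBaseChange Γ(S', W) l₁ := Groth.Agent.QCoh.isBaseChange_pullback hU g hW
    (Groth.Agent.QCoh.isQCoh_pushforward f ‹_›) hle (fun _ => rfl) l₁ fun _ => rfl
  have hb₂ : IsBaseChange Γ(S', W) l₂ :=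
    CohPullX.bijective_sections_flatBC h ‹Coh.IsQCoh F› hU hW hle hle' l₂ fun m => hβ U W hle hle' m
  let ψ : TensorProduct Γ(S, U) Γ(S', W) Γ((Scheme.Modules.pushforward f).obj F, U) ≃ₗ[Γ(S', W)] Γ(P, f' ⁻¹ᵁ W) :=
    hb₂.equiv
  have hψ : φ = (hb₁.equiv.symm.trans ψ).toLinearMap := hb₁.algHom_ext _ _ fun m => by
    show φ (l₁ m) = ψ (hb₁.equiv.symm (l₁ m))
    rw [hb₁.equiv_symm_apply]
    exact ((hb₂.equiv_tmul 1 _).trans (one_smul _ _)).symm
  have : Function.Bijective φ := by rw [hψ]; exact (hb₁.equiv.symm.trans ψ).bijective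
  exact this

end Aux


/-- Let f : X → Y be quasi-compact and quasi-separated, g : Y' → Y flat, and X' the fibre product with
projections g' : X' → X, f' : X' → Y'. For a quasi-coherent O_X-module M the base change morphism
g^* f_* M → f'_* g'^* M, namely the composite g^* f_* M → g^* f_* g'_* g'^* M = g^* g_* f'_* g'^* M
→ f'_* g'^* M of the unit of g', the identification of the two composite direct images, and the
counit of g, is an isomorphism. -/
theorem result {X Y X' Y' : Scheme.{u}} (f : X ⟶ Y) (g : Y' ⟶ Y)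
    (g' : X' ⟶ X) (f' : X' ⟶ Y') (h : IsPullback g' f' f g) [QuasiCompact f] [QuasiSeparated f] [Flat g]
    (M : X.Modules) [Coh.IsQCoh M] :
    IsIso ((Scheme.Modules.pullback g).map ((Scheme.Modules.pushforward f).map
        ((Scheme.Modules.pullbackPushforwardAdjunction g').unit.app M)) ≫
      (Scheme.Modules.pullback g).map ((Scheme.Modules.pushforwardComp g' f ≪≫
          Scheme.Modules.pushforwardCongr h.w ≪≫ (Scheme.Modules.pushforwardComp f' g).symm).hom.app
        ((Scheme.Modules.pullback g').obj M)) ≫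
      (Scheme.Modules.pullbackPushforwardAdjunction g).counit.app
        ((Scheme.Modules.pushforward f').obj ((Scheme.Modules.pullback g').obj M))) := by

    exact Aux.isIso_bc f g g' f' h M

end Groth.Agent.S11133
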