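import Groth.Statements.S11135
import Mathlib
-- import your own Groth.Agent.* helpers here

set_option autoImplicit false
universe u
open InvTh

namespace Groth.Agent.S11135

set_option linter.style.haveILetI false
set_option maxHeartbeats 1600000

/-- Idempotents with the same support in a product of domains. -/
theorem eq_idem {ι : Type u} {D : ι → Type u} [∀ i, CommRing (D i)] [∀ i, IsDomain (D i)] {e : Π i, D i}
    (he : e * e = e) (i : ι) : e i = 0 ∨ e i = 1 := by
  have h := congrFun he i
  rcases mul_eq_zero.mp (show e i * (e i - 1) = 0 by rw [mul_sub, mul_one]; exact sub_eq_zero.mpr h) with h | h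
  · exact Or.inl h
  · exact Or.inr (sub_eq_zero.mp h)

/-- Suppose S is the product of a finite family of integrally closed domains (a finite product of normal
domains), R is any commutative ring, and F is a family of ring maps S → R each carrying
non-zero-divisors of S to non-zero-divisors of R. Then the subring A of S on which all members of F
coincide (a ∈ A iff f(a) = f'(a) for all f, f' in F) is ring-isomorphic to a product of finitely
many integrally closed domains. -/
theorem result {ι : Type u} [Fintype ι] (D : ι → Type u)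
    [∀ i, CommRing (D i)] [∀ i, IsDomain (D i)] [∀ i, IsIntegrallyClosed (D i)]
    (R : Type u) [CommRing R] (F : Set ((Π i, D i) →+* R))
    (hF : ∀ f ∈ F, ∀ s ∈ nonZeroDivisors (Π i, D i), f s ∈ nonZeroDivisors R)
    (A : Subring (Π i, D i)) (hA : ∀ a, a ∈ A ↔ ∀ f ∈ F, ∀ f' ∈ F, f a = f' a) :
    ∃ (κ : Type u) (_ : Fintype κ) (E : κ → Type u) (_ : ∀ j, CommRing (E j)) (_ : ∀ j, IsDomain (E j))
      (_ : ∀ j, IsIntegrallyClosed (E j)), Nonempty (A ≃+* Π j, E j) := by
  classical
  have hnzd : ∀ s : Π i, D i, (∀ i, s i ≠ 0) → s ∈ nonZeroDivisors (Π i, D i) := fun s hs => by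
    rw [mem_nonZeroDivisors_iff_right]
    intro z hz
    funext i
    exact (mul_eq_zero.mp (congrFun hz i)).resolve_right (hs i)
  have hsupp : ∀ a ∈ A, (fun i => if a i = 0 then (0 : D i) else 1) ∈ A := by
    intro a ha
    set e : Π i, D i := fun i => if a i = 0 then (0 : D i) else 1 with he
    have hea : e * a = a := by funext i; by_cases h : a i = 0 <;> simp [he, h]
    have hee : e * e = e := by funext i; by_cases h : a i = 0 <;> simp [he, h]
    have hs : a + (1 - e) ∈ nonZeroDivisors (Π i, D i) := hnzd _ fun i => by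
      by_cases h : a i = 0 <;> simp [he, h]
    rw [hA]
    intro f hf f' hf'
    set y := f a
    have hy : f' a = y := ((hA a).mp ha f hf f' hf').symm
    have h1 : f e * y = y := by rw [← map_mul, hea]
    have h2 : f' e * y = y := by rw [← hy, ← map_mul, hea]
    have hE : f e * f e = f e := by rw [← map_mul, hee]
    have hE' : f' e * f' e = f' e := by rw [← map_mul, hee]
    have n1 : y + (1 - f e) ∈ nonZeroDivisors R := by simpa [map_add, map_sub] using hF f hf _ hs
    have n2 : y + (1 - f' e) ∈ nonZeroDivisors R := by simpa [map_add, map_sub, hy] using hF f' hf' _ hs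
    have e1 : (1 - f e) * f' e = 0 := (mem_nonZeroDivisors_iff_right.mp n2) _ (by
      linear_combination (1 - f e) * h2 - h1 - (1 - f e) * hE')
    have e2 : (1 - f' e) * f e = 0 := (mem_nonZeroDivisors_iff_right.mp n1) _ (by
      linear_combination (1 - f' e) * h1 - h2 - (1 - f' e) * hE)
    linear_combination e2 - e1
  let Idm : Set (Π i, D i) := {e | e ∈ A ∧ e * e = e}
  haveI : Finite Idm := by
    refine Finite.of_injective (fun e : Idm => fun i => decide (e.1 i = 0)) fun e e' h => Subtype.ext (funext fun i => ?_)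
    have h' := congrFun h i
    simp only [decide_eq_decide] at h'
    rcases eq_idem e.2.2 i with h1 | h1 <;> rcases eq_idem e'.2.2 i with h2 | h2
    · rw [h1, h2]
    · exact absurd (h'.mp h1) (by rw [h2]; exact one_ne_zero)
    · exact absurd (h'.mpr h2) (by rw [h1]; exact one_ne_zero)
    · rw [h1, h2]
  haveI : Fintype Idm := Fintype.ofFinite _
  let E : ι → (Π i, D i) := fun i => ∏ e ∈ Finset.univ.filter (fun e : Idm => e.1 i = 1), e.1
  have hEA : ∀ i, E i ∈ A := fun i => prod_mem fun e _ => e.2.1
  have hEE : ∀ i, E i * E i = E i := fun i => by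
    simp only [E]
    rw [← Finset.prod_mul_distrib]
    exact Finset.prod_congr rfl fun e _ => e.2.2
  have hEi : ∀ i, E i i = 1 := fun i => by
    simp only [E]
    rw [Finset.prod_apply]
    exact Finset.prod_eq_one fun e he => (Finset.mem_filter.mp he).2
  have hEle : ∀ i, ∀ e ∈ A, e * e = e → e i = 1 → ∀ j, E i j = 1 → e j = 1 := by
    intro i e he hee hei j hj
    rcases eq_idem hee j with h | h
    · exfalso
      have hj' : (∏ x ∈ Finset.univ.filter (fun x : Idm => x.1 i = 1), x.1) j = 1 := hj
      rw [Finset.prod_apply, Finset.prod_eq_zero (i := (⟨e, he, hee⟩ : Idm)) (by simp [hei]) h] at hj'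
      exact zero_ne_one hj'
    · exact h
  have hEj : ∀ i j, E i j = 1 → E j = E i := by
    intro i j hij
    funext l
    have hji : E j i = 1 := by
      rcases eq_idem (hEE j) i with h | h
      · exfalso
        have h2 := hEle i (1 - E j) (sub_mem (one_mem A) (hEA j))
          (by rw [sub_mul, one_mul, mul_sub, mul_one, hEE, sub_self, sub_zero]) (by simp [h]) j hij
        simp [hEi] at h2
      · exact h
    rcases eq_idem (hEE i) l with h | h <;> rcases eq_idem (hEE j) l with h' | h'
    · rw [h, h']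
    · exact absurd (hEle j (E i) (hEA i) (hEE i) hij l h') (by rw [h]; exact zero_ne_one)
    · exact absurd (hEle i (E j) (hEA j) (hEE j) hji l h) (by rw [h']; exact zero_ne_one)
    · rw [h, h']
  have hEz : ∀ i j, E j ≠ E i → E i j = 0 := fun i j h => (eq_idem (hEE i) j).resolve_right fun h1 => h (hEj i j h1)
  let κ := Set.range E
  let C : κ → Type u := fun c => {i : ι // E i = c.1}
  let ρ : ∀ c : κ, A →+* (Π i : C c, D i.1) := fun c => (RingHom.pi fun i : C c => Pi.evalRingHom D i.1).comp A.subtype
  have hne : ∀ (c : κ) (a : A), ρ c a ≠ 0 → ∀ i : C c, (a : Π i, D i) i.1 ≠ 0 := by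
    intro c a ha i hi
    obtain ⟨j, hj⟩ := Function.ne_iff.mp ha
    change (a : Π i, D i) j.1 ≠ 0 at hj
    have hij : E j.1 i.1 = 1 := (congrFun (j.2.trans i.2.symm) i.1).trans (hEi i.1)
    have := hEle j.1 _ (hsupp _ a.2) (by funext l; by_cases h : (a : Π i, D i) l = 0 <;> simp [h]) (by simp [hj]) i.1 hij
    simp [hi] at this
  haveI hnt : ∀ c : κ, Nonempty (C c) := fun ⟨c, i, hi⟩ => ⟨⟨i, hi⟩⟩
  haveI hdom : ∀ c : κ, IsDomain (ρ c).range := fun c => by
    haveI : Nontrivial (Π i : C c, D i.1) := Pi.nontrivial_at (Classical.arbitrary (C c))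
    haveI : Nontrivial (ρ c).range := ⟨⟨0, 1, fun h => zero_ne_one (congrArg Subtype.val h)⟩⟩
    haveI : NoZeroDivisors (ρ c).range := ⟨fun {x y} hxy => by
      obtain ⟨a, ha⟩ := x.2
      obtain ⟨b, hb⟩ := y.2
      by_contra hcon
      simp only [not_or] at hcon
      have i := Classical.arbitrary (C c)
      have h1 := hne c a (fun h => hcon.1 (Subtype.ext (ha.symm.trans h))) i
      have h2 := hne c b (fun h => hcon.2 (Subtype.ext (hb.symm.trans h))) i
      have h3 : (x.1 * y.1) i = 0 := congrFun (congrArg Subtype.val hxy) i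
      rw [← ha, ← hb] at h3
      exact mul_ne_zero h1 h2 h3⟩
    exact NoZeroDivisors.to_isDomain _
  haveI hic : ∀ c : κ, IsIntegrallyClosed (ρ c).range := fun c => by
    refine (isIntegrallyClosed_iff (FractionRing (ρ c).range)).mpr fun {x} hx => ?_
    obtain ⟨p, q, hq, hpq⟩ := IsFractionRing.div_surjective (A := (ρ c).range) x
    obtain ⟨a, ha⟩ := p.2
    obtain ⟨b, hb⟩ := q.2
    have hb0 : ρ c b ≠ 0 := fun h => nonZeroDivisors.ne_zero hq (Subtype.ext (hb.symm.trans h))
    have hw : ∀ i : C c, ∃ w : D i.1, w * (b : Π i, D i) i.1 = (a : Π i, D i) i.1 := by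
      intro i
      let ev : (ρ c).range →+* D i.1 := (Pi.evalRingHom (fun i : C c => D i.1) i).comp (ρ c).range.subtype
      have hev : Function.Injective ev := (injective_iff_map_eq_zero ev).mpr fun z hz => by
        obtain ⟨z', hz'⟩ := z.2
        by_contra hz0
        refine hne c z' (fun h => hz0 (Subtype.ext (hz'.symm.trans h))) i ?_
        show ρ c z' i = 0
        rw [hz']
        exact hz
      let φ : FractionRing (ρ c).range →+* FractionRing (D i.1) :=
        IsFractionRing.lift (g := (algebraMap (D i.1) (FractionRing (D i.1))).comp ev)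
          ((IsFractionRing.injective _ _).comp hev)
      have hφ : ∀ z, φ (algebraMap _ _ z) = algebraMap _ _ (ev z) := fun z => IsFractionRing.lift_algebraMap _ z
      have hint : IsIntegral (D i.1) (φ x) := by
        obtain ⟨P, hP, hPx⟩ := hx
        refine ⟨P.map ev, hP.map ev, ?_⟩
        rw [Polynomial.eval₂_map, show (algebraMap (D i.1) (FractionRing (D i.1))).comp ev = φ.comp (algebraMap _ _) from
          RingHom.ext fun z => (hφ z).symm, ← Polynomial.hom_eval₂, hPx, map_zero]
      obtain ⟨w, hw⟩ := IsIntegrallyClosed.isIntegral_iff.mp hint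
      refine ⟨w, IsFractionRing.injective (D i.1) (FractionRing (D i.1)) ?_⟩
      rw [map_mul, hw, ← hpq, map_div₀, hφ, hφ]
      have hqi : ev q ≠ 0 := fun h => nonZeroDivisors.ne_zero hq (hev (h.trans (map_zero ev).symm))
      have e1 : ev q = (b : Π i, D i) i.1 := (congrFun hb i).symm
      have e2 : ev p = (a : Π i, D i) i.1 := (congrFun ha i).symm
      rw [← e1, ← e2, div_mul_cancel₀]
      rwa [Ne, map_eq_zero_iff _ (IsFractionRing.injective (D i.1) (FractionRing (D i.1)))]
    choose w hw using hw
    let W : Π i, D i := fun i => if h : E i = c.1 then w ⟨i, h⟩ else 0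
    obtain ⟨i0⟩ := hnt c
    have hc : c.1 = E i0.1 := i0.2.symm
    let s : Π i, D i := (b : Π i, D i) * c.1 + (1 - c.1)
    have hsA : s ∈ A := add_mem (mul_mem b.2 (hc ▸ hEA _)) (sub_mem (one_mem A) (hc ▸ hEA _))
    have hc1 : ∀ i, E i = c.1 → c.1 i = 1 := fun i h => h ▸ hEi i
    have hc0 : ∀ i, E i ≠ c.1 → c.1 i = 0 := fun i h => by rw [hc] at h ⊢; exact hEz _ _ h
    have hsn : s ∈ nonZeroDivisors (Π i, D i) := hnzd _ fun i => by
      by_cases h : E i = c.1
      · simpa [s, hc1 i h] using hne c b hb0 ⟨i, h⟩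
      · simp [s, hc0 i h]
    have hWs : W * s = (a : Π i, D i) * c.1 := by
      funext i
      by_cases h : E i = c.1
      · simpa [W, s, h, hc1 i h] using hw ⟨i, h⟩
      · simp [W, s, h, hc0 i h]
    have hWA : W ∈ A := by
      rw [hA]
      intro f hf f' hf'
      have h1 := (hA s).mp hsA f hf f' hf'
      have h2 := (hA _).mp (mul_mem a.2 (hc ▸ hEA _ : c.1 ∈ A)) f hf f' hf'
      rw [← hWs, map_mul, map_mul, ← h1] at h2
      exact (mul_cancel_right_mem_nonZeroDivisors (hF f hf s hsn)).mp h2
    refine ⟨⟨ρ c ⟨W, hWA⟩, _, rfl⟩, ?_⟩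
    rw [← hpq, eq_div_iff (by rw [Ne, map_eq_zero_iff _ (IsFractionRing.injective _ _)]; exact nonZeroDivisors.ne_zero hq),
      ← map_mul]
    congr 1
    refine Subtype.ext (funext fun i => ?_)
    show W i.1 * q.1 i = p.1 i
    rw [← ha, ← hb]
    show W i.1 * (b : Π i, D i) i.1 = (a : Π i, D i) i.1
    simpa [W, i.2] using hw i
  suffices hb : Function.Bijective (RingHom.pi fun c => (ρ c).rangeRestrict : A →+* Π c, (ρ c).range) by
    exact ⟨κ, Fintype.ofFinite _, fun c => (ρ c).range, fun c => inferInstance, hdom, hic, ⟨RingEquiv.ofBijective _ hb⟩⟩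
  refine ⟨?_, ?_⟩
  · intro a b hab
    refine Subtype.ext (funext fun i => ?_)
    exact congrFun (congrArg Subtype.val (congrFun hab ⟨E i, i, rfl⟩)) ⟨i, rfl⟩
  · intro z
    choose a ha using fun c : κ => (z c).2
    haveI : Fintype κ := Fintype.ofFinite _
    refine ⟨∑ c : κ, a c * ⟨c.1, by obtain ⟨j, hj⟩ := c.2; exact hj ▸ hEA j⟩, funext fun c => Subtype.ext (funext fun i => ?_)⟩
    have hgoal : ((∑ d : κ, a d * ⟨d.1, by obtain ⟨j, hj⟩ := d.2; exact hj ▸ hEA j⟩ : A) : Π i, D i) i.1 =
        (a c : Π i, D i) i.1 := by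
      rw [AddSubmonoidClass.coe_finsetSum, Finset.sum_apply, Finset.sum_eq_single c]
      · show (a c : Π i, D i) i.1 * c.1 i.1 = _
        rw [show c.1 i.1 = 1 from (congrFun i.2.symm i.1).trans (hEi _), mul_one]
      · intro d _ hd
        show (a d : Π i, D i) i.1 * d.1 i.1 = 0
        obtain ⟨j, hj⟩ := d.2
        rw [show d.1 i.1 = 0 by
          rw [← hj]
          exact hEz j i.1 fun h => hd (Subtype.ext (by rw [← hj, ← h, i.2])), mul_zero]
      · exact fun h => absurd (Finset.mem_univ c) h
    exact hgoal.trans (congrFun (ha c) i)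

end Groth.Agent.S11135
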