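import Groth.Statements.S11136
import Mathlib
-- import your own Groth.Agent.* helpers here

set_option autoImplicit false
universe u v
open InvTh

namespace Groth.Agent.S11136

/-- Let a finite group G act on a Noetherian commutative ring R by ring automorphisms, with ring of
invariants A (A → R injective with image the fixed elements). When the prime spectrum of A is
connected, any two connected components of Spec R are exchanged by some element of G: for all points
x, y of Spec R there is g in G whose induced self-map of Spec R carries the connected component of x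
onto the connected component of y. -/
theorem result
    (A : Type u) (R : Type v) [CommRing A] [CommRing R] [Algebra A R] [IsNoetherianRing R]
    (G : Type u) [Group G] [Finite G] [MulSemiringAction G R] [SMulCommClass G A R]
    [Algebra.IsInvariant A R G] [FaithfulSMul A R]
    [ConnectedSpace (PrimeSpectrum A)] (x y : PrimeSpectrum R) :
    ∃ g : G, PrimeSpectrum.comap (MulSemiringAction.toRingHom G R g) '' connectedComponent x =
      connectedComponent y := by
  classical
  haveI : Algebra.IsIntegral A R := Algebra.IsInvariant.isIntegral A R G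
  let φ : G → PrimeSpectrum R → PrimeSpectrum R := fun g => PrimeSpectrum.comap (MulSemiringAction.toRingHom G R g)
  have hcont : ∀ g, Continuous (φ g) := fun g => PrimeSpectrum.continuous_comap _
  have hcomp : ∀ (g h : G) (z), φ g (φ h z) = φ (h * g) z := by
    intro g h z
    apply PrimeSpectrum.ext
    ext r
    simp [φ, mul_smul]
  have hone : ∀ z, φ 1 z = z := fun z => by apply PrimeSpectrum.ext; ext r; simp [φ]
  have himg : ∀ g z, φ g '' connectedComponent z = connectedComponent (φ g z) := by
    intro g z
    refine subset_antisymm ((hcont g).image_connectedComponent_subset z) fun w hw => ?_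
    have h1 := (hcont g⁻¹).image_connectedComponent_subset (φ g z) ⟨w, hw, rfl⟩
    rw [hcomp, mul_inv_cancel, hone] at h1
    exact ⟨φ g⁻¹ w, h1, by rw [hcomp, inv_mul_cancel, hone]⟩
  let U : Set (PrimeSpectrum R) := ⋃ g : G, connectedComponent (φ g x)
  have hUc : IsClosed U := isClosed_iUnion_of_finite fun g => isClosed_connectedComponent
  have hUc' : IsClosed Uᶜ := by
    have hfin : (irreducibleComponents (PrimeSpectrum R)).Finite :=
      TopologicalSpace.NoetherianSpace.finite_irreducibleComponents
    have : Uᶜ = ⋃ Z ∈ {Z ∈ irreducibleComponents (PrimeSpectrum R) | Z ⊆ Uᶜ}, Z := by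
      refine subset_antisymm (fun z hz => ?_) (Set.iUnion₂_subset fun Z hZ => hZ.2)
      refine Set.mem_iUnion₂.2 ⟨irreducibleComponent z, ⟨irreducibleComponent_mem_irreducibleComponents z, ?_⟩,
        mem_irreducibleComponent⟩
      intro w hw hwU
      obtain ⟨g, hg⟩ := Set.mem_iUnion.1 hwU
      apply hz
      refine Set.mem_iUnion.2 ⟨g, ?_⟩
      rw [connectedComponent_eq hg]
      exact isIrreducible_irreducibleComponent.isConnected.isPreconnected.subset_connectedComponent hw mem_irreducibleComponent
    rw [this]
    exact (hfin.subset fun Z hZ => hZ.1).isClosed_biUnion fun Z hZ => isClosed_of_mem_irreducibleComponents Z hZ.1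
  let π := PrimeSpectrum.comap (algebraMap A R)
  have hsurj : Function.Surjective π :=
    Algebra.IsIntegral.comap_surjective (R := A) (S := R)
  have hcl : IsClosedMap π := PrimeSpectrum.isClosedMap_comap_of_isIntegral _
    (algebraMap_isIntegral_iff.2 inferInstance)
  have hfib : ∀ z w, π z = π w → ∃ g, φ g z = w := by
    intro z w h
    obtain ⟨g, hg⟩ := Algebra.IsInvariant.exists_smul_of_under_eq A R G z.asIdeal w.asIdeal
      (congrArg PrimeSpectrum.asIdeal h)
    refine ⟨g⁻¹, PrimeSpectrum.ext ?_⟩
    rw [hg]
    ext r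
    simp [φ, Ideal.mem_pointwise_smul_iff_inv_smul_mem]
  have hstab : ∀ g, ∀ z ∈ U, φ g z ∈ U := by
    intro g z hz
    obtain ⟨h, hh⟩ := Set.mem_iUnion.1 hz
    refine Set.mem_iUnion.2 ⟨h * g, ?_⟩
    rw [← hcomp, ← himg]
    exact ⟨z, hh, rfl⟩
  have hdisj : (π '' U)ᶜ = π '' Uᶜ := by
    refine subset_antisymm (fun a ha => ?_) ?_
    · obtain ⟨z, rfl⟩ := hsurj a
      exact ⟨z, fun hz => ha ⟨z, hz, rfl⟩, rfl⟩
    · rintro _ ⟨z, hz, rfl⟩ ⟨w, hw, hwz⟩
      obtain ⟨g, hg⟩ := hfib w z hwz
      exact hz (hg ▸ hstab g w hw)
  have huniv : π '' U = Set.univ := by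
    refine IsClopen.eq_univ ⟨hcl U hUc, ?_⟩
      ⟨π x, x, Set.mem_iUnion.2 ⟨1, by rw [hone]; exact mem_connectedComponent⟩, rfl⟩
    rw [← isClosed_compl_iff, hdisj]
    exact hcl _ hUc'
  have hy : y ∈ U := by
    obtain ⟨w, hw, hwy⟩ : π y ∈ π '' U := huniv ▸ Set.mem_univ _
    obtain ⟨g, hg⟩ := hfib w y hwy
    exact hg ▸ hstab g w hw
  obtain ⟨g, hg⟩ := Set.mem_iUnion.1 hy
  exact ⟨g, (himg g x).trans (connectedComponent_eq hg)⟩

end Groth.Agent.S11136
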