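import Groth.Statements.S11140
import Groth.Agent.FinQuotLib.Depth
import Groth.Agent.FinQuotLib.Orbit
import Groth.Agent.ComodLib.Invariants
-- import your own Groth.Agent.* helpers here

set_option autoImplicit false
universe u
open TensorProduct
open InvTh

namespace Groth.Agent.S11140

open Groth.Agent.ComodLib

theorem exists_retraction {k : Type u} [Field k] {H : Type u} [CommRing H] [HopfAlgebra k H]
    (hG : HopfRep.IsLinearlyReductive k H) {R : Type u} [CommRing R] [Algebra k R] [HopfRep.Comod k H R]
    [GLin.IsCoactAlg k H R] [Algebra.FiniteType k R] :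
    IsNoetherianRing (GLin.invariants k H R) ∧
      ∃ π : R →ₗ[GLin.invariants k H R] GLin.invariants k H R,
        ∀ a, π (algebraMap (GLin.invariants k H R) R a) = a := by
  haveI : IsNoetherianRing R := Algebra.FiniteType.isNoetherianRing k R
  obtain ⟨α, hα, h1⟩ := exists_integral_of_isLinearlyReductive (k := k) (A := H) hG
  refine ⟨isNoetherianRing_invariants hα h1,
    ⟨{ toFun := fun x => ⟨rey α x, rey_mem_fixedPts hα x⟩,
       map_add' := fun x y => Subtype.ext (map_add _ _ _),
       map_smul' := fun a x => Subtype.ext ?_ }, fun a => Subtype.ext ?_⟩⟩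
  · show rey α ((a : R) * x) = (a : R) * rey α x
    rw [mul_comm, rey_mul_invariant x a.2, mul_comm]
  · exact rey_of_fixed h1 (show (a : R) ∈ HopfRep.fixedPts k H R from a.2)

theorem finite_invariants {k : Type u} [Field k] {H : Type u} [CommRing H] [HopfAlgebra k H] [Module.Finite k H]
    {R : Type u} [CommRing R] [Algebra k R] [HopfRep.Comod k H R]
    [GLin.IsCoactAlg k H R] [Algebra.FiniteType k R] : Module.Finite (GLin.invariants k H R) R := by
  haveI := FinQuotLib.isIntegral_invariants (k := k) (H := H) (R := R)
  haveI : Algebra.FiniteType (GLin.invariants k H R) R := Algebra.FiniteType.of_restrictScalars_finiteType k _ _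
  exact Algebra.IsIntegral.finite

/-- Let k be a field and H a finite-dimensional commutative Hopf algebra over k (the coordinate ring of
a finite k-group scheme G) which is linearly reductive, i.e. every finite-dimensional H-comodule is
semisimple. Let R be a commutative k-algebra of finite type with an H-comodule structure whose
coaction R → R ⊗ H is multiplicative and unital (an action of G on Spec R), and let A be the
k-subalgebra of invariants. If R is a Cohen–Macaulay ring, then so is A, and R is maximal
Cohen–Macaulay as a module over A: for every prime p of A the localized module R_p over A_p is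
Cohen–Macaulay and its support has Krull dimension equal to that of A_p. -/
theorem result (k : Type u) [Field k]
    (H : Type u) [CommRing H] [HopfAlgebra k H] [Module.Finite k H] (hG : HopfRep.IsLinearlyReductive k H)
    (R : Type u) [CommRing R] [Algebra k R] [Algebra.FiniteType k R] [HopfRep.Comod k H R]
    (hmul : ∀ x y : R, HopfRep.Comod.coact (k := k) (A := H) (x * y) =
        HopfRep.Comod.coact (k := k) (A := H) x * HopfRep.Comod.coact (k := k) (A := H) y)
    (hone : HopfRep.Comod.coact (k := k) (A := H) (1 : R) = 1)
    (A : Subalgebra k R)
    (hA : ∀ a : R, a ∈ A ↔ HopfRep.Comod.coact (k := k) (A := H) a = a ⊗ₜ[k] (1 : H))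
    (hR : LocCoh.IsCohenMacaulayRing R) :
    LocCoh.IsCohenMacaulayRing A ∧ ∀ (p : Ideal A) [p.IsPrime],
      LocCoh.IsCohenMacaulayModule (Localization.AtPrime p) (LocalizedModule p.primeCompl R) ∧
        Module.supportDim (Localization.AtPrime p) (LocalizedModule p.primeCompl R) =
          ringKrullDim (Localization.AtPrime p) := by
  haveI : GLin.IsCoactAlg k H R := ⟨hone, hmul⟩
  obtain rfl : A = GLin.invariants k H R := SetLike.ext fun a => (hA a).trans (GLin.mem_invariants_iff k H R a).symm
  obtain ⟨hN, π, hπ⟩ := exists_retraction hG (R := R)
  haveI := hN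
  haveI := finite_invariants (k := k) (H := H) (R := R)
  haveI := FinQuotLib.hasGoingDown_invariants (k := k) (H := H) (R := R)
  exact FinQuotLib.isCM_restrictScalars _ R π hπ hR

end Groth.Agent.S11140
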