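import Groth.Statements.S11141
import Groth.Agent.S11135
import Mathlib
-- import your own Groth.Agent.* helpers here

set_option autoImplicit false
universe u
open TensorProduct
open InvTh

namespace Groth.Agent.S11141

/-- Let k be a field, H a finitely generated commutative Hopf algebra over k (the coordinate ring of a
group scheme affine and of finite type over k), and S a commutative k-algebra which is
ring-isomorphic to a finite product of normal (integrally closed) domains and carries an H-comodule
structure whose coaction S → S ⊗ H is multiplicative and unital. Then the k-subalgebra of invariants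
of S, the elements s whose coaction is s ⊗ 1, is again ring-isomorphic to a finite product of normal
domains. -/
theorem result (k : Type u) [Field k]
    (H : Type u) [CommRing H] [HopfAlgebra k H] [Algebra.FiniteType k H]
    (S : Type u) [CommRing S] [Algebra k S] [HopfRep.Comod k H S]
    (hmul : ∀ x y : S, HopfRep.Comod.coact (k := k) (A := H) (x * y) =
        HopfRep.Comod.coact (k := k) (A := H) x * HopfRep.Comod.coact (k := k) (A := H) y)
    (hone : HopfRep.Comod.coact (k := k) (A := H) (1 : S) = 1)
    {ι : Type u} [Fintype ι] (D : ι → Type u) [∀ i, CommRing (D i)] [∀ i, IsDomain (D i)]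
    [∀ i, IsIntegrallyClosed (D i)] (e : S ≃+* Π i, D i)
    (A : Subalgebra k S)
    (hA : ∀ a : S, a ∈ A ↔ HopfRep.Comod.coact (k := k) (A := H) a = a ⊗ₜ[k] (1 : H)) :
    ∃ (κ : Type u) (_ : Fintype κ) (E : κ → Type u) (_ : ∀ j, CommRing (E j)) (_ : ∀ j, IsDomain (E j))
      (_ : ∀ j, IsIntegrallyClosed (E j)), Nonempty (A ≃+* Π j, E j) := by
  let co : S →+* S ⊗[k] H :=
    { toFun := HopfRep.Comod.coact (k := k) (A := H)
      map_one' := hone
      map_mul' := hmul
      map_zero' := map_zero _
      map_add' := map_add _ }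
  let coA : S →ₐ[k] S ⊗[k] H := AlgHom.ofLinearMap (HopfRep.Comod.coact (k := k) (A := H)) hone hmul
  let Φ : (H →ₐ[k] H) → (S ⊗[k] H →ₐ[k] S ⊗[k] H) := fun α => Algebra.TensorProduct.lift
    ((Algebra.TensorProduct.map (AlgHom.id k S) α).comp coA) Algebra.TensorProduct.includeRight fun _ _ => Commute.all _ _
  have hΦ : ∀ α β : H →ₐ[k] H,
      (LinearMap.mul' k H ∘ₗ TensorProduct.map α.toLinearMap β.toLinearMap ∘ₗ CoalgebraStruct.comul =
        Algebra.linearMap k H ∘ₗ CoalgebraStruct.counit) →
      ∀ r : S, Φ α (Algebra.TensorProduct.map (AlgHom.id k S) β (coA r)) = r ⊗ₜ[k] (1 : H) := by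
    intro α β hab r
    have key : ∀ y : S ⊗[k] H, Φ α (Algebra.TensorProduct.map (AlgHom.id k S) β y) =
        LinearMap.lTensor S (LinearMap.mul' k H ∘ₗ TensorProduct.map α.toLinearMap β.toLinearMap)
          (TensorProduct.assoc k S H H ((HopfRep.Comod.coact (k := k) (A := H)).rTensor H y)) := by
      intro y
      induction y using TensorProduct.induction_on with
      | zero => simp
      | tmul p q =>
        simp only [Φ, Algebra.TensorProduct.map_tmul, AlgHom.id_apply, Algebra.TensorProduct.lift_tmul,
          LinearMap.rTensor_tmul, AlgHom.comp_apply]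
        rw [show coA p = HopfRep.Comod.coact (k := k) (A := H) p from rfl]
        induction HopfRep.Comod.coact (k := k) (A := H) p using TensorProduct.induction_on with
        | zero => simp
        | tmul s t => simp
        | add s t hs ht => simp only [map_add, add_mul, TensorProduct.add_tmul, hs, ht]
      | add p q hp hq => simp only [map_add, hp, hq]
    rw [key, show coA r = HopfRep.Comod.coact (k := k) (A := H) r from rfl]
    have hc := LinearMap.congr_fun (HopfRep.Comod.coassoc (k := k) (A := H) (V := S)) r
    simp only [LinearMap.comp_apply, LinearEquiv.coe_coe] at hc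
    rw [hc, ← LinearMap.lTensor_comp_apply, LinearMap.comp_assoc, hab, LinearMap.lTensor_comp_apply]
    have h2 := LinearMap.congr_fun (HopfRep.Comod.counit_comp (k := k) (A := H) (V := S)) r
    simp only [LinearMap.comp_apply] at h2
    rw [h2]
    simp
  have hinv : ∀ w, Φ (AlgHom.id k H) (Φ (HopfAlgebra.antipodeAlgHom k H) w) = w := by
    refine fun w => AlgHom.congr_fun (show (Φ (AlgHom.id k H)).comp (Φ (HopfAlgebra.antipodeAlgHom k H)) =
      AlgHom.id k _ from Algebra.TensorProduct.ext' fun r h => ?_) w
    have h1 := hΦ (AlgHom.id k H) (HopfAlgebra.antipodeAlgHom k H) HopfAlgebra.mul_antipode_lTensor_comul r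
    simp only [AlgHom.comp_apply, AlgHom.id_apply]
    rw [show Φ (HopfAlgebra.antipodeAlgHom k H) (r ⊗ₜ[k] h) =
      Algebra.TensorProduct.map (AlgHom.id k S) (HopfAlgebra.antipodeAlgHom k H) (coA r) * ((1 : S) ⊗ₜ[k] h) by simp [Φ],
      map_mul, h1]
    simp [Φ]
  have hnzd : ∀ s ∈ nonZeroDivisors S, (s ⊗ₜ[k] (1 : H)) ∈ nonZeroDivisors (S ⊗[k] H) := by
    intro s hs
    rw [mem_nonZeroDivisors_iff_right]
    intro w hw
    have hinj : Function.Injective (LinearMap.mulRight k s) := fun a b h =>
      (mul_cancel_right_mem_nonZeroDivisors hs).mp h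
    have e : w * (s ⊗ₜ[k] (1 : H)) = (LinearMap.mulRight k s).rTensor H w := by
      clear hw
      induction w using TensorProduct.induction_on with
      | zero => simp
      | tmul a b => simp
      | add p q hp hq => simp only [add_mul, map_add, hp, hq]
    rw [e] at hw
    exact (Module.Flat.rTensor_preserves_injective_linearMap (M := H) (LinearMap.mulRight k s) hinj)
      (hw.trans (map_zero _).symm)
  have hco : ∀ s ∈ nonZeroDivisors S, co s ∈ nonZeroDivisors (S ⊗[k] H) := by
    intro s hs
    rw [mem_nonZeroDivisors_iff_right]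
    intro w hw
    have hs' : Φ (HopfAlgebra.antipodeAlgHom k H) (coA s) = s ⊗ₜ[k] (1 : H) := by
      have := hΦ (HopfAlgebra.antipodeAlgHom k H) (AlgHom.id k H) HopfAlgebra.mul_antipode_rTensor_comul s
      simpa using this
    have h := congrArg (Φ (HopfAlgebra.antipodeAlgHom k H)) hw
    rw [map_mul, map_zero, show co s = coA s from rfl, hs'] at h
    rw [← hinv w, (mem_nonZeroDivisors_iff_right.mp (hnzd s hs)) _ h, map_zero]
  have hnz' : ∀ d ∈ nonZeroDivisors (Π i, D i), e.symm d ∈ nonZeroDivisors S := fun d hd => by
    rw [mem_nonZeroDivisors_iff_right] at hd ⊢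
    intro z hz
    have hd0 := hd (e z) (by rw [show d = e (e.symm d) from (e.apply_symm_apply d).symm, ← map_mul, hz, map_zero])
    exact e.injective (hd0.trans (map_zero e).symm)
  let inc : S →+* S ⊗[k] H := Algebra.TensorProduct.includeLeftRingHom
  obtain ⟨κ, i₀, E, i₁, i₂, i₃, ⟨φ⟩⟩ := Groth.Agent.S11135.result D (S ⊗[k] H)
    {co.comp e.symm.toRingHom, inc.comp e.symm.toRingHom}
    (by
      rintro f (rfl | rfl) d hd
      · exact hco _ (hnz' d hd)
      · exact hnzd _ (hnz' d hd))
    (A.toSubring.map e.toRingHom)
    (fun d => by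
      constructor
      · rintro ⟨a, ha, rfl⟩ f hf f' hf'
        have h : co a = inc a := (hA a).mp ha
        rcases hf with rfl | rfl <;> rcases hf' with rfl | rfl <;> simp [h]
      · intro h
        refine ⟨e.symm d, (hA _).mpr ?_, e.apply_symm_apply d⟩
        exact h _ (Or.inl rfl) _ (Or.inr rfl))
  exact ⟨κ, i₀, E, i₁, i₂, i₃, ⟨((A.toSubring.equivMapOfInjective e.toRingHom e.injective).trans φ : A ≃+* _)⟩⟩

end Groth.Agent.S11141
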