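import Groth.Statements.S11145
import Groth.Agent.KExact.CohShriek
-- import your own Groth.Agent.* helpers here

set_option autoImplicit false
set_option linter.style.haveILetI false
set_option backward.isDefEq.respectTransparency false
set_option backward.isDefEq.respectTransparency.types false

universe u
open CategoryTheory CategoryTheory.Limits AlgebraicGeometry
attribute [local instance] HasDerivedCategory.standard
open Dual3

namespace Groth.Agent.S11145

open Groth.Agent.KExact Groth.Agent.KFlatLib
set_option linter.style.haveILetI false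
set_option backward.isDefEq.respectTransparency false


/-- Let S be a Noetherian scheme, X and Y schemes separated and of finite type over S and f : X → Y a
morphism over S; compute f^! through a compactification f = j ∘ p (j : X → X' an open immersion, p :
X' → Y proper, Rp_* on D_QCoh assumed to exist and to preserve quasi-coherence of cohomology, a a
right adjoint of Rp_*, restriction of modules to opens assumed exact), so that f^!K = a(K)|_X. If K
in D_QCoh(O_Y) is bounded below and all its cohomology sheaves are coherent, then f^!K is bounded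
below and all its cohomology sheaves are coherent. -/
theorem result (S X Y : Scheme.{u}) [IsNoetherian S] (p : X ⟶ S) (q : Y ⟶ S)
    [Dual3.IsSepFT p] [Dual3.IsSepFT q] (f : X ⟶ Y) (w : f ≫ q = p) (c : DEt.Compactification f)
    [DCoh.HasRpush c.fbar] (hc : DCoh.RpushPreservesQCoh c.fbar) (a : DCoh.DQCoh Y ⥤ DCoh.DQCoh c.Xbar)
    (adj : DCoh.RpushQ c.fbar hc ⊣ a)
    [∀ (U V : Scheme.{u}) (j : U ⟶ V) [IsOpenImmersion j], PreservesFiniteLimits (Scheme.Modules.restrictFunctor j)]
    (K : DCoh.DQCoh Y) (b : ℤ) (hKb : ∀ i : ℤ, i < b → IsZero (DCoh.HD K.obj i))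
    (hK : ∀ i : ℤ, Coh.IsCoh (DCoh.HD K.obj i)) :
    (∃ b' : ℤ, ∀ i : ℤ, i < b' → IsZero (DCoh.HD ((Dual3.shriekC c a).obj K) i)) ∧
      ∀ i : ℤ, Coh.IsCoh (DCoh.HD ((Dual3.shriekC c a).obj K) i) := by
  haveI : IsNoetherian Y := BCNat.isNoetherian_of_ft q
  haveI : IsNoetherian X := BCNat.isNoetherian_of_ft p
  haveI : IsNoetherian c.Xbar := BCNat.isNoetherian_of_ft c.fbar
  have hb : Dual3.IsBddBelowQ Y K := ⟨b, (DerivedCategory.isGE_iff _ _).2 hKb⟩
  obtain ⟨n, hn⟩ := BCNat.isBddBelowQ_rQ c.j _ (BCNat.isBddBelowQ_a c.fbar adj K hb)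
  haveI : DerivedCategory.IsGE ((rho c.j).obj (a.obj K).obj) n := hn
  exact ⟨⟨n, fun i hi => DerivedCategory.isZero_of_isGE ((rho c.j).obj (a.obj K).obj) n i hi⟩,
    CohShriek.isCohD_shriek c.j c.fbar adj K hb hK⟩
end Groth.Agent.S11145
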