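import Groth.Statements.S11146
import Groth.Agent.GrpSchLib.Syntomic
import Groth.Agent.S1827
import Groth.Agent.S9363
import Groth.Agent.Synt29.FlatLCI
import Groth.Agent.LC.GorRing
import Groth.Agent.H23.TopDim


set_option autoImplicit false
universe u
open CategoryTheory MonoidalCategory CartesianMonoidalCategory MonObj GrpObj AlgebraicGeometry
attribute [local instance] HasDerivedCategory.standard
open GrpSch

set_option linter.style.haveILetI false

namespace Groth.Agent.S11146

/-- Group schemes over Gorenstein rings: let R be a Gorenstein local ring and G a group scheme over Spec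
R which is flat and of finite type over Spec R. Then G is a Gorenstein scheme (locally Noetherian
with all local rings Gorenstein) and has finite Krull dimension. (The published statement concerns
every member of the diagram Spec R ← G ⇇ G ×_R G of the action groupoid, each of which is Spec R or
again a flat finite-type group scheme over Spec R, and adds that O_S[d], for S = Spec R and d the
dimension of R, is then an equivariant dualizing complex; this row states the first assertion for
G.) -/
theorem result (R : Type u) [CommRing R]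
    [LocCoh.IsGorensteinLocalRing R] (G : Over (Spec (CommRingCat.of R))) [GrpObj G] [Flat G.hom]
    [LocallyOfFiniteType G.hom] [QuasiCompact G.hom] :
    Dual3.IsGorenstein G.left ∧ topologicalKrullDim G.left < ⊤ := by
  haveI : LocallyOfFinitePresentation G.hom := inferInstance
  haveI : IsLocallyNoetherian G.left := LocallyOfFiniteType.isLocallyNoetherian G.hom
  have hsyn : Synt.IsSyntomicMor G.hom := GrpSchLib.Syntomic.isSyntomic G
  let V : (Spec (CommRingCat.of R)).affineOpens := ⟨⊤, isAffineOpen_top _⟩
  have hΓ : LocCoh.IsGorensteinRing Γ(Spec (CommRingCat.of R), V.1) :=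
    Groth.Agent.LC.gorensteinRing_of_ringEquiv (Scheme.ΓSpecIso (CommRingCat.of R)).symm.commRingCatIsoToRingEquiv
      (Groth.Agent.LC.gorensteinRing_of_local R)
  have key : ∀ U : G.left.affineOpens, LocCoh.IsGorensteinRing Γ(G.left, U.1) ∧
      topologicalKrullDim ↥(U.1 : Set G.left) < ⊤ := fun U => by
    let φ := (G.hom.appLE V.1 U.1 le_top).hom
    letI := φ.toAlgebra
    have h : Synt.IsSyntomic Γ(Spec (CommRingCat.of R), V.1) Γ(G.left, U.1) := (S9363.result G.hom).1 hsyn U V le_top
    have hl := Synt29.isLCI_of_isSyntomic h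
    refine ⟨S1827.result _ _ hΓ hl, ?_⟩
    obtain ⟨-, n, f, hf, -⟩ := hl
    haveI := hΓ
    haveI : IsNoetherianRing Γ(Spec (CommRingCat.of R), V.1) := inferInstance
    have h1 := ringKrullDim_le_of_surjective f.toRingHom hf
    rw [MvPolynomial.ringKrullDim_of_isNoetherianRing,
      ringKrullDim_eq_of_ringEquiv (Scheme.ΓSpecIso (CommRingCat.of R)).commRingCatIsoToRingEquiv] at h1
    have h2 : topologicalKrullDim ↥(U.1 : Set G.left) = ringKrullDim Γ(G.left, U.1) := by
      rw [← PrimeSpectrum.topologicalKrullDim_eq_ringKrullDim]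
      exact IsHomeomorph.topologicalKrullDim_eq _ (Scheme.homeoOfIso U.2.isoSpec).isHomeomorph
    rw [h2]
    refine lt_of_le_of_lt h1 ?_
    obtain ⟨d, hd⟩ : ∃ d : ℕ, ringKrullDim R = d := by
      obtain ⟨d, hd⟩ := ENat.ne_top_iff_exists.mp
        (Ideal.height_ne_top (I := IsLocalRing.maximalIdeal R) (IsLocalRing.maximalIdeal.isMaximal R).ne_top)
      exact ⟨d, by rw [← IsLocalRing.maximalIdeal_height_eq_ringKrullDim, ← hd]; rfl⟩
    rw [hd, ← Nat.cast_add]
    exact WithBot.coe_lt_coe.mpr (ENat.coe_lt_top _)
  refine ⟨⟨inferInstance, fun x => ?_⟩, ?_⟩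
  · obtain ⟨_, ⟨U, hU, rfl⟩, hxU, -⟩ :=
      G.left.isBasis_affineOpens.exists_subset_of_mem_open (Set.mem_univ x) isOpen_univ
    haveI := (key ⟨U, hU⟩).1
    letI := TopCat.Presheaf.algebra_section_stalk G.left.presheaf (⟨x, hxU⟩ : U)
    haveI := hU.isLocalization_stalk ⟨x, hxU⟩
    haveI := LocCoh.IsGorensteinRing.isGorensteinLocalRing_localization (A := Γ(G.left, U))
      (hU.primeIdealOf ⟨x, hxU⟩).asIdeal
    exact Groth.Agent.LC.gorenstein_of_ringEquiv
      (IsLocalization.algEquiv (hU.primeIdealOf ⟨x, hxU⟩).asIdeal.primeCompl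
        (Localization.AtPrime (hU.primeIdealOf ⟨x, hxU⟩).asIdeal) (G.left.presheaf.stalk x)).toRingEquiv
  · haveI : CompactSpace G.left := QuasiCompact.compactSpace_of_compactSpace G.hom
    obtain ⟨t, ht⟩ := isCompact_univ.elim_finite_subcover (fun U : G.left.affineOpens => (U.1 : Set G.left))
      (fun U => U.1.2) (fun x _ => by
        obtain ⟨_, ⟨U, hU, rfl⟩, hxU, -⟩ :=
          G.left.isBasis_affineOpens.exists_subset_of_mem_open (Set.mem_univ x) isOpen_univ
        exact Set.mem_iUnion.mpr ⟨⟨U, hU⟩, hxU⟩)
    rw [H23.TopDim.dim_eq_iSup_of_open_cover (U := fun i : t => (i.1.1 : TopologicalSpace.Opens G.left)) (by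
      rw [eq_top_iff]
      intro x _
      obtain ⟨U, hUt, hxU⟩ := Set.mem_iUnion₂.mp (ht (Set.mem_univ x))
      exact TopologicalSpace.Opens.mem_iSup.mpr ⟨⟨U, hUt⟩, hxU⟩)]
    exact lt_of_le_of_lt (iSup_le fun i : t => Finset.le_sup (f := fun U : G.left.affineOpens => topologicalKrullDim ↥(U.1 : Set G.left)) i.2)
      ((Finset.sup_lt_iff bot_lt_top).mpr fun U _ => (key U).2)

end Groth.Agent.S11146
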