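import Groth.Statements.S11147
import Groth.Agent.PerfLib.RelFrob
import Groth.Agent.S3176
import Mathlib.RingTheory.Unramified.Field
import Mathlib.RingTheory.Etale.Field
-- import your own Groth.Agent.* helpers here

set_option autoImplicit false
universe u
open FrobAlg

open scoped TensorProduct
namespace Groth.Agent.S11147

/-- Let p be a prime and k ⊆ K fields of characteristic p such that K is finitely generated over k as a
field. Then the relative Frobenius ring homomorphism K ⊗_{k,Frob} k → K, b ⊗ a ↦ b^p a (the
Radu–André homomorphism of k → K), is bijective exactly when K is algebraic over k and every element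
of K is separable over k. -/
theorem result (p : ℕ) [Fact p.Prime] (k K : Type u) [Field k]
    [Field K] [Algebra k K] [CharP k p] [CharP K p] (hfg : (⊤ : IntermediateField k K).FG) :
    Function.Bijective (FrobAlg.relFrob p k K) ↔ Algebra.IsSeparable k K := by
    haveI : Algebra.EssFiniteType k K := by
      haveI := IntermediateField.essFiniteType_iff.2 hfg
      exact (Algebra.EssFiniteType.iff_of_algEquiv (R := k) IntermediateField.topEquiv).1 inferInstance
    refine ⟨fun h => ?_, fun h => ?_⟩
    · haveI := PerfLib.formallyEtale_of_bijective h
      exact Algebra.FormallyUnramified.isSeparable k K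
    · haveI : Algebra.FormallyUnramified k K := Algebra.FormallyUnramified.of_isSeparable k K
      haveI : FiniteDimensional k K := Algebra.FormallyUnramified.finite_of_free k K
      haveI : Algebra.FinitePresentation k K := (Algebra.FinitePresentation.of_finiteType).1 inferInstance
      exact (S3176.result p k K).1 ⟨Algebra.FormallyEtale.of_isSeparable k K, inferInstance⟩

end Groth.Agent.S11147
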