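import Groth.Statements.S11153
import Groth.Agent.H9Misc.BddInjective

set_option autoImplicit false
universe w v u
open CategoryTheory CategoryTheory.Limits
open CohDer

namespace Groth.Agent.S11153

/-- (i) ⇔ (iii): let A be an abelian category with enough injectives and K a bounded below cochain
complex of objects of A. Then K admits a quasi-isomorphism into a bounded complex of injective
objects of A if and only if there is an integer n₀ such that Hom_{D(A)}(Y[0], K[i]) = 0 for every
object Y of A and every i > n₀. -/
theorem result {A : Type u} [Category.{v} A] [Abelian A]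
    [HasDerivedCategory.{w} A] [EnoughInjectives A]
    (K : CochainComplex A ℤ) (a : ℤ) [K.IsStrictlyGE a] :
    (∃ (I : CochainComplex A ℤ) (b c : ℤ) (f : K ⟶ I), I.IsStrictlyGE b ∧ I.IsStrictlyLE c ∧
        (∀ n : ℤ, Injective (I.X n)) ∧ QuasiIso f) ↔
      ∃ n₀ : ℤ, ∀ (Y : A) (i : ℤ), n₀ < i →
        ∀ φ : (DerivedCategory.singleFunctor A 0).obj Y ⟶ (DerivedCategory.Q.obj K)⟦i⟧, φ = 0 := by
  exact Groth.Agent.H9Misc.BddInjective.exists_quasiIso_iff K a

end Groth.Agent.S11153
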