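import Groth.Statements.S11159
import Groth.Agent.H9Misc.BddInjective

set_option autoImplicit false
universe w v u
open CategoryTheory CategoryTheory.Limits CategoryTheory.Pretriangulated
open CohDer

namespace Groth.Agent.S11159

/-- Let A be an abelian category with enough injectives and X ⟶ Y ⟶ Z ⟶ X⟦1⟧ a distinguished triangle in
D(A). If X and Z are each isomorphic in D(A) to a bounded complex of injective objects of A, then so
is Y. -/
theorem result {A : Type u} [Category.{v} A] [Abelian A]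
    [HasDerivedCategory.{w} A] [EnoughInjectives A]
    (T : Triangle (DerivedCategory A)) (hT : T ∈ distTriang (DerivedCategory A))
    (h₁ : (∃ (I : CochainComplex A ℤ) (b c : ℤ), I.IsStrictlyGE b ∧ I.IsStrictlyLE c ∧
        (∀ n : ℤ, Injective (I.X n)) ∧ Nonempty (T.obj₁ ≅ DerivedCategory.Q.obj I)))
    (h₃ : (∃ (I : CochainComplex A ℤ) (b c : ℤ), I.IsStrictlyGE b ∧ I.IsStrictlyLE c ∧
        (∀ n : ℤ, Injective (I.X n)) ∧ Nonempty (T.obj₃ ≅ DerivedCategory.Q.obj I))) :
    (∃ (I : CochainComplex A ℤ) (b c : ℤ), I.IsStrictlyGE b ∧ I.IsStrictlyLE c ∧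
        (∀ n : ℤ, Injective (I.X n)) ∧ Nonempty (T.obj₂ ≅ DerivedCategory.Q.obj I)) := by
  exact Groth.Agent.H9Misc.BddInjective.obj₂ T hT h₁ h₃

end Groth.Agent.S11159
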