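import Groth.Statements.S11163
import Groth.Agent.H9Misc.InjectiveExtTest

set_option autoImplicit false
universe u
open CategoryTheory CategoryTheory.Limits AlgebraicGeometry
attribute [local instance] HasDerivedCategory.standard
open Coherent

namespace Groth.Agent.S11163

/-- (i) ⇔ (iv): let X be a locally Noetherian scheme and F a quasi-coherent O_X-module. Then F is an
injective O_X-module if and only if the sheaf Ext¹_{O_X}(G, F) (the first right derived functor of
the sheaf-Hom functor Hom_{O_X}(G, -), here the right adjoint of G ⊗ -) vanishes for every coherent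
O_X-module G. (The binders asserting that G ⊗ - has a right adjoint, that this adjoint is additive
and that O_X-modules have injective resolutions always hold.) -/
theorem result {X : Scheme.{u}} [IsLocallyNoetherian X]
    [HasInjectiveResolutions X.Modules] (F : X.Modules) (hF : Coh.IsQCoh F) :
    Injective F ↔ ∀ (G : X.Modules) [DCoh.HasSheafHom G] [(DCoh.sheafHom G).Additive],
      Coh.IsCoh G → IsZero (((DCoh.sheafHom G).rightDerived 1).obj F) := by
  haveI := SpObjSS.enoughInjectives_of_hasInjectiveResolutions (C := X.Modules)
  refine ⟨fun h G _ _ _ => ?_, fun h => ?_⟩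
  · haveI := h
    exact (DCoh.sheafHom G).isZero_rightDerived_obj_injective_succ 0 F
  · refine H9Misc.InjectiveQCoh.injective_of_stalks F hF fun x => ?_
    refine H9Misc.InjectiveExtTest.injective_stalk_of_ext F (fun G hG => ?_) x
    haveI : DCoh.HasSheafHom G :=
      ((SheafHomX.adj G).ofNatIsoLeft ((KFlatLib.tensorBiFlipIso X).app G)).isLeftAdjoint
    haveI : (DCoh.sheafHom G).Additive := Functor.additive_of_iso (SheafHomY.sheafHomLeftIso G).symm
    exact (h G hG).of_iso ((SiteBase.rightDerivedCongr (SheafHomY.sheafHomLeftIso G) 1).app F).symm

end Groth.Agent.S11163
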