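import Groth.Statements.S11164
import Groth.Agent.KFlatLib.Scheme.AffineSections
import Groth.Agent.KFlatLib.Scheme.Pullback
import Mathlib.Algebra.Category.ModuleCat.Projective
import Mathlib.RingTheory.Flat.Basic
set_option backward.isDefEq.respectTransparency false
set_option backward.isDefEq.respectTransparency.types false

set_option autoImplicit false
universe u
open CategoryTheory CategoryTheory.Limits AlgebraicGeometry
attribute [local instance] HasDerivedCategory.standard
open Coherent

namespace Groth.Agent.S11164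
open CategoryTheory CategoryTheory.Limits AlgebraicGeometry
open Groth.Agent
namespace Aux

variable {X : Scheme.{u}}

theorem secEquiv_zero (V : X.Opens) (M : X.Modules) : KFlatLib.secEquiv V M 0 = 0 := by
  have h := KFlatLib.secEquiv_naturality V (0 : KFlatLib.secObj V ⟶ M) (0 : M ⟶ M)
  rw [comp_zero] at h
  exact h.trans rfl

theorem projective_stalk (V : X.Opens) (x : X) :
    Projective ((DerSch.stalkFunctor X x).obj (KFlatLib.secObj V)) := by
  refine ⟨fun {E N'} f e _ => ?_⟩
  have he : Function.Surjective e.hom := (ModuleCat.epi_iff_surjective e).1 ‹_›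
  let f' := (KFlatLib.skyAdj x).homEquiv _ _ f
  let t : ∀ _ : PLift (x ∈ V.ι ''ᵁ ⊤), (N' : Type u) :=
    show ∀ _ : PLift (x ∈ V.ι ''ᵁ ⊤), (N' : Type u) from KFlatLib.secEquiv V _ f'
  choose g hg using he
  let s : Γ((KFlatLib.sky x).obj E, V.ι ''ᵁ ⊤) :=
    show ∀ _ : PLift (x ∈ V.ι ''ᵁ ⊤), (E : Type u) from fun h => g (t h)
  refine ⟨((KFlatLib.skyAdj x).homEquiv _ _).symm ((KFlatLib.secEquiv V _).symm s), ?_⟩
  apply ((KFlatLib.skyAdj x).homEquiv _ _).injective
  rw [Adjunction.homEquiv_naturality_right, Equiv.apply_symm_apply]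
  apply (KFlatLib.secEquiv V _).injective
  rw [KFlatLib.secEquiv_naturality, Equiv.apply_symm_apply]
  exact funext fun h => hg (t h)

theorem flat_sigma {ι : Type u} (U : ι → X.Opens) (x : X) :
    FlatMod.IsFlatAt (∐ fun i => CxOX.extZeroUnit (U i).ι) x := by
  haveI : ∀ i, Projective ((DerSch.stalkFunctor X x).obj (CxOX.extZeroUnit (U i).ι)) :=
    fun i => projective_stalk (U i) x
  haveI : PreservesColimitsOfSize.{u, u} (DerSch.stalkFunctor X x) :=
    (KFlatLib.skyAdj x).leftAdjoint_preservesColimits
  haveI : Projective ((DerSch.stalkFunctor X x).obj (∐ fun i => CxOX.extZeroUnit (U i).ι)) :=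
    Projective.of_iso (PreservesCoproduct.iso (DerSch.stalkFunctor X x) _).symm inferInstance
  haveI : Module.Projective (X.presheaf.stalk x) ((DerSch.stalkFunctor X x).obj (∐ fun i => CxOX.extZeroUnit (U i).ι)) :=
    (IsProjective.iff_projective _).2 ‹_›
  exact (Module.Flat.of_projective : Module.Flat (X.presheaf.stalk x) ((DerSch.stalkFunctor X x).obj (∐ fun i => CxOX.extZeroUnit (U i).ι)))

end Aux


/-- Every O_X-module on a scheme X is a quotient of a flat O_X-module; precisely, for every O_X-module F
there are opens U_i of X and an epimorphism ∐ j_{U_i !} O_{U_i} ⟶ F, and such a direct sum of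
extensions by zero of structure sheaves of opens is flat (all its stalks are flat over the local
rings). -/
theorem result {X : Scheme.{u}} (F : X.Modules) :
    ∃ (ι : Type u) (U : ι → X.Opens) (p : (∐ fun i => CxOX.extZeroUnit (U i).ι) ⟶ F),
      Epi p ∧ FlatMod.IsFlat (∐ fun i => CxOX.extZeroUnit (U i).ι) := by

    refine ⟨Σ V : X.Opens, Γ(F, V.ι ''ᵁ ⊤), fun p => p.1,
      Sigma.desc fun p => (KFlatLib.secEquiv p.1 F).symm p.2, ?_, fun x => Aux.flat_sigma _ x⟩
    exact Preadditive.epi_of_cancel_zero _ fun g hg => by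
      refine Scheme.Modules.hom_ext _ _ fun V => ?_
      have h : ∀ t, g.app (V.ι ''ᵁ ⊤) t = 0 := fun t => by
        have h1 := congrArg (fun φ => Sigma.ι (fun p : Σ V : X.Opens, Γ(F, V.ι ''ᵁ ⊤) => CxOX.extZeroUnit p.1.ι) ⟨V, t⟩ ≫ φ) hg
        simp only [colimit.ι_desc_assoc, Cofan.mk_ι_app, comp_zero] at h1
        have h2 := KFlatLib.secEquiv_naturality V ((KFlatLib.secEquiv V F).symm t) g
        rw [h1, Equiv.apply_symm_apply] at h2
        exact h2.symm.trans (Aux.secEquiv_zero V _)
      ext t
      rw [V.ι_image_top] at h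
      exact h t

end Groth.Agent.S11164
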