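import Groth.Statements.S11168
import Groth.Agent.H9Misc.ClassRes

set_option autoImplicit false
universe v u
open CategoryTheory CategoryTheory.Limits
open CohDer

namespace Groth.Agent.S11168

/-- Let A be an abelian category and P a class of objects of A such that (i) every object admits a
monomorphism into an object of P; (ii) in a short exact sequence 0 → X → Y → Z → 0 with X in P, Y
lies in P if and only if Z does; (iii) for some n ≥ 1, whenever X⁰ → X¹ → ⋯ → Xⁿ → 0 is exact (a
cochain complex indexed by ℕ, exact in degrees 1, …, n, zero beyond degree n, with surjective last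
differential) and X⁰, …, Xⁿ⁻¹ lie in P, then Xⁿ lies in P. Then every cochain complex of objects of
A admits a quasi-isomorphism into a cochain complex whose terms all lie in P. -/
theorem result {A : Type u} [Category.{v} A] [Abelian A]
    (P : ObjectProperty A)
    (h1 : ∀ X : A, ∃ (Y : A) (i : X ⟶ Y), P Y ∧ Mono i)
    (h2 : ∀ S : ShortComplex A, S.ShortExact → P S.X₁ → (P S.X₂ ↔ P S.X₃))
    (n : ℕ) (hn : 1 ≤ n)
    (h3 : ∀ K : CochainComplex A ℕ, (∀ i : ℕ, 1 ≤ i → i ≤ n → K.ExactAt i) → (∀ i : ℕ, n < i → IsZero (K.X i)) →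
      Epi (K.d (n - 1) n) → (∀ i : ℕ, i < n → P (K.X i)) → P (K.X n))
    (X : CochainComplex A ℤ) :
    ∃ (I : CochainComplex A ℤ) (f : X ⟶ I), QuasiIso f ∧ ∀ k : ℤ, P (I.X k) := by
  open Groth.Agent.H9Misc.ClassRes in
  obtain ⟨L, f, _, hf, hL⟩ := exists_res P h1 h2 n X
    (fun j => bound_n P n hn h3 (fun e h => mem_iso P h1 h2 e h) (X.X j))
  exact ⟨L, f, hf, hL⟩

end Groth.Agent.S11168
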