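import Groth.Statements.S1117
import Groth.Agent.KFlatLib.Scheme.PerfTensorCoh
import Groth.Agent.KFlatLib.Scheme.DualTensorMod
import Groth.Agent.KFlatLib.Scheme.ProperCompact
-- import your own Groth.Agent.* helpers here

set_option autoImplicit false
universe u
open CategoryTheory CategoryTheory.Limits AlgebraicGeometry Opposite
attribute [local instance] HasDerivedCategory.standard
open Perf

namespace Groth.Agent.S1117

/-- In the case of a single module: let S be Noetherian, f : X ⟶ S locally of finite type, E a cochain
complex of O_X-modules whose image in D(O_X) is perfect, and G a coherent O_X-module flat over S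
with support proper over S. Assuming the derived functors exist, Rf_* RHom(E, G) is a perfect object
of D(O_S). (The source allows a bounded complex of such modules G.) -/
theorem result {X S : Scheme.{u}} [IsNoetherian S] (f : X ⟶ S) [LocallyOfFiniteType f]
    (E : CochainComplex X.Modules ℤ) (hE : DCoh.IsPerfect (DCoh.toD X E)) [DCoh.HasLTensorCx E] [DCoh.HasRSheafHom E] [DCoh.HasRpush f]
    (G : X.Modules) (hG : Coh.IsCoh G) (hflat : FlatMod.IsFlatOver f G) (hsupp : ClSub.IsProperOver f (CohB1.support G)) :
    DCoh.IsPerfect ((DCoh.Rpush f).obj ((DCoh.RSheafHom E).obj (DCoh.inD X G))) := by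
  haveI : IsLocallyNoetherian X := LocallyOfFiniteType.isLocallyNoetherian f
  haveI := KFlatLib.hasLTensorMod G
  obtain ⟨D, hD, ⟨e⟩⟩ := KFlatLib.exists_RSheafHom_inD_iso E hE G
  obtain ⟨hcoh, htor, hs⟩ := KFlatLib.perfTensor_props f ((KFlatLib.isPerfect_iff D).1 hD) G hG hflat
  refine (KFlatLib.isPerfect_iff _).2 ((KFlatLib.locSP_rpush_of_relTor f _ (fun i => ⟨hcoh i, ?_⟩)
    (CohB1.support G) hsupp.1 (KFlatLib.isCompact_of_isProperOver f hsupp) hs htor).of_iso
      ((DCoh.Rpush f).mapIso e.symm))
  exact QCoh.IsProperOver.subset hsupp (QCoh.isClosed_support_of_isFT (hcoh i).1 (hcoh i).2) (hs i)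

end Groth.Agent.S1117
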