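import Groth.Statements.S11170
import Groth.Agent.H9Misc.BoxMid
import Groth.Agent.QcqsColim.Rpush
import Groth.Agent.IndExt.Additive
import Groth.Agent.KFlatLib.Scheme.Exact
import Groth.Agent.H23.PicMul
import Groth.Agent.H28.RKoszul

set_option autoImplicit false
set_option backward.isDefEq.respectTransparency false
set_option backward.isDefEq.respectTransparency.types false
set_option linter.style.haveILetI false
universe u
open CategoryTheory CategoryTheory.Limits AlgebraicGeometry
open Coherent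

namespace Groth.Agent.S11170

/-- Let Y be a locally Noetherian scheme, f : P^n_Y ⟶ Y the projection, G_j quasi-coherent O_Y-modules
and m_j > 0. Then the direct sum L = ∐_j f^*(G_j) ⊗ O(-m_j) has R^i f_*(L) = 0 (higher direct images
of the underlying abelian sheaf) for every i ≠ n. -/
theorem result (Y : Scheme.{u}) [IsLocallyNoetherian Y]
    (n : ℕ) {ι : Type u} (G : ι → Y.Modules) (hG : ∀ j, Coh.IsQCoh (G j)) (m : ι → ℕ) (hm : ∀ j, 0 < m j)
    (i : ℕ) (hi : i ≠ n) :
    IsZero ((Coh.RpushAb (CohB1.ProjSpaceOver.toBase n Y) i).obj (Coh.toAb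
      (∐ fun j => CohB1.tensorMod ((Scheme.Modules.pullback (CohB1.ProjSpaceOver.toBase n Y)).obj (G j))
        (Twist.twistOver n Y (-((m j : ℕ) : ℤ)))))) := by
  let f := CohB1.ProjSpaceOver.toBase n Y
  haveI hp : IsProper (KRR.pr n Y) :=
    MorphismProperty.pullback_snd _ _ (Groth.Agent.PnCoh.Chow.isProper_toSpec n (ULift.{u} ℤ))
  haveI : IsProper f := hp
  let T := fun j => CohB1.tensorMod ((Scheme.Modules.pullback f).obj (G j))
        (Twist.twistOver n Y (-((m j : ℕ) : ℤ)))
  have hT : ∀ j, IsZero ((Groth.Agent.QCoh.toAbFunctor (CohB1.ProjSpaceOver n Y) ⋙ Coh.RpushAb f i).obj (T j)) :=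
    fun j => by
    obtain ⟨c⟩ := Groth.Agent.H23.PicMul.comm (Twist.twistOver n Y (-((m j : ℕ) : ℤ)))
      ((Scheme.Modules.pullback f).obj (G j))
    exact Groth.Agent.H28.RKoszul.rz_of_iso f c i
      (Groth.Agent.H9Misc.BoxMid.rz_neg_twist (n := n) (T := Y) (-((m j : ℕ) : ℤ)) (G j)
        (by have := hm j; omega) (hG j) i hi)
  haveI : (Coh.RpushAb f i).Additive := inferInstance
  haveI : PreservesFilteredColimitsOfSize.{u, u} (Coh.RpushAb f i) :=
    ⟨fun J _ _ => Groth.Agent.QcqsColim.preservesColimitsOfShape_RpushAb f i J⟩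
  haveI : PreservesColimitsOfShape (Discrete ι) (Coh.RpushAb f i) :=
    Groth.Agent.IndExt.preservesCoproducts_of_finite_of_filtered _ ι
  haveI : PreservesColimitsOfShape (Discrete ι) (Groth.Agent.QCoh.toAbFunctor (CohB1.ProjSpaceOver n Y)) :=
    Groth.Agent.KFlatLib.preservesColimitsOfShape_toAb _ _
  have hc := isColimitOfPreserves (Groth.Agent.QCoh.toAbFunctor (CohB1.ProjSpaceOver n Y) ⋙ Coh.RpushAb f i)
    (coproductIsCoproduct T)
  exact (IsZero.iff_id_eq_zero _).2 (hc.hom_ext fun j => (hT j.as).eq_of_src _ _)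

end Groth.Agent.S11170
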