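import Groth.Statements.S11172
import Groth.Agent.KFlatLib.Ring.DualizingBidual
-- import your own Groth.Agent.* helpers here

set_option autoImplicit false
universe u
open CategoryTheory
attribute [local instance] HasDerivedCategory.standard
open Dual

namespace Groth.Agent.S11172

/-- Let A be a Noetherian local ring with maximal ideal m and residue field k, ω a normalized dualizing
complex (maps k → ω[i] in D(A) vanish for i ≠ 0), k → E an injective hull of k, and M a finite
A-module. For every natural number i the local cohomology module H^i_m(M) (the direct limit of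
Ext^i(A/m^n, M)) is A-linearly isomorphic to Hom_A(Hom_{D(A)}(M, ω[−i]), E), the E-dual of the
A-module of maps M → ω[−i] in D(A). Existence of an isomorphism only; A is not assumed complete. -/
theorem result (A : Type u) [CommRing A] [IsLocalRing A] [IsNoetherianRing A] (ω : Dual.D A) (hω : Dual.IsDualizing A ω) (hn : Dual.IsNormalized A ω) (E : Type u) [AddCommGroup E] [Module A E] (f : IsLocalRing.ResidueField A →ₗ[A] E) (hf : InjHull.IsInjectiveHull f) (M : Type u) [AddCommGroup M] [Module A M] [Module.Finite A M] (i : ℕ) : Nonempty (LocCoh.H (IsLocalRing.maximalIdeal A) i M ≃ₗ[A] ((Dual.inD A M ⟶ ω⟦(-(i : ℤ))⟧) →ₗ[A] E)) := by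
  exact KFlatLib.exists_localDuality_dualizing hf hω hn M i

end Groth.Agent.S11172
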