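import Groth.Statements.S11173
import Groth.Agent.KFlatLib.Ring.DualizingDimension
-- import your own Groth.Agent.* helpers here

set_option autoImplicit false
universe u
open CategoryTheory
attribute [local instance] HasDerivedCategory.standard
open Dual

namespace Groth.Agent.S11173

/-- Let A be a Noetherian ring of finite Krull dimension and R an object of D(A) whose cohomology
modules are finite and vanish in all sufficiently negative degrees. If for every prime ideal p of A
the derived base change of R to the local ring A_p (the total left derived functor of extension of
scalars, assumed to exist) is a dualizing complex for A_p, then R is a dualizing complex for A. (The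
published statement is for a Noetherian scheme of finite Krull dimension and a pointwise dualizing
complex; this row is its affine case, with the pointwise hypothesis expressed through the local
rings at all primes.) -/
theorem result (A : Type u) [CommRing A] [IsNoetherianRing A] (hdim : ringKrullDim A < ⊤) (R : Dual.D A) (hfin : ∀ i : ℤ, Module.Finite A (Dual.HD A R i)) (hbdd : ∃ a : ℤ, ∀ i : ℤ, i < a → Subsingleton (Dual.HD A R i)) (h : ∀ p : PrimeSpectrum A, ∃ _ : DRing.HasLBaseChange (algebraMap A (Localization.AtPrime p.asIdeal)), Dual.IsDualizing (Localization.AtPrime p.asIdeal) ((DRing.LBaseChange (algebraMap A (Localization.AtPrime p.asIdeal))).obj R)) : Dual.IsDualizing A R := by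
  obtain ⟨a, ha⟩ := hbdd
  haveI : DerivedCategory.IsGE R a := (DerivedCategory.isGE_iff _ _).2 fun i hi =>
    @ModuleCat.isZero_of_subsingleton _ _ _ (ha i hi)
  have hloc : ∀ p : PrimeSpectrum A, ∀ [DTen.HasLBase (algebraMap A (Localization.AtPrime p.asIdeal))],
      Dual.IsDualizing (Localization.AtPrime p.asIdeal)
        ((DTen.LBase (algebraMap A (Localization.AtPrime p.asIdeal))).obj R) := by
      intro p inst
      obtain ⟨_, hd⟩ := h p
      obtain ⟨e⟩ := Groth.Agent.KFlatLib.nonempty_LBaseChange_iso (algebraMap A (Localization.AtPrime p.asIdeal))
      exact Groth.Agent.KFlatLib.isDualizing_of_iso (e.app R) hd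
  obtain ⟨b, hb⟩ := Groth.Agent.KFlatLib.exists_injAmplitude_of_local hdim a hfin hloc
  exact Groth.Agent.KFlatLib.isDualizing_of_atPrime hb hfin hloc

end Groth.Agent.S11173
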