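import Groth.Statements.S11178
import Groth.Agent.KFlatLib.Ring.FiniteTorDimDuality
import Groth.Agent.KFlatLib.Ring.RHomCxBridge
import Groth.Agent.H9Misc.DRingInjDim
-- import your own Groth.Agent.* helpers here

set_option autoImplicit false
universe u
open CategoryTheory
attribute [local instance] HasDerivedCategory.standard
open Dual

namespace Groth.Agent.S11178

/-- The affine form: let A be a Noetherian ring with a dualizing complex ω, and G a cochain complex of
A-modules whose cohomology modules are finite and vanish outside a bounded range of degrees, with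
RHom_A(G, −) existing as a total right derived functor. Then G has finite Tor-dimension (G is
isomorphic in D(A) to a bounded complex of flat modules) if and only if RHom_A(G, ω) has finite
injective dimension (is isomorphic in D(A) to a bounded complex of injective modules). -/
theorem result (A : Type u) [CommRing A] [IsNoetherianRing A] (ω : Dual.D A) (hω : Dual.IsDualizing A ω) (G : DRing.Cx A) [DRing.HasRHomCx G] (hfin : ∀ i : ℤ, Module.Finite A (Dual.HD A (DRing.toD G) i)) (hbdd : ∃ a b : ℤ, ∀ i : ℤ, (i < a ∨ b < i) → Subsingleton (Dual.HD A (DRing.toD G) i)) : DRing.HasFiniteTorDimCx A (DRing.toD G) ↔ DRing.HasFiniteInjDim A ((DRing.RHomCx G).obj ω) := by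
  haveI := Groth.Agent.KFlatLib.hasLTen A
  haveI := Groth.Agent.KFlatLib.hasRHom (A := A)
  haveI := Groth.Agent.KFlatLib.hasLTen₃ A
  haveI := Groth.Agent.KFlatLib.isSymMonoidal A
  obtain ⟨a, b, hab⟩ := hbdd
  obtain ⟨e⟩ := Groth.Agent.KFlatLib.nonempty_RHomCx_iso G ω
  haveI : DerivedCategory.IsLE (DRing.toD G) b := (DerivedCategory.isLE_iff _ _).2 fun i hi =>
    @ModuleCat.isZero_of_subsingleton _ _ _ (hab i (Or.inr hi))
  haveI : DerivedCategory.IsGE (DRing.toD G) a := (DerivedCategory.isGE_iff _ _).2 fun i hi =>
    @ModuleCat.isZero_of_subsingleton _ _ _ (hab i (Or.inl hi))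
  exact ⟨fun h => Groth.Agent.H9Misc.DRingInjDim.of_iso e.symm
      (Groth.Agent.KFlatLib.hasFiniteInjDim_dual hω b hfin h),
    fun h => Groth.Agent.KFlatLib.hasFiniteTorDimCx_of_dual hω a b hfin
      (Groth.Agent.H9Misc.DRingInjDim.of_iso e h)⟩

end Groth.Agent.S11178
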