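import Groth.Statements.S11180
import Groth.Agent.ComplFam.Basic

set_option autoImplicit false
universe u
open scoped TensorProduct
open CAlg

namespace Groth.Agent.S11180

/-- Let A be a Noetherian ring and M an A-module. If an element m of M is such that 1 ⊗ m = 0 in B ⊗_A M
for every A-algebra B which is a complete Noetherian local ring, flat over A, then m = 0.
(Equivalently the natural map from M to the limit of the modules B ⊗_A M over all such B is
injective.) -/
theorem result (A : Type u) [CommRing A] [IsNoetherianRing A] (M : Type u) [AddCommGroup M] [Module A M] (m : M) (h : ∀ (B : Type u) [CommRing B] [Algebra A B] [IsNoetherianRing B] [IsLocalRing B], IsAdicComplete (IsLocalRing.maximalIdeal B) B → Module.Flat A B → (1 : B) ⊗ₜ[A] m = 0) : m = 0 := by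
  exact Groth.Agent.ComplFam.eq_zero m h


end Groth.Agent.S11180
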