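import Groth.Statements.S11182
import Groth.Agent.KFlatLib.Ring.LocalInvertible
import Groth.Agent.KFlatLib.Ring.LTensorCxBridge
import Groth.Agent.H9Misc.DRingProjAmp
-- import your own Groth.Agent.* helpers here

set_option autoImplicit false
universe u
open CategoryTheory
attribute [local instance] HasDerivedCategory.standard
open Dual

namespace Groth.Agent.S11182

/-- Let A be a Noetherian local ring, L an object of D(A) and E a cochain complex of A-modules, each
with finite cohomology modules which vanish in all sufficiently large degrees (bounded above), and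
assume the total left derived functor − ⊗^L_A E exists on D(A). If L ⊗^L_A E is isomorphic in D(A)
to A placed in degree zero, then there is an integer n with L ≅ A[n] and E ≅ A[−n] in D(A). (The
published statement is for a connected locally Noetherian scheme, concluding that L is a shifted
invertible sheaf; this row is the local case to which its proof reduces.) -/
theorem result (A : Type u) [CommRing A] [IsLocalRing A] [IsNoetherianRing A] (L : Dual.D A) (E : DRing.Cx A) [DRing.HasLTensorCx A E] (hLfin : ∀ i : ℤ, Module.Finite A (Dual.HD A L i)) (hLbdd : ∃ b : ℤ, ∀ i : ℤ, b < i → Subsingleton (Dual.HD A L i)) (hEfin : ∀ i : ℤ, Module.Finite A (Dual.HD A (DRing.toD E) i)) (hEbdd : ∃ b : ℤ, ∀ i : ℤ, b < i → Subsingleton (Dual.HD A (DRing.toD E) i)) (h : Nonempty ((DRing.LTensorCx A E).obj L ≅ Dual.inD A A)) : ∃ n : ℤ, Nonempty (L ≅ (Dual.inD A A)⟦n⟧) ∧ Nonempty (DRing.toD E ≅ (Dual.inD A A)⟦(-n)⟧) := by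
  haveI := Groth.Agent.KFlatLib.hasLTen A
  haveI := Groth.Agent.KFlatLib.hasRHom (A := A)
  obtain ⟨a, ha⟩ := hLbdd
  obtain ⟨b, hb⟩ := hEbdd
  haveI : L.IsLE a := Groth.Agent.H9Misc.DRingProjAmp.isLE_of_hd ha
  haveI : (DRing.toD E).IsLE b := Groth.Agent.H9Misc.DRingProjAmp.isLE_of_hd hb
  obtain ⟨e⟩ := h
  obtain ⟨c⟩ := Groth.Agent.KFlatLib.nonempty_LTensorCx_obj_iso E L
  let u : DTen.unit A ≅ Dual.inD A A :=
    ((DerivedCategory.singleFunctorIsoCompQ (ModuleCat.{u} A) 0).app (ModuleCat.of A A)).symm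
  obtain ⟨n, ⟨eL⟩, ⟨eE⟩⟩ := Groth.Agent.KFlatLib.exists_shift_of_ten_iso_unit (P := L) (Q := DRing.toD E)
    hLfin hEfin a b (c.symm ≪≫ e ≪≫ u.symm)
  exact ⟨n, ⟨eL ≪≫ (shiftFunctor (Dual.D A) n).mapIso u⟩, ⟨eE ≪≫ (shiftFunctor (Dual.D A) (-n)).mapIso u⟩⟩

end Groth.Agent.S11182
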