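import Groth.Statements.S11186
import Groth.Agent.KExact.DualizingShiftFibre
import Groth.Agent.KFlatLib.Ring.DualizingFibreRows
-- import your own Groth.Agent.* helpers here

set_option autoImplicit false
set_option linter.style.haveILetI false
set_option backward.isDefEq.respectTransparency false
set_option backward.isDefEq.respectTransparency.types false

universe u
open CategoryTheory
attribute [local instance] HasDerivedCategory.standard
open Dual

namespace Groth.Agent.S11186

set_option backward.isDefEq.respectTransparency false
attribute [local instance] HasDerivedCategory.standard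
open Groth.Agent.KExact Groth.Agent.KFlatLib Groth.Agent AlgebraicGeometry


/-- Let A be a Noetherian ring, A → B a smooth ring map of relative dimension n, ω a dualizing complex
for A, and q a prime of B lying over the prime p of A, with residue field extension κ(p) ⊆ κ(q) of
transcendence degree t. Assume the derived base change functors from D(A) to D(A_p) and to D(B_q)
exist. If the module of maps κ(p) → ω_p[d] in D(A_p) is nonzero (so d is the unique such degree, the
codimension value of ω at p), then the module of maps κ(q) → (ω ⊗^L_A B_q)[d − t + n] in D(B_q) is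
nonzero: the codimension function of ω ⊗^L_A B at q equals that of ω at p minus the transcendence
degree plus the relative dimension. (The published formula is stated for the base change twisted by
the top relative differentials and shifted by n, where it reads codimension at q = codimension at p
+ transcendence degree; with the convention that the codimension function rises by one under
immediate specialization, the generic point of the affine line over a field shows that the
transcendence degree must enter with a minus sign, as here.) -/
theorem result (A B : Type u) [CommRing A] [CommRing B] [Algebra A B] [IsNoetherianRing A] (n : ℕ) (hs : FlatCA.SmoothRelDim n A B) (ω : Dual.D A) (hω : Dual.IsDualizing A ω) (p : Ideal A) [p.IsPrime] (q : Ideal B) [q.IsPrime] [hq : q.LiesOver p] [DRing.HasLBaseChange (algebraMap A (Localization.AtPrime p))] [DRing.HasLBaseChange (algebraMap A (Localization.AtPrime q))] (d : ℤ) (hd : Nontrivial (Dual.inD (Localization.AtPrime p) p.ResidueField ⟶ ((DRing.LBaseChange (algebraMap A (Localization.AtPrime p))).obj ω)⟦d⟧)) (t : ℕ) (ht : @Algebra.trdeg p.ResidueField q.ResidueField _ _ (Ideal.ResidueField.mapₐ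 p q (Algebra.ofId A B) hq.over).toRingHom.toAlgebra = (t : Cardinal.{u})) : Nontrivial (Dual.inD (Localization.AtPrime q) q.ResidueField ⟶ ((DRing.LBaseChange (algebraMap A (Localization.AtPrime q))).obj ω)⟦(d - (t : ℤ) + (n : ℤ))⟧) := by
  haveI : SmoothOfRelativeDimension n (Spec.map (CommRingCat.ofHom (algebraMap A B))) := hs
  have hsm : Smooth (Spec.map (CommRingCat.ofHom (algebraMap A B))) :=
    SmoothOfRelativeDimension.smooth n _
  haveI : Algebra.Smooth A B :=
    RingHom.smooth_algebraMap.mp ((HasRingHomProperty.Spec_iff (P := @Smooth)).mp hsm)
  haveI : IsNoetherianRing B := Algebra.FiniteType.isNoetherianRing A B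
  have hp : p = q.comap (algebraMap A B) := hq.over
  subst hp
  let A' := Localization.AtPrime (q.comap (algebraMap A B))
  let B' := Localization.AtPrime q
  let ψ : A' →+* B' := Localization.localRingHom _ q (algebraMap A B) rfl
  letI : Algebra A' B' := ψ.toAlgebra
  have hcomp : (algebraMap A' B').comp (algebraMap A A') = algebraMap A B' := by
    refine RingHom.ext fun x => ?_
    change Localization.localRingHom _ q (algebraMap A B) rfl (algebraMap A A' x) = _
    rw [Localization.localRingHom_to_map]
    exact (IsScalarTower.algebraMap_apply A B B' x).symm
  haveI : IsScalarTower A A' B' := IsScalarTower.of_algebraMap_eq fun x => (RingHom.congr_fun hcomp x).symm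
  haveI : Module.Flat A B := inferInstance
  haveI : Module.Flat B B' := IsLocalization.flat _ q.primeCompl
  haveI : Module.Flat A B' := Module.Flat.trans A B B'
  haveI : Module.Flat A' B' :=
    (Module.flat_iff_of_isLocalization A' (q.comap (algebraMap A B)).primeCompl B').2 inferInstance
  haveI : Module.Flat A A' := IsLocalization.flat _ (q.comap (algebraMap A B)).primeCompl
  haveI := hasLBase (algebraMap A A')
  haveI := hasLBase (algebraMap A' B')
  haveI := hasLBase (algebraMap A B')
  haveI : IsNoetherianRing B' := IsLocalization.isNoetherianRing q.primeCompl _ inferInstance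
  obtain ⟨eA⟩ := nonempty_LBaseChange_iso (algebraMap A A')
  obtain ⟨eB⟩ := nonempty_LBaseChange_iso (algebraMap A B')
  obtain ⟨c₁⟩ := nonempty_LBase_comp (algebraMap A A') (algebraMap A' B') (algebraMap A B') hcomp
  have hA' : Dual.IsDualizing A' ((DTen.LBase (algebraMap A A')).obj ω) :=
    isDualizing_LBase hω fun m _ =>
      ⟨m.comap (algebraMap A A'), IsLocalization.map_comap (q.comap (algebraMap A B)).primeCompl A' m⟩
  have hmap : (IsLocalRing.maximalIdeal A').map (algebraMap A' B') =
      (q.comap (algebraMap A B)).map (algebraMap A B') := by
    rw [← Localization.AtPrime.map_eq_maximalIdeal (I := q.comap (algebraMap A B)), Ideal.map_map, hcomp]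
  haveI := Synt29.SmoothProps.regular_fibLocRing (A := A) q
  have hG := LC.gorenstein_of_isRegularLocalRing (R := EGA4.FibLocRing A B q)
  obtain ⟨r, hr, hrt⟩ := exists_ringKrullDim_fibLocRing n hs _ q rfl t ht
  have hd' : Nontrivial (Dual.inD A' (A' ⧸ IsLocalRing.maximalIdeal A') ⟶
      ((DTen.LBase (algebraMap A A')).obj ω)⟦d⟧) :=
    @Equiv.nontrivial _ _ (Iso.homCongr (Iso.refl _) ((shiftFunctor _ d).mapIso (eA.app ω))).symm hd
  have h := nontrivial_hom_LBase_of_gorenstein_fibre (B := B') hA'
    (((IsLocalRing.local_hom_TFAE (algebraMap A' B')).out 0 2).1 (Localization.isLocalHom_localRingHom _ _ _ rfl))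
    (by rw [hmap]; exact hG) d hd' r (by rw [hmap]; exact hr)
  have hi : d - (t : ℤ) + (n : ℤ) = d + (r : ℤ) := by omega
  rw [hi]
  exact @Equiv.nontrivial _ _ (Iso.homCongr (Iso.refl _) ((shiftFunctor _ (d + (r : ℤ))).mapIso (eB.app ω ≪≫ (c₁.app ω).symm))) h
end Groth.Agent.S11186
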