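import Groth.Statements.S11190
import Groth.Agent.AGFLib.ExtendCor
import Groth.Agent.S11220

set_option autoImplicit false
universe u
open CategoryTheory MonoidalCategory CartesianMonoidalCategory MonObj GrpObj AlgebraicGeometry
open scoped TensorProduct
open AGF

namespace Groth.Agent.S11190

set_option backward.isDefEq.respectTransparency false
set_option backward.isDefEq.respectTransparency.types false

open Groth.Agent.GrpSchLib Groth.Agent.GrpSchLib.Kunneth Groth.Agent.GrpSchLib.LineGroups Groth.Agent.GrpSchLib.LineVec Groth.Agent.AGFLib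

/-- Let k be an algebraically closed field, G a linear algebraic group over k (an affine smooth group
scheme over k) and H a closed subgroup of G (a smooth closed subgroup scheme, i : H → G). Then H is
observable in G if and only if each finite-dimensional rational H-module occurs as an H-submodule of
some rational G-module of finite dimension (it embeds, H-equivariantly along i, into one). -/
theorem result (k : Type u) [Field k] [IsAlgClosed k]
    (G : Over (Spec (CommRingCat.of k))) [GrpObj G] [IsAffine G.left] [Smooth G.hom]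
    (H : Over (Spec (CommRingCat.of k))) [GrpObj H] [Smooth H.hom] (i : H ⟶ G) [IsMonHom i]
    [IsClosedImmersion i.left] :
    AGF.IsObservableIn k i ↔
      ∀ (V : Type u) [AddCommGroup V] [Module k V] [Module.Finite k V] (σ : VecGrp.GMod H V), σ.ExtendsAlong i := by
  haveI : IsAffine H.left := isAffine_of_isAffineHom i.left
  refine ⟨fun h V _ _ _ σ => extendsAlong_of_observable i h σ, fun hext => ?_⟩
  refine (S11220.result k G H i).mpr fun χ hχ _ => ?_
  let d := Red.gmFn χ⁻¹
  have hd : ∀ (T : Over (Spec (CommRingCat.of k))) (g h : T ⟶ H), ev (g * h) d = ev g d * ev h d := fun T g h => by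
    have h1 : ∀ q : T ⟶ H, ev q (Red.gmFn χ) * ev q d = 1 := fun q => by
      rw [_root_.mul_comm, ← map_mul, GmPts.gmFn_inv, map_one]
    have h2 : ev (g * h) (Red.gmFn χ) = ev g (Red.gmFn χ) * ev h (Red.gmFn χ) := ev_gmFn_mul χ g h
    refine (IsUnit.of_mul_eq_one _ (h1 (g * h))).mul_left_cancel ?_
    rw [h1, h2, _root_.mul_mul_mul_comm, h1, h1, _root_.mul_one]
  have h0 : ∀ (T : Over (Spec (CommRingCat.of k))), ev (1 : T ⟶ H) d = 1 := fun T => by
    have h1 := hd T 1 1
    rw [_root_.one_mul] at h1
    have h2 : IsUnit (ev (1 : T ⟶ H) d) := IsUnit.of_mul_eq_one (ev (1 : T ⟶ H) (Red.gmFn χ))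
      (by rw [← map_mul, GmPts.gmFn_inv, map_one])
    exact (h2.mul_eq_left).mp h1.symm
  let M : Matrix (Fin 1) (Fin 1) (Fn H) := Matrix.of fun _ _ => d
  have hM : IsRepMatrix M := {
    mul := fun T g h => by
      ext a b
      simp [Matrix.mul_apply, M, hd]
    one := fun T => by
      ext a b
      simp [M, h0, Matrix.one_apply, Subsingleton.elim a b] }
  obtain ⟨W, _, _, _, ρ, φ, hφ, hequiv⟩ := hext (Fin 1 → k) hM.gmod
  refine ⟨W, inferInstance, inferInstance, inferInstance, ρ, φ (fun _ => 1),
    fun h => one_ne_zero (congrFun (hφ (h.trans φ.map_zero.symm)) 0), fun B _ _ h => ?_⟩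
  have h1 := hequiv B h ((1 : B) ⊗ₜ[k] fun _ => 1)
  rw [LinearMap.baseChange_tmul] at h1
  rw [← h1, chiVal_eq]
  show φ.baseChange B (endHom hM B h ((1 : B) ⊗ₜ[k] fun _ => (1 : k))) = pullFn h d • _
  rw [endHom_tmul, show (pullFn h d • ((1 : B) ⊗ₜ[k] φ fun _ => (1 : k))) =
    φ.baseChange B (pullFn h d • ((1 : B) ⊗ₜ[k] fun _ => (1 : k))) by rw [map_smul, LinearMap.baseChange_tmul],
    one_tmul_eq, Finset.smul_sum]
  simp [M, smul_smul]

end Groth.Agent.S11190
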