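import Groth.Statements.S11193
import Groth.Agent.AGFLib.ExtendCor

set_option autoImplicit false
universe u
open CategoryTheory MonoidalCategory CartesianMonoidalCategory MonObj GrpObj AlgebraicGeometry
open scoped TensorProduct
open AGF

namespace Groth.Agent.S11193

set_option backward.isDefEq.respectTransparency false
set_option backward.isDefEq.respectTransparency.types false

open Groth.Agent.GrpSchLib Groth.Agent.GrpSchLib.Kunneth Groth.Agent.GrpSchLib.LineGroups Groth.Agent.GrpSchLib.LineVec Groth.Agent.AGFLib

/-- Let k be an algebraically closed field, G a linear algebraic group over k (an affine smooth group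
scheme over k) and H a closed subgroup of G (a smooth closed subgroup scheme, i : H → G), with H of
finite index in G (equivalently, H is also open in G). Then each finite-dimensional rational
H-module occurs as an H-submodule of some rational G-module of finite dimension. -/
theorem result (k : Type u) [Field k] [IsAlgClosed k]
    (G : Over (Spec (CommRingCat.of k))) [GrpObj G] [IsAffine G.left] [Smooth G.hom]
    (H : Over (Spec (CommRingCat.of k))) [GrpObj H] [Smooth H.hom] (i : H ⟶ G) [IsMonHom i]
    [IsClosedImmersion i.left] [IsOpenImmersion i.left]
    (V : Type u) [AddCommGroup V] [Module k V] [Module.Finite k V] (σ : VecGrp.GMod H V) :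
    σ.ExtendsAlong i := by
  haveI : IsAffine H.left := isAffine_of_isAffineHom i.left
  exact extendsAlong_of_observable i (isObservableIn_of_isOpen i) σ

end Groth.Agent.S11193
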