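import Groth.Statements.S11194
import Groth.Agent.AGFLib.FiniteIndex

set_option autoImplicit false
universe u
open CategoryTheory MonoidalCategory CartesianMonoidalCategory MonObj GrpObj AlgebraicGeometry
open scoped TensorProduct
open AGF

namespace Groth.Agent.S11194

set_option backward.isDefEq.respectTransparency false
set_option backward.isDefEq.respectTransparency.types false

open Groth.Agent.GrpSchLib Groth.Agent.GrpSchLib.Kunneth Groth.Agent.GrpSchLib.LineGroups Groth.Agent.GrpSchLib.LineVec Groth.Agent.AGFLib

/-- (i) ⇔ (iii): let k be an algebraically closed field, G a linear algebraic group over k (an affine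
smooth group scheme over k) and H a closed subgroup of G (a smooth closed subgroup scheme, i : H →
G); let G₀ ⊆ G and H₀ ⊆ H be the identity components (connected open subgroup schemes) and i₀ : H₀ →
G₀ the induced homomorphism. Then H is observable in G if and only if H₀ is observable in G₀. -/
theorem result (k : Type u) [Field k] [IsAlgClosed k]
    (G : Over (Spec (CommRingCat.of k))) [GrpObj G] [IsAffine G.left] [Smooth G.hom]
    (H : Over (Spec (CommRingCat.of k))) [GrpObj H] [Smooth H.hom] (i : H ⟶ G) [IsMonHom i]
    [IsClosedImmersion i.left]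
    (G₀ : Over (Spec (CommRingCat.of k))) [GrpObj G₀] [ConnectedSpace G₀.left] (jG : G₀ ⟶ G) [IsMonHom jG]
    [IsOpenImmersion jG.left]
    (H₀ : Over (Spec (CommRingCat.of k))) [GrpObj H₀] [ConnectedSpace H₀.left] (jH : H₀ ⟶ H) [IsMonHom jH]
    [IsOpenImmersion jH.left] (i₀ : H₀ ⟶ G₀) [IsMonHom i₀] (hc : i₀ ≫ jG = jH ≫ i) :
    AGF.IsObservableIn k i ↔ AGF.IsObservableIn k i₀ := by
  haveI : IsClosedImmersion jG.left := isClosedImmersion_of_open jG
  haveI : IsClosedImmersion jH.left := isClosedImmersion_of_open jH
  haveI : IsAffine G₀.left := isAffine_of_isAffineHom jG.left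
  haveI : Smooth G₀.hom := by rw [← Over.w jG]; infer_instance
  haveI : Smooth H₀.hom := by rw [← Over.w jH]; infer_instance
  haveI : IsClosedImmersion (i₀.left ≫ jG.left) := by
    rw [show i₀.left ≫ jG.left = jH.left ≫ i.left from congrArg (·.left) hc]; infer_instance
  haveI : IsClosedImmersion i₀.left := IsClosedImmersion.of_comp i₀.left jG.left
  rw [isObservableIn_iff_open i jH, isObservableIn_iff_comp jG i₀, hc]

end Groth.Agent.S11194
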