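import Groth.Statements.S1120
import Groth.Agent.KFlatLib.Scheme.TorBCTensorSupport
-- import your own Groth.Agent.* helpers here

set_option autoImplicit false
universe u
open CategoryTheory CategoryTheory.Limits AlgebraicGeometry Opposite
attribute [local instance] HasDerivedCategory.standard
open Perf

open Groth.Agent.KFlatLib

namespace Groth.Agent.S1120

/-- Let f : X → S be a morphism of schemes of finite presentation (locally of finite presentation,
quasi-compact and quasi-separated), let E be a cochain complex of 𝒪_X-modules that becomes perfect
in D(𝒪_X), and let G be a finitely presented 𝒪_X-module that is S-flat and whose support is proper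
over S. Assuming the derived functors involved exist, Rf_* RHom(E, G) is a perfect object of D(𝒪_S).
(The published statement also allows G to be a bounded complex of such modules and proves
compatibility with base change; neither claim is made here.) -/
theorem result {X S : Scheme.{u}} (f : X ⟶ S) [LocallyOfFinitePresentation f] [QuasiCompact f] [QuasiSeparated f]
    (E : CochainComplex X.Modules ℤ) (hE : DCoh.IsPerfect (DCoh.toD X E)) [DCoh.HasLTensorCx E] [DCoh.HasRSheafHom E] [DCoh.HasRpush f]
    (G : X.Modules) (hG : CohB1.IsFP G) (hflat : FlatMod.IsFlatOver f G) (hsupp : ClSub.IsProperOver f (CohB1.support G)) :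
    DCoh.IsPerfect ((DCoh.Rpush f).obj ((DCoh.RSheafHom E).obj (DCoh.inD X G))) := by
  haveI := hasLTensorMod G
  obtain ⟨D, hD, ⟨e⟩⟩ := exists_RSheafHom_inD_iso E hE G
  exact (isPerfect_iff _).2 ((TorBC.locSP_rpush_tensor_support f G hG hflat hsupp ((isPerfect_iff _).1 hD)).of_iso
    ((DCoh.Rpush f).mapIso e.symm))

end Groth.Agent.S1120
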