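import Groth.Statements.S11201
import Groth.Agent.AGFLib.ObsRadical
-- import your own Groth.Agent.* helpers here

set_option autoImplicit false
universe u
open CategoryTheory MonoidalCategory CartesianMonoidalCategory MonObj GrpObj AlgebraicGeometry
open scoped TensorProduct
open AGF

namespace Groth.Agent.S11201

open Groth.Agent

set_option backward.isDefEq.respectTransparency false
set_option backward.isDefEq.respectTransparency.types false


/-- Let k be an algebraically closed field, G a linear algebraic group over k (an affine smooth group
scheme over k) and H a closed subgroup of G (a smooth closed subgroup scheme, i : H → G). Let R ⊆ H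
be the radical of H: a smooth connected solvable closed normal subgroup of H through which every
smooth connected solvable closed normal subgroup of H factors. Then H is observable in G if and only
if R is observable in G. -/
theorem result (k : Type u) [Field k] [IsAlgClosed k]
    (G : Over (Spec (CommRingCat.of k))) [GrpObj G] [IsAffine G.left] [Smooth G.hom]
    (H : Over (Spec (CommRingCat.of k))) [GrpObj H] [Smooth H.hom] (i : H ⟶ G) [IsMonHom i]
    [IsClosedImmersion i.left]
    (R : Over (Spec (CommRingCat.of k))) [GrpObj R] [Smooth R.hom] [ConnectedSpace R.left] (r : R ⟶ H) [IsMonHom r]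
    [IsClosedImmersion r.left] (hn : AlgGrp.IsNormalHom r) (hsol : Red.IsSolvableGrp R)
    (hmax : ∀ (R' : Over (Spec (CommRingCat.of k))) [GrpObj R'] (r' : R' ⟶ H) [IsMonHom r'], IsClosedImmersion r'.left → Smooth R'.hom →
      ConnectedSpace R'.left → AlgGrp.IsNormalHom r' → Red.IsSolvableGrp R' → ∃ f : R' ⟶ R, f ≫ r = r') :
    AGF.IsObservableIn k i ↔ AGF.IsObservableIn k (r ≫ i) := by
  haveI : IsAffine H.left := isAffine_of_isAffineHom i.left
  constructor
  · intro h
    exact S11195.result k G H i R r (AGFLib.isObservableIn_of_isNormalHom r hn) h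
  · intro h
    refine AGFLib.isObservableIn_of_radical i fun R₁ _ _ _ r₁ _ _ hn₁ hsol₁ hmax₁ => ?_
    obtain ⟨f, hf⟩ := hmax R₁ r₁ inferInstance inferInstance inferInstance hn₁ hsol₁
    obtain ⟨f', hf'⟩ := hmax₁ R r inferInstance inferInstance inferInstance hsol hn
    intro g hg
    obtain ⟨x, hx⟩ := h g fun φ hφ => hg φ ((AGFLib.isRTransInv_iff _ _).2 fun T a b => by
      have h2 := (AGFLib.isRTransInv_iff _ _).1 hφ T a (b ≫ f)
      rwa [Category.assoc, reassoc_of% hf] at h2)
    exact ⟨x ≫ f', by rw [Category.assoc, reassoc_of% hf', hx]⟩

end Groth.Agent.S11201
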