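import Groth.Statements.S11203
import Groth.Agent.Grosshans27.Index
import Groth.Agent.Grosshans27.Transfer
-- import your own Groth.Agent.* helpers here

set_option autoImplicit false
universe u
open CategoryTheory MonoidalCategory CartesianMonoidalCategory MonObj GrpObj AlgebraicGeometry
open scoped TensorProduct
open AGF

namespace Groth.Agent.S11203

set_option backward.isDefEq.respectTransparency false
set_option backward.isDefEq.respectTransparency.types false

/-- Let k be an algebraically closed field, G a linear algebraic group over k (an affine smooth group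
scheme over k) and H a closed subgroup of G (a smooth closed subgroup scheme, i : H → G); let G₀ ⊆ G
and H₀ ⊆ H be the identity components and i₀ : H₀ → G₀ the induced homomorphism. If one of the rings
k[G]^H (right-H-invariant global functions on G), k[G]^{H₀}, k[G₀]^{H₀} is finitely generated over
the constants, then all three are. (The published statement also lists the invariants of H ∩ G₀ on
G₀, omitted here.) -/
theorem result (k : Type u) [Field k] [IsAlgClosed k]
    (G : Over (Spec (CommRingCat.of k))) [GrpObj G] [IsAffine G.left] [Smooth G.hom]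
    (H : Over (Spec (CommRingCat.of k))) [GrpObj H] [Smooth H.hom] (i : H ⟶ G) [IsMonHom i]
    [IsClosedImmersion i.left]
    (G₀ : Over (Spec (CommRingCat.of k))) [GrpObj G₀] [ConnectedSpace G₀.left] (jG : G₀ ⟶ G) [IsMonHom jG]
    [IsOpenImmersion jG.left]
    (H₀ : Over (Spec (CommRingCat.of k))) [GrpObj H₀] [ConnectedSpace H₀.left] (jH : H₀ ⟶ H) [IsMonHom jH]
    [IsOpenImmersion jH.left] (i₀ : H₀ ⟶ G₀) [IsMonHom i₀] (hc : i₀ ≫ jG = jH ≫ i) :
    List.TFAE [AGF.SubringFGOver k G (AGF.rTransInv i), AGF.SubringFGOver k G (AGF.rTransInv (jH ≫ i)),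
      AGF.SubringFGOver k G₀ (AGF.rTransInv i₀)] := by
  haveI : IsClosedImmersion jG.left := AGFLib.isClosedImmersion_of_open jG
  haveI : IsAffine G₀.left := isAffine_of_isAffineHom jG.left
  haveI : Smooth G₀.hom := by rw [← Over.w jG]; infer_instance
  haveI : IsAffine H.left := isAffine_of_isAffineHom i.left
  haveI : IsClosedImmersion jH.left := AGFLib.isClosedImmersion_of_open jH
  haveI : IsAffine H₀.left := isAffine_of_isAffineHom jH.left
  haveI : Smooth H₀.hom := by rw [← Over.w jH]; infer_instance
  have hfg : ∀ {X : Over (Spec (CommRingCat.of k))} [GrpObj X] [IsAffine X.left] [Smooth X.hom]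
      {Y : Over (Spec (CommRingCat.of k))} [GrpObj Y] [IsAffine Y.left] [Smooth Y.hom] (f : Y ⟶ X) [IsMonHom f],
      AGF.SubringFGOver k X (AGF.rTransInv f) ↔ (Grosshans27.fixAlg (SolvGrp.rangePts f :
        Set (𝟙_ (Over (Spec (CommRingCat.of k))) ⟶ X))).FG := fun f _ =>
    ⟨Grosshans27.fg_of_subringFGOver _ _ (Grosshans27.mem_rTransInv_iff_fix f),
      fun h => Grosshans27.subringFGOver_of_fg _ h _ (Grosshans27.mem_rTransInv_iff_fix f)⟩
  have e12 := Grosshans27.fg_iff_component i jH
  have e23 := Grosshans27.fg_iff_of_open jG i₀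
  have e : SolvGrp.rangePts (i₀ ≫ jG) = SolvGrp.rangePts (jH ≫ i) := by simp only [hc]
  rw [e] at e23
  tfae_have 1 ↔ 2 := by rw [hfg, hfg]; exact e12.symm
  tfae_have 2 ↔ 3 := by rw [hfg, hfg]; exact e23
  tfae_finish


end Groth.Agent.S11203
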