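import Groth.Statements.S11205
import Groth.Agent.QuotQA27.Basic
import Groth.Agent.QuotQA27.NormalBij
import Mathlib.RingTheory.Adjoin.Tower
-- import your own Groth.Agent.* helpers here

set_option autoImplicit false
universe u
open CategoryTheory MonoidalCategory CartesianMonoidalCategory MonObj GrpObj AlgebraicGeometry
open scoped TensorProduct
open AGF

namespace Groth.Agent.S11205

set_option backward.isDefEq.respectTransparency false
set_option backward.isDefEq.respectTransparency.types false

open Groth.Agent.GrpSchLib Groth.Agent.GrpSchLib.Kunneth Groth.Agent.AGFLib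

/-- Let k be an algebraically closed field and let X and Y be irreducible normal varieties over k
(integral separated schemes of finite type over k all of whose local rings are integrally closed),
and π : Y → X a k-morphism which is bijective on points. If the ring of global functions of Y is
finitely generated over k, then so is the ring of global functions of X. (The published statement
asks π bijective on rational points; this row asks bijectivity on all points, which for schemes of
finite type over an algebraically closed field is the same condition.) -/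
theorem result (k : Type u) [Field k] [IsAlgClosed k] (X Y : Over (Spec (CommRingCat.of k)))
    [IsIntegral X.left] [IsIntegral Y.left] [LocallyOfFiniteType X.hom] [QuasiCompact X.hom]
    [IsSeparated X.hom] [LocallyOfFiniteType Y.hom] [QuasiCompact Y.hom] [IsSeparated Y.hom]
    (hX : ∀ x : X.left, IsIntegrallyClosed ↑(X.left.presheaf.stalk x))
    (hY : ∀ y : Y.left, IsIntegrallyClosed ↑(Y.left.presheaf.stalk y))
    (π : Y ⟶ X) (hπ : Function.Bijective π.left.base)
    (hfg : ((Scheme.ΓSpecIso (CommRingCat.of k)).inv ≫ Y.hom.appTop).hom.FiniteType) :
    ((Scheme.ΓSpecIso (CommRingCat.of k)).inv ≫ X.hom.appTop).hom.FiniteType := by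
  haveI : Surjective π.left := ⟨hπ.surjective⟩
  haveI : UniversallyInjective π.left := QuotQA27.universallyInjective_of_pts π fun a b h => by
    obtain ⟨p⟩ : Nonempty ↥(VecGrp.pt k k).left := inferInstanceAs (Nonempty (PrimeSpectrum k))
    refine QuotQA27.ext_pts p (hπ.injective ?_)
    rw [← Scheme.Hom.comp_apply, ← Scheme.Hom.comp_apply, ← Over.comp_left, h, Over.comp_left]
  haveI : IsLocallyNoetherian X.left := LocallyOfFiniteType.isLocallyNoetherian X.hom
  haveI hB : Algebra.FiniteType k (Fn Y) := RingHom.finiteType_algebraMap.mp hfg
  letI : Algebra (Fn X) (Fn Y) := (ev π).toRingHom.toAlgebra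
  haveI : IsScalarTower k (Fn X) (Fn Y) := IsScalarTower.of_algebraMap_eq' (ev π).comp_algebraMap.symm
  haveI : Algebra.FiniteType (Fn X) (Fn Y) := Algebra.FiniteType.of_restrictScalars_finiteType k (Fn X) (Fn Y)
  haveI : Algebra.IsIntegral (Fn X) (Fn Y) := ⟨fun f => by
    obtain ⟨m, hm, z, hz⟩ := QuotQA27.exists_pow_eq_pullback π.left hX f
    exact IsIntegral.of_pow hm (hz ▸ isIntegral_algebraMap)⟩
  haveI : Module.Finite (Fn X) (Fn Y) := Algebra.IsIntegral.finite
  have hinj : Function.Injective (algebraMap (Fn X) (Fn Y)) := QuotQA27.app_injective_of_surjective π.left ⊤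
  haveI : Algebra.FiniteType k (Fn X) := ⟨fg_of_fg_of_fg k (Fn X) (Fn Y) hB.out Module.Finite.fg_top hinj⟩
  exact RingHom.finiteType_algebraMap.mpr inferInstance


end Groth.Agent.S11205
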