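import Groth.Statements.S11207
import Groth.Agent.Grosshans27.Transfer
-- import your own Groth.Agent.* helpers here

set_option autoImplicit false
universe u
open CategoryTheory MonoidalCategory CartesianMonoidalCategory MonObj GrpObj AlgebraicGeometry
open scoped TensorProduct
open AGF

namespace Groth.Agent.S11207

/-- (a) ⇔ (b): let k be an algebraically closed field, G a linear algebraic group over k whose identity
component is reductive, and H a closed subgroup of G. Assume that invariants of reductive groups
over k on finitely generated algebras are finitely generated (a standard result, carried as a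
hypothesis). Then k[G]^H is finitely generated over the constants if and only if, for every finitely
generated commutative k-algebra A with a rational action of G by algebra automorphisms, the algebra
of H-invariants A^H is finitely generated over k. -/
theorem result (k : Type u) [Field k] [IsAlgClosed k]
    (G : Over (Spec (CommRingCat.of k))) [GrpObj G] [IsAffine G.left] [Smooth G.hom]
    (H : Over (Spec (CommRingCat.of k))) [GrpObj H] [Smooth H.hom] (i : H ⟶ G) [IsMonHom i]
    [IsClosedImmersion i.left]
    (hG : VecGrp.IsReductiveGrp k G) (thmA : VecGrp.ReductiveInvariantsFG k) :
    AGF.SubringFGOver k G (AGF.rTransInv i) ↔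
      ∀ (A : Type u) [CommRing A] [Algebra k A] [Algebra.FiniteType k A] (ρ : VecGrp.GMod G A) (hρ : ρ.IsMult),
        Algebra.FiniteType k ↥(ρ.fixedSubalgebra hρ i) := by
  haveI : IsAffine H.left := isAffine_of_isAffineHom i.left
  constructor
  · intro h A _ _ _ ρ hρ
    exact Grosshans27.finiteType_fixed i ρ hρ hG thmA
      (Grosshans27.fg_of_subringFGOver _ _ (Grosshans27.mem_rTransInv_iff_fix i) h)
  · intro h
    exact Grosshans27.subringFGOver_of_fg _ (Grosshans27.fg_of_forall i h) _
      (Grosshans27.mem_rTransInv_iff_fix i)


end Groth.Agent.S11207
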