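import Groth.Statements.S11209
import Groth.Agent.Grosshans27.Contains
-- import your own Groth.Agent.* helpers here

set_option autoImplicit false
universe u
open CategoryTheory MonoidalCategory CartesianMonoidalCategory MonObj GrpObj AlgebraicGeometry
open scoped TensorProduct
open AGF

namespace Groth.Agent.S11209

/-- Let k be an algebraically closed field, G a linear algebraic group over k whose identity component
is reductive, B a Borel subgroup of G with unipotent radical U, and H a closed subgroup of G
containing U. Assume finite generation of invariants of reductive groups over k on finitely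
generated algebras (a standard result, carried as a hypothesis). Then for every finitely generated
commutative k-algebra A with a rational action of G by algebra automorphisms, A^H is finitely
generated over k. -/
theorem result (k : Type u) [Field k] [IsAlgClosed k]
    (G : Over (Spec (CommRingCat.of k))) [GrpObj G] [IsAffine G.left] [Smooth G.hom]
    (H : Over (Spec (CommRingCat.of k))) [GrpObj H] [Smooth H.hom] (i : H ⟶ G) [IsMonHom i]
    [IsClosedImmersion i.left]
    (hG : VecGrp.IsReductiveGrp k G)
    (Bo : Over (Spec (CommRingCat.of k))) [GrpObj Bo] (iB : Bo ⟶ G) (hB : Red.IsBorelOver k iB)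
    (U : Over (Spec (CommRingCat.of k))) [GrpObj U] (u : U ⟶ Bo) (hU : Par.IsUnipotentRadical u)
    (f : U ⟶ H) (hf : f ≫ i = u ≫ iB)
    (thmA : VecGrp.ReductiveInvariantsFG k)
    (A : Type u) [CommRing A] [Algebra k A] [Algebra.FiniteType k A] (ρ : VecGrp.GMod G A) (hρ : ρ.IsMult) :
    Algebra.FiniteType k ↥(ρ.fixedSubalgebra hρ i) := by
  haveI := hB.1
  haveI := hU.1
  haveI : IsAffine H.left := isAffine_of_isAffineHom i.left
  haveI : Mono i := Over.mono_of_mono_left _
  haveI : IsMonHom f := AGFLib.isMonHom_of_mul _ fun X a b => by
    rw [← cancel_mono i]
    simp only [MonObj.mul_comp, Category.assoc, hf]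
  exact Grosshans27.finiteType_fixed i ρ hρ hG thmA (Grosshans27.fg_contains iB hB u hU i f hf)


end Groth.Agent.S11209
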