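import Groth.Statements.S11212
import Groth.Agent.AGFLib.Regular
import Groth.Agent.AGFLib.Semi
-- import your own Groth.Agent.* helpers here

set_option autoImplicit false
universe u
open CategoryTheory MonoidalCategory CartesianMonoidalCategory MonObj GrpObj AlgebraicGeometry
open scoped TensorProduct
open AGF

namespace Groth.Agent.S11212

set_option backward.isDefEq.respectTransparency false
set_option backward.isDefEq.respectTransparency.types false

open Groth.Agent.GrpSchLib Groth.Agent.GrpSchLib.Kunneth Groth.Agent.AGFLib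

/-- Let k be an algebraically closed field, G a linear algebraic group over k (an affine smooth group
scheme over k) and H a closed subgroup of G (a smooth closed subgroup scheme, i : H → G), with the
identity component of H reductive. Assume the following standard results of geometric invariant
theory for groups with reductive identity component, carried as hypotheses: finite generation of
invariants on finitely generated algebras, and that for such a group acting on an affine variety the
quotient map sends disjoint closed invariant subsets to disjoint sets. Then H is observable in G. -/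
theorem result (k : Type u) [Field k] [IsAlgClosed k]
    (G : Over (Spec (CommRingCat.of k))) [GrpObj G] [IsAffine G.left] [Smooth G.hom]
    (H : Over (Spec (CommRingCat.of k))) [GrpObj H] [Smooth H.hom] (i : H ⟶ G) [IsMonHom i]
    [IsClosedImmersion i.left]
    (hH : VecGrp.IsReductiveGrp k H) (thmA : VecGrp.ReductiveInvariantsFG k)
    (thmAbiv : AGF.ReductiveQuotSeparates k) :
    AGF.IsObservableIn k i := by
  haveI : IsAffine H.left := isAffine_of_isAffineHom i.left
  haveI : IsReduced G.left := isReduced_of_smooth_field G.hom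
  haveI : _root_.IsReduced (Fn G) := inferInstance
  haveI := finiteType_fn G
  intro g hg
  by_contra hne
  push Not at hne
  have hsurj : ∀ t : VecGrp.pt k k ⟶ G, Function.Surjective (ev ((toPt H ≫ t) * i)) := fun t => by
    have h1 : Function.Surjective (ev i) := Scheme.Hom.app_surjective i.left ⊤ (isAffineOpen_top _)
    have h2 : ∀ f, ev ((toPt H ≫ t) * i) f = ev i (lT t f) := fun f => (ev_lT i t f).symm
    intro z
    obtain ⟨f, hf⟩ := h1 z
    refine ⟨lT t⁻¹ f, ?_⟩
    rw [h2, ← hf]
    congr 1
    show ev ((toPt G ≫ t) * 𝟙 G) (lT t⁻¹ f) = f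
    rw [ev_lT, ← _root_.mul_assoc, ← MonObj.comp_mul, inv_mul_cancel, MonObj.comp_one, _root_.one_mul, ev_id]
  let I : (VecGrp.pt k k ⟶ G) → Ideal (Fn G) := fun t => RingHom.ker (ev ((toPt H ≫ t) * i))
  have hrad : ∀ t, (I t).IsRadical := fun t => by
    haveI : IsReduced H.left := isReduced_of_smooth_field H.hom
    haveI : _root_.IsReduced (Fn H) := inferInstance
    rintro x ⟨m, hm⟩
    exact IsNilpotent.eq_zero ⟨m, by rw [← map_pow]; exact hm⟩
  have hsup : I 1 ⊔ I g = ⊤ := by
    by_contra htop
    obtain ⟨m, hm, hle⟩ := Ideal.exists_le_maximal _ htop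
    letI := Ideal.Quotient.field m
    haveI : Algebra.FiniteType k (Fn G ⧸ m) := inferInstance
    haveI : Module.Finite k (Fn G ⧸ m) := finite_of_finite_type_of_isJacobsonRing k _
    let e : k ≃ₐ[k] Fn G ⧸ m :=
      AlgEquiv.ofBijective (Algebra.ofId k _) IsAlgClosed.algebraMap_bijective_of_isIntegral
    let φ := e.symm.toAlgHom.comp (Ideal.Quotient.mkₐ k m)
    let y := VecGrp.ptMap φ ≫ univ G
    have hy : ∀ f ∈ m, pullFn y f = 0 := fun f hf => by
      rw [pullFn_ptMap, pullFn_univ]
      show e.symm (Ideal.Quotient.mk m f) = 0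
      rw [Ideal.Quotient.eq_zero_iff_mem.mpr hf, map_zero]
    have hpt : ∀ t, I t ≤ m → ∃ x : VecGrp.pt k k ⟶ H, t * (x ≫ i) = y := fun t ht => by
      let ψ : Fn H →ₐ[k] k := AlgHom.liftOfSurjective (ev ((toPt H ≫ t) * i)) (hsurj t) (pullFn y)
        fun a ha => hy a (ht ha)
      refine ⟨VecGrp.ptMap ψ ≫ univ H, pt_ext (AlgHom.ext fun f => ?_)⟩
      have e1 : t * ((VecGrp.ptMap ψ ≫ univ H) ≫ i) = (VecGrp.ptMap ψ ≫ univ H) ≫ ((toPt H ≫ t) * i) := by
        rw [MonObj.comp_mul, ← Category.assoc _ (toPt H), hom_pt_ext (_ ≫ toPt H), ← hom_pt_ext (𝟙 _), Category.id_comp]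
      rw [e1, pullFn_comp, pullFn_ptMap, pullFn_univ]
      exact DFunLike.congr_fun (AlgHom.liftOfSurjective_comp _ (hsurj t) (pullFn y) fun a ha => hy a (ht ha)) f
    obtain ⟨a, ha⟩ := hpt 1 (le_sup_left.trans hle)
    obtain ⟨b, hb⟩ := hpt g (le_sup_right.trans hle)
    refine hne (a * b⁻¹) ?_
    rw [MonObj.mul_comp, GrpObj.inv_comp, eq_comm, eq_mul_inv_iff_mul_eq, hb, ← ha, _root_.one_mul]
  have h1 := thmAbiv H hH (Fn G) (translMod i) (translMod_isMult i) inferInstance (I 1) (I g) (hrad 1) (hrad g)
    (translMod_isStable i 1) (translMod_isStable i g) hsup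
  rw [Ideal.eq_top_iff_one, Submodule.mem_sup] at h1
  obtain ⟨a, ha, b, hb, hab⟩ := h1
  have hinv : AGF.IsRTransInv i (a : Fn G) := isRTransInv_of_pts i _ fun x => by
    have h2 := a.2 k x
    rw [Category.comp_id, translMod_apply] at h2
    have h3 := congrArg (prodFn k G) h2
    rw [prodFn_transl, prodFn_tmul, map_one, map_one, _root_.one_mul, ev_ev, shift, lift_snd] at h3
    have h4 := congrArg (ev (lift (toPt G) (𝟙 G))) h3
    rw [ev_ev, ev_ev, MonObj.comp_mul, lift_snd, lift_fst_assoc, ev_id] at h4
    exact h4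
  have hzero : ∀ (t : VecGrp.pt k k ⟶ G) (f : Fn G), f ∈ I t → ev t f = 0 := fun t f hf => by
    have e1 : (1 : VecGrp.pt k k ⟶ H) ≫ ((toPt H ≫ t) * i) = t := by
      rw [MonObj.comp_mul, ← Category.assoc, hom_pt_ext (_ ≫ toPt H), ← hom_pt_ext (𝟙 _), Category.id_comp,
        MonObj.one_comp, _root_.mul_one]
    rw [← e1, ← ev_ev, show ev ((toPt H ≫ t) * i) f = 0 from hf, map_zero]
  have h5 := congrArg (fun z => ev g z) (congrArg Subtype.val hab)
  simp only [Subalgebra.coe_add, Subalgebra.coe_one, map_add, map_one] at h5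
  rw [ev_eq_ev_one (hg _ hinv), show ev (1 : VecGrp.pt k k ⟶ G) (a : Fn G) = 0 from hzero 1 _ ha, show ev g (b : Fn G) = 0 from hzero g _ hb, add_zero] at h5
  have h6 := congrArg (Scheme.ΓSpecIso (CommRingCat.of k)).hom h5
  rw [map_zero, map_one] at h6
  exact zero_ne_one h6

end Groth.Agent.S11212
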