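import Groth.Statements.S11213
import Groth.Agent.S11212
import Groth.Agent.S11189
import Groth.Agent.QuotQA27.Inv
import Groth.Agent.Grosshans27.Main
-- import your own Groth.Agent.* helpers here

set_option autoImplicit false
universe u
open CategoryTheory MonoidalCategory CartesianMonoidalCategory MonObj GrpObj AlgebraicGeometry
open scoped TensorProduct
open AGF

namespace Groth.Agent.S11213

set_option backward.isDefEq.respectTransparency false
set_option backward.isDefEq.respectTransparency.types false

open Groth.Agent.GrpSchLib Groth.Agent.GrpSchLib.Kunneth Groth.Agent.AGFLib

/-- Let k be an algebraically closed field, G a linear algebraic group over k (an affine smooth group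
scheme over k) and H a closed subgroup of G (a smooth closed subgroup scheme, i : H → G), with the
identity component of H reductive, and let X (with action a, base point o) be the quotient G/H.
Assume the following standard results of geometric invariant theory for groups with reductive
identity component, carried as hypotheses: finite generation of invariants on finitely generated
algebras, and that the quotient map of an affine variety by such a group is surjective and separates
disjoint closed invariant subsets. Then k[G]^H is finitely generated over the constants (H is a
Grosshans subgroup of G) and X is affine. -/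
theorem result (k : Type u) [Field k] [IsAlgClosed k]
    (G : Over (Spec (CommRingCat.of k))) [GrpObj G] [IsAffine G.left] [Smooth G.hom]
    (H : Over (Spec (CommRingCat.of k))) [GrpObj H] [Smooth H.hom] (i : H ⟶ G) [IsMonHom i]
    [IsClosedImmersion i.left]
    (hH : VecGrp.IsReductiveGrp k H) (thmA : VecGrp.ReductiveInvariantsFG k)
    (thmAbi : AGF.ReductiveQuotSurj k) (thmAbiv : AGF.ReductiveQuotSeparates k)
    (X : Over (Spec (CommRingCat.of k))) (a : AlgGrp.Action G X) (o : 𝟙_ (Over (Spec (CommRingCat.of k))) ⟶ X) (hX : AGF.IsQuotient i X a o) :
    AGF.SubringFGOver k G (AGF.rTransInv i) ∧ IsAffine X.left := by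
  haveI : IsAffine H.left := isAffine_of_isAffineHom i.left
  haveI := finiteType_fn G
  constructor
  · obtain ⟨s, hs, hgen⟩ := thmA H hH (Fn G) (translMod i) (translMod_isMult i) inferInstance
    refine Grosshans27.subringFGOver_of_fg ((translMod i).fixedSubalgebra (translMod_isMult i) (𝟙 H))
      ⟨s, le_antisymm (Algebra.adjoin_le hs) hgen⟩ _ fun f => ?_
    exact (AGF.mem_rTransInv_iff i f).trans (QuotQA27.mem_fixed_translMod_iff i f).symm
  · haveI := (S11189.result k G H i X a o hX).mp (S11212.result k G H i hH thmA thmAbiv)
    exact QuotQA27.isAffine_of_quotSurj hX hH thmAbi

end Groth.Agent.S11213
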