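import Groth.Statements.S11214
import Groth.Agent.QuotQA27.Unip
import Groth.Agent.QuotQA27.RedQuot
import Groth.Agent.QuotQA27.Simple
import Groth.Agent.MultTypeImage.Kernel
import Groth.Agent.S11189
import Groth.Agent.S3278
import Groth.Agent.GrpSchLib.SmoothReduced

set_option autoImplicit false
universe u
open CategoryTheory MonoidalCategory CartesianMonoidalCategory MonObj GrpObj AlgebraicGeometry
open scoped TensorProduct
open AGF

namespace Groth.Agent.S11214

set_option backward.isDefEq.respectTransparency false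
set_option backward.isDefEq.respectTransparency.types false
set_option linter.style.haveILetI false
set_option maxHeartbeats 1000000

open Groth.Agent.GrpSchLib Groth.Agent.GrpSchLib.Kunneth Groth.Agent.GrpSchLib.LineGroups Groth.Agent.AGFLib Groth.Agent.QuotQA27


/-- Let k be an algebraically closed field, L a linear algebraic group over k and H a closed subgroup of
L, with unipotent radicals U_H of H and U_L of L such that U_H ⊆ U_L; let X (with action a and base
point o) be the quotient L/H. Assume the following standard results of geometric invariant theory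
for groups with reductive identity component, carried as hypotheses: finite generation of invariants
on finitely generated algebras, and that the quotient map of an affine variety by such a group is
surjective and separates disjoint closed invariant subsets. Then X is affine. -/
theorem result (k : Type u) [Field k] [IsAlgClosed k]
    (L : Over (Spec (CommRingCat.of k))) [GrpObj L] [IsAffine L.left] [Smooth L.hom]
    (H : Over (Spec (CommRingCat.of k))) [GrpObj H] [Smooth H.hom] (i : H ⟶ L) [IsMonHom i] [IsClosedImmersion i.left]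
    (UL : Over (Spec (CommRingCat.of k))) [GrpObj UL] (uL : UL ⟶ L) (hUL : Par.IsUnipotentRadical uL)
    (UH : Over (Spec (CommRingCat.of k))) [GrpObj UH] (uH : UH ⟶ H) (hUH : Par.IsUnipotentRadical uH)
    (f : UH ⟶ UL) (hf : f ≫ uL = uH ≫ i)
    (thmA : VecGrp.ReductiveInvariantsFG k) (thmAbi : AGF.ReductiveQuotSurj k)
    (thmAbiv : AGF.ReductiveQuotSeparates k)
    (X : Over (Spec (CommRingCat.of k))) (a : AlgGrp.Action L X) (o : 𝟙_ (Over (Spec (CommRingCat.of k))) ⟶ X) (hX : AGF.IsQuotient i X a o) :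
    IsAffine X.left := by
  haveI : IsAffine H.left := isAffine_of_isAffineHom i.left
  obtain ⟨hmL, hcL, hnL, hsL, -, hfL, -⟩ := hUL
  haveI := hmL
  haveI := hcL
  haveI := hsL
  haveI : IsAffine UL.left := isAffine_of_isAffineHom uL.left
  obtain ⟨hconL, hntL⟩ := hfL (IsLocalRing.closedPoint k)
  haveI : ConnectedSpace UL.left := SolvGrp.connectedSpace_of_geomFibre _ hconL
  have hUnip := SolvGrp.hasNoSubtorus_of_geomFibre _ hntL
  have hUH' := hUH
  obtain ⟨hmH, hcH, hnH, hsH, -, -, -⟩ := hUH'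
  haveI := hmH
  haveI := hcH
  haveI := hsH
  obtain ⟨Lb, _, qL, hqL, haLb, hlLb, hflL, hsuL, hkerL⟩ := S3278.result k L UL uL hnL
  haveI := hqL
  haveI := haLb
  haveI := hlLb
  haveI := hflL
  haveI := hsuL
  haveI : IsReduced L.left := isReduced_of_smooth_field L.hom
  haveI : IsReduced H.left := isReduced_of_smooth_field H.hom
  haveI : IsReduced Lb.left := FBaseLib.isReduced_of_flat_surjective qL.left
  haveI : Smooth Lb.hom := smooth_of_perfectField_of_isReduced Lb
  obtain ⟨M, _, qH, hqH, haM, hlM, hflH, hsuH, hkerH⟩ := S3278.result k H UH uH hnH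
  haveI := hqH
  haveI := haM
  haveI := hlM
  haveI := hflH
  haveI := hsuH
  haveI : IsReduced M.left := FBaseLib.isReduced_of_flat_surjective qH.left
  haveI : Smooth M.hom := smooth_of_perfectField_of_isReduced M
  have hM : VecGrp.IsReductiveGrp k M := isReductiveGrp_quot uH hUH qH hkerH
  have hcovL : FpqcDescLib.Covers qL.left :=
    FpqcDescLib.covers_of_isCovering (FpqcDescLib.isCovering_of_quasiCompact _)
  have hcovH : FpqcDescLib.Covers qH.left :=
    FpqcDescLib.covers_of_isCovering (FpqcDescLib.isCovering_of_quasiCompact _)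
  haveI : IsSeparated Lb.hom := inferInstance
  obtain ⟨ψ, hψ, hfac⟩ := MultTypeImage.exists_desc_hom qH hcovH (i ≫ qL) fun Y y hy => by
    obtain ⟨n, hn⟩ : ∃ n, n ≫ uH = y :=
      ⟨hkerH.lift y (toUnit _) (by rw [hy, Hom.one_def]), hkerH.lift_fst _ _ _⟩
    rw [← hn, Category.assoc, ← Category.assoc uH, ← hf, Category.assoc, hkerL.w, Hom.one_def, ← Category.assoc, ← Category.assoc]
    congr 1
    exact toUnit_unique _ _
  haveI := hψ
  haveI : IsReduced Lb.left := inferInstance
  haveI : _root_.IsReduced (Fn Lb) := inferInstance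
  haveI : _root_.IsReduced (Fn M) := inferInstance
  haveI := finiteType_fn Lb
  haveI : Epi qL := hcovL.over_epi
  haveI : Epi qL.left := hcovL.epi
  have hinjL : Function.Injective (ev qL) := AntiAffine.appTop_injective_of_epi qL.left
  have hlift : ∀ m : VecGrp.pt k k ⟶ M, ∃ x : VecGrp.pt k k ⟶ H, x ≫ qH = m := exists_pt_lift qH
  have hdown : ∀ f : Fn L, f ≠ 0 → ∃ g : Fn Lb, g ≠ 0 ∧
      ev qL g ∈ Submodule.span k (Set.range fun y => lT y f) := by
    intro f hf0
    obtain ⟨f', hf'm, hf'0, hf'i⟩ := exists_unip_inv hUnip uL hnL f hf0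
    obtain ⟨g, rfl⟩ := exists_ev_kernel uL qL hcovL hkerL hf'i
    exact ⟨g, fun h => hf'0 (by rw [h, map_zero]), hf'm⟩
  have hpush : ∀ (δ : (VecGrp.pt k k ⟶ H) → k) (g : Fn Lb), (∀ x, rT (x ≫ i) (ev qL g) = δ x • ev qL g) →
      ∀ x, rT (x ≫ i ≫ qL) g = δ x • g := fun δ g hg x => hinjL (by
    rw [map_smul, ← hg, rT_ev, Category.assoc])
  have hobs : AGF.IsObservableIn k i := by
    refine isObservableIn_of_semi_inverse i fun δ f₀ hf₀ hfw => ?_
    obtain ⟨g, hg0, hgm⟩ := hdown f₀ hf₀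
    have hgw := hpush δ g (semi_span i hfw hgm)
    obtain ⟨F, hFm, hFr⟩ := exists_regular g hg0
    have hFw : ∀ x, rT (x ≫ i ≫ qL) F = δ x • F := semi_span (i ≫ qL) hgw hFm
    haveI : Nontrivial (Fn Lb) := RingHom.domain_nontrivial (pullFn (1 : VecGrp.pt k k ⟶ Lb)).toRingHom
    obtain ⟨y, hy⟩ := exists_val_ne_zero (nonZeroDivisors.ne_zero hFr)
    let s : Fn Lb := (val y F)⁻¹ • lT y F
    have hs1 : val (1 : VecGrp.pt k k ⟶ Lb) s = 1 := by
      show pullFn _ (_ • lT y F) = 1
      rw [map_smul]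
      show _ • val (1 : VecGrp.pt k k ⟶ Lb) (lT y F) = 1
      rw [val_one_lT, smul_eq_mul, inv_mul_cancel₀ hy]
    have hsw : ∀ x, rT (x ≫ i ≫ qL) s = δ x • s := fun x => by
      rw [map_smul, rT_lT, hFw, map_smul, smul_comm]
    have hsr : ∀ z, s * z = 0 → z = 0 := fun z hz => by
      rw [smul_mul_assoc, smul_eq_zero] at hz
      rcases hz with h | h
      · exact absurd h (inv_ne_zero hy)
      · have h1 := congrArg (lT y⁻¹) h
        rw [map_mul, map_zero, ← lT_mul, mul_inv_cancel, QuotQA27.lT_one] at h1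
        have h2 := (mem_nonZeroDivisors_iff.mp hFr).1 _ h1
        have h3 := congrArg (lT y) h2
        rwa [map_zero, ← lT_mul, inv_mul_cancel, QuotQA27.lT_one] at h3
    have hval : ∀ (x : VecGrp.pt k k ⟶ H) (z : VecGrp.pt k k ⟶ Lb), val (z * (x ≫ i ≫ qL)) s = δ x * val z s :=
      fun x z => by
      rw [← val_rT, hsw]
      exact map_smul (pullFn z) (δ x) s
    let b : Fn Lb := ev (𝟙 Lb)⁻¹ s
    have hsb : ev ψ (s * b) = 1 := eq_of_pts fun m => by
      obtain ⟨x, rfl⟩ := hlift m
      rw [map_one, map_mul, map_mul, ev_ev, ev_ev, ev_ev, GrpObj.comp_inv, Category.comp_id, Category.assoc, hfac,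
        ev_eq_algebraMap, ev_eq_algebraMap, ← map_mul]
      have h1 := hval x (x ≫ i ≫ qL)⁻¹
      rw [inv_mul_cancel, hs1] at h1
      have h2 := hval x 1
      rw [_root_.one_mul, hs1, _root_.mul_one] at h2
      rw [h2, ← h1, map_one]
    let I₁ : Ideal (Fn Lb) := RingHom.ker (ev ((toPt M ≫ (1 : VecGrp.pt k k ⟶ Lb)) * ψ))
    let I₂ : Ideal (Fn Lb) := (Ideal.span {s}).radical
    have hI₁ : I₁ = RingHom.ker (ev ψ) := by
      show RingHom.ker (ev ((toPt M ≫ (1 : VecGrp.pt k k ⟶ Lb)) * ψ)) = _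
      rw [MonObj.comp_one, _root_.one_mul]
    have hrad₁ : I₁.IsRadical := by
      rw [hI₁]
      rintro z ⟨n, hn⟩
      exact IsNilpotent.eq_zero ⟨n, by rw [← map_pow]; exact hn⟩
    have hst₂ : (translMod ψ).IsStable (𝟙 M) (I₂.restrictScalars k) := by
      refine Grosshans27.isStable_of_pts _ _ fun g v hv => ?_
      rw [act_translMod]
      obtain ⟨x, hx⟩ := hlift (S11241.up g)
      obtain ⟨n, hn⟩ := hv
      obtain ⟨c, hc⟩ := Ideal.mem_span_singleton.mp hn
      refine ⟨n, Ideal.mem_span_singleton.mpr ⟨δ x • rT (S11241.up g ≫ ψ) c, ?_⟩⟩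
      rw [← map_pow, hc, map_mul, ← hx, Category.assoc, hfac, hsw, smul_mul_assoc, mul_smul_comm]
    have hsup : I₁ ⊔ I₂ = ⊤ := by
      rw [Ideal.eq_top_iff_one, Submodule.mem_sup]
      refine ⟨1 - s * b, ?_, s * b, Ideal.le_radical (Ideal.mem_span_singleton.mpr ⟨b, rfl⟩), sub_add_cancel _ _⟩
      rw [hI₁, RingHom.mem_ker, map_sub, map_one, hsb, sub_self]
    have h1 := thmAbiv M hM (Fn Lb) (translMod ψ) (translMod_isMult ψ) inferInstance I₁ I₂ hrad₁
      (Ideal.radical_isRadical _) (translMod_isStable ψ 1) hst₂ hsup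
    rw [Ideal.eq_top_iff_one, Submodule.mem_sup] at h1
    obtain ⟨p, hp, p', hp', hpp⟩ := h1
    obtain ⟨n, hn⟩ := hp'
    obtain ⟨c, hc⟩ := Ideal.mem_span_singleton.mp hn
    have hp'ψ : ev ψ (p' : Fn Lb) = 1 := by
      have h2 := congrArg (ev ψ) (congrArg Subtype.val hpp)
      have h3 : (p : Fn Lb) ∈ RingHom.ker (ev ψ) := hI₁ ▸ hp
      rwa [Subalgebra.coe_add, Subalgebra.coe_one, map_add, map_one, RingHom.mem_ker.mp h3, zero_add] at h2
    refine ⟨ev qL c, fun h => ?_, fun x => ?_⟩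
    · have h2 := congrArg (ev ψ) hc
      rw [Subalgebra.coe_val, map_pow, hp'ψ, one_pow, map_mul, (map_eq_zero_iff _ hinjL).mp h, map_zero, mul_zero] at h2
      haveI : Nontrivial (Fn M) := RingHom.domain_nontrivial (pullFn (1 : VecGrp.pt k k ⟶ M)).toRingHom
      exact one_ne_zero h2
    · rw [rT_ev, ← map_smul, Category.assoc]
      congr 1
      refine eq_of_sub_eq_zero (hsr _ ?_)
      have h2 : rT (x ≫ i ≫ qL) ((p' : Fn Lb) ^ n) = (p' : Fn Lb) ^ n := by
        rw [map_pow, ← hfac, ← Category.assoc, rT_of_isRTransInv ((mem_fixed_translMod_iff ψ _).1 p'.2)]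
      rw [show (p' : Fn Lb) ^ n = s * c from hc, map_mul, hsw, smul_mul_assoc] at h2
      rw [mul_sub, mul_smul_comm, h2, sub_self]
  haveI := (S11189.result k L H i X a o hX).mp hobs
  refine isAffine_of_simple hX fun I hI hI0 => ?_
  obtain ⟨f₀, hf₀, hf₀0⟩ := Submodule.exists_mem_ne_zero_of_ne_bot hI0
  obtain ⟨g, hg0, hgm⟩ := hdown f₀ hf₀0
  have hgI : ev qL g ∈ I := (Submodule.span_le.mpr (by rintro _ ⟨y, rfl⟩; exact hI.lT_mem y f₀ hf₀) :
    Submodule.span k (Set.range fun y => lT y f₀) ≤ I) hgm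
  let C := (translMod ψ).fixedSubalgebra (translMod_isMult ψ) (𝟙 M)
  have hC : ∀ c : Fn Lb, c ∈ C ↔ AGF.IsRTransInv i (ev qL c) := fun c => by
    refine (mem_fixed_translMod_iff ψ c).trans ⟨fun hc => isRTransInv_of_pts i _ fun x => ?_,
      fun hc => isRTransInv_of_pts ψ _ fun m => ?_⟩
    · rw [rT_ev, Category.assoc, ← hfac, ← Category.assoc, rT_of_isRTransInv hc]
    · obtain ⟨x, rfl⟩ := hlift m
      apply hinjL
      rw [← rT_of_isRTransInv hc x, rT_ev, Category.assoc, Category.assoc, hfac]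
  let J : Ideal C :=
    { carrier := {c | ev qL (c : Fn Lb) ∈ I}
      zero_mem' := by simp
      add_mem' := fun {c d} hc hd => by
        show ev qL ((c : Fn Lb) + d) ∈ I
        rw [map_add]; exact I.add_mem hc hd
      smul_mem' := fun r c hc => by
        show ev qL ((r : Fn Lb) * c) ∈ I
        rw [map_mul]; exact hI.mul_mem _ ((hC r).1 r.2) _ hc }
  by_contra h1
  have hJ : J ≠ ⊤ := fun htop => h1 (by
    have h2 : (1 : C) ∈ J := htop ▸ Submodule.mem_top
    have h3 : ev qL ((1 : C) : Fn Lb) ∈ I := h2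
    rwa [Subalgebra.coe_one, map_one] at h3)
  obtain ⟨q, hq, hJq⟩ := Ideal.exists_le_maximal J hJ
  obtain ⟨p, hp, hpq⟩ := thmAbi M hM (Fn Lb) (translMod ψ) (translMod_isMult ψ) inferInstance q inferInstance
  obtain ⟨m, hm, hpm⟩ := Ideal.exists_le_maximal p hp.ne_top
  letI := Ideal.Quotient.field m
  haveI : Algebra.FiniteType k (Fn Lb ⧸ m) := inferInstance
  haveI : Module.Finite k (Fn Lb ⧸ m) := finite_of_finite_type_of_isJacobsonRing k _
  let e : k ≃ₐ[k] Fn Lb ⧸ m :=
    AlgEquiv.ofBijective (Algebra.ofId k _) IsAlgClosed.algebraMap_bijective_of_isIntegral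
  let φ := e.symm.toAlgHom.comp (Ideal.Quotient.mkₐ k m)
  let y := VecGrp.ptMap φ ≫ AGFLib.univ Lb
  have hyJ : ∀ c : Fn Lb, ev qL c ∈ I → val y c = 0 := fun c hc => by
    have h2 : (⟨c, (hC c).2 (hI.inv _ hc)⟩ : C) ∈ p.comap C.val := hpq.symm ▸ hJq (show _ ∈ J from hc)
    show pullFn y c = 0
    rw [pullFn_ptMap, pullFn_univ]
    show e.symm (Ideal.Quotient.mk m c) = 0
    have h4 : c ∈ m := hpm h2
    rw [Ideal.Quotient.eq_zero_iff_mem.mpr h4, map_zero]
  obtain ⟨z, hz⟩ := exists_pt_lift qL y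
  obtain ⟨x, hx⟩ := exists_val_ne_zero hg0
  refine hx ?_
  have h2 := hyJ (lT (x * y⁻¹) g) (by
    obtain ⟨w, hw⟩ := exists_pt_lift qL (x * y⁻¹)
    rw [← hw, ← lT_ev]
    exact hI.lT_mem _ _ hgI)
  have h3 : val y (lT (x * y⁻¹) g) = val x g := by
    apply algebraMap_fn_injective
    rw [← ev_eq_algebraMap, ← ev_eq_algebraMap, ev_lT, ← hom_pt_ext (𝟙 _), Category.id_comp, inv_mul_cancel_right]
  rwa [h3] at h2

end Groth.Agent.S11214
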