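import Groth.Statements.S11216
import Groth.Agent.AGFLib.Semi
import Groth.Agent.GrpSchLib.Homogeneous
import Mathlib.RingTheory.Ideal.Height
-- import your own Groth.Agent.* helpers here

set_option autoImplicit false
universe u
open CategoryTheory MonoidalCategory CartesianMonoidalCategory MonObj GrpObj AlgebraicGeometry
open scoped TensorProduct
open AGF

namespace Groth.Agent.S11216

set_option backward.isDefEq.respectTransparency false
set_option backward.isDefEq.respectTransparency.types false

open Groth.Agent Groth.Agent.GrpSchLib Groth.Agent.GrpSchLib.Kunneth Groth.Agent.AGFLib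

/-- A regular invariant is not divisible by more in the big ring, so minimal primes over it lift. -/
theorem height_two {R A : Type u} [CommRing R] [CommRing A] [IsNoetherianRing R] [IsNoetherianRing A]
    [_root_.IsReduced A] (f : R →+* A) (hf : Function.Injective f)
    (hsat : ∀ a b : R, ∀ c : A, f a ∈ nonZeroDivisors A → f b = f a * c → ∃ r, f r = c)
    (hopen : IsOpen (Set.range (PrimeSpectrum.comap f))) {x : PrimeSpectrum R}
    (hx : x ∉ Set.range (PrimeSpectrum.comap f)) : 2 ≤ x.asIdeal.height := by
  classical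
  haveI := x.isPrime
  have hfin : (minimalPrimes A).Finite := minimalPrimes.finite_of_isNoetherianRing A
  obtain ⟨a, hax, ha⟩ : ∃ a ∈ x.asIdeal, ∀ q ∈ minimalPrimes A, f a ∉ q := by
    by_contra h
    push Not at h
    have h1 : (x.asIdeal : Set R) ⊆ ⋃ q ∈ minimalPrimes A, (q.comap f : Set R) := fun r hr => by
      obtain ⟨q, hq, hrq⟩ := h r hr
      exact Set.mem_biUnion hq hrq
    obtain ⟨q, hq, hle⟩ := (Ideal.subset_union_prime_finite hfin ⊥ ⊥
      (fun q hq _ _ => haveI := hq.1.1; inferInstance)).1 h1
    haveI := hq.1.1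
    exact hx (((PrimeSpectrum.le_iff_specializes x (PrimeSpectrum.comap f ⟨q, inferInstance⟩)).1 hle).mem_open hopen
      ⟨⟨q, inferInstance⟩, rfl⟩)
  have hreg : f a ∈ nonZeroDivisors A := by
    refine mem_nonZeroDivisors_iff_right.mpr fun y hy => ?_
    have h0 : y ∈ sInf (minimalPrimes A) := Ideal.mem_sInf.mpr fun {p} hp => by
      haveI : p.IsPrime := hp.1.1
      exact (Ideal.IsPrime.mem_or_mem ‹p.IsPrime› (show y * f a ∈ p by rw [hy]; exact p.zero_mem)).resolve_right (ha p hp)
    rw [minimalPrimes, Ideal.sInf_minimalPrimes] at h0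
    exact IsNilpotent.eq_zero (mem_nilradical.mp h0)
  by_contra hlt
  have hle : x.asIdeal.height ≤ 1 := by
    have h2 := not_le.mp hlt
    generalize x.asIdeal.height = m at h2 ⊢
    induction m using ENat.recTopCoe with
    | top => simp at h2
    | coe m => norm_cast at h2 ⊢; omega
  have haR : a ∈ nonZeroDivisors R := mem_nonZeroDivisors_iff_right.mpr fun y hy => hf (by
    rw [map_zero]
    refine mem_nonZeroDivisors_iff_right.mp hreg _ ?_
    rw [← map_mul, hy, map_zero])
  haveI : x.asIdeal.FiniteHeight := Ideal.finiteHeight_of_isNoetherianRing _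
  have hmin : x.asIdeal ∈ (Ideal.span {a}).minimalPrimes := Ideal.mem_minimalPrimes_of_height_le
    ((Ideal.span_singleton_le_iff_mem _).mpr hax)
    (hle.trans (Ideal.one_le_height_span_singleton_of_mem_nonZeroDivisors haR))
  have hcomap : Ideal.span {a} = (Ideal.span {f a}).comap f := by
    refine le_antisymm ((Ideal.span_singleton_le_iff_mem _).mpr (Ideal.mem_span_singleton_self _)) fun b hb => ?_
    obtain ⟨c, hc⟩ := Ideal.mem_span_singleton.mp (show f b ∈ Ideal.span {f a} from hb)
    obtain ⟨r, rfl⟩ := hsat a b c hreg hc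
    rw [← map_mul] at hc
    exact Ideal.mem_span_singleton.mpr ⟨r, hf hc⟩
  rw [hcomap] at hmin
  obtain ⟨q, hq, he⟩ := Ideal.exists_minimalPrimes_comap_eq f _ hmin
  exact hx ⟨⟨q, hq.1.1⟩, PrimeSpectrum.ext he⟩

/-- (b) ⇒ (i): let k be an algebraically closed field, G a linear algebraic group over k (an affine
smooth group scheme over k) and H a closed subgroup of G (a smooth closed subgroup scheme, i : H →
G), with H observable in G and k[G]^H finitely generated over the constants; let X = Spec k[G]^H and
φ : G → X the morphism given by the inclusion k[G]^H ⊆ k[G]. Then the image of φ (the orbit of the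
base point) is open in X and every point of X outside the image has codimension at least 2 (its
prime ideal has height ≥ 2). (The published statement also asserts that G/H maps isomorphically onto
the image, and that finite generation is equivalent to an orbit-closure condition in a
representation; neither is stated here.) -/
theorem result (k : Type u) [Field k] [IsAlgClosed k]
    (G : Over (Spec (CommRingCat.of k))) [GrpObj G] [IsAffine G.left] [Smooth G.hom]
    (H : Over (Spec (CommRingCat.of k))) [GrpObj H] [Smooth H.hom] (i : H ⟶ G) [IsMonHom i]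
    [IsClosedImmersion i.left]
    (hobs : AGF.IsObservableIn k i) (hfg : AGF.SubringFGOver k G (AGF.rTransInv i)) :
    IsOpen (Set.range ⇑(G.left.toSpecΓ ≫ Spec.map (CommRingCat.ofHom (AGF.rTransInv i).subtype)).base) ∧
      ∀ x : ↥(Spec (CommRingCat.of ↥(AGF.rTransInv i))),
        x ∉ Set.range ⇑(G.left.toSpecΓ ≫ Spec.map (CommRingCat.ofHom (AGF.rTransInv i).subtype)).base →
          (2 : ℕ∞) ≤ x.asIdeal.height := by
  classical
  haveI := finiteType_fn G
  haveI : IsNoetherianRing (Fn G) := Algebra.FiniteType.isNoetherianRing k _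
  haveI : IsReduced G.left := isReduced_of_smooth_field G.hom
  haveI : _root_.IsReduced (Fn G) := inferInstance
  let R := AGF.rTransInv i
  have hconst : ∀ c : k, algebraMap k (Fn G) c ∈ R := fun c =>
    (isRTransInv_iff i _).2 fun T g a => by rw [AlgHom.commutes, AlgHom.commutes]
  letI : Algebra k ↥R := ((algebraMap k (Fn G)).codRestrict R hconst).toAlgebra
  let inc : ↥R →ₐ[k] Fn G := { R.subtype with commutes' := fun c => rfl }
  haveI : Algebra.FiniteType k ↥R := by
    obtain ⟨s, hsR, hs⟩ := hfg
    refine ⟨⟨s.preimage inc Subtype.val_injective.injOn, eq_top_iff.mpr ?_⟩⟩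
    have himg : Subring.closure (Set.range (fun c : k => algebraMap k (Fn G) c) ∪ ↑s) ≤
        ((Algebra.adjoin k (↑(s.preimage inc Subtype.val_injective.injOn) : Set ↥R)).map inc).toSubring := by
      refine Subring.closure_le.mpr (Set.union_subset ?_ ?_)
      · rintro _ ⟨c, rfl⟩
        exact Subalgebra.algebraMap_mem _ c
      · intro f hf
        exact ⟨⟨f, hsR hf⟩, Algebra.subset_adjoin (Finset.mem_coe.mpr (Finset.mem_preimage.mpr hf)), rfl⟩
    intro r _
    obtain ⟨r', hr', he⟩ := himg (hs r.2)
    rwa [← Subtype.val_injective he]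
  haveI : IsNoetherianRing ↥R := Algebra.FiniteType.isNoetherianRing k _
  let X : Over (Spec (CommRingCat.of k)) := Over.mk (Spec.map (CommRingCat.ofHom (algebraMap k ↥R)))
  haveI : LocallyOfFiniteType X.hom := by
    show LocallyOfFiniteType (Spec.map (CommRingCat.ofHom (algebraMap k ↥R)))
    exact (HasRingHomProperty.Spec_iff (P := @LocallyOfFiniteType)).mpr (RingHom.finiteType_algebraMap.mpr ‹_›)
  haveI : IsAffine X.left := isAffine_Spec _
  let f : G ⟶ X := Over.homMk (G.left.toSpecΓ ≫ Spec.map (CommRingCat.ofHom R.subtype)) (by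
    show (G.left.toSpecΓ ≫ Spec.map (CommRingCat.ofHom R.subtype)) ≫ Spec.map (CommRingCat.ofHom (algebraMap k ↥R)) = G.hom
    rw [Category.assoc, ← Spec.map_comp]
    rw [show CommRingCat.ofHom (algebraMap k ↥R) ≫ CommRingCat.ofHom R.subtype =
      (Scheme.ΓSpecIso (CommRingCat.of k)).inv ≫ G.hom.appTop from rfl]
    rw [Spec.map_comp, ← Scheme.toSpecΓ_naturality_assoc, toSpecΓ_SpecMap_ΓSpecIso_inv, Category.comp_id])
  haveI : Nonempty G.left := ⟨(η[G] : 𝟙_ _ ⟶ G).left (IsLocalRing.closedPoint k)⟩
  have hrange : Set.range ⇑f.left = Set.range (PrimeSpectrum.comap R.subtype) := by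
    show Set.range ⇑(G.left.toSpecΓ ≫ Spec.map (CommRingCat.ofHom R.subtype)) = _
    haveI : IsIso G.left.toSpecΓ := IsAffine.affine
    rw [Scheme.Hom.comp_base, TopCat.coe_comp, Set.range_comp, G.left.toSpecΓ.surjective.range_eq, Set.image_univ]
    rfl
  have hopen : IsOpen (Set.range ⇑f.left) := by
    have hlc : IsLocallyClosed (Set.range ⇑f.left) := by
      refine isLocallyClosed_range_of_homogeneous (K := k) f fun w w' => ?_
      let z : VecGrp.pt k k ⟶ G := w' * w⁻¹
      have hmem : ∀ (y : VecGrp.pt k k ⟶ G) (r : ↥R), lT y (r : Fn G) ∈ R := fun y r =>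
        (isRTransInv_iff i _).2 fun T g h => by
          rw [ev_lT, ev_lT, ← _root_.mul_assoc]
          exact (isRTransInv_iff i _).1 r.2 T _ h
      let res : (VecGrp.pt k k ⟶ G) → (CommRingCat.of ↥R ⟶ CommRingCat.of ↥R) := fun y =>
        CommRingCat.ofHom (((lT y).toRingHom.comp R.subtype).codRestrict R (hmem y))
      have hres : ∀ y y', y * y' = 1 → res y ≫ res y' = 𝟙 _ := fun y y' h => CommRingCat.hom_ext (RingHom.ext fun r =>
        Subtype.ext (show ev ((toPt G ≫ y') * 𝟙 G) (lT y (r : Fn G)) = r by
          rw [ev_lT, ← _root_.mul_assoc, ← MonObj.comp_mul, h, MonObj.comp_one, _root_.one_mul, ev_id]))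
      have hTw : ∀ y, Spec.map (res y) ≫ X.hom = X.hom := fun y => by
        show Spec.map (res y) ≫ Spec.map (CommRingCat.ofHom (algebraMap k ↥R)) = Spec.map _
        rw [← Spec.map_comp]
        congr 1
        exact CommRingCat.hom_ext (RingHom.ext fun c => Subtype.ext ((lT y).commutes c))
      let T : X ≅ X :=
        { hom := Over.homMk (Spec.map (res z)) (hTw z)
          inv := Over.homMk (Spec.map (res z⁻¹)) (hTw z⁻¹)
          hom_inv_id := Over.OverMorphism.ext (by
            show Spec.map (res z) ≫ Spec.map (res z⁻¹) = 𝟙 _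
            rw [← Spec.map_comp, hres _ _ (inv_mul_cancel z), Spec.map_id]
            )
          inv_hom_id := Over.OverMorphism.ext (by
            show Spec.map (res z⁻¹) ≫ Spec.map (res z) = 𝟙 _
            rw [← Spec.map_comp, hres _ _ (mul_inv_cancel z), Spec.map_id]
            ) }
      let M : G ≅ G :=
        { hom := (toPt G ≫ z) * 𝟙 G
          inv := (toPt G ≫ z⁻¹) * 𝟙 G
          hom_inv_id := by
            rw [MonObj.comp_mul, ← Category.assoc, hom_pt_ext (_ ≫ toPt G), Category.comp_id, ← _root_.mul_assoc,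
              ← MonObj.comp_mul, inv_mul_cancel, MonObj.comp_one, _root_.one_mul]
          inv_hom_id := by
            rw [MonObj.comp_mul, ← Category.assoc, hom_pt_ext (_ ≫ toPt G), Category.comp_id, ← _root_.mul_assoc,
              ← MonObj.comp_mul, mul_inv_cancel, MonObj.comp_one, _root_.one_mul] }
      have hcomm : M.hom ≫ f = f ≫ T.hom := Over.OverMorphism.ext (by
        show M.hom.left ≫ G.left.toSpecΓ ≫ Spec.map (CommRingCat.ofHom R.subtype) =
          (G.left.toSpecΓ ≫ Spec.map (CommRingCat.ofHom R.subtype)) ≫ Spec.map (res z)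
        rw [Scheme.toSpecΓ_naturality_assoc, Category.assoc, ← Spec.map_comp, ← Spec.map_comp]
        rfl)
      refine ⟨whiskerRightIso M _, whiskerRightIso T _, ?_, ?_⟩
      · show M.hom ▷ _ ≫ f ▷ _ = f ▷ _ ≫ T.hom ▷ _
        rw [← comp_whiskerRight, ← comp_whiskerRight, hcomm]
      · show lift w (𝟙 _) ≫ M.hom ▷ _ = _
        rw [lift_whiskerRight]
        congr 1
        show w ≫ ((toPt G ≫ z) * 𝟙 G) = w'
        rw [MonObj.comp_mul, ← Category.assoc, Category.comp_id, hom_pt_ext (w ≫ toPt G)]
        erw [← hom_pt_ext (𝟙 (VecGrp.pt k k)), Category.id_comp]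
        exact inv_mul_cancel_right w' w
    have hd : DenseRange (PrimeSpectrum.comap R.subtype) :=
      (PrimeSpectrum.denseRange_comap_iff_ker_le_nilRadical R.subtype).mpr
        (by rw [(RingHom.injective_iff_ker_eq_bot _).mp Subtype.val_injective]; exact bot_le)
    have hcl : closure (Set.range ⇑f.left) = Set.univ := by
      rw [hrange]
      exact hd.closure_eq
    have h1 := coborder_inter_closure (s := Set.range ⇑f.left)
    rw [hcl, Set.inter_univ] at h1
    rw [← h1]
    exact hlc.isOpen_coborder
  refine ⟨hopen, fun x hx => ?_⟩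
  refine height_two R.subtype Subtype.val_injective (fun a b c ha hb => ?_) (hrange ▸ hopen)
    (fun h => hx (hrange ▸ h))
  refine ⟨⟨c, (isRTransInv_iff i c).2 fun T g h => ?_⟩, rfl⟩
  have hu := (isRTransInv_iff i _).1 a.2 (G ⊗ H) (fst G H) (snd G H)
  have hv := (isRTransInv_iff i _).1 b.2 (G ⊗ H) (fst G H) (snd G H)
  change ev _ (a : Fn G) = _ at hu
  change ev _ (b : Fn G) = _ at hv
  rw [show (b : Fn G) = (a : Fn G) * c from hb, map_mul, map_mul, hu] at hv
  have hflat : ev (fst G H) (a : Fn G) ∈ nonZeroDivisors (Fn (G ⊗ H)) := by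
    haveI : QuasiCompact H.hom := by
      haveI : IsAffine H.left := isAffine_of_isAffineHom i.left
      infer_instance
    haveI : IsSeparated H.hom := by
      haveI : IsAffine H.left := isAffine_of_isAffineHom i.left
      infer_instance
    haveI : Module.Free k (Fn H) := Module.Free.of_divisionRing _ _
    let e := AlgEquiv.ofBijective (toProd G H) (toProd_bijective G H)
    have he : ev (fst G H) (a : Fn G) = e ((a : Fn G) ⊗ₜ[k] 1) := by
      simp only [e, AlgEquiv.coe_ofBijective, toProd, Algebra.TensorProduct.lift_tmul, map_one, _root_.mul_one]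
    have hinj : Function.Injective ((LinearMap.mulLeft k (a : Fn G)).rTensor (Fn H)) :=
      Module.Flat.rTensor_preserves_injective_linearMap _ fun x y hxy =>
        (mul_cancel_left_mem_nonZeroDivisors ha).mp hxy
    have hmul : ∀ t, (LinearMap.mulLeft k (a : Fn G)).rTensor (Fn H) t = ((a : Fn G) ⊗ₜ[k] 1) * t := fun t => by
      induction t using TensorProduct.induction_on with
      | zero => simp
      | tmul x y => simp
      | add x y hx hy => simp only [map_add, hx, hy, mul_add]
    refine mem_nonZeroDivisors_iff_right.mpr fun y hy => ?_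
    obtain ⟨t, rfl⟩ := e.surjective y
    rw [he, ← map_mul, map_eq_zero_iff e e.injective, _root_.mul_comm, ← hmul] at hy
    rw [show t = 0 from hinj (by rw [hy, map_zero]), map_zero]
  have hc := (mul_cancel_left_mem_nonZeroDivisors hflat).mp hv
  have hc2 := congrArg (ev (lift g h)) hc
  rw [ev_ev, ev_ev, MonObj.comp_mul, lift_fst, lift_snd_assoc] at hc2
  exact hc2

end Groth.Agent.S11216
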