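import Groth.Statements.S11217


set_option autoImplicit false
universe u
open CategoryTheory MonoidalCategory CartesianMonoidalCategory MonObj GrpObj AlgebraicGeometry
open scoped TensorProduct
open AGF

namespace Groth.Agent.S11217

/-- Let k be a field of characteristic zero and m ≥ 2; in the polynomial ring k[x, y, z, s, t, u, v]
(variables 0, …, 6) let δ be the k-derivation with δ(x) = δ(y) = δ(z) = 0, δ(s) = x^(m+1), δ(t) =
y^(m+1), δ(u) = z^(m+1), δ(v) = (xyz)^m, and grade by total degree in s, t, u, v. If f is
homogeneous of degree n ≥ 1 for this grading and δ(f) = 0, then every coefficient of f, as a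
polynomial in s, t, u, v over k[x, y, z], lies in the ideal (x, y, z): every monomial of f has
positive degree in x, y, z. (The published statement allows n = 0, where the constant 1 is a
counterexample; this row assumes n ≥ 1. The published definition of the derivation gives δ(v) =
(xyz)^(m+1), for which the assertion fails: v − (yz)^(m+1)·s is killed by δ and has the monomial v
with coefficient 1; this row uses δ(v) = (xyz)^m, the exponent of the published action formula and
of the published examples of invariants.) -/
theorem result (k : Type u) [Field k] [CharZero k] (m : ℕ) (hm : 2 ≤ m) (n : ℕ) (hn : 1 ≤ n)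
    (f : MvPolynomial (Fin 7) k)
    (hf : MvPolynomial.IsWeightedHomogeneous (![0, 0, 0, 1, 1, 1, 1] : Fin 7 → ℕ) f n)
    (hδ : MvPolynomial.mkDerivation k
      (![0, 0, 0, MvPolynomial.X 0 ^ (m + 1), MvPolynomial.X 1 ^ (m + 1), MvPolynomial.X 2 ^ (m + 1),
        (MvPolynomial.X 0 * MvPolynomial.X 1 * MvPolynomial.X 2) ^ m] : Fin 7 → MvPolynomial (Fin 7) k) f = 0) :
    ∀ d ∈ f.support, 0 < d 0 + d 1 + d 2 := by
  classical
  intro d hd
  by_contra hc
  have hd0 : d 0 = 0 := by omega
  have hd1 : d 1 = 0 := by omega
  have hd2 : d 2 = 0 := by omega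
  have hdc : MvPolynomial.coeff d f ≠ 0 := MvPolynomial.mem_support_iff.mp hd
  set g : Fin 7 → MvPolynomial (Fin 7) k :=
    ![0, 0, 0, MvPolynomial.X 0 ^ (m + 1), MvPolynomial.X 1 ^ (m + 1), MvPolynomial.X 2 ^ (m + 1),
      (MvPolynomial.X 0 * MvPolynomial.X 1 * MvPolynomial.X 2) ^ m] with hg
  have hD : MvPolynomial.mkDerivation k g f = ∑ i, g i * MvPolynomial.pderiv i f := by
    suffices ∀ p, MvPolynomial.mkDerivation k g p = ∑ i, g i * MvPolynomial.pderiv i p from this f
    intro p
    induction p using MvPolynomial.induction_on with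
    | C r => simp
    | add p q hp hq => simp [map_add, hp, hq, mul_add, Finset.sum_add_distrib]
    | mul_X p j hp =>
      rw [Derivation.leibniz, MvPolynomial.mkDerivation_X, hp]
      simp only [smul_eq_mul, MvPolynomial.pderiv_mul, mul_add, Finset.sum_add_distrib]
      rw [Finset.sum_eq_single (f := fun i => g i * (p * MvPolynomial.pderiv i (MvPolynomial.X j))) j
        (fun b _ hb => by simp [MvPolynomial.pderiv_X_of_ne hb.symm]) (by simp)]
      rw [MvPolynomial.pderiv_X_self, Finset.mul_sum]
      rw [add_comm]
      congr 1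
      · exact Finset.sum_congr rfl fun i _ => by ring
      · ring
  rw [hδ] at hD
  let a : Fin 7 → (Fin 7 →₀ ℕ) := ![0, 0, 0, Finsupp.single 0 (m + 1), Finsupp.single 1 (m + 1),
    Finsupp.single 2 (m + 1), Finsupp.single 0 m + Finsupp.single 1 m + Finsupp.single 2 m]
  have hga : ∀ i : Fin 7, g i = if i.1 < 3 then 0 else MvPolynomial.monomial (a i) 1 := by
    intro i
    fin_cases i <;>
      simp [hg, a, MvPolynomial.X_pow_eq_monomial, mul_pow, MvPolynomial.monomial_mul]
  have hsep : ∀ i l : Fin 7, 3 ≤ i.1 → 3 ≤ l.1 → i ≠ l → ∃ c : Fin 7, c.1 < 3 ∧ a l c < a i c := by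
    intro i l hi hl hil
    fin_cases i <;> fin_cases l <;>
      first
        | (simp at hi; done)
        | (simp at hl; done)
        | exact absurd rfl hil
        | (refine ⟨0, by decide, ?_⟩; simp [a, Finsupp.single_apply] <;> omega; done)
        | (refine ⟨1, by decide, ?_⟩; simp [a, Finsupp.single_apply] <;> omega; done)
        | (refine ⟨2, by decide, ?_⟩; simp [a, Finsupp.single_apply] <;> omega; done)
  obtain ⟨l, hl, hdl⟩ : ∃ l : Fin 7, 3 ≤ l.1 ∧ 0 < d l := by
    by_contra h
    push_neg at h
    have hz : ∀ i : Fin 7, d i = 0 := by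
      intro i
      fin_cases i <;> first | assumption | exact Nat.le_zero.mp (h _ (by decide))
    have hw := hf hdc
    rw [show d = 0 from Finsupp.ext hz, map_zero] at hw
    omega
  have hdl' : Finsupp.single l 1 ≤ d := by
    rw [Finsupp.single_le_iff]; exact hdl
  have he := congrArg (MvPolynomial.coeff (a l + (d - Finsupp.single l 1))) hD
  rw [MvPolynomial.coeff_zero, MvPolynomial.coeff_sum, Finset.sum_eq_single l] at he
  · rw [hga l, if_neg (by omega), MvPolynomial.coeff_monomial_mul', if_pos le_self_add,
      add_tsub_cancel_left, MvPolynomial.coeff_pderiv, tsub_add_cancel_of_le hdl', _root_.one_mul] at he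
    rcases mul_eq_zero.mp he.symm with h | h
    · exact hdc h
    · exact Nat.cast_add_one_ne_zero _ h
  · intro i _ hil
    rw [hga i]
    split_ifs with hi
    · rw [zero_mul, MvPolynomial.coeff_zero]
    obtain ⟨c, hc3, hc'⟩ := hsep i l (by omega) hl hil
    rw [MvPolynomial.coeff_monomial_mul', if_neg]
    intro hle
    have := hle c
    have hdc0 : (d - Finsupp.single l 1 : Fin 7 →₀ ℕ) c = 0 := by
      rw [Finsupp.tsub_apply]
      have : d c = 0 := by fin_cases c <;> first | assumption | (exfalso; simp at hc3)
      omega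
    rw [Finsupp.add_apply, hdc0] at this
    omega
  · simp

end Groth.Agent.S11217
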