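import Groth.Statements.S11219
import Groth.Agent.AGFLib.InvIdeal
import Groth.Agent.GrpSchLib.HomogeneousQuot
import Groth.Agent.GrpSchLib.UnitsScheme
-- import your own Groth.Agent.* helpers here

set_option autoImplicit false
universe u
open CategoryTheory MonoidalCategory CartesianMonoidalCategory MonObj GrpObj AlgebraicGeometry
open scoped TensorProduct
open AGF

namespace Groth.Agent.S11219

set_option backward.isDefEq.respectTransparency false
set_option backward.isDefEq.respectTransparency.types false

open Groth.Agent.GrpSchLib Groth.Agent.GrpSchLib.Kunneth Groth.Agent.AGFLib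

/-- Let k be an algebraically closed field, G a linear algebraic group over k (an affine smooth group
scheme over k) and H a closed subgroup of G (a smooth closed subgroup scheme, i : H → G), with G
connected. Then H is observable in G if and only if every right-H-invariant rational function on G
is a quotient of two right-H-invariant global functions: whenever global functions a, b with b ≠ 0
satisfy a(xh)·b(x) = a(x)·b(xh) on G × H, there are right-H-invariant global functions a′, b′ with
b′ ≠ 0 and a·b′ = a′·b. (The published condition concerns the identity component of G and its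
intersection with H; for connected G it reads as stated.) -/
theorem result (k : Type u) [Field k] [IsAlgClosed k]
    (G : Over (Spec (CommRingCat.of k))) [GrpObj G] [IsAffine G.left] [Smooth G.hom]
    (H : Over (Spec (CommRingCat.of k))) [GrpObj H] [Smooth H.hom] (i : H ⟶ G) [IsMonHom i]
    [IsClosedImmersion i.left] [ConnectedSpace G.left] :
    AGF.IsObservableIn k i ↔
      ∀ a b : Γ(G.left, ⊤), b ≠ 0 →
        ((G ◁ i) ≫ μ[G]).left.appTop a * (fst G H).left.appTop b = (fst G H).left.appTop a * ((G ◁ i) ≫ μ[G]).left.appTop b →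
        ∃ a' b' : Γ(G.left, ⊤), AGF.IsRTransInv i a' ∧ AGF.IsRTransInv i b' ∧ b' ≠ 0 ∧ a * b' = a' * b := by
  haveI : IsAffine H.left := isAffine_of_isAffineHom i.left
  haveI : IsIntegral G.left := isIntegral_grp G
  haveI : Nonempty (⊤ : G.left.Opens) := ⟨⟨Classical.arbitrary G.left, trivial⟩⟩
  haveI : IsDomain (Fn G) := inferInstanceAs (IsDomain Γ(G.left, ⊤))
  have rT_inj : ∀ z : VecGrp.pt k k ⟶ G, Function.Injective (rT z) := fun z =>
    Function.LeftInverse.injective (g := rT z⁻¹) fun f => by
      rw [rT_mul, inv_mul_cancel, rT, MonObj.comp_one, _root_.mul_one, ev_id]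
  constructor
  · intro hobs a b hb0 hab
    have key : ∀ x : VecGrp.pt k k ⟶ H, rT (x ≫ i) a * b = a * rT (x ≫ i) b := fun x => by
      have h1 := congrArg (ev (lift (𝟙 G) (toPt G ≫ x)))
        (show ev ((G ◁ i) ≫ μ[G]) a * ev (fst G H) b = ev (fst G H) a * ev ((G ◁ i) ≫ μ[G]) b from hab)
      rw [map_mul, map_mul, ev_ev, ev_ev, ev_ev, ev_ev, AGFLib.comp_translate, lift_fst, lift_snd_assoc, Category.assoc] at h1
      simpa only [rT, ev_id] using h1
    let J : Ideal (Fn G) :=
      { carrier := {c | b ∣ c * a}
        add_mem' := fun hc hc' => by rw [Set.mem_setOf_eq, add_mul]; exact dvd_add hc hc'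
        zero_mem' := by simp
        smul_mem' := fun r c hc => by rw [Set.mem_setOf_eq, smul_eq_mul, _root_.mul_assoc]; exact dvd_mul_of_dvd_right hc r }
    have hJ : ∀ (x : VecGrp.pt k k ⟶ H), ∀ c ∈ J, rT (x ≫ i) c ∈ J := by
      intro x c hc
      obtain ⟨d, hd⟩ := hc
      refine ⟨rT (x ≫ i) d, mul_left_cancel₀ (a := rT (x ≫ i) b) ((map_ne_zero_iff _ (rT_inj _)).mpr hb0) ?_⟩
      have h1 := congrArg (rT (x ≫ i)) hd
      rw [map_mul, map_mul] at h1
      linear_combination b * h1 - rT (x ≫ i) c * key x
    obtain ⟨P, hP, ⟨d, hd⟩, hP0⟩ := exists_inv_mem i hobs J hJ b ⟨a, rfl⟩ (mem_nonZeroDivisors_of_ne_zero hb0)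
    refine ⟨d, P, isRTransInv_of_pts i d fun x => ?_, hP, hP0, by rw [_root_.mul_comm, hd, _root_.mul_comm]⟩
    have h1 := congrArg (rT (x ≫ i)) hd
    rw [map_mul, map_mul, rT_of_isRTransInv hP] at h1
    refine mul_left_cancel₀ (a := rT (x ≫ i) b * b) (mul_ne_zero ((map_ne_zero_iff _ (rT_inj _)).mpr hb0) hb0) ?_
    linear_combination -b * h1 + P * key x + rT (x ≫ i) b * hd
  · intro hfrac g hg
    obtain ⟨n, z, α, -, hz⟩ := HomogeneousQuot.exists_vec G H i
    have hrat : ∀ l q, rT g (z l) * z q = z l * rT g (z q) := fun l q => by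
      by_cases hq : z q = 0
      · simp [hq]
      have hu : ev ((G ◁ i) ≫ μ[G]) (z l) * ev (fst G H) (z q) = ev (fst G H) (z l) * ev ((G ◁ i) ≫ μ[G]) (z q) := by
        have := (hz _ (fst G H) ((G ◁ i) ≫ μ[G])).2 ⟨snd G H, by
          rw [← Category.id_comp ((G ◁ i) ≫ μ[G]), AGFLib.comp_translate, Category.id_comp, Category.id_comp,
            inv_mul_cancel_left]⟩ l q
        linear_combination -this
      obtain ⟨a', b', ha', hb', hb0, he⟩ := hfrac (z l) (z q) hq hu
      have h1 := congrArg (rT g) he
      rw [map_mul, map_mul, show rT g a' = a' from (isRTransInv_pt_iff g a').1 (hg _ ha'),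
        show rT g b' = b' from (isRTransInv_pt_iff g b').1 (hg _ hb')] at h1
      refine mul_left_cancel₀ hb0 ?_
      linear_combination z q * h1 - rT g (z q) * he
    obtain ⟨h, hh⟩ := (hz _ 1 g).1 fun l q => by
      have := congrArg (ev (1 : VecGrp.pt k k ⟶ G)) (hrat l q)
      rw [map_mul, map_mul, ev_rT, ev_rT, _root_.one_mul, ← hom_pt_ext (𝟙 _), Category.id_comp] at this
      linear_combination -this
    exact ⟨h, by rw [← hh, _root_.inv_one, _root_.one_mul]⟩

end Groth.Agent.S11219
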