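import Groth.Statements.S11221
import Mathlib.RingTheory.Ideal.Height
import Mathlib.RingTheory.Ideal.KrullsHeightTheorem
import Mathlib.RingTheory.Ideal.MinimalPrime.Localization
import Mathlib.RingTheory.Artinian.Ring
import Mathlib.RingTheory.KrullDimension.Zero


set_option autoImplicit false
universe u
open CategoryTheory MonoidalCategory CartesianMonoidalCategory MonObj GrpObj AlgebraicGeometry
open scoped TensorProduct
open AGF

namespace Groth.Agent.S11221

/-- Let R be a Noetherian integrally closed domain with fraction field K and let p be a prime ideal of R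
of height one. Then there is f ∈ K which is not in R but lies in the local ring R_q ⊆ K of every
height-one prime q ≠ p (f = a/b with b ∉ q): a rational function on Spec R with a pole along V(p)
only. (The published statement is for the coordinate ring of a normal affine variety; this row is
for any Noetherian integrally closed domain, which is all the argument uses.) -/
theorem result (R : Type u) [CommRing R] [IsDomain R] [IsNoetherianRing R] [IsIntegrallyClosed R]
    (p : Ideal R) [p.IsPrime] (hp : p.height = 1) :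
    ∃ f : FractionRing R, f ∉ Set.range ⇑(algebraMap R (FractionRing R)) ∧
      ∀ q : Ideal R, q.IsPrime → q.height = 1 → q ≠ p →
        ∃ a b : R, b ∉ q ∧ f * algebraMap R (FractionRing R) b = algebraMap R (FractionRing R) a := by
  classical
  obtain ⟨x, hxp, hx0⟩ := Submodule.exists_mem_ne_zero_of_ne_bot
    (show p ≠ ⊥ by rintro rfl; simp at hp)
  let P : Set (Ideal R) := {q | q.IsPrime ∧ q.height = 1 ∧ q ≠ p ∧ x ∈ q}
  have hmin : ∀ q ∈ P, q ∈ (Ideal.span {x}).minimalPrimes := by
    rintro q ⟨hq, h1, -, hxq⟩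
    obtain ⟨q', hq', hle⟩ := Ideal.exists_minimalPrimes_le (J := q) ((Ideal.span_singleton_le_iff_mem q).2 hxq)
    haveI := hq'.1.1
    rcases hle.lt_or_eq with hlt | rfl
    · exfalso
      have hq'0 : q' ≠ ⊥ := fun h => hx0 (by simpa [h] using hq'.1.2 (Ideal.mem_span_singleton_self x))
      have h2 : (⊥ : Ideal R).height < q'.height :=
        Ideal.height_strict_mono_of_isPrime_of_isPrime (bot_lt_iff_ne_bot.2 hq'0)
      have h3 := Ideal.height_strict_mono_of_isPrime_of_isPrime hlt
      rw [h1] at h3
      exact absurd (h2.trans_le (ENat.lt_one_iff_eq_zero.1 h3).le) not_lt_zero'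
    · exact hq'
  have hPf : P.Finite := (Ideal.finite_minimalPrimes_of_isNoetherianRing R _).subset hmin
  have hloc : ∀ q ∈ P, ∃ n : ℕ, ∀ y ∈ q ^ n, ∃ a c : R, c ∉ q ∧ c * y = x * a := by
    intro q hq
    haveI := hq.1
    obtain ⟨n, hn⟩ : ∃ n, (IsLocalRing.maximalIdeal (Localization.AtPrime q)) ^ n ≤
        Ideal.span {algebraMap R (Localization.AtPrime q) x} := by
      refine Ideal.exists_pow_le_of_le_radical_of_fg ?_ (IsNoetherian.noetherian _)
      rw [← Set.image_singleton, ← Ideal.map_span,
        IsLocalization.AtPrime.radical_map_of_mem_minimalPrimes (Localization.AtPrime q) q _ (hmin q hq),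
        Localization.AtPrime.map_eq_maximalIdeal]
    refine ⟨n, fun y hy => ?_⟩
    have hy' : algebraMap R (Localization.AtPrime q) y ∈ Ideal.span {algebraMap R (Localization.AtPrime q) x} :=
      hn (by rw [← Localization.AtPrime.map_eq_maximalIdeal, ← Ideal.map_pow]; exact Ideal.mem_map_of_mem _ hy)
    obtain ⟨z, hz⟩ := Ideal.mem_span_singleton'.1 hy'
    obtain ⟨a, c, rfl⟩ := IsLocalization.exists_mk'_eq q.primeCompl z
    refine ⟨a, c, c.2, IsLocalization.injective (Localization.AtPrime q) q.primeCompl_le_nonZeroDivisors ?_⟩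
    rw [map_mul, map_mul, ← hz, mul_comm _ (algebraMap R _ x), ← _root_.mul_assoc, mul_comm (algebraMap R _ (c : R)), _root_.mul_assoc,
      IsLocalization.mk'_spec']
  choose n hn using hloc
  let I : Ideal R := ∏ q ∈ hPf.toFinset.attach, q.1 ^ n q.1 (hPf.mem_toFinset.1 q.2)
  have hI : ¬ I ≤ p := by
    intro h
    obtain ⟨q, -, hq⟩ := (Ideal.IsPrime.prod_le ‹_›).1 h
    obtain ⟨hqp, h1, hne, -⟩ := hPf.mem_toFinset.1 q.2
    haveI := hqp
    have hle : q.1 ≤ p := Ideal.IsPrime.le_of_pow_le hq
    rcases hle.lt_or_eq with hlt | he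
    · have := Ideal.height_strict_mono_of_isPrime hlt
      rw [h1, hp] at this
      exact lt_irrefl _ this
    · exact hne he
  obtain ⟨b, hbI, hbp⟩ := SetLike.not_le_iff_exists.1 hI
  have hx' : algebraMap R (FractionRing R) x ≠ 0 := by simpa using hx0
  refine ⟨algebraMap R _ b / algebraMap R _ x, ?_, fun q hq h1 hne => ?_⟩
  · rintro ⟨r, hr⟩
    rw [eq_div_iff hx', ← map_mul] at hr
    exact hbp ((IsFractionRing.injective R (FractionRing R) hr) ▸ p.mul_mem_left r hxp)
  · by_cases hxq : x ∈ q
    · have hqP : q ∈ P := ⟨hq, h1, hne, hxq⟩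
      have hb : b ∈ q ^ n q hqP :=
        (Ideal.prod_le_inf.trans (Finset.inf_le (Finset.mem_attach _ ⟨q, hPf.mem_toFinset.2 hqP⟩))) hbI
      obtain ⟨a, c, hc, hca⟩ := hn q hqP b hb
      refine ⟨a, c, hc, ?_⟩
      rw [div_mul_eq_mul_div, div_eq_iff hx', ← map_mul, ← map_mul, mul_comm b c, hca, mul_comm]
    · exact ⟨b, x, hxq, div_mul_cancel₀ _ hx'⟩

end Groth.Agent.S11221
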