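import Groth.Statements.S11223
import Mathlib

set_option autoImplicit false
universe u
open CAlg

namespace Groth.Agent.S11223

/-- Let k be a field, let z_1, ..., z_m be homogeneous polynomials of positive degree in the polynomial
ring k[x_1, ..., x_n], and suppose the radical of the ideal (z_1, ..., z_m) is the ideal (x_1, ...,
x_n) generated by the variables. Then the polynomial ring is integral over the subalgebra generated
by z_1, ..., z_m. (The published statement is over an algebraically closed field; this row takes any
field, which its proof allows.) -/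
theorem result (k : Type u) [Field k] (n m : ℕ)
    (z : Fin m → MvPolynomial (Fin n) k) (d : Fin m → ℕ) (hd : ∀ i, 0 < d i)
    (hz : ∀ i, (z i).IsHomogeneous (d i))
    (hrad : (Ideal.span (Set.range z)).radical =
      Ideal.span (Set.range (MvPolynomial.X : Fin n → MvPolynomial (Fin n) k))) :
    Algebra.IsIntegral (Algebra.adjoin k (Set.range z)) (MvPolynomial (Fin n) k) := by
  classical
  let T := Algebra.adjoin k (Set.range z)
  let I := Ideal.span (Set.range z)
  obtain ⟨N, hN⟩ := Ideal.exists_pow_le_of_le_radical_of_fg (I := Ideal.span (Set.range (MvPolynomial.X : Fin n → MvPolynomial (Fin n) k)))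
    (J := I) hrad.ge (Submodule.fg_span (Set.finite_range _))
  have hmon : ∀ m : Fin n →₀ ℕ, N ≤ m.degree → MvPolynomial.monomial m (1 : k) ∈ I := by
    intro m hm
    apply hN
    refine Ideal.pow_le_pow_right hm ?_
    rw [MvPolynomial.monomial_eq, map_one, one_mul, show m.degree = ∑ i ∈ m.support, m i from rfl,
      ← Finset.prod_pow_eq_pow_sum, Finsupp.prod]
    exact Ideal.prod_mem_prod fun i _ => Ideal.pow_mem_pow (Ideal.subset_span (Set.mem_range_self i)) _
  let B : Set (MvPolynomial (Fin n) k) :=
    Set.range fun e : Fin n → Fin (N + 1) => MvPolynomial.monomial (Finsupp.equivFunOnFinite.symm fun i => (e i : ℕ)) 1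
  let Msp := Submodule.span T B
  have hsmall : ∀ m : Fin n →₀ ℕ, m.degree < N → MvPolynomial.monomial m (1 : k) ∈ Msp := by
    intro m hm
    refine Submodule.subset_span ⟨fun i => ⟨m i, ?_⟩, ?_⟩
    · have := Finsupp.le_degree i m
      omega
    · simp
  have main : ∀ D, ∀ m : Fin n →₀ ℕ, m.degree = D → MvPolynomial.monomial m (1 : k) ∈ Msp := by
    intro D
    induction D using Nat.strong_induction_on with
    | _ D ih =>
      intro m hm
      by_cases hDN : D < N
      · exact hsmall m (hm ▸ hDN)
      obtain ⟨g, hg⟩ := (Ideal.mem_span_range_iff_exists_fun).1 (hmon m (by omega))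
      have hhom : MvPolynomial.homogeneousComponent D (MvPolynomial.monomial m (1 : k)) = MvPolynomial.monomial m 1 := by
        rw [MvPolynomial.homogeneousComponent_of_mem (MvPolynomial.isHomogeneous_monomial 1 hm), if_pos rfl]
      rw [← hhom, ← hg, map_sum]
      refine Submodule.sum_mem _ fun i _ => ?_
      rw [(g i).as_sum, Finset.sum_mul, map_sum]
      refine Submodule.sum_mem _ fun a _ => ?_
      rw [MvPolynomial.homogeneousComponent_of_mem ((MvPolynomial.isHomogeneous_monomial _ rfl).mul (hz i))]
      split
      · rename_i hD
        have h1 := ih a.degree (by have := hd i; omega) a rfl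
        have e : MvPolynomial.monomial a (MvPolynomial.coeff a (g i)) * z i =
            ((⟨MvPolynomial.C (MvPolynomial.coeff a (g i)) * z i,
              T.mul_mem (T.algebraMap_mem _) (Algebra.subset_adjoin ⟨i, rfl⟩)⟩ : T)) • MvPolynomial.monomial a (1 : k) := by
          change _ = (MvPolynomial.C (MvPolynomial.coeff a (g i)) * z i) * MvPolynomial.monomial a (1 : k)
          rw [mul_right_comm, MvPolynomial.C_mul_monomial, mul_one]
        rw [e]
        exact Submodule.smul_mem _ _ h1
      · exact Msp.zero_mem
  haveI : Module.Finite T (MvPolynomial (Fin n) k) := by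
    refine ⟨⟨(show B.Finite from Set.finite_range _).toFinset, ?_⟩⟩
    rw [Set.Finite.coe_toFinset, eq_top_iff]
    intro p _
    rw [p.as_sum]
    refine Submodule.sum_mem _ fun m _ => ?_
    have e : MvPolynomial.monomial m (MvPolynomial.coeff m p) =
        ((⟨MvPolynomial.C (MvPolynomial.coeff m p), T.algebraMap_mem _⟩ : T)) • MvPolynomial.monomial m (1 : k) := by
      change _ = MvPolynomial.C (MvPolynomial.coeff m p) * MvPolynomial.monomial m (1 : k)
      rw [MvPolynomial.C_mul_monomial, mul_one]
    rw [e]
    exact Submodule.smul_mem _ _ (main _ m rfl)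
  exact Algebra.IsIntegral.of_finite T _


end Groth.Agent.S11223
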