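import Groth.Statements.S11224
import Groth.Agent.Grosshans27.Bridge
-- import your own Groth.Agent.* helpers here

set_option autoImplicit false
universe u
open CategoryTheory MonoidalCategory CartesianMonoidalCategory MonObj GrpObj AlgebraicGeometry
open scoped TensorProduct
open AGF

namespace Groth.Agent.S11224

open Groth.Agent Groth.Agent.Grosshans27

set_option backward.isDefEq.respectTransparency false
set_option backward.isDefEq.respectTransparency.types false

/-- Let k be an algebraically closed field, G a linear algebraic group over k (affine, smooth) whose
identity component is reductive, B a Borel subgroup of G and U the unipotent radical of B (a maximal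
unipotent subgroup of G). Assume that invariants of reductive groups over k on finitely generated
algebras are finitely generated (a true result which the published text assumes without proof,
carried here as a hypothesis). Then a rational G-module V is finite-dimensional if and only if its
subspace of U-invariants V^U is finite-dimensional. -/
theorem result (k : Type u) [Field k] [IsAlgClosed k]
    (G : Over (Spec (CommRingCat.of k))) [GrpObj G] (hG : VecGrp.IsReductiveGrp k G)
    (Bo : Over (Spec (CommRingCat.of k))) [GrpObj Bo] (iB : Bo ⟶ G) (hB : Red.IsBorelOver k iB)
    (U : Over (Spec (CommRingCat.of k))) [GrpObj U] (u : U ⟶ Bo) (hU : Par.IsUnipotentRadical u)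
    (thmA : VecGrp.ReductiveInvariantsFG k)
    (V : Type u) [AddCommGroup V] [Module k V] (ρ : VecGrp.GMod G V) :
    Module.Finite k V ↔ Module.Finite k ↥(ρ.fixedUnder (u ≫ iB)) := by
  haveI := hG.1
  haveI := hG.2.1
  obtain ⟨G₀, _, _, _, _, jG, _, Γ, O, hfix⟩ := exists_setup hG iB hB u hU
  refine ⟨fun h => inferInstance, fun h => ?_⟩
  have e : ρ.fixedUnder (u ≫ iB) = (⊤ : Submodule k V) ⊓ Opp.fixV (repOf ρ jG) Γ := by
    rw [top_inf_eq]
    exact SetLike.ext fun v => (hfix V ρ v).symm
  rw [e] at h
  haveI := O.finite_of_fixV (isRat_repOf ρ jG) ⊤ (fun _ _ _ => trivial) h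
  exact Module.Finite.equiv (Submodule.topEquiv (R := k) (M := V))

end Groth.Agent.S11224
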