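import Groth.Statements.S11228
import Groth.Agent.Grosshans27.Restrict
import Groth.Agent.Grosshans27.Main
-- import your own Groth.Agent.* helpers here

set_option autoImplicit false
universe u
open CategoryTheory MonoidalCategory CartesianMonoidalCategory MonObj GrpObj AlgebraicGeometry
open scoped TensorProduct
open AGF

namespace Groth.Agent.S11228

open Groth.Agent Groth.Agent.Grosshans27

set_option backward.isDefEq.respectTransparency false
set_option backward.isDefEq.respectTransparency.types false
set_option maxHeartbeats 1000000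


/-- Let k an algebraically closed field, G a linear algebraic group over k (affine, smooth) whose
identity component is reductive, B a Borel subgroup of G with unipotent radical U (a maximal
unipotent subgroup). Assume finite generation of invariants of reductive groups over k on finitely
generated algebras (a true result which the published text assumes without proof, carried here as a
hypothesis). Let A be a commutative k-algebra with a rational action of G by algebra automorphisms
and let G·A^U be the intersection of all G-stable subalgebras of A containing the invariants A^U.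
Then A is integral over G·A^U. -/
theorem result (k : Type u) [Field k] [IsAlgClosed k]
    (G : Over (Spec (CommRingCat.of k))) [GrpObj G] (hG : VecGrp.IsReductiveGrp k G)
    (Bo : Over (Spec (CommRingCat.of k))) [GrpObj Bo] (iB : Bo ⟶ G) (hB : Red.IsBorelOver k iB)
    (U : Over (Spec (CommRingCat.of k))) [GrpObj U] (u : U ⟶ Bo) (hU : Par.IsUnipotentRadical u)
    (thmA : VecGrp.ReductiveInvariantsFG k)
    (A : Type u) [CommRing A] [Algebra k A] (ρ : VecGrp.GMod G A) (hρ : ρ.IsMult) :
    Algebra.IsIntegral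
      ↥(sInf {S : Subalgebra k A | ρ.fixedUnder (u ≫ iB) ≤ Subalgebra.toSubmodule S ∧
        ρ.IsStable (𝟙 G) (Subalgebra.toSubmodule S)}) A := by
  classical
  haveI := hG.1
  haveI := hG.2.1
  haveI := hB.1
  haveI := hU.1
  haveI := hU.2.1
  haveI := hB.2.1
  haveI : IsAffine Bo.left := isAffine_of_isAffineHom iB.left
  haveI : IsAffine U.left := isAffine_of_isAffineHom u.left
  haveI : Smooth U.hom := hU.2.2.2.1
  set C := sInf {S : Subalgebra k A | ρ.fixedUnder (u ≫ iB) ≤ Subalgebra.toSubmodule S ∧
    ρ.IsStable (𝟙 G) (Subalgebra.toSubmodule S)} with hC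
  refine ⟨fun v => ?_⟩
  -- a finitely generated stable subalgebra around the element
  obtain ⟨S, hS, hSmem⟩ := S11241.exists_finite_orbit ρ v
  haveI := hS
  let W : Submodule k A := Submodule.span k (Set.range fun g => S11241.act ρ g v)
  haveI : Module.Finite k W := Submodule.finiteDimensional_of_le
    (Submodule.span_le.mpr (by rintro _ ⟨g, rfl⟩; exact hSmem g) : W ≤ S)
  obtain ⟨b, hb⟩ := (Module.Finite.iff_fg.mp (inferInstance : Module.Finite k W))
  let L : Subalgebra k A := Algebra.adjoin k (b : Set A)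
  have hWL : W ≤ Subalgebra.toSubmodule L := hb ▸ Submodule.span_le.mpr fun z hz => Algebra.subset_adjoin hz
  have hL : ∀ g, ∀ z ∈ L, S11241.act ρ g z ∈ L := fun g z hz => by
    induction hz using Algebra.adjoin_induction with
    | mem z hz =>
      exact hWL (map_orbitSpan (S11241.act ρ) v g (hb ▸ Submodule.subset_span hz : z ∈ W))
    | algebraMap r =>
      rw [Algebra.algebraMap_eq_smul_one, map_smul, act_one hρ, ← Algebra.algebraMap_eq_smul_one]
      exact L.algebraMap_mem r
    | add x y _ _ hx hy => rw [map_add]; exact L.add_mem hx hy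
    | mul x y _ _ hx hy => rw [act_mul hρ]; exact L.mul_mem hx hy
  haveI : Algebra.FiniteType k L := (Subalgebra.fg_iff_finiteType L).mp ⟨b, rfl⟩
  let ρ₀ := (subAct ρ hρ L hL).gmod
  have hρ₀ : ρ₀.IsMult := (subAct ρ hρ L hL).isMult
  haveI : Algebra.FiniteType k ↥(ρ₀.fixedSubalgebra hρ₀ (u ≫ iB)) :=
    finiteType_fixed (u ≫ iB) ρ₀ hρ₀ hG thmA (fg_general iB hB u hU)
  obtain ⟨s, hs⟩ := (Subalgebra.fg_iff_finiteType (ρ₀.fixedSubalgebra hρ₀ (u ≫ iB))).mpr inferInstance
  obtain ⟨G₀, _, _, _, _, jG, _, Γ, O, hfix⟩ := exists_setup hG iB hB u hU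
  let C₀ : Subalgebra k L := C.comap L.val
  have hC₀ : ∀ a ∈ s, ∀ g, repOf ρ₀ jG g a ∈ C₀ := fun a ha g => by
    show (S11241.act ρ₀ (g ≫ jG) a : A) ∈ C
    rw [act_subAct ρ hρ hL, hC, Algebra.mem_sInf]
    exact fun S hS => act_mem_of_isStable ρ hS.2 _
      (hS.1 ((mem_fixed_subAct ρ hρ hL (u ≫ iB) a).mp (hs.le (Algebra.subset_adjoin ha))))
  haveI : Module.Finite C₀ L := O.finite_over_gens (isRat_repOf ρ₀ jG) (isAlgRep_repOf hρ₀ jG) s
    (fun a ha => (hfix L ρ₀ a).mpr (hs.le (Algebra.subset_adjoin ha)))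
    (fun x hx => hs.ge ((hfix L ρ₀ x).mp hx)) C₀ hC₀
  obtain ⟨P, hPm, hP⟩ := Algebra.IsIntegral.isIntegral (R := C₀) (⟨v, hWL (mem_orbitSpan _ v)⟩ : L)
  let φ : C₀ →+* C :=
    { toFun := fun c => ⟨((c : L) : A), c.2⟩, map_one' := rfl, map_mul' := fun _ _ => rfl, map_zero' := rfl,
      map_add' := fun _ _ => rfl }
  refine ⟨P.map φ, hPm.map φ, ?_⟩
  have h2 := congrArg L.val hP
  rw [map_zero, show L.val (Polynomial.eval₂ (algebraMap C₀ L) ⟨v, hWL (mem_orbitSpan _ v)⟩ P) =
    L.val.toRingHom (Polynomial.eval₂ (algebraMap C₀ L) ⟨v, hWL (mem_orbitSpan _ v)⟩ P) from rfl,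
    Polynomial.hom_eval₂] at h2
  rw [Polynomial.eval₂_map]
  exact h2

end Groth.Agent.S11228
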