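import Groth.Statements.S11236
import Groth.Agent.Grosshans27.SqZero
import Groth.Agent.Grosshans27.Main
import Groth.Agent.S11225
-- import your own Groth.Agent.* helpers here

set_option autoImplicit false
universe u
open CategoryTheory MonoidalCategory CartesianMonoidalCategory MonObj GrpObj AlgebraicGeometry
open scoped TensorProduct
open AGF

namespace Groth.Agent.S11236

open Groth.Agent Groth.Agent.Grosshans27

set_option backward.isDefEq.respectTransparency false
set_option backward.isDefEq.respectTransparency.types false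
set_option maxHeartbeats 1000000


/-- Let k be an algebraically closed field, G a linear algebraic group over k (affine, smooth) whose
identity component is reductive, B a Borel subgroup of G with unipotent radical U. Assume finite
generation of invariants of reductive groups over k on finitely generated algebras (a true result
which the published text assumes without proof, carried here as a hypothesis). Let A be a finitely
generated commutative k-algebra with a rational action of G by algebra automorphisms and M an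
A-module with a rational G-action compatible with the module structure (g·(am) = (g·a)(g·m)). Then
finite generation of M as an A-module is equivalent to the invariants M^U forming a finitely
generated module over A^U (M^U is the A^U-span of finitely many of its elements). -/
theorem result (k : Type u) [Field k] [IsAlgClosed k]
    (G : Over (Spec (CommRingCat.of k))) [GrpObj G] (hG : VecGrp.IsReductiveGrp k G)
    (Bo : Over (Spec (CommRingCat.of k))) [GrpObj Bo] (iB : Bo ⟶ G) (hB : Red.IsBorelOver k iB)
    (U : Over (Spec (CommRingCat.of k))) [GrpObj U] (u : U ⟶ Bo) (hU : Par.IsUnipotentRadical u)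
    (thmA : VecGrp.ReductiveInvariantsFG k)
    (A : Type u) [CommRing A] [Algebra k A] [Algebra.FiniteType k A] (ρA : VecGrp.GMod G A) (hρ : ρA.IsMult)
    (M : Type u) [AddCommGroup M] [Module A M] [Module k M] [IsScalarTower k A M] (ρM : VecGrp.GMod G M)
    (hc : VecGrp.GMod.IsCompat ρA ρM) :
    Module.Finite A M ↔
      ∃ s : Finset M, (↑s : Set M) ⊆ ρM.fixedUnder (u ≫ iB) ∧
        ρM.fixedUnder (u ≫ iB) ≤
          (Submodule.span ↥(ρA.fixedSubalgebra hρ (u ≫ iB)) (↑s : Set M)).restrictScalars k := by
  classical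
  haveI := hG.1
  haveI := hG.2.1
  haveI := hB.1
  haveI := hU.1
  haveI := hU.2.1
  haveI := hB.2.1
  haveI : IsAffine Bo.left := isAffine_of_isAffineHom iB.left
  haveI : IsAffine U.left := isAffine_of_isAffineHom u.left
  haveI : Smooth U.hom := hU.2.2.2.1
  letI : Module Aᵐᵒᵖ M := Module.compHom M ((RingHom.id A).fromOpposite mul_comm)
  haveI : IsCentralScalar A M := ⟨fun a m => rfl⟩
  haveI : IsScalarTower k Aᵐᵒᵖ M := ⟨fun r a m => by
    show MulOpposite.unop (r • a) • m = r • (MulOpposite.unop a • m)
    rw [MulOpposite.unop_smul, smul_assoc]⟩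
  let E := TrivSqZeroExt A M
  let ρE := (sqAct hρ hc).gmod
  have hρE : ρE.IsMult := (sqAct hρ hc).isMult
  let AU := ρA.fixedSubalgebra hρ (u ≫ iB)
  have hmem : ∀ e : E, e ∈ ρE.fixedSubalgebra hρE (u ≫ iB) ↔ e.fst ∈ AU ∧ e.snd ∈ ρM.fixedUnder (u ≫ iB) :=
    fun e => mem_fixed_sqAct hρ hc (u ≫ iB) e
  haveI : Algebra.FiniteType k AU := finiteType_fixed (u ≫ iB) ρA hρ hG thmA (fg_general iB hB u hU)
  constructor
  · intro hfin
    haveI := hfin
    obtain ⟨t₀, ht₀⟩ := (Subalgebra.fg_iff_finiteType (⊤ : Subalgebra k A)).mpr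
      (Algebra.FiniteType.equiv ‹Algebra.FiniteType k A› Subalgebra.topEquiv.symm)
    obtain ⟨t₁, ht₁⟩ := (‹Module.Finite A M› : Module.Finite A M).fg_top
    let T₁ : Finset E := t₀.image TrivSqZeroExt.inl ∪ t₁.image TrivSqZeroExt.inr
    haveI : Algebra.FiniteType k E := ⟨⟨T₁, eq_top_iff.mpr fun e _ => by
      rw [← TrivSqZeroExt.inl_fst_add_inr_snd_eq e]
      have hinl : ∀ a : A, (TrivSqZeroExt.inl a : E) ∈ Algebra.adjoin k (T₁ : Set E) := fun a => by
        have ha : a ∈ (Algebra.adjoin k (T₁ : Set E)).comap (TrivSqZeroExt.inlAlgHom k A M) :=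
          (Algebra.adjoin_le fun z hz => Algebra.subset_adjoin (Finset.mem_coe.mpr
            (Finset.mem_union_left _ (Finset.mem_image_of_mem _ hz))) :
            Algebra.adjoin k (t₀ : Set A) ≤
              (Algebra.adjoin k (T₁ : Set E)).comap (TrivSqZeroExt.inlAlgHom k A M)) (ht₀.ge Algebra.mem_top)
        exact ha
      refine add_mem (hinl _) ?_
      have hm : e.snd ∈ Submodule.span A (t₁ : Set M) := ht₁.ge trivial
      generalize e.snd = m' at hm ⊢
      induction hm using Submodule.span_induction with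
      | mem z hz => exact Algebra.subset_adjoin (Finset.mem_coe.mpr
          (Finset.mem_union_right _ (Finset.mem_image_of_mem _ hz)))
      | zero => rw [TrivSqZeroExt.inr_zero]; exact zero_mem _
      | add x y _ _ hx hy => rw [TrivSqZeroExt.inr_add]; exact add_mem hx hy
      | smul a x _ hx => rw [← TrivSqZeroExt.inl_mul_inr]; exact mul_mem (hinl a) hx⟩⟩
    obtain ⟨t, ht⟩ := (Subalgebra.fg_iff_finiteType (ρE.fixedSubalgebra hρE (u ≫ iB))).mpr
      (finiteType_fixed (u ≫ iB) ρE hρE hG thmA (fg_general iB hB u hU))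
    have hts : ∀ e ∈ t, e.fst ∈ AU ∧ e.snd ∈ ρM.fixedUnder (u ≫ iB) := fun e he =>
      (hmem e).mp (ht.le (Algebra.subset_adjoin he))
    refine ⟨t.image TrivSqZeroExt.snd, fun m hm => ?_, fun m hm => ?_⟩
    · obtain ⟨e, he, rfl⟩ := Finset.mem_image.mp (Finset.mem_coe.mp hm)
      exact (hts e he).2
    have h1 : (TrivSqZeroExt.inr m : E) ∈ Algebra.adjoin k (t : Set E) := ht.ge ((hmem _).mpr
      ⟨by rw [TrivSqZeroExt.fst_inr]; exact zero_mem _, by rwa [TrivSqZeroExt.snd_inr]⟩)
    let N : Submodule AU M := Submodule.span AU ((t.image TrivSqZeroExt.snd : Finset M) : Set M)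
    have h2 : ∀ e ∈ Algebra.adjoin k (t : Set E), e.fst ∈ AU ∧ e.snd ∈ N := fun e he => by
      induction he using Algebra.adjoin_induction with
      | mem z hz => exact ⟨(hts z hz).1, Submodule.subset_span (Finset.mem_coe.mpr (Finset.mem_image_of_mem _ hz))⟩
      | algebraMap r => exact ⟨AU.algebraMap_mem r, N.zero_mem⟩
      | add x y _ _ hx hy => exact ⟨add_mem hx.1 hy.1, N.add_mem hx.2 hy.2⟩
      | mul x y _ _ hx hy =>
        refine ⟨mul_mem hx.1 hy.1, ?_⟩
        rw [TrivSqZeroExt.snd_mul, op_smul_eq_smul]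
        exact N.add_mem (N.smul_mem ⟨_, hx.1⟩ hy.2) (N.smul_mem ⟨_, hy.1⟩ hx.2)
    have h3 := (h2 _ h1).2
    rwa [TrivSqZeroExt.snd_inr] at h3
  · rintro ⟨s, hs, hgen⟩
    obtain ⟨g, hg⟩ := (Subalgebra.fg_iff_finiteType AU).mpr inferInstance
    let T₁ : Finset E := g.image TrivSqZeroExt.inl ∪ s.image TrivSqZeroExt.inr
    have hinl : ∀ a ∈ AU, (TrivSqZeroExt.inl a : E) ∈ Algebra.adjoin k (T₁ : Set E) := fun a ha => by
      have ha' : a ∈ (Algebra.adjoin k (T₁ : Set E)).comap (TrivSqZeroExt.inlAlgHom k A M) :=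
        (Algebra.adjoin_le fun z hz => Algebra.subset_adjoin (Finset.mem_coe.mpr
          (Finset.mem_union_left _ (Finset.mem_image_of_mem _ hz))) :
          Algebra.adjoin k (g : Set A) ≤
            (Algebra.adjoin k (T₁ : Set E)).comap (TrivSqZeroExt.inlAlgHom k A M)) (hg.ge ha)
      exact ha'
    have hfix : (ρE.fixedSubalgebra hρE (u ≫ iB)).FG := ⟨T₁, le_antisymm (Algebra.adjoin_le fun e he => by
      rcases Finset.mem_union.mp (Finset.mem_coe.mp he) with he | he
      · obtain ⟨a, ha, rfl⟩ := Finset.mem_image.mp he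
        exact (hmem _).mpr ⟨by rw [TrivSqZeroExt.fst_inl]; exact hg.le (Algebra.subset_adjoin ha),
          by rw [TrivSqZeroExt.snd_inl]; exact zero_mem _⟩
      · obtain ⟨m, hm, rfl⟩ := Finset.mem_image.mp he
        exact (hmem _).mpr ⟨by rw [TrivSqZeroExt.fst_inr]; exact zero_mem _,
          by rw [TrivSqZeroExt.snd_inr]; exact hs hm⟩) fun e he => by
      obtain ⟨he1, he2⟩ := (hmem e).mp he
      rw [← TrivSqZeroExt.inl_fst_add_inr_snd_eq e]
      refine add_mem (hinl _ he1) ?_
      have he3 : e.snd ∈ Submodule.span ↥AU (s : Set M) := hgen he2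
      generalize e.snd = m' at he3 ⊢
      induction he3 using Submodule.span_induction with
      | mem z hz => exact Algebra.subset_adjoin (Finset.mem_coe.mpr
          (Finset.mem_union_right _ (Finset.mem_image_of_mem _ hz)))
      | zero => rw [TrivSqZeroExt.inr_zero]; exact zero_mem _
      | add x y _ _ hx hy => rw [TrivSqZeroExt.inr_add]; exact add_mem hx hy
      | smul a x _ hx =>
        rw [show a • x = (a : A) • x from rfl, ← TrivSqZeroExt.inl_mul_inr]
        exact mul_mem (hinl _ a.2) hx⟩
    obtain ⟨t, ht⟩ := (S11225.result k G hG Bo iB hB U u hU thmA E ρE hρE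
      ((Subalgebra.fg_iff_finiteType _).mp hfix)).out
    refine ⟨⟨t.image TrivSqZeroExt.snd, eq_top_iff.mpr fun m _ => ?_⟩⟩
    let N : Submodule A M := Submodule.span A ((t.image TrivSqZeroExt.snd : Finset M) : Set M)
    have h2 : ∀ e ∈ Algebra.adjoin k (t : Set E), e.snd ∈ N := fun e he => by
      induction he using Algebra.adjoin_induction with
      | mem z hz => exact Submodule.subset_span (Finset.mem_coe.mpr (Finset.mem_image_of_mem _ hz))
      | algebraMap r => exact N.zero_mem
      | add x y _ _ hx hy => exact N.add_mem hx hy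
      | mul x y _ _ hx hy =>
        rw [TrivSqZeroExt.snd_mul, op_smul_eq_smul]
        exact N.add_mem (N.smul_mem _ hy) (N.smul_mem _ hx)
    have h3 := h2 (TrivSqZeroExt.inr m) (ht.ge Algebra.mem_top)
    rwa [TrivSqZeroExt.snd_inr] at h3

end Groth.Agent.S11236
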