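import Groth.Statements.S11227
import Groth.Agent.S11228
import Groth.Agent.S11236
-- import your own Groth.Agent.* helpers here

set_option autoImplicit false
universe u
open CategoryTheory MonoidalCategory CartesianMonoidalCategory MonObj GrpObj AlgebraicGeometry
open scoped TensorProduct
open AGF

namespace Groth.Agent.S11227

open Groth.Agent Groth.Agent.Grosshans27

set_option backward.isDefEq.respectTransparency false
set_option backward.isDefEq.respectTransparency.types false
set_option maxHeartbeats 1000000


/-- Let k an algebraically closed field, G a linear algebraic group over k (affine, smooth) whose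
identity component is reductive, B a Borel subgroup of G with unipotent radical U (a maximal
unipotent subgroup). Assume finite generation of invariants of reductive groups over k on finitely
generated algebras (a true result which the published text assumes without proof, carried here as a
hypothesis). Let A be a finitely generated commutative k-algebra with a rational action of G by
algebra automorphisms and C a finitely generated subalgebra of A stable under G. Then integrality of
A over C is equivalent to integrality of A^U over C^U = C ∩ A^U, that is, every element of A^U is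
integral over the subalgebra C ∩ A^U. -/
theorem result (k : Type u) [Field k] [IsAlgClosed k]
    (G : Over (Spec (CommRingCat.of k))) [GrpObj G] (hG : VecGrp.IsReductiveGrp k G)
    (Bo : Over (Spec (CommRingCat.of k))) [GrpObj Bo] (iB : Bo ⟶ G) (hB : Red.IsBorelOver k iB)
    (U : Over (Spec (CommRingCat.of k))) [GrpObj U] (u : U ⟶ Bo) (hU : Par.IsUnipotentRadical u)
    (thmA : VecGrp.ReductiveInvariantsFG k)
    (A : Type u) [CommRing A] [Algebra k A] [Algebra.FiniteType k A] (ρ : VecGrp.GMod G A) (hρ : ρ.IsMult)
    (C : Subalgebra k A) (hCfg : C.FG) (hC : ρ.IsStable (𝟙 G) (Subalgebra.toSubmodule C)) :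
    Algebra.IsIntegral ↥C A ↔
      ∀ x ∈ ρ.fixedUnder (u ≫ iB), IsIntegral ↥(C ⊓ ρ.fixedSubalgebra hρ (u ≫ iB)) x := by
  classical
  haveI := hG.1
  haveI := hG.2.1
  haveI := hB.1
  haveI := hU.1
  haveI := hU.2.1
  haveI := hB.2.1
  haveI : IsAffine Bo.left := isAffine_of_isAffineHom iB.left
  haveI : IsAffine U.left := isAffine_of_isAffineHom u.left
  haveI : Smooth U.hom := hU.2.2.2.1
  have hCst : ∀ g : 𝟙_ (Over (Spec (CommRingCat.of k))) ⟶ G, ∀ v ∈ C, S11241.act ρ g v ∈ C := fun g v hv =>
    act_mem_of_isStable ρ hC g hv
  let AU := ρ.fixedSubalgebra hρ (u ≫ iB)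
  constructor
  · intro hint
    haveI := hint
    haveI : Algebra.FiniteType k C := (Subalgebra.fg_iff_finiteType C).mp hCfg
    haveI : Algebra.FiniteType C A := Algebra.FiniteType.of_restrictScalars_finiteType k C A
    haveI : Module.Finite C A := Algebra.IsIntegral.finite
    let ρC := (subAct ρ hρ C hCst).gmod
    have hρC : ρC.IsMult := (subAct ρ hρ C hCst).isMult
    have hlm : ∀ (B : Type u) [CommRing B] [Algebra k B] (x : B ⊗[k] C) (y : B ⊗[k] A),
        VecGrp.GMod.smulW k C A B x y = lmap C B x * y := fun B _ _ x y => by
      induction x using TensorProduct.induction_on with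
      | zero => simp
      | add p q hp hq => simp only [map_add, LinearMap.add_apply, add_mul, hp, hq]
      | tmul b c =>
        induction y using TensorProduct.induction_on with
        | zero => simp
        | add p q hp hq => simp only [map_add, mul_add, hp, hq]
        | tmul b' a =>
          rw [lmap_tmul, Algebra.TensorProduct.tmul_mul_tmul]
          rfl
    have hc : VecGrp.GMod.IsCompat ρC ρ := fun B _ _ g x y => by
      have h1 : lmap C B (ρC.ρ B g x) = ρ.ρ B g (lmap C B x) := by
        induction x using TensorProduct.induction_on with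
        | zero => simp
        | add p q hp hq => simp only [map_add, hp, hq]
        | tmul b c =>
          have e1 : ρC.ρ B g (b ⊗ₜ[k] c) = (b ⊗ₜ[k] (1 : C)) * (subAct ρ hρ C hCst).Φ B g c := by
            rw [show b ⊗ₜ[k] c = b • ((1 : B) ⊗ₜ[k] c) by
              rw [TensorProduct.smul_tmul', smul_eq_mul, _root_.mul_one], map_smul, AlgAct.gmod_apply]
            exact Algebra.smul_def (A := B ⊗[k] C) b _
          have e2 : lmap C B ((subAct ρ hρ C hCst).Φ B g c) = ρ.ρ B g ((1 : B) ⊗ₜ[k] (c : A)) :=
            AlgAct.restrict_spec (algActOf ρ hρ) C _ B g c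
          rw [lmap_tmul, show b ⊗ₜ[k] (c : A) = b • ((1 : B) ⊗ₜ[k] (c : A)) by
            rw [TensorProduct.smul_tmul', smul_eq_mul, _root_.mul_one], map_smul, e1, map_mul, lmap_tmul, e2]
          exact (Algebra.smul_def (A := B ⊗[k] A) b _).symm
      rw [hlm, hlm, (hρ B g).1, h1]
    obtain ⟨s, hs, hgen⟩ := (S11236.result k G hG Bo iB hB U u hU thmA C ρC hρC A ρ hc).mp inferInstance
    intro x hx
    let R := C ⊓ AU
    let SU : Subalgebra R A := { AU.toSubsemiring with algebraMap_mem' := fun r => r.2.2 }
    refine IsIntegral.of_mem_of_fg SU ⟨s, le_antisymm (Submodule.span_le.mpr fun z hz => hs hz) fun z hz => ?_⟩ x hx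
    have h1 : z ∈ Submodule.span ↥(ρC.fixedSubalgebra hρC (u ≫ iB)) (s : Set A) := hgen hz
    clear hz
    induction h1 using Submodule.span_induction with
    | mem w hw => exact Submodule.subset_span hw
    | zero => exact zero_mem _
    | add a b _ _ ha hb => exact add_mem ha hb
    | smul r w _ hw =>
      have hr : ((r : C) : A) ∈ R := ⟨(r : C).2, (mem_fixed_subAct ρ hρ hCst (u ≫ iB) _).mp r.2⟩
      rw [show r • w = (⟨_, hr⟩ : R) • w from rfl]
      exact Submodule.smul_mem _ _ hw
  · intro h
    let S₁ := integralClosure C A
    let S : Subalgebra k A := S₁.restrictScalars k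
    have hAU : ρ.fixedUnder (u ≫ iB) ≤ Subalgebra.toSubmodule S := fun x hx => by
      obtain ⟨P, hPm, hP⟩ := h x hx
      let φ : (C ⊓ AU : Subalgebra k A) →+* C := (Subalgebra.inclusion inf_le_left).toRingHom
      refine ⟨P.map φ, hPm.map φ, ?_⟩
      rw [Polynomial.eval₂_map]
      exact hP
    have hst : ρ.IsStable (𝟙 G) (Subalgebra.toSubmodule S) := isStable_of_pts ρ _ fun g v hv => by
      obtain ⟨P, hPm, hP⟩ := hv
      let σ : A →+* A :=
        { toFun := fun a => S11241.act ρ g a, map_one' := act_one hρ g, map_mul' := act_mul hρ g,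
          map_zero' := map_zero _, map_add' := map_add _ }
      let σC : C →+* C := σ.restrict C C fun a ha => hCst g a ha
      refine ⟨P.map σC, hPm.map σC, ?_⟩
      rw [Polynomial.eval₂_map, show (algebraMap C A).comp σC = σ.comp (algebraMap C A) from RingHom.ext fun _ => rfl]
      show Polynomial.eval₂ _ (σ v) P = 0
      rw [← Polynomial.hom_eval₂, hP, map_zero]
    have hle := sInf_le (a := S) (s := {S : Subalgebra k A | ρ.fixedUnder (u ≫ iB) ≤ Subalgebra.toSubmodule S ∧
      ρ.IsStable (𝟙 G) (Subalgebra.toSubmodule S)}) ⟨hAU, hst⟩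
    have h28 := S11228.result k G hG Bo iB hB U u hU thmA A ρ hρ
    haveI : Algebra.IsIntegral C S₁ := ⟨fun x => (isIntegral_algebraMap_iff (A := S₁) (B := A) Subtype.val_injective).mp x.2⟩
    refine ⟨fun a => isIntegral_trans (R := C) (A := S₁) a ?_⟩
    obtain ⟨P, hPm, hP⟩ := h28.isIntegral a
    let φ : _ →+* S₁ := (Subalgebra.inclusion hle).toRingHom
    refine ⟨P.map φ, hPm.map φ, ?_⟩
    rw [Polynomial.eval₂_map]
    exact hP

end Groth.Agent.S11227
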