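import Groth.Statements.S11229
import Groth.Agent.Grosshans27.Bridge
-- import your own Groth.Agent.* helpers here

set_option autoImplicit false
universe u
open CategoryTheory MonoidalCategory CartesianMonoidalCategory MonObj GrpObj AlgebraicGeometry
open scoped TensorProduct
open AGF

namespace Groth.Agent.S11229

open Groth.Agent Groth.Agent.Grosshans27

set_option backward.isDefEq.respectTransparency false
set_option backward.isDefEq.respectTransparency.types false

/-- Let k an algebraically closed field, G a connected reductive linear algebraic group over k, B a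
Borel subgroup of G with unipotent radical U (a maximal unipotent subgroup), and let A be a
commutative k-algebra with a rational action of G by algebra automorphisms. Then A has a nonzero
nilpotent element if and only if A^U does; equivalently A is reduced if and only if A^U is reduced. -/
theorem result (k : Type u) [Field k] [IsAlgClosed k]
    (G : Over (Spec (CommRingCat.of k))) [GrpObj G] (hG : Red.IsReductiveOver k G)
    (Bo : Over (Spec (CommRingCat.of k))) [GrpObj Bo] (iB : Bo ⟶ G) (hB : Red.IsBorelOver k iB)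
    (U : Over (Spec (CommRingCat.of k))) [GrpObj U] (u : U ⟶ Bo) (hU : Par.IsUnipotentRadical u)
    (A : Type u) [CommRing A] [Algebra k A] (ρ : VecGrp.GMod G A) (hρ : ρ.IsMult) :
    IsReduced A ↔ IsReduced ↥(ρ.fixedSubalgebra hρ (u ≫ iB)) := by
  haveI := hG.1
  haveI := hG.2.1
  haveI := hG.2.2.1
  haveI := hB.1
  haveI := hU.1
  haveI : IsMonHom (𝟙 G) := inferInstance
  obtain ⟨G₀, _, _, _, _, jG, _, Γ, O, hfix⟩ := exists_setup (G := G) ⟨hG.1, hG.2.1, G, inferInstance, 𝟙 G,
    inferInstance, inferInstanceAs (IsOpenImmersion (𝟙 G.left)), hG⟩ iB hB u hU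
  constructor
  · intro h
    exact ⟨fun x hx => Subtype.ext ((h.eq_zero _) (hx.map (ρ.fixedSubalgebra hρ (u ≫ iB)).val))⟩
  · refine fun h => ⟨fun x hx => by_contra fun hx0 => ?_⟩
    obtain ⟨b, hb, hbn, hb0⟩ := O.exists_nilpotent_fixV (isRat_repOf ρ jG) (isAlgRep_repOf hρ jG) hx hx0
    have hb' : b ∈ ρ.fixedSubalgebra hρ (u ≫ iB) := (hfix A ρ b).mp hb
    obtain ⟨n, hn⟩ := hbn
    exact hb0 (congrArg Subtype.val (h.eq_zero (⟨b, hb'⟩ : ρ.fixedSubalgebra hρ (u ≫ iB)) ⟨n, Subtype.ext hn⟩))

end Groth.Agent.S11229
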