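import Groth.Statements.S11230
import Groth.Agent.Grosshans27.Bridge
-- import your own Groth.Agent.* helpers here

set_option autoImplicit false
universe u
open CategoryTheory MonoidalCategory CartesianMonoidalCategory MonObj GrpObj AlgebraicGeometry
open scoped TensorProduct
open AGF

namespace Groth.Agent.S11230

open Groth.Agent Groth.Agent.Grosshans27

set_option backward.isDefEq.respectTransparency false
set_option backward.isDefEq.respectTransparency.types false

/-- Let k an algebraically closed field, G a connected reductive linear algebraic group over k, B a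
Borel subgroup of G with unipotent radical U (a maximal unipotent subgroup), and let A be a
commutative k-algebra with a rational action of G by algebra automorphisms. Then A has zero divisors
(two nonzero elements with product zero) if and only if the algebra of invariants A^U does. -/
theorem result (k : Type u) [Field k] [IsAlgClosed k]
    (G : Over (Spec (CommRingCat.of k))) [GrpObj G] (hG : Red.IsReductiveOver k G)
    (Bo : Over (Spec (CommRingCat.of k))) [GrpObj Bo] (iB : Bo ⟶ G) (hB : Red.IsBorelOver k iB)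
    (U : Over (Spec (CommRingCat.of k))) [GrpObj U] (u : U ⟶ Bo) (hU : Par.IsUnipotentRadical u)
    (A : Type u) [CommRing A] [Algebra k A] (ρ : VecGrp.GMod G A) (hρ : ρ.IsMult) :
    (∃ a b : A, a ≠ 0 ∧ b ≠ 0 ∧ a * b = 0) ↔
      ∃ a b : ↥(ρ.fixedSubalgebra hρ (u ≫ iB)), a ≠ 0 ∧ b ≠ 0 ∧ a * b = 0 := by
  haveI := hG.1
  haveI := hG.2.1
  haveI := hG.2.2.1
  haveI := hB.1
  haveI := hU.1
  haveI : IsMonHom (𝟙 G) := inferInstance
  obtain ⟨G₀, _, _, _, _, jG, _, Γ, O, hfix⟩ := exists_setup (G := G) ⟨hG.1, hG.2.1, G, inferInstance, 𝟙 G,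
    inferInstance, inferInstanceAs (IsOpenImmersion (𝟙 G.left)), hG⟩ iB hB u hU
  constructor
  · rintro ⟨a, b, ha, hb, hab⟩
    obtain ⟨c, hc, d, hd, hc0, hd0, hcd⟩ :=
      O.exists_zeroDiv_fixV (isRat_repOf ρ jG) (isAlgRep_repOf hρ jG) ha hb hab
    exact ⟨⟨c, (hfix A ρ c).mp hc⟩, ⟨d, (hfix A ρ d).mp hd⟩, fun h => hc0 (congrArg Subtype.val h),
      fun h => hd0 (congrArg Subtype.val h), Subtype.ext hcd⟩
  · rintro ⟨a, b, ha, hb, hab⟩
    exact ⟨a, b, fun h => ha (Subtype.ext h), fun h => hb (Subtype.ext h), congrArg Subtype.val hab⟩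

end Groth.Agent.S11230
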