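import Groth.Statements.S11231
import Mathlib.RingTheory.IntegralClosure.IntegrallyClosed
import Mathlib.RingTheory.Flat.Basic
import Mathlib.RingTheory.Localization.FractionRing

set_option autoImplicit false
universe u
open CategoryTheory MonoidalCategory CartesianMonoidalCategory MonObj GrpObj AlgebraicGeometry
open scoped TensorProduct
open AGF

namespace Groth.Agent.S11231

theorem auxK {R A K L : Type u} [CommRing R] [IsDomain R] [CommRing A] [IsDomain A] [IsIntegrallyClosed A]
    (j : R →+* A) (hj : Function.Injective j)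
    [Field K] [Algebra R K] [IsFractionRing R K] [Field L] [Algebra A L] [IsFractionRing A L]
    (hR : ∀ (a : A) (r s : R), s ≠ 0 → a * j s = j r → ∃ a' : R, j a' = a) :
    IsIntegrallyClosed R := by
  rw [isIntegrallyClosed_iff K]
  intro z hz
  have hinj : Function.Injective ((algebraMap A L).comp j) :=
    (IsFractionRing.injective A L).comp hj
  let F : K →+* L := IsFractionRing.lift hinj
  have hz' : IsIntegral A (F z) :=
    IsIntegral.map_of_comp_eq j F (RingHom.ext fun r => (IsFractionRing.lift_algebraMap hinj r).symm) hz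
  obtain ⟨a, ha⟩ := IsIntegrallyClosed.algebraMap_eq_of_integral hz'
  obtain ⟨r, s, hs, rfl⟩ := IsFractionRing.div_surjective (A := R) z
  have hs0 : j s ≠ 0 := (map_ne_zero_iff j hj).2 (nonZeroDivisors.ne_zero hs)
  have key : a * j s = j r := by
    refine IsFractionRing.injective A L ?_
    rw [map_mul, ha, map_div₀, IsFractionRing.lift_algebraMap hinj, IsFractionRing.lift_algebraMap hinj]
    refine div_mul_cancel₀ _ ?_
    exact (map_ne_zero_iff _ (IsFractionRing.injective A L)).2 hs0
  obtain ⟨a', rfl⟩ := hR a r s (nonZeroDivisors.ne_zero hs) key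
  refine ⟨a', ?_⟩
  rw [← hj ((map_mul j a' s).trans key), map_mul, mul_div_assoc, div_self, _root_.mul_one]
  exact (map_ne_zero_iff _ (IsFractionRing.injective R K)).2 (nonZeroDivisors.ne_zero hs)

theorem aux {R A : Type u} [CommRing R] [IsDomain R] [CommRing A] [IsDomain A] [IsIntegrallyClosed A]
    (j : R →+* A) (hj : Function.Injective j)
    (hR : ∀ (a : A) (r s : R), s ≠ 0 → a * j s = j r → ∃ a' : R, j a' = a) :
    IsIntegrallyClosed R :=
  auxK (K := FractionRing R) (L := FractionRing A) j hj hR

open TensorProduct in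
theorem main (k : Type u) [Field k] {A : Type u} [CommRing A] [IsDomain A] [Algebra k A] [IsIntegrallyClosed A]
    {G H : Over (Spec (CommRingCat.of k))} [GrpObj G] [GrpObj H]
    (ρ : VecGrp.GMod G A) (hρ : ρ.IsMult) (i : H ⟶ G) :
    IsIntegrallyClosed ↥(ρ.fixedSubalgebra hρ i) := by
  refine aux (ρ.fixedSubalgebra hρ i).val.toRingHom Subtype.val_injective fun a ⟨r, hr⟩ ⟨s, hs⟩ hne key => ?_
  have hs0 : s ≠ 0 := fun h => hne (Subtype.ext h)
  refine ⟨⟨a, ?_⟩, rfl⟩
  replace key : a * s = r := key
  intro B _ _ h
  let m : A →ₗ[k] A := LinearMap.mulRight k s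
  have hm : Function.Injective (m.lTensor B) :=
    Module.Flat.lTensor_preserves_injective_linearMap m (mul_left_injective₀ hs0)
  have hmul : ∀ w : VecGrp.W k A B, m.lTensor B w = w * ((1 : B) ⊗ₜ[k] s) := fun w => by
    induction w using TensorProduct.induction_on with
    | zero => simp
    | tmul b x => simp [m, Algebra.TensorProduct.tmul_mul_tmul]
    | add x y hx hy => rw [map_add, hx, hy, add_mul]
  refine hm ?_
  rw [hmul, hmul]
  have e : ((1 : B) ⊗ₜ[k] a : VecGrp.W k A B) * ((1 : B) ⊗ₜ[k] s) = (1 : B) ⊗ₜ[k] r := by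
    rw [Algebra.TensorProduct.tmul_mul_tmul, _root_.one_mul, key]
  conv_lhs => rw [← hs B h, ← (hρ B (h ≫ i)).1, e, hr B h]
  exact e.symm

/-- Let k an algebraically closed field, G a connected reductive linear algebraic group over k, B a
Borel subgroup of G with unipotent radical U (a maximal unipotent subgroup), and let A be a
commutative k-algebra with a rational action of G by algebra automorphisms. If A is an integrally
closed domain then so is A^U. (The published statement is for A normal; its proof reduces to the
case of a domain, which is the case stated here.) -/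
theorem result (k : Type u) [Field k] [IsAlgClosed k]
    (G : Over (Spec (CommRingCat.of k))) [GrpObj G] (hG : Red.IsReductiveOver k G)
    (Bo : Over (Spec (CommRingCat.of k))) [GrpObj Bo] (iB : Bo ⟶ G) (hB : Red.IsBorelOver k iB)
    (U : Over (Spec (CommRingCat.of k))) [GrpObj U] (u : U ⟶ Bo) (hU : Par.IsUnipotentRadical u)
    (A : Type u) [CommRing A] [IsDomain A] [Algebra k A] [IsIntegrallyClosed A]
    (ρ : VecGrp.GMod G A) (hρ : ρ.IsMult) :
    IsIntegrallyClosed ↥(ρ.fixedSubalgebra hρ (u ≫ iB)) :=
  main k ρ hρ (u ≫ iB)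

end Groth.Agent.S11231
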