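import Groth.Statements.S11233
import Mathlib

set_option autoImplicit false
universe u
open CAlg

namespace Groth.Agent.S11233

/-- Let k be an algebraically closed field, A an integral domain which is a k-algebra, T an m by m
matrix over A with invertible determinant, and let the additive group k^m act on the polynomial ring
A[y_1, ..., y_m] by the A-algebra maps y_s ↦ y_s + Σ_r h_r T_rs. Then the only invariant polynomials
are the constants: a polynomial fixed by all these substitutions lies in A. -/
theorem result (k : Type u) [Field k] [IsAlgClosed k]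
    (A : Type u) [CommRing A] [IsDomain A] [Algebra k A] (m : ℕ) (T : Matrix (Fin m) (Fin m) A)
    (hT : IsUnit T.det) (f : MvPolynomial (Fin m) A)
    (hf : ∀ h : Fin m → k, MvPolynomial.aeval
      (fun s : Fin m => MvPolynomial.X s + MvPolynomial.C (∑ r : Fin m, algebraMap k A (h r) * T r s)) f = f) :
    ∃ a : A, f = MvPolynomial.C a := by
  classical
  let c₀ : A := MvPolynomial.eval (0 : Fin m → A) f
  have key : ∀ h : Fin m → k,
      MvPolynomial.eval (fun s : Fin m => ∑ r : Fin m, algebraMap k A (h r) * T r s) f = c₀ := by
    intro h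
    have h1 := congrArg (MvPolynomial.eval (0 : Fin m → A)) (hf h)
    rw [MvPolynomial.aeval_def, MvPolynomial.eval₂_comp_left] at h1
    have e : (MvPolynomial.eval (0 : Fin m → A)).comp (algebraMap A (MvPolynomial (Fin m) A)) = RingHom.id A :=
      RingHom.ext fun a => by simp
    rw [e] at h1
    refine Eq.trans ?_ h1
    rw [MvPolynomial.eval₂_id]
    congr 2
    funext s
    simp
  have hinf : ∀ _i : Fin m, (Set.range (algebraMap k A)).Infinite := fun _ =>
    Set.infinite_range_of_injective (algebraMap k A).injective
  let g : MvPolynomial (Fin m) A :=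
    MvPolynomial.bind₁ (fun s => ∑ r, MvPolynomial.C (T r s) * MvPolynomial.X r) f
  have hg : g = MvPolynomial.C c₀ := by
    refine MvPolynomial.funext_set (fun _ => Set.range (algebraMap k A)) hinf fun z hz => ?_
    choose h hh using fun r => hz r (Set.mem_univ r)
    rw [MvPolynomial.eval_C]
    change MvPolynomial.aeval z (MvPolynomial.bind₁ _ f) = c₀
    rw [MvPolynomial.aeval_bind₁, ← key h]
    change MvPolynomial.aeval _ f = MvPolynomial.aeval _ f
    congr 2
    funext s
    simp [← hh, mul_comm]
  refine ⟨c₀, ?_⟩
  have hback : MvPolynomial.bind₁ (fun r => ∑ s, MvPolynomial.C (T⁻¹ s r) * MvPolynomial.X s) g = f := by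
    rw [MvPolynomial.bind₁_bind₁]
    conv_rhs => rw [← MvPolynomial.aeval_X_left_apply f]
    change MvPolynomial.aeval _ f = _
    congr 2
    funext s
    simp only [map_sum, map_mul, MvPolynomial.bind₁_C_right, MvPolynomial.bind₁_X_right, Finset.mul_sum]
    rw [Finset.sum_comm]
    have : ∀ t, ∑ r, MvPolynomial.C (T r s) * (MvPolynomial.C (T⁻¹ t r) * MvPolynomial.X t) =
        MvPolynomial.C ((T⁻¹ * T) t s) * MvPolynomial.X t := fun t => by
      rw [Matrix.mul_apply, map_sum, Finset.sum_mul]
      exact Finset.sum_congr rfl fun r _ => by rw [map_mul]; ring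
    simp only [this, Matrix.nonsing_inv_mul T hT, Matrix.one_apply, apply_ite MvPolynomial.C, map_zero, map_one,
      ite_mul, one_mul, zero_mul, Finset.sum_ite_eq', Finset.mem_univ, if_true]
  rw [← hback, hg, MvPolynomial.bind₁_C_right]


end Groth.Agent.S11233
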