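import Groth.Statements.S11234
import Groth.Agent.AGFLib.Regular
import Groth.Agent.AGFLib.Semi
import Groth.Agent.GrpSchLib.GLnHom
import Groth.Agent.AGFLib.GLSmooth
import Mathlib.Data.Matrix.Block
-- import your own Groth.Agent.* helpers here

set_option autoImplicit false
universe u
open CategoryTheory MonoidalCategory CartesianMonoidalCategory MonObj GrpObj AlgebraicGeometry
open scoped TensorProduct
open AGF

namespace Groth.Agent.S11234

set_option backward.isDefEq.respectTransparency false
set_option backward.isDefEq.respectTransparency.types false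

open Groth.Agent.GrpSchLib Groth.Agent.GrpSchLib.Kunneth Groth.Agent.AGFLib

variable {R R' : Type*} [CommRing R] [CommRing R'] {n : ℕ}

/-- An affine extension of a matrix by a column. -/
noncomputable def aff (N : Matrix (Fin n) (Fin n) R) (c : Fin n → R) : Matrix (Fin (n + 1)) (Fin (n + 1)) R :=
  Matrix.reindex finSumFinEquiv finSumFinEquiv (Matrix.fromBlocks N (fun i (_ : Fin 1) => c i) 0 1)

theorem aff_mul (N N' : Matrix (Fin n) (Fin n) R) (c c' : Fin n → R) :
    aff N c * aff N' c' = aff (N * N') (N.mulVec c' + c) := by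
  simp only [aff, Matrix.reindex_apply]
  rw [Matrix.submatrix_mul_equiv, Matrix.fromBlocks_multiply]
  congr 1
  refine Matrix.fromBlocks_inj.mpr ⟨by simp, ?_, by simp, by simp⟩
  ext i j
  simp [Matrix.mul_apply, Matrix.mulVec, dotProduct]

theorem aff_map (f : R →+* R') (N : Matrix (Fin n) (Fin n) R) (c : Fin n → R) :
    (aff N c).map f = aff (N.map f) (f ∘ c) := by
  simp only [aff, Matrix.reindex_apply, ← Matrix.submatrix_map, Matrix.fromBlocks_map, Matrix.map_zero _ (map_zero f),
    Matrix.map_one _ (map_zero f) (map_one f)]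
  rfl

theorem aff_one : aff (1 : Matrix (Fin n) (Fin n) R) 0 = 1 := by
  simp only [aff, Matrix.reindex_apply]
  rw [show (fun i (_ : Fin 1) => (0 : Fin n → R) i) = (0 : Matrix (Fin n) (Fin 1) R) from rfl, Matrix.fromBlocks_one,
    Matrix.submatrix_one_equiv]

theorem aff_injective {N N' : Matrix (Fin n) (Fin n) R} {c c' : Fin n → R} (h : aff N c = aff N' c') : c = c' := by
  have h1 := (Matrix.fromBlocks_inj.mp ((Matrix.reindex finSumFinEquiv finSumFinEquiv).injective h)).2.1
  funext i
  exact congrFun (congrFun h1 i) 0


set_option maxHeartbeats 1000000 in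
/-- Let k be an algebraically closed field, G a linear algebraic group over k (affine, smooth) and H a
smooth closed subgroup of G. The following are equivalent: (b) every global function on G invariant
under right translation by H is a constant; (c) for every rational G-module E, the H-invariants of E
coincide with the G-invariants; (e) two homomorphisms from G to a linear algebraic group which agree
on H are equal. (The published list also contains the statement that H is epimorphic in the sense of
its hull under the stabilizer correspondence, and the statement that complementary H-stable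
subspaces of a rational G-module are G-stable; this row states the other three.) -/
theorem result (k : Type u) [Field k] [IsAlgClosed k]
    (G : Over (Spec (CommRingCat.of k))) [GrpObj G] [IsAffine G.left] [Smooth G.hom]
    (H : Over (Spec (CommRingCat.of k))) [GrpObj H] [Smooth H.hom] (i : H ⟶ G) [IsMonHom i]
    [IsClosedImmersion i.left] :
    List.TFAE [
      ∀ f : Γ(G.left, ⊤), ((G ◁ i) ≫ μ[G]).left.appTop f = (fst G H).left.appTop f →
        ∃ c : k, f = G.hom.appTop ((Scheme.ΓSpecIso (CommRingCat.of k)).inv c),
      ∀ (E : Type u) [AddCommGroup E] [Module k E] (ρ : VecGrp.GMod G E),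
        ρ.fixedUnder i = ρ.fixedUnder (𝟙 G),
      ∀ (G' : Over (Spec (CommRingCat.of k))) [GrpObj G'] [IsAffine G'.left] [Smooth G'.hom]
        (r s : G ⟶ G') [IsMonHom r] [IsMonHom s], i ≫ r = i ≫ s → r = s] := by
  haveI : IsAffine H.left := isAffine_of_isAffineHom i.left
  haveI : IsReduced G.left := isReduced_of_smooth_field G.hom
  have hc : ∀ (f : Fn G), (∃ c : k, f = algebraMap k (Fn G) c) →
      ∀ (T : Over (Spec (CommRingCat.of k))) (x : T ⟶ G), ev x f = ev (1 : T ⟶ G) f := by
    rintro f ⟨c, rfl⟩ T x
    rw [AlgHom.commutes, AlgHom.commutes]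
  tfae_have 1 → 2 := fun hb E _ _ ρ => by
    refine le_antisymm ?_ ?_
    swap
    · intro e he B _ _ h
      have := he B (h ≫ i)
      rwa [Category.comp_id] at this
    intro e he B _ _ q
    rw [Category.comp_id]
    let b := Module.Free.chooseBasis k E
    refine (Algebra.TensorProduct.basis B b).repr.injective (Finsupp.ext fun l => ?_)
    have hinv : AGF.IsRTransInv i (matCoeff ρ e (b.coord l)) := by
      haveI : IsAffine (G ⊗ H).left := inferInstanceAs (IsAffine (Limits.pullback G.hom H.hom))
      show ev ((G ◁ i) ≫ μ[G]) (matCoeff ρ e (b.coord l)) = ev (fst G H) (matCoeff ρ e (b.coord l))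
      rw [← pullFn_univ (ev ((G ◁ i) ≫ μ[G]) (matCoeff ρ e (b.coord l))), ← pullFn_univ (ev (fst G H) (matCoeff ρ e (b.coord l))),
        ← pullFn_comp, ← pullFn_comp, pullFn_matCoeff, pullFn_matCoeff, AGFLib.comp_translate, map_mul,
        LinearEquiv.mul_apply, ← Category.assoc (univ (G ⊗ H)) (snd G H) i, he _ (univ (G ⊗ H) ≫ snd G H)]
    obtain ⟨c, hcc⟩ := hb _ hinv
    have h2 : pullFn q (matCoeff ρ e (b.coord l)) = pullFn (1 : VecGrp.pt k B ⟶ G) (matCoeff ρ e (b.coord l)) := by
      rw [pullFn_apply, pullFn_apply, hc _ ⟨c, hcc⟩]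
    rw [pullFn_matCoeff, pullFn_matCoeff, map_one, LinearEquiv.coe_one, id_eq] at h2
    have hform : ∀ z : B ⊗[k] E, (Algebra.TensorProduct.basis B b).repr z l = formB (b.coord l) B z := fun z => by
      induction z using TensorProduct.induction_on with
      | zero => simp
      | tmul x y => simp [formB_tmul, Algebra.smul_def, _root_.mul_comm]
      | add x y hx hy => simp only [map_add, Finsupp.add_apply, hx, hy]
    rw [hform, hform, h2]
  tfae_have 2 → 1 := fun hmod f hf => by
    have hfi : f ∈ (translMod (𝟙 G)).fixedUnder i := fun B _ _ h => by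
      rw [translMod_apply]
      apply (prodFn B G).injective
      rw [prodFn_transl, prodFn_tmul, map_one, map_one, _root_.one_mul, ev_ev, shift, lift_snd, Category.comp_id,
        ← Category.assoc, (isRTransInv_iff i f).1 hf]
    rw [hmod] at hfi
    refine ⟨val (1 : VecGrp.pt k k ⟶ G) f, eq_of_pts fun x => ?_⟩
    show ev x f = ev x (algebraMap k (Fn G) _)
    rw [AlgHom.commutes, ← ev_eq_algebraMap]
    have h2 := hfi k x
    rw [translMod_apply] at h2
    have h3 := congrArg (prodFn k G) h2
    rw [prodFn_transl, prodFn_tmul, map_one, map_one, _root_.one_mul, ev_ev, shift, lift_snd] at h3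
    have h4 := congrArg (ev (lift (𝟙 _) (1 : VecGrp.pt k k ⟶ G))) h3
    rw [ev_ev, ev_ev, MonObj.comp_mul, lift_snd, lift_fst_assoc, Category.id_comp, Category.comp_id, Category.comp_id,
      _root_.one_mul] at h4
    exact h4
  tfae_have 1 → 3 := fun hb G' _ _ _ r s _ _ hrs => by
    let φ : G ⟶ G' := r * s⁻¹
    have hφ : φ = 1 := LineGroups.ext_ev (AlgHom.ext fun f' => by
      have hinv : AGF.IsRTransInv i (ev φ f') := (isRTransInv_iff i _).2 fun T g h => by
        rw [ev_ev, ev_ev]
        congr 2
        simp only [φ, MonObj.comp_mul, GrpObj.comp_inv, MonObj.mul_comp, Category.assoc, hrs, _root_.mul_inv_rev]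
        rw [_root_.mul_assoc, mul_inv_cancel_left]
      have h1 := hc _ (hb _ hinv) G (𝟙 G)
      rw [ev_id, ev_ev, MonObj.comp_mul, GrpObj.comp_inv, MonObj.one_comp, MonObj.one_comp, _root_.inv_one,
        _root_.mul_one] at h1
      exact h1)
    exact mul_inv_eq_one.mp hφ
  tfae_have 3 → 1 := fun he f hf => by
    obtain ⟨n, w, N, hN, hwli, hfw, hw⟩ := exists_stable (G := G) {f}
    obtain ⟨a, ha⟩ := (Submodule.mem_span_range_iff_exists_fun k).mp (hfw (Finset.mem_coe.mpr (Finset.mem_singleton_self f)))
    let av : ∀ (T : Over (Spec (CommRingCat.of k))), Fin n → Fn T := fun T j => algebraMap k (Fn T) (a j)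
    have hav : ∀ {T T' : Over (Spec (CommRingCat.of k))} (g : T' ⟶ T), ⇑(ev g).toRingHom ∘ av T = av T' := fun g =>
      funext fun j => AlgHom.commutes _ _
    have hcomb : ∀ (T : Over (Spec (CommRingCat.of k))) (g h : T ⟶ G),
        ev (g * h) f = ∑ l, ev g (w l) * ((N.map (ev h)).mulVec (av T)) l := by
      intro T g h
      rw [← ha, map_sum]
      simp only [map_smul, hw, Finset.smul_sum, Matrix.mulVec, dotProduct, Finset.mul_sum]
      rw [Finset.sum_comm]
      exact Finset.sum_congr rfl fun l _ => Finset.sum_congr rfl fun j _ => by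
        rw [Algebra.smul_def, Matrix.map_apply]; ring
    let r : Matrix (Fin (n + 1)) (Fin (n + 1)) (Fn G) := aff N 0
    let s : Matrix (Fin (n + 1)) (Fin (n + 1)) (Fn G) := aff N (av G - N.mulVec (av G))
    have hmap : ∀ (T : Over (Spec (CommRingCat.of k))) (g : T ⟶ G),
        s.map (ev g) = aff (N.map (ev g)) (av T - (N.map (ev g)).mulVec (av T)) := fun T g => by
      show (aff N _).map ⇑(ev g).toRingHom = _
      rw [aff_map]
      congr 1
      funext l
      show ev g (av G l - N.mulVec (av G) l) = _
      rw [map_sub]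
      simp [av, Matrix.mulVec, dotProduct]
    have hmap0 : ∀ (T : Over (Spec (CommRingCat.of k))) (g : T ⟶ G), r.map (ev g) = aff (N.map (ev g)) 0 := fun T g => by
      show (aff N _).map ⇑(ev g).toRingHom = _
      rw [aff_map]
      congr 1
      funext l
      exact map_zero _
    have hr : IsRepMatrix r := ⟨fun T g h => by rw [hmap0, hmap0, hmap0, aff_mul, Matrix.mulVec_zero, add_zero, hN.mul],
      fun T => by rw [hmap0, hN.one, aff_one]⟩
    have hs : IsRepMatrix s := ⟨fun T g h => by
        rw [hmap, hmap, hmap, aff_mul, hN.mul, Matrix.mulVec_sub, Matrix.mulVec_mulVec, sub_add_sub_cancel'],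
      fun T => by rw [hmap, hN.one, Matrix.one_mulVec, sub_self, aff_one]⟩
    haveI := hr.isMonHom_hom
    haveI := hs.isMonHom_hom
    haveI := affine_GL k (n + 1)
    haveI := smooth_GL k (n + 1)
    have hfix : (N.map (ev i)).mulVec (av H) = av H := by
      haveI : IsReduced H.left := isReduced_of_smooth_field H.hom
      funext l
      refine eq_of_pts fun x => ?_
      have h1 : rT (x ≫ i) f = f := rT_of_isRTransInv hf x
      have h2 : rT (x ≫ i) f = ∑ l, (∑ j, a j * AGFLib.val (x ≫ i) (N l j)) • w l := by
        show ev (𝟙 G * (toPt G ≫ x ≫ i)) f = _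
        rw [hcomb]
        refine Finset.sum_congr rfl fun l _ => ?_
        rw [ev_id, Algebra.smul_def, _root_.mul_comm (w l)]
        congr 1
        simp only [Matrix.mulVec, dotProduct, Matrix.map_apply, av, map_sum, map_mul]
        exact Finset.sum_congr rfl fun j _ => by
          rw [← ev_ev, ev_eq_algebraMap, AlgHom.commutes, _root_.mul_comm]
      rw [h1] at h2
      have h3 := Fintype.linearIndependent_iff.mp hwli
        (fun l => ∑ j, a j * AGFLib.val (x ≫ i) (N l j) - a l)
        (by simp only [sub_smul, Finset.sum_sub_distrib, ← h2, ha, sub_self]) l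
      simp only [Matrix.mulVec, dotProduct, Matrix.map_apply, av, map_sum, map_mul, ev_ev, AlgHom.commutes]
      simp only [ev_eq_algebraMap, ← map_mul, ← map_sum]
      rw [← sub_eq_zero.mp h3]
      congr 1
      exact Finset.sum_congr rfl fun j _ => _root_.mul_comm _ _
    have heq : hr.hom = hs.hom := he _ hr.hom hs.hom (by
      rw [IsRepMatrix.hom, IsRepMatrix.hom, comp_matPt, comp_matPt]
      refine matPt_congr ?_
      rw [hmap0, hmap, hfix, sub_self])
    have hNa : av G = N.mulVec (av G) := sub_eq_zero.mp (aff_injective (matPt_injective heq)).symm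
    refine ⟨AGFLib.val (1 : VecGrp.pt k k ⟶ G) f, eq_of_pts fun x => ?_⟩
    show ev x f = ev x (algebraMap k (Fn G) _)
    rw [AlgHom.commutes, ← ev_eq_algebraMap]
    have hx : (N.map (ev x)).mulVec (av _) = av _ := by
      funext l
      have h1 := congrArg (ev x) (congrFun hNa l)
      simp only [Matrix.mulVec, dotProduct, map_sum, map_mul, av, AlgHom.commutes] at h1
      simp only [Matrix.mulVec, dotProduct, Matrix.map_apply, av]
      exact h1.symm
    have h1 : (N.map (ev (1 : VecGrp.pt k k ⟶ G))).mulVec (av _) = av (VecGrp.pt k k) := by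
      rw [hN.one, Matrix.one_mulVec]
    rw [← _root_.one_mul x, hcomb, hx]
    conv_rhs => rw [← _root_.one_mul (1 : VecGrp.pt k k ⟶ G), hcomb, h1]
  tfae_finish

end Groth.Agent.S11234
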