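import Groth.Statements.S11235
import Mathlib

set_option autoImplicit false
universe u
open CAlg

namespace Groth.Agent.S11235

/-- Let k be an algebraically closed field, A a commutative k-algebra, α ∈ k, and M a maximal ideal of
the polynomial ring A[x] containing x - α. Let I ⊆ M be an ideal whose zero set in Spec A[x] is
invariant under the automorphisms x ↦ c·x, c ∈ k nonzero (equivalently: the image of I under each
such A-algebra automorphism has the same radical as I). Then there is a maximal ideal of A[x]
containing I and x. -/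
theorem result (k : Type u) [Field k] [IsAlgClosed k]
    (A : Type u) [CommRing A] [Algebra k A] (α : k)
    (M : Ideal (Polynomial A)) (hM : M.IsMaximal)
    (hα : Polynomial.X - Polynomial.C (algebraMap k A α) ∈ M)
    (I : Ideal (Polynomial A)) (hIM : I ≤ M)
    (hI : ∀ c : kˣ, (I.map (Polynomial.aeval (R := A)
      (algebraMap k A (c : k) • (Polynomial.X : Polynomial A)))).radical = I.radical) :
    ∃ N : Ideal (Polynomial A), N.IsMaximal ∧ I ≤ N ∧ Polynomial.X ∈ N := by
  letI : Field (Polynomial A ⧸ M) := Ideal.Quotient.field M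
  let ε : A →+* Polynomial A ⧸ M := (Ideal.Quotient.mk M).comp Polynomial.C
  let ψ : k → (Polynomial A →+* Polynomial A ⧸ M) := fun β => Polynomial.eval₂RingHom ε (ε (algebraMap k A β))
  have hψα : ψ α = Ideal.Quotient.mk M := by
    refine Polynomial.ringHom_ext (fun a => by simp [ψ, ε]) ?_
    rw [show (ψ α) Polynomial.X = ε (algebraMap k A α) by simp [ψ]]
    exact (Ideal.Quotient.eq.2 hα).symm
  have hεsurj : Function.Surjective ε := by
    intro y
    obtain ⟨p, rfl⟩ := Ideal.Quotient.mk_surjective y
    refine ⟨p.eval (algebraMap k A α), ?_⟩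
    rw [← hψα]
    change ε _ = Polynomial.eval₂ ε (ε (algebraMap k A α)) p
    rw [Polynomial.eval₂_at_apply]
  have hinv : ∀ c : k, c ≠ 0 → ∀ f ∈ I, ψ (c * α) f = 0 := by
    intro c hc f hf
    have h1 : I.map (Polynomial.aeval (R := A) (algebraMap k A c • (Polynomial.X : Polynomial A))) ≤ M := by
      refine Ideal.le_radical.trans (le_of_eq_of_le (hI (Units.mk0 c hc)) ?_)
      exact (hM.isPrime.radical_le_iff).2 hIM
    have h2 : Ideal.Quotient.mk M (Polynomial.aeval (R := A) (algebraMap k A c • (Polynomial.X : Polynomial A)) f) = 0 :=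
      Ideal.Quotient.eq_zero_iff_mem.2 (h1 (Ideal.mem_map_of_mem _ hf))
    rw [← hψα] at h2
    rw [← h2]
    change _ = (ψ α).comp (Polynomial.aeval (R := A) (algebraMap k A c • (Polynomial.X : Polynomial A))).toRingHom f
    congr 1
    refine Polynomial.ringHom_ext (fun a => by simp [ψ]) ?_
    simp [ψ, Algebra.smul_def, map_mul]
  by_cases hα0 : α = 0
  · subst hα0
    exact ⟨M, hM, hIM, by simpa using hα⟩
  haveI : Infinite k := IsAlgClosed.instInfinite
  have hεk : Function.Injective (ε.comp (algebraMap k A)) := RingHom.injective _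
  have h0 : I ≤ RingHom.ker (ψ 0) := by
    intro f hf
    have : f.map ε = 0 := by
      refine Polynomial.eq_zero_of_infinite_isRoot _ ?_
      refine Set.Infinite.mono (s := (ε.comp (algebraMap k A)) '' {x : k | x ≠ 0}) ?_ ?_
      · rintro _ ⟨x, hx, rfl⟩
        have := hinv (x / α) (div_ne_zero hx hα0) f hf
        rw [div_mul_cancel₀ _ hα0] at this
        simpa [ψ, Polynomial.eval_map] using this
      · refine Set.Infinite.image hεk.injOn ?_
        exact Set.Infinite.mono (fun x hx => by simpa using hx) (Set.infinite_univ.sdiff (Set.finite_singleton (0 : k)))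
    rw [RingHom.mem_ker]
    change Polynomial.eval₂ ε _ f = 0
    rw [← Polynomial.eval_map, this, Polynomial.eval_zero]
  refine ⟨RingHom.ker (ψ 0), RingHom.ker_isMaximal_of_surjective (ψ 0) ?_, h0, by simp [RingHom.mem_ker, ψ]⟩
  intro y
  obtain ⟨a, rfl⟩ := hεsurj y
  exact ⟨Polynomial.C a, by simp [ψ]⟩


end Groth.Agent.S11235
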