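import Groth.Statements.S11237
import Mathlib.Algebra.TrivSqZeroExt.Basic
import Mathlib.LinearAlgebra.TensorProduct.Prod

set_option autoImplicit false
universe u
open CategoryTheory MonoidalCategory CartesianMonoidalCategory MonObj GrpObj AlgebraicGeometry
open scoped TensorProduct
open AGF

namespace Groth.Agent.S11237

set_option backward.isDefEq.respectTransparency false

section Aux
open TensorProduct TrivSqZeroExt

variable {k : Type u} [Field k] {A : Type u} [CommRing A] [Algebra k A]
  {M : Type u} [AddCommGroup M] [Module A M] [Module Aᵐᵒᵖ M] [IsCentralScalar A M] [Module k M] [IsScalarTower k A M]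

noncomputable def split (B : Type u) [CommRing B] [Algebra k B] :
    B ⊗[k] TrivSqZeroExt A M ≃ₗ[B] (B ⊗[k] A) × (B ⊗[k] M) :=
  (TensorProduct.AlgebraTensorModule.congr (LinearEquiv.refl B B)
    ({ toFun := fun x => (x.fst, x.snd)
       invFun := fun x => inl x.1 + inr x.2
       map_add' := fun _ _ => rfl
       map_smul' := fun _ _ => rfl
       left_inv := fun x => inl_fst_add_inr_snd_eq x
       right_inv := fun x => by simp } : TrivSqZeroExt A M ≃ₗ[k] A × M)).trans
    (TensorProduct.prodRight k B B A M)

theorem split_tmul (B : Type u) [CommRing B] [Algebra k B] (b : B) (x : TrivSqZeroExt A M) :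
    split B (b ⊗ₜ[k] x) = (b ⊗ₜ[k] x.fst, b ⊗ₜ[k] x.snd) := by
  simp [split]

theorem split_mul (B : Type u) [CommRing B] [Algebra k B] (x y : B ⊗[k] TrivSqZeroExt A M) :
    split B (x * y) = ((split B x).1 * (split B y).1,
      VecGrp.GMod.smulW k A M B (split B x).1 (split B y).2 + VecGrp.GMod.smulW k A M B (split B y).1 (split B x).2) := by
  induction x using TensorProduct.induction_on with
  | zero => simp [← Prod.zero_eq_mk]
  | add x₁ x₂ h₁ h₂ =>
    simp only [add_mul, map_add, h₁, h₂, Prod.fst_add, Prod.snd_add, Prod.mk_add_mk, LinearMap.add_apply]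
    congr 1
    abel
  | tmul b a =>
    induction y using TensorProduct.induction_on with
    | zero => simp [← Prod.zero_eq_mk]
    | add y₁ y₂ h₁ h₂ =>
      simp only [mul_add, map_add, h₁, h₂, Prod.fst_add, Prod.snd_add, Prod.mk_add_mk, LinearMap.add_apply]
      congr 1
      abel
    | tmul b' a' =>
      rw [Algebra.TensorProduct.tmul_mul_tmul, split_tmul, split_tmul, split_tmul]
      ext
      · simp
      · simp [VecGrp.GMod.smulW, TrivSqZeroExt.snd_mul, TensorProduct.tmul_add, mul_comm b' b]

variable {G : Over (Spec (CommRingCat.of k))} [GrpObj G] (ρA : VecGrp.GMod G A) (ρM : VecGrp.GMod G M)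

theorem split_Wmap {B B' : Type u} [CommRing B] [Algebra k B] [CommRing B'] [Algebra k B'] (φ : B →ₐ[k] B')
    (x : B ⊗[k] TrivSqZeroExt A M) :
    split B' (VecGrp.Wmap φ x) = (VecGrp.Wmap φ (split B x).1, VecGrp.Wmap φ (split B x).2) := by
  induction x using TensorProduct.induction_on with
  | zero => simp [← Prod.zero_eq_mk]
  | add x₁ x₂ h₁ h₂ => simp [h₁, h₂]
  | tmul b a => simp [VecGrp.Wmap, split_tmul]

/-- The action on the trivial square-zero extension. -/
noncomputable def ext' : VecGrp.GMod G (TrivSqZeroExt A M) where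
  ρ B _ _ :=
    MonoidHom.mk' (fun g => (split B).trans (((ρA.ρ B g).prodCongr (ρM.ρ B g)).trans (split B).symm)) fun g h => by
      apply LinearEquiv.ext
      intro x
      simp [map_mul]
  naturality {B B' _ _ _ _} φ g x := by
    apply (split B').injective
    simp [split_Wmap, ρA.naturality, ρM.naturality]

theorem split_ext' (B : Type u) [CommRing B] [Algebra k B] (g : VecGrp.pt k B ⟶ G) (x : B ⊗[k] TrivSqZeroExt A M) :
    split B ((ext' ρA ρM).ρ B g x) = (ρA.ρ B g (split B x).1, ρM.ρ B g (split B x).2) := by
  simp [ext']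

end Aux

/-- Let k be an algebraically closed field and G a linear algebraic group over k (affine, smooth) whose
identity component is reductive. Assume finite generation of invariants of reductive groups over k
on finitely generated algebras (a true result which the published text assumes without proof,
carried here as a hypothesis). Let A be a finitely generated commutative k-algebra with a rational
action of G by algebra automorphisms and M a finitely generated A-module with a compatible rational
G-action. Then the invariants M^G form a finitely generated A^G-module (the A^G-span of finitely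
many invariant elements). -/
theorem result (k : Type u) [Field k] [IsAlgClosed k]
    (G : Over (Spec (CommRingCat.of k))) [GrpObj G] (hG : VecGrp.IsReductiveGrp k G)
    (thmA : VecGrp.ReductiveInvariantsFG k)
    (A : Type u) [CommRing A] [Algebra k A] [Algebra.FiniteType k A] (ρA : VecGrp.GMod G A) (hρ : ρA.IsMult)
    (M : Type u) [AddCommGroup M] [Module A M] [Module k M] [IsScalarTower k A M] [Module.Finite A M]
    (ρM : VecGrp.GMod G M) (hc : VecGrp.GMod.IsCompat ρA ρM) :
    ∃ s : Finset M, (↑s : Set M) ⊆ ρM.fixedUnder (𝟙 G) ∧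
      ρM.fixedUnder (𝟙 G) ≤ (Submodule.span ↥(ρA.fixedSubalgebra hρ (𝟙 G)) (↑s : Set M)).restrictScalars k := by
  letI : Module Aᵐᵒᵖ M := Module.compHom M ((RingHom.id A).fromOpposite mul_comm)
  haveI : IsCentralScalar A M := ⟨fun _ _ => rfl⟩
  let T := TrivSqZeroExt A M
  let ρ : VecGrp.GMod G T := ext' ρA ρM
  have hmult : ρ.IsMult := fun B _ _ g => by
    refine ⟨fun x y => (split B).injective ?_, (split B).injective ?_⟩
    · rw [split_ext', split_mul, split_mul, split_ext', split_ext']
      simp only [map_add, hc B g, (hρ B g).1]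
    · rw [split_ext', Algebra.TensorProduct.one_def, split_tmul]
      simp only [TrivSqZeroExt.fst_one, TrivSqZeroExt.snd_one, TensorProduct.tmul_zero, map_zero]
      rw [← Algebra.TensorProduct.one_def, (hρ B g).2]
  have hfix : ∀ x : T, x ∈ ρ.fixedUnder (𝟙 G) → x.fst ∈ ρA.fixedSubalgebra hρ (𝟙 G) ∧ x.snd ∈ ρM.fixedUnder (𝟙 G) := by
    intro x hx
    constructor <;> intro B _ _ h <;>
      have := congrArg (split B) (hx B h)
    · rw [split_ext', split_tmul] at this
      exact congrArg Prod.fst this
    · rw [split_ext', split_tmul] at this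
      exact congrArg Prod.snd this
  have hT : Algebra.FiniteType k T := by
    classical
    obtain ⟨sA, hsA⟩ := (‹Algebra.FiniteType k A›).out
    obtain ⟨sM, hsM⟩ := (‹Module.Finite A M›).fg_top
    refine ⟨⟨sA.image (TrivSqZeroExt.inl) ∪ sM.image (TrivSqZeroExt.inr), ?_⟩⟩
    rw [eq_top_iff]
    rintro x -
    set D := Algebra.adjoin k (↑(sA.image (TrivSqZeroExt.inl (M := M)) ∪ sM.image (TrivSqZeroExt.inr (R := A))) : Set T)
    have hA : ∀ a : A, TrivSqZeroExt.inl a ∈ D := by
      have h1 : Algebra.adjoin k (↑sA : Set A) ≤ D.comap (TrivSqZeroExt.inlAlgHom k A M) :=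
        Algebra.adjoin_le fun a ha => Algebra.subset_adjoin
          (Finset.mem_coe.2 (Finset.mem_union_left _ (Finset.mem_image_of_mem _ ha)))
      rw [hsA] at h1
      exact fun a => h1 Algebra.mem_top
    have hM : ∀ m : M, TrivSqZeroExt.inr m ∈ D := fun m => by
      have hm : m ∈ Submodule.span A (↑sM : Set M) := hsM ▸ Submodule.mem_top
      induction hm using Submodule.span_induction with
      | mem y hy => exact Algebra.subset_adjoin (Finset.mem_coe.2 (Finset.mem_union_right _ (Finset.mem_image_of_mem _ hy)))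
      | zero => rw [TrivSqZeroExt.inr_zero]; exact zero_mem _
      | add y z _ _ hy hz => rw [TrivSqZeroExt.inr_add]; exact add_mem hy hz
      | smul a y _ hy => rw [← TrivSqZeroExt.inl_mul_inr]; exact mul_mem (hA a) hy
    rw [← TrivSqZeroExt.inl_fst_add_inr_snd_eq x]
    exact add_mem (hA _) (hM _)
  obtain ⟨s, hs, hgen⟩ := thmA G hG T ρ hmult hT
  classical
  refine ⟨s.image TrivSqZeroExt.snd, ?_, fun m hm => ?_⟩
  · rw [Finset.coe_image]
    rintro _ ⟨x, hx, rfl⟩
    exact (hfix x (hs hx)).2
  · let Sg := Submodule.span ↥(ρA.fixedSubalgebra hρ (𝟙 G)) (↑(s.image TrivSqZeroExt.snd) : Set M)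
    let D : Subalgebra k T :=
      { carrier := {x | x.fst ∈ ρA.fixedSubalgebra hρ (𝟙 G) ∧ x.snd ∈ Sg}
        mul_mem' := fun {x y} hx hy => by
          refine ⟨by rw [TrivSqZeroExt.fst_mul]; exact mul_mem hx.1 hy.1, ?_⟩
          rw [TrivSqZeroExt.snd_mul, op_smul_eq_smul]
          exact add_mem (Sg.smul_mem ⟨_, hx.1⟩ hy.2) (Sg.smul_mem ⟨_, hy.1⟩ hx.2)
        add_mem' := fun {x y} hx hy => ⟨by rw [TrivSqZeroExt.fst_add]; exact add_mem hx.1 hy.1,
          by rw [TrivSqZeroExt.snd_add]; exact add_mem hx.2 hy.2⟩
        algebraMap_mem' := fun c => by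
          constructor
          · show (TrivSqZeroExt.inl (algebraMap k A c) : T).fst ∈ _
            rw [TrivSqZeroExt.fst_inl]; exact Subalgebra.algebraMap_mem _ c
          · show (TrivSqZeroExt.inl (algebraMap k A c) : T).snd ∈ _
            rw [TrivSqZeroExt.snd_inl]; exact zero_mem _ }
    have hD : Algebra.adjoin k (↑s : Set T) ≤ D := Algebra.adjoin_le fun x hx =>
      ⟨(hfix x (hs hx)).1, Submodule.subset_span (Finset.mem_coe.2 (Finset.mem_image_of_mem _ hx))⟩
    have hinr : (TrivSqZeroExt.inr m : T) ∈ ρ.fixedUnder (𝟙 G) := fun B _ _ h => by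
      apply (split B).injective
      rw [split_ext', split_tmul, TrivSqZeroExt.fst_inr, TrivSqZeroExt.snd_inr, TensorProduct.tmul_zero, map_zero,
        hm B h]
    have := (hD (hgen hinr)).2
    rwa [TrivSqZeroExt.snd_inr] at this

end Groth.Agent.S11237
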