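import Groth.Statements.S11238
import Mathlib.FieldTheory.RatFunc.Luroth
import Mathlib

set_option autoImplicit false
universe u
open AGF

namespace Groth.Agent.S11238

open Polynomial IntermediateField.algebraAdjoinAdjoin in
/-- an algebra homomorphism on a subalgebra which keeps a transcendental element transcendental is
injective -/
theorem injective_of_transcendental {k : Type u} [Field k] {K : Type u} [Field K] [Algebra k K]
    {L : Type u} [Field L] [Algebra k L] (A : Subalgebra k K) (ψ : A →ₐ[k] L) (x : K) (hxA : x ∈ A)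
    (hψ : Transcendental k (ψ ⟨x, hxA⟩))
    (halg : Algebra.IsAlgebraic ↥(IntermediateField.adjoin k {x}) K) : Function.Injective ψ := by
  let B := Algebra.adjoin k {x}
  haveI : Algebra.IsAlgebraic B K :=
    (IsFractionRing.comap_isAlgebraic_iff (K := ↥(IntermediateField.adjoin k {x}))).mpr halg
  have hBA : B ≤ A := Algebra.adjoin_le (Set.singleton_subset_iff.mpr hxA)
  rw [injective_iff_map_eq_zero]
  intro a ha
  by_contra h0
  have ha0 : (a : K) ≠ 0 := fun h => h0 (Subtype.ext h)
  obtain ⟨p, hp0, hp⟩ := (Algebra.IsAlgebraic.isAlgebraic (R := B) (a : K)).exists_nonzero_coeff_and_aeval_eq_zero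
    (mem_nonZeroDivisors_of_ne_zero ha0)
  let ι : B →+* A := (Subalgebra.inclusion hBA).toRingHom
  have he : ι (p.coeff 0) + a * eval₂ ι a p.divX = 0 := by
    apply Subtype.ext
    have h1 : eval₂ ι a p = ι (p.coeff 0) + a * eval₂ ι a p.divX := by
      conv_lhs => rw [← p.X_mul_divX_add]
      rw [eval₂_add, eval₂_mul, eval₂_X, eval₂_C, add_comm]
    rw [← h1]
    show A.val.toRingHom (eval₂ ι a p) = 0
    rw [hom_eval₂]
    exact hp
  have hc : ψ (ι (p.coeff 0)) = 0 := by
    have := congrArg ψ he
    rwa [map_add, map_mul, ha, zero_mul, add_zero, map_zero] at this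
  obtain ⟨w, hw⟩ : ∃ w : k[X], aeval x w = (p.coeff 0 : K) := by
    have h := (p.coeff 0).2
    exact (SetLike.ext_iff.mp (Algebra.adjoin_singleton_eq_range_aeval k x) _).mp h
  have h2 : ι (p.coeff 0) = aeval (⟨x, hxA⟩ : A) w := by
    apply Subtype.ext
    rw [← Subalgebra.coe_val, ← aeval_algHom_apply]
    exact hw.symm
  rw [h2, ← aeval_algHom_apply] at hc
  rw [transcendental_iff.mp hψ w hc, map_zero] at hw
  exact hp0 (Subtype.ext hw.symm)

/-- Over an algebraically closed field k, a unirational variety of dimension one is rational. Field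
form: let K be a finitely generated field extension of k of transcendence degree one (K is algebraic
over k(x) for some x ∈ K transcendental over k) admitting a k-embedding into a purely transcendental
extension k(t_1, ..., t_n). Then K = k(t) for some t ∈ K transcendental over k. -/
theorem result (k : Type u) [Field k] [IsAlgClosed k]
    (K : Type u) [Field K] [Algebra k K] (hfg : (⊤ : IntermediateField k K).FG)
    (x : K) (hx : Transcendental k x) (halg : Algebra.IsAlgebraic ↥(IntermediateField.adjoin k {x}) K)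
    (n : ℕ) (φ : K →ₐ[k] FractionRing (MvPolynomial (Fin n) k)) :
    ∃ t : K, Transcendental k t ∧ IntermediateField.adjoin k {t} = ⊤ := by
  classical
  let R := MvPolynomial (Fin n) k
  let F := FractionRing R
  obtain ⟨S, hS⟩ := hfg
  have hPQ : ∀ s : K, ∃ P Q : R, Q ≠ 0 ∧ φ s * algebraMap R F Q = algebraMap R F P := by
    intro s
    obtain ⟨P, Q, hQ, e⟩ := IsFractionRing.div_surjective R (φ s)
    refine ⟨P, Q, nonZeroDivisors.ne_zero hQ, ?_⟩
    rw [← e, div_mul_cancel₀]
    exact IsFractionRing.to_map_ne_zero_of_mem_nonZeroDivisors hQ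
  choose P Q hQ0 hPQ using hPQ
  let g : R := ∏ s ∈ insert x S, Q s
  have hg : g ≠ 0 := Finset.prod_ne_zero_iff.mpr fun s _ => hQ0 s
  have hdvd : ∀ s ∈ insert x S, Q s ∣ g := fun s hs => Finset.dvd_prod_of_mem Q hs
  haveI : Infinite k := IsAlgClosed.instInfinite
  have hne : ∀ f : R, f ≠ 0 → ∃ a : Fin n → k, MvPolynomial.eval a f ≠ 0 := by
    intro f hf
    by_contra hc
    push Not at hc
    exact hf (MvPolynomial.funext fun a => by simpa using hc a)
  obtain ⟨a, ha⟩ := hne g hg
  have hQa : MvPolynomial.eval a (Q x) ≠ 0 := fun h => by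
    obtain ⟨c, hc⟩ := hdvd x (Finset.mem_insert_self _ _)
    exact ha (by rw [hc, map_mul, h, zero_mul])
  let h : R := P x * MvPolynomial.C (MvPolynomial.eval a (Q x)) -
    MvPolynomial.C (MvPolynomial.eval a (P x)) * Q x
  have hh : h ≠ 0 := by
    intro h0
    refine hx ?_
    have hQF : algebraMap R F (Q x) ≠ 0 := (map_ne_zero_iff _ (IsFractionRing.injective R F)).mpr (hQ0 x)
    refine ⟨Polynomial.C (MvPolynomial.eval a (Q x)) * Polynomial.X -
      Polynomial.C (MvPolynomial.eval a (P x)), fun he => hQa ?_, ?_⟩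
    · simpa using congrArg (fun p => Polynomial.coeff p 1) he
    · refine φ.injective ?_
      show φ _ = φ 0
      refine mul_right_cancel₀ hQF ?_
      have hC : ∀ c : k, algebraMap R F (MvPolynomial.C c) = algebraMap k F c := fun c =>
        (IsScalarTower.algebraMap_apply k R F c).symm
      have h1 := congrArg (algebraMap R F) h0
      simp only [h, map_sub, map_mul, hC, ← hPQ x, map_zero] at h1
      simp only [map_sub, map_mul, Polynomial.aeval_C, Polynomial.aeval_X, AlgHom.commutes,
        map_zero, zero_mul]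
      linear_combination h1
  obtain ⟨b, hb⟩ := hne (h * g) (mul_ne_zero hh hg)
  rw [map_mul] at hb
  let L : R →ₐ[k] Polynomial k :=
    MvPolynomial.aeval fun i => Polynomial.C (a i) + Polynomial.C (b i - a i) * Polynomial.X
  have hL : ∀ (c : k) (e : Fin n → k), (∀ i, a i + (b i - a i) * c = e i) →
      ∀ f : R, (L f).eval c = MvPolynomial.eval e f := by
    intro c e he f
    have : (Polynomial.aeval c).comp L = MvPolynomial.aeval e :=
      MvPolynomial.algHom_ext fun i => by
        show Polynomial.aeval c (MvPolynomial.aeval _ (MvPolynomial.X i)) = _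
        simp [MvPolynomial.aeval_X, he]
    exact congr($this f)
  have hL0 : ∀ f : R, (L f).eval 0 = MvPolynomial.eval a f := hL 0 a fun i => by ring
  have hL1 : ∀ f : R, (L f).eval 1 = MvPolynomial.eval b f := hL 1 b fun i => by ring
  let L' : R →ₐ[k] RatFunc k := (IsScalarTower.toAlgHom k (Polynomial k) (RatFunc k)).comp L
  have hL' : L' g ≠ 0 := by
    show algebraMap (Polynomial k) (RatFunc k) (L g) ≠ 0
    rw [Ne, map_eq_zero_iff _ (IsFractionRing.injective _ _)]
    exact fun h0 => ha (by rw [← hL0, h0, Polynomial.eval_zero])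
  let W := Localization.Away g
  let j : W →ₐ[k] F := IsLocalization.liftAlgHom (M := Submonoid.powers g)
    (f := IsScalarTower.toAlgHom k R F) (by
      rintro ⟨_, m, rfl⟩
      exact (isUnit_iff_ne_zero.mpr ((map_ne_zero_iff _ (IsFractionRing.injective R F)).mpr
        (pow_ne_zero m hg))))
  let θ : W →ₐ[k] RatFunc k := IsLocalization.liftAlgHom (M := Submonoid.powers g) (f := L') (by
      rintro ⟨_, m, rfl⟩
      exact isUnit_iff_ne_zero.mpr (by rw [map_pow]; exact pow_ne_zero m hL'))
  have hjR : ∀ r : R, j (algebraMap R W r) = algebraMap R F r := fun r => IsLocalization.lift_eq _ r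
  have hθR : ∀ r : R, θ (algebraMap R W r) = L' r := fun r => IsLocalization.lift_eq _ r
  have hj : Function.Injective j := by
    refine (IsLocalization.lift_injective_iff _).mpr fun r r' => ?_
    exact ⟨fun e => congrArg _ (IsLocalization.injective W (powers_le_nonZeroDivisors_of_noZeroDivisors hg) e),
      fun e => congrArg _ (IsFractionRing.injective R F e)⟩
  let A : Subalgebra k K := j.range.comap φ
  let ψ : A →ₐ[k] RatFunc k := θ.comp ((AlgEquiv.ofInjective j hj).symm.toAlgHom.comp
    ((φ.comp A.val).codRestrict j.range fun z => (Subalgebra.mem_comap _ _ _).mp z.2))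
  have hψ : ∀ (z : A) (w : W), j w = φ z → ψ z = θ w := by
    intro z w hw
    show θ _ = θ w
    congr 1
    show (AlgEquiv.ofInjective j hj).symm _ = w
    rw [AlgEquiv.symm_apply_eq]
    exact Subtype.ext hw.symm
  have hgen : ∀ s ∈ insert x S, ∃ w : W, j w = φ s ∧ θ w * L' (Q s) = L' (P s) := by
    intro s hs
    have hu : IsUnit (algebraMap R W (Q s)) :=
      isUnit_of_dvd_unit (map_dvd _ (hdvd s hs)) (IsLocalization.Away.algebraMap_isUnit g)
    obtain ⟨w, hw⟩ := hu.dvd (a := algebraMap R W (P s))
    have h1 := congrArg j hw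
    rw [map_mul, hjR, hjR, ← hPQ s] at h1
    refine ⟨w, ?_, ?_⟩
    · refine mul_left_cancel₀ ((map_ne_zero_iff _ (IsFractionRing.injective R F)).mpr (hQ0 s)) ?_
      rw [← h1, mul_comm]
    · rw [← hθR, ← hθR, hw, map_mul, mul_comm]
  have hmem : ∀ s ∈ insert x S, s ∈ A := fun s hs => by
    obtain ⟨w, hw, -⟩ := hgen s hs
    exact ⟨w, hw⟩
  obtain ⟨w, hw, hwx⟩ := hgen x (Finset.mem_insert_self _ _)
  have hxA := hmem x (Finset.mem_insert_self _ _)
  have hxT : Transcendental k (ψ ⟨x, hxA⟩) := by
    intro halg'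
    haveI := IntermediateField.isAlgebraic_adjoin_simple halg'.isIntegral
    obtain ⟨c, hc⟩ := (IsAlgClosed.algebraMap_bijective_of_isIntegral (k := k)
      (K := ↥(IntermediateField.adjoin k {ψ ⟨x, hxA⟩}))).2
      ⟨_, IntermediateField.mem_adjoin_simple_self k _⟩
    have hc' : algebraMap k (RatFunc k) c = ψ ⟨x, hxA⟩ := congrArg Subtype.val hc
    rw [hψ _ w hw] at hc'
    rw [← hc', IsScalarTower.algebraMap_apply k (Polynomial k) (RatFunc k)] at hwx
    have he : Polynomial.C c * L (Q x) = L (P x) := by
      apply IsFractionRing.injective (Polynomial k) (RatFunc k)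
      rw [map_mul]
      exact hwx
    have e0 := congrArg (Polynomial.eval 0) he
    have e1 := congrArg (Polynomial.eval 1) he
    simp only [Polynomial.eval_mul, Polynomial.eval_C, hL0, hL1] at e0 e1
    refine left_ne_zero_of_mul hb ?_
    simp only [h, map_sub, map_mul, MvPolynomial.eval_C]
    linear_combination MvPolynomial.eval b (Q x) * e0 - MvPolynomial.eval a (Q x) * e1
  have hψi := injective_of_transcendental A ψ x hxA hxT halg
  have hfr : ∀ z : K, ∃ r s : A, (s : K) ≠ 0 ∧ z = r / s ∨ z = 0 := by
    intro z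
    have hz : z ∈ IntermediateField.adjoin k (S : Set K) := by rw [hS]; trivial
    rw [IntermediateField.mem_adjoin_iff_div] at hz
    obtain ⟨r, hr, s, hs, rfl⟩ := hz
    have hle : Algebra.adjoin k (S : Set K) ≤ A :=
      Algebra.adjoin_le fun s hs => hmem s (Finset.mem_insert_of_mem hs)
    refine ⟨⟨r, hle hr⟩, ⟨s, hle hs⟩, ?_⟩
    by_cases h0 : s = 0
    · exact Or.inr (by rw [h0, div_zero])
    · exact Or.inl ⟨h0, rfl⟩
  haveI : IsFractionRing A K := IsFractionRing.of_field A K fun z => by
    obtain ⟨r, s, hz⟩ := hfr z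
    rcases hz with ⟨-, hz⟩ | hz
    · exact ⟨r, s, hz⟩
    · exact ⟨0, 1, by rw [hz, map_zero, zero_div]⟩
  let Ψ : K →ₐ[k] RatFunc k := IsFractionRing.liftAlgHom hψi
  let E := Ψ.fieldRange
  let t : K := (AlgEquiv.ofInjectiveField Ψ).symm ⟨RatFunc.Luroth.generator E, ?_⟩
  swap
  · show RatFunc.Luroth.generator E ∈ E
    exact (SetLike.ext_iff.mp (RatFunc.Luroth.eq_adjoin_generator (E := E)) _).mpr
      (IntermediateField.mem_adjoin_simple_self k _)
  have ht : Ψ t = RatFunc.Luroth.generator E :=
    congrArg Subtype.val ((AlgEquiv.ofInjectiveField Ψ).apply_symm_apply _)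
  have htop : IntermediateField.adjoin k {t} = ⊤ := by
    apply IntermediateField.map_injective Ψ
    rw [IntermediateField.adjoin_map, Set.image_singleton, ht, ← AlgHom.fieldRange_eq_map]
    exact (RatFunc.Luroth.eq_adjoin_generator (E := E)).symm
  refine ⟨t, fun halgt => hx ?_, htop⟩
  have : Algebra.IsAlgebraic k ↥(IntermediateField.adjoin k {t}) :=
    IntermediateField.isAlgebraic_adjoin_simple halgt.isIntegral
  exact IntermediateField.isAlgebraic_iff.mp (this.isAlgebraic
    (⟨x, by rw [htop]; trivial⟩ : ↥(IntermediateField.adjoin k {t})))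

end Groth.Agent.S11238
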