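import Groth.Statements.S19530
import Groth.Agent.DescLib.SubtrVal

set_option autoImplicit false
set_option backward.isDefEq.respectTransparency false
set_option backward.isDefEq.respectTransparency.types false
universe u
open CategoryTheory CategoryTheory.Limits AlgebraicGeometry
open Subtr

namespace Groth.Agent.S19530

/-- Let f : X ⟶ Y be a morphism of schemes such that every base change of f has the lifting property for
ordered pairs of points (every point together with a specialization of it is the image of such a
pair). Then every finite chain of points y_0, y_1, …, y_n of Y, in which y_j is a specialization of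
y_i whenever i ≤ j, lifts to a chain in X: there are points x_0, …, x_n of X with x_j a
specialization of x_i for i ≤ j and f(x_i) = y_i for every i. (The published statement is for
universally subtrusive f, which adds submersiveness for the constructible topologies, and for
arbitrary chains having a lower bound in Y; this row keeps the pair-lifting property alone and
finite chains, whose most special member is a lower bound.) -/
theorem result {X Y : Scheme.{u}} (f : X ⟶ Y)
    (hf : Subtr.UnivSSubtrusive f) (n : ℕ) (y : Fin (n + 1) → Y)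
    (hy : ∀ i j : Fin (n + 1), i ≤ j → y i ⤳ y j) :
    ∃ x : Fin (n + 1) → X, (∀ i j : Fin (n + 1), i ≤ j → x i ⤳ x j) ∧ ∀ i, f (x i) = y i := by
  obtain ⟨V, _, _, _, g, q, hq, hgq⟩ := Groth.Agent.DescLib.exists_valuationRing_chain y hy
  have hS := (Groth.Agent.DescLib.univSSubtrusive_iff_valuationRing f).1 hf V g
  obtain ⟨W, _, _, _, a, ha⟩ :=
    ((Groth.Agent.DescLib.tfae_over_valuationRing (pullback.snd f g)).out 1 4 rfl rfl).1 hS
  let b : Spec (CommRingCat.of W) ⟶ Spec (CommRingCat.of V) := a ≫ pullback.snd f g
  have : ∀ k, (hk : k ≤ n) → ∃ w : Fin (n + 1) → Spec (CommRingCat.of W),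
      (∀ i j : Fin (n + 1), (i : ℕ) ≤ k → (j : ℕ) ≤ k → i ≤ j → w i ⤳ w j) ∧
      (∀ i : Fin (n + 1), (i : ℕ) ≤ k → b (w i) = q i) := by
    choose l hl using ha.surj
    intro k
    induction k with
    | zero =>
      intro _
      refine ⟨fun i => l (q i), fun i j hi hj _ => ?_, fun i _ => hl _⟩
      rw [show i = j from Fin.ext (by omega)]
    | succ k ih =>
      intro hk
      obtain ⟨w, hw, hwq⟩ := ih (by omega)
      let i₀ : Fin (n + 1) := ⟨k, by omega⟩
      let i₁ : Fin (n + 1) := ⟨k + 1, by omega⟩
      let w₁ : PrimeSpectrum W := l (q i₁)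
      obtain ⟨v, hv, hvq⟩ : ∃ v : PrimeSpectrum W, w i₀ ⤳ v ∧ b v = q i₁ := by
        rcases (ValuationRing.le_total_ideal (A := W)).1 (w i₀ : PrimeSpectrum W).asIdeal w₁.asIdeal with h | h
        · exact ⟨w₁, (PrimeSpectrum.le_iff_specializes _ _).1 h, hl _⟩
        · have h1 : b w₁ ⤳ b (w i₀) :=
            ((PrimeSpectrum.le_iff_specializes w₁ _).1 h).map b.continuous
          rw [show b w₁ = q i₁ from hl _, hwq i₀ le_rfl] at h1
          exact ⟨w i₀, specializes_rfl,
            (hwq i₀ le_rfl).trans ((hq i₀ i₁ (Fin.mk_le_mk.2 (by omega))).antisymm h1).eq⟩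
      refine ⟨fun i => if (i : ℕ) ≤ k then w i else v, fun i j hi hj hij => ?_, fun i hi => ?_⟩
      · have hij' : (i : ℕ) ≤ j := hij
        by_cases hjk : (j : ℕ) ≤ k
        · simp only [hjk, show (i : ℕ) ≤ k by omega, ↓reduceIte]
          exact hw i j (by omega) hjk hij
        · by_cases hik : (i : ℕ) ≤ k
          · simp only [hik, hjk, ↓reduceIte]
            exact (hw i i₀ hik le_rfl (Fin.mk_le_mk.2 hik)).trans hv
          · simp only [hik, hjk, ↓reduceIte]
            exact specializes_rfl
      · by_cases hik : (i : ℕ) ≤ k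
        · simp only [hik, ↓reduceIte]
          exact hwq i hik
        · simp only [hik, ↓reduceIte]
          rw [show i = i₁ from Fin.ext (by show (i : ℕ) = k + 1; omega)]
          exact hvq
  obtain ⟨w, hw, hwq⟩ := this n le_rfl
  refine ⟨fun i => (a ≫ pullback.fst f g) (w i), fun i j hij =>
    (hw i j (Nat.lt_succ_iff.1 i.2) (Nat.lt_succ_iff.1 j.2) hij).map (a ≫ pullback.fst f g).continuous, fun i => ?_⟩
  rw [← hgq i, ← hwq i (Nat.lt_succ_iff.1 i.2)]
  simp only [b, ← Scheme.Hom.comp_apply, Category.assoc, pullback.condition]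

end Groth.Agent.S19530
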