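import Groth.Statements.S14783
import Groth.Agent.ProConsLib.Image
import Groth.Agent.S19530

set_option autoImplicit false
set_option backward.isDefEq.respectTransparency false
set_option backward.isDefEq.respectTransparency.types false
universe u
open CategoryTheory CategoryTheory.Limits AlgebraicGeometry
open Subtr

namespace Groth.Agent.S14783

/-- Let f : S' ⟶ S be a quasi-compact morphism of schemes every base change of which has the lifting
property for ordered pairs of points, and E ⊆ S any subset. For E to be both locally closed and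
retrocompact it is necessary and sufficient that f⁻¹(E) be both. -/
theorem result {S' S : Scheme.{u}} (f : S' ⟶ S)
    [QuasiCompact f] (hf : Subtr.UnivSSubtrusive f) (E : Set S) :
    (IsLocallyClosed E ∧ IsRetrocompact E) ↔
      (IsLocallyClosed (f ⁻¹' E) ∧ IsRetrocompact (f ⁻¹' E)) := by
  open Groth.Agent.ProConsLib in
  have hsurj : Function.Surjective f := fun y => by
    obtain ⟨x, hx⟩ := Groth.Agent.S19530.result f hf 0 (fun _ => y) (fun _ _ _ => specializes_rfl)
    exact ⟨x 0, hx.2 0⟩
  constructor
  · rintro ⟨hlc, hrc⟩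
    refine ⟨hlc.preimage f.continuous, fun U hU hUo => ?_⟩
    have hpc := Groth.Agent.ProConsLib.preimage
      (Groth.Agent.ProConsLib.isProConstructible_of_isLocallyClosed hlc fun V hV => hrc hV.isCompact V.isOpen) f
    obtain ⟨s, hs, hUs⟩ := isCompact_iff_finite_and_eq_biUnion_affineOpens.mp
      (show IsCompact ((⟨U, hUo⟩ : S'.Opens) : Set S') from hU)
    have hU' : U = ⋃ i ∈ s, (i.1 : Set S') := by simpa using congrArg (fun O : S'.Opens => (O : Set S')) hUs
    rw [hU', Set.inter_iUnion₂]
    refine hs.isCompact_biUnion fun i _ => ?_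
    simpa using Groth.Agent.ProConsLib.isCompact_image_inter hpc (𝟙 S') i.2
  · rintro ⟨hlc, hrc⟩
    have hpc := Groth.Agent.ProConsLib.isProConstructible_of_isLocallyClosed hlc fun V hV => hrc hV.isCompact V.isOpen
    have himg : f '' (f ⁻¹' E) = E := Set.image_preimage_eq E hsurj
    have hrE : IsRetrocompact E := fun U hU hUo => by
      rw [← Set.image_preimage_eq (E ∩ U) hsurj, Set.preimage_inter]
      exact (hrc (f.isCompact_preimage (U := ⟨U, hUo⟩) hU) (hUo.preimage f.continuous)).image f.continuous
    refine ⟨?_, hrE⟩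
    let C' : Set S' := closure (f ⁻¹' E) \ f ⁻¹' E
    have hC' : IsClosed C' := by
      simpa [coborder, isClosed_compl_iff, ← isOpen_compl_iff] using hlc.isOpen_coborder
    have hgen : ∀ y ∈ closure E, ∃ e ∈ E, e ⤳ y := fun y hy => by
      obtain ⟨x, hx, hxy⟩ := Groth.Agent.ProConsLib.exists_specializes_of_mem_closure_image_scheme hpc f
        (show y ∈ closure (f '' (f ⁻¹' E)) by rwa [himg])
      exact ⟨f x, hx, hxy⟩
    have hF : closure E \ E = f '' C' := by
      ext y
      constructor
      · rintro ⟨hy, hyE⟩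
        obtain ⟨e, he, hey⟩ := hgen y hy
        obtain ⟨x, hx, hxy⟩ := Groth.Agent.S19530.result f hf 1 ![e, y] (fun i j hij => by
          fin_cases i <;> fin_cases j <;> simp_all [specializes_rfl])
        have h0 : f (x 0) = e := hxy 0
        have h1 : f (x 1) = y := hxy 1
        exact ⟨x 1, ⟨(hx 0 1 (by simp)).mem_closed isClosed_closure
          (subset_closure (show f (x 0) ∈ E by rwa [h0])), fun h => hyE (h1 ▸ h)⟩, h1⟩
      · rintro ⟨x, ⟨hx, hxE⟩, rfl⟩
        exact ⟨map_mem_closure f.continuous hx fun _ h => h, hxE⟩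
    have hstab : StableUnderSpecialization (closure E \ E) := by
      rintro y z hyz ⟨hy, hyE⟩
      refine ⟨hyz.mem_closed isClosed_closure hy, fun hz => hyE ?_⟩
      obtain ⟨e, he, hey⟩ := hgen y hy
      obtain ⟨x, hx, hxy⟩ := Groth.Agent.S19530.result f hf 2 ![e, y, z] (fun i j hij => by
        fin_cases i <;> fin_cases j <;> simp_all [specializes_rfl, hey.trans hyz])
      have h0 : f (x 0) = e := hxy 0
      have h1 : f (x 1) = y := hxy 1
      have h2 : f (x 2) = z := hxy 2
      obtain ⟨O, Z, hO, hZ, hOZ⟩ := hlc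
      have hx0 : x 0 ∈ f ⁻¹' E := show f (x 0) ∈ E by rwa [h0]
      have hx2 : x 2 ∈ f ⁻¹' E := show f (x 2) ∈ E by rwa [h2]
      rw [hOZ] at hx0 hx2
      have : x 1 ∈ f ⁻¹' E := hOZ ▸ ⟨(hx 1 2 (by decide)).mem_open hO hx2.1, (hx 0 1 (by simp)).mem_closed hZ hx0.2⟩
      rwa [← h1]
    have hFc : IsClosed (closure E \ E) := by
      refine closure_subset_iff_isClosed.1 fun z hz => ?_
      rw [hF] at hz
      obtain ⟨x, hx, hxz⟩ := Groth.Agent.ProConsLib.exists_specializes_of_mem_closure_image_scheme
        (Groth.Agent.ProConsLib.isProConstructible_of_isLocallyClosed hC'.isLocallyClosed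
          fun V hV => hV.isCompact.inter_left hC') f hz
      exact hstab hxz (hF ▸ ⟨x, hx, rfl⟩)
    rw [isLocallyClosed_iff_isOpen_coborder]
    simpa [coborder] using hFc

end Groth.Agent.S14783
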