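import Groth.Statements.S1124
import Groth.Agent.DescLib.ImmDescend
import Groth.Agent.DescLib.SubtrVal
import Groth.Agent.S14783

set_option autoImplicit false
set_option backward.isDefEq.respectTransparency false
set_option backward.isDefEq.respectTransparency.types false
open CategoryTheory CategoryTheory.Limits AlgebraicGeometry Opposite
universe u
open Desc

namespace Groth.Agent.S1124

/-- If the base change of a morphism of schemes along a quasi-compact, flat, surjective morphism is a
quasi-compact immersion, then the morphism itself is a quasi-compact immersion. (Stated for a single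
quasi-compact flat surjective base change; together with Zariski-locality on the target this is fpqc
descent for quasi-compact immersions.) -/
theorem result :
    MorphismProperty.DescendsAlong (@IsImmersion ⊓ @QuasiCompact : MorphismProperty Scheme.{u})
      (@Surjective ⊓ @Flat ⊓ @QuasiCompact : MorphismProperty Scheme.{u}) := by
  refine MorphismProperty.DescendsAlong.mk' fun {X Y Z} f g _ hf h => ?_
  haveI : IsImmersion (pullback.fst f g) := h.1
  haveI : QuasiCompact (pullback.fst f g) := h.2
  haveI := Groth.Agent.EtFound.fpqc_isClosedImmersion.{u}
  haveI := Groth.Agent.EtFound.fpqc_quasiCompact.{u}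
  obtain ⟨⟨_, _⟩, _⟩ := id hf
  refine ⟨?_, MorphismProperty.of_pullback_fst_of_descendsAlong (P := @QuasiCompact)
    (Q := @Surjective ⊓ @Flat ⊓ @QuasiCompact) hf h.2⟩
  have hu : Subtr.UnivSSubtrusive f := by
    haveI : Flat (𝟙 X ≫ f) := by simpa using (inferInstanceAs (Flat f))
    haveI : Surjective (𝟙 X ≫ f) := by simpa using (inferInstanceAs (Surjective f))
    exact Groth.Agent.DescLib.univSSubtrusive_of_closed_flat f (𝟙 X)
  refine Groth.Agent.DescLib.isImmersion_of_pullback_fst (@Surjective ⊓ @Flat ⊓ @QuasiCompact) f g hf
    ((Groth.Agent.S14783.result f hu (Set.range g)).2 ?_).1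
  rw [← Scheme.Pullback.range_fst]
  refine ⟨(pullback.fst f g).isLocallyClosed_range, fun V hV hVo => ?_⟩
  rw [Set.inter_comm, ← Set.image_preimage_eq_inter_range]
  exact ((pullback.fst f g).isCompact_preimage (U := ⟨V, hVo⟩) hV).image (pullback.fst f g).continuous

end Groth.Agent.S1124
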