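import Groth.Statements.S11240
-- import your own Groth.Agent.* helpers here

set_option autoImplicit false
universe u
open AGF

namespace Groth.Agent.S11240

/-- For a single root subgroup: let k be an algebraically closed field and X = (x_ab) the generic n × m
matrix over the polynomial ring k[x_ab]. Let i ≠ j be row indices and let I (rows) and J (columns)
be strictly increasing sequences of length p. The minor of X with rows I and columns J is invariant
under replacing X by (1 + b·E_ij)·X for every b ∈ k (the one-parameter unipotent group adding b
times row j to row i) if and only if j occurs in I whenever i does. (The published statement gives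
the criterion for the group generated by several such root subgroups, which is the conjunction of
these.) -/
theorem result (k : Type u) [Field k] [IsAlgClosed k] (n m p : ℕ)
    (i j : Fin n) (hij : i ≠ j) (I : Fin p ↪o Fin n) (J : Fin p ↪o Fin m) :
    (∀ b : k, ((Matrix.transvection i j (MvPolynomial.C b) *
        (Matrix.of fun a c => (MvPolynomial.X (a, c) : MvPolynomial (Fin n × Fin m) k))).submatrix I J).det =
        ((Matrix.of fun a c => (MvPolynomial.X (a, c) : MvPolynomial (Fin n × Fin m) k)).submatrix I J).det) ↔
      (i ∈ Set.range I → j ∈ Set.range I) := by
  classical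
  let M := (Matrix.of fun a c => (MvPolynomial.X (a, c) : MvPolynomial (Fin n × Fin m) k))
  have hrow : ∀ (b : k) (s : Fin p), I s = i →
      (Matrix.transvection i j (MvPolynomial.C b : MvPolynomial (Fin n × Fin m) k) * M).submatrix I J =
        (M.submatrix I J).updateRow s ((M.submatrix I J) s + (MvPolynomial.C b : MvPolynomial (Fin n × Fin m) k) • fun c => M j (J c)) := by
    intro b s hs
    ext a c
    by_cases ha : a = s
    · subst ha
      simp [Matrix.updateRow_self, hs, Matrix.transvection_mul_apply_same]
    · have : I a ≠ i := fun h => ha (I.injective (h.trans hs.symm))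
      simp [Matrix.updateRow_ne ha, Matrix.transvection_mul_apply_of_ne _ _ _ _ this]
  constructor
  · intro h hi
    obtain ⟨s, hs⟩ := hi
    by_contra hj
    have h1 := h 1
    rw [hrow 1 s hs, Matrix.det_updateRow_add, Matrix.det_updateRow_smul, Matrix.updateRow_eq_self,
      map_one, one_mul, add_eq_left] at h1
    let I' : Fin p → Fin n := Function.update I s j
    have hI' : Function.Injective I' := by
      intro a b hab
      simp only [I', Function.update_apply] at hab
      split_ifs at hab with ha hb
      · exact ha.trans hb.symm
      · exact absurd ⟨b, hab.symm⟩ hj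
      · exact absurd ⟨a, hab⟩ hj
      · exact I.injective hab
    let v : Fin n × Fin m → k := fun q => if ∃ t, I' t = q.1 ∧ J t = q.2 then 1 else 0
    have h2 := congrArg (MvPolynomial.eval v) h1
    rw [RingHom.map_det, map_zero] at h2
    have : (MvPolynomial.eval v).mapMatrix ((M.submatrix I J).updateRow s fun c => M j (J c)) = 1 := by
      ext a c
      have hM : ((M.submatrix I J).updateRow s fun c => M j (J c)) a c = M (I' a) (J c) := by
        simp only [I', Function.update_apply, Matrix.updateRow_apply, Matrix.submatrix_apply]
        split_ifs <;> rfl
      rw [RingHom.mapMatrix_apply, Matrix.map_apply, hM]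
      simp only [M, Matrix.of_apply, MvPolynomial.eval_X, v]
      by_cases hac : a = c
      · subst hac
        rw [if_pos ⟨a, rfl, rfl⟩, Matrix.one_apply_eq]
      · rw [if_neg, Matrix.one_apply_ne hac]
        rintro ⟨t, ht1, ht2⟩
        exact hac ((hI' ht1).symm.trans (J.injective ht2))
    rw [this, Matrix.det_one] at h2
    exact one_ne_zero h2
  · intro h b
    by_cases hi : i ∈ Set.range I
    · obtain ⟨t, ht⟩ := h hi
      obtain ⟨s, hs⟩ := hi
      have hst : s ≠ t := fun e => hij (by rw [← hs, e, ht])
      have hjrow : (fun c => M j (J c)) = (M.submatrix I J) t := by ext c; simp [ht]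
      rw [hrow b s hs, hjrow, Matrix.det_updateRow_add_smul_self _ hst]
    · congr 1
      ext a c
      have : I a ≠ i := fun e => hi ⟨a, e⟩
      simp [Matrix.transvection_mul_apply_of_ne _ _ _ _ this]

end Groth.Agent.S11240
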