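import Groth.Statements.S11242
import Groth.Agent.Grosshans27.Graded
import Groth.Agent.GrpSchLib.UnitsScheme
-- import your own Groth.Agent.* helpers here

set_option autoImplicit false
universe u
open CategoryTheory MonoidalCategory CartesianMonoidalCategory MonObj GrpObj AlgebraicGeometry
open scoped TensorProduct
open AGF

namespace Groth.Agent.S11242

set_option backward.isDefEq.respectTransparency false
set_option backward.isDefEq.respectTransparency.types false

/-- Let k be an algebraically closed field, G a connected reductive linear algebraic group over k, B a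
Borel subgroup of G with unipotent radical U, T a maximal torus of G contained in B, and ω a
character of T. Consider the space E(ω) of global functions f on G which are invariant under right
translation by U and on which right translation by T acts through ω (f(x·u) = f(x), f(x·t) =
ω(t)·f(x)); the published statement writes this space with its weight twisted by the opposition
involution, and finite-dimensionality is the same statement. This space is finite-dimensional: there
are finitely many global functions such that every member of E(ω) is a combination of them with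
constant coefficients. -/
theorem result (k : Type u) [Field k] [IsAlgClosed k]
    (G : Over (Spec (CommRingCat.of k))) [GrpObj G] (hG : Red.IsReductiveOver k G)
    (Bo : Over (Spec (CommRingCat.of k))) [GrpObj Bo] (iB : Bo ⟶ G) (hB : Red.IsBorelOver k iB)
    (U : Over (Spec (CommRingCat.of k))) [GrpObj U] (u : U ⟶ Bo) (hU : Par.IsUnipotentRadical u)
    (T : Over (Spec (CommRingCat.of k))) [GrpObj T] (t : T ⟶ Bo) [IsMonHom t] (hT : AGF.IsMaxTorus (t ≫ iB))
    (ω : T ⟶ Red.Gm (Spec (CommRingCat.of k))) [IsMonHom ω] :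
    ∃ s : Finset Γ(G.left, ⊤), ∀ f : Γ(G.left, ⊤),
      ((G ◁ (u ≫ iB)) ≫ μ[G]).left.appTop f = (fst G U).left.appTop f →
      ((G ◁ (t ≫ iB)) ≫ μ[G]).left.appTop f = (fst G T).left.appTop f * (snd G T).left.appTop (Red.gmFn ω) →
        ∃ c : Γ(G.left, ⊤) → k,
          f = ∑ g ∈ s, G.hom.appTop ((Scheme.ΓSpecIso (CommRingCat.of k)).inv (c g)) * g := by
  classical
  obtain ⟨haff, hsm, hconn, -⟩ := hG
  haveI := haff
  haveI := hsm
  haveI := hconn
  haveI := hB.1
  haveI := hU.1
  haveI := hB.2.1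
  haveI := hU.2.1
  haveI := hU.2.2.2.1
  haveI : IsClosedImmersion (u ≫ iB).left := inferInstanceAs (IsClosedImmersion (u.left ≫ iB.left))
  haveI : IsAffine U.left := isAffine_of_isAffineHom (u ≫ iB).left
  haveI := hT.1
  haveI := hT.2.1
  haveI : AlgebraicGeometry.IsReduced G.left := GrpSchLib.isReduced_of_smooth_field G.hom
  obtain ⟨hdec, hnorm⟩ := Grosshans27.borel_dec_maxTorus iB hB u hU (t ≫ iB) hT (SolvGrp.rangePts_comp iB t)
  have hwt0 : ∀ f : Γ(G.left, ⊤),
      ((G ◁ (t ≫ iB)) ≫ μ[G]).left.appTop f = (fst G T).left.appTop f * (snd G T).left.appTop (Red.gmFn ω) →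
      ∀ x : 𝟙_ (Over (Spec (CommRingCat.of k))) ⟶ T,
        SolvGrp.rt (x ≫ t ≫ iB) (f : GrpSchLib.Kunneth.Fn G) =
          WeilCmp.Unip.vl x (Red.gmFn ω) • (f : GrpSchLib.Kunneth.Fn G) := by
    intro f hf x
    have hf' : GrpSchLib.Kunneth.ev ((G ◁ (t ≫ iB)) ≫ μ[G]) f =
        GrpSchLib.Kunneth.ev (fst G T) f * GrpSchLib.Kunneth.ev (snd G T) (Red.gmFn ω) := hf
    have h1 := congrArg (GrpSchLib.Kunneth.ev (lift (𝟙 G) (toUnit G ≫ x))) hf'
    have hx : GrpSchLib.Kunneth.ev (toUnit G ≫ x) (Red.gmFn ω) =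
        algebraMap k (GrpSchLib.Kunneth.Fn G) (WeilCmp.Unip.vl x (Red.gmFn ω)) := by
      rw [← GrpSchLib.Kunneth.ev_ev]
      conv_lhs => rw [← AGFLib.ProjAct.algebraMap_toK (k := k) (GrpSchLib.Kunneth.ev x (Red.gmFn ω))]
      exact AlgHom.commutes _ _
    rw [map_mul, GrpSchLib.Kunneth.ev_ev, GrpSchLib.Kunneth.ev_ev, GrpSchLib.Kunneth.ev_ev,
      AGFLib.comp_translate, lift_fst, lift_snd_assoc, lift_snd, GrpSchLib.Kunneth.ev_id,
      hx, _root_.mul_comm f, Category.assoc, ← Algebra.smul_def] at h1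
    exact h1
  let E : Set (GrpSchLib.Kunneth.Fn G) := {f | ((G ◁ (u ≫ iB)) ≫ μ[G]).left.appTop f = (fst G U).left.appTop f ∧
    ((G ◁ (t ≫ iB)) ≫ μ[G]).left.appTop f = (fst G T).left.appTop f * (snd G T).left.appTop (Red.gmFn ω)}
  by_cases hE : ∀ f ∈ E, f = 0
  · exact ⟨∅, fun f h1 h2 => ⟨fun _ => 0, by rw [Finset.sum_empty]; exact hE f ⟨h1, h2⟩⟩⟩
  push Not at hE
  obtain ⟨f₀, hf₀, hf₀0⟩ := hE
  obtain ⟨ψ, hψ⟩ := Grosshans27.exists_wt (iT := t ≫ iB) hf₀0 fun x => ⟨_, hwt0 f₀ hf₀.2 x⟩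
  obtain ⟨s, hs⟩ := Grosshans27.exists_weight_finite (iT := t ≫ iB) hT.2.2.1
    (SolvGrp.rangePts (u ≫ iB) : Set (𝟙_ (Over (Spec (CommRingCat.of k))) ⟶ G))
    (fun a ha x hx => hnorm a (SolvGrp.rangePts_comp iB t ha) x hx)
    (Grosshans27.fg_general iB hB u hU)
    (fun f hf => Grosshans27.const_of_borel iB hB fun b hb => by
      obtain ⟨a, ha, hab⟩ := hdec b hb
      conv_lhs => rw [show b = a * (a⁻¹ * b) by group, ← Grosshans27.rt_rt,
        Grosshans27.mem_fixAlg.mp hf _ (Or.inl hab), Grosshans27.mem_fixAlg.mp hf _ (Or.inr ha)]) ψ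
  refine ⟨s, fun f h1 h2 => ?_⟩
  have hfU : (f : GrpSchLib.Kunneth.Fn G) ∈ AGF.rTransInv (u ≫ iB) := h1
  have hw : Grosshans27.IsWt (t ≫ iB) ψ (f : GrpSchLib.Kunneth.Fn G) := fun x => by
    have e : (ψ x : k) = WeilCmp.Unip.vl x (Red.gmFn ω) :=
      smul_left_injective k hf₀0 ((hψ x).symm.trans (hwt0 f₀ hf₀.2 x))
    rw [e]
    exact hwt0 f h2 x
  obtain ⟨c, -, hc⟩ := Submodule.mem_span_finset.mp
    (hs f ((Grosshans27.mem_rTransInv_iff_fix (u ≫ iB) f).mp hfU) hw)
  refine ⟨c, hc.symm.trans (Finset.sum_congr rfl fun g _ => ?_)⟩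
  rw [Algebra.smul_def]
  rfl


end Groth.Agent.S11242
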