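import Groth.Statements.S11243
import Groth.Agent.RootData.Coroot
import Groth.Agent.RootData.Lengths

set_option autoImplicit false
universe u v w
open RootD

namespace Groth.Agent.S11243

open Groth.Agent.RootData

/-- (b), for a connected group, as a statement about its root datum: let P be a finite reduced
crystallographic root pairing over ℤ with weight lattice M, and b a base of P (simple roots,
determining the positive roots). Then there is an additive map h : M → ℤ which is positive on every
positive root (so that h strictly increases along the dominance order) and non-negative on every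
dominant weight, i.e. on every ω ∈ M pairing non-negatively with all simple coroots. (Part (c),
invariance under the component group of a disconnected group, is not stated.) -/
theorem result {ι : Type u} {M : Type v} {N : Type w}
    [Fintype ι] [AddCommGroup M] [AddCommGroup N]
    (P : RootPairing ι ℤ M N) [P.IsReduced] [P.IsCrystallographic] (b : P.Base) :
    ∃ h : M →+ ℤ, (∀ i : ι, b.IsPos i → 0 < h (P.root i)) ∧
      ∀ ω : M, (∀ j ∈ b.support, 0 ≤ P.toLinearMap ω (P.coroot j)) → 0 ≤ h ω := by
  classical
  have h := Simple.of_base b
  set S := Finset.univ.filter (fun k => k ∈ posOf P (b.support : Set ι))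
  have hsimp : ∀ a ∈ b.support, ∑ k ∈ S, nn P a k = 2 := by
    intro a ha
    set s := Finset.univ.filter (fun k => k ∈ posOf P (b.support : Set ι) ∧ k ≠ a)
    have hs := h.sum_pos_refl isIndiv_of_reduced ha (fun k => nn P a k)
    have hneg : ∀ k, nn P a (P.reflectionPerm a k) = - nn P a k := by
      intro k
      have := nn_smul (RootPairing.Equiv.reflection P a) (P.reflectionPerm a a) k
      rw [refl_smul_idx, refl_smul_idx, P.reflectionPerm_self, nn_neg_left] at this
      exact this
    simp only [hneg, Finset.sum_neg_distrib] at hs
    have : S = insert a s := by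
      ext k
      simp only [Finset.mem_filter, Finset.mem_univ, true_and, Finset.mem_insert, s, S]
      exact ⟨fun hk => (_root_.em (k = a)).imp_right fun hne => ⟨hk, hne⟩,
        fun hk => hk.elim (fun e => e ▸ h.subset_posOf ha) And.left⟩
    rw [this, Finset.sum_insert (by simp [s]), nn_self]
    simp only [s] at *
    omega
  refine ⟨(∑ k ∈ S, P.coroot' k).toAddMonoidHom, fun i hi => ?_, fun ω hω => ?_⟩
  · show 0 < (∑ k ∈ S, P.coroot' k) (P.root i)
    have e : ∀ k, P.coroot' k (P.root i) = ∑ a, h.co i a * nn P a k := fun k => by
      rw [P.root_coroot'_eq_pairing, ← nn_cast P i k, Int.cast_id, h.nn_eq]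
    rw [LinearMap.sum_apply]
    simp only [e]
    rw [Finset.sum_comm]
    simp only [← Finset.mul_sum]
    have hpi := (base_isPos_iff b i).mp hi
    obtain ⟨a, ha⟩ := h.mem_posOf_iff'.mp hpi
    refine Finset.sum_pos' (fun c _ => ?_) ⟨a, Finset.mem_univ a, ?_⟩
    · by_cases hc : c ∈ b.support
      · rw [hsimp c hc]; have := h.mem_posOf_iff.mp hpi c; omega
      · simp [h.co_supp (show c ∉ (b.support : Set ι) by simpa using hc)]
    · by_cases hc : a ∈ b.support
      · rw [hsimp a hc]; omega
      · rw [h.co_supp (show a ∉ (b.support : Set ι) by simpa using hc)] at ha; omega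
  · show 0 ≤ (∑ k ∈ S, P.coroot' k) ω
    rw [LinearMap.sum_apply]
    refine Finset.sum_nonneg fun k hk => ?_
    have hk' : k ∈ posOf P (b.support : Set ι) := (Finset.mem_filter.mp hk).2
    have hz : ∑ a, (Pi.single k (bz P k k) - fun a => h.co k a * bz P a a : ι → ℤ) a • P.coroot a = 0 := by
      refine coroot_comb_zero fun x => ?_
      simp only [Pi.sub_apply, sub_mul, Finset.sum_sub_distrib, Pi.single_apply, ite_mul, zero_mul, Finset.sum_ite_eq', Finset.mem_univ, if_true]
      rw [sub_eq_zero]
      calc bz P k k * nn P x k = nn P k x * bz P x x := by linear_combination bz_swap (P := P) x k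
        _ = _ := by
          rw [h.nn_eq k x, Finset.sum_mul]
          exact Finset.sum_congr rfl fun a _ => by linear_combination -(h.co k a) * bz_swap (P := P) x a
    have hval := congrArg (P.toLinearMap ω) hz
    simp [sub_smul, Finset.sum_sub_distrib, Pi.single_apply, sub_eq_zero] at hval
    have hnn : 0 ≤ bz P k k * P.toLinearMap ω (P.coroot k) := by
      rw [hval]
      refine Finset.sum_nonneg fun a _ => ?_
      by_cases ha : a ∈ b.support
      · exact mul_nonneg (mul_nonneg (h.mem_posOf_iff.mp hk' a) (bz_self_pos P a).le) (hω a ha)
      · simp [h.co_supp (show a ∉ (b.support : Set ι) by simpa using ha)]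
    exact nonneg_of_mul_nonneg_right hnn (bz_self_pos P k)

end Groth.Agent.S11243
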