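import Groth.Statements.S11244
import Groth.Agent.GrpSchLib.OrbitDim
import Groth.Agent.FibDim.RelDim
import Groth.Agent.FibDim.Semicont
import Groth.Agent.FibDim.Minimal
-- import your own Groth.Agent.* helpers here

set_option autoImplicit false
universe u
open CategoryTheory MonoidalCategory CartesianMonoidalCategory MonObj GrpObj AlgebraicGeometry
open scoped TensorProduct
open AGF

namespace Groth.Agent.S11244

set_option backward.isDefEq.respectTransparency false
set_option backward.isDefEq.respectTransparency.types false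

open Groth.Agent Groth.Agent.GrpSchLib

variable {k : Type u} [Field k] [IsAlgClosed k] {G X : Over (Spec (CommRingCat.of k))} [GrpObj G]

/-- Translation of an orbit map by a rational point. -/
theorem fibreDimAt_const [LocallyOfFiniteType G.hom] (a : AlgGrp.Action G X)
    (x : 𝟙_ (Over (Spec (CommRingCat.of k))) ⟶ X) [LocallyOfFiniteType (a.orbitMap x).left] (z : G.left) :
    FlatMor.fibreDimAt (a.orbitMap x).left z =
      FlatMor.fibreDimAt (a.orbitMap x).left ((η[G] : 𝟙_ _ ⟶ G).left (IsLocalRing.closedPoint k)) := by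
  classical
  have : JacobsonSpace G.left := LocallyOfFiniteType.jacobsonSpace G.hom
  let e₀ := (η[G] : 𝟙_ _ ⟶ G).left (IsLocalRing.closedPoint k)
  have hclosed : ∀ c : G.left, IsClosed {c} →
      FlatMor.fibreDimAt (a.orbitMap x).left c = FlatMor.fibreDimAt (a.orbitMap x).left e₀ := by
    intro c hc
    let g : 𝟙_ (Over (Spec (CommRingCat.of k))) ⟶ G :=
      Over.homMk _ ((pointEquivClosedPoint G.hom).symm ⟨c, hc⟩).2
    have hg : g.left (IsLocalRing.closedPoint k) = c :=
      congrArg Subtype.val ((pointEquivClosedPoint G.hom).apply_symm_apply ⟨c, hc⟩)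
    let T : X ≅ X :=
      { hom := lift (toUnit X ≫ g) (𝟙 X) ≫ a.act
        inv := lift (toUnit X ≫ g)⁻¹ (𝟙 X) ≫ a.act
        hom_inv_id := by
          rw [← Category.assoc, comp_lift, Category.comp_id, GrpObj.comp_inv, ← Category.assoc (lift _ _ ≫ _),
            comp_toUnit, act_mul, inv_mul_cancel, act_one]
        inv_hom_id := by
          rw [← Category.assoc, comp_lift, Category.comp_id, ← Category.assoc (lift _ _ ≫ _),
            comp_toUnit, act_mul, mul_inv_cancel, act_one] }
    let M : G ≅ G :=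
      { hom := (toUnit G ≫ g) * 𝟙 G
        inv := (toUnit G ≫ g)⁻¹ * 𝟙 G
        hom_inv_id := by
          simp only [MonObj.comp_mul, GrpObj.comp_inv, ← Category.assoc, comp_toUnit, Category.comp_id]
          group
        inv_hom_id := by
          simp only [MonObj.comp_mul, ← Category.assoc, comp_toUnit, Category.comp_id]
          group }
    have hcomm : M.hom ≫ a.orbitMap x = a.orbitMap x ≫ T.hom := by
      simp only [M, T, AlgGrp.Action.orbitMap, ← Category.assoc, comp_lift, Category.comp_id, comp_toUnit]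
      rw [act_mul]
    haveI : IsIso T.hom.left := ((Over.forget _).mapIso T).isIso_hom
    haveI : IsIso M.hom.left := ((Over.forget _).mapIso M).isIso_hom
    have sq : IsPullback M.hom.left (a.orbitMap x).left (a.orbitMap x).left T.hom.left :=
      IsPullback.of_horiz_isIso ⟨congrArg CommaMorphism.left hcomm⟩
    have hMe : M.hom.left e₀ = c := by
      have h1 : η[G] ≫ M.hom = g := by
        simp only [M, MonObj.comp_mul, ← Category.assoc, comp_toUnit, toUnit_unit, Category.id_comp, Category.comp_id]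
        show g * η[G] = g
        rw [show (η[G] : 𝟙_ _ ⟶ G) = 1 by rw [Hom.one_def, toUnit_unit, Category.id_comp], _root_.mul_one]
      exact (congrArg (fun e : 𝟙_ _ ⟶ G => e.left (IsLocalRing.closedPoint k)) h1).trans hg
    rw [← hMe, ← FibDim.fibreDimAt_baseChange sq e₀]
  obtain ⟨z₁, -, -, he, -⟩ := FibDim.exists_fibreDimAt_eq (a.orbitMap x).left e₀
  refine le_antisymm ?_ ?_
  · by_contra hlt
    obtain ⟨c, hc1, hc⟩ := nonempty_inter_closedPoints
      (Z := {w | FlatMor.fibreDimAt (a.orbitMap x).left w ≤ FlatMor.fibreDimAt (a.orbitMap x).left e₀}ᶜ) ⟨z, hlt⟩ (by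
        rw [he]
        exact (FibDim.isOpen_fibreDimAt_le _ _).isClosed_compl.isLocallyClosed)
    exact hc1 (hclosed c hc).le
  · by_contra hlt
    obtain ⟨c, hc1, hc⟩ := nonempty_inter_closedPoints
      (Z := {w | FlatMor.fibreDimAt (a.orbitMap x).left e₀ ≤ FlatMor.fibreDimAt (a.orbitMap x).left w}ᶜ) ⟨z, hlt⟩ (by
        rw [he]
        exact (FibDim.isClosed_le_fibreDimAt _ _).isOpen_compl.isLocallyClosed)
    exact hc1 (hclosed c hc).ge

/-- The dimension formula for an orbit. -/
theorem dim_closure_le_iff [LocallyOfFiniteType G.hom] [QuasiCompact G.hom] [LocallyOfFiniteType X.hom]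
    [QuasiCompact X.hom] (a : AlgGrp.Action G X) (x : 𝟙_ (Over (Spec (CommRingCat.of k))) ⟶ X)
    [LocallyOfFiniteType (a.orbitMap x).left] (N : ℕ) (hN : topologicalKrullDim G.left = ((N : ℕ∞) : WithBot ℕ∞))
    (r : ℕ) :
    topologicalKrullDim ↥(closure (Set.range ⇑(a.orbitMap x).left.base)) ≤ (r : WithBot ℕ∞) ↔
      (((N - r : ℕ) : ℕ) : WithBot ℕ∞) ≤
        FlatMor.fibreDimAt (a.orbitMap x).left ((η[G] : 𝟙_ _ ⟶ G).left (IsLocalRing.closedPoint k)) := by
  classical
  set φ := (a.orbitMap x).left
  set e₀ := (η[G] : 𝟙_ _ ⟶ G).left (IsLocalRing.closedPoint k)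
  haveI : CompactSpace G.left := (quasiCompact_iff_compactSpace G.hom).mp inferInstance
  haveI : IsLocallyNoetherian G.left := LocallyOfFiniteType.isLocallyNoetherian G.hom
  haveI : IsNoetherian G.left := { }
  haveI : Nonempty G.left := ⟨e₀⟩
  obtain ⟨z₁, -, -, he, -⟩ := FibDim.exists_fibreDimAt_eq φ e₀
  set d := FibDim.rd φ z₁
  have hw : φ ≫ X.hom = G.hom := Over.w _
  have hdeg : ∀ z, VarDim.deg G.hom z = VarDim.deg X.hom (φ z) + FibDim.rd φ z := fun z => by
    have h1 := FibDim.rd_eq_rdeg φ z
    rw [← VarDim.fdeg_eq_rdeg φ X.hom z] at h1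
    rw [VarDim.deg_eq_add φ X.hom hw z, Nat.cast_inj.mp h1]
  have hconst : ∀ z, FlatMor.fibreDimAt φ z = ((d : ℕ∞) : WithBot ℕ∞) := fun z => (fibreDimAt_const a x z).trans he
  have hle : ∀ z, FibDim.rd φ z ≤ d := fun z => by
    have h1 := FibDim.rd_le_fibreDimAt φ (specializes_refl z) rfl
    rw [hconst z] at h1
    exact_mod_cast h1
  rw [he, show (((N - r : ℕ) : ℕ) : WithBot ℕ∞) ≤ ((d : ℕ∞) : WithBot ℕ∞) ↔ N ≤ r + d by
    rw [show (((N - r : ℕ) : ℕ) : WithBot ℕ∞) = (((N - r : ℕ) : ℕ∞) : WithBot ℕ∞) from rfl, WithBot.coe_le_coe,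
      Nat.cast_le]
    omega]
  rw [VarDim.topologicalKrullDim_set_eq_iSup_deg X.hom isClosed_closure, iSup_le_iff]
  obtain ⟨θ, -, hall, hθ⟩ := VarDim.exists_deg_eq_topologicalKrullDim (p := G.hom)
  rw [hN] at hθ
  have hNθ : N = VarDim.deg G.hom θ := by exact_mod_cast hθ
  constructor
  · intro h
    have h1 := h ⟨φ θ, subset_closure ⟨θ, rfl⟩⟩
    have h2 : VarDim.deg X.hom (φ θ) ≤ r := by exact_mod_cast h1
    have := hle θ
    rw [hNθ, hdeg θ]
    omega
  · rintro h ⟨ζ, hζ⟩
    have hfin : (irreducibleComponents G.left).Finite := TopologicalSpace.NoetherianSpace.finite_irreducibleComponents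
    have hrange : closure (Set.range φ) ⊆ ⋃ C ∈ irreducibleComponents G.left, closure (φ '' C) := by
      refine closure_minimal ?_ (hfin.isClosed_biUnion fun C _ => isClosed_closure)
      rintro _ ⟨z, rfl⟩
      exact Set.mem_biUnion (irreducibleComponent_mem_irreducibleComponents z)
        (subset_closure ⟨z, mem_irreducibleComponent, rfl⟩)
    obtain ⟨C, hC, hζC⟩ := Set.mem_iUnion₂.1 (hrange hζ)
    have hsp : φ hC.1.genericPoint ⤳ ζ := by
      rw [specializes_iff_mem_closure]
      refine closure_minimal ?_ isClosed_closure hζC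
      rintro _ ⟨z, hz, rfl⟩
      refine specializes_iff_mem_closure.1 (Specializes.map ?_ φ.continuous)
      rw [specializes_iff_mem_closure, hC.1.genericPoint_closure_eq,
        (isClosed_of_mem_irreducibleComponents C hC).closure_eq]
      exact hz
    obtain ⟨z₂, -, hz₂, he₂, -⟩ := FibDim.exists_fibreDimAt_eq φ hC.1.genericPoint
    rw [hconst] at he₂
    have hd₂ : d = FibDim.rd φ z₂ := by exact_mod_cast he₂
    have h1 := hdeg z₂
    rw [hz₂, ← hd₂] at h1
    have h2 := hall z₂
    have h3 := VarDim.deg_le_of_specializes X.hom hsp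
    have h4 : VarDim.deg X.hom ζ ≤ r := by omega
    exact_mod_cast h4

/-- Let k be an algebraically closed field, G a linear algebraic group over k (affine, smooth) acting on
an irreducible variety X over k (reduced, separated, of finite type). For a rational point x of X
let dim G·x be the dimension of the closure of its orbit. Then for every r the set of rational
points x with dim G·x ≤ r is closed: there is a closed subset Z of X whose rational points are
exactly those x. (The second assertion, that the points of maximal orbit dimension form a dense open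
subset, follows.) -/
theorem result (k : Type u) [Field k] [IsAlgClosed k]
    (G : Over (Spec (CommRingCat.of k))) [GrpObj G] [IsAffine G.left] [Smooth G.hom]
    (X : Over (Spec (CommRingCat.of k))) [IrreducibleSpace ↥X.left] [IsReduced X.left]
    [IsSeparated X.hom] [LocallyOfFiniteType X.hom] [QuasiCompact X.hom]
    (a : AlgGrp.Action G X) (r : ℕ) :
    ∃ Z : Set ↥X.left, IsClosed Z ∧
      ∀ x : 𝟙_ (Over (Spec (CommRingCat.of k))) ⟶ X,
        topologicalKrullDim ↥(closure (Set.range ⇑(a.orbitMap x).left.base)) ≤ (r : WithBot ℕ∞) ↔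
          Set.range ⇑x.left.base ⊆ Z := by
  classical
  let Φ : G ⊗ X ⟶ X ⊗ X := lift a.act (snd G X)
  haveI : LocallyOfFiniteType (G ⊗ X).hom :=
    inferInstanceAs (LocallyOfFiniteType (Limits.pullback.fst G.hom X.hom ≫ G.hom))
  haveI : LocallyOfFiniteType Φ.left := by
    haveI : LocallyOfFiniteType (Φ.left ≫ (X ⊗ X).hom) := by rw [Over.w Φ]; infer_instance
    exact locallyOfFiniteType_of_comp Φ.left (X ⊗ X).hom
  haveI : CompactSpace G.left := (quasiCompact_iff_compactSpace G.hom).mp inferInstance
  haveI : Nonempty G.left := ⟨(η[G] : 𝟙_ _ ⟶ G).left (IsLocalRing.closedPoint k)⟩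
  obtain ⟨η₀, -, -, hN⟩ := VarDim.exists_deg_eq_topologicalKrullDim (p := G.hom)
  let N := VarDim.deg G.hom η₀
  let s : X ⟶ G ⊗ X := lift (toUnit X ≫ η[G]) (𝟙 X)
  refine ⟨s.left ⁻¹' {z | ((N - r : ℕ) : WithBot ℕ∞) ≤ FlatMor.fibreDimAt Φ.left z},
    (FibDim.isClosed_le_fibreDimAt Φ.left (N - r)).preimage s.left.continuous, fun x => ?_⟩
  haveI : LocallyOfFiniteType (a.orbitMap x).left := by
    haveI : LocallyOfFiniteType ((a.orbitMap x).left ≫ X.hom) := by rw [Over.w (a.orbitMap x)]; infer_instance
    exact locallyOfFiniteType_of_comp (a.orbitMap x).left X.hom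
  rw [dim_closure_le_iff a x N hN r]
  let p : G ⟶ G ⊗ X := lift (𝟙 G) (toUnit G ≫ x)
  let j : X ⟶ X ⊗ X := lift (𝟙 X) (toUnit X ≫ x)
  have w : p ≫ Φ = a.orbitMap x ≫ j := by
    simp only [p, j, Φ, comp_lift, Category.comp_id, lift_snd, ← Category.assoc, comp_toUnit]
    rfl
  have sq : IsPullback p (a.orbitMap x) Φ j := by
    refine IsPullback.of_isLimit' ⟨w⟩ (Limits.PullbackCone.IsLimit.mk _ (fun c => c.fst ≫ fst G X) (fun c => ?_) (fun c => ?_)
      (fun c m h₁ h₂ => ?_))
    · have h := congrArg (· ≫ snd X X) c.condition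
      simp only [Φ, j, Category.assoc, lift_snd] at h
      rw [← Category.assoc, comp_toUnit] at h
      refine CartesianMonoidalCategory.hom_ext _ _ ?_ ?_
      · simp [p]
      · simp only [p, Category.assoc, lift_snd]
        rw [← Category.assoc, ← Category.assoc, comp_toUnit, ← h]
    · have h := congrArg (· ≫ fst X X) c.condition
      have h' := congrArg (· ≫ snd X X) c.condition
      simp only [Φ, j, Category.assoc, lift_fst, lift_snd, Category.comp_id] at h h'
      rw [← Category.assoc, comp_toUnit] at h'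
      rw [← h, AlgGrp.Action.orbitMap, ← Category.assoc]
      congr 1
      refine CartesianMonoidalCategory.hom_ext _ _ ?_ ?_
      · simp
      · simp only [Category.assoc, lift_snd]
        rw [← Category.assoc, ← Category.assoc, comp_toUnit, ← h']
    · rw [← h₁]
      simp [p]
  have he : p.left ((η[G] : 𝟙_ _ ⟶ G).left (IsLocalRing.closedPoint k)) = s.left (x.left (IsLocalRing.closedPoint k)) := by
    have h : η[G] ≫ p = x ≫ s := by
      simp only [p, s, comp_lift, Category.comp_id, ← Category.assoc, comp_toUnit, toUnit_unit, Category.id_comp]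
    exact congrArg (fun e : 𝟙_ _ ⟶ G ⊗ X => e.left (IsLocalRing.closedPoint k)) h
  have sqL : IsPullback p.left (a.orbitMap x).left Φ.left j.left := sq.map (Over.forget _)
  rw [FibDim.fibreDimAt_baseChange sqL]
  haveI : Subsingleton ↥(𝟙_ (Over (Spec (CommRingCat.of k)))).left :=
    inferInstanceAs (Subsingleton ↥(Spec (CommRingCat.of k)))
  constructor
  · rintro h _ ⟨t, rfl⟩
    rw [show t = IsLocalRing.closedPoint k from Subsingleton.elim _ _]
    show ((N - r : ℕ) : WithBot ℕ∞) ≤ FlatMor.fibreDimAt Φ.left _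
    rw [← he]
    exact h
  · intro h
    show ((N - r : ℕ) : WithBot ℕ∞) ≤ FlatMor.fibreDimAt Φ.left (p.left _)
    rw [he]
    exact h ⟨IsLocalRing.closedPoint k, rfl⟩

end Groth.Agent.S11244
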