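import Groth.Statements.S11248
import Groth.Agent.Grosshans27.Restrict
import Groth.Agent.Grosshans27.Main
import Groth.Agent.S11225
-- import your own Groth.Agent.* helpers here

set_option autoImplicit false
universe u
open CategoryTheory MonoidalCategory CartesianMonoidalCategory MonObj GrpObj AlgebraicGeometry
open scoped TensorProduct
open AGF

namespace Groth.Agent.S11248

open Groth.Agent Groth.Agent.Grosshans27

set_option backward.isDefEq.respectTransparency false
set_option backward.isDefEq.respectTransparency.types false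
set_option maxHeartbeats 1000000


/-- Let k be an algebraically closed field, G a linear algebraic group over k (affine, smooth) acting
rationally by algebra automorphisms on a commutative k-algebra A, H a smooth closed subgroup of G,
and L a smooth closed subgroup of G whose identity component is reductive and which normalizes H;
let B_L be a Borel subgroup of L and U(L) its unipotent radical (a maximal unipotent subgroup of L).
Assume finite generation of invariants of reductive groups over k on finitely generated algebras (a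
true result which the published text assumes without proof, carried here as a hypothesis). Then A^H
is a finitely generated k-algebra exactly when the algebra of invariants of H·U(L), namely A^H ∩
A^{U(L)}, is finitely generated over k. -/
theorem result (k : Type u) [Field k] [IsAlgClosed k]
    (G : Over (Spec (CommRingCat.of k))) [GrpObj G] [IsAffine G.left] [Smooth G.hom]
    (H : Over (Spec (CommRingCat.of k))) [GrpObj H] [Smooth H.hom] (i : H ⟶ G) [IsMonHom i] [IsClosedImmersion i.left]
    (L : Over (Spec (CommRingCat.of k))) [GrpObj L] (j : L ⟶ G) [IsMonHom j] [IsClosedImmersion j.left]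
    (hL : VecGrp.IsReductiveGrp k L)
    (hnorm : ∀ (X : Over (Spec (CommRingCat.of k))) (l : X ⟶ L) (h : X ⟶ H),
      ∃ h' : X ⟶ H, (l ≫ j) * (h ≫ i) * (l ≫ j)⁻¹ = h' ≫ i)
    (BL : Over (Spec (CommRingCat.of k))) [GrpObj BL] (iBL : BL ⟶ L) (hBL : Red.IsBorelOver k iBL)
    (UL : Over (Spec (CommRingCat.of k))) [GrpObj UL] (uL : UL ⟶ BL) (hUL : Par.IsUnipotentRadical uL)
    (thmA : VecGrp.ReductiveInvariantsFG k)
    (A : Type u) [CommRing A] [Algebra k A] (ρ : VecGrp.GMod G A) (hρ : ρ.IsMult) :
    Algebra.FiniteType k ↥(ρ.fixedSubalgebra hρ i) ↔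
      Algebra.FiniteType k ↥(ρ.fixedSubalgebra hρ i ⊓ ρ.fixedSubalgebra hρ (uL ≫ iBL ≫ j)) := by
  classical
  haveI := hL.1
  haveI := hL.2.1
  haveI := hBL.1
  haveI := hUL.1
  haveI := hUL.2.1
  haveI := hBL.2.1
  haveI : IsAffine BL.left := isAffine_of_isAffineHom iBL.left
  haveI : IsAffine UL.left := isAffine_of_isAffineHom uL.left
  haveI : Smooth UL.hom := hUL.2.2.2.1
  haveI : IsAffine H.left := isAffine_of_isAffineHom i.left
  let ρL := comapMod j ρ
  have hρL : ρL.IsMult := isMult_comapMod ρ j hρ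
  let AH := ρ.fixedSubalgebra hρ i
  have hstab : ∀ l : 𝟙_ (Over (Spec (CommRingCat.of k))) ⟶ L, ∀ v ∈ AH, S11241.act ρL l v ∈ AH := fun l v hv => by
    rw [act_comapMod]
    refine (mem_fixed_iff_act i ρ hρ _).mpr fun h => ?_
    obtain ⟨h', hh'⟩ := hnorm _ l⁻¹ h
    rw [GrpObj.inv_comp, _root_.inv_inv] at hh'
    rw [← Module.End.mul_apply, ← map_mul,
      show (h ≫ i) * (l ≫ j) = (l ≫ j) * (h' ≫ i) by rw [← hh']; group,
      map_mul, Module.End.mul_apply, (mem_fixed_iff_act i ρ hρ v).mp hv h']
  let ρ' := (subAct ρL hρL AH hstab).gmod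
  have hρ' : ρ'.IsMult := (subAct ρL hρL AH hstab).isMult
  have key : (ρ'.fixedSubalgebra hρ' (uL ≫ iBL)).map AH.val =
      ρ.fixedSubalgebra hρ i ⊓ ρ.fixedSubalgebra hρ (uL ≫ iBL ≫ j) := by
    have h2 : ∀ a : A, a ∈ ρL.fixedSubalgebra hρL (uL ≫ iBL) ↔ a ∈ ρ.fixedSubalgebra hρ (uL ≫ iBL ≫ j) := fun a => by
      rw [mem_fixed_iff_act (uL ≫ iBL) ρL hρL, mem_fixed_iff_act (uL ≫ iBL ≫ j) ρ hρ]
      refine forall_congr' fun h => ?_
      rw [act_comapMod]
      simp only [Category.assoc]
    refine SetLike.ext fun a => ⟨?_, fun ha => ?_⟩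
    · rintro ⟨l, hl, rfl⟩
      exact ⟨l.2, (h2 _).mp ((mem_fixed_subAct ρL hρL hstab (uL ≫ iBL) l).mp hl)⟩
    · exact ⟨⟨a, ha.1⟩, (mem_fixed_subAct ρL hρL hstab (uL ≫ iBL) ⟨a, ha.1⟩).mpr ((h2 a).mpr ha.2), rfl⟩
  rw [← key]
  let e := Subalgebra.equivMapOfInjective (ρ'.fixedSubalgebra hρ' (uL ≫ iBL)) AH.val Subtype.val_injective
  constructor
  · intro hfg
    haveI := hfg
    exact Algebra.FiniteType.equiv (finiteType_fixed (uL ≫ iBL) ρ' hρ' hL thmA (fg_general iBL hBL uL hUL)) e
  · intro hfg
    exact S11225.result k L hL BL iBL hBL UL uL hUL thmA AH ρ' hρ' (Algebra.FiniteType.equiv hfg e.symm)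

end Groth.Agent.S11248
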