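import Groth.Statements.S11252
import Groth.Agent.PlLib.Smt
-- import your own Groth.Agent.* helpers here

set_option autoImplicit false
universe u
open W4bk4grassmannian

namespace Groth.Agent.S11252

open W4bk4grassmannian in
/-- Standard monomial basis for a union of Schubert varieties: let K be an algebraically closed field, 0
< d < n, and I(d,n) the strictly increasing maps Fin d → Fin n ordered entrywise; S = K[X_θ : θ ∈
I(d,n)] is the Plücker polynomial ring and, for τ ∈ I(d,n), J(τ) ⊆ S is the ideal of polynomials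
vanishing at the d × d row-minors of every n × d matrix over K whose minors on rows φ ≰ τ are zero
(the homogeneous ideal of the Schubert variety X(τ) ⊆ G(d,n)). Let τ_1, …, τ_r ∈ I(d,n) and let J =
⋂_i J(τ_i) be the homogeneous ideal of the union ⋃_i X(τ_i). Then the classes in S/J of the
monomials X_{θ_1} ⋯ X_{θ_m} (m ≥ 0) along chains θ_1 ≥ ⋯ ≥ θ_m all of whose members lie below some
τ_i are linearly independent over K and span S/J. -/
theorem result (K : Type u) [Field K] [IsAlgClosed K] (d n : ℕ)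
    (hd : 0 < d) (hdn : d < n) (r : ℕ) (τs : Fin r → Idx d n) :
    LinearIndependent K (fun c : (Σ m : ℕ, {c : Fin m → Idx d n // Antitone c ∧ ∃ i, ∀ k, c k ≤ τs i}) =>
        Ideal.Quotient.mk (⨅ i, schubertVanishing K d n (τs i)) (chainMon K c.2.1)) ∧
      Submodule.span K (Set.range fun c : (Σ m : ℕ, {c : Fin m → Idx d n // Antitone c ∧ ∃ i, ∀ k, c k ≤ τs i}) =>
        Ideal.Quotient.mk (⨅ i, schubertVanishing K d n (τs i)) (chainMon K c.2.1)) = ⊤ := by
  classical
  constructor
  · rw [linearIndependent_iff']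
    intro s a hsum x hx
    obtain ⟨m, c, hc, i, hi⟩ := x
    have hmem : (∑ y ∈ s, a y • W4bk4grassmannian.chainMon K y.2.1) ∈ ⨅ j, schubertVanishing K d n (τs j) := by
      rw [← Ideal.Quotient.eq_zero_iff_mem, map_sum]
      refine Eq.trans ?_ hsum
      exact Finset.sum_congr rfl fun y _ => map_smul (Ideal.Quotient.mkₐ K _) (a y) _
    have hmem' := Groth.Agent.PlLib.psi_eq_zero_of_mem_schubertVanishing ((Ideal.mem_iInf.1 hmem) i)
    refine Groth.Agent.PlLib.coeff_eq_zero_of_psi hd
      (fun y : (Σ m : ℕ, {c : Fin m → Idx d n // Antitone c ∧ ∃ i, ∀ k, c k ≤ τs i}) => y.2.1)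
      (fun y => y.2.2.1) ?_ s a (τs i) hmem' ⟨m, c, hc, i, hi⟩ hx hi
    rintro ⟨m₁, c₁, h₁⟩ ⟨m₂, c₂, h₂⟩ he
    simp only [Sigma.mk.injEq] at he
    obtain ⟨rfl, he⟩ := he
    obtain rfl := eq_of_heq he
    rfl
  · rw [eq_top_iff]
    rintro x -
    obtain ⟨f, rfl⟩ := Ideal.Quotient.mk_surjective x
    obtain ⟨l, hl⟩ := Groth.Agent.PlLib.exists_std_decomp f
    have hle : plIdealTop (d := d) (n := n) K ≤ ⨅ j, schubertVanishing K d n (τs j) :=
      le_iInf fun j => (Groth.Agent.PlLib.plIdealTop_le_plIdeal _).trans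
        (Groth.Agent.PlLib.plIdeal_le_schubertVanishing _)
    rw [Ideal.Quotient.eq.2 (hle hl), Finsupp.sum, map_sum]
    refine Submodule.sum_mem _ fun y _ => ?_
    show (Ideal.Quotient.mkₐ K _) (l y • W4bk4grassmannian.chainMon K y.2.1) ∈ _
    rw [map_smul]
    refine Submodule.smul_mem _ _ ?_
    by_cases hy : ∃ i, ∀ k, y.2.1 k ≤ τs i
    · exact Submodule.subset_span ⟨⟨y.1, y.2.1, y.2.2, hy⟩, rfl⟩
    · have h0 : W4bk4grassmannian.chainMon K y.2.1 ∈ ⨅ j, schubertVanishing K d n (τs j) :=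
        Ideal.mem_iInf.2 fun j => Groth.Agent.PlLib.plIdeal_le_schubertVanishing _
          (Groth.Agent.PlLib.chainMon_mem_plIdeal fun hk => hy ⟨j, hk⟩)
      rw [Ideal.Quotient.mkₐ_eq_mk, Ideal.Quotient.eq_zero_iff_mem.2 h0]
      exact Submodule.zero_mem _

end Groth.Agent.S11252
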