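import Groth.Statements.S11253
import Groth.Agent.PlLib.Smt
import Groth.Agent.PlLib.Shape
-- import your own Groth.Agent.* helpers here

set_option autoImplicit false
universe u
open W4bk4grassmannian

namespace Groth.Agent.S11253

open W4bk4grassmannian in
/-- Intersections of Schubert varieties are reduced: let K be an algebraically closed field, 0 < d < n,
and I(d,n) the strictly increasing maps Fin d → Fin n ordered entrywise; S = K[X_θ : θ ∈ I(d,n)] is
the Plücker polynomial ring and, for τ ∈ I(d,n), J(τ) ⊆ S is the ideal of polynomials vanishing at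
the d × d row-minors of every n × d matrix over K whose minors on rows φ ≰ τ are zero (the
homogeneous ideal of the Schubert variety X(τ) ⊆ G(d,n)). Then for all w₁, w₂ ∈ I(d,n) the ideal
J(w₁) + J(w₂) of S is radical. -/
theorem result (K : Type u) [Field K] [IsAlgClosed K] (d n : ℕ)
    (hd : 0 < d) (hdn : d < n) (w₁ w₂ : Idx d n) :
    (schubertVanishing K d n w₁ ⊔ schubertVanishing K d n w₂).IsRadical := by
  have h : W4bk4grassmannian.schubertVanishing K d n w₁ ⊔ W4bk4grassmannian.schubertVanishing K d n w₂ =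
      W4bk4grassmannian.schubertVanishing K d n (W4bk4grassmannian.inf w₁ w₂) := by
    simp only [Groth.Agent.PlLib.schubertVanishing_eq_plIdeal hd]
    refine le_antisymm (sup_le (Ideal.span_mono ?_) (Ideal.span_mono ?_)) ?_
    · rintro f (hf | ⟨φ, hφ, rfl⟩)
      · exact Or.inl hf
      · exact Or.inr ⟨φ, fun h => hφ (h.trans (Groth.Agent.PlLib.inf_le_left' _ _)), rfl⟩
    · rintro f (hf | ⟨φ, hφ, rfl⟩)
      · exact Or.inl hf
      · exact Or.inr ⟨φ, fun h => hφ (h.trans (Groth.Agent.PlLib.inf_le_right' _ _)), rfl⟩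
    · rw [W4bk4grassmannian.plIdeal, Ideal.span_le]
      rintro f (hf | ⟨φ, hφ, rfl⟩)
      · exact Ideal.mem_sup_left (Ideal.subset_span (Or.inl hf))
      · by_cases h₁ : φ ≤ w₁
        · exact Ideal.mem_sup_right (Ideal.subset_span (Or.inr ⟨φ, fun h₂ => hφ fun t => le_min (h₁ t) (h₂ t), rfl⟩))
        · exact Ideal.mem_sup_left (Ideal.subset_span (Or.inr ⟨φ, h₁, rfl⟩))
  rw [h]
  exact (Groth.Agent.PlLib.isPrime_schubertVanishing hd _).isRadical

end Groth.Agent.S11253
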