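import Groth.Statements.S11254
import Groth.Agent.PlLib.Smt
import Groth.Agent.PlLib.Basic
-- import your own Groth.Agent.* helpers here

set_option autoImplicit false
universe u
open W4bk4grassmannian

namespace Groth.Agent.S11254

open W4bk4grassmannian in
/-- Let K be an algebraically closed field, 0 < d < n, and I(d,n) the strictly increasing maps Fin d →
Fin n ordered entrywise; S = K[X_θ : θ ∈ I(d,n)] is the Plücker polynomial ring and, for τ ∈ I(d,n),
J(τ) ⊆ S is the ideal of polynomials vanishing at the d × d row-minors of every n × d matrix over K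
whose minors on rows φ ≰ τ are zero (the homogeneous ideal of the Schubert variety X(τ) ⊆ G(d,n)).
Let τ ∈ I(d,n) admit some φ < τ (X(τ) has positive dimension). Then J(τ) + (X_τ) = ⋂_φ J(φ), the
intersection over the Schubert divisors φ of τ, i.e. the φ < τ with Σ_t (φ_t - t) + 1 = Σ_t (τ_t -
t). (For the zero-dimensional Schubert variety there is no divisor and the left side is the
irrelevant ideal, so positive dimension is required at the level of ideals.) -/
theorem result (K : Type u) [Field K] [IsAlgClosed K]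
    (d n : ℕ) (hd : 0 < d) (hdn : d < n) (τ : Idx d n) (hτ : ∃ φ : Idx d n, φ < τ) :
    schubertVanishing K d n τ ⊔ Ideal.span {MvPolynomial.X τ} =
      ⨅ φ ∈ divisors τ, schubertVanishing K d n φ := by
  classical
  open Groth.Agent.PlLib MvPolynomial in
  obtain ⟨φ₁, hφ₁⟩ := hτ
  obtain ⟨φ₀, hφ₀, -⟩ := exists_divisor_ge hφ₁
  refine le_antisymm (le_iInf₂ fun φ hφ => sup_le ?_ ?_) ?_
  · rw [schubertVanishing_eq_plIdeal hd, schubertVanishing_eq_plIdeal hd]
    refine Ideal.span_mono ?_
    rintro f (hf | ⟨ψ, hψ, rfl⟩)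
    · exact Or.inl hf
    · exact Or.inr ⟨ψ, fun h => hψ (h.trans hφ.1.le), rfl⟩
  · rw [Ideal.span_singleton_le_iff_mem, schubertVanishing_eq_plIdeal hd]
    exact Ideal.subset_span (Or.inr ⟨τ, not_le_of_gt hφ.1, rfl⟩)
  intro f hf
  simp only [Ideal.mem_iInf] at hf
  obtain ⟨l, hl⟩ := exists_std_decomp f
  have hl' : f - l.sum (fun x a => a • W4bk4grassmannian.chainMon K x.2.1) ∈ schubertVanishing K d n τ :=
    plIdeal_le_schubertVanishing τ (plIdealTop_le_plIdeal τ hl)
  suffices h : l.sum (fun x a => a • W4bk4grassmannian.chainMon K x.2.1) ∈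
      schubertVanishing K d n τ ⊔ Ideal.span {MvPolynomial.X τ} by
    simpa using add_mem (Ideal.mem_sup_left (T := Ideal.span {MvPolynomial.X τ}) hl') h
  rw [Finsupp.sum]
  refine Submodule.sum_mem _ fun x hx => ?_
  by_cases hτx : ∃ k, x.2.1 k = τ
  · obtain ⟨k, hk⟩ := hτx
    refine Ideal.mem_sup_right (Submodule.smul_of_tower_mem _ _ ?_)
    rw [W4bk4grassmannian.chainMon, ← Finset.mul_prod_erase _ _ (Finset.mem_univ k), hk]
    exact Ideal.mul_mem_right _ _ (Ideal.subset_span rfl)
  by_cases hw : ∀ k, x.2.1 k ≤ τ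
  swap
  · exact Ideal.mem_sup_left (Submodule.smul_of_tower_mem _ _
      (plIdeal_le_schubertVanishing τ (chainMon_mem_plIdeal hw)))
  push Not at hτx
  obtain ⟨φ, hφ, hxφ⟩ : ∃ φ ∈ divisors τ, ∀ k, x.2.1 k ≤ φ := by
    obtain ⟨m, c, hc⟩ := x
    cases m with
    | zero => exact ⟨φ₀, hφ₀, fun k => k.elim0⟩
    | succ m =>
      obtain ⟨φ, hφ, hle⟩ := exists_divisor_ge (lt_of_le_of_ne (hw 0) (hτx 0))
      exact ⟨φ, hφ, fun k => (hc (Fin.zero_le k)).trans hle⟩
  have hsum : psi K φ (∑ y ∈ l.support, l y • W4bk4grassmannian.chainMon K y.2.1) = 0 := by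
    have h1 : psi K φ (f - l.sum (fun x a => a • W4bk4grassmannian.chainMon K x.2.1)) = 0 :=
      plIdealTop_le_ker_ev (stair K φ) hl
    rw [map_sub, psi_eq_zero_of_mem_schubertVanishing (hf φ hφ), zero_sub, neg_eq_zero] at h1
    exact h1
  rw [coeff_eq_zero_of_psi hd (fun y : AllStd d n => y.2.1) (fun y => y.2.2) ?_ l.support l φ hsum x hx hxφ,
    zero_smul]
  · exact zero_mem _
  · rintro ⟨m, c, hc⟩ ⟨m', c', hc'⟩ he
    simp only [Sigma.mk.injEq] at he
    obtain ⟨rfl, he⟩ := he
    obtain rfl := eq_of_heq he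
    rfl

end Groth.Agent.S11254
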