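import Groth.Statements.S11256
import Groth.Agent.PlLib.Quadric
-- import your own Groth.Agent.* helpers here

set_option autoImplicit false
universe u
open W4bk4grassmannian

namespace Groth.Agent.S11256

open W4bk4grassmannian in
/-- The Grassmannian is cut out set-theoretically by the Plücker quadrics: let K be a field, e, n
natural numbers, and q : I(e+1,n) → K a nonzero vector (a point of the projective space of the
Plücker embedding of G(e+1,n)). Then q is the vector of (e+1) × (e+1) row-minors of some n × (e+1)
matrix over K if and only if all the quadrics attached to i' ∈ I(e,n), j' ∈ I(e+2,n) (the signed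
sums Σ_h (-1)^(h+1) [i', j'_h] [j' with j'_h removed], brackets of arbitrary tuples meaning signed
sorted coordinates, zero on repeated rows) vanish at q. (The published statement is over an
algebraically closed field; this row allows any field K.) -/
theorem result (K : Type u) [Field K] (e n : ℕ)
    (q : Idx (e + 1) n → K) (hq : q ≠ 0) :
    (∀ (i' : Idx e n) (j' : Idx (e + 2) n), MvPolynomial.eval q (quadric K i' j') = 0) ↔
      ∃ A : Matrix (Fin n) (Fin (e + 1)) K, ∀ θ : Idx (e + 1) n, q θ = (A.submatrix θ.1 id).det := by
  refine ⟨Groth.Agent.PlLib.exists_matrix_of_quadrics hq, fun ⟨A, hA⟩ i' j' => ?_⟩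
  exact Groth.Agent.PlLib.eval_quadric_of_minors A q hA i' j'

end Groth.Agent.S11256
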