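import Groth.Statements.S11257
import Mathlib.RingTheory.Regular.RegularSequence
-- import your own Groth.Agent.* helpers here

set_option autoImplicit false
universe u
open W4bk4grassmannian

namespace Groth.Agent.S11257

/-- Let A be a Noetherian local integral domain with maximal ideal m, I and J ideals of A, d ≥ 1, and
f_1, …, f_d ∈ m. Assume depth A/(I+J) ≥ d - 1, depth A/I ≥ d and depth A/J ≥ d (depths of the
quotients as A-modules), that f_1, …, f_d is a regular sequence on A/I and on A/J, and that f_1, …,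
f_{d-1} is a regular sequence on A/(I+J). Then f_1, …, f_d is a regular sequence on A/(I ∩ J). -/
theorem result (A : Type u) [CommRing A] [IsDomain A]
    [IsNoetherianRing A] [IsLocalRing A] (I J : Ideal A) (d : ℕ) (hd : 0 < d) (f : Fin d → A)
    (hf : ∀ k, f k ∈ IsLocalRing.maximalIdeal A)
    (hIJd : ((d - 1 : ℕ) : ℕ∞) ≤ LocCoh.depth A (A ⧸ (I ⊔ J)))
    (hId : (d : ℕ∞) ≤ LocCoh.depth A (A ⧸ I)) (hJd : (d : ℕ∞) ≤ LocCoh.depth A (A ⧸ J))
    (hI : RingTheory.Sequence.IsRegular (A ⧸ I) (List.ofFn f))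
    (hJ : RingTheory.Sequence.IsRegular (A ⧸ J) (List.ofFn f))
    (hIJ : RingTheory.Sequence.IsRegular (A ⧸ (I ⊔ J)) ((List.ofFn f).take (d - 1))) :
    RingTheory.Sequence.IsRegular (A ⧸ (I ⊓ J)) (List.ofFn f) := by
  open scoped Pointwise in
  have key : ∀ (l : List A) {L M N : Type u} [AddCommGroup L] [AddCommGroup M] [AddCommGroup N]
      [Module A L] [Module A M] [Module A N] (g : L →ₗ[A] M) (q : M →ₗ[A] N),
      Function.Injective g → Function.Exact g q → Function.Surjective q →
      RingTheory.Sequence.IsWeaklyRegular M l → RingTheory.Sequence.IsWeaklyRegular N (l.take (l.length - 1)) →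
      RingTheory.Sequence.IsWeaklyRegular L l := by
    intro l
    induction l with
    | nil => intros; exact .nil _ _
    | cons r rs ih =>
      intro L M N _ _ _ _ _ _ g q hg hgq hq hM hN
      rw [RingTheory.Sequence.isWeaklyRegular_cons_iff] at hM ⊢
      refine ⟨hM.1.of_injective g hg, ?_⟩
      rcases rs with - | ⟨r', rs⟩
      · exact .nil _ _
      rw [show (r :: r' :: rs).take ((r :: r' :: rs).length - 1) = r :: (r' :: rs).take ((r' :: rs).length - 1) by
        simp [List.take_succ_cons], RingTheory.Sequence.isWeaklyRegular_cons_iff] at hN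
      refine ih (QuotSMulTop.map r g) (QuotSMulTop.map r q) ?_ (QuotSMulTop.map_exact r hgq hq)
        (QuotSMulTop.map_surjective r hq) hM.2 hN.2
      rw [injective_iff_map_eq_zero]
      intro x hx
      obtain ⟨x, rfl⟩ := Submodule.Quotient.mk_surjective _ x
      have hx' : g x ∈ r • (⊤ : Submodule A M) := (Submodule.Quotient.mk_eq_zero _).1 hx
      obtain ⟨y, -, hy⟩ := (Submodule.mem_smul_pointwise_iff_exists _ _ _).1 hx'
      have hqy : q y = 0 := hN.1 (show r • q y = r • (0 : N) by
        rw [← map_smul, hy, smul_zero]; exact (hgq _).2 ⟨x, rfl⟩)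
      obtain ⟨z, rfl⟩ := (hgq y).1 hqy
      refine (Submodule.Quotient.mk_eq_zero _).2 ((Submodule.mem_smul_pointwise_iff_exists _ _ _).2
        ⟨z, Submodule.mem_top, hg ?_⟩)
      rw [map_smul, hy]
  have hprod : ∀ {M₁ M₂ : Type u} [AddCommGroup M₁] [AddCommGroup M₂] [Module A M₁] [Module A M₂] (l : List A),
      RingTheory.Sequence.IsWeaklyRegular M₁ l → RingTheory.Sequence.IsWeaklyRegular M₂ l →
      RingTheory.Sequence.IsWeaklyRegular (M₁ × M₂) l := by
    intro M₁ M₂ _ _ _ _ l
    induction l generalizing M₁ M₂ with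
    | nil => intros; exact .nil _ _
    | cons r rs ih =>
      intro h1 h2
      rw [RingTheory.Sequence.isWeaklyRegular_cons_iff] at h1 h2 ⊢
      refine ⟨fun x y h => Prod.ext (h1.1 (congrArg Prod.fst h)) (h2.1 (congrArg Prod.snd h)), ?_⟩
      let φ : QuotSMulTop r (M₁ × M₂) →ₗ[A] QuotSMulTop r M₁ × QuotSMulTop r M₂ :=
        (QuotSMulTop.map r (LinearMap.fst A M₁ M₂)).prod (QuotSMulTop.map r (LinearMap.snd A M₁ M₂))
      have hφ : Function.Bijective φ := by
        refine ⟨?_, ?_⟩
        · rw [injective_iff_map_eq_zero]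
          intro x hx
          obtain ⟨x, rfl⟩ := Submodule.Quotient.mk_surjective _ x
          obtain ⟨a, -, ha⟩ := (Submodule.mem_smul_pointwise_iff_exists _ _ _).1
            ((Submodule.Quotient.mk_eq_zero _).1 (congrArg Prod.fst hx))
          obtain ⟨b, -, hb⟩ := (Submodule.mem_smul_pointwise_iff_exists _ _ _).1
            ((Submodule.Quotient.mk_eq_zero _).1 (congrArg Prod.snd hx))
          exact (Submodule.Quotient.mk_eq_zero _).2 ((Submodule.mem_smul_pointwise_iff_exists _ _ _).2
            ⟨(a, b), Submodule.mem_top, Prod.ext ha hb⟩)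
        · rintro ⟨a, b⟩
          obtain ⟨a, rfl⟩ := Submodule.Quotient.mk_surjective _ a
          obtain ⟨b, rfl⟩ := Submodule.Quotient.mk_surjective _ b
          exact ⟨Submodule.Quotient.mk (a, b), rfl⟩
      exact ((LinearEquiv.ofBijective φ hφ).isWeaklyRegular_congr rs).2 (ih h1.2 h2.2)
  refine ⟨?_, ?_⟩
  · let g : (A ⧸ (I ⊓ J)) →ₗ[A] (A ⧸ I) × (A ⧸ J) :=
      (Submodule.factor (inf_le_left : I ⊓ J ≤ I)).prod (Submodule.factor (inf_le_right : I ⊓ J ≤ J))
    let q : (A ⧸ I) × (A ⧸ J) →ₗ[A] A ⧸ (I ⊔ J) :=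
      (Submodule.factor (le_sup_left : I ≤ I ⊔ J)).coprod (-Submodule.factor (le_sup_right : J ≤ I ⊔ J))
    refine key _ g q ?_ ?_ ?_ (hprod _ hI.toIsWeaklyRegular hJ.toIsWeaklyRegular) ?_
    · rw [injective_iff_map_eq_zero]
      intro x hx
      obtain ⟨x, rfl⟩ := Submodule.Quotient.mk_surjective _ x
      exact (Submodule.Quotient.mk_eq_zero _).2 ⟨(Submodule.Quotient.mk_eq_zero _).1 (congrArg Prod.fst hx),
        (Submodule.Quotient.mk_eq_zero _).1 (congrArg Prod.snd hx)⟩
    · rintro ⟨a, b⟩
      obtain ⟨a, rfl⟩ := Submodule.Quotient.mk_surjective _ a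
      obtain ⟨b, rfl⟩ := Submodule.Quotient.mk_surjective _ b
      constructor
      · intro h
        have h' : a - b ∈ I ⊔ J := (Submodule.Quotient.eq _).1 (eq_of_sub_eq_zero (by
          simpa [q, sub_eq_add_neg] using h))
        obtain ⟨i, hi, j, hj, hij⟩ := Submodule.mem_sup.1 h'
        refine ⟨Submodule.Quotient.mk (a - i), Prod.ext ((Submodule.Quotient.eq _).2 ?_) ((Submodule.Quotient.eq _).2 ?_)⟩
        · simpa using neg_mem hi
        · rw [LinearMap.id_apply, show a - i - b = j by linear_combination -hij]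
          exact hj
      · rintro ⟨x, hx⟩
        obtain ⟨x, rfl⟩ := Submodule.Quotient.mk_surjective _ x
        rw [← hx]
        simp [g, q]
    · intro x
      obtain ⟨x, rfl⟩ := Submodule.Quotient.mk_surjective _ x
      exact ⟨(Submodule.Quotient.mk x, 0), by simp [q]⟩
    · simpa using hIJ.toIsWeaklyRegular
  · intro htop
    haveI : Nontrivial (A ⧸ (I ⊓ J)) := by
      haveI : Nontrivial (A ⧸ I) := by
        by_contra hn
        haveI := not_nontrivial_iff_subsingleton.1 hn
        exact hI.top_ne_smul (Subsingleton.elim _ _)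
      exact (Submodule.factor_surjective (inf_le_left : I ⊓ J ≤ I)).nontrivial
    have hle : (Ideal.ofList (List.ofFn f)) ≤ IsLocalRing.maximalIdeal A := by
      rw [Ideal.ofList, Ideal.span_le]
      intro x hx
      obtain ⟨k, rfl⟩ := List.mem_ofFn.1 hx
      exact hf k
    exact (Submodule.top_ne_ideal_smul_of_le_jacobson_annihilator
      (hle.trans (IsLocalRing.maximalIdeal_le_jacobson _))) htop

end Groth.Agent.S11257
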