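import Groth.Statements.S11258
import Groth.Agent.PlLib.CM
-- import your own Groth.Agent.* helpers here

set_option autoImplicit false
universe u
open W4bk4grassmannian

namespace Groth.Agent.S11258

open W4bk4grassmannian in
/-- Schubert varieties are arithmetically Cohen–Macaulay: let K be an algebraically closed field, 0 < d
< n, and I(d,n) the strictly increasing maps Fin d → Fin n ordered entrywise; S = K[X_θ : θ ∈
I(d,n)] is the Plücker polynomial ring and, for τ ∈ I(d,n), J(τ) ⊆ S is the ideal of polynomials
vanishing at the d × d row-minors of every n × d matrix over K whose minors on rows φ ≰ τ are zero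
(the homogeneous ideal of the Schubert variety X(τ) ⊆ G(d,n)). Then S/J(τ), the coordinate ring of
the cone over X(τ), is a Cohen–Macaulay ring. -/
theorem result (K : Type u) [Field K] [IsAlgClosed K] (d n : ℕ)
    (hd : 0 < d) (hdn : d < n) (τ : Idx d n) :
    LocCoh.IsCohenMacaulayRing (PlRing K d n ⧸ schubertVanishing K d n τ) := by
  rw [Groth.Agent.PlLib.schubertVanishing_eq_plIdeal hd]
  exact Groth.Agent.PlLib.isCM_plIdeal hd hdn.le τ

end Groth.Agent.S11258
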