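import Groth.Statements.S1126
import Groth.Agent.MorLib.UnivHomeo
import Mathlib.AlgebraicGeometry.Morphisms.FlatDescent

set_option autoImplicit false
set_option backward.isDefEq.respectTransparency false
set_option backward.isDefEq.respectTransparency.types false
open CategoryTheory CategoryTheory.Limits AlgebraicGeometry Opposite
universe u
open Desc

namespace Groth.Agent.S1126

/-- If the base change of a morphism along a quasi-compact flat surjective morphism to its target is a
universal homeomorphism, then the morphism is a universal homeomorphism. (Stated for a single
quasi-compact flat surjective base change; combined with Zariski-locality on the target this gives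
the fpqc-local form.) -/
theorem result :
    MorphismProperty.DescendsAlong (FlatMor.IsUnivHomeo.{u})
      (@Surjective ⊓ @Flat ⊓ @QuasiCompact : MorphismProperty Scheme.{u}) := by
  refine ⟨fun {A X Y Z fst snd f g} hpb hf h => ?_⟩
  obtain ⟨h1, h2, h3⟩ := Groth.Agent.MorLib.isUnivHomeo_iff.1 h
  exact Groth.Agent.MorLib.isUnivHomeo_iff.2
    ⟨MorphismProperty.of_isPullback_of_descendsAlong (P := @UniversallyClosed) hpb hf h1,
     MorphismProperty.of_isPullback_of_descendsAlong (P := @UniversallyInjective) hpb hf h2,
     MorphismProperty.of_isPullback_of_descendsAlong (P := @Surjective) hpb hf h3⟩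

end Groth.Agent.S1126
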