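import Groth.Statements.S11261
import Groth.Agent.PlLib.Smt
import Groth.Agent.PlLib.Shape
-- import your own Groth.Agent.* helpers here

set_option autoImplicit false
universe u
open W4bk4grassmannian

namespace Groth.Agent.S11261

open W4bk4grassmannian in
/-- Shape of the straightening relations of a skew pair: let K be an algebraically closed field, 0 < d <
n, S = K[X_θ : θ ∈ I(d,n)] the Plücker polynomial ring on the strictly increasing maps Fin d → Fin n
ordered entrywise, and J ⊆ S the ideal of polynomials vanishing at the row-minors of every n × d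
matrix over K (the homogeneous ideal of G(d,n)). Let τ, φ ∈ I(d,n) be incomparable, with entrywise
maximum τ ∨ φ and minimum τ ∧ φ. Then there is a K-linear combination g of monomials X_α X_β with β
≤ α, τ ∨ φ < α and β < τ ∧ φ such that X_τ X_φ - X_{τ∨φ} X_{τ∧φ} - g lies in J. -/
theorem result (K : Type u) [Field K] [IsAlgClosed K] (d n : ℕ)
    (hd : 0 < d) (hdn : d < n) (τ φ : Idx d n) (h₁ : ¬ τ ≤ φ) (h₂ : ¬ φ ≤ τ) :
    ∃ g ∈ Submodule.span K {f : PlRing K d n | ∃ α β : Idx d n,
        β ≤ α ∧ W4bk4grassmannian.sup τ φ < α ∧ β < W4bk4grassmannian.inf τ φ ∧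
          f = MvPolynomial.X α * MvPolynomial.X β},
      MvPolynomial.X τ * MvPolynomial.X φ -
          MvPolynomial.X (W4bk4grassmannian.sup τ φ) * MvPolynomial.X (W4bk4grassmannian.inf τ φ) - g ∈
        vanishing K d n := by
  obtain ⟨g, hg, hmem⟩ := Groth.Agent.PlLib.pair_shape K hd τ φ
  refine ⟨g, Submodule.span_mono ?_ hg, Groth.Agent.PlLib.plIdealTop_le_vanishing hmem⟩
  rintro f ⟨α, β, h1, h2, h3, -, h5⟩
  exact ⟨α, β, h1, h2, h3, h5⟩

end Groth.Agent.S11261
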