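import Groth.Statements.S11262
import Groth.Agent.PlLib.SRHilbert
-- import your own Groth.Agent.* helpers here

set_option autoImplicit false
universe u v
open W4bk4grassmannian

namespace Groth.Agent.S11262

/-- Hilbert function of the Stanley–Reisner ring of a finite distributive lattice: let K be a field, L a
finite distributive lattice, R = K[x_α : α ∈ L], I ⊆ R the ideal generated by the products x_α x_β
over the incomparable (skew) pairs α, β, and m ≥ 1. Then the image in R/I of the homogeneous
polynomials of degree m has K-dimension equal to the sum, over the nonempty chains C ⊆ L, of the
binomial coefficient (m - 1 choose |C| - 1). (The published statement is that the degree of R/I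
equals the number of maximal chains of L; this row states the Hilbert function from which that
degree is read off.) -/
theorem result (K : Type u) [Field K] (L : Type v) [DistribLattice L]
    [Fintype L] (m : ℕ) (hm : 1 ≤ m) :
    Module.finrank K ((MvPolynomial.homogeneousSubmodule L K m).map
        (Ideal.Quotient.mkₐ K (Ideal.span {f : MvPolynomial L K | ∃ a b : L, ¬ a ≤ b ∧ ¬ b ≤ a ∧
          f = MvPolynomial.X a * MvPolynomial.X b})).toLinearMap) =
      ∑ᶠ C : {C : Finset L // C.Nonempty ∧ IsChain (fun a b : L => a ≤ b) (↑C : Set L)},
        Nat.choose (m - 1) (C.1.card - 1) := by
  exact Groth.Agent.PlLib.finrank_sr_degree K L m hm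

end Groth.Agent.S11262
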