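import Groth.Statements.S11264
import Groth.Agent.PlLib.DetRing
-- import your own Groth.Agent.* helpers here

set_option autoImplicit false
universe u
open W4bk4grassmannian

namespace Groth.Agent.S11264

open W4bk4grassmannian in
/-- Determinantal varieties are normal Cohen–Macaulay and integral, with their dimension: let K be an
algebraically closed field, m, n ≥ 1, 1 ≤ t ≤ min(m, n), R = K[x_{ij}] the coordinate ring of m × n
matrices and I_t ⊆ R the ideal generated by the t × t minors of the generic matrix. Then R/I_t is an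
integral domain, integrally closed, Cohen–Macaulay, and of Krull dimension (t - 1)(m + n - t + 1). -/
theorem result (K : Type u) [Field K] [IsAlgClosed K] (m n t : ℕ)
    (hm : 0 < m) (hn : 0 < n) (ht : 1 ≤ t) (htm : t ≤ m) (htn : t ≤ n) :
    IsDomain (MvPolynomial (Fin m × Fin n) K ⧸ CAlgX.minorIdeal (genMatrix K m n) t) ∧
      IsIntegrallyClosed (MvPolynomial (Fin m × Fin n) K ⧸ CAlgX.minorIdeal (genMatrix K m n) t) ∧
      LocCoh.IsCohenMacaulayRing (MvPolynomial (Fin m × Fin n) K ⧸ CAlgX.minorIdeal (genMatrix K m n) t) ∧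
      ringKrullDim (MvPolynomial (Fin m × Fin n) K ⧸ CAlgX.minorIdeal (genMatrix K m n) t) =
        (((t - 1) * (m + n - t + 1) : ℕ) : WithBot ℕ∞) := by
  have h : ∀ s, s ≤ m → s ≤ n → (s ≤ t - 1 ↔ s < t) := fun s _ _ => by omega
  have hI := Groth.Agent.PlLib.cellIdeal_cellPhi (m := m) (n := n) K (σ := t - 1) (by omega) (by omega) h
  set w := Groth.Agent.PlLib.cellPhi n m (t - 1) (by omega) (by omega) with hw
  obtain ⟨hcm, hdim⟩ := Groth.Agent.PlLib.cm_and_dim_cell (K := K) (r := m) hn w
  rw [← hI]
  haveI := Groth.Agent.PlLib.isPrime_cellIdeal (K := K) (r := m) hn w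
  refine ⟨Ideal.Quotient.isDomain _, Groth.Agent.PlLib.isIntegrallyClosed_quot_cellIdeal hn w, hcm, ?_⟩
  rw [hdim, hw, Groth.Agent.PlLib.codeg_cellPhi, show n + m - (t - 1) = m + n - t + 1 by omega]

end Groth.Agent.S11264
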