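import Groth.Statements.S11265
import Groth.Agent.PlLib.DetBasis
-- import your own Groth.Agent.* helpers here

set_option autoImplicit false
universe u
open W4bk4grassmannian

namespace Groth.Agent.S11265

open W4bk4grassmannian in
/-- Standard monomial basis of a determinantal ring in bitableaux, which at the zero determinantal ideal
is the straightening basis of the polynomial ring: let K be an algebraically closed field, m, n ≥ 1,
1 ≤ t ≤ min(m, n) + 1, R = K[x_{ij}] the coordinate ring of m × n matrices, I_t the ideal of t × t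
minors of the generic matrix. Order the minors of positive size by [A | B] ⪰ [A' | B'] when the size
of [A | B] is at most that of [A' | B'] and a_j ≥ a'_j, b_j ≥ b'_j for every j below the size of [A
| B] (row and column indices listed increasingly). Then the classes in R/I_t of the products [A_1 |
B_1] ⋯ [A_k | B_k] (k ≥ 0) of minors of size at most t - 1 with [A_1 | B_1] ⪰ [A_2 | B_2] ⪰ ⋯ ⪰ [A_k
| B_k] are linearly independent over K and span R/I_t. -/
theorem result (K : Type u) [Field K] [IsAlgClosed K]
    (m n t : ℕ) (hm : 0 < m) (hn : 0 < n) (ht : 1 ≤ t) (htmn : t ≤ min m n + 1) :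
    LinearIndependent K (fun c : (Σ k : ℕ, {c : Fin k → MinorIdx m n //
        (∀ i, (c i).1 + 1 ≤ t - 1) ∧ ∀ i j, i < j → MinorGE (c i) (c j)}) =>
        Ideal.Quotient.mk (CAlgX.minorIdeal (genMatrix K m n) t)
          (Finset.univ.prod fun i => minorOf K (c.2.1 i))) ∧
      Submodule.span K (Set.range fun c : (Σ k : ℕ, {c : Fin k → MinorIdx m n //
        (∀ i, (c i).1 + 1 ≤ t - 1) ∧ ∀ i j, i < j → MinorGE (c i) (c j)}) =>
        Ideal.Quotient.mk (CAlgX.minorIdeal (genMatrix K m n) t)
          (Finset.univ.prod fun i => minorOf K (c.2.1 i))) = ⊤ := by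
  have h : ∀ s, s ≤ m → s ≤ n → (s ≤ t - 1 ↔ s < t) := fun s _ _ => by omega
  exact ⟨Groth.Agent.PlLib.linearIndependent_bitab hn (σ := t - 1) (by omega) (by omega) h,
    Groth.Agent.PlLib.span_bitab K (σ := t - 1) (by omega) (by omega) h⟩

end Groth.Agent.S11265
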