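import Groth.Statements.S11269
import Groth.Agent.FlatLoc6.SerreNormal
-- import your own Groth.Agent.* helpers here

set_option autoImplicit false
universe u
open W4bk4grassmannian

namespace Groth.Agent.S11269

/-- Let R be a Noetherian integral domain. Then R satisfies Serre's condition (S_2) (depth R_P ≥ min(2,
dim R_P) for all primes P) if and only if, for every nonzero a ∈ R, every associated prime of the
R-module R/(a) has height one. -/
theorem result (R : Type u) [CommRing R] [IsDomain R]
    [IsNoetherianRing R] :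
    LocCoh.HasSk 2 R R ↔
      ∀ a : R, a ≠ 0 → ∀ P : Ideal R, P ∈ associatedPrimes R (R ⧸ Ideal.span {a}) → P.height = 1 := by
  classical
  have hq : ∀ a : R, associatedPrimes R (R ⧸ Ideal.span {a}) = associatedPrimes R (QuotSMulTop a R) := fun a => by
    refine LinearEquiv.AssociatedPrimes.eq (Submodule.quotEquivOfEq _ _ ?_)
    rw [← Submodule.ideal_span_singleton_smul, smul_eq_mul, Ideal.mul_top]
  have hreg : ∀ a : R, a ≠ 0 → IsSMulRegular R a := fun a ha x y h => mul_left_cancel₀ ha h
  constructor
  · intro hS a ha P hP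
    rw [hq] at hP
    haveI := (AssociatedPrimes.mem_iff.mp hP).isPrime
    have haP : a ∈ P := by
      obtain ⟨-, z, hz⟩ := Groth.Agent.Alg6.mem_ass_iff.mp hP
      refine (hz a).2 ?_
      obtain ⟨z, rfl⟩ := Submodule.Quotient.mk_surjective _ z
      rw [← Submodule.Quotient.mk_smul, Groth.Agent.Alg6.mem_pointwise_smul_top_iff]
      exact ⟨z, rfl⟩
    refine le_antisymm (Groth.Agent.FlatLoc6.height_le_one_of_mem_ass_quot hS (hreg a ha) haP hP) ?_
    rw [Order.one_le_iff_ne_zero]
    intro h0
    exact ha (by simpa [Ideal.height_eq_zero_iff_eq_bot.1 h0] using haP)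
  · intro h
    rw [Groth.Agent.FlatLoc6.hasSk_self_iff]
    intro p _
    rcases eq_or_ne p.height 0 with h0 | h0
    · rw [h0]; exact le_trans (min_le_right _ _) zero_le
    have hp : p ≠ ⊥ := fun e => h0 (by rw [e, Ideal.height_bot])
    obtain ⟨x, hx, hx0⟩ := Submodule.exists_mem_ne_zero_of_ne_bot hp
    rw [← Groth.Agent.FlatLoc6.depth_self_atPrime]
    rcases le_or_gt p.height 1 with h1 | h1
    · refine le_trans (min_le_right _ _) (le_trans h1 ?_)
      refine (Groth.Agent.Alg6.one_le_depth_atPrime_iff (M := R) p).mpr fun hass => hx0 ?_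
      obtain ⟨-, z, hz⟩ := Groth.Agent.Alg6.mem_ass_iff.mp hass
      have hz0 : z ≠ 0 := fun e => (Ideal.IsPrime.ne_top ‹p.IsPrime›) ((Ideal.eq_top_iff_one _).2 ((hz 1).2 (by simp [e])))
      exact (mul_eq_zero.1 ((hz x).1 hx)).resolve_right hz0
    · refine le_trans (min_le_left _ _) ((Groth.Agent.Alg6.two_le_depth_atPrime_iff (M := R) p hx (hreg x hx0)).mpr ?_)
      intro hass
      rw [← hq] at hass
      exact h1.ne' (h x hx0 p hass)

end Groth.Agent.S11269
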