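import Groth.Statements.S11271
import Groth.Agent.PlLib.Basic
import Mathlib.Algebra.Polynomial.Roots
-- import your own Groth.Agent.* helpers here

set_option autoImplicit false
universe u
open W4bk4grassmannian

namespace Groth.Agent.S11271

open W4bk4grassmannian in
/-- Semistable matrices are the matrices of full rank: let K be an algebraically closed field, 0 < d <
n, and let SL_d(K) act on n × d matrices by right multiplication; a matrix A is semistable when the
zero matrix is not in the Zariski closure of its orbit, i.e. when some polynomial in the entries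
vanishes at A g for every g ∈ SL_d(K) but not at 0. Then A is semistable if and only if its columns
are linearly independent. -/
theorem result (K : Type u) [Field K]
    [IsAlgClosed K] (d n : ℕ) (hd : 0 < d) (hdn : d < n) (A : Matrix (Fin n) (Fin d) K) :
    LinearIndependent K A.transpose ↔
      ∃ f : MatRing K d n, (∀ g : Matrix.SpecialLinearGroup (Fin d) K,
        MvPolynomial.eval (fun p : Fin n × Fin d => (A * (g : Matrix (Fin d) (Fin d) K)) p.1 p.2) f = 0) ∧
        MvPolynomial.eval (fun _ : Fin n × Fin d => (0 : K)) f ≠ 0 := by
  classical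
  constructor
  · intro hA
    obtain ⟨a, ha⟩ := Groth.Agent.PlLib.exists_minor_ne_zero A hA
    refine ⟨(Matrix.of fun s t : Fin d => (MvPolynomial.X (a s, t) : MatRing K d n)).det -
      MvPolynomial.C (A.submatrix a id).det, fun g => ?_, ?_⟩
    · rw [map_sub, MvPolynomial.eval_C, RingHom.map_det, sub_eq_zero]
      rw [show (MvPolynomial.eval fun p : Fin n × Fin d => (A * (g : Matrix (Fin d) (Fin d) K)) p.1 p.2).mapMatrix
          (Matrix.of fun s t : Fin d => (MvPolynomial.X (a s, t) : MatRing K d n)) =
        A.submatrix a id * (g : Matrix (Fin d) (Fin d) K) from Matrix.ext fun s t => by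
          simp [Matrix.mul_apply], Matrix.det_mul, g.2, mul_one]
    · rw [map_sub, MvPolynomial.eval_C, RingHom.map_det,
        Matrix.det_eq_zero_of_row_eq_zero (⟨0, hd⟩ : Fin d) (fun t => by simp), zero_sub, neg_ne_zero]
      exact ha
  · rintro ⟨f, hf, hf0⟩
    rw [Fintype.linearIndependent_iff]
    intro v hv
    by_contra hne
    push Not at hne
    obtain ⟨k, hk⟩ := hne
    have hAv : A.mulVec v = 0 := by
      funext i
      have := congrFun hv i
      simp only [Finset.sum_apply, Pi.smul_apply, Matrix.transpose_apply, smul_eq_mul, Pi.zero_apply] at this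
      rw [Matrix.mulVec, dotProduct, Pi.zero_apply, ← this]
      exact Finset.sum_congr rfl fun t _ => mul_comm _ _
    apply hf0
    let line : Fin n × Fin d → Polynomial K := fun p => if p.2 = k then 0 else Polynomial.C (A p.1 p.2) * Polynomial.X
    have key : MvPolynomial.aeval line f = 0 := by
      refine Polynomial.eq_zero_of_infinite_isRoot _ (Set.Infinite.mono ?_ (Set.finite_singleton (0 : K)).infinite_compl)
      intro s hs
      have hs0 : s ≠ 0 := hs
      let D : Matrix (Fin d) (Fin d) K :=
        Matrix.diagonal fun t => if t = k then ((v k) * s ^ (d - 1))⁻¹ else s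
      let g : Matrix.SpecialLinearGroup (Fin d) K := ⟨Matrix.updateCol 1 k v * D, by
        rw [Matrix.det_mul, Matrix.det_diagonal, ← Finset.mul_prod_erase _ _ (Finset.mem_univ k), if_pos rfl,
          Finset.prod_congr rfl (fun t ht => if_neg (Finset.ne_of_mem_erase ht)), Finset.prod_const,
          Finset.card_erase_of_mem (Finset.mem_univ k), Finset.card_univ, Fintype.card_fin,
          show (Matrix.updateCol (1 : Matrix (Fin d) (Fin d) K) k v).det = v k from ?_]
        · field_simp
        · have := Matrix.cramer_apply (1 : Matrix (Fin d) (Fin d) K) v k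
          rw [← this]; simp⟩
      show Polynomial.IsRoot (MvPolynomial.aeval line f) s
      rw [Polynomial.IsRoot, ← hf g]
      show (Polynomial.aeval s : Polynomial K →ₐ[K] K) (MvPolynomial.aeval line f) = _
      rw [← AlgHom.comp_apply, MvPolynomial.comp_aeval, MvPolynomial.aeval_eq_eval]
      congr 2
      funext p
      have hmul : A * Matrix.updateCol (1 : Matrix (Fin d) (Fin d) K) k v = A.updateCol k 0 := by
        rw [Matrix.mul_updateCol, Matrix.mul_one, hAv]
      show Polynomial.aeval s (line p) = (A * (Matrix.updateCol 1 k v * D)) p.1 p.2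
      rw [← Matrix.mul_assoc, hmul, Matrix.mul_diagonal]
      by_cases hp : p.2 = k
      · simp [line, hp]
      · simp [line, hp, Matrix.updateCol_ne hp]
    have h0 := congrArg (Polynomial.aeval (0 : K) : Polynomial K →ₐ[K] K) key
    rw [map_zero, ← AlgHom.comp_apply, MvPolynomial.comp_aeval] at h0
    refine Eq.trans ?_ h0
    rw [MvPolynomial.aeval_eq_eval]
    congr 2
    funext p
    by_cases hp : p.2 = k <;> simp [line, hp]

end Groth.Agent.S11271
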