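import Groth.Statements.S11276
import Groth.Agent.PlLib.GradedInf
-- import your own Groth.Agent.* helpers here

set_option autoImplicit false
universe u v
open W4bk4grassmannian

namespace Groth.Agent.S11276

/-- With the conclusion at the irrelevant ideal: let K be a field, A a commutative Noetherian K-algebra
graded by ℕ with degree-zero part K, I and J homogeneous ideals of A such that A/I and A/J are
Cohen–Macaulay rings of Krull dimension e and A/(I + J) is a Cohen–Macaulay ring of Krull dimension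
e - 1, where e ≥ 1. Let m be the image in A/(I ∩ J) of the irrelevant ideal A_+ (assumed prime; it
is maximal). Then the local ring (A/(I ∩ J))_m is Cohen–Macaulay of Krull dimension e. (The
published lemma concludes that A/(I ∩ J) itself is Cohen–Macaulay of dimension e; this row states
the conclusion at the irrelevant ideal only, from which the global one follows by the graded
local–global principle.) -/
theorem result (K : Type u) [Field K] (A : Type v) [CommRing A]
    [Algebra K A] [IsNoetherianRing A] (𝒜 : ℕ → Submodule K A) [GradedAlgebra 𝒜]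
    (h0 : ∀ a ∈ 𝒜 0, ∃ c : K, algebraMap K A c = a) (I J : Ideal A) (hI : I.IsHomogeneous 𝒜)
    (hJ : J.IsHomogeneous 𝒜) (e : ℕ) (he : 1 ≤ e)
    (hIcm : LocCoh.IsCohenMacaulayRing (A ⧸ I)) (hJcm : LocCoh.IsCohenMacaulayRing (A ⧸ J))
    (hIJcm : LocCoh.IsCohenMacaulayRing (A ⧸ (I ⊔ J)))
    (hIdim : ringKrullDim (A ⧸ I) = (e : WithBot ℕ∞)) (hJdim : ringKrullDim (A ⧸ J) = (e : WithBot ℕ∞))
    (hIJdim : ringKrullDim (A ⧸ (I ⊔ J)) = ((e - 1 : ℕ) : WithBot ℕ∞))
    [hm : ((HomogeneousIdeal.irrelevant 𝒜).toIdeal.map (Ideal.Quotient.mk (I ⊓ J))).IsPrime] :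
    LocCoh.IsCohenMacaulayLocalRing (Localization.AtPrime
        ((HomogeneousIdeal.irrelevant 𝒜).toIdeal.map (Ideal.Quotient.mk (I ⊓ J)))) ∧
      ringKrullDim (Localization.AtPrime
        ((HomogeneousIdeal.irrelevant 𝒜).toIdeal.map (Ideal.Quotient.mk (I ⊓ J)))) = (e : WithBot ℕ∞) := by
  classical
  set M := (HomogeneousIdeal.irrelevant 𝒜).toIdeal with hMdef
  have hne : ∀ (Q : Ideal A) (n : ℕ), ringKrullDim (A ⧸ Q) = (n : WithBot ℕ∞) → Q ≠ ⊤ := fun Q n h e' => by
    haveI : Subsingleton (A ⧸ Q) := Ideal.Quotient.subsingleton_iff.2 e'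
    rw [ringKrullDim_eq_bot_of_subsingleton] at h
    exact WithBot.bot_ne_natCast n h
  have hIM : I ≤ M := Groth.Agent.PlLib.le_irrelevant 𝒜 h0 hI (hne I e hIdim)
  have hJM : J ≤ M := Groth.Agent.PlLib.le_irrelevant 𝒜 h0 hJ (hne J e hJdim)
  have hB : I ⊓ J ≤ M := inf_le_left.trans hIM
  haveI hMp : M.IsPrime := by
    have := Ideal.IsPrime.comap (Ideal.Quotient.mk (I ⊓ J)) (K := M.map (Ideal.Quotient.mk (I ⊓ J)))
    rwa [Ideal.comap_map_of_surjective _ Ideal.Quotient.mk_surjective, ← RingHom.ker_eq_comap_bot, Ideal.mk_ker,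
      sup_eq_left.2 hB] at this
  let L₀ := Localization.AtPrime M
  let φ := algebraMap A L₀
  have hprime : ∀ Q : Ideal A, Q ≤ M → (M.map (Ideal.Quotient.mk Q)).IsPrime := fun Q hQ =>
    Ideal.map_isPrime_of_surjective Ideal.Quotient.mk_surjective (by rwa [Ideal.mk_ker])
  have hdata : ∀ (Q : Ideal A), Q.IsHomogeneous 𝒜 → Q ≤ M → LocCoh.IsCohenMacaulayRing (A ⧸ Q) →
      ∀ n : ℕ, ringKrullDim (A ⧸ Q) = (n : WithBot ℕ∞) → LocCoh.depth L₀ (L₀ ⧸ Q.map φ) = (n : ℕ∞) := by
    intro Q hQ hQM hcm n hn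
    haveI := hprime Q hQM
    haveI hloc := hcm.isCohenMacaulayLocalRing_localization (M.map (Ideal.Quotient.mk Q))
    rw [(Groth.Agent.PlLib.dim_depth_quot_localization M Q hQM _ rfl).2]
    have h := hloc.supportDim_eq_depth
    rw [Module.supportDim_self_eq_ringKrullDim, IsLocalization.AtPrime.ringKrullDim_eq_height (M.map (Ideal.Quotient.mk Q)),
      Groth.Agent.PlLib.height_vertex 𝒜 h0 hQ _ rfl, hn] at h
    exact_mod_cast h.symm
  have hdI := hdata I hI hIM hIcm e hIdim
  have hdJ := hdata J hJ hJM hJcm e hJdim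
  have hdS := hdata (I ⊔ J) (hI.sup hJ) (sup_le hIM hJM) hIJcm (e - 1) hIJdim
  have hdimle : ringKrullDim (A ⧸ (I ⊓ J)) ≤ (e : WithBot ℕ∞) := by
    refine iSup_le fun l => ?_
    let f := Ideal.Quotient.mk (I ⊓ J)
    have hker : I ⊓ J ≤ l.head.asIdeal.comap f := fun x hx => by
      show f x ∈ l.head.asIdeal
      rw [Ideal.Quotient.eq_zero_iff_mem.2 hx]
      exact zero_mem _
    haveI : (l.head.asIdeal.comap f).IsPrime := Ideal.IsPrime.comap f
    have hcase : ∀ Q : Ideal A, Q ≤ l.head.asIdeal.comap f → ringKrullDim (A ⧸ Q) = (e : WithBot ℕ∞) →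
        (l.length : WithBot ℕ∞) ≤ (e : WithBot ℕ∞) := fun Q hQ hQd => by
      rw [← hQd, ringKrullDim_quotient]
      refine le_iSup_of_le (f := fun c : LTSeries (PrimeSpectrum.zeroLocus (Q : Set A)) => (c.length : WithBot ℕ∞))
        { length := l.length
          toFun := fun i => ⟨PrimeSpectrum.comap f (l.toFun i), (PrimeSpectrum.mem_zeroLocus _ _).2
            (hQ.trans (Ideal.comap_mono (show l.head.asIdeal ≤ (l.toFun i).asIdeal from l.head_le i)))⟩
          step := fun i => lt_of_le_of_ne (Ideal.comap_mono (l.step i).le) fun h => by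
            have h' : Ideal.comap f (l.toFun i.castSucc).asIdeal = Ideal.comap f (l.toFun i.succ).asIdeal := by
              simpa [Subtype.ext_iff, PrimeSpectrum.ext_iff] using h
            exact (l.step i).ne (PrimeSpectrum.ext (Ideal.comap_injective_of_surjective f Ideal.Quotient.mk_surjective h')) } le_rfl
    rcases (Ideal.IsPrime.inf_le ‹(l.head.asIdeal.comap f).IsPrime›).1 hker with h | h
    · exact hcase I h hIdim
    · exact hcase J h hJdim
  have hdimge : (e : WithBot ℕ∞) ≤ ringKrullDim (A ⧸ (I ⊓ J)) := hIdim ▸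
    ringKrullDim_le_of_surjective (Ideal.Quotient.factor inf_le_left) (Ideal.Quotient.factor_surjective inf_le_left)
  set p := M.map (Ideal.Quotient.mk (I ⊓ J)) with hpdef
  have hdim : ringKrullDim (Localization.AtPrime p) = (e : WithBot ℕ∞) := by
    rw [IsLocalization.AtPrime.ringKrullDim_eq_height p, Groth.Agent.PlLib.height_vertex 𝒜 h0 (hI.inf hJ) p rfl]
    exact le_antisymm hdimle hdimge
  haveI : IsNoetherianRing (Localization.AtPrime p) :=
    IsLocalization.isNoetherianRing p.primeCompl _ inferInstance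
  refine ⟨{ supportDim_eq_depth := ?_ }, hdim⟩
  rw [Module.supportDim_self_eq_ringKrullDim, hdim]
  haveI : IsNoetherianRing L₀ := IsLocalization.isNoetherianRing M.primeCompl _ inferInstance
  let g : (L₀ ⧸ (I ⊓ J).map φ) →ₗ[L₀] (L₀ ⧸ I.map φ) × (L₀ ⧸ J.map φ) :=
    (Submodule.factor (Ideal.map_mono inf_le_left)).prod (Submodule.factor (Ideal.map_mono inf_le_right))
  let q : (L₀ ⧸ I.map φ) × (L₀ ⧸ J.map φ) →ₗ[L₀] L₀ ⧸ (I ⊔ J).map φ :=
    (Submodule.factor (Ideal.map_mono le_sup_left)).coprod (-Submodule.factor (Ideal.map_mono le_sup_right))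
  have hg : Function.Injective g := by
    rw [injective_iff_map_eq_zero]
    intro x hx
    obtain ⟨x, rfl⟩ := Submodule.Quotient.mk_surjective _ x
    refine (Submodule.Quotient.mk_eq_zero _).2 ?_
    rw [IsLocalization.map_inf M.primeCompl]
    exact ⟨(Submodule.Quotient.mk_eq_zero _).1 (congrArg Prod.fst hx),
      (Submodule.Quotient.mk_eq_zero _).1 (congrArg Prod.snd hx)⟩
  have hq : Function.Surjective q := fun x => by
    obtain ⟨x, rfl⟩ := Submodule.Quotient.mk_surjective _ x
    exact ⟨(Submodule.Quotient.mk x, 0), by simp [q]⟩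
  have hgq : Function.Exact g q := by
    rintro ⟨a, b⟩
    obtain ⟨a, rfl⟩ := Submodule.Quotient.mk_surjective _ a
    obtain ⟨b, rfl⟩ := Submodule.Quotient.mk_surjective _ b
    constructor
    · intro h
      have h' : a - b ∈ (I ⊔ J).map φ := (Submodule.Quotient.eq _).1 (eq_of_sub_eq_zero (by
        simpa [q, sub_eq_add_neg] using h))
      rw [Ideal.map_sup] at h'
      obtain ⟨i, hi, j, hj, hij⟩ := Submodule.mem_sup.1 h'
      refine ⟨Submodule.Quotient.mk (a - i), Prod.ext ((Submodule.Quotient.eq _).2 ?_) ((Submodule.Quotient.eq _).2 ?_)⟩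
      · simpa using neg_mem hi
      · rw [LinearMap.id_apply, show a - i - b = j by linear_combination -hij]
        exact hj
    · rintro ⟨x, hx⟩
      obtain ⟨x, rfl⟩ := Submodule.Quotient.mk_surjective _ x
      rw [← hx]
      simp [g, q]
  have hprod := (Groth.Agent.S0321.result L₀ (IsLocalRing.maximalIdeal L₀) (L₀ ⧸ I.map φ)
    ((L₀ ⧸ I.map φ) × (L₀ ⧸ J.map φ)) (L₀ ⧸ J.map φ) (LinearMap.inl _ _ _) (LinearMap.snd _ _ _)
    LinearMap.inl_injective LinearMap.snd_surjective (LinearMap.exact_iff.2 (LinearMap.range_inl _ _ _).symm)).1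
  have hmain := (Groth.Agent.S0321.result L₀ (IsLocalRing.maximalIdeal L₀) (L₀ ⧸ (I ⊓ J).map φ)
    ((L₀ ⧸ I.map φ) × (L₀ ⧸ J.map φ)) (L₀ ⧸ (I ⊔ J).map φ) g q hg hq hgq).2.2
  have hL : LocCoh.depth L₀ (L₀ ⧸ (I ⊓ J).map φ) =
      LocCoh.depth (Localization.AtPrime p) (Localization.AtPrime p) :=
    (Groth.Agent.PlLib.dim_depth_quot_localization M (I ⊓ J) hB p rfl).2
  have hge : (e : ℕ∞) ≤ LocCoh.depth (Localization.AtPrime p) (Localization.AtPrime p) := by
    rw [← hL]
    refine le_trans ?_ hmain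
    refine le_min ?_ ?_
    · refine le_trans ?_ hprod
      exact le_min hdI.ge hdJ.ge
    · rw [show LocCoh.idealDepth (IsLocalRing.maximalIdeal L₀) (L₀ ⧸ (I ⊔ J).map φ) = ((e - 1 : ℕ) : ℕ∞) from hdS]
      exact_mod_cast (by omega : e ≤ e - 1 + 1)
  have hle := Groth.Agent.LC.depth_le_supportDim (R := Localization.AtPrime p) (Localization.AtPrime p)
  rw [Module.supportDim_self_eq_ringKrullDim, hdim] at hle
  exact le_antisymm (WithBot.coe_le_coe.2 hge) hle

end Groth.Agent.S11276
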