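import Groth.Statements.S11277
import Mathlib
-- import your own Groth.Agent.* helpers here

set_option autoImplicit false
universe u v
open W4bk4grassmannian

namespace Groth.Agent.S11277

/-- Let K be a field, R = ⊕_{i ≥ 0} R_i an ℕ-graded commutative K-algebra which is an integral domain,
and s ∈ R_e a homogeneous element of degree e > 0. Let R_(s) ⊆ R[1/s] be the homogeneous
localization (fractions f / s^k with f homogeneous of degree k e). Then the image of s in R[1/s] is
transcendental over R_(s). -/
theorem result (K : Type u) [Field K] (R : Type v) [CommRing R]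
    [IsDomain R] [Algebra K R] (𝒜 : ℕ → Submodule K R) [GradedAlgebra 𝒜] (e : ℕ) (he : 0 < e) (s : R)
    (hs : s ∈ 𝒜 e) :
    Transcendental (HomogeneousLocalization.Away 𝒜 s) (algebraMap R (Localization.Away s) s) := by
  classical
  rw [transcendental_iff]
  intro p hp
  by_cases hs0 : s = 0
  · have hsub : Subsingleton (HomogeneousLocalization.Away 𝒜 s) :=
      HomogeneousLocalization.subsingleton 𝒜 (hs0 ▸ Submonoid.mem_powers s)
    exact Subsingleton.elim _ _
  have hinj : Function.Injective (algebraMap R (Localization.Away s)) :=
    IsLocalization.injective _ (powers_le_nonZeroDivisors_of_noZeroDivisors hs0)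
  have hev := fun i : ℕ => HomogeneousLocalization.Away.eventually_smul_mem (𝒜 := 𝒜) hs (p.coeff i)
  obtain ⟨k, hk⟩ := Filter.Eventually.exists
    ((Filter.eventually_all_finset (Finset.range (p.natDegree + 1))).mpr fun i _ => hev i)
  choose! a ha ha' using hk
  have hsum : ∑ i ∈ Finset.range (p.natDegree + 1), a i * s ^ i = 0 := by
    apply hinj
    rw [map_zero, map_sum]
    have h2 : algebraMap R (Localization.Away s) (s ^ k) * Polynomial.aeval
        (algebraMap R (Localization.Away s) s) p = 0 := by rw [hp, mul_zero]
    rw [Polynomial.aeval_eq_sum_range, Finset.mul_sum] at h2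
    rw [← h2]
    refine Finset.sum_congr rfl fun i hi => ?_
    rw [map_mul, ha' i hi, Algebra.smul_def, Algebra.smul_def,
      HomogeneousLocalization.algebraMap_apply, map_pow, map_pow, mul_assoc]
  refine Polynomial.ext fun i => ?_
  rw [Polynomial.coeff_zero]
  by_cases hi : i ∈ Finset.range (p.natDegree + 1)
  · have hmem : ∀ j ∈ Finset.range (p.natDegree + 1), a j * s ^ j ∈ 𝒜 (k * e + j * e) := fun j hj => by
      refine SetLike.mul_mem_graded ?_ ?_
      · simpa using ha j hj
      · simpa using SetLike.pow_mem_graded j hs
    have h3 := congrArg (GradedRing.proj 𝒜 (k * e + i * e)) hsum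
    rw [map_sum, map_zero, Finset.sum_eq_single i (fun j hj hji => by
      rw [GradedRing.proj_apply, DirectSum.decompose_of_mem_ne 𝒜 (hmem j hj)]
      intro h
      exact hji (Nat.eq_of_mul_eq_mul_right he (Nat.add_left_cancel h)))
      (fun h => absurd hi h), GradedRing.proj_apply,
      DirectSum.decompose_of_mem_same 𝒜 (hmem i hi)] at h3
    have ha0 : a i = 0 := (mul_eq_zero.mp h3).resolve_right (pow_ne_zero _ hs0)
    have h4 := ha' i hi
    rw [ha0, map_zero, Algebra.smul_def] at h4
    have hu : IsUnit (algebraMap R (Localization.Away s) (s ^ k)) := by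
      rw [map_pow]
      exact (IsLocalization.map_units (Localization.Away s) ⟨s, Submonoid.mem_powers s⟩).pow k
    rw [HomogeneousLocalization.ext_iff_val, HomogeneousLocalization.val_zero]
    exact hu.mul_right_eq_zero.mp h4.symm
  · exact Polynomial.coeff_eq_zero_of_natDegree_lt (by simpa [Nat.lt_succ_iff] using hi)

end Groth.Agent.S11277
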