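import Groth.Statements.S11278
import Groth.Agent.PlLib.Ufd
-- import your own Groth.Agent.* helpers here

set_option autoImplicit false
universe u v
open W4bk4grassmannian

namespace Groth.Agent.S11278

/-- Unique factorization lifts from the homogeneous localization at a prime element of degree one, in
the generality of the published argument: let K be a field, R = ⊕_{i ≥ 0} R_i a Noetherian ℕ-graded
commutative K-algebra which is an integral domain, and s ∈ R_1 a homogeneous element of degree one
which is a prime element of R. If the homogeneous localization R_(s) (degree-zero part of R[1/s])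
has unique factorization, then R is a unique factorization domain. (The published statement is the
case where R is the homogeneous coordinate ring of a Schubert variety, s the Plücker coordinate of
the least index, which is a prime element there, and R_(s) the coordinate ring of the opposite
cell.) -/
theorem result (K : Type u) [Field K] (R : Type v)
    [CommRing R] [IsDomain R] [IsNoetherianRing R] [Algebra K R] (𝒜 : ℕ → Submodule K R) [GradedAlgebra 𝒜]
    (s : R) (hs : s ∈ 𝒜 1) (hp : Prime s)
    (h : UniqueFactorizationMonoid (HomogeneousLocalization.Away 𝒜 s)) :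
    UniqueFactorizationMonoid R := by
  classical
  have hs0 : s ≠ 0 := hp.ne_zero
  haveI : IsDomain (Localization.Away s) :=
    IsLocalization.isDomain_localization (powers_le_nonZeroDivisors_of_noZeroDivisors hs0)
  haveI : IsDomain (HomogeneousLocalization.Away 𝒜 s) := Function.Injective.isDomain
    (algebraMap (HomogeneousLocalization.Away 𝒜 s) (Localization.Away s))
    (HomogeneousLocalization.val_injective _)
  haveI : UniqueFactorizationMonoid (HomogeneousLocalization.Away 𝒜 s) := h
  have hmem : ∀ (i : ℕ) (x : 𝒜 i), (x : R) ∈ 𝒜 (i • 1) := fun i x => by simp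
  let φ : ∀ i, (𝒜 i) →+ Polynomial (HomogeneousLocalization.Away 𝒜 s) := fun i =>
    { toFun := fun x => Polynomial.monomial i (HomogeneousLocalization.Away.mk 𝒜 hs i x (hmem i x))
      map_zero' := by
        rw [show HomogeneousLocalization.Away.mk 𝒜 hs i ((0 : 𝒜 i) : R) (hmem i 0) = 0 by
          ext; simp [Localization.mk_zero], map_zero]
      map_add' := fun x y => by
        rw [← map_add]
        congr 1
        ext
        simp [Localization.add_mk_self] }
  let σ : R →+* Polynomial (HomogeneousLocalization.Away 𝒜 s) :=
    (DirectSum.toSemiring φ (by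
      show Polynomial.monomial 0 _ = 1
      rw [← Polynomial.monomial_zero_one]
      congr 1
      ext
      simp only [HomogeneousLocalization.Away.val_mk, HomogeneousLocalization.val_one, pow_zero]
      exact Localization.mk_self (⟨1, ⟨0, pow_zero s⟩⟩ : Submonoid.powers s))
      (fun {i j} x y => by
        show Polynomial.monomial (i + j) _ = Polynomial.monomial i _ * Polynomial.monomial j _
        rw [Polynomial.monomial_mul_monomial]
        congr 1
        ext
        simp only [HomogeneousLocalization.Away.val_mk, HomogeneousLocalization.val_mul, Localization.mk_mul]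
        refine Localization.mk_eq_mk_iff.2 (Localization.r_of_eq ?_)
        simp [pow_add])).comp (DirectSum.decomposeRingEquiv 𝒜).toRingHom
  have hσ : ∀ (i : ℕ) (x : 𝒜 i), σ x = Polynomial.monomial i (HomogeneousLocalization.Away.mk 𝒜 hs i x (hmem i x)) := by
    intro i x
    simp only [σ, RingHom.comp_apply, RingEquiv.toRingHom_eq_coe, RingEquiv.coe_toRingHom]
    rw [show DirectSum.decomposeRingEquiv 𝒜 (x : R) = DirectSum.of (fun i => 𝒜 i) i x from
      DirectSum.decompose_coe 𝒜 x, DirectSum.toSemiring_of]
    rfl
  have hσs : σ s = Polynomial.X := by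
    rw [show σ s = _ from hσ 1 ⟨s, hs⟩, ← Polynomial.monomial_one_one_eq_X]
    congr 1
    ext
    simp only [HomogeneousLocalization.Away.val_mk, HomogeneousLocalization.val_one, pow_one]
    exact Localization.mk_self (⟨s, ⟨1, pow_one s⟩⟩ : Submonoid.powers s)
  have hσsum : ∀ r : R, σ r = ∑ i ∈ (DirectSum.decompose 𝒜 r).support, Polynomial.monomial i
      (HomogeneousLocalization.Away.mk 𝒜 hs i (DirectSum.decompose 𝒜 r i) (hmem i _)) := fun r => by
    conv_lhs => rw [← DirectSum.sum_support_decompose 𝒜 r, map_sum]
    exact Finset.sum_congr rfl fun i _ => hσ i _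
  refine Groth.Agent.PlLib.ufm_of_prime σ ?_ s hp (hσs ▸ Polynomial.not_isUnit_X) ?_
  · rw [injective_iff_map_eq_zero]
    intro r hr
    rw [← DirectSum.sum_support_decompose 𝒜 r]
    refine Finset.sum_eq_zero fun i hi => ?_
    have h1 := congrArg (fun p : Polynomial (HomogeneousLocalization.Away 𝒜 s) => p.coeff i) ((hσsum r).symm.trans hr)
    simp only [Polynomial.finset_sum_coeff, Polynomial.coeff_monomial, Finset.sum_ite_eq', if_pos hi,
      Polynomial.coeff_zero] at h1
    have h2 := congrArg HomogeneousLocalization.val h1
    rw [HomogeneousLocalization.Away.val_mk, HomogeneousLocalization.val_zero, Localization.mk_eq_mk'] at h2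
    obtain ⟨⟨_, m, rfl⟩, hm⟩ := (IsLocalization.mk'_eq_zero_iff _ _).1 h2
    exact (mul_eq_zero.1 hm).resolve_left (pow_ne_zero m hs0)
  · intro p
    induction p using Polynomial.induction_on' with
    | add p q hp hq =>
      obtain ⟨k, a, ha⟩ := hp
      obtain ⟨l, b, hb⟩ := hq
      exact ⟨k + l, s ^ l * a + s ^ k * b, by rw [map_add, map_mul, map_mul, map_pow, map_pow, ha, hb, pow_add]; ring⟩
    | monomial j c =>
      obtain ⟨k, r, hr, rfl⟩ := HomogeneousLocalization.Away.mk_surjective 𝒜 hs c
      have hr' : r ∈ 𝒜 k := by simpa using hr
      refine ⟨k, s ^ j * r, ?_⟩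
      rw [map_mul, map_pow, hσs, show σ r = _ from hσ k ⟨r, hr'⟩, Polynomial.X_pow_eq_monomial,
        Polynomial.X_pow_eq_monomial, Polynomial.monomial_mul_monomial, Polynomial.monomial_mul_monomial, add_comm j k]

end Groth.Agent.S11278
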