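import Groth.Statements.S11280
import Groth.Agent.Synt29.FlatFS
import Mathlib

set_option autoImplicit false
universe u
open Deform

namespace Groth.Agent.S11280

/-- Let k be an algebraically closed field, A a local Artinian k-algebra with residue field k and t an
element of the maximal ideal of A annihilated by the maximal ideal, so that A is a small extension
of A/tA. Let B be a flat A-algebra whose closed fibre B/m_A B is a formally smooth k-algebra (an
infinitesimal deformation over A of a formally smooth k-algebra). Then every A-algebra automorphism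
of B/tB is induced by an A-algebra automorphism of B. (The published statement asks the automorphism
of B/tB to induce the identity on B/m_A B; this row does not. The published statement takes the
closed fibre smooth, that is formally smooth and essentially of finite type; this row asks the
closed fibre to be formally smooth over k in the sense of lifting along all square-zero surjections
of commutative k-algebras, with no finiteness condition.) -/
theorem result
    {k : Type u} [Field k] [IsAlgClosed k]
    {A : Type u} [CommRing A] [Algebra k A] [IsLocalRing A] [IsArtinianRing A]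
    (hres : ∀ a : A, ∃ c : k, a - algebraMap k A c ∈ IsLocalRing.maximalIdeal A)
    (t : A) (ht : t ∈ IsLocalRing.maximalIdeal A)
    (htm : ∀ a ∈ IsLocalRing.maximalIdeal A, a * t = 0)
    {B : Type u} [CommRing B] [Algebra A B] [Module.Flat A B] [Algebra k B] [IsScalarTower k A B]
    (hsm : Algebra.FormallySmooth k (B ⧸ (IsLocalRing.maximalIdeal A).map (algebraMap A B)))
    (σ : (B ⧸ Ideal.span {algebraMap A B t}) ≃ₐ[A] (B ⧸ Ideal.span {algebraMap A B t})) :
    ∃ τ : B ≃ₐ[A] B, ∀ b : B,
      Ideal.Quotient.mk (Ideal.span {algebraMap A B t}) (τ b) =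
        σ (Ideal.Quotient.mk (Ideal.span {algebraMap A B t}) b) := by
  have : Algebra.FormallySmooth A B := Groth.Agent.Synt29.FlatFS.formallySmooth_of_closedFibre hres hsm
  let T : Ideal B := Ideal.span {algebraMap A B t}
  have htt : t * t = 0 := htm t ht
  have hnil : IsNilpotent T := ⟨2, by
    rw [pow_two, Ideal.span_singleton_mul_span_singleton, ← map_mul, htt, map_zero, Ideal.span_singleton_eq_bot.2 rfl]
    rfl⟩
  let f : B →ₐ[A] B := Algebra.FormallySmooth.lift T hnil ((σ : (B ⧸ T) →ₐ[A] (B ⧸ T)).comp (Ideal.Quotient.mkₐ A T))
  let g : B →ₐ[A] B := Algebra.FormallySmooth.lift T hnil ((σ.symm : (B ⧸ T) →ₐ[A] (B ⧸ T)).comp (Ideal.Quotient.mkₐ A T))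
  have hf : ∀ b, Ideal.Quotient.mk T (f b) = σ (Ideal.Quotient.mk T b) := fun b =>
    Algebra.FormallySmooth.mk_lift T hnil _ b
  have hg : ∀ b, Ideal.Quotient.mk T (g b) = σ.symm (Ideal.Quotient.mk T b) := fun b =>
    Algebra.FormallySmooth.mk_lift T hnil _ b
  have key : ∀ h : B →ₐ[A] B, (∀ b, Ideal.Quotient.mk T (h b) = Ideal.Quotient.mk T b) → Function.Bijective h := by
    intro h hh
    have hd : ∀ b, h (h b) = h b + (h b - b) := fun b => by
      obtain ⟨c, hc⟩ := Ideal.mem_span_singleton'.1 (Ideal.Quotient.eq.1 (hh b))
      obtain ⟨d, hd⟩ := Ideal.mem_span_singleton'.1 (Ideal.Quotient.eq.1 (hh c))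
      have e1 : h (h b - b) = h b - b := by
        rw [← hc, map_mul, AlgHom.commutes]
        have : h c * algebraMap A B t - c * algebraMap A B t = 0 := by
          rw [← sub_mul, ← hd, mul_assoc, ← map_mul, htt, map_zero, mul_zero]
        exact sub_eq_zero.1 this
      rw [map_sub] at e1
      linear_combination e1
    refine ⟨(injective_iff_map_eq_zero h).2 fun b hb => ?_, fun b => ⟨2 * b - h b, ?_⟩⟩
    · have := hd b
      rw [hb, map_zero] at this
      linear_combination this
    · rw [map_sub, map_mul, map_ofNat, hd]
      ring
  have h1 := key (f.comp g) (fun b => by rw [AlgHom.comp_apply, hf, hg, AlgEquiv.apply_symm_apply])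
  have h2 := key (g.comp f) (fun b => by rw [AlgHom.comp_apply, hg, hf, AlgEquiv.symm_apply_apply])
  exact ⟨AlgEquiv.ofBijective f ⟨Function.Injective.of_comp (f := g) h2.1,
    Function.Surjective.of_comp (g := g) h1.2⟩, hf⟩

end Groth.Agent.S11280
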