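import Groth.Statements.S11281
import Mathlib

set_option autoImplicit false
universe u
open Deform

namespace Groth.Agent.S11281

/-- Let k be an algebraically closed field, Λ a local Noetherian k-algebra with residue field k, and R a
local Noetherian Λ-algebra, with local structure map and residue field k. The following are
equivalent: (a) every Λ-extension of R by its residue field k is trivial, i.e. the relative
obstruction space o(R/Λ) = Ex_Λ(R, k) vanishes; (b) for every local Artinian Λ-algebra B with
residue field k and every t in the maximal ideal of B annihilated by the maximal ideal, every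
Λ-algebra map R → B/tB lifts to a Λ-algebra map R → B (formal smoothness of R over Λ tested on small
extensions of Artinian rings). The test algebras B range over the universe of R. -/
theorem result
    {k : Type u} [Field k] [IsAlgClosed k]
    {Λ : Type u} [CommRing Λ] [Algebra k Λ] [IsLocalRing Λ] [IsNoetherianRing Λ]
    (hΛ : ∀ a : Λ, ∃ c : k, a - algebraMap k Λ c ∈ IsLocalRing.maximalIdeal Λ)
    {R : Type u} [CommRing R] [Algebra Λ R] [IsLocalRing R] [IsNoetherianRing R]
    [IsLocalHom (algebraMap Λ R)]
    (hR : ∀ r : R, ∃ c : k, r - algebraMap Λ R (algebraMap k Λ c) ∈ IsLocalRing.maximalIdeal R) :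
    (∀ X : Exal.Ext Λ R (IsLocalRing.ResidueField R), X.IsTrivial) ↔
    (∀ (B : Type u) [CommRing B] [Algebra Λ B] [IsLocalRing B] [IsArtinianRing B],
      (∀ b : B, ∃ c : k, b - algebraMap Λ B (algebraMap k Λ c) ∈ IsLocalRing.maximalIdeal B) →
      ∀ t : B, t ∈ IsLocalRing.maximalIdeal B → (∀ b ∈ IsLocalRing.maximalIdeal B, b * t = 0) →
      ∀ φ : R →ₐ[Λ] B ⧸ Ideal.span {t},
        ∃ φ' : R →ₐ[Λ] B, (Ideal.Quotient.mkₐ Λ (Ideal.span {t})).comp φ' = φ) := by
  classical
  have hRk : ∀ z : IsLocalRing.ResidueField R, ∃ c : k,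
      IsLocalRing.residue R (algebraMap Λ R (algebraMap k Λ c)) = z := fun z => by
    obtain ⟨r, rfl⟩ := IsLocalRing.residue_surjective z
    obtain ⟨c, hc⟩ := hR r
    refine ⟨c, ?_⟩
    rw [eq_comm, ← sub_eq_zero, ← map_sub, IsLocalRing.residue_eq_zero_iff]
    exact hc
  constructor
  · intro htriv B _ _ _ _ hB t ht htm φ
    let mk' := Ideal.Quotient.mkₐ Λ (Ideal.span {t})
    let E : Subalgebra Λ (R × B) :=
      AlgHom.equalizer (φ.comp (AlgHom.fst Λ R B)) (mk'.comp (AlgHom.snd Λ R B))
    have hE : ∀ x : R × B, x ∈ E ↔ φ x.1 = Ideal.Quotient.mk (Ideal.span {t}) x.2 := fun x => Iff.rfl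
    by_cases ht0 : t = 0
    · subst ht0
      choose g hg using (Ideal.Quotient.mk_surjective (I := (Ideal.span {(0 : B)})))
      have huniq : ∀ a b : B, Ideal.Quotient.mk (Ideal.span {(0 : B)}) a = Ideal.Quotient.mk (Ideal.span {(0 : B)}) b → a = b := fun a b h => by
        have := Ideal.Quotient.eq.1 h
        rw [Ideal.span_singleton_eq_bot.2 rfl, Ideal.mem_bot, sub_eq_zero] at this
        exact this
      exact ⟨{ toFun := fun r => g (φ r)
               map_one' := huniq _ _ (by rw [hg, map_one, map_one])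
               map_zero' := huniq _ _ (by rw [hg, map_zero, map_zero])
               map_add' := fun x y => huniq _ _ (by rw [hg, map_add, map_add, hg, hg])
               map_mul' := fun x y => huniq _ _ (by rw [hg, map_mul, map_mul, hg, hg])
               commutes' := fun a => huniq _ _ (by rw [hg, AlgHom.commutes]; rfl) },
        AlgHom.ext fun r => hg (φ r)⟩
    have hkt : ∀ a : k, algebraMap Λ B (algebraMap k Λ a) * t = 0 → a = 0 := fun a ha => by
      by_contra h
      have hu : IsUnit (algebraMap Λ B (algebraMap k Λ a)) := ((isUnit_iff_ne_zero.2 h).map _).map _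
      exact ht0 (hu.mul_right_eq_zero.1 ha)
    let ιk : k → IsLocalRing.ResidueField R := fun c => IsLocalRing.residue R (algebraMap Λ R (algebraMap k Λ c))
    let ιh : k →+* IsLocalRing.ResidueField R :=
      (IsLocalRing.residue R).comp ((algebraMap Λ R).comp (algebraMap k Λ))
    let e : k ≃+* IsLocalRing.ResidueField R := RingEquiv.ofBijective ιh ⟨RingHom.injective ιh, hRk⟩
    let τ : IsLocalRing.ResidueField R → B := fun z => algebraMap Λ B (algebraMap k Λ (e.symm z))
    have hτt : ∀ z, τ z * t ∈ Ideal.span {t} := fun z => Ideal.mul_mem_left _ _ (Ideal.mem_span_singleton_self t)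
    let incl : IsLocalRing.ResidueField R →+ ↥E :=
      { toFun := fun z => ⟨(0, τ z * t), (hE _).2 (by rw [map_zero]; exact (Ideal.Quotient.eq_zero_iff_mem.2 (hτt z)).symm)⟩
        map_zero' := Subtype.ext (Prod.ext rfl (by simp [τ]))
        map_add' := fun z w => Subtype.ext (Prod.ext (by simp) (by simp [τ, add_mul])) }
    have htne : Ideal.span {t} ≠ ⊤ := fun h =>
      (IsLocalRing.maximalIdeal.isMaximal B).ne_top (top_le_iff.1 (h ▸ (Ideal.span_singleton_le_iff_mem _).2 ht))
    let ψ : R →+* IsLocalRing.ResidueField B :=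
      (Ideal.Quotient.lift (Ideal.span {t}) (IsLocalRing.residue B) (fun a ha => by
        rw [IsLocalRing.residue_eq_zero_iff]
        exact (Ideal.span_singleton_le_iff_mem _).2 ht ha)).comp φ.toRingHom
    have hψk : ∀ c : k, ψ (algebraMap Λ R (algebraMap k Λ c)) = IsLocalRing.residue B (algebraMap Λ B (algebraMap k Λ c)) := fun c => by
      simp only [ψ, RingHom.comp_apply, AlgHom.toRingHom_eq_coe, RingHom.coe_coe, AlgHom.commutes]
      rfl
    have hψsurj : Function.Surjective ψ := fun z => by
      obtain ⟨b, rfl⟩ := IsLocalRing.residue_surjective z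
      obtain ⟨c, hc⟩ := hB b
      refine ⟨algebraMap Λ R (algebraMap k Λ c), ?_⟩
      rw [hψk, eq_comm, ← sub_eq_zero, ← map_sub, IsLocalRing.residue_eq_zero_iff]
      exact hc
    have hker : RingHom.ker ψ = IsLocalRing.maximalIdeal R :=
      IsLocalRing.eq_maximalIdeal (RingHom.ker_isMaximal_of_surjective ψ hψsurj)
    have hact : ∀ (x : ↥E) (z : IsLocalRing.ResidueField R),
        (x : R × B).2 * (τ z * t) = τ (IsLocalRing.residue R (x : R × B).1 * z) * t := by
      intro x z
      obtain ⟨c, hc⟩ := hR (x : R × B).1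
      have h1 : IsLocalRing.residue R (x : R × B).1 = ιh c := by
        rw [← sub_eq_zero]
        show IsLocalRing.residue R _ - IsLocalRing.residue R (algebraMap Λ R (algebraMap k Λ c)) = 0
        rw [← map_sub, IsLocalRing.residue_eq_zero_iff]
        exact hc
      have h2 : (x : R × B).2 - algebraMap Λ B (algebraMap k Λ c) ∈ IsLocalRing.maximalIdeal B := by
        rw [← IsLocalRing.residue_eq_zero_iff, map_sub, sub_eq_zero, ← hψk]
        rw [← hker, RingHom.mem_ker, map_sub, sub_eq_zero] at hc
        rw [← hc]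
        simp only [ψ, RingHom.comp_apply, AlgHom.toRingHom_eq_coe, RingHom.coe_coe]
        rw [(hE _).1 x.2, Ideal.Quotient.lift_mk]
      have h3 : (x : R × B).2 * t = algebraMap Λ B (algebraMap k Λ c) * t := by
        rw [← sub_eq_zero, ← sub_mul]
        exact htm _ h2
      have h4 : e.symm (ιh c * z) = c * e.symm z := by
        apply e.injective
        rw [e.apply_symm_apply, map_mul, e.apply_symm_apply]
        rfl
      show _ = algebraMap Λ B (algebraMap k Λ (e.symm (IsLocalRing.residue R (x : R × B).1 * z))) * t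
      rw [h1, h4, map_mul, map_mul]
      linear_combination τ z * h3
    let X : Exal.Ext Λ R (IsLocalRing.ResidueField R) :=
      { E := ↥E
        proj := (AlgHom.fst Λ R B).comp E.val
        incl := incl
        isExtension :=
          { proj_surjective := fun r => by
              obtain ⟨b, hb⟩ := Ideal.Quotient.mk_surjective (φ r)
              exact ⟨⟨(r, b), (hE _).2 hb.symm⟩, rfl⟩
            incl_injective := fun z w h => by
              have h' := congrArg (fun x : ↥E => (x : R × B).2) h
              apply e.symm.injective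
              rw [← sub_eq_zero]
              refine hkt _ ?_
              rw [map_sub, map_sub, sub_mul, sub_eq_zero]
              exact h'
            exact := fun x => by
              constructor
              · intro hx
                change (x : R × B).1 = 0 at hx
                have h := (hE _).1 x.2
                rw [hx, map_zero] at h
                obtain ⟨b, hb⟩ := Ideal.mem_span_singleton'.1 (Ideal.Quotient.eq_zero_iff_mem.1 h.symm)
                obtain ⟨c, hc⟩ := hB b
                refine ⟨ιh c, Subtype.ext (Prod.ext hx.symm ?_)⟩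
                show τ (ιh c) * t = _
                have : e.symm (ιh c) = c := e.symm_apply_apply c
                simp only [τ, this]
                rw [← hb, eq_comm, ← sub_eq_zero, ← sub_mul]
                exact htm _ hc
              · rintro ⟨z, rfl⟩
                rfl
            mul_incl := fun x z => Subtype.ext (Prod.ext (mul_zero _) (hact x z)) } }
    obtain ⟨s, hs⟩ := htriv X
    refine ⟨(AlgHom.snd Λ R B).comp (E.val.comp s), AlgHom.ext fun r => ?_⟩
    have h := (hE _).1 (s r).2
    have h' : ((s r : ↥E) : R × B).1 = r := hs r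
    rw [h'] at h
    exact h.symm
  · intro hlift X
    obtain ⟨hsurj, hinj, hexact, hmul⟩ := X.isExtension
    let ε : X.E := X.incl 1
    have hεp : X.proj ε = 0 := (hexact _).2 ⟨1, rfl⟩
    have hkerε : ∀ x, X.proj x = 0 → ∃ y, x = y * ε := fun x hx => by
      obtain ⟨z, rfl⟩ := (hexact x).1 hx
      obtain ⟨r, rfl⟩ := IsLocalRing.residue_surjective z
      obtain ⟨y, hy⟩ := hsurj r
      refine ⟨y, ?_⟩
      rw [hmul, hy, Algebra.smul_def, mul_one]
      rfl
    have hsq : ε * ε = 0 := by
      show ε * X.incl 1 = 0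
      rw [hmul, hεp, zero_smul, map_zero]
    have hunit : ∀ x : X.E, IsUnit (X.proj x) → IsUnit x := fun x hx => by
      obtain ⟨y, hy⟩ := hsurj (↑hx.unit⁻¹ : R)
      obtain ⟨w, hw⟩ := hkerε (x * y - 1) (by
        rw [map_sub, map_mul, hy, map_one, IsUnit.mul_val_inv, sub_self])
      refine .of_mul_eq_one (y * (1 - w * ε)) ?_
      linear_combination (1 - w * ε) * hw - w * w * hsq
    have hnt : Nontrivial X.E := hinj.nontrivial
    have hloc : IsLocalRing X.E := IsLocalRing.of_nonunits_add fun a b ha hb hab => by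
      have ha' : X.proj a ∈ IsLocalRing.maximalIdeal R := fun h => ha (hunit a h)
      have hb' : X.proj b ∈ IsLocalRing.maximalIdeal R := fun h => hb (hunit b h)
      exact (map_add X.proj a b ▸ Ideal.add_mem _ ha' hb') (hab.map X.proj)
    have hnoeth : IsNoetherianRing X.E := by
      refine IsNoetherianRing.of_prime fun q hq => ?_
      refine Ideal.fg_of_fg_map_of_fg_inf_ker_of_surjective (f := (X.proj : X.E →+* R))
        (IsNoetherian.noetherian _) ?_ hsurj
      have hle : RingHom.ker (X.proj : X.E →+* R) ≤ q := fun x hx => by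
        obtain ⟨y, rfl⟩ := hkerε x hx
        refine Ideal.mul_mem_left _ _ ?_
        exact (hq.mem_or_mem (show ε * ε ∈ q by rw [hsq]; exact q.zero_mem)).elim id id
      rw [inf_eq_right.2 hle]
      refine ⟨{ε}, le_antisymm ((Ideal.span_le).2 (by simpa using hεp)) fun x hx => ?_⟩
      obtain ⟨y, rfl⟩ := hkerε x hx
      exact Ideal.mul_mem_left _ _ (Ideal.subset_span (by simp))
    have hεne : ε ≠ 0 := fun h => one_ne_zero (hinj (h.trans (map_zero X.incl).symm))
    obtain ⟨N, hN⟩ : ∃ N : ℕ, ε ∉ IsLocalRing.maximalIdeal X.E ^ N := by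
      by_contra h
      push Not at h
      have := Ideal.iInf_pow_eq_bot_of_isLocalRing _ (IsLocalRing.maximalIdeal.isMaximal X.E).ne_top
      exact hεne ((Submodule.mem_bot _).1 (this ▸ (Submodule.mem_iInf _).2 h))
    have hN0 : N ≠ 0 := fun h => hN (by rw [h, pow_zero, Ideal.one_eq_top]; trivial)
    set Q := IsLocalRing.maximalIdeal X.E ^ N with hQ
    have hQm : Q ≤ IsLocalRing.maximalIdeal X.E := Ideal.pow_le_self hN0
    have hinter : ∀ x, X.proj x = 0 → x ∈ Q → x = 0 := fun x hx hxQ => by
      obtain ⟨y, rfl⟩ := hkerε x hx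
      by_contra hne
      have hyp : ¬ X.proj y ∈ IsLocalRing.maximalIdeal R := fun hy => hne (by
        show y * X.incl 1 = 0
        rw [hmul, Algebra.smul_def, IsLocalRing.ResidueField.algebraMap_eq,
          (IsLocalRing.residue_eq_zero_iff _).2 hy, zero_mul, map_zero])
      have hu : IsUnit y := hunit y (IsLocalRing.notMem_maximalIdeal.1 hyp)
      exact hN ((Ideal.unit_mul_mem_iff_mem Q hu).1 hxQ)
    have hntB : Nontrivial (X.E ⧸ Q) :=
      Ideal.Quotient.nontrivial_iff.2 (ne_top_of_le_ne_top (IsLocalRing.maximalIdeal.isMaximal X.E).ne_top hQm)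
    have hlocB : IsLocalRing (X.E ⧸ Q) := IsLocalRing.of_surjective' _ Ideal.Quotient.mk_surjective
    have hmB := IsLocalRing.map_maximalIdeal_of_surjective _ (Ideal.Quotient.mk_surjective (I := Q))
    have hartB : IsArtinianRing (X.E ⧸ Q) := by
      rw [isArtinianRing_iff_isNilpotent_maximalIdeal]
      refine ⟨N, ?_⟩
      rw [← hmB, ← Ideal.map_pow, Ideal.zero_eq_bot, Ideal.map_eq_bot_iff_le_ker, Ideal.mk_ker]
    have hmem : ∀ x, X.proj x ∈ IsLocalRing.maximalIdeal R → x ∈ IsLocalRing.maximalIdeal X.E :=
      fun x hx hu => hx (hu.map X.proj)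
    let tB : X.E ⧸ Q := Ideal.Quotient.mk Q ε
    have htB : tB ∈ IsLocalRing.maximalIdeal (X.E ⧸ Q) :=
      hmB ▸ Ideal.mem_map_of_mem _ (hmem ε (by rw [hεp]; exact zero_mem _))
    have htmB : ∀ b ∈ IsLocalRing.maximalIdeal (X.E ⧸ Q), b * tB = 0 := fun b hb => by
      rw [← hmB] at hb
      obtain ⟨x, hx, rfl⟩ := (Ideal.mem_map_iff_of_surjective _ Ideal.Quotient.mk_surjective).1 hb
      have hx' : X.proj x ∈ IsLocalRing.maximalIdeal R := fun h => hx (hunit x h)
      show Ideal.Quotient.mk Q x * Ideal.Quotient.mk Q ε = 0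
      rw [← map_mul]
      show Ideal.Quotient.mk Q (x * X.incl 1) = 0
      rw [hmul, Algebra.smul_def, IsLocalRing.ResidueField.algebraMap_eq,
        (IsLocalRing.residue_eq_zero_iff _).2 hx', zero_mul, map_zero, map_zero]
    have hresB : ∀ b : X.E ⧸ Q, ∃ c : k,
        b - algebraMap Λ (X.E ⧸ Q) (algebraMap k Λ c) ∈ IsLocalRing.maximalIdeal (X.E ⧸ Q) := fun b => by
      obtain ⟨x, rfl⟩ := Ideal.Quotient.mk_surjective b
      obtain ⟨c, hc⟩ := hR (X.proj x)
      refine ⟨c, ?_⟩
      rw [← hmB, IsScalarTower.algebraMap_apply Λ X.E (X.E ⧸ Q), Ideal.Quotient.algebraMap_eq, ← map_sub]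
      refine Ideal.mem_map_of_mem _ (hmem _ ?_)
      rw [map_sub, AlgHom.commutes]
      exact hc
    let f : X.E →ₐ[Λ] (X.E ⧸ Q) ⧸ Ideal.span {tB} :=
      (Ideal.Quotient.mkₐ Λ (Ideal.span {tB})).comp (Ideal.Quotient.mkₐ Λ Q)
    have hfker : RingHom.ker (X.proj : X.E →+* R) ≤ RingHom.ker (f : X.E →+* _) := fun x hx => by
      obtain ⟨y, rfl⟩ := hkerε x hx
      show f (y * ε) = 0
      rw [map_mul]
      exact mul_eq_zero_of_right _ (Ideal.Quotient.eq_zero_iff_mem.2 (Ideal.mem_span_singleton_self tB))
    choose g hg using hsurj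
    have hfg : ∀ x y, X.proj x = X.proj y → f x = f y := fun x y h => by
      rw [← sub_eq_zero, ← map_sub]
      exact hfker (show X.proj (x - y) = 0 by rw [map_sub, h, sub_self])
    let φ : R →ₐ[Λ] (X.E ⧸ Q) ⧸ Ideal.span {tB} :=
      { toFun := fun r => f (g r)
        map_one' := by rw [hfg (g 1) 1 (by rw [hg, map_one]), map_one]
        map_zero' := by rw [hfg (g 0) 0 (by rw [hg, map_zero]), map_zero]
        map_add' := fun x y => by rw [← map_add]; exact hfg _ _ (by rw [map_add, hg, hg, hg])
        map_mul' := fun x y => by rw [← map_mul]; exact hfg _ _ (by rw [map_mul, hg, hg, hg])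
        commutes' := fun a => by rw [hfg (g (algebraMap Λ R a)) (algebraMap Λ X.E a) (by rw [hg, AlgHom.commutes]), AlgHom.commutes] }
    obtain ⟨φ', hφ'⟩ := hlift (X.E ⧸ Q) hresB tB htB htmB φ
    have hex : ∀ r, ∃ x, X.proj x = r ∧ Ideal.Quotient.mk Q x = φ' r := fun r => by
      have h : φ' r - Ideal.Quotient.mk Q (g r) ∈ Ideal.span {tB} := Ideal.Quotient.eq.1 (DFunLike.congr_fun hφ' r)
      obtain ⟨b, hb⟩ := Ideal.mem_span_singleton'.1 h
      obtain ⟨y, rfl⟩ := Ideal.Quotient.mk_surjective b
      refine ⟨g r + y * ε, by rw [map_add, map_mul, hεp, mul_zero, add_zero, hg], ?_⟩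
      rw [map_add, map_mul, show Ideal.Quotient.mk Q y * Ideal.Quotient.mk Q ε = _ from hb]
      ring
    choose s hs1 hs2 using hex
    have huniq : ∀ x y, X.proj x = X.proj y → Ideal.Quotient.mk Q x = Ideal.Quotient.mk Q y → x = y := fun x y h1 h2 =>
      sub_eq_zero.1 (hinter _ (by rw [map_sub, h1, sub_self]) (Ideal.Quotient.eq.1 h2))
    exact ⟨{ toFun := s
             map_one' := huniq _ _ (by rw [hs1, map_one]) (by rw [hs2, map_one, map_one])
             map_zero' := huniq _ _ (by rw [hs1, map_zero]) (by rw [hs2, map_zero, map_zero])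
             map_add' := fun x y => huniq _ _ (by rw [hs1, map_add, hs1, hs1]) (by rw [hs2, map_add, map_add, hs2, hs2])
             map_mul' := fun x y => huniq _ _ (by rw [hs1, map_mul, hs1, hs1]) (by rw [hs2, map_mul, map_mul, hs2, hs2])
             commutes' := fun a => huniq _ _ (by rw [hs1, AlgHom.commutes]) (by rw [hs2, AlgHom.commutes]; rfl) },
      hs1⟩

end Groth.Agent.S11281
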