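import Groth.Statements.S11282
import Mathlib

set_option autoImplicit false
universe u
open Deform

namespace Groth.Agent.S11282

/-- Let k be an algebraically closed field, Λ a complete local Noetherian k-algebra with residue field
k, and R a local Noetherian Λ-algebra with local structure map, residue field k and maximal ideal m.
Then for some n the pull-back map o((R/m^(n+1))/Λ) → o(R/Λ) on obstruction spaces is onto: every
Λ-extension 0 → k → E → R → 0 of R by its residue field is the inverse image of a Λ-extension of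
R/m^(n+1) by k. Concretely, the middle ring E of every such extension contains an ideal I which
meets the kernel k only in 0 and whose image in R is exactly m^(n+1) (then E/I is an extension of
R/m^(n+1) by k whose inverse image along R → R/m^(n+1) is E). -/
theorem result
    {k : Type u} [Field k] [IsAlgClosed k]
    {Λ : Type u} [CommRing Λ] [Algebra k Λ] [IsLocalRing Λ] [IsNoetherianRing Λ]
    [IsAdicComplete (IsLocalRing.maximalIdeal Λ) Λ]
    (hΛ : ∀ a : Λ, ∃ c : k, a - algebraMap k Λ c ∈ IsLocalRing.maximalIdeal Λ)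
    {R : Type u} [CommRing R] [Algebra Λ R] [IsLocalRing R] [IsNoetherianRing R]
    [IsLocalHom (algebraMap Λ R)]
    (hR : ∀ r : R, ∃ c : k, r - algebraMap Λ R (algebraMap k Λ c) ∈ IsLocalRing.maximalIdeal R) :
    ∃ n : ℕ, ∀ X : Exal.Ext Λ R (IsLocalRing.ResidueField R),
      ∃ I : Ideal X.E, (∀ x ∈ I, X.proj x = 0 → x = 0) ∧
        Ideal.map X.proj I = IsLocalRing.maximalIdeal R ^ (n + 1) := by
  classical
  let m := IsLocalRing.maximalIdeal R
  obtain ⟨d, x, hx⟩ : ∃ (d : ℕ) (x : Fin d → R), Ideal.span (Set.range x) = m :=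
    (Submodule.fg_iff_exists_fin_generating_family.1 (IsNoetherian.noetherian m))
  -- relations of the Rees algebra
  let Φ : MvPolynomial (Fin d) R →ₐ[R] Polynomial R :=
    MvPolynomial.aeval (fun i => Polynomial.C (x i) * Polynomial.X)
  have hΦ : ∀ (F : MvPolynomial (Fin d) R) (n : ℕ),
      (Φ F).coeff n = MvPolynomial.eval x (MvPolynomial.homogeneousComponent n F) := by
    intro F n
    induction F using MvPolynomial.induction_on' with
    | monomial μ a =>
      have h1 : Φ (MvPolynomial.monomial μ a) =
          Polynomial.C (MvPolynomial.eval x (MvPolynomial.monomial μ a)) * Polynomial.X ^ μ.degree := by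
        simp only [Φ, MvPolynomial.aeval_monomial, MvPolynomial.eval_monomial, Finsupp.degree]
        rw [Finsupp.prod, Finsupp.prod, map_mul, map_prod]
        simp only [mul_pow, Finset.prod_mul_distrib, map_pow, Finset.prod_pow_eq_pow_sum]
        simp only [Polynomial.algebraMap_eq]
        exact (mul_assoc _ _ _).symm
      rw [h1, Polynomial.coeff_C_mul_X_pow,
        MvPolynomial.homogeneousComponent_of_mem (n := μ.degree) (MvPolynomial.isHomogeneous_monomial a rfl)]
      split <;> simp
    | add p q hp hq => rw [map_add, Polynomial.coeff_add, hp, hq, map_add, map_add]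
  let K : Ideal (MvPolynomial (Fin d) R) := RingHom.ker Φ
  have hK : ∀ F, F ∈ K ↔ ∀ n, MvPolynomial.eval x (MvPolynomial.homogeneousComponent n F) = 0 := fun F => by
    simp only [← hΦ]
    exact ⟨fun h n => by rw [show Φ F = 0 from h, Polynomial.coeff_zero],
      fun h => Polynomial.ext fun n => (h n).trans (Polynomial.coeff_zero n).symm⟩
  have hKhom : ∀ F ∈ K, ∀ n, MvPolynomial.homogeneousComponent n F ∈ K := fun F hF n => by
    rw [hK]
    intro j
    rw [MvPolynomial.homogeneousComponent_of_mem (MvPolynomial.homogeneousComponent_mem n F)]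
    split
    · exact (hK F).1 hF n
    · simp
  obtain ⟨S, hS⟩ := IsNoetherian.noetherian K
  let c := S.sup MvPolynomial.totalDegree
  refine ⟨c + 1, fun X => ?_⟩
  obtain ⟨hsurj, hinj, hexact, hmul⟩ := X.isExtension
  let L : Ideal X.E := RingHom.ker (X.proj : X.E →+* R)
  have hL : ∀ a, a ∈ L ↔ X.proj a = 0 := fun a => Iff.rfl
  let mE : Ideal X.E := m.comap (X.proj : X.E →+* R)
  have hmL : ∀ a ∈ mE, ∀ l ∈ L, a * l = 0 := by
    intro a ha l hl
    obtain ⟨z, rfl⟩ := (hexact l).1 hl
    rw [hmul, Algebra.smul_def, IsLocalRing.ResidueField.algebraMap_eq,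
      show IsLocalRing.residue R (X.proj a) = 0 from (IsLocalRing.residue_eq_zero_iff _).2 ha, zero_mul, map_zero]
  choose y hy using fun i => hsurj (x i)
  have hymE : ∀ i, y i ∈ mE := fun i => by
    show X.proj (y i) ∈ m
    rw [hy, ← hx]
    exact Ideal.subset_span ⟨i, rfl⟩
  let N := c + 1 + 1
  let A : Ideal X.E := Ideal.span (Set.range y)
  have hAm : A ≤ mE := Ideal.span_le.2 (by rintro _ ⟨i, rfl⟩; exact hymE i)
  have hmA : mE ≤ A ⊔ L := fun a ha => by
    have h1 : X.proj a ∈ A.map (X.proj : X.E →+* R) := by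
      rw [Ideal.map_span, ← Set.range_comp, show ((X.proj : X.E →+* R) ∘ y) = x from funext hy, hx]
      exact ha
    obtain ⟨b, hb, hba⟩ := (Ideal.mem_map_iff_of_surjective (X.proj : X.E →+* R) hsurj).1 h1
    rw [show a = b + (a - b) by ring]
    exact add_mem (Ideal.mem_sup_left hb) (Ideal.mem_sup_right (show X.proj (a - b) = 0 by
      rw [map_sub, sub_eq_zero]; exact hba.symm))
  have hLm0 : mE * L = ⊥ := le_bot_iff.1 (Ideal.mul_le.2 fun a ha l hl => (Ideal.mem_bot).2 (hmL a ha l hl))
  have hpow : ∀ n, mE ^ (n + 2) ≤ A ^ (n + 2) := by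
    intro n
    induction n with
    | zero =>
      have h1 : mE * mE ≤ (A ⊔ L) * mE := Ideal.mul_mono_left hmA
      have h2 : mE * A ≤ (A ⊔ L) * A := Ideal.mul_mono_left hmA
      rw [pow_two, pow_two]
      rw [Ideal.sup_mul, mul_comm L, hLm0, sup_bot_eq, mul_comm A] at h1
      have h3 : L * A = ⊥ := le_bot_iff.1 (by rw [← hLm0, mul_comm mE]; exact Ideal.mul_mono_right hAm)
      rw [Ideal.sup_mul, h3, sup_bot_eq] at h2
      exact h1.trans h2
    | succ n ih =>
      rw [pow_succ, pow_succ A]
      refine (Ideal.mul_mono ih hmA).trans ?_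
      rw [Ideal.mul_sup]
      refine sup_le le_rfl ?_
      refine le_trans ?_ bot_le
      rw [← hLm0]
      exact Ideal.mul_mono_left ((Ideal.pow_le_self (by omega)).trans hAm)
  refine ⟨mE ^ N, fun a ha ha0 => ?_, ?_⟩
  swap
  · rw [Ideal.map_pow]
    exact congrArg (fun I : Ideal R => I ^ N) (Ideal.map_comap_of_surjective (X.proj : X.E →+* R) hsurj m)
  have haA : a ∈ A ^ N := hpow c ha
  obtain ⟨F, hF, hFa⟩ := (Ideal.mem_span_pow_iff_exists_isHomogeneous y a (n := N)).1 haA
  let φ : MvPolynomial (Fin d) X.E → X.E := fun G => MvPolynomial.eval y (MvPolynomial.homogeneousComponent N G)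
  have hφadd : ∀ G H, φ (G + H) = φ G + φ H := fun G H => by simp [φ]
  have hFφ : φ F = a := by
    show MvPolynomial.eval y _ = a
    rw [MvPolynomial.homogeneousComponent_of_mem (show F ∈ MvPolynomial.homogeneousSubmodule _ _ N from hF), if_pos rfl, hFa]
  let π : MvPolynomial (Fin d) X.E →+* MvPolynomial (Fin d) R := MvPolynomial.map (X.proj : X.E →+* R)
  have hπ : Function.Surjective π := MvPolynomial.map_surjective _ hsurj
  have hevπ : ∀ G, X.proj (MvPolynomial.eval y G) = MvPolynomial.eval x (π G) := fun G => by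
    show (X.proj : X.E →+* R) (MvPolynomial.eval y G) = _
    rw [MvPolynomial.map_eval, show ((X.proj : X.E →+* R) ∘ y) = x from funext hy]
  have hπK : π F ∈ K := (hK _).2 fun n => by
    rw [MvPolynomial.homogeneousComponent_of_mem (n := N) (show π F ∈ MvPolynomial.homogeneousSubmodule _ _ N from hF.map _)]
    split
    · rw [← hevπ, hFa, ha0]
    · simp
  -- polynomials with coefficients in `L`
  have hkerφ : ∀ D, π D = 0 → φ D = 0 := by
    intro D hD
    show MvPolynomial.eval y _ = 0
    rw [MvPolynomial.eval_eq]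
    refine Finset.sum_eq_zero fun μ hμ => ?_
    rw [MvPolynomial.mem_support_iff, MvPolynomial.coeff_homogeneousComponent] at hμ
    have hdeg : μ.degree = N := by by_contra h; rw [if_neg h] at hμ; exact hμ rfl
    rw [MvPolynomial.coeff_homogeneousComponent, if_pos hdeg]
    obtain ⟨i, hi⟩ : ∃ i, i ∈ μ.support := by
      by_contra h
      have : μ = 0 := Finsupp.support_eq_empty.1 (Finset.eq_empty_of_forall_notMem fun i hi => h ⟨i, hi⟩)
      rw [this, map_zero] at hdeg
      omega
    rw [← Finset.mul_prod_erase _ _ hi]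
    have h0 : D.coeff μ * y i = 0 := by
      rw [mul_comm]
      refine hmL _ (hymE i) _ ?_
      rw [hL]
      have := congrArg (MvPolynomial.coeff μ) hD
      rwa [MvPolynomial.coeff_map, MvPolynomial.coeff_zero] at this
    obtain ⟨e, he⟩ := Nat.exists_eq_succ_of_ne_zero (Finsupp.mem_support_iff.1 hi)
    rw [he, pow_succ']
    linear_combination (y i ^ e * ∏ j ∈ μ.support.erase i, y j ^ μ j) * h0
  let W : Ideal (MvPolynomial (Fin d) X.E) :=
    Ideal.span {H | ∃ j, j ≤ c ∧ H.IsHomogeneous j ∧ MvPolynomial.eval y H ∈ L ∧ π H ∈ K}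
  have hWφ : ∀ H ∈ W, ∀ G, φ (G * H) = 0 := by
    intro H hH
    induction hH using Submodule.span_induction with
    | mem H hH =>
      obtain ⟨j, hj, hhom, hev, -⟩ := hH
      intro G
      obtain ⟨r, hr⟩ : ∃ r, N = r + 1 + j := ⟨N - j - 1, by omega⟩
      show MvPolynomial.eval y (MvPolynomial.homogeneousComponent N (G * H)) = 0
      have hterm : ∀ i, MvPolynomial.eval y (MvPolynomial.homogeneousComponent N
          (MvPolynomial.homogeneousComponent i G * H)) = 0 := by
        intro i
        rw [MvPolynomial.homogeneousComponent_of_mem (n := i + j)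
          (show _ ∈ MvPolynomial.homogeneousSubmodule _ _ (i + j) from (MvPolynomial.homogeneousComponent_isHomogeneous i G).mul hhom)]
        split
        · rename_i h
          rw [map_mul]
          refine hmL _ ?_ _ hev
          have : MvPolynomial.eval y (MvPolynomial.homogeneousComponent i G) ∈ A ^ i :=
            (Ideal.mem_span_pow_iff_exists_isHomogeneous y _ (n := i)).2
              ⟨_, MvPolynomial.homogeneousComponent_isHomogeneous i G, rfl⟩
          exact hAm (Ideal.pow_le_self (by omega) this)
        · simp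
      conv_lhs => rw [← MvPolynomial.sum_homogeneousComponent G, Finset.sum_mul, map_sum, map_sum]
      exact Finset.sum_eq_zero fun i _ => hterm i
    | zero => intro G; simp [φ]
    | add p q _ _ hp hq => intro G; rw [mul_add, hφadd, hp, hq, add_zero]
    | smul t p _ hp => intro G; rw [smul_eq_mul, ← mul_assoc]; exact hp _
  have hKW : K ≤ W.map π := by
    rw [← hS, Submodule.span_le]
    intro G hG
    rw [← MvPolynomial.sum_homogeneousComponent G]
    refine Ideal.sum_mem _ fun j hj => ?_
    have hjc : j ≤ c := by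
      have h1 := Finset.mem_range.1 hj
      have h2 : G.totalDegree ≤ c := Finset.le_sup hG
      omega
    have hGK : MvPolynomial.homogeneousComponent j G ∈ K := hKhom G (hS ▸ Submodule.subset_span hG) j
    obtain ⟨H₀, hH₀⟩ := hπ (MvPolynomial.homogeneousComponent j G)
    have hπH : π (MvPolynomial.homogeneousComponent j H₀) = MvPolynomial.homogeneousComponent j G := by
      ext μ
      rw [MvPolynomial.coeff_map, MvPolynomial.coeff_homogeneousComponent, MvPolynomial.coeff_homogeneousComponent]
      have := congrArg (MvPolynomial.coeff μ) hH₀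
      rw [MvPolynomial.coeff_map, MvPolynomial.coeff_homogeneousComponent] at this
      split
      · rename_i h; rwa [if_pos h] at this
      · rw [map_zero]
    rw [← hπH]
    refine Ideal.mem_map_of_mem π (Ideal.subset_span
      ⟨j, hjc, MvPolynomial.homogeneousComponent_isHomogeneous j H₀, ?_, by rw [hπH]; exact hGK⟩)
    rw [hL, hevπ, hπH]
    have := (hK _).1 hGK j
    rwa [MvPolynomial.homogeneousComponent_of_mem (MvPolynomial.homogeneousComponent_mem j G), if_pos rfl] at this
  obtain ⟨H, hH, hHF⟩ := (Ideal.mem_map_iff_of_surjective π hπ).1 (hKW hπK)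
  rw [← hFφ, show F = 1 * H + (F - H) by ring, hφadd, hWφ H hH 1, hkerφ (F - H) (by rw [map_sub, hHF, sub_self]), add_zero]

end Groth.Agent.S11282
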