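import Groth.Statements.S11283
import Groth.Agent.Synt29.ExalCompl

set_option autoImplicit false
universe u
open Deform

namespace Groth.Agent.S11283

/-- Let k be an algebraically closed field, Λ a complete local Noetherian k-algebra with residue field
k, R a local Noetherian Λ-algebra with local structure map and residue field k, and R̂ the
completion of R at its maximal ideal. Let L be a simple R-module (a one-dimensional k-vector space
on which R acts through its residue field) carrying a compatible R̂-module structure. Then inverse
image of Λ-extensions along R → R̂ induces a bijection o(R̂/Λ) → o(R/Λ) on classes of Λ-extensions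
by L: two Λ-extensions of R̂ by L whose inverse images over R are equivalent are equivalent, and
every Λ-extension of R by L is equivalent to the inverse image of one of R̂. -/
theorem result
    {k : Type u} [Field k] [IsAlgClosed k]
    {Λ : Type u} [CommRing Λ] [Algebra k Λ] [IsLocalRing Λ] [IsNoetherianRing Λ]
    [IsAdicComplete (IsLocalRing.maximalIdeal Λ) Λ]
    (hΛ : ∀ a : Λ, ∃ c : k, a - algebraMap k Λ c ∈ IsLocalRing.maximalIdeal Λ)
    {R : Type u} [CommRing R] [Algebra Λ R] [IsLocalRing R] [IsNoetherianRing R]
    [IsLocalHom (algebraMap Λ R)]
    (hR : ∀ r : R, ∃ c : k, r - algebraMap Λ R (algebraMap k Λ c) ∈ IsLocalRing.maximalIdeal R)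
    (L : Type u) [AddCommGroup L] [Module (AdicCompletion (IsLocalRing.maximalIdeal R) R) L] [Module R L]
    [IsScalarTower R (AdicCompletion (IsLocalRing.maximalIdeal R) R) L] [IsSimpleModule R L] :
    (∀ X X' : Exal.Ext Λ (AdicCompletion (IsLocalRing.maximalIdeal R) R) L,
        Nonempty ((X.pullback R).Equiv (X'.pullback R)) → Nonempty (X.Equiv X')) ∧
    (∀ Y : Exal.Ext Λ R L, ∃ X : Exal.Ext Λ (AdicCompletion (IsLocalRing.maximalIdeal R) R) L,
        Nonempty ((X.pullback R).Equiv Y)) := by
  exact Groth.Agent.Synt29.ExalCompl.pullback_bijective

end Groth.Agent.S11283
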