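import Groth.Statements.S11285
import Groth.Agent.Synt29.ExtOfSeq

set_option autoImplicit false
universe u
open Deform

namespace Groth.Agent.S11285

/-- Let k be an algebraically closed field and A → B a map of finitely generated k-algebras with B
reduced and smooth over A at every minimal prime of B (the morphism Spec B → Spec A is smooth on a
dense open subset). Let M be a finitely generated projective B-module and 0 → M → N → Ω_{B/A} → 0 an
exact sequence of B-modules (i injective, q surjective, image of i = kernel of q). Then there is an
A-algebra extension E → B with square-zero kernel, together with a B-linear identification of its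
kernel with M and a B-linear isomorphism of B ⊗_E Ω_{E/A} with N, carrying the conormal map of the
extension to i and q to the canonical map B ⊗_E Ω_{E/A} → Ω_{B/A}. Together with the injectivity
statement for such conormal sequences this is the surjectivity half of the identification of Ex_A(B,
M) with Ext^1_B(Ω_{B/A}, M); affine case of the statement for algebraic schemes. The module N ranges
over the universe of B. -/
theorem result
    {k : Type u} [Field k] [IsAlgClosed k]
    {A B : Type u} [CommRing A] [CommRing B] [Algebra k A] [Algebra k B] [Algebra A B]
    [IsScalarTower k A B] [Algebra.FiniteType k A] [Algebra.FiniteType k B] [IsReduced B]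
    (hsm : ∀ p : PrimeSpectrum B, p.asIdeal ∈ minimalPrimes B → Algebra.IsSmoothAt A p.asIdeal)
    (M N : Type u) [AddCommGroup M] [Module B M] [Module.Finite B M] [Module.Projective B M]
    [AddCommGroup N] [Module B N]
    (i : M →ₗ[B] N) (q : N →ₗ[B] Ω[B⁄A]) (hi : Function.Injective i) (hq : Function.Surjective q)
    (hex : Function.Exact i q) :
    ∃ P : Algebra.Extension.{u} A B, P.ker ^ 2 = ⊥ ∧
      ∃ (e₁ : P.Cotangent ≃ₗ[B] M) (e₂ : P.CotangentSpace ≃ₗ[B] N),
        (∀ x, e₂ (P.cotangentComplex x) = i (e₁ x)) ∧ (∀ y, q (e₂ y) = P.toKaehler y) := by
  
  exact Groth.Agent.Synt29.ExtOfSeq.exists_extension q i hi hq hex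

end Groth.Agent.S11285
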