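import Groth.Statements.S11287
import Groth.Agent.Synt29.ExalPS
import Groth.Agent.Synt29.ExalClass
import Groth.Agent.PSLib.Basic

set_option autoImplicit false
universe u
open Deform

namespace Groth.Agent.S11287

/-- Let k be an algebraically closed field, Λ a complete local Noetherian k-algebra with residue field
k, P = Λ[[X_1, …, X_d]] the power series ring, J an ideal of P contained in (X_1, …, X_d)^2, R =
P/J, and L a simple R-module (a copy of the residue field k). Then: (a) for every Λ-extension 0 → L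
→ E → R → 0 the quotient map P → R lifts to a Λ-algebra map u : P → E; (b) for two such extensions
E, E' with lifts u, u', the extensions are equivalent if and only if u and u' send every element of
J to the images of the same element of L (the restrictions J → L of the lifts agree); (c) every
P-linear map J → L is the restriction of a lift for some extension. Thus the classes of Λ-extensions
of R by L correspond bijectively to Hom_P(J, L), the dual of J/m_P J; this is the identification of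
the obstruction space o(R/Λ) for a complete R (the general case reduces to it by passing to the
completion). -/
theorem result
    {k : Type u} [Field k] [IsAlgClosed k]
    {Λ : Type u} [CommRing Λ] [Algebra k Λ] [IsLocalRing Λ] [IsNoetherianRing Λ]
    [IsAdicComplete (IsLocalRing.maximalIdeal Λ) Λ]
    (hΛ : ∀ a : Λ, ∃ c : k, a - algebraMap k Λ c ∈ IsLocalRing.maximalIdeal Λ)
    (d : ℕ) (J : Ideal (MvPowerSeries (Fin d) Λ))
    (hJ : J ≤ Ideal.span (Set.range (MvPowerSeries.X : Fin d → MvPowerSeries (Fin d) Λ)) ^ 2)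
    (L : Type u) [AddCommGroup L] [Module (MvPowerSeries (Fin d) Λ ⧸ J) L] [Module (MvPowerSeries (Fin d) Λ) L]
    [IsScalarTower (MvPowerSeries (Fin d) Λ) (MvPowerSeries (Fin d) Λ ⧸ J) L] [IsSimpleModule (MvPowerSeries (Fin d) Λ ⧸ J) L] :
    (∀ X : Exal.Ext Λ (MvPowerSeries (Fin d) Λ ⧸ J) L,
        ∃ u : MvPowerSeries (Fin d) Λ →ₐ[Λ] X.E, ∀ p, X.proj (u p) = Ideal.Quotient.mk J p) ∧
    (∀ (X X' : Exal.Ext Λ (MvPowerSeries (Fin d) Λ ⧸ J) L) (u : MvPowerSeries (Fin d) Λ →ₐ[Λ] X.E) (u' : MvPowerSeries (Fin d) Λ →ₐ[Λ] X'.E),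
        (∀ p, X.proj (u p) = Ideal.Quotient.mk J p) → (∀ p, X'.proj (u' p) = Ideal.Quotient.mk J p) →
        (Nonempty (X.Equiv X') ↔ ∀ j ∈ J, ∃ z : L, X.incl z = u j ∧ X'.incl z = u' j)) ∧
    (∀ δ : J →ₗ[MvPowerSeries (Fin d) Λ] L, ∃ (X : Exal.Ext Λ (MvPowerSeries (Fin d) Λ ⧸ J) L) (u : MvPowerSeries (Fin d) Λ →ₐ[Λ] X.E),
        (∀ p, X.proj (u p) = Ideal.Quotient.mk J p) ∧ ∀ j : J, X.incl (δ j) = u j) := by
  
  open Groth.Agent.Synt29 in
  have hJ2 : J ≤ PSLib.vars d Λ * PSLib.vars d Λ := by rw [← pow_two]; exact hJ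
  have hlift : ∀ X : Exal.Ext Λ (MvPowerSeries (Fin d) Λ ⧸ J) L,
      ∃ u : MvPowerSeries (Fin d) Λ →ₐ[Λ] X.E, ∀ p, X.proj (u p) = Ideal.Quotient.mk J p := fun X => by
    open Groth.Agent.Synt29 in
    have := ExalPS.isAdicComplete_ext (PSLib.vars d Λ) X
    choose b hb using fun i => X.isExtension.proj_surjective (Ideal.Quotient.mk J (MvPowerSeries.X i))
    set V := (PSLib.vars d Λ).map (Ideal.Quotient.mk J)
    have hbI : ∀ i, b i ∈ V.comap X.proj.toRingHom := fun i => by
      show X.proj (b i) ∈ V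
      rw [hb]
      exact Ideal.mem_map_of_mem _ (Ideal.subset_span ⟨i, rfl⟩)
    obtain ⟨u, hu⟩ := PSLib.exists_algHom (R := Λ) _ b hbI
    have hc : IsAdicComplete (PSLib.vars d Λ) (MvPowerSeries (Fin d) Λ ⧸ J) := AdicLib.isAdicComplete_of_finite _ _
    have hc' : IsAdicComplete V (MvPowerSeries (Fin d) Λ ⧸ J) := by
      show IsAdicComplete ((PSLib.vars d Λ).map (Ideal.Quotient.mk J)) _
      rw [← Ideal.Quotient.algebraMap_eq]
      exact (IsAdicComplete.map_algebraMap_iff _ _).2 hc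
    have he : X.proj.comp u = Ideal.Quotient.mkₐ Λ J := PSLib.algHom_ext (I := V) _ _
      (fun i => by rw [AlgHom.comp_apply, hu, hb]; exact Ideal.mem_map_of_mem _ (Ideal.subset_span ⟨i, rfl⟩))
      (fun i => by rw [AlgHom.comp_apply, hu, hb]; rfl)
    exact ⟨u, AlgHom.congr_fun he⟩
  open Groth.Agent.Synt29 in
  refine ⟨hlift, fun X X' u u' hu hu' => ⟨fun ⟨φ⟩ j hj => ?_, ExalClass.nonempty_equiv X X' u u' hu hu'⟩,
    fun δ => ExalClass.exists_ext δ⟩
  obtain ⟨z, hz⟩ := (X.isExtension.exact (u j)).1 (by rw [hu]; exact Ideal.Quotient.eq_zero_iff_mem.2 hj)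
  refine ⟨z, hz, ?_⟩
  rw [← φ.apply_incl, hz]
  exact Groth.Agent.Synt29.ExalPS.eq_on_sq (PSLib.vars d Λ) X' (φ.toAlgEquiv.toAlgHom.comp u) u'
    (fun p => by rw [AlgHom.comp_apply]; exact (φ.proj_apply (u p)).trans (hu p)) hu' (hJ2 hj)


end Groth.Agent.S11287
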