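import Groth.Statements.S11288
import Groth.Agent.SmallAlg.LinAlg

set_option autoImplicit false
universe u
open Deform

namespace Groth.Agent.S11288

/-- Let K be a field, R' a local Artinian K-algebra with residue field K, and t a nonzero element of the
maximal ideal m' of R' with m' t = 0, so that R' → R = R'/(t) is a small extension of R. Then the
extension is trivial, i.e. the projection admits a section which is a K-algebra map, if and only if
t is not in m'^2; equivalently, iff the surjection m'/m'^2 → m_R/m_R^2 induced on cotangent spaces,
whose kernel is spanned by the class of t, is not bijective. For instance K[t]/(t^(n+1)) →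
K[t]/(t^n) is a non-trivial small extension for n ≥ 2. (The published example allows any local
K-algebra with residue field K; the row takes R' Artinian, the case in which the subalgebra
generated by lifts of a basis of the cotangent space maps onto R.) -/
theorem result
    {K : Type u} [Field K]
    {R' : Type u} [CommRing R'] [Algebra K R'] [IsLocalRing R'] [IsArtinianRing R']
    (hres : ∀ a : R', ∃ c : K, a - algebraMap K R' c ∈ IsLocalRing.maximalIdeal R')
    (t : R') (ht : t ∈ IsLocalRing.maximalIdeal R') (ht0 : t ≠ 0)
    (htm : ∀ a ∈ IsLocalRing.maximalIdeal R', a * t = 0) :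
    (∃ s : (R' ⧸ Ideal.span {t}) →ₐ[K] R', ∀ x, Ideal.Quotient.mk (Ideal.span {t}) (s x) = x) ↔
      t ∉ IsLocalRing.maximalIdeal R' ^ 2 := by
  constructor
  · rintro ⟨s, hs⟩ h2
    have hlift : ∀ a : R', ∃ c : R', s (Ideal.Quotient.mk _ a) = a + c * t := fun a => by
      obtain ⟨c, hc⟩ := Ideal.mem_span_singleton'.1 (Ideal.Quotient.eq.1 (hs (Ideal.Quotient.mk _ a)))
      exact ⟨c, by rw [hc]; abel⟩
    have key : ∀ y ∈ IsLocalRing.maximalIdeal R' ^ 2, s (Ideal.Quotient.mk _ y) = y := by
      intro y hy
      rw [pow_two] at hy
      refine Submodule.mul_induction_on hy (fun a ha b hb => ?_) (fun a b ha hb => by rw [map_add, map_add, ha, hb])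
      obtain ⟨c, hc⟩ := hlift a
      obtain ⟨d, hd⟩ := hlift b
      rw [map_mul, map_mul, hc, hd]
      have h1 := htm a ha
      have h3 := htm b hb
      have h4 := htm t ht
      linear_combination d * h1 + c * h3 + c * d * h4
    have h0 := key t h2
    rw [Ideal.Quotient.eq_zero_iff_mem.2 (Ideal.mem_span_singleton_self t), map_zero] at h0
    exact ht0 h0.symm
  · intro h2
    exact Groth.Agent.SmallAlg.exists_section hres t ht htm h2

end Groth.Agent.S11288
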