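import Groth.Statements.S11289
import Groth.Agent.DefTan29.Tangent
import Groth.Agent.DefGlueLib.Rigid

set_option autoImplicit false
universe u
open CategoryTheory CategoryTheory.Limits AlgebraicGeometry
open Deform

namespace Groth.Agent.S11289

/-- Let k be an algebraically closed field and X a nonsingular variety over k (an integral scheme,
separated, quasi-compact and smooth over Spec k). Call X rigid when every infinitesimal deformation
of X is trivial: for every local Artinian k-algebra A with a k-algebra augmentation e : A → k, every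
scheme Y flat over Spec A and every morphism i : X → Y making X the fibre of Y over the closed point
Spec k → Spec A, there is an isomorphism of Y with the product X ×_k Spec A over Spec A under which
i becomes the canonical inclusion of X. Then X is rigid if and only if H^1(X, T_X) = 0, written here
as the vanishing of Ext^1(Ω_{X/k}, O_X) in the category of O_X-modules (the same group, Ω_{X/k}
being locally free). The Artinian algebras A range over the universe of X. -/
theorem result
    {k : Type u} [Field k] [IsAlgClosed k]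
    (X : Scheme.{u}) [X.Over (Spec (CommRingCat.of k))] [IsIntegral X]
    [Smooth (X ↘ Spec (CommRingCat.of k))] [IsSeparated (X ↘ Spec (CommRingCat.of k))]
    [QuasiCompact (X ↘ Spec (CommRingCat.of k))] [HasExt.{u} X.Modules] :
    (∀ (A : Type u) [CommRing A] [Algebra k A] [IsLocalRing A] [IsArtinianRing A] (e : A →ₐ[k] k)
        (Y : Scheme.{u}) (f : Y ⟶ Spec (CommRingCat.of A)) (i : X ⟶ Y), Flat f →
        IsPullback i (X ↘ Spec (CommRingCat.of k)) f (Spec.map (CommRingCat.ofHom e.toRingHom)) →
        ∃ φ : Y ≅ pullback (X ↘ Spec (CommRingCat.of k)) (Spec.map (CommRingCat.ofHom (algebraMap k A))),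
          φ.hom ≫ pullback.snd _ _ = f ∧ i ≫ φ.hom ≫ pullback.fst _ _ = 𝟙 X) ↔
    Subsingleton (Abelian.Ext.{u} (Omega.sheaf (X ↘ Spec (CommRingCat.of k))) (Coh.structureModule X) 1) := by
  haveI : QuasiSeparated (X ↘ Spec (CommRingCat.of k)) := inferInstance
  constructor
  · intro hrig
    refine (Groth.Agent.DefTan29.subsingleton_tangent_iff (k := k) (X := X)).1
      (subsingleton_of_forall_eq (Groth.Agent.DefTan29.triv k X (ArtFun.Art.dual k k)).cl fun t => ?_)
    obtain ⟨ξ, rfl⟩ := Groth.Agent.DefGlueLib.cl_surjective (X := X) (x := Groth.Agent.DefTan29.xk k X) t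
    haveI : IsArtinianRing (DualNumber k) := ArtFun.Art.isArtinianRing_tsze k k
    haveI : IsLocalRing (DualNumber k) := ArtFun.Art.isLocalRing_tsze k k
    obtain ⟨φ, hφ₁, hφ₂⟩ := hrig (DualNumber k) (TrivSqZeroExt.fstHom k k k) ξ.total ξ.f ξ.i ξ.flat ξ.isPullback
    refine Groth.Agent.DefGlueLib.cl_eq_iff.2 ⟨⟨φ, hφ₁, pullback.hom_ext ?_ ?_⟩⟩
    · refine (Category.assoc _ _ _).trans ?_
      exact hφ₂.trans (ArtFun.DefSch.baseChange_i_fst (ArtFun.DefSch.self X (Groth.Agent.DefTan29.xk k X) (Groth.Agent.DefGlueLib.flat_str _)) (ArtFun.Art.ofBase (ArtFun.Art.dual k k))).symm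
    · refine (Category.assoc _ _ _).trans ?_
      refine (congrArg (ξ.i ≫ ·) hφ₁).trans (ξ.i_f.trans ?_)
      exact (ArtFun.DefSch.baseChange_i_f _ (ArtFun.Art.ofBase (ArtFun.Art.dual k k))).symm
  · intro hE A _ _ _ _ e Y f i hf hpb
    let AA : ArtFun.Art k k :=
      { carrier := A, res := e, res_surjective := fun c => ⟨algebraMap k A c, e.commutes c⟩ }
    have hsub : Subsingleton ((ArtFun.defFunctor (Λ := k) X (Groth.Agent.DefTan29.xk k X)).obj AA) :=
      Groth.Agent.DefGlueLib.subsingleton_obj_of_subsingleton_tangent Groth.Agent.DefGlueLib.h0_defFunctor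
        (fun _ _ _ _ _ _ _ _ h hs => Groth.Agent.DefGlueLib.surjective_cmp h hs.1)
        Groth.Agent.DefGlueLib.heps_defFunctor
        ((Groth.Agent.DefTan29.subsingleton_tangent_iff (k := k) (X := X)).2 hE) AA
    let ξ : ArtFun.DefSch X (Groth.Agent.DefTan29.xk k X) AA := ⟨Y, f, hf, i, hpb⟩
    obtain ⟨ψ⟩ := Groth.Agent.DefGlueLib.cl_eq_iff.1
      (hsub.elim ξ.cl (Groth.Agent.DefTan29.triv k X AA).cl)
    refine ⟨ψ.iso, ψ.hom_f, ?_⟩
    have h := congrArg (· ≫ pullback.fst _ _) ψ.i_hom
    exact ((Category.assoc _ _ _).symm.trans h).trans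
      (ArtFun.DefSch.baseChange_i_fst (ArtFun.DefSch.self X (Groth.Agent.DefTan29.xk k X) (Groth.Agent.DefGlueLib.flat_str _)) (ArtFun.Art.ofBase AA))

end Groth.Agent.S11289
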