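import Groth.Statements.S11290
import Groth.Agent.DefObs29.Build

set_option autoImplicit false
universe u
open CategoryTheory CategoryTheory.Limits AlgebraicGeometry
open Deform

namespace Groth.Agent.S11290

/-- Let k be an algebraically closed field and X a nonsingular variety over k (integral, separated,
quasi-compact and smooth over Spec k) with H^2(X, T_X) = 0, written as the vanishing of
Ext^2(Ω_{X/k}, O_X) in the category of O_X-modules. Then X is unobstructed: for every local Artinian
k-algebra A', every t in the maximal ideal of A' annihilated by the maximal ideal (so that A' → A =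
A'/(t) is a small extension), every k-algebra augmentation e : A → k and every infinitesimal
deformation of X over A — a scheme Y flat over Spec A with a morphism i : X → Y making X the fibre
over the point Spec k → Spec A given by e — there are a scheme Y' flat over Spec A' and a morphism Y
→ Y' making Y the base change of Y' along Spec A → Spec A' (a lifting of the deformation to A'). -/
theorem result
    {k : Type u} [Field k] [IsAlgClosed k]
    (X : Scheme.{u}) [X.Over (Spec (CommRingCat.of k))] [IsIntegral X]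
    [Smooth (X ↘ Spec (CommRingCat.of k))] [IsSeparated (X ↘ Spec (CommRingCat.of k))]
    [QuasiCompact (X ↘ Spec (CommRingCat.of k))] [HasExt.{u} X.Modules]
    (h2 : Subsingleton (Abelian.Ext.{u} (Omega.sheaf (X ↘ Spec (CommRingCat.of k))) (Coh.structureModule X) 2))
    (A' : Type u) [CommRing A'] [Algebra k A'] [IsLocalRing A'] [IsArtinianRing A']
    (t : A') (ht : t ∈ IsLocalRing.maximalIdeal A') (htm : ∀ a ∈ IsLocalRing.maximalIdeal A', a * t = 0)
    (e : (A' ⧸ Ideal.span {t}) →ₐ[k] k)
    (Y : Scheme.{u}) (f : Y ⟶ Spec (CommRingCat.of (A' ⧸ Ideal.span {t}))) (i : X ⟶ Y) (hf : Flat f)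
    (hY : IsPullback i (X ↘ Spec (CommRingCat.of k)) f (Spec.map (CommRingCat.ofHom e.toRingHom))) :
    ∃ (Y' : Scheme.{u}) (f' : Y' ⟶ Spec (CommRingCat.of A')) (j : Y ⟶ Y'), Flat f' ∧
      IsPullback j f f' (Spec.map (CommRingCat.ofHom (Ideal.Quotient.mk (Ideal.span {t})))) := by
  haveI hnt : Nontrivial (A' ⧸ Ideal.span {t}) := Ideal.Quotient.nontrivial_iff.2 fun h =>
    (IsLocalRing.mem_maximalIdeal t).1 ht (Ideal.span_singleton_eq_top.1 h)
  haveI : IsLocalRing (A' ⧸ Ideal.span {t}) :=
    IsLocalRing.of_surjective' (Ideal.Quotient.mk (Ideal.span {t})) Ideal.Quotient.mk_surjective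
  haveI : IsArtinianRing (A' ⧸ Ideal.span {t}) := Ideal.Quotient.mk_surjective.isArtinianRing
  have he : Function.Surjective e := fun c => ⟨algebraMap k _ c, e.commutes c⟩
  let C : ArtFun.Art k k := ArtFun.Art.of (A' ⧸ Ideal.span {t}) e he
  let C' : ArtFun.Art k k := ArtFun.Art.of A' (e.comp (Ideal.Quotient.mkₐ k (Ideal.span {t})))
    (he.comp (Ideal.Quotient.mkₐ_surjective k _))
  let p : C' ⟶ C := ArtFun.Art.homMk (Ideal.Quotient.mkₐ k (Ideal.span {t})) rfl
  have hp : Function.Surjective p := Ideal.Quotient.mkₐ_surjective k _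
  have hsm : ArtFun.Art.IsSemismallExt p := ⟨hp, le_bot_iff.1 (Ideal.mul_le.2 fun m hm y hy => by
    have hy' : (Ideal.Quotient.mk (Ideal.span {t})) y = 0 := hy
    obtain ⟨c, rfl⟩ := Ideal.mem_span_singleton'.1 (Ideal.Quotient.eq_zero_iff_mem.1 hy')
    rw [Ideal.mem_bot]
    exact (mul_left_comm (a := (m : A')) (b := c) (c := t)).trans ((congrArg (c * ·) (htm m hm)).trans (mul_zero c)))⟩
  obtain ⟨F⟩ := DefObs29.nonempty_fr hsm
  let ξ₀ : ArtFun.DefSch X (DefTan29.xk k X) C := ⟨Y, f, hf, i, hY⟩
  haveI : X.IsSeparated :=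
    ⟨by rw [← Subsingleton.elim ((X ↘ Spec (CommRingCat.of k)) ≫ terminal.from _) (terminal.from X)]; infer_instance⟩
  obtain ⟨ξ, ⟨ψ⟩⟩ := DefObs29.exists_lift h2 F hp ξ₀
  refine ⟨ξ.total, ξ.f, ψ.iso.inv ≫ pullback.fst _ _, ξ.flat, ?_⟩
  refine (IsPullback.of_hasPullback ξ.f (ArtFun.Art.specMap p)).of_iso ψ.iso (Iso.refl _) (Iso.refl _) (Iso.refl _)
    ?_ ?_ ?_ ?_
  · simp
  · exact (Category.comp_id _).trans ψ.hom_f.symm
  · exact (Category.comp_id _).trans (Category.id_comp _).symm
  · exact (Category.comp_id _).trans (Category.id_comp _).symm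

end Groth.Agent.S11290
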