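import Groth.Statements.S11291
import Groth.Agent.S11281
import Groth.Agent.S12644
import Mathlib

set_option autoImplicit false
universe u
open Deform

namespace Groth.Agent.S11291

/-- Let k be an algebraically closed field and A a local Artinian k-algebra with residue field k and
non-zero maximal ideal, i.e. A is not k. Then the obstruction space o(A) = Ex_k(A, k) is not zero:
there is a k-extension 0 → k → E → A → 0 of A by its residue field which is not trivial (admits no
k-algebra section). Equivalently, k is the only formally smooth object among local Artinian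
k-algebras with residue field k. -/
theorem result
    {k : Type u} [Field k] [IsAlgClosed k]
    {A : Type u} [CommRing A] [Algebra k A] [IsLocalRing A] [IsArtinianRing A]
    (hres : ∀ a : A, ∃ c : k, a - algebraMap k A c ∈ IsLocalRing.maximalIdeal A)
    (hA : IsLocalRing.maximalIdeal A ≠ ⊥) :
    ∃ X : Exal.Ext k A (IsLocalRing.ResidueField A), ¬ X.IsTrivial := by
  classical
  by_contra hno
  push Not at hno
  have hres' : Function.Surjective (algebraMap k (IsLocalRing.ResidueField A)) := fun z => by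
    obtain ⟨a, rfl⟩ := IsLocalRing.residue_surjective z
    obtain ⟨c, hc⟩ := hres a
    refine ⟨c, ?_⟩
    rw [eq_comm, ← sub_eq_zero, IsScalarTower.algebraMap_apply k A (IsLocalRing.ResidueField A),
      IsLocalRing.ResidueField.algebraMap_eq, ← map_sub, IsLocalRing.residue_eq_zero_iff]
    exact hc
  have : IsLocalHom (algebraMap k A) := ⟨fun c hc => isUnit_iff_ne_zero.2 fun h => not_isUnit_zero (by rw [← map_zero (algebraMap k A), ← h]; exact hc)⟩
  have hk : ∀ a : k, ∃ c : k, a - algebraMap k k c ∈ IsLocalRing.maximalIdeal k := fun a => ⟨a, by simp⟩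
  have hlift := (Groth.Agent.S11281.result (k := k) (Λ := k) hk (R := A) hres).1 hno
  -- a nonzero tangent functional
  obtain ⟨v, hv⟩ : ∃ v : IsLocalRing.CotangentSpace A, v ≠ 0 := by
    by_contra h
    push Not at h
    have hsub : Subsingleton (IsLocalRing.CotangentSpace A) := ⟨fun a b => (h a).trans (h b).symm⟩
    have hfield := IsLocalRing.subsingleton_cotangentSpace_iff.1 hsub
    exact hA (IsLocalRing.isField_iff_maximalIdeal_eq.1 hfield)
  obtain ⟨ℓ, hℓ⟩ : ∃ ℓ : Module.Dual k (IsLocalRing.CotangentSpace A), ℓ v ≠ 0 := by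
    by_contra h
    push Not at h
    exact hv ((Module.forall_dual_apply_eq_zero_iff k v).1 h)
  obtain ⟨x, hx⟩ := Ideal.toCotangent_surjective _ v
  obtain ⟨ψ, ⟨hψ1, hψ2⟩, -⟩ := Groth.Agent.S12644.result k A hres' ℓ
  -- the truncated polynomial rings
  let I : ℕ → Ideal (Polynomial k) := fun n => Ideal.span {Polynomial.X ^ n}
  have hle : ∀ m n, m ≤ n → I n ≤ I m := fun m n h => by
    rw [Ideal.span_singleton_le_iff_mem, Ideal.mem_span_singleton]
    exact pow_dvd_pow _ h
  let Xb : ∀ n, Polynomial k ⧸ I n := fun n => Ideal.Quotient.mk (I n) Polynomial.X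
  have hX2 : Xb 2 * Xb 2 = 0 := by
    show Ideal.Quotient.mk _ _ * Ideal.Quotient.mk _ _ = 0
    rw [← map_mul, ← pow_two]
    exact Ideal.Quotient.eq_zero_iff_mem.2 (Ideal.mem_span_singleton_self _)
  let D : DualNumber k →ₐ[k] Polynomial k ⧸ I 2 :=
    DualNumber.lift ⟨(Algebra.ofId k (Polynomial k ⧸ I 2), Xb 2), hX2, fun r => Commute.all _ _⟩
  let φ2 : A →ₐ[k] Polynomial k ⧸ I 2 := D.comp ψ
  have key : ∀ n, ∃ φ : A →ₐ[k] Polynomial k ⧸ I (n + 2),
      ∀ a, Ideal.Quotient.factor (hle 2 (n + 2) (by omega)) (φ a) = φ2 a := by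
    intro n
    induction n with
    | zero => exact ⟨φ2, fun a => by obtain ⟨p, hp⟩ := Ideal.Quotient.mk_surjective (φ2 a); rw [← hp]; rfl⟩
    | succ n ih =>
      obtain ⟨φ, hφ⟩ := ih
      let J := I (n + 1 + 2)
      have hnt : Nontrivial (Polynomial k ⧸ J) := Ideal.Quotient.nontrivial_iff.2 (by
        rw [Ne, Ideal.span_singleton_eq_top]
        intro hu
        exact Polynomial.not_isUnit_X (isUnit_pow_iff (by omega) |>.1 hu))
      have hnil : IsNilpotent (Xb (n + 1 + 2)) := ⟨n + 1 + 2, by
        show Ideal.Quotient.mk _ _ ^ _ = 0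
        rw [← map_pow]
        exact Ideal.Quotient.eq_zero_iff_mem.2 (Ideal.mem_span_singleton_self _)⟩
      have hdec : ∀ b : Polynomial k ⧸ J, ∃ (c : k) (q : Polynomial k ⧸ J),
          b = algebraMap k _ c + Xb (n + 1 + 2) * q := fun b => by
        obtain ⟨p, rfl⟩ := Ideal.Quotient.mk_surjective b
        refine ⟨p.coeff 0, Ideal.Quotient.mk J p.divX, ?_⟩
        conv_lhs => rw [← Polynomial.X_mul_divX_add p]
        rw [map_add, map_mul, add_comm]
        rfl
      have hloc : IsLocalRing (Polynomial k ⧸ J) := IsLocalRing.of_isUnit_or_isUnit_one_sub_self fun b => by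
        obtain ⟨c, q, rfl⟩ := hdec b
        have hq : IsNilpotent (Xb (n + 1 + 2) * q) := (Commute.all _ _).isNilpotent_mul_right hnil
        rcases eq_or_ne c 0 with rfl | hc
        · right
          rw [map_zero, zero_add]
          exact hq.isUnit_one_sub
        · left
          exact hq.isUnit_add_left_of_commute ((isUnit_iff_ne_zero.2 hc).map _) (Commute.all _ _)
      have : Module.Finite k (Polynomial k ⧸ J) :=
        (Polynomial.Monic.finite_quotient (Polynomial.monic_X_pow (n + 1 + 2)))
      have hart : IsArtinianRing (Polynomial k ⧸ J) := isArtinian_of_tower k inferInstance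
      have hXm : Xb (n + 1 + 2) ∈ IsLocalRing.maximalIdeal (Polynomial k ⧸ J) := hnil.not_isUnit
      have hresB : ∀ b : Polynomial k ⧸ J, ∃ c : k,
          b - algebraMap k _ (algebraMap k k c) ∈ IsLocalRing.maximalIdeal (Polynomial k ⧸ J) := fun b => by
        obtain ⟨c, q, rfl⟩ := hdec b
        exact ⟨c, by simpa using Ideal.mul_mem_right q _ hXm⟩
      let t : Polynomial k ⧸ J := Xb (n + 1 + 2) ^ (n + 2)
      have ht : t ∈ IsLocalRing.maximalIdeal (Polynomial k ⧸ J) := Ideal.pow_mem_of_mem _ hXm _ (by omega)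
      have htm : ∀ b ∈ IsLocalRing.maximalIdeal (Polynomial k ⧸ J), b * t = 0 := fun b hb => by
        obtain ⟨c, q, rfl⟩ := hdec b
        have hc : c = 0 := by
          by_contra hc
          have h1 : algebraMap k (Polynomial k ⧸ J) c ∈ IsLocalRing.maximalIdeal (Polynomial k ⧸ J) := by
            have := sub_mem hb (Ideal.mul_mem_right q _ hXm)
            rwa [add_sub_cancel_right] at this
          exact h1 ((isUnit_iff_ne_zero.2 hc).map _)
        have h0 : Xb (n + 1 + 2) * t = 0 := by
          show Ideal.Quotient.mk _ _ * Ideal.Quotient.mk _ _ ^ _ = 0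
          rw [← map_pow, ← map_mul, ← pow_succ']
          exact Ideal.Quotient.eq_zero_iff_mem.2 (Ideal.mem_span_singleton_self _)
        rw [hc, map_zero, zero_add, mul_right_comm, h0, zero_mul]
      have hmem : ∀ p ∈ I (n + 2),
          (Ideal.Quotient.mkₐ k (Ideal.span {t})).comp (Ideal.Quotient.mkₐ k J) p = 0 := fun p hp => by
        obtain ⟨q, rfl⟩ := Ideal.mem_span_singleton'.1 hp
        show Ideal.Quotient.mk (Ideal.span {t}) (Ideal.Quotient.mk J _) = 0
        rw [map_mul, map_pow]
        exact Ideal.Quotient.eq_zero_iff_mem.2 (Ideal.mul_mem_left _ _ (Ideal.mem_span_singleton_self t))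
      let up : Polynomial k ⧸ I (n + 2) →ₐ[k] (Polynomial k ⧸ J) ⧸ Ideal.span {t} :=
        Ideal.Quotient.liftₐ _ _ hmem
      obtain ⟨φ', hφ'⟩ := hlift (Polynomial k ⧸ J) hresB t ht htm (up.comp φ)
      refine ⟨φ', fun a => ?_⟩
      rw [← hφ a]
      have h := DFunLike.congr_fun hφ' a
      obtain ⟨p, hp⟩ := Ideal.Quotient.mk_surjective (φ' a)
      obtain ⟨q, hq⟩ := Ideal.Quotient.mk_surjective (φ a)
      rw [AlgHom.comp_apply, AlgHom.comp_apply, ← hp, ← hq] at h
      have h' : Ideal.Quotient.mk J (p - q) ∈ Ideal.span {t} := by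
        rw [map_sub]
        exact Ideal.Quotient.eq.1 h
      obtain ⟨r, hr⟩ := Ideal.mem_span_singleton'.1 h'
      obtain ⟨r, rfl⟩ := Ideal.Quotient.mk_surjective r
      have h2 : p - q - r * Polynomial.X ^ (n + 2) ∈ J := by
        rw [← Ideal.Quotient.eq_zero_iff_mem, map_sub, map_mul, map_pow, ← hr]
        exact sub_self _
      rw [← hp, ← hq]
      refine Ideal.Quotient.eq.2 ?_
      have h3 : r * Polynomial.X ^ (n + 2) ∈ I 2 :=
        hle 2 (n + 2) (by omega) (Ideal.mul_mem_left _ _ (Ideal.mem_span_singleton_self _))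
      have h4 := add_mem (hle 2 (n + 1 + 2) (by omega) h2) h3
      rwa [sub_add_cancel] at h4
  obtain ⟨N, hN⟩ := (isArtinianRing_iff_isNilpotent_maximalIdeal A).1 inferInstance
  have hxN : (x : A) ^ N = 0 := by
    have := Ideal.pow_mem_pow x.2 N
    rw [hN] at this
    exact this
  obtain ⟨φ, hφ⟩ := key N
  obtain ⟨p, hp⟩ := Ideal.Quotient.mk_surjective (φ x)
  have hval : φ2 (x : A) = algebraMap k _ (ℓ v) * Xb 2 := by
    have e1 : TrivSqZeroExt.fst (ψ x) = 0 := by
      apply (algebraMap k (IsLocalRing.ResidueField A)).injective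
      rw [hψ1, map_zero, IsLocalRing.residue_eq_zero_iff]
      exact x.2
    have e2 : ψ x = ℓ v • DualNumber.eps := by
      ext
      · rw [e1, TrivSqZeroExt.fst_smul, DualNumber.fst_eps, smul_zero]
      · rw [TrivSqZeroExt.snd_smul, DualNumber.snd_eps, smul_eq_mul, mul_one, hψ2 x, hx]
    show D (ψ x) = _
    rw [e2, show (ℓ v • DualNumber.eps : DualNumber k) = algebraMap k _ (ℓ v) * DualNumber.eps from Algebra.smul_def _ _,
      map_mul, AlgHom.commutes]
    congr 1
    exact DualNumber.lift_apply_eps _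
  have hpc : p.coeff 0 = 0 ∧ p.coeff 1 = ℓ v := by
    have h := hφ x
    rw [← hp, hval] at h
    have h' : p - Polynomial.C (ℓ v) * Polynomial.X ∈ I 2 := Ideal.Quotient.eq.1 h
    rw [Ideal.mem_span_singleton, Polynomial.X_pow_dvd_iff] at h'
    have h0 := h' 0 (by omega)
    have h1 := h' 1 (by omega)
    simp at h0 h1
    exact ⟨h0, sub_eq_zero.1 h1⟩
  have hpN : p ^ N ∈ I (N + 2) := by
    rw [← Ideal.Quotient.eq_zero_iff_mem, map_pow, hp, ← map_pow, hxN, map_zero]
  rw [Ideal.mem_span_singleton, Polynomial.X_pow_dvd_iff] at hpN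
  have hp' : p = Polynomial.X * p.divX := by
    have := Polynomial.X_mul_divX_add p
    rw [hpc.1, map_zero, add_zero] at this
    exact this.symm
  have hN' := hpN N (by omega)
  rw [hp', mul_pow, mul_comm] at hN'
  have hc : (p.divX ^ N * Polynomial.X ^ N).coeff N = (p.divX ^ N).coeff 0 := by
    simpa using Polynomial.coeff_mul_X_pow (p.divX ^ N) N 0
  rw [hc, Polynomial.coeff_zero_eq_eval_zero, Polynomial.eval_pow, ← Polynomial.coeff_zero_eq_eval_zero,
    Polynomial.coeff_divX, zero_add, hpc.2] at hN'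
  exact hℓ ((pow_eq_zero_iff (by rintro rfl; simp at hxN)).1 hN')

end Groth.Agent.S11291
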