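import Groth.Statements.S11292
import Mathlib

set_option autoImplicit false
set_option backward.isDefEq.respectTransparency.types false
universe u
open Deform

namespace Groth.Agent.S11292

open Exal

/-- Two extensions with sections are equivalent. -/
lemma equiv_of_sections {A B L : Type u} [CommRing A] [CommRing B] [Algebra A B] [AddCommGroup L] [Module B L]
    (X X' : Exal.Ext A B L) (h : X.IsTrivial) (h' : X'.IsTrivial) : Nonempty (X.Equiv X') := by
  obtain ⟨s, hs⟩ := h
  obtain ⟨s', hs'⟩ := h'
  obtain ⟨hsurj, hinj, hexact, hmul⟩ := X.isExtension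
  obtain ⟨hsurj', hinj', hexact', hmul'⟩ := X'.isExtension
  have hd : ∀ x, X.proj (x - s (X.proj x)) = 0 := fun x => by rw [map_sub, hs, sub_self]
  let ℓ : X.E → L := fun x => X.kerLift _ (hd x)
  have hℓ : ∀ x, X.incl (ℓ x) = x - s (X.proj x) := fun x => X.incl_kerLift _ _
  have hx : ∀ x, x = s (X.proj x) + X.incl (ℓ x) := fun x => by rw [hℓ, add_sub_cancel]
  have hprojincl : ∀ z, X.proj (X.incl z) = 0 := fun z => (hexact _).2 ⟨z, rfl⟩
  have hprojincl' : ∀ z, X'.proj (X'.incl z) = 0 := fun z => (hexact' _).2 ⟨z, rfl⟩
  have huniq : ∀ b z, ℓ (s b + X.incl z) = z := fun b z => hinj (by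
    rw [hℓ, map_add, hs, hprojincl, add_zero, add_sub_cancel_left])
  have hℓmul : ∀ x y, ℓ (x * y) = X.proj x • ℓ y + X.proj y • ℓ x := fun x y => by
    have e1 : x * y = s (X.proj x * X.proj y) + X.incl (X.proj x • ℓ y + X.proj y • ℓ x) := by
      have q1 : s (X.proj x) * X.incl (ℓ y) = X.incl (X.proj x • ℓ y) := by rw [hmul, hs]
      have q2 : X.incl (ℓ x) * s (X.proj y) = X.incl (X.proj y • ℓ x) := by rw [mul_comm, hmul, hs]
      have q3 : X.incl (ℓ x) * X.incl (ℓ y) = 0 := by rw [hmul, hprojincl, zero_smul, map_zero]
      conv_lhs => rw [hx x, hx y]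
      rw [map_mul, map_add, add_mul, mul_add, mul_add, q1, q2, q3]
      abel
    rw [e1]
    exact huniq _ _
  let f : X.E →ₐ[A] X'.E :=
    { toFun := fun x => s' (X.proj x) + X'.incl (ℓ x)
      map_one' := by
        have : ℓ 1 = 0 := hinj (by rw [hℓ, map_one, map_one, sub_self, map_zero])
        rw [this, map_one, map_one, map_zero, add_zero]
      map_zero' := by
        have : ℓ 0 = 0 := hinj (by rw [hℓ, map_zero, map_zero, sub_self, map_zero])
        rw [this, map_zero, map_zero, map_zero, add_zero]
      map_add' := fun x y => by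
        have : ℓ (x + y) = ℓ x + ℓ y := hinj (by rw [hℓ, map_add, map_add, map_add, hℓ, hℓ]; ring)
        rw [this, map_add, map_add, map_add]
        abel
      map_mul' := fun x y => by
        have q1 : s' (X.proj x) * X'.incl (ℓ y) = X'.incl (X.proj x • ℓ y) := by rw [hmul', hs']
        have q2 : X'.incl (ℓ x) * s' (X.proj y) = X'.incl (X.proj y • ℓ x) := by rw [mul_comm, hmul', hs']
        have q3 : X'.incl (ℓ x) * X'.incl (ℓ y) = 0 := by rw [hmul', hprojincl', zero_smul, map_zero]
        rw [hℓmul, map_mul, map_mul, map_add, add_mul, mul_add, mul_add, q1, q2, q3]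
        abel
      commutes' := fun a => by
        have : ℓ (algebraMap A X.E a) = 0 := hinj (by rw [hℓ, AlgHom.commutes, AlgHom.commutes, sub_self, map_zero])
        rw [this, AlgHom.commutes, AlgHom.commutes, map_zero, add_zero] }
  have hf : ∀ x, f x = s' (X.proj x) + X'.incl (ℓ x) := fun _ => rfl
  have hfp : ∀ x, X'.proj (f x) = X.proj x := fun x => by rw [hf, map_add, hs', hprojincl', add_zero]
  have hbij : Function.Bijective f := by
    refine ⟨(injective_iff_map_eq_zero f).2 fun x hx0 => ?_, fun y => ?_⟩
    · have h1 : X.proj x = 0 := by rw [← hfp, hx0, map_zero]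
      rw [hf, h1, map_zero, zero_add] at hx0
      rw [hx x, h1, map_zero, zero_add, hinj' (hx0.trans (map_zero X'.incl).symm), map_zero]
    · obtain ⟨z, hz⟩ := (hexact' (y - s' (X'.proj y))).1 (by rw [map_sub, hs', sub_self])
      refine ⟨s (X'.proj y) + X.incl z, ?_⟩
      rw [hf, map_add, hs, hprojincl, add_zero, huniq, hz, add_sub_cancel]
  exact ⟨{ toAlgEquiv := AlgEquiv.ofBijective f hbij
           proj_apply := hfp
           apply_incl := fun z => by
             show f (X.incl z) = _
             have : ℓ (X.incl z) = z := hinj (by rw [hℓ, hprojincl, map_zero, sub_zero])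
             rw [hf, hprojincl, map_zero, zero_add, this] }⟩

set_option maxHeartbeats 1000000 in
/-- Let k be an algebraically closed field, Λ and R local Noetherian k-algebras with residue field k,
and Λ → R a local k-algebra homomorphism. Then the relative obstruction space vanishes — every
Λ-extension of R by its residue field k is trivial — if and only if (a) the tangent map t_R → t_Λ is
surjective: every k-derivation of Λ into k extends along Λ → R to a k-derivation of R into k, and
(b) the obstruction map o(R) → o(Λ) given by inverse image is injective on classes: two k-extensions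
of R by k whose inverse images over Λ are equivalent are equivalent (R is less obstructed than Λ).
Here k is the residue field of R, a module over R, Λ and k through the structure maps. -/
theorem result
    {k : Type u} [Field k] [IsAlgClosed k]
    {Λ : Type u} [CommRing Λ] [Algebra k Λ] [IsLocalRing Λ] [IsNoetherianRing Λ]
    (hΛ : ∀ a : Λ, ∃ c : k, a - algebraMap k Λ c ∈ IsLocalRing.maximalIdeal Λ)
    {R : Type u} [CommRing R] [Algebra Λ R] [Algebra k R] [IsScalarTower k Λ R]
    [IsLocalRing R] [IsNoetherianRing R] [IsLocalHom (algebraMap Λ R)]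
    (hR : ∀ r : R, ∃ c : k, r - algebraMap k R c ∈ IsLocalRing.maximalIdeal R) :
    (∀ X : Exal.Ext Λ R (IsLocalRing.ResidueField R), X.IsTrivial) ↔
    ((∀ D : Derivation k Λ (IsLocalRing.ResidueField R),
        ∃ D' : Derivation k R (IsLocalRing.ResidueField R), ∀ a : Λ, D' (algebraMap Λ R a) = D a) ∧
     (∀ Y Y' : Exal.Ext k R (IsLocalRing.ResidueField R),
        Nonempty ((Y.pullback Λ).Equiv (Y'.pullback Λ)) → Nonempty (Y.Equiv Y'))) := by
  classical
  constructor
  · intro htriv
    refine ⟨fun D => ?_, fun Y Y' ⟨e⟩ => ?_⟩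
    · obtain ⟨σ, hσ⟩ := htriv (Exal.Ext.ofDerivation (C := R) D)
      let sn : R → IsLocalRing.ResidueField R := fun r => TrivSqZeroExt.snd (σ r)
      have hfst : ∀ r, TrivSqZeroExt.fst (σ r) = r := hσ
      have hsnΛ : ∀ a : Λ, sn (algebraMap Λ R a) = D a := fun a => by
        show TrivSqZeroExt.snd (σ (algebraMap Λ R a)) = D a
        rw [AlgHom.commutes]
        show TrivSqZeroExt.snd (TrivSqZeroExt.inl (algebraMap Λ R a) + TrivSqZeroExt.inr (D a)) = D a
        simp
      have hmulsn : ∀ x y, sn (x * y) = x • sn y + y • sn x := fun x y => by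
        let _ := Exal.opModule R (IsLocalRing.ResidueField R)
        show TrivSqZeroExt.snd (σ (x * y)) = _
        rw [map_mul]
        show (TrivSqZeroExt.fst (σ x)) • sn y + MulOpposite.op (TrivSqZeroExt.fst (σ y)) • sn x = _
        rw [hfst, hfst]
        rfl
      refine ⟨Derivation.mk'
        { toFun := sn
          map_add' := fun x y => by show TrivSqZeroExt.snd (σ (x + y)) = _; rw [map_add]; rfl
          map_smul' := fun c x => by
            rw [RingHom.id_apply, Algebra.smul_def, IsScalarTower.algebraMap_apply k Λ R, hmulsn, hsnΛ,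
              Derivation.map_algebraMap, smul_zero, add_zero, ← IsScalarTower.algebraMap_apply k Λ R,
              algebraMap_smul] }
        hmulsn, hsnΛ⟩
    · -- the difference of two `k`-extensions
      obtain ⟨hsurj, hinj, hexact, hmul⟩ := Y.isExtension
      obtain ⟨hsurj', hinj', hexact', hmul'⟩ := Y'.isExtension
      let E : Subalgebra k (Y.E × Y'.E) :=
        AlgHom.equalizer (Y.proj.comp (AlgHom.fst k Y.E Y'.E)) (Y'.proj.comp (AlgHom.snd k Y.E Y'.E))
      have hE : ∀ p : Y.E × Y'.E, p ∈ E ↔ Y.proj p.1 = Y'.proj p.2 := fun _ => Iff.rfl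
      have hpi : ∀ z, Y.proj (Y.incl z) = 0 := fun z => (hexact _).2 ⟨z, rfl⟩
      have hpi' : ∀ z, Y'.proj (Y'.incl z) = 0 := fun z => (hexact' _).2 ⟨z, rfl⟩
      let Δ : Ideal ↥E :=
        { carrier := {p | ∃ z, p.1 = (Y.incl z, Y'.incl z)}
          zero_mem' := ⟨0, by rw [map_zero, map_zero]; rfl⟩
          add_mem' := by
            rintro p q ⟨z, hz⟩ ⟨w, hw⟩
            exact ⟨z + w, by rw [map_add, map_add, Subalgebra.coe_add, hz, hw]; rfl⟩
          smul_mem' := by
            rintro p q ⟨z, hz⟩
            refine ⟨Y.proj p.1.1 • z, ?_⟩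
            rw [smul_eq_mul, Subalgebra.coe_mul, hz]
            refine Prod.ext ?_ ?_
            · exact hmul _ _
            · show p.1.2 * Y'.incl z = Y'.incl (Y.proj p.1.1 • z)
              rw [hmul', (hE _).1 p.2] }
      have hΔ : ∀ p : ↥E, p ∈ Δ ↔ ∃ z, p.1 = (Y.incl z, Y'.incl z) := fun _ => Iff.rfl
      let Z := ↥E ⧸ Δ
      let q := Ideal.Quotient.mk Δ
      let pr : Z →ₐ[k] R := Ideal.Quotient.liftₐ Δ ((Y.proj.comp (AlgHom.fst k Y.E Y'.E)).comp E.val) (by
        rintro p ⟨z, hz⟩
        show Y.proj p.1.1 = 0
        rw [hz]; exact hpi z)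
      -- `Λ → Z`
      let pb : Λ → Y.E → Prop := fun a y => Y.proj y = algebraMap Λ R a
      choose g hg using fun a : Λ => hsurj (algebraMap Λ R a)
      let el : ∀ (a : Λ) (y : Y.E), pb a y → (Y.pullback Λ).E := fun a y hy => ⟨(y, a), hy⟩
      let img : ∀ (a : Λ) (y : Y.E), pb a y → ↥E := fun a y hy =>
        ⟨(y, (e.toAlgEquiv (el a y hy)).1.1), (hE _).2 (by
          have h2 : (e.toAlgEquiv (el a y hy)).1.2 = a := e.proj_apply (el a y hy)
          have h1 : Y'.proj (e.toAlgEquiv (el a y hy)).1.1 = algebraMap Λ R (e.toAlgEquiv (el a y hy)).1.2 :=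
            (e.toAlgEquiv (el a y hy)).2
          rw [h2] at h1
          exact hy.trans h1.symm)⟩
      have hwd : ∀ (a : Λ) (y y' : Y.E) (hy : pb a y) (hy' : pb a y'), q (img a y hy) = q (img a y' hy') := by
        intro a y y' hy hy'
        obtain ⟨z, hz⟩ := (hexact (y - y')).1 (by rw [map_sub, show Y.proj y = _ from hy, show Y.proj y' = _ from hy', sub_self])
        refine Ideal.Quotient.eq.2 ((hΔ _).2 ⟨z, Prod.ext hz.symm ?_⟩)
        have h1 : el a y hy = el a y' hy' + (Y.pullback Λ).incl z :=
          Subtype.ext (Prod.ext (show y = y' + Y.incl z by rw [hz]; ring) (show a = a + 0 by rw [add_zero]))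
        show (e.toAlgEquiv (el a y hy)).1.1 - (e.toAlgEquiv (el a y' hy')).1.1 = Y'.incl z
        rw [h1, map_add, e.apply_incl]
        show (e.toAlgEquiv (el a y' hy')).1.1 + Y'.incl z - (e.toAlgEquiv (el a y' hy')).1.1 = _
        ring
      let u : Λ →+* Z :=
        { toFun := fun a => q (img a (g a) (hg a))
          map_one' := by
            rw [hwd 1 (g 1) 1 (hg 1) (by show Y.proj 1 = _; rw [map_one, map_one]), ← map_one q]
            congr 1
            refine Subtype.ext (Prod.ext rfl ?_)
            show (e.toAlgEquiv 1).1.1 = 1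
            rw [map_one]; rfl
          map_zero' := by
            rw [hwd 0 (g 0) 0 (hg 0) (by show Y.proj 0 = _; rw [map_zero, map_zero]), ← map_zero q]
            congr 1
            refine Subtype.ext (Prod.ext rfl ?_)
            show (e.toAlgEquiv 0).1.1 = 0
            rw [map_zero]; rfl
          map_add' := fun a b => by
            rw [hwd (a + b) (g (a + b)) (g a + g b) (hg _) (by show Y.proj _ = _; rw [map_add, map_add, hg, hg]), ← map_add q]
            congr 1
            refine Subtype.ext (Prod.ext rfl ?_)
            show (e.toAlgEquiv (el a (g a) (hg a) + el b (g b) (hg b))).1.1 = _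
            rw [map_add]; rfl
          map_mul' := fun a b => by
            rw [hwd (a * b) (g (a * b)) (g a * g b) (hg _) (by show Y.proj _ = _; rw [map_mul, map_mul, hg, hg]), ← map_mul q]
            congr 1
            refine Subtype.ext (Prod.ext rfl ?_)
            show (e.toAlgEquiv (el a (g a) (hg a) * el b (g b) (hg b))).1.1 = _
            rw [map_mul]; rfl }
      have huk : ∀ c : k, u (algebraMap k Λ c) = algebraMap k Z c := fun c => by
        show q _ = q (algebraMap k ↥E c)
        rw [hwd _ (g _) (algebraMap k Y.E c) (hg _) (by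
          show Y.proj _ = _; rw [AlgHom.commutes, ← IsScalarTower.algebraMap_apply k Λ R])]
        congr 1
        refine Subtype.ext (Prod.ext rfl ?_)
        show (e.toAlgEquiv (algebraMap k (Y.pullback Λ).E c)).1.1 = _
        rw [AlgEquiv.commutes]; rfl
      let _ : Algebra Λ (↥E ⧸ Δ) :=
        { algebraMap := u
          smul := fun a x => u a * x
          commutes' := fun a x => by
            obtain ⟨x, rfl⟩ := Ideal.Quotient.mk_surjective x
            show q (img a (g a) (hg a)) * q x = q x * q (img a (g a) (hg a))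
            rw [← map_mul q, ← map_mul q, mul_comm]
          smul_def' := fun a x => rfl }
      let X : Exal.Ext Λ R (IsLocalRing.ResidueField R) :=
        { E := ↥E ⧸ Δ
          proj := AlgHom.mk pr.toRingHom (fun a => by
            show Y.proj (img a (g a) (hg a)).1.1 = algebraMap Λ R a
            exact hg a)
          incl :=
            { toFun := fun z => q ⟨(Y.incl z, 0), (hE _).2 (by rw [hpi, map_zero])⟩
              map_zero' := (congrArg q (Subtype.ext (Prod.ext (map_zero Y.incl) rfl) : (⟨(Y.incl 0, 0), _⟩ : ↥E) = 0)).trans q.map_zero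
              map_add' := fun z w =>
                (congrArg q (Subtype.ext (Prod.ext (map_add Y.incl z w) (add_zero (0 : Y'.E)).symm) :
                  (⟨(Y.incl (z + w), 0), _⟩ : ↥E) = ⟨(Y.incl z, 0), _⟩ + ⟨(Y.incl w, 0), _⟩)).trans (q.map_add _ _) }
          isExtension :=
            { proj_surjective := fun r => by
                obtain ⟨y, hy⟩ := hsurj r
                obtain ⟨y', hy'⟩ := hsurj' r
                exact ⟨q ⟨(y, y'), (hE _).2 (hy.trans hy'.symm)⟩, hy⟩
              incl_injective := fun z w h => by
                obtain ⟨v, hv⟩ := (hΔ _).1 (Ideal.Quotient.eq.1 h)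
                have h2 : (0 : Y'.E) - 0 = Y'.incl v := congrArg Prod.snd hv
                have hv0 : v = 0 := hinj' (by rw [← h2, sub_zero, map_zero])
                have h1 : Y.incl z - Y.incl w = Y.incl v := congrArg Prod.fst hv
                rw [hv0, map_zero, sub_eq_zero] at h1
                exact hinj h1
              exact := fun x => by
                obtain ⟨p, rfl⟩ := Ideal.Quotient.mk_surjective x
                constructor
                · intro hp
                  change Y.proj p.1.1 = 0 at hp
                  have hp' : Y'.proj p.1.2 = 0 := ((hE _).1 p.2).symm.trans hp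
                  obtain ⟨z, hz⟩ := (hexact _).1 hp
                  obtain ⟨w, hw⟩ := (hexact' _).1 hp'
                  refine ⟨z - w, Ideal.Quotient.eq.2 ((hΔ _).2 ⟨-w, Prod.ext ?_ ?_⟩)⟩
                  · show Y.incl (z - w) - p.1.1 = Y.incl (-w)
                    rw [← hz, ← map_sub]; congr 1; abel
                  · show (0 : Y'.E) - p.1.2 = Y'.incl (-w)
                    rw [map_neg, hw, zero_sub]
                · rintro ⟨z, hz⟩
                  rw [← hz]
                  exact hpi z
              mul_incl := fun x z => by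
                obtain ⟨p, rfl⟩ := Ideal.Quotient.mk_surjective x
                show q p * q _ = q _
                rw [← map_mul]
                congr 1
                exact Subtype.ext (Prod.ext (hmul _ _) (mul_zero _)) } }
      obtain ⟨σ, hσ⟩ := htriv X
      have hσk : ∀ c : k, σ (algebraMap k R c) = algebraMap k Z c := fun c => by
        rw [IsScalarTower.algebraMap_apply k Λ R, AlgHom.commutes]
        exact huk c
      have hex : ∀ y : Y.E, ∃ y' : Y'.E, ∃ h : Y.proj y = Y'.proj y',
          q ⟨(y, y'), (hE _).2 h⟩ = σ (Y.proj y) := fun y => by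
        obtain ⟨p, hp⟩ := Ideal.Quotient.mk_surjective (σ (Y.proj y))
        have hpy : Y.proj p.1.1 = Y.proj y := by
          have := hσ (Y.proj y)
          rw [← hp] at this
          exact this
        obtain ⟨z, hz⟩ := (hexact (y - p.1.1)).1 (by rw [map_sub, hpy, sub_self])
        refine ⟨p.1.2 + Y'.incl z, ?_, ?_⟩
        · rw [map_add, hpi', add_zero, ← (hE _).1 p.2, hpy]
        · rw [← hp]
          refine Ideal.Quotient.eq.2 ((hΔ _).2 ⟨z, Prod.ext hz.symm ?_⟩)
          show p.1.2 + Y'.incl z - p.1.2 = _
          ring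
      choose F hF1 hF2 using hex
      have huniq : ∀ (y : Y.E) (y' : Y'.E) (h : Y.proj y = Y'.proj y'),
          q ⟨(y, y'), (hE _).2 h⟩ = σ (Y.proj y) → F y = y' := fun y y' h hq => by
        obtain ⟨z, hz⟩ := (hΔ _).1 (Ideal.Quotient.eq.1 ((hF2 y).trans hq.symm))
        have h1 : y - y = Y.incl z := congrArg Prod.fst hz
        have hz0 : z = 0 := hinj (by rw [← h1, sub_self, map_zero])
        have h2 : F y - y' = Y'.incl z := congrArg Prod.snd hz
        rwa [hz0, map_zero, sub_eq_zero] at h2
      let FA : Y.E →ₐ[k] Y'.E :=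
        { toFun := F
          map_one' := huniq _ _ (by rw [map_one, map_one])
            ((q.map_one).trans (((congrArg σ (map_one Y.proj)).trans (map_one σ)).symm))
          map_zero' := huniq _ _ (by rw [map_zero, map_zero])
            ((q.map_zero).trans (((congrArg σ (map_zero Y.proj)).trans (map_zero σ)).symm))
          map_add' := fun a b => huniq _ _ (by rw [map_add, map_add, hF1, hF1])
            (((q.map_add ⟨(a, F a), (hE _).2 (hF1 a)⟩ ⟨(b, F b), (hE _).2 (hF1 b)⟩).trans
              (congrArg₂ (· + ·) (hF2 a) (hF2 b))).trans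
              (((congrArg σ (map_add Y.proj a b)).trans (σ.toRingHom.map_add _ _)).symm))
          map_mul' := fun a b => huniq _ _ (by rw [map_mul, map_mul, hF1, hF1])
            (((q.map_mul ⟨(a, F a), (hE _).2 (hF1 a)⟩ ⟨(b, F b), (hE _).2 (hF1 b)⟩).trans
              (congrArg₂ (· * ·) (hF2 a) (hF2 b))).trans
              (((congrArg σ (map_mul Y.proj a b)).trans (σ.toRingHom.map_mul _ _)).symm))
          commutes' := fun c => huniq _ _ (by rw [AlgHom.commutes, AlgHom.commutes])
            (((congrArg σ (Y.proj.commutes c)).trans (hσk c)).symm) }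
      have hincl : ∀ z, F (Y.incl z) = Y'.incl z := fun z => huniq _ _ (by rw [hpi, hpi'])
        ((Ideal.Quotient.eq_zero_iff_mem.2 ((hΔ _).2 ⟨z, rfl⟩)).trans
          ((congrArg σ (hpi z)).trans (σ.toRingHom.map_zero)).symm)
      have hbij : Function.Bijective FA := by
        refine ⟨(injective_iff_map_eq_zero FA).2 fun y hy => ?_, fun y' => ?_⟩
        · change F y = 0 at hy
          obtain ⟨z, rfl⟩ := (hexact y).1 (by rw [hF1, hy, map_zero])
          rw [hincl] at hy
          rw [hinj' (hy.trans (map_zero Y'.incl).symm), map_zero]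
        · obtain ⟨y, hy⟩ := hsurj (Y'.proj y')
          obtain ⟨z, hz⟩ := (hexact' (y' - F y)).1 (by rw [map_sub, ← hF1, hy, sub_self])
          exact ⟨y + Y.incl z, by rw [map_add]; show F y + F (Y.incl z) = y'; rw [hincl, hz, add_sub_cancel]⟩
      exact ⟨{ toAlgEquiv := AlgEquiv.ofBijective FA hbij
               proj_apply := fun y => (hF1 y).symm
               apply_incl := hincl }⟩
  · rintro ⟨hder, hinjpb⟩ X
    let Y : Exal.Ext k R (IsLocalRing.ResidueField R) := X.restrictBase k
    let Y' := Exal.Ext.trivial k R (IsLocalRing.ResidueField R)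
    have h1 : (Y.pullback Λ).IsTrivial :=
      ⟨{ toFun := fun a => (⟨(algebraMap Λ X.E a, a), X.proj.commutes a⟩ : (Y.pullback Λ).E)
         map_one' := Subtype.ext (Prod.ext (map_one (algebraMap Λ X.E)) rfl)
         map_zero' := Subtype.ext (Prod.ext (map_zero (algebraMap Λ X.E)) rfl)
         map_add' := fun a b => Subtype.ext (Prod.ext (map_add (algebraMap Λ X.E) a b) rfl)
         map_mul' := fun a b => Subtype.ext (Prod.ext (map_mul (algebraMap Λ X.E) a b) rfl)
         commutes' := fun c => rfl }, fun a => rfl⟩
    have h2 : (Y'.pullback Λ).IsTrivial := by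
      let _ := Exal.opModule R (IsLocalRing.ResidueField R)
      have := Exal.isCentralScalar_opModule R (IsLocalRing.ResidueField R)
      exact
      ⟨{ toFun := fun a => (⟨((TrivSqZeroExt.inl (algebraMap Λ R a) : TrivSqZeroExt R (IsLocalRing.ResidueField R)), a), rfl⟩ : (Y'.pullback Λ).E)
         map_one' := Subtype.ext (Prod.ext (by show (TrivSqZeroExt.inl (algebraMap Λ R 1) : TrivSqZeroExt R (IsLocalRing.ResidueField R)) = 1; rw [map_one, TrivSqZeroExt.inl_one]) rfl)
         map_zero' := Subtype.ext (Prod.ext (by show (TrivSqZeroExt.inl (algebraMap Λ R 0) : TrivSqZeroExt R (IsLocalRing.ResidueField R)) = 0; rw [map_zero, TrivSqZeroExt.inl_zero]) rfl)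
         map_add' := fun a b => Subtype.ext (Prod.ext (by show (TrivSqZeroExt.inl (algebraMap Λ R (a + b)) : TrivSqZeroExt R (IsLocalRing.ResidueField R)) = TrivSqZeroExt.inl _ + TrivSqZeroExt.inl _; rw [map_add, TrivSqZeroExt.inl_add] <;> rfl) rfl)
         map_mul' := fun a b => Subtype.ext (Prod.ext (by show (TrivSqZeroExt.inl (algebraMap Λ R (a * b)) : TrivSqZeroExt R (IsLocalRing.ResidueField R)) = TrivSqZeroExt.inl _ * TrivSqZeroExt.inl _; rw [map_mul, TrivSqZeroExt.inl_mul] <;> rfl) rfl)
         commutes' := fun c => Subtype.ext (Prod.ext (congrArg TrivSqZeroExt.inl (IsScalarTower.algebraMap_apply k Λ R c).symm) rfl) }, fun a => rfl⟩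
    obtain ⟨e⟩ := hinjpb Y Y' (equiv_of_sections _ _ h1 h2)
    let σ₀ : R →ₐ[k] Y.E :=
      (e.toAlgEquiv.symm : Y'.E →ₐ[k] Y.E).comp
        { toFun := fun r => (TrivSqZeroExt.inl r : TrivSqZeroExt R (IsLocalRing.ResidueField R))
          map_one' := TrivSqZeroExt.inl_one _
          map_zero' := TrivSqZeroExt.inl_zero _
          map_add' := fun a b => TrivSqZeroExt.inl_add _ a b
          map_mul' := fun a b => by
            let _ := Exal.opModule R (IsLocalRing.ResidueField R)
            exact TrivSqZeroExt.inl_mul _ a b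
          commutes' := fun c => rfl }
    have hσ₀ : ∀ r, X.proj (σ₀ r) = r := fun r => by
      show Y.proj (e.toAlgEquiv.symm _) = r
      exact ((e.symm).proj_apply _).trans rfl
    obtain ⟨hsurj, hinj, hexact, hmul⟩ := X.isExtension
    have hpi : ∀ z, X.proj (X.incl z) = 0 := fun z => (hexact _).2 ⟨z, rfl⟩
    let σ : R →+* X.E := σ₀.toRingHom
    have hσ : ∀ r, X.proj (σ r) = r := hσ₀
    have hσc : ∀ c : k, σ (algebraMap k R c) = algebraMap Λ X.E (algebraMap k Λ c) := fun c => σ₀.commutes c
    have hker : ∀ a : Λ, X.proj (algebraMap Λ X.E a - σ (algebraMap Λ R a)) = 0 := fun a => by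
      rw [map_sub, AlgHom.commutes, hσ, sub_self]
    let dl : Λ → IsLocalRing.ResidueField R := fun a => X.kerLift _ (hker a)
    have hdl : ∀ a, X.incl (dl a) = algebraMap Λ X.E a - σ (algebraMap Λ R a) := fun a => X.incl_kerLift _ _
    let D : Derivation k Λ (IsLocalRing.ResidueField R) := Derivation.mk'
      { toFun := dl
        map_add' := fun a b => hinj (by rw [map_add, hdl, hdl, hdl, map_add, map_add, map_add]; ring)
        map_smul' := fun c a => hinj (by
          rw [RingHom.id_apply, ← algebraMap_smul R c (dl a), IsScalarTower.algebraMap_apply k Λ R]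
          rw [← hσ (algebraMap Λ R (algebraMap k Λ c)), ← hmul, hdl, hdl, Algebra.smul_def, map_mul, map_mul,
            map_mul, ← IsScalarTower.algebraMap_apply k Λ R, hσc]
          ring) }
      (fun a b => hinj (by
        show X.incl (dl (a * b)) = X.incl (a • dl b + b • dl a)
        rw [map_add, ← algebraMap_smul R a (dl b), ← algebraMap_smul R b (dl a)]
        rw [← AlgHom.commutes X.proj a, ← hmul, ← hσ (algebraMap Λ R b), ← hmul, hdl, hdl, hdl, map_mul, map_mul,
          map_mul]
        ring))
    obtain ⟨D', hD'⟩ := hder D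
    refine ⟨{ toFun := fun r => σ r + X.incl (D' r)
              map_one' := by rw [map_one, Derivation.map_one_eq_zero, map_zero, add_zero]
              map_zero' := by rw [map_zero, map_zero, map_zero, add_zero]
              map_add' := fun a b => by rw [map_add, map_add, map_add]; ring
              map_mul' := fun a b => by
                have q1 : σ a * X.incl (D' b) = X.incl (a • D' b) := by rw [hmul, hσ]
                have q2 : X.incl (D' a) * σ b = X.incl (b • D' a) := by rw [mul_comm, hmul, hσ]
                have q3 : X.incl (D' a) * X.incl (D' b) = 0 := by rw [hmul, hpi, zero_smul, map_zero]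
                rw [Derivation.leibniz, map_mul, map_add, add_mul, mul_add, mul_add, q1, q2, q3]
                ring
              commutes' := fun a => by
                rw [hD']
                show σ (algebraMap Λ R a) + X.incl (dl a) = _
                rw [hdl, add_sub_cancel] },
      fun r => by show X.proj (σ r + X.incl (D' r)) = r; rw [map_add, hσ, hpi, add_zero]⟩

end Groth.Agent.S11292
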