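import Groth.Statements.S11294
-- import your own Groth.Agent.* helpers here

set_option autoImplicit false
universe u
open Deform

namespace Groth.Agent.S11294

open TrivSqZeroExt in
/-- Let P be a commutative ring, J an ideal, and P[ε] the ring of dual numbers over P. First-order
embedded deformations of Spec(P/J) in Spec P, namely ideals J' of P[ε] lifting J (the image of J'
under ε ↦ 0 is J) with P[ε]/J' flat over the dual numbers — flatness being replaced by the condition
that every element of P[ε]/J' annihilated by ε is a multiple of ε (equivalent to flatness over k[ε]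
when P is an algebra over a field k) — are in canonical bijection with Hom_P(J, P/J) =
Hom_{P/J}(J/J^2, P/J), the normal module: to φ corresponds the ideal of all a + εb with a in J and b
reducing to φ(a) modulo J. The first clause says this rule defines exactly one ideal for each φ; the
second says an ideal J' is a flat lift of J precisely when its membership is given by this rule for
some φ. (The published statement is the global one, identifying first-order deformations of a closed
subscheme X of an algebraic scheme Y with H^0(X, N_{X/Y}); this row is the affine computation in its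
proof, valid for every commutative ring P.) -/
theorem result (P : Type u) [CommRing P] (J : Ideal P) :
    (∀ φ : J →ₗ[P] (P ⧸ J), ∃! J' : Ideal (DualNumber P),
        ∀ a b : P, (inl a + inr b : DualNumber P) ∈ J' ↔ ∃ h : a ∈ J, Ideal.Quotient.mk J b = φ ⟨a, h⟩) ∧
    (∀ J' : Ideal (DualNumber P),
      (J'.map (TrivSqZeroExt.fstHom P P P) = J ∧
        ∀ m : DualNumber P ⧸ J', Ideal.Quotient.mk J' DualNumber.eps * m = 0 →
          ∃ m' : DualNumber P ⧸ J', m = Ideal.Quotient.mk J' DualNumber.eps * m') ↔
      ∃ φ : J →ₗ[P] (P ⧸ J), ∀ a b : P,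
        (inl a + inr b : DualNumber P) ∈ J' ↔ ∃ h : a ∈ J, Ideal.Quotient.mk J b = φ ⟨a, h⟩) := by
  refine ⟨fun φ => ?_, fun J' => ⟨?_, ?_⟩⟩
  · let L : Ideal (DualNumber P) :=
      { carrier := {x | ∃ h : x.fst ∈ J, Ideal.Quotient.mk J x.snd = φ ⟨x.fst, h⟩}
        add_mem' := by
          rintro x y ⟨ha, hab⟩ ⟨hc, hcd⟩
          refine ⟨J.add_mem ha hc, ?_⟩
          rw [TrivSqZeroExt.snd_add, map_add, hab, hcd, ← map_add]; rfl
        zero_mem' := ⟨J.zero_mem, (map_zero _).trans (map_zero φ).symm⟩
        smul_mem' := by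
          rintro r x ⟨ha, hab⟩
          change ∃ h : (r * x).fst ∈ J, Ideal.Quotient.mk J (r * x).snd = φ ⟨(r * x).fst, h⟩
          refine ⟨by rw [fst_mul]; exact J.mul_mem_left _ ha, ?_⟩
          have hzero : Ideal.Quotient.mk J (r.snd * x.fst) = 0 :=
            Ideal.Quotient.eq_zero_iff_mem.2 (J.mul_mem_left _ ha)
          rw [DualNumber.snd_mul, map_add, hzero, add_zero, map_mul, hab]
          change r.fst • φ ⟨x.fst, ha⟩ = _
          rw [← map_smul]
          congr 1 }
    refine ⟨L, fun a b => ?_, fun L' hL' => Ideal.ext fun x => ?_⟩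
    · change (∃ h : (inl a + inr b : DualNumber P).fst ∈ J, _) ↔ _
      simp
    · rw [← inl_fst_add_inr_snd_eq x, hL']
      change _ ↔ ∃ h : (inl x.fst + inr x.snd : DualNumber P).fst ∈ J, _
      simp
  · rintro ⟨hmap, hflat⟩
    have hdec : ∀ x : DualNumber P, x = inl x.fst + inr x.snd := fun x => (inl_fst_add_inr_snd_eq x).symm
    have hex : ∀ a ∈ J, ∃ b, (inl a + inr b : DualNumber P) ∈ J' := fun a ha => by
      rw [← hmap, Ideal.mem_map_iff_of_surjective _ (fun p => ⟨inl p, rfl⟩)] at ha
      obtain ⟨x, hx, rfl⟩ := ha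
      exact ⟨x.snd, by rw [TrivSqZeroExt.fstHom_apply, inl_fst_add_inr_snd_eq]; exact hx⟩
    have hJ : ∀ a b, (inl a + inr b : DualNumber P) ∈ J' → a ∈ J := fun a b h => by
      rw [← hmap]
      convert Ideal.mem_map_of_mem (TrivSqZeroExt.fstHom P P P) h using 1
      simp
    have heps : ∀ c : DualNumber P, DualNumber.eps * c = inr c.fst := fun c => by ext <;> simp
    have hinr : ∀ b, (inr b : DualNumber P) ∈ J' → b ∈ J := fun b hb => by
      have h0 : Ideal.Quotient.mk J' DualNumber.eps * Ideal.Quotient.mk J' (inl b) = 0 := by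
        rw [← map_mul, Ideal.Quotient.eq_zero_iff_mem, heps]; simpa using hb
      obtain ⟨m, hm⟩ := hflat _ h0
      obtain ⟨c, rfl⟩ := Ideal.Quotient.mk_surjective m
      rw [← map_mul, Ideal.Quotient.eq, heps] at hm
      refine hJ b (-c.fst) ?_
      simpa [sub_eq_add_neg] using hm
    have hinr' : ∀ a ∈ J, (inr a : DualNumber P) ∈ J' := fun a ha => by
      obtain ⟨b, hb⟩ := hex a ha
      simpa [heps] using J'.mul_mem_left DualNumber.eps hb
    choose g hg using fun x : J => hex x x.2
    have huniq : ∀ (x : J) (y : P), (inl (x : P) + inr y : DualNumber P) ∈ J' →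
        Ideal.Quotient.mk J y = Ideal.Quotient.mk J (g x) := fun x y hy => by
      rw [Ideal.Quotient.eq]
      refine hinr _ ?_
      convert J'.sub_mem hy (hg x) using 1
      ext <;> simp
    let φ : J →ₗ[P] P ⧸ J :=
      { toFun := fun x => Ideal.Quotient.mk J (g x)
        map_add' := fun x x' => by
          rw [← map_add]
          refine (huniq (x + x') _ ?_).symm
          convert J'.add_mem (hg x) (hg x') using 1
          ext <;> simp
        map_smul' := fun r x => by
          change _ = Ideal.Quotient.mk J (r * g x)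
          refine (huniq (r • x) _ ?_).symm
          convert J'.mul_mem_left (inl r) (hg x) using 1
          ext <;> simp }
    refine ⟨φ, fun a b => ⟨fun hab => ⟨hJ a b hab, huniq ⟨a, _⟩ b hab⟩, ?_⟩⟩
    rintro ⟨ha, hb⟩
    have hd : b - g ⟨a, ha⟩ ∈ J := Ideal.Quotient.eq.1 hb
    convert J'.add_mem (hg ⟨a, ha⟩) (hinr' _ hd) using 1
    ext <;> simp
  · rintro ⟨φ, hφ⟩
    have hmem : ∀ x : DualNumber P, x ∈ J' ↔
        ∃ h : x.fst ∈ J, Ideal.Quotient.mk J x.snd = φ ⟨x.fst, h⟩ := fun x => by
      conv_lhs => rw [← inl_fst_add_inr_snd_eq x]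
      exact hφ _ _
    refine ⟨le_antisymm (Ideal.map_le_iff_le_comap.2 fun x hx => ((hmem x).1 hx).1) fun a ha => ?_,
      fun m hm => ?_⟩
    · obtain ⟨b, hb⟩ := Ideal.Quotient.mk_surjective (φ ⟨a, ha⟩)
      have h := Ideal.mem_map_of_mem (TrivSqZeroExt.fstHom P P P) ((hφ a b).2 ⟨ha, hb⟩)
      simpa using h
    · obtain ⟨c, rfl⟩ := Ideal.Quotient.mk_surjective m
      have heps : ∀ c : DualNumber P, DualNumber.eps * c = inr c.fst := fun c => by ext <;> simp
      rw [← map_mul, Ideal.Quotient.eq_zero_iff_mem, heps, hmem] at hm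
      obtain ⟨h0, h1⟩ := hm
      have hc : c.fst ∈ J := by
        rw [← Ideal.Quotient.eq_zero_iff_mem]
        simp only [TrivSqZeroExt.snd_inr, TrivSqZeroExt.fst_inr] at h1
        exact h1.trans (map_zero φ)
      obtain ⟨d, hd⟩ := Ideal.Quotient.mk_surjective (Ideal.Quotient.mk J c.snd - φ ⟨c.fst, hc⟩)
      refine ⟨Ideal.Quotient.mk J' (inl d), ?_⟩
      rw [← map_mul, Ideal.Quotient.eq, hmem]
      refine ⟨by simpa [heps] using hc, ?_⟩
      simp [heps, hd]

end Groth.Agent.S11294
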