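import Groth.Statements.S11296
import Groth.Agent.Lib.RegDescent

set_option autoImplicit false
set_option backward.isDefEq.respectTransparency false
set_option backward.isDefEq.respectTransparency.types false
set_option linter.style.haveILetI false
set_option linter.unusedSectionVars false
set_option maxHeartbeats 400000
universe u
open CategoryTheory CategoryTheory.Limits AlgebraicGeometry
open Variety

namespace Groth.Agent.S11296

open Groth.Agent.RegDescent Groth.Agent.RegEpi Groth.Agent.ProjRegular Groth.Agent.PnCoh.Finite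

noncomputable instance projOver (k : Type u) [Field k] (n : ℕ) :
    (Proj (CohB1.polyGrading n k)).Over (Spec (CommRingCat.of k)) :=
  inferInstanceAs ((CohB1.ProjSpace n k).Over (Spec (CommRingCat.of k)))

theorem exists_setup (k : Type u) [Field k] (n : ℕ)
    (F : (Proj (CohB1.polyGrading n k)).Modules) (hF : Coh.IsCoh F)
    (ι : (twF (-1)).obj F ⟶ F) [Mono ι] (m : ℤ)
    (hG : Curv2.IsMRegular k n (cokernel ι) m) : Nonempty (Setup F (cokernel ι) m) := by
  haveI hP : IsNoetherian (Proj (CohB1.polyGrading n k)) := Proj16.isNoetherian_proj _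
  have h1 : Coh.IsCoh ((twF (-1)).obj F) := ProjRegular.isCoh_twistBy hF (-1)
  exact ⟨{ ι := ι, π := cokernel.π ι, w := cokernel.condition ι,
           exact := { exact := ShortComplex.exact_of_g_is_cokernel _ (cokernelIsCokernel ι) },
           cohF := hF, cohG := QCoh.isCoh_cokernel h1.1 hF ι, reg := hG,
           finH1 := fun j => projSpace_finite_HH n k _ (ProjRegular.isCoh_twistBy hF j) 1 }⟩

/-- Let k be an algebraically closed field, F a coherent module on P^n_k, and 0 → F(-1) → F → G → 0 an
exact sequence, G being the cokernel of a monomorphism ι : F ⊗ O(-1) → F; write F(j) = F ⊗ O(j) and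
h^1 for dim_k H^1. If G is m-regular then: (i) H^i(P^n, F(j)) = 0 for all i ≥ 2 and j ≥ m - i; (ii)
h^1(F(j)) ≤ h^1(F(j-1)) for all j ≥ m - 1; (iii) H^1(P^n, F(j)) = 0 for all j ≥ m - 1 + h^1(F(m-1));
in particular F is (m + h^1(F(m-1)))-regular. -/
theorem result (k : Type u) [Field k] [IsAlgClosed k] (n : ℕ)
    (F : (CohB1.ProjSpace n k).Modules) (hF : Coh.IsCoh F)
    (ι : CohB1.tensorMod F (Twist.twistProjSpace n k (-1)) ⟶ F) [Mono ι] (m : ℤ)
    (hG : Curv2.IsMRegular k n (cokernel ι) m) :
    (∀ (i : ℕ) (j : ℤ), 2 ≤ i → m - i ≤ j →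
        Subsingleton (Coh.HH (CohB1.ProjSpace n k) (CohB1.tensorMod F (Twist.twistProjSpace n k j)) i)) ∧
    (∀ j : ℤ, m - 1 ≤ j →
        Module.finrank k (Coh.HH (CohB1.ProjSpace n k) (CohB1.tensorMod F (Twist.twistProjSpace n k j)) 1) ≤
          Module.finrank k (Coh.HH (CohB1.ProjSpace n k) (CohB1.tensorMod F (Twist.twistProjSpace n k (j - 1))) 1)) ∧
    (∀ j : ℤ, m - 1 + (Module.finrank k (Coh.HH (CohB1.ProjSpace n k)
          (CohB1.tensorMod F (Twist.twistProjSpace n k (m - 1))) 1) : ℤ) ≤ j →
        Subsingleton (Coh.HH (CohB1.ProjSpace n k) (CohB1.tensorMod F (Twist.twistProjSpace n k j)) 1)) ∧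
    Curv2.IsMRegular k n F (m + Module.finrank k (Coh.HH (CohB1.ProjSpace n k)
        (CohB1.tensorMod F (Twist.twistProjSpace n k (m - 1))) 1)) := by
  obtain ⟨T⟩ := exists_setup k n F hF ι m hG
  refine ⟨fun i j hi hj => subsingleton_high T i hi j hj, fun j hj => h1_le T j hj,
    fun j hj => subsingleton_one T j hj, fun i hi hin => ?_⟩
  rcases Nat.lt_or_ge i 2 with h | h
  · obtain rfl : i = 1 := by omega
    exact subsingleton_one T _ (le_of_eq ((show ∀ a : ℤ, m - 1 + a = m + a - ((1 : ℕ) : ℤ) from fun a => by omega) _))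
  · exact subsingleton_high T i h _ (by omega)

end Groth.Agent.S11296
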