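import Groth.Statements.S11298
import Groth.Agent.LC.DepthLoc

set_option autoImplicit false
universe u v
open LocCoh

namespace Groth.Agent.S11298

/-- Let X = Spec B be an affine Noetherian scheme, Z = V(I) a closed subscheme and G a coherent sheaf,
i.e. a finitely generated B-module M, with dual G^v = Hom_B(M, B). If depth_Z(O_X) ≥ 2 then
depth_Z(G^v) ≥ 2. Here the depth along I of a module N is the supremum of the lengths of N-regular
sequences contained in I (and is infinite when I N = N). (The published statement adds that sections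
of the dual over X and over X minus Z agree; this row omits that clause.) -/
theorem result (B : Type u) [CommRing B] [IsNoetherianRing B]
    (I : Ideal B) (M : Type v) [AddCommGroup M] [Module B M] [Module.Finite B M]
    (h : 2 ≤ LocCoh.idealDepth I B) : 2 ≤ LocCoh.idealDepth I (M →ₗ[B] B) := by
  rcases eq_or_ne I ⊤ with rfl | hI
  · rw [LocCoh.idealDepth, if_pos (Submodule.top_smul _)]; exact le_top
  have hIB : I • (⊤ : Submodule B B) ≠ ⊤ := by rwa [Ideal.smul_top_eq_map, Algebra.algebraMap_self, Ideal.map_id, ne_eq, Submodule.restrictScalars_eq_top_iff]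
  obtain ⟨rs, hreg, hmem, hlen⟩ :=
    Groth.Agent.Alg6.exists_length_ge_of_le_idealDepth hIB (n := 2) (by exact_mod_cast h)
  obtain ⟨x, y, rs, rfl⟩ : ∃ x y t, rs = x :: y :: t := by
    rcases rs with _ | ⟨x, _ | ⟨y, t⟩⟩
    · simp at hlen
    · simp at hlen
    · exact ⟨x, y, t, rfl⟩
  rw [RingTheory.Sequence.isWeaklyRegular_cons_iff, RingTheory.Sequence.isWeaklyRegular_cons_iff] at hreg
  obtain ⟨hx, hy, -⟩ := hreg
  have key : RingTheory.Sequence.IsWeaklyRegular (M →ₗ[B] B) [x, y] := by
    rw [RingTheory.Sequence.isWeaklyRegular_cons_iff, RingTheory.Sequence.isWeaklyRegular_singleton_iff]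
    refine ⟨fun f g hfg => LinearMap.ext fun m => hx (LinearMap.congr_fun hfg m), ?_⟩
    rw [isSMulRegular_iff_right_eq_zero_of_smul]
    intro q hq
    obtain ⟨f, rfl⟩ := Submodule.Quotient.mk_surjective _ q
    rw [← Submodule.Quotient.mk_smul, Submodule.Quotient.mk_eq_zero] at hq
    obtain ⟨g, -, hg⟩ := hq
    have hdiv : ∀ m, ∃ c, x • c = f m := fun m => by
      have h0 : (Submodule.Quotient.mk (f m) : QuotSMulTop x B) = 0 := hy (by
        show y • Submodule.Quotient.mk (f m) = y • (0 : QuotSMulTop x B)
        rw [smul_zero, ← Submodule.Quotient.mk_smul, Submodule.Quotient.mk_eq_zero]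
        exact ⟨g m, trivial, LinearMap.congr_fun hg m⟩)
      obtain ⟨c, -, hc⟩ := (Submodule.Quotient.mk_eq_zero _).1 h0
      exact ⟨c, hc⟩
    choose φ hφ using hdiv
    rw [Submodule.Quotient.mk_eq_zero]
    refine ⟨{ toFun := φ, map_add' := fun a b => hx ?_, map_smul' := fun r a => hx ?_ }, trivial,
      LinearMap.ext fun m => hφ m⟩
    · show x • φ (a + b) = x • (φ a + φ b)
      rw [smul_add, hφ, hφ, hφ, map_add]
    · show x • φ (r • a) = x • (r • φ a)
      rw [smul_comm x r, hφ, hφ, map_smul]
  refine le_trans ?_ (Groth.Agent.Alg6.length_le_idealDepth key fun r hr => hmem r ?_)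
  · simp
  · simp only [List.mem_cons, List.not_mem_nil, or_false] at hr ⊢
    tauto

end Groth.Agent.S11298
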