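import Groth.Statements.S11299
import Mathlib

set_option autoImplicit false
universe u
open CAlg

namespace Groth.Agent.S11299
theorem indep_pres {P : Type*} [CommRing P] (J : Ideal P) {F F' : Type*} [AddCommGroup F] [Module P F]
    [AddCommGroup F'] [Module P F'] (j : F →ₗ[P] P) (j' : F' →ₗ[P] P) (a : F →ₗ[P] F') (ha : j' ∘ₗ a = j) :
    ∃ Θ : ((LinearMap.ker j') →ₗ[P] P ⧸ J) ⧸ LinearMap.range (LinearMap.lcomp P (P ⧸ J) (LinearMap.ker j').subtype) →ₗ[P]
        ((LinearMap.ker j) →ₗ[P] P ⧸ J) ⧸ LinearMap.range (LinearMap.lcomp P (P ⧸ J) (LinearMap.ker j).subtype),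
      (∀ x ∈ Submodule.map
          (LinearMap.range (LinearMap.lcomp P (P ⧸ J) (LinearMap.ker j').subtype)).mkQ
          (LinearMap.ker (LinearMap.lcomp P (P ⧸ J)
            (Submodule.comap (LinearMap.ker j').subtype
              (Submodule.span P {y : F' | ∃ u v : F', y = j' u • v - j' v • u})).subtype)),
        Θ x ∈ Submodule.map
          (LinearMap.range (LinearMap.lcomp P (P ⧸ J) (LinearMap.ker j).subtype)).mkQ
          (LinearMap.ker (LinearMap.lcomp P (P ⧸ J)
            (Submodule.comap (LinearMap.ker j).subtype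
              (Submodule.span P {y : F | ∃ u v : F, y = j u • v - j v • u})).subtype))) ∧
      ∀ (φ : (LinearMap.ker j') →ₗ[P] P ⧸ J) (h : ∀ x : LinearMap.ker j, a x ∈ LinearMap.ker j'),
        Θ (Submodule.Quotient.mk φ) = Submodule.Quotient.mk (φ ∘ₗ (a ∘ₗ (LinearMap.ker j).subtype).codRestrict _ h) := by
  have h : ∀ x : LinearMap.ker j, a x ∈ LinearMap.ker j' := fun x => by
    rw [LinearMap.mem_ker, ← LinearMap.comp_apply, ha]; exact x.2
  let aK : LinearMap.ker j →ₗ[P] LinearMap.ker j' := (a ∘ₗ (LinearMap.ker j).subtype).codRestrict _ h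
  refine ⟨Submodule.mapQ _ _ (LinearMap.lcomp P (P ⧸ J) aK) ?_, ?_, fun φ _ => rfl⟩
  · rintro _ ⟨ψ, rfl⟩
    exact ⟨ψ ∘ₗ a, rfl⟩
  · rintro _ ⟨φ, hφ, rfl⟩
    refine ⟨φ ∘ₗ aK, ?_, rfl⟩
    rw [SetLike.mem_coe, LinearMap.mem_ker] at hφ ⊢
    ext ⟨x, hx⟩
    have hx' : aK x ∈ Submodule.comap (LinearMap.ker j').subtype
        (Submodule.span P {y : F' | ∃ u v : F', y = j' u • v - j' v • u}) := by
      change a x ∈ Submodule.span P {y : F' | ∃ u v : F', y = j' u • v - j' v • u}
      have h1 : (x : F) ∈ Submodule.span P {y : F | ∃ u v : F, y = j u • v - j v • u} := hx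
      have h2 := Submodule.mem_map_of_mem (f := a) h1
      rw [Submodule.map_span] at h2
      refine Submodule.span_mono ?_ h2
      rintro _ ⟨_, ⟨u, v, rfl⟩, rfl⟩
      exact ⟨a u, a v, by simp [← ha]⟩
    exact LinearMap.congr_fun hφ ⟨aK x, hx'⟩


/-- The second cotangent module does not depend on the presentation: let P be a commutative ring, J an
ideal and B = P/J. For a presentation of J, i.e. a finitely generated free P-module F with a
P-linear map j : F → P with image J, let R = ker j be the relation module and R^tr ⊆ R the span of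
the trivial relations j(u) • v - j(v) • u; the module T^2 of the presentation is the quotient of
Hom_B(R/R^tr, B), realised as the P-linear maps R → P/J vanishing on R^tr, by the restrictions to R
of the P-linear maps F → P/J (here: the image of that submodule in the quotient of Hom_P(R, P/J) by
the restrictions). Then for two presentations (F, j) and (F', j') of the same ideal J the two
modules T^2 are isomorphic as P-modules (existence of an isomorphism; the comparison maps depend on
expressing one system of generators through the other). (The published statement takes B essentially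
of finite type over a field and P smooth; this row allows any commutative ring P and ideal J.) -/
theorem result (P : Type u) [CommRing P] (J : Ideal P)
    (F : Type u) [AddCommGroup F] [Module P F] [Module.Free P F] [Module.Finite P F]
    (F' : Type u) [AddCommGroup F'] [Module P F'] [Module.Free P F'] [Module.Finite P F']
    (j : F →ₗ[P] P) (j' : F' →ₗ[P] P) (hj : LinearMap.range j = J) (hj' : LinearMap.range j' = J) :
    Nonempty (↥(Submodule.map
          (LinearMap.range (LinearMap.lcomp P (P ⧸ J) (LinearMap.ker j).subtype)).mkQ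
          (LinearMap.ker (LinearMap.lcomp P (P ⧸ J)
            (Submodule.comap (LinearMap.ker j).subtype
              (Submodule.span P {y : F | ∃ u v : F, y = j u • v - j v • u})).subtype))) ≃ₗ[P]
      ↥(Submodule.map
          (LinearMap.range (LinearMap.lcomp P (P ⧸ J) (LinearMap.ker j').subtype)).mkQ
          (LinearMap.ker (LinearMap.lcomp P (P ⧸ J)
            (Submodule.comap (LinearMap.ker j').subtype
              (Submodule.span P {y : F' | ∃ u v : F', y = j' u • v - j' v • u})).subtype)))) := by
  have hlift : ∀ (G G' : Type u) [AddCommGroup G] [Module P G] [AddCommGroup G'] [Module P G'] [Module.Free P G]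
      (i : G →ₗ[P] P) (i' : G' →ₗ[P] P), LinearMap.range i ≤ LinearMap.range i' → ∃ a : G →ₗ[P] G', i' ∘ₗ a = i := by
    intro G G' _ _ _ _ _ i i' hle
    obtain ⟨a, ha⟩ := Module.projective_lifting_property i'.rangeRestrict
      (i.codRestrict (LinearMap.range i') fun x => hle ⟨x, rfl⟩) i'.surjective_rangeRestrict
    refine ⟨a, LinearMap.ext fun x => ?_⟩
    exact congrArg Subtype.val (LinearMap.congr_fun ha x)
  obtain ⟨a, ha⟩ := hlift F F' j j' (by rw [hj, hj'])
  obtain ⟨b, hb⟩ := hlift F' F j' j (by rw [hj, hj'])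
  obtain ⟨A, hA, hA'⟩ := indep_pres J j j' a ha
  obtain ⟨B, hB, hB'⟩ := indep_pres J j' j b hb
  have hha : ∀ x : LinearMap.ker j, a x ∈ LinearMap.ker j' := fun x => by
    rw [LinearMap.mem_ker, ← LinearMap.comp_apply, ha]; exact x.2
  have hhb : ∀ x : LinearMap.ker j', b x ∈ LinearMap.ker j := fun x => by
    rw [LinearMap.mem_ker, ← LinearMap.comp_apply, hb]; exact x.2
  have hAB : ∀ z, A (B z) = z := by
    intro z
    obtain ⟨φ, rfl⟩ := Submodule.Quotient.mk_surjective _ z
    rw [hB' φ hhb, hA' _ hha, Submodule.Quotient.eq]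
    have hc : ∀ x : F, b (a x) - x ∈ LinearMap.ker j := fun x => by
      rw [LinearMap.mem_ker, map_sub, ← LinearMap.comp_apply, hb, ← LinearMap.comp_apply, ha, sub_self]
    refine ⟨φ ∘ₗ (b ∘ₗ a - LinearMap.id).codRestrict _ hc, ?_⟩
    ext x
    simp only [LinearMap.lcomp_apply', LinearMap.comp_apply, LinearMap.sub_apply, ← map_sub]
    rfl
  have hBA : ∀ z, B (A z) = z := by
    intro z
    obtain ⟨φ, rfl⟩ := Submodule.Quotient.mk_surjective _ z
    rw [hA' φ hha, hB' _ hhb, Submodule.Quotient.eq]
    have hc : ∀ x : F', a (b x) - x ∈ LinearMap.ker j' := fun x => by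
      rw [LinearMap.mem_ker, map_sub, ← LinearMap.comp_apply, ha, ← LinearMap.comp_apply, hb, sub_self]
    refine ⟨φ ∘ₗ (a ∘ₗ b - LinearMap.id).codRestrict _ hc, ?_⟩
    ext x
    simp only [LinearMap.lcomp_apply', LinearMap.comp_apply, LinearMap.sub_apply, ← map_sub]
    rfl
  exact ⟨LinearEquiv.ofLinearMap (B.restrict hB) (A.restrict hA)
    (LinearMap.ext fun z => Subtype.ext (hBA z)) (LinearMap.ext fun z => Subtype.ext (hAB z))⟩


end Groth.Agent.S11299
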