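import Groth.Statements.S11301
import Groth.Agent.Lib.RegEpiPn

set_option autoImplicit false
set_option backward.isDefEq.respectTransparency false
set_option backward.isDefEq.respectTransparency.types false
set_option linter.style.haveILetI false
set_option linter.unusedSectionVars false
set_option maxHeartbeats 400000
universe u
open CategoryTheory CategoryTheory.Limits AlgebraicGeometry
open Variety

namespace Groth.Agent.S11301

open Groth.Agent.RegEpi Groth.Agent.ProjRegular Groth.Agent.PnCoh.Finite

noncomputable instance projOver (k : Type u) [Field k] (n : ℕ) :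
    (Proj (CohB1.polyGrading n k)).Over (Spec (CommRingCat.of k)) :=
  inferInstanceAs ((CohB1.ProjSpace n k).Over (Spec (CommRingCat.of k)))

/-- m-regularity via linear resolutions: in one-step form: let k be an algebraically closed field and F
a coherent module on P^n_k. Then F is m-regular if and only if there are b ≥ 0 and an epimorphism
O(-m)^b → F (from the direct sum of b copies of O(-m)) whose kernel is (m+1)-regular. (The published
statement is the equivalent characterisation by a resolution ... → O(-m-2)^{b_2} → O(-m-1)^{b_1} →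
O(-m)^{b_0} → F → 0; it follows from this one-step form by induction, and conversely.) -/
theorem result (k : Type u) [Field k] [IsAlgClosed k] (n : ℕ)
    (F : (CohB1.ProjSpace n k).Modules) (hF : Coh.IsCoh F) (m : ℤ) :
    Curv2.IsMRegular k n F m ↔
      ∃ (b : ℕ) (φ : (∐ fun _ : Fin b => Twist.twistProjSpace n k (-m)) ⟶ F),
        Epi φ ∧ Curv2.IsMRegular k n (kernel φ) (m + 1) := by
  constructor
  · intro h
    have hG : Coh.IsCoh (CohB1.tensorMod F (Twist.twistProjSpace n k m)) := isCoh_twistBy hF m
    haveI : Module.Finite k (Coh.HH (Proj (CohB1.polyGrading n k))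
        (CohB1.tensorMod F (Twist.twistProjSpace n k m)) 0) := projSpace_finite_HH n k _ hG 0
    obtain ⟨b, ψ, hψ, hK⟩ := exists_kernel_regular (k := k) (n := n) hG (reg0_of_isMRegular hF h)
    haveI := hψ
    obtain ⟨e1⟩ := twF_sigma_unit_iso (k := k) (n := n) b (-m)
    obtain ⟨e2⟩ := twF_twF_iso (k := k) (n := n) F m (-m) 0 (add_neg_cancel m).symm
    obtain ⟨e3⟩ := twF_zero_iso (k := k) (n := n) F
    let φ : (∐ fun _ : Fin b => Twist.twistProjSpace n k (-m)) ⟶ F :=
      e1.inv ≫ (twF (-m)).map ψ ≫ (e2 ≪≫ e3).hom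
    haveI : Epi φ := @epi_comp _ _ _ _ _ e1.inv inferInstance _ (@epi_comp _ _ _ _ _ ((twF (-m)).map ψ) inferInstance _ inferInstance)
    refine ⟨b, φ, inferInstance, fun i hi _ => ?_⟩
    have eK : kernel φ ≅ (twF (-m)).obj (kernel ψ) :=
      kernelIsIsoComp e1.inv _ ≪≫ kernelCompMono ((twF (-m)).map ψ) (e2 ≪≫ e3).hom ≪≫
        (PreservesKernel.iso (twF (-m)) ψ).symm
    obtain ⟨e4⟩ := twF_twF_iso (k := k) (n := n) (kernel ψ) (-m) (m + 1 - (i : ℤ)) (1 - (i : ℤ)) (by ring)
    exact Groth.Agent.QCoh.subsingleton_HH_of_iso ((twF (m + 1 - (i : ℤ))).mapIso eK ≪≫ e4).symm i (hK i hi)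
  · rintro ⟨b, φ, hφ, h⟩ i hi hin
    haveI := hφ
    exact subsingleton_of_kernel_regular (k := k) (n := n) hF φ i hi hin h

end Groth.Agent.S11301
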