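import Groth.Statements.S11302
import Groth.Agent.LinType.Basic
import Mathlib

set_option autoImplicit false
universe u
open Deform

namespace Groth.Agent.S11302

open MvPolynomial in
/-- T^1 of a complete intersection; the hypersurface case P/(f, ∂f/∂X_1, ..., ∂f/∂X_d) is n = 1: let k
be an algebraically closed field, P = k[X_1, ..., X_d], f_1, ..., f_n a regular sequence in P (each
f_i a non-zero-divisor modulo the preceding ones), J the ideal they generate and B = P/J. The first
cotangent module T^1_B — the cokernel of Der_k(P, B) → Hom_P(J, B), a derivation being restricted to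
J — is isomorphic, as a P-module, to B^n modulo the B-submodule generated by the d columns
(∂f_1/∂X_j, ..., ∂f_n/∂X_j), j = 1, ..., d, of the Jacobian matrix reduced modulo J, through the map
sending the class of φ : J → B to the class of (φ(f_1), ..., φ(f_n)). (The published formula allows
P to be a localisation of the polynomial ring; this row takes the polynomial ring.) -/
theorem result (k : Type u) [Field k] [IsAlgClosed k] (d n : ℕ)
    (f : Fin n → MvPolynomial (Fin d) k) (hreg : RingTheory.Sequence.IsWeaklyRegular (MvPolynomial (Fin d) k) (List.ofFn f)) :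
    ∃ e : ((↥(Ideal.span (Set.range f)) →ₗ[MvPolynomial (Fin d) k] (MvPolynomial (Fin d) k ⧸ Ideal.span (Set.range f))) ⧸
            Submodule.span (MvPolynomial (Fin d) k)
              {ψ : ↥(Ideal.span (Set.range f)) →ₗ[MvPolynomial (Fin d) k] (MvPolynomial (Fin d) k ⧸ Ideal.span (Set.range f)) |
                ∃ D : Derivation k (MvPolynomial (Fin d) k) (MvPolynomial (Fin d) k ⧸ Ideal.span (Set.range f)), ∀ a : ↥(Ideal.span (Set.range f)), ψ a = D (a : MvPolynomial (Fin d) k)}) ≃ₗ[MvPolynomial (Fin d) k]
          ((Fin n → MvPolynomial (Fin d) k ⧸ Ideal.span (Set.range f)) ⧸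
            Submodule.span (MvPolynomial (Fin d) k ⧸ Ideal.span (Set.range f))
              (Set.range fun j : Fin d => fun i : Fin n => Ideal.Quotient.mk (Ideal.span (Set.range f)) (pderiv j (f i)))),
      ∀ φ : ↥(Ideal.span (Set.range f)) →ₗ[MvPolynomial (Fin d) k] (MvPolynomial (Fin d) k ⧸ Ideal.span (Set.range f)),
        e (Submodule.Quotient.mk φ) =
          Submodule.Quotient.mk (fun i : Fin n => φ ⟨f i, Ideal.subset_span (Set.mem_range_self i)⟩) := by
  
  let P := MvPolynomial (Fin d) k
  let J : Ideal P := Ideal.span (Set.range f)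
  have hrel : ∀ a : Fin n → P, ∑ i, a i * f i = 0 → ∀ i, a i ∈ J := by
    intro a ha i
    have := Groth.Agent.LinType.quasiRegular f hreg (d := 1) (P := ∑ j, C (a j) * X j)
      (IsHomogeneous.sum _ _ _ fun j _ => (isHomogeneous_X _ j).C_mul _)
      (by simp [ha]) (Finsupp.single i 1)
    simpa [coeff_sum, coeff_C_mul, coeff_X', Finsupp.single_left_inj, Finset.sum_ite_eq'] using this
  let fJ : Fin n → J := fun i => ⟨f i, Ideal.subset_span (Set.mem_range_self i)⟩
  let L : (Fin n → P) →ₗ[P] J := Fintype.linearCombination P fJ
  have hLv : ∀ a : Fin n → P, (L a : P) = ∑ i, a i * f i := fun a => by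
    simp [L, fJ, Fintype.linearCombination_apply]
  have hL : Function.Surjective L := fun x => by
    obtain ⟨a, ha⟩ := (Submodule.mem_span_range_iff_exists_fun P).mp x.2
    exact ⟨a, Subtype.ext (by rw [hLv]; simpa using ha)⟩
  let Φ : (J →ₗ[P] P ⧸ J) →ₗ[P] (Fin n → P ⧸ J) :=
    { toFun := fun φ i => φ (fJ i)
      map_add' := fun _ _ => rfl
      map_smul' := fun _ _ => rfl }
  have hΦ : Function.Bijective Φ := by
    constructor
    · intro φ ψ h
      refine LinearMap.ext fun x => ?_
      obtain ⟨a, rfl⟩ := hL x
      simp only [L, Fintype.linearCombination_apply, map_sum, map_smul]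
      exact Finset.sum_congr rfl fun i _ => congrArg (a i • ·) (congrFun h i)
    · intro v
      let T : (Fin n → P) →ₗ[P] P ⧸ J := Fintype.linearCombination P v
      let e := L.quotKerEquivOfSurjective hL
      have hT : LinearMap.ker L ≤ LinearMap.ker T := fun a ha => by
        rw [LinearMap.mem_ker] at ha ⊢
        have h0 := hrel a (by rw [← hLv, ha]; rfl)
        simp only [T, Fintype.linearCombination_apply]
        refine Finset.sum_eq_zero fun i _ => ?_
        obtain ⟨w, hw⟩ := Ideal.Quotient.mk_surjective (v i)
        rw [← hw]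
        exact Ideal.Quotient.eq_zero_iff_mem.mpr (J.mul_mem_right w (h0 i))
      refine ⟨Submodule.liftQ _ T hT ∘ₗ e.symm.toLinearMap, funext fun i => ?_⟩
      have he : e.symm (fJ i) = Submodule.Quotient.mk (Pi.single i 1) := by
        rw [LinearEquiv.symm_apply_eq]
        exact ((one_smul P _).symm.trans (Fintype.linearCombination_apply_single P fJ i 1).symm)
      show Submodule.liftQ _ T hT (e.symm (fJ i)) = v i
      rw [he, Submodule.liftQ_apply]
      exact (Fintype.linearCombination_apply_single P v i 1).trans (one_smul P _)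
  let e₀ := LinearEquiv.ofBijective Φ hΦ
  let S : Set (J →ₗ[P] P ⧸ J) := {ψ | ∃ D : Derivation k P (P ⧸ J), ∀ a : J, ψ a = D (a : P)}
  let col : Fin d → (Fin n → P ⧸ J) := fun j i => Ideal.Quotient.mk J (pderiv j (f i))
  have hcol : ∀ j, ∃ ψ ∈ S, Φ ψ = col j := by
    intro j
    let D : Derivation k P (P ⧸ J) := (J.mkQ).compDer (pderiv j)
    have hD : ∀ (r : P) (a : J), D (r * a) = r • D (a : P) := fun r a => by
      rw [Derivation.leibniz]
      have : (a : P) • D r = 0 := by
        obtain ⟨w, hw⟩ := Ideal.Quotient.mk_surjective (D r)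
        rw [← hw]
        exact Ideal.Quotient.eq_zero_iff_mem.mpr (J.mul_mem_right w a.2)
      rw [this, add_zero]
    exact ⟨{ toFun := fun a => D (a : P)
             map_add' := fun a b => map_add D (a : P) b
             map_smul' := fun r a => hD r a }, ⟨D, fun a => rfl⟩, rfl⟩
  have hmap : (Submodule.span P S).map (e₀ : (J →ₗ[P] P ⧸ J) →ₗ[P] _) =
      (Submodule.span (P ⧸ J) (Set.range col)).restrictScalars P := by
    refine le_antisymm ?_ ?_
    · rw [Submodule.map_span, Submodule.span_le]
      rintro _ ⟨ψ, ⟨D, hD⟩, rfl⟩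
      have key : Φ ψ = ∑ j, D (X j) • col j := by
        funext i
        show ψ (fJ i) = _
        rw [hD (fJ i)]
        let D' : Derivation k P (P ⧸ J) := ∑ j, D (X j) • (J.mkQ).compDer (pderiv j)
        have hs : ∀ (q : P), D' q = ∑ j, D (X j) * Ideal.Quotient.mk J (pderiv j q) := fun q => by
          show (∑ j, D (X j) • (J.mkQ).compDer (pderiv j) : Derivation k P (P ⧸ J)) q = _
          rw [← Derivation.coeFnAddMonoidHom_apply, map_sum, Finset.sum_apply]
          rfl
        have hDD : D = D' := derivation_ext fun l => by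
          rw [hs, Finset.sum_eq_single l]
          · simp [pderiv_X]
          · intro j _ hj
            simp [pderiv_X, Pi.single_eq_of_ne hj.symm, Pi.single_apply, hj, Ne.symm hj]
          · simp
        show D (f i) = _
        rw [hDD, hs]
        simp only [Finset.sum_apply, Pi.smul_apply, smul_eq_mul, ← hDD]
        rfl
      show Φ ψ ∈ Submodule.span (P ⧸ J) (Set.range col)
      rw [key]
      exact Submodule.sum_mem _ fun j _ => Submodule.smul_mem _ _ (Submodule.subset_span ⟨j, rfl⟩)
    · intro v hv
      have hv' : v ∈ Submodule.span (P ⧸ J) (Set.range col) := hv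
      clear hv
      induction hv' using Submodule.span_induction with
      | mem v hv =>
          obtain ⟨j, rfl⟩ := hv
          obtain ⟨ψ, hψ, hψc⟩ := hcol j
          exact ⟨ψ, Submodule.subset_span hψ, hψc⟩
      | zero => exact zero_mem _
      | add x y hx hy ihx ihy => exact add_mem ihx ihy
      | smul c x hx ih =>
          obtain ⟨r, rfl⟩ := Ideal.Quotient.mk_surjective c
          exact Submodule.smul_mem _ r ih
  refine ⟨(Submodule.Quotient.equiv _ _ e₀ hmap).trans
    (Submodule.Quotient.restrictScalarsEquiv P (Submodule.span (P ⧸ J) (Set.range col))), fun φ => rfl⟩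

end Groth.Agent.S11302
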