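import Groth.Statements.S11306
import Mathlib

set_option autoImplicit false
universe u
open TensorProduct
open CAlg

namespace Groth.Agent.S11306
open TensorProduct in
theorem free_of_eq_rank (A : Type u) [CommRing A] [IsDomain A] [IsNoetherianRing A] [IsLocalRing A]
    (M : Type u) [AddCommGroup M] [Module A M] [Module.Finite A M] (r : ℕ)
    (hk : Module.finrank (IsLocalRing.ResidueField A) (IsLocalRing.ResidueField A ⊗[A] M) = r)
    (hK : Module.finrank (FractionRing A) (FractionRing A ⊗[A] M) = r) :
    Nonempty ((Fin r → A) ≃ₗ[A] M) := by
  classical
  let b : Module.Basis (Fin r) (IsLocalRing.ResidueField A) (IsLocalRing.ResidueField A ⊗[A] M) :=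
    Module.finBasisOfFinrankEq _ _ hk
  choose m hm using fun i => TensorProduct.mk_surjective A M (IsLocalRing.ResidueField A)
    IsLocalRing.residue_surjective (b i)
  let f := Fintype.linearCombination A m
  have hf : Function.Surjective f := by
    rw [← LinearMap.range_eq_top]
    have : Submodule.span A (Set.range m) = ⊤ := by
      exact IsLocalRing.span_eq_top_of_tmul_eq_basis m b hm
    rw [← this, Fintype.range_linearCombination]
  have hinj : Function.Injective f := by
    let K := FractionRing A
    have hsurj : Function.Surjective (f.baseChange K) := LinearMap.lTensor_surjective K hf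
    have hdim : Module.finrank K (K ⊗[A] (Fin r → A)) = r := by
      rw [Module.finrank_baseChange, Module.finrank_fin_fun]
    have hinjK : Function.Injective (f.baseChange K) :=
      (LinearMap.injective_iff_surjective_of_finrank_eq_finrank (hdim.trans hK.symm)).2 hsurj
    intro x y hxy
    have h1 : (1 : K) ⊗ₜ[A] x = (1 : K) ⊗ₜ[A] y := hinjK (by simp [hxy])
    funext i
    apply IsFractionRing.injective A K
    have h2 := congrArg (fun z => TensorProduct.rid A K (LinearMap.lTensor K (LinearMap.proj (R := A) (φ := fun _ : Fin r => A) i) z)) h1
    simpa [Algebra.smul_def] using h2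
  exact ⟨LinearEquiv.ofBijective f ⟨hinj, hf⟩⟩


/-- Take a Noetherian local domain A, with residue field k and fraction field K, and let M be a finitely
generated A-module. If k ⊗_A M and K ⊗_A M have the same dimension r (over k and over K
respectively), then M is a free A-module of rank r. -/
theorem result (A : Type u) [CommRing A] [IsDomain A]
    [IsNoetherianRing A] [IsLocalRing A] (M : Type u) [AddCommGroup M] [Module A M] [Module.Finite A M] (r : ℕ)
    (hk : Module.finrank (IsLocalRing.ResidueField A) (IsLocalRing.ResidueField A ⊗[A] M) = r)
    (hK : Module.finrank (FractionRing A) (FractionRing A ⊗[A] M) = r) :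
    Module.Free A M ∧ Module.finrank A M = r := by
  obtain ⟨e⟩ := free_of_eq_rank A M r hk hK
  exact ⟨Module.Free.of_equiv e, by rw [← e.finrank_eq, Module.finrank_fin_fun]⟩


end Groth.Agent.S11306
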