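import Groth.Statements.S11308
import Groth.Agent.RegBlow6.Geometry
import Groth.Agent.RegBlow6.Regular
import Groth.Agent.KRegLib.Closed
import Groth.Agent.S4991

set_option autoImplicit false
set_option linter.style.haveILetI false
set_option backward.isDefEq.respectTransparency false
set_option backward.isDefEq.respectTransparency.types false
universe u
open CategoryTheory CategoryTheory.Limits AlgebraicGeometry
open NonsingVar

namespace Groth.Agent.S11308

/-- Let k be an algebraically closed field, X a nonsingular variety over k (an integral scheme,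
separated and of finite type over k, all of whose local rings are regular), Y a nonsingular closed
subvariety of X (an integral closed subscheme all of whose local rings are regular) with ideal sheaf
I, and π : X~ → X a blowing-up of X with respect to I, characterised by its universal property. Then
X~ is nonsingular: all of its local rings are regular. -/
theorem result (k : Type u) [Field k] [IsAlgClosed k]
    (X : Scheme.{u}) [X.Over (Spec (CommRingCat.of k))] [IsIntegral X] [IsSeparated (X ↘ (Spec (CommRingCat.of k)))]
    [LocallyOfFiniteType (X ↘ (Spec (CommRingCat.of k)))] [QuasiCompact (X ↘ (Spec (CommRingCat.of k)))]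
    (hreg : ∀ x : ↥X, IsRegularLocalRing ↑(X.presheaf.stalk x))
    (Y : Scheme.{u}) (i : Y ⟶ X) [IsClosedImmersion i] [IsIntegral Y]
    (hregY : ∀ y : ↥Y, IsRegularLocalRing ↑(Y.presheaf.stalk y))
    (Xt : Scheme.{u}) (π : Xt ⟶ X) (hπ : BlowUp.IsBlowUp π i.ker) :
    ∀ z : ↥Xt, IsRegularLocalRing ↑(Xt.presheaf.stalk z) := by
  haveI := LocallyOfFiniteType.isLocallyNoetherian (X ↘ Spec (CommRingCat.of k))
  haveI : IsLocallyNoetherian Y := LocallyOfFiniteType.isLocallyNoetherian i
  have hlci : Groth.Agent.KRegLib.IsLCI' i := by
    rw [Groth.Agent.KRegLib.isLCI'_iff]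
    intro U V hU hV e
    letI := (i.appLE V U e).hom.toAlgebra
    haveI := Groth.Agent.KRegLib.isRegularRing_sections hreg hV
    haveI := Groth.Agent.KRegLib.isRegularRing_sections hregY hU
    haveI : Algebra.FiniteType Γ(X, V) Γ(Y, U) := i.finiteType_appLE hV hU e
    exact Groth.Agent.KRegLib.isLCI_of_regular _ _
  have hri := Groth.Agent.KRegLib.regClosed_of_isLCI' i hlci
  intro z
  haveI : IsProper π := Groth.Agent.BlowUpLib.isProper_of_isBlowUp i.ker hπ fun U => by
    haveI : IsNoetherianRing Γ(X, U.1) := IsLocallyNoetherian.component_noetherian U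
    exact IsNoetherian.noetherian _
  haveI := LocallyOfFiniteType.isLocallyNoetherian π
  let E := BlowUp.exceptional π i.ker
  by_cases hz : z ∈ Set.range E.subschemeι
  · obtain ⟨y, rfl⟩ := hz
    have hle : i.ker ≤ (E.subschemeι ≫ π).ker := by
      rw [← Scheme.IdealSheafData.map_ker, Scheme.IdealSheafData.le_map_iff_comap_le,
        Scheme.IdealSheafData.ker_subschemeι]
    let g := IsClosedImmersion.lift i (E.subschemeι ≫ π) hle
    have hg : g ≫ i = E.subschemeι ≫ π := IsClosedImmersion.lift_fac _ _ _
    haveI := Groth.Agent.RegBlow6.smooth_exceptional i hri π hπ g hg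
    haveI : IsRegularLocalRing (Y.presheaf.stalk (g y)) := hregY _
    haveI : IsRegularLocalRing (E.subscheme.presheaf.stalk y) :=
      (Groth.Agent.S4991.result g y ⟨⊤, trivial, inferInstance⟩).2 inferInstance
    exact Groth.Agent.RegBlow6.isRegularLocalRing_of_effCartier hπ.1 y
  · have hz' : π z ∈ ModPair.interior i.ker := by
      intro h
      refine hz ?_
      rw [Scheme.IdealSheafData.range_subschemeι]
      show z ∈ ((i.ker.comap π).support : Set Xt)
      rw [Scheme.IdealSheafData.support_comap]
      exact h
    haveI := Groth.Agent.BlowUpLib.isIso_restrict hπ (ModPair.interior i.ker) le_rfl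
    haveI : IsOpenImmersion ((π ⁻¹ᵁ ModPair.interior i.ker).ι ≫ π) := by
      rw [← morphismRestrict_ι]; infer_instance
    haveI : IsIso (π.stalkMap z) := by
      have h1 : IsIso (((π ⁻¹ᵁ ModPair.interior i.ker).ι ≫ π).stalkMap ⟨z, hz'⟩) := inferInstance
      rw [Scheme.Hom.stalkMap_comp] at h1
      exact @IsIso.of_isIso_comp_right _ _ _ _ _ (π.stalkMap z)
        ((π ⁻¹ᵁ ModPair.interior i.ker).ι.stalkMap ⟨z, hz'⟩) inferInstance h1
    haveI := hreg (π z)
    exact IsRegularLocalRing.of_ringEquiv (asIso (π.stalkMap z)).commRingCatIsoToRingEquiv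


end Groth.Agent.S11308
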