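import Groth.Statements.S5021
import Groth.Agent.S5019
import Groth.Agent.S5976
import Groth.Agent.S5020
import Groth.Agent.S9370
import Groth.Agent.S1488
import Groth.Agent.GrpOmega.Section
import Groth.Agent.Synt29.OmegaExists
import Groth.Agent.KFlatLib.Perfect.Top
import Groth.Agent.QCoh.LocFree
-- import your own Groth.Agent.* helpers here

set_option autoImplicit false
set_option linter.style.haveILetI false
universe u
open CategoryTheory CategoryTheory.Limits AlgebraicGeometry TopologicalSpace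
open Unram17

namespace Groth.Agent.S5021

/-- Let f : X ⟶ Y be smooth and j : X' ⟶ X a quasi-compact immersion such that j ≫ f is smooth. Then for
every point x of X' there are an open neighbourhood U of x and an integer n with the conormal sheaf
of j free of rank n on U, and the local dimension at j(x) of the fibre of f through j(x) equals the
local dimension at x of the fibre of j ≫ f through x plus n. (The published statement allows any
immersion j; this row assumes j quasi-compact, the case in which the conormal sheaf used here is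
known to be the conormal sheaf of j.) -/
theorem result {X' X Y : Scheme.{u}} (f : X ⟶ Y) [Smooth f]
    (j : X' ⟶ X) [IsImmersion j] [QuasiCompact j] [Smooth (j ≫ f)] (x : ↥X') :
    ∃ (U : X'.Opens) (n : ℕ), x ∈ U ∧ Nonempty ((Omega.conormal j).restrict U.ι ≅ FlatMod.freeMod (↑U) n) ∧
      FlatMor.fibreDimAt f (j.base x) = FlatMor.fibreDimAt (j ≫ f) x + (n : WithBot ℕ∞) := by
  obtain ⟨ΩX, dX, hX⟩ := Groth.Agent.Synt29.OmegaExists.exists_isUniversal f
  obtain ⟨Ω', d', h'⟩ := Groth.Agent.Synt29.OmegaExists.exists_isUniversal (j ≫ f)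
  obtain ⟨φ, hφ⟩ := Groth.Agent.GrpOmega.exists_conormalDiff f j ΩX dX
  obtain ⟨c, hc, -⟩ := Groth.Agent.S9370.result f (j ≫ f) j (𝟙 Y) (Category.comp_id _) ΩX dX hX Ω' d' h'
  haveI : Mono φ := Groth.Agent.S5020.result j f ((Groth.Agent.S1488.result (j ≫ f)).mp inferInstance).2 ΩX dX hX φ hφ
  haveI : Epi c := (Groth.Agent.S5976.result f j ΩX dX hX Ω' d' h' φ hφ c hc).1
  have w := Groth.Agent.Synt29.ConormalSeq.comp_eq_zero f j ΩX dX Ω' d' φ hφ c hc
  have hS : (ShortComplex.mk φ c w).ShortExact :=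
    { exact := Groth.Agent.Synt29.ConormalSeq.exact_conormal_diffCompat f j ΩX dX hX Ω' d' h' φ hφ c hc w
      mono_f := inferInstance
      epi_g := inferInstance }
  have hfX : FlatMod.IsFinLocFree ΩX := fun y => by
    obtain ⟨U, n, hy, he, -⟩ := Groth.Agent.S5019.result f ΩX dX hX y
    exact ⟨U, n, hy, he⟩
  have hf' : FlatMod.IsFinLocFree Ω' := fun y => by
    obtain ⟨U, n, hy, he, -⟩ := Groth.Agent.S5019.result (j ≫ f) Ω' d' h' y
    exact ⟨U, n, hy, he⟩
  have hfA := Groth.Agent.KFlatLib.isFinLocFree_pullback j hfX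
  have hfC : FlatMod.IsFinLocFree (Omega.conormal j) :=
    Groth.Agent.H23.PullPush.isFinLocFree_of_iso
      (IsLimit.conePointUniqueUpToIso (kernelIsKernel c) hS.fIsKernel) (Groth.Agent.KFlatLib.isFinLocFree_kernel c hfA hf')
  obtain ⟨U, n, hxU, ⟨e⟩⟩ := hfC x
  obtain ⟨UX, a, hxX, ⟨eX⟩, hda⟩ := Groth.Agent.S5019.result f ΩX dX hX (j.base x)
  obtain ⟨U', b, hx', ⟨e'⟩, hdb⟩ := Groth.Agent.S5019.result (j ≫ f) Ω' d' h' x
  refine ⟨U, n, hxU, ⟨e⟩, ?_⟩
  rw [hda, hdb]
  suffices h : a = b + n by rw [h]; rfl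
  have rk : ∀ {M : X'.Modules} (hM : FlatMod.IsFinLocFree M) {W : X'.Opens} {m : ℕ} (hxW : x ∈ W)
      (_ : M.restrict W.ι ≅ FlatMod.freeMod (W : Scheme.{u}) m),
      Module.finrank (X'.presheaf.stalk x) ((DerSch.stalkFunctor X' x).obj M) = m := by
    intro M hM W m hxW eM
    obtain ⟨_, ⟨V, hV, rfl⟩, hxV, hVW⟩ := X'.isBasis_affineOpens.exists_subset_of_mem_open hxW W.2
    obtain ⟨l⟩ := Groth.Agent.QCoh.free_sections hV hVW eM
    exact Groth.Agent.QCoh.finrank_stalk_of_freeChart hV (Groth.Agent.QCoh.isQCoh_of_isFinLocFree hM) l hxV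
  have hC := rk hfC hxU e
  have hB := rk hf' hx' e'
  have hA := rk hfA (W := j ⁻¹ᵁ UX) (m := a) hxX
    (((Groth.Agent.H23.PullPush.pullRestrictIso j UX).app ΩX).symm ≪≫
      (Scheme.Modules.pullback (j ∣_ UX)).mapIso eX ≪≫ Groth.Agent.KFlatLib.pullFreeIso _ a)
  haveI : Module.Free (X'.presheaf.stalk x) ((DerSch.stalkFunctor X' x).obj Ω') :=
    Groth.Agent.QCoh.free_stalk_of_isFinLocFree hf' x
  haveI : Module.Free (X'.presheaf.stalk x) ((DerSch.stalkFunctor X' x).obj (Omega.conormal j)) :=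
    Groth.Agent.QCoh.free_stalk_of_isFinLocFree hfC x
  haveI : Module.Finite (X'.presheaf.stalk x) ((DerSch.stalkFunctor X' x).obj Ω') :=
    Groth.Agent.QCoh.finite_stalk_of_isFT (Groth.Agent.QCoh.isQCoh_of_isFinLocFree hf')
      (Groth.Agent.QCoh.isFT_of_isFP (Groth.Agent.QCoh.isFP_of_isFinLocFree hf')) x
  haveI : Module.Finite (X'.presheaf.stalk x) ((DerSch.stalkFunctor X' x).obj (Omega.conormal j)) :=
    Groth.Agent.QCoh.finite_stalk_of_isFT (Groth.Agent.QCoh.isQCoh_of_isFinLocFree hfC)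
      (Groth.Agent.QCoh.isFT_of_isFP (Groth.Agent.QCoh.isFP_of_isFinLocFree hfC)) x
  have hs := (Groth.Agent.KFlatLib.shortExact_iff_stalk _).1 hS x
  have hsurj : Function.Surjective ((DerSch.stalkFunctor X' x).map c).hom := hs.moduleCat_surjective_g
  obtain ⟨σ, hσ⟩ := Module.projective_lifting_property ((DerSch.stalkFunctor X' x).map c).hom LinearMap.id hsurj
  let sp := (((ShortComplex.ShortExact.moduleCat_exact_iff_function_exact _).1 hs.exact).splitSurjectiveEquiv hs.moduleCat_injective_f) ⟨σ, hσ⟩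
  let l : (DerSch.stalkFunctor X' x).obj ((Scheme.Modules.pullback j).obj ΩX) ≃ₗ[X'.presheaf.stalk x]
      ((DerSch.stalkFunctor X' x).obj (Omega.conormal j) × (DerSch.stalkFunctor X' x).obj Ω') := sp.1
  rw [← hA, ← hB, ← hC, l.finrank_eq, Module.finrank_prod]
  omega


end Groth.Agent.S5021
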