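import Groth.Statements.S11309
import Groth.Agent.H28.PBMake
import Groth.Agent.H28.ExcBundle
import Groth.Agent.H28.PBFreeK
import Groth.Agent.H23.ProjBd.BcBundle
import Groth.Agent.Approx.ProperModel
import Groth.Agent.SmoothImmX.Basic
import Groth.Agent.CurveCohLib.RegularCurve
import Groth.Agent.S5021

set_option autoImplicit false
universe u
open CategoryTheory CategoryTheory.Limits AlgebraicGeometry TopologicalSpace Opposite
open scoped HomogeneousIdeal
noncomputable section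
open NonsingVar

namespace Groth.Agent.S11309
set_option linter.style.haveILetI false
set_option linter.unusedSectionVars false
set_option backward.isDefEq.respectTransparency false
set_option backward.isDefEq.respectTransparency.types false

section
open Groth.Agent Groth.Agent.AModX Groth.Agent.SymAlgX Groth.Agent.PBlow TopologicalSpace Opposite

variable {Y : Scheme.{u}} {E : Y.Modules} {𝒮 : RelProj.QCGrAlg Y} {j : E ⟶ 𝒮.toModule}

/-- The relative `Proj` of a graded symmetric algebra of a module with frames is its projective bundle. -/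
theorem exists_relProj_projBundle (hq : Coh.IsQCoh E) (hj : RelProj.IsGrSymAlg E 𝒮 j)
    (hfr : ∀ x : Y, ∃ (U : Y.Opens) (n : ℕ) (b : Fin (n + 1) → Γ(E, U)), x ∈ U ∧ H23.Frame.IsFrame E b) :
    ∃ (P : Scheme.{u}) (p : P ⟶ Y) (chart : ∀ (U : Y.Opens) (hU : IsAffineOpen U),
        (((p ⁻¹ᵁ U : P.Opens) : Scheme.{u}) ≅ Proj (𝒮.deg U hU)))
      (O1 : P.Modules) (q : (Scheme.Modules.pullback p).obj E ⟶ O1),
      RelProj.IsRelProj 𝒮 p chart ∧ KRR.IsProjBundle p E O1 q := by
  obtain ⟨P, p, chart, hP⟩ := Proj16.exists_isRelProj 𝒮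
  obtain ⟨O1, lam, hO1⟩ := RelTildeX.Exists.exists_isRelTwist (𝒮 := 𝒮) p chart hP 1
  have hgen : 𝒮.IsGenDegOne := SymAlgX.isGenDegOne hq hj
  have hinv : FlatMod.IsFinLocFreeOfRank 1 O1 :=
    H28.PBCores.isInvertible_iff_rank.1 (RelTildeX.isInvertible_twist hgen hO1)
  obtain ⟨φ, hφ⟩ := H28.PBHom.exists_hom hj hO1 hP hgen
  let q := ((Scheme.Modules.pullbackPushforwardAdjunction p).homEquiv E O1).symm φ
  refine ⟨P, p, chart, O1, q, hP, H28.PBExist.isProjBundle q hinv fun x => ?_⟩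
  obtain ⟨W, n, b₀, hxW, hb₀⟩ := hfr x
  obtain ⟨_, ⟨U, hU, rfl⟩, hxU, hUW⟩ := Y.isBasis_affineOpens.exists_subset_of_mem_open hxW W.isOpen
  let b : Fin (n + 1) → Γ(E, U) := fun i => E.presheaf.map (homOfLE hUW).op (b₀ i)
  have hb : H23.Frame.IsFrame E b := hb₀.res hUW
  obtain ⟨D, hD, hT⟩ := H28.PBMake.exists_pres hq hj hU b hb
  refine ⟨U, n, b, hxU,
    H28.PBExist.good_of_coords q b hb (H23.ProjBd.coordsOfPres hP hU D hD hO1) fun l => ?_⟩
  have h1 : φ.app U (b l) = sig q b l := by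
    show _ = q.app (p ⁻¹ᵁ U) (InvX.pullElt p (b l))
    rw [← ((Scheme.Modules.pullbackPushforwardAdjunction p).homEquiv E O1).apply_symm_apply φ,
      Adjunction.homEquiv_unit]
    rfl
  refine Eq.trans ?_ ((hφ U hU (b l)).symm.trans h1)
  show H23.ProjBd.sd hU D l hO1 = H28.PBHom.fund hj hO1 U hU (b l)
  refine H28.PBHom.eq_of_val hO1 hU le_rfl _ _ fun y => ?_
  have ha := H23.ProjBd.val_sd hU D l hO1 (le_rfl : p ⁻¹ᵁ U ≤ p ⁻¹ᵁ U) y
  have hc := H28.PBHom.val_fund hj hO1 hU (b l) (le_rfl : p ⁻¹ᵁ U ≤ p ⁻¹ᵁ U) y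
  rw [res_self] at ha hc
  rw [ha, hc, hT]

/-- A relative `Proj` can be transported along an isomorphism over the base. -/
theorem exists_chart_of_iso {P Z : Scheme.{u}} (p : P ⟶ Y) (chart : ∀ (U : Y.Opens) (hU : IsAffineOpen U),
      (((p ⁻¹ᵁ U : P.Opens) : Scheme.{u}) ≅ Proj (𝒮.deg U hU))) (hP : RelProj.IsRelProj 𝒮 p chart)
    (θ : Z ≅ P) (q : Z ⟶ Y) (hθ : θ.hom ≫ p = q) :
    ∃ chart' : ∀ (U : Y.Opens) (hU : IsAffineOpen U),
        (((q ⁻¹ᵁ U : Z.Opens) : Scheme.{u}) ≅ Proj (𝒮.deg U hU)),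
      RelProj.IsRelProj 𝒮 q chart' := by
  subst hθ
  refine ⟨fun U hU => asIso (θ.hom ∣_ (p ⁻¹ᵁ U)) ≪≫ chart U hU, ⟨fun U hU => ?_, fun U hU r => ?_⟩⟩
  · simp only [Iso.trans_hom, asIso_hom, Category.assoc]
    rw [hP.chart_over U hU, ← Category.assoc, morphismRestrict_ι, Category.assoc]
    rfl
  · simp only [Iso.trans_hom, asIso_hom, Category.assoc]
    rw [← hP.chart_res U hU r]
    simp only [← Category.assoc]
    congr 1
    rw [← cancel_mono (p ⁻¹ᵁ U).ι]
    simp only [Category.assoc, morphismRestrict_ι, Scheme.homOfLE_ι, Scheme.homOfLE_ι_assoc]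
    exact (Category.assoc _ _ _).symm.trans (congrArg (· ≫ θ.hom) (Z.homOfLE_ι _))

/-- A graded symmetric algebra of the zero module has empty `Proj`. -/
theorem isEmpty_proj (hq : Coh.IsQCoh E) (hj : RelProj.IsGrSymAlg E 𝒮 j) (hz : IsZero E)
    (U : Y.Opens) (hU : IsAffineOpen U) : IsEmpty ↥(Proj (𝒮.deg U hU)) := by
  haveI := QCoh.subsingleton_Γ_of_isZero hz U
  have hdeg : ∀ y, y ∈ 𝒮.deg U hU 0 := fun y => by
    obtain ⟨s, rfl⟩ := (liftAt_bijective hq 𝒮.toQCAlg hj.1 hU).2 y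
    induction s using SymmetricAlgebra.induction with
    | algebraMap r => rw [liftAt_algebraMap]; exact 𝒮.str_mem U hU r
    | ι m => rw [Subsingleton.elim m 0, map_zero, map_zero]; exact zero_mem _
    | mul a b ha hb => rw [map_mul]; exact (zero_add (0 : ℕ)) ▸ SetLike.mul_mem_graded ha hb
    | add a b ha hb => rw [map_add]; exact add_mem ha hb
  refine ⟨fun x => x.not_irrelevant_le fun y hy => ?_⟩
  have h0 := hdeg y
  have h1 : y = 0 := by
    have h2 := (HomogeneousIdeal.mem_irrelevant_iff (𝒮.deg U hU) y).1 hy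
    rw [GradedRing.proj_apply, DirectSum.decompose_of_mem_same _ h0] at h2
    exact h2
  rw [h1]
  exact zero_mem _

theorem exists_chart_of_isEmpty {Z : Scheme.{u}} [IsEmpty Z] (q : Z ⟶ Y)
    (hE : ∀ (U : Y.Opens) (hU : IsAffineOpen U), IsEmpty ↥(Proj (𝒮.deg U hU))) :
    ∃ chart : ∀ (U : Y.Opens) (hU : IsAffineOpen U),
        (((q ⁻¹ᵁ U : Z.Opens) : Scheme.{u}) ≅ Proj (𝒮.deg U hU)),
      RelProj.IsRelProj 𝒮 q chart := by
  have h1 : ∀ U : Y.Opens, IsEmpty ((q ⁻¹ᵁ U : Z.Opens) : Scheme.{u}) := fun U =>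
    ⟨fun z => IsEmpty.false (α := Z) z.1⟩
  exact ⟨fun U hU => haveI := h1 U; haveI := hE U hU;
      IsInitial.uniqueUpToIso isInitialOfIsEmpty isInitialOfIsEmpty,
    ⟨fun U hU => haveI := h1 U; isInitialOfIsEmpty.hom_ext _ _,
      fun U hU r => haveI := h1 (Y.basicOpen r); isInitialOfIsEmpty.hom_ext _ _⟩⟩

/-- A regular closed subscheme of codimension zero of an integral scheme has zero ideal. -/
theorem ker_eq_bot_of_rank_zero {X : Scheme.{u}} [IsIntegral X] [IsLocallyNoetherian X] (i : Y ⟶ X) [Nonempty Y]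
    (hi : Mor2.IsRegularClosedImmersion i) (hC : FlatMod.IsFinLocFreeOfRank 0 (Omega.conormal i)) :
    i.ker = ⊥ := by
  haveI := hi.1
  obtain ⟨z⟩ := (inferInstance : Nonempty Y)
  obtain ⟨U, hU, hzU, n, a, k, hn, -, hJ, -, -⟩ := H28.ExcCharts.exists_local i hi hC z
  subst hn
  have hJ0 : i.ker.ideal ⟨U, hU⟩ = ⊥ := by
    rw [hJ]
    simp [Set.range_eq_empty]
  refine Scheme.IdealSheafData.ext (funext fun V => ?_)
  rw [Scheme.IdealSheafData.ideal_bot]
  refine (Submodule.eq_bot_iff _).2 fun x hx => ?_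
  by_cases hV : Nonempty V.1
  · obtain ⟨v⟩ := hV
    have hd : ((U ⊓ V.1 : X.Opens) : Set X).Nonempty :=
      nonempty_preirreducible_inter U.2 V.1.2 ⟨_, hzU⟩ ⟨v.1, v.2⟩
    obtain ⟨w, hw⟩ := hd
    obtain ⟨_, ⟨W, hW, rfl⟩, hwW, hWUV⟩ := X.isBasis_affineOpens.exists_subset_of_mem_open hw (U ⊓ V.1).isOpen
    haveI : Nonempty W := ⟨⟨w, hwW⟩⟩
    have hWU : W ≤ U := fun y hy => (hWUV hy).1
    have hWV : W ≤ V.1 := fun y hy => (hWUV hy).2
    refine map_injective_of_isIntegral X (homOfLE hWV) ?_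
    rw [map_zero]
    have h1 : i.ker.ideal ⟨W, hW⟩ = ⊥ := by
      rw [← i.ker.map_ideal (U := ⟨W, hW⟩) (V := ⟨U, hU⟩) hWU, hJ0, Ideal.map_bot]
    have h2 : X.presheaf.map (homOfLE hWV).op x ∈ i.ker.ideal ⟨W, hW⟩ := by
      rw [← i.ker.map_ideal (U := ⟨W, hW⟩) (V := V) hWV]
      exact Ideal.mem_map_of_mem _ hx
    rwa [h1] at h2
  · haveI : Subsingleton Γ(X, V.1) := by
      have hb : V.1 = ⊥ := le_bot_iff.1 fun y hy => (hV ⟨⟨y, hy⟩⟩).elim
      rw [hb]
      exact CommRingCat.subsingleton_of_isTerminal X.sheaf.isTerminalOfEmpty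
    exact Subsingleton.elim _ _

theorem isEmpty_of_effCartier_bot {Z : Scheme.{u}} (h : BlowUp.IsEffCartierIdeal (⊥ : Z.IdealSheafData)) :
    IsEmpty Z := by
  refine ⟨fun x => ?_⟩
  obtain ⟨U, hx, f, hf, hU⟩ := h x
  rw [Scheme.IdealSheafData.ideal_bot] at hU
  have hf0 : f = 0 := by
    have h2 : f ∈ Ideal.span {f} := Ideal.mem_span_singleton_self f
    rw [← hU] at h2
    exact h2
  haveI : Nonempty U.1 := ⟨⟨x, hx⟩⟩
  haveI : Nontrivial Γ(Z, U.1) := inferInstance
  exact nonZeroDivisors.ne_zero hf hf0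

theorem isPullback_exceptional {X Xt : Scheme.{u}} (i : Y ⟶ X) [IsClosedImmersion i] (π : Xt ⟶ X)
    (q : (BlowUp.exceptional π i.ker).subscheme ⟶ Y)
    (hq : q ≫ i = (BlowUp.exceptional π i.ker).subschemeι ≫ π) :
    IsPullback (BlowUp.exceptional π i.ker).subschemeι q π i := by
  have h := (Approx.isPullback_comap π i.ker).flip
  refine h.of_iso (Iso.refl _) (Iso.refl _) (asIso i.toImage).symm (Iso.refl _) (by simp) ?_ (by simp) ?_
  · simp only [Iso.symm_hom, asIso_inv, Iso.refl_hom, Category.id_comp]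
    rw [IsIso.comp_inv_eq, ← cancel_mono i.imageι, Category.assoc q, Scheme.Hom.toImage_imageι, hq]
    exact h.w.symm
  · simp only [Iso.symm_hom, asIso_inv, Iso.refl_hom, Category.comp_id]
    rw [IsIso.eq_inv_comp, Scheme.Hom.toImage_imageι]

end


/-- Let k be an algebraically closed field, X a nonsingular variety over k (integral, separated and of
finite type over k, all local rings regular), i : Y → X a nonsingular closed subvariety (an integral
closed subscheme with regular local rings) with ideal sheaf I, and π : X~ → X a blowing-up of X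
along I (universal property). Let Y′ be the closed subscheme of X~ defined by the inverse image
ideal I·O_{X~} and q : Y′ → Y the induced projection (the unique morphism with q followed by i equal
to the inclusion of Y′ followed by π). Let S be a graded symmetric algebra of the conormal sheaf
I/I² of Y in X (a quasi-coherent O_Y-module). Then Y′ together with q is a relative Proj of S over
Y, that is, Y′ is isomorphic over Y to the projective space bundle P(I/I²): there is a family of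
charts over the affine opens of Y exhibiting q as Proj of S. -/
theorem result (k : Type u) [Field k] [IsAlgClosed k]
    (X : Scheme.{u}) [X.Over (Spec (CommRingCat.of k))] [IsIntegral X] [IsSeparated (X ↘ (Spec (CommRingCat.of k)))]
    [LocallyOfFiniteType (X ↘ (Spec (CommRingCat.of k)))] [QuasiCompact (X ↘ (Spec (CommRingCat.of k)))]
    (hreg : ∀ x : ↥X, IsRegularLocalRing ↑(X.presheaf.stalk x))
    (Y : Scheme.{u}) (i : Y ⟶ X) [IsClosedImmersion i] [IsIntegral Y]
    (hregY : ∀ y : ↥Y, IsRegularLocalRing ↑(Y.presheaf.stalk y))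
    (Xt : Scheme.{u}) (π : Xt ⟶ X) (hπ : BlowUp.IsBlowUp π i.ker)
    (q : (BlowUp.exceptional π i.ker).subscheme ⟶ Y)
    (hq : q ≫ i = (BlowUp.exceptional π i.ker).subschemeι ≫ π)
    (hE : Coh.IsQCoh (Omega.conormal i))
    (𝒮 : RelProj.QCGrAlg Y) (j : Omega.conormal i ⟶ 𝒮.toModule)
    (h𝒮 : RelProj.IsGrSymAlg (Omega.conormal i) 𝒮 j) :
    ∃ chart : ∀ (U : Y.Opens) (hU : IsAffineOpen U),
        (((q ⁻¹ᵁ U : ((BlowUp.exceptional π i.ker).subscheme).Opens) : Scheme.{u}) ≅ Proj (𝒮.deg U hU)),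
      RelProj.IsRelProj 𝒮 q chart := by
  let f := X ↘ Spec (CommRingCat.of k)
  haveI : Smooth f := Groth.Agent.CurveCohLib.RegularCurve.smooth_of_regular k fun x _ => hreg x
  letI : Y.Over (Spec (CommRingCat.of k)) := ⟨i ≫ f⟩
  haveI : LocallyOfFiniteType (Y ↘ Spec (CommRingCat.of k)) := inferInstanceAs (LocallyOfFiniteType (i ≫ f))
  haveI : Smooth (i ≫ f) := Groth.Agent.CurveCohLib.RegularCurve.smooth_of_regular k (X := Y) fun y _ => hregY y
  haveI : IsLocallyNoetherian X := LocallyOfFiniteType.isLocallyNoetherian f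
  have hi : Mor2.IsRegularClosedImmersion i := Groth.Agent.SmoothImmX.regClosed_of_smooth f i
  have hlf : FlatMod.IsFinLocFree (Omega.conormal i) := fun x => by
    obtain ⟨U, n, hxU, hn, -⟩ := Groth.Agent.S5021.result f i x
    exact ⟨U, n, hxU, hn⟩
  obtain ⟨d, hC⟩ := Groth.Agent.H28.KvbModel.exists_rank hlf
  rcases Nat.eq_zero_or_pos d with rfl | hd
  · have hker := ker_eq_bot_of_rank_zero i hi hC
    haveI : IsEmpty Xt := isEmpty_of_effCartier_bot (by
      have := hπ.1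
      rwa [hker, (Scheme.IdealSheafData.map_gc π).l_bot] at this)
    haveI : IsEmpty (BlowUp.exceptional π i.ker).subscheme :=
      Function.isEmpty (BlowUp.exceptional π i.ker).subschemeι
    exact exists_chart_of_isEmpty q fun U hU => isEmpty_proj hE h𝒮
      (Groth.Agent.H28.PBAtlas.isZero_of_frames fun y => Groth.Agent.H28.KvbModel.frameAt_of_rank hC y) U hU
  · obtain ⟨φ, -, hQ⟩ := Groth.Agent.H28.ExcBundle.exists_isProjBundle hi hd hC hπ (isPullback_exceptional i π q hq)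
    obtain ⟨P, p, chart, O1, qP, hP, hPB⟩ := exists_relProj_projBundle hE h𝒮 fun x => by
      obtain ⟨U, hxU, ⟨e⟩⟩ := hC x
      obtain ⟨m, rfl⟩ : ∃ m, d = m + 1 := Nat.exists_eq_add_of_le' hd
      obtain ⟨b, hb⟩ := Groth.Agent.H23.Frame.exists_frame e
      exact ⟨U, m, b, hxU, hb⟩
    obtain ⟨θ, hθ, -⟩ := Groth.Agent.H23.ProjBd.exists_iso_of_projBundle hPB hQ (Iso.refl _)
    exact exists_chart_of_iso p chart hP θ q hθ


end Groth.Agent.S11309
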