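import Groth.Statements.S11311
import Groth.Agent.CotTLib.SmoothField
import Groth.Agent.CoeffField.Smooth

set_option autoImplicit false
universe u
open CAlg

namespace Groth.Agent.S11311
open IsLocalRing TensorProduct in
theorem kct_bij (k B : Type u) [Field k] [CommRing B] [IsLocalRing B] [Algebra k B]
    (hres : Function.Bijective (algebraMap k (ResidueField B))) :
    Function.Bijective (KaehlerDifferential.kerCotangentToTensor k B (ResidueField B)) := by
  have : Algebra.FormallySmooth k (ResidueField B) :=
    Algebra.FormallySmooth.of_equiv (AlgEquiv.ofBijective (Algebra.ofId k _) hres)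
  have hf : Function.Surjective (algebraMap B (ResidueField B)) := residue_surjective
  let f := IsScalarTower.toAlgHom k B (ResidueField B)
  have h1 : Function.Surjective f.kerSquareLift := Function.Surjective.of_comp (g := Ideal.Quotient.mk _) hf
  let g := Algebra.FormallySmooth.liftOfSurjective (AlgHom.id k (ResidueField B)) f.kerSquareLift h1
    ⟨2, (congrArg (· ^ 2) (AlgHom.ker_kerSquareLift f)).trans (Ideal.cotangentIdeal_square _)⟩
  obtain ⟨σ, hσ⟩ := (retractionKerCotangentToTensorEquivSection (R := k) hf).symm
    ⟨g, AlgHom.ext fun x => Algebra.FormallySmooth.liftOfSurjective_apply (AlgHom.id k _) f.kerSquareLift h1 _ x⟩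
  refine ⟨Function.LeftInverse.injective (g := σ) fun x => LinearMap.congr_fun hσ x, fun y => ?_⟩
  have hΩ : Subsingleton Ω[ResidueField B⁄k] :=
    KaehlerDifferential.subsingleton_of_surjective k (ResidueField B) hres.2
  exact (KaehlerDifferential.exact_kerCotangentToTensor_mapBaseChange k B (ResidueField B) hf y).1
    (Subsingleton.elim _ _)

open IsLocalRing TensorProduct in
theorem finrank_cot (k B : Type u) [Field k] [CommRing B] [IsLocalRing B] [IsNoetherianRing B] [Algebra k B]
    (hres : Function.Bijective (algebraMap k (ResidueField B))) :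
    (maximalIdeal B).spanFinrank = Module.finrank (ResidueField B) (ResidueField B ⊗[B] Ω[B⁄k]) := by
  rw [IsLocalRing.spanFinrank_maximalIdeal_eq_finrank_cotangentSpace]
  let k' := KaehlerDifferential.kerCotangentToTensor k B (ResidueField B)
  have hker : maximalIdeal B = RingHom.ker (algebraMap B (ResidueField B)) := Ideal.mk_ker.symm
  have gen : ∀ J : Ideal B, maximalIdeal B = J → Nonempty ((maximalIdeal B).Cotangent ≃ₗ[B] J.Cotangent) :=
    fun J h => by subst h; exact ⟨LinearEquiv.refl _ _⟩
  obtain ⟨e00⟩ := gen _ hker
  let e0 : (maximalIdeal B).Cotangent ≃+ (RingHom.ker (algebraMap B (ResidueField B))).Cotangent :=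
    e00.toAddEquiv
  let e1 : CotangentSpace B ≃+ ResidueField B ⊗[B] Ω[B⁄k] :=
    e0.trans (AddEquiv.ofBijective k'.toAddMonoidHom (kct_bij k B hres))
  refine LinearEquiv.finrank_eq { e1 with map_smul' := fun c x => ?_ }
  obtain ⟨c, rfl⟩ := residue_surjective c
  show e1 (algebraMap B (ResidueField B) c • x) = algebraMap B (ResidueField B) c • e1 x
  rw [algebraMap_smul, algebraMap_smul]
  show k' (e00 (c • x)) = c • k' (e00 x)
  rw [map_smul, map_smul]

open IsLocalRing TensorProduct in
theorem fs_of_regular (k B P : Type u) [Field k] [CommRing B] [IsRegularLocalRing B] [Algebra k B]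
    [CommRing P] [IsRegularLocalRing P] [Algebra k P] [Algebra P B] [IsScalarTower k P B]
    [Algebra.FormallySmooth k P] [Module.Free P Ω[P⁄k]] [Module.Finite P Ω[P⁄k]]
    (hres : Function.Bijective (algebraMap k (ResidueField B)))
    (hsurj : Function.Surjective (algebraMap P B)) : Algebra.FormallySmooth k B := by
  have hPK : Function.Surjective (algebraMap P (ResidueField B)) := by
    rw [IsScalarTower.algebraMap_eq P B (ResidueField B)]
    exact residue_surjective.comp hsurj
  have : Algebra.FormallySmooth k (ResidueField B) :=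
    Algebra.FormallySmooth.of_equiv (AlgEquiv.ofBijective (Algebra.ofId k _) hres)
  obtain ⟨σ, hσ⟩ := (Algebra.FormallySmooth.iff_split_injection (P := P) hPK).1 ‹_›
  have hker : RingHom.ker (algebraMap P (ResidueField B)) = maximalIdeal P :=
    IsLocalRing.eq_maximalIdeal (RingHom.ker_isMaximal_of_surjective _ hPK)
  refine (Algebra.FormallySmooth.iff_injective_cotangentComplexBaseChange_residueField P hsurj
    (IsNoetherian.noetherian _)).2 ?_
  refine (injective_iff_map_eq_zero _).2 fun z hz => ?_
  obtain ⟨f, rfl⟩ := TensorProduct.mk_surjective P _ _ hPK z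
  simp only [TensorProduct.mk_apply, KaehlerDifferential.cotangentComplexBaseChange_tmul, one_smul] at hz
  rw [KaehlerDifferential.kerToTensor_apply] at hz
  have hfK : f.1 ∈ RingHom.ker (algebraMap P (ResidueField B)) := by
    rw [RingHom.mem_ker, IsScalarTower.algebraMap_apply P B (ResidueField B), show
      algebraMap P B f.1 = 0 from f.2, map_zero]
  have hsq : f.1 ∈ maximalIdeal P ^ 2 := by
    rw [← hker]
    refine (Ideal.toCotangent_eq_zero _ ⟨f.1, hfK⟩).1 ?_
    have h1 := LinearMap.congr_fun hσ ((RingHom.ker (algebraMap P (ResidueField B))).toCotangent ⟨f.1, hfK⟩)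
    rw [LinearMap.comp_apply, KaehlerDifferential.kerCotangentToTensor_toCotangent, hz, map_zero] at h1
    exact h1.symm
  have hmem : f.1 ∈ maximalIdeal P * RingHom.ker (algebraMap P B) :=
    (Groth.Agent.CotTLib.regSurj _ P B _ hsurj le_rfl).1 ⟨f.2, hsq⟩
  have hfin : ∃ hy : f.1 ∈ RingHom.ker (algebraMap P B),
      (1 : ResidueField B) ⊗ₜ[P] (⟨f.1, hy⟩ : RingHom.ker (algebraMap P B)) = 0 := by
    refine Submodule.mul_induction_on hmem (fun c hc w hw => ⟨Ideal.mul_mem_left _ c hw, ?_⟩)
      fun a b ⟨ha, ha'⟩ ⟨hb, hb'⟩ => ⟨add_mem ha hb, ?_⟩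
    · rw [show (⟨c * w, Ideal.mul_mem_left _ c hw⟩ : RingHom.ker (algebraMap P B)) = c • ⟨w, hw⟩ from rfl,
        ← TensorProduct.smul_tmul, ← Algebra.algebraMap_eq_smul_one,
        show algebraMap P (ResidueField B) c = 0 from hker.ge hc, zero_tmul]
    · rw [show (⟨a + b, add_mem ha hb⟩ : RingHom.ker (algebraMap P B)) = ⟨a, ha⟩ + ⟨b, hb⟩ from rfl,
        tmul_add, ha', hb', add_zero]
  exact hfin.2

open IsLocalRing in
theorem fs_of_regular_eft (k B : Type u) [Field k] [CommRing B] [IsRegularLocalRing B] [Algebra k B]
    [Algebra.EssFiniteType k B] (hres : Function.Bijective (algebraMap k (ResidueField B))) :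
    Algebra.FormallySmooth k B := by
  let S₀ := Algebra.EssFiniteType.subalgebra k B
  obtain ⟨n, f₀, hf₀⟩ := Algebra.FiniteType.iff_quotient_mvPolynomial''.mp
    (inferInstance : Algebra.FiniteType k S₀)
  let g : MvPolynomial (Fin n) k →ₐ[k] B := S₀.val.comp f₀
  let Q := (maximalIdeal B).comap g.toRingHom
  have : Q.IsPrime := Ideal.IsPrime.comap _
  let P := Localization.AtPrime Q
  let fP : P →ₐ[k] B := IsLocalization.liftAlgHom (M := Q.primeCompl) (f := g) fun x =>
    IsLocalRing.notMem_maximalIdeal.1 x.2
  have hf₁ : Function.Surjective fP := by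
    intro x
    obtain ⟨x, s, rfl⟩ := IsLocalization.exists_mk'_eq (Algebra.EssFiniteType.submonoid k B) x
    obtain ⟨x, rfl⟩ := hf₀ x
    obtain ⟨t, ht⟩ := hf₀ s.1
    have hu : IsUnit (g t) := by
      show IsUnit ((f₀ t : S₀) : B)
      rw [ht]; exact s.2
    have htQ : t ∈ Q.primeCompl := fun h => (IsLocalRing.notMem_maximalIdeal.2 hu) h
    refine ⟨IsLocalization.mk' P x (⟨t, htQ⟩ : Q.primeCompl), ?_⟩
    rw [eq_comm, IsLocalization.mk'_eq_iff_eq_mul, ← ht]
    show g x = fP _ * g t
    have h1 : ∀ y, fP (algebraMap _ P y) = g y := fun y => IsLocalization.lift_eq _ y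
    rw [← h1 t, ← map_mul, IsLocalization.mk'_spec, h1]
  letI : Algebra P B := fP.toRingHom.toAlgebra
  haveI : IsScalarTower k P B := .of_algebraMap_eq fun a => (fP.commutes a).symm
  have : IsRegularLocalRing P := IsRegularRing.isRegularLocalRing_localization Q
  have : Algebra.FormallyEtale (MvPolynomial (Fin n) k) P := .of_isLocalization Q.primeCompl
  have : Algebra.FormallySmooth k P := .comp _ (MvPolynomial (Fin n) k) _
  have : Module.Free P Ω[P⁄k] :=
    .of_equiv (KaehlerDifferential.tensorKaehlerEquivOfFormallyEtale k (MvPolynomial (Fin n) k) P)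
  have : Module.Finite P Ω[P⁄k] :=
    .equiv (KaehlerDifferential.tensorKaehlerEquivOfFormallyEtale k (MvPolynomial (Fin n) k) P)
  exact fs_of_regular k B P hres hf₁


/-- Let k be a field and B a local ring containing k whose residue field is k (the composite k → B → B/m
is bijective), and which is a localization of a finitely generated k-algebra (essentially of finite
type over k); let d = dim B. If the module of differentials Ω_{B/k} is free of rank d then B is a
regular local ring. Conversely, if k is perfect and B is a regular local ring, then Ω_{B/k} is free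
of rank d. (The published statement assumes k perfect as one of its hypotheses and asserts the
equivalence; its proof of the first implication does not use perfectness, so that hypothesis is
placed on the converse only.) -/
theorem result (k B : Type u) [Field k] [CommRing B] [Algebra k B]
    [IsLocalRing B] [Algebra.EssFiniteType k B]
    (hres : Function.Bijective (algebraMap k (IsLocalRing.ResidueField B)))
    (d : ℕ) (hd : ringKrullDim B = (d : WithBot ℕ∞)) :
    ((Module.Free B (KaehlerDifferential k B) ∧ Module.finrank B (KaehlerDifferential k B) = d) →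
        IsRegularLocalRing B) ∧
      (PerfectField k → IsRegularLocalRing B →
        Module.Free B (KaehlerDifferential k B) ∧ Module.finrank B (KaehlerDifferential k B) = d) := by
  haveI : IsNoetherianRing B := Algebra.EssFiniteType.isNoetherianRing k B
  have hk := finrank_cot k B hres
  constructor
  · rintro ⟨hfree, hrk⟩
    haveI := hfree
    rw [Module.finrank_baseChange, hrk] at hk
    rw [isRegularLocalRing_iff, hk, hd]
  · intro _ hreg
    haveI := hreg
    haveI : Algebra.FormallySmooth k B := fs_of_regular_eft k B hres
    haveI : Module.FinitePresentation B Ω[B⁄k] := Module.finitePresentation_of_finite _ _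
    haveI : Module.Free B Ω[B⁄k] := Module.free_of_flat_of_isLocalRing
    refine ⟨inferInstance, ?_⟩
    rw [Module.finrank_baseChange] at hk
    have h := (isRegularLocalRing_iff B).1 hreg
    rw [hk, hd] at h
    exact_mod_cast h


end Groth.Agent.S11311
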