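import Groth.Statements.S11316
import Groth.Agent.Lib.DualRange
import Groth.Agent.Lib.PnDualSheafHom
import Groth.Agent.Lib.RegDescent
import Groth.Agent.S10934

set_option autoImplicit false
set_option backward.isDefEq.respectTransparency false
set_option backward.isDefEq.respectTransparency.types false
set_option linter.style.haveILetI false
set_option linter.unusedSectionVars false
set_option maxHeartbeats 400000
universe u
open CategoryTheory CategoryTheory.Limits AlgebraicGeometry
attribute [local instance] HasDerivedCategory.standard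
open ProjDual

namespace Groth.Agent.S11316

open CategoryTheory CategoryTheory.Limits AlgebraicGeometry

/-- Let k be an algebraically closed field and X a closed subscheme of some P^N_k, of dimension n, which
is Cohen–Macaulay (every local ring of X is Cohen–Macaulay) and equidimensional (every irreducible
component of X has dimension n); let (ω, t) be a dualizing sheaf for X, i.e. ω is coherent, t :
H^n(X, ω) → k is k-linear, and for every coherent F and every k-linear form ψ on H^n(X, F) there is
exactly one φ : F → ω with ψ = t ∘ H^n(φ). Then for every finite locally free O_X-module F for which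
the internal Hom functor Hom_{O_X}(F, -) exists (right adjoint of F ⊗ -) and every i ≤ n, the k-dual
of H^i(X, F) is isomorphic to H^(n-i)(X, Hom_{O_X}(F, ω)). (Existence of a k-linear isomorphism
only; the published statement writes the second module as H^(n-i)(X, F^∨ ⊗ ω) and obtains the
isomorphism from the duality maps θ^i.) -/
theorem result
    (k : Type u) [Field k] [IsAlgClosed k] (N n : ℕ) (X : Scheme.{u}) [X.Over (Spec (CommRingCat.of k))]
    (ι : X ⟶ CohB1.ProjSpace N k) [IsClosedImmersion ι] (hι : ι ≫ CohB1.ProjSpace.toSpec N k = X ↘ Spec (CommRingCat.of k))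
    (hn : topologicalKrullDim ↥X = n)
    (hCM : ∀ x : X, LocCoh.IsCohenMacaulayLocalRing (X.presheaf.stalk x))
    (heq : ∀ Z : Set ↥X, Z ∈ irreducibleComponents ↥X → topologicalKrullDim ↥Z = (n : WithBot ℕ∞))
    (ω : X.Modules) (hω : Coh.IsCoh ω) (t : Coh.HH X ω n →ₗ[k] k)
    (hdual : ∀ F : X.Modules, Coh.IsCoh F → ∀ ψ : Coh.HH X F n →ₗ[k] k,
        ∃! φ : F ⟶ ω, ∀ x : Coh.HH X F n,
          ψ x = t (Sheaf.H.map ((SheafOfModules.toSheaf X.ringCatSheaf).map φ) n x))
    (F : X.Modules) (hF : FlatMod.IsFinLocFree F) [DCoh.HasSheafHom F] (i : ℕ) (hi : i ≤ n) :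
    Nonempty (Module.Dual k (Coh.HH X F i) ≃ₗ[k] Coh.HH X ((DCoh.sheafHom F).obj ω) (n - i)) := by
  haveI hP := NegVanStalk.noetherian k N
  haveI : IsLocallyNoetherian X := LocallyOfFiniteType.isLocallyNoetherian ι
  haveI : LocallyOfFiniteType (CohB1.ProjSpace.toSpec N k) := by
    haveI := CurveEmbed.smooth_toSpec N k
    infer_instance
  haveI : LocallyOfFiniteType (X ↘ Spec (CommRingCat.of k)) := hι ▸ inferInstance
  haveI : HasExt.{u} X.Modules := IsGrothendieckAbelian.hasExt _
  have hCM' : ∀ x : X, IsClosed ({x} : Set ↥X) →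
      LocCoh.IsCohenMacaulayLocalRing (X.presheaf.stalk x) ∧ ringKrullDim (X.presheaf.stalk x) = n :=
    fun x hx => ⟨hCM x, le_antisymm ((SchTop.ringKrullDim_stalk_le x).trans hn.le)
      (ExtShCodim.le_ringKrullDim_stalk (X ↘ Spec (CommRingCat.of k)) n heq x hx)⟩
  have hvan : ∀ p, p < n → n ≤ p + n → ∃ m₀ : ℤ, ∀ m : ℤ, m₀ ≤ m →
      Subsingleton (Coh.HH X (DualRange.tw ι (-m)) p) := by
    intro p hp _
    obtain ⟨q₀, hq⟩ := (S10934.result k N n ι hn).1 hCM' (Coh.structureModule X)
      (H23.PullPush.isFinLocFree_of_isInvertible InvX.isInvertible_structureModule)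
    refine ⟨q₀, fun m hm => ?_⟩
    have h := hq m.toNat (by omega) p hp
    rw [Int.toNat_of_nonneg (by omega)] at h
    let w : CohB1.tensorMod (Coh.structureModule X) (DualRange.tw ι (-m)) ≅ DualRange.tw ι (-m) :=
      (H23.PicMul.comm _ (DualRange.tw ι (-m))).some ≪≫ KFlatLib.tensorUnitIso (DualRange.tw ι (-m))
    exact QCoh.subsingleton_HH_of_iso w p h
  obtain ⟨e₁⟩ := DualRange.nonempty_equiv ι hω t hdual n hvan (CurveDeg.isCoh_of_isFinLocFree hF) (n - i)
    (Nat.sub_le n i) (Nat.sub_le n i)
  obtain ⟨e₂⟩ := PnDual.nonempty_ext_linearEquiv_HH (A := k) hF ω (n - i)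
  rw [show n - (n - i) = i by omega] at e₁
  let σ : DCoh.sheafHom F ≅ SheafHomX.hom F :=
    ((DCoh.sheafHomAdj F).ofNatIsoLeft (CurveHiggs.flipIso (X := X) F).symm).rightAdjointUniq (SheafHomX.adj F)
  have hb : Function.Bijective (Canon.HHlin k (σ.app ω).inv (n - i)) :=
    Function.bijective_iff_has_inverse.2 ⟨Canon.HHlin k (σ.app ω).hom (n - i),
      fun x => by rw [PnDual.HHlin_comp, Iso.inv_hom_id, PnDual.HHlin_id],
      fun x => by rw [PnDual.HHlin_comp, Iso.hom_inv_id, PnDual.HHlin_id]⟩
  exact ⟨e₁.symm ≪≫ₗ e₂ ≪≫ₗ LinearEquiv.ofBijective _ hb⟩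

end Groth.Agent.S11316
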