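import Groth.Agent.S5668
import Groth.Agent.HodgeSym.Pairing
import Groth.Agent.Lib.SmoothAdapted
import Groth.Agent.AmpleVan.LiftFibre
import Groth.Agent.H23.PullPush
import Groth.Agent.PnCoh.Chow.Proper
import Groth.Statements.S11317
-- import your own Groth.Agent.* helpers here

set_option autoImplicit false
universe u
open CategoryTheory CategoryTheory.Limits AlgebraicGeometry
open ProjDual

namespace Groth.Agent.S11317

/-- Let k be an algebraically closed field and X a nonsingular projective variety of dimension n over k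
— an integral k-scheme, smooth of relative dimension n over k, with a closed immersion into some
P^N_k over k. Let p, q ≤ n and let L and L' be O_X-modules which are a p-th, respectively an
(n-p)-th, exterior power of the sheaf of differentials of X over k. Then H^q(X, L) and H^(n-q)(X,
L') have the same dimension over k: h^q(Ω^p) = h^(n-q)(Ω^(n-p)). (The published statement gives a
natural isomorphism of H^q(X, Ω^p) with the dual of H^(n-q)(X, Ω^(n-p)); this row records the
equality of dimensions.) -/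
theorem result (k : Type u) [Field k] [IsAlgClosed k] (n N : ℕ)
    (X : Scheme.{u}) [X.Over (Spec (CommRingCat.of k))] [IsIntegral X]
    [SmoothOfRelativeDimension n (X ↘ Spec (CommRingCat.of k))]
    (ι : X ⟶ CohB1.ProjSpace N k) [IsClosedImmersion ι] (hι : ι ≫ CohB1.ProjSpace.toSpec N k = X ↘ Spec (CommRingCat.of k))
    (p q : ℕ) (hp : p ≤ n) (hq : q ≤ n) (L L' : X.Modules)
    (hL : ExtPow.IsExtPow p (Omega.sheaf (X ↘ Spec (CommRingCat.of k))) L)
    (hL' : ExtPow.IsExtPow (n - p) (Omega.sheaf (X ↘ Spec (CommRingCat.of k))) L') :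
    Module.finrank k (Coh.HH X L q) = Module.finrank k (Coh.HH X L' (n - q)) := by
  haveI : Smooth (X ↘ Spec (CommRingCat.of k)) := SmoothOfRelativeDimension.smooth n _
  haveI : IsProper (X ↘ Spec (CommRingCat.of k)) := by
    haveI := Groth.Agent.PnCoh.Chow.isProper_toSpec N k
    rw [← hι]; infer_instance
  have hfr : ∀ x : X, ∃ (U : X.Opens) (s : Fin n → Γ(Omega.sheaf (X ↘ Spec (CommRingCat.of k)), U)), x ∈ U ∧
      Groth.Agent.H23.Frame.IsFrame (Omega.sheaf (X ↘ Spec (CommRingCat.of k))) s := fun x =>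
    let ⟨U, _, _, _, _, hxU, s, hs⟩ := Groth.Agent.SmoothAdapted.exists_frame_omega (X ↘ Spec (CommRingCat.of k)) n x
    ⟨U, s, hxU, hs⟩
  have hM : FlatMod.IsFinLocFree (Omega.sheaf (X ↘ Spec (CommRingCat.of k))) := fun x =>
    let ⟨U, s, hxU, hs⟩ := hfr x
    ⟨U, n, hxU, Groth.Agent.H23.Frame.exists_iso_of_frame s hs⟩
  have hLf : FlatMod.IsFinLocFree L := by
    obtain ⟨W, hW, hWe⟩ := Groth.Agent.H28.ExtSh.exists_extPow (m := p) hM
    obtain ⟨e⟩ := Groth.Agent.H28.ExtSh.nonempty_iso hM hWe hL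
    exact Groth.Agent.H23.PullPush.isFinLocFree_of_iso e hW
  obtain ⟨K, _, hK⟩ := Groth.Agent.H28.ExtSh.exists_extPow (m := n) hM
  obtain ⟨μA, hμA, bA⟩ := Groth.Agent.H28.ExtSh.exists_mu hL'
  obtain ⟨μL, hμL, bL⟩ := Groth.Agent.H28.ExtSh.exists_mu hL
  obtain ⟨μK, hμK, bK⟩ := Groth.Agent.H28.ExtSh.exists_mu hK
  obtain ⟨eA⟩ := Groth.Agent.HodgeSym.exists_iso (h := Nat.sub_add_cancel hp) μA hμA bA μL hμL bL μK hμK bK
    (Groth.Agent.QCoh.isFP_of_isFinLocFree hLf) hfr
  haveI : DCoh.HasSheafHom L :=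
    ⟨_, ⟨(Groth.Agent.SheafHomX.adj L).ofNatIsoLeft ((Groth.Agent.KFlatLib.tensorBiFlipIso X).app L)⟩⟩
  obtain ⟨e⟩ := Groth.Agent.S5668.result k n N X ι hι K hK L hLf q hq
  rw [← Subspace.dual_finrank_eq (K := k) (V := Coh.HH X L q), e.finrank_eq]
  exact (Groth.Agent.CurveCohLib.hhEquiv (k := k)
    ((Groth.Agent.AmpleVan.sheafHomIso L).app K ≪≫ eA.symm) (n - q)).finrank_eq

end Groth.Agent.S11317
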