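import Groth.Statements.S11318
-- import your own Groth.Agent.* helpers here

set_option autoImplicit false
set_option backward.isDefEq.respectTransparency false
set_option backward.isDefEq.respectTransparency.types false
universe u
open CategoryTheory AlgebraicGeometry
open ProjDual

namespace Groth.Agent.S11318

/-- Let k be a field, X a proper k-scheme of dimension n, and (ω, t), (ω', t') two dualizing sheaves for
X: each is a coherent O_X-module with a k-linear map on its n-th cohomology to k such that for every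
coherent F and every k-linear form ψ on H^n(X, F) there is exactly one morphism from F into it
through which ψ factors. Then there is exactly one morphism φ : ω → ω' with t = t' ∘ H^n(φ), and
this φ is an isomorphism. -/
theorem result (k : Type u) [Field k] (X : Scheme.{u}) [X.Over (Spec (CommRingCat.of k))]
    [IsProper (X ↘ Spec (CommRingCat.of k))] (n : ℕ) (hn : topologicalKrullDim ↥X = n)
    (ω ω' : X.Modules) (hω : Coh.IsCoh ω) (hω' : Coh.IsCoh ω')
    (t : Coh.HH X ω n →ₗ[k] k) (t' : Coh.HH X ω' n →ₗ[k] k)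
    (hd : ∀ F : X.Modules, Coh.IsCoh F → ∀ ψ : Coh.HH X F n →ₗ[k] k,
        ∃! φ : F ⟶ ω, ∀ x : Coh.HH X F n,
          ψ x = t (Sheaf.H.map ((SheafOfModules.toSheaf X.ringCatSheaf).map φ) n x))
    (hd' : ∀ F : X.Modules, Coh.IsCoh F → ∀ ψ : Coh.HH X F n →ₗ[k] k,
        ∃! φ : F ⟶ ω', ∀ x : Coh.HH X F n,
          ψ x = t' (Sheaf.H.map ((SheafOfModules.toSheaf X.ringCatSheaf).map φ) n x)) :
    ∃ φ : ω ⟶ ω', IsIso φ ∧
      (∀ x : Coh.HH X ω n, t x = t' (Sheaf.H.map ((SheafOfModules.toSheaf X.ringCatSheaf).map φ) n x)) ∧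
      ∀ ψ : ω ⟶ ω', (∀ x : Coh.HH X ω n, t x = t' (Sheaf.H.map ((SheafOfModules.toSheaf X.ringCatSheaf).map ψ) n x)) → ψ = φ := by
  obtain ⟨φ, hφ, huφ⟩ := hd' ω hω t
  obtain ⟨χ, hχ, -⟩ := hd ω' hω' t'
  have key : ∀ {M N P : X.Modules} (a : M ⟶ N) (b : N ⟶ P) (x : Coh.HH X M n),
      Sheaf.H.map ((SheafOfModules.toSheaf X.ringCatSheaf).map (a ≫ b)) n x =
        Sheaf.H.map ((SheafOfModules.toSheaf X.ringCatSheaf).map b) n
          (Sheaf.H.map ((SheafOfModules.toSheaf X.ringCatSheaf).map a) n x) := fun a b x => by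
    rw [Functor.map_comp, Sheaf.H.map_comp_apply]
  have keyid : ∀ {M : X.Modules} (x : Coh.HH X M n),
      Sheaf.H.map ((SheafOfModules.toSheaf X.ringCatSheaf).map (𝟙 M)) n x = x := fun x => by
    rw [CategoryTheory.Functor.map_id, Sheaf.H.map_id_apply]
  have h1 : φ ≫ χ = 𝟙 ω := (hd ω hω t).unique
    (fun x => by rw [key, ← hχ, ← hφ]) (fun x => by rw [keyid])
  have h2 : χ ≫ φ = 𝟙 ω' := (hd' ω' hω' t').unique
    (fun x => by rw [key, ← hφ, ← hχ]) (fun x => by rw [keyid])
  exact ⟨φ, ⟨χ, h1, h2⟩, hφ, huφ⟩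

end Groth.Agent.S11318
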