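import Groth.Statements.S11320
import Groth.Agent.SiteBase.FiniteCoverColimitAb

set_option autoImplicit false
universe u
open CategoryTheory CategoryTheory.Limits
open CohTop

namespace Groth.Agent.S11320

/-- On a Noetherian topological space X, the direct limit, in the category of abelian sheaves, of a
directed system (F_i) of flasque abelian sheaves indexed by a nonempty directed preorder is flasque
(all its restriction maps are surjective). -/
theorem result {X : TopCat.{u}} [TopologicalSpace.NoetherianSpace X]
    (ι : Type u) [Preorder ι] [IsDirected ι (· ≤ ·)] [Nonempty ι]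
    (D : ι ⥤ CohTop.Ab X) (hD : ∀ i : ι, TopCat.Sheaf.IsFlasque (D.obj i)) :
    TopCat.Sheaf.IsFlasque (colimit D : CohTop.Ab X) := by
  constructor
  intro U V i
  refine (AddCommGrpCat.epi_iff_surjective _).2 fun x => ?_
  have := SiteBase.preservesColimitsOfShape_sheafToPresheaf_ab (I := ι) (J := Opens.grothendieckTopology X)
    (SiteBase.isQCSite_of_noetherianSpace X)
  let Φ := sheafToPresheaf (Opens.grothendieckTopology X) AddCommGrpCat.{u} ⋙ (evaluation _ _).obj V
  obtain ⟨j, a, ha⟩ := Types.jointly_surjective _ (isColimitOfPreserves (Φ ⋙ CategoryTheory.forget AddCommGrpCat.{u}) (colimit.isColimit D)) x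
  obtain ⟨b, hb⟩ := (AddCommGrpCat.epi_iff_surjective _).1 ((hD j).epi i) a
  exact ⟨(colimit.ι D j).hom.app U b,
    (NatTrans.naturality_apply (colimit.ι D j).hom i b).symm.trans ((congrArg _ hb).trans ha)⟩


end Groth.Agent.S11320
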