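import Groth.Statements.S11321
import Groth.Agent.AssPtX.FlatDvr17
import Groth.Agent.AssPtX.Noeth
import Groth.Agent.ExistEasy.ChowNR.Basic
import Groth.Agent.AlgSpLib.CartierCompl
import Groth.Agent.SchTop.Closed
import Groth.Agent.P1Sym.Finite

set_option backward.isDefEq.respectTransparency false
set_option backward.isDefEq.respectTransparency.types false
set_option linter.style.haveILetI false
-- import your own Groth.Agent.* helpers here

set_option autoImplicit false
universe u
open CategoryTheory CategoryTheory.Limits AlgebraicGeometry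
open FlatMor

namespace Groth.Agent.S11321

theorem assUnit {X : Scheme.{u}} [IsLocallyNoetherian X] (x : X) :
    Curv2.IsAssPoint (Coh.structureModule X) x ↔
      IsAssociatedPrime (IsLocalRing.maximalIdeal (X.presheaf.stalk x)) (X.presheaf.stalk x) := by
  rw [AssPtX.isAssPoint_iff, AssPtX.isWeakAssPoint_unit_iff]
  constructor
  · exact fun h => AssPtX.weakAss_subset_associatedPrimes h
  · intro h
    rw [WeakAss.mem_weakAss_iff]
    obtain ⟨-, m, hm⟩ := h
    exact ⟨m, (AssPtX.radical_eq_maximalIdeal_iff _).1 (by rw [← AssPtX.colon_bot_singleton]; exact hm.symm)⟩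

theorem not_isField_of_flatAt {X Y : Scheme.{u}} [IrreducibleSpace Y] (f : X ⟶ Y) (x : X)
    [IsDomain (Y.presheaf.stalk (f x))] (hflat : (f.stalkMap x).hom.Flat)
    (hx : Curv2.IsAssPoint (Coh.structureModule X) x) : IsField (Y.presheaf.stalk (f x)) := by
  rw [IsLocalRing.isField_iff_maximalIdeal_eq]
  by_contra h0
  obtain ⟨a, ha, ha0⟩ := Submodule.exists_mem_ne_zero_of_ne_bot h0
  letI := (f.stalkMap x).hom.toAlgebra
  haveI : Module.Flat (Y.presheaf.stalk (f x)) (X.presheaf.stalk x) := hflat
  obtain ⟨m, hm⟩ := (AssPtX.isWeakAssPoint_unit_iff x).1 (AssPtX.isAssPoint_iff.1 hx)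
  have hrad := (AssPtX.radical_eq_maximalIdeal_iff _).2 hm
  let α := algebraMap (Y.presheaf.stalk (f x)) (X.presheaf.stalk x) a
  have hα : α ∈ IsLocalRing.maximalIdeal (X.presheaf.stalk x) := by
    rw [IsLocalRing.mem_maximalIdeal] at ha ⊢
    exact fun hu => ha (isUnit_of_map_unit (f.stalkMap x).hom a hu)
  rw [← hrad] at hα
  obtain ⟨n, hn⟩ := hα
  have h1 : (a ^ n) • m = 0 := by
    rw [← IsScalarTower.algebraMap_smul (X.presheaf.stalk x) (a ^ n) m, map_pow]
    exact (Submodule.mem_annihilator_span_singleton m _).1 hn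
  have h2 : m = 0 :=
    (Module.Flat.isSMulRegular_of_nonZeroDivisors (mem_nonZeroDivisors_of_ne_zero (pow_ne_zero n ha0))).right_eq_zero_of_smul h1
  exact hm.1.1.ne_top (top_le_iff.1 (le_trans (by simp [h2, Submodule.annihilator_bot]) hm.1.2))

theorem isSTDom_of_dense {X : Scheme.{u}} (U : X.Opens) (h : CInt.IsSchematicallyDense U) :
    IsSchemeTheoreticallyDominant U.ι := by
  constructor
  refine le_bot_iff.1 fun V s hs => ?_
  have h0 : (U.ι.app V.1).hom s = 0 := Scheme.Hom.ideal_ker_le _ V hs
  show s ∈ (⊥ : X.IdealSheafData).ideal V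
  rw [Scheme.IdealSheafData.ideal_bot, Pi.bot_apply, Ideal.mem_bot]
  refine h V.1 ?_
  rw [map_zero]
  rw [Scheme.Opens.ι_app] at h0
  have e : V.1 ⊓ U ≤ U.ι ''ᵁ (U.ι ⁻¹ᵁ V.1) := fun z hz => ⟨⟨z, hz.2⟩, hz.1, rfl⟩
  rw [Subsingleton.elim (homOfLE (inf_le_left : V.1 ⊓ U ≤ V.1)).op
    ((homOfLE (x := U.ι ''ᵁ (U.ι ⁻¹ᵁ V.1)) (y := V.1) (U.ι.image_preimage_le V.1)).op ≫ (homOfLE e).op),
    Functor.map_comp, CommRingCat.comp_apply]
  exact (congrArg _ h0).trans (map_zero _)

/-- Flat limits over a curve: let Y be a locally Noetherian integral scheme of dimension one all of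
whose local rings are regular local rings, P a closed point of Y with open complement U, V = P^n_U
the inverse image of U in P^n_Y, and X a closed subscheme of V (a closed immersion i : X → V) which
is flat over Y, equivalently over U. Then X extends to a closed subscheme X' of P^n_Y which is flat
over Y and whose restriction to V is X — there are a closed immersion i' : X' → P^n_Y with X' → Y
flat and a morphism j : X → X' making X the fibre product of X' and V over P^n_Y — and such an
extension is unique: for any second one (X'', i'', j'') there is an isomorphism X' ≅ X'' over P^n_Y.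
(The published statement does not say that Y is locally Noetherian; the printed argument, through
associated points and the scheme-theoretic closure, uses it, and this row assumes it.) -/
theorem result
    {Y : Scheme.{u}} [IsIntegral Y] [IsLocallyNoetherian Y] (hreg : ∀ y : Y, IsRegularLocalRing (Y.presheaf.stalk y))
    (hY : topologicalKrullDim ↥Y = 1) (P : Y) (U : Y.Opens) (hU : (U : Set ↥Y) = {P}ᶜ) (n : ℕ)
    (X : Scheme.{u}) (i : X ⟶ ↑(CohB1.ProjSpaceOver.toBase n Y ⁻¹ᵁ U)) [IsClosedImmersion i]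
    [Flat (i ≫ (CohB1.ProjSpaceOver.toBase n Y ⁻¹ᵁ U).ι ≫ CohB1.ProjSpaceOver.toBase n Y)] :
    ∃ (X' : Scheme.{u}) (i' : X' ⟶ CohB1.ProjSpaceOver n Y) (j : X ⟶ X'),
      IsClosedImmersion i' ∧ Flat (i' ≫ CohB1.ProjSpaceOver.toBase n Y) ∧
      IsPullback j i i' (CohB1.ProjSpaceOver.toBase n Y ⁻¹ᵁ U).ι ∧
      ∀ (X'' : Scheme.{u}) (i'' : X'' ⟶ CohB1.ProjSpaceOver n Y) (j'' : X ⟶ X''),
        IsClosedImmersion i'' → Flat (i'' ≫ CohB1.ProjSpaceOver.toBase n Y) →
        IsPullback j'' i i'' (CohB1.ProjSpaceOver.toBase n Y ⁻¹ᵁ U).ι →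
        ∃ e : X' ≅ X'', e.hom ≫ i'' = i' := by
  let π := CohB1.ProjSpaceOver.toBase n Y
  let W := π ⁻¹ᵁ U
  haveI : IsProper π := P1Sym.isProper_toBase n Y
  haveI : IsLocallyNoetherian (CohB1.ProjSpaceOver n Y) := LocallyOfFiniteType.isLocallyNoetherian π
  let j₀ := i ≫ W.ι
  haveI : QuasiCompact j₀ := inferInstance
  let j := j₀.toImage
  let i' := j₀.imageι
  have hji : j ≫ i' = j₀ := j₀.toImage_imageι
  have hker : i.ker ≤ j₀.ker.comap W.ι := by
    refine le_of_eq (Scheme.IdealSheafData.ext (funext fun V => ?_))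
    rw [Scheme.IdealSheafData.ideal_comap_of_isOpenImmersion]
    exact Scheme.ker_ideal_of_isPullback_of_isOpenImmersion j₀ i (𝟙 X) W.ι
      (IsPullback.of_vert_isIso_mono ⟨(Category.id_comp (i ≫ W.ι)).symm⟩) V
  have sq : IsPullback j i i' W.ι := by
    refine IsPullback.flip (isPullback_of_isClosedImmersion i i' j W.ι (by rw [hji]) ?_)
    refine le_antisymm ?_ (hker.trans_eq (congrArg (Scheme.IdealSheafData.comap · W.ι) j₀.ker.ker_subschemeι.symm))
    rw [show i'.ker = j₀.ker from j₀.ker.ker_subschemeι,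
      ← Scheme.IdealSheafData.le_map_iff_comap_le, Scheme.IdealSheafData.map_ker]
  haveI : IsOpenImmersion j := MorphismProperty.of_isPullback (P := @IsOpenImmersion) sq.flip inferInstance
  haveI : IsSchemeTheoreticallyDominant j := ExistEasy.ChowNR.isSTDom_toImage j₀
  have hdense : CInt.IsSchematicallyDense j.opensRange := by
    haveI : IsLocallyNoetherian j₀.image := LocallyOfFiniteType.isLocallyNoetherian i'
    haveI : IsSchemeTheoreticallyDominant j.opensRange.ι := by
      constructor
      rw [← Scheme.Hom.ker_comp_of_isIso j.isoOpensRange.hom j.opensRange.ι]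
      rw [Scheme.Hom.isoOpensRange_hom_ι]
      exact j.ker_eq_bot
    exact AlgSpLib.Cartier.isSchematicallyDense_of_isSchemeTheoreticallyDominant _
  have hreg' : ∀ y : Y, IsRegularLocalRing (Y.presheaf.stalk y) ∧ ringKrullDim (Y.presheaf.stalk y) ≤ 1 :=
    fun y => ⟨hreg y, (SchTop.ringKrullDim_stalk_le y).trans_eq hY⟩
  haveI : IsLocallyNoetherian j₀.image := LocallyOfFiniteType.isLocallyNoetherian i'
  have hflat' : Flat (i' ≫ π) := by
    refine AssPtX.flat_of_assPoints hreg' _ fun x hx => ?_
    obtain ⟨z, rfl⟩ : x ∈ j.opensRange :=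
      (AssPtX.isSchematicallyDense_iff _).1 hdense x ((assUnit x).1 hx)
    haveI : IsDomain (Y.presheaf.stalk ((i' ≫ π) (j z))) := inferInstance
    refine not_isField_of_flatAt _ _ ?_ hx
    haveI : Flat (j ≫ i' ≫ π) := by
      rw [← Category.assoc, hji, Category.assoc]
      infer_instance
    have h1 := Flat.stalkMap (j ≫ i' ≫ π) z
    rw [Scheme.Hom.stalkMap_comp] at h1
    have hb := ConcreteCategory.bijective_of_isIso (inv (j.stalkMap z))
    have h2 := h1.comp (RingHom.Flat.of_bijective hb)
    rw [← CommRingCat.hom_comp, Category.assoc, IsIso.hom_inv_id, Category.comp_id] at h2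
    exact h2
  refine ⟨j₀.image, i', j, inferInstance, hflat', sq, fun X'' i'' j'' hci hfl sq'' => ?_⟩
  haveI := hci
  haveI := hfl
  haveI : IsOpenImmersion j'' := MorphismProperty.of_isPullback (P := @IsOpenImmersion) sq''.flip inferInstance
  haveI : IsLocallyNoetherian X'' := LocallyOfFiniteType.isLocallyNoetherian i''
  have hη : genericPoint Y ∈ U := by
    by_contra hη
    have hη' : genericPoint Y = P := by
      have : genericPoint Y ∈ ({P}ᶜ : Set Y)ᶜ := by rw [← hU]; exact hη
      simpa using this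
    have hc : IsClosed ({P} : Set Y) := by
      have := U.isOpen.isClosed_compl
      rwa [hU, compl_compl] at this
    have hall : ∀ y : Y, y = P := fun y => by
      have h1 : y ∈ closure ({genericPoint Y} : Set Y) := by rw [genericPoint_closure]; trivial
      rwa [hη', hc.closure_eq, Set.mem_singleton_iff] at h1
    haveI : Subsingleton Y := ⟨fun a b => (hall a).trans (hall b).symm⟩
    have := topologicalKrullDim_zero_of_discreteTopology Y
    rw [hY] at this
    exact one_ne_zero (le_antisymm this zero_le_one)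
  have hdense'' : CInt.IsSchematicallyDense j''.opensRange := by
    refine (AssPtX.isSchematicallyDense_iff _).2 fun x hx => ?_
    have hgen := AssPtX.map_eq_genericPoint_of_flat (fun y => inferInstance) (i'' ≫ π) x ((assUnit x).2 hx)
    have hxW : i'' x ∈ W := by
      show (i'' ≫ π) x ∈ U
      rw [hgen]; exact hη
    obtain ⟨z, hz, -⟩ := Scheme.exists_preimage_of_isPullback sq'' x (⟨i'' x, hxW⟩ : W.toScheme) rfl
    exact ⟨z, hz⟩
  haveI := isSTDom_of_dense _ hdense''
  have hj''bot : j''.ker = ⊥ := by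
    rw [← Scheme.Hom.isoOpensRange_hom_ι j'', Scheme.Hom.ker_comp_of_isIso, Scheme.Hom.ker_eq_bot]
  have hk : i'.ker = i''.ker := by
    rw [show i'.ker = j₀.ker from j₀.ker.ker_subschemeι]
    show (i ≫ W.ι).ker = _
    rw [← sq''.w, Scheme.Hom.ker_comp, hj''bot, Scheme.IdealSheafData.map_bot]
  let e := IsClosedImmersion.lift i'' i' hk.ge
  have he : e ≫ i'' = i' := IsClosedImmersion.lift_fac _ _ _
  haveI : IsIso e := IsClosedImmersion.isIso_of_ker_eq i' i'' e he hk
  exact ⟨asIso e, he⟩

end Groth.Agent.S11321
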