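import Groth.Statements.S11323
import Groth.Agent.H9Misc.StalkHomExtMain
import Groth.Agent.H9Misc.PointStalk
import Groth.Agent.H9Misc.ExtSemilinear

set_option autoImplicit false
universe u
open CategoryTheory AlgebraicGeometry TopologicalSpace
open Coherent

namespace Groth.Agent.S11323

/-- Let X be a Noetherian scheme, F a coherent O_X-module, G any O_X-module, x a point of X and i ≥ 0.
Then the stalk at x of the Ext sheaf Ext^i(F, G) — the i-th right derived functor of the internal
Hom functor Hom(F, -) on O_X-modules (its existence and that of injective resolutions are the stated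
instance hypotheses, both true), evaluated at G — is isomorphic, as a module over the local ring at
x, to Ext^i of the stalks F_x, G_x computed in the category of modules over that local ring. (Stalks
are taken as fibres at the point of the site of opens given by x; existence of an isomorphism only.) -/
theorem result (X : Scheme.{u}) [IsNoetherian X]
    (F G : X.Modules) (hF : Coh.IsCoh F)
    [ModSite.HasSheafHom (O := X.sheaf) F] [HasInjectiveResolutions (ModSite.Mod X.sheaf)]
    (x : X) (i : ℕ) :
    Nonempty (ModSite.stalkMod (Opens.pointGrothendieckTopology x) ((ModSite.extSh (O := X.sheaf) F i).obj G)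
      ≃ₗ[ModSite.stalkRing (Opens.pointGrothendieckTopology x) X.sheaf]
      Abelian.Ext (ModSite.stalkMod (O := X.sheaf) (Opens.pointGrothendieckTopology x) F)
        (ModSite.stalkMod (O := X.sheaf) (Opens.pointGrothendieckTopology x) G) i) := by
  haveI : HasInjectiveResolutions X.Modules := ‹HasInjectiveResolutions (ModSite.Mod X.sheaf)›
  let I : InjectiveResolution (C := X.Modules) G := InjectiveResolution.of G
  obtain ⟨a⟩ := ExtShShift.nonempty_extSh_iso I F i
  obtain ⟨b⟩ := H9Misc.StalkHomExt.nonempty_ext I x F hF i
  let e := H9Misc.PointStalk.ringEquiv x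
  let res := ModuleCat.restrictScalars.{u} e.toRingHom
  obtain ⟨c⟩ := H9Misc.ExtSemilinear.nonempty_restrict_ext_iso e ((DerSch.stalkFunctor X x).obj F)
    ((DerSch.stalkFunctor X x).obj G) i
  let d := H9Misc.PointStalk.moduleIso x ((ModSite.extSh (O := X.sheaf) F i).obj G) ≪≫
    res.mapIso ((DerSch.stalkFunctor X x).mapIso a ≪≫ b) ≪≫ c
  exact ⟨d.toLinearEquiv.trans
    (LC.extCongr (H9Misc.PointStalk.moduleIso x F).symm (H9Misc.PointStalk.moduleIso x G).symm i)⟩

end Groth.Agent.S11323
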