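import Groth.Statements.S11324
import Groth.Agent.Lib.ExtShPn
import Groth.Agent.Lib.NegVanClosed
import Groth.Agent.SchTop.Closed
import Groth.Agent.H23.ClosedPushLen

set_option autoImplicit false
set_option backward.isDefEq.respectTransparency false
set_option backward.isDefEq.respectTransparency.types false
set_option linter.style.haveILetI false
set_option linter.unusedSectionVars false
set_option maxHeartbeats 400000
universe u
open CategoryTheory CategoryTheory.Limits AlgebraicGeometry
open ProjDual

namespace Groth.Agent.S11324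

open CategoryTheory CategoryTheory.Limits AlgebraicGeometry

/-- Let k be a field, P = P^N_k, ι : X → P a closed immersion, r a natural number with dim X + r ≤ N (so
X has codimension at least r in P), and ω_P = O_P(-N-1). Then for every i < r the Ext sheaf
Ext^i_{O_P}(ι_* O_X, ω_P) — the i-th right derived functor of the internal Hom functor Hom(ι_* O_X,
-) on O_P-modules (its existence and that of injective resolutions are the stated instance
hypotheses, both true), evaluated at ω_P — is zero. -/
theorem result (k : Type u) [Field k] (N : ℕ)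
    {X : Scheme.{u}} (ι : X ⟶ CohB1.ProjSpace N k) [IsClosedImmersion ι] (r : ℕ)
    (hr : topologicalKrullDim ↥X + (r : WithBot ℕ∞) ≤ (N : WithBot ℕ∞))
    [ModSite.HasSheafHom (O := (CohB1.ProjSpace N k).sheaf) ((Scheme.Modules.pushforward ι).obj (Coh.structureModule X))]
    [HasInjectiveResolutions (ModSite.Mod (CohB1.ProjSpace N k).sheaf)] (i : ℕ) (hi : i < r) :
    IsZero ((ModSite.extSh (O := (CohB1.ProjSpace N k).sheaf)
      ((Scheme.Modules.pushforward ι).obj (Coh.structureModule X)) i).obj
        (Twist.twistProjSpace N k (-((N : ℤ) + 1)))) := by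
  haveI := NegVanStalk.noetherian k N
  haveI : IsLocallyNoetherian X := LocallyOfFiniteType.isLocallyNoetherian ι
  have hO : Coh.IsCoh (Coh.structureModule X) :=
    CurveDeg.isCoh_of_isInvertible InvX.isInvertible_structureModule
  have hG := NegVanClosed.isCoh_push ι hO
  rw [ExtShPn.isZero_extSh_iff hG _ i]
  refine NegVanStalk.stalkExt_of_closed hG i fun y hy => ?_
  haveI := NegVanStalk.isRegular_stalk y
  haveI := NegVanStalk.finite_stalk hG y
  by_cases hy' : y ∈ Set.range ι
  swap
  · haveI := H23.ClosedPushLen.subsingleton_stalk ι (Coh.structureModule X) hy'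
    refine subsingleton_of_forall_eq 0 fun e => ?_
    rw [← Abelian.Ext.mk₀_id_comp e, show 𝟙 (ModuleCat.of ((CohB1.ProjSpace N k).presheaf.stalk y) _) = 0 from
      ModuleCat.hom_ext (LinearMap.ext fun z => Subsingleton.elim (α := ((Coh.push ι).obj (Coh.structureModule X)).presheaf.stalk y) _ _)]
    simp
  obtain ⟨x, rfl⟩ := hy'
  letI : Module ((CohB1.ProjSpace N k).presheaf.stalk (ι x)) ((Coh.structureModule X).presheaf.stalk x) :=
    Module.compHom _ (ι.stalkMap x).hom
  obtain ⟨e⟩ := NegVanClosed.nonempty_stalk_push_equiv ι (Coh.structureModule X) x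
  letI := (ι.stalkMap x).hom.toAlgebra
  let u := LinearEquiv.ofBijective (LinearMap.toSpanSingleton (X.presheaf.stalk x) _ (H23.UnitSec.one x))
    ⟨fun a b h => sub_eq_zero.1 (H23.UnitSec.eq_zero_of_smul_one (a - b) (by rw [sub_smul]; exact sub_eq_zero.2 h)),
      fun m => Submodule.mem_span_singleton.1 ((H23.UnitSec.span_one x).ge (Submodule.mem_top : m ∈ ⊤))⟩
  haveI : IsScalarTower ((CohB1.ProjSpace N k).presheaf.stalk (ι x)) (X.presheaf.stalk x)
      ((Coh.structureModule X).presheaf.stalk x) := IsScalarTower.of_algebraMap_smul fun _ _ => rfl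
  let A := (CohB1.ProjSpace N k).presheaf.stalk (ι x)
  have hsurj : Function.Surjective (algebraMap A (X.presheaf.stalk x)) := ι.stalkMap_surjective x
  let K := RingHom.ker (algebraMap A (X.presheaf.stalk x))
  let q : (A ⧸ K) ≃ₗ[A] X.presheaf.stalk x :=
    (Ideal.quotientKerAlgEquivOfSurjective (f := Algebra.ofId A (X.presheaf.stalk x)) hsurj).toLinearEquiv
  have hdim : Module.supportDim A (((Coh.push ι).obj (Coh.structureModule X)).presheaf.stalk (ι x)) =
      ringKrullDim (X.presheaf.stalk x) := by
    rw [Module.supportDim_eq_of_equiv (e.trans ((q.trans (u.restrictScalars A)).symm)),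
      Module.supportDim_quotient_eq_ringKrullDim]
    exact ringKrullDim_eq_of_ringEquiv (RingHom.quotientKerEquivOfSurjective hsurj)
  haveI : Nonempty X := ⟨x⟩
  obtain ⟨dx, hdx⟩ : ∃ dx : ℕ, topologicalKrullDim X = dx := by
    have h0 : (0 : WithBot ℕ∞) ≤ topologicalKrullDim X := le_trans ringKrullDim_nonneg_of_nontrivial (SchTop.ringKrullDim_stalk_le x)
    have h1 : topologicalKrullDim X ≤ (N : WithBot ℕ∞) := by
      refine le_trans ?_ hr
      exact le_add_of_nonneg_right (by exact_mod_cast Nat.zero_le r)
    generalize topologicalKrullDim X = t at h0 h1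
    induction t using WithBot.recBotCoe with
    | bot => exact absurd h0 (by simp)
    | coe t =>
      induction t using ENat.recTopCoe with
      | top => exact absurd (WithBot.coe_le_coe.1 h1) (by simp)
      | coe t => exact ⟨t, rfl⟩
  rw [hdx] at hr
  have hdr : dx + r ≤ N := by exact_mod_cast hr
  rw [NegVanStalk.stalkExt_iff_H hG (ι x) hy (N - i) i (by omega)]
  refine LC.subsingleton_H_of_supportDim_lt _ _ _ ?_
  rw [hdim]
  refine (SchTop.ringKrullDim_stalk_le x).trans_lt ?_
  rw [hdx]
  exact_mod_cast (show dx < N - i by omega)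

end Groth.Agent.S11324
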