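import Groth.Statements.S11326
import Groth.Agent.Lib.PnDualCoh

set_option autoImplicit false
set_option backward.isDefEq.respectTransparency false
set_option backward.isDefEq.respectTransparency.types false
set_option linter.style.haveILetI false
set_option linter.unusedSectionVars false
set_option maxHeartbeats 400000
universe u
open CategoryTheory AlgebraicGeometry
open ProjDual

namespace Groth.Agent.S11326

open Groth.Agent.PnDual

/-- Let A be a Noetherian ring, r ≥ 1, X = P^r_A and ω = O_X(-r-1). Then there is an A-linear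
isomorphism t : H^r(X, ω) ≅ A such that for every integer n and every A-linear form ψ on H^r(X,
O_X(-n-r-1)) there is exactly one morphism of O_X-modules φ : O_X(-n-r-1) → ω with ψ = t ∘ H^r(φ).
(The published form of the pairing assertion is a perfect pairing H^0(X, O_X(n)) × H^r(X,
O_X(-n-r-1)) → H^r(X, ω) ≅ A of finitely generated free A-modules; here the first factor is written
as Hom(O_X(-n-r-1), ω), which the pairing identifies with H^0(X, O_X(n)), and only the resulting
bijection onto the A-dual of H^r(X, O_X(-n-r-1)) is stated.) -/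
theorem result (A : Type u) [CommRing A]
    [IsNoetherianRing A] (r : ℕ) (hr : 1 ≤ r) :
    ∃ t : Coh.HH (CohB1.ProjSpace r A) (Twist.twistProjSpace r A (-((r : ℤ) + 1))) r ≃ₗ[A] A,
      ∀ (n : ℤ) (ψ : Coh.HH (CohB1.ProjSpace r A) (Twist.twistProjSpace r A (-(n + r + 1))) r →ₗ[A] A),
        ∃! φ : Twist.twistProjSpace r A (-(n + r + 1)) ⟶ Twist.twistProjSpace r A (-((r : ℤ) + 1)),
          ∀ x : Coh.HH (CohB1.ProjSpace r A) (Twist.twistProjSpace r A (-(n + r + 1))) r,
            ψ x = t (Sheaf.H.map ((SheafOfModules.toSheaf (CohB1.ProjSpace r A).ringCatSheaf).map φ) r x) := by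
  obtain ⟨t⟩ := exists_trace' (m := r) (R := A) (b := -((r : ℤ) + 1)) rfl
  refine ⟨t, fun n ψ => ?_⟩
  have hb := bijective_dualityMap_twist' rfl t (-(n + r + 1))
  obtain ⟨φ, hφ⟩ := hb.2 ψ
  refine ⟨φ, fun x => (LinearMap.congr_fun hφ x).symm, fun φ' hφ' => ?_⟩
  refine hb.1 (LinearMap.ext fun x => ?_)
  rw [LinearMap.congr_fun hφ x]
  exact (hφ' x).symm

end Groth.Agent.S11326
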