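import Groth.Statements.S11329
import Mathlib.AlgebraicGeometry.Modules.Tilde
import Mathlib.AlgebraicGeometry.Noetherian
import Mathlib.RingTheory.Filtration
set_option autoImplicit false
universe u
open CategoryTheory AlgebraicGeometry Opposite
open Coherent

namespace Groth.Agent.S11329

open TopologicalSpace Opposite
namespace Aux

variable {A : CommRingCat.{u}} (M : ModuleCat.{u} A)

/-- A section of the associated sheaf. -/
noncomputable def sect (U : (Spec A).Opens) : M →ₗ[A] Γ(tilde M, U) := (tilde.toOpen M U).hom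

/-- Restriction of sections, linearly. -/
noncomputable def res {U V : (Spec A).Opens} (h : V ≤ U) : Γ(tilde M, U) →ₗ[A] Γ(tilde M, V) where
  toFun := (tilde M).presheaf.map (homOfLE h).op
  map_add' := map_add ((tilde M).presheaf.map (homOfLE h).op).hom
  map_smul' r x := Scheme.Modules.map_smul_Spec (homOfLE h).op r x

theorem res_res {U V W : (Spec A).Opens} (h : V ≤ U) (h' : W ≤ V) (x : Γ(tilde M, U)) :
    res M h' (res M h x) = res M (h'.trans h) x := by
  change ((tilde M).presheaf.map (homOfLE h).op ≫ (tilde M).presheaf.map (homOfLE h').op) x = _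
  rw [← Functor.map_comp]
  rfl

theorem res_sect {U V : (Spec A).Opens} (h : V ≤ U) (m : M) : res M h (sect M U m) = sect M V m :=
  congr($(tilde.toOpen_res M U V (homOfLE h)) m)

instance isLocalizedModule_sect (f : A) :
    IsLocalizedModule.Away f (sect M (PrimeSpectrum.basicOpen f)) :=
  inferInstanceAs (IsLocalizedModule.Away f (tilde.toOpen M (PrimeSpectrum.basicOpen f)).hom)

theorem sect_eq_zero {f : A} {m : M} (h : sect M (PrimeSpectrum.basicOpen f) m = 0) : ∃ n : ℕ, f ^ n • m = 0 := by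
  obtain ⟨⟨_, n, rfl⟩, hn⟩ := (IsLocalizedModule.eq_iff_exists (Submonoid.powers f)
    (sect M (PrimeSpectrum.basicOpen f))).1 (h.trans (map_zero _).symm)
  exact ⟨n, by simpa [Submonoid.smul_def] using hn⟩

theorem eq_of_smul {U : (Spec A).Opens} {f : A} (h : U ≤ PrimeSpectrum.basicOpen f) {n : ℕ}
    {x y : Γ(tilde M, U)} (e : f ^ n • x = f ^ n • y) : x = y := by
  induction n with
  | zero => simpa using e
  | succ n ih => exact ih ((tilde M).isSMulRegular_of_le_basicOpen h (by
      rw [pow_succ', mul_smul, mul_smul] at e; exact e))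

/-- Compatible fractions with values in an injective module come from one element. -/
theorem exists_global [IsNoetherianRing A] [Module.Injective A M] {ι : Type u} [Fintype ι] (g : ι → A)
    (m : ι → M) (hm : ∀ i j, g j • m i = g i • m j) :
    ∃ (k : ℕ) (x : M), ∀ j, g j ^ (k + 1) • x = g j ^ k • m j := by
  classical
  let b : Ideal A := Ideal.span (Set.range g)
  let N₀ : Submodule A M := Submodule.span A (Set.range m)
  haveI : Module.Finite A N₀ := Module.Finite.iff_fg.2 (Submodule.fg_span (Set.finite_range m))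
  let T : Submodule A N₀ := ⨅ j, LinearMap.ker (g j • LinearMap.id : N₀ →ₗ[A] N₀)
  obtain ⟨k₀, hk₀⟩ := Ideal.exists_pow_inf_eq_pow_smul b T
  let k := k₀ + 1
  have hkill : b ^ k • (⊤ : Submodule A N₀) ⊓ T = ⊥ := by
    rw [hk₀ k (Nat.le_succ _), show k - k₀ = 1 from Nat.add_sub_cancel_left _ _, pow_one]
    refine le_bot_iff.1 ((Submodule.smul_mono le_rfl inf_le_right).trans (Submodule.smul_le.2 ?_))
    intro r hr t ht
    rw [Submodule.mem_bot]
    induction hr using Submodule.span_induction with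
    | mem r hr =>
      obtain ⟨j, rfl⟩ := hr
      exact (Submodule.mem_iInf _).1 ht j
    | zero => exact zero_smul _ _
    | add a c _ _ ha hc => rw [add_smul, ha, hc, add_zero]
    | smul a c _ hc => rw [smul_eq_mul, mul_smul, hc, smul_zero]
  let Φ : (ι → ↥(b ^ k)) →ₗ[A] N₀ :=
    ∑ i, (LinearMap.toSpanSingleton A N₀ ⟨m i, Submodule.subset_span ⟨i, rfl⟩⟩ ∘ₗ (b ^ k).subtype ∘ₗ
      LinearMap.proj i)
  let p : (ι → ↥(b ^ k)) →ₗ[A] A :=
    ∑ i, (LinearMap.toSpanSingleton A A (g i) ∘ₗ (b ^ k).subtype ∘ₗ LinearMap.proj i)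
  have hΦ : ∀ a, Φ a = ∑ i, (a i : A) • (⟨m i, Submodule.subset_span ⟨i, rfl⟩⟩ : N₀) := fun a => by
    simp [Φ, LinearMap.sum_apply, LinearMap.toSpanSingleton_apply]
  have hp : ∀ a, p a = ∑ i, (a i : A) * g i := fun a => by
    simp [p, LinearMap.sum_apply, LinearMap.toSpanSingleton_apply]
  have hker : LinearMap.ker p ≤ LinearMap.ker ((N₀.subtype) ∘ₗ Φ) := fun a ha => by
    have h1 : Φ a ∈ b ^ k • (⊤ : Submodule A N₀) ⊓ T := by
      refine ⟨hΦ a ▸ Submodule.sum_mem _ fun i _ => Submodule.smul_mem_smul (a i).2 trivial,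
        (Submodule.mem_iInf _).2 fun j => Subtype.ext ?_⟩
      show g j • ((Φ a : N₀) : M) = 0
      rw [hΦ, Submodule.coe_sum, Finset.smul_sum]
      simp only [SetLike.val_smul, smul_smul]
      rw [show (∑ i, (g j * (a i : A)) • m i) = (∑ i, (a i : A) * g i) • m j by
        rw [Finset.sum_smul]
        exact Finset.sum_congr rfl fun i _ => by rw [mul_comm, mul_smul, hm i j, ← mul_smul]]
      rw [← hp, LinearMap.mem_ker.1 ha, zero_smul]
    rw [hkill, Submodule.mem_bot] at h1
    rw [LinearMap.mem_ker, LinearMap.comp_apply, h1, map_zero]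
  let φ : ((ι → ↥(b ^ k)) ⧸ LinearMap.ker p) →ₗ[A] M := (LinearMap.ker p).liftQ _ hker
  let p' : ((ι → ↥(b ^ k)) ⧸ LinearMap.ker p) →ₗ[A] A := (LinearMap.ker p).liftQ p le_rfl
  obtain ⟨ψ, hψ⟩ := Module.Injective.out p'
    (LinearMap.ker_eq_bot.1 (Submodule.ker_liftQ_eq_bot _ _ _ le_rfl)) φ
  refine ⟨k, ψ 1, fun j => ?_⟩
  have hmem : g j ^ k ∈ b ^ k := Ideal.pow_mem_pow (Ideal.subset_span (Set.mem_range_self j)) k
  let a : ι → ↥(b ^ k) := fun i => if i = j then (⟨g j ^ k, hmem⟩ : ↥(b ^ k)) else 0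
  have h1 := hψ (Submodule.Quotient.mk a)
  rw [Submodule.liftQ_apply, Submodule.liftQ_apply, LinearMap.comp_apply, hΦ, hp,
    Finset.sum_eq_single j (fun i _ hi => by simp [a, hi]) (by simp),
    Finset.sum_eq_single j (fun i _ hi => by simp [a, hi]) (by simp)] at h1
  simp only [a, if_true, Submodule.subtype_apply, SetLike.val_smul] at h1
  rw [← pow_succ] at h1
  rw [← map_smul, smul_eq_mul, mul_one]
  exact h1

theorem surjective_sect [IsNoetherianRing A] [Module.Injective A M] (U : (Spec A).Opens) :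
    Function.Surjective (sect M U) := by
  classical
  intro s
  have hb : ∀ x : U, ∃ f : A, x.1 ∈ PrimeSpectrum.basicOpen f ∧ PrimeSpectrum.basicOpen f ≤ U := fun x => by
    obtain ⟨_, ⟨f, rfl⟩, hxf, hle⟩ := PrimeSpectrum.isTopologicalBasis_basic_opens.exists_subset_of_mem_open
      x.2 U.2
    exact ⟨f, hxf, hle⟩
  choose f hxf hfU using hb
  let D' : U → (Spec A).Opens := fun x => PrimeSpectrum.basicOpen (f x)
  obtain ⟨S, hS⟩ := (NoetherianSpace.isCompact (U : Set (Spec A))).elim_finite_subcover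
    (fun x : U => (D' x : Set (Spec A)))
    (fun x => (D' x).isOpen) (fun y hy => Set.mem_iUnion.2 ⟨⟨y, hy⟩, hxf _⟩)
  choose md hmd using fun i : S => IsLocalizedModule.surj (Submonoid.powers (f i.1))
    (sect M (PrimeSpectrum.basicOpen (f i.1))) (res M (hfU i.1) s)
  choose nd hnd using fun i : S => (md i).2.2
  let D : S → (Spec A).Opens := fun i => PrimeSpectrum.basicOpen (f i.1)
  have hloc : ∀ i : S, f i.1 ^ nd i • res M (hfU i.1) s = sect M (D i) (md i).1 := fun i => by
    rw [← hmd i]; exact congrArg (· • res M (hfU i.1) s) (hnd i)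
  have hkill : ∀ i j : S, ∃ n, (f i.1 * f j.1) ^ n •
      (f j.1 ^ nd j • (md i).1 - f i.1 ^ nd i • (md j).1) = 0 := fun i j => by
    refine sect_eq_zero M ?_
    have hi : PrimeSpectrum.basicOpen (f i.1 * f j.1) ≤ D i := PrimeSpectrum.basicOpen_mul_le_left _ _
    have hj : PrimeSpectrum.basicOpen (f i.1 * f j.1) ≤ D j := PrimeSpectrum.basicOpen_mul_le_right _ _
    rw [map_sub, map_smul, map_smul, sub_eq_zero, ← res_sect M hi, ← res_sect M hj, ← hloc, ← hloc,
      map_smul, map_smul, res_res, res_res, smul_comm]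
  choose n hn using hkill
  let K := Finset.univ.sup fun i => Finset.univ.sup (n i)
  have hK : ∀ i j : S, (f i.1 * f j.1) ^ K •
      (f j.1 ^ nd j • (md i).1 - f i.1 ^ nd i • (md j).1) = 0 := fun i j => by
    obtain ⟨e, he⟩ := Nat.exists_eq_add_of_le ((Finset.le_sup (f := n i) (Finset.mem_univ j)).trans
      (Finset.le_sup (f := fun i => Finset.univ.sup (n i)) (Finset.mem_univ i)))
    rw [show K = n i j + e from he, add_comm, pow_add, mul_smul, hn, smul_zero]
  let g : S → A := fun i => f i.1 ^ (K + nd i)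
  let m : S → M := fun i => f i.1 ^ K • (md i).1
  have hm : ∀ i j, g j • m i = g i • m j := fun i j => by
    have h := hK i j
    rw [smul_sub, sub_eq_zero, mul_pow, ← mul_smul, ← mul_smul] at h
    show f j.1 ^ (K + nd j) • f i.1 ^ K • (md i).1 = f i.1 ^ (K + nd i) • f j.1 ^ K • (md j).1
    rw [← mul_smul, ← mul_smul, pow_add, pow_add]
    convert h using 2 <;> ring
  obtain ⟨k, x, hx⟩ := exists_global M g m hm
  refine ⟨x, TopCat.Sheaf.eq_of_locally_eq' ⟨(tilde M).presheaf, Scheme.Modules.isSheaf _⟩ D U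
    (fun i => homOfLE (hfU i.1)) (fun y hy => ?_) _ _ fun i => ?_⟩
  · obtain ⟨z, hz, hyz⟩ := Set.mem_iUnion₂.1 (hS hy)
    exact Opens.mem_iSup.2 ⟨⟨z, hz⟩, hyz⟩
  show res M (hfU i.1) (sect M U x) = res M (hfU i.1) s
  rw [res_sect]
  refine eq_of_smul M (f := f i.1) (n := (K + nd i) * (k + 1)) le_rfl ?_
  rw [pow_mul, ← map_smul, hx i, map_smul, map_smul, ← hloc i, ← mul_smul, ← mul_smul]
  congr 1
  show (f i.1 ^ (K + nd i)) ^ k * f i.1 ^ K * f i.1 ^ nd i = (f i.1 ^ (K + nd i)) ^ (k + 1)
  rw [mul_assoc, ← pow_add, ← pow_succ]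

end Aux


/-- Let A be a Noetherian ring and I an injective A-module. Then the quasi-coherent sheaf I~ on Spec A
associated with I is flasque: for all opens U ⊆ V of Spec A the restriction map I~(V) → I~(U) is
surjective. -/
theorem result (A : Type u) [CommRing A] [IsNoetherianRing A]
    (I : Type u) [AddCommGroup I] [Module A I] [Module.Injective A I]
    (U V : (Spec (CommRingCat.of A)).Opens) (hUV : U ≤ V) :
    Function.Surjective ((tilde (ModuleCat.of A I)).val.map (homOfLE hUV).op).hom := by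

    intro s
    obtain ⟨x, hx⟩ := Aux.surjective_sect (ModuleCat.of (CommRingCat.of A) I) U s
    exact ⟨Aux.sect _ V x, (Aux.res_sect _ hUV x).trans hx⟩

end Groth.Agent.S11329
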