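import Groth.Statements.S11331
import Groth.Agent.CurveVA.Converse

set_option autoImplicit false
universe u
open CategoryTheory CategoryTheory.Limits AlgebraicGeometry
open Curves

namespace Groth.Agent.S11331

/-- Let k be an algebraically closed field and X a curve over k (an integral scheme, proper over k, of
dimension one, with all local rings regular), and L an invertible O_X-module. Then L is very ample
(isomorphic to the pullback of O(1) along some closed immersion of X into a projective space P^n_k
over k) if and only if for every two closed points P, Q of X, possibly equal, with ideal sheaves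
I_P, I_Q ⊆ O_X, dim_k H^0(X, L ⊗ I_P ⊗ I_Q) = dim_k H^0(X, L) - 2. -/
theorem result (k : Type u) [Field k] [IsAlgClosed k] (X : Scheme.{u}) [X.Over (Spec (CommRingCat.of k))]
    [IsIntegral X] [IsProper (X ↘ (Spec (CommRingCat.of k)))] (hdim : topologicalKrullDim X = 1)
    (hreg : ∀ x : X, IsRegularLocalRing (X.presheaf.stalk x)) (L : X.Modules) (hL : PicF.IsInvertible L) :
    (∃ (n : ℕ) (i : X ⟶ CohB1.ProjSpace n k), IsClosedImmersion i ∧ i ≫ CohB1.ProjSpace.toSpec n k = (X ↘ (Spec (CommRingCat.of k))) ∧
        Nonempty ((Scheme.Modules.pullback i).obj (Twist.twistProjSpace n k 1) ≅ L)) ↔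
      ∀ (P Q : X) (hP : IsClosed ({P} : Set X)) (hQ : IsClosed ({Q} : Set X)),
        Module.finrank k (Coh.HH X (CohB1.tensorMod L (CohB1.tensorMod (ClSub.idealMod (Scheme.IdealSheafData.vanishingIdeal ⟨{P}, hP⟩)) (ClSub.idealMod (Scheme.IdealSheafData.vanishingIdeal ⟨{Q}, hQ⟩)))) 0) + 2 = Module.finrank k (Coh.HH X L 0) := by
  haveI : Smooth (X ↘ Spec (CommRingCat.of k)) :=
    Groth.Agent.CurveCohLib.RegularCurve.smooth_of_regular k fun x _ => hreg x
  constructor
  · rintro ⟨n, i, hi, hi', ⟨τ⟩⟩ P Q hP hQ
    exact Groth.Agent.CurveVA.h0_twist₂ k i hi' hdim hL hP hQ τ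
  · intro hC
    exact Groth.Agent.CurveVA.exists_embedding_of_separation k hdim hL
      (fun he _ ha hac => Groth.Agent.CurveVA.exists_not_mem_self k hdim hL hC he ha hac)
      (fun he _ _ ha hb hac hbc hne => Groth.Agent.CurveVA.separate k hdim hL hC he ha hb hac hbc hne)
      (fun he _ ha hac N hN hlt => Groth.Agent.CurveVA.tangent k hdim hL hC he ha hac N hN hlt)

end Groth.Agent.S11331
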