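import Groth.Statements.S11333
import Mathlib.FieldTheory.Perfect
import Groth.Agent.FrobTwist.Main
import Groth.Agent.CurveHurwitz.Basic
-- import your own Groth.Agent.* helpers here

set_option autoImplicit false
universe u
open CategoryTheory CategoryTheory.Limits AlgebraicGeometry
open Curves

namespace Groth.Agent.S11333

/-- Let f : X → Y be a finite morphism over k of curves over an algebraically closed field k (integral,
proper over k, of dimension one, all local rings regular), sending the generic point of X to that of
Y, such that the function field extension K(X)/K(Y) is purely inseparable. Then X and Y are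
isomorphic as schemes (the isomorphism need not be compatible with the k-structures; existence of an
isomorphism only). -/
theorem result (k : Type u) [Field k] [IsAlgClosed k] (X : Scheme.{u}) [X.Over (Spec (CommRingCat.of k))]
    [IsIntegral X] [IsProper (X ↘ (Spec (CommRingCat.of k)))] (hdimX : topologicalKrullDim X = 1)
    (hregX : ∀ x : X, IsRegularLocalRing (X.presheaf.stalk x))
    (Y : Scheme.{u}) [Y.Over (Spec (CommRingCat.of k))]
    [IsIntegral Y] [IsProper (Y ↘ (Spec (CommRingCat.of k)))] (hdimY : topologicalKrullDim Y = 1)
    (hregY : ∀ x : Y, IsRegularLocalRing (Y.presheaf.stalk x))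
    (f : X ⟶ Y) [IsFinite f] (hf : f ≫ (Y ↘ (Spec (CommRingCat.of k))) = X ↘ (Spec (CommRingCat.of k)))
    (e : f (genericPoint X) = genericPoint Y) :
    letI := ((Y.presheaf.stalkSpecializes (specializes_of_eq e) ≫ f.stalkMap (genericPoint X)).hom).toAlgebra
    IsPurelyInseparable Y.functionField X.functionField → Nonempty (X ≅ Y) := by
  intro hpi
  obtain ⟨p, hp⟩ := ExpChar.exists k
  haveI : Smooth (X ↘ Spec (CommRingCat.of k)) := CurveCohLib.RegularCurve.smooth_of_regular k fun x _ => hregX x
  haveI : Smooth (Y ↘ Spec (CommRingCat.of k)) := CurveCohLib.RegularCurve.smooth_of_regular k fun x _ => hregY x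
  obtain ⟨r, i, -⟩ := FrobTwist.exists_twist p (X ↘ Spec (CommRingCat.of k)) (Y ↘ Spec (CommRingCat.of k))
    hdimX hdimY (Neron6.isNormalScheme_of_smooth (Y ↘ Spec (CommRingCat.of k)) FrobTwist.isNormalScheme_Spec)
    f hf e hpi
  haveI : PerfectRing k p := PerfectField.toPerfectRing p
  haveI : IsIso (CommRingCat.ofHom (iterateFrobenius k p r)) :=
    (iterateFrobeniusEquiv k p r).toCommRingCatIso.isIso_hom
  haveI : IsIso (FrobTwist.frobBase (k := k) p r) := inferInstance
  exact ⟨(i ≪≫ asIso (pullback.fst (X ↘ Spec (CommRingCat.of k)) (FrobTwist.frobBase p r))).symm⟩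

end Groth.Agent.S11333
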