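import Groth.Statements.S11336
import Groth.Agent.CurveFF.Facts
import Groth.Agent.CurveCohLib.RegularCurve
-- import your own Groth.Agent.* helpers here

set_option autoImplicit false
universe u
open CategoryTheory CategoryTheory.Limits AlgebraicGeometry
open Curves

namespace Groth.Agent.S11336

/-- Let k be an algebraically closed field and X a curve over k (an integral scheme, proper over k, of
dimension one, with all local rings regular), and L an invertible O_X-module with an inverse M (L ⊗
M ≅ O_X) such that H^0(X, L) ≠ 0 and H^0(X, Ω_{X/k} ⊗ M) ≠ 0 (L comes from an effective special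
divisor D). Then dim |D| ≤ deg D / 2, i.e. 2 (dim_k H^0(X, L) - 1) ≤ deg L, with deg L = χ(L) -
χ(O_X). -/
theorem result (k : Type u) [Field k] [IsAlgClosed k] (X : Scheme.{u}) [X.Over (Spec (CommRingCat.of k))]
    [IsIntegral X] [IsProper (X ↘ (Spec (CommRingCat.of k)))] (hdim : topologicalKrullDim X = 1)
    (hreg : ∀ x : X, IsRegularLocalRing (X.presheaf.stalk x))
    (L M : X.Modules) (hL : PicF.IsInvertible L) (hM : ClSub.IsInverseOf L M)
    (hs : Nontrivial (Coh.HH X L 0)) (hsp : Nontrivial (Coh.HH X (CohB1.tensorMod (Omega.sheaf (X ↘ (Spec (CommRingCat.of k)))) M) 0)) :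
    2 * (Module.finrank k (Coh.HH X L 0) : ℤ) ≤ Curv2.deg k X L 1 + 2 := by
  haveI := Groth.Agent.CurveCohLib.RegularCurve.smooth_of_regular k fun x _ => hreg x
  have hM' := Groth.Agent.CurveFF.isInvertible_of_inverse k hdim hL hM
  have h1 := Groth.Agent.CurveFF.finrank_h1_pos k hdim hL hM hsp hM'
  have h2 := Groth.Agent.CurveCohLib.Clifford.h0_add_h1_le k hdim hL hs h1
  rw [Groth.Agent.CurveCohLib.Clifford.deg_eq k hdim hL]
  omega

end Groth.Agent.S11336
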