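import Groth.Statements.S11343
import Groth.Agent.Lib.SurfHodge
import Groth.Agent.HilbPoly.EllSimple
import Groth.Agent.CurveCohLib.RegularCurve
import Groth.Agent.CurveCohLib.SmoothCurve
import Groth.Agent.PnCoh.Chow.Proper

set_option autoImplicit false
set_option backward.isDefEq.respectTransparency false
set_option backward.isDefEq.respectTransparency.types false
set_option linter.style.haveILetI false
set_option linter.unusedSectionVars false
set_option maxHeartbeats 400000
universe u
open CategoryTheory CategoryTheory.Limits AlgebraicGeometry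
open Surf

namespace Groth.Agent.S11343

open Groth.Agent.H23
set_option maxHeartbeats 800000

/-- Let X be a surface over an algebraically closed field k (an integral scheme of dimension two with
all local rings regular, admitting a closed immersion into some P^n_k over k), and H an ample
invertible O_X-module. Some integer n₀ has the property that H^2(X, L) = 0 for every invertible
module L with (L·H) > n₀; here (L·H) = χ(O_X) - χ(L) - χ(H) + χ(L ⊗ H) is the intersection number
(packaged as FGA.intNum). -/
theorem result (k : Type u) [Field k] [IsAlgClosed k] (X : Scheme.{u}) [X.Over (Spec (CommRingCat.of k))]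
    [IsIntegral X] (hdim : topologicalKrullDim X = 2) (hreg : ∀ x : X, IsRegularLocalRing (X.presheaf.stalk x))
    (hproj : ∃ (n : ℕ) (ι : X ⟶ CohB1.ProjSpace n k), IsClosedImmersion ι ∧ ι ≫ CohB1.ProjSpace.toSpec n k = (X ↘ (Spec (CommRingCat.of k))))
    (H : X.Modules) (hH : CohB1.IsAmple H) :
    ∃ n₀ : ℤ, ∀ L : X.Modules, PicF.IsInvertible L → n₀ < FGA.intNum k X 2 ![L, H] (Coh.structureModule X) → Subsingleton (Coh.HH X L 2) := by
  letI := PicMul.clMonoid (X := X)
  obtain ⟨N, ι, hi, hι⟩ := hproj
  haveI := hi
  haveI := PnCoh.Chow.isProper_toSpec N k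
  haveI : IsProper (X ↘ Spec (CommRingCat.of k)) := hι ▸ inferInstance
  haveI := CurveCohLib.RegularCurve.smooth_of_regular k (X := X) fun x _ => hreg x
  obtain ⟨n₀, hn₀⟩ := SurfHodge.exists_h2_vanishing (k := k) hdim hH
  refine ⟨n₀, fun L hL hlt => hn₀ L hL ?_⟩
  rwa [SurfPairing.intNum_eq_pair k hdim.le hL hH.1] at hlt

end Groth.Agent.S11343
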