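import Groth.Statements.S11345
import Groth.Agent.SurfRows.BlowCanon
import Groth.Agent.HilbPoly.EllSimple
import Groth.Agent.CurveCohLib.RegularCurve
import Groth.Agent.PnCoh.Chow.Proper

set_option autoImplicit false
set_option backward.isDefEq.respectTransparency false
set_option backward.isDefEq.respectTransparency.types false
set_option linter.style.haveILetI false
set_option linter.unusedSectionVars false
set_option maxHeartbeats 800000
universe u
open CategoryTheory CategoryTheory.Limits AlgebraicGeometry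
open Surf

namespace Groth.Agent.S11345

open Groth.Agent.H23
attribute [local instance] PicMul.clMonoid

/-- Let X be a surface over an algebraically closed field k (an integral scheme of dimension two with
all local rings regular, admitting a closed immersion into some P^n_k over k), P a closed point of X
with ideal sheaf m_P, and π : X' → X the monoidal transformation with centre P (a blowing up of X in
m_P, characterised by its universal property), with exceptional curve E of ideal I_E = m_P · O_{X'};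
let W and W' be canonical sheaves of X and X' (second exterior powers of the sheaves of
differentials), X' being again a surface of the same kind. Then K_{X'} = π^* K_X + E in Pic X', i.e.
W' ⊗ I_E ≅ π^* W (existence of an isomorphism), and K_{X'}^2 = K_X^2 - 1, intersection numbers being
(L·M) = χ(O) - χ(L) - χ(M) + χ(L ⊗ M) (packaged as FGA.intNum). -/
theorem result (k : Type u) [Field k] [IsAlgClosed k] (X : Scheme.{u}) [X.Over (Spec (CommRingCat.of k))]
    [IsIntegral X] (hdim : topologicalKrullDim X = 2) (hreg : ∀ x : X, IsRegularLocalRing (X.presheaf.stalk x))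
    (hproj : ∃ (n : ℕ) (ι : X ⟶ CohB1.ProjSpace n k), IsClosedImmersion ι ∧ ι ≫ CohB1.ProjSpace.toSpec n k = (X ↘ (Spec (CommRingCat.of k))))
    (W : X.Modules) (hW : ExtPow.IsExtPow 2 (Omega.sheaf (X ↘ (Spec (CommRingCat.of k)))) W)
    (P : X) (hP : IsClosed ({P} : Set X))
    (X' : Scheme.{u}) (π : X' ⟶ X) (hπ : BlowUp.IsBlowUp π (Scheme.IdealSheafData.vanishingIdeal ⟨{P}, hP⟩))
    [IsIntegral X'] (hdim' : topologicalKrullDim X' = 2) (hreg' : ∀ x : X', IsRegularLocalRing (X'.presheaf.stalk x))
    (hproj' : ∃ (n : ℕ) (ι : X' ⟶ CohB1.ProjSpace n k), IsClosedImmersion ι ∧ ι ≫ CohB1.ProjSpace.toSpec n k = π ≫ (X ↘ (Spec (CommRingCat.of k))))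
    (W' : X'.Modules) (hW' : ExtPow.IsExtPow 2 (Omega.sheaf (π ≫ (X ↘ (Spec (CommRingCat.of k))))) W') :
    letI : X'.Over (Spec (CommRingCat.of k)) := ⟨π ≫ (X ↘ (Spec (CommRingCat.of k)))⟩
    Nonempty (CohB1.tensorMod W' (ClSub.idealMod (BlowUp.exceptional π (Scheme.IdealSheafData.vanishingIdeal ⟨{P}, hP⟩))) ≅
        (Scheme.Modules.pullback π).obj W) ∧
      FGA.intNum k X' 2 ![W', W'] (Coh.structureModule X') = FGA.intNum k X 2 ![W, W] (Coh.structureModule X) - 1 := by
  obtain ⟨n, ι, hι, hfac⟩ := hproj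
  obtain ⟨N, ι', hι', hfac'⟩ := hproj'
  haveI := hι
  haveI := hι'
  haveI := PnCoh.Chow.isProper_toSpec N k
  haveI := PnCoh.Chow.isProper_toSpec n k
  letI : X'.Over (Spec (CommRingCat.of k)) := ⟨π ≫ (X ↘ (Spec (CommRingCat.of k)))⟩
  haveI : IsProper (X ↘ Spec (CommRingCat.of k)) := by
    rw [← hfac]
    infer_instance
  haveI : IsProper (X' ↘ Spec (CommRingCat.of k)) := by
    show IsProper (π ≫ _)
    rw [← hfac']
    infer_instance
  haveI : Smooth (X' ↘ Spec (CommRingCat.of k)) := CurveCohLib.RegularCurve.smooth_of_regular k fun x _ => hreg' x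
  haveI : Smooth (X ↘ Spec (CommRingCat.of k)) := CurveCohLib.RegularCurve.smooth_of_regular k fun x _ => hreg x
  obtain ⟨hE, h0, h1⟩ := SurfRows.blowPt_exc k P hP π rfl hπ hdim hdim'
  have hWi := SurfAdj.isInvertible_W k hdim hW
  have hW'i := SurfAdj.isInvertible_W k hdim' hW'
  have hπW := PicClLib.isInvertible_pullback π hWi
  have hc := SurfRows.blowPt_canonical k P hP π rfl hπ hdim hdim' hW hW'
  refine ⟨PicMul.cl_eq_iff.1 ((PicMul.cl_tensor _ _).trans hc), ?_⟩
  rw [SurfPairing.intNum_eq_pair k hdim'.le hW'i hW'i, SurfPairing.intNum_eq_pair k hdim.le hWi hWi]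
  let I := BlowUp.exceptional π (Scheme.IdealSheafData.vanishingIdeal ⟨{P}, hP⟩)
  have hpb : SurfPairing.pair k (PicF.cl ((Scheme.Modules.pullback π).obj W)) (PicF.cl ((Scheme.Modules.pullback π).obj W)) =
      SurfPairing.pair k (PicF.cl W) (PicF.cl W) :=
    SurfRows.blowPt_pair k P hP π rfl hπ hdim hdim' (HilbPoly.isAmple_pullback_pn ι) hWi hWi
  have hadj := (SurfRows.blowPt_curve k P hP π rfl hπ hdim)
  have e1 := SurfPairing.pair_mul k hdim'.le hW'i hW'i hE
  have e2 := SurfPairing.pair_mul k hdim'.le hπW hW'i hE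
  have e3 := SurfPairing.pair_mul k hdim'.le hE hW'i hE
  rw [hc] at e1 e2 e3
  have z1 : SurfPairing.pair k (PicF.cl (ClSub.idealMod I)) (PicF.cl ((Scheme.Modules.pullback π).obj W)) = 0 := h0 W hWi
  rw [h0 W hWi, h1] at e3
  rw [SurfPairing.pair_comm k (PicF.cl W') (PicF.cl (ClSub.idealMod _))] at e1
  rw [hpb, SurfPairing.pair_comm k (PicF.cl ((Scheme.Modules.pullback π).obj W)) (PicF.cl (ClSub.idealMod _)), h0 W hWi,
    SurfPairing.pair_comm k (PicF.cl ((Scheme.Modules.pullback π).obj W)) (PicF.cl W')] at e2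
  linarith

end Groth.Agent.S11345
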