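import Groth.Statements.S11346
import Groth.Agent.SurfRows.Ruled
import Groth.Agent.PnCoh.Chow.Proper
import Groth.Agent.CurveCohLib.RegularCurve

set_option autoImplicit false
set_option backward.isDefEq.respectTransparency false
set_option backward.isDefEq.respectTransparency.types false
set_option linter.style.haveILetI false
set_option linter.unusedSectionVars false
set_option maxHeartbeats 800000
universe u
open CategoryTheory CategoryTheory.Limits AlgebraicGeometry
open Surf

namespace Groth.Agent.S11346

open Groth.Agent Groth.Agent.H23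
attribute [local instance] PicMul.clMonoid

/-- Let π : X → C be a ruled surface over an algebraically closed field k: X a surface (integral, of
dimension two, all local rings regular, with a closed immersion into some P^n_k over k), C a curve
(integral, proper over k, of dimension one, all local rings regular), π : X → C a surjective
k-morphism whose fibre over every closed point is isomorphic to P^1_k and which admits a section σ.
If C has genus g, then p_a(X) = -g, p_g(X) = 0 and q(X) = g; that is, dim_k H^1(X, O_X) = g = dim_k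
H^1(C, O_C) and H^2(X, O_X) = 0. -/
theorem result (k : Type u) [Field k] [IsAlgClosed k] (X : Scheme.{u}) [X.Over (Spec (CommRingCat.of k))]
    [IsIntegral X] (hdim : topologicalKrullDim X = 2) (hreg : ∀ x : X, IsRegularLocalRing (X.presheaf.stalk x))
    (hproj : ∃ (n : ℕ) (ι : X ⟶ CohB1.ProjSpace n k), IsClosedImmersion ι ∧ ι ≫ CohB1.ProjSpace.toSpec n k = (X ↘ (Spec (CommRingCat.of k))))
    (C : Scheme.{u}) [C.Over (Spec (CommRingCat.of k))]
    [IsIntegral C] [IsProper (C ↘ (Spec (CommRingCat.of k)))] (hdimC : topologicalKrullDim C = 1)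
    (hregC : ∀ x : C, IsRegularLocalRing (C.presheaf.stalk x))
    (π : X ⟶ C) (hπ : π ≫ (C ↘ (Spec (CommRingCat.of k))) = (X ↘ (Spec (CommRingCat.of k)))) (hsurj : Function.Surjective π)
    (hfib : ∀ y : C, IsClosed ({y} : Set C) → Nonempty (pullback π (C.fromSpecResidueField y) ≅ CohB1.ProjSpace 1 k))
    (σ : C ⟶ X) (hσ : σ ≫ π = 𝟙 C) :
    Module.finrank k (Coh.HH X (Coh.structureModule X) 1) = Curv2.genus k C ∧ Subsingleton (Coh.HH X (Coh.structureModule X) 2) := by
  obtain ⟨N, ι, hι, hfac⟩ := hproj
  haveI := hι
  haveI : IsProper (CohB1.ProjSpace.toSpec N k) := PnCoh.Chow.isProper_toSpec N k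
  haveI : IsProper (X ↘ Spec (CommRingCat.of k)) := by rw [← hfac]; infer_instance
  haveI : Smooth (X ↘ Spec (CommRingCat.of k)) := CurveCohLib.RegularCurve.smooth_of_regular k fun x _ => hreg x
  haveI : Smooth (C ↘ Spec (CommRingCat.of k)) := CurveCohLib.RegularCurve.smooth_of_regular k fun x _ => hregC x
  haveI : π.IsOver (Spec (CommRingCat.of k)) := ⟨hπ⟩
  haveI : Surjective π := ⟨hsurj⟩
  haveI : HasInjectiveResolutions X.Modules := KFlatLib.hasInjectiveResolutions_modules
  haveI := CurveCohLib.isNoetherian_of_proper (k := k) (X := C)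
  have hO := CurveDeg.isInvertible_structureModule (X := X)
  have hdeg : ∀ (y : C) (hy : IsClosed ({y} : Set C)), FGA.intNum k X 2
      ![Coh.structureModule X, (ClSub.idealMod ((Scheme.IdealSheafData.vanishingIdeal ⟨{y}, hy⟩).comap π))]
      (Coh.structureModule X) ≤ 0 := fun y hy => by
    rw [SurfPairing.intNum_eq_pair k hdim.le hO ((S8914.result _).2 (SurfRows.fibre_facts k hdim hdimC π y hy).1),
      ← PicMul.one_def, SurfPairing.pair_comm, SurfPairing.pair_one]
  have hR := SurfRows.ruled_Rpush k π hfib hdim hdimC hO hdeg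
  haveI : IsIso (ClSub.unitToPush π) := by
    haveI : ∀ U, IsIso ((ClSub.unitToPush π).app U) := fun U =>
      (ConcreteCategory.isIso_iff_bijective _).2 (SurfRows.ruled_push_structure k π hfib hdimC U)
    exact Scheme.Modules.Hom.isIso_iff_isIso_app.2 this
  obtain ⟨l₁⟩ := SurfRows.leray_linear k π hR 1
  obtain ⟨l₂⟩ := SurfRows.leray_linear k π hR 2
  let e := (asIso (ClSub.unitToPush π)).symm
  refine ⟨l₁.finrank_eq.trans (CurveCohLib.hhEquiv (k := k) e 1).finrank_eq, ?_⟩
  haveI : Subsingleton (Coh.HH C (Coh.structureModule C) 2) :=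
    CurveVanish.subsingleton_HH_curve k hdimC.le QCoh.isQCoh_structureModule 0
  exact (l₂.trans (CurveCohLib.hhEquiv (k := k) e 2)).toEquiv.subsingleton

end Groth.Agent.S11346
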