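import Groth.Statements.S11348
import Groth.Agent.CurveCohLib.RankTwo
import Groth.Agent.CurveCohLib.GermTwist
import Groth.Agent.CurveCohLib.Clifford
import Groth.Agent.S11347
-- import your own Groth.Agent.* helpers here

set_option autoImplicit false
universe u
open CategoryTheory CategoryTheory.Limits AlgebraicGeometry
open Curves

namespace Groth.Agent.S11348

set_option linter.style.haveILetI false
set_option backward.isDefEq.respectTransparency false
set_option backward.isDefEq.respectTransparency.types false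

open Groth.Agent.PnCoh.Finite (mapLin)
open Groth.Agent.CurveSpecial (homOfClass)

/-- A normalized bundle of rank two on an elliptic curve does not have degree two. -/
theorem deg_ne_two (k : Type u) [Field k] [IsAlgClosed k] (C : Scheme.{u}) [C.Over (Spec (CommRingCat.of k))]
    [IsIntegral C] [IsProper (C ↘ (Spec (CommRingCat.of k)))] [Smooth (C ↘ (Spec (CommRingCat.of k)))]
    (hdimC : topologicalKrullDim C = 1) (hg : Curv2.genus k C = 1)
    (E : C.Modules) (hE : FlatMod.IsFinLocFreeOfRank 2 E) (hn0 : Nontrivial (Coh.HH C E 0))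
    (hneg : ∀ M : C.Modules, PicF.IsInvertible M → Curv2.deg k C M 1 < 0 → Subsingleton (Coh.HH C (CohB1.tensorMod E M) 0)) :
    Curv2.deg k C E 2 ≠ 2 := by
  intro hd
  haveI := Groth.Agent.CurveCohLib.isNoetherian_of_proper (k := k) (X := C)
  have hEf := Groth.Agent.CurveStable.isFinLocFree_of_rank hE
  have hEc := Groth.Agent.CurveStable.coh_of_free k hEf
  haveI := Groth.Agent.CurveCohLib.finite_HH (k := k) hEc 0
  haveI := Groth.Agent.CurveCohLib.finite_HH (k := k) (Groth.Agent.QCoh.isCoh_structureModule' (X := C)) 0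
  have hneg' : ∀ (p : C) (hp : IsClosed ({p} : Set C)),
      Subsingleton (Coh.HH C ((DCoh.tensorBi.obj E).obj (Groth.Agent.CurvePoint.ptMod p hp)) 0) := fun p hp =>
    hneg _ (Groth.Agent.CurvePoint.isInvertible_ptMod p hp k hdimC)
      (by rw [Groth.Agent.CurvePoint.deg_ptMod p hp k]; norm_num)
  obtain ⟨S, hS, hScl⟩ := Groth.Agent.CurveSection.exists_closed_finset k (X := C) hdimC 1
  obtain ⟨p₀, hp₀⟩ := Finset.card_pos.1 (show 0 < S.card by omega)
  have h2 : Module.finrank k (Coh.HH C E 0) ≤ 2 := by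
    haveI := hneg' p₀ (hScl p₀ hp₀)
    have := (Groth.Agent.CurvePoint.finrank_twist p₀ (hScl p₀ hp₀) k hE).1
    rw [Module.finrank_zero_of_subsingleton
      (M := Coh.HH C ((DCoh.tensorBi.obj E).obj (Groth.Agent.CurvePoint.ptMod p₀ (hScl p₀ hp₀))) 0)] at this
    simpa using this
  have h2' : 2 ≤ Module.finrank k (Coh.HH C E 0) := by
    have h := Groth.Agent.CurveSlope.euler_le_h0 k hdimC.le hEc
    have hO := Groth.Agent.CurveRR.euler_structureModule k (X := C) hdimC.le
    have hd' := hd
    unfold Curv2.deg at hd'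
    rw [hO, hg] at hd'
    push_cast at hd'
    omega
  obtain ⟨σ, hσ⟩ := exists_ne (0 : Coh.HH C E 0)
  obtain ⟨hm, hQ, hQd⟩ := Groth.Agent.CurveCohLib.RankTwo.cokernel_section k hdimC hE hneg (homOfClass σ)
    (Groth.Agent.CurveSpecial.homOfClass_ne_zero hσ)
  haveI := hm
  set s := homOfClass σ with hs
  have hSE := Groth.Agent.CurveSlope.shortExact_cokernel_of_mono s
  obtain ⟨t, ht⟩ : ∃ t, mapLin k (cokernel.π s) 0 t ≠ 0 := by
    by_contra hcon
    push Not at hcon
    have e1 : LinearMap.range (mapLin k s 0) = ⊤ :=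
      eq_top_iff.2 fun t _ => (Groth.Agent.CurveCohLib.ker_mapLin_g k hSE 0).le (LinearMap.mem_ker.2 (hcon t))
    have e2 := LinearMap.finrank_range_le (mapLin k s 0)
    rw [e1, finrank_top, Groth.Agent.CurveCohLib.Clifford.finrank_h0_structure k (X := C)] at e2
    omega
  obtain ⟨p, hp, hτ⟩ := Groth.Agent.CurveCohLib.GermTwist.exists_zero k hdimC hQ (by omega) ht
  let F := DerSch.stalkFunctor C p
  let gE : Coh.HH C E 0 → F.obj E := fun v =>
    E.presheaf.germ ⊤ p trivial (Sheaf.H.equiv₀ (Coh.toAb E) isTerminalTop v : Γ(E, ⊤))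
  have hπt : (F.map (cokernel.π s)).hom (gE t) = (show F.obj (cokernel s) from
      (cokernel s).presheaf.germ ⊤ p trivial
        (Sheaf.H.equiv₀ (Coh.toAb (cokernel s)) isTerminalTop (mapLin k (cokernel.π s) 0 t) : Γ(cokernel s, ⊤))) :=
    (TopCat.Presheaf.stalkFunctor_map_germ_apply ⊤ p trivial ((Scheme.Modules.toPresheaf C).map (cokernel.π s)) _).trans
      (congrArg ((cokernel s).presheaf.germ ⊤ p trivial)
        (Sheaf.H.equiv₀_naturality isTerminalTop ((Groth.Agent.QCoh.toAbFunctor C).map (cokernel.π s)) t))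
  obtain ⟨m, hm', hmq⟩ : ∃ m ∈ IsLocalRing.maximalIdeal (C.presheaf.stalk p) •
      (⊤ : Submodule (C.presheaf.stalk p) (F.obj E)), (F.map (cokernel.π s)).hom m = (F.map (cokernel.π s)).hom (gE t) := by
    rw [hπt]
    refine Submodule.mem_map.1 ?_
    haveI : Epi (F.map (cokernel.π s)) := inferInstance
    rw [Submodule.map_smul'', Submodule.map_top, LinearMap.range_eq_top.2
      ((ModuleCat.epi_iff_surjective (F.map (cokernel.π s))).1 inferInstance)]
    exact hτ
  obtain ⟨o, ho⟩ : ∃ o, (F.map s).hom o = gE t - m := by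
    have hex := (ShortComplex.moduleCat_exact_iff _).1 (hSE.exact.map F) (gE t - m) (by
      show (F.map (cokernel.π s)).hom (gE t - m) = 0
      rw [map_sub, hmq, sub_self])
    exact hex
  obtain ⟨a, rfl⟩ := Groth.Agent.CurveCohLib.GlobGen.exists_smul_one p o
  obtain ⟨c, hc⟩ := Groth.Agent.CurveSection.exists_stalkMap_sub_mem k hp a
  have hgs : (F.map s).hom (show F.obj (Coh.structureModule C) from
      (Coh.structureModule C).presheaf.germ ⊤ p trivial (1 : Γ(C, ⊤))) = gE σ :=
    (TopCat.Presheaf.stalkFunctor_map_germ_apply ⊤ p trivial ((Scheme.Modules.toPresheaf C).map s) _).trans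
      (congrArg (E.presheaf.germ ⊤ p trivial) (Groth.Agent.CurveSpecial.homOfClass_one σ))
  have ho' : a • gE σ = gE t - m := by
    rw [← ho, map_smul, hgs]
  have hu0 : t - c • σ ≠ 0 := fun h => ht (by
    rw [sub_eq_zero.1 h, map_smul]
    have hz : mapLin k (cokernel.π s) 0 σ = 0 := by
      refine (Sheaf.H.equiv₀ (Coh.toAb (cokernel s)) isTerminalTop).injective ?_
      rw [map_zero]
      refine (Sheaf.H.equiv₀_naturality isTerminalTop ((Groth.Agent.QCoh.toAbFunctor C).map (cokernel.π s)) σ).symm.trans ?_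
      have h1 := congrArg (fun φ => Scheme.Modules.Hom.app φ ⊤ (Groth.Agent.H23.Frame.one ⊤)) (cokernel.condition s)
      refine Eq.trans ?_ h1
      exact congrArg ((cokernel.π s).app ⊤) (Groth.Agent.CurveSpecial.homOfClass_one σ).symm
    rw [hz, smul_zero])
  have hmem : gE (t - c • σ) ∈ IsLocalRing.maximalIdeal (C.presheaf.stalk p) •
      (⊤ : Submodule (C.presheaf.stalk p) (F.obj E)) := by
    have e : gE (t - c • σ) = (a - Curv2.stalkMap k C p c) • gE σ + m := by
      have e1 : gE (t - c • σ) = gE t - gE (c • σ) :=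
        (congrArg (E.presheaf.germ ⊤ p trivial) (map_sub (Sheaf.H.equiv₀ (Coh.toAb E) isTerminalTop) t (c • σ))).trans
          (map_sub _ _ _)
      have e2 : gE (c • σ) = Curv2.stalkMap k C p c • gE σ := Groth.Agent.CurveCohLib.germ_h0Equiv_smul E c σ p
      rw [e1, e2, sub_smul, ho']
      abel
    rw [e]
    exact Submodule.add_mem _ (Submodule.smul_mem_smul hc Submodule.mem_top) hm'
  haveI := hneg' p hp
  haveI := Groth.Agent.CurveCohLib.GermTwist.nontrivial_of_germ_mem k hEf p hp hu0 hmem
  exact false_of_nontrivial_of_subsingleton (Coh.HH C ((DCoh.tensorBi.obj E).obj (Groth.Agent.CurvePoint.ptMod p hp)) 0)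

/-- Let C be an elliptic curve over an algebraically closed field k — integral, proper over k, of
dimension one, all local rings regular, of genus dim_k H^1(C, O_C) = 1 — and E a locally free
O_C-module of rank 2 which is normalized (H^0(C, E) ≠ 0 while H^0(C, E ⊗ M) = 0 for every invertible
M of negative degree) and indecomposable (not isomorphic to a direct sum of two invertible modules).
Then the invariant e = -deg E is 0 or -1, i.e. deg E ∈ {0, 1}, with deg E = χ(E) - 2 χ(O_C). -/
theorem result (k : Type u) [Field k] [IsAlgClosed k] (C : Scheme.{u}) [C.Over (Spec (CommRingCat.of k))]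
    [IsIntegral C] [IsProper (C ↘ (Spec (CommRingCat.of k)))] (hdimC : topologicalKrullDim C = 1)
    (hregC : ∀ x : C, IsRegularLocalRing (C.presheaf.stalk x)) (hg : Curv2.genus k C = 1)
    (E : C.Modules) (hE : FlatMod.IsFinLocFreeOfRank 2 E)
    (hn0 : Nontrivial (Coh.HH C E 0))
    (hneg : ∀ M : C.Modules, PicF.IsInvertible M → Curv2.deg k C M 1 < 0 → Subsingleton (Coh.HH C (CohB1.tensorMod E M) 0))
    (hind : ∀ L₁ L₂ : C.Modules, PicF.IsInvertible L₁ → PicF.IsInvertible L₂ → IsEmpty (E ≅ L₁ ⊞ L₂)) :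
    Curv2.deg k C E 2 = 0 ∨ Curv2.deg k C E 2 = 1 := by
  have h := Groth.Agent.S11347.result k C hdimC hregC E hE hn0 hneg hind
  haveI := Groth.Agent.CurveCohLib.RegularCurve.smooth_of_regular k (X := C) fun x _ => hregC x
  have h2 := deg_ne_two k C hdimC hg E hE hn0 hneg
  omega

end Groth.Agent.S11348
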