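import Groth.Statements.S11349
import Groth.Agent.CurveCover.GenusOne
-- import your own Groth.Agent.* helpers here

set_option autoImplicit false
set_option backward.isDefEq.respectTransparency false
set_option backward.isDefEq.respectTransparency.types false
set_option linter.style.haveILetI false
universe u
open CategoryTheory CategoryTheory.Limits AlgebraicGeometry
open Curves

namespace Groth.Agent.S11349

/-- Take an algebraically closed field k of characteristic different from 2 and an elliptic curve X over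
k — an integral scheme, proper over k, of dimension one, all local rings regular, of genus dim_k
H^1(X, O_X) = 1 — and let P, Q be closed points of X, possibly equal. Then there is an automorphism
σ of X over k with σ² = id and σ(P) = Q such that R + σ(R) is linearly equivalent to P + Q for every
closed point R; the last condition is written on ideal sheaves of points: I_R ⊗ I_{σ(R)} ≅ I_P ⊗
I_Q. -/
theorem result (k : Type u) [Field k] [IsAlgClosed k] (X : Scheme.{u}) [X.Over (Spec (CommRingCat.of k))]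
    [IsIntegral X] [IsProper (X ↘ (Spec (CommRingCat.of k)))] (hdim : topologicalKrullDim X = 1)
    (hreg : ∀ x : X, IsRegularLocalRing (X.presheaf.stalk x)) (hchar : ringChar k ≠ 2) (hg : Curv2.genus k X = 1)
    (P Q : X) (hP : IsClosed ({P} : Set X)) (hQ : IsClosed ({Q} : Set X)) :
    ∃ σ : X ≅ X, σ.hom ≫ (X ↘ (Spec (CommRingCat.of k))) = (X ↘ (Spec (CommRingCat.of k))) ∧ σ.hom ≫ σ.hom = 𝟙 X ∧ σ.hom P = Q ∧
      ∀ (R R' : X) (hR : IsClosed ({R} : Set X)) (hR' : IsClosed ({R'} : Set X)), σ.hom R = R' →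
        Nonempty (CohB1.tensorMod (ClSub.idealMod (Scheme.IdealSheafData.vanishingIdeal ⟨{R}, hR⟩)) (ClSub.idealMod (Scheme.IdealSheafData.vanishingIdeal ⟨{R'}, hR'⟩)) ≅ CohB1.tensorMod (ClSub.idealMod (Scheme.IdealSheafData.vanishingIdeal ⟨{P}, hP⟩)) (ClSub.idealMod (Scheme.IdealSheafData.vanishingIdeal ⟨{Q}, hQ⟩))) := by
  classical
  haveI := Groth.Agent.CurveCohLib.RegularCurve.smooth_of_regular k (X := X) fun x _ => hreg x
  obtain ⟨f, hf, hfin, σ, hp, hσ, hσf, hdeg, hne, hPQ, z, hz, hzeq⟩ :=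
    Groth.Agent.CurveCover.exists_swap k hdim hg ⟨P, hP⟩ ⟨Q, hQ⟩
  refine ⟨⟨σ, σ, hσ, hσ⟩, hp, hσ, hPQ, fun R R' hR hR' hRR' => ?_⟩
  haveI := hfin
  letI := Groth.Agent.CurveFF.ffAlg k X
  obtain ⟨w, hw, hweq⟩ := Groth.Agent.CurveCover.exists_poles_eq k hdim f hf hdeg σ hp hσ hσf hne ⟨R, hR⟩
  obtain ⟨a, ha, hdR⟩ := Groth.Agent.CurveCover.exists_div_ptMod k hdim ⟨R, hR⟩
  obtain ⟨a', ha', hdR'⟩ := Groth.Agent.CurveCover.exists_div_ptMod k hdim ⟨R', hR'⟩
  obtain ⟨b, hb, hdP⟩ := Groth.Agent.CurveCover.exists_div_ptMod k hdim ⟨P, hP⟩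
  obtain ⟨b', hb', hdQ⟩ := Groth.Agent.CurveCover.exists_div_ptMod k hdim ⟨Q, hQ⟩
  have hF := (Groth.Agent.CurveFF.isFunctionField k X hdim).1
  have hR'' : (⟨σ R, Groth.Agent.CurveCover.isClosed_image σ hσ hR⟩ : Groth.Agent.CurveFF.Pt X) = ⟨R', hR'⟩ :=
    Subtype.ext hRR'
  rw [hR''] at hweq
  have h2 := hdP.tensor hdQ
  let c := b * b' * z * (a * a' * w)⁻¹
  have hc : c ≠ 0 := mul_ne_zero (mul_ne_zero (mul_ne_zero hb hb') hz)
    (inv_ne_zero (mul_ne_zero (mul_ne_zero ha ha') hw))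
  refine Groth.Agent.CurveCover.HasDiv.nonempty_iso hc (hdR.tensor hdR') ?_
  convert h2 using 1
  simp only [c, Groth.Agent.CurveCover.div_mul' hF (mul_ne_zero (mul_ne_zero hb hb') hz)
    (inv_ne_zero (mul_ne_zero (mul_ne_zero ha ha') hw)), Groth.Agent.FFLib.div_inv hF,
    Groth.Agent.CurveCover.div_mul' hF (mul_ne_zero hb hb') hz, Groth.Agent.CurveCover.div_mul' hF hb hb',
    Groth.Agent.CurveCover.div_mul' hF (mul_ne_zero ha ha') hw, Groth.Agent.CurveCover.div_mul' hF ha ha']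
  rw [← sub_eq_zero]
  rw [← sub_eq_zero] at hzeq hweq
  linear_combination (norm := abel) hweq - hzeq

end Groth.Agent.S11349
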