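import Groth.Statements.S11351
import Groth.Agent.CurveCover.GenusOne
-- import your own Groth.Agent.* helpers here

set_option autoImplicit false
set_option backward.isDefEq.respectTransparency false
set_option backward.isDefEq.respectTransparency.types false
set_option linter.style.haveILetI false
universe u
open CategoryTheory CategoryTheory.Limits AlgebraicGeometry
open Curves

namespace Groth.Agent.S11351

/-- Take an algebraically closed field k of characteristic different from 2 and an elliptic curve X over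
k (integral, proper over k, of dimension one, all local rings regular, of genus dim_k H^1(X, O_X) =
1), and let f₁, f₂ : X → P^1_k be two finite morphisms over k of degree 2 (the direct image of O_X
is locally free of rank 2). Then there are an automorphism σ of X over k and an automorphism τ of
P^1_k over k such that f₂ ∘ σ = τ ∘ f₁. -/
theorem result (k : Type u) [Field k] [IsAlgClosed k] (X : Scheme.{u}) [X.Over (Spec (CommRingCat.of k))]
    [IsIntegral X] [IsProper (X ↘ (Spec (CommRingCat.of k)))] (hdim : topologicalKrullDim X = 1)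
    (hreg : ∀ x : X, IsRegularLocalRing (X.presheaf.stalk x)) (hchar : ringChar k ≠ 2) (hg : Curv2.genus k X = 1)
    (f₁ f₂ : X ⟶ (CohB1.ProjSpace 1 k)) [IsFinite f₁] [IsFinite f₂]
    (hf₁ : f₁ ≫ CohB1.ProjSpace.toSpec 1 k = (X ↘ (Spec (CommRingCat.of k)))) (hf₂ : f₂ ≫ CohB1.ProjSpace.toSpec 1 k = (X ↘ (Spec (CommRingCat.of k))))
    (hd₁ : FlatMod.IsFinLocFreeOfRank 2 ((Scheme.Modules.pushforward f₁).obj (Coh.structureModule X)))
    (hd₂ : FlatMod.IsFinLocFreeOfRank 2 ((Scheme.Modules.pushforward f₂).obj (Coh.structureModule X))) :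
    ∃ (σ : X ≅ X) (τ : (CohB1.ProjSpace 1 k) ≅ (CohB1.ProjSpace 1 k)), σ.hom ≫ (X ↘ (Spec (CommRingCat.of k))) = (X ↘ (Spec (CommRingCat.of k))) ∧
      τ.hom ≫ CohB1.ProjSpace.toSpec 1 k = CohB1.ProjSpace.toSpec 1 k ∧ σ.hom ≫ f₂ = f₁ ≫ τ.hom := by
  haveI := Groth.Agent.CurveCohLib.RegularCurve.smooth_of_regular k (X := X) fun x _ => hreg x
  exact Groth.Agent.CurveCover.exists_iso_covers k hdim hg (Ring.two_ne_zero hchar) f₁ f₂ hf₁ hf₂
    (Groth.Agent.CurveCover.finrank_of_push k hdim f₁ hf₁ hd₁) (Groth.Agent.CurveCover.finrank_of_push k hdim f₂ hf₂ hd₂)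

end Groth.Agent.S11351
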