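import Groth.Statements.S11352
import Groth.Agent.CurveCohLib.Hopf
-- import your own Groth.Agent.* helpers here

set_option autoImplicit false
universe u
open CategoryTheory CategoryTheory.Limits AlgebraicGeometry
open Curves

namespace Groth.Agent.S11352

/-- Let k be an algebraically closed field and X a curve over k (an integral scheme, proper over k, of
dimension one, with all local rings regular), and L, L' invertible O_X-modules each with a nonzero
global section (the sheaves of effective divisors D and E). Then dim |D| + dim |E| ≤ dim |D + E|; in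
terms of sections, dim_k H^0(X, L) + dim_k H^0(X, L') ≤ dim_k H^0(X, L ⊗ L') + 1. -/
theorem result (k : Type u) [Field k] [IsAlgClosed k] (X : Scheme.{u}) [X.Over (Spec (CommRingCat.of k))]
    [IsIntegral X] [IsProper (X ↘ (Spec (CommRingCat.of k)))] (hdim : topologicalKrullDim X = 1)
    (hreg : ∀ x : X, IsRegularLocalRing (X.presheaf.stalk x))
    (L L' : X.Modules) (hL : PicF.IsInvertible L) (hL' : PicF.IsInvertible L')
    (hs : Nontrivial (Coh.HH X L 0)) (hs' : Nontrivial (Coh.HH X L' 0)) :
    Module.finrank k (Coh.HH X L 0) + Module.finrank k (Coh.HH X L' 0) ≤ Module.finrank k (Coh.HH X (CohB1.tensorMod L L') 0) + 1 := by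
  obtain ⟨S, hS, hcl⟩ := Groth.Agent.CurveSection.exists_closed_finset k (X := X) hdim 1
  obtain ⟨P, hP⟩ := Finset.card_pos.1 (show 0 < S.card by omega)
  haveI := hreg P
  exact Groth.Agent.CurveCohLib.Hopf.finrank_tensor k hdim (hcl P hP) hL hL' hs hs'

end Groth.Agent.S11352
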