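import Groth.Statements.S11353
import Groth.Agent.Lib.CurveDualPrep
import Groth.Agent.CurveCohLib.RegularCurve
-- import your own Groth.Agent.* helpers here

set_option autoImplicit false
universe u
open CategoryTheory CategoryTheory.Limits AlgebraicGeometry
open Curves

namespace Groth.Agent.S11353

set_option linter.style.haveILetI false
set_option backward.isDefEq.respectTransparency false
set_option backward.isDefEq.respectTransparency.types false

theorem eq_zero_of_subsingleton {X : Scheme.{u}} {P : X.Modules} [Subsingleton (Coh.HH X P 0)]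
    (φ : Coh.structureModule X ⟶ P) : φ = 0 := by
  refine Groth.Agent.CurveRR.hom_ext_one ?_
  refine (AddEquiv.apply_symm_apply (Sheaf.H.equiv₀ (Coh.toAb P) isTerminalTop) _).symm.trans ?_
  rw [Subsingleton.elim ((Sheaf.H.equiv₀ (Coh.toAb P) isTerminalTop).symm _) 0]
  exact map_zero _

/-- A direct summand of a normalized bundle has nonpositive degree. -/
theorem deg_nonpos (k : Type u) [Field k] [IsAlgClosed k] {C : Scheme.{u}} [C.Over (Spec (CommRingCat.of k))]
    [IsIntegral C] [IsProper (C ↘ (Spec (CommRingCat.of k)))] [Smooth (C ↘ (Spec (CommRingCat.of k)))]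
    (hdimC : topologicalKrullDim C = 1)
    {E L : C.Modules} (hL : PicF.IsInvertible L) (i : L ⟶ E) (q : E ⟶ L) (hiq : i ≫ q = 𝟙 L)
    (hneg : ∀ M : C.Modules, PicF.IsInvertible M → Curv2.deg k C M 1 < 0 →
      Subsingleton (Coh.HH C (CohB1.tensorMod E M) 0)) : Curv2.deg k C L 1 ≤ 0 := by
  by_contra hd
  obtain ⟨D, hD, hdD, ⟨e⟩⟩ := Groth.Agent.CurveDuality.exists_inverse_deg k hdimC hL
  haveI := hneg D hD (by omega)
  haveI : Subsingleton (Coh.HH C ((DCoh.tensorBi.obj E).obj D) 0) := this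
  have h0 := eq_zero_of_subsingleton (e.inv ≫ (DCoh.tensorBi.map i).app D)
  have h1 : e.inv = 0 := by
    have := congrArg (· ≫ (DCoh.tensorBi.map q).app D) h0
    simp only [Category.assoc, zero_comp, ← NatTrans.comp_app, ← Functor.map_comp, hiq,
      CategoryTheory.Functor.map_id, NatTrans.id_app, Category.comp_id] at this
    exact this
  have h2 : 𝟙 (Coh.structureModule C) = 0 := by rw [← e.inv_hom_id, h1, zero_comp]
  have h3 := Groth.Agent.CurveBundle.rk_eq (Groth.Agent.InvEnd.isFinLocFreeOfRank_one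
    (Groth.Agent.CurveDeg.isInvertible_structureModule (X := C)))
  rw [Groth.Agent.CurveSlope.rk_eq_zero_of_isZero ((IsZero.iff_id_eq_zero _).2 h2)] at h3
  exact zero_ne_one h3

/-- The statement for a chosen summand carrying a section. -/
theorem aux (k : Type u) [Field k] [IsAlgClosed k] {C : Scheme.{u}} [C.Over (Spec (CommRingCat.of k))]
    [IsIntegral C] [IsProper (C ↘ (Spec (CommRingCat.of k)))] [Smooth (C ↘ (Spec (CommRingCat.of k)))]
    (hdimC : topologicalKrullDim C = 1)
    {E L₁ L₂ : C.Modules} (hL₁ : PicF.IsInvertible L₁) (hL₂ : PicF.IsInvertible L₂) (e : E ≅ L₁ ⊞ L₂)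
    (hneg : ∀ M : C.Modules, PicF.IsInvertible M → Curv2.deg k C M 1 < 0 →
      Subsingleton (Coh.HH C (CohB1.tensorMod E M) 0))
    (s : Coh.structureModule C ⟶ L₁) (hs : s ≠ 0) :
    ∃ L : C.Modules, PicF.IsInvertible L ∧ Curv2.deg k C L 1 ≤ 0 ∧ Nonempty (E ≅ Coh.structureModule C ⊞ L) := by
  haveI := Groth.Agent.CurveCohLib.isNoetherian_of_proper (k := k) (X := C)
  have h1 := deg_nonpos k hdimC hL₁ (biprod.inl ≫ e.inv) (e.hom ≫ biprod.fst) (by simp) hneg
  have h2 := deg_nonpos k hdimC hL₂ (biprod.inr ≫ e.inv) (e.hom ≫ biprod.snd) (by simp) hneg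
  obtain ⟨ha, hb⟩ := Groth.Agent.CurveDeg.deg_le_and_isIso k hdimC.le
    Groth.Agent.CurveDeg.isInvertible_structureModule hL₁ s hs
  rw [Groth.Agent.CurveDeg.deg_structureModule] at ha hb
  haveI := hb (by omega)
  exact ⟨L₂, hL₂, h2, ⟨e ≪≫ biprod.mapIso (asIso s).symm (Iso.refl L₂)⟩⟩

/-- Let C be a curve over an algebraically closed field k (integral, proper over k, of dimension one,
all local rings regular) and E a decomposable locally free sheaf of rank 2 — E ≅ L₁ ⊕ L₂ with L₁, L₂
invertible — which is normalized: H^0(C, E) ≠ 0 while H^0(C, E ⊗ M) = 0 for every invertible M of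
negative degree. Then E ≅ O_C ⊕ L for an invertible L with deg L ≤ 0; in particular e = -deg E ≥ 0. -/
theorem result (k : Type u) [Field k] [IsAlgClosed k] (C : Scheme.{u}) [C.Over (Spec (CommRingCat.of k))]
    [IsIntegral C] [IsProper (C ↘ (Spec (CommRingCat.of k)))] (hdimC : topologicalKrullDim C = 1)
    (hregC : ∀ x : C, IsRegularLocalRing (C.presheaf.stalk x))
    (E L₁ L₂ : C.Modules) (hL₁ : PicF.IsInvertible L₁) (hL₂ : PicF.IsInvertible L₂) (hE : Nonempty (E ≅ L₁ ⊞ L₂))
    (hn0 : Nontrivial (Coh.HH C E 0))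
    (hneg : ∀ M : C.Modules, PicF.IsInvertible M → Curv2.deg k C M 1 < 0 → Subsingleton (Coh.HH C (CohB1.tensorMod E M) 0)) :
    ∃ L : C.Modules, PicF.IsInvertible L ∧ Curv2.deg k C L 1 ≤ 0 ∧ Nonempty (E ≅ Coh.structureModule C ⊞ L) := by
  haveI := Groth.Agent.CurveCohLib.RegularCurve.smooth_of_regular k (X := C) fun x _ => hregC x
  obtain ⟨e⟩ := hE
  obtain ⟨t, ht⟩ := exists_ne (0 : Coh.HH C E 0)
  have hφ := Groth.Agent.CurveSpecial.homOfClass_ne_zero ht
  set φ := Groth.Agent.CurveSpecial.homOfClass t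
  by_cases h1 : φ ≫ e.hom ≫ biprod.fst = 0
  · have h2 : φ ≫ e.hom ≫ biprod.snd ≠ 0 := fun h2 => hφ <| by
      rw [← cancel_mono e.hom, zero_comp]
      exact biprod.hom_ext _ _ (by rw [Category.assoc, h1, zero_comp]) (by rw [Category.assoc, h2, zero_comp])
    exact aux k hdimC hL₂ hL₁ (e ≪≫ biprod.braiding L₁ L₂) hneg _ h2
  · exact aux k hdimC hL₁ hL₂ e hneg _ h1

end Groth.Agent.S11353
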