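import Groth.Statements.S1676
import Groth.Agent.SmoothImmX.Basic
-- import your own Groth.Agent.* helpers here

set_option autoImplicit false
universe u
open CategoryTheory CategoryTheory.Limits AlgebraicGeometry TopologicalSpace
open SDiv

namespace Groth.Agent.S1676

/-- For a section that is a closed immersion, e.g. when f is separated: let f : X ⟶ S be a smooth
morphism and σ : S ⟶ X a section of f which is a closed immersion. Then σ is a regular closed
immersion. -/
theorem result {X S : Scheme.{u}} (f : X ⟶ S) [Smooth f] (σ : S ⟶ X)
    (hσ : σ ≫ f = 𝟙 S) [IsClosedImmersion σ] : Mor2.IsRegularClosedImmersion σ := by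
  exact SmoothImmX.regClosed_section f σ hσ

end Groth.Agent.S1676
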