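import Groth.Statements.S11354
import Groth.Agent.SurfRows.BlowPt
import Groth.Agent.HilbPoly.EllSimple
import Groth.Agent.CurveCohLib.RegularCurve
import Groth.Agent.PnCoh.Chow.Proper

set_option autoImplicit false
set_option backward.isDefEq.respectTransparency false
set_option backward.isDefEq.respectTransparency.types false
set_option linter.style.haveILetI false
set_option linter.unusedSectionVars false
set_option maxHeartbeats 800000
universe u
open CategoryTheory CategoryTheory.Limits AlgebraicGeometry
open Surf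

namespace Groth.Agent.S11354

open Groth.Agent.H23
attribute [local instance] PicMul.clMonoid

/-- Let X be a surface over an algebraically closed field k (an integral scheme of dimension two with
all local rings regular, admitting a closed immersion into some P^n_k over k), P a closed point and
π : X' → X the monoidal transformation with centre P (a blowing up of X in the ideal of P, by its
universal property), with exceptional curve E of ideal I_E, X' being again such a surface, regarded
over k through π. Writing (L·M) = χ(O) - χ(L) - χ(M) + χ(L ⊗ M) for the intersection number of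
invertible modules (packaged as FGA.intNum) on X and on X': (a) (π^*L · π^*M) = (L · M) for
invertible L, M on X; (b) (π^*L · E) = 0, i.e. (π^*L · I_E) = 0; (c) E² = (I_E · I_E) = -1. -/
theorem result (k : Type u) [Field k] [IsAlgClosed k] (X : Scheme.{u}) [X.Over (Spec (CommRingCat.of k))]
    [IsIntegral X] (hdim : topologicalKrullDim X = 2) (hreg : ∀ x : X, IsRegularLocalRing (X.presheaf.stalk x))
    (hproj : ∃ (n : ℕ) (ι : X ⟶ CohB1.ProjSpace n k), IsClosedImmersion ι ∧ ι ≫ CohB1.ProjSpace.toSpec n k = (X ↘ (Spec (CommRingCat.of k))))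
    (P : X) (hP : IsClosed ({P} : Set X))
    (X' : Scheme.{u}) (π : X' ⟶ X) (hπ : BlowUp.IsBlowUp π (Scheme.IdealSheafData.vanishingIdeal ⟨{P}, hP⟩))
    [IsIntegral X'] (hdim' : topologicalKrullDim X' = 2) (hreg' : ∀ x : X', IsRegularLocalRing (X'.presheaf.stalk x))
    (hproj' : ∃ (n : ℕ) (ι : X' ⟶ CohB1.ProjSpace n k), IsClosedImmersion ι ∧ ι ≫ CohB1.ProjSpace.toSpec n k = π ≫ (X ↘ (Spec (CommRingCat.of k))))
    (L M : X.Modules) (hL : PicF.IsInvertible L) (hM : PicF.IsInvertible M) :
    letI : X'.Over (Spec (CommRingCat.of k)) := ⟨π ≫ (X ↘ (Spec (CommRingCat.of k)))⟩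
    FGA.intNum k X' 2 ![(Scheme.Modules.pullback π).obj L, (Scheme.Modules.pullback π).obj M] (Coh.structureModule X') = FGA.intNum k X 2 ![L, M] (Coh.structureModule X) ∧
      FGA.intNum k X' 2 ![(Scheme.Modules.pullback π).obj L, (ClSub.idealMod (BlowUp.exceptional π (Scheme.IdealSheafData.vanishingIdeal ⟨{P}, hP⟩)))] (Coh.structureModule X') = 0 ∧
      FGA.intNum k X' 2 ![(ClSub.idealMod (BlowUp.exceptional π (Scheme.IdealSheafData.vanishingIdeal ⟨{P}, hP⟩))), (ClSub.idealMod (BlowUp.exceptional π (Scheme.IdealSheafData.vanishingIdeal ⟨{P}, hP⟩)))] (Coh.structureModule X') = -1 := by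
  obtain ⟨n, ι, hι, hfac⟩ := hproj
  obtain ⟨N, ι', hι', hfac'⟩ := hproj'
  haveI := hι
  haveI := hι'
  haveI := PnCoh.Chow.isProper_toSpec N k
  haveI := PnCoh.Chow.isProper_toSpec n k
  letI : X'.Over (Spec (CommRingCat.of k)) := ⟨π ≫ (X ↘ (Spec (CommRingCat.of k)))⟩
  haveI : IsProper (X ↘ Spec (CommRingCat.of k)) := by
    rw [← hfac]
    infer_instance
  haveI : IsProper (X' ↘ Spec (CommRingCat.of k)) := by
    show IsProper (π ≫ _)
    rw [← hfac']
    infer_instance
  haveI : Smooth (X' ↘ Spec (CommRingCat.of k)) := CurveCohLib.RegularCurve.smooth_of_regular k fun x _ => hreg' x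
  haveI : Smooth (X ↘ Spec (CommRingCat.of k)) := CurveCohLib.RegularCurve.smooth_of_regular k fun x _ => hreg x
  obtain ⟨hE, h0, h1⟩ := SurfRows.blowPt_exc k P hP π rfl hπ hdim hdim'
  have hπL := PicClLib.isInvertible_pullback π hL
  have hπM := PicClLib.isInvertible_pullback π hM
  refine ⟨?_, ?_, ?_⟩
  · rw [SurfPairing.intNum_eq_pair k hdim'.le hπL hπM, SurfPairing.intNum_eq_pair k hdim.le hL hM]
    exact SurfRows.blowPt_pair k P hP π rfl hπ hdim hdim' (HilbPoly.isAmple_pullback_pn ι) hL hM
  · rw [SurfPairing.intNum_eq_pair k hdim'.le hπL hE, SurfPairing.pair_comm]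
    exact h0 L hL
  · rw [SurfPairing.intNum_eq_pair k hdim'.le hE hE]
    exact h1

end Groth.Agent.S11354
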