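import Groth.Statements.S11355
import Groth.Agent.CurveCohLib.Pencil
import Groth.Agent.CurveCohLib.Clifford
-- import your own Groth.Agent.* helpers here

set_option autoImplicit false
universe u
open CategoryTheory CategoryTheory.Limits AlgebraicGeometry
open Curves

namespace Groth.Agent.S11355

/-- Let k be an algebraically closed field and X a curve over k (an integral scheme, proper over k, of
dimension one, with all local rings regular), of genus g ≥ 2. If X is hyperelliptic its g^1_2 is
unique: for any two linear series (M, s), (M', s') of degree 2 and dimension 1 on X (invertible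
modules of degree 2, each with two k-linearly independent global sections), M ≅ M' (existence of an
isomorphism; for g ≥ 2 such a module has exactly a 2-dimensional space of sections, so the linear
series coincide). -/
theorem result (k : Type u) [Field k] [IsAlgClosed k] (X : Scheme.{u}) [X.Over (Spec (CommRingCat.of k))]
    [IsIntegral X] [IsProper (X ↘ (Spec (CommRingCat.of k)))] (hdim : topologicalKrullDim X = 1)
    (hreg : ∀ x : X, IsRegularLocalRing (X.presheaf.stalk x)) (hg : 2 ≤ Curv2.genus k X)
    (M : X.Modules) (s : Fin 2 → LinSer.Sect X M) (hM : LinSer.IsLinSer k X M 2 1 s)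
    (M' : X.Modules) (s' : Fin 2 → LinSer.Sect X M') (hM' : LinSer.IsLinSer k X M' 2 1 s') :
    Nonempty (M ≅ M') := by
  haveI := Groth.Agent.CurveCohLib.RegularCurve.smooth_of_regular k (X := X) fun x _ => hreg x
  haveI := Groth.Agent.CurveCohLib.isNoetherian_of_proper (k := k) (X := X)
  obtain ⟨hMi, hMd, hMs⟩ := hM
  obtain ⟨hMi', hMd', hMs'⟩ := hM'
  have h0 := Groth.Agent.CurveCohLib.Pencil.le_h0_of_linIndep k (Groth.Agent.CurveDeg.isCoh_of_isInvertible hMi) s hMs
  have h0' := Groth.Agent.CurveCohLib.Pencil.le_h0_of_linIndep k (Groth.Agent.CurveDeg.isCoh_of_isInvertible hMi') s' hMs'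
  have h2 : Module.finrank k (Coh.HH X M 0) = 2 := by
    by_contra hne
    have := Groth.Agent.CurveCohLib.Clifford.dichotomy k hdim hMi (m := 2) (by omega)
    omega
  have hgg : ∀ (p : X) (hp : IsClosed ({p} : Set X)),
      Module.finrank k (Coh.HH X ((DCoh.tensorBi.obj M).obj (Groth.Agent.CurvePoint.ptMod p hp)) 0) <
        Module.finrank k (Coh.HH X M 0) := fun p hp => by
    have hI := Groth.Agent.CurvePoint.isInvertible_ptMod p hp k hdim
    have hT : PicF.IsInvertible ((DCoh.tensorBi.obj M).obj (Groth.Agent.CurvePoint.ptMod p hp)) :=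
      Groth.Agent.InvX.isInvertible_tensorMod hMi hI
    have hd := Groth.Agent.CurveRR.deg_tensor k hdim hMi hI
    rw [hMd, Groth.Agent.CurvePoint.deg_ptMod p hp k] at hd
    by_contra hge
    have := Groth.Agent.CurveCohLib.Clifford.dichotomy k hdim hT (m := 1) (by omega)
    omega
  by_contra hcon
  have hom0 : ∀ φ : M ⟶ M', φ = 0 := fun φ => by
    by_contra hφ
    haveI := (Groth.Agent.CurveDeg.deg_le_and_isIso k hdim.le hMi hMi' φ hφ).2 (by rw [hMd, hMd'])
    exact hcon ⟨asIso φ⟩
  have h4 := Groth.Agent.CurveCohLib.Pencil.two_mul_h0_le k hdim hMi hMi' h2 hgg hom0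
  have hT : PicF.IsInvertible (CohB1.tensorMod M M') := Groth.Agent.InvX.isInvertible_tensorMod hMi hMi'
  have hd : Curv2.deg k X (CohB1.tensorMod M M') 1 = _ := Groth.Agent.CurveRR.deg_tensor k hdim hMi hMi'
  rw [hMd, hMd'] at hd
  have := Groth.Agent.CurveCohLib.Clifford.dichotomy k hdim hT (m := 3) (by omega)
  omega

end Groth.Agent.S11355
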