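import Groth.Statements.S11358
import Groth.Agent.AvramovLib.Two
import Groth.Agent.AvramovLib.Factor
import Groth.Agent.SmoothCompl.Basic
import Groth.Agent.LC.GorQuot
import Groth.Agent.LC.GorFlat
import Groth.Agent.LC.Sop

set_option autoImplicit false
universe u
open CAlg

namespace Groth.Agent.S11358
set_option maxHeartbeats 800000
set_option backward.isDefEq.respectTransparency.types false



/-- A local homomorphism R → S of Artinian local rings factors as R → R' → S with R' Artinian local, R →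
R' flat and local with Gorenstein fibre ring R'/m_R R', and R' → S surjective. -/
theorem result (R S : Type u) [CommRing R] [CommRing S] [IsArtinianRing R] [IsLocalRing R] [IsArtinianRing S] [IsLocalRing S] [Algebra R S] [IsLocalHom (algebraMap R S)] : ∃ (R' : Type u) (_ : CommRing R') (_ : Algebra R R'), IsArtinianRing R' ∧ IsLocalRing R' ∧ Module.Flat R R' ∧ IsLocalHom (algebraMap R R') ∧ LocCoh.IsGorensteinLocalRing (R' ⧸ (IsLocalRing.maximalIdeal R).map (algebraMap R R')) ∧ ∃ g : R' →ₐ[R] S, Function.Surjective g := by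
  haveI := Groth.Agent.SmoothCompl.isAdicComplete_of_artinian R
  haveI := Groth.Agent.SmoothCompl.isAdicComplete_of_artinian S
  obtain ⟨R₀, G, _, _, _, _, _, _, _, _, _, _, π, q, hπ, hq, hc⟩ :=
    Groth.Agent.AvramovLib.exists_regular_cover (IsNoetherian.noetherian (IsLocalRing.maximalIdeal R))
      (IsNoetherian.noetherian (IsLocalRing.maximalIdeal S)) (algebraMap R S)
  let IG := (RingHom.ker π).map (algebraMap R₀ G)
  letI := Groth.Agent.AvramovLib.quotAlgebra (G := G) π hπ
  obtain ⟨_, hflat, hloc, hfib⟩ := Groth.Agent.AvramovLib.factor_facts (G := G) π hπ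
  haveI := hflat
  haveI := hfib
  haveI := @hloc inferInstance
  let T := G ⧸ IG
  have hIq : IG ≤ RingHom.ker q := by
    rw [Ideal.map_le_iff_le_comap]
    intro r hr
    show q (algebraMap R₀ G r) = 0
    rw [← RingHom.comp_apply, hc, RingHom.comp_apply, show π r = 0 from hr, map_zero]
  let g : T →ₐ[R] S :=
    { Ideal.Quotient.lift IG q (fun r hr => hIq hr) with
      commutes' := fun a => by
        obtain ⟨r, rfl⟩ := hπ a
        rw [Groth.Agent.AvramovLib.quotAlgebra_apply π hπ r]
        exact RingHom.congr_fun hc r }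
  have hg : Function.Surjective g := fun b => by
    obtain ⟨x, rfl⟩ := hq b
    exact ⟨Ideal.Quotient.mk IG x, rfl⟩
  haveI : IsLocalHom g.toRingHom := IsLocalHom.of_surjective _ hg
  obtain ⟨N₀, hN₀⟩ := (isArtinianRing_iff_isNilpotent_maximalIdeal S).1 inferInstance
  -- generators of the maximal ideal of the fibre
  let P := (IsLocalRing.maximalIdeal R).map (algebraMap R T)
  let Tb := T ⧸ P
  let D := (IsLocalRing.maximalIdeal Tb).spanFinrank
  have hD : ringKrullDim Tb = (D : WithBot ℕ∞) := ((isRegularLocalRing_iff Tb).1 hfib).symm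
  let gens := (IsLocalRing.maximalIdeal Tb).generators
  have hgf : gens.Finite := Submodule.FG.finite_generators (IsLocalRing.maximalIdeal Tb).fg_of_isNoetherianRing
  let xs : List Tb := hgf.toFinset.toList
  have hxs : Ideal.ofList xs = IsLocalRing.maximalIdeal Tb := by
    refine Eq.trans ?_ (Submodule.span_generators (IsLocalRing.maximalIdeal Tb))
    refine congrArg Ideal.span (Set.ext fun z => ?_)
    simp [xs, gens]
  have hlen : xs.length = D := by
    rw [Finset.length_toList, ← Set.ncard_eq_toFinset_card gens hgf]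
    exact Submodule.FG.generators_ncard (IsLocalRing.maximalIdeal Tb).fg_of_isNoetherianRing
  let N := N₀ + 1
  let zs : List T := xs.map (fun x => (Function.surjInv (Ideal.Quotient.mk_surjective (I := P)) x) ^ N)
  have hzs : zs.map (Ideal.Quotient.mk P) = xs.map (fun x => x ^ N) := by
    simp only [zs, List.map_map]
    exact List.map_congr_left fun x _ => by
      simp only [Function.comp_apply, map_pow, Function.surjInv_eq (Ideal.Quotient.mk_surjective (I := P))]
  have hrad : (Ideal.ofList (xs.map (fun x => x ^ N))).radical = IsLocalRing.maximalIdeal Tb := by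
    refine le_antisymm ?_ ?_
    · rw [Ideal.IsPrime.radical_le_iff inferInstance, Ideal.span_le]
      intro y hy
      obtain ⟨x, hx, rfl⟩ := List.mem_map.1 hy
      exact Ideal.pow_mem_of_mem _ (hxs ▸ Ideal.subset_span hx) N (Nat.succ_pos _)
    · conv_lhs => rw [← hxs]
      exact Ideal.span_le.2 fun x hx => ⟨N, Ideal.subset_span (List.mem_map.2 ⟨x, hx, rfl⟩)⟩
  haveI := Groth.Agent.AvramovLib.isCM_of_regular Tb
  have hwT : RingTheory.Sequence.IsWeaklyRegular Tb (xs.map (fun x => x ^ N)) :=
    Groth.Agent.LC.isWeaklyRegular_of_sop LocCoh.IsCohenMacaulayLocalRing.supportDim_eq_depth D hD _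
      (by rw [List.length_map, hlen]) hrad
  have hmemT : ∀ r ∈ zs, r ∈ IsLocalRing.maximalIdeal T := by
    intro r hr
    have h1 : Ideal.Quotient.mk P r ∈ IsLocalRing.maximalIdeal Tb := by
      rw [← hrad]
      exact Ideal.le_radical (Ideal.subset_span (show Ideal.Quotient.mk P r ∈ xs.map (fun x => x ^ N) from
        hzs ▸ List.mem_map_of_mem hr))
    exact fun hu => h1 (hu.map (Ideal.Quotient.mk P))
  -- regular with flat quotient
  let e : (T ⧸ Groth.Agent.FlatLoc6.mN R T T) ≃ₗ[T] Tb := Submodule.quotEquivOfEq _ _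
    (by show P • (⊤ : Submodule T T) = P; rw [smul_eq_mul, Ideal.mul_top])
  obtain ⟨-, hflatQ⟩ := Groth.Agent.AvramovLib.regular_of_fibre (A := R) zs T (by
    rw [e.isWeaklyRegular_congr zs, ← RingTheory.Sequence.isWeaklyRegular_map_algebraMap_iff Tb Tb zs]
    rw [show zs.map (algebraMap T Tb) = xs.map (fun x => x ^ N) from hzs]
    exact hwT)
  let Z := Ideal.ofList zs
  haveI : Module.Flat R (T ⧸ Z) := Module.Flat.of_linearEquiv
    ((Submodule.quotEquivOfEq Z (Z • ⊤ : Submodule T T) (by rw [smul_eq_mul, Ideal.mul_top])).restrictScalars R)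
  haveI : Nontrivial (T ⧸ Z) := Ideal.Quotient.nontrivial_iff.2 (ne_top_of_le_ne_top
    (IsLocalRing.maximalIdeal.isMaximal T).ne_top (Ideal.span_le.2 hmemT))
  haveI : IsLocalRing (T ⧸ Z) := IsLocalRing.of_surjective' (Ideal.Quotient.mk Z) Ideal.Quotient.mk_surjective
  have hZg : ∀ a ∈ Z, g a = 0 := by
    intro a ha
    refine (Ideal.span_le.2 ?_ : Z ≤ RingHom.ker g.toRingHom) ha
    intro r hr
    obtain ⟨x, hx, rfl⟩ := List.mem_map.1 (show r ∈ zs from hr)
    let y := Function.surjInv (Ideal.Quotient.mk_surjective (I := P)) x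
    have hy : y ∈ IsLocalRing.maximalIdeal T := fun hu => by
      have h1 : Ideal.Quotient.mk P y ∈ IsLocalRing.maximalIdeal Tb := by
        rw [Function.surjInv_eq (Ideal.Quotient.mk_surjective (I := P))]
        exact hxs ▸ Ideal.subset_span hx
      exact h1 (hu.map _)
    have h2 : g.toRingHom y ^ N ∈ IsLocalRing.maximalIdeal S ^ N :=
      Ideal.pow_mem_pow (map_nonunit g.toRingHom y hy) N
    rw [show N = N₀ + 1 from rfl, pow_succ (IsLocalRing.maximalIdeal S), hN₀, zero_mul] at h2
    rw [SetLike.mem_coe, RingHom.mem_ker, map_pow]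
    exact (Ideal.mem_bot).1 h2
  let g' : (T ⧸ Z) →ₐ[R] S := Ideal.Quotient.liftₐ Z g hZg
  have hQloc : IsLocalHom (algebraMap R (T ⧸ Z)) := ⟨fun a ha => isUnit_of_map_unit (algebraMap R S) a (by
    rw [← g'.comp_algebraMap]
    exact ha.map (g' : (T ⧸ Z) →+* S))⟩
  have hmap : (IsLocalRing.maximalIdeal R).map (algebraMap R (T ⧸ Z)) = P.map (Ideal.Quotient.mk Z) := by
    rw [Ideal.map_map]
    rfl
  -- Artinian
  have hart : IsArtinianRing (T ⧸ Z) := by
    rw [isArtinianRing_iff_isNilpotent_maximalIdeal]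
    obtain ⟨N₁, hN₁⟩ := (isArtinianRing_iff_isNilpotent_maximalIdeal R).1 inferInstance
    have hP : IsNilpotent ((IsLocalRing.maximalIdeal R).map (algebraMap R (T ⧸ Z))) :=
      ⟨N₁, by rw [← Ideal.map_pow, hN₁]; exact Ideal.map_bot⟩
    obtain ⟨M, hM⟩ := Ideal.exists_pow_le_of_le_radical_of_fg (I := IsLocalRing.maximalIdeal (T ⧸ Z))
      (J := (IsLocalRing.maximalIdeal R).map (algebraMap R (T ⧸ Z))) (by
        intro w hw
        obtain ⟨t, rfl⟩ := Ideal.Quotient.mk_surjective w
        have ht : t ∈ IsLocalRing.maximalIdeal T := fun hu => hw (hu.map _)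
        have h1 : Ideal.Quotient.mk P t ∈ IsLocalRing.maximalIdeal Tb := by
          rw [← IsLocalRing.map_maximalIdeal_of_surjective (Ideal.Quotient.mk P) Ideal.Quotient.mk_surjective]
          exact Ideal.mem_map_of_mem _ ht
        rw [← hrad, ← hzs, ← Ideal.map_ofList] at h1
        obtain ⟨k, hk⟩ := h1
        refine ⟨k, ?_⟩
        rw [← map_pow, Ideal.mem_quotient_iff_mem_sup] at hk
        rw [← map_pow, hmap]
        obtain ⟨a, ha, b, hb, hab⟩ := Submodule.mem_sup.1 hk
        rw [← hab, map_add, Ideal.Quotient.eq_zero_iff_mem.2 ha, zero_add]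
        exact Ideal.mem_map_of_mem _ hb)
      (IsNoetherian.noetherian _)
    obtain ⟨N₂, hN₂⟩ := hP
    refine ⟨M * N₂, le_bot_iff.1 ?_⟩
    rw [pow_mul]
    exact (Ideal.pow_right_mono hM N₂).trans hN₂.le
  -- Gorenstein fibre
  have hgor : LocCoh.IsGorensteinLocalRing ((T ⧸ Z) ⧸ (IsLocalRing.maximalIdeal R).map (algebraMap R (T ⧸ Z))) := by
    haveI : LocCoh.IsGorensteinLocalRing Tb := Groth.Agent.LC.gorenstein_of_isRegularLocalRing
    have hm : ∀ r ∈ xs.map (fun x => x ^ N), r ∈ IsLocalRing.maximalIdeal Tb :=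
      fun r hr => hrad ▸ Ideal.le_radical (Ideal.subset_span hr)
    haveI := Groth.Agent.LC.gorenstein_quotient_ofList (xs.map (fun x => x ^ N)) hm hwT
    haveI : Nontrivial ((T ⧸ Z) ⧸ (IsLocalRing.maximalIdeal R).map (algebraMap R (T ⧸ Z))) :=
      Ideal.Quotient.nontrivial_iff.2 (ne_top_of_le_ne_top (IsLocalRing.maximalIdeal.isMaximal _).ne_top
        (IsLocalRing.map_maximalIdeal_le (algebraMap R (T ⧸ Z))))
    haveI : IsLocalRing ((T ⧸ Z) ⧸ (IsLocalRing.maximalIdeal R).map (algebraMap R (T ⧸ Z))) :=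
      IsLocalRing.of_surjective' (Ideal.Quotient.mk _) Ideal.Quotient.mk_surjective
    refine Groth.Agent.LC.gorenstein_of_ringEquiv (A := Tb ⧸ Ideal.ofList (xs.map (fun x => x ^ N))) ?_
    exact ((Ideal.quotEquivOfEq (show Ideal.ofList (xs.map (fun x => x ^ N)) = Z.map (Ideal.Quotient.mk P) by
      rw [Ideal.map_ofList, hzs])).trans ((DoubleQuot.quotQuotEquivQuotSup P Z).trans
        ((Ideal.quotEquivOfEq (sup_comm P Z)).trans ((DoubleQuot.quotQuotEquivQuotSup Z P).symm.trans
          (Ideal.quotEquivOfEq hmap.symm)))))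
  exact ⟨T ⧸ Z, inferInstance, inferInstance, hart, inferInstance, inferInstance, hQloc, hgor, g', fun s => by
    obtain ⟨t, rfl⟩ := hg s
    exact ⟨Ideal.Quotient.mk Z t, rfl⟩⟩


end Groth.Agent.S11358
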