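import Groth.Statements.S11368
import Groth.Agent.AmpleVan.Components
import Groth.Agent.Lib.SurfAmple

set_option autoImplicit false
set_option backward.isDefEq.respectTransparency false
set_option backward.isDefEq.respectTransparency.types false
set_option linter.style.haveILetI false
set_option linter.unusedSectionVars false
set_option maxHeartbeats 400000
universe u
open CategoryTheory CategoryTheory.Limits AlgebraicGeometry TopologicalSpace
open Variety

namespace Groth.Agent.S11368

/-- For X proper over an algebraically closed field k and L an invertible O_X-module, L is ample on X if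
and only if for every irreducible component X_i of X, with its reduced closed subscheme structure
(the vanishing ideal of the closed set X_i), the pullback of L to X_i is ample. -/
theorem result (k : Type u) [Field k] [IsAlgClosed k] (X : Scheme.{u})
    [X.Over (Spec (CommRingCat.of k))] [IsProper (X ↘ (Spec (CommRingCat.of k)))]
    (L : X.Modules) (hL : PicF.IsInvertible L) :
    CohB1.IsAmple L ↔
      ∀ Z : Closeds X, (Z : Set X) ∈ irreducibleComponents X →
        CohB1.IsAmple ((Scheme.Modules.pullback
          (Scheme.IdealSheafData.vanishingIdeal Z).subschemeι).obj L) := by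
  classical
  haveI : CompactSpace X := QuasiCompact.compactSpace_of_compactSpace (X ↘ Spec (CommRingCat.of k))
  haveI : IsLocallyNoetherian X := LocallyOfFiniteType.isLocallyNoetherian (X ↘ Spec (CommRingCat.of k))
  haveI : IsNoetherian X := {}
  refine ⟨fun h Z _ => ?_, fun h => ?_⟩
  · haveI : CompactSpace (Scheme.IdealSheafData.vanishingIdeal Z).subscheme :=
      (Scheme.IdealSheafData.vanishingIdeal Z).subschemeι.isClosedEmbedding.compactSpace
    exact AmpleVan.FiniteSurj.isAmple_pullback_of_isAffineHom _ h
  · let s : Finset (Closeds X) := (TopologicalSpace.NoetherianSpace.finite_irreducibleComponents (α := X)).toFinset.attach.image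
      fun C => ⟨C.1, isClosed_of_mem_irreducibleComponents _ ((Set.Finite.mem_toFinset _).1 C.2)⟩
    refine AmpleVan.FiniteSurj.isAmple_of_finite_cover (A := k) hL s ?_ fun D hD => ?_
    · refine top_le_iff.1 fun x _ => ?_
      have hle : (⟨irreducibleComponent x, isClosed_irreducibleComponent⟩ : Closeds X) ≤ s.sup id :=
        Finset.le_sup (f := id) (Finset.mem_image.2 ⟨⟨_, (Set.Finite.mem_toFinset _).2
          (irreducibleComponent_mem_irreducibleComponents x)⟩, Finset.mem_attach _ _, rfl⟩)
      exact hle mem_irreducibleComponent
    obtain ⟨⟨C, hC⟩, -, rfl⟩ := Finset.mem_image.1 hD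
    exact h _ ((Set.Finite.mem_toFinset _).1 hC)

end Groth.Agent.S11368
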