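import Groth.Statements.S11369
import Groth.Agent.Lib.GenLocusGG
import Groth.Agent.AmpleVan.Components
import Groth.Agent.Lib.CurveAmple
import Groth.Agent.AmpleX.QAGenerated

set_option autoImplicit false
set_option backward.isDefEq.respectTransparency false
set_option backward.isDefEq.respectTransparency.types false
set_option linter.style.haveILetI false
set_option linter.unusedSectionVars false
set_option maxHeartbeats 400000
universe u
open CategoryTheory CategoryTheory.Limits AlgebraicGeometry TopologicalSpace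
open Variety

namespace Groth.Agent.S11369

open Groth.Agent.H23 Groth.Agent.H23.TrivBasic

theorem isOpen_finite_singleton {α : Type*} [TopologicalSpace α] [JacobsonSpace α] {W : Set α}
    (hW : IsIrreducible W) (hc : IsClosed W) (hf : W.Finite) : W.Subsingleton := by
  have hcl : W ∩ closedPoints α = W := by
    have h := JacobsonSpace.closure_inter_closedPoints hc
    have hsub : IsClosed (W ∩ closedPoints α) := by
      rw [← Set.biUnion_of_singleton (W ∩ closedPoints α)]
      exact (hf.subset Set.inter_subset_left).isClosed_biUnion fun x hx => mem_closedPoints_iff.1 hx.2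
    rwa [hsub.closure_eq] at h
  have hun : ∀ s ⊆ W, IsClosed s := fun s hs => by
    rw [← Set.biUnion_of_singleton s]
    exact (hf.subset hs).isClosed_biUnion fun x hx => mem_closedPoints_iff.1 (hcl.ge (hs hx)).2
  intro a ha b hb
  by_contra hab
  have := hW.2 ({a} : Set α)ᶜ ({b} : Set α)ᶜ (hun _ (Set.singleton_subset_iff.2 ha)).isOpen_compl
    (hun _ (Set.singleton_subset_iff.2 hb)).isOpen_compl ⟨b, hb, Ne.symm hab⟩ ⟨a, ha, hab⟩
  obtain ⟨c, hcW, hca, hcb⟩ := this
  have h2 := hW.2 (W \ {a})ᶜ (({a} : Set α))ᶜ (hun _ Set.sdiff_subset).isOpen_compl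
    (hun _ (Set.singleton_subset_iff.2 ha)).isOpen_compl
    ⟨a, ha, fun h => h.2 rfl⟩ ⟨b, hb, Ne.symm hab⟩
  obtain ⟨d, hdW, hd1, hd2⟩ := h2
  exact hd1 ⟨hdW, hd2⟩

theorem exists_curve_in {X : Scheme.{u}} [IsNoetherian X] [JacobsonSpace X] {W : Set X} (hc : IsClosed W)
    (hW : IsIrreducible W) (hinf : W.Infinite) :
    ∃ Z : Closeds X, (Z : Set X) ⊆ W ∧ IsIrreducible (Z : Set X) ∧
      topologicalKrullDim (Z : Set X) = 1 := by
  obtain ⟨Z, ⟨hZW, hZi, hZf⟩, hmin⟩ := WellFounded.has_min (wellFounded_lt (α := Closeds X))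
    {Z : Closeds X | (Z : Set X) ⊆ W ∧ IsIrreducible (Z : Set X) ∧ (Z : Set X).Infinite}
    ⟨⟨W, hc⟩, le_refl _, hW, hinf⟩
  refine ⟨Z, hZW, hZi, le_antisymm ?_ ?_⟩
  · refine Order.krullDim_le_one_iff.2 fun a => ?_
    let A : Closeds X := ⟨Subtype.val '' (a : Set (Z : Set X)),
      Z.isClosed.isClosedEmbedding_subtypeVal.isClosedMap _ a.isClosed⟩
    have hA : IsIrreducible (A : Set X) := a.isIrreducible.image _ continuous_subtype_val.continuousOn
    have hAZ : (A : Set X) ⊆ Z := by
      rintro _ ⟨z, -, rfl⟩
      exact z.2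
    rcases Set.finite_or_infinite (A : Set X) with hf | hi
    · refine Or.inl fun b hb z hz => ?_
      obtain ⟨w, hw⟩ := b.isIrreducible.nonempty
      have := isOpen_finite_singleton hA A.isClosed hf ⟨w, hb hw, rfl⟩ ⟨z, hz, rfl⟩
      rw [← Subtype.ext this]
      exact hw
    · refine Or.inr fun b hb z _ => ?_
      have h1 : ¬ A < Z := hmin A ⟨hAZ.trans hZW, hA, hi⟩
      have h2 : A = Z := by
        by_contra h
        exact h1 (lt_of_le_of_ne hAZ h)
      have hz : (z : X) ∈ (A : Set X) := by rw [h2]; exact z.2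
      obtain ⟨z', hz', e⟩ := hz
      rwa [← Subtype.ext e]
  · obtain ⟨x, hxZ, hxc⟩ := nonempty_inter_closedPoints hZi.nonempty Z.isClosed.isLocallyClosed
    haveI : Infinite (Z : Set X) := hZf.to_subtype
    have hx : IsClosed ({⟨x, hxZ⟩} : Set (Z : Set X)) := by
      rw [show ({⟨x, hxZ⟩} : Set (Z : Set X)) = Subtype.val ⁻¹' {x} by ext ⟨y, hy⟩; simp]
      exact (mem_closedPoints_iff.1 hxc).preimage continuous_subtype_val
    haveI := Subtype.irreducibleSpace hZi
    let b : TopologicalSpace.IrreducibleCloseds (Z : Set X) := ⟨{⟨x, hxZ⟩}, isIrreducible_singleton, hx⟩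
    let t : TopologicalSpace.IrreducibleCloseds (Z : Set X) :=
      ⟨Set.univ, IrreducibleSpace.isIrreducible_univ _, isClosed_univ⟩
    have hlt : b < t := lt_of_le_of_ne (fun z _ => trivial) fun h => by
      have h' : ({⟨x, hxZ⟩} : Set (Z : Set X)) = Set.univ := congrArg SetLike.coe h
      exact Set.infinite_univ (h' ▸ Set.finite_singleton _)
    exact le_iSup_of_le ((RelSeries.singleton _ b).snoc t hlt) (le_of_eq rfl)

/-- Let X be proper over an algebraically closed field k and L an invertible O_X-module generated by its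
global sections. If for every integral closed subscheme C of X of dimension one the pullback of L to
C is ample, then L is ample. -/
theorem result (k : Type u) [Field k] [IsAlgClosed k] (X : Scheme.{u})
    [X.Over (Spec (CommRingCat.of k))] [IsProper (X ↘ (Spec (CommRingCat.of k)))]
    (L : X.Modules) (hL : PicF.IsInvertible L) (hgen : Curv2.IsGloballyGenerated L)
    (hcurves : ∀ C : X.IdealSheafData, IsIntegral C.subscheme →
      topologicalKrullDim (C.support : Set X) = 1 →
        CohB1.IsAmple ((Scheme.Modules.pullback C.subschemeι).obj L)) :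
    CohB1.IsAmple L := by
  classical
  let π := X ↘ Spec (CommRingCat.of k)
  haveI : IsLocallyNoetherian X := LocallyOfFiniteType.isLocallyNoetherian π
  haveI : CompactSpace X := QuasiCompact.compactSpace_of_compactSpace π
  haveI : IsNoetherian X := {}
  haveI : JacobsonSpace X := LocallyOfFiniteType.jacobsonSpace π
  refine AVAmple.isAmple_of_nontriv π hL (fun x => ?_) fun {C} j hj hC htr => ?_
  · exact GenLocusGG.exists_mem_locus hL hgen x
  haveI := hj; haveI := hC
  by_contra hinf
  rw [not_finite_iff_infinite] at hinf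
  have hirr : IsIrreducible (Set.range j) := Set.image_univ ▸
    (IrreducibleSpace.isIrreducible_univ C).image _ j.continuous.continuousOn
  obtain ⟨Z, hZC, hZi, hdim⟩ := exists_curve_in j.isClosedEmbedding.isClosed_range hirr
    (Set.infinite_range_of_injective j.isClosedEmbedding.injective)
  let J := Scheme.IdealSheafData.vanishingIdeal Z
  let ι := J.subschemeι
  haveI := H23.RedSub.isReduced_vanishingIdeal Z
  have hrange : Set.range ι = (Z : Set X) := AmpleVan.FiniteSurj.range_vanishingIdeal Z
  haveI : IrreducibleSpace J.subscheme := by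
    haveI := Subtype.irreducibleSpace (hrange ▸ hZi : IsIrreducible (Set.range ι))
    exact ι.isEmbedding.toHomeomorph.irreducibleSpace_iff.2 inferInstance
  haveI : IsIntegral J.subscheme := isIntegral_of_irreducibleSpace_of_isReduced _
  have hamp := hcurves J inferInstance (by rw [Scheme.IdealSheafData.coe_support_vanishingIdeal]; exact hdim)
  have hd : topologicalKrullDim J.subscheme = 1 := by
    rw [(IsHomeomorph.topologicalKrullDim_eq _ ι.isEmbedding.toHomeomorph.isHomeomorph)]
    exact (IsHomeomorph.topologicalKrullDim_eq _ (Homeomorph.setCongr hrange).isHomeomorph).trans hdim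
  obtain ⟨a, ha⟩ := H23.RedSub.exists_lift_closed ι j (by rw [hrange]; exact hZC)
  obtain ⟨τ⟩ := htr
  obtain ⟨e₀⟩ := PicClLib.nonempty_pullback_structureModule a
  have e := ((Scheme.Modules.pullbackCongr ha).app L).symm ≪≫ ((Scheme.Modules.pullbackComp a j).app L).symm ≪≫
    (Scheme.Modules.pullback a).mapIso τ ≪≫ e₀
  letI : J.subscheme.Over (Spec (CommRingCat.of k)) := ⟨ι ≫ π⟩
  haveI : IsProper (J.subscheme ↘ Spec (CommRingCat.of k)) := inferInstanceAs (IsProper (ι ≫ π))
  have hpos := CurveAmple.deg_pos_of_ample (k := k) hd hamp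
  rw [CurveRR.deg_congr (k := k) e, CurveDeg.deg_structureModule] at hpos
  exact lt_irrefl _ hpos

end Groth.Agent.S11369
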