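import Groth.Statements.S1137
import Groth.Agent.Pi1Ext.HyperDown
-- import your own Groth.Agent.* helpers here

set_option autoImplicit false
universe u
open Pi1

namespace Groth.Agent.S1137

open AlgebraicGeometry CategoryTheory CategoryTheory.Limits in
/-- Let A be a Noetherian local ring, f an element of the maximal ideal with (A, (f)) a henselian pair,
and A' the adic completion of A. Let U and U₀ be the punctured spectra of A and of A/fA, and U', U'₀
their base changes along Spec A' ⟶ Spec A. If restriction of finite etale covers from U' to U'₀ is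
fully faithful, then restriction from U to U₀ is fully faithful. -/
theorem result (A : Type u) [CommRing A] [IsNoetherianRing A] [IsLocalRing A] (f : A) (hf : f ∈ IsLocalRing.maximalIdeal A) [HenselianRing A (Ideal.span {f})]
    (h : (FEt.restrict (pullback.fst (pullback.fst (FEt.puncturedSpec A).ι (Spec.map (CommRingCat.ofHom (algebraMap A (AdicCompletion (IsLocalRing.maximalIdeal A) A))))) (pullback.fst (FEt.puncturedSpec A).ι (Spec.map (CommRingCat.ofHom (Ideal.Quotient.mk (Ideal.span {f}))))))).Full ∧ (FEt.restrict (pullback.fst (pullback.fst (FEt.puncturedSpec A).ι (Spec.map (CommRingCat.ofHom (algebraMap A (AdicCompletion (IsLocalRing.maximalIdeal A) A))))) (pullback.fst (FEt.puncturedSpec A).ι (Spec.map (CommRingCat.ofHom (Ideal.Quotient.mk (Ideal.span {f}))))))).Faithful) :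
    (FEt.restrict (pullback.fst (FEt.puncturedSpec A).ι (Spec.map (CommRingCat.ofHom (Ideal.Quotient.mk (Ideal.span {f})))))).Full ∧ (FEt.restrict (pullback.fst (FEt.puncturedSpec A).ι (Spec.map (CommRingCat.ofHom (Ideal.Quotient.mk (Ideal.span {f})))))).Faithful := by
  haveI : Module.Flat A (AdicCompletion (IsLocalRing.maximalIdeal A) A) := AdicCompletion.flat_of_isNoetherian _
  haveI := Groth.Agent.LC.Canon.faithfullyFlat_completion (R := A)
  exact Groth.Agent.Pi1Ext.HyperDown.full_faithful f hf (AdicCompletion (IsLocalRing.maximalIdeal A) A)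
    (fun N a => Groth.Agent.Pi1Ext.ComplGlue.exists_approx N a) h

end Groth.Agent.S1137
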