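import Groth.Statements.S11370
import Groth.Agent.Lib.NefTop

set_option autoImplicit false
set_option backward.isDefEq.respectTransparency false
set_option backward.isDefEq.respectTransparency.types false
set_option linter.style.haveILetI false
set_option linter.unusedSectionVars false
set_option maxHeartbeats 400000
universe u
open CategoryTheory CategoryTheory.Limits AlgebraicGeometry TopologicalSpace
open Variety

namespace Groth.Agent.S11370

/-- Let X be proper over an algebraically closed field k and L an invertible O_X-module such that (L ·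
C) = χ(O_C ⊗ L) - χ(O_C) ≥ 0 for every integral closed subscheme C ⊆ X of dimension one. Then for
every integral closed subscheme Z ⊆ X of dimension d > 0 the intersection number (L^d · Z) is ≥ 0;
here (L^d · Z) is the coefficient of n_1⋯n_d in any rational polynomial P with χ(X, O_Z ⊗ L^{⊗n_1} ⊗
⋯ ⊗ L^{⊗n_d}) = P(n_1, …, n_d) for all exponents in ℕ^d. (The published statement is phrased for a
Cartier divisor D; it depends on D only through L = O_X(D), and the printed reduction to integral X
covers every invertible L.) -/
theorem result (k : Type u) [Field k] [IsAlgClosed k] (X : Scheme.{u})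
    [X.Over (Spec (CommRingCat.of k))] [IsProper (X ↘ (Spec (CommRingCat.of k)))]
    (L : X.Modules) (hL : PicF.IsInvertible L)
    (hnef : ∀ C : X.IdealSheafData, IsIntegral C.subscheme →
      topologicalKrullDim (C.support : Set X) = 1 → 0 ≤ (Curv2.euler k X (CohB1.tensorMod (ClSub.quotMod C) L) - Curv2.euler k X (ClSub.quotMod C)))
    (Z : X.IdealSheafData) [IsIntegral Z.subscheme] (d : ℕ) (hd : 0 < d)
    (hZ : topologicalKrullDim (Z.support : Set X) = d)
    (P : MvPolynomial (Fin d) ℚ)
    (hP : ∀ n : Fin d → ℕ, (Curv2.euler k X (Curv2.tensorPows (ClSub.quotMod Z) d (fun _ => L) n) : ℚ) =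
      MvPolynomial.eval (fun i => (n i : ℚ)) P) :
    0 ≤ MvPolynomial.coeff (Finsupp.equivFunOnFinite.symm fun _ : Fin d => 1) P := by
  obtain ⟨Q, hQd, hQm⟩ := Groth.Agent.Nakai.exists_poly k hL Z hZ
  have hPQ : P = Groth.Agent.Nakai.sumSubst d Q := MvPolynomial.funext_set (fun _ => Set.range ((↑) : ℕ → ℚ))
    (fun _ => Set.infinite_range_of_injective Nat.cast_injective) fun x hx => by
      choose n hn using fun i => hx i trivial
      obtain rfl : x = fun i => (n i : ℚ) := funext fun i => (hn i).symm
      rw [← hP, Groth.Agent.Nakai.eval_sumSubst, Groth.Agent.Nakai.euler_tensorPows, hQm]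
  obtain ⟨c, hc, e⟩ := Groth.Agent.Nakai.coeff_sumSubst d Q
  rw [hPQ, e]
  let i := Z.subschemeι
  letI : Z.subscheme.Over (Spec (CommRingCat.of k)) := ⟨i ≫ (X ↘ (Spec (CommRingCat.of k)))⟩
  haveI : IsProper (Z.subscheme ↘ Spec (CommRingCat.of k)) :=
    inferInstanceAs (IsProper (i ≫ (X ↘ Spec (CommRingCat.of k))))
  have hd1 : topologicalKrullDim Z.subscheme = d := by
    rw [IsHomeomorph.topologicalKrullDim_eq _
      ((i.isEmbedding.toHomeomorph).trans (Homeomorph.setCongr Z.range_subschemeι)).isHomeomorph, hZ]
  exact mul_nonneg hc.le (Groth.Agent.NefTop.coeff_nonneg k (Groth.Agent.PicClLib.isInvertible_pullback i hL)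
    (Groth.Agent.NefPull.isNef_pullback i rfl hL hnef) hd1 hQd fun m => by
      rw [← hQm m, Groth.Agent.Nakai.chi_eq k hL Z m])

end Groth.Agent.S11370
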