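import Groth.Statements.S11371
import Groth.Agent.Lib.IntNumEquiv
import Groth.Agent.Nakai.Coeff

set_option autoImplicit false
set_option backward.isDefEq.respectTransparency false
set_option backward.isDefEq.respectTransparency.types false
set_option linter.style.haveILetI false
set_option linter.unusedSectionVars false
set_option maxHeartbeats 400000
universe u
open CategoryTheory CategoryTheory.Limits AlgebraicGeometry TopologicalSpace
open Variety

namespace Groth.Agent.S11371

/-- Let X be proper over an algebraically closed field k and L, L' invertible O_X-modules that are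
numerically equivalent: (L · C) = (L' · C), i.e. χ(O_C ⊗ L) = χ(O_C ⊗ L'), for every integral closed
subscheme C ⊆ X of dimension one. If L is ample then L' is ample. (The published statement is
phrased for Cartier divisors; it depends on them only through the associated invertible modules, and
the printed reduction to integral X covers every invertible module.) -/
theorem result (k : Type u) [Field k] [IsAlgClosed k] (X : Scheme.{u})
    [X.Over (Spec (CommRingCat.of k))] [IsProper (X ↘ (Spec (CommRingCat.of k)))]
    (L L' : X.Modules) (hL : PicF.IsInvertible L) (hL' : PicF.IsInvertible L')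
    (hnum : ∀ C : X.IdealSheafData, IsIntegral C.subscheme →
      topologicalKrullDim (C.support : Set X) = 1 →
        Curv2.euler k X (CohB1.tensorMod (ClSub.quotMod C) L) =
          Curv2.euler k X (CohB1.tensorMod (ClSub.quotMod C) L'))
    (hamp : CohB1.IsAmple L) : CohB1.IsAmple L' := by
  refine Nakai.isAmple_of_pos k hL' (Nakai.isPos_of_coeff hL' fun Z _ d hd hZd P hP => ?_)
  haveI := CurveCohLib.isNoetherian_of_proper (k := k) (X := X)
  have hle : Cyc.CohLe (SnapLead.δ k) d (ClSub.quotMod Z) :=
    SnapLead.cohLe_of_dim k (ParShLib.isCoh_quotMod Z) ((IntCoeff.dim_support_quotMod_le Z).trans hZd.le)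
  have hlt : topologicalKrullDim ↥(CohB1.support (ClSub.quotMod Z)) < ((d + 1 : ℕ) : WithBot ℕ∞) :=
    SnapLead.dim_support_lt k (d := d + 1) (F := ClSub.quotMod Z) (by simpa using hle)
  obtain ⟨Q, hQd, hQn⟩ := Snapper.isMPolyLt_of_dim_lt k (L := fun _ : Fin d => L) (fun _ => hL) (d + 1)
    ⟨_, QCoh.isClosed_support_of_isFT hle.1.1 hle.1.2⟩ hlt (ClSub.quotMod Z) hle.1 subset_rfl
  have h1 := Nakai.coeff_pos hamp Z d hZd Q hQn
  have e1 := IntAlt.coeff_eq_alt k hle (fun _ => hL) Q hQn
  have e2 := IntAlt.coeff_eq_alt k hle (fun _ => hL') P hP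
  have e3 : H23.IntNumCycle.alt k d (fun _ => L) (ClSub.quotMod Z) = H23.IntNumCycle.alt k d (fun _ => L') (ClSub.quotMod Z) :=
    IntAlt.alt_numEq k d _ _ (fun _ => hL) (fun _ => hL') (fun _ => IntAlt.numEq_of_ideal k hnum) _ hle
  rw [e3] at e1
  show 0 < P.coeff (IntCoeff.ones d)
  rw [e2, ← e1]
  exact h1

end Groth.Agent.S11371
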