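import Groth.Statements.S11372
import Groth.Agent.Nakai.SemiAmple
import Groth.Agent.AmpleX.Generated

set_option autoImplicit false
set_option backward.isDefEq.respectTransparency false
set_option backward.isDefEq.respectTransparency.types false
set_option linter.style.haveILetI false
set_option linter.unusedSectionVars false
set_option maxHeartbeats 400000
universe u
open CategoryTheory CategoryTheory.Limits AlgebraicGeometry TopologicalSpace
open Variety

namespace Groth.Agent.S11372

open Groth.Agent.H23
attribute [local instance] PicMul.clMonoid

/-- Let X be proper and integral over an algebraically closed field k, L an invertible O_X-module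
generated by its global sections, and s : O_X ⟶ L a global section, with U = X_s the open subset
where s generates L (the complement of the support of the effective divisor of s). If U contains no
integral closed subscheme of X of dimension one, then U is an affine open of X. -/
theorem result (k : Type u) [Field k] [IsAlgClosed k] (X : Scheme.{u})
    [X.Over (Spec (CommRingCat.of k))] [IsProper (X ↘ (Spec (CommRingCat.of k)))] [IsIntegral X]
    (L : X.Modules) (hL : PicF.IsInvertible L) (hgen : Curv2.IsGloballyGenerated L)
    (s : Coh.structureModule X ⟶ L)
    (hcurves : ∀ C : X.IdealSheafData, IsIntegral C.subscheme →
      topologicalKrullDim (C.support : Set X) = 1 →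
        ¬ ((C.support : Set X) ⊆ (CohB1.genLocus L s : Set X))) :
    IsAffineOpen (CohB1.genLocus L s) := by
  have h := Nakai.isAffineOpen_locus k hL hgen (InvX.one s)
  unfold TrivBasic.locus at h
  rw [AVAmple.ofSect_one] at h
  exact h hcurves

end Groth.Agent.S11372
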