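import Groth.Statements.S11373
import Groth.Agent.AffCompl.Compl

set_option autoImplicit false
universe u
open CategoryTheory CategoryTheory.Limits AlgebraicGeometry TopologicalSpace
open Variety

namespace Groth.Agent.S11373

/-- Let X be proper and integral over an algebraically closed field k with dim X ≥ 2, and let U ≠ X be
an affine open subset. Then X ∖ U is connected. (The published statement names only a complete
scheme of dimension ≥ 2; the standing setting of its chapter, which this row keeps, takes X complete
and integral, and the published proof passes to the normalization of an integral X. Integrality
cannot be dropped: for two projective planes glued at one point and U the complement of a line in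
each plane avoiding that point, U is affine and X ∖ U is two disjoint lines.) -/
theorem result (k : Type u) [Field k] [IsAlgClosed k] (X : Scheme.{u})
    [X.Over (Spec (CommRingCat.of k))] [IsProper (X ↘ (Spec (CommRingCat.of k)))] [IsIntegral X]
    (hdim : (2 : WithBot ℕ∞) ≤ topologicalKrullDim X)
    (U : X.Opens) (hU : IsAffineOpen U) (hUX : U ≠ ⊤) :
    _root_.IsConnected ((U : Set X)ᶜ) := by
  by_cases hne : (U : Set X).Nonempty
  · exact Groth.Agent.AffCompl.isConnected_compl k (X ↘ Spec (CommRingCat.of k)) hdim hU hne
  · rw [Set.not_nonempty_iff_eq_empty.1 hne, Set.compl_empty]
    exact isConnected_univ


end Groth.Agent.S11373
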