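import Groth.Statements.S11376
import Groth.Agent.Lib.RegularResolution
set_option autoImplicit false
universe u
open CategoryTheory CategoryTheory.Limits AlgebraicGeometry TopologicalSpace
open CohDim

namespace Groth.Agent.S11376

/-- Let S be an integral scheme, separated and of finite type over an algebraically closed field k, with
all local rings regular, and let r ≥ 0. If H^i(S, E) is finite-dimensional over k for every i > r
and every finite locally free O_S-module E, then H^i(S, F) is finite-dimensional over k for every i
> r and every coherent O_S-module F. -/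
theorem result (k : Type u) [Field k] [IsAlgClosed k] (S : Scheme.{u})
    [S.Over (Spec (CommRingCat.of k))] [IsSeparated (S ↘ (Spec (CommRingCat.of k)))]
    [LocallyOfFiniteType (S ↘ (Spec (CommRingCat.of k)))] [QuasiCompact (S ↘ (Spec (CommRingCat.of k)))]
    [IsIntegral S] (hreg : ∀ x : S, IsRegularLocalRing (S.presheaf.stalk x)) (r : ℕ)
    (hlf : ∀ E : S.Modules, FlatMod.IsFinLocFree E → ∀ i : ℕ, r < i → Module.Finite k (Coh.HH S E i))
    (F : S.Modules) (hF : Coh.IsCoh F) (i : ℕ) (hi : r < i) :
    Module.Finite k (Coh.HH S F i) := by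

    haveI : IsLocallyNoetherian S := LocallyOfFiniteType.isLocallyNoetherian (S ↘ (Spec (CommRingCat.of k)))
    haveI : CompactSpace S := QuasiCompact.compactSpace_of_compactSpace (S ↘ (Spec (CommRingCat.of k)))
    haveI : IsNoetherian S := {}
    haveI : S.IsSeparated := ⟨by rw [← terminal.comp_from (S ↘ (Spec (CommRingCat.of k)))]; infer_instance⟩
    refine Groth.Agent.RegularResolution.finite_HH_of_quot k r (fun F hF => ?_) F hF i hi
    obtain ⟨E, p, hE, hp⟩ := Groth.Agent.RegularResolution.hasEnoughLocFree_of_regular hreg F hF
    exact ⟨E, p, Groth.Agent.KZ.LFRes.flf_isCoh hE, hp, hlf E hE⟩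

end Groth.Agent.S11376
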