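import Groth.Statements.S1138
import Groth.Agent.Pi1Ext.ComplGlue
import Groth.Agent.Pi1Ext.FiniteModel
import Groth.Agent.Pi1Ext.Spread

set_option autoImplicit false
universe u
open Pi1

namespace Groth.Agent.S1138

open AlgebraicGeometry CategoryTheory CategoryTheory.Limits IsLocalRing TensorProduct
open Groth.Agent.Pi1Ext.PuritySch Groth.Agent.Pi1Ext.RegPurity Groth.Agent.Pi1Ext

set_option backward.isDefEq.respectTransparency false
set_option backward.isDefEq.respectTransparency.types false
set_option linter.style.haveILetI false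

theorem range_comap_punctured (A A' : Type u) [CommRing A] [IsLocalRing A] [CommRing A'] [IsLocalRing A']
    [Algebra A A'] (hm : maximalIdeal A' = (maximalIdeal A).map (algebraMap A A')) (P : PrimeSpectrum A') :
    PrimeSpectrum.comap (algebraMap A A') P = IsLocalRing.closedPoint A ↔ P = IsLocalRing.closedPoint A' := by
  constructor
  · intro h
    refine PrimeSpectrum.ext ((maximalIdeal.isMaximal A').eq_of_le P.2.ne_top ?_).symm
    rw [hm, Ideal.map_le_iff_le_comap]
    exact (congrArg PrimeSpectrum.asIdeal h).ge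
  · rintro rfl
    refine PrimeSpectrum.ext ((maximalIdeal.isMaximal A).eq_of_le (Ideal.IsPrime.ne_top inferInstance) ?_).symm
    show maximalIdeal A ≤ (maximalIdeal A').comap (algebraMap A A')
    rw [← Ideal.map_le_iff_le_comap, ← hm]

open AlgebraicGeometry CategoryTheory CategoryTheory.Limits in
/-- Let A be a Noetherian local ring with completion A', U the punctured spectrum of A and U' its base
change to X' = Spec A'. Let V ⟶ U be finite and let Y' ⟶ X' be finite with Y' ×_{X'} U' isomorphic
to V ×_U U' over U'. Then there is a finite Y ⟶ Spec A with Y ×_X U isomorphic to V over U and Y ×_X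
X' isomorphic to Y' over X'. (The source also records that these isomorphisms are compatible over
U'; this statement only asserts their existence.) -/
theorem result (A : Type u) [CommRing A] [IsNoetherianRing A] [IsLocalRing A]
    (V : Over (FEt.puncturedSpec A : Scheme.{u})) [IsFinite V.hom]
    (Y' : Over (Spec (CommRingCat.of (AdicCompletion (IsLocalRing.maximalIdeal A) A)))) [IsFinite Y'.hom]
    (e : (Over.pullback (pullback.fst (FEt.puncturedSpec A).ι (Spec.map (CommRingCat.ofHom (algebraMap A (AdicCompletion (IsLocalRing.maximalIdeal A) A)))))).obj V ≅ (Over.pullback (pullback.snd (FEt.puncturedSpec A).ι (Spec.map (CommRingCat.ofHom (algebraMap A (AdicCompletion (IsLocalRing.maximalIdeal A) A)))))).obj Y') :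
    ∃ Y : Over (Spec (CommRingCat.of A)), IsFinite Y.hom ∧
      Nonempty ((Over.pullback (FEt.puncturedSpec A).ι).obj Y ≅ V) ∧
      Nonempty ((Over.pullback (Spec.map (CommRingCat.ofHom (algebraMap A (AdicCompletion (IsLocalRing.maximalIdeal A) A))))).obj Y ≅ Y') := by
  let A' := AdicCompletion (maximalIdeal A) A
  haveI := Groth.Agent.LC.Canon.isNoetherianRing_completion (R := A)
  let U : Scheme.{u} := (FEt.puncturedSpec A : Scheme.{u})
  let X : Scheme.{u} := Spec (CommRingCat.of A)
  let X' : Scheme.{u} := Spec (CommRingCat.of A')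
  let s : X' ⟶ X := Spec.map (CommRingCat.ofHom (algebraMap A A'))
  let q₁ : pullback (FEt.puncturedSpec A).ι s ⟶ U := pullback.fst (FEt.puncturedSpec A).ι s
  let q₂ : pullback (FEt.puncturedSpec A).ι s ⟶ X' := pullback.snd (FEt.puncturedSpec A).ι s
  let v : V.left ⟶ U := V.hom
  haveI : IsFinite v := (inferInstance : IsFinite V.hom)
  let y : Y'.left ⟶ X' := Y'.hom
  haveI : IsFinite y := (inferInstance : IsFinite Y'.hom)
  obtain ⟨C, _, _, _, qV, hqV⟩ := FiniteModel.exists_finite_model v
  have hm : maximalIdeal A' = (maximalIdeal A).map (algebraMap A A') := AdicCompletion.maximalIdeal_eq_map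
  let C' := A' ⊗[A] C
  have he : Set.range q₂.base = Set.range (FEt.puncturedSpec A').ι.base := by
    rw [Scheme.Pullback.range_snd, Scheme.Opens.range_ι, Scheme.Opens.range_ι]
    ext P
    exact not_congr (range_comap_punctured A A' hm P)
  let κ := IsOpenImmersion.isoOfRangeEq q₂ (FEt.puncturedSpec A').ι he
  have hκ : κ.inv ≫ q₂ = (FEt.puncturedSpec A').ι := IsOpenImmersion.isoOfRangeEq_inv_fac _ _ he
  haveI : IsAffine Y'.left := isAffine_of_isAffineHom y
  let φ : CommRingCat.of A' ⟶ Γ(Y'.left, ⊤) := Spec.preimage (Y'.left.isoSpec.inv ≫ y)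
  let B' : Type u := Γ(Y'.left, ⊤)
  letI : Algebra A' B' := φ.hom.toAlgebra
  letI : Algebra A B' := ((algebraMap A' B').comp (algebraMap A A')).toAlgebra
  haveI : IsScalarTower A A' B' := IsScalarTower.of_algebraMap_eq fun _ => rfl
  have hφ : Y'.left.isoSpec.hom ≫ sp A' B' = y := by
    rw [show sp A' B' = Spec.map φ from rfl, Spec.map_preimage, Iso.hom_inv_id_assoc]
  have hY : IsFinite (sp A' B') := by
    rw [← MorphismProperty.cancel_left_of_respectsIso (P := @IsFinite) Y'.left.isoSpec.hom, hφ]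
    infer_instance
  haveI : Module.Finite A' B' := RingHom.finite_algebraMap.1 ((IsFinite.SpecMap_iff _).1 hY)
  let k : (FEt.puncturedSpec A' : Scheme.{u}) ⟶ U := κ.inv ≫ q₁
  have hk : k ≫ (FEt.puncturedSpec A).ι = (FEt.puncturedSpec A').ι ≫ s := by
    rw [Category.assoc, pullback.condition, ← Category.assoc, hκ]
  have hp : IsPullback (Spec.map (CommRingCat.ofHom (Algebra.TensorProduct.includeRight : C →ₐ[A] C').toRingHom))
      (sp A' C') (sp A C) s := by
    refine IsPullback.of_iso_pullback ⟨?_⟩ ((pullbackSpecIso A A' C).symm ≪≫ pullbackSymmetry _ _) ?_ ?_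
    · rw [← Spec.map_comp, ← Spec.map_comp]
      congr 1
      ext a
      exact Algebra.TensorProduct.includeRight.commutes a
    · rw [Iso.trans_hom, Category.assoc, pullbackSymmetry_hom_comp_fst]
      exact pullbackSpecIso_inv_snd A A' C
    · rw [Iso.trans_hom, Category.assoc, pullbackSymmetry_hom_comp_snd]
      exact pullbackSpecIso_inv_fst A A' C
  -- the square for the model
  have sV : IsPullback (qV.hom ≫ pullback.fst (sp A C) (FEt.puncturedSpec A).ι) v (sp A C) (FEt.puncturedSpec A).ι := by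
    refine IsPullback.of_iso_pullback ⟨?_⟩ qV rfl hqV
    rw [Category.assoc, pullback.condition, ← Category.assoc]
    exact congrArg (· ≫ _) hqV
  have sC : IsPullback (pullback.fst (sp A' C') (FEt.puncturedSpec A').ι ≫
      Spec.map (CommRingCat.ofHom (Algebra.TensorProduct.includeRight : C →ₐ[A] C').toRingHom))
      (rest A' C') (sp A C) (k ≫ (FEt.puncturedSpec A).ι) := by
    rw [hk]
    exact (IsPullback.of_hasPullback (sp A' C') (FEt.puncturedSpec A').ι).paste_horiz hp
  -- both restrictions are pullbacks of `v` along `k`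
  let el₀ : pullback v q₁ ⟶ pullback y q₂ := e.hom.left
  haveI : IsIso el₀ := ⟨e.inv.left, by
    show e.hom.left ≫ e.inv.left = _
    rw [← Over.comp_left, Iso.hom_inv_id]; rfl, by
    show e.inv.left ≫ e.hom.left = _
    rw [← Over.comp_left, Iso.inv_hom_id]; rfl⟩
  have hel₀ : el₀ ≫ pullback.snd y q₂ = pullback.snd v q₁ := Over.w e.hom
  let el₁ := asIso el₀
  have s₂ : IsPullback (pullback.fst (sp A' B') (FEt.puncturedSpec A').ι ≫ Y'.left.isoSpec.inv)
      (rest A' B') y (κ.inv ≫ q₂) := by
    rw [hκ]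
    have h0 : IsPullback Y'.left.isoSpec.inv (sp A' B') y (𝟙 _) :=
      IsPullback.of_horiz_isIso ⟨by rw [← hφ, Iso.inv_hom_id_assoc, Category.comp_id]⟩
    have h := (IsPullback.of_hasPullback (sp A' B') (FEt.puncturedSpec A').ι).paste_horiz h0
    rwa [Category.comp_id] at h
  let T := pullback (pullback.snd v q₁) κ.inv
  let tf : T ⟶ pullback v q₁ := pullback.fst _ _
  let ts : T ⟶ (FEt.puncturedSpec A' : Scheme.{u}) := pullback.snd _ _
  have hT : IsPullback tf ts (pullback.snd v q₁) κ.inv := IsPullback.of_hasPullback _ _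
  have sa : IsPullback ((tf ≫ pullback.fst v q₁) ≫ qV.hom ≫ pullback.fst (sp A C) (FEt.puncturedSpec A).ι)
      ts (sp A C) (k ≫ (FEt.puncturedSpec A).ι) :=
    (hT.paste_horiz (IsPullback.of_hasPullback v q₁)).paste_horiz sV
  have hT' : IsPullback (tf ≫ el₀) ts (pullback.snd y q₂) κ.inv := by
    have h := hT.paste_horiz (IsPullback.of_horiz_isIso ⟨(hel₀.trans (Category.comp_id _).symm)⟩ :
      IsPullback el₀ (pullback.snd v q₁) (pullback.snd y q₂) (𝟙 _))
    rwa [Category.comp_id] at h
  have sb : IsPullback ((tf ≫ el₀) ≫ pullback.fst y q₂) ts y (κ.inv ≫ q₂) :=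
    hT'.paste_horiz (IsPullback.of_hasPullback y q₂)
  let el : pullback (sp A' B') (FEt.puncturedSpec A').ι ⟶ pullback (sp A' C') (FEt.puncturedSpec A').ι :=
    (s₂.isoIsPullback _ _ sb).hom ≫ (sa.isoIsPullback _ _ sC).hom
  have hel : el ≫ rest A' C' = rest A' B' := by
    rw [Category.assoc, IsPullback.isoIsPullback_hom_snd, IsPullback.isoIsPullback_hom_snd]
  obtain ⟨R', _, _, _, u', v', hu', hv'⟩ := FiniteModel.exists_zigzag el hel
  obtain ⟨B, _, _, _, eB, R, _, _, _, u, w, hu, hw⟩ :=
    ComplGlue.exists_descent C B' u' v' hu' hv'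
  haveI := FiniteModel.isIso_restMap u hu
  haveI := FiniteModel.isIso_restMap w hw
  have hB : IsFinite (sp A B) := (IsFinite.SpecMap_iff _).2 (RingHom.finite_algebraMap.2 inferInstance)
  have hrest : ∀ {K : Type u} [CommRing K] [Algebra A K] (f : K →ₐ[A] R),
      restMap f ≫ rest A K = rest A R := fun f => pullback.lift_snd _ _ _
  let i₁ : pullback (sp A B) (FEt.puncturedSpec A).ι ≅ V.left :=
    (asIso (restMap w)).symm ≪≫ asIso (restMap u) ≪≫ qV.symm
  have hi₁ : i₁.hom ≫ v = rest A B := by
    simp only [i₁, Iso.trans_hom, Iso.symm_hom, asIso_inv, asIso_hom, Category.assoc]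
    rw [IsIso.inv_comp_eq, hrest, ← hqV, Iso.inv_hom_id_assoc, hrest]
  let eB' : Spec (CommRingCat.of B') ≅ Spec (CommRingCat.of (A' ⊗[A] B)) :=
    Scheme.Spec.mapIso eB.toRingEquiv.toCommRingCatIso.op
  let i₂ : pullback (sp A B) s ≅ Y'.left :=
    pullbackSymmetry _ _ ≪≫ pullbackSpecIso A A' B ≪≫ eB'.symm ≪≫ Y'.left.isoSpec.symm
  have hi₂ : i₂.hom ≫ y = pullback.snd (sp A B) s := by
    have h1 : eB'.hom ≫ sp A' (A' ⊗[A] B) = sp A' B' := by
      show Spec.map _ ≫ Spec.map _ = _
      rw [← Spec.map_comp]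
      congr 1
      ext a
      exact eB.commutes a
    simp only [i₂, Iso.trans_hom, Iso.symm_hom, Category.assoc]
    rw [← hφ, Iso.inv_hom_id_assoc, ← h1, Iso.inv_hom_id_assoc]
    show _ ≫ _ ≫ sp A' (A' ⊗[A] B) = _
    rw [pullbackSpecIso_hom_fst' A A' B, pullbackSymmetry_hom_comp_fst]
  exact ⟨Over.mk (sp A B), hB, ⟨Over.isoMk i₁ hi₁⟩, ⟨Over.isoMk i₂ hi₂⟩⟩

end Groth.Agent.S1138
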