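import Groth.Statements.S11389
import Groth.Agent.CohGenIso5.Main
-- import your own Groth.Agent.* helpers here

set_option autoImplicit false
set_option linter.style.haveILetI false
set_option backward.isDefEq.respectTransparency false
set_option backward.isDefEq.respectTransparency.types false
universe u
open CategoryTheory CategoryTheory.Limits AlgebraicGeometry TopologicalSpace
open Variety

namespace Groth.Agent.S11389

/-- Let k be an algebraically closed field, X and Y integral schemes separated and of finite type over
k, and f : X ⟶ Y a finite surjective k-morphism of degree m = [K(X) : K(Y)], computed as the rank of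
the stalk of f_*O_X at the generic point of Y over the function field K(Y). Then for every coherent
O_Y-module F there exist a coherent O_X-module G and a morphism u : f_*G ⟶ F^{⊕m} whose restriction
to some open neighbourhood of the generic point of Y is an isomorphism. -/
theorem result
    (k : Type u) [Field k] [IsAlgClosed k] (X Y : Scheme.{u})
    [X.Over (Spec (CommRingCat.of k))] [Y.Over (Spec (CommRingCat.of k))]
    [IsSeparated (X ↘ (Spec (CommRingCat.of k)))] [LocallyOfFiniteType (X ↘ (Spec (CommRingCat.of k)))]
    [IsSeparated (Y ↘ (Spec (CommRingCat.of k)))] [LocallyOfFiniteType (Y ↘ (Spec (CommRingCat.of k)))]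
    [QuasiCompact (Y ↘ (Spec (CommRingCat.of k)))]
    [IsIntegral X] [IsIntegral Y] (f : X ⟶ Y) [IsFinite f] [Surjective f]
    (hf : f ≫ (Y ↘ (Spec (CommRingCat.of k))) = X ↘ (Spec (CommRingCat.of k)))
    (F : Y.Modules) (hF : Coh.IsCoh F) :
    ∃ (G : X.Modules) (u : (Scheme.Modules.pushforward f).obj G ⟶
        ∐ fun _ : Fin (Module.finrank (Y.functionField)
            (((Scheme.Modules.pushforward f).obj (Coh.structureModule X)).presheaf.stalk (genericPoint Y))) => F),
      Coh.IsCoh G ∧ ∃ V : Y.Opens, genericPoint Y ∈ V ∧
        IsIso ((Scheme.Modules.restrictFunctor V.ι).map u) := by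
  haveI : IsLocallyNoetherian Y := LocallyOfFiniteType.isLocallyNoetherian (Y ↘ (Spec (CommRingCat.of k)))
  haveI : CompactSpace Y := QuasiCompact.compactSpace_of_compactSpace (Y ↘ (Spec (CommRingCat.of k)))
  haveI : IsNoetherian Y := { __ := ‹IsLocallyNoetherian Y›, __ := ‹CompactSpace Y› }
  haveI : IsLocallyNoetherian X := LocallyOfFiniteType.isLocallyNoetherian f
  haveI : CompactSpace X := QuasiCompact.compactSpace_of_compactSpace f
  haveI : IsNoetherian X := { __ := ‹IsLocallyNoetherian X›, __ := ‹CompactSpace X› }
  obtain ⟨G, β, hG, V, hV, hiso⟩ := Groth.Agent.CohGenIso5.exists_push_hom f F hF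
  let e := Limits.Sigma.whiskerEquiv (f := fun _ : ULift.{u} (Fin (Module.finrank (Y.functionField)
      (((Scheme.Modules.pushforward f).obj (Coh.structureModule X)).presheaf.stalk (genericPoint Y)))) => F)
    (g := fun _ : Fin (Module.finrank (Y.functionField)
      (((Scheme.Modules.pushforward f).obj (Coh.structureModule X)).presheaf.stalk (genericPoint Y))) => F)
    Equiv.ulift fun _ => Iso.refl _
  refine ⟨G, β ≫ e.hom, hG, V, hV, ?_⟩
  haveI := hiso
  rw [Functor.map_comp]
  infer_instance

end Groth.Agent.S11389
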