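import Groth.Statements.S11393
import Groth.Agent.GeomField.GlobalFunctions
import Groth.Agent.H23.RedSub

set_option autoImplicit false
universe u
open CategoryTheory CategoryTheory.Limits AlgebraicGeometry TopologicalSpace
open Variety

namespace Groth.Agent.S11393

set_option maxHeartbeats 1000000

set_option backward.isDefEq.respectTransparency false
set_option backward.isDefEq.respectTransparency.types false

attribute [local instance] GeomField.globalAlgebra

/-- Global functions on a connected universally closed scheme over an algebraically closed field are constant up to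
nilpotents. -/
theorem exists_sub_nilpotent (k : Type u) [Field k] [IsAlgClosed k] {W : Scheme.{u}}
    (p : W ⟶ Spec (CommRingCat.of k)) [IsProper p] [ConnectedSpace W] (a : Γ(W, ⊤)) :
    ∃ c : k, IsNilpotent (a - p.appTop.hom ((Scheme.ΓSpecIso (CommRingCat.of k)).inv.hom c)) := by
  let ι := W.nilradical.subschemeι
  haveI : AlgebraicGeometry.IsReduced W.nilradical.subscheme := H23.RedSub.isReduced_nilradical W
  have hran : Set.range ι = Set.univ := by
    rw [Scheme.IdealSheafData.range_subschemeι, Scheme.support_nilradical]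
    rfl
  haveI : ConnectedSpace W.nilradical.subscheme := by
    have e : W.nilradical.subscheme ≃ₜ W := (ι.isClosedEmbedding.isEmbedding.toHomeomorph).trans
      ((Homeomorph.setCongr hran).trans (Homeomorph.Set.univ W))
    exact e.symm.surjective.connectedSpace e.symm.continuous
  letI : W.nilradical.subscheme.Over (Spec (CommRingCat.of k)) := ⟨ι ≫ p⟩
  haveI : UniversallyClosed (W.nilradical.subscheme ↘ Spec (CommRingCat.of k)) :=
    inferInstanceAs (UniversallyClosed (ι ≫ p))
  haveI := GeomField.algebraMap_integral k W.nilradical.subscheme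
  letI := (GeomField.isField_globalFunctions k W.nilradical.subscheme).toField
  obtain ⟨c, hc⟩ := (IsAlgClosed.algebraMap_bijective_of_isIntegral (k := k)).2 (ι.appTop.hom a)
  refine ⟨c, ?_⟩
  haveI : CompactSpace W := QuasiCompact.compactSpace_of_compactSpace p
  rw [Scheme.isNilpotent_iff_basicOpen_eq_bot]
  have h0 : ι ⁻¹ᵁ W.basicOpen (a - p.appTop.hom ((Scheme.ΓSpecIso (CommRingCat.of k)).inv.hom c)) = ⊥ := by
    rw [Scheme.preimage_basicOpen_top, map_sub, ← hc]
    convert Scheme.basicOpen_zero W.nilradical.subscheme ⊤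
    rw [sub_eq_zero]
    rfl
  ext w
  simp only [Opens.coe_bot, Set.mem_empty_iff_false, iff_false]
  intro hw
  obtain ⟨v, rfl⟩ := Set.mem_range.1 (hran.symm ▸ Set.mem_univ w)
  exact (h0.le hw : v ∈ (⊥ : W.nilradical.subscheme.Opens))

/-- Let X be proper over an algebraically closed field k and 𝓘 a quasi-coherent ideal whose closed
subscheme Y is connected (and nonempty); let Y_m be the closed subscheme of 𝓘^{m+1} and A = lim_m
Γ(Y_m, O_{Y_m}) the ring of formal-regular functions along Y (global sections of the structure sheaf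
of the formal completion), formed as the limit in commutative rings along the restriction maps
Γ(Y_{m+1}, O) → Γ(Y_m, O). Then A is a local ring, and every element a of A differs from the image
of some constant c ∈ k by an element whose image in each Γ(Y_m, O_{Y_m}) is nilpotent (so the
residue field of A is k through the structure map). (The published statement also asserts that A is
a complete local ring; that clause is not included here.) -/
theorem result (k : Type u) [Field k] [IsAlgClosed k] (X : Scheme.{u})
    [X.Over (Spec (CommRingCat.of k))] [IsProper (X ↘ (Spec (CommRingCat.of k)))]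
    (𝓘 : X.IdealSheafData) (hY : _root_.IsConnected (𝓘.support : Set X)) :
    IsLocalRing ↑(limit (Functor.ofOpSequence
        (X := fun m : ℕ => Γ((𝓘 ^ (m + 1)).subscheme, ⊤))
        (fun m : ℕ => (Scheme.IdealSheafData.inclusion (Lef.pow_succ_le 𝓘 m)).appTop))) ∧
      ∀ a : ↑(limit (Functor.ofOpSequence
        (X := fun m : ℕ => Γ((𝓘 ^ (m + 1)).subscheme, ⊤))
        (fun m : ℕ => (Scheme.IdealSheafData.inclusion (Lef.pow_succ_le 𝓘 m)).appTop))),
        ∃ c : k, ∀ m : ℕ, IsNilpotent (Sub.sub (α := ↑Γ((𝓘 ^ (m + 1)).subscheme, ⊤))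
          ((limit.π (Functor.ofOpSequence
              (X := fun m : ℕ => Γ((𝓘 ^ (m + 1)).subscheme, ⊤))
              (fun m : ℕ => (Scheme.IdealSheafData.inclusion (Lef.pow_succ_le 𝓘 m)).appTop)) (Opposite.op m)).hom a)
          (((𝓘 ^ (m + 1)).subschemeι ≫ (X ↘ Spec (CommRingCat.of k))).appTop.hom
            ((Scheme.ΓSpecIso (CommRingCat.of k)).inv.hom c))) := by
  have hsupp : ∀ m : ℕ, ((𝓘 ^ (m + 1)).support : Set X) = 𝓘.support := fun m => by
    rw [Scheme.IdealSheafData.support_pow _ _ m.succ_ne_zero]
  have hconn : ∀ m : ℕ, ConnectedSpace (𝓘 ^ (m + 1)).subscheme := fun m => by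
    haveI : ConnectedSpace (Set.range (𝓘 ^ (m + 1)).subschemeι) := by
      rw [← isConnected_iff_connectedSpace, Scheme.IdealSheafData.range_subschemeι, hsupp]
      exact hY
    have e := ((𝓘 ^ (m + 1)).subschemeι.isClosedEmbedding.isEmbedding.toHomeomorph)
    exact e.symm.surjective.connectedSpace e.symm.continuous
  let F := Functor.ofOpSequence (X := fun m : ℕ => Γ((𝓘 ^ (m + 1)).subscheme, ⊤))
        (fun m : ℕ => (Scheme.IdealSheafData.inclusion (Lef.pow_succ_le 𝓘 m)).appTop)
  let K : ∀ m : ℕ, k →+* Γ((𝓘 ^ (m + 1)).subscheme, ⊤) := fun m =>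
    ((𝓘 ^ (m + 1)).subschemeι ≫ (X ↘ Spec (CommRingCat.of k))).appTop.hom.comp
      (Scheme.ΓSpecIso (CommRingCat.of k)).inv.hom
  have hK : ∀ (m : ℕ) (c : k), (Scheme.IdealSheafData.inclusion (Lef.pow_succ_le 𝓘 m)).appTop.hom (K (m + 1) c) = K m c := by
    intro m c
    have h1 : ((𝓘 ^ (m + 1 + 1)).subschemeι ≫ (X ↘ Spec (CommRingCat.of k))).appTop ≫
        (Scheme.IdealSheafData.inclusion (Lef.pow_succ_le 𝓘 m)).appTop =
        ((𝓘 ^ (m + 1)).subschemeι ≫ (X ↘ Spec (CommRingCat.of k))).appTop := by
      rw [← Scheme.Hom.comp_appTop, Scheme.IdealSheafData.inclusion_subschemeι_assoc]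
    simp only [K, RingHom.comp_apply]
    exact DFunLike.congr_fun (congrArg CommRingCat.Hom.hom h1) _
  have hnt : ∀ m : ℕ, Nontrivial Γ((𝓘 ^ (m + 1)).subscheme, ⊤) := fun m => by
    haveI := hconn m
    haveI : Nonempty (⊤ : (𝓘 ^ (m + 1)).subscheme.Opens) := ⟨⟨Classical.arbitrary _, trivial⟩⟩
    infer_instance
  let P : ∀ m : ℕ, ↑(limit F) →+* Γ((𝓘 ^ (m + 1)).subscheme, ⊤) := fun m => (limit.π F (Opposite.op m)).hom
  have hexists : ∀ a : ↑(limit F), ∃ c : k, ∀ m : ℕ, IsNilpotent (P m a - K m c) := by
    intro a
    choose c hc using fun m : ℕ => by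
      haveI := hconn m
      exact exists_sub_nilpotent k ((𝓘 ^ (m + 1)).subschemeι ≫ (X ↘ Spec (CommRingCat.of k))) (P m a)
    have hstep : ∀ m, c (m + 1) = c m := fun m => by
      have h1 := (hc (m + 1)).map (Scheme.IdealSheafData.inclusion (Lef.pow_succ_le 𝓘 m)).appTop.hom
      rw [map_sub, show (Scheme.IdealSheafData.inclusion (Lef.pow_succ_le 𝓘 m)).appTop.hom
        (((𝓘 ^ (m + 1 + 1)).subschemeι ≫ (X ↘ Spec (CommRingCat.of k))).appTop.hom ((Scheme.ΓSpecIso (CommRingCat.of k)).inv.hom (c (m + 1))))
        = K m (c (m + 1)) from hK m _] at h1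
      have h2 : (Scheme.IdealSheafData.inclusion (Lef.pow_succ_le 𝓘 m)).appTop.hom (P (m + 1) a) = P m a := by
        have h3 := limit.w F (homOfLE (Nat.le_succ m)).op
        rw [Functor.ofOpSequence_map_homOfLE_succ] at h3
        exact DFunLike.congr_fun (congrArg CommRingCat.Hom.hom h3) a
      rw [h2] at h1
      by_contra hne
      have h4 := (Commute.all _ _).isNilpotent_sub (hc m) h1
      rw [show ((𝓘 ^ (m + 1)).subschemeι ≫ (X ↘ Spec (CommRingCat.of k))).appTop.hom ((Scheme.ΓSpecIso (CommRingCat.of k)).inv.hom (c m))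
        = K m (c m) from rfl, sub_sub_sub_cancel_left, ← map_sub] at h4
      haveI := hnt m
      exact IsNilpotent.not_isUnit h4 ((Ne.isUnit (sub_ne_zero.2 hne)).map (K m))
    have hall : ∀ m, c m = c 0 := fun m => by
      induction m with
      | zero => rfl
      | succ m ih => rw [hstep, ih]
    exact ⟨c 0, fun m => hall m ▸ hc m⟩
  have hunit : ∀ (a : ↑(limit F)) (c : k), c ≠ 0 → (∀ m : ℕ, IsNilpotent (P m a - K m c)) → IsUnit a := by
    intro a c hc0 hc
    have hu : ∀ j, IsUnit ((limit.π F j).hom a) := fun j => by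
      obtain ⟨m, rfl⟩ : ∃ m, j = Opposite.op m := ⟨j.unop, rfl⟩
      show IsUnit (P m a)
      have := (hc m).isUnit_add_left_of_commute ((Ne.isUnit hc0).map (K m)) (Commute.all _ _)
      rwa [add_sub_cancel] at this
    let cone : Cone F :=
      { pt := CommRingCat.of (Localization.Away a)
        π :=
          { app := fun j => CommRingCat.ofHom (IsLocalization.Away.lift (S := Localization.Away a) a (hu j))
            naturality := fun i j φ => by
              refine (Category.id_comp _).trans ?_
              refine CommRingCat.hom_ext (IsLocalization.ringHom_ext (Submonoid.powers a) ?_)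
              refine RingHom.ext fun b => ?_
              simp only [CommRingCat.hom_comp, CommRingCat.hom_ofHom, RingHom.comp_apply, IsLocalization.Away.lift_eq]
              refine (DFunLike.congr_fun (congrArg CommRingCat.Hom.hom (limit.w F φ)) b).symm.trans ?_
              exact congrArg (F.map φ).hom (IsLocalization.Away.lift_eq a (hu i) b).symm } }
    have hψ : CommRingCat.ofHom (algebraMap ↑(limit F) (Localization.Away a)) ≫ limit.lift F cone = 𝟙 _ := by
      refine limit.hom_ext fun j => ?_
      rw [Category.assoc, limit.lift_π, Category.id_comp]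
      refine CommRingCat.hom_ext (RingHom.ext fun b => ?_)
      exact IsLocalization.Away.lift_eq a (hu j) b
    have := (IsLocalization.Away.algebraMap_isUnit (S := Localization.Away a) a).map (limit.lift F cone).hom
    rwa [show (limit.lift F cone).hom (algebraMap ↑(limit F) (Localization.Away a) a) = a from
      DFunLike.congr_fun (congrArg CommRingCat.Hom.hom hψ) a] at this
  haveI : Nontrivial ↑(limit F) := by
    haveI := hnt 0
    exact (P 0).domain_nontrivial
  refine ⟨?_, hexists⟩
  refine IsLocalRing.of_isUnit_or_isUnit_one_sub_self fun a => ?_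
  obtain ⟨c, hc⟩ := hexists a
  by_cases h : c = 0
  · refine Or.inr (hunit _ 1 one_ne_zero fun m => ?_)
    have := (hc m).neg
    rw [h, map_zero, sub_zero] at this
    rwa [map_sub, map_one, map_one, sub_sub_cancel_left]
  · exact Or.inl (hunit a c h hc)

end Groth.Agent.S11393
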