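import Groth.Statements.S11395
import Groth.Agent.GrpSchLib.AntiAffineRigid


set_option autoImplicit false
universe u
open CategoryTheory MonoidalCategory CartesianMonoidalCategory MonObj GrpObj AlgebraicGeometry CategoryTheory.Limits
open AlgGrp

namespace Groth.Agent.S11395

/-- Over an algebraically closed field k, let X, Y and Z be k-schemes of finite type such that the only
global functions on X are the constants, Y is connected and Z is separated over k. Let f : X × Y → Z
be a k-morphism and y₀, z₀ rational points of Y, Z such that the restriction of f to X × y₀ is the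
constant morphism with value z₀ (as a morphism of schemes; for reduced X this is the condition on
closed points). Then there is a unique morphism g : Y → Z with f = g ∘ pr₂. -/
theorem result (k : Type u) [Field k] [IsAlgClosed k]
    (X Y Z : Over (Spec (CommRingCat.of k))) [LocallyOfFiniteType X.hom] [QuasiCompact X.hom]
    [LocallyOfFiniteType Y.hom] [QuasiCompact Y.hom] [LocallyOfFiniteType Z.hom] [QuasiCompact Z.hom]
    (hX : Function.Bijective ((Scheme.ΓSpecIso (CommRingCat.of k)).inv ≫ X.hom.appTop).hom)
    [ConnectedSpace ↥Y.left] [IsSeparated Z.hom]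
    (f : X ⊗ Y ⟶ Z) (y₀ : 𝟙_ (Over (Spec (CommRingCat.of k))) ⟶ Y) (z₀ : 𝟙_ (Over (Spec (CommRingCat.of k))) ⟶ Z)
    (hf : (X ◁ y₀) ≫ f = toUnit _ ≫ z₀) :
    ∃! g : Y ⟶ Z, f = snd X Y ≫ g := by
  haveI : Nonempty ↥X.left := by
    by_contra h
    have : IsEmpty ↥X.left := not_nonempty_iff.mp h
    have htop : (⊤ : X.left.Opens) = ⊥ := Subsingleton.elim _ _
    have : Subsingleton Γ(X.left, ⊤) := by rw [htop]; infer_instance
    have : Subsingleton k := hX.1.subsingleton
    exact not_nontrivial k inferInstance
  haveI : CompactSpace ↥X.left := (quasiCompact_iff_compactSpace X.hom).mp inferInstance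
  haveI : IsLocallyNoetherian X.left := LocallyOfFiniteType.isLocallyNoetherian X.hom
  haveI : QuasiSeparated X.hom := inferInstance
  obtain ⟨x₀⟩ := Groth.Agent.GrpSchLib.RigidHom.exists_point X
  have hX' : Function.Bijective X.hom.appTop := by
    have h2 := hX.comp (ConcreteCategory.bijective_of_isIso (Scheme.ΓSpecIso (CommRingCat.of k)).hom)
    convert h2 using 1
    funext z
    show X.hom.appTop z = X.hom.appTop ((Scheme.ΓSpecIso (CommRingCat.of k)).inv ((Scheme.ΓSpecIso (CommRingCat.of k)).hom z))
    exact congrArg X.hom.appTop (congrArg (fun φ => φ z) (Scheme.ΓSpecIso (CommRingCat.of k)).hom_inv_id).symm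
  have hax : lift (𝟙 X) (toUnit X ≫ y₀) ≫ f = toUnit X ≫ z₀ := by
    have := congrArg (lift (𝟙 X) (toUnit X) ≫ ·) hf
    simp only [lift_whiskerLeft_assoc] at this
    rw [this, ← Category.assoc, toUnit_unique (lift (𝟙 X) (toUnit X) ≫ toUnit _) (toUnit X)]
  have key := Groth.Agent.GrpSchLib.AntiAffineRigid.factor hX' f x₀ y₀ z₀ hax
  refine ⟨lift (toUnit Y ≫ x₀) (𝟙 Y) ≫ f, key, fun g' hg' => ?_⟩
  rw [hg', ← Category.assoc, lift_snd, Category.id_comp]

end Groth.Agent.S11395
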