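import Groth.Statements.S11396
import Groth.Agent.S14584
import Groth.Agent.AVEquivar.Psi
import Groth.Agent.Lib.AVProj
import Groth.Agent.Lib.AVDualIsog
import Groth.Agent.H23.EquidimFibres
import Groth.Agent.GrpSchLib.RigidHom

set_option autoImplicit false
set_option linter.style.haveILetI false
set_option backward.isDefEq.respectTransparency false
set_option backward.isDefEq.respectTransparency.types false
set_option maxHeartbeats 1000000
set_option synthInstance.maxHeartbeats 400000
universe u
open CategoryTheory MonoidalCategory CartesianMonoidalCategory MonObj GrpObj AlgebraicGeometry CategoryTheory.Limits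
open AlgGrp

namespace Groth.Agent.S11396

/-- Over an algebraically closed field k, let A be an abelian variety (a proper, smooth, connected
k-group scheme) acting on a smooth variety X (integral, separated, of finite type over k),
faithfully in the sense that every rational point of A acting as the identity of X is the identity
element. Then there exist a k-morphism φ : X → A and a positive integer n such that φ(a · x) = φ(x)
· aⁿ for all points a of A and x of X (with values in any k-scheme). -/
theorem result (k : Type u) [Field k] [IsAlgClosed k]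
    (A X : Over (Spec (CommRingCat.of k))) [GrpObj A] [IsProper A.hom] [Smooth A.hom] [ConnectedSpace ↥A.left]
    [LocallyOfFiniteType X.hom] [QuasiCompact X.hom] [IsSeparated X.hom] [IsIntegral X.left] [Smooth X.hom]
    (a : AlgGrp.Action A X)
    (hfaith : ∀ g : 𝟙_ (Over (Spec (CommRingCat.of k))) ⟶ A, lift (toUnit X ≫ g) (𝟙 X) ≫ a.act = 𝟙 X → g = η[A]) :
    ∃ (φ : X ⟶ A) (n : ℕ), 0 < n ∧
      ∀ (T : Over (Spec (CommRingCat.of k))) (g : T ⟶ A) (x : T ⟶ X), lift g x ≫ a.act ≫ φ = (x ≫ φ) * g ^ n := by
  haveI : GeometricallyReduced A.hom := H23.RigidGamma.geometricallyReduced_of_smooth A.hom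
  haveI : GeometricallyIntegral A.hom := H23.MaxAbelian.geometricallyIntegral_of_connected A
  haveI : GeometricallyConnected A.hom := H23.CubeAb.geometricallyConnected_of_integral A.hom
  haveI : IsIntegral A.left := GeometricallyIntegral.isIntegral_of_subsingleton A.hom
  haveI : GeometricallyIntegral X.hom := H23.EquidimFibres.geometricallyIntegral_of_isAlgClosed
  haveI : GeometricallyConnected X.hom := H23.CubeAb.geometricallyConnected_of_integral X.hom
  haveI : IsLocallyNoetherian X.left := LocallyOfFiniteType.isLocallyNoetherian X.hom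
  haveI : X.left.IsSeparated := ⟨by rw [← Limits.terminal.comp_from X.hom]; infer_instance⟩
  haveI : JacobsonSpace X.left := LocallyOfFiniteType.jacobsonSpace X.hom
  obtain ⟨x, -, hx⟩ := nonempty_inter_closedPoints (Z := (Set.univ : Set X.left))
    Set.univ_nonempty isClosed_univ.isLocallyClosed
  obtain ⟨x₀, hx₀⟩ := GrpSchLib.ConnKernel.exists_pt (k := k) (X := X) hx
  -- an invertible module with ample pullback along the orbit
  haveI : IsFinite (AVEquivar.orb a x₀).left := AVEquivar.isFinite_orb a hfaith x₀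
  obtain ⟨U, hU, hxU, -⟩ := exists_isAffineOpen_mem_and_subset (x := x) (U := ⊤) trivial
  obtain ⟨D, hD, hsupp⟩ := EffCompl.exists_effCartier_compl X.left (fun V W hV hW => hV.inf hW) U hU
    (U.isOpen.dense ⟨x, hxU⟩) fun y _ => by
      haveI := GrpSchLib.isRegularLocalRing_stalk_of_smooth X.hom y
      exact S2821.result _
  obtain ⟨L, hL, hLI⟩ := H23.PicInv.exists_inverse ((S8914.result D).2 hD)
  have hLI' : ClSub.IsInverseOf L (ClSub.idealMod D) :=
    ⟨(H23.PicMul.comm _ _).some ≪≫ hLI.some⟩
  obtain ⟨s, hs⟩ := AVAmple.exists_divisor_section D hD hL hLI'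
  have hloc : H23.TrivBasic.locus s = U := by
    refine TopologicalSpace.Opens.ext (Set.ext fun y => ?_)
    rw [SetLike.mem_coe, hs y, ← SetLike.mem_coe, hsupp]
    exact not_not
  let o := AVEquivar.orb a x₀
  let s' : Γ((Scheme.Modules.pullback o.left).obj L, ⊤) := InvX.pullElt o.left s
  have hloc' : H23.TrivBasic.locus s' = o.left ⁻¹ᵁ U := by rw [← hloc]; exact H23.TrivBasic.locus_pullElt hL o.left s
  have hmem : η[A].left (IsLocalRing.closedPoint k) ∈ H23.TrivBasic.locus s' := by
    rw [hloc']
    show o.left (η[A].left (IsLocalRing.closedPoint k)) ∈ U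
    have e : η[A] ≫ o = x₀ := by
      rw [AVEquivar.comp_orb, MonObj.one_eq_one, AVEquivar.act_one, toUnit_unique (toUnit _) (𝟙 _), Category.id_comp]
    have e' := congrArg (fun f : 𝟙_ (Over (Spec (CommRingCat.of k))) ⟶ X => f.left (IsLocalRing.closedPoint k)) e
    have h2 : GrpSchLib.ConnKernel.pt x₀ ∈ U := by rw [hx₀]; exact hxU
    exact (congrArg (· ∈ U) e').mpr h2
  have hamp : CohB1.IsAmple ((Scheme.Modules.pullback o.left).obj L) :=
    AVProj.isAmple_of_affine_locus (PicClLib.isInvertible_pullback o.left hL) (AVProj.ne_zero_of_mem_locus hmem)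
      (hloc' ▸ hU.preimage o.left)
  obtain ⟨Q, grp, q, hq, ψ, hQp, hQgi, hQsm, hqf, hqs, hψ0, hψo⟩ := AVEquivar.exists_psi a x₀ hL hamp
  letI := grp
  haveI := hq; haveI := hQp; haveI := hQgi; haveI := hQsm; haveI := hqf; haveI := hqs
  haveI : IsCommMonObj A := isCommMonObj_of_isProper_of_geometricallyIntegral A
  haveI : IsCommMonObj Q := isCommMonObj_of_isProper_of_geometricallyIntegral Q
  haveI : IsIntegral Q.left := GeometricallyIntegral.isIntegral_of_subsingleton Q.hom
  haveI : Finite {t : 𝟙_ (Over (Spec (CommRingCat.of k))) ⟶ A // t ≫ q = 1} := by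
    have hfin := Scheme.Hom.finite_preimage_singleton q.left (η[Q].left (IsLocalRing.closedPoint k))
    haveI : Finite ↥(q.left ⁻¹' {η[Q].left (IsLocalRing.closedPoint k)}) := hfin.to_subtype
    refine Finite.of_injective (fun t => (⟨t.1.left (IsLocalRing.closedPoint k), ?_⟩ :
      ↥(q.left ⁻¹' {η[Q].left (IsLocalRing.closedPoint k)}))) fun t t' h => Subtype.ext (Over.OverMorphism.ext ?_)
    · have e : t.1 ≫ q = η[Q] := t.2.trans (MonObj.one_eq_one (M := Q)).symm
      exact congrArg (fun f : 𝟙_ (Over (Spec (CommRingCat.of k))) ⟶ Q => f.left (IsLocalRing.closedPoint k)) e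
    · have h' : t.1.left (IsLocalRing.closedPoint k) = t'.1.left (IsLocalRing.closedPoint k) := Subtype.mk.inj h
      exact congrArg Subtype.val ((pointEquivClosedPoint A.hom).injective
        (a₁ := ⟨t.1.left, Over.w t.1⟩) (a₂ := ⟨t'.1.left, Over.w t'.1⟩) (Subtype.ext h'))
  obtain ⟨y, n, hn, -, hqy⟩ := AVDualIsog.exists_qinv q
  haveI : IsMonHom y := by
    refine GrpSchLib.RigidHom.isMonHom_of_one y ?_
    have e : η[A] ≫ q ≫ y = η[A] ≫ (𝟙 A ^ n : A ⟶ A) := by rw [hqy]
    rw [← Category.assoc, IsMonHom.one_hom q, MonObj.comp_pow, Category.comp_id] at e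
    simp only [MonObj.one_eq_one, one_pow] at e ⊢
    exact e
  refine ⟨ψ ≫ y, n, hn, fun T g z => ?_⟩
  have h := S14584.result k A X Q η[A] x₀ (a.act ≫ ψ)
  rw [← Category.assoc (lift (𝟙 A) (toUnit A ≫ x₀)), ← Category.assoc (lift η[A] x₀),
    ← Category.assoc (lift (toUnit X ≫ η[A]) (𝟙 X))] at h
  rw [show lift (𝟙 A) (toUnit A ≫ x₀) ≫ a.act = o from rfl, hψo,
    show lift (toUnit X ≫ η[A]) (𝟙 X) ≫ a.act = 𝟙 X from AVEquivar.act_one a _, Category.id_comp,
    show lift η[A] x₀ ≫ a.act = x₀ by rw [MonObj.one_eq_one, AVEquivar.act_one], hψ0, MonObj.comp_one, inv_one,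
    _root_.one_mul] at h
  rw [← Category.assoc a.act, h, MonObj.mul_comp, MonObj.comp_mul]
  simp only [Category.assoc, lift_snd_assoc, hqy, MonObj.comp_pow, Category.comp_id, lift_fst]

end Groth.Agent.S11396
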