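import Groth.Statements.S1140
import Groth.Agent.Pi1Ext.HyperExt
import Groth.Agent.Pi1Ext.HyperDual
-- import your own Groth.Agent.* helpers here

set_option autoImplicit false
universe u
attribute [local instance] HasDerivedCategory.standard
open Pi1

namespace Groth.Agent.S1140

open AlgebraicGeometry CategoryTheory CategoryTheory.Limits in
/-- Let A be a Noetherian local ring with a dualizing complex, f an element of the maximal ideal with
(A, (f)) a henselian pair, and assume either that the ring A_f satisfies (S_2) while all irreducible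
components of Spec A meeting the locus f ≠ 0 have dimension at least 3, or that depth(A_p) +
dim(A/p) > 2 for every prime p not containing f. If V is a finite etale cover of the punctured
spectrum of A whose restriction to the punctured spectrum of A/fA is the restriction of a finite
etale cover of Spec(A/fA), then V is the restriction of a finite etale cover of Spec A. -/
theorem result (A : Type u) [CommRing A] [IsNoetherianRing A] [IsLocalRing A] (f : A) (hf : f ∈ IsLocalRing.maximalIdeal A) (hd : ∃ ω : Dual.D A, Dual.IsDualizing A ω)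
    [HenselianRing A (Ideal.span {f})]
    (hc : ((LocCoh.HasSk 2 (Localization.Away f) (Localization.Away f) ∧
        ∀ p : Ideal A, p ∈ minimalPrimes A → f ∉ p → (3 : WithBot ℕ∞) ≤ ringKrullDim (A ⧸ p)) ∨
      (∀ p : Ideal A, ∀ _ : p.IsPrime, f ∉ p →
        (2 : WithBot ℕ∞) < (LocCoh.depth (Localization.AtPrime p) (Localization.AtPrime p) : WithBot ℕ∞) + ringKrullDim (A ⧸ p))))
    (V : FEt.Cat (FEt.puncturedSpec A : Scheme.{u})) (hV : (∃ Y₀ : FEt.Cat (Spec (CommRingCat.of (A ⧸ Ideal.span {f}))),
      Nonempty ((FEt.restrict (pullback.snd (FEt.puncturedSpec A).ι (Spec.map (CommRingCat.ofHom (Ideal.Quotient.mk (Ideal.span {f})))))).obj Y₀ ≅ (FEt.restrict (pullback.fst (FEt.puncturedSpec A).ι (Spec.map (CommRingCat.ofHom (Ideal.Quotient.mk (Ideal.span {f})))))).obj V))) :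
    ∃ Y : FEt.Cat (Spec (CommRingCat.of A)), Nonempty ((FEt.restrict (FEt.puncturedSpec A).ι).obj Y ≅ V) := by
  obtain ⟨Y₀, ⟨e₀⟩⟩ := hV
  obtain ⟨G, n, hG, h0, h1⟩ := Groth.Agent.Pi1Ext.HyperFF.exists_t01_base A f
    (Groth.Agent.Pi1Ext.HyperDual.exists_pow_smul_H f hf hd hc 1 (by omega))
    (Groth.Agent.Pi1Ext.HyperDual.exists_pow_smul_H f hf hd hc 2 (by omega))
  exact Groth.Agent.Pi1Ext.HyperExt.exists_extension hG f hf h0 h1 V Y₀ e₀

end Groth.Agent.S1140
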