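import Groth.Statements.S11401
import Groth.Agent.AGFLib.SolvKernel
-- import your own Groth.Agent.* helpers here

set_option autoImplicit false
set_option backward.isDefEq.respectTransparency.types false
set_option maxHeartbeats 1000000
universe u
open CategoryTheory MonoidalCategory CartesianMonoidalCategory MonObj GrpObj AlgebraicGeometry CategoryTheory.Limits
open AlgGrp

namespace Groth.Agent.S11401

/-- Over an algebraically closed field k, let G be a connected algebraic group (smooth k-group scheme of
finite type), let i : N → G be its largest connected affine normal algebraic subgroup G_aff (a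
homomorphism and closed immersion from a smooth, connected, affine k-group scheme, normal in G,
through which every other such subgroup factors), and let α : G → A be a flat surjective
homomorphism with kernel i onto a proper smooth k-group scheme A (so A = G/G_aff). Then α is a
Zariski-locally trivial principal bundle: every point of A has an open neighbourhood over which α
admits a section. -/
theorem result (k : Type u) [Field k] [IsAlgClosed k]
    (G : Over (Spec (CommRingCat.of k))) [GrpObj G] [Smooth G.hom] [QuasiCompact G.hom] [ConnectedSpace ↥G.left]
    (N : Over (Spec (CommRingCat.of k))) [GrpObj N] (i : N ⟶ G) [IsMonHom i] [IsClosedImmersion i.left]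
    [Smooth N.hom] [ConnectedSpace ↥N.left] [IsAffine N.left] (hN : AlgGrp.IsNormalHom i)
    (hNmax : ∀ (N' : Over (Spec (CommRingCat.of k))) [GrpObj N'] (i' : N' ⟶ G) [IsMonHom i'] [IsClosedImmersion i'.left]
      [Smooth N'.hom] [ConnectedSpace ↥N'.left] [IsAffine N'.left], AlgGrp.IsNormalHom i' → ∃ f : N' ⟶ N, f ≫ i = i')
    (A : Over (Spec (CommRingCat.of k))) [GrpObj A] [IsProper A.hom] [Smooth A.hom] (α : G ⟶ A) [IsMonHom α]
    [Surjective α.left] [Flat α.left] (hker : AlgGrp.IsKernel i α) (y : ↥A.left) :
    ∃ U : A.left.Opens, y ∈ U ∧ ∃ s : ↑U ⟶ G.left, s ≫ α.left = U.ι := by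
  obtain ⟨U, s, hU, hs⟩ := Groth.Agent.AGFLib.SolvKernel.exists_borel_reduction i α hker
  exact Groth.Agent.AGFLib.SolvKernel.exists_section_nhd α U hU s hs y

end Groth.Agent.S11401
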