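import Groth.Statements.S11404
import Groth.Agent.GrpSchLib.RigidHom


set_option autoImplicit false
universe u
open CategoryTheory MonoidalCategory CartesianMonoidalCategory MonObj GrpObj AlgebraicGeometry CategoryTheory.Limits
open AlgGrp

namespace Groth.Agent.S11404

open Groth.Agent.GrpSchLib.RigidHom

/-- Over an algebraically closed field k, let A be an abelian variety (a proper, smooth, connected
k-group scheme) and S a connected k-scheme of finite type. For every automorphism f of A × S over S
there are a unique k-morphism g : S → A and a unique group automorphism h of A with f(a, s) = (g(s)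
· h(a), s) on points. (This is the functor-of-points form, over a connected base, of the
identification of the automorphism group scheme of A with the semidirect product of A, acting by
translations, and the constant group of group automorphisms; in particular the neutral component is
A.) -/
theorem result (k : Type u) [Field k] [IsAlgClosed k]
    (A S : Over (Spec (CommRingCat.of k))) [GrpObj A] [IsProper A.hom] [Smooth A.hom] [ConnectedSpace ↥A.left]
    [LocallyOfFiniteType S.hom] [QuasiCompact S.hom] [ConnectedSpace ↥S.left]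
    (f : A ⊗ S ≅ A ⊗ S) (hf : f.hom ≫ snd A S = snd A S) :
    ∃ (g : S ⟶ A) (h : A ⟶ A), IsMonHom h ∧ IsIso h ∧
      f.hom ≫ fst A S = (snd A S ≫ g) * (fst A S ≫ h) ∧
      ∀ (g' : S ⟶ A) (h' : A ⟶ A), IsMonHom h' →
        f.hom ≫ fst A S = (snd A S ≫ g') * (fst A S ≫ h') → g' = g ∧ h' = h := by
  haveI : GeometricallyReduced A.hom := Groth.Agent.H23.RigidGamma.geometricallyReduced_of_smooth A.hom
  haveI := Groth.Agent.H23.MaxAbelian.geometricallyIntegral_of_connected A
  haveI : IsSeparated A.hom := inferInstance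
  haveI : CompactSpace S.left := (quasiCompact_iff_compactSpace S.hom).mp inferInstance
  obtain ⟨s₀⟩ := exists_point S
  let ii : S ⟶ A ⊗ S := lift (toUnit S ≫ η[A]) (𝟙 S)
  let j : A ⟶ A ⊗ S := lift (𝟙 A) (toUnit A ≫ s₀)
  let g : S ⟶ A := ii ≫ f.hom ≫ fst A S
  let φ : A ⊗ S ⟶ A := (snd A S ≫ g)⁻¹ * (f.hom ≫ fst A S)
  let h : A ⟶ A := j ≫ φ
  have hiiφ : ii ≫ φ = 1 := by
    simp only [φ, MonObj.comp_mul, GrpObj.comp_inv, ii, ← Category.assoc, lift_snd, Category.id_comp]
    simp only [g, ii, Category.assoc]
    exact inv_mul_cancel _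
  have hηj : η[A] ≫ j = s₀ ≫ ii := by
    simp only [j, ii]
    apply CartesianMonoidalCategory.hom_ext
    · simp only [Category.assoc, lift_fst, Category.comp_id]
      rw [← Category.assoc, toUnit_unique (s₀ ≫ toUnit S) (𝟙 _), Category.id_comp]
    · simp only [Category.assoc, lift_snd, Category.comp_id]
      rw [← Category.assoc, toUnit_unique (η[A] ≫ toUnit A) (𝟙 _), Category.id_comp]
  have hh1 : η[A] ≫ h = 1 := by
    rw [show η[A] ≫ h = (η[A] ≫ j) ≫ φ from (Category.assoc _ _ _).symm, hηj, Category.assoc, hiiφ, MonObj.comp_one]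
  have hmon : IsMonHom h := isMonHom_of_one h hh1
  have hψ : φ * (fst A S ≫ h)⁻¹ = 1 := by
    refine eq_one_of_axes _ η[A] s₀ ?_ ?_
    · simp only [MonObj.comp_mul, GrpObj.comp_inv, ← Category.assoc, lift_fst]
      rw [Category.id_comp]
      exact mul_inv_cancel _
    · simp only [MonObj.comp_mul, GrpObj.comp_inv, ← Category.assoc, lift_fst]
      rw [hiiφ, Category.assoc, hh1, MonObj.comp_one, inv_one, _root_.mul_one]
  have hφ : φ = fst A S ≫ h := mul_inv_eq_one.mp hψ
  have heq : f.hom ≫ fst A S = (snd A S ≫ g) * (fst A S ≫ h) := by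
    rw [← hφ]; simp only [φ]; rw [mul_inv_cancel_left]
  -- h is an isomorphism
  let m : A ⟶ A := j ≫ f.hom ≫ fst A S
  have hm : m ≫ j = j ≫ f.hom := by
    simp only [m, j]
    apply CartesianMonoidalCategory.hom_ext
    · simp only [Category.assoc, lift_fst, Category.comp_id]
    · simp only [Category.assoc, lift_snd, hf]
      simp only [← Category.assoc]
      exact congrArg (· ≫ s₀) (toUnit_unique _ _)
  let m' : A ⟶ A := j ≫ f.inv ≫ fst A S
  have hf' : f.inv ≫ snd A S = snd A S := by rw [Iso.inv_comp_eq, hf]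
  have hm' : m' ≫ j = j ≫ f.inv := by
    simp only [m', j]
    apply CartesianMonoidalCategory.hom_ext
    · simp only [Category.assoc, lift_fst, Category.comp_id]
    · simp only [Category.assoc, lift_snd, hf']
      simp only [← Category.assoc]
      exact congrArg (· ≫ s₀) (toUnit_unique _ _)
  haveI : IsIso m := ⟨m', by
      show m ≫ j ≫ f.inv ≫ fst A S = 𝟙 A
      rw [← Category.assoc, hm, Category.assoc, f.hom_inv_id_assoc, lift_fst], by
      show m' ≫ j ≫ f.hom ≫ fst A S = 𝟙 A
      rw [← Category.assoc, hm', Category.assoc, f.inv_hom_id_assoc, lift_fst]⟩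
  let c : 𝟙_ (Over (Spec (CommRingCat.of k))) ⟶ A := s₀ ≫ g
  let tr : A ⟶ A := (toUnit A ≫ c)⁻¹ * 𝟙 A
  haveI : IsIso tr := ⟨(toUnit A ≫ c) * 𝟙 A, by
      simp only [tr, MonObj.comp_mul, GrpObj.comp_inv, Category.comp_id, ← Category.assoc]
      rw [toUnit_unique (_ ≫ toUnit A) (toUnit A), mul_inv_cancel_left], by
      simp only [tr, MonObj.comp_mul, GrpObj.comp_inv, Category.comp_id, ← Category.assoc]
      rw [toUnit_unique (_ ≫ toUnit A) (toUnit A), inv_mul_cancel_left]⟩
  have hhm : h = m ≫ tr := by
    simp only [h, φ, tr, MonObj.comp_mul, GrpObj.comp_inv, Category.comp_id, ← Category.assoc]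
    rw [toUnit_unique (m ≫ toUnit A) (toUnit A)]
    simp only [j, lift_snd, c, m, Category.assoc]
  refine ⟨g, h, hmon, by rw [hhm]; infer_instance, heq, fun g' h' hh' he => ?_⟩
  have hg' : g' = g := by
    have := congrArg (ii ≫ ·) he
    simp only [MonObj.comp_mul, ii, ← Category.assoc, lift_fst, lift_snd, Category.id_comp] at this
    rw [Category.assoc _ η[A] h', IsMonHom.one_hom h', show toUnit S ≫ η[A] = (1 : S ⟶ A) from rfl,
      _root_.mul_one] at this
    simp only [g, ii]
    rw [← this, Category.assoc]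
    rfl
  refine ⟨hg', ?_⟩
  subst hg'
  have := congrArg (j ≫ ·) (mul_left_cancel (he.symm.trans heq))
  simpa only [j, ← Category.assoc, lift_fst, Category.id_comp] using this

end Groth.Agent.S11404
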