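import Groth.Statements.S11407
import Groth.Agent.GrpSchLib.CharPUnip
import Groth.Agent.H23.CubeField
import Groth.Agent.GrpSchLib.SmoothReduced
import Groth.Agent.H23.GeomConn
import Groth.Agent.GrpSchLib.IsogenyFibre
-- import your own Groth.Agent.* helpers here

set_option autoImplicit false
set_option backward.isDefEq.respectTransparency.types false
set_option maxHeartbeats 1000000
universe u
open CategoryTheory MonoidalCategory CartesianMonoidalCategory MonObj GrpObj AlgebraicGeometry CategoryTheory.Limits
open AlgGrp

namespace Groth.Agent.S11407

/-- Over an algebraically closed field k of characteristic p > 0, let G be a connected commutative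
algebraic group (smooth k-group scheme of finite type) which is an extension of an abelian variety A
(a proper, smooth, connected k-group scheme) by a connected unipotent algebraic group U: i : U → G
is a homomorphism and closed immersion from a smooth, connected, affine k-group scheme containing no
non-trivial subtorus (for smooth connected affine groups over an algebraically closed field this is
unipotency), and α : G → A is a flat surjective homomorphism with kernel i. Then the only global
functions on G are the constants if and only if U is the trivial group. -/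
theorem result (k : Type u) [Field k] [IsAlgClosed k]
    (p : ℕ) [Fact p.Prime] [CharP k p]
    (G : Over (Spec (CommRingCat.of k))) [GrpObj G] [Smooth G.hom] [QuasiCompact G.hom] [ConnectedSpace ↥G.left] [IsCommMonObj G]
    (U : Over (Spec (CommRingCat.of k))) [GrpObj U] (i : U ⟶ G) [IsMonHom i] [IsClosedImmersion i.left]
    [Smooth U.hom] [ConnectedSpace ↥U.left] [IsAffine U.left] (hU : Red.HasNoSubtorus k U)
    (A : Over (Spec (CommRingCat.of k))) [GrpObj A] [IsProper A.hom] [Smooth A.hom] [ConnectedSpace ↥A.left]
    (α : G ⟶ A) [IsMonHom α] [Surjective α.left] [Flat α.left] (hker : AlgGrp.IsKernel i α) :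
    Function.Bijective ((Scheme.ΓSpecIso (CommRingCat.of k)).inv ≫ G.hom.appTop).hom ↔ IsIso U.hom := by
  constructor
  · intro hG
    haveI := AGFLib.BorelExist.mono_of_closedImmersion i
    exact (haveI := GrpSchLib.isReduced_of_smooth_field U.hom; SolvGrp.isTrivialGrp_of_pts fun x => GrpSchLib.CharPUnip.pts_trivial p hG i (fun g => SolvGrp.isUnipPt_of_hasNoSubtorus hU g) x)
  · intro hUt
    haveI : Mono α := ⟨fun {T} g₁ g₂ h => by
      have hd : (g₁ * g₂⁻¹) ≫ α = toUnit T ≫ η[A] := by
        rw [MonObj.mul_comp, GrpObj.inv_comp, h, mul_inv_cancel]
        exact Hom.one_def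
      have hm : Mono U.hom := inferInstance
      have e : hker.lift (g₁ * g₂⁻¹) (toUnit T) hd = 1 :=
        Over.OverMorphism.ext ((cancel_mono U.hom).mp ((Over.w _).trans (Over.w _).symm))
      have h1 := hker.lift_fst (g₁ * g₂⁻¹) (toUnit T) hd
      rw [e, MonObj.one_comp] at h1
      exact mul_inv_eq_one.mp h1.symm⟩
    haveI : Mono α.left := (Over.forget _).map_mono α
    haveI : LocallyOfFiniteType (α.left ≫ A.hom) := by rw [Over.w]; infer_instance
    haveI : LocallyOfFiniteType α.left := locallyOfFiniteType_of_comp α.left A.hom
    haveI : IsLocallyNoetherian A.left := LocallyOfFiniteType.isLocallyNoetherian A.hom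
    haveI : LocallyOfFinitePresentation α.left := LocallyOfFinitePresentation.iff_locallyOfFiniteType.2 inferInstance
    haveI : IsOpenImmersion α.left := IsOpenImmersion.of_flat_of_mono α.left
    haveI : IsIso α.left := (isIso_iff_isOpenImmersion_and_surjective α.left).2 ⟨inferInstance, inferInstance⟩
    haveI : GeometricallyReduced A.hom := GrpSchLib.geometricallyReduced_of_smooth A.hom
    haveI : GeometricallyConnected A.hom := H23.GeomConn.of_point k A.hom η[A].left (Over.w η[A])
    have hA := H23.CubeField.bijective_appTop_of_connected A
    rw [← Over.w α, Scheme.Hom.comp_appTop]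
    have hi : Function.Bijective α.left.appTop := @ConcreteCategory.bijective_of_isIso _ _ _ _ _ _ _ _ α.left.appTop (inferInstanceAs (IsIso ((Scheme.Γ).map α.left.op)))
    have hs : Function.Bijective (Scheme.ΓSpecIso (CommRingCat.of k)).inv := ConcreteCategory.bijective_of_isIso _
    exact (hi.comp hA).comp hs

end Groth.Agent.S11407
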