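import Groth.Statements.S11411
import Groth.Agent.GrpSchLib.AntiAffineHom


set_option autoImplicit false
universe u
open CategoryTheory MonoidalCategory CartesianMonoidalCategory MonObj GrpObj AlgebraicGeometry CategoryTheory.Limits
open AlgGrp

namespace Groth.Agent.S11411

open Limits Groth.Agent.GrpSchLib

/-- Over an algebraically closed field k, let G be an algebraic group (a smooth k-group scheme of finite
type) and N the kernel of the canonical morphism ρ : G → Spec O(G), i.e. the fibre of ρ over the
image of the unit. Then N is the smallest normal subgroup scheme of G with affine quotient: for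
every closed normal subgroup scheme H of G with a flat surjective homomorphism G → Q of k-group
schemes of finite type with kernel H and Q affine, the inclusion of N factors through H. And N is
the largest anti-affine subgroup scheme: every homomorphism and closed immersion into G from a
k-group scheme whose only global functions are the constants factors through N. (The published
statement also asserts O(N) = k, that N is a connected algebraic group central in G⁰, and O(G/N) =
O(G) finitely generated; those parts are not restated here.) -/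
theorem result (k : Type u) [Field k] [IsAlgClosed k]
    (G : Over (Spec (CommRingCat.of k))) [GrpObj G] [Smooth G.hom] [QuasiCompact G.hom] :
    (∀ (H Q : Over (Spec (CommRingCat.of k))) [GrpObj H] [GrpObj Q] (h : H ⟶ G) [IsMonHom h] [IsClosedImmersion h.left]
        [LocallyOfFiniteType Q.hom] [QuasiCompact Q.hom] (q : G ⟶ Q) [IsMonHom q] [Surjective q.left] [Flat q.left],
        AlgGrp.IsKernel h q → IsAffine Q.left →
        ∃ f : pullback G.left.toSpecΓ (η[G].left ≫ G.left.toSpecΓ) ⟶ H.left, f ≫ h.left = pullback.fst G.left.toSpecΓ (η[G].left ≫ G.left.toSpecΓ)) ∧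
    (∀ (M : Over (Spec (CommRingCat.of k))) [GrpObj M] (j : M ⟶ G) [IsMonHom j] [IsClosedImmersion j.left],
        Function.Bijective ((Scheme.ΓSpecIso (CommRingCat.of k)).inv ≫ M.hom.appTop).hom →
        ∃ f : M.left ⟶ pullback G.left.toSpecΓ (η[G].left ≫ G.left.toSpecΓ), f ≫ pullback.fst G.left.toSpecΓ (η[G].left ≫ G.left.toSpecΓ) = j.left) := by
  let ii := pullback.fst G.left.toSpecΓ (η[G].left ≫ G.left.toSpecΓ)
  let π := pullback.snd G.left.toSpecΓ (η[G].left ≫ G.left.toSpecΓ)
  have hcond : ii ≫ G.left.toSpecΓ = π ≫ η[G].left ≫ G.left.toSpecΓ := pullback.condition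
  refine ⟨?_, ?_⟩
  · intro H Q _ _ h _ _ _ _ q _ _ _ hk hQ
    have hk' : IsPullback h (toUnit H) q η[Q] := hk
    have hk'' : IsPullback h.left (toUnit H).left q.left η[Q].left := hk'.map (Over.forget _)
    haveI := hQ
    have hfac : q.left = G.left.toSpecΓ ≫ (Spec.map q.left.appTop ≫ Q.left.isoSpec.inv) := by
      rw [← Category.assoc, ← Scheme.toSpecΓ_naturality, Category.assoc, Scheme.toSpecΓ_isoSpec_inv, Category.comp_id]
    have he : η[G].left ≫ q.left = η[Q].left := congrArg CommaMorphism.left (IsMonHom.one_hom q)
    have hw : ii ≫ q.left = π ≫ η[Q].left := by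
      rw [← he, hfac]
      simp only [← Category.assoc]
      rw [Category.assoc π, hcond]
    exact ⟨hk''.lift ii π hw, hk''.lift_fst _ _ _⟩
  · intro M _ j _ _ hM
    have hM' := (AntiAffine.bijective_appTop_iff M.hom).mp hM
    let Z : Over (Spec (CommRingCat.of k)) := Over.mk (Spec.map G.hom.appTop ≫ (Spec (CommRingCat.of k)).isoSpec.inv)
    let c : G ⟶ Z := Over.homMk G.left.toSpecΓ (by
      show G.left.toSpecΓ ≫ Spec.map G.hom.appTop ≫ (Spec (CommRingCat.of k)).isoSpec.inv = G.hom
      rw [← Category.assoc, ← Scheme.toSpecΓ_naturality, Category.assoc, Scheme.toSpecΓ_isoSpec_inv, Category.comp_id])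
    haveI : IsAffine Z.left := inferInstanceAs (IsAffine (Spec _))
    have hw : j.left ≫ G.left.toSpecΓ = M.hom ≫ η[G].left ≫ G.left.toSpecΓ := by
      have h1 := congrArg CommaMorphism.left (AntiAffine.eq_const_of_isAffine hM' (j ≫ c) η[M])
      rw [← Category.assoc η[M] j c, IsMonHom.one_hom j] at h1
      exact h1
    exact ⟨pullback.lift j.left M.hom hw, pullback.lift_fst _ _ _⟩

end Groth.Agent.S11411
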