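import Groth.Statements.S11414
import Groth.Agent.AGFLib.Borel
import Groth.Agent.AGFLib.QuasiComp.Chevalley
-- import your own Groth.Agent.* helpers here

set_option autoImplicit false
set_option backward.isDefEq.respectTransparency false
set_option backward.isDefEq.respectTransparency.types false
set_option linter.style.haveILetI false
universe u
open CategoryTheory MonoidalCategory CartesianMonoidalCategory MonObj GrpObj AlgebraicGeometry CategoryTheory.Limits
open AlgGrp

namespace Groth.Agent.S11414

open Groth.Agent Groth.Agent.AGFLib Groth.Agent.AGFLib.QuotProper Groth.Agent.AGFLib.BorelExist AGFLib.Gen AGFLib.BorelFixed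
open scoped MonObj

/-- The rational base point. -/
noncomputable abbrev PT (k : Type u) [Field k] : Over (Spec (CommRingCat.of k)) := 𝟙_ _

/-- A group acting on itself by translations. -/
noncomputable def translation {S : Scheme.{u}} (A : Over S) [GrpObj A] : AlgGrp.Action A A where
  act := μ[A]
  one_act := MonObj.one_mul A
  mul_act := MonObj.mul_assoc A

/-- Conjugation restricted to a normal subgroup. -/
theorem exists_conj {k : Type u} [Field k] {G N : Over (Spec (CommRingCat.of k))} [GrpObj G] [GrpObj N] (i : N ⟶ G)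
    [IsMonHom i] [Mono i] (hN : AlgGrp.IsNormalHom i) (g : PT k ⟶ G) :
    ∃ cj : N ≅ N, IsMonHom cj.hom ∧ cj.hom ≫ i = i ≫ Borel.conjM g := by
  have hex : ∀ g : PT k ⟶ G, ∃ c : N ⟶ N, c ≫ i = i ≫ Borel.conjM g := fun g => by
    obtain ⟨c, hc⟩ := hN N (toUnit N ≫ g) (𝟙 N)
    rw [Category.id_comp] at hc
    exact ⟨c, by rw [Borel.comp_conjM, hc]⟩
  obtain ⟨c, hc⟩ := hex g
  obtain ⟨d, hd⟩ := hex g⁻¹
  refine ⟨⟨c, d, ?_, ?_⟩, ?_, hc⟩
  · rw [← cancel_mono i, Category.assoc, hd, reassoc_of% hc, Borel.conjM_comp, inv_mul_cancel, Borel.conjM_one,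
      Category.comp_id, Category.id_comp]
  · rw [← cancel_mono i, Category.assoc, hc, reassoc_of% hd, Borel.conjM_comp, mul_inv_cancel, Borel.conjM_one,
      Category.comp_id, Category.id_comp]
  · exact
      { one_hom := by rw [← cancel_mono i, Category.assoc, hc, IsMonHom.one_hom i, ← Category.assoc,
          IsMonHom.one_hom i, IsMonHom.one_hom (Borel.conjM g)]
        mul_hom := by
          show μ ≫ c = (c ⊗ₘ c) ≫ μ
          rw [← cancel_mono i, Category.assoc, hc, Category.assoc, IsMonHom.mul_hom i, ← Category.assoc,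
          IsMonHom.mul_hom i, Category.assoc, IsMonHom.mul_hom (Borel.conjM g),
          MonoidalCategory.tensorHom_comp_tensorHom_assoc, MonoidalCategory.tensorHom_comp_tensorHom_assoc, hc] }

/-- The image of a Borel subgroup under an automorphism is a Borel subgroup. -/
theorem isBorel_comp {k : Type u} [Field k] [IsAlgClosed k] {N B : Over (Spec (CommRingCat.of k))} [GrpObj N]
    [GrpObj B] (b : B ⟶ N) (hB : Red.IsBorelOver k b) (cj : N ≅ N) [IsMonHom cj.hom] :
    Red.IsBorelOver k (b ≫ cj.hom) := by
  haveI := hB.1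
  haveI := hB.2.1
  haveI : IsIso cj.hom.left := ((Over.forget _).mapIso cj).isIso_hom
  haveI : IsIso cj.inv.left := ((Over.forget _).mapIso cj).isIso_inv
  refine ⟨inferInstance, inferInstanceAs (IsClosedImmersion (b.left ≫ cj.hom.left)), hB.2.2.1, hB.2.2.2.1,
    hB.2.2.2.2.1, ?_⟩
  intro B' _ i' _ f _ hs hc hsol hf
  haveI : IsClosedImmersion i'.left := ‹_›
  haveI : IsMonHom cj.inv :=
    { one_hom := by rw [← cancel_mono cj.hom, Category.assoc, cj.inv_hom_id, Category.comp_id, IsMonHom.one_hom cj.hom]
      mul_hom := by rw [← cancel_mono cj.hom, Category.assoc, cj.inv_hom_id, Category.comp_id, Category.assoc,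
        IsMonHom.mul_hom cj.hom, MonoidalCategory.tensorHom_comp_tensorHom_assoc, cj.inv_hom_id]; simp }
  exact hB.2.2.2.2.2 B' (i' ≫ cj.inv) f (inferInstanceAs (IsClosedImmersion (i'.left ≫ cj.inv.left))) hs hc hsol
    (by rw [← Category.assoc, hf, Category.assoc, cj.hom_inv_id, Category.comp_id])


/-- Over an algebraically closed field k, let G be a connected algebraic group (smooth k-group scheme of
finite type), let i : N → G be its largest connected affine normal algebraic subgroup G_aff (a
homomorphism and closed immersion from a smooth, connected, affine k-group scheme, normal in G,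
through which every other such subgroup factors), let H be a closed subgroup scheme of G and X = G/H
a quotient (a k-scheme with a G-action and a rational point o whose orbit map is flat and surjective
and identifies G × H with G ×_X G). Then X is proper over k exactly when some Borel subgroup of
G_aff lies in H (factors through H). (The published statement adds, for such a Borel subgroup B, an
isomorphism of G/B with the product of G/G_aff and G_aff/B; it is not stated here.) -/
theorem result (k : Type u) [Field k] [IsAlgClosed k]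
    (G : Over (Spec (CommRingCat.of k))) [GrpObj G] [Smooth G.hom] [QuasiCompact G.hom] [ConnectedSpace ↥G.left]
    (N : Over (Spec (CommRingCat.of k))) [GrpObj N] (i : N ⟶ G) [IsMonHom i] [IsClosedImmersion i.left]
    [Smooth N.hom] [ConnectedSpace ↥N.left] [IsAffine N.left] (hN : AlgGrp.IsNormalHom i)
    (hNmax : ∀ (N' : Over (Spec (CommRingCat.of k))) [GrpObj N'] (i' : N' ⟶ G) [IsMonHom i'] [IsClosedImmersion i'.left]
      [Smooth N'.hom] [ConnectedSpace ↥N'.left] [IsAffine N'.left], AlgGrp.IsNormalHom i' → ∃ f : N' ⟶ N, f ≫ i = i')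
    (H : Over (Spec (CommRingCat.of k))) [GrpObj H] (h : H ⟶ G) [IsMonHom h] [IsClosedImmersion h.left]
    (X : Over (Spec (CommRingCat.of k))) (a : AlgGrp.Action G X) (o : 𝟙_ (Over (Spec (CommRingCat.of k))) ⟶ X) (hX : AGF.IsQuotient h X a o) :
    IsProper X.hom ↔ ∃ (B : Over (Spec (CommRingCat.of k))) (_ : GrpObj B) (b : B ⟶ N) (f : B ⟶ H),
      Red.IsBorelOver k b ∧ f ≫ h = b ≫ i := by
  haveI := GrpSchLib.AntiAffine.isSeparated_grp G
  haveI : LocallyOfFiniteType H.hom := by rw [← Over.w h]; infer_instance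
  haveI : QuasiCompact H.hom := by rw [← Over.w h]; infer_instance
  haveI : QuasiCompact N.hom := by rw [← Over.w i]; infer_instance
  haveI : Mono i := BorelExist.mono_of_closedImmersion i
  haveI : LocallyOfFiniteType X.hom := hX.1
  haveI : QuasiCompact X.hom := quot_quasiCompact hX
  haveI : IsSeparated X.hom := quot_isSeparated hX
  constructor
  · intro hp
    obtain ⟨B₀, _, b₀, Y₀, a₀, y₀, hB₀, -, -⟩ := Borel.exists_borel N
    haveI := hB₀.1; haveI := hB₀.2.1; haveI := hB₀.2.2.1; haveI := hB₀.2.2.2.1
    have hs := hB₀.2.2.2.2.1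
    haveI : IsAffine B₀.left := isAffine_of_isAffineHom b₀.left
    haveI : IsReduced B₀.left := GrpSchLib.isReduced_of_smooth_field B₀.hom
    haveI := BorelExist.isSolvable_pts hs
    haveI : Nonempty X.left := ⟨cp o⟩
    obtain ⟨c, hc⟩ := exists_restrict a (b₀ ≫ i)
    obtain ⟨x, hx⟩ := exists_isFixedPt X c
    haveI := hX.2.2.1
    obtain ⟨g, hg⟩ := exists_of_mem_range (a.orbitMap o) x ((a.orbitMap o).left.surjective _)
    obtain ⟨cj, hcj, hcji⟩ := exists_conj i hN g⁻¹
    haveI := hcj
    obtain ⟨f, hf⟩ := BorelExist.exists_lift_pts h ((b₀ ≫ cj.hom) ≫ i) fun t => by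
      have h1 := hx _ t
      rw [hc, ← Category.assoc, lift_whiskerRight, toUnit_unique (toUnit _) (𝟙 (𝟙_ _)), Category.id_comp, ← hg,
        pt_orbitMap, GrpSchLib.act_mul] at h1
      have h2 : (g⁻¹ * ((t ≫ b₀ ≫ i) * g)) ≫ a.orbitMap o = (1 : PT k ⟶ G) ≫ a.orbitMap o := by
        rw [pt_orbitMap, pt_orbitMap, ← GrpSchLib.act_mul, h1, GrpSchLib.act_mul, inv_mul_cancel]
      obtain ⟨z, hz⟩ := exists_mul_eq hX _ _ h2.symm
      refine ⟨z, ?_⟩
      rw [_root_.one_mul] at hz
      rw [hz, Category.assoc b₀, hcji, ← Category.assoc b₀, ← Category.assoc, Borel.comp_conjM,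
        MonObj.comp_mul, MonObj.comp_mul]
      simp only [GrpObj.comp_inv, ← Category.assoc, toUnit_unique (t ≫ toUnit B₀) (𝟙 (𝟙_ _)), Category.id_comp,
        _root_.inv_inv, _root_.mul_assoc]
    exact ⟨B₀, inferInstance, b₀ ≫ cj.hom, f, isBorel_comp b₀ hB₀ cj, hf⟩
  · rintro ⟨B, _, b, f, hB, hf⟩
    haveI := hB.1; haveI := hB.2.1
    haveI : LocallyOfFiniteType B.hom := by rw [← Over.w b]; infer_instance
    haveI : QuasiCompact B.hom := by rw [← Over.w b]; infer_instance
    haveI : Mono b := BorelExist.mono_of_closedImmersion b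
    obtain ⟨A, _, q, hq, hAp, hAs, hAc, hqs, hqf, hqk⟩ := QuasiComp.exists_abelian_quot i hN hNmax
    haveI := hq; haveI := hAp; haveI := hAs; haveI := hAc; haveI := hqs; haveI := hqf
    haveI : IrreducibleSpace A.left := Rosen.irreducibleSpace_of_connected
    haveI : IsReduced A.left := GrpSchLib.isReduced_of_smooth_field A.hom
    haveI : IsIntegral A.left := isIntegral_of_irreducibleSpace_of_isReduced A.left
    haveI : GeometricallyIntegral A.hom := H23.EquidimFibres.geometricallyIntegral_of_isAlgClosed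
    haveI : IsCommMonObj A := isCommMonObj_of_isProper_of_geometricallyIntegral A
    obtain ⟨K, _, pK, κ, hpK, hκ, hpκ, hκc, hpf, hps, hKl, hKq⟩ := GrpSchLib.ImageFactor.exists_image (h ≫ q)
    haveI := hpK; haveI := hκ; haveI := hκc; haveI := hKl; haveI := hKq; haveI := hps
    haveI : Mono κ := BorelExist.mono_of_closedImmersion κ
    haveI : IsSeparated K.hom := GrpSchLib.AntiAffine.isSeparated_grp K
    obtain ⟨A', _, r, hr, hrs, hrf, hrl, hA'l, hA'q, hA'sep, hrk, -⟩ :=
      GrpSchLib.GenQuot.exists_quot κ (fun T u v => ⟨v, by rw [mul_comm u, mul_inv_cancel_right]⟩)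
    haveI := hr; haveI := hrs; haveI := hrf
    haveI : IsSeparated A'.hom := GrpSchLib.AntiAffine.isSeparated_grp A'
    haveI : LocallyOfFiniteType A'.hom := hA'l
    haveI : QuasiCompact A'.hom := hA'q
    haveI : UniversallyClosed (r.left ≫ A'.hom) := by rw [Over.w r]; infer_instance
    haveI : UniversallyClosed A'.hom := UniversallyClosed.of_comp_surjective r.left A'.hom
    haveI : IsProper A'.hom := IsProper.mk
    let φ : G ⟶ A' := q ≫ r
    haveI : IsMonHom φ := inferInstanceAs (IsMonHom (q ≫ r))
    obtain ⟨c, hc⟩ := exists_restrict (translation A') φ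
    have hcφ : ∀ {T : Over (Spec (CommRingCat.of k))} (u : T ⟶ G) (v : T ⟶ A'), lift u v ≫ c.act = (u ≫ φ) * v :=
      fun u v => by rw [hc, lift_whiskerRight_assoc, Hom.mul_def]; rfl
    have horb : c.orbitMap η[A'] = φ := by
      rw [AlgGrp.Action.orbitMap, hcφ, Category.id_comp, ← Hom.one_def, _root_.mul_one]
    obtain ⟨π, ⟨hπe, hπo⟩, -⟩ := S8014.result k G H h X a o hX A' c η[A'] (fun T u => by
      rw [hcφ, ← Hom.one_def, _root_.mul_one, Category.assoc u h φ, show h ≫ φ = (h ≫ q) ≫ r from (Category.assoc _ _ _).symm,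
        ← hpκ, Category.assoc pK, hrk.w, ← Category.assoc pK, comp_toUnit, ← Category.assoc, comp_toUnit]
      rfl)
    rw [horb] at hπo
    haveI : Flat (c.orbitMap η[A']).left := by rw [horb]; exact inferInstanceAs (Flat (q.left ≫ r.left))
    haveI : Surjective (c.orbitMap η[A']).left := by rw [horb]; exact inferInstanceAs (Surjective (q.left ≫ r.left))
    let F := Limits.pullback π η[A']
    let jF : F ⟶ X := pullback.fst π η[A']
    have sq : IsPullback jF (toUnit F) π η[A'] :=
      toUnit_unique (pullback.snd π η[A']) (toUnit F) ▸ IsPullback.of_hasPullback π η[A']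
    haveI : IsClosedImmersion η[A'].left := by
      haveI : IsClosedImmersion (η[A'].left ≫ A'.hom) := by
        rw [Over.w η[A']]; exact inferInstanceAs (IsClosedImmersion (𝟙 _))
      exact IsClosedImmersion.of_comp η[A'].left A'.hom
    haveI : IsClosedImmersion jF.left :=
      MorphismProperty.of_isPullback (P := @IsClosedImmersion) (sq.map (Over.forget _)).flip ‹IsClosedImmersion η[A'].left›
    haveI : Mono jF := BorelExist.mono_of_closedImmersion jF
    haveI : LocallyOfFiniteType F.hom := by rw [← Over.w jF]; infer_instance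
    haveI : IsSeparated F.hom := by rw [← Over.w jF]; infer_instance
    -- the homogeneous space of the affine part
    obtain ⟨Y, aY, y, hYl, hYq, hYf, hYs, hYsq⟩ := GrpSchLib.HomogeneousQuot.exists_quot N B b
    have hY : AGF.IsQuotient b Y aY y := ⟨hYl, hYf, hYs, hYsq⟩
    haveI : IsProper Y.hom := Borel.isProper_borel b hB hY
    haveI := hYf; haveI := hYs
    haveI : QuasiCompact (aY.orbitMap y).left := (quot_orbit_qc hY).1
    obtain ⟨aN, haN⟩ := exists_restrict a i
    obtain ⟨ψ, ⟨-, hψ⟩, -⟩ := S8014.result k N B b Y aY y hY X aN o (fun T u => by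
      rw [haN, lift_whiskerRight_assoc, Category.assoc, ← hf, ← Category.assoc]
      exact stab_of_quot hX (u ≫ f))
    have hψo : aY.orbitMap y ≫ ψ = i ≫ a.orbitMap o := by
      rw [hψ, AlgGrp.Action.orbitMap, AlgGrp.Action.orbitMap, haN, lift_whiskerRight_assoc, ← Category.assoc i,
        comp_lift, Category.id_comp, Category.comp_id, ← Category.assoc i, comp_toUnit]
    have hiφ : i ≫ φ = toUnit N ≫ η[A'] := by
      rw [← Category.assoc i q r, hqk.w, Category.assoc, IsMonHom.one_hom r]
    have hψ1 : ψ ≫ π = toUnit Y ≫ η[A'] := by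
      haveI : Epi (aY.orbitMap y) := by
        haveI : EffectiveEpi (aY.orbitMap y).left := inferInstance
        exact (Over.forget _).epi_of_epi_map (inferInstanceAs (Epi (aY.orbitMap y).left))
      rw [← cancel_epi (aY.orbitMap y), ← Category.assoc, hψo, Category.assoc, hπo, hiφ, ← Category.assoc,
        comp_toUnit]
    let Ψ : Y ⟶ F := sq.lift ψ (toUnit Y) hψ1
    haveI : UniversallyClosed F.hom := universallyClosed_of_pts Ψ fun t => by
      haveI := hX.2.2.1
      obtain ⟨g, hg⟩ := exists_of_mem_range (a.orbitMap o) (t ≫ jF) ((a.orbitMap o).left.surjective _)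
      have hgφ : g ≫ φ = 1 := by
        rw [← hπo, ← Category.assoc, hg, Category.assoc, sq.w, ← Category.assoc, comp_toUnit]
        rfl
      let w := hrk.lift (g ≫ q) (toUnit _) ((Category.assoc _ _ _).trans hgφ)
      obtain ⟨h₀, hh₀⟩ := exists_of_mem_range pK w (pK.left.surjective _)
      have hh : (h₀ ≫ h) ≫ q = g ≫ q := by
        rw [Category.assoc, ← hpκ, ← Category.assoc, hh₀]
        exact hrk.lift_fst _ _ _
      let n := hqk.lift (g * (h₀ ≫ h)⁻¹) (toUnit _) (by
        rw [MonObj.mul_comp, GrpObj.inv_comp, hh, mul_inv_cancel]; rfl)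
      have hn : n ≫ i = g * (h₀ ≫ h)⁻¹ := hqk.lift_fst _ _ _
      refine ⟨n ≫ aY.orbitMap y, ?_⟩
      rw [← cancel_mono jF, Category.assoc, Category.assoc, sq.lift_fst, hψo, ← Category.assoc, hn, ← hg,
        pt_orbitMap, pt_orbitMap]
      have := stab_of_quot hX h₀
      rw [toUnit_unique (toUnit _) (𝟙 (𝟙_ _)), Category.id_comp] at this
      conv_lhs => rw [← this, GrpSchLib.act_mul, inv_mul_cancel_right]
    exact isProper_of_fibre π hπe η[A'] jF sq

end Groth.Agent.S11414
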