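import Groth.Statements.S11415
import Groth.Agent.GrpSchLib.TorusStabGeneric
-- import your own Groth.Agent.* helpers here

set_option autoImplicit false
set_option backward.isDefEq.respectTransparency false
set_option backward.isDefEq.respectTransparency.types false
set_option maxHeartbeats 1000000
universe u
open CategoryTheory MonoidalCategory CartesianMonoidalCategory MonObj GrpObj AlgebraicGeometry CategoryTheory.Limits
open AlgGrp

namespace Groth.Agent.S11415

open GrpSchLib GrpSchLib.AffineHopf

/-- Over an algebraically closed field k, let T be a torus (a k-group scheme isomorphic to the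
diagonalizable group of ℤ^r for some r) acting on a variety X (an integral, separated k-scheme of
finite type), faithfully in the scheme-theoretic sense: every point of T with values in a k-scheme S
which acts as the identity on X × S is the identity. Then there is a dense open subset U of X such
that for every rational point x of X in U the isotropy subgroup scheme of x is trivial: every
S-valued point of T fixing x is the identity. -/
theorem result (k : Type u) [Field k] [IsAlgClosed k]
    (T X : Over (Spec (CommRingCat.of k))) [GrpObj T] (r : ℕ) (hT : Red.IsSplitTorusWith (Fin r → ℤ) T)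
    [LocallyOfFiniteType X.hom] [QuasiCompact X.hom] [IsSeparated X.hom] [IsIntegral X.left]
    (a : AlgGrp.Action T X)
    (hfaith : ∀ (S : Over (Spec (CommRingCat.of k))) (g : S ⟶ T),
      (∀ (S' : Over (Spec (CommRingCat.of k))) (s : S' ⟶ S) (x : S' ⟶ X), lift (s ≫ g) x ≫ a.act = x) → g = 1) :
    ∃ U : X.left.Opens, Dense (U : Set ↥X.left) ∧
      ∀ x : 𝟙_ (Over (Spec (CommRingCat.of k))) ⟶ X, x.left (IsLocalRing.closedPoint k) ∈ U →
        ∀ (S : Over (Spec (CommRingCat.of k))) (g : S ⟶ T), lift g (toUnit S ≫ x) ≫ a.act = toUnit S ≫ x → g = 1 := by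
  obtain ⟨e, he⟩ := GrpSchLib.MuGLn.exists_sp_iso T hT
  haveI := he
  haveI : AddGroup.FG (Fin r → ℤ) := Module.Finite.iff_addGroup_fg.mp inferInstance
  haveI : Nonempty X.left := inferInstance
  obtain ⟨W, hW, hx0, -⟩ := exists_isAffineOpen_mem_and_subset (U := (⊤ : X.left.Opens))
    (x := Classical.arbitrary X.left) (Set.mem_univ _)
  haveI : Nonempty W := ⟨⟨_, hx0⟩⟩
  let φ := Spec.preimage (hW.fromSpec ≫ X.hom)
  letI : Algebra k Γ(X.left, W) := φ.hom.toAlgebra
  haveI : IsDomain Γ(X.left, W) := inferInstance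
  let w : sp k Γ(X.left, W) ⟶ X := Over.homMk hW.fromSpec (by
    show hW.fromSpec ≫ X.hom = Spec.map φ
    exact (Spec.map_preimage _).symm)
  haveI : IsOpenImmersion w.left := inferInstanceAs (IsOpenImmersion hW.fromSpec)
  obtain ⟨d, hd, htriv⟩ := GrpSchLib.TorusStabGeneric.exists_trivial (M := Fin r → ℤ) e.hom a w hfaith
  refine ⟨X.left.basicOpen d, (X.left.basicOpen d).isOpen.dense ?_, fun x hx S g hg => ?_⟩
  · rw [Set.nonempty_iff_ne_empty]
    intro h
    exact hd ((basicOpen_eq_bot_iff _).mp (TopologicalSpace.Opens.ext h))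
  refine Over.OverMorphism.ext (Scheme.Cover.hom_ext S.left.affineCover _ _ fun i => ?_)
  let j : Over.mk (S.left.affineCover.f i ≫ S.hom) ⟶ S := Over.homMk (S.left.affineCover.f i)
  suffices h : j ≫ g = 1 from congrArg (fun q => q.left) (h.trans (MonObj.comp_one j).symm)
  haveI : IsAffine (Over.mk (S.left.affineCover.f i ≫ S.hom)).left :=
    inferInstanceAs (IsAffine (Spec _))
  obtain ⟨C, _, _, ⟨io⟩⟩ := S19228.exists_sp (Over.mk (S.left.affineCover.f i ≫ S.hom))
  rw [← cancel_epi io.hom, MonObj.comp_one]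
  have hgC : lift (io.hom ≫ j ≫ g) (toUnit _ ≫ x) ≫ a.act = toUnit (sp k C) ≫ x := by
    have h := congrArg (fun q => (io.hom ≫ j) ≫ q) hg
    simp only [comp_lift_assoc, Category.assoc] at h
    rw [show io.hom ≫ j ≫ toUnit S ≫ x = toUnit (sp k C) ≫ x by
      rw [← Category.assoc, ← Category.assoc, toUnit_unique ((io.hom ≫ j) ≫ toUnit S) (toUnit _)]] at h
    exact h
  have hmem : ∀ y, (toUnit (sp k C) ≫ x).left y ∈ X.left.basicOpen d := fun y => by
    have : (toUnit (sp k C)).left y = IsLocalRing.closedPoint k :=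
      @Subsingleton.elim (PrimeSpectrum k) _ _ _
    show x.left ((toUnit (sp k C)).left y) ∈ _
    rw [this]
    exact hx
  let p : (sp k C).left ⟶ (sp k Γ(X.left, W)).left := IsOpenImmersion.lift w.left (toUnit (sp k C) ≫ x).left (by
    rintro _ ⟨y, rfl⟩
    exact hW.range_fromSpec.symm ▸ X.left.basicOpen_le d (hmem y))
  have hp : p ≫ w.left = (toUnit (sp k C) ≫ x).left := IsOpenImmersion.lift_fac _ _ _
  let pp : sp k C ⟶ sp k Γ(X.left, W) := Over.homMk p (by
    rw [← Over.w w, ← Category.assoc, hp, Over.w])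
  have hpp : pp ≫ w = toUnit _ ≫ x := Over.OverMorphism.ext hp
  obtain ⟨f2, hf2⟩ := GrpSchLib.SplitTorusPoints.exists_eq_spMap' pp
  letI : Algebra Γ(X.left, W) C := f2.toRingHom.toAlgebra
  haveI : IsScalarTower k Γ(X.left, W) C := IsScalarTower.of_algebraMap_eq' f2.comp_algebraMap.symm
  have hf2' : IsScalarTower.toAlgHom k Γ(X.left, W) C = f2 := AlgHom.ext fun r => rfl
  have hu : IsUnit (algebraMap Γ(X.left, W) C d) := by
    by_contra hnu
    obtain ⟨q, hq', hmemq⟩ := exists_max_ideal_of_mem_nonunits hnu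
    have hq : q.IsPrime := hq'.isPrime
    let y : PrimeSpectrum C := ⟨q, hq⟩
    have h1 : hW.fromSpec (p y) ∈ X.left.basicOpen d :=
      ((Scheme.Hom.comp_apply _ _ _).symm.trans (congrArg (fun z => z y) hp)).symm ▸ hmem y
    rw [← hW.fromSpec_image_basicOpen d] at h1
    obtain ⟨z, hz, hze⟩ := h1
    have hz' : z = p y := hW.fromSpec.isOpenEmbedding.injective hze
    subst hz'
    have hpy : p y = PrimeSpectrum.comap f2.toRingHom y := by
      rw [show p = (spMap f2).left from congrArg (fun q => q.left) hf2]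
      rfl
    rw [hpy] at hz
    exact hz hmemq
  obtain ⟨f0, hf0⟩ := GrpSchLib.SplitTorusPoints.exists_eq_spMap' ((io.hom ≫ j ≫ g) ≫ e.inv)
  let f : Multiplicative (Fin r → ℤ) →* C := (f0 : _ →* C).comp (MonoidAlgebra.of k _)
  have hchi : GrpSchLib.TorusStabGeneric.chiPt (k := k) f ≫ e.hom = io.hom ≫ j ≫ g := by
    have : MonoidAlgebra.lift k C _ f = f0 := (MonoidAlgebra.lift k C _).apply_symm_apply f0
    rw [GrpSchLib.TorusStabGeneric.chiPt, this, ← hf0, Category.assoc, e.inv_hom_id, Category.comp_id]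
  have hfix : GrpSchLib.TorusStabGeneric.Fixed e.hom a w C f := by
    rw [GrpSchLib.TorusStabGeneric.Fixed, hchi, hf2', ← hf2, hpp]
    exact hgC
  have h1 := htriv C f hu hfix
  rw [← hchi, h1, GrpSchLib.TorusStabGeneric.chiPt_one, MonObj.one_comp]


end Groth.Agent.S11415
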