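import Groth.Statements.S11416
import Groth.Agent.AGFLib.FaithfulRep

set_option autoImplicit false
universe u
open CategoryTheory MonoidalCategory CartesianMonoidalCategory MonObj GrpObj AlgebraicGeometry CategoryTheory.Limits
open AlgGrp

namespace Groth.Agent.S11416

/-- Over an algebraically closed field k, let G be an algebraic group (a smooth k-group scheme of finite
type) and M a rational G-module, not necessarily finite-dimensional: a k-vector space with a
G-module structure (points of G with values in a k-algebra B act B-linearly on B ⊗ M, naturally in
B) such that every vector lies in a finite-dimensional subspace N with B ⊗ N stable under all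
B-points of G. If the representation is faithful, in the sense that every rational point of G acting
as the identity on M is the identity element, then G is affine. -/
theorem result (k : Type u) [Field k] [IsAlgClosed k]
    (G : Over (Spec (CommRingCat.of k))) [GrpObj G] [Smooth G.hom] [QuasiCompact G.hom]
    (M : Type u) [AddCommGroup M] [Module k M] (m : VecGrp.GMod G M)
    (hlf : ∀ v : M, ∃ N : Submodule k M, v ∈ N ∧ Module.Finite k ↥N ∧
      ∀ (B : Type u) [CommRing B] [Algebra k B] (g : VecGrp.pt k B ⟶ G) (x : VecGrp.W k M B),
        x ∈ Submodule.baseChange B N → m.ρ B g x ∈ Submodule.baseChange B N)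
    (hfaith : ∀ g : VecGrp.pt k k ⟶ G, m.ρ k g = 1 → g = 1) :
    IsAffine G.left := by
  exact Groth.Agent.AGFLib.FaithfulRep.isAffine_of_faithful m hlf hfaith

end Groth.Agent.S11416
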