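import Groth.Statements.S11418
import Groth.Agent.GrpSchLib.Core
-- import your own Groth.Agent.* helpers here

set_option autoImplicit false
set_option backward.isDefEq.respectTransparency false
set_option backward.isDefEq.respectTransparency.types false
universe u
open CategoryTheory MonoidalCategory CartesianMonoidalCategory MonObj GrpObj AlgebraicGeometry CategoryTheory.Limits
open AlgGrp

open Groth.Agent

namespace Groth.Agent.S11418

/-- Over an algebraically closed field k, let G be an affine algebraic group (smooth affine k-group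
scheme of finite type) and π : X → Y a principal G-bundle of k-schemes of finite type: G acts on X,
π is G-invariant, faithfully flat, and the square formed by the action, the second projection G × X
→ X and π is cartesian. Then the map θ sending a G-equivariant morphism f : X → G (for the
conjugation action on G, i.e. f(g·x) = g f(x) g⁻¹ on points) to the automorphism x ↦ f(x)·x is a
bijection onto the bundle automorphisms: every G-equivariant automorphism φ of X with π ∘ φ = π
equals θ(f) for exactly one such f. -/
theorem result (k : Type u) [Field k] [IsAlgClosed k]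
    (G X Y : Over (Spec (CommRingCat.of k))) [GrpObj G] [Smooth G.hom] [QuasiCompact G.hom] [IsAffine G.left]
    [LocallyOfFiniteType X.hom] [QuasiCompact X.hom] [LocallyOfFiniteType Y.hom] [QuasiCompact Y.hom]
    (a : AlgGrp.Action G X) (π : X ⟶ Y) (hinv : a.act ≫ π = snd G X ≫ π) [Flat π.left] [Surjective π.left]
    (hcart : IsPullback (snd G X) a.act π π)
    (φ : X ≅ X) (hφ : φ.hom ≫ π = π) (hφeq : (G ◁ φ.hom) ≫ a.act = a.act ≫ φ.hom) :
    ∃! f : X ⟶ G, (∀ (S : Over (Spec (CommRingCat.of k))) (g : S ⟶ G) (x : S ⟶ X),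
        lift g x ≫ a.act ≫ f = g * (x ≫ f) * g⁻¹) ∧ φ.hom = lift f (𝟙 X) ≫ a.act := by
  let r : X ⟶ G ⊗ X := hcart.lift (𝟙 X) φ.hom (by rw [Category.id_comp, hφ])
  let f : X ⟶ G := r ≫ fst G X
  have hr : r = lift f (𝟙 X) := by
    apply CartesianMonoidalCategory.hom_ext
    · rw [lift_fst]
    · rw [lift_snd]; exact hcart.lift_fst _ _ _
  have hf : lift f (𝟙 X) ≫ a.act = φ.hom := by rw [← hr]; exact hcart.lift_snd _ _ _
  have uniq : ∀ {S : Over (Spec (CommRingCat.of k))} (u v : S ⟶ G) (x : S ⟶ X),
      lift u x ≫ a.act = lift v x ≫ a.act → u = v := fun u v x h => by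
    have e : lift u x = lift v x := hcart.hom_ext (by rw [lift_snd, lift_snd]) h
    simpa using congrArg (· ≫ fst G X) e
  have hf' : ∀ {S : Over (Spec (CommRingCat.of k))} (x : S ⟶ X),
      lift (x ≫ f) x ≫ a.act = x ≫ φ.hom := fun x => by
    rw [← hf, ← Category.assoc x (lift f (𝟙 X)), comp_lift, Category.comp_id]
  refine ⟨f, ⟨fun S g x => ?_, hf.symm⟩, ?_⟩
  · refine uniq _ _ (lift g x ≫ a.act) ?_
    rw [← Category.assoc (lift g x), hf', Category.assoc, ← hφeq, ← Category.assoc, lift_whiskerLeft,
      ← hf' x, GrpSchLib.act_mul, GrpSchLib.act_mul]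
    congr 2
    rw [inv_mul_cancel_right]
  · rintro f' ⟨-, hf'2⟩
    exact uniq f' f (𝟙 X) (hf'2.symm.trans hf.symm)

end Groth.Agent.S11418
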