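import Groth.Statements.S11419
import Groth.Agent.AGFLib.Borel
import Groth.Agent.AGFLib.BorelImage
import Groth.Agent.AGFLib.AntPart
import Groth.Agent.AGFLib.QuasiComp.Chevalley
import Groth.Agent.GrpSchLib.AntiAffineSmooth

-- import your own Groth.Agent.* helpers here

set_option autoImplicit false
set_option backward.isDefEq.respectTransparency false
set_option backward.isDefEq.respectTransparency.types false
set_option linter.style.haveILetI false
universe u
open CategoryTheory MonoidalCategory CartesianMonoidalCategory MonObj GrpObj AlgebraicGeometry CategoryTheory.Limits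
open AlgGrp

namespace Groth.Agent.S11419

open Groth.Agent Groth.Agent.AGFLib Groth.Agent.AGFLib.QuotProper Groth.Agent.AGFLib.BorelExist AGFLib.Gen AGFLib.BorelFixed

/-- The rational base point. -/
noncomputable abbrev PT (k : Type u) [Field k] : Over (Spec (CommRingCat.of k)) := 𝟙_ _

variable {k : Type u} [Field k] [IsAlgClosed k] {G N M A : Over (Spec (CommRingCat.of k))} [GrpObj G] [GrpObj N]
  [GrpObj M] [GrpObj A]

/-- The product of a homomorphism and a central one. -/
theorem isMonHom_mul {C M G : Over (Spec (CommRingCat.of k))} [GrpObj C] [GrpObj M] [GrpObj G] (c : C ⟶ G) [IsMonHom c]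
    (j : M ⟶ G) [IsMonHom j]
    (hcen : ∀ {T : Over (Spec (CommRingCat.of k))} (a : T ⟶ M) (g : T ⟶ G), (a ≫ j) * g = g * (a ≫ j)) :
    IsMonHom ((fst C M ≫ c) * (snd C M ≫ j)) := by
  refine ⟨?_, ?_⟩
  · rw [MonObj.comp_mul, ← Category.assoc, IsMonHom.one_hom, IsMonHom.one_hom, ← Category.assoc,
      IsMonHom.one_hom, IsMonHom.one_hom, MonObj.one_eq_one, _root_.mul_one]
  · have e1 : μ[C ⊗ M] = fst _ _ * snd _ _ := MonObj.mul_eq_mul _
    rw [Hom.mul_def (fst C M ≫ c), ← Hom.mul_def (fst C M ≫ c),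
      show (((fst C M ≫ c) * (snd C M ≫ j)) ⊗ₘ ((fst C M ≫ c) * (snd C M ≫ j))) ≫ μ[G] =
        (fst _ _ ≫ ((fst C M ≫ c) * (snd C M ≫ j))) * (snd _ _ ≫ ((fst C M ≫ c) * (snd C M ≫ j))) by
      rw [← CartesianMonoidalCategory.lift_fst_comp_snd_comp, ← Hom.mul_def], e1]
    simp only [MonObj.comp_mul, ← Category.assoc, MonObj.mul_comp]
    simp only [_root_.mul_assoc]
    congr 1
    rw [← _root_.mul_assoc, ← _root_.mul_assoc, hcen]

/-- The subgroup generated by a connected solvable subgroup and a central one. -/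
theorem exists_mul_central [Smooth G.hom] [QuasiCompact G.hom] (j : M ⟶ G) [IsMonHom j] [Smooth M.hom]
    [QuasiCompact M.hom] [ConnectedSpace M.left]
    (hcen : ∀ {T : Over (Spec (CommRingCat.of k))} (a : T ⟶ M) (g : T ⟶ G), (a ≫ j) * g = g * (a ≫ j))
    (hMc : ∀ x y : PT k ⟶ M, x * y = y * x)
    {C : Over (Spec (CommRingCat.of k))} [GrpObj C] (c : C ⟶ G) [IsMonHom c] [Smooth C.hom] [QuasiCompact C.hom]
    [ConnectedSpace C.left] (hs : Red.IsSolvableGrp C) :
    ∃ (I : Over (Spec (CommRingCat.of k))) (_ : GrpObj I) (h₀ : I ⟶ G) (fc : C ⟶ I) (fm : M ⟶ I),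
      IsMonHom h₀ ∧ IsClosedImmersion h₀.left ∧ Smooth I.hom ∧ ConnectedSpace I.left ∧ Red.IsSolvableGrp I ∧
      fc ≫ h₀ = c ∧ fm ≫ h₀ = j ∧
      ∀ y : PT k ⟶ I, ∃ (x : PT k ⟶ C) (m : PT k ⟶ M), (x ≫ fc) * (m ≫ fm) = y := by
  haveI : LocallyOfFiniteType (C ⊗ M).hom :=
    inferInstanceAs (LocallyOfFiniteType (pullback.fst C.hom M.hom ≫ C.hom))
  haveI : QuasiCompact (C ⊗ M).hom := inferInstanceAs (QuasiCompact (pullback.fst C.hom M.hom ≫ C.hom))
  haveI : Smooth (C ⊗ M).hom := inferInstanceAs (Smooth (pullback.fst C.hom M.hom ≫ C.hom))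
  haveI : IrreducibleSpace C.left := Rosen.irreducibleSpace_of_connected
  haveI : IrreducibleSpace M.left := Rosen.irreducibleSpace_of_connected
  haveI := GrpSchLib.geometricallyIrreducible_of_isAlgClosed M.hom
  haveI : IrreducibleSpace (C ⊗ M).left := inferInstanceAs (IrreducibleSpace ↥(pullback C.hom M.hom))
  let Φ : C ⊗ M ⟶ G := (fst C M ≫ c) * (snd C M ≫ j)
  haveI : IsMonHom Φ := isMonHom_mul c j hcen
  obtain ⟨I, _, p, h₀, hp, hh₀, hpΦ, hcl, hpf, hps, hIl, hIq⟩ := GrpSchLib.ImageFactor.exists_image Φ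
  haveI := hp; haveI := hh₀; haveI := hcl; haveI := hpf; haveI := hps; haveI := hIl; haveI := hIq
  haveI : Mono h₀ := mono_of_closedImmersion h₀
  haveI : IsSeparated I.hom := GrpSchLib.AntiAffine.isSeparated_grp I
  haveI : Smooth (p.left ≫ I.hom) := by rw [Over.w p]; infer_instance
  haveI : Smooth I.hom := GrpSchLib.smooth_of_flat_surjective p.left I.hom
  haveI : ConnectedSpace I.left := p.left.surjective.connectedSpace p.left.continuous
  let fc : C ⟶ I := lift (𝟙 C) (1 : C ⟶ M) ≫ p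
  let fm : M ⟶ I := lift (1 : M ⟶ C) (𝟙 M) ≫ p
  have hfc : fc ≫ h₀ = c := by
    simp only [fc, Category.assoc, hpΦ, Φ, MonObj.comp_mul, lift_fst_assoc, lift_snd_assoc, Category.id_comp,
      MonObj.one_comp, _root_.mul_one]
  have hfm : fm ≫ h₀ = j := by
    simp only [fm, Category.assoc, hpΦ, Φ, MonObj.comp_mul, lift_fst_assoc, lift_snd_assoc, Category.id_comp,
      MonObj.one_comp, _root_.one_mul]
  have hpts : ∀ y : PT k ⟶ I, ∃ (x : PT k ⟶ C) (m : PT k ⟶ M), (x ≫ fc) * (m ≫ fm) = y := fun y => by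
    obtain ⟨w, hw⟩ := exists_of_mem_range p y (p.left.surjective _)
    refine ⟨w ≫ fst C M, w ≫ snd C M, ?_⟩
    rw [← cancel_mono h₀, MonObj.mul_comp, Category.assoc _ fc, hfc, Category.assoc _ fm, hfm, ← hw,
      Category.assoc w p, hpΦ]
    simp only [Φ, MonObj.comp_mul, Category.assoc]
  let ψ : (PT k ⟶ C) × (PT k ⟶ M) →* (PT k ⟶ I) := MonoidHom.mk' (fun a => (a.1 ≫ fc) * (a.2 ≫ fm)) fun a b => by
    rw [← cancel_mono h₀]
    simp only [Prod.fst_mul, Prod.snd_mul, MonObj.mul_comp, Category.assoc, hfc, hfm]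
    simp only [_root_.mul_assoc]
    congr 1
    rw [← _root_.mul_assoc, ← _root_.mul_assoc, hcen]
  haveI := BorelExist.isSolvable_pts hs
  haveI : Group.IsSolvable (PT k ⟶ M) := Group.isSolvable_of_comm hMc
  haveI : Group.IsSolvable (PT k ⟶ I) := Group.isSolvable_of_surjective (f := ψ) fun y => by
    obtain ⟨x, m, h⟩ := hpts y
    exact ⟨(x, m), h⟩
  obtain ⟨n, hn⟩ := Group.IsSolvable.solvable (G := (PT k ⟶ I))
  exact ⟨I, inferInstance, h₀, fc, fm, inferInstance, inferInstance, inferInstance, inferInstance,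
    ProperSpace.isSolvableGrp_of_pts n hn, hfc, hfm, hpts⟩

/-- A connected solvable subgroup containing the anti-affine part is conjugate into a Borel subgroup times it. -/
theorem exists_into [Smooth G.hom] [QuasiCompact G.hom] [Smooth N.hom] [ConnectedSpace N.left] [IsAffine N.left]
    (i : N ⟶ G) [IsMonHom i] [IsClosedImmersion i.left] [LocallyOfFiniteType A.hom] [IsSeparated A.hom]
    (q : G ⟶ A) [IsMonHom q] (hqk : AlgGrp.IsKernel i q)
    [LocallyOfFiniteType M.hom] (j : M ⟶ G)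
    (hcen : ∀ {T : Over (Spec (CommRingCat.of k))} (a : T ⟶ M) (g : T ⟶ G), (a ≫ j) * g = g * (a ≫ j))
    (hmul : Surjective ((i ⊗ₘ j) ≫ μ[G]).left)
    {B H₀ : Over (Spec (CommRingCat.of k))} [GrpObj B] [GrpObj H₀] (b : B ⟶ N) (hb : Red.IsBorelOver k b)
    (h₀ : H₀ ⟶ G) [IsMonHom h₀] [IsClosedImmersion h₀.left] (fb : B ⟶ H₀) (fm : M ⟶ H₀) (hfb : fb ≫ h₀ = b ≫ i)
    (hfm : fm ≫ h₀ = j)
    {C : Over (Spec (CommRingCat.of k))} [GrpObj C] (c : C ⟶ G) [IsMonHom c] [IsClosedImmersion c.left]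
    [Smooth C.hom] [ConnectedSpace C.left] (hs : Red.IsSolvableGrp C) (e : M ⟶ C) (he : e ≫ c = j) :
    ∃ (g : PT k ⟶ N) (f : C ⟶ H₀), f ≫ AGF.conjBy (g ≫ i) h₀ = c := by
  haveI := GrpSchLib.AntiAffine.isSeparated_grp G
  haveI : QuasiCompact N.hom := by rw [← Over.w i]; infer_instance
  haveI : QuasiCompact C.hom := by rw [← Over.w c]; infer_instance
  haveI : LocallyOfFiniteType H₀.hom := by rw [← Over.w h₀]; infer_instance
  obtain ⟨K, _, κ, hκ, hκc, -, hK⟩ := GrpSchLib.exists_kernel (c ≫ q)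
  haveI := hκ; haveI := hκc
  haveI : LocallyOfFiniteType K.hom := by rw [← Over.w κ]; infer_instance
  haveI : QuasiCompact K.hom := by rw [← Over.w κ]; infer_instance
  obtain ⟨L, _, l, hl, hlc, hLs, hLc, hLq, S, hS, hcov⟩ := BorelExist.exists_idComp (P := K)
  haveI := hl; haveI := hlc; haveI := hLs; haveI := hLc; haveI := hLq
  haveI : IsClosedImmersion (l ≫ κ).left := inferInstanceAs (IsClosedImmersion (l.left ≫ κ.left))
  haveI : Mono (l ≫ κ) := mono_of_closedImmersion (l ≫ κ)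
  have hLsol : Red.IsSolvableGrp L := BorelExist.isSolvableGrp_of_mono (l ≫ κ) hs
  let c' : L ⟶ G := (l ≫ κ) ≫ c
  haveI : IsMonHom c' := inferInstanceAs (IsMonHom ((l ≫ κ) ≫ c))
  let v : L ⟶ N := hqk.lift c' (toUnit L) (by
    simp only [c', Category.assoc]
    rw [hK.w, ← Category.assoc, comp_toUnit])
  have hv : v ≫ i = c' := hqk.lift_fst _ _ _
  haveI : Mono i := mono_of_closedImmersion i
  haveI : IsMonHom v := BorelImage.isMonHom_of_comp v i c' hv
  haveI : IsClosedImmersion v.left := by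
    haveI : IsClosedImmersion (v.left ≫ i.left) := by
      rw [← Over.comp_left, hv]; exact inferInstanceAs (IsClosedImmersion ((l ≫ κ).left ≫ c.left))
    exact IsClosedImmersion.of_comp v.left i.left
  haveI := hb.1; haveI := hb.2.1
  haveI : LocallyOfFiniteType B.hom := by rw [← Over.w b]; infer_instance
  haveI : QuasiCompact B.hom := by rw [← Over.w b]; infer_instance
  haveI : Mono b := mono_of_closedImmersion b
  obtain ⟨X, a, o, hXl, hXq, hXf, hXs, hXsq⟩ := GrpSchLib.HomogeneousQuot.exists_quot N B b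
  have hX : AGF.IsQuotient b X a o := ⟨hXl, hXf, hXs, hXsq⟩
  haveI := Borel.isProper_borel b hb hX
  obtain ⟨g, f, hf⟩ := Borel.exists_conj_into b v hLsol hX
  let h₁ : H₀ ⟶ G := AGF.conjBy (g ≫ i) h₀
  haveI : IsClosedImmersion h₁.left := by
    simp only [h₁, Borel.conjBy_eq]
    exact inferInstanceAs (IsClosedImmersion (h₀.left ≫ (Borel.conjM (g ≫ i)).left))
  haveI : IsMonHom h₁ := by simp only [h₁, Borel.conjBy_eq]; infer_instance
  have hj : fm ≫ h₁ = j := by
    simp only [h₁, Borel.conjBy_eq]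
    rw [← Category.assoc, hfm, Borel.comp_conjM]
    have := hcen (𝟙 M) (toUnit M ≫ g ≫ i)
    rw [Category.id_comp] at this
    rw [← this, mul_inv_cancel_right]
  have hl₁ : (f ≫ fb) ≫ h₁ = c' := by
    simp only [h₁, Borel.conjBy_eq]
    rw [Category.assoc, reassoc_of% hfb, ← Category.assoc b i, ← Borel.conjBy_eq,
      ← BorelImage.conjBy_comp i g b, reassoc_of% hf, hv]
  haveI : IrreducibleSpace C.left := Rosen.irreducibleSpace_of_connected
  haveI : IsReduced C.left := GrpSchLib.isReduced_of_smooth_field C.hom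
  haveI : LocallyOfFiniteType (N ⊗ M).hom :=
    inferInstanceAs (LocallyOfFiniteType (pullback.fst N.hom M.hom ≫ N.hom))
  let E : Set C.left := c.left ⁻¹' Set.range h₁.left
  have hE : IsClosed E := h₁.left.isClosedEmbedding.isClosed_range.preimage c.left.continuous
  let T : (PT k ⟶ K) → (C ⟶ C) := fun s => (toUnit C ≫ (s ≫ κ)⁻¹) * 𝟙 C
  have hT : ∀ s (p : PT k ⟶ C), (T s).left (cp p) = cp ((s ≫ κ)⁻¹ * p) := fun s p => by
    rw [← cp_comp]
    congr 1
    simp only [T, MonObj.comp_mul, Category.comp_id, ← Category.assoc, toUnit_unique (p ≫ toUnit C) (𝟙 _),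
      Category.id_comp]
  have hcover : ∀ p : PT k ⟶ C, ∃ s ∈ S, cp p ∈ (T s).left ⁻¹' E := fun p => by
    obtain ⟨w, hw⟩ := exists_of_mem_range ((i ⊗ₘ j) ≫ μ[G]) (p ≫ c) (Set.mem_range.2 (hmul.surj _))
    have hw' : ((w ≫ fst N M) ≫ i) * ((w ≫ snd N M) ≫ j) = p ≫ c := by
      rw [← hw, ← CartesianMonoidalCategory.lift_fst_comp_snd_comp, ← Hom.mul_def, MonObj.comp_mul,
        Category.assoc, Category.assoc]
    let p' : PT k ⟶ C := p * ((w ≫ snd N M) ≫ e)⁻¹
    have hp' : p' ≫ c = (w ≫ fst N M) ≫ i := by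
      simp only [p']
      rw [MonObj.mul_comp, GrpObj.inv_comp, Category.assoc _ e c, he, ← hw', mul_inv_cancel_right]
    let y := hK.lift p' (toUnit _) (by
      rw [← Category.assoc, hp', Category.assoc, hqk.w, ← Category.assoc, comp_toUnit])
    obtain ⟨s, hsS, l₀, hl₀⟩ := hcov y
    refine ⟨s, hsS, ?_⟩
    have hy : (s ≫ κ) * (l₀ ≫ l ≫ κ) = p' := by
      rw [← Category.assoc l₀, ← MonObj.mul_comp, hl₀]
      exact hK.lift_fst _ _ _
    have hp : (s ≫ κ)⁻¹ * p = (l₀ ≫ l ≫ κ) * ((w ≫ snd N M) ≫ e) := by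
      rw [inv_mul_eq_iff_eq_mul, ← _root_.mul_assoc, hy, inv_mul_cancel_right]
    show (T s).left (cp p) ∈ c.left ⁻¹' Set.range h₁.left
    rw [hT, hp, Set.mem_preimage, ← cp_comp]
    refine ⟨cp ((l₀ ≫ f ≫ fb) * ((w ≫ snd N M) ≫ fm)), ?_⟩
    rw [← cp_comp]
    congr 1
    rw [MonObj.mul_comp, MonObj.mul_comp, Category.assoc l₀, hl₁, Category.assoc _ fm, hj, Category.assoc _ e, he]
    simp only [c', Category.assoc]
  have huniv : (⋃ s ∈ S, (T s).left ⁻¹' E) = (Set.univ : Set C.left) :=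
    eq_univ_of_forall_cp (hS.isClosed_biUnion fun s _ => hE.preimage (T s).left.continuous) fun p => by
      obtain ⟨s, hsS, hp⟩ := hcover p
      exact Set.mem_biUnion hsS hp
  classical
  obtain ⟨Z, hZ, hZu⟩ := isIrreducible_iff_sUnion_isClosed.1 (IrreducibleSpace.isIrreducible_univ C.left)
    (hS.toFinset.image fun s => (T s).left ⁻¹' E) (fun z hz => by
      obtain ⟨s, -, rfl⟩ := Finset.mem_image.1 hz
      exact hE.preimage (T s).left.continuous) (by
      rw [← huniv]
      intro x hx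
      obtain ⟨s, hsS, hxs⟩ := Set.mem_iUnion₂.1 hx
      exact ⟨_, Finset.mem_coe.2 (Finset.mem_image.2 ⟨s, hS.mem_toFinset.2 hsS, rfl⟩), hxs⟩)
  obtain ⟨s, -, rfl⟩ := Finset.mem_image.1 hZ
  obtain ⟨φ, hφ⟩ := BorelExist.exists_lift_pts h₁ c fun t => by
    have h2 := hZu (Set.mem_univ (cp ((s ≫ κ) * t)))
    rw [Set.mem_preimage, hT, inv_mul_cancel_left, Set.mem_preimage, ← cp_comp] at h2
    exact exists_of_mem_range h₁ _ h2
  exact ⟨g, φ, hφ⟩

/-- Over an algebraically closed field k, let G be a connected algebraic group (smooth k-group scheme of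
finite type), let i : N → G be its largest connected affine normal algebraic subgroup G_aff (a
homomorphism and closed immersion from a smooth, connected, affine k-group scheme, normal in G,
through which every other such subgroup factors), let j : M → G be its largest anti-affine subgroup
scheme G_ant (a homomorphism and closed immersion from a k-group scheme M whose only global
functions are the constants, through which every other such subgroup scheme factors), and let h : H
→ G be a maximal connected solvable algebraic subgroup (maximal among smooth, connected, solvable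
closed subgroup schemes). Then H contains G_ant; there is a Borel subgroup B of G_aff contained in H
with H = B · G_ant (the multiplication B × G_ant → H is surjective); and every other maximal
connected solvable algebraic subgroup of G is conjugate to H by a rational point of G. (The
published statement also identifies B with the scheme-theoretic intersection of G_aff and H, says H
is its own set-theoretic normalizer, and gives G/H ≅ G_aff/B; those clauses are not stated here.) -/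
theorem result (k : Type u) [Field k] [IsAlgClosed k]
    (G : Over (Spec (CommRingCat.of k))) [GrpObj G] [Smooth G.hom] [QuasiCompact G.hom] [ConnectedSpace ↥G.left]
    (N : Over (Spec (CommRingCat.of k))) [GrpObj N] (i : N ⟶ G) [IsMonHom i] [IsClosedImmersion i.left]
    [Smooth N.hom] [ConnectedSpace ↥N.left] [IsAffine N.left] (hN : AlgGrp.IsNormalHom i)
    (hNmax : ∀ (N' : Over (Spec (CommRingCat.of k))) [GrpObj N'] (i' : N' ⟶ G) [IsMonHom i'] [IsClosedImmersion i'.left]
      [Smooth N'.hom] [ConnectedSpace ↥N'.left] [IsAffine N'.left], AlgGrp.IsNormalHom i' → ∃ f : N' ⟶ N, f ≫ i = i')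
    (M : Over (Spec (CommRingCat.of k))) [GrpObj M] (j : M ⟶ G) [IsMonHom j] [IsClosedImmersion j.left]
    (hM : Function.Bijective ((Scheme.ΓSpecIso (CommRingCat.of k)).inv ≫ M.hom.appTop).hom)
    (hMmax : ∀ (M' : Over (Spec (CommRingCat.of k))) [GrpObj M'] (j' : M' ⟶ G) [IsMonHom j'] [IsClosedImmersion j'.left],
      Function.Bijective ((Scheme.ΓSpecIso (CommRingCat.of k)).inv ≫ M'.hom.appTop).hom → ∃ f : M' ⟶ M, f ≫ j = j')
    (H : Over (Spec (CommRingCat.of k))) [GrpObj H] (h : H ⟶ G) (hH : Red.IsBorelOver k h) :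
    (∃ f : M ⟶ H, f ≫ h = j) ∧
    (∃ (B : Over (Spec (CommRingCat.of k))) (_ : GrpObj B) (b : B ⟶ N) (f : B ⟶ H), Red.IsBorelOver k b ∧ f ≫ h = b ≫ i ∧
        ∀ f' : M ⟶ H, f' ≫ h = j → Surjective ((f ⊗ₘ f') ≫ μ[H]).left) ∧
    (∀ (H' : Over (Spec (CommRingCat.of k))) [GrpObj H'] (h' : H' ⟶ G), Red.IsBorelOver k h' →
        ∃ (g : 𝟙_ (Over (Spec (CommRingCat.of k))) ⟶ G) (e : H' ≅ H), e.hom ≫ h = AGF.conjBy g h') := by
  haveI := GrpSchLib.AntiAffine.isSeparated_grp G
  haveI : Mono i := mono_of_closedImmersion i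
  haveI : Mono j := mono_of_closedImmersion j
  haveI : LocallyOfFiniteType M.hom := by rw [← Over.w j]; infer_instance
  haveI : QuasiCompact M.hom := by rw [← Over.w j]; infer_instance
  haveI : QuasiCompact N.hom := by rw [← Over.w i]; infer_instance
  have hM' := (GrpSchLib.AntiAffine.bijective_appTop_iff M.hom).mp hM
  haveI : Smooth M.hom := GrpSchLib.AntiAffineSmooth.smooth hM'
  haveI : ConnectedSpace M.left := GrpSchLib.AntiAffine.connectedSpace_of_bijective hM'
  have hcen : ∀ {T : Over (Spec (CommRingCat.of k))} (a : T ⟶ M) (g : T ⟶ G), (a ≫ j) * g = g * (a ≫ j) :=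
    fun a g => GrpSchLib.AntiAffine.commute hM' j ((IsMonHom.one_hom j).trans (MonObj.one_eq_one _)) a g
  have hMc : ∀ x y : PT k ⟶ M, x * y = y * x := fun x y => by
    rw [← cancel_mono j, MonObj.mul_comp, MonObj.mul_comp, hcen]
  obtain ⟨A, _, q, hq, hAp, hAs, hAc, hqs, hqf, hqk⟩ := QuasiComp.exists_abelian_quot i hN hNmax
  haveI := hq; haveI := hAp; haveI := hAs; haveI := hqs; haveI := hqf
  have hmul := (AntPart.main_mul i q hqk j (AntPart.isAnt_of_max G j hM
    (fun M' _ _ _ j' _ _ hb' => hMmax M' j' hb'))).1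
  obtain ⟨B, _, b, _, _, _, hb, -, -⟩ := Borel.exists_borel N
  haveI := hb.1; haveI := hb.2.1; haveI := hb.2.2.1; haveI := hb.2.2.2.1
  haveI : QuasiCompact B.hom := by rw [← Over.w b]; infer_instance
  obtain ⟨H₀, _, h₀, fb, fm, hh₀, hh₀c, hH₀s, hH₀c, hH₀sol, hfb, hfm, hH₀pts⟩ :=
    exists_mul_central j hcen hMc (b ≫ i) hb.2.2.2.2.1
  haveI := hh₀; haveI := hh₀c; haveI := hH₀s; haveI := hH₀c
  haveI : Mono h₀ := mono_of_closedImmersion h₀
  -- every maximal connected solvable subgroup is a conjugate of the product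
  have main : ∀ (H' : Over (Spec (CommRingCat.of k))) [GrpObj H'] (h' : H' ⟶ G), Red.IsBorelOver k h' →
      ∃ (g : PT k ⟶ N) (f : H' ≅ H₀), f.hom ≫ AGF.conjBy (g ≫ i) h₀ = h' := by
    intro H' _ h' hH'
    obtain ⟨_, _, _, _, hs', hmax'⟩ := hH'
    haveI : QuasiCompact H'.hom := by rw [← Over.w h']; infer_instance
    obtain ⟨I, _, h'', f', fm', hh'', hh''c, hIs, hIc, hIsol, hf', hfm', -⟩ := exists_mul_central j hcen hMc h' hs'
    haveI := hh''; haveI := hh''c; haveI := hIs; haveI := hIc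
    obtain ⟨g, f, hf⟩ := exists_into i q hqk j hcen hmul b hb h₀ fb fm hfb hfm h'' hIsol fm' hfm'
    haveI : IsMonHom (AGF.conjBy (g ≫ i) h₀) := by rw [Borel.conjBy_eq]; infer_instance
    have hcl : IsClosedImmersion (AGF.conjBy (g ≫ i) h₀).left := by
      rw [Borel.conjBy_eq]; exact inferInstanceAs (IsClosedImmersion (h₀.left ≫ (Borel.conjM (g ≫ i)).left))
    haveI : IsIso (f' ≫ f) := hmax' H₀ (AGF.conjBy (g ≫ i) h₀) (f' ≫ f) hcl inferInstance inferInstance hH₀sol
      (by rw [Category.assoc, hf, hf'])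
    exact ⟨g, asIso (f' ≫ f), by rw [asIso_hom, Category.assoc, hf, hf']⟩
  obtain ⟨g, φ, hφ⟩ := main H h hH
  haveI := hH.2.1
  haveI : Mono h := mono_of_closedImmersion h
  haveI : LocallyOfFiniteType H.hom := by rw [← Over.w h]; infer_instance
  haveI : QuasiCompact H.hom := by rw [← Over.w h]; infer_instance
  haveI := hH.1
  have hφinv : φ.inv ≫ h = AGF.conjBy (g ≫ i) h₀ := by rw [← hφ, Iso.inv_hom_id_assoc]
  have hM₁ : (fm ≫ φ.inv) ≫ h = j := by
    rw [Category.assoc, hφinv, Borel.conjBy_eq, ← Category.assoc, hfm, Borel.comp_conjM]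
    have := hcen (𝟙 M) (toUnit M ≫ g ≫ i)
    rw [Category.id_comp] at this
    rw [← this, mul_inv_cancel_right]
  have hB₁ : (fb ≫ φ.inv) ≫ h = AGF.conjBy g b ≫ i := by
    rw [Category.assoc, hφinv, Borel.conjBy_eq, reassoc_of% hfb, ← Category.assoc b i, ← Borel.conjBy_eq,
      ← BorelImage.conjBy_comp]
  refine ⟨⟨_, hM₁⟩, ⟨B, inferInstance, AGF.conjBy g b, fb ≫ φ.inv, Borel.isBorel_conj b hb g, hB₁, ?_⟩, ?_⟩
  · intro f' hf'
    obtain rfl : f' = fm ≫ φ.inv := (cancel_mono h).1 (hf'.trans hM₁.symm)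
    haveI : LocallyOfFiniteType (B ⊗ M).hom :=
      inferInstanceAs (LocallyOfFiniteType (pullback.fst B.hom M.hom ≫ B.hom))
    haveI : QuasiCompact (B ⊗ M).hom := inferInstanceAs (QuasiCompact (pullback.fst B.hom M.hom ≫ B.hom))
    haveI := (Borel.isBorel_conj b hb g).1
    haveI : IsMonHom (fb ≫ φ.inv) := BorelImage.isMonHom_of_comp _ h (AGF.conjBy g b ≫ i) hB₁
    haveI : IsMonHom (fm ≫ φ.inv) := BorelImage.isMonHom_of_comp _ h j hM₁
    haveI : IsMonHom (((fb ≫ φ.inv) ⊗ₘ (fm ≫ φ.inv)) ≫ μ[H]) := by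
      rw [← CartesianMonoidalCategory.lift_fst_comp_snd_comp, ← Hom.mul_def]
      exact isMonHom_mul _ _ fun a g' => by
        rw [← cancel_mono h, MonObj.mul_comp, MonObj.mul_comp, Category.assoc a, hM₁, hcen]
    haveI := GrpSchLib.AntiAffine.isSeparated_grp H
    haveI : QuasiCompact (((fb ≫ φ.inv) ⊗ₘ (fm ≫ φ.inv)) ≫ μ[H]).left := by
      haveI : QuasiCompact ((((fb ≫ φ.inv) ⊗ₘ (fm ≫ φ.inv)) ≫ μ[H]).left ≫ H.hom) := by rw [Over.w]; infer_instance
      exact QuasiCompact.of_comp _ H.hom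
    refine ⟨fun z => Set.mem_range.1 ((eq_univ_of_forall_cp (GrpSchLib.HomClosedRange.isClosed_range
      (((fb ≫ φ.inv) ⊗ₘ (fm ≫ φ.inv)) ≫ μ[H])) fun y => ?_).ge (Set.mem_univ z))⟩
    obtain ⟨x, m, hxm⟩ := hH₀pts (y ≫ φ.hom)
    refine ⟨cp (lift x m), ?_⟩
    rw [← cp_comp]
    congr 1
    haveI : IsMonHom (AGF.conjBy (g ≫ i) h₀) := by rw [Borel.conjBy_eq]; infer_instance
    rw [← cancel_mono h, ← CartesianMonoidalCategory.lift_fst_comp_snd_comp, ← Hom.mul_def, MonObj.comp_mul,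
      lift_fst_assoc, lift_snd_assoc, MonObj.mul_comp, Category.assoc x, Category.assoc m,
      Category.assoc fb, Category.assoc fm, hφinv, ← Category.assoc x fb, ← Category.assoc m fm,
      ← MonObj.mul_comp, hxm, Category.assoc, hφ]
  · intro H' _ h' hH'
    obtain ⟨g', φ', hφ'⟩ := main H' h' hH'
    refine ⟨(g ≫ i) * (g' ≫ i)⁻¹, φ' ≪≫ φ.symm, ?_⟩
    rw [Iso.trans_hom, Iso.symm_hom, Category.assoc, hφinv, ← hφ', Borel.conjBy_eq, Borel.conjBy_eq,
      Borel.conjBy_eq, Category.assoc, Category.assoc, Borel.conjM_comp, inv_mul_cancel_right]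

end Groth.Agent.S11419
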