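import Groth.Statements.S11420
import Groth.Agent.GrpSchLib.BlanchardQS
import Groth.Agent.H23.EquidimFibres
-- import your own Groth.Agent.* helpers here

set_option autoImplicit false
universe u
open CategoryTheory MonoidalCategory CartesianMonoidalCategory MonObj GrpObj AlgebraicGeometry CategoryTheory.Limits
open AlgGrp

namespace Groth.Agent.S11420

/-- Over an algebraically closed field k, let X and Y be complete varieties (proper, integral, separated
k-schemes of finite type) and let a connected k-group scheme of finite type G act on X × Y. Then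
there are unique actions of G on X and on Y such that the given action is the product action g·(x,
y) = (g·x, g·y). (This is the form, for actions of connected group schemes, of the identification of
the neutral component of the automorphism group scheme of X × Y with the product of those of X and
Y; the representability of these group schemes is not asserted here.) -/
theorem result (k : Type u) [Field k] [IsAlgClosed k]
    (G X Y : Over (Spec (CommRingCat.of k))) [GrpObj G] [LocallyOfFiniteType G.hom] [QuasiCompact G.hom] [ConnectedSpace ↥G.left]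
    [IsProper X.hom] [IsIntegral X.left]
    [IsProper Y.hom] [IsIntegral Y.left]
    (a : AlgGrp.Action G (X ⊗ Y)) :
    ∃ (b : AlgGrp.Action G X) (c : AlgGrp.Action G Y),
      a.act = lift ((G ◁ fst X Y) ≫ b.act) ((G ◁ snd X Y) ≫ c.act) ∧
      ∀ (b' : AlgGrp.Action G X) (c' : AlgGrp.Action G Y),
        a.act = lift ((G ◁ fst X Y) ≫ b'.act) ((G ◁ snd X Y) ≫ c'.act) → b' = b ∧ c' = c := by
  haveI : GeometricallyIntegral X.hom := Groth.Agent.H23.EquidimFibres.geometricallyIntegral_of_isAlgClosed
  haveI : GeometricallyIntegral Y.hom := Groth.Agent.H23.EquidimFibres.geometricallyIntegral_of_isAlgClosed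
  haveI : IsProper (fst X Y).left := inferInstanceAs (IsProper (Limits.pullback.fst X.hom Y.hom))
  haveI : IsProper (snd X Y).left := inferInstanceAs (IsProper (Limits.pullback.snd X.hom Y.hom))
  haveI : QuasiSeparatedSpace ↥(X ⊗ Y).left := by
    haveI : IsSeparated (X ⊗ Y).hom := by rw [← Over.w (fst X Y)]; infer_instance
    exact (quasiSeparated_iff_quasiSeparatedSpace (X ⊗ Y).hom).mp inferInstance
  have hsnd : ∀ U : Y.left.Opens, IsIso ((snd X Y).left.app U) := fun U =>
    (ConcreteCategory.isIso_iff_bijective _).mpr (Groth.Agent.H23.Rigid.bijective_app_snd X.hom Y.hom U)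
  have hfst : ∀ U : X.left.Opens, IsIso ((fst X Y).left.app U) := fun U => by
    have e : (fst X Y).left = (Limits.pullbackSymmetry X.hom Y.hom).hom ≫ Limits.pullback.snd Y.hom X.hom :=
      (Limits.pullbackSymmetry_hom_comp_snd X.hom Y.hom).symm
    haveI : IsIso ((Limits.pullback.snd Y.hom X.hom).app U) :=
      (ConcreteCategory.isIso_iff_bijective _).mpr (Groth.Agent.H23.Rigid.bijective_app_snd Y.hom X.hom U)
    haveI h2 : IsIso ((Limits.pullbackSymmetry X.hom Y.hom).hom.app
        ((Limits.pullback.snd Y.hom X.hom) ⁻¹ᵁ U)) := inferInstance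
    rw [e, Scheme.Hom.comp_app]
    exact IsIso.comp_isIso' ‹IsIso ((Limits.pullback.snd Y.hom X.hom).app U)› h2
  obtain ⟨b, hb⟩ := Groth.Agent.GrpSchLib.BlanchardQS.exists_action (fst X Y) hfst a
    (fun p q h => Groth.Agent.GrpSchLib.BlanchardQS.const_fibres (fst X Y) hfst a p q h)
  obtain ⟨c, hc⟩ := Groth.Agent.GrpSchLib.BlanchardQS.exists_action (snd X Y) hsnd a
    (fun p q h => Groth.Agent.GrpSchLib.BlanchardQS.const_fibres (snd X Y) hsnd a p q h)
  refine ⟨b, c, ?_, fun b' c' h => ⟨?_, ?_⟩⟩
  · rw [hb, hc]
    apply CartesianMonoidalCategory.hom_ext <;> simp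
  · have h1 := congrArg (· ≫ fst X Y) h
    simp only [lift_fst] at h1
    have := Groth.Agent.GrpSchLib.BlanchardQS.epi_whiskerLeft (fst X Y) hfst G X (h1.symm.trans hb.symm)
    cases b'; cases b
    congr
  · have h1 := congrArg (· ≫ snd X Y) h
    simp only [lift_snd] at h1
    have := Groth.Agent.GrpSchLib.BlanchardQS.epi_whiskerLeft (snd X Y) hsnd G Y (h1.symm.trans hc.symm)
    cases c'; cases c
    congr

end Groth.Agent.S11420
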