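import Groth.Statements.S11421
import Groth.Agent.GrpSchLib.AntiAffineHom


set_option autoImplicit false
universe u
open CategoryTheory MonoidalCategory CartesianMonoidalCategory MonObj GrpObj AlgebraicGeometry CategoryTheory.Limits
open AlgGrp

namespace Groth.Agent.S11421

open Groth.Agent.GrpSchLib

/-- Over an algebraically closed field k, let G be an algebraic group (smooth k-group scheme of finite
type) whose only global functions are the constants, H a connected algebraic group, S a connected
k-scheme of finite type and f : G × S → H a morphism of k-schemes. Then there are a unique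
k-morphism φ : S → H and a unique homomorphism ψ : G → H with f(g, s) = φ(s) · ψ(g) on points. (This
is the decomposition, over a connected base, behind the identification of the functor of morphisms
from G to H with H × Hom_gp(G, H); the published statement is the equivalence of representability of
that functor with anti-affineness of G, whose converse direction is not stated here.) -/
theorem result (k : Type u) [Field k] [IsAlgClosed k]
    (G H S : Over (Spec (CommRingCat.of k))) [GrpObj G] [Smooth G.hom] [QuasiCompact G.hom]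
    (hG : Function.Bijective ((Scheme.ΓSpecIso (CommRingCat.of k)).inv ≫ G.hom.appTop).hom)
    [GrpObj H] [Smooth H.hom] [QuasiCompact H.hom] [ConnectedSpace ↥H.left]
    [LocallyOfFiniteType S.hom] [QuasiCompact S.hom] [ConnectedSpace ↥S.left]
    (f : G ⊗ S ⟶ H) :
    ∃ (φ : S ⟶ H) (ψ : G ⟶ H), IsMonHom ψ ∧ f = (snd G S ≫ φ) * (fst G S ≫ ψ) ∧
      ∀ (φ' : S ⟶ H) (ψ' : G ⟶ H), IsMonHom ψ' → f = (snd G S ≫ φ') * (fst G S ≫ ψ') → φ' = φ ∧ ψ' = ψ := by
  have hG' := (AntiAffine.bijective_appTop_iff G.hom).mp hG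
  haveI : CompactSpace S.left := (quasiCompact_iff_compactSpace S.hom).mp inferInstance
  haveI := AntiAffine.isSeparated_grp G
  haveI := AntiAffine.isSeparated_grp H
  obtain ⟨s₀⟩ := RigidHom.exists_point S
  let φ : S ⟶ H := CartesianMonoidalCategory.lift (toUnit S ≫ η[G]) (𝟙 S) ≫ f
  let r : G ⊗ S ⟶ H := (snd G S ≫ φ)⁻¹ * f
  let ψ : G ⟶ H := CartesianMonoidalCategory.lift (𝟙 G) (toUnit G ≫ s₀) ≫ r
  have hr : CartesianMonoidalCategory.lift (toUnit S ≫ η[G]) (𝟙 S) ≫ r = 1 := by
    simp only [r, MonObj.comp_mul, GrpObj.comp_inv, ← Category.assoc, lift_snd, Category.id_comp]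
    exact inv_mul_cancel _
  have hψ0 : η[G] ≫ ψ = 1 := by
    have e : η[G] ≫ CartesianMonoidalCategory.lift (𝟙 G) (toUnit G ≫ s₀) =
        s₀ ≫ CartesianMonoidalCategory.lift (toUnit S ≫ η[G]) (𝟙 S) := by
      apply CartesianMonoidalCategory.hom_ext
      · simp only [Category.assoc, lift_fst, Category.comp_id]
        rw [← Category.assoc, toUnit_unique (s₀ ≫ toUnit S) (𝟙 _), Category.id_comp]
      · simp only [Category.assoc, lift_snd, Category.comp_id]
        rw [← Category.assoc, toUnit_unique (η[G] ≫ toUnit G) (𝟙 _), Category.id_comp]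
    show η[G] ≫ _ ≫ r = 1
    rw [← Category.assoc, e, Category.assoc, hr, MonObj.comp_one]
  have hhom : IsMonHom ψ := AntiAffine.isMonHom_of_one hG' ψ hψ0
  let v : G ⊗ S ⟶ H := r * (fst G S ≫ ψ)⁻¹
  have hv1 : CartesianMonoidalCategory.lift (𝟙 G) (toUnit G ≫ s₀) ≫ v = 1 := by
    simp only [v, MonObj.comp_mul, GrpObj.comp_inv, ← Category.assoc, lift_fst, Category.id_comp]
    exact mul_inv_cancel _
  have hv2 : CartesianMonoidalCategory.lift (toUnit S ≫ η[G]) (𝟙 S) ≫ v = 1 := by
    simp only [v, MonObj.comp_mul, GrpObj.comp_inv, ← Category.assoc, lift_fst]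
    rw [hr, Category.assoc, hψ0, MonObj.comp_one, inv_one, _root_.mul_one]
  have hv := AntiAffineRigid.factor hG' v η[G] s₀ 1 (hv1.trans (MonObj.comp_one _).symm)
  rw [hv2, MonObj.comp_one] at hv
  have heq : f = (snd G S ≫ φ) * (fst G S ≫ ψ) := by
    have h := mul_inv_eq_one.mp hv
    rw [← h]; simp only [r]; rw [mul_inv_cancel_left]
  refine ⟨φ, ψ, hhom, heq, fun φ' ψ' hh' he => ?_⟩
  have hφ : φ' = φ := by
    simp only [φ]
    rw [he, MonObj.comp_mul, ← Category.assoc, ← Category.assoc, lift_snd, lift_fst, Category.id_comp,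
      Category.assoc, IsMonHom.one_hom ψ', show toUnit S ≫ η[H] = (1 : S ⟶ H) from rfl, _root_.mul_one]
  refine ⟨hφ, ?_⟩
  subst hφ
  have := congrArg (CartesianMonoidalCategory.lift (𝟙 G) (toUnit G ≫ s₀) ≫ ·) (mul_left_cancel (he.symm.trans heq))
  simpa only [← Category.assoc, lift_fst, Category.id_comp] using this

end Groth.Agent.S11421
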