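import Groth.Statements.S11424
import Groth.Agent.GrpSchLib.KernelPair
import Groth.Agent.GrpSchLib.Descent
import Groth.Agent.EtFound.Descent
-- import your own Groth.Agent.* helpers here

set_option autoImplicit false
universe u
open CategoryTheory MonoidalCategory CartesianMonoidalCategory MonObj GrpObj AlgebraicGeometry CategoryTheory.Limits
open AlgGrp

namespace Groth.Agent.S11424

/-- Over an algebraically closed field k, let G be an algebraic group (a smooth k-group scheme of finite
type), h : H → G a smooth affine closed normal subgroup, and q : G → Q a flat surjective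
homomorphism of k-group schemes of finite type with kernel h (so Q = G/H). Then the quotient
morphism q is affine. (The published statement is the equivalence between affineness of G and of
both H and G/H; this row states that the quotient morphism G → G/H is affine.) -/
theorem result (k : Type u) [Field k] [IsAlgClosed k]
    (G H Q : Over (Spec (CommRingCat.of k))) [GrpObj G] [Smooth G.hom] [QuasiCompact G.hom]
    [GrpObj H] (h : H ⟶ G) [IsMonHom h] [IsClosedImmersion h.left] [Smooth H.hom] [IsAffine H.left]
    [GrpObj Q] [LocallyOfFiniteType Q.hom] [QuasiCompact Q.hom]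
    (q : G ⟶ Q) [IsMonHom q] [Surjective q.left] [Flat q.left] (hk : AlgGrp.IsKernel h q) :
    IsAffineHom q.left := by
  have := EtFound.fpqc_isAffineHom.{u}
  obtain ⟨-, -, hqc⟩ := GrpSchLib.isCover_of_flat_surjective q
  obtain ⟨p, hp, hps⟩ := GrpSchLib.exists_kernelPair_iso h q hk
  have : IsAffineHom H.hom := inferInstance
  have h1 : IsAffineHom (snd H G).left := by
    set_option backward.isDefEq.respectTransparency.types false in
    exact MorphismProperty.pullback_snd (P := (@IsAffineHom : MorphismProperty Scheme.{u})) H.hom G.hom inferInstance
  rw [← hps] at h1
  have h2 : IsAffineHom (Limits.pullback.snd q.left q.left) := by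
    rw [← IsIso.inv_hom_id_assoc p (Limits.pullback.snd q.left q.left)]
    infer_instance
  exact MorphismProperty.of_pullback_snd_of_descendsAlong (P := @IsAffineHom)
    (Q := @Surjective ⊓ @Flat ⊓ @QuasiCompact) (f := q.left) (g := q.left)
    ⟨⟨inferInstance, inferInstance⟩, hqc⟩ h2

end Groth.Agent.S11424
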