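import Groth.Statements.S11425
import Groth.Agent.AGF20Lib.UnipDerived
-- import your own Groth.Agent.* helpers here

set_option autoImplicit false
set_option backward.isDefEq.respectTransparency false
set_option synthInstance.maxHeartbeats 400000
set_option backward.isDefEq.respectTransparency.types false
set_option maxHeartbeats 1000000
universe u
open CategoryTheory MonoidalCategory CartesianMonoidalCategory MonObj GrpObj AlgebraicGeometry CategoryTheory.Limits
open AlgGrp

namespace Groth.Agent.S11425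

/-- Over an algebraically closed field k, let G be a connected commutative algebraic group (smooth
k-group scheme of finite type), let i : N → G be its largest connected affine normal algebraic
subgroup G_aff (a homomorphism and closed immersion from a smooth, connected, affine k-group scheme,
normal in G, through which every other such subgroup factors), and suppose G_aff = T × U:
homomorphisms t : T → G_aff from a split torus and u : U → G_aff from a smooth, connected, affine
group containing no non-trivial subtorus (unipotent), such that multiplication T × U → G_aff is an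
isomorphism. Let q_s : G → G_s and q_u : G → G_u be flat surjective homomorphisms of k-group schemes
of finite type with kernels U and T respectively (G_s = G/U, G_u = G/T). Then the only global
functions on G are the constants if and only if the same holds for both G_s and G_u. -/
theorem result (k : Type u) [Field k] [IsAlgClosed k]
    (G : Over (Spec (CommRingCat.of k))) [GrpObj G] [Smooth G.hom] [QuasiCompact G.hom] [ConnectedSpace ↥G.left] [IsCommMonObj G]
    (N : Over (Spec (CommRingCat.of k))) [GrpObj N] (i : N ⟶ G) [IsMonHom i] [IsClosedImmersion i.left]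
    [Smooth N.hom] [ConnectedSpace ↥N.left] [IsAffine N.left] (hN : AlgGrp.IsNormalHom i)
    (hNmax : ∀ (N' : Over (Spec (CommRingCat.of k))) [GrpObj N'] (i' : N' ⟶ G) [IsMonHom i'] [IsClosedImmersion i'.left]
      [Smooth N'.hom] [ConnectedSpace ↥N'.left] [IsAffine N'.left], AlgGrp.IsNormalHom i' → ∃ f : N' ⟶ N, f ≫ i = i')
    (T U : Over (Spec (CommRingCat.of k))) [GrpObj T] [GrpObj U] (t : T ⟶ N) (u : U ⟶ N) [IsMonHom t] [IsMonHom u]
    (r : ℕ) (hT : Red.IsSplitTorusWith (Fin r → ℤ) T)
    [Smooth U.hom] [ConnectedSpace ↥U.left] [IsAffine U.left] (hU : Red.HasNoSubtorus k U)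
    (hTU : IsIso ((t ⊗ₘ u) ≫ μ[N]))
    (Gs Gu : Over (Spec (CommRingCat.of k))) [GrpObj Gs] [GrpObj Gu] [LocallyOfFiniteType Gs.hom] [QuasiCompact Gs.hom]
    [LocallyOfFiniteType Gu.hom] [QuasiCompact Gu.hom]
    (qs : G ⟶ Gs) [IsMonHom qs] [Surjective qs.left] [Flat qs.left] (hs : AlgGrp.IsKernel (u ≫ i) qs)
    (qu : G ⟶ Gu) [IsMonHom qu] [Surjective qu.left] [Flat qu.left] (hu : AlgGrp.IsKernel (t ≫ i) qu) :
    Function.Bijective ((Scheme.ΓSpecIso (CommRingCat.of k)).inv ≫ G.hom.appTop).hom ↔ Function.Bijective ((Scheme.ΓSpecIso (CommRingCat.of k)).inv ≫ Gs.hom.appTop).hom ∧ Function.Bijective ((Scheme.ΓSpecIso (CommRingCat.of k)).inv ≫ Gu.hom.appTop).hom := by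
  haveI := GrpSchLib.AntiAffine.isSeparated_grp Gs
  haveI := GrpSchLib.AntiAffine.isSeparated_grp Gu
  haveI : IsReduced G.left := GrpSchLib.isReduced_of_smooth_field G.hom
  haveI : QuasiCompact N.hom := inferInstance
  haveI : Mono i := GrpSchLib.SemiabIsog.mono_ci i
  rw [AGFLib.AntPart.bij_appTop_iff, AGFLib.AntPart.bij_appTop_iff, AGFLib.AntPart.bij_appTop_iff]
  have desc : ∀ {Q : Over (Spec (CommRingCat.of k))} [GrpObj Q] [LocallyOfFiniteType Q.hom] (π : G ⟶ Q)
      [Surjective π.left] [Flat π.left],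
      Function.Bijective G.hom.appTop → Function.Bijective Q.hom.appTop := fun {Q} _ _ π _ _ hG => by
    haveI := GrpSchLib.AntiAffine.isSeparated_grp Q
    haveI : LocallyOfFiniteType (π.left ≫ Q.hom) := by rw [Over.w]; infer_instance
    haveI := locallyOfFiniteType_of_comp π.left Q.hom
    haveI : IsLocallyNoetherian Q.left := LocallyOfFiniteType.isLocallyNoetherian Q.hom
    haveI : LocallyOfFinitePresentation π.left := inferInstance
    haveI : Epi π.left := (CommAlgGrp.covers π).epi
    have hinj : Function.Injective π.left.appTop := GrpSchLib.AntiAffine.appTop_injective_of_epi π.left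
    have e : ∀ c, π.left.appTop (Q.hom.appTop c) = G.hom.appTop c := fun c => by
      rw [← CommRingCat.comp_apply, ← Scheme.Hom.comp_appTop, Over.w π]
    refine ⟨fun a b h => hG.1 (by rw [← e, ← e, h]), fun z => ?_⟩
    obtain ⟨c, hc⟩ := hG.2 (π.left.appTop z)
    exact ⟨c, hinj (by rw [e, hc])⟩
  refine ⟨fun hG => ⟨desc qs hG, desc qu hG⟩, fun ⟨hGs, hGu⟩ => ?_⟩
  obtain ⟨M, _, n, hn, hnc, -, hMl, hMq, hnM, ⟨I, _, p, hp, hIa, hIl, hpf, hps, hkp⟩, -⟩ :=
    AGFLib.AntPart.exists_ant G
  haveI := hn; haveI := hnc; haveI := hMl; haveI := hMq; haveI := hp; haveI := hIa; haveI := hIl; haveI := hpf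
  haveI := hps
  haveI : QuasiCompact I.hom := inferInstance
  haveI := GrpSchLib.AntiAffine.isSeparated_grp I
  haveI : IsReduced I.left := FBaseLib.isReduced_of_flat_surjective p.left
  haveI : Smooth I.hom := GrpSchLib.smooth_of_perfectField_of_isReduced I
  haveI : ConnectedSpace I.left := p.left.surjective.connectedSpace p.left.continuous
  have hcI : ∀ a b : I ⟶ I, a * b = b * a := GrpSchLib.SemiabSub.quot_comm p
  haveI : IsCommMonObj I := ⟨by
    have h1 : snd I I * fst I I = fst I I * snd I I := GrpSchLib.SemiabSub.quot_comm p _ _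
    simp only [MonObj.mul_eq_mul I, MonObj.comp_mul, braiding_hom_fst, braiding_hom_snd]
    exact h1⟩
  haveI : LocallyOfFinitePresentation qs.left := by
    haveI : IsLocallyNoetherian Gs.left := LocallyOfFiniteType.isLocallyNoetherian Gs.hom
    haveI : LocallyOfFiniteType (qs.left ≫ Gs.hom) := by rw [Over.w]; infer_instance
    haveI := locallyOfFiniteType_of_comp qs.left Gs.hom
    infer_instance
  haveI : LocallyOfFinitePresentation qu.left := by
    haveI : IsLocallyNoetherian Gu.left := LocallyOfFiniteType.isLocallyNoetherian Gu.hom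
    haveI : LocallyOfFiniteType (qu.left ≫ Gu.hom) := by rw [Over.w]; infer_instance
    haveI := locallyOfFiniteType_of_comp qu.left Gu.hom
    infer_instance
  -- every point of the affinization comes from a subgroup whose quotient is anti-affine
  have key : ∀ {V Gv : Over (Spec (CommRingCat.of k))} [GrpObj V] [GrpObj Gv] [IsAffine V.left] [Smooth V.hom]
      [LocallyOfFiniteType Gv.hom] [QuasiCompact Gv.hom] (v : V ⟶ N) [IsMonHom v] (qv : G ⟶ Gv) [IsMonHom qv] [Surjective qv.left]
      [Flat qv.left] [LocallyOfFinitePresentation qv.left], AlgGrp.IsKernel (v ≫ i) qv →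
      Function.Bijective Gv.hom.appTop →
      ∀ y : 𝟙_ _ ⟶ I, ∃ x : 𝟙_ _ ⟶ V, x ≫ v ≫ i ≫ p = y := by
    intro V Gv _ _ _ _ _ _ v _ qv _ _ _ _ hk hGv y
    haveI := GrpSchLib.AntiAffine.isSeparated_grp Gv
    haveI : QuasiCompact V.hom := inferInstance
    haveI : IsReduced V.left := GrpSchLib.isReduced_of_smooth_field V.hom
    obtain ⟨J, _, a, j, ha, hj, haj, hjc, haf, has, hJl, hJq⟩ := GrpSchLib.ImageFactor.exists_image ((v ≫ i) ≫ p)
    haveI := ha; haveI := hj; haveI := hjc; haveI := haf; haveI := has; haveI := hJl; haveI := hJq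
    haveI : Mono j := GrpSchLib.SemiabIsog.mono_ci j
    haveI := GrpSchLib.AntiAffine.isSeparated_grp J
    obtain ⟨I', _, π, hπ, hπf, hπs, hπl, hkπ, hI'sep, -, hI'sm⟩ :=
      S3030.result k J I j (CommAlgGrp.isNormalHom_of_comm j)
    haveI := hπ; haveI := hπf; haveI := hπs; haveI := hπl; haveI := hI'sep
    haveI : Smooth I'.hom := hI'sm inferInstance
    haveI : CompactSpace ↥I'.left := π.left.surjective.compactSpace π.left.continuous
    haveI : QuasiCompact I'.hom := HasAffineProperty.iff_of_isAffine.mpr ‹CompactSpace ↥I'.left›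
    haveI : IsReduced I'.left := GrpSchLib.isReduced_of_smooth_field I'.hom
    haveI : IsAffine I'.left := SolvGrp.isAffine_of_surjective π
    have hkill : (v ≫ i) ≫ p ≫ π = toUnit V ≫ η[I'] := by
      rw [← Category.assoc, ← haj, Category.assoc, hkπ.w, ← Category.assoc, comp_toUnit]
    obtain ⟨e, he, hqe, -⟩ := S3280.result k G V Gv I' qv (v ≫ i) hk (p ≫ π) hkill
    haveI := he
    have hconst : e = 1 := by
      rw [GrpSchLib.AntiAffine.eq_const_of_isAffine hGv e η[Gv], IsMonHom.one_hom e, ← Hom.one_def]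
    obtain ⟨g, hg⟩ := AGFLib.Gen.exists_of_mem_range p y (p.left.surjective _)
    have hy : y ≫ π = toUnit _ ≫ η[I'] := by
      rw [← hg, Category.assoc, ← hqe, hconst, MonObj.comp_one, MonObj.comp_one, Hom.one_def]
    obtain ⟨x, hx⟩ := AGFLib.Gen.exists_of_mem_range a (hkπ.lift y (toUnit _) hy) (a.left.surjective _)
    exact ⟨x, by rw [← Category.assoc v, ← haj, ← Category.assoc x, hx, hkπ.lift_fst]⟩
  have hTor : Red.IsTorus T := SolvGrp.isTorus_of_iso hT.some (TorusQI.isTorus_DS r)
  obtain ⟨hTa, hTs, -, -⟩ := SolvGrp.torus_props hTor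
  haveI := hTa; haveI := hTs
  haveI : IsReduced U.left := GrpSchLib.isReduced_of_smooth_field U.hom
  have hI : ∀ y : 𝟙_ _ ⟶ I, y = 1 := fun y => by
    obtain ⟨x, hx⟩ := key t qu hu hGu y
    obtain ⟨x', hx'⟩ := key u qs hs hGs y
    refine SolvGrp.eq_one_of_isSsPt_isUnipPt (hx ▸ SolvGrp.isSsPt_of_torus hTor (t ≫ i ≫ p) x) ?_
    rw [← hx']
    exact (SolvGrp.map_isSsPt_isUnipPt (u ≫ i ≫ p) x').2 (SolvGrp.isUnipPt_of_hasNoSubtorus hU x')
  have hp1 : p = toUnit G ≫ η[I] := by
    rw [← Hom.one_def]
    exact AGFLib.BorelFixed.hom_ext_pts fun g => by rw [hI (g ≫ p), MonObj.comp_one]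
  have h0 : 𝟙 G ≫ p = toUnit G ≫ η[I] := by rw [Category.id_comp]; exact hp1
  let l : G ⟶ M := hkp.lift (𝟙 G) (toUnit G) h0
  have hl : l ≫ n = 𝟙 G := hkp.lift_fst _ _ _
  have hb := hnM.bij
  have e1 : ∀ c, n.left.appTop (G.hom.appTop c) = M.hom.appTop c := fun c => by
    rw [← CommRingCat.comp_apply, ← Scheme.Hom.comp_appTop, Over.w n]
  have e2 : ∀ z, l.left.appTop (n.left.appTop z) = z := fun z => by
    rw [← CommRingCat.comp_apply, ← Scheme.Hom.comp_appTop, ← Over.comp_left, hl]; simp
  refine ⟨fun a b h => hb.1 (by rw [← e1, ← e1, h]), fun z => ?_⟩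
  obtain ⟨c, hc⟩ := hb.2 (n.left.appTop z)
  exact ⟨c, by rw [← e2 (G.hom.appTop c), e1, hc, e2]⟩

end Groth.Agent.S11425
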