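import Groth.Statements.S1143
import Groth.Agent.ShDesc24.NormalSplit
-- import your own Groth.Agent.* helpers here

set_option autoImplicit false
set_option backward.isDefEq.respectTransparency false
set_option backward.isDefEq.respectTransparency.types false
set_option linter.style.haveILetI false
universe u
open Pi1

open TensorProduct


namespace Groth.Agent.S1143

open AlgebraicGeometry CategoryTheory CategoryTheory.Limits in
/-- A finite etale K-scheme that splits over L comes from a finite etale A-scheme (this is the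
essential-image part of exactness of the sequence π₁(Spec L) → π₁(Spec K) → π₁(Spec A) → 1; the
surjectivity and composition parts of the exact sequence are separate facts). Let A be a normal
local domain with fraction field K, let R be a strict henselization of A (with A → R local) and L a
fraction field of R, with compatible algebra structures (A → K → L and A → R → L agree). If V is
finite etale over Spec K and its base change to Spec L is split (a finite disjoint union of copies
of Spec L), then V is isomorphic to the restriction to Spec K of a finite etale cover Y of Spec A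
(only the existence of such Y and of an isomorphism is asserted). -/
theorem result (A : Type u) [CommRing A] [IsDomain A]
    [IsLocalRing A] [IsIntegrallyClosed A] (R : Type u) [CommRing R] [IsLocalRing R] [Algebra A R] [IsLocalHom (algebraMap A R)] [Hensel.IsStrictHenselization A R]
    (K L : Type u) [Field K] [Field L] [Algebra A K] [IsFractionRing A K] [Algebra R L] [IsFractionRing R L]
    [Algebra K L] [Algebra A L] [IsScalarTower A K L] [IsScalarTower A R L]
    (V : FEt.Cat (Spec (CommRingCat.of K)))
    (hV : Pi1.IsSplit ((FEt.restrict (Spec.map (CommRingCat.ofHom (algebraMap K L)))).obj V)) :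
    ∃ Y : FEt.Cat (Spec (CommRingCat.of A)),
      Nonempty ((FEt.restrict (Spec.map (CommRingCat.ofHom (algebraMap A K)))).obj Y ≅ V) := by
  obtain ⟨_, hnorm⟩ := (Groth.Agent.S2748.result A R).2 ⟨inferInstance, inferInstance⟩
  obtain ⟨hdom, -⟩ := (Groth.Agent.S2748.result A R).2 ⟨inferInstance, inferInstance⟩
  haveI := hdom
  haveI := hnorm
  haveI : Module.FaithfullyFlat A R := Groth.Agent.S0539.result A R
  have hR : EtPBC.IsIndEtale A R := Groth.Agent.S12237.result A R
  haveI hVf : IsFinite V.hom := V.prop.1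
  haveI : IsAffine V.left := @isAffine_of_isAffineHom V.left (Spec (CommRingCat.of K)) V.hom inferInstance inferInstance
  let φ : CommRingCat.of K ⟶ Γ(V.left, ⊤) := Spec.preimage (V.left.isoSpec.inv ≫ V.hom)
  have hφ : Spec.map φ = V.left.isoSpec.inv ≫ V.hom := Spec.map_preimage _
  have hVhom : V.hom = V.left.isoSpec.hom ≫ Spec.map φ := by rw [hφ, Iso.hom_inv_id_assoc]
  haveI : IsFinite (Spec.map φ) := by rw [hφ]; infer_instance
  let C₀ : Type u := Γ(V.left, ⊤)
  letI : Algebra K C₀ := φ.hom.toAlgebra
  letI : Algebra A C₀ := Algebra.compHom C₀ (algebraMap A K)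
  haveI : IsScalarTower A K C₀ := IsScalarTower.of_algebraMap_eq fun _ => rfl
  haveI : Module.Finite K C₀ := (IsFinite.SpecMap_iff φ).1 inferInstance
  haveI : Algebra.IsIntegral K C₀ := Algebra.IsIntegral.of_finite K C₀
  obtain ⟨ι, hι, e, he⟩ := hV
  let g := Spec.map (CommRingCat.ofHom (algebraMap K L))
  let φ' := Spec.map (CommRingCat.ofHom (algebraMap K C₀))
  let e' : (∐ fun _ : ι => Spec (CommRingCat.of L)) ≅ pullback V.hom g := e.symm
  have he' : ∀ i : ι, Sigma.ι (fun _ : ι => Spec (CommRingCat.of L)) i ≫ e'.hom ≫ pullback.snd V.hom g = 𝟙 _ := he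
  have hsq : V.hom ≫ 𝟙 _ = V.left.isoSpec.hom ≫ φ' := by rw [Category.comp_id]; exact hVhom
  have hsq' : g ≫ 𝟙 _ = 𝟙 _ ≫ g := by rw [Category.comp_id, Category.id_comp]
  let P : pullback V.hom g ≅ Spec (CommRingCat.of (L ⊗[K] C₀)) :=
    asIso (pullback.map V.hom g φ' g V.left.isoSpec.hom (𝟙 _) (𝟙 _) hsq hsq') ≪≫
      pullbackSymmetry φ' g ≪≫ pullbackSpecIso K L C₀
  have hP : P.hom ≫ Spec.map (CommRingCat.ofHom (algebraMap L (L ⊗[K] C₀))) = pullback.snd V.hom g := by
    simp only [P, φ', g, Iso.trans_hom, asIso_hom, Category.assoc]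
    rw [pullbackSpecIso_hom_fst', pullbackSymmetry_hom_comp_fst, pullback.lift_snd, Category.comp_id]
  let σ : (∐ fun _ : ι => Spec (CommRingCat.of L)) ⟶ Spec (CommRingCat.of (ι → L)) :=
    sigmaSpec fun _ : ι => CommRingCat.of L
  haveI : IsIso σ := inferInstanceAs (IsIso (sigmaSpec fun _ : ι => CommRingCat.of L))
  let θ : Spec (CommRingCat.of (ι → L)) ≅ Spec (CommRingCat.of (L ⊗[K] C₀)) :=
    (asIso σ).symm ≪≫ e' ≪≫ P
  let T : CommRingCat.of (L ⊗[K] C₀) ≅ CommRingCat.of (ι → L) :=
    { hom := Spec.preimage θ.hom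
      inv := Spec.preimage θ.inv
      hom_inv_id := Spec.map_injective (by simp)
      inv_hom_id := Spec.map_injective (by simp) }
  have hT : CommRingCat.ofHom (algebraMap L (L ⊗[K] C₀)) ≫ T.hom = CommRingCat.ofHom (algebraMap L (ι → L)) := by
    refine Spec.map_injective ((cancel_epi σ).1 (Sigma.hom_ext _ _ fun i => ?_))
    have h1 : Sigma.ι (fun _ : ι => Spec (CommRingCat.of L)) i ≫ σ =
        Spec.map (CommRingCat.ofHom (Pi.evalRingHom (fun _ : ι => L) i)) :=
      ι_sigmaSpec (fun _ : ι => CommRingCat.of L) i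
    rw [Spec.map_comp, Spec.map_preimage]
    simp only [θ, Iso.trans_hom, Iso.symm_hom, asIso_inv, Category.assoc, hP, IsIso.hom_inv_id_assoc]
    rw [he' i, ← Category.assoc, h1, ← Spec.map_comp]
    exact (Spec.map_id _).symm
  let E : L ⊗[K] C₀ ≃ₐ[L] (ι → L) := AlgEquiv.ofRingEquiv (f := T.commRingCatIsoToRingEquiv)
    (fun l => congrArg (fun ψ : CommRingCat.of L ⟶ CommRingCat.of (ι → L) => ψ.hom l) hT)
  obtain ⟨hfin, het⟩ := Groth.Agent.ShDesc24.finite_etale_integralClosure A R K L hR C₀ E
  haveI := hfin
  haveI := het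
  haveI := Groth.Agent.ShDesc24.isLocalization_integralClosure A K C₀
  let C : Type u := integralClosure A C₀
  let a := Spec.map (CommRingCat.ofHom (algebraMap A C))
  haveI : IsFinite a := (IsFinite.SpecMap_iff _).2 (RingHom.finite_algebraMap.2 hfin)
  haveI : Etale a := (HasRingHomProperty.Spec_iff (P := @Etale)).2 (RingHom.etale_algebraMap.2 het)
  let Y : FEt.Cat (Spec (CommRingCat.of A)) := MorphismProperty.Over.mk ⊤ a ⟨inferInstance, inferInstance⟩
  refine ⟨Y, ?_⟩
  haveI : IsLocalization (Submonoid.map (algebraMap A C) (nonZeroDivisors A)) C₀ :=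
    Groth.Agent.ShDesc24.isLocalization_integralClosure A K C₀
  have hpo := CommRingCat.isPushout_of_isLocalization (Rₘ := K) (Sₘ := C₀) (algebraMap A C)
    φ.hom (RingHom.ext fun x => rfl) (nonZeroDivisors A)
  have hpb := isPullback_SpecMap_of_isPushout _ _ _ _ hpo
  refine ⟨MorphismProperty.Over.isoMk (hpb.isoPullback.symm ≪≫ V.left.isoSpec.symm) ?_⟩
  show (hpb.isoPullback.inv ≫ V.left.isoSpec.inv) ≫ V.hom = pullback.snd _ _
  rw [Category.assoc, ← hφ]
  exact hpb.isoPullback_inv_snd

end Groth.Agent.S1143
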