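import Groth.Statements.S11431
import Groth.Agent.GITAff.Quot
-- import your own Groth.Agent.* helpers here

set_option autoImplicit false
universe u
open CategoryTheory MonoidalCategory CartesianMonoidalCategory MonObj GrpObj AlgebraicGeometry Topology
open GIT

namespace Groth.Agent.S11431

/-- Let k be a field of characteristic zero, G a connected reductive algebraic group over k and σ an
action of G on an affine scheme X over k. Then there are an affine scheme Y over k and an invariant
φ : X → Y identifying Γ(Y, O_Y) with the ring of invariant global functions on X, such that (Y, φ)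
is a universal categorical quotient of X by G and φ is universally submersive; moreover Y is
Noetherian if X is, and Y is of finite type over k if X is. (The published statement covers every
characteristic, with a uniform categorical quotient in positive characteristic, and any reductive G;
this row is the characteristic-zero case with G connected, where reductive groups are linearly
reductive.) -/
theorem result (k : Type u) [Field k] [CharZero k]
    (G X : Over (Spec (CommRingCat.of k))) [GrpObj G] (hG : Red.IsReductive G) [IsAffine X.left]
    (a : AlgGrp.Action G X) :
    ∃ (Y : Over (Spec (CommRingCat.of k))) (φ : X ⟶ Y), IsAffine Y.left ∧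
      Function.Injective φ.left.appTop ∧
      Set.range φ.left.appTop = {f : Γ(X.left, ⊤) | a.act.left.appTop f = (snd G X).left.appTop f} ∧
      GIT.IsUnivCatQuot a φ ∧ GIT.IsUnivSubmersive φ.left ∧
      (IsNoetherian X.left → IsNoetherian Y.left) ∧
      (LocallyOfFiniteType X.hom → LocallyOfFiniteType Y.hom) := by
  haveI := Groth.Agent.GITAff.isAffine_of_isReductive hG
  haveI := hG.2.1
  obtain ⟨β, hβ⟩ := Groth.Agent.GITAff.exists_isInv hG
  have h := Groth.Agent.GITAff.fnQuot_quotMap a
  obtain ⟨hu, hsub⟩ := Groth.Agent.GITAff.isUnivCatQuot hβ h
  refine ⟨Groth.Agent.GITAff.quot a, Groth.Agent.GITAff.quotMap a, inferInstance, h.inj, ?_, hu, hsub,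
    fun hN => ?_, fun hl => ?_⟩
  · refine Set.Subset.antisymm ?_ fun f hf => h.range f hf
    rintro _ ⟨b, rfl⟩
    exact Groth.Agent.GITAff.ev_invariant h.inv b
  · haveI := hN
    exact Groth.Agent.GITAff.isNoetherian_quot a hβ
  · haveI := hl
    exact Groth.Agent.GITAff.locallyOfFiniteType_quot a hG

end Groth.Agent.S11431
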