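import Groth.Statements.S11432
import Groth.Agent.GITAff.Quot
-- import your own Groth.Agent.* helpers here

set_option autoImplicit false
universe u
open CategoryTheory MonoidalCategory CartesianMonoidalCategory MonObj GrpObj AlgebraicGeometry Topology
open GIT

namespace Groth.Agent.S11432

/-- Let k be a field of characteristic zero, G a connected reductive algebraic group over k acting on an
affine scheme X over k, and W₁, W₂ disjoint closed invariant subsets of X. Then there is an
invariant f ∈ Γ(X, O_X) which is 0 at every point of W₁ and 1 at every point of W₂. (The published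
statement is for any reductive G in any characteristic; this row is the characteristic-zero case
with G connected.) -/
theorem result (k : Type u) [Field k] [CharZero k]
    (G X : Over (Spec (CommRingCat.of k))) [GrpObj G] (hG : Red.IsReductive G) [IsAffine X.left]
    (a : AlgGrp.Action G X) (W₁ W₂ : Set X.left) (h₁ : IsClosed W₁) (h₂ : IsClosed W₂)
    (hi₁ : a.act.left.base '' ((snd G X).left.base ⁻¹' W₁) ⊆ W₁)
    (hi₂ : a.act.left.base '' ((snd G X).left.base ⁻¹' W₂) ⊆ W₂) (hd : Disjoint W₁ W₂) :
    ∃ f : Γ(X.left, ⊤), a.act.left.appTop f = (snd G X).left.appTop f ∧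
      W₁ ⊆ X.left.zeroLocus (U := ⊤) {f} ∧ W₂ ⊆ X.left.zeroLocus (U := ⊤) {1 - f} := by
  haveI := Groth.Agent.GITAff.isAffine_of_isReductive hG
  haveI := hG.2.1
  obtain ⟨β, hβ⟩ := Groth.Agent.GITAff.exists_isInv hG
  have h := Groth.Agent.GITAff.fnQuot_quotMap a
  exact Groth.Agent.GITAff.exists_separating hβ h W₁ W₂ h₁ h₂ hi₁ hi₂ hd

end Groth.Agent.S11432
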