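import Groth.Statements.S11433
import Groth.Agent.GITAff.Quot
import Groth.Agent.GITAff.Orbit
-- import your own Groth.Agent.* helpers here

set_option autoImplicit false
universe u
open CategoryTheory MonoidalCategory CartesianMonoidalCategory MonObj GrpObj AlgebraicGeometry Topology
open GIT

namespace Groth.Agent.S11433

/-- Let k be a field of characteristic zero, G a connected reductive algebraic group over k acting on an
affine scheme X over k, and (Y, φ) a categorical quotient of X by G. Then (Y, φ) is a geometric
quotient exactly when every orbit of a geometric point is closed, and in that case (Y, φ) is even a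
universal geometric quotient. (The published statement is for any reductive G, the universal
conclusion being stated in characteristic zero; this row is the characteristic-zero case with G
connected.) -/
theorem result (k : Type u) [Field k] [CharZero k]
    (G X Y : Over (Spec (CommRingCat.of k))) [GrpObj G] (hG : Red.IsReductive G) [IsAffine X.left]
    (a : AlgGrp.Action G X) (φ : X ⟶ Y) (hq : GIT.IsCatQuot a φ) :
    (GIT.IsGeomQuot a φ ↔ GIT.IsClosedAction a) ∧ (GIT.IsClosedAction a → GIT.IsUnivGeomQuot a φ) := by
  haveI := Groth.Agent.GITAff.isAffine_of_isReductive hG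
  haveI := hG.2.1
  obtain ⟨β, hβ⟩ := Groth.Agent.GITAff.exists_isInv hG
  obtain ⟨hY, h⟩ := Groth.Agent.GITAff.fnQuot_of_isCatQuot a hβ φ hq
  haveI := hY
  exact ⟨⟨Groth.Agent.GITQuot.isClosedAction, fun hc => (Groth.Agent.GITAff.isUnivGeomQuot hβ h hc).1⟩,
    Groth.Agent.GITAff.isUnivGeomQuot hβ h⟩

end Groth.Agent.S11433
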