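import Groth.Statements.S11437
import Groth.Agent.GITProper.Descent
-- import your own Groth.Agent.* helpers here

set_option autoImplicit false
universe u
open CategoryTheory MonoidalCategory CartesianMonoidalCategory MonObj GrpObj AlgebraicGeometry Topology
open GIT

namespace Groth.Agent.S11437

/-- Over a field k of characteristic zero, let G be a connected reductive algebraic group, X and Y
separated schemes of finite type, σ an action of G on X such that the stabilizers of geometric
points of X are finite (the stabilizer group scheme over X is locally quasi-finite), and (Y, φ) a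
geometric quotient of X by G. If φ is affine, then the action is proper. (The published statement is
for any reductive G over any field; this row is the characteristic-zero case with G connected.) -/
theorem result (k : Type u) [Field k] [CharZero k]
    (G X Y : Over (Spec (CommRingCat.of k))) [GrpObj G] (hG : Red.IsReductive G)
    [LocallyOfFiniteType X.hom] [QuasiCompact X.hom] [IsSeparated X.hom]
    [LocallyOfFiniteType Y.hom] [QuasiCompact Y.hom] [IsSeparated Y.hom]
    (a : AlgGrp.Action G X)
    [LocallyQuasiFinite (Limits.pullback.snd (GIT.psi a (𝟙 X)).left (lift (𝟙 X) (𝟙 X)).left)]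
    (φ : X ⟶ Y) (h : GIT.IsGeomQuot a φ) [IsAffineHom φ.left] :
    IsProper (GIT.psi a (𝟙 X)).left := by
  haveI := hG.1
  haveI := hG.2.1
  haveI : IsAffineHom (GIT.psi a (𝟙 X)).left := by
    haveI : IsAffineHom ((GIT.psi a (𝟙 X)).left ≫ (snd X X).left) := by
      rw [← Over.comp_left, GIT.psi, lift_snd]
      exact MorphismProperty.pullback_snd (P := @IsAffineHom) G.hom X.hom hG.1
    haveI : IsSeparated (snd X X).left := inferInstanceAs (IsSeparated (Limits.pullback.snd X.hom X.hom))
    exact IsAffineHom.of_comp _ (snd X X).left
  haveI : LocallyOfFiniteType (GIT.psi a (𝟙 X)).left := by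
    haveI : LocallyOfFiniteType ((GIT.psi a (𝟙 X)).left ≫ (snd X X).left) := by
      rw [← Over.comp_left, GIT.psi, lift_snd]
      exact inferInstanceAs (LocallyOfFiniteType (Limits.pullback.snd G.hom X.hom))
    exact locallyOfFiniteType_of_comp _ (snd X X).left
  refine Groth.Agent.GITProper.isProper_psi_of_geomQuot hG h.inv (Groth.Agent.GITQuot.isClosedAction h) ?_
  intro Ω _ _ T e f
  let σ := Groth.Agent.EqIntLib.stabHom a
  obtain ⟨q, hpb⟩ := Groth.Agent.GITProper.exists_isPullback_stab a f
  haveI : LocallyOfFiniteType σ := inferInstanceAs (LocallyOfFiniteType (Limits.pullback.snd _ _))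
  haveI hσ : IsAffineHom σ := MorphismProperty.pullback_snd (P := @IsAffineHom) _ _ inferInstance
  haveI : LocallyQuasiFinite (GLinSh.stabTo a f) :=
    MorphismProperty.of_isPullback (P := @LocallyQuasiFinite) hpb ‹_›
  haveI : IsAffineHom (GLinSh.stabTo a f) := MorphismProperty.of_isPullback (P := @IsAffineHom) hpb hσ
  haveI : LocallyOfFiniteType (GLinSh.stabTo a f) :=
    MorphismProperty.of_isPullback (P := @LocallyOfFiniteType) hpb ‹_›
  rw [← MorphismProperty.cancel_right_of_respectsIso (P := @IsFinite) (GLinSh.stabTo a f) e.hom]
  exact IsFinite.of_locallyQuasiFinite _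

end Groth.Agent.S11437
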