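import Groth.Statements.S11438
import Groth.Agent.H23.RigidGamma

set_option autoImplicit false
universe u
open CategoryTheory MonoidalCategory CartesianMonoidalCategory MonObj GrpObj AlgebraicGeometry Topology
open GIT

namespace Groth.Agent.S11438

open Groth.Agent.H23

/-- Let S be connected and locally Noetherian, G a locally Noetherian group scheme separated over S, X →
S proper and flat with κ(s) → H⁰(X_s, O_{X_s}) bijective for every s, and f, g : X → G morphisms
over S which agree on one fibre X_s. Then there is a section t of G over S with f = (t ∘ p) · g, the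
product taken in the group of X-valued points of G. -/
theorem result (S : Scheme.{u}) [IsLocallyNoetherian S] [ConnectedSpace S]
    (X G : Over S) [GrpObj G] [IsLocallyNoetherian G.left] [IsSeparated G.hom] [IsProper X.hom] [Flat X.hom]
    (h0 : ∀ s : S, Function.Bijective (Limits.pullback.snd X.hom (S.fromSpecResidueField s)).appTop)
    (f g : X ⟶ G) (s : S)
    (hs : Limits.pullback.fst X.hom (S.fromSpecResidueField s) ≫ f.left =
      Limits.pullback.fst X.hom (S.fromSpecResidueField s) ≫ g.left) :
    ∃ t : 𝟙_ (Over S) ⟶ G, f = (toUnit X ≫ t) * g := by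
  let π := f * g⁻¹
  let Z : Over S := Over.mk (Limits.pullback.fst X.hom (S.fromSpecResidueField s) ≫ X.hom)
  let j : Z ⟶ X := Over.homMk (Limits.pullback.fst X.hom (S.fromSpecResidueField s))
  have hι : j ≫ π = 1 := by
    have e : j ≫ f = j ≫ g := Over.OverMorphism.ext hs
    rw [MonObj.comp_mul, GrpObj.comp_inv, e, mul_inv_cancel]
  have hs' : s ∈ RigidNoeth.collapsed X.hom π.left := by
    refine RigidApply.mem_collapsed_of_comp_eq s (S.fromSpecResidueField s ≫ η[G].left) ?_
    have h1 := congrArg CommaMorphism.left hι
    refine h1.trans ?_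
    change Z.hom ≫ η[G].left = _
    rw [← Category.assoc]
    exact congrArg (· ≫ η[G].left) Limits.pullback.condition
  obtain ⟨t, ht, hfac⟩ := RigidApply.factor_of_isProper X.hom h0 G.hom π.left (Over.w π) s hs'
  refine ⟨Over.homMk t ht, ?_⟩
  have : π = toUnit X ≫ Over.homMk t ht := Over.OverMorphism.ext hfac
  rw [← this]
  exact (inv_mul_cancel_right f g).symm

end Groth.Agent.S11438
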