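import Groth.Statements.S11440
import Groth.Agent.H23.RigidGamma

set_option autoImplicit false
universe u
open CategoryTheory MonoidalCategory CartesianMonoidalCategory MonObj GrpObj AlgebraicGeometry Topology
open GIT

namespace Groth.Agent.S11440

open Groth.Agent.H23

/-- Let S be Noetherian, X an abelian scheme over S (smooth proper group scheme with connected geometric
fibres), G any locally Noetherian group scheme separated over S, and f : X → G a morphism over S
carrying the unit of X to the unit of G. Then f is a homomorphism. -/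
theorem result (S : Scheme.{u}) [IsNoetherian S]
    (X G : Over S) [GrpObj X] [GrpObj G] [Smooth X.hom] [IsProper X.hom]
    (hc : ∀ s : S, ConnectedSpace (Red.geomFibre s X).left)
    [IsLocallyNoetherian G.left] [IsSeparated G.hom] (f : X ⟶ G) (hf : η[X] ≫ f = η[G]) :
    IsMonHom f := by
  let F := ((fst X X ≫ f) * (snd X X ≫ f))⁻¹ * (μ[X] ≫ f)
  let σ : X ⟶ X ⊗ X := lift (𝟙 X) 1
  have hσ : σ ≫ F = 1 := by
    rw [MonObj.comp_mul, GrpObj.comp_inv, MonObj.comp_mul, ← Category.assoc, ← Category.assoc,
      ← Category.assoc, lift_fst, lift_snd, ← Hom.mul_def]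
    have h1 : (1 : X ⟶ X) ≫ f = 1 := by
      rw [Hom.one_def, Category.assoc, hf]; rfl
    rw [h1, _root_.mul_one, _root_.mul_one, Category.id_comp, inv_mul_cancel]
  let p := Limits.pullback.snd X.hom X.hom
  let gY := Limits.pullback.snd G.hom X.hom
  let π := (lift F (snd X X)).left
  have hπ : π ≫ gY = p := congrArg CommaMorphism.left (lift_snd F (snd X X))
  have H : IsPullback σ.left X.hom p η[X].left := by
    refine IsPullback.of_right ?_ ?_ (IsPullback.of_hasPullback X.hom X.hom)
    · have e1 : σ.left ≫ Limits.pullback.fst X.hom X.hom = 𝟙 _ := congrArg CommaMorphism.left (lift_fst (𝟙 X) _)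
      have e2 : η[X].left ≫ X.hom = 𝟙 _ := Over.w η[X]
      rw [e1, e2]
      exact IsPullback.of_id_fst
    · exact (congrArg CommaMorphism.left (lift_snd (𝟙 X) (1 : X ⟶ X))).trans rfl
  have h0 : RigidApply.ConstFibres X.hom := RigidGamma.constFibres_of_geomFibre X.hom hc
  have : IsLocallyNoetherian X.left := LocallyOfFiniteType.isLocallyNoetherian X.hom
  obtain ⟨C, hCcl, hC, t, ht, hfac⟩ := RigidNoeth.rigidity_of_isProper p (h0.baseChange X.hom) gY π hπ
  have hmem : ∀ s : S, η[X].left s ∈ C := by
    intro s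
    rw [← SetLike.mem_coe, hC]
    refine ⟨(lift η[G] η[X]).left s, fun x hx => ?_⟩
    obtain ⟨w, hw1, hw2⟩ := Scheme.exists_preimage_of_isPullback H x s hx
    have hcc : σ ≫ lift F (snd X X) = toUnit X ≫ lift η[G] η[X] := by
      rw [comp_lift, comp_lift, hσ, lift_snd]; rfl
    have := congr($(congrArg CommaMorphism.left hcc) w)
    simp only [Over.comp_left, Scheme.Hom.comp_apply] at this
    rw [← hw1]
    exact this.trans (congrArg (lift η[G] η[X]).left hw2)
  have htop : C = ⊤ := by
    refine eq_top_iff.mpr fun x _ => ?_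
    let s := X.hom x
    let gp := Red.geomPt s
    have hconn : ConnectedSpace ↥(Limits.pullback X.hom gp) := hc s
    have hgp : ∀ a, gp a = s := fun a => by
      exact (Scheme.Hom.comp_apply _ _ a).trans (Scheme.fromSpecResidueField_apply _ _)
    have hrange : Set.range (Limits.pullback.fst X.hom gp) = X.hom ⁻¹' {s} := by
      rw [Scheme.Pullback.range_fst]
      congr 1
      ext z
      constructor
      · rintro ⟨a, rfl⟩; exact hgp a
      · rintro rfl
        obtain ⟨a⟩ := (inferInstance : Nonempty (Spec (CommRingCat.of (AlgebraicClosure (S.residueField s)))))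
        exact ⟨a, hgp a⟩
    have hpc : _root_.IsPreconnected (X.hom ⁻¹' {s}) := hrange ▸ isPreconnected_range (Limits.pullback.fst X.hom gp).continuous
    have he : X.hom (η[X].left s) = s := congr($(Over.w η[X]) s)
    exact hpc.subset_isClopen ⟨hCcl, C.isOpen⟩ ⟨_, he, hmem s⟩ (show X.hom x = s from rfl)
  subst htop
  have : IsIso (p ⁻¹ᵁ (⊤ : X.left.Opens)).ι :=
    inferInstanceAs (IsIso (Limits.pullback X.hom X.hom).topIso.hom)
  have hfac' : π = p ≫ X.left.topIso.inv ≫ t := by
    rw [← cancel_epi (p ⁻¹ᵁ ⊤).ι, hfac, ← Category.assoc, ← morphismRestrict_ι p ⊤]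
    simp [← Scheme.topIso_hom]
  have hh : (X.left.topIso.inv ≫ t ≫ Limits.pullback.fst G.hom X.hom) ≫ G.hom = X.hom := by
    rw [Category.assoc, Category.assoc, Limits.pullback.condition, ← Category.assoc t, ht,
      ← Scheme.topIso_hom, Iso.inv_hom_id_assoc]
  let h : X ⟶ G := Over.homMk _ hh
  have hF : F = snd X X ≫ h := by
    refine Over.OverMorphism.ext ?_
    have h1 : F.left = π ≫ Limits.pullback.fst G.hom X.hom :=
      (congrArg CommaMorphism.left (lift_fst F (snd X X))).symm
    rw [h1, hfac', Category.assoc, Category.assoc]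
    rfl
  -- restrict to the other axis
  have hτ : lift (1 : X ⟶ X) (𝟙 X) ≫ F = 1 := by
    rw [MonObj.comp_mul, GrpObj.comp_inv, MonObj.comp_mul, ← Category.assoc, ← Category.assoc,
      ← Category.assoc, lift_fst, lift_snd, ← Hom.mul_def]
    have h1 : (1 : X ⟶ X) ≫ f = 1 := by
      rw [Hom.one_def, Category.assoc, hf]; rfl
    rw [h1, _root_.one_mul, _root_.one_mul, Category.id_comp, inv_mul_cancel]
  rw [hF, ← Category.assoc, lift_snd, Category.id_comp] at hτ
  rw [hτ, MonObj.comp_one] at hF
  refine { one_hom := hf, mul_hom := ?_ }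
  rw [← inv_mul_eq_one.mp hF, Hom.mul_def]
  congr 1


end Groth.Agent.S11440
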