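import Groth.Statements.S11449
import Groth.Agent.Synt29.HilbertBurch
-- import your own Groth.Agent.* helpers here

set_option autoImplicit false
universe u
open DefT

namespace Groth.Agent.S11449

/-- Let A be a regular local ring and I an ideal such that A/I is a Cohen–Macaulay local ring whose
Krull dimension is dim A − 2. Then for some r there is an (r+1) × r matrix φ with entries in A such
that, writing f_i for (−1)^i times the determinant of φ with its i-th row removed (i = 0, …, r), the
elements f_0, …, f_r generate I, no family of fewer than r + 1 elements generates I, multiplication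
by φ is an injective map A^r → A^{r+1}, and the image of that map is exactly the kernel of the map
A^{r+1} → A sending v to Σ_i v_i f_i; together with A → A/I this is a free resolution 0 → A^r →
A^{r+1} → A → A/I → 0. -/
theorem result
    (A : Type u) [CommRing A] [IsRegularLocalRing A] (I : Ideal A)
    [LocCoh.IsCohenMacaulayLocalRing (A ⧸ I)]
    (hcodim : ringKrullDim (A ⧸ I) + 2 = ringKrullDim A) :
    ∃ (r : ℕ) (φ : Matrix (Fin (r + 1)) (Fin r) A),
      Ideal.span (Set.range (fun i : Fin (r + 1) => (-1 : A) ^ (i : ℕ) * (φ.submatrix i.succAbove id).det)) = I ∧
      I.spanFinrank = r + 1 ∧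
      Function.Injective φ.mulVecLin ∧
      LinearMap.range φ.mulVecLin =
        LinearMap.ker (Fintype.linearCombination A (fun i : Fin (r + 1) => (-1 : A) ^ (i : ℕ) * (φ.submatrix i.succAbove id).det)) := by
  exact Groth.Agent.Synt29.HilbertBurch.exists_matrix A I hcodim


end Groth.Agent.S11449
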