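import Groth.Statements.S11450
import Groth.Agent.TorBridge.Basic
import Mathlib

set_option autoImplicit false
universe u
open CategoryTheory
open DefT

namespace Groth.Agent.S11450

open TensorProduct

/-- The property "`K ⊗ N → F ⊗ N` is injective" passes to extensions, `F` being flat. -/
lemma inj_ext {A : Type u} [CommRing A] {K F : Type u} [AddCommGroup K] [Module A K] [AddCommGroup F] [Module A F]
    [Module.Flat A F] (j : K →ₗ[A] F) {N₁ N₂ N₃ : Type u} [AddCommGroup N₁] [Module A N₁] [AddCommGroup N₂]
    [Module A N₂] [AddCommGroup N₃] [Module A N₃] (f : N₁ →ₗ[A] N₂) (g : N₂ →ₗ[A] N₃)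
    (hf : Function.Injective f) (hg : Function.Surjective g) (he : Function.Exact f g)
    (h₁ : Function.Injective (j.rTensor N₁)) (h₃ : Function.Injective (j.rTensor N₃)) :
    Function.Injective (j.rTensor N₂) := by
  rw [injective_iff_map_eq_zero]
  intro x hx
  have h3 : g.lTensor K x = 0 := by
    apply h₃
    rw [map_zero, ← LinearMap.comp_apply, LinearMap.rTensor_comp_lTensor, ← LinearMap.lTensor_comp_rTensor,
      LinearMap.comp_apply, hx, map_zero]
  obtain ⟨y, rfl⟩ := (lTensor_exact K he hg x).1 h3
  have h4 : f.lTensor F (j.rTensor N₁ y) = 0 := by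
    rw [← LinearMap.comp_apply, LinearMap.lTensor_comp_rTensor, ← LinearMap.rTensor_comp_lTensor,
      LinearMap.comp_apply, hx]
  have h5 : j.rTensor N₁ y = 0 :=
    Module.Flat.lTensor_preserves_injective_linearMap f hf (h4.trans (map_zero _).symm)
  rw [show y = 0 from h₁ (h5.trans (map_zero _).symm), map_zero]

/-- A module M over a Noetherian commutative ring A is flat if and only if Tor_1^A(M, A/p) vanishes for
every prime ideal p of A. -/
theorem result (A : Type u) [CommRing A]
    [IsNoetherianRing A] (M : Type u) [AddCommGroup M] [Module A M] :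
    Module.Flat A M ↔ ∀ p : Ideal A, p.IsPrime →
      Limits.IsZero (((CategoryTheory.Tor (ModuleCat.{u} A) 1).obj (ModuleCat.of A M)).obj (ModuleCat.of A (A ⧸ p))) := by
  constructor
  · intro hM p hp
    rw [Groth.Agent.TorBridge.isZero_tor_one_iff (A ⧸ p) M (LinearMap.id : M →ₗ[A] M) Function.surjective_id]
    intro x y hxy
    have hK : Subsingleton ↥(LinearMap.ker (LinearMap.id : M →ₗ[A] M)) :=
      ⟨fun a b => Subtype.ext ((LinearMap.mem_ker.1 a.2).trans (LinearMap.mem_ker.1 b.2).symm)⟩
    exact Subsingleton.elim x y
  · intro h
    let q : (M →₀ A) →ₗ[A] M := Finsupp.linearCombination A id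
    have hq : Function.Surjective q := fun m => ⟨Finsupp.single m 1, by simp [q]⟩
    have key : ∀ (N : Type u) [AddCommGroup N] [Module A N] (_ : Module.Finite A N),
        Function.Injective ((LinearMap.ker q).subtype.rTensor N) := by
      intro N _ _ hN
      induction hN using IsNoetherianRing.induction_on_isQuotientEquivQuotientPrime A with
      | subsingleton N => exact Function.injective_of_subsingleton _
      | quotient N p e =>
        have hp := (Groth.Agent.TorBridge.isZero_tor_one_iff (A ⧸ p.1) M q hq).1 (h p.1 p.2)
        intro x y hxy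
        apply (TensorProduct.congr (LinearEquiv.refl A ↥(LinearMap.ker q)) e).injective
        apply hp
        have hn : ∀ z, (LinearMap.ker q).subtype.rTensor (A ⧸ p.1)
            (TensorProduct.congr (LinearEquiv.refl A ↥(LinearMap.ker q)) e z) =
            TensorProduct.congr (LinearEquiv.refl A (M →₀ A)) e ((LinearMap.ker q).subtype.rTensor N z) := by
          intro z
          induction z using TensorProduct.induction_on with
          | zero => simp
          | tmul a b => simp
          | add a b ha hb => simp only [map_add, ha, hb]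
        rw [hn, hn, hxy]
      | exact N₁ N₂ N₃ f g hf hg he h₁ h₃ =>
        have := inj_ext (K := ↥(LinearMap.ker q)) (F := M →₀ A) (Submodule.subtype (LinearMap.ker q)) f g hf hg he
        exact this h₁ h₃
    rw [Module.Flat.iff_lTensor_injective']
    intro I
    have h1 := key (A ⧸ I) inferInstance
    have h2 := (Groth.Agent.TorBridge.rTensor_injective_iff_lTensor_injective (M := A ⧸ I) (N := M)
      (Submodule.mkQ I) (Submodule.mkQ_surjective _) q hq).1 h1
    have hk : I = LinearMap.ker (Submodule.mkQ I) := (Submodule.ker_mkQ _).symm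
    exact hk.symm ▸ h2

end Groth.Agent.S11450
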