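import Groth.Statements.S11451
import Groth.Agent.SmoothReg.Field
import Groth.Agent.Synt29.JetLift
import Mathlib

set_option autoImplicit false
universe u
open DefT

namespace Groth.Agent.S11451

/-- Let k be an algebraically closed field and A a local k-algebra essentially of finite type over k
with residue field k. Then regularity of A as a local ring is equivalent to the following: for every
local k-algebra B' of finite dimension over k, every ideal J of B' of square zero and every
k-algebra homomorphism f : A → B'/J, there is a k-algebra homomorphism g : A → B' lifting f. (Local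
k-algebras of finite k-dimension are exactly the local Artin rings finite over k; lifting against
square-zero kernels is equivalent to lifting against nilpotent ones by induction.) -/
theorem result (k : Type u) [Field k] [IsAlgClosed k]
    (A : Type u) [CommRing A] [IsLocalRing A] [Algebra k A] [Algebra.EssFiniteType k A]
    (hres : Function.Surjective (algebraMap k (IsLocalRing.ResidueField A))) :
    IsRegularLocalRing A ↔
      ∀ (B' : Type u) [CommRing B'] [IsLocalRing B'] [Algebra k B'] [Module.Finite k B']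
        (J : Ideal B'), J ^ 2 = ⊥ → ∀ f : A →ₐ[k] B' ⧸ J,
          ∃ g : A →ₐ[k] B', (Ideal.Quotient.mkₐ k J).comp g = f := by
  
  classical
  have : IsNoetherianRing A := Algebra.EssFiniteType.isNoetherianRing k A
  constructor
  · intro hreg B' _ _ _ _ J hJ f
    let C := Algebra.EssFiniteType.subalgebra k A
    let M := Algebra.EssFiniteType.submonoid k A
    have : IsLocalization M A := Algebra.EssFiniteType.isLocalization k A
    let q : Ideal C := (IsLocalRing.maximalIdeal A).comap (algebraMap C A)
    have hMq : M ≤ q.primeCompl := fun c hc hcq =>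
      (IsLocalRing.notMem_maximalIdeal.2 (IsLocalization.map_units A ⟨c, hc⟩)) hcq
    have : IsLocalization.AtPrime A q :=
      IsLocalization.isLocalization_of_is_exists_mul_mem A M q.primeCompl hMq (fun x => by
        have hu : IsUnit (algebraMap C A x) := IsLocalRing.notMem_maximalIdeal.1 x.2
        obtain ⟨⟨b, m⟩, hb⟩ := IsLocalization.surj M (↑(hu.unit⁻¹) : A)
        obtain ⟨c, hc⟩ := (IsLocalization.eq_iff_exists M A (x := (x : C) * b) (y := (m : C))).1
          (by rw [map_mul, ← hb, ← mul_assoc, IsUnit.mul_val_inv, one_mul])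
        refine ⟨c * b, ?_⟩
        rw [show (c : C) * b * x = c * ((x : C) * b) by ring, hc]
        exact M.mul_mem c.2 m.2)
    let ε : Localization.AtPrime q ≃ₐ[C] A := IsLocalization.algEquiv q.primeCompl _ _
    have : IsRegularLocalRing (Localization.AtPrime q) := IsRegularLocalRing.of_ringEquiv ε.symm.toRingEquiv
    have : Algebra.FormallySmooth k (Localization.AtPrime q) :=
      (Groth.Agent.SmoothReg.isSmoothAt_iff_isRegularLocalRing q).2 ‹_›
    have : Algebra.FormallySmooth k A := Algebra.FormallySmooth.of_equiv (ε.restrictScalars k)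
    have hnil : IsNilpotent (RingHom.ker (Ideal.Quotient.mkₐ k J).toRingHom) :=
      ⟨2, by rw [show RingHom.ker (Ideal.Quotient.mkₐ k J).toRingHom = J from Ideal.mk_ker, hJ]; rfl⟩
    exact ⟨Algebra.FormallySmooth.liftOfSurjective f _ (Ideal.Quotient.mkₐ_surjective k J) hnil,
      Algebra.FormallySmooth.comp_liftOfSurjective f _ (Ideal.Quotient.mkₐ_surjective k J) hnil⟩
  intro H
  let m := IsLocalRing.maximalIdeal A
  obtain ⟨S, hScard, hSspan⟩ := Submodule.FG.exists_span_finset_card_eq_spanFinrank m.fg_of_isNoetherianRing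
  let d := m.spanFinrank
  let e : Fin d ≃ S := (Finset.equivFinOfCardEq hScard).symm
  let x : Fin d → A := fun i => (e i : A)
  have hx : ∀ i, x i ∈ m := fun i => by
    change (e i : A) ∈ m
    rw [← hSspan]
    exact Submodule.subset_span (Finset.mem_coe.2 (e i).2)
  have hrange : Ideal.span (Set.range x) = m := by
    rw [show Set.range x = (S : Set A) from by
      ext y
      exact ⟨fun ⟨i, h⟩ => h ▸ (e i).2, fun hy => ⟨e.symm ⟨y, hy⟩, by simp [x]⟩⟩]
    exact hSspan
  let P := MvPolynomial (Fin d) k
  let I : Ideal P := MvPolynomial.idealOfVars (Fin d) k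
  have hIspan : I = Ideal.span (Set.range MvPolynomial.X) := rfl
  let ev : P →ₐ[k] A := MvPolynomial.aeval x
  have hmapI : ∀ n, (I ^ n).map ev = m ^ n := fun n => by
    rw [Ideal.map_pow, hIspan, Ideal.map_span, ← Set.range_comp,
      show (ev ∘ MvPolynomial.X) = x from funext fun i => MvPolynomial.aeval_X x i, hrange]
  have hres' : ∀ a : A, ∃ c : k, a - algebraMap k A c ∈ m := by
    intro a
    obtain ⟨c, hc⟩ := hres (IsLocalRing.residue A a)
    refine ⟨c, ?_⟩
    rw [← IsLocalRing.residue_eq_zero_iff, map_sub, ← hc, sub_eq_zero]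
    rfl
  have hsurj : ∀ (n : ℕ) (a : A), ∃ F : P, a - ev F ∈ m ^ n := by
    intro n
    induction n with
    | zero => intro a; exact ⟨0, by simp⟩
    | succ n ih =>
      intro a
      obtain ⟨F, hF⟩ := ih a
      suffices key : ∀ z ∈ m ^ n, ∃ G : P, z - ev G ∈ m ^ (n + 1) by
        obtain ⟨G, hG⟩ := key _ hF
        exact ⟨F + G, by rwa [map_add, ← sub_sub]⟩
      intro z hz
      rw [← hmapI] at hz
      induction hz using Submodule.span_induction with
      | mem y hy =>
        obtain ⟨G, -, rfl⟩ := hy
        exact ⟨G, by simp⟩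
      | zero => exact ⟨0, by simp⟩
      | add y w _ _ hy hw =>
        obtain ⟨G, hG⟩ := hy
        obtain ⟨G', hG'⟩ := hw
        exact ⟨G + G', by rw [map_add, add_sub_add_comm]; exact add_mem hG hG'⟩
      | smul r y hy ihy =>
        obtain ⟨G, hG⟩ := ihy
        obtain ⟨c, hc⟩ := hres' r
        refine ⟨MvPolynomial.C c * G, ?_⟩
        rw [smul_eq_mul, map_mul, show ev (MvPolynomial.C c) = algebraMap k A c from MvPolynomial.aeval_C _ _,
          show r * y - algebraMap k A c * ev G = (r - algebraMap k A c) * y + algebraMap k A c * (y - ev G) by ring]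
        refine add_mem ?_ (Ideal.mul_mem_left _ _ hG)
        rw [pow_succ']
        exact Ideal.mul_mem_mul hc ((hmapI n) ▸ hy)
  -- the truncated polynomial rings
  let B : ℕ → Type u := fun N => P ⧸ I ^ (N + 1)
  have hImax : I.IsMaximal := by
    have : I = RingHom.ker (MvPolynomial.constantCoeff : P →+* k) := by
      ext p
      have := MvPolynomial.mem_pow_idealOfVars_iff' (σ := Fin d) (R := k) 1 p
      rw [pow_one] at this
      rw [this, RingHom.mem_ker]
      constructor
      · intro h; exact h 0 (by simp)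
      · intro h s hs
        have : s = 0 := Finsupp.degree_eq_zero_iff s |>.1 (by omega)
        subst this
        exact h
    rw [this]
    exact RingHom.ker_isMaximal_of_surjective _ fun c => ⟨MvPolynomial.C c, MvPolynomial.constantCoeff_C _ c⟩
  have hBloc : ∀ N, IsLocalRing (B N) := by
    intro N
    refine IsLocalRing.of_unique_max_ideal ⟨I.map (Ideal.Quotient.mk _), ?_, fun M hM => ?_⟩
    · exact (Ideal.map_eq_top_or_isMaximal_of_surjective _ Ideal.Quotient.mk_surjective hImax).resolve_left
        fun h => hImax.ne_top (by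
          have := congrArg (Ideal.comap (Ideal.Quotient.mk (I ^ (N + 1)))) h
          rwa [Ideal.comap_map_of_surjective _ Ideal.Quotient.mk_surjective, Ideal.comap_top,
            ← RingHom.ker_eq_comap_bot, Ideal.mk_ker,
            sup_eq_left.2 (Ideal.pow_le_self (Nat.succ_ne_zero N))] at this)
    · have hM' : (M.comap (Ideal.Quotient.mk (I ^ (N + 1)))).IsMaximal :=
        Ideal.comap_isMaximal_of_surjective _ Ideal.Quotient.mk_surjective
      have hle : I ^ (N + 1) ≤ M.comap (Ideal.Quotient.mk (I ^ (N + 1))) := by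
        intro z hz
        rw [Ideal.mem_comap, Ideal.Quotient.eq_zero_iff_mem.2 hz]
        exact M.zero_mem
      have he := hImax.eq_of_le hM'.ne_top ((hM'.isPrime.pow_le_iff (Nat.succ_ne_zero N)).1 hle)
      exact (Ideal.map_comap_of_surjective _ Ideal.Quotient.mk_surjective M).symm.trans
        (congrArg (Ideal.map (Ideal.Quotient.mk (I ^ (N + 1)))) he.symm)
  have hBfin : ∀ N, Module.Finite k (B N) := by
    intro N
    let T : Set (Fin d →₀ ℕ) := {s | s.degree ≤ N}
    have hT : T.Finite := Finsupp.finite_of_degree_le N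
    refine ⟨⟨hT.toFinset.image fun s => Ideal.Quotient.mk _ (MvPolynomial.monomial s 1),
      Submodule.eq_top_iff'.2 fun z => ?_⟩⟩
    obtain ⟨p, rfl⟩ := Ideal.Quotient.mk_surjective z
    rw [p.as_sum, map_sum]
    refine Submodule.sum_mem _ fun s _ => ?_
    rw [show MvPolynomial.monomial s (p.coeff s) = p.coeff s • MvPolynomial.monomial s (1 : k) by
      rw [MvPolynomial.smul_monomial, smul_eq_mul, mul_one], ← Ideal.Quotient.mkₐ_eq_mk k, map_smul]
    refine Submodule.smul_mem _ _ ?_
    by_cases hs : s.degree ≤ N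
    · exact Submodule.subset_span (Finset.mem_coe.2 (Finset.mem_image.2 ⟨s, hT.mem_toFinset.2 hs, rfl⟩))
    · rw [Ideal.Quotient.mkₐ_eq_mk, Ideal.Quotient.eq_zero_iff_mem.2 ?_]
      · exact Submodule.zero_mem _
      · rw [MvPolynomial.mem_pow_idealOfVars_iff']
        intro t ht
        rw [MvPolynomial.coeff_monomial, if_neg]
        rintro rfl
        omega
  -- the base case: `A ⧸ m ^ 2`
  have hli : ∀ c : Fin d → k, ∑ i, algebraMap k A (c i) * x i ∈ m ^ 2 → c = 0 := by
    intro c hc
    let cl : Fin d → IsLocalRing.CotangentSpace A := fun i => m.toCotangent ⟨x i, hx i⟩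
    have hspan : Submodule.span (IsLocalRing.ResidueField A) (Set.range cl) = ⊤ := by
      refine eq_top_iff.2 fun z _ => ?_
      obtain ⟨⟨y, hy⟩, rfl⟩ := m.toCotangent_surjective z
      obtain ⟨a, ha⟩ := (Submodule.mem_span_range_iff_exists_fun A).1 (hrange.ge hy)
      have : (⟨y, hy⟩ : m) = ∑ i, a i • (⟨x i, hx i⟩ : m) := Subtype.ext (by simp [← ha])
      rw [this, map_sum]
      refine Submodule.sum_mem _ fun i _ => ?_
      rw [map_smul, ← IsScalarTower.algebraMap_smul (IsLocalRing.ResidueField A) (a i)]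
      exact Submodule.smul_mem _ _ (Submodule.subset_span ⟨i, rfl⟩)
    have hind : LinearIndependent (IsLocalRing.ResidueField A) cl :=
      linearIndependent_of_top_le_span_of_card_eq_finrank hspan.ge (by
        rw [Fintype.card_fin]
        exact IsLocalRing.spanFinrank_maximalIdeal_eq_finrank_cotangentSpace (R := A))
    have h0 : ∑ i, IsLocalRing.residue A (algebraMap k A (c i)) • cl i = 0 := by
      have hz : m.toCotangent (∑ i, algebraMap k A (c i) • (⟨x i, hx i⟩ : m)) = 0 := by
        rw [Ideal.toCotangent_eq_zero]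
        simpa [Algebra.smul_def] using hc
      rw [map_sum] at hz
      rw [← hz]
      refine Finset.sum_congr rfl fun i _ => ?_
      rw [map_smul]
      exact IsScalarTower.algebraMap_smul (IsLocalRing.ResidueField A) _ _
    funext i
    have hi := Fintype.linearIndependent_iff.1 hind _ h0 i
    by_contra hne
    exact (((isUnit_iff_ne_zero.2 hne).map (algebraMap k A)).map (IsLocalRing.residue A)).ne_zero hi
  have hinj2 : ∀ F : P, ev F ∈ m ^ 2 → F ∈ I ^ 2 := by
    intro F hF
    let c : Fin d → k := fun i => F.coeff (Finsupp.single i 1)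
    have hF' : F - (MvPolynomial.C (F.coeff 0) + ∑ i, MvPolynomial.C (c i) * MvPolynomial.X i) ∈ I ^ 2 := by
      rw [MvPolynomial.mem_pow_idealOfVars_iff']
      intro s hs
      rw [MvPolynomial.coeff_sub, MvPolynomial.coeff_add, MvPolynomial.coeff_C, MvPolynomial.coeff_sum]
      simp only [MvPolynomial.coeff_C_mul, MvPolynomial.coeff_X']
      rcases Nat.lt_or_ge s.degree 1 with h | h
      · have : s = 0 := Finsupp.degree_eq_zero_iff s |>.1 (by omega)
        subst this
        simp
      · have hs1 : s.degree = 1 := by omega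
        obtain ⟨i, rfl⟩ := Finsupp.range_single_one.ge hs1
        simp [c, Finsupp.single_left_inj, eq_comm (a := (0 : Fin d →₀ ℕ))]
    have h1 : ev (MvPolynomial.C (F.coeff 0) + ∑ i, MvPolynomial.C (c i) * MvPolynomial.X i) ∈ m ^ 2 := by
      have := (hmapI 2).le (Ideal.mem_map_of_mem ev hF')
      rw [map_sub] at this
      exact (Submodule.sub_mem_iff_right _ hF).1 this
    have hev : ev (MvPolynomial.C (F.coeff 0) + ∑ i, MvPolynomial.C (c i) * MvPolynomial.X i) =
        algebraMap k A (F.coeff 0) + ∑ i, algebraMap k A (c i) * x i := by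
      rw [map_add, map_sum]
      refine congr_arg₂ (· + ·) (MvPolynomial.aeval_C x (F.coeff 0)) (Finset.sum_congr rfl fun i _ => ?_)
      rw [map_mul]
      exact congr_arg₂ (· * ·) (MvPolynomial.aeval_C x (c i)) (MvPolynomial.aeval_X x i)
    rw [hev] at h1
    have hsum : ∑ i, algebraMap k A (c i) * x i ∈ m :=
      Ideal.sum_mem _ fun i _ => Ideal.mul_mem_left _ _ (hx i)
    have hc0 : F.coeff 0 = 0 := by
      by_contra hne
      exact (IsLocalRing.notMem_maximalIdeal.2 ((isUnit_iff_ne_zero.2 hne).map (algebraMap k A)))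
        ((Submodule.add_mem_iff_left _ hsum).1 (Ideal.pow_le_self two_ne_zero h1))
    rw [hc0, map_zero, zero_add] at h1
    have hc1 := hli c h1
    rw [hc0, hc1] at hF'
    simpa using hF'
  obtain ⟨φ1, hφ1⟩ : ∃ φ : A →ₐ[k] B 1, ∀ i, φ (x i) = Ideal.Quotient.mk _ (MvPolynomial.X i) := by
    let ψ : B 1 →ₐ[k] A ⧸ m ^ 2 := Ideal.Quotient.liftₐ _ ((Ideal.Quotient.mkₐ k (m ^ 2)).comp ev) fun z hz => by
      rw [AlgHom.comp_apply, Ideal.Quotient.mkₐ_eq_mk, Ideal.Quotient.eq_zero_iff_mem]
      exact (hmapI 2).le (Ideal.mem_map_of_mem ev hz)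
    have hψ : Function.Bijective ψ := by
      refine ⟨(injective_iff_map_eq_zero ψ).2 fun z hz => ?_, fun a => ?_⟩
      · obtain ⟨F, rfl⟩ := Ideal.Quotient.mk_surjective z
        exact Ideal.Quotient.eq_zero_iff_mem.2 (hinj2 F (Ideal.Quotient.eq_zero_iff_mem.1 hz))
      · obtain ⟨a, rfl⟩ := Ideal.Quotient.mk_surjective a
        obtain ⟨F, hF⟩ := hsurj 2 a
        exact ⟨Ideal.Quotient.mk _ F, (Ideal.Quotient.eq.2 hF).symm⟩
    refine ⟨(AlgEquiv.ofBijective ψ hψ).symm.toAlgHom.comp (Ideal.Quotient.mkₐ k (m ^ 2)), fun i => ?_⟩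
    show (AlgEquiv.ofBijective ψ hψ).symm (Ideal.Quotient.mk (m ^ 2) (x i)) = _
    rw [AlgEquiv.symm_apply_eq]
    show Ideal.Quotient.mk (m ^ 2) (x i) = Ideal.Quotient.mk (m ^ 2) (ev (MvPolynomial.X i))
    exact congrArg _ (MvPolynomial.aeval_X x i).symm
  -- lifting along the jets
  have hφ : ∀ N : ℕ, ∃ φ : A →ₐ[k] B (N + 1), ∀ i, ∃ G : P, φ (x i) = Ideal.Quotient.mk _ G ∧
      G - MvPolynomial.X i ∈ I ^ 2 := by
    intro N
    induction N with
    | zero => exact ⟨φ1, fun i => ⟨MvPolynomial.X i, hφ1 i, by simp⟩⟩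
    | succ N ih =>
      obtain ⟨φ, hφ⟩ := ih
      have hle : I ^ (N + 1 + 1 + 1) ≤ I ^ (N + 1 + 1) := Ideal.pow_le_pow_right (Nat.le_succ _)
      let π : B (N + 1 + 1) →ₐ[k] B (N + 1) := Ideal.Quotient.factorₐ k hle
      have hπ : Function.Surjective π := Ideal.Quotient.factor_surjective hle
      let J : Ideal (B (N + 1 + 1)) := RingHom.ker π
      have hJ : J ^ 2 = ⊥ := by
        have : J = (I ^ (N + 1 + 1)).map (Ideal.Quotient.mk (I ^ (N + 1 + 1 + 1))) := Ideal.Quotient.factor_ker hle
        rw [this, ← Ideal.map_pow, eq_bot_iff, ← Ideal.map_quotient_self (I ^ (N + 1 + 1 + 1))]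
        refine Ideal.map_mono ?_
        rw [← pow_mul]
        exact Ideal.pow_le_pow_right (by omega)
      have := hBloc (N + 1 + 1)
      have := hBfin (N + 1 + 1)
      let E := Ideal.quotientKerAlgEquivOfSurjective (f := π) hπ
      obtain ⟨g, hg⟩ := H (B (N + 1 + 1)) J hJ (E.symm.toAlgHom.comp φ)
      refine ⟨g, fun i => ?_⟩
      obtain ⟨G, hG⟩ := Ideal.Quotient.mk_surjective (g (x i))
      obtain ⟨G', hG', hG''⟩ := hφ i
      refine ⟨G, hG.symm, ?_⟩
      have h1 : π (g (x i)) = φ (x i) := by
        have h2 : Ideal.Quotient.mk J (g (x i)) = E.symm (φ (x i)) :=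
          DFunLike.congr_fun hg (x i)
        have h3 := congrArg E h2
        rw [AlgEquiv.apply_symm_apply] at h3
        exact h3
      rw [← hG, hG'] at h1
      have h4 : G - G' ∈ I ^ (N + 1 + 1) := Ideal.Quotient.eq.1 h1
      have := add_mem (Ideal.pow_le_pow_right (by omega : 2 ≤ N + 1 + 1) h4) hG''
      rwa [sub_add_sub_cancel] at this
  have hinj : ∀ (n : ℕ) (F : P), ev F ∈ m ^ n → F ∈ I ^ n := by
    intro n F hF
    match n with
    | 0 => simp
    | 1 =>
      by_contra hne
      obtain ⟨G, c, hc, hG⟩ := hImax.exists_inv (fun h => hne (by rwa [pow_one]))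
      have h2 : ev (G * F + c) ∈ m := by
        rw [map_add, map_mul]
        refine add_mem (Ideal.mul_mem_left _ _ (by simpa using hF)) ?_
        have := (hmapI 1).le (Ideal.mem_map_of_mem ev (by simpa using hc : c ∈ I ^ 1))
        simpa using this
      rw [hG, map_one] at h2
      exact (IsLocalRing.maximalIdeal.isMaximal A).ne_top ((Ideal.eq_top_iff_one _).2 h2)
    | N + 2 =>
      obtain ⟨φ, hφx⟩ := hφ N
      choose G hG hG2 using hφx
      refine Groth.Agent.Synt29.JetLift.mem_pow_of_subst G hG2 (N + 2) F ?_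
      have hcomp : ∀ p : P, φ (ev p) = Ideal.Quotient.mk _ (MvPolynomial.aeval G p) := by
        intro p
        exact congrArg (fun f : P →ₐ[k] B (N + 1) => f p) (MvPolynomial.algHom_ext
          (f := φ.comp ev) (g := (Ideal.Quotient.mkₐ k _).comp (MvPolynomial.aeval G))
          fun i => by simp [ev, hG])
      have hkill : ∀ z ∈ m ^ (N + 2), φ z = 0 := by
        intro z hz
        rw [← hmapI] at hz
        induction hz using Submodule.span_induction with
        | mem y hy =>
          obtain ⟨p, hp, rfl⟩ := hy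
          rw [hcomp, Ideal.Quotient.eq_zero_iff_mem]
          have hle : I.map (MvPolynomial.aeval G) ≤ I := by
            rw [hIspan, Ideal.map_span, Ideal.span_le]
            rintro _ ⟨_, ⟨i, rfl⟩, rfl⟩
            rw [MvPolynomial.aeval_X, SetLike.mem_coe, ← sub_add_cancel (G i) (MvPolynomial.X i)]
            exact add_mem (hIspan ▸ Ideal.pow_le_self two_ne_zero (hG2 i)) (Ideal.subset_span ⟨i, rfl⟩)
          have := Ideal.mem_map_of_mem (MvPolynomial.aeval G) hp
          rw [Ideal.map_pow] at this
          exact Ideal.pow_right_mono hle _ this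
        | zero => exact map_zero φ
        | add y w _ _ hy hw => rw [map_add, hy, hw, add_zero]
        | smul r y _ hy => rw [smul_eq_mul, map_mul, hy, mul_zero]
      exact Ideal.Quotient.eq_zero_iff_mem.1 ((hcomp F).symm.trans (hkill _ hF))
  exact IsRegularLocalRing.of_spanFinrank_maximalIdeal_le A
    (Groth.Agent.Synt29.JetLift.le_ringKrullDim d x hx hsurj hinj)

end Groth.Agent.S11451
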