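import Groth.Statements.S11452
import Groth.Agent.Synt29.TrivDef
import Groth.Agent.SmoothReg.Scheme
import Groth.Agent.AlgStLib.Noetherian

set_option autoImplicit false
universe u
open CategoryTheory AlgebraicGeometry
open DefT

namespace Groth.Agent.S11452

/-- Let k be an algebraically closed field, X an affine scheme of finite type over k whose local rings
are all regular, A a local Artin k-algebra with a k-algebra augmentation e : A → k, and g : X' →
Spec A a flat morphism whose fibre over the k-point Spec k → Spec A given by e is X (with its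
structure map to Spec k). Then there is an isomorphism from X' to the trivial deformation X ×_{Spec
k} Spec A compatible with the projections to Spec A. -/
theorem result (k : Type u) [Field k]
    [IsAlgClosed k] (X : Scheme.{u}) (hX : X ⟶ Spec (CommRingCat.of k)) [IsAffine X]
    [LocallyOfFiniteType hX] (hreg : ∀ x : X, IsRegularLocalRing (X.presheaf.stalk x))
    (A : Type u) [CommRing A] [IsLocalRing A] [IsArtinianRing A] [Algebra k A] (e : A →ₐ[k] k)
    (X' : Scheme.{u}) (g : X' ⟶ Spec (CommRingCat.of A)) [Flat g] (i : X ⟶ X')
    (hsq : IsPullback i hX g (Spec.map (CommRingCat.ofHom e.toRingHom))) :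
    ∃ φ : X' ≅ Limits.pullback hX (Spec.map (CommRingCat.ofHom (algebraMap k A))),
      φ.hom ≫ Limits.pullback.snd hX (Spec.map (CommRingCat.ofHom (algebraMap k A))) = g := by
  
  have : LocallyOfFinitePresentation hX :=
    Groth.Agent.AlgStLib.locallyOfFinitePresentation_of_isLocallyNoetherian hX inferInstance
  have : Smooth hX := Scheme.Hom.smoothLocus_eq_top_iff.1 (eq_top_iff.2 fun x _ =>
    (Groth.Agent.SmoothReg.mem_smoothLocus_iff_isRegularLocalRing hX x).2 (hreg x))
  have := Groth.Agent.Synt29.TrivDef.isAffine_total hsq
  obtain ⟨s, hs, hsk⟩ := Groth.Agent.Synt29.TrivDef.exists_section_appTop hsq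
  obtain ⟨h1, h2⟩ := Groth.Agent.Synt29.TrivDef.retraction hsq s hs hsk
  have := Groth.Agent.Synt29.TrivDef.isIso_lift hsq _ h1 h2
  exact ⟨asIso (Limits.pullback.lift _ g h2), Limits.pullback.lift_snd _ _ _⟩


end Groth.Agent.S11452
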