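import Groth.Statements.S11453
import Mathlib.RingTheory.Flat.TorsionFree
import Mathlib.RingTheory.PrincipalIdealDomain

set_option autoImplicit false
universe u
open scoped Polynomial
open DefT

namespace Groth.Agent.S11453

open Polynomial

section
variable {k : Type u} [Field k]

local notation "A" => MvPolynomial (Fin 2) k

variable (i j : Fin 2)

/-- restriction to the line `x_j = 0` -/
noncomputable def eps : A →ₐ[k] k[X] :=
  MvPolynomial.aeval fun v => if v = i then Polynomial.X else 0

/-- `k[x_i, x_j] → k[Y][X]` -/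
noncomputable def psi : A →ₐ[k] k[X][X] :=
  MvPolynomial.aeval fun v => if v = i then Polynomial.X else Polynomial.C Polynomial.X

/-- `k[Y][X] → k[x_i, x_j]` -/
noncomputable def theta : k[X][X] →+* A :=
  Polynomial.eval₂RingHom (Polynomial.aeval (MvPolynomial.X j : A)).toRingHom (MvPolynomial.X i)

theorem theta_X : theta (k := k) i j Polynomial.X = MvPolynomial.X i :=
  Polynomial.eval₂_X _ _

theorem theta_C (a : k[X]) : theta (k := k) i j (Polynomial.C a) = Polynomial.aeval (MvPolynomial.X j : A) a :=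
  Polynomial.eval₂_C _ _

theorem psi_aeval_X_j (hij : i ≠ j) (a : k[X]) :
    psi (k := k) i (Polynomial.aeval (MvPolynomial.X j : A) a) = Polynomial.C a := by
  induction a using Polynomial.induction_on' with
  | add a b ha hb => rw [map_add, map_add, ha, hb, map_add]
  | monomial n c =>
    rw [Polynomial.aeval_monomial, map_mul, map_pow, AlgHom.commutes, psi, MvPolynomial.aeval_X, if_neg hij.symm,
      ← Polynomial.C_mul_X_pow_eq_monomial, map_mul, map_pow]
    rfl

theorem psi_theta (hij : i ≠ j) (P : k[X][X]) : psi (k := k) i (theta i j P) = P := by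
  induction P using Polynomial.induction_on' with
  | add a b ha hb => rw [map_add, map_add, ha, hb]
  | monomial n c =>
    rw [← Polynomial.C_mul_X_pow_eq_monomial, map_mul, map_mul, map_pow, map_pow, theta_C, theta_X,
      psi_aeval_X_j i j hij, psi, MvPolynomial.aeval_X, if_pos rfl]

theorem theta_psi (hij : i ≠ j) (a : A) : theta (k := k) i j (psi i a) = a := by
  induction a using MvPolynomial.induction_on with
  | C c =>
    rw [show psi (k := k) i (MvPolynomial.C c) = Polynomial.C (Polynomial.C c) from AlgHom.commutes _ c, theta_C,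
      Polynomial.aeval_C]
    rfl
  | add a b ha hb => rw [map_add, map_add, ha, hb]
  | mul_X a v ha =>
    rw [map_mul, map_mul, ha, psi, MvPolynomial.aeval_X]
    congr 1
    split_ifs with h
    · rw [theta_X, h]
    · rw [theta_C, Polynomial.aeval_X, show v = j by fin_cases v <;> fin_cases i <;> fin_cases j <;> simp_all]

theorem dvd_sub_sigma (hij : i ≠ j) (a : A) :
    (MvPolynomial.X j : A) ∣ a - Polynomial.aeval (MvPolynomial.X i : A) (eps i a) := by
  induction a using MvPolynomial.induction_on with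
  | C c =>
    rw [show eps (k := k) i (MvPolynomial.C c) = Polynomial.C c from AlgHom.commutes _ c, Polynomial.aeval_C]
    exact ⟨0, by rw [mul_zero]; exact sub_self _⟩
  | add a b ha hb => convert ha.add hb using 1; rw [map_add, map_add]; ring
  | mul_X a v ha =>
    rw [map_mul, map_mul, eps, MvPolynomial.aeval_X]
    split_ifs with h
    · rw [Polynomial.aeval_X, ← h, ← sub_mul]
      subst h
      exact ha.mul_right _
    · rw [map_zero, mul_zero, sub_zero, show v = j by fin_cases v <;> fin_cases i <;> fin_cases j <;> simp_all]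
      exact dvd_mul_left _ _

theorem exists_family [IsAlgClosed k] (hij : i ≠ j) (𝔞 : Ideal A)
    (hsupp : 𝔞.radical = Ideal.span {MvPolynomial.X 0, MvPolynomial.X 1}) (hj : (MvPolynomial.X j : A) ∉ 𝔞) :
    ∃ 𝔞' : Ideal A[X],
      RingHom.Flat (R := k[X]) (S := A[X] ⧸ 𝔞')
        ((Ideal.Quotient.mk 𝔞').comp (Polynomial.mapRingHom (algebraMap k A))) ∧
      @RingHom.Finite k[X] (A[X] ⧸ 𝔞') _ _
        ((Ideal.Quotient.mk 𝔞').comp (Polynomial.mapRingHom (algebraMap k A))) ∧
      Ideal.map (Polynomial.evalRingHom (0 : A)) 𝔞' = 𝔞 ∧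
      ∀ c : k, c ≠ 0 →
        Ideal.map (Polynomial.evalRingHom (MvPolynomial.C c)) 𝔞' ≤ Ideal.span {MvPolynomial.X 0, MvPolynomial.X 1} ∧
        ∃ p : Fin 2 → k, p ≠ 0 ∧
          Ideal.map (Polynomial.evalRingHom (MvPolynomial.C c)) 𝔞' ≤
            Ideal.span (Set.range (fun i : Fin 2 => MvPolynomial.X i - MvPolynomial.C (p i))) := by
  classical
  let x : A := MvPolynomial.X i
  let y : A := MvPolynomial.X j
  set 𝔪 : Ideal A := Ideal.span {MvPolynomial.X 0, MvPolynomial.X 1} with h𝔪
  have hX : ∀ v, (MvPolynomial.X v : A) ∈ 𝔪 := fun v => by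
    fin_cases v
    · exact Ideal.subset_span (Or.inl rfl)
    · exact Ideal.subset_span (Or.inr rfl)
  have h𝔪1 : 𝔪 ≤ RingHom.ker (MvPolynomial.aeval (0 : Fin 2 → k) : A →ₐ[k] k) := by
    refine Ideal.span_le.2 ?_
    rintro _ (rfl | rfl) <;> simp [RingHom.mem_ker]
  have h𝔪top : 𝔪 ≠ ⊤ := fun h => by
    have h1 := h𝔪1 (h.ge (Submodule.mem_top : (1 : A) ∈ ⊤))
    rw [RingHom.mem_ker, map_one] at h1
    exact one_ne_zero h1
  -- nilpotency of the coordinates
  obtain ⟨M, hM⟩ : ∃ M, x ^ M ∈ 𝔞 := Ideal.mem_radical_iff.1 (hsupp ▸ hX i)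
  obtain ⟨N, hN⟩ : ∃ N, y ^ N ∈ 𝔞 := Ideal.mem_radical_iff.1 (hsupp ▸ hX j)
  -- the trace on the line
  have hεsurj : Function.Surjective (eps (k := k) i) := fun f =>
    ⟨Polynomial.aeval x f, by rw [← Polynomial.aeval_algHom_apply, eps, MvPolynomial.aeval_X, if_pos rfl, Polynomial.aeval_X_left_apply]⟩
  have hεx : eps (k := k) i x = Polynomial.X := by rw [eps, MvPolynomial.aeval_X, if_pos rfl]
  let I₀ : Ideal k[X] := 𝔞.map (eps (k := k) i).toRingHom
  obtain ⟨g, hg⟩ := (IsPrincipalIdealRing.principal I₀).1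
  have hgX : g ∣ Polynomial.X ^ M := by
    rw [← Ideal.mem_span_singleton]
    refine hg.le ?_
    rw [← hεx, ← map_pow]
    exact Ideal.mem_map_of_mem _ hM
  obtain ⟨m, -, hm⟩ := (dvd_prime_pow Polynomial.prime_X M).1 hgX
  have hI₀ : I₀ = Ideal.span {Polynomial.X ^ m} := hg.trans (Ideal.span_singleton_eq_span_singleton.2 hm)
  obtain ⟨g₀, hg₀, hg₀ε⟩ := (Ideal.mem_map_iff_of_surjective _ hεsurj).1
    (hI₀.ge (Ideal.mem_span_singleton_self _) : Polynomial.X ^ m ∈ I₀)
  have hm0 : m ≠ 0 := fun h => by
    subst h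
    obtain ⟨w, hw⟩ := dvd_sub_sigma i j hij g₀
    have h1 : g₀ = 1 + y * w := by
      rw [show eps (k := k) i g₀ = Polynomial.X ^ 0 from hg₀ε, pow_zero, map_one] at hw
      rw [← hw]; ring
    have h2 : g₀ ∈ 𝔪 := hsupp ▸ Ideal.le_radical hg₀
    rw [h1, Ideal.add_mem_iff_left _ (𝔪.mul_mem_right w (hX j))] at h2
    exact h𝔪top ((Ideal.eq_top_iff_one _).2 h2)
  -- division
  have hdiv : ∀ (n : ℕ) (a : A), ∃ H : k[X][X], H.degree < m ∧
      a - theta i j H ∈ 𝔞 ⊔ Ideal.span {y ^ n} := by
    intro n
    induction n with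
    | zero => exact fun a => ⟨0, by rw [Polynomial.degree_zero]; exact WithBot.bot_lt_coe _,
        by rw [pow_zero, Ideal.span_singleton_one, sup_top_eq]; trivial⟩
    | succ n ih =>
      intro a
      let r := eps (k := k) i a %ₘ Polynomial.X ^ m
      let q := eps (k := k) i a /ₘ Polynomial.X ^ m
      obtain ⟨a', ha'⟩ : y ∣ a - Polynomial.aeval x q * g₀ - Polynomial.aeval x r := by
        have h1 := dvd_sub_sigma i j hij a
        have h2 := (dvd_sub_sigma i j hij g₀).mul_left (Polynomial.aeval x q)
        rw [show eps (k := k) i g₀ = Polynomial.X ^ m from hg₀ε] at h2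
        have h3 := h1.sub h2
        have h4 : Polynomial.aeval x (eps (k := k) i a) =
            Polynomial.aeval x r + Polynomial.aeval x (Polynomial.X ^ m : k[X]) * Polynomial.aeval x q := by
          rw [← map_mul, ← map_add, Polynomial.modByMonic_add_div]
        convert h3 using 1
        linear_combination h4
      obtain ⟨H', hH', hm'⟩ := ih a'
      refine ⟨r.map Polynomial.C + Polynomial.C Polynomial.X * H', ?_, ?_⟩
      · refine lt_of_le_of_lt (Polynomial.degree_add_le _ _) (max_lt ?_ ?_)
        · refine lt_of_le_of_lt (Polynomial.degree_map_le) ?_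
          have := Polynomial.degree_modByMonic_lt (eps (k := k) i a) (Polynomial.monic_X_pow (R := k) m)
          rwa [Polynomial.degree_X_pow] at this
        · rw [← Polynomial.smul_eq_C_mul]
          exact lt_of_le_of_lt (Polynomial.degree_smul_le _ _) hH'
      · have e1 : theta i j (r.map Polynomial.C) = Polynomial.aeval x r := by
          rw [theta, Polynomial.coe_eval₂RingHom, Polynomial.eval₂_map, Polynomial.aeval_def]
          exact congrArg (fun f => Polynomial.eval₂ f x r) (RingHom.ext fun c => Polynomial.aeval_C _ c)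
        rw [map_add, map_mul, theta_C, Polynomial.aeval_X, e1,
          show a - (Polynomial.aeval x r + y * theta i j H') =
            Polynomial.aeval x q * g₀ + y * (a' - theta i j H') by linear_combination ha']
        refine add_mem (Ideal.mem_sup_left (𝔞.mul_mem_left _ hg₀)) ?_
        obtain ⟨u, hu, v, hv, huv⟩ := Submodule.mem_sup.1 hm'
        obtain ⟨w, rfl⟩ := Ideal.mem_span_singleton'.1 hv
        rw [← huv, mul_add]
        refine add_mem (Ideal.mem_sup_left (𝔞.mul_mem_left _ hu)) (Ideal.mem_sup_right ?_)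
        exact Ideal.mem_span_singleton'.2 ⟨w, by ring⟩
  -- the monic equation
  obtain ⟨h, hh⟩ := dvd_sub_sigma i j hij g₀
  rw [show eps (k := k) i g₀ = Polynomial.X ^ m from hg₀ε, map_pow, Polynomial.aeval_X] at hh
  obtain ⟨H, hH, hHm⟩ := hdiv N h
  rw [sup_eq_left.2 ((Ideal.span_singleton_le_iff_mem _).2 hN)] at hHm
  let P : k[X][X] := Polynomial.X ^ m + Polynomial.C Polynomial.X * H
  have hdP : (Polynomial.C (Polynomial.X : k[X]) * H).degree < (m : WithBot ℕ) := by
    rw [← Polynomial.smul_eq_C_mul]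
    exact lt_of_le_of_lt (Polynomial.degree_smul_le _ _) hH
  have hPmonic : P.Monic := Polynomial.monic_X_pow_add hdP
  have hPdeg : P.natDegree = m := by
    refine Polynomial.natDegree_eq_of_degree_eq_some ?_
    rw [Polynomial.degree_add_eq_left_of_degree_lt (by rwa [Polynomial.degree_X_pow]), Polynomial.degree_X_pow]
  let G : A := theta i j P
  have hG : G = g₀ - y * (h - theta i j H) := by
    simp only [G, P, map_add, map_pow, map_mul, theta_X, theta_C, Polynomial.aeval_X]
    linear_combination (-1 : A) * hh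
  have hG𝔞 : G ∈ 𝔞 := hG ▸ sub_mem hg₀ (𝔞.mul_mem_left _ hHm)
  -- the residual ideal
  let 𝔟 : Ideal A := Submodule.comap (LinearMap.mulLeft A y) 𝔞
  have hb : ∀ a, a ∈ 𝔟 ↔ y * a ∈ 𝔞 := fun a => Iff.rfl
  have hab : 𝔞 ≤ 𝔟 := fun a ha => 𝔞.mul_mem_left _ ha
  have hb𝔪 : 𝔟 ≤ 𝔪 := by
    have h1 : 𝔟 ≠ ⊤ := fun h => hj (by simpa using (hb 1).1 (h.ge Submodule.mem_top))
    obtain ⟨Q, hQ, hQle⟩ := Ideal.exists_le_maximal 𝔟 h1
    have h2 : 𝔪 ≤ Q := hsupp ▸ (Ideal.IsPrime.radical_le_iff hQ.isPrime).2 (hab.trans hQle)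
    have hmax : 𝔪.IsMaximal := by
      have h3 : 𝔪 = RingHom.ker (MvPolynomial.aeval (0 : Fin 2 → k) : A →ₐ[k] k) := by
        refine le_antisymm h𝔪1 fun a ha => ?_
        obtain ⟨w, hw⟩ := dvd_sub_sigma i j hij a
        obtain ⟨v, hv⟩ := (Polynomial.X_dvd_sub_C : Polynomial.X ∣ eps (k := k) i a - Polynomial.C ((eps (k := k) i a).coeff 0))
        have h4 : a = MvPolynomial.C ((eps (k := k) i a).coeff 0) + x * Polynomial.aeval x v + y * w := by
          have h6 := congrArg (Polynomial.aeval x) hv
          rw [map_sub, Polynomial.aeval_C, map_mul, Polynomial.aeval_X, MvPolynomial.algebraMap_eq] at h6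
          linear_combination hw + h6
        have h7 : (eps (k := k) i a).coeff 0 = 0 := by
          have h8 := congrArg (MvPolynomial.aeval (0 : Fin 2 → k)) h4
          rw [RingHom.mem_ker.1 ha] at h8
          simpa [x, y] using h8.symm
        rw [h4, h7, map_zero, zero_add]
        exact add_mem (𝔪.mul_mem_right _ (hX i)) (𝔪.mul_mem_right _ (hX j))
      exact h3 ▸ RingHom.ker_isMaximal_of_surjective _ fun c => ⟨MvPolynomial.C c, by simp⟩
    exact (hmax.eq_of_le hQ.ne_top h2) ▸ hQle
  have hdec : 𝔞 = Ideal.span {y} * 𝔟 ⊔ Ideal.span {G} := by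
    refine le_antisymm (fun a ha => ?_) (sup_le (Ideal.span_singleton_mul_le_iff.2 fun z hz => hz)
      ((Ideal.span_singleton_le_iff_mem _).2 hG𝔞))
    obtain ⟨q, hq⟩ : Polynomial.X ^ m ∣ eps (k := k) i a :=
      Ideal.mem_span_singleton.1 (hI₀.le (Ideal.mem_map_of_mem _ ha))
    obtain ⟨w, hw⟩ := dvd_sub_sigma i j hij a
    rw [hq, map_mul, map_pow, Polynomial.aeval_X] at hw
    have h5 : a - G * Polynomial.aeval x q =
        y * (w - theta i j H * Polynomial.aeval x q) := by
      simp only [G, P, map_add, map_pow, map_mul, theta_X, theta_C, Polynomial.aeval_X]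
      linear_combination hw
    rw [← sub_add_cancel a (G * Polynomial.aeval x q)]
    refine add_mem (Ideal.mem_sup_left ?_) (Ideal.mem_sup_right (Ideal.mul_mem_right _ _ (Ideal.mem_span_singleton_self _)))
    rw [h5]
    refine Ideal.mul_mem_mul (Ideal.mem_span_singleton_self _) ((hb _).2 (h5 ▸ ?_))
    exact sub_mem ha (𝔞.mul_mem_right _ hG𝔞)
  -- the family
  let D : A[X] := Polynomial.X - Polynomial.C y
  let 𝔟' : Ideal A[X] := 𝔟.map Polynomial.C
  let 𝔞' : Ideal A[X] := Ideal.span {D} * 𝔟' ⊔ Ideal.span {Polynomial.C G}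
  have hDev : ∀ c : A, Polynomial.evalRingHom c D = c - y := fun c => by simp [D]
  have hmap : ∀ c : A, 𝔞'.map (Polynomial.evalRingHom c) = Ideal.span {c - y} * 𝔟 ⊔ Ideal.span {G} := fun c => by
    simp only [𝔞', 𝔟', Ideal.map_sup, Ideal.map_mul, Ideal.map_span, Set.image_singleton, hDev, Ideal.map_map]
    rw [show (Polynomial.evalRingHom c).comp Polynomial.C = RingHom.id A from RingHom.ext fun a => by simp,
      Ideal.map_id]
    simp
  refine ⟨𝔞', ?_, ?_, ?_, fun c hc => ?_⟩
  · -- flat
    have hinf : ∀ g : A[X], g ∈ 𝔟' → g.eval y ∈ Ideal.span {G} → g ∈ 𝔞' := fun g hg hgy => by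
      obtain ⟨r, hr⟩ := Polynomial.X_sub_C_dvd_sub_C_eval (a := y) (p := g)
      obtain ⟨e, he⟩ := Ideal.mem_span_singleton'.1 hgy
      have h1 : g = D * r + Polynomial.C e * Polynomial.C G := by
        rw [← map_mul, he]
        linear_combination hr
      rw [h1]
      refine add_mem (Ideal.mem_sup_left (Ideal.mul_mem_mul (Ideal.mem_span_singleton_self _) ?_))
        (Ideal.mem_sup_right (Ideal.mul_mem_left _ _ (Ideal.mem_span_singleton_self _)))
      have h2 : D * r ∈ 𝔟' := by
        rw [show D * r = g - Polynomial.C e * Polynomial.C G by rw [h1]; ring]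
        exact sub_mem hg (Ideal.mul_mem_left _ _ (Ideal.mem_map_of_mem _ (hab hG𝔞)))
      have hker : 𝔟' = RingHom.ker (Polynomial.mapRingHom (Ideal.Quotient.mk 𝔟)) := by
        rw [Polynomial.ker_mapRingHom, Ideal.mk_ker]
      rw [hker, RingHom.mem_ker] at h2 ⊢
      simp only [D, map_mul, Polynomial.coe_mapRingHom, Polynomial.map_sub, Polynomial.map_X, Polynomial.map_C] at h2
      exact (Polynomial.monic_X_sub_C _).mul_right_eq_zero_iff.1 h2
    let f : k[X] →+* A[X] ⧸ 𝔞' := (Ideal.Quotient.mk 𝔞').comp (Polynomial.mapRingHom (algebraMap k A))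
    show @RingHom.Flat k[X] (A[X] ⧸ 𝔞') _ _ f
    let := @RingHom.toAlgebra k[X] (A[X] ⧸ 𝔞') _ _ f
    show Module.Flat k[X] (A[X] ⧸ 𝔞')
    rw [Module.Flat.flat_iff_torsion_eq_bot_of_isBezout, eq_bot_iff]
    rintro z ⟨⟨c, hc0⟩, hz⟩
    obtain ⟨g, rfl⟩ := Ideal.Quotient.mk_surjective z
    have hz' : Polynomial.map (algebraMap k A) c * g ∈ 𝔞' := by
      rw [← Ideal.Quotient.eq_zero_iff_mem, map_mul]
      exact hz
    have hc' : c ≠ 0 := nonZeroDivisors.ne_zero hc0
    rw [Submodule.mem_bot, Ideal.Quotient.eq_zero_iff_mem]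
    refine hinf g ?_ ?_
    · have hle : 𝔞' ≤ 𝔟' := sup_le Ideal.mul_le_right
        ((Ideal.span_singleton_le_iff_mem _).2 (Ideal.mem_map_of_mem _ (hab hG𝔞)))
      have h1 := hle hz'
      have hker : 𝔟' = RingHom.ker (Polynomial.mapRingHom (Ideal.Quotient.mk 𝔟)) := by
        rw [Polynomial.ker_mapRingHom, Ideal.mk_ker]
      rw [hker, RingHom.mem_ker, map_mul, Polynomial.coe_mapRingHom, Polynomial.map_map] at h1
      rw [hker, RingHom.mem_ker, Polynomial.coe_mapRingHom]
      have h2 : ((c * Polynomial.C c.leadingCoeff⁻¹).map ((Ideal.Quotient.mk 𝔟).comp (algebraMap k A))) *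
          g.map (Ideal.Quotient.mk 𝔟) = 0 := by
        rw [Polynomial.map_mul]
        linear_combination (Polynomial.C c.leadingCoeff⁻¹).map ((Ideal.Quotient.mk 𝔟).comp (algebraMap k A)) * h1
      exact ((Polynomial.monic_mul_leadingCoeff_inv hc').map _).mul_right_eq_zero_iff.1 h2
    · have hev : ∀ g ∈ 𝔞', g.eval y ∈ Ideal.span {G} := fun g hg => by
        have h1 := Ideal.mem_map_of_mem (Polynomial.evalRingHom y) hg
        rw [hmap, sub_self] at h1
        rw [Ideal.span_singleton_eq_bot.2 rfl, Submodule.bot_mul, bot_sup_eq] at h1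
        exact h1
      have h1 := hev _ hz'
      rw [Polynomial.eval_mul, Polynomial.eval_map, ← Polynomial.aeval_def, Ideal.mem_span_singleton] at h1
      rw [Ideal.mem_span_singleton]
      have h2 : P ∣ psi (k := k) i (Polynomial.aeval y c * g.eval y) := by
        have := map_dvd (psi (k := k) i) h1
        rwa [show psi (k := k) i G = P from psi_theta i j hij P] at this
      rw [map_mul, psi_aeval_X_j i j hij] at h2
      have h3 : P ∣ psi (k := k) i (g.eval y) := by
        rw [← Polynomial.modByMonic_eq_zero_iff_dvd hPmonic] at h2 ⊢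
        rw [← Polynomial.smul_eq_C_mul, Polynomial.smul_modByMonic, smul_eq_zero] at h2
        exact h2.resolve_left hc'
      have := map_dvd (theta (k := k) i j) h3
      rwa [theta_psi i j hij] at this
  · -- finite
    let f : k[X] →+* A[X] ⧸ 𝔞' := (Ideal.Quotient.mk 𝔞').comp (Polynomial.mapRingHom (algebraMap k A))
    show @RingHom.Finite k[X] (A[X] ⧸ 𝔞') _ _ f
    let := @RingHom.toAlgebra k[X] (A[X] ⧸ 𝔞') _ _ f
    have : IsScalarTower k k[X] (A[X] ⧸ 𝔞') := IsScalarTower.of_algebraMap_eq fun a => by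
      show algebraMap k (A[X] ⧸ 𝔞') a = Ideal.Quotient.mk 𝔞' (Polynomial.map (algebraMap k A) (Polynomial.C a))
      rw [Polynomial.map_C]
      rfl
    have : Algebra.FiniteType k[X] (A[X] ⧸ 𝔞') := Algebra.FiniteType.of_restrictScalars_finiteType k k[X] _
    let π : A[X] →+* A[X] ⧸ 𝔞' := Ideal.Quotient.mk 𝔞'
    let B : Subalgebra k[X] (A[X] ⧸ 𝔞') := integralClosure k[X] (A[X] ⧸ 𝔞')
    have ht : ∀ c : k[X], π (c.map (algebraMap k A)) ∈ B := fun c =>
      (isIntegral_algebraMap : IsIntegral k[X] (algebraMap k[X] (A[X] ⧸ 𝔞') c))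
    have hC : ∀ a : k, π (Polynomial.C (MvPolynomial.C a)) ∈ B := fun a => by
      have := ht (Polynomial.C a)
      rwa [Polynomial.map_C] at this
    have hy : π (Polynomial.C y) ∈ B := by
      refine ⟨(Polynomial.X - Polynomial.C Polynomial.X) * Polynomial.X ^ N,
        (Polynomial.monic_X_sub_C _).mul (Polynomial.monic_X_pow _), ?_⟩
      show Polynomial.eval₂RingHom (algebraMap k[X] (A[X] ⧸ 𝔞')) (π (Polynomial.C y)) _ = 0
      simp only [map_mul, map_sub, map_pow, Polynomial.coe_eval₂RingHom, Polynomial.eval₂_X, Polynomial.eval₂_C]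
      show (π (Polynomial.C y) - π (Polynomial.map (algebraMap k A) Polynomial.X)) * π (Polynomial.C y) ^ N = 0
      rw [Polynomial.map_X, ← map_sub, ← map_pow, ← map_mul, Ideal.Quotient.eq_zero_iff_mem]
      rw [show (Polynomial.C y - Polynomial.X) * Polynomial.C y ^ N = -(D * Polynomial.C (y ^ N)) by
        simp only [D, map_pow]; ring]
      exact neg_mem (Ideal.mem_sup_left (Ideal.mul_mem_mul (Ideal.mem_span_singleton_self _)
        (Ideal.mem_map_of_mem _ (hab hN))))
    let φ : k →+* B := RingHom.codRestrict ((π.comp Polynomial.C).comp MvPolynomial.C) B hC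
    have hx : π (Polynomial.C x) ∈ B := by
      refine @isIntegral_trans k[X] B (A[X] ⧸ 𝔞') _ _ _ _ _ _ _ _ _ ⟨P.map (Polynomial.eval₂RingHom φ ⟨_, hy⟩), hPmonic.map _, ?_⟩
      rw [Polynomial.eval₂_map]
      have e : (algebraMap B (A[X] ⧸ 𝔞')).comp (Polynomial.eval₂RingHom φ ⟨_, hy⟩) =
          (π.comp Polynomial.C).comp (Polynomial.aeval (R := k) y).toRingHom :=
        Polynomial.ringHom_ext
          (fun a => by simp [φ]) (by simp)
      rw [e]
      refine Eq.trans (Polynomial.hom_eval₂ P _ (π.comp Polynomial.C) x).symm ?_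
      rw [RingHom.comp_apply, Ideal.Quotient.eq_zero_iff_mem]
      exact Ideal.mem_sup_right (Ideal.mem_span_singleton_self _)
    have hX' : π Polynomial.X ∈ B := by
      have := ht Polynomial.X
      rwa [Polynomial.map_X] at this
    have : Algebra.IsIntegral k[X] (A[X] ⧸ 𝔞') := ⟨fun z => by
      obtain ⟨g, rfl⟩ := Ideal.Quotient.mk_surjective z
      show π g ∈ B
      induction g using Polynomial.induction_on' with
      | add a b ha hb => rw [map_add]; exact add_mem ha hb
      | monomial n a =>
        rw [← Polynomial.C_mul_X_pow_eq_monomial, map_mul, map_pow]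
        refine mul_mem ?_ (pow_mem hX' n)
        induction a using MvPolynomial.induction_on with
        | C c => exact hC c
        | add a b ha hb => rw [map_add, map_add]; exact add_mem ha hb
        | mul_X a v ha =>
          rw [map_mul, map_mul]
          refine mul_mem ha ?_
          by_cases h : v = i
          · rw [h]; exact hx
          · rw [show v = j by fin_cases v <;> fin_cases i <;> fin_cases j <;> simp_all]; exact hy⟩
    exact Algebra.IsIntegral.finite
  · rw [hmap, zero_sub, ← neg_one_mul, ← Ideal.span_singleton_mul_span_singleton,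
      Ideal.span_singleton_eq_top.2 isUnit_one.neg, Ideal.top_mul]
    exact hdec.symm
  · rw [hmap]
    refine ⟨sup_le (Ideal.mul_le_right.trans hb𝔪) ((Ideal.span_singleton_le_iff_mem _).2 (hb𝔪 (hab hG𝔞))), ?_⟩
    obtain ⟨a, ha⟩ := IsAlgClosed.exists_root (P.map (Polynomial.evalRingHom c)) (by
      rw [hPmonic.degree_map, Polynomial.degree_eq_natDegree hPmonic.ne_zero, hPdeg]
      exact_mod_cast hm0)
    let p : Fin 2 → k := fun v => if v = i then a else c
    refine ⟨p, fun h => hc (by simpa [p, hij.symm] using congrFun h j), ?_⟩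
    set 𝔭 : Ideal A := Ideal.span (Set.range fun v => MvPolynomial.X v - MvPolynomial.C (p v))
    have hmem : ∀ q : A, q - MvPolynomial.C (MvPolynomial.eval p q) ∈ 𝔭 := fun q => by
      induction q using MvPolynomial.induction_on with
      | C c => simp
      | add q r hq hr => convert add_mem hq hr using 1; rw [map_add, map_add]; ring
      | mul_X q v hq =>
        convert add_mem (Ideal.mul_mem_right (MvPolynomial.X v) _ hq) (Ideal.mul_mem_left _
          (MvPolynomial.C (MvPolynomial.eval p q)) (Ideal.subset_span ⟨v, rfl⟩ :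
            MvPolynomial.X v - MvPolynomial.C (p v) ∈ 𝔭)) using 1
        rw [map_mul, MvPolynomial.eval_X, map_mul]; ring
    refine sup_le (Ideal.mul_le_left.trans ((Ideal.span_singleton_le_iff_mem _).2 ?_))
      ((Ideal.span_singleton_le_iff_mem _).2 ?_)
    · have := hmem (MvPolynomial.C c - y)
      simpa [y, p, hij.symm] using this
    · have h1 := hmem G
      have h2 : MvPolynomial.eval p G = 0 := by
        rw [← ha, show Polynomial.eval a (P.map (Polynomial.evalRingHom c)) =
          P.eval₂ (Polynomial.evalRingHom c) a from Polynomial.eval_map _ _]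
        refine (Polynomial.hom_eval₂ P _ (MvPolynomial.eval p) x).trans ?_
        congr 1
        · exact Polynomial.ringHom_ext (fun b => by simp) (by simp [p, hij.symm])
        · simp [x, p]
      rwa [h2, map_zero, sub_zero] at h1

end

/-- Let k be an algebraically closed field, A = k[x, y], and 𝔞 ⊆ A an ideal of finite colength n ≥ 2
with radical (x, y), i.e. Spec(A/𝔞) is supported at the origin. Then there is an ideal 𝔞' ⊆ A[t]
defining a family finite and flat over k[t] (A[t]/𝔞' is a finitely generated flat k[t]-module, hence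
locally free of rank n) whose fibre at t = 0 is 𝔞 and whose fibre ideal 𝔞_c at every c ≠ 0 is
contained in the maximal ideal of the origin and in the maximal ideal of some other k-point p ≠ (0,
0); so for t ≠ 0 the fibre is supported at two or more distinct points. (The published statement
allows colength 1 and puts the second point at (0, t); for colength 1 every finite flat family has
one-point fibres, and the family constructed in the published proof has its second piece at the
roots of f(x, t) on the line y = t after a linear change of the coordinates x, y, which need not lie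
at x = 0; this row states what that construction yields. The published statement asks the family to
be flat over k[t]; this row asks it to be finite and flat, as the constructed family is — f is monic
in x and (y − t)·y^N lies in the ideal for some N — and as the published proof's count of the
constant fibre length n presupposes; with flatness alone the fibre conditions here could be met by
adjoining a component that never meets t = 0.) -/
theorem result (k : Type u) [Field k] [IsAlgClosed k]
    (𝔞 : Ideal (MvPolynomial (Fin 2) k)) [Module.Finite k (MvPolynomial (Fin 2) k ⧸ 𝔞)]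
    (hn : 2 ≤ Module.finrank k (MvPolynomial (Fin 2) k ⧸ 𝔞))
    (hsupp : 𝔞.radical = Ideal.span {MvPolynomial.X 0, MvPolynomial.X 1}) :
    ∃ 𝔞' : Ideal (MvPolynomial (Fin 2) k)[X],
      RingHom.Flat (R := k[X]) (S := (MvPolynomial (Fin 2) k)[X] ⧸ 𝔞')
        ((Ideal.Quotient.mk 𝔞').comp (Polynomial.mapRingHom (algebraMap k (MvPolynomial (Fin 2) k)))) ∧
      RingHom.Finite (A := k[X]) (B := (MvPolynomial (Fin 2) k)[X] ⧸ 𝔞')
        ((Ideal.Quotient.mk 𝔞').comp (Polynomial.mapRingHom (algebraMap k (MvPolynomial (Fin 2) k)))) ∧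
      Ideal.map (Polynomial.evalRingHom (0 : MvPolynomial (Fin 2) k)) 𝔞' = 𝔞 ∧
      ∀ c : k, c ≠ 0 →
        Ideal.map (Polynomial.evalRingHom (MvPolynomial.C c)) 𝔞' ≤ Ideal.span {MvPolynomial.X 0, MvPolynomial.X 1} ∧
        ∃ p : Fin 2 → k, p ≠ 0 ∧
          Ideal.map (Polynomial.evalRingHom (MvPolynomial.C c)) 𝔞' ≤
            Ideal.span (Set.range (fun i : Fin 2 => MvPolynomial.X i - MvPolynomial.C (p i))) := by
  by_cases h1 : (MvPolynomial.X 1 : MvPolynomial (Fin 2) k) ∈ 𝔞
  · by_cases h0 : (MvPolynomial.X 0 : MvPolynomial (Fin 2) k) ∈ 𝔞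
    · exfalso
      have hle : Module.finrank k (MvPolynomial (Fin 2) k ⧸ 𝔞) ≤ 1 :=
        finrank_le_one 1 fun z => by
          obtain ⟨q, rfl⟩ := Ideal.Quotient.mk_surjective z
          induction q using MvPolynomial.induction_on with
          | C c => exact ⟨c, by rw [← Algebra.algebraMap_eq_smul_one]; rfl⟩
          | add q r hq hr =>
            obtain ⟨a, ha⟩ := hq
            obtain ⟨b, hb⟩ := hr
            exact ⟨a + b, by rw [add_smul, ha, hb, map_add]⟩
          | mul_X q v _ =>
            refine ⟨0, by rw [zero_smul, map_mul, Ideal.Quotient.eq_zero_iff_mem.2 (show MvPolynomial.X v ∈ 𝔞 by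
              fin_cases v <;> assumption), mul_zero]⟩
      omega
    · exact exists_family 1 0 (by decide) 𝔞 hsupp h0
  · exact exists_family 0 1 (by decide) 𝔞 hsupp h1

end Groth.Agent.S11453
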