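import Groth.Statements.S11456
import Groth.Agent.Synt29.ArtinLift
import Groth.Agent.Synt29.RegSeq
import Mathlib

set_option autoImplicit false
universe u
open DefT

namespace Groth.Agent.S11456

/-- Let C be a local Artin ring with maximal ideal m, A a flat C-algebra such that A₀ = A/mA is a
Cohen–Macaulay local ring, and I ⊆ A an ideal with A/I flat over C whose image in A₀ is generated by
a regular sequence b_1, …, b_r on A₀. Then I is generated by r elements a_1, …, a_r forming a
regular sequence on A (so the Koszul complex on the a_i resolves A/I). -/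
theorem result (C : Type u) [CommRing C]
    [IsLocalRing C] [IsArtinianRing C] (A : Type u) [CommRing A] [Algebra C A] [Module.Flat C A]
    [LocCoh.IsCohenMacaulayLocalRing (A ⧸ (IsLocalRing.maximalIdeal C).map (algebraMap C A))]
    (I : Ideal A) [Module.Flat C (A ⧸ I)] (r : ℕ)
    (b : Fin r → A ⧸ (IsLocalRing.maximalIdeal C).map (algebraMap C A))
    (hb : RingTheory.Sequence.IsRegular (A ⧸ (IsLocalRing.maximalIdeal C).map (algebraMap C A)) (List.ofFn b))
    (hI : I.map (Ideal.Quotient.mk ((IsLocalRing.maximalIdeal C).map (algebraMap C A))) = Ideal.span (Set.range b)) :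
    ∃ a : Fin r → A, RingTheory.Sequence.IsRegular A (List.ofFn a) ∧ I = Ideal.span (Set.range a) := by
  obtain ⟨hnoeth, hloc, hlh⟩ := Groth.Agent.Synt29.ArtinLift.instances_of_fibre (C := C) (A := A)
  have hb' : ∀ i, ∃ a ∈ I, Ideal.Quotient.mk ((IsLocalRing.maximalIdeal C).map (algebraMap C A)) a = b i := fun i =>
    (Ideal.mem_map_iff_of_surjective _ Ideal.Quotient.mk_surjective).1 (hI ▸ Ideal.subset_span ⟨i, rfl⟩)
  choose a ha hm using hb'
  have hlist : List.ofFn b = (List.ofFn a).map (Ideal.Quotient.mk ((IsLocalRing.maximalIdeal C).map (algebraMap C A))) := by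
    rw [List.map_ofFn]
    exact congrArg List.ofFn (funext fun i => (hm i).symm)
  have hmem : ∀ x ∈ List.ofFn a, x ∈ IsLocalRing.maximalIdeal A := fun x hx => by
    intro hu
    have h1 : Ideal.Quotient.mk ((IsLocalRing.maximalIdeal C).map (algebraMap C A)) x ∈ Ideal.ofList ((List.ofFn a).map (Ideal.Quotient.mk ((IsLocalRing.maximalIdeal C).map (algebraMap C A)))) :=
      Ideal.subset_span (List.mem_map.2 ⟨x, hx, rfl⟩)
    have h2 := Ideal.eq_top_of_isUnit_mem _ h1 (hu.map _)
    exact hb.top_ne_smul (by rw [hlist, h2, Submodule.top_smul])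
  have hF : RingTheory.Sequence.IsWeaklyRegular (A ⧸ ((IsLocalRing.maximalIdeal C).map (algebraMap C A))) (List.ofFn a) :=
    (RingTheory.Sequence.isWeaklyRegular_map_algebraMap_iff (A ⧸ ((IsLocalRing.maximalIdeal C).map (algebraMap C A))) (A ⧸ ((IsLocalRing.maximalIdeal C).map (algebraMap C A))) _).1
      (by rw [Ideal.Quotient.algebraMap_eq, ← hlist]; exact hb.1)
  have hmN : Groth.Agent.FlatLoc6.mN C A A = ((IsLocalRing.maximalIdeal C).map (algebraMap C A)) := by
    simp [Groth.Agent.FlatLoc6.mN, Ideal.mul_top]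
  have hkey := Groth.Agent.Synt29.weaklyRegular_and_flat_of_fibre (A := C) (List.ofFn a) A
    (((Submodule.quotEquivOfEq _ _ hmN).isWeaklyRegular_congr _).2 hF)
  refine ⟨a, RingTheory.Sequence.IsRegular.of_isWeaklyRegular_of_mem_maximalIdeal A hmem hkey.1,
    (Groth.Agent.Synt29.ArtinLift.eq_of_map_eq (IsLocalRing.maximalIdeal C)
      ((isArtinianRing_iff_isNilpotent_maximalIdeal C).1 inferInstance) I _ (Ideal.span_le.2 ?_) ?_).symm⟩
  · rintro _ ⟨i, rfl⟩
    exact ha i
  · rw [hI, Ideal.map_span, ← Set.range_comp]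
    exact le_of_eq (congrArg (fun f => Ideal.span (Set.range f)) (funext fun i => (hm i).symm))

end Groth.Agent.S11456
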