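import Groth.Statements.S11457
import Groth.Agent.Synt29.MinorsReduce
-- import your own Groth.Agent.* helpers here

set_option autoImplicit false
set_option linter.style.haveILetI false
universe u
open DefT

namespace Groth.Agent.S11457

/-- Let C' be a local Artin ring, J ⊊ C' a proper ideal annihilated by the maximal ideal, C = C'/J, A' a
flat C'-algebra of finite type with smooth special fibre, and A = A'/JA'. Let φ be an (r+1) × r
matrix over A such that 0 → A^r → A^{r+1} → A is exact, the second map sending v to Σ_i v_i f_i with
f_i = (−1)^i det(φ with row i removed), and such that A/(f_0, …, f_r) is flat over C. Then every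
matrix φ' over A' lifting φ has the same property over A': multiplication by φ' is injective, its
image is the kernel of the map given by the signed maximal minors f'_i of φ', and A'/(f'_0, …, f'_r)
is flat over C' (its reduction to A is A/(f_0, …, f_r) since minors commute with reduction). -/
theorem result (C' : Type u) [CommRing C'] [IsLocalRing C'] [IsArtinianRing C'] (J : Ideal C')
    (hJ : IsLocalRing.maximalIdeal C' * J = ⊥) (hJne : J ≠ ⊤) (A' : Type u) [CommRing A'] [Algebra C' A'] [Module.Flat C' A']
    [Algebra.FiniteType C' A']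
    [Algebra.Smooth (C' ⧸ IsLocalRing.maximalIdeal C') (A' ⧸ (IsLocalRing.maximalIdeal C').map (algebraMap C' A'))]
    (r : ℕ) (φ' : Matrix (Fin (r + 1)) (Fin r) A')
    (hφ : (Function.Injective (φ'.map (Ideal.Quotient.mk (J.map (algebraMap C' A')))).mulVecLin ∧
        LinearMap.range (φ'.map (Ideal.Quotient.mk (J.map (algebraMap C' A')))).mulVecLin = LinearMap.ker (Fintype.linearCombination (A' ⧸ J.map (algebraMap C' A')) (fun i : Fin (r + 1) => (-1 : (A' ⧸ J.map (algebraMap C' A'))) ^ (i : ℕ) * ((φ'.map (Ideal.Quotient.mk (J.map (algebraMap C' A')))).submatrix i.succAbove id).det))))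
    [Module.Flat (C' ⧸ J) ((A' ⧸ J.map (algebraMap C' A')) ⧸ Ideal.span (Set.range (fun i : Fin (r + 1) => (-1 : (A' ⧸ J.map (algebraMap C' A'))) ^ (i : ℕ) * ((φ'.map (Ideal.Quotient.mk (J.map (algebraMap C' A')))).submatrix i.succAbove id).det)))] :
    Function.Injective φ'.mulVecLin ∧
      LinearMap.range φ'.mulVecLin = LinearMap.ker (Fintype.linearCombination A' (fun i : Fin (r + 1) => (-1 : A') ^ (i : ℕ) * ((φ').submatrix i.succAbove id).det)) ∧
      Module.Flat C' (A' ⧸ Ideal.span (Set.range (fun i : Fin (r + 1) => (-1 : A') ^ (i : ℕ) * ((φ').submatrix i.succAbove id).det))) := by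
  have hsp := Groth.Agent.Synt29.MinorsLift.specialExact_of_quotient J hJne φ' hφ.1 hφ.2
    (by unfold Groth.Agent.Synt29.MinorsLift.minors; infer_instance)
  exact Groth.Agent.Synt29.MinorsLift.exact_of_special φ' hsp


end Groth.Agent.S11457
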