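import Groth.Statements.S11460
import Groth.Agent.Synt29.CodimTwoSpread
-- import your own Groth.Agent.* helpers here

set_option autoImplicit false
universe u
open CategoryTheory AlgebraicGeometry
open DefT

namespace Groth.Agent.S11460

/-- Let X be smooth over a field k and Y ⊆ X a closed subscheme which is Cohen–Macaulay of codimension 2
(all local rings of Y Cohen–Macaulay, and dim O_{X,y} = dim O_{Y,y} + 2 at every point y of Y). Then
each point of Y has an affine open neighbourhood U in X and an (r+1) × r matrix φ of functions on U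
whose signed maximal minors f_i generate the ideal of Y ∩ U and give an exact sequence 0 → O(U)^r →
O(U)^{r+1} → O(U), hence a resolution of O_{Y ∩ U} on the affine U. -/
theorem result (k : Type u) [Field k]
    (X Y : Scheme.{u}) (f : X ⟶ Spec (CommRingCat.of k)) [Smooth f] (ι : Y ⟶ X) [IsClosedImmersion ι]
    (hCM : ∀ y : Y, LocCoh.IsCohenMacaulayLocalRing (Y.presheaf.stalk y))
    (hcodim : ∀ y : Y, ringKrullDim (Y.presheaf.stalk y) + 2 = ringKrullDim (X.presheaf.stalk (ι.base y)))
    (y : Y) :
    ∃ U : X.affineOpens, ι.base y ∈ (U : X.Opens) ∧ ∃ (r : ℕ) (φ : Matrix (Fin (r + 1)) (Fin r) Γ(X, U)),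
      (Ideal.span (Set.range (fun i : Fin (r + 1) => (-1 : Γ(X, U)) ^ (i : ℕ) * ((φ).submatrix i.succAbove id).det)) = ι.ker.ideal U ∧
        Function.Injective (φ).mulVecLin ∧
        LinearMap.range (φ).mulVecLin = LinearMap.ker (Fintype.linearCombination Γ(X, U) (fun i : Fin (r + 1) => (-1 : Γ(X, U)) ^ (i : ℕ) * ((φ).submatrix i.succAbove id).det))) := by
  exact Groth.Agent.Synt29.CodimTwo.exists_affine_resolution k X Y f ι hCM hcodim y


end Groth.Agent.S11460
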