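import Groth.Statements.S11461
import Mathlib

set_option autoImplicit false
universe u
open CategoryTheory
open DefT

namespace Groth.Agent.S11461

lemma mulHom_apply {B : Type u} [CommRing B] (F : ModuleCat.{u} B ⥤ ModuleCat.{u} B) [F.Additive] [F.Linear B]
    (X : ModuleCat.{u} B) (x : B) (y : F.obj X) :
    (F.map (x • 𝟙 X)).hom y = x • y := by
  rw [F.map_smul, F.map_id]
  rfl

/-- Exactness in the middle transfers vanishing to the middle. -/
lemma isZero_mid {B : Type u} [CommRing B] (F : ModuleCat.{u} B ⥤ ModuleCat.{u} B) [F.Additive]
    (S : ShortComplex (ModuleCat.{u} B)) (hS : (S.map F).Exact) (h1 : Limits.IsZero (F.obj S.X₁))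
    (h3 : Limits.IsZero (F.obj S.X₃)) : Limits.IsZero (F.obj S.X₂) :=
  ShortComplex.Exact.isZero_X₂ hS (h1.eq_of_src _ _) (h3.eq_of_tgt _ _)

/-- Let B be a Noetherian ring and F an additive, B-linear endofunctor of B-modules which preserves
finite generation and is semi-exact on short exact sequences of finitely generated modules (the
image sequence is exact in the middle). If F kills B/m for every maximal ideal m, then F kills every
finitely generated B-module. (The published statement assumes F only additive; this row assumes F
B-linear, and takes the functor on all B-modules with the hypotheses and the conclusion on the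
finitely generated ones.) -/
theorem result (B : Type u) [CommRing B]
    [IsNoetherianRing B] (F : ModuleCat.{u} B ⥤ ModuleCat.{u} B) [F.Additive] [F.Linear B]
    (hfg : ∀ M : ModuleCat.{u} B, Module.Finite B M → Module.Finite B (F.obj M))
    (hex : ∀ S : ShortComplex (ModuleCat.{u} B), S.ShortExact → Module.Finite B S.X₂ → (S.map F).Exact)
    (h0 : ∀ m : Ideal B, m.IsMaximal → Limits.IsZero (F.obj (ModuleCat.of B (B ⧸ m))))
    (M : ModuleCat.{u} B) (hM : Module.Finite B M) : Limits.IsZero (F.obj M) := by
  have hprime : ∀ p : Ideal B, p.IsPrime → Limits.IsZero (F.obj (ModuleCat.of B (B ⧸ p))) := by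
    intro p
    induction p using WellFoundedGT.induction with
    | _ p ih =>
      intro hp
      by_cases hmax : p.IsMaximal
      · exact h0 p hmax
      -- every element outside `p` acts surjectively
      have hsurj : ∀ x : B, x ∉ p → ∀ y : F.obj (ModuleCat.of B (B ⧸ p)), ∃ z, x • z = y := by
        intro x hx y
        have hle' : p ≤ (p ⊔ Ideal.span {x} : Ideal B).comap (RingHom.id B) := fun a ha =>
          Ideal.mem_sup_left ha
        let gq : (B ⧸ p) →ₗ[B] (B ⧸ (p ⊔ Ideal.span {x})) := Submodule.mapQ p (p ⊔ Ideal.span {x}) LinearMap.id hle'
        let T : ShortComplex (ModuleCat.{u} B) := ShortComplex.mk (X₁ := ModuleCat.of B (B ⧸ p))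
          (X₂ := ModuleCat.of B (B ⧸ p)) (X₃ := ModuleCat.of B (B ⧸ (p ⊔ Ideal.span {x})))
          (x • 𝟙 _) (ModuleCat.ofHom gq) (by
              refine ModuleCat.hom_ext (LinearMap.ext fun (a : B ⧸ p) => ?_)
              obtain ⟨a, rfl⟩ := Submodule.mkQ_surjective p a
              show gq (x • Submodule.mkQ p a) = 0
              rw [← map_smul, Submodule.mkQ_apply]
              refine (Submodule.mapQ_apply p _ LinearMap.id _).trans ?_
              rw [Submodule.Quotient.mk_eq_zero]
              exact le_sup_right (a := p) (Ideal.mem_span_singleton'.2 ⟨a, by simp [mul_comm]⟩))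
        have hT : T.ShortExact := by
          have hinj : Function.Injective T.f.hom := by
            rw [injective_iff_map_eq_zero]
            intro a ha
            obtain ⟨a, rfl⟩ := Submodule.mkQ_surjective p a
            change x • Submodule.mkQ p a = 0 at ha
            rw [← map_smul, Submodule.mkQ_apply, Submodule.Quotient.mk_eq_zero, smul_eq_mul] at ha
            rw [Submodule.mkQ_apply, Submodule.Quotient.mk_eq_zero]
            exact (hp.mem_or_mem ha).resolve_left hx
          have hsur : Function.Surjective T.g.hom := by
            intro b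
            obtain ⟨b, rfl⟩ := Submodule.mkQ_surjective _ b
            exact ⟨Submodule.mkQ p b, rfl⟩
          refine ShortComplex.ShortExact.mk' ?_ ((ModuleCat.mono_iff_injective _).2 hinj)
            ((ModuleCat.epi_iff_surjective _).2 hsur)
          rw [ShortComplex.moduleCat_exact_iff]
          intro b hb
          obtain ⟨b, rfl⟩ := Submodule.mkQ_surjective p b
          change gq (Submodule.mkQ p b) = 0 at hb
          replace hb := (Submodule.mapQ_apply p _ LinearMap.id (h := hle') b).symm.trans hb
          rw [Submodule.Quotient.mk_eq_zero, LinearMap.id_apply, Submodule.mem_sup] at hb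
          obtain ⟨a, ha, c, hc, rfl⟩ := hb
          obtain ⟨d, rfl⟩ := Ideal.mem_span_singleton'.1 hc
          refine ⟨Submodule.mkQ p d, ?_⟩
          show x • Submodule.mkQ p d = Submodule.mkQ p (a + d * x)
          rw [← map_smul, Submodule.mkQ_apply, Submodule.mkQ_apply, eq_comm, Submodule.Quotient.eq]
          simpa [mul_comm] using ha
        have hzero : Limits.IsZero (F.obj T.X₃) := by
          rcases Classical.em ((p ⊔ Ideal.span {x}).IsPrime) with hq | hq
          · exact ih _ (lt_of_le_of_ne le_sup_left (fun he => hx (he ▸ Ideal.mem_sup_right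
              (Ideal.mem_span_singleton_self x)))) hq
          · -- filter the quotient by primes containing `p ⊔ (x)`
            have key : ∀ (N : Type u) [AddCommGroup N] [Module B N] (_ : Module.Finite B N),
                (∀ a ∈ p ⊔ Ideal.span {x}, ∀ n : N, a • n = 0) → Limits.IsZero (F.obj (ModuleCat.of B N)) := by
              intro N _ _ hN
              induction hN using IsNoetherianRing.induction_on_isQuotientEquivQuotientPrime B with
              | subsingleton N =>
                intro _
                exact F.map_isZero (ModuleCat.isZero_of_subsingleton _)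
              | quotient N q e =>
                intro hann
                refine (ih q.1 ?_ q.2).of_iso (F.mapIso e.toModuleIso)
                have hle : p ⊔ Ideal.span {x} ≤ q.1 := by
                  intro a ha
                  have := congrArg e (hann a ha (e.symm (Submodule.Quotient.mk 1)))
                  rw [map_smul, e.apply_symm_apply, map_zero, ← Submodule.Quotient.mk_smul,
                    Submodule.Quotient.mk_eq_zero] at this
                  simpa using this
                exact lt_of_le_of_ne (le_sup_left.trans hle) (fun he => hx (he ▸ hle (Ideal.mem_sup_right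
                  (Ideal.mem_span_singleton_self x))))
              | exact N₁ N₂ N₃ f g hf hg he h₁ h₃ =>
                intro hann
                let U : ShortComplex (ModuleCat.{u} B) := ShortComplex.mk (ModuleCat.ofHom f) (ModuleCat.ofHom g)
                  (by ext a; exact he.apply_apply_eq_zero a)
                have hU : U.ShortExact := ShortComplex.ShortExact.mk'
                  ((ShortComplex.moduleCat_exact_iff U).2 (fun b hb => (he b).1 hb))
                  ((ModuleCat.mono_iff_injective _).2 hf) ((ModuleCat.epi_iff_surjective _).2 hg)
                refine isZero_mid F U (hex U hU (inferInstanceAs (Module.Finite B N₂))) (h₁ ?_) (h₃ ?_)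
                · intro a ha n
                  exact hf (by rw [map_smul, hann a ha, map_zero])
                · intro a ha n
                  obtain ⟨n, rfl⟩ := hg n
                  rw [← map_smul, hann a ha, map_zero]
            exact key _ inferInstance (fun a ha n => by
              obtain ⟨n, rfl⟩ := Submodule.mkQ_surjective _ n
              rw [← map_smul, Submodule.mkQ_apply, Submodule.Quotient.mk_eq_zero, smul_eq_mul]
              exact Ideal.mul_mem_right _ _ ha)
        have hepi := (hex T hT (inferInstanceAs (Module.Finite B (B ⧸ p)))).epi_f (hzero.eq_of_tgt _ _)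
        obtain ⟨z, hz⟩ := (ModuleCat.epi_iff_surjective _).1 hepi y
        exact ⟨z, by rw [← mulHom_apply F (ModuleCat.of B (B ⧸ p)) x z]; exact hz⟩
      have : Module.Finite B (F.obj (ModuleCat.of B (B ⧸ p))) := hfg _ (inferInstanceAs (Module.Finite B (B ⧸ p)))
      have hkill : ∀ a ∈ p, ∀ y : F.obj (ModuleCat.of B (B ⧸ p)), a • y = 0 := by
        intro a ha y
        rw [← mulHom_apply F (ModuleCat.of B (B ⧸ p)) a y]
        have : a • 𝟙 (ModuleCat.of B (B ⧸ p)) = 0 := by
          refine ModuleCat.hom_ext (LinearMap.ext fun (b : B ⧸ p) => ?_)
          obtain ⟨b, rfl⟩ := Submodule.mkQ_surjective p b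
          show a • Submodule.mkQ p b = 0
          rw [← map_smul, Submodule.mkQ_apply, Submodule.Quotient.mk_eq_zero, smul_eq_mul]
          exact Ideal.mul_mem_right _ _ ha
        rw [this, F.map_zero]
        rfl
      refine ModuleCat.isZero_of_iff_subsingleton.2 ⟨fun y₁ y₂ => sub_eq_zero.1 ?_⟩
      -- the annihilator is contained in no maximal ideal
      by_contra hne
      have hann : (⊤ : Submodule B (F.obj (ModuleCat.of B (B ⧸ p)))).annihilator ≠ ⊤ := by
        intro htop
        apply hne
        have h1 : (1 : B) ∈ (⊤ : Submodule B (F.obj (ModuleCat.of B (B ⧸ p)))).annihilator := htop ▸ trivial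
        simpa using Submodule.mem_annihilator.1 h1 (y₁ - y₂) trivial
      obtain ⟨m, hm, hle⟩ := Ideal.exists_le_maximal _ hann
      have hpm : p ≤ m := fun a ha => hle (Submodule.mem_annihilator.2 (fun y _ => hkill a ha y))
      obtain ⟨x, hxm, hxp⟩ := SetLike.exists_of_lt (lt_of_le_of_ne hpm (fun he => hmax (he ▸ hm)))
      have htop : (⊤ : Submodule B (F.obj (ModuleCat.of B (B ⧸ p)))) ≤ m • ⊤ := fun y _ => by
        obtain ⟨z, rfl⟩ := hsurj x hxp y
        exact Submodule.smul_mem_smul hxm trivial
      obtain ⟨r, hr, hr0⟩ := Submodule.exists_sub_one_mem_and_smul_eq_zero_of_fg_of_le_smul m ⊤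
        Module.Finite.fg_top htop
      have hrm : r ∈ m := hle (Submodule.mem_annihilator.2 hr0)
      exact hm.ne_top ((Ideal.eq_top_iff_one m).2 (by simpa using m.sub_mem hrm hr))
  have main : ∀ (N : Type u) [AddCommGroup N] [Module B N] (_ : Module.Finite B N),
      Limits.IsZero (F.obj (ModuleCat.of B N)) := by
    intro N _ _ hN
    induction hN using IsNoetherianRing.induction_on_isQuotientEquivQuotientPrime B with
    | subsingleton N => exact F.map_isZero (ModuleCat.isZero_of_subsingleton _)
    | quotient N q e => exact (hprime q.1 q.2).of_iso (F.mapIso e.toModuleIso)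
    | exact N₁ N₂ N₃ f g hf hg he h₁ h₃ =>
      let U : ShortComplex (ModuleCat.{u} B) := ShortComplex.mk (ModuleCat.ofHom f) (ModuleCat.ofHom g)
        (by ext a; exact he.apply_apply_eq_zero a)
      have hU : U.ShortExact := ShortComplex.ShortExact.mk'
        ((ShortComplex.moduleCat_exact_iff U).2 (fun b hb => (he b).1 hb))
        ((ModuleCat.mono_iff_injective _).2 hf) ((ModuleCat.epi_iff_surjective _).2 hg)
      exact isZero_mid F U (hex U hU (inferInstanceAs (Module.Finite B N₂))) h₁ h₃
  exact main M hM

end Groth.Agent.S11461
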