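import Groth.Statements.S11462
import Groth.Agent.Hartogs.Basic
import Groth.Agent.ParaFX.Ufd
import Groth.Agent.Synt29.RegSeq

set_option autoImplicit false
set_option linter.style.haveILetI false
universe u
open CategoryTheory AlgebraicGeometry Opposite
open DefT

namespace Groth.Agent.S11462

open IsLocalRing RingTheory.Sequence in
/-- Depth two lifts from the special fibre. -/
theorem two_le_depth_of_fibre (C B : Type u) [CommRing C] [IsLocalRing C] [IsNoetherianRing C] [CommRing B]
    [IsLocalRing B] [IsNoetherianRing B] [Algebra C B] [IsLocalHom (algebraMap C B)] [Module.Flat C B]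
    [IsLocalRing (B ⧸ (maximalIdeal C).map (algebraMap C B))]
    (h : (2 : ℕ∞) ≤ LocCoh.depth (B ⧸ (maximalIdeal C).map (algebraMap C B)) (B ⧸ (maximalIdeal C).map (algebraMap C B))) :
    (2 : ℕ∞) ≤ LocCoh.depth B B := by
  let I := (maximalIdeal C).map (algebraMap C B)
  obtain ⟨rs, hrs, hmem, hlen⟩ := Groth.Agent.Alg6.exists_length_ge_of_le_idealDepth
    (Groth.Agent.Alg6.maximal_smul_top_ne_top (R := B ⧸ I) (M := B ⧸ I)) (n := 2) (by exact_mod_cast h)
  obtain ⟨ls, rfl⟩ : ∃ ls : List B, ls.map (algebraMap B (B ⧸ I)) = rs :=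
    List.map_surjective_iff.2 Ideal.Quotient.mk_surjective rs
  have hmem' : ∀ r ∈ ls, r ∈ maximalIdeal B := fun r hr hu =>
    hmem _ (List.mem_map_of_mem hr) (hu.map (algebraMap B (B ⧸ I)))
  have h1 : IsWeaklyRegular (B ⧸ I) ls := (isWeaklyRegular_map_algebraMap_iff (B ⧸ I) (B ⧸ I) ls).1 hrs
  have h2 : IsWeaklyRegular (B ⧸ Groth.Agent.FlatLoc6.mN C B B) ls :=
    ((Submodule.quotEquivOfEq _ _ (by simp [Groth.Agent.FlatLoc6.mN, I])).isWeaklyRegular_congr ls).1 h1
  have h3 := (Groth.Agent.Synt29.weaklyRegular_and_flat_of_fibre (A := C) ls B h2).1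
  refine le_trans ?_ (Groth.Agent.Alg6.length_le_idealDepth h3 hmem')
  rw [List.length_map] at hlen
  exact_mod_cast hlen

/-- Let C be a local Artin ring with maximal ideal m, A a Noetherian C-algebra flat over C such that
Spec(A/mA) is a normal scheme, and U ⊆ X = Spec A an open subset whose closed complement has
codimension ≥ 2, i.e. every prime of A not in U has height at least 2. Then the restriction map Γ(X,
O_X) → Γ(U, O_X) is bijective. (The published statement assumes only that A is flat over C with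
normal special fibre; this row also assumes A Noetherian: for a valuation ring of rank two over a
field, which is normal and flat, the functions on the complement of the closed point are not all
global.) -/
theorem result (C : Type u) [CommRing C]
    [IsLocalRing C] [IsArtinianRing C] (A : Type u) [CommRing A] [IsNoetherianRing A] [Algebra C A]
    [Module.Flat C A]
    (hnorm : Pi1.IsNormalScheme (Spec (CommRingCat.of (A ⧸ (IsLocalRing.maximalIdeal C).map (algebraMap C A)))))
    (U : (Spec (CommRingCat.of A)).Opens)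
    (hU : ∀ p : ↥(Spec (CommRingCat.of A)), p ∉ U → (2 : ℕ∞) ≤ p.asIdeal.height) :
    Function.Bijective ((Spec (CommRingCat.of A)).presheaf.map (homOfLE (le_top : U ≤ ⊤)).op) := by
  refine Groth.Agent.Hartogs.spec_bijective A U fun p hp => ?_
  let 𝔪 := IsLocalRing.maximalIdeal C
  let I := 𝔪.map (algebraMap C A)
  let B := Localization.AtPrime p.asIdeal
  obtain ⟨N, hN⟩ := IsArtinianRing.isNilpotent_jacobson_bot (R := C)
  rw [IsLocalRing.jacobson_eq_maximalIdeal ⊥ bot_ne_top] at hN
  have hnil : ∀ c ∈ IsLocalRing.maximalIdeal C, c ^ N = 0 := fun c hc => Ideal.mem_bot.1 (by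
    rw [← Ideal.zero_eq_bot, ← hN]; exact Ideal.pow_mem_pow hc N)
  haveI : IsLocalHom (algebraMap C B) := ⟨fun c hc => by
    by_contra hcu
    have h0 : (algebraMap C B c) ^ N = 0 := by
      rw [← map_pow, hnil c hcu, map_zero]
    exact not_isUnit_zero (h0 ▸ hc.pow N)⟩
  have hmap : 𝔪.map (algebraMap C B) = I.map (algebraMap A B) := by
    rw [IsScalarTower.algebraMap_eq C A B, ← Ideal.map_map]
  have hIp : I ≤ p.asIdeal := Ideal.map_le_iff_le_comap.2 fun c hc =>
    p.2.mem_of_pow_mem N (by rw [← map_pow, hnil c hc, map_zero]; exact Ideal.zero_mem _)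
  let J := 𝔪.map (algebraMap C B)
  haveI : Nontrivial (B ⧸ J) := Ideal.Quotient.nontrivial_iff.2 fun htop => by
    have : J ≤ IsLocalRing.maximalIdeal B := Ideal.map_le_iff_le_comap.2 fun c hc => map_nonunit (algebraMap C B) c hc
    exact (IsLocalRing.maximalIdeal.isMaximal B).ne_top (top_le_iff.1 (htop ▸ this))
  haveI : IsLocalRing (B ⧸ J) := IsLocalRing.of_surjective' (Ideal.Quotient.mk J) Ideal.Quotient.mk_surjective
  haveI : Module.Flat C B := Module.Flat.trans C A B
  refine two_le_depth_of_fibre C B ?_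
  haveI hp' : (p.asIdeal.map (Ideal.Quotient.mk I)).IsPrime :=
    Ideal.map_isPrime_of_surjective Ideal.Quotient.mk_surjective (by rw [Ideal.mk_ker]; exact hIp)
  set P := p.asIdeal.map (Ideal.Quotient.mk I) with hP
  haveI : P.LiesOver p.asIdeal := ⟨by
    rw [Ideal.under_def, hP, Ideal.Quotient.algebraMap_eq, Ideal.comap_map_of_surjective _ Ideal.Quotient.mk_surjective,
      ← RingHom.ker_eq_comap_bot, Ideal.mk_ker, sup_eq_left.2 hIp]⟩
  haveI : IsLocalization.AtPrime (B ⧸ I.map (algebraMap A B)) P := by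
    have := Ideal.algebraMapSubmonoid_primeCompl_of_liesOver_surjective (A := A) (B := A ⧸ I) (P := P) (p := p.asIdeal)
      Ideal.Quotient.mk_surjective
    unfold IsLocalization.AtPrime
    rw [← this]
    infer_instance
  haveI : IsLocalization P.primeCompl ((Spec.structureSheaf (A ⧸ I)).presheaf.stalk ⟨P, hp'⟩) :=
    StructureSheaf.IsLocalization.to_stalk (A ⧸ I) ⟨P, hp'⟩
  let σ : ((Spec.structureSheaf (A ⧸ I)).presheaf.stalk ⟨P, hp'⟩) ≃+* B ⧸ J :=
    ((IsLocalization.algEquiv P.primeCompl ((Spec.structureSheaf (A ⧸ I)).presheaf.stalk ⟨P, hp'⟩)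
      (B ⧸ I.map (algebraMap A B))).toRingEquiv).trans (Ideal.quotEquivOfEq hmap.symm)
  obtain ⟨h1, h2⟩ : IsDomain ((Spec.structureSheaf (A ⧸ I)).presheaf.stalk ⟨P, hp'⟩) ∧
      IsIntegrallyClosed ((Spec.structureSheaf (A ⧸ I)).presheaf.stalk ⟨P, hp'⟩) := hnorm ⟨P, hp'⟩
  haveI : IsDomain (B ⧸ J) := σ.symm.toMulEquiv.isDomain
  haveI : IsIntegrallyClosed (B ⧸ J) := IsIntegrallyClosed.of_equiv σ
  refine Groth.Agent.ParaFX.two_le_depth_of_normal _ ?_
  rw [ringKrullDim_quotient, show PrimeSpectrum.zeroLocus (J : Set B) = Set.univ from Set.eq_univ_of_forall fun x => ?_,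
    Order.krullDim_eq_of_orderIso OrderIso.Set.univ]
  · show (2 : WithBot ℕ∞) ≤ ringKrullDim B
    rw [IsLocalization.AtPrime.ringKrullDim_eq_height p.asIdeal]
    exact WithBot.coe_le_coe.2 (hU p hp)
  · exact Ideal.map_le_iff_le_comap.2 fun c hc =>
      x.2.mem_of_pow_mem N (by rw [← map_pow, hnil c hc, map_zero]; exact Ideal.zero_mem _)

end Groth.Agent.S11462
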