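import Groth.Statements.S11465
import Groth.Agent.Synt29.IdealLift
import Mathlib

set_option autoImplicit false
universe u
open scoped TensorProduct
open DefT

namespace Groth.Agent.S11465

/-- Let C' be a local Artin ring, J ⊊ C' a proper ideal annihilated by the maximal ideal, C = C'/J, A' a
flat C'-algebra, A = A'/JA', I ⊆ A an ideal with B = A/I flat over C, I' ⊆ A' an ideal with C'-flat
quotient reducing to I, and φ : I → B ⊗_{C'} J an A'-linear map. Then there is exactly one ideal I''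
⊆ A' with C'-flat quotient reducing to I whose difference from I' is φ: for all x ∈ I, all lifts x'
∈ I', x'' ∈ I'' of x and all z ∈ A' ⊗_{C'} J mapping to x'' − x', the image of z in B ⊗_{C'} J is
φ(x). -/
theorem result (C' : Type u) [CommRing C'] [IsLocalRing C'] [IsArtinianRing C'] (J : Ideal C')
    (hJ : IsLocalRing.maximalIdeal C' * J = ⊥) (hJne : J ≠ ⊤) (A' : Type u) [CommRing A'] [Algebra C' A'] [Module.Flat C' A']
    (I : Ideal (A' ⧸ J.map (algebraMap C' A')))
    [Module.Flat (C' ⧸ J) ((A' ⧸ J.map (algebraMap C' A')) ⧸ I)]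
    (I' : Ideal A') [Module.Flat C' (A' ⧸ I')]
    (hI' : I'.map (Ideal.Quotient.mk (J.map (algebraMap C' A'))) = I)
    (φ : ↥I →ₗ[A'] (((A' ⧸ J.map (algebraMap C' A')) ⧸ I) ⊗[C'] ↥J)) :
    ∃! I'' : Ideal A', Module.Flat C' (A' ⧸ I'') ∧
      I''.map (Ideal.Quotient.mk (J.map (algebraMap C' A'))) = I ∧
      (∀ (x : (A' ⧸ J.map (algebraMap C' A'))) (hx : x ∈ I) (x' x'' : A'), x' ∈ I' → x'' ∈ I'' →
          Ideal.Quotient.mk (J.map (algebraMap C' A')) x' = x → Ideal.Quotient.mk (J.map (algebraMap C' A')) x'' = x →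
          ∀ z : A' ⊗[C'] ↥J, TensorProduct.rid C' A' (LinearMap.lTensor A' (Submodule.subtype J) z) = x'' - x' →
            LinearMap.rTensor ↥J (IsScalarTower.toAlgHom C' A' ((A' ⧸ J.map (algebraMap C' A')) ⧸ I)).toLinearMap z = φ ⟨x, hx⟩) := by
  exact Groth.Agent.Synt29.IdealLift.existsUnique_ideal (le_bot_iff.1 (hJ ▸ Ideal.mul_mono_left (IsLocalRing.le_maximalIdeal hJne))) I I' hI' φ

end Groth.Agent.S11465
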