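import Groth.Statements.S11466
import Mathlib

set_option autoImplicit false
universe u
open DefT

namespace Groth.Agent.S11466

/-- Let P be a regular local k-algebra with residue field k, I ⊆ m_P² an ideal, and A = P/I. If A has an
obstruction theory whose obstruction space is a finite-dimensional k-vector space V (obstructions in
V ⊗ J attached to k-algebra maps A → C'/J for small extensions 0 → J → C' → C'/J → 0 of local
Artinian k-algebras with residue field k, vanishing exactly when the map lifts to C', and compatible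
with passing to C'/K for ideals K ≤ J), then I is generated by at most dim_k V elements. (The
published statement gives a natural injection of the dual of I/m_P·I into V; this row asserts the
resulting bound on the number of generators.) -/
theorem result (k : Type u) [Field k] (P : Type u) [CommRing P]
    [IsRegularLocalRing P] [Algebra k P]
    (hres : Function.Surjective (algebraMap k (IsLocalRing.ResidueField P)))
    (I : Ideal P) (hI : I ≤ IsLocalRing.maximalIdeal P ^ 2)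
    (V : Type u) [AddCommGroup V] [Module k V] [Module.Finite k V]
    (T : W4bk4hartshdef114.ObsTheory k (P ⧸ I) V) :
    I.spanFinrank ≤ Module.finrank k V := by
  classical
  let m := IsLocalRing.maximalIdeal P
  have hresP : ∀ a : P, ∃ c : k, a - algebraMap k P c ∈ m := fun a => by
    obtain ⟨c, hc⟩ := hres (IsLocalRing.residue P a)
    refine ⟨c, ?_⟩
    rw [← IsLocalRing.residue_eq_zero_iff, map_sub, sub_eq_zero, ← hc,
      IsScalarTower.algebraMap_apply k P (IsLocalRing.ResidueField P)]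
    rfl
  -- Artin–Rees
  obtain ⟨c, hAR⟩ := m.exists_pow_inf_eq_pow_smul (M := P) I
  have hAR' : m ^ (c + 1) ⊓ I ≤ m * I := by
    have h := hAR (c + 1) (Nat.le_succ c)
    simp only [add_tsub_cancel_left, pow_one, smul_eq_mul, Ideal.mul_top] at h
    rw [h]
    exact Ideal.mul_mono_right inf_le_right
  let Q : Ideal P := m * I ⊔ m ^ (c + 1)
  have hQm : Q ≤ m := sup_le (le_trans Ideal.mul_le_inf inf_le_left) (Ideal.pow_le_self (Nat.succ_ne_zero c))
  have hIm : I ≤ m := hI.trans (Ideal.pow_le_self two_ne_zero)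
  let q0 : P →ₐ[k] P ⧸ Q := Ideal.Quotient.mkₐ k Q
  have hq0 : Function.Surjective q0 := Ideal.Quotient.mkₐ_surjective k Q
  have hnt : Nontrivial (P ⧸ Q) :=
    Ideal.Quotient.nontrivial_iff.2 (ne_top_of_le_ne_top (IsLocalRing.maximalIdeal.isMaximal P).ne_top hQm)
  have hlocC : IsLocalRing (P ⧸ Q) := IsLocalRing.of_surjective' _ Ideal.Quotient.mk_surjective
  have hmC : IsLocalRing.maximalIdeal (P ⧸ Q) = m.map (Ideal.Quotient.mk Q) :=
    (IsLocalRing.map_maximalIdeal_of_surjective _ Ideal.Quotient.mk_surjective).symm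
  have hartC : IsArtinianRing (P ⧸ Q) := by
    rw [isArtinianRing_iff_isNilpotent_maximalIdeal]
    exact ⟨c + 1, by rw [hmC, ← Ideal.map_pow]; exact Ideal.map_eq_bot_iff_le_ker _ |>.2 (by
      rw [Ideal.mk_ker]; exact le_sup_right)⟩
  let J : Ideal (P ⧸ Q) := I.map q0
  have hJm : J ≤ IsLocalRing.maximalIdeal (P ⧸ Q) := hmC ▸ Ideal.map_mono hIm
  have hann : ∀ x j : P ⧸ Q, x ∈ nonunits (P ⧸ Q) → j ∈ J → x * j = 0 := by
    intro x j hx hj
    obtain ⟨b, hb, rfl⟩ := (Ideal.mem_map_iff_of_surjective q0 hq0).1 hj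
    have hx' : x ∈ m.map (Ideal.Quotient.mk Q) := hmC ▸ hx
    obtain ⟨a, ha, rfl⟩ := (Ideal.mem_map_iff_of_surjective _ Ideal.Quotient.mk_surjective).1 hx'
    show Ideal.Quotient.mk Q a * Ideal.Quotient.mk Q b = 0
    rw [← map_mul, Ideal.Quotient.eq_zero_iff_mem]
    exact Ideal.mem_sup_left (Ideal.mul_mem_mul ha hb)
  have hresC : ∀ x : P ⧸ Q, ∃ a : k, x - algebraMap k (P ⧸ Q) a ∈ nonunits (P ⧸ Q) := by
    intro x
    obtain ⟨a, rfl⟩ := hq0 x
    obtain ⟨e, he⟩ := hresP a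
    refine ⟨e, ?_⟩
    show _ ∈ IsLocalRing.maximalIdeal (P ⧸ Q)
    rw [← AlgHom.commutes q0, ← map_sub, hmC]
    exact Ideal.mem_map_of_mem _ he
  have hJne : J ≠ ⊤ := ne_top_of_le_ne_top (IsLocalRing.maximalIdeal.isMaximal _).ne_top hJm
  have hsmall : W4bk4hartshdef114.IsSmallExt k (P ⧸ Q) J := ⟨hlocC, hartC, hresC, hann, hJne⟩
  let u : (P ⧸ I) →ₐ[k] (P ⧸ Q) ⧸ J := Ideal.Quotient.liftₐ I ((Ideal.Quotient.mkₐ k J).comp q0) (fun a ha => by
    show Ideal.Quotient.mk J (q0 a) = 0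
    exact Ideal.Quotient.eq_zero_iff_mem.2 (Ideal.mem_map_of_mem _ ha))
  let b := Module.finBasis k V
  obtain ⟨g, hg⟩ := (TensorProduct.equivFinsuppOfBasisLeft (N := ↥J) b).symm.surjective (T.obs (P ⧸ Q) J u)
  let K : Ideal (P ⧸ Q) := Ideal.span (Set.range fun i => (g i : P ⧸ Q))
  have hKJ : K ≤ J := Ideal.span_le.2 (by rintro _ ⟨i, rfl⟩; exact (g i).2)
  have h0 : LinearMap.lTensor V (W4bk4hartshdef114.idealToQuot k J K) (T.obs (P ⧸ Q) J u) = 0 := by
    rw [← hg, TensorProduct.equivFinsuppOfBasisLeft_symm_apply, Finsupp.sum, map_sum]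
    refine Finset.sum_eq_zero fun i _ => ?_
    rw [LinearMap.lTensor_tmul]
    have : W4bk4hartshdef114.idealToQuot k J K (g i) = 0 :=
      Subtype.ext (Ideal.Quotient.eq_zero_iff_mem.2 (Ideal.subset_span ⟨i, rfl⟩))
    rw [this, TensorProduct.tmul_zero]
  rw [← T.obs_quot (P ⧸ Q) J K hsmall hKJ u] at h0
  have hKne : K ≠ ⊤ := ne_top_of_le_ne_top hJne hKJ
  have hntK : Nontrivial ((P ⧸ Q) ⧸ K) := Ideal.Quotient.nontrivial_iff.2 hKne
  have hlocK : IsLocalRing ((P ⧸ Q) ⧸ K) := IsLocalRing.of_surjective' _ Ideal.Quotient.mk_surjective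
  have hmK : IsLocalRing.maximalIdeal ((P ⧸ Q) ⧸ K) =
      (IsLocalRing.maximalIdeal (P ⧸ Q)).map (Ideal.Quotient.mk K) :=
    (IsLocalRing.map_maximalIdeal_of_surjective _ Ideal.Quotient.mk_surjective).symm
  let J' : Ideal ((P ⧸ Q) ⧸ K) := J.map (Ideal.Quotient.mkₐ k K)
  have hJm' : J' ≤ IsLocalRing.maximalIdeal ((P ⧸ Q) ⧸ K) := hmK ▸ Ideal.map_mono hJm
  have hann' : ∀ x j : (P ⧸ Q) ⧸ K, x ∈ nonunits ((P ⧸ Q) ⧸ K) → j ∈ J' → x * j = 0 := by
    intro x j hx hj
    obtain ⟨j0, hj0, rfl⟩ := (Ideal.mem_map_iff_of_surjective _ (Ideal.Quotient.mkₐ_surjective k K)).1 hj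
    have hx' : x ∈ (IsLocalRing.maximalIdeal (P ⧸ Q)).map (Ideal.Quotient.mk K) := hmK ▸ hx
    obtain ⟨a, ha, rfl⟩ := (Ideal.mem_map_iff_of_surjective _ Ideal.Quotient.mk_surjective).1 hx'
    show Ideal.Quotient.mk K a * Ideal.Quotient.mk K j0 = 0
    rw [← map_mul, hann a j0 ha hj0, map_zero]
  have hartK : IsArtinianRing ((P ⧸ Q) ⧸ K) := inferInstance
  have hresK : ∀ x : (P ⧸ Q) ⧸ K, ∃ a : k, x - algebraMap k ((P ⧸ Q) ⧸ K) a ∈ nonunits ((P ⧸ Q) ⧸ K) := by
    intro x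
    obtain ⟨x, rfl⟩ := Ideal.Quotient.mk_surjective x
    obtain ⟨a, ha⟩ := hresC x
    refine ⟨a, ?_⟩
    show _ ∈ IsLocalRing.maximalIdeal ((P ⧸ Q) ⧸ K)
    rw [hmK]
    exact map_sub (Ideal.Quotient.mk K) x (algebraMap k (P ⧸ Q) a) ▸ Ideal.mem_map_of_mem _ ha
  have hsmallK : W4bk4hartshdef114.IsSmallExt k ((P ⧸ Q) ⧸ K) J' :=
    ⟨hlocK, hartK, hresK, hann', ne_top_of_le_ne_top (IsLocalRing.maximalIdeal.isMaximal _).ne_top hJm'⟩
  obtain ⟨u', hu'⟩ := (T.obs_eq_zero_iff _ J' hsmallK _).1 h0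
  let q : P →ₐ[k] (P ⧸ Q) ⧸ K := (Ideal.Quotient.mkₐ k K).comp q0
  let w : P →ₐ[k] (P ⧸ Q) ⧸ K := u'.comp (Ideal.Quotient.mkₐ k I)
  have hwq : ∀ a, w a - q a ∈ J' := by
    intro a
    rw [← Ideal.Quotient.eq_zero_iff_mem, map_sub, sub_eq_zero]
    exact (DFunLike.congr_fun hu' (Ideal.Quotient.mk I a)).trans rfl
  have hq_m : ∀ a ∈ m, q a ∈ IsLocalRing.maximalIdeal ((P ⧸ Q) ⧸ K) := fun a ha => by
    rw [hmK, hmC]
    exact Ideal.mem_map_of_mem _ (Ideal.mem_map_of_mem _ ha)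
  have hw_m : ∀ a ∈ m, w a ∈ IsLocalRing.maximalIdeal ((P ⧸ Q) ⧸ K) := fun a ha => by
    have := add_mem (hJm' (hwq a)) (hq_m a ha)
    rwa [sub_add_cancel] at this
  have heq : ∀ a ∈ m ^ 2, w a = q a := by
    intro a ha
    rw [pow_two] at ha
    refine Submodule.mul_induction_on ha (fun x hx y hy => ?_) (fun x y hx hy => ?_)
    · rw [map_mul, map_mul, ← sub_eq_zero,
        show w x * w y - q x * q y = w y * (w x - q x) + q x * (w y - q y) by ring,
        hann' _ _ (hw_m y hy) (hwq x), hann' _ _ (hq_m x hx) (hwq y), add_zero]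
    · rw [map_add, map_add, hx, hy]
  have hJK : J ≤ K := Ideal.map_le_iff_le_comap.2 fun a ha => by
    have h := heq a (hI ha)
    have hw0 : w a = 0 := by
      show u' (Ideal.Quotient.mk I a) = 0
      rw [Ideal.Quotient.eq_zero_iff_mem.2 ha, map_zero]
    rw [hw0] at h
    show q0 a ∈ K
    exact Ideal.Quotient.eq_zero_iff_mem.1 (show Ideal.Quotient.mk K (q0 a) = 0 from h.symm)
  choose x hxI hx using fun i => (Ideal.mem_map_iff_of_surjective q0 hq0).1 (g i).2
  let S : Ideal P := Ideal.span (Set.range x)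
  have hS : S ≤ I := Ideal.span_le.2 (by rintro _ ⟨i, rfl⟩; exact hxI i)
  have hIS : I ≤ S ⊔ m • I := by
    intro a ha
    have h1 : q0 a ∈ S.map q0 := by
      have hK' : K ≤ S.map q0 := Ideal.span_le.2 (by
        rintro _ ⟨i, rfl⟩
        show (g i : P ⧸ Q) ∈ S.map q0
        rw [← hx i]
        exact Ideal.mem_map_of_mem _ (Ideal.subset_span ⟨i, rfl⟩))
      exact hK' (hJK (Ideal.mem_map_of_mem _ ha))
    obtain ⟨y, hy, hya⟩ := (Ideal.mem_map_iff_of_surjective q0 hq0).1 h1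
    have hQ' : a - y ∈ Q := Ideal.Quotient.eq.1 (show Ideal.Quotient.mk Q a = Ideal.Quotient.mk Q y from hya.symm)
    obtain ⟨z, hz, v, hv, hzv⟩ := Submodule.mem_sup.1 hQ' 
    have hvI : v ∈ I := by
      rw [eq_sub_of_add_eq' hzv]
      exact sub_mem (sub_mem ha (hS hy)) (Ideal.mul_le_inf hz).2
    have : a = y + (z + v) := by rw [hzv]; ring
    rw [this, smul_eq_mul]
    exact add_mem (Ideal.mem_sup_left hy) (Ideal.mem_sup_right (add_mem hz (hAR' ⟨hv, hvI⟩)))
  have hle : I ≤ S := Submodule.le_of_le_smul_of_le_jacobson_bot (IsNoetherian.noetherian I)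
    (IsLocalRing.maximalIdeal_le_jacobson ⊥) hIS
  rw [le_antisymm hle hS]
  refine (Submodule.spanFinrank_span_le_ncard_of_finite (Set.finite_range x)).trans ?_
  refine (Finite.card_range_le x).trans ?_ |>.trans_eq' ?_
  · simp
  · exact Nat.card_coe_set_eq _

end Groth.Agent.S11466
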