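import Groth.Statements.S11468
import Groth.Agent.FComplLib.IdealComap
import Mathlib

set_option autoImplicit false
universe u
open CategoryTheory AlgebraicGeometry
open DefT

namespace Groth.Agent.S11468

/-- Let C be a local Artin ring with maximal ideal m and residue field k = C/m, g : X → Spec C a flat
morphism, and i : X₀ → X the fibre of g over the closed point, i.e. a pullback of g along Spec k →
Spec C, with structure map f₀ : X₀ → Spec k. If the induced ring map k → Γ(X₀, O_{X₀}) is bijective,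
then so is C → Γ(X, O_X). -/
theorem result (C : Type u) [CommRing C]
    [IsLocalRing C] [IsArtinianRing C] (X X₀ : Scheme.{u}) (g : X ⟶ Spec (CommRingCat.of C)) [Flat g]
    (i : X₀ ⟶ X) (f₀ : X₀ ⟶ Spec (CommRingCat.of (C ⧸ IsLocalRing.maximalIdeal C)))
    (hsq : IsPullback i f₀ g
      (Spec.map (CommRingCat.ofHom (Ideal.Quotient.mk (IsLocalRing.maximalIdeal C)))))
    (h0 : Function.Bijective ((Scheme.ΓSpecIso (CommRingCat.of (C ⧸ IsLocalRing.maximalIdeal C))).inv ≫
      f₀.appTop)) :
    Function.Bijective ((Scheme.ΓSpecIso (CommRingCat.of C)).inv ≫ g.appTop) := by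
  
  have colon : ∀ (A : Type u) [CommRing A] [Algebra C A] [Module.Flat C A] (I : Ideal C) (t : C) (x : A),
      algebraMap C A t * x ∈ I.map (algebraMap C A) →
        x ∈ Ideal.map (algebraMap C A) (Submodule.comap (LinearMap.lsmul C C t) I : Ideal C) := by
    intro A _ _ _ I t x hx
    let J : Ideal C := Submodule.comap (LinearMap.lsmul C C t) I
    let F : (C ⧸ J) →ₗ[C] (C ⧸ I) := Submodule.mapQ J I (LinearMap.lsmul C C t) le_rfl
    have hF : Function.Injective F := by
      rw [← LinearMap.ker_eq_bot, LinearMap.ker_eq_bot']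
      intro z hz
      obtain ⟨z, rfl⟩ := Submodule.Quotient.mk_surjective J z
      rw [Submodule.mapQ_apply, Submodule.Quotient.mk_eq_zero] at hz
      exact (Submodule.Quotient.mk_eq_zero J).mpr hz
    have h1 : (algebraMap C A t * x) ⊗ₜ[C] (1 : C ⧸ I) = 0 := by
      have := congrArg (Algebra.TensorProduct.quotIdealMapEquivTensorQuot A I)
        (Ideal.Quotient.eq_zero_iff_mem.mpr hx)
      rw [map_zero, Algebra.TensorProduct.quotIdealMapEquivTensorQuot_mk] at this
      exact this
    have h2 : x ⊗ₜ[C] (1 : C ⧸ J) = 0 := by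
      refine Module.Flat.lTensor_preserves_injective_linearMap (M := A) F hF ?_
      rw [map_zero, LinearMap.lTensor_tmul, ← h1, ← Algebra.smul_def, TensorProduct.smul_tmul]
      rfl
    refine Ideal.Quotient.eq_zero_iff_mem.mp
      ((Algebra.TensorProduct.quotIdealMapEquivTensorQuot A J).injective ?_)
    rw [map_zero, Algebra.TensorProduct.quotIdealMapEquivTensorQuot_mk]
    exact h2
  let m := IsLocalRing.maximalIdeal C
  let q : C →+* C ⧸ m := Ideal.Quotient.mk m
  let sk := Spec.map (CommRingCat.ofHom q)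
  have : IsClosedImmersion sk := IsClosedImmersion.spec_of_surjective _ Ideal.Quotient.mk_surjective
  have : IsClosedImmersion i :=
    MorphismProperty.of_isPullback (P := @IsClosedImmersion) hsq.flip inferInstance
  let φ : ∀ U : X.Opens, C →+* Γ(X, U) := fun U =>
    ((Scheme.ΓSpecIso (CommRingCat.of C)).inv ≫ g.appTop ≫
      X.presheaf.map (homOfLE (le_top : U ≤ ⊤)).op).hom
  let ψ : (C ⧸ m) →+* Γ(X₀, ⊤) :=
    ((Scheme.ΓSpecIso (CommRingCat.of (C ⧸ m))).inv ≫ f₀.appTop).hom
  have hψ : Function.Bijective ψ := h0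
  have hφres : ∀ {U V : X.Opens} (e : U ≤ V) (c : C), X.presheaf.map (homOfLE e).op (φ V c) = φ U c := by
    intro U V e c
    show (X.presheaf.map _ ≫ X.presheaf.map _) (g.appTop _) = _
    rw [← Functor.map_comp]
    rfl
  have hi : ∀ (U : X.Opens) (c : C), i.app U (φ U c) =
      X₀.presheaf.map (homOfLE (le_top : i ⁻¹ᵁ U ≤ ⊤)).op (ψ (q c)) := by
    intro U c
    show i.app U (X.presheaf.map _ (g.appTop ((Scheme.ΓSpecIso (CommRingCat.of C)).inv c))) = _
    refine (congr($(i.naturality (homOfLE (le_top : U ≤ ⊤)).op) _)).trans ?_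
    show X₀.presheaf.map _ ((i ≫ g).appTop ((Scheme.ΓSpecIso (CommRingCat.of C)).inv c)) = _
    have e1 : (i ≫ g).appTop = (f₀ ≫ sk).appTop := by rw [hsq.w]
    rw [e1, Scheme.Hom.comp_appTop, ConcreteCategory.comp_apply]
    have e2 := congr($(Scheme.ΓSpecIso_inv_naturality (CommRingCat.ofHom q)) c)
    exact congrArg (fun t => X₀.presheaf.map _ (f₀.appTop t)) e2.symm
  have hflat : ∀ U : X.affineOpens, (φ U.1).Flat := by
    intro U
    have h1 : (g.appLE ⊤ U.1 le_top).hom.Flat := g.flat_appLE (isAffineOpen_top _) U.2 le_top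
    exact (RingHom.Flat.respectsIso.cancel_left_isIso (Scheme.ΓSpecIso (CommRingCat.of C)).inv
      (g.appLE ⊤ U.1 le_top)).mpr h1
  have hker : ∀ U : X.affineOpens, RingHom.ker (i.app U.1).hom = m.map (φ U.1) := by
    intro U
    rw [← Scheme.Hom.ker_apply i U, Groth.Agent.FComplLib.ker_of_isPullback hsq,
      ModPairLib.ideal_comap _ g ⟨⊤, isAffineOpen_top _⟩ U le_top, Scheme.Hom.ker_apply]
    have hk : RingHom.ker (sk.app ⊤).hom =
        m.map (Scheme.ΓSpecIso (CommRingCat.of C)).inv.hom := by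
      let e := (Scheme.ΓSpecIso (CommRingCat.of C)).symm.commRingCatIsoToRingEquiv
      let e' := (Scheme.ΓSpecIso (CommRingCat.of (C ⧸ m))).symm.commRingCatIsoToRingEquiv
      show RingHom.ker (sk.appTop).hom = m.map (e : C →+* _)
      rw [Ideal.map_comap_of_equiv e]
      ext z
      have e2 := congr($(Scheme.ΓSpecIso_inv_naturality (CommRingCat.ofHom q)) (e.symm z))
      rw [RingHom.mem_ker, Ideal.mem_comap]
      show sk.appTop z = 0 ↔ e.symm z ∈ m
      rw [← Ideal.Quotient.eq_zero_iff_mem, ← map_eq_zero_iff e'.toRingHom e'.injective,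
        show sk.appTop z = sk.appTop (e (e.symm z)) by rw [e.apply_symm_apply]]
      exact Eq.congr_left e2.symm
    rw [hk, Ideal.map_map]
    rfl
  have hne : Nonempty ↥X₀ := by
    by_contra h
    rw [not_nonempty_iff] at h
    have : Subsingleton Γ(X₀, ⊤) := inferInstance
    exact zero_ne_one (α := C ⧸ m) (hψ.1 (Subsingleton.elim _ _))
  have loc0 : ∀ {V : X.Opens} (s : Γ(X, V)),
      (∀ U : X.affineOpens, ∀ (e : U.1 ≤ V), X.presheaf.map (homOfLE e).op s = 0) → s = 0 := by
    intro V s hs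
    refine X.sheaf.eq_of_locally_eq' (fun U : {U : X.affineOpens // U.1 ≤ V} => U.1.1) V
      (fun U => homOfLE U.2) (fun y hy => ?_) s 0 fun U => ?_
    · obtain ⟨U, hU, hyU, hUV⟩ := exists_isAffineOpen_mem_and_subset (x := y) (U := V) hy
      exact TopologicalSpace.Opens.mem_iSup.mpr ⟨⟨⟨U, hU⟩, hUV⟩, hyU⟩
    · exact (hs U.1 U.2).trans (map_zero _).symm
  constructor
  · rw [injective_iff_map_eq_zero]
    intro c hc
    by_contra hc0
    -- a socle element in the kernel
    have hex : ∃ J : Ideal C, J ≠ ⊥ ∧ J ≤ Ideal.span {c} ∧ ∀ J' : Ideal C, J' ≠ ⊥ → J' ≤ J → J' = J := by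
      obtain ⟨J, hJ, hmin⟩ := wellFounded_lt.has_min {J : Ideal C | J ≠ ⊥ ∧ J ≤ Ideal.span {c}}
        ⟨Ideal.span {c}, by simpa [Ideal.span_singleton_eq_bot] using hc0, le_rfl⟩
      exact ⟨J, hJ.1, hJ.2, fun J' h1 h2 => eq_of_le_of_not_lt h2 (hmin J' ⟨h1, h2.trans hJ.2⟩)⟩
    obtain ⟨J, hJ0, hJc, hJmin⟩ := hex
    obtain ⟨t, htJ, ht0⟩ := Submodule.exists_mem_ne_zero_of_ne_bot hJ0
    have hann : (Submodule.comap (LinearMap.lsmul C C t) ⊥ : Ideal C) = m := by
      refine ((IsLocalRing.maximalIdeal.isMaximal C).eq_of_le (fun h => ht0 ?_) fun r hr => ?_).symm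
      · have : (1 : C) ∈ (Submodule.comap (LinearMap.lsmul C C t) ⊥ : Ideal C) := by rw [h]; trivial
        simpa using this
      · show t * r ∈ (⊥ : Ideal C)
        by_contra hne
        have := hJmin (Ideal.span {t * r}) (by simpa [Ideal.span_singleton_eq_bot] using hne)
          ((Ideal.span_singleton_le_iff_mem _).mpr (J.mul_mem_right r htJ))
        obtain ⟨s, hs⟩ := Ideal.mem_span_singleton'.mp (this ▸ htJ : t ∈ Ideal.span {t * r})
        have hu : IsUnit (1 - s * r) := IsLocalRing.isUnit_one_sub_self_of_mem_nonunits _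
          ((IsLocalRing.mem_maximalIdeal _).mp (m.mul_mem_left s hr))
        exact ht0 (hu.mul_left_eq_zero.mp (by linear_combination -hs))
    obtain ⟨s, hs⟩ := Ideal.mem_span_singleton'.mp (hJc htJ)
    have hφt : ∀ U : X.Opens, φ U t = 0 := by
      intro U
      rw [← hs, map_mul]
      have : φ U c = 0 := by
        show X.presheaf.map _ (g.appTop _) = 0
        refine (congrArg _ hc).trans (map_zero _)
      rw [this, mul_zero]
    obtain ⟨y⟩ := hne
    obtain ⟨U, hU, hyU, -⟩ := exists_isAffineOpen_mem_and_subset (x := i y) (U := ⊤) trivial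
    let _ : Algebra C Γ(X, U) := (φ U).toAlgebra
    have : Module.Flat C Γ(X, U) := hflat ⟨U, hU⟩
    have h1 : (1 : Γ(X, U)) ∈ m.map (algebraMap C Γ(X, U)) := by
      rw [← hann]
      refine colon Γ(X, U) ⊥ t 1 ?_
      rw [mul_one, show algebraMap C Γ(X, U) t = 0 from hφt U]
      exact Ideal.zero_mem _
    have h1' : (1 : Γ(X, U)) ∈ RingHom.ker (i.app U).hom := by rw [hker ⟨U, hU⟩]; exact h1
    rw [RingHom.mem_ker, map_one] at h1'
    have h3 := congrArg (X₀.presheaf.germ (i ⁻¹ᵁ U) y hyU) h1'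
    rw [map_one, map_zero] at h3
    exact one_ne_zero h3
  · suffices ∀ I : Ideal C, ∀ a : Γ(X, ⊤),
        (∀ U : X.affineOpens, X.presheaf.map (homOfLE (le_top : U.1 ≤ ⊤)).op a ∈ I.map (φ U.1)) →
          ∃ c : C, φ ⊤ c = a by
      intro a
      obtain ⟨c, hc⟩ := this ⊤ a fun U => by rw [Ideal.map_top]; trivial
      refine ⟨c, Eq.trans ?_ hc⟩
      show _ = (g.appTop ≫ X.presheaf.map _) _
      rw [show (homOfLE (le_top : (⊤ : X.Opens) ≤ ⊤)).op = 𝟙 _ from rfl, X.presheaf.map_id,
        Category.comp_id]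
      rfl
    intro I
    induction I using WellFoundedLT.induction with
    | ind I ih =>
    intro a ha
    by_cases hI : I = ⊥
    · refine ⟨0, (map_zero _).trans (loc0 a fun U e => ?_).symm⟩
      have := ha U
      rwa [hI, Ideal.map_bot, Ideal.mem_bot] at this
    obtain ⟨I', hI', hmax⟩ := (wellFounded_gt (α := Ideal C)).has_min {J | J < I} ⟨⊥, bot_lt_iff_ne_bot.mpr hI⟩
    replace hI' : I' < I := hI'
    obtain ⟨t, htI, htI'⟩ := SetLike.exists_of_lt hI'
    have hsup : I' ⊔ Ideal.span {t} = I := by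
      refine eq_of_le_of_not_lt (sup_le hI'.le ((Ideal.span_singleton_le_iff_mem _).mpr htI)) fun h => ?_
      exact hmax _ h (lt_of_le_not_ge le_sup_left fun h' =>
        htI' (h' (Ideal.mem_sup_right (Ideal.mem_span_singleton_self t))))
    have hcol : (Submodule.comap (LinearMap.lsmul C C t) I' : Ideal C) = m := by
      refine ((IsLocalRing.maximalIdeal.isMaximal C).eq_of_le (fun h => htI' ?_) fun r hr => ?_).symm
      · have : (1 : C) ∈ (Submodule.comap (LinearMap.lsmul C C t) I' : Ideal C) := by rw [h]; trivial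
        simpa using this
      · show t * r ∈ I'
        by_contra hne
        have hlt : I' ⊔ Ideal.span {t * r} = I := by
          refine eq_of_le_of_not_lt (sup_le hI'.le ((Ideal.span_singleton_le_iff_mem _).mpr
            (I.mul_mem_right r htI))) fun h => ?_
          exact hmax _ h (lt_of_le_not_ge le_sup_left fun h' =>
            hne (h' (Ideal.mem_sup_right (Ideal.mem_span_singleton_self _))))
        obtain ⟨u, hu, v, hv, huv⟩ := Submodule.mem_sup.mp (hlt.symm ▸ htI : t ∈ I' ⊔ Ideal.span {t * r})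
        obtain ⟨s, rfl⟩ := Ideal.mem_span_singleton'.mp hv
        have hu' : IsUnit (1 - s * r) := IsLocalRing.isUnit_one_sub_self_of_mem_nonunits _
          ((IsLocalRing.mem_maximalIdeal _).mp (m.mul_mem_left s hr))
        refine htI' ((Ideal.unit_mul_mem_iff_mem I' hu').mp ?_)
        convert hu using 1
        linear_combination -huv
    have hb : ∀ U : X.affineOpens, ∃ b : Γ(X, U.1),
        X.presheaf.map (homOfLE (le_top : U.1 ≤ ⊤)).op a - φ U.1 t * b ∈ I'.map (φ U.1) := by
      intro U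
      have := ha U
      rw [← hsup, Ideal.map_sup, Ideal.map_span, Set.image_singleton] at this
      obtain ⟨u, hu, v, hv, huv⟩ := Submodule.mem_sup.mp this
      obtain ⟨b, rfl⟩ := Ideal.mem_span_singleton'.mp hv
      refine ⟨b, ?_⟩
      rwa [← huv, mul_comm (φ U.1 t) b, add_sub_cancel_right]
    choose b hb using hb
    have hmap : ∀ {U V : X.Opens} (e : U ≤ V) (y : Γ(X, V)),
        y ∈ I'.map (φ V) → X.presheaf.map (homOfLE e).op y ∈ I'.map (φ U) := by
      intro U V e y hy
      have := Ideal.mem_map_of_mem (X.presheaf.map (homOfLE e).op).hom hy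
      rw [Ideal.map_map] at this
      rwa [show (X.presheaf.map (homOfLE e).op).hom.comp (φ V) = φ U from
        RingHom.ext (hφres e)] at this
    have hkey : ∀ (U V W : X.affineOpens) (e₁ : W.1 ≤ U.1) (e₂ : W.1 ≤ V.1),
        i.app W.1 (X.presheaf.map (homOfLE e₁).op (b U)) =
          i.app W.1 (X.presheaf.map (homOfLE e₂).op (b V)) := by
      intro U V W e₁ e₂
      let _ : Algebra C Γ(X, W.1) := (φ W.1).toAlgebra
      have : Module.Flat C Γ(X, W.1) := hflat W
      have hU := hmap e₁ _ (hb U)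
      have hV := hmap e₂ _ (hb V)
      rw [map_sub, map_mul, hφres] at hU hV
      have hres : ∀ {U : X.Opens} (e : W.1 ≤ U),
          X.presheaf.map (homOfLE e).op (X.presheaf.map (homOfLE (le_top : U ≤ ⊤)).op a) =
            X.presheaf.map (homOfLE (le_top : W.1 ≤ ⊤)).op a := by
        intro U e
        rw [← ConcreteCategory.comp_apply, ← Functor.map_comp]
        rfl
      rw [hres] at hU hV
      have h2 := sub_mem hV hU
      rw [sub_sub_sub_cancel_left, ← mul_sub] at h2
      have h3 := colon Γ(X, W.1) I' t _ h2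
      rw [hcol] at h3
      have h4 : _ ∈ RingHom.ker (i.app W.1).hom := (hker W).symm ▸ h3
      rw [RingHom.mem_ker, map_sub, sub_eq_zero] at h4
      exact h4
    have hcompat : TopCat.Presheaf.IsCompatible X₀.presheaf (fun U : X.affineOpens => i ⁻¹ᵁ U.1)
        (fun U => i.app U.1 (b U)) := by
      intro U V
      refine X₀.sheaf.eq_of_locally_eq' (fun W : {W : X.affineOpens // W.1 ≤ U.1 ⊓ V.1} => i ⁻¹ᵁ W.1.1)
        _ (fun W => homOfLE (i.preimage_mono W.2)) (fun y hy => ?_) _ _ fun W => ?_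
      · obtain ⟨W, hW, hyW, hle⟩ := exists_isAffineOpen_mem_and_subset (x := i y) (U := U.1 ⊓ V.1) hy
        exact TopologicalSpace.Opens.mem_iSup.mpr ⟨⟨⟨W, hW⟩, hle⟩, hyW⟩
      · have e1 := congr($(i.naturality (homOfLE (W.2.trans inf_le_left)).op) (b U))
        have e2 := congr($(i.naturality (homOfLE (W.2.trans inf_le_right)).op) (b V))
        have hc : ∀ {A B : X₀.Opens} (p : i ⁻¹ᵁ W.1.1 ⟶ A) (q' : A ⟶ B) (y : Γ(X₀, B)),
            X₀.presheaf.map p.op (X₀.presheaf.map q'.op y) =
              X₀.presheaf.map (p ≫ q').op y := by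
          intro A B p q' y
          rw [op_comp, Functor.map_comp]
          rfl
        refine (hc _ _ _).trans (Eq.trans ?_ (hc _ _ _).symm)
        exact e1.symm.trans ((hkey U V W.1 _ _).trans e2)
    obtain ⟨β, hβ, -⟩ := X₀.sheaf.existsUnique_gluing' (fun U : X.affineOpens => i ⁻¹ᵁ U.1) ⊤
      (fun U => homOfLE le_top) (fun y _ => by
        obtain ⟨W, hW, hyW, -⟩ := exists_isAffineOpen_mem_and_subset (x := i y) (U := ⊤) trivial
        exact TopologicalSpace.Opens.mem_iSup.mpr ⟨⟨W, hW⟩, hyW⟩) _ hcompat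
    obtain ⟨z, hz⟩ := hψ.2 β
    obtain ⟨c₀, rfl⟩ := Ideal.Quotient.mk_surjective z
    obtain ⟨c₁, hc₁⟩ := ih I' hI' (a - φ ⊤ (t * c₀)) fun U => by
      rw [map_sub, hφres, map_mul]
      let _ : Algebra C Γ(X, U.1) := (φ U.1).toAlgebra
      have h1 : b U - φ U.1 c₀ ∈ m.map (φ U.1) := by
        rw [← hker U, RingHom.mem_ker, map_sub, sub_eq_zero]
        refine (hβ U).symm.trans ?_
        rw [← hz, hi]
        rfl
      have h2 : φ U.1 t * (b U - φ U.1 c₀) ∈ I'.map (φ U.1) := by
        have h2 := Ideal.mul_mem_mul (Ideal.mem_map_of_mem (φ U.1) (Ideal.mem_span_singleton_self t)) h1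
        rw [← Ideal.map_mul] at h2
        refine Ideal.map_mono ?_ h2
        rw [Ideal.span_singleton_mul_le_iff]
        intro r hr
        exact (hcol.symm ▸ hr : r ∈ (Submodule.comap (LinearMap.lsmul C C t) I' : Ideal C))
      convert add_mem (hb U) h2 using 1
      ring
    exact ⟨t * c₀ + c₁, by rw [map_add, hc₁, add_sub_cancel]⟩

end Groth.Agent.S11468
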