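import Groth.Statements.S11470
import Mathlib.Algebra.Polynomial.Reverse
import Mathlib.FieldTheory.RatFunc.AsPolynomial
import Mathlib.RingTheory.Adjoin.Basic

set_option autoImplicit false
universe u
open Curves

namespace Groth.Agent.S11470

open Polynomial
namespace Aux
variable {k : Type u} [Field k]

local notation "x" => (RatFunc.X : RatFunc k)

/-- The denominator. -/
noncomputable abbrev den (k : Type u) [Field k] : k[X] := X ^ 2 * (X - 1) ^ 2

theorem natDegree_den : (den k).natDegree ≤ 4 := by unfold den; compute_degree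

theorem aeval_inj {P Q : k[X]} (h : aeval x P = aeval x Q) : P = Q := by
  simpa [RatFunc.aeval_X_left_eq_algebraMap] using h

/-- Elements of the coordinate ring, with a bound on the pole order at infinity. -/
def Rep (b : RatFunc k) (m : ℕ) (P : k[X]) : Prop :=
  P.natDegree ≤ 6 * m ∧ b * aeval x (den k) ^ m = aeval x P

theorem Rep.mono {b : RatFunc k} {m : ℕ} {P : k[X]} (h : Rep b m P) (d : ℕ) :
    Rep b (m + d) (P * den k ^ d) := by
  refine ⟨?_, ?_⟩
  · refine natDegree_mul_le.trans ?_
    have h1 := natDegree_pow_le (p := den k) (n := d)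
    have h2 := Nat.mul_le_mul_left d (natDegree_den (k := k))
    have h3 := h.1
    omega
  · rw [pow_add, ← mul_assoc, h.2, map_mul (aeval x) P, map_pow (aeval x) (den k)]

theorem exists_rep {b : RatFunc k}
    (hb : b ∈ Algebra.adjoin k ({x, x⁻¹, (x - 1)⁻¹} : Set (RatFunc k))) : ∃ m P, Rep b m P := by
  have hx : x ≠ 0 := RatFunc.X_ne_zero
  have hx1 : x - 1 ≠ 0 := by
    intro h
    have h1 : aeval x (X - 1 : k[X]) = aeval x (0 : k[X]) := by
      rw [map_sub, aeval_X, map_one, map_zero]; exact h
    exact X_sub_C_ne_zero (1 : k) (by simpa using aeval_inj h1)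
  induction hb using Algebra.adjoin_induction with
  | mem y hy =>
    rcases hy with rfl | rfl | rfl
    · exact ⟨1, X * den k, (by unfold den; compute_degree : (X * den k : k[X]).natDegree ≤ 5).trans (by norm_num), by simp⟩
    · refine ⟨1, X * (X - 1) ^ 2, (by compute_degree : (X * (X - 1) ^ 2 : k[X]).natDegree ≤ 3).trans (by norm_num), ?_⟩
      simp only [den, map_mul, map_pow, map_sub, map_one, aeval_X]
      field_simp
    · refine ⟨1, X ^ 2 * (X - 1), (by compute_degree : (X ^ 2 * (X - 1) : k[X]).natDegree ≤ 3).trans (by norm_num), ?_⟩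
      simp only [den, map_mul, map_pow, map_sub, map_one, aeval_X]
      field_simp
  | algebraMap r => exact ⟨0, C r, by simp, by simp⟩
  | add y z _ _ hy hz =>
    obtain ⟨m, P, hP⟩ := hy
    obtain ⟨m', Q, hQ⟩ := hz
    have h1 := hP.mono m'
    have h2 := hQ.mono m
    rw [add_comm m' m] at h2
    exact ⟨m + m', _, (natDegree_add_le _ _).trans (max_le h1.1 h2.1), by
      rw [add_mul, h1.2, h2.2, map_add (aeval x) (P * _)]⟩
  | mul y z _ _ hy hz =>
    obtain ⟨m, P, hP⟩ := hy
    obtain ⟨m', Q, hQ⟩ := hz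
    refine ⟨m + m', P * Q, natDegree_mul_le.trans (by have := hP.1; have := hQ.1; omega), ?_⟩
    rw [pow_add, map_mul (aeval x) P, ← hP.2, ← hQ.2]
    ring

/-- The vanishing of an odd-degree leading coefficient. -/
theorem coeff_eq_zero_of_comp {N : ℕ} (hN : Odd N) (h2 : (2 : k) ≠ 0) {P : k[X]}
    (hdeg : P.natDegree ≤ N) (hP : P.comp (1 - X) = P) : P.coeff N = 0 := by
  rcases hdeg.lt_or_eq with h | h
  · exact coeff_eq_zero_of_natDegree_lt h
  · by_contra hne
    have h1 : (1 - X : k[X]).natDegree = 1 := by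
      rw [show (1 - X : k[X]) = -(X - C 1) by simp, natDegree_neg, natDegree_X_sub_C]
    have h3 : (1 - X : k[X]).leadingCoeff = -1 := by
      rw [show (1 - X : k[X]) = -(X - C 1) by simp, leadingCoeff_neg, leadingCoeff_X_sub_C]
    have h4 := leadingCoeff_comp (p := P) (q := 1 - X) (by omega)
    rw [hP, h, h3, hN.neg_one_pow, mul_neg, mul_one, Polynomial.leadingCoeff, h] at h4
    exact hne ((mul_eq_zero.mp (show (2 : k) * P.coeff N = 0 by linear_combination h4)).resolve_left h2)

end Aux


/-- The algebraic step of its proof: Fix an algebraically closed field k whose characteristic is neither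
2 nor 3, let B ⊆ k(λ) be the k-subalgebra generated by λ, λ⁻¹ and (λ - 1)⁻¹ (the coordinate ring of
the λ-line with 0 and 1 removed), and let σ and τ be the k-algebra automorphisms of k(λ) determined
by σ(λ) = λ⁻¹ and τ(λ) = 1 - λ (they generate the group of order six permuting λ, 1/λ, 1-λ, 1/(1-λ),
λ/(λ-1), (λ-1)/λ). Then the elements of B fixed by σ and τ are exactly the elements of the
k-subalgebra generated by j = 256 (λ² - λ + 1)³ / (λ² (λ - 1)²); in other words the ring of
invariants of B is the polynomial ring k[j]. -/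
theorem result (k : Type u) [Field k] [IsAlgClosed k]
    (h2 : (2 : k) ≠ 0) (h3 : (3 : k) ≠ 0)
    (σ τ : RatFunc k ≃ₐ[k] RatFunc k) (hσ : σ RatFunc.X = (RatFunc.X : RatFunc k)⁻¹)
    (hτ : τ RatFunc.X = 1 - (RatFunc.X : RatFunc k)) (b : RatFunc k) :
    (b ∈ Algebra.adjoin k ({RatFunc.X, (RatFunc.X : RatFunc k)⁻¹, ((RatFunc.X : RatFunc k) - 1)⁻¹} : Set (RatFunc k)) ∧
        σ b = b ∧ τ b = b) ↔
      b ∈ Algebra.adjoin k ({(256 : RatFunc k) * ((RatFunc.X : RatFunc k) ^ 2 - RatFunc.X + 1) ^ 3 /
        ((RatFunc.X : RatFunc k) ^ 2 * ((RatFunc.X : RatFunc k) - 1) ^ 2)} : Set (RatFunc k)) := by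
  have hx : (RatFunc.X : RatFunc k) ≠ 0 := RatFunc.X_ne_zero
  have hx1 : (RatFunc.X : RatFunc k) - 1 ≠ 0 := by
    intro h
    have h1 : aeval (RatFunc.X : RatFunc k) (X - 1 : k[X]) = aeval (RatFunc.X : RatFunc k) (0 : k[X]) := by
      rw [map_sub, aeval_X, map_one, map_zero]; exact h
    exact X_sub_C_ne_zero (1 : k) (by simpa using Aux.aeval_inj h1)
  set x : RatFunc k := RatFunc.X with hxdef
  have h256 : (256 : RatFunc k) ≠ 0 := by
    rw [show (256 : RatFunc k) = algebraMap k (RatFunc k) (2 ^ 8) by rw [map_pow, map_ofNat]; norm_num]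
    exact (_root_.map_ne_zero _).mpr (pow_ne_zero _ h2)
  set j : RatFunc k := 256 * (x ^ 2 - x + 1) ^ 3 / (x ^ 2 * (x - 1) ^ 2) with hj
  set B := Algebra.adjoin k ({x, x⁻¹, (x - 1)⁻¹} : Set (RatFunc k)) with hB
  have hxB : x ∈ B := Algebra.subset_adjoin (by simp)
  have hjB : j ∈ B := by
    have : j = 256 * (x ^ 2 - x + 1) ^ 3 * (x⁻¹) ^ 2 * ((x - 1)⁻¹) ^ 2 := by
      rw [hj]; field_simp
    rw [this]
    refine mul_mem (mul_mem (mul_mem (ofNat_mem B 256) (pow_mem ?_ 3)) (pow_mem ?_ 2)) (pow_mem ?_ 2)
    · exact add_mem (sub_mem (pow_mem hxB 2) hxB) (one_mem _)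
    · exact Algebra.subset_adjoin (by simp)
    · exact Algebra.subset_adjoin (by simp)
  have hσj : σ j = j := by
    rw [hj]
    simp only [map_div₀, map_mul, map_pow, map_sub, map_add, map_one, map_ofNat, hσ]
    rw [div_eq_div_iff]
    · field_simp; ring
    · refine mul_ne_zero (pow_ne_zero _ (inv_ne_zero hx)) (pow_ne_zero _ ?_)
      rw [sub_ne_zero]
      intro h; exact hx1 (by rw [inv_eq_one.mp h, sub_self])
    · exact mul_ne_zero (pow_ne_zero _ hx) (pow_ne_zero _ hx1)
  have hτj : τ j = j := by
    rw [hj]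
    simp only [map_div₀, map_mul, map_pow, map_sub, map_add, map_one, map_ofNat, hτ]
    congr 1 <;> ring
  have fwd : ∀ m : ℕ, ∀ (P : k[X]) (b : RatFunc k), Aux.Rep b m P → σ b = b → τ b = b →
      b ∈ Algebra.adjoin k ({j} : Set (RatFunc k)) := by
    intro m
    induction m with
    | zero =>
      intro P b hP _ _
      have h := hP.2
      rw [pow_zero, mul_one, eq_C_of_natDegree_le_zero (hP.1.trans (by simp)), aeval_C] at h
      rw [h]; exact Subalgebra.algebraMap_mem _ _
    | succ m ih =>
      intro P b hP hσb hτb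
      set c : k := P.coeff 0 / 256 ^ (m + 1) with hc
      let b' := b - algebraMap k (RatFunc k) c * j ^ (m + 1)
      let P' : k[X] := P - C c * (C 256 * (X ^ 2 - X + 1) ^ 3) ^ (m + 1)
      have hP' : Aux.Rep b' (m + 1) P' := by
        refine ⟨(natDegree_sub_le _ _).trans (max_le hP.1 ?_), ?_⟩
        · refine (natDegree_C_mul_le _ _).trans (natDegree_pow_le.trans ?_)
          have : (C (256 : k) * (X ^ 2 - X + 1) ^ 3).natDegree ≤ 6 := by compute_degree
          calc (m + 1) * _ ≤ (m + 1) * 6 := Nat.mul_le_mul_left _ this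
            _ = 6 * (m + 1) := Nat.mul_comm _ _
        · show (b - algebraMap k (RatFunc k) c * j ^ (m + 1)) * _ = _
          rw [sub_mul, hP.2, map_sub, map_mul _ (C c), aeval_C, map_pow, mul_assoc, ← mul_pow]
          congr 3
          rw [hj]
          simp only [Aux.den, map_mul, map_pow, map_sub, map_add, map_one, aeval_X, aeval_C,
            map_ofNat, ← hxdef]
          rw [div_mul_cancel₀ _ (mul_ne_zero (pow_ne_zero _ hx) (pow_ne_zero _ hx1))]
      have hσb' : σ b' = b' := by
        show σ (_ - _) = _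
        rw [map_sub, map_mul, map_pow, hσj, hσb, σ.commutes]
      have hτb' : τ b' = b' := by
        show τ (_ - _) = _
        rw [map_sub, map_mul, map_pow, hτj, hτb, τ.commutes]
      -- the two symmetries of `P'`
      have hsym : P'.comp (1 - X) = P' := by
        refine Aux.aeval_inj ?_
        have h := congrArg τ hP'.2
        rw [map_mul τ, hτb', map_pow τ, ← Polynomial.aeval_algHom_apply,
          ← Polynomial.aeval_algHom_apply, ← hxdef, hτ] at h
        have e : aeval x (1 - X : k[X]) = 1 - x := by rw [map_sub, map_one, aeval_X]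
        rw [← hxdef, aeval_comp, e, ← hP'.2, ← h]
        congr 2
        simp only [Aux.den, map_mul, map_pow, map_sub, map_one, aeval_X]
        ring
      have hrefl : P'.reflect (6 * (m + 1)) = P' := by
        refine Aux.aeval_inj ?_
        have h := congrArg σ hP'.2
        rw [map_mul σ, hσb', map_pow σ, ← Polynomial.aeval_algHom_apply,
          ← Polynomial.aeval_algHom_apply, ← hxdef, hσ] at h
        have hinv : Invertible x := invertibleOfNonzero hx
        have := invertibleOfNonzero (inv_ne_zero hx)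
        have h1 := eval₂_reflect_mul_pow (algebraMap k (RatFunc k)) x⁻¹ (6 * (m + 1)) P' hP'.1
        rw [invOf_eq_inv, inv_inv] at h1
        rw [← hP'.2]
        simp only [← Polynomial.aeval_def] at h1
        rw [← h] at h1
        refine mul_right_cancel₀ (pow_ne_zero (6 * (m + 1)) (inv_ne_zero hx)) ?_
        have key : aeval x⁻¹ (Aux.den k) = aeval x (Aux.den k) * x⁻¹ ^ 6 := by
          simp only [Aux.den, map_mul, map_pow, map_sub, map_one, aeval_X]
          field_simp
          ring
        rw [← hxdef, h1, key, mul_pow, ← pow_mul, mul_assoc]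
      have hrev : ∀ i ≤ 6 * (m + 1), P'.coeff (6 * (m + 1) - i) = P'.coeff i := by
        intro i hi
        conv_rhs => rw [← hrefl, coeff_reflect, revAt_le hi]
      have h0 : P'.coeff 0 = 0 := by
        have : (256 : k) ^ (m + 1) ≠ 0 := by
          rw [show (256 : k) = 2 ^ 8 by norm_num]; exact pow_ne_zero _ (pow_ne_zero _ h2)
        simp only [P', coeff_sub, coeff_zero_eq_eval_zero, eval_mul, eval_C, eval_pow, eval_add,
          eval_sub, eval_X, eval_one]
        rw [hc, coeff_zero_eq_eval_zero]
        field_simp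
        ring
      have htop : P'.coeff (6 * (m + 1)) = 0 := by
        have := hrev 0 (Nat.zero_le _); rw [Nat.sub_zero, h0] at this; exact this
      have hdeg : P'.natDegree ≤ 6 * (m + 1) - 1 := natDegree_le_iff_coeff_eq_zero.mpr fun N hN => by
        rcases eq_or_lt_of_le (show 6 * (m + 1) ≤ N by omega) with rfl | hlt
        · exact htop
        · exact coeff_eq_zero_of_natDegree_lt (lt_of_le_of_lt hP'.1 hlt)
      have hnext : P'.coeff (6 * (m + 1) - 1) = 0 :=
        Aux.coeff_eq_zero_of_comp ⟨3 * (m + 1) - 1, by omega⟩ h2 hdeg hsym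
      have h1c : P'.coeff 1 = 0 := by rw [← hrev 1 (by omega)]; exact hnext
      have hX2 : X ^ 2 ∣ P' := X_pow_dvd_iff.mpr fun d hd => by
        interval_cases d
        · exact h0
        · exact h1c
      have hX12 : (X - 1) ^ 2 ∣ P' := by
        have h := (Polynomial.compRingHom (1 - X : k[X])).map_dvd hX2
        change (X ^ 2 : k[X]).comp (1 - X) ∣ P'.comp (1 - X) at h
        rw [X_pow_comp, hsym] at h
        rwa [show (X - 1 : k[X]) ^ 2 = (1 - X) ^ 2 by ring]
      have hcop : IsCoprime ((X : k[X]) ^ 2) ((X - 1) ^ 2) :=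
        (show IsCoprime (X : k[X]) (X - 1) from ⟨1, -1, by ring⟩).pow
      obtain ⟨Q, hQ⟩ := hcop.mul_dvd hX2 hX12
      have hQdeg : Q.natDegree ≤ 6 * m := by
        rcases eq_or_ne Q 0 with rfl | hQ0
        · simp
        have hd : P'.natDegree ≤ 6 * (m + 1) - 2 := natDegree_le_iff_coeff_eq_zero.mpr fun N hN => by
          rcases eq_or_lt_of_le (show 6 * (m + 1) - 1 ≤ N by omega) with rfl | hlt
          · exact hnext
          · exact coeff_eq_zero_of_natDegree_lt (lt_of_le_of_lt hdeg hlt)
        have h4 : (Aux.den k).natDegree = 4 := by unfold Aux.den; compute_degree!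
        have h5 : Aux.den k ≠ 0 := by
          intro h; rw [h, natDegree_zero] at h4; omega
        have h6 := natDegree_mul h5 hQ0
        rw [← show P' = Aux.den k * Q from hQ] at h6
        omega
      have hb' : Aux.Rep b' m Q := by
        refine ⟨hQdeg, ?_⟩
        have h := hP'.2
        rw [show P' = Aux.den k * Q from hQ, map_mul (aeval RatFunc.X) (Aux.den k) Q, pow_succ, ← mul_assoc] at h
        refine mul_right_cancel₀ ?_ (h.trans (mul_comm _ _))
        simp only [Aux.den, map_mul, map_pow, map_sub, map_one, aeval_X]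
        exact mul_ne_zero (pow_ne_zero _ hx) (pow_ne_zero _ hx1)
      have hmem := ih Q b' hb' hσb' hτb'
      have : b = b' + algebraMap k (RatFunc k) c * j ^ (m + 1) := by simp [b']
      rw [this]
      exact add_mem hmem (mul_mem (Subalgebra.algebraMap_mem _ _)
        (pow_mem (Algebra.subset_adjoin (Set.mem_singleton _)) _))
  constructor
  · rintro ⟨hb, hσb, hτb⟩
    obtain ⟨m, P, hP⟩ := Aux.exists_rep hb
    exact fwd m P b hP hσb hτb
  · intro hb
    induction hb using Algebra.adjoin_induction with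
    | mem y hy => rw [Set.mem_singleton_iff] at hy; subst hy; exact ⟨hjB, hσj, hτj⟩
    | algebraMap r => exact ⟨Subalgebra.algebraMap_mem _ _, σ.commutes r, τ.commutes r⟩
    | add y z _ _ hy hz => exact ⟨add_mem hy.1 hz.1, by rw [map_add, hy.2.1, hz.2.1], by rw [map_add, hy.2.2, hz.2.2]⟩
    | mul y z _ _ hy hz => exact ⟨mul_mem hy.1 hz.1, by rw [map_mul, hy.2.1, hz.2.1], by rw [map_mul, hy.2.2, hz.2.2]⟩

end Groth.Agent.S11470
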