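import Groth.Statements.S11472
import Groth.Agent.Genus0Family.Trivial

set_option autoImplicit false
universe u
open CategoryTheory CategoryTheory.Limits AlgebraicGeometry
open Curves

namespace Groth.Agent.S11472

/-- Let f : X → S be a family of pointed curves of genus zero: f is smooth and proper, every geometric
fibre (base change to an algebraically closed field) is an integral scheme of dimension one with H¹
of its structure sheaf zero, and σ : S → X is a section of f. Then the family is Zariski-locally
trivial: every point of S has an affine open neighbourhood Spec R over which the restricted family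
is R-isomorphic to P¹_R. (The published statement asks only that f be flat with such geometric
fibres, over an arbitrary base; this row assumes f smooth and proper and S locally Noetherian.) -/
theorem result {X S : Scheme.{u}} (f : X ⟶ S) [Smooth f] [IsProper f]
    [IsLocallyNoetherian S]
    (hfib : ∀ (K : Type u) [Field K] [IsAlgClosed K] (x : Spec (CommRingCat.of K) ⟶ S),
      IsIntegral (pullback f x) ∧ topologicalKrullDim ↥(pullback f x) = 1 ∧
        @Curv2.genus K _ (pullback f x) ⟨pullback.snd f x⟩ = 0)
    (σ : S ⟶ X) (hσ : σ ≫ f = 𝟙 S) (s : S) :
    ∃ (R : Type u) (_ : CommRing R) (i : Spec (CommRingCat.of R) ⟶ S), IsOpenImmersion i ∧ s ∈ Set.range i.base ∧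
      ∃ e : pullback f i ≅ CohB1.ProjSpace 1 R, e.hom ≫ CohB1.ProjSpace.toSpec 1 R = pullback.snd f i := by
  exact Genus0Family.exists_local_iso f hfib σ hσ s


end Groth.Agent.S11472
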