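import Groth.Statements.S11473
import Groth.Agent.Genus0Family.Moduli
import Groth.Agent.RatPicProd.Core
import Mathlib.RingTheory.Smooth.Basic

set_option autoImplicit false
universe u
open CategoryTheory CategoryTheory.Limits AlgebraicGeometry
open Curves

namespace Groth.Agent.S11473
open Groth.Agent Groth.Agent.Genus0Family
set_option maxHeartbeats 1000000


/-- Let C be an Artinian local ring whose residue field k is algebraically closed, and let f : X → Spec
C be a family of curves of genus zero: f is smooth and proper and its closed fibre X ×_C k is an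
integral k-scheme of dimension one with H¹(O) = 0 (over the algebraically closed field k this is the
condition on the one geometric fibre). Then the family is trivial: X is C-isomorphic to P¹_C. -/
theorem result (C : Type u) [CommRing C] [IsArtinianRing C] [IsLocalRing C]
    [IsAlgClosed (IsLocalRing.ResidueField C)] {X : Scheme.{u}} (f : X ⟶ Spec (CommRingCat.of C)) [Smooth f] [IsProper f]
    (hint : IsIntegral (pullback f (Spec.map (CommRingCat.ofHom (IsLocalRing.residue C)))))
    (hdim : topologicalKrullDim ↥(pullback f (Spec.map (CommRingCat.ofHom (IsLocalRing.residue C)))) = 1)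
    (hg : @Curv2.genus (IsLocalRing.ResidueField C) _ (pullback f (Spec.map (CommRingCat.ofHom (IsLocalRing.residue C))))
        ⟨pullback.snd f (Spec.map (CommRingCat.ofHom (IsLocalRing.residue C)))⟩ = 0) :
    ∃ e : X ≅ CohB1.ProjSpace 1 C, e.hom ≫ CohB1.ProjSpace.toSpec 1 C = f := by
  let κ := IsLocalRing.ResidueField C
  let j : Spec (CommRingCat.of κ) ⟶ Spec (CommRingCat.of C) := Spec.map (CommRingCat.ofHom (IsLocalRing.residue C))
  let X₀ := pullback f j
  letI : X₀.Over (Spec (CommRingCat.of κ)) := ⟨pullback.snd f j⟩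
  haveI := hint
  haveI : IsProper (X₀ ↘ Spec (CommRingCat.of κ)) := inferInstanceAs (IsProper (pullback.snd f j))
  haveI : GeometricallyIntegral (X₀ ↘ Spec (CommRingCat.of κ)) := RatPicProd.geometricallyIntegral_of_isAlgClosed _
  obtain ⟨e₀, he₀⟩ := S7834.result κ X₀ hdim hg
  have hcurve : ModFun.IsCurveOfGenus 0 (pullback.snd f j) :=
    isCurveOfGenus_of_isPullback (a := e₀.hom) (b := 𝟙 _) (IsPullback.of_horiz_isIso ⟨by
      rw [Category.comp_id]; exact he₀⟩) (isCurveOfGenus_line κ)
  haveI : IsLocallyNoetherian (Spec (CommRingCat.of C)) := inferInstance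
  have hnil : IsNilpotent (IsLocalRing.maximalIdeal C) :=
    (isArtinianRing_iff_isNilpotent_maximalIdeal C).1 inferInstance
  have hfib : ∀ (K : Type u) [Field K] [IsAlgClosed K] (b : Spec (CommRingCat.of K) ⟶ Spec (CommRingCat.of C)),
      IsIntegral (pullback f b) ∧ topologicalKrullDim ↥(pullback f b) = 1 ∧
        @Curv2.genus K _ (pullback f b) ⟨pullback.snd f b⟩ = 0 := by
    intro K _ _ b
    obtain ⟨ψ, rfl⟩ := Spec.map_surjective b
    have hker : ∀ a ∈ IsLocalRing.maximalIdeal C, ψ.hom a = 0 := fun a ha => by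
      have hn : IsNilpotent a := by
        obtain ⟨n, hn⟩ := hnil
        exact ⟨n, by simpa [hn] using Ideal.pow_mem_pow ha n⟩
      exact (hn.map ψ.hom).eq_zero
    let χ : κ →+* K := Ideal.Quotient.lift (IsLocalRing.maximalIdeal C) ψ.hom hker
    have hb : Spec.map ψ = Spec.map (CommRingCat.ofHom χ) ≫ j := by
      rw [← Spec.map_comp]; rfl
    rw [hb]
    let l : pullback f (Spec.map (CommRingCat.ofHom χ) ≫ j) ⟶ pullback f j :=
      pullback.lift (pullback.fst _ _) (pullback.snd _ _ ≫ Spec.map (CommRingCat.ofHom χ))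
        (by rw [pullback.condition, Category.assoc])
    have sq : IsPullback l (pullback.snd f (Spec.map (CommRingCat.ofHom χ) ≫ j)) (pullback.snd f j)
        (Spec.map (CommRingCat.ofHom χ)) :=
      IsPullback.of_right (h₁₂ := pullback.fst f j) (v₁₃ := f) (h₂₂ := j)
        (by rw [pullback.lift_fst]; exact IsPullback.of_hasPullback _ _) (pullback.lift_snd _ _ _)
        (IsPullback.of_hasPullback f j)
    have hc := isCurveOfGenus_of_isPullback sq hcurve
    obtain ⟨h1, h2, h3, h4⟩ := hc
    haveI := h1; haveI := h2; haveI := h3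
    haveI : Subsingleton ↥(Spec (CommRingCat.of K)) := inferInstanceAs (Subsingleton (PrimeSpectrum K))
    haveI : IrreducibleSpace ↥(pullback f (Spec.map (CommRingCat.ofHom χ) ≫ j)) :=
      GeometricallyIrreducible.geometrically_irreducibleSpace
        (f := pullback.snd f (Spec.map (CommRingCat.ofHom χ) ≫ j)) (𝟙 _) (𝟙 _) _ IsPullback.of_id_fst
    haveI : CompactSpace ↥(pullback f (Spec.map (CommRingCat.ofHom χ) ≫ j)) :=
      QuasiCompact.compactSpace_of_compactSpace (pullback.snd f (Spec.map (CommRingCat.ofHom χ) ≫ j))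
    exact ⟨CurveCohLib.isIntegral_of_smooth_connected (k := K) (pullback.snd f (Spec.map (CommRingCat.ofHom χ) ≫ j)),
      h4 K (𝟙 _) _ (𝟙 _) _ IsPullback.of_id_fst⟩
  -- a section lifting a rational point of the closed fibre
  obtain ⟨s₀, hs₀⟩ := CurveEmbed.exists_point 1 κ
  let p : Spec (CommRingCat.of κ) ⟶ X := s₀ ≫ e₀.inv ≫ pullback.fst f j
  have hp : p ≫ f = j := by
    simp only [p, Category.assoc, pullback.condition]
    have he₁ : e₀.inv ≫ pullback.snd f j = CohB1.ProjSpace.toSpec 1 κ := (Iso.inv_comp_eq _).2 he₀.symm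
    rw [← Category.assoc e₀.inv, he₁, ← Category.assoc, hs₀, Category.id_comp]
  let c : ↥(Spec (CommRingCat.of κ)) := (IsLocalRing.closedPoint κ : PrimeSpectrum κ)
  obtain ⟨_, ⟨U, hU, rfl⟩, hxU, -⟩ :=
    X.isBasis_affineOpens.exists_subset_of_mem_open (a := p c) (Set.mem_univ _) isOpen_univ
  haveI : Subsingleton ↥(Spec (CommRingCat.of κ)) := inferInstanceAs (Subsingleton (PrimeSpectrum κ))
  haveI := hU.isOpenImmersion_fromSpec
  let p' := IsOpenImmersion.lift hU.fromSpec p (by
    rintro _ ⟨z, rfl⟩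
    rw [hU.range_fromSpec, Subsingleton.elim z c]
    exact hxU)
  have hp' : p' ≫ hU.fromSpec = p := IsOpenImmersion.lift_fac _ _ _
  obtain ⟨g, hg'⟩ := Spec.map_surjective (hU.fromSpec ≫ f)
  obtain ⟨q, hq⟩ := Spec.map_surjective p'
  letI : Algebra C Γ(X, U) := g.hom.toAlgebra
  have hsm : Smooth (Spec.map g) := by rw [hg']; infer_instance
  haveI : Algebra.Smooth C Γ(X, U) :=
    RingHom.smooth_algebraMap.1 ((HasRingHomProperty.Spec_iff (P := @Smooth)).1 hsm)
  have hgq : g ≫ q = CommRingCat.ofHom (IsLocalRing.residue C) := by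
    apply Spec.map_injective
    rw [Spec.map_comp, hq, hg', ← Category.assoc, hp', hp]
  let π : Γ(X, U) →ₐ[C] C ⧸ IsLocalRing.maximalIdeal C :=
    { q.hom with commutes' := fun a => congr(($hgq).hom a) }
  obtain ⟨ψ, -⟩ := Algebra.FormallySmooth.exists_lift (IsLocalRing.maximalIdeal C)
    hnil π
  let σ : Spec (CommRingCat.of C) ⟶ X := Spec.map (CommRingCat.ofHom ψ.toRingHom) ≫ hU.fromSpec
  have hσ : σ ≫ f = 𝟙 _ := by
    show (Spec.map _ ≫ _) ≫ f = _
    rw [Category.assoc, ← hg', ← Spec.map_comp, ← Spec.map_id]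
    congr 1
    ext a
    exact ψ.commutes a
  obtain ⟨R, _, i, hi, hs, e, he⟩ :=
    exists_local_iso f hfib σ hσ (IsLocalRing.closedPoint C : PrimeSpectrum C)
  haveI := hi
  haveI : Surjective i := ⟨fun y => by
    obtain ⟨z, hz⟩ := hs
    refine ⟨z, hz.trans ?_⟩
    exact (@Subsingleton.elim (PrimeSpectrum C) (inferInstance) _ _)⟩
  haveI : IsIso i := (isIso_iff_isOpenImmersion_and_surjective _).2 ⟨inferInstance, inferInstance⟩
  obtain ⟨gP, hgP⟩ := exists_isPullback_projSpace 1 (B := R) (A := C) i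
  haveI : IsIso gP := hgP.isIso_fst_of_isIso
  refine ⟨(asIso (pullback.fst f i)).symm ≪≫ e ≪≫ asIso gP, ?_⟩
  simp only [Iso.trans_hom, Iso.symm_hom, asIso_hom, asIso_inv, Category.assoc, hgP.w]
  rw [← Category.assoc e.hom, he, IsIso.inv_comp_eq]
  exact pullback.condition.symm


end Groth.Agent.S11473
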