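import Groth.Statements.S15333
import Groth.Agent.Lib.InvEnd
import Groth.Agent.Lib.CurveStable

set_option autoImplicit false
set_option linter.style.haveILetI false
set_option linter.unusedVariables false
universe u
open CategoryTheory CategoryTheory.Limits AlgebraicGeometry
open VBCurve

namespace Groth.Agent.S15333

open Groth.Agent.CurveBundle Groth.Agent.CurveSlope Groth.Agent.CurveStable

/-- Let X be a smooth proper integral curve (integral, smooth and proper of dimension one) over an
algebraically closed field k. Let E and F be finite locally free O_X-modules of ranks r ≥ 1 and s ≥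
1 which are slope-semistable and slope-stable (deg G · r ≤ deg E · r' for every finite locally free
submodule G ⊂ E of rank r' ≥ 1, with strict inequality when r' < r, and likewise for F; degree = χ −
rank·χ(O_X)) and which have the same slope, deg E · s = deg F · r. Then either there is no nonzero
homomorphism E → F or E ≅ F; precisely, every nonzero homomorphism E → F is an isomorphism. -/
theorem result (k : Type u) [Field k] [IsAlgClosed k] (X : Scheme.{u}) [X.Over (Spec (CommRingCat.of k))]
    [IsIntegral X] [IsProper (X ↘ Spec (CommRingCat.of k))] [Smooth (X ↘ Spec (CommRingCat.of k))]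
    (hdim : topologicalKrullDim X = 1)
    (r s : ℕ) (hr : 0 < r) (hs : 0 < s) (E F : X.Modules)
    (hE : FlatMod.IsFinLocFreeOfRank r E) (hF : FlatMod.IsFinLocFreeOfRank s F)
    (hEss : ModFun.IsSlopeSemistable k X E r) (hEst : ModFun.IsSlopeStable k X E r)
    (hFss : ModFun.IsSlopeSemistable k X F s) (hFst : ModFun.IsSlopeStable k X F s)
    (hμ : Curv2.deg k X E r * (s : ℤ) = Curv2.deg k X F s * (r : ℤ))
    (f : E ⟶ F) (hf : f ≠ 0) : IsIso f := by
  have hEf := isFinLocFree_of_rank hE
  have hFf := isFinLocFree_of_rank hF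
  obtain ⟨I, π, j, hj, hπ, hfac, hK, hI, hrk, hdg, hpos, hle⟩ := exists_decomp k hdim.le hEf hFf f
  haveI := hj
  have h2 := dg_mul_le_of_ss k hdim.le hF hFss j (coh_of_free k hI)
  have hr' : (r : ℤ) = (rk (kernel f) : ℤ) + (rk I : ℤ) := by
    exact_mod_cast (rk_eq hE).symm.trans hrk
  rw [rk_eq hE] at hrk
  rw [rk_eq hF] at hle
  have hI0 := hpos hf
  have hK0 : rk (kernel f) = 0 := by
    by_contra hne
    have h1 := hEst (kernel f) _ (kernel.ι f) inferInstance (Nat.pos_of_ne_zero hne)
      (by omega) (isFinLocFreeOfRank_rk hK)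
    rw [deg_eq_dg k hE, deg_eq_dg k (isFinLocFreeOfRank_rk hK)] at h1
    rw [deg_eq_dg k hE, deg_eq_dg k hF] at hμ
    have hge : dg k E * (rk I : ℤ) < dg k I * (r : ℤ) := by
      linear_combination h1 + (r : ℤ) * hdg - (dg k E) * hr'
    have hs' : (0 : ℤ) < s := by exact_mod_cast hs
    have h4 := mul_lt_mul_of_pos_right hge hs'
    have h3 := mul_le_mul_of_nonneg_right h2 (Int.natCast_nonneg r)
    have h5 : dg k E * (s : ℤ) * (rk I : ℤ) = dg k F * (r : ℤ) * (rk I : ℤ) := by rw [hμ]
    linarith
  haveI := isLocallyNoetherian' k (X := X)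
  haveI : Mono f := Preadditive.mono_of_isZero_kernel f (isZero_of_rk_zero hK hK0)
  rcases (show r ≤ s by omega).lt_or_eq with hlt | heq
  · have h1 := hFst E r f inferInstance hr hlt hE
    linarith
  · subst heq
    refine Groth.Agent.CurveBundle.isIso_of_slopes k hdim.le r E F hE hF
      (mul_right_cancel₀ (by exact_mod_cast hr.ne') hμ)
      (fun K J a b i l hi hl ha har hb hbr hKr hJr => ?_) f hf
    linarith [hEst K a i hi ha har hKr, hFst J b l hl hb hbr hJr]

end Groth.Agent.S15333
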