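import Groth.Statements.S11479
import Groth.Agent.H9Misc.LocFreeHomTensor
import Groth.Agent.H23.Chern.DualPull
import Groth.Agent.Synt29.PnEuler
import Groth.Agent.CurveDual.Dual
import Groth.Agent.Pic13Lib.BoundedReg
import Groth.Agent.CohPullX.Semicont
import Groth.Agent.H28.FlatPr
import Groth.Agent.H23.GrassFlag
import Groth.Agent.GeomField.Connected
import Groth.Agent.Lib.CurveStable
import Groth.Agent.S14136
import Groth.Agent.S15333

set_option linter.style.haveILetI false
set_option linter.unusedVariables false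
set_option backward.isDefEq.respectTransparency false
set_option backward.isDefEq.respectTransparency.types false
set_option maxHeartbeats 1000000

set_option autoImplicit false
universe u
open CategoryTheory CategoryTheory.Limits AlgebraicGeometry
open Curves

namespace Groth.Agent.S11479

open Groth.Agent Groth.Agent.SheafHomX Groth.Agent.CurveBundle Groth.Agent.CurveSlope Groth.Agent.CurveStable

/-- The sheaf of homomorphisms `E ⟶ E'`, as a tensor product. -/
noncomputable abbrev homTensor {P : Scheme.{u}} (E E' : P.Modules) : P.Modules :=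
  ((DCoh.tensorBi (X := P)).obj E').obj (SheafHomY.dual E)

theorem isFinLocFree_homTensor {P : Scheme.{u}} {E E' : P.Modules} (hE : FlatMod.IsFinLocFree E)
    (hE' : FlatMod.IsFinLocFree E') : FlatMod.IsFinLocFree (homTensor E E') :=
  KFlatLib.isFinLocFree_tensor hE' (H9Misc.LocFreeHomTensor.isFinLocFree_dual hE)

/-- Maps between the pullbacks are the global sections of the pullback of `homTensor`. -/
theorem hom_subsingleton_iff {k : Type u} [Field k] {X P : Scheme.{u}} [X.Over (Spec (CommRingCat.of k))]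
    (j : X ⟶ P) {r : ℕ} {E E' : P.Modules} (hE : FlatMod.IsFinLocFreeOfRank r E) :
    Subsingleton (Coh.HH X ((Scheme.Modules.pullback j).obj (homTensor E E')) 0) ↔
      Subsingleton ((Scheme.Modules.pullback j).obj E ⟶ (Scheme.Modules.pullback j).obj E') := by
  haveI := H23.Chern.isIso_pullDual hE j
  haveI := KFlatLib.isIso_pullTensorHom (f := j) (M := E') (N := SheafHomY.dual E)
  have hA : FlatMod.IsFinLocFree ((Scheme.Modules.pullback j).obj E) :=
    isFinLocFree_of_rank (H23.GrassFlag.rank_pullback j hE)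
  let e : (Scheme.Modules.pullback j).obj (homTensor E E') ≅
      (hom ((Scheme.Modules.pullback j).obj E)).obj ((Scheme.Modules.pullback j).obj E') :=
    asIso (KFlatLib.pullTensorHom j E' (SheafHomY.dual E)) ≪≫
      ((DCoh.tensorBi (X := X)).obj ((Scheme.Modules.pullback j).obj E')).mapIso
        (asIso (H23.Chern.pullDual E j)) ≪≫
      (SheafHomY.thetaIso hA).app _
  let a := ((CurveDual.homH0 (k := k) ((Scheme.Modules.pullback j).obj (homTensor E E'))).toEquiv.symm.trans
    (Iso.homToEquiv e)).trans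
      (ev ((Scheme.Modules.pullback j).obj E) ((Scheme.Modules.pullback j).obj E')).toEquiv
  exact a.subsingleton_congr

/-- The slice through a rational point is the only one. -/
theorem eq_sliceAt {k : Type u} [Field k] {X T : Scheme.{u}} [X.Over (Spec (CommRingCat.of k))]
    (q : T ⟶ Spec (CommRingCat.of k)) (t : Spec (CommRingCat.of k) ⟶ T) (ht : t ≫ q = 𝟙 _)
    (j : X ⟶ pullback (X ↘ Spec (CommRingCat.of k)) q) (hj : j ≫ pullback.fst _ _ = 𝟙 X)
    (hj' : j ≫ pullback.snd _ _ = (X ↘ Spec (CommRingCat.of k)) ≫ t) : j = Pic13.sliceAt k X q t ht :=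
  pullback.hom_ext (hj.trans (pullback.lift_fst _ _ _).symm) (hj'.trans (pullback.lift_snd _ _ _).symm)

/-- Maps between two slices vanish near a point where they vanish. -/
theorem exists_nhd {k : Type u} [Field k] {X T : Scheme.{u}} [X.Over (Spec (CommRingCat.of k))]
    [IsProper (X ↘ Spec (CommRingCat.of k))] [Flat (X ↘ Spec (CommRingCat.of k))]
    [LocallyOfFinitePresentation (X ↘ Spec (CommRingCat.of k))]
    (q : T ⟶ Spec (CommRingCat.of k)) {r : ℕ} {E E' : (pullback (X ↘ Spec (CommRingCat.of k)) q).Modules}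
    (hE : FlatMod.IsFinLocFreeOfRank r E) (hE' : FlatMod.IsFinLocFreeOfRank r E')
    (t₀ : Spec (CommRingCat.of k) ⟶ T) (ht₀ : t₀ ≫ q = 𝟙 _)
    (h : Subsingleton ((Scheme.Modules.pullback (Pic13.sliceAt k X q t₀ ht₀)).obj E ⟶
      (Scheme.Modules.pullback (Pic13.sliceAt k X q t₀ ht₀)).obj E')) :
    ∃ U : T.Opens, t₀ (IsLocalRing.closedPoint k) ∈ U ∧
      ∀ (t : Spec (CommRingCat.of k) ⟶ T) (ht : t ≫ q = 𝟙 _), t (IsLocalRing.closedPoint k) ∈ U →
        Subsingleton ((Scheme.Modules.pullback (Pic13.sliceAt k X q t ht)).obj E ⟶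
          (Scheme.Modules.pullback (Pic13.sliceAt k X q t ht)).obj E') := by
  haveI := KFlatLib.hasInjectiveResolutions_modules (X := pullback (X ↘ Spec (CommRingCat.of k)) q)
  have hM := isFinLocFree_homTensor (isFinLocFree_of_rank hE) (isFinLocFree_of_rank hE')
  have hfp := QCoh.isFP_of_isFinLocFree hM
  have hqc := QCoh.isQCoh_of_isFinLocFree hM
  have hfl := H28.FlatPr.isFlatOver_of_isFinLocFree (pullback.snd (X ↘ Spec (CommRingCat.of k)) q) hM
  have h0 := Pic13Lib.subsingleton_fiberH_point q t₀ ht₀ _ hqc 0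
    ((hom_subsingleton_iff (k := k) (Pic13.sliceAt k X q t₀ ht₀) hE).2 h)
  obtain ⟨U, hU, hU'⟩ := CohPullX.exists_subsingleton_fiberH_nhd hfp hfl _ 0 h0
  exact ⟨U, hU, fun t ht htU => (hom_subsingleton_iff (k := k) (Pic13.sliceAt k X q t ht) hE).1
    (Pic13Lib.subsingleton_slice_of_fiberH q t ht _ hqc 0 (hU' _ htU))⟩

/-- A nonempty open subset of a curve has a rational point other than a given one. -/
theorem exists_point_ne {k : Type u} [Field k] [IsAlgClosed k] {T : Scheme.{u}} [IrreducibleSpace T]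
    (q : T ⟶ Spec (CommRingCat.of k)) [LocallyOfFiniteType q] (hT : topologicalKrullDim T = 1)
    (U : T.Opens) (t₀ : Spec (CommRingCat.of k) ⟶ T) (ht₀ : t₀ ≫ q = 𝟙 _)
    (hU : t₀ (IsLocalRing.closedPoint k) ∈ U) :
    ∃ t : Spec (CommRingCat.of k) ⟶ T, t ≫ q = 𝟙 _ ∧ t ≠ t₀ ∧ t (IsLocalRing.closedPoint k) ∈ U := by
  haveI : JacobsonSpace T := LocallyOfFiniteType.jacobsonSpace q
  let p := t₀ (IsLocalRing.closedPoint k)
  have hp : IsClosed ({p} : Set T) := ((pointEquivClosedPoint q) ⟨t₀, ht₀⟩).2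
  by_contra hc
  push Not at hc
  have hUp : (U : Set T) ∩ {p}ᶜ = ∅ := by
    by_contra hne
    obtain ⟨x, hx, hxc⟩ := nonempty_inter_closedPoints (X := T) (Set.nonempty_iff_ne_empty.2 hne)
      (U.isOpen.inter hp.isOpen_compl).isLocallyClosed
    refine hx.2 ?_
    have h2 := hc (pointOfClosedPoint q x hxc) (pointOfClosedPoint_comp q x hxc) (fun he => hx.2 (by
      rw [Set.mem_singleton_iff, ← pointOfClosedPoint_apply q x hxc (IsLocalRing.closedPoint k), he]))
    rw [pointOfClosedPoint_apply] at h2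
    exact absurd hx.1 h2
  have hopen : IsOpen ({p} : Set T) := by
    have : (U : Set T) = {p} := Set.eq_singleton_iff_unique_mem.2 ⟨hU, fun x hx => by
      by_contra hxp
      exact (Set.eq_empty_iff_forall_notMem.1 hUp x) ⟨hx, hxp⟩⟩
    rw [← this]
    exact U.isOpen
  have huniv : ({p} : Set T) = Set.univ := by
    rw [← hp.closure_eq]
    exact (hopen.dense ⟨p, rfl⟩).closure_eq
  haveI : Subsingleton T := Set.subsingleton_univ_iff.1 (huniv ▸ Set.subsingleton_singleton)
  haveI : Nonempty T := ⟨p⟩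
  haveI : Subsingleton (TopologicalSpace.IrreducibleCloseds T) := ⟨fun a b => TopologicalSpace.IrreducibleCloseds.ext <| by
    obtain ⟨x, hx⟩ := a.isIrreducible.nonempty
    obtain ⟨y, hy⟩ := b.isIrreducible.nonempty
    ext z
    exact ⟨fun _ => Subsingleton.elim y z ▸ hy, fun _ => Subsingleton.elim x z ▸ hx⟩⟩
  have h0 : topologicalKrullDim T ≤ 0 := Order.krullDim_nonpos_of_subsingleton
  rw [hT] at h0
  exact absurd h0 (by norm_num)

/-- A stable bundle is semistable. -/
theorem semistable_of_stable (k : Type u) [Field k] {X : Scheme.{u}} [X.Over (Spec (CommRingCat.of k))]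
    [IsIntegral X] [IsProper (X ↘ Spec (CommRingCat.of k))] [Smooth (X ↘ Spec (CommRingCat.of k))] (hdim : topologicalKrullDim X ≤ 1)
    {E : X.Modules} {r : ℕ} (hE : FlatMod.IsFinLocFreeOfRank r E) (h : ModFun.IsSlopeStable k X E r) :
    ModFun.IsSlopeSemistable k X E r := by
  intro F r' i hi hr' hF
  haveI := hi
  have hEc := coh_of_free k (isFinLocFree_of_rank hE)
  have hFc := coh_of_free k (isFinLocFree_of_rank hF)
  have hle := rk_le_of_mono k i hEc
  rw [rk_eq hE, rk_eq hF] at hle
  rcases hle.lt_or_eq with hlt | rfl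
  · exact (h F r' i hi hr' hlt hF).le
  · rw [deg_eq_dg k hF, deg_eq_dg k hE]
    refine mul_le_mul_of_nonneg_right ?_ (Int.natCast_nonneg _)
    by_cases hiso : IsIso i
    · exact le_of_eq (dg_congr k (asIso i))
    · exact (dg_lt_of_rk_eq k hdim i hFc hEc (by rw [rk_eq hE, rk_eq hF]) hiso).le

/-- Let X be a nonsingular projective curve over an algebraically closed field k (smooth, proper,
integral, of dimension one), T a nonsingular integral curve over k and t₀ a k-point of T. Let E and
E' be locally free sheaves of rank r on X ×_k T, and for a k-point t of T write E_t for the pullback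
of E along the fibre inclusion X → X ×_k T at t. Suppose E_t ≅ E'_t for every k-point t ≠ t₀, and
that E_{t₀} and E'_{t₀} are both stable: every locally free subsheaf G of rank s, 0 < s < r,
satisfies deg G / s < deg / r (written cross-multiplied, degrees computed as χ(G) − s·χ(O_X)). Then
E_{t₀} ≅ E'_{t₀} (existence of an isomorphism). -/
theorem result (k : Type u) [Field k] [IsAlgClosed k] (X : Scheme.{u})
    [X.Over (Spec (CommRingCat.of k))] (hX : Curve.IsSmoothProperCurve k X (X ↘ Spec (CommRingCat.of k)))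
    (T : Scheme.{u}) [T.Over (Spec (CommRingCat.of k))] [IsIntegral T] [Smooth (T ↘ Spec (CommRingCat.of k))]
    (hT : topologicalKrullDim T = 1) (t₀ : Spec (CommRingCat.of k) ⟶ T) (ht₀ : t₀ ≫ (T ↘ Spec (CommRingCat.of k)) = 𝟙 _)
    (r : ℕ) (E E' : (pullback (X ↘ Spec (CommRingCat.of k)) (T ↘ Spec (CommRingCat.of k))).Modules)
    (hE : FlatMod.IsFinLocFreeOfRank r E) (hE' : FlatMod.IsFinLocFreeOfRank r E')
    (hiso : ∀ (t : Spec (CommRingCat.of k) ⟶ T) (j : X ⟶ pullback (X ↘ Spec (CommRingCat.of k)) (T ↘ Spec (CommRingCat.of k))),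
      t ≫ (T ↘ Spec (CommRingCat.of k)) = 𝟙 _ → t ≠ t₀ → j ≫ pullback.fst _ _ = 𝟙 X →
      j ≫ pullback.snd _ _ = (X ↘ Spec (CommRingCat.of k)) ≫ t →
      Nonempty ((Scheme.Modules.pullback j).obj E ≅ (Scheme.Modules.pullback j).obj E'))
    (j₀ : X ⟶ pullback (X ↘ Spec (CommRingCat.of k)) (T ↘ Spec (CommRingCat.of k)))
    (hj₀ : j₀ ≫ pullback.fst _ _ = 𝟙 X) (hj₀' : j₀ ≫ pullback.snd _ _ = (X ↘ Spec (CommRingCat.of k)) ≫ t₀)
    (hst : (∀ (G : X.Modules) (s : ℕ) (ι : G ⟶ ((Scheme.Modules.pullback j₀).obj E)), Mono ι →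
        FlatMod.IsFinLocFreeOfRank s G → 0 < s → s < r → Curv2.deg k X G s * (r : ℤ) < Curv2.deg k X ((Scheme.Modules.pullback j₀).obj E) r * (s : ℤ)))
    (hst' : (∀ (G : X.Modules) (s : ℕ) (ι : G ⟶ ((Scheme.Modules.pullback j₀).obj E')), Mono ι →
        FlatMod.IsFinLocFreeOfRank s G → 0 < s → s < r → Curv2.deg k X G s * (r : ℤ) < Curv2.deg k X ((Scheme.Modules.pullback j₀).obj E') r * (s : ℤ))) :
    Nonempty ((Scheme.Modules.pullback j₀).obj E ≅ (Scheme.Modules.pullback j₀).obj E') := by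
  obtain ⟨hXp, hXs, hXi, hXd⟩ := hX
  haveI := hXp
  haveI := hXs
  haveI := hXi
  haveI : GeometricallyConnected (X ↘ Spec (CommRingCat.of k)) :=
    GeomField.geometricallyConnected_of_separableClosure (GeomField.connectedSpace_bc_of_isSepClosed _)
  let q := T ↘ Spec (CommRingCat.of k)
  have hE0 := H23.GrassFlag.rank_pullback j₀ hE
  have hE0' := H23.GrassFlag.rank_pullback j₀ hE'
  rcases Nat.eq_zero_or_pos r with hr | hr
  · haveI := isLocallyNoetherian' k (X := X)
    have z := fun {M : X.Modules} (hM : FlatMod.IsFinLocFreeOfRank r M) =>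
      isZero_of_rk_zero (isFinLocFree_of_rank hM) (by rw [rk_eq hM, hr])
    exact ⟨(z hE0).iso (z hE0')⟩
  have hstA : ModFun.IsSlopeStable k X ((Scheme.Modules.pullback j₀).obj E) r :=
    fun F r' i hi h1 h2 hF => hst F r' i hi hF h1 h2
  have hstF : ModFun.IsSlopeStable k X ((Scheme.Modules.pullback j₀).obj E') r :=
    fun F r' i hi h1 h2 hF => hst' F r' i hi hF h1 h2
  have hssA := semistable_of_stable k hXd.le hE0 hstA
  have hssF := semistable_of_stable k hXd.le hE0' hstF
  have hj₀e := eq_sliceAt q t₀ ht₀ j₀ hj₀ hj₀'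
  have key : ∀ (A B : (pullback (X ↘ Spec (CommRingCat.of k)) q).Modules),
      FlatMod.IsFinLocFreeOfRank r A → FlatMod.IsFinLocFreeOfRank r B →
      (∀ (t : Spec (CommRingCat.of k) ⟶ T) (j : X ⟶ pullback (X ↘ Spec (CommRingCat.of k)) q),
        t ≫ q = 𝟙 _ → t ≠ t₀ → j ≫ pullback.fst _ _ = 𝟙 X →
        j ≫ pullback.snd _ _ = (X ↘ Spec (CommRingCat.of k)) ≫ t →
        Nonempty ((Scheme.Modules.pullback j).obj A ≅ (Scheme.Modules.pullback j).obj B)) →
      ∃ f : (Scheme.Modules.pullback j₀).obj A ⟶ (Scheme.Modules.pullback j₀).obj B, f ≠ 0 := by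
    intro A B hA hB hAB
    by_contra hall
    push Not at hall
    obtain ⟨U, hU, hU'⟩ := exists_nhd q hA hB t₀ ht₀ (by
      rw [← hj₀e]
      exact ⟨fun f g => (hall f).trans (hall g).symm⟩)
    obtain ⟨t, ht, hne, htU⟩ := exists_point_ne q hT U t₀ ht₀ hU
    obtain ⟨e⟩ := hAB t (Pic13.sliceAt k X q t ht) ht hne (pullback.lift_fst _ _ _) (pullback.lift_snd _ _ _)
    haveI := hU' t ht htU
    have hz : IsZero ((Scheme.Modules.pullback (Pic13.sliceAt k X q t ht)).obj A) :=
      (IsZero.iff_id_eq_zero _).2 (by rw [← e.hom_inv_id, Subsingleton.elim e.hom 0, zero_comp])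
    have h0 := rk_eq_zero_of_isZero hz
    rw [rk_eq (H23.GrassFlag.rank_pullback _ hA)] at h0
    omega
  obtain ⟨f, hf⟩ := key E E' hE hE' hiso
  obtain ⟨g, hg⟩ := key E' E hE' hE (fun t j a b c d => (hiso t j a b c d).map Iso.symm)
  have hμ : Curv2.deg k X ((Scheme.Modules.pullback j₀).obj E) r * (r : ℤ) =
      Curv2.deg k X ((Scheme.Modules.pullback j₀).obj E') r * (r : ℤ) := by
    rcases lt_trichotomy (Curv2.deg k X ((Scheme.Modules.pullback j₀).obj E) r * (r : ℤ))
      (Curv2.deg k X ((Scheme.Modules.pullback j₀).obj E') r * (r : ℤ)) with h | h | h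
    · exact absurd (S14136.result k X hXd r r hr hr _ _ hE0' hE0 hssF hssA h g) hg
    · exact h
    · exact absurd (S14136.result k X hXd r r hr hr _ _ hE0 hE0' hssA hssF h f) hf
  haveI := S15333.result k X hXd r r hr hr _ _ hE0 hE0' hssA hstA hssF hstF hμ f hf
  exact ⟨asIso f⟩

end Groth.Agent.S11479
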