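import Groth.Statements.S1148
import Mathlib.RingTheory.FiniteStability
import Mathlib.RingTheory.Ideal.GoingDown
import Mathlib.RingTheory.Spectrum.Prime.Topology
import Mathlib.RingTheory.LocalRing.ResidueField.Fiber
import Mathlib.RingTheory.Ideal.MinimalPrime.Noetherian
import Mathlib.RingTheory.FiniteType

set_option autoImplicit false
set_option backward.isDefEq.respectTransparency false
set_option backward.isDefEq.respectTransparency.types false
universe u
open Desc

namespace Groth.Agent.S1148

/-- Affine form (finiteness of irreducible components of quasi-compact opens is fppf local; this is the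
ascent direction for a morphism of affine schemes). Let A → B be a flat ring map of finite
presentation. If Spec A has finitely many irreducible components, then so does Spec B. -/
theorem result (A B : Type u) [CommRing A] [CommRing B] [Algebra A B]
    [Module.Flat A B] [Algebra.FinitePresentation A B] (h : (irreducibleComponents (PrimeSpectrum A)).Finite) :
    (irreducibleComponents (PrimeSpectrum B)).Finite := by
  have hA : (minimalPrimes A).Finite := by
    haveI : Finite (irreducibleComponents (PrimeSpectrum A)) := h.to_subtype
    exact Set.finite_coe_iff.1 (Finite.of_equiv _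
      ((minimalPrimes.equivIrreducibleComponents A).toEquiv.trans OrderDual.ofDual).symm)
  suffices hB : (minimalPrimes B).Finite by
    haveI : Finite (minimalPrimes B) := hB.to_subtype
    exact Set.finite_coe_iff.1 (Finite.of_equiv _
      ((minimalPrimes.equivIrreducibleComponents B).toEquiv.trans OrderDual.ofDual))
  have hfib : ∀ p : Ideal A, {Q ∈ minimalPrimes B | Q.under A = p}.Finite := by
    intro p
    by_cases hp : p.IsPrime
    swap
    · refine Set.Finite.subset Set.finite_empty fun Q hQ => (hp ?_).elim
      haveI := Ideal.minimalPrimes_isPrime hQ.1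
      rw [← hQ.2]; infer_instance
    haveI := hp
    let e := PrimeSpectrum.primesOverOrderIsoFiber A B p
    haveI : Algebra.FiniteType A B := inferInstance
    haveI : Algebra.FiniteType p.ResidueField (p.Fiber B) :=
      inferInstanceAs (Algebra.FiniteType p.ResidueField (TensorProduct A p.ResidueField B))
    haveI : IsNoetherianRing (p.Fiber B) := Algebra.FiniteType.isNoetherianRing p.ResidueField (p.Fiber B)
    have hmem : ∀ Q ∈ {Q ∈ minimalPrimes B | Q.under A = p}, Q ∈ p.primesOver B := fun Q hQ =>
      ⟨Ideal.minimalPrimes_isPrime hQ.1, ⟨hQ.2.symm⟩⟩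
    let F : {Q ∈ minimalPrimes B | Q.under A = p} → PrimeSpectrum (p.Fiber B) := fun Q => e ⟨Q.1, hmem _ Q.2⟩
    have hF : Set.range F ⊆ PrimeSpectrum.asIdeal ⁻¹' minimalPrimes (p.Fiber B) := by
      rintro _ ⟨Q, rfl⟩
      refine ⟨⟨(F Q).2, bot_le⟩, fun q hq hle => ?_⟩
      let y : PrimeSpectrum (p.Fiber B) := ⟨q, hq.1⟩
      have hy : e.symm y ≤ ⟨Q.1, hmem _ Q.2⟩ := e.symm_apply_le.2 hle
      have heq : (e.symm y).1 = Q.1 := le_antisymm hy (Q.2.1.2 ⟨(e.symm y).2.1, bot_le⟩ hy)
      have : y = F Q := by
        rw [← e.apply_symm_apply y]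
        exact congrArg e (Subtype.ext heq)
      exact (congrArg PrimeSpectrum.asIdeal this).ge
    have hfin : (Set.range F).Finite :=
      (Set.Finite.preimage (fun _ _ _ _ h => PrimeSpectrum.ext h)
        (minimalPrimes.finite_of_isNoetherianRing (p.Fiber B))).subset hF
    haveI : Finite (Set.range F) := hfin.to_subtype
    have hinj : Function.Injective F := fun a b hab => by
      have := congrArg Subtype.val (e.injective hab)
      exact Subtype.ext this
    exact Set.finite_coe_iff.1 (Finite.of_injective (fun a => (⟨F a, a, rfl⟩ : Set.range F))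
      fun a b hab => hinj (congrArg Subtype.val hab))
  refine (hA.biUnion fun p _ => hfib p).subset fun Q hQ => ?_
  haveI := Ideal.minimalPrimes_isPrime hQ
  refine Set.mem_biUnion (x := Q.under A) ⟨⟨inferInstance, bot_le⟩, fun p hp hle => ?_⟩ ⟨hQ, rfl⟩
  haveI := hp.1
  obtain ⟨Q', hQ'le, hQ'p, hQ'o⟩ := Ideal.exists_ideal_le_liesOver_of_le (p := p) (q := Q.under A) Q hle
  rw [hQ'o.over, le_antisymm hQ'le (hQ.2 ⟨hQ'p, bot_le⟩ hQ'le)]

end Groth.Agent.S1148
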