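import Groth.Statements.S11482
import Groth.Agent.CurveCohLib.RankTwo
-- import your own Groth.Agent.* helpers here

set_option autoImplicit false
universe u
open CategoryTheory CategoryTheory.Limits AlgebraicGeometry
open Curves

namespace Groth.Agent.S11482

/-- Fix an algebraically closed field k and a nonsingular projective curve X over k of genus g (smooth,
proper, integral, of dimension one, g = dim H¹(X, O_X)) and E a locally free sheaf of rank 2 and
degree d (degree = χ(E) − 2χ(O_X)) that is indecomposable: in any decomposition E ≅ E₁ ⊕ E₂ one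
summand is zero. Then (a) every invertible subsheaf L ⊆ E has 2·deg L ≤ d + 2g − 2, and (b) there is
an invertible subsheaf L ⊆ E with d − 2g ≤ 2·deg L. (The published statement is that indecomposable
bundles of fixed rank and degree form a bounded family; this row states, in rank two, the degree
bounds for invertible subsheaves on which its proof rests.) -/
theorem result (k : Type u) [Field k] [IsAlgClosed k]
    (X : Scheme.{u}) [X.Over (Spec (CommRingCat.of k))] (hX : Curve.IsSmoothProperCurve k X (X ↘ Spec (CommRingCat.of k)))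
    (E : X.Modules) (hE : FlatMod.IsFinLocFreeOfRank 2 E)
    (hind : ∀ (E₁ E₂ : X.Modules), Nonempty (E ≅ E₁ ⊞ E₂) → IsZero E₁ ∨ IsZero E₂) :
    (∀ (L : X.Modules) (ι : L ⟶ E), PicF.IsInvertible L → Mono ι →
        2 * Curv2.deg k X L 1 ≤ Curv2.deg k X E 2 + 2 * (Curv2.genus k X : ℤ) - 2) ∧
      ∃ (L : X.Modules) (ι : L ⟶ E), PicF.IsInvertible L ∧ Mono ι ∧
        Curv2.deg k X E 2 - 2 * (Curv2.genus k X : ℤ) ≤ 2 * Curv2.deg k X L 1 := by
  obtain ⟨hp, hs, hi, hdim⟩ := hX
  haveI := hp
  haveI := hs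
  haveI := hi
  haveI := Groth.Agent.CurveCohLib.isNoetherian_of_proper (k := k) (X := X)
  have hEf := Groth.Agent.CurveStable.isFinLocFree_of_rank hE
  have hEc := Groth.Agent.CurveStable.coh_of_free k hEf
  refine ⟨fun L ι hL hι => ?_, ?_⟩
  · haveI := hι
    have hL1 := Groth.Agent.InvEnd.isFinLocFreeOfRank_one hL
    obtain ⟨G, j, hj, hG, hr, hmax⟩ := Groth.Agent.CurveStable.exists_max_sub k hdim.le hEf (a := 1)
      ⟨L, ι, hι, Groth.Agent.CurveStable.isFinLocFree_of_rank hL1, Groth.Agent.CurveBundle.rk_eq hL1⟩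
    haveI := hj
    have hGc := Groth.Agent.CurveStable.coh_of_free k hG
    have hQc : Coh.IsCoh (cokernel j) := Groth.Agent.QCoh.isCoh_cokernel hGc.1 hEc j
    have hS := Groth.Agent.CurveSlope.shortExact_cokernel_of_mono j
    have hQ := Groth.Agent.CurveSlope.isFinLocFree_of_max k hdim.le j (cokernel.π j) _ hS hGc hEf hQc
      fun F g hg hF hrF => hmax F g hg hF (hrF.trans hr)
    have hr2 := Groth.Agent.CurveSlope.rk_add_coh k _ _ _ hS hEc
    rw [Groth.Agent.CurveBundle.rk_eq hE, hr] at hr2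
    have hG1 : PicF.IsInvertible G :=
      Groth.Agent.CurveDuality.isInvertible_of_rank_one (hr ▸ Groth.Agent.CurveBundle.isFinLocFreeOfRank_rk hG)
    have hQi : PicF.IsInvertible (cokernel j) :=
      Groth.Agent.CurveDuality.isInvertible_of_rank_one
        ((show Groth.Agent.CurveBundle.rk (cokernel j) = 1 by omega) ▸ Groth.Agent.CurveBundle.isFinLocFreeOfRank_rk hQ)
    have hd := Groth.Agent.CurveSlope.dg_add k _ _ _ hS hGc hEc hQc
    rw [Groth.Agent.CurveCohLib.RankTwo.dg_eq_deg k hG1, Groth.Agent.CurveCohLib.RankTwo.dg_eq_deg k hQi,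
      ← Groth.Agent.CurveSlope.deg_eq_dg k hE] at hd
    have hle := hmax L ι hι (Groth.Agent.CurveStable.isFinLocFree_of_rank hL1) (Groth.Agent.CurveBundle.rk_eq hL1)
    rw [Groth.Agent.CurveCohLib.RankTwo.dg_eq_deg k hL, Groth.Agent.CurveCohLib.RankTwo.dg_eq_deg k hG1] at hle
    by_contra hgt
    obtain ⟨e⟩ := Groth.Agent.CurveCohLib.RankTwo.nonempty_iso_biprod k hdim hG1 j hQi (by omega)
    rcases hind _ _ ⟨e⟩ with h | h
    · have := Groth.Agent.CurveSlope.rk_eq_zero_of_isZero h
      omega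
    · have := Groth.Agent.CurveSlope.rk_eq_zero_of_isZero h
      omega
  · obtain ⟨L, hL, hdL⟩ := Groth.Agent.CurveCohLib.RankTwo.exists_deg_eq k (X := X) hdim
      ((Curv2.deg k X E 2 + 1 - 2 * (Curv2.genus k X : ℤ)) / 2)
    obtain ⟨D, hD, hdD, ⟨e⟩⟩ := Groth.Agent.CurveDuality.exists_inverse_deg k hdim hL
    haveI := Groth.Agent.CurveCohLib.RankTwo.exists_section_of_euler k hdim
      (Groth.Agent.CurveTensor.isCoh_tensor hEf (Groth.Agent.CurveDeg.isCoh_of_isInvertible hD))
      (by rw [Groth.Agent.CurveCohLib.RankTwo.euler_twist_two k hdim hE hD]; omega)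
    obtain ⟨t, ht⟩ := exists_ne (0 : Coh.HH X ((DCoh.tensorBi.obj E).obj D) 0)
    have hτ := Groth.Agent.CurveSpecial.homOfClass_ne_zero ht
    let φ : L ⟶ E := (Groth.Agent.KFlatLib.tensorUnitIso L).inv ≫
      (DCoh.tensorBi.obj L).map (Groth.Agent.CurveSpecial.homOfClass t ≫ (Groth.Agent.CurveTensor.commIso E D).hom) ≫
      (Groth.Agent.CurveRR.cancelIso e).hom.app E
    have hφ : φ ≠ 0 := by
      intro h0
      refine hτ ?_
      rw [← cancel_mono (Groth.Agent.CurveTensor.commIso E D).hom, Limits.zero_comp]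
      refine Groth.Agent.CurveRR.eq_zero_of_map_eq_zero (Groth.Agent.CurveTensor.commIso D L ≪≫ e) _ ?_
      rw [← cancel_epi (Groth.Agent.KFlatLib.tensorUnitIso L).inv,
        ← cancel_mono ((Groth.Agent.CurveRR.cancelIso e).hom.app E), Limits.comp_zero, Limits.zero_comp, Category.assoc]
      exact h0
    have hL1 := Groth.Agent.InvEnd.isFinLocFreeOfRank_one hL
    refine ⟨L, φ, hL, Groth.Agent.CurveSection.mono_of_ne_zero k hdim.le
      (Groth.Agent.CurveStable.isFinLocFree_of_rank hL1) (Groth.Agent.CurveBundle.rk_eq hL1) hEf φ hφ, ?_⟩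
    rw [hdL]
    omega

end Groth.Agent.S11482
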