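import Groth.Statements.S11484
import Groth.Agent.Lib.PnDualExtPn
import Groth.Agent.Lib.PnDualTwistAdj
import Groth.Agent.Lib.ProjRegularPn
import Groth.Agent.S0844
import Mathlib.Algebra.Homology.DerivedCategory.Ext.ExactSequences

set_option autoImplicit false
set_option backward.isDefEq.respectTransparency false
set_option backward.isDefEq.respectTransparency.types false
set_option linter.style.haveILetI false
set_option linter.unusedSectionVars false
set_option maxHeartbeats 400000
universe u
open VBPn

namespace Groth.Agent.S11484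

open CategoryTheory CategoryTheory.Limits AlgebraicGeometry CategoryTheory.Abelian Groth.Agent.ProjRegular Groth.Agent.PnCoh.Finite

theorem splitting_of_ext {C : Type (u+1)} [Category.{u} C] [Abelian C] [HasExt.{u} C] {S : ShortComplex C}
    (hS : S.ShortExact) (h : Subsingleton (Ext.{u} S.X₃ S.X₁ 1)) : Nonempty S.Splitting := by
  obtain ⟨y, hy⟩ := Ext.covariant_sequence_exact₃ S.X₃ hS (Ext.mk₀ (𝟙 S.X₃)) (zero_add 1) (h.elim _ _)
  obtain ⟨s, rfl⟩ := (Ext.mk₀_bijective S.X₃ S.X₂).2 y
  rw [Ext.mk₀_comp_mk₀] at hy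
  haveI := hS.mono_f
  exact ⟨ShortComplex.Splitting.ofExactOfSection S hS.exact s ((Ext.mk₀_bijective _ _).1 hy) inferInstance⟩

theorem ext_one (k : Type u) [Field k] (n : ℕ) (hn : 2 ≤ n) (a b : ℤ)
    [HasExt.{u} (Proj (CohB1.polyGrading n k)).Modules] :
    Subsingleton (Ext.{u} (Twist.twist (CohB1.polyGrading n k) b) (Twist.twist (CohB1.polyGrading n k) a) 1) :=
  PnDual.subsingleton_ext_twist (coords k n) coords_mem coords_cover b a 1
    (S0844.result k n (a - b) 1 (fun h => by omega) (fun h => by omega))

theorem main (k : Type u) [Field k] (n : ℕ) (hn : 2 ≤ n) (a b : ℤ)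
    (S : ShortComplex (Proj (CohB1.polyGrading n k)).Modules) (hS : S.ShortExact)
    (ha : Nonempty (S.X₁ ≅ Twist.twist (CohB1.polyGrading n k) a))
    (hb : Nonempty (S.X₃ ≅ Twist.twist (CohB1.polyGrading n k) b)) : Nonempty S.Splitting := by
  haveI : HasExt.{u} (Proj (CohB1.polyGrading n k)).Modules :=
    haveI : IsGrothendieckAbelian.{u} (Proj (CohB1.polyGrading n k)).Modules :=
      inferInstanceAs (IsGrothendieckAbelian.{u} (SheafOfModules.{u} (Proj (CohB1.polyGrading n k)).ringCatSheaf))
    IsGrothendieckAbelian.hasExt _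
  obtain ⟨α⟩ := ha
  obtain ⟨β⟩ := hb
  haveI := ext_one k n hn a b
  refine splitting_of_ext hS (subsingleton_of_forall_eq 0 fun x => ?_)
  have h : ((Ext.mk₀ β.inv).comp x (zero_add 1)).comp (Ext.mk₀ α.hom) (add_zero 1) = 0 := Subsingleton.elim _ _
  have h2 := congrArg (fun z => ((Ext.mk₀ β.hom).comp z (zero_add 1)).comp (Ext.mk₀ α.inv) (add_zero 1)) h
  simpa using h2

open CategoryTheory CategoryTheory.Limits AlgebraicGeometry in
/-- Let k be an algebraically closed field of characteristic zero and n ≥ 2. On P^n_k every short exact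
sequence of O-modules whose first term is isomorphic to O(a) and whose third term is isomorphic to
O(b), for integers a and b, admits a splitting; in particular its middle term is isomorphic to O(a)
⊕ O(b). -/
theorem result (k : Type u) [Field k] [IsAlgClosed k] [CharZero k]
    (n : ℕ) (hn : 2 ≤ n) (a b : ℤ) (S : ShortComplex (CohB1.ProjSpace n k).Modules) (hS : S.ShortExact)
    (ha : Nonempty (S.X₁ ≅ Twist.twistProjSpace n k a)) (hb : Nonempty (S.X₃ ≅ Twist.twistProjSpace n k b)) :
    Nonempty S.Splitting := by
  exact main k n hn a b S hS ha hb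

end Groth.Agent.S11484
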