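import Groth.Statements.S14128
import Groth.Agent.S2064
import Groth.Agent.S10834
import Groth.Agent.Alg6.AssDepth
import Groth.Agent.FlatLoc6.NormFlat
import Mathlib.RingTheory.Artinian.Module
import Mathlib.RingTheory.FiniteLength
import Mathlib.Algebra.Homology.Embedding.ExtendHomology
import Mathlib.Algebra.Homology.Embedding.RestrictionHomology
import Mathlib.Algebra.Homology.Embedding.CochainComplex

set_option autoImplicit false
universe u
open CategoryTheory CategoryTheory.Limits
open LocAlg

namespace Groth.Agent.S14128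

open CategoryTheory CategoryTheory.Limits IsLocalRing Groth.Agent

theorem subsingleton_of_isFiniteLength_of_depth {R : Type u} [CommRing R] [IsLocalRing R]
    [IsNoetherianRing R] (H : Type u) [AddCommGroup H] [Module R H] (hfl : IsFiniteLength R H)
    (hd : (1 : ℕ∞) ≤ LocCoh.depth R H) : Subsingleton H := by
  obtain ⟨_, _⟩ := isFiniteLength_iff_isNoetherian_isArtinian.1 hfl
  by_contra h
  haveI := not_subsingleton_iff_nontrivial.1 h
  have hne := Alg6.maximal_smul_top_ne_top (R := R) (M := H)
  obtain ⟨rs, hrs, hmem, hlen⟩ := Alg6.exists_length_ge_of_le_idealDepth hne (n := 1) (by exact_mod_cast hd)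
  match rs, hlen with
  | x :: rs, _ =>
    have hinj := ((RingTheory.Sequence.isWeaklyRegular_cons_iff H x rs).1 hrs).1
    have hsur := IsArtinian.surjective_of_injective_endomorphism
      (DistribSMul.toLinearMap R H x : H →ₗ[R] H) hinj
    refine hne (eq_top_iff.2 fun y _ => ?_)
    obtain ⟨z, rfl⟩ := hsur y
    exact Submodule.smul_mem_smul (hmem x (by simp)) Submodule.mem_top

theorem le_depth_free {R : Type u} [CommRing R] [IsRegularLocalRing R] (g : ℕ)
    (hg : ringKrullDim R = g) (F : Type u) [AddCommGroup F] [Module R F] [Module.Free R F]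
    [Module.Finite R F] : (g : ℕ∞) ≤ LocCoh.depth R F := by
  rw [Hensel.depth_congr (Module.finBasis R F).equivFun]
  generalize Module.finrank R F = n
  rcases n with _ | n
  · rw [FlatLoc6.depth_top_of_subsingleton]; exact le_top
  · rw [FlatLoc6.depth_pi]
    have := (S10834.depth_of_regular R).trans hg
    exact (WithBot.coe_eq_coe.1 this).ge

end Groth.Agent.S14128

namespace Groth.Agent.S14128

open CategoryTheory CategoryTheory.Limits IsLocalRing Groth.Agent


/-- Let R be a regular local ring of Krull dimension g and M = (M^0 → M^1 → ⋯ → M^g) a perfect complex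
over R, here a cochain complex of finitely generated free R-modules indexed by ℕ with M^i = 0 for i
> g, such that every cohomology module H^i(M) has finite length. Then H^i(M) = 0 for all i < g, so
that M has cohomology at most in degree g. -/
theorem result (R : Type u) [CommRing R]
    [IsRegularLocalRing R] (g : ℕ) (hg : ringKrullDim R = g) (M : CochainComplex (ModuleCat.{u} R) ℕ)
    (hbd : ∀ i, g < i → IsZero (M.X i)) (hfree : ∀ i, Module.Free R (M.X i) ∧ Module.Finite R (M.X i))
    (hfl : ∀ i, IsFiniteLength R (M.homology i)) (i : ℕ) (hi : i < g) :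
    IsZero (M.homology i) := by
  classical
  let K := M.extend ComplexShape.embeddingUpNat
  let C : ChainComplex (ModuleCat.{u} R) ℕ := K.restriction (ComplexShape.embeddingUpIntLE (g : ℤ))
  have hX : ∀ j ≤ g, Nonempty (C.X j ≅ M.X (g - j)) := fun j hj =>
    ⟨M.extendXIso ComplexShape.embeddingUpNat
      (show ((g - j : ℕ) : ℤ) = (g : ℤ) - j by omega)⟩
  have hz : ∀ j, g < j → IsZero (C.X j) := fun j hj =>
    M.isZero_extend_X ComplexShape.embeddingUpNat ((g : ℤ) - j) fun i h => by
      change (i : ℤ) = (g : ℤ) - j at h; omega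
  have hH : ∀ j, 0 < j → j ≤ g → Nonempty (C.homology j ≅ M.homology (g - j)) := fun j hj hjg =>
    ⟨K.restrictionHomologyIso (ComplexShape.embeddingUpIntLE (g : ℤ)) (j + 1) j (j - 1)
      (by simp) (by exact (ComplexShape.down ℕ).next_eq' (by simp; omega))
      (show (g : ℤ) - (j + 1 : ℕ) = (g : ℤ) - j - 1 by omega) rfl
      (show (g : ℤ) - (j - 1 : ℕ) = (g : ℤ) - j + 1 by omega) (by simp) (by simp) ≪≫
      M.extendHomologyIso ComplexShape.embeddingUpNat (show ((g - j : ℕ) : ℤ) = (g : ℤ) - j by omega)⟩
  have hfree' : ∀ j, Module.Finite R (C.X j) ∧ (j ≤ g → (j : ℕ∞) ≤ LocCoh.depth R (C.X j)) := by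
    intro j
    by_cases hj : j ≤ g
    · obtain ⟨e⟩ := hX j hj
      obtain ⟨h1, h2⟩ := hfree (g - j)
      refine ⟨Module.Finite.equiv e.toLinearEquiv.symm, fun _ => ?_⟩
      rw [Hensel.depth_congr e.toLinearEquiv]
      exact le_trans (by exact_mod_cast hj) (le_depth_free g hg (M.X (g - j)))
    · haveI := ModuleCat.subsingleton_of_isZero (hz j (by omega))
      exact ⟨inferInstance, fun h => absurd h hj⟩
  suffices h : ∀ j, 0 < j → C.ExactAt j by
    obtain ⟨e⟩ := hH (g - i) (by omega) (by omega)
    have := ((C.exactAt_iff_isZero_homology _).1 (h (g - i) (by omega))).of_iso e.symm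
    rwa [show g - (g - i) = i by omega] at this
  by_contra hne
  push Not at hne
  obtain ⟨j₀, hj₀, hne₀⟩ := hne
  have hbig : ∀ j, g < j → C.ExactAt j := fun j hj => ShortComplex.exact_of_isZero_X₂ _ (hz j hj)
  have hs : ∃ i, 0 < i ∧ ¬ C.ExactAt i ∧ ∀ j, i < j → C.ExactAt j := by
    let P : ℕ → Prop := fun j => 0 < j ∧ ¬ C.ExactAt j
    have hle : j₀ ≤ g := by by_contra h; exact hne₀ (hbig j₀ (by omega))
    have hspec : P (Nat.findGreatest P g) := Nat.findGreatest_spec hle ⟨hj₀, hne₀⟩
    refine ⟨_, hspec.1, hspec.2, fun j hj => ?_⟩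
    by_cases hjg : j ≤ g
    · by_contra h
      exact Nat.findGreatest_is_greatest hj hjg ⟨by omega, h⟩
    · exact hbig j (by omega)
  obtain ⟨i₀, hi0, hnot, habove⟩ := hs
  have hi0g : i₀ ≤ g := by by_contra h; exact hnot (hbig i₀ (by omega))
  have hd := S2064.result C g hz (fun j => (hfree' j).1) (fun j hj => (hfree' j).2 hj) i₀ hi0 hnot habove
  obtain ⟨e⟩ := hH i₀ hi0 hi0g
  rw [Hensel.depth_congr e.toLinearEquiv] at hd
  haveI := subsingleton_of_isFiniteLength_of_depth (M.homology (g - i₀)) (hfl _) hd
  exact hnot ((C.exactAt_iff_isZero_homology _).2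
    ((ModuleCat.isZero_of_subsingleton (M.homology (g - i₀))).of_iso e))

end Groth.Agent.S14128
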