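import Groth.Statements.S11489
import Groth.Agent.Synt29.Rank2Pn
import Groth.Agent.QCoh.CokerQC

set_option autoImplicit false
set_option backward.isDefEq.respectTransparency false
set_option backward.isDefEq.respectTransparency.types false
set_option linter.style.haveILetI false
set_option maxHeartbeats 1000000
universe u
open VBPn

namespace Groth.Agent.S11489

open CategoryTheory CategoryTheory.Limits AlgebraicGeometry TopologicalSpace Opposite
open Groth.Agent.AModX Groth.Agent.H28.ExtBase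

variable {X : Scheme.{u}} {E : X.Modules} {r : ℕ}

/-- Generating sections have some nonzero wedge. -/
theorem exists_wedge_ne_zero [Nonempty X] (hE : FlatMod.IsFinLocFreeOfRank r E) {N : ℕ}
    (ψ : FlatMod.freeMod X N ⟶ E) [Epi ψ] :
    ∃ σ : Fin r → Fin N, mu E r ⊤ (fun i => ψ.app ⊤ ((H23.Frame.incl X N (σ i)).app ⊤ (H23.Frame.one ⊤))) ≠ 0 := by
  classical
  by_contra hne
  push Not at hne
  obtain ⟨x⟩ := ‹Nonempty X›
  obtain ⟨U, hx, ⟨eU⟩⟩ := hE x
  obtain ⟨s, hs⟩ := H23.Frame.exists_frame eU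
  have hpre : ∀ i : Fin r, ∃ (V : X.Opens) (h : V ≤ U), x ∈ V ∧
      ∃ t : Γ(FlatMod.freeMod X N, V), ψ.app V t = res E h (s i) := fun i =>
    QCoh.exists_local_preimage ψ (s i) hx
  choose V hV hxV t ht using hpre
  obtain ⟨W, hxW, hWU, hWV⟩ : ∃ W : X.Opens, x ∈ W ∧ W ≤ U ∧ ∀ i, W ≤ V i :=
    ⟨U ⊓ Finset.univ.inf V, ⟨hx, by
      induction (Finset.univ : Finset (Fin r)) using Finset.induction with
      | empty => simp
      | insert a S ha ih => rw [Finset.inf_insert]; exact ⟨hxV a, ih⟩⟩,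
      inf_le_left, fun i => inf_le_right.trans (Finset.inf_le (Finset.mem_univ i))⟩
  let g : Fin N → Γ(E, W) := fun j =>
    res E le_top (ψ.app ⊤ ((H23.Frame.incl X N j).app ⊤ (H23.Frame.one ⊤)))
  have hexp : ∀ i, ∃ c : Fin N → Γ(X, W), res E hWU (s i) = ∑ j, c j • g j := fun i => by
    refine ⟨fun j => (show Γ(X, W) from (H23.Frame.proj X N j).app W (res _ (hWV i) (t i))), ?_⟩
    have h1 : res E hWU (s i) = ψ.app W (res _ (hWV i) (t i)) := by
      rw [app_res, ht, res_res]
    rw [h1]
    conv_lhs => rw [← H23.Frame.free_eq_sum W (res _ (hWV i) (t i))]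
    rw [map_sum]
    refine Finset.sum_congr rfl fun j _ => ?_
    rw [Scheme.Modules.Hom.app_smul]
    refine congrArg _ ?_
    show _ = res E le_top _
    rw [← H23.Frame.app_one_res (H23.Frame.incl X N j) (le_top : W ≤ ⊤)]
    exact app_res ψ _ _
  choose c hc using hexp
  have h0 : mu E r W (fun i => res E hWU (s i)) = 0 := by
    simp only [hc]
    rw [← AlternatingMap.coe_multilinearMap, MultilinearMap.map_sum]
    refine Finset.sum_eq_zero fun σ _ => ?_
    rw [MultilinearMap.map_smul_univ, AlternatingMap.coe_multilinearMap]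
    show (∏ i, c i (σ i)) • mu E r W (fun i => res E le_top _) = 0
    rw [← mu_res E r ⊤ W le_top, hne σ, map_zero, smul_zero]
  haveI : Nonempty W := ⟨⟨x, hxW⟩⟩
  have hinj := (isFrame_wedge (M := E) hs W hWU).1
  refine one_ne_zero (α := Γ(X, W)) (hinj (a₂ := 0) ?_)
  show (1 : Γ(X, W)) • res (L E r) hWU (mu E r U s) = (0 : Γ(X, W)) • res (L E r) hWU (mu E r U s)
  rw [one_smul, zero_smul, mu_res E r U W hWU]
  exact h0

/-- Sections with everywhere generating wedge form a basis. -/
theorem nonempty_iso (hE : FlatMod.IsFinLocFreeOfRank r E) (t : Fin r → Γ(E, ⊤))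
    (h : L E r ≅ Coh.structureModule X) (hu : IsUnit (show Γ(X, ⊤) from h.hom.app ⊤ (mu E r ⊤ t))) :
    Nonempty (E ≅ FlatMod.freeMod X r) := by
  choose U hU eU using hE
  have key : ∀ (W : X.Opens) (x : X), W ≤ U x → Function.Bijective (H23.Frame.comb E t W le_top) := by
    intro W x hWU
    obtain ⟨e⟩ := eU x
    obtain ⟨s₀, hs₀⟩ := H23.Frame.exists_frame e
    let A := Γ(X, W)
    let b := frameBasis (M := E) hs₀ hWU
    let ew : A ≃ₗ[A] Ext' E r W := LinearEquiv.ofBijective
      (LinearMap.toSpanSingleton A (Ext' E r W) (wedge E r fun k => res E hWU (s₀ k)))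
      (bijective_smul_wedge (M := E) hs₀ hWU)
    let φ : (E.val.obj (op W)) [⋀^Fin r]→ₗ[A] A := ew.symm.toLinearMap.compAlternatingMap
      (exteriorPower.ιMulti A r (M := E.val.obj (op W)))
    have hb : ⇑b = fun k => res E hWU (s₀ k) := funext fun k => frameBasis_apply hs₀ hWU k
    have hφb : φ ⇑b = 1 := by
      rw [hb]
      show ew.symm (wedge E r fun k => res E hWU (s₀ k)) = 1
      rw [LinearEquiv.symm_apply_eq]
      exact (one_smul A _).symm
    let T : Fin r → E.val.obj (op W) := fun k => res E le_top (t k)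
    have hunit : IsUnit (φ T) := by
      have h1 : wedge E r T = φ T • wedge E r (fun k => res E hWU (s₀ k)) := (ew.apply_symm_apply _).symm
      have h2 := congrArg (fun z => h.hom.app W (eta E r W z)) h1
      simp only [map_smul] at h2
      rw [show eta E r W (wedge E r T) = res (L E r) le_top (mu E r ⊤ t) from (mu_res E r ⊤ W le_top t).symm,
        app_res] at h2
      have h3 : IsUnit (show A from res (Coh.structureModule X) (le_top : W ≤ ⊤) (h.hom.app ⊤ (mu E r ⊤ t))) :=
        hu.map (X.presheaf.map (homOfLE (le_top : W ≤ ⊤)).op).hom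
      rw [h2, Scheme.Modules.Hom.app_smul] at h3
      exact isUnit_of_mul_isUnit_left h3
    have hdet : IsUnit (b.det T) := by
      have h1 := congrArg (fun ψ => ψ T) (AlternatingMap.eq_smul_basis_det (R := A) b φ)
      simp only [AlternatingMap.smul_apply, hφb, one_smul] at h1
      rwa [← h1]
    obtain ⟨hli, hsp⟩ := (Module.Basis.is_basis_iff_det b).2 hdet
    let B := Module.Basis.mk hli hsp.ge
    have : (H23.Frame.comb E t W le_top : _ → _) = fun c => B.equivFun.symm c := funext fun c => by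
      rw [B.equivFun_symm_apply]
      exact Finset.sum_congr rfl fun i _ => by rw [Module.Basis.mk_apply]; rfl
    rw [this]
    exact B.equivFun.symm.bijective
  let φ : FlatMod.freeMod X r ⟶ E := Limits.Sigma.desc fun k => InvX.ofSect (t k)
  haveI : IsIso φ := QCoh.isIso_of_isBasis φ (B := {W : X.Opens | ∃ x, W ≤ U x})
    (Opens.isBasis_iff_nbhd.2 fun {V p} hp => ⟨V ⊓ U p, ⟨p, inf_le_right⟩, ⟨hp, hU p⟩, inf_le_left⟩)
    (by
      rintro W ⟨x, hx⟩
      have happ : ∀ z, φ.app W z = H23.Frame.comb E t W le_top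
          (fun k => (show Γ(X, W) from (H23.Frame.proj X r k).app W z)) := fun z => by
        conv_lhs => rw [← H23.Frame.free_eq_sum W z]
        rw [map_sum]
        refine Finset.sum_congr rfl fun k _ => ?_
        rw [Scheme.Modules.Hom.app_smul]
        refine congrArg _ ?_
        show (H23.Frame.incl X r k ≫ φ).app W (H23.Frame.one W) = _
        rw [show H23.Frame.incl X r k ≫ φ = InvX.ofSect (t k) from Sigma.ι_desc _ _,
          ← H23.Frame.app_one_res _ (le_top : W ≤ ⊤)]
        exact congrArg _ (InvX.one_ofSect _)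
      refine ⟨fun z z' hzz => ?_, fun y => ?_⟩
      · rw [happ, happ] at hzz
        rw [← H23.Frame.free_eq_sum W z, ← H23.Frame.free_eq_sum W z']
        exact Finset.sum_congr rfl fun k _ => by rw [congrFun ((key W x hx).1 hzz) k]
      · obtain ⟨c, rfl⟩ := (key W x hx).2 y
        refine ⟨∑ k, c k • (H23.Frame.incl X r k).app W (H23.Frame.one W), ?_⟩
        rw [happ]
        exact congrArg _ (funext fun j => H23.Frame.proj_comb W c j))
  exact ⟨(asIso φ).symm⟩


open CategoryTheory CategoryTheory.Limits AlgebraicGeometry in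
/-- Let k be a characteristic-zero algebraically closed field and E a finite locally free O-module of
rank r on P^n_k. If E is globally generated (there is an epimorphism O^N → E for some N) and its
first Chern class vanishes, in the sense that an r-th exterior power det E of E is isomorphic to O,
then E ≅ O^r. -/
theorem result (k : Type u) [Field k] [IsAlgClosed k] [CharZero k]
    (n r : ℕ) (E : (CohB1.ProjSpace n k).Modules) (hE : FlatMod.IsFinLocFreeOfRank r E)
    (hgen : ∃ (N : ℕ) (φ : FlatMod.freeMod (CohB1.ProjSpace n k) N ⟶ E), Epi φ)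
    (hdet : ∃ L : (CohB1.ProjSpace n k).Modules, ExtPow.IsExtPow r E L ∧
      Nonempty (L ≅ Coh.structureModule (CohB1.ProjSpace n k))) :
    Nonempty (E ≅ FlatMod.freeMod (CohB1.ProjSpace n k) r) := by
  obtain ⟨N, ψ, hψ⟩ := hgen
  obtain ⟨L', hL', ⟨e'⟩⟩ := hdet
  haveI : QuasiSeparated (CohB1.ProjSpace.toSpec n k) := by
    haveI := Groth.Agent.PnCoh.Chow.isProper_toSpec n k
    infer_instance
  haveI : IsIntegral (CohB1.ProjSpace n k) := Groth.Agent.H23.PnChart.isIntegral_projSpace n k
  obtain ⟨h⟩ := Groth.Agent.H28.ExtSh.nonempty_iso_L (Groth.Agent.H28.KvbModel.lf_of_rank hE) hL'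
  obtain ⟨σ, hσ⟩ := exists_wedge_ne_zero hE ψ
  refine nonempty_iso hE (fun i => ψ.app ⊤
    ((Groth.Agent.H23.Frame.incl (CohB1.ProjSpace n k) N (σ i)).app ⊤ (Groth.Agent.H23.Frame.one ⊤))) (h ≪≫ e') ?_
  letI : (CohB1.ProjSpace n k).Over (Spec (CommRingCat.of k)) := ⟨CohB1.ProjSpace.toSpec n k⟩
  obtain ⟨a, ha⟩ := Groth.Agent.Synt29.PnRigid.toGlobal_surjective n k
    ((h ≪≫ e').hom.app ⊤ (Groth.Agent.H28.ExtBase.mu E r ⊤ (fun i => ψ.app ⊤
      ((Groth.Agent.H23.Frame.incl (CohB1.ProjSpace n k) N (σ i)).app ⊤ (Groth.Agent.H23.Frame.one ⊤)))))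
  rw [← ha]
  refine (isUnit_iff_ne_zero.2 fun ha0 => hσ ?_).map _
  rw [ha0, map_zero] at ha
  have h2 := congrArg ((h ≪≫ e').inv.app ⊤) ha.symm
  rw [map_zero] at h2
  refine Eq.trans ?_ h2
  exact (congrArg (fun f : L E r ⟶ L E r => f.app ⊤ (mu E r ⊤ (fun i => ψ.app ⊤
    ((Groth.Agent.H23.Frame.incl (CohB1.ProjSpace n k) N (σ i)).app ⊤ (Groth.Agent.H23.Frame.one ⊤)))))
    (h ≪≫ e').hom_inv_id).symm


end Groth.Agent.S11489
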