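import Groth.Statements.S11492
import Groth.Agent.Synt29.GenPn
import Groth.Agent.Lib.RegEpiPn
import Groth.Agent.Lib.RegDescent
import Groth.Agent.Lib.SyzygyPn
import Groth.Agent.Lib.TwistSumInv
import Groth.Agent.Lib.PnDualTwistAdj
import Groth.Agent.S11674

set_option autoImplicit false
universe u
open VBPn

namespace Groth.Agent.S11492

section
open CategoryTheory CategoryTheory.Limits AlgebraicGeometry
open Groth.Agent Groth.Agent.PnCoh.Finite Groth.Agent.RegEpi Groth.Agent.RegDescent Groth.Agent.ProjRegular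

variable {n : ℕ} {k : Type u} [Field k]

noncomputable local instance : (Proj (CohB1.polyGrading n k)).Over (Spec (CommRingCat.of k)) :=
  S11674.projOver k n

theorem rank_twF {r : ℕ} {F : (Proj (CohB1.polyGrading n k)).Modules} (hF : FlatMod.IsFinLocFreeOfRank r F) (d : ℤ) :
    FlatMod.IsFinLocFreeOfRank r ((twF d).obj F) := by
  obtain ⟨hl, hr⟩ := ConsPropLib.isFinLocFreeOfRank_iff.1 hF
  refine ConsPropLib.isFinLocFreeOfRank_iff.2 ⟨TwistSum.isFinLocFree_twF hl d, fun x => ?_⟩
  have hT := InvEnd.isFinLocFreeOfRank_one (isInvertible_twist (coords k n) coords_mem coords_cover d)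
  obtain ⟨hTl, hT1⟩ := ConsPropLib.isFinLocFreeOfRank_iff.1 hT
  haveI := QCoh.free_stalk_of_isFinLocFree hl x
  haveI := QCoh.free_stalk_of_isFinLocFree hTl x
  have e := ((KFlatLib.stalkTensorIso x F (Twist.twist (CohB1.polyGrading n k) d)).toLinearEquiv).finrank_eq
  refine e.symm.trans ((Module.finrank_tensorProduct (R := (Proj (CohB1.polyGrading n k)).presheaf.stalk x)
    (S := (Proj (CohB1.polyGrading n k)).presheaf.stalk x) (M := F.presheaf.stalk x)
    (M' := (Twist.twist (CohB1.polyGrading n k) d).presheaf.stalk x)).trans ?_)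
  rw [hr x, hT1 x, mul_one]

theorem exists_generated {F : (Proj (CohB1.polyGrading n k)).Modules} (hF : Coh.IsCoh F) :
    ∃ (D : ℤ) (N : ℕ) (ψ : (∐ fun _ : Fin N => Coh.structureModule (Proj (CohB1.polyGrading n k))) ⟶ (twF D).obj F),
      Epi ψ := by
  have hd : ∀ i : ℕ, ∃ d₀ : ℤ, ∀ d, d₀ ≤ d → 0 < i →
      Subsingleton (Coh.HH (Proj (CohB1.polyGrading n k)) ((twF d).obj F) i) := fun i => by
    rcases Nat.eq_zero_or_pos i with h | h
    · exact ⟨0, fun d _ hi => absurd h (by omega)⟩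
    · obtain ⟨d₀, hd₀⟩ := exists_vanishing_twF (k := k) hF i h
      exact ⟨d₀, fun d hd _ => hd₀ d hd⟩
  choose d₀ hd₀ using hd
  let D : ℤ := (∑ i ∈ Finset.range (n + 1), |d₀ i|) + n
  refine ⟨D, ?_⟩
  have hcoh := Horrocks.isCoh_twF (k := k) hF D
  haveI : Module.Finite k (Coh.HH (Proj (CohB1.polyGrading n k)) ((twF D).obj F) 0) :=
    (S11674.hyp k n).fin _ hcoh
  obtain ⟨b, ψ, hψ, -⟩ := exists_kernel_regular (k := k) hcoh fun q hq => by
    obtain ⟨e⟩ := twF_twF_iso F D (-(q : ℤ)) (D - q) (by ring)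
    refine QCoh.subsingleton_HH_of_iso e.symm q ?_
    rcases le_or_gt q n with h | h
    · refine hd₀ q _ ?_ hq
      have h1 := Finset.single_le_sum (f := fun i => |d₀ i|) (fun _ _ => abs_nonneg _)
        (Finset.mem_range.2 (by omega : q < n + 1))
      have h2 := le_abs_self (d₀ q)
      simp only [D]
      omega
    · exact Syzygy.subsingleton_high' hF _ q h
  exact ⟨b, ψ, hψ⟩

theorem main [Infinite k] {r : ℕ} (hrn : n < r) (E : (Proj (CohB1.polyGrading n k)).Modules)
    (hE : FlatMod.IsFinLocFreeOfRank r E) :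
    ∃ (a : ℤ) (φ : (∐ fun _ : Fin (r - n) => Twist.twist (CohB1.polyGrading n k) a) ⟶ E),
      Mono φ ∧ FlatMod.IsFinLocFreeOfRank n (cokernel φ) := by
  haveI : IsLocallyNoetherian (Proj (CohB1.polyGrading n k)) := PnCoh.Finite.isLocallyNoetherian_projSpace n k
  obtain ⟨D, N, ψ, hψ⟩ := exists_generated (n := n) (k := k)
    (QCoh.isCoh_iff_isFP.2 (QCoh.isFP_of_isFinLocFree (ConsPropLib.isFinLocFreeOfRank_iff.1 hE).1) :
      Coh.IsCoh E)
  haveI := hψ
  obtain ⟨φ, hφ, hrk⟩ := @Synt29.GenPn.exists_subbundle n k _ _ r hrn _ (rank_twF hE D) N ψ hψ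
  let φ₀ : (∐ fun _ : Fin (r - n) => Coh.structureModule (Proj (CohB1.polyGrading n k))) ⟶ (twF D).obj E := φ
  haveI : Mono φ₀ := hφ
  let G := twF (k := k) (n := n) (-D)
  obtain ⟨e1⟩ := twF_twF_iso E D (-D) 0 (by ring)
  obtain ⟨e2⟩ := twF_zero_iso (k := k) (n := n) E
  obtain ⟨eS⟩ := twF_sigma_unit_iso (k := k) (n := n) (r - n) (-D)
  let eE := e1 ≪≫ e2
  let φ' : (∐ fun _ : Fin (r - n) => Twist.twist (CohB1.polyGrading n k) (-D)) ⟶ E :=
    eS.inv ≫ G.map φ₀ ≫ eE.hom
  refine ⟨-D, φ', ?_, ?_⟩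
  · haveI : Mono (G.map φ₀) := inferInstance
    infer_instance
  · haveI : G.Additive := Functor.additive_of_preserves_binary_products _
    have e3 : cokernel φ' ≅ G.obj (cokernel φ₀) :=
      (cokernel.mapIso (G.map φ₀) φ' eS eE (by simp [φ'])).symm ≪≫ (PreservesCokernel.iso G φ₀).symm
    exact fun x => let ⟨U, hx, ⟨e⟩⟩ := rank_twF hrk (-D) x
      ⟨U, hx, ⟨(Scheme.Modules.restrictFunctor U.ι).mapIso e3 ≪≫ e⟩⟩

end

open CategoryTheory CategoryTheory.Limits AlgebraicGeometry in
/-- Let k be a characteristic-zero algebraically closed field and E a finite locally free O-module of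
rank r > n on P^n_k. Then for some integer a, E sits in a short exact sequence of vector bundles 0 →
O(a)^(r−n) → E → F → 0 with F of rank n: a monomorphism from the direct sum of r − n copies of O(a)
into E whose cokernel is finite locally free of rank n. -/
theorem result (k : Type u) [Field k] [IsAlgClosed k] [CharZero k]
    (n r : ℕ) (hrn : n < r) (E : (CohB1.ProjSpace n k).Modules) (hE : FlatMod.IsFinLocFreeOfRank r E) :
    ∃ (a : ℤ) (φ : (∐ fun _ : Fin (r - n) => Twist.twistProjSpace n k a) ⟶ E),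
      Mono φ ∧ FlatMod.IsFinLocFreeOfRank n (cokernel φ) := by
  haveI : Infinite k := IsAlgClosed.instInfinite
  exact main hrn E hE


end Groth.Agent.S11492
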