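import Groth.Statements.S11493
import Mathlib.Algebra.Homology.DerivedCategory.Ext.ExactSequences
import Mathlib.Algebra.Homology.DerivedCategory.Ext.EnoughProjectives
import Mathlib.RingTheory.LocalRing.Module
import Mathlib.Algebra.Homology.ShortComplex.ModuleCat
import Mathlib.Algebra.Category.ModuleCat.Projective
import Mathlib.Algebra.Category.ModuleCat.EnoughInjectives

set_option autoImplicit false
universe u
open CategoryTheory
open VBPn

namespace Groth.Agent.S11493

open Abelian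


/-- Let A be a Noetherian local ring and I an ideal with a free resolution of length 1, 0 → A^p → A^q →
I → 0 (equivalently: a surjection A^q → I with free kernel). Let 0 → A → M → I → 0 be an extension
with class e ∈ Ext^1(I, A). Then M is free if and only if e generates the A-module Ext^1(I, A); the
A-module structure being through End(A) = A, this says every element of Ext^1(I, A) is the composite
of e with an endomorphism of A. -/
theorem result (A : Type u) [CommRing A] [IsNoetherianRing A] [IsLocalRing A]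
    (I : Ideal A)
    (hres : ∃ (q : ℕ) (φ : (Fin q → A) →ₗ[A] ↥I), Function.Surjective φ ∧ Module.Free A ↥(LinearMap.ker φ))
    (S : ShortComplex (ModuleCat.{u} A)) (hS : S.ShortExact)
    (h₁ : Nonempty (S.X₁ ≅ ModuleCat.of A A)) (h₃ : Nonempty (S.X₃ ≅ ModuleCat.of A ↥I)) :
    Module.Free A S.X₂ ↔
      ∀ x : Abelian.Ext S.X₃ S.X₁ 1, ∃ f : S.X₁ ⟶ S.X₁, hS.extClass.comp (Abelian.Ext.mk₀ f) (add_zero 1) = x := by
  have hproj : ∀ (P : ModuleCat.{u} A), Module.Free A P → ∀ Y, ∀ e : Ext P Y 1, e = 0 := by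
    intro P hP Y e
    have : CategoryTheory.Projective P := (IsProjective.iff_projective (R := A) P).mp Module.Projective.of_free
    exact Ext.eq_zero_of_projective e
  constructor
  · intro hfree x
    obtain ⟨z, hz⟩ := Ext.contravariant_sequence_exact₃ hS S.X₁ x (hproj _ hfree _ _) (show 1 + 0 = 1 from rfl)
    obtain ⟨f, rfl⟩ := (Ext.mk₀_bijective S.X₁ S.X₁).2 z
    exact ⟨f, hz⟩
  intro hgen
  obtain ⟨i₁⟩ := h₁
  obtain ⟨i₃⟩ := h₃
  let e₁ : S.X₁ ≃ₗ[A] A := i₁.toLinearEquiv
  let e₃ : S.X₃ ≃ₗ[A] I := i₃.toLinearEquiv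
  have hX₁ : Module.Free A S.X₁ := Module.Free.of_equiv e₁.symm
  have hzero : Subsingleton (Ext S.X₂ S.X₁ 1) := by
    refine subsingleton_of_forall_eq 0 fun z => ?_
    obtain ⟨y, hy⟩ := Ext.contravariant_sequence_exact₂ hS S.X₁ z (hproj _ hX₁ _ _)
    obtain ⟨f, hf⟩ := hgen y
    rw [← hy, ← hf, ← Ext.comp_assoc (Ext.mk₀ S.g) hS.extClass (Ext.mk₀ f) (zero_add 1) (add_zero 1) (by simp),
      hS.comp_extClass, Ext.zero_comp]
  obtain ⟨q, φ, hφ, hker⟩ := hres
  have hgsurj : Function.Surjective S.g.hom := (ModuleCat.epi_iff_surjective S.g).mp hS.epi_g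
  have hfinj : Function.Injective S.f.hom := (ModuleCat.mono_iff_injective S.f).mp hS.mono_f
  have hexact : Function.Exact S.f.hom S.g.hom := (ShortComplex.ShortExact.moduleCat_exact_iff_function_exact S).mp hS.exact
  obtain ⟨l, hl⟩ := Module.projective_lifting_property S.g.hom (e₃.symm.toLinearMap ∘ₗ φ) hgsurj
  have hl' : ∀ v, S.g.hom (l v) = e₃.symm (φ v) := fun v => LinearMap.congr_fun hl v
  let ψ : (A × (Fin q → A)) →ₗ[A] S.X₂ := (S.f.hom ∘ₗ e₁.symm.toLinearMap).coprod l
  have hψ : Function.Surjective ψ := by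
    intro m
    obtain ⟨v, hv⟩ := hφ (e₃ (S.g.hom m))
    obtain ⟨w, hw⟩ := (hexact (m - l v)).mp (by rw [map_sub, hl', hv, e₃.symm_apply_apply, sub_self])
    exact ⟨(e₁ w, v), by simp [ψ, hw]⟩
  let π : ↥(LinearMap.ker ψ) →ₗ[A] ↥(LinearMap.ker φ) :=
    LinearMap.codRestrict _ (LinearMap.snd A A (Fin q → A) ∘ₗ (LinearMap.ker ψ).subtype) fun v => by
      have h := congrArg S.g.hom (LinearMap.mem_ker.mp v.2)
      simp only [ψ, LinearMap.coprod_apply, map_add, map_zero, LinearMap.comp_apply, LinearEquiv.coe_coe,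
        hl', hexact.apply_apply_eq_zero, zero_add] at h
      exact LinearMap.mem_ker.mpr (e₃.symm.injective (h.trans (map_zero _).symm))
  have hπ : Function.Bijective π := by
    refine ⟨(injective_iff_map_eq_zero π).mpr fun v hv => ?_, fun w => ?_⟩
    · have h2 : (v : (A × (Fin q → A))).2 = 0 := congrArg Subtype.val hv
      have h := LinearMap.mem_ker.mp v.2
      simp only [ψ, LinearMap.coprod_apply, h2, map_zero, add_zero, LinearMap.comp_apply,
        LinearEquiv.coe_coe] at h
      exact Subtype.ext (Prod.ext (e₁.symm.injective ((hfinj (h.trans (map_zero _).symm)).trans (map_zero _).symm)) h2)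
    · obtain ⟨a, ha⟩ := (hexact (l w.1)).mp (by rw [hl', LinearMap.mem_ker.mp w.2, map_zero])
      refine ⟨⟨(-e₁ a, w.1), ?_⟩, rfl⟩
      simp [ψ, ha]
  have hK : Module.Free A ↥(LinearMap.ker ψ) := Module.Free.of_equiv (LinearEquiv.ofBijective π hπ).symm
  have hKfin : Module.Finite A ↥(LinearMap.ker ψ) := inferInstance
  let T : ShortComplex (ModuleCat.{u} A) := ShortComplex.mk (X₁ := ModuleCat.of A ↥(LinearMap.ker ψ))
    (X₂ := ModuleCat.of A (A × (Fin q → A))) (X₃ := S.X₂) (ModuleCat.ofHom (LinearMap.ker ψ).subtype)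
    (ModuleCat.ofHom ψ) (ModuleCat.hom_ext (LinearMap.ext fun v => v.2))
  have hT : T.ShortExact :=
    { exact := (ShortComplex.ShortExact.moduleCat_exact_iff_function_exact _).2
        (LinearMap.exact_subtype_ker_map ψ)
      mono_f := (ModuleCat.mono_iff_injective _).2 Subtype.val_injective
      epi_g := (ModuleCat.epi_iff_surjective _).2 hψ }
  have hext : ∀ h : ↥(LinearMap.ker ψ) →ₗ[A] A, ∃ g : (A × (Fin q → A)) →ₗ[A] A, ∀ v : ↥(LinearMap.ker ψ), g v = h v := by
    intro h
    obtain ⟨z, hz⟩ := Ext.contravariant_sequence_exact₁ hT S.X₁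
      (Ext.mk₀ (ModuleCat.ofHom (e₁.symm.toLinearMap ∘ₗ h))) (add_zero 1) (@Subsingleton.elim _ hzero _ _)
    obtain ⟨g, rfl⟩ := (Ext.mk₀_bijective T.X₂ S.X₁).2 z
    rw [Ext.mk₀_comp_mk₀] at hz
    have hz' := (Ext.mk₀_bijective _ _).1 hz
    refine ⟨e₁.toLinearMap ∘ₗ g.hom, fun v => ?_⟩
    have := LinearMap.congr_fun (congrArg ModuleCat.Hom.hom hz') v
    exact (congrArg e₁ this).trans (e₁.apply_symm_apply _)
  let b := Module.Free.chooseBasis A ↥(LinearMap.ker ψ)
  choose g hg using fun i => hext (b.coord i)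
  let r : (A × (Fin q → A)) →ₗ[A] ↥(LinearMap.ker ψ) := ∑ i, (g i).smulRight (b i)
  have hr : ∀ v : ↥(LinearMap.ker ψ), r v = v := fun v => by
    simp only [r, LinearMap.sum_apply, LinearMap.smulRight_apply, hg, Module.Basis.coord_apply]
    exact b.sum_repr v
  let p : (A × (Fin q → A)) →ₗ[A] (A × (Fin q → A)) := LinearMap.id - (LinearMap.ker ψ).subtype ∘ₗ r
  let s : S.X₂ →ₗ[A] (A × (Fin q → A)) := (LinearMap.ker ψ).liftQ p (fun v hv => by
    simp [p, hr ⟨v, hv⟩]) ∘ₗ (ψ.quotKerEquivOfSurjective hψ).symm.toLinearMap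
  have hs : ψ ∘ₗ s = LinearMap.id := by
    refine LinearMap.ext fun m => ?_
    obtain ⟨v, rfl⟩ := hψ m
    have : (ψ.quotKerEquivOfSurjective hψ).symm (ψ v) = Submodule.Quotient.mk v :=
      (LinearEquiv.symm_apply_eq _).mpr rfl
    simp only [s, LinearMap.comp_apply, LinearEquiv.coe_coe, this, LinearMap.id_apply]
    show ψ (p v) = ψ v
    have h0 : ψ (r v).1 = 0 := LinearMap.mem_ker.mp (r v).2
    simp [p, map_sub, h0]
  have : Module.Projective A S.X₂ := Module.Projective.of_split s ψ hs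
  have : Module.Finite A S.X₂ := Module.Finite.of_surjective ψ hψ
  exact Module.free_of_flat_of_isLocalRing

end Groth.Agent.S11493
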