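import Groth.Statements.S11494
import Groth.Agent.H28.Serre2.Plane
import Groth.Agent.Synt29.PnEuler
import Groth.Agent.S0844
import Groth.Agent.H23.PnChart
-- import your own Groth.Agent.* helpers here

set_option autoImplicit false
set_option backward.isDefEq.respectTransparency false
set_option backward.isDefEq.respectTransparency.types false
universe u
open VBPn

namespace Groth.Agent.S11494

open CategoryTheory CategoryTheory.Limits AlgebraicGeometry in
/-- Let k be an algebraically closed field of characteristic zero and x_1, …, x_m pairwise distinct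
closed points of P^2_k. There is a rank-2 vector bundle E on P^2_k whose restriction to any line
containing exactly a of the points x_j splits as O(a) ⊕ O(−a): for every closed immersion of
k-schemes i : P^1_k → P^2_k along which O(1) pulls back to O(1), with a the number of indices j such
that x_j lies in the image of i, one has i^*E ≅ O(a) ⊕ O(−a). (In particular the generic splitting
type, on lines through none of the points, is (0, 0).) -/
theorem result (k : Type u) [Field k] [IsAlgClosed k] [CharZero k]
    (m : ℕ) (x : Fin m → ↥(CohB1.ProjSpace 2 k)) (hx : Function.Injective x)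
    (hcl : ∀ j, IsClosed ({x j} : Set ↥(CohB1.ProjSpace 2 k))) :
    ∃ E : (CohB1.ProjSpace 2 k).Modules, FlatMod.IsFinLocFreeOfRank 2 E ∧
      ∀ (i : CohB1.ProjSpace 1 k ⟶ CohB1.ProjSpace 2 k) [IsClosedImmersion i],
        i ≫ CohB1.ProjSpace.toSpec 2 k = CohB1.ProjSpace.toSpec 1 k →
        Nonempty ((Scheme.Modules.pullback i).obj (Twist.twistProjSpace 2 k 1) ≅ Twist.twistProjSpace 1 k 1) →
        Nonempty ((Scheme.Modules.pullback i).obj E ≅
          Twist.twistProjSpace 1 k (Nat.card {j : Fin m // x j ∈ Set.range i.base} : ℤ) ⊞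
            Twist.twistProjSpace 1 k (-(Nat.card {j : Fin m // x j ∈ Set.range i.base} : ℤ))) := by
  classical
  let P := CohB1.ProjSpace 2 k
  let f := CohB1.ProjSpace.toSpec 2 k
  haveI : Smooth f := CurveEmbed.smooth_toSpec 2 k
  haveI : IsIntegral P := H23.PnChart.isIntegral_projSpace 2 k
  haveI : EnoughInjectives P.Modules := inferInstanceAs (EnoughInjectives (SheafOfModules _))
  obtain ⟨Y, y, hy, hred, hdisc, hfin, hrange⟩ :=
    H28.Serre2.exists_points_scheme (Set.range x) (Set.finite_range x) (by rintro _ ⟨j, rfl⟩; exact hcl j)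
  haveI := hy; haveI := hred; haveI := hdisc; haveI := hfin
  obtain ⟨hlci, L, hL, ⟨eL⟩⟩ := H28.Serre2.exists_det f (Synt29.PointsReg.topologicalKrullDim_projSpace 2 k) y
  let ω : P.Modules := Coh.structureModule P
  let I : InjectiveResolution ω := InjectiveResolution.of _
  have hω : PicF.IsInvertible ω := InvX.isInvertible_structureModule
  have h2 : Subsingleton (Coh.HH P ω 2) := by
    obtain ⟨e⟩ := H23.PicMul.cl_eq_iff.1 (show PicF.cl (Twist.twistProjSpace 2 k 0) = PicF.cl ω from
      (Synt29.PnEuler.tw_zero 2 k).trans H23.PicMul.one_def)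
    exact QCoh.subsingleton_HH_of_iso e 2 (S0844.result k 2 0 2 (fun h => by omega) (fun h => by omega))
  obtain ⟨g, hk, hu⟩ := H28.Serre2.exists_class I y hL hω hlci eL h2
  let E := H28.Serre2.ext2 I y g hk
  have hE : FlatMod.IsFinLocFreeOfRank 2 E := H28.Serre2.rank_two I y g hk hω hlci hu
  have hdet : ExtPow.IsExtPow 2 E ω := H28.Serre2.isExtPow_two I y g hk hω hlci hu
  haveI : Epi (H28.Serre2.pJ I y g hk) := (H28.Serre2.shortExact I y g hk).epi_g
  refine ⟨E, hE, fun i _ _ _ => ?_⟩
  have h := H28.Serre2.split_on_line y (H28.Serre2.isQCoh I y g hk (RegExtFormula.isQCoh_inv hω)) hE hdet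
    (H28.Serre2.pJ I y g hk) i
  rw [H28.Serre2.card_pullback i y x hx hrange] at h
  exact h

end Groth.Agent.S11494
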