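import Groth.Statements.S11496
import Groth.Agent.LC.PdRegular
import Groth.Agent.VarDim.Basic

set_option autoImplicit false
universe u
open CategoryTheory
open VBPn

namespace Groth.Agent.S11496

/-- Let A be a regular local ring, M a finitely generated A-module and i ≥ 0. The support of Ext^i_A(M,
A) has dimension at most dim A − i: for every prime ideal p of A such that Ext^i over the
localization A_p of M_p into A_p is nonzero (this Ext group is the localization at p of Ext^i_A(M,
A)), one has dim(A/p) + i ≤ dim A. The published statement is for coherent analytic sheaves on an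
n-dimensional complex manifold; this row is stated for any regular local ring. -/
theorem result (A : Type u) [CommRing A] [IsRegularLocalRing A]
    (M : Type u) [AddCommGroup M] [Module A M] [Module.Finite A M] (i : ℕ) (p : Ideal A) [p.IsPrime]
    (h : Nontrivial (Abelian.Ext
      (ModuleCat.of (Localization.AtPrime p) (LocalizedModule p.primeCompl M))
      (ModuleCat.of (Localization.AtPrime p) (Localization.AtPrime p)) i)) :
    ringKrullDim (A ⧸ p) + (i : WithBot ℕ∞) ≤ ringKrullDim A := by
  haveI := RegLoc6.isRegularLocalRing_localization A p
  let B := Localization.AtPrime p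
  let n := (IsLocalRing.maximalIdeal B).spanFinrank
  have hn : (n : WithBot ℕ∞) = p.height :=
    (IsRegularLocalRing.spanFinrank_maximalIdeal (R := B)).trans (IsLocalization.AtPrime.ringKrullDim_eq_height p B)
  have hpd : RegLoc6.PdLE B n (LocalizedModule p.primeCompl M) := RegLoc6.pdLE_of_isRegularLocalRing B _
  have hi : i ≤ n := by
    by_contra hlt
    haveI : HasProjectiveDimensionLT (ModuleCat.of B (LocalizedModule p.primeCompl M)) (n + 1) := hpd
    exact not_subsingleton_iff_nontrivial.2 h
      (HasProjectiveDimensionLT.subsingleton _ (n + 1) i (by omega) _)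
  have hle : (i : WithBot ℕ∞) ≤ (Order.height (⟨p, inferInstance⟩ : PrimeSpectrum A) : WithBot ℕ∞) := by
    refine le_trans (le_of_le_of_eq (by exact_mod_cast hi) hn) (le_of_eq ?_)
    exact congrArg _ (PrimeSpectrum.height_eq_orderHeight ⟨p, inferInstance⟩)
  calc ringKrullDim (A ⧸ p) + (i : WithBot ℕ∞)
      ≤ ringKrullDim (A ⧸ p) + (Order.height (⟨p, inferInstance⟩ : PrimeSpectrum A) : WithBot ℕ∞) := by gcongr
    _ ≤ ringKrullDim A := by
      rw [← VarDim.coheight_eq_ringKrullDim_quotient ⟨p, inferInstance⟩, ← WithBot.coe_add, add_comm]
      exact VarDim.height_add_coheight_le _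

end Groth.Agent.S11496
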