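import Groth.Statements.S11497
import Mathlib.Algebra.Homology.DerivedCategory.Ext.ExactSequences
import Mathlib.Algebra.Homology.ShortComplex.ShortExact

set_option autoImplicit false
universe w v u
open CategoryTheory
open VBPn

namespace Groth.Agent.S11497

open Abelian Limits
namespace MonadAux
variable {C : Type u} [Category.{v} C] [Abelian C] [HasExt.{w} C]

theorem sesCycles (M : ShortComplex C) [Epi M.g] :
    (ShortComplex.mk M.iCycles M.g M.iCycles_g).ShortExact :=
  { exact := ShortComplex.exact_of_f_is_kernel _ M.cyclesIsKernel }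

theorem mono_toCycles (M : ShortComplex C) [Mono M.f] : Mono M.toCycles :=
  mono_of_mono_fac M.toCycles_i

theorem sesHomology (M : ShortComplex C) [Mono M.f] :
    (ShortComplex.mk M.toCycles M.homologyπ M.toCycles_comp_homologyπ).ShortExact :=
  have := mono_toCycles M
  { exact := ShortComplex.exact_of_g_is_cokernel _ M.homologyIsCokernel }

variable {S : ShortComplex C} (hS : S.ShortExact) {Y : C}

include hS in
/-- Extending along the monomorphism of a short exact sequence. -/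
theorem exists_ext (hY : Subsingleton (Ext S.X₃ Y 1)) (h : S.X₁ ⟶ Y) : ∃ g : S.X₂ ⟶ Y, S.f ≫ g = h := by
  obtain ⟨x, hx⟩ := Ext.contravariant_sequence_exact₁ hS Y (Ext.mk₀ h) (add_zero 1)
    (Subsingleton.elim _ _)
  obtain ⟨g, rfl⟩ := (Ext.mk₀_bijective S.X₂ Y).2 x
  rw [Ext.mk₀_comp_mk₀] at hx
  exact ⟨g, (Ext.mk₀_bijective _ _).1 hx⟩

include hS in
theorem ext_eq (hY : ∀ f : S.X₃ ⟶ Y, f = 0) {g g' : S.X₂ ⟶ Y} (h : S.f ≫ g = S.f ≫ g') : g = g' := by
  have := hS.epi_g
  obtain ⟨d, hd⟩ := CokernelCofork.IsColimit.desc' hS.gIsCokernel (g - g')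
    (by rw [Preadditive.comp_sub, h, sub_self])
  rw [hY d, comp_zero] at hd
  exact sub_eq_zero.mp hd.symm

include hS in
theorem exists_lift {X : C} (hX : Subsingleton (Ext X S.X₁ 1)) (h : X ⟶ S.X₃) :
    ∃ g : X ⟶ S.X₂, g ≫ S.g = h := by
  obtain ⟨x, hx⟩ := Ext.covariant_sequence_exact₃ X hS (Ext.mk₀ h) (zero_add 1)
    (Subsingleton.elim _ _)
  obtain ⟨g, rfl⟩ := (Ext.mk₀_bijective X S.X₂).2 x
  rw [Ext.mk₀_comp_mk₀] at hx
  exact ⟨g, (Ext.mk₀_bijective _ _).1 hx⟩

end MonadAux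


/-- In an abelian category, let M : A → B → C and M' : A' → B' → C' be monads, i.e. short complexes
whose first map is a monomorphism and whose second map is an epimorphism, with cohomology (homology)
objects E and E'. Suppose Hom(B, A') = 0, Hom(C, B') = 0 and Ext^1(C, A') = Ext^1(B, A') = Ext^1(C,
B') = Ext^2(C, A') = 0. Then the map sending a morphism of monads M → M' to the induced morphism E →
E' is bijective. The published statement is for monads of vector bundles on a complex manifold X,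
with Ext^i(C, A') written H^i(X, C^* ⊗ A'); this row is stated in any abelian category. -/
theorem result {C : Type u} [Category.{v} C] [Abelian C] [HasExt.{w} C]
    (M M' : ShortComplex C) [Mono M.f] [Epi M.g] [Mono M'.f] [Epi M'.g]
    (hBA : ∀ f : M.X₂ ⟶ M'.X₁, f = 0) (hCB : ∀ f : M.X₃ ⟶ M'.X₂, f = 0)
    (hCA₁ : Subsingleton (Abelian.Ext M.X₃ M'.X₁ 1)) (hBA₁ : Subsingleton (Abelian.Ext M.X₂ M'.X₁ 1))
    (hCB₁ : Subsingleton (Abelian.Ext M.X₃ M'.X₂ 1)) (hCA₂ : Subsingleton (Abelian.Ext M.X₃ M'.X₁ 2)) :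
    Function.Bijective (fun φ : M ⟶ M' => ShortComplex.homologyMap φ) := by
  have T := MonadAux.sesCycles M
  have H' := MonadAux.sesHomology M'
  have hK0 : ∀ f : M.cycles ⟶ M'.X₁, f = 0 := by
    intro f
    obtain ⟨g, hg⟩ := MonadAux.exists_ext T hCA₁ f
    rw [← hg, hBA g, Limits.comp_zero]
  have hK1 : Subsingleton (Abelian.Ext M.cycles M'.X₁ 1) := by
    refine ⟨fun x y => ?_⟩
    have : ∀ z : Abelian.Ext M.cycles M'.X₁ 1, z = 0 := by
      intro z
      obtain ⟨w, hw⟩ := Abelian.Ext.contravariant_sequence_exact₁ T M'.X₁ z (show 1 + 1 = 2 from rfl)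
        (Subsingleton.elim _ _)
      rw [← hw, Subsingleton.elim w 0, Abelian.Ext.comp_zero]
    rw [this x, this y]
  constructor
  · intro φ ψ h
    have hc : ShortComplex.cyclesMap φ = ShortComplex.cyclesMap ψ := by
      have := (ShortComplex.mk M'.toCycles M'.homologyπ M'.toCycles_comp_homologyπ)
      have h0 : (ShortComplex.cyclesMap φ - ShortComplex.cyclesMap ψ) ≫ M'.homologyπ = 0 := by
        rw [Preadditive.sub_comp, ← ShortComplex.homologyπ_naturality,
          ← ShortComplex.homologyπ_naturality, sub_eq_zero]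
        exact congrArg (M.homologyπ ≫ ·) h
      have := H'.mono_f
      obtain ⟨d, hd⟩ := Limits.KernelFork.IsLimit.lift' H'.fIsKernel _ h0
      rw [hK0 d, Limits.zero_comp] at hd
      exact sub_eq_zero.mp hd.symm
    have h2 : φ.τ₂ = ψ.τ₂ := MonadAux.ext_eq T hCB (by
      show M.iCycles ≫ _ = M.iCycles ≫ _
      rw [← ShortComplex.cyclesMap_i, hc, ShortComplex.cyclesMap_i])
    exact ShortComplex.hom_ext _ _ (by rw [← cancel_mono M'.f, φ.comm₁₂, ψ.comm₁₂, h2]) h2
      (by rw [← cancel_epi M.g, ← φ.comm₂₃, ← ψ.comm₂₃, h2])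
  · intro e
    obtain ⟨h, hh⟩ := MonadAux.exists_lift H' hK1 (M.homologyπ ≫ e)
    obtain ⟨φ₂, hφ₂⟩ := MonadAux.exists_ext T hCB₁ (h ≫ M'.iCycles)
    have h1 : (M.toCycles ≫ h) ≫ M'.homologyπ = 0 := by
      have hh' : h ≫ M'.homologyπ = M.homologyπ ≫ e := hh
      rw [Category.assoc, hh', M.toCycles_comp_homologyπ_assoc, Limits.zero_comp]
    have := H'.mono_f
    obtain ⟨φ₁, hφ₁⟩ := Limits.KernelFork.IsLimit.lift' H'.fIsKernel _ h1
    have h3 : M.iCycles ≫ φ₂ ≫ M'.g = 0 := by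
      rw [← Category.assoc, show M.iCycles ≫ φ₂ = h ≫ M'.iCycles from hφ₂, Category.assoc,
        M'.iCycles_g, Limits.comp_zero]
    have := T.epi_g
    obtain ⟨φ₃, hφ₃⟩ := Limits.CokernelCofork.IsColimit.desc' T.gIsCokernel _ h3
    have hc12 : φ₁ ≫ M'.f = M.f ≫ φ₂ := by
      have hφ₁' : φ₁ ≫ M'.toCycles = M.toCycles ≫ h := hφ₁
      rw [← M'.toCycles_i, ← Category.assoc, hφ₁', Category.assoc,
        ← show M.iCycles ≫ φ₂ = h ≫ M'.iCycles from hφ₂, M.toCycles_i_assoc]
    let φ : M ⟶ M' := ⟨φ₁, φ₂, φ₃, hc12, hφ₃.symm⟩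
    have hcy : ShortComplex.cyclesMap φ = h := by
      rw [← cancel_mono M'.iCycles, ShortComplex.cyclesMap_i]
      exact hφ₂
    refine ⟨φ, ?_⟩
    show ShortComplex.homologyMap φ = e
    rw [← cancel_epi M.homologyπ, ShortComplex.homologyπ_naturality, hcy]
    exact hh

end Groth.Agent.S11497
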