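import Groth.Statements.S11499
import Mathlib.LinearAlgebra.Basis.VectorSpace
import Mathlib.LinearAlgebra.Dimension.Free
import Mathlib.RingTheory.Localization.BaseChange
import Mathlib.RingTheory.Localization.Integer
import Mathlib.LinearAlgebra.FreeModule.Finite.Basic
import Mathlib.RingTheory.TensorProduct.Finite

set_option autoImplicit false
universe u
open TensorProduct
open VBPn

namespace Groth.Agent.S11499

/-- Let A be an integral domain with fraction field K and M a finitely generated torsion-free A-module
of rank r (K ⊗_A M is r-dimensional over K). Then there is an injective A-linear map M → A^r. The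
published statement is for torsion-free coherent sheaves on a complex manifold, locally near a
point; this row is its statement for one stalk, over any domain. -/
theorem result (A : Type u) [CommRing A] [IsDomain A]
    (M : Type u) [AddCommGroup M] [Module A M] [Module.Finite A M] [NoZeroSMulDivisors A M] (r : ℕ)
    (hr : Module.finrank (FractionRing A) (FractionRing A ⊗[A] M) = r) :
    ∃ f : M →ₗ[A] (Fin r → A), Function.Injective f := by
  classical
  let K := FractionRing A
  let ι : M →ₗ[A] K ⊗[A] M := TensorProduct.mk A K M 1
  haveI : IsLocalizedModule (nonZeroDivisors A) ι := IsLocalization.tensorProduct_isLocalizedModule (nonZeroDivisors A) K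
  have hι : Function.Injective ι := by
    rw [injective_iff_map_eq_zero]
    intro m hm
    obtain ⟨c, hc⟩ := (IsLocalizedModule.eq_zero_iff (nonZeroDivisors A) ι).1 hm
    exact (smul_eq_zero.1 hc).resolve_left (nonZeroDivisors.ne_zero c.2)
  let bas : Module.Basis (Fin r) K (K ⊗[A] M) := Module.finBasisOfFinrankEq K _ hr
  let coords : M →ₗ[A] (Fin r → K) := (bas.equivFun.toLinearMap.restrictScalars A).comp ι
  obtain ⟨n, gen, hgen⟩ := Module.Finite.exists_fin (R := A) (M := M)
  obtain ⟨b, hb⟩ := IsLocalization.exist_integer_multiples_of_finite (nonZeroDivisors A)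
    (fun q : Fin n × Fin r => coords (gen q.1) q.2)
  have hmem : ∀ (m : M) (i : Fin r), ∃ a : A, algebraMap A K a = (b : A) • coords m i := by
    intro m i
    have hm : m ∈ Submodule.span A (Set.range gen) := by rw [hgen]; trivial
    induction hm using Submodule.span_induction with
    | mem x hx => obtain ⟨j, rfl⟩ := hx; exact hb (j, i)
    | zero => exact ⟨0, by simp⟩
    | add x y _ _ hx hy =>
      obtain ⟨a, ha⟩ := hx; obtain ⟨c, hc⟩ := hy
      exact ⟨a + c, by simp [ha, hc, smul_add]⟩
    | smul t x _ hx =>
      obtain ⟨a, ha⟩ := hx
      exact ⟨t * a, by simp [ha, Algebra.smul_def]; ring⟩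
  choose F hF using hmem
  have hinjA := IsFractionRing.injective A K
  refine ⟨{ toFun := fun m i => F m i, map_add' := ?_, map_smul' := ?_ }, ?_⟩
  · intro x y; funext i; apply hinjA; simp [hF]
  · intro t x; funext i; apply hinjA; simp [hF, Algebra.smul_def]; ring
  · intro x y hxy
    apply hι
    apply bas.equivFun.injective
    funext i
    have h1 := congrArg (algebraMap A K) (congrFun hxy i)
    simp only [LinearMap.coe_mk, AddHom.coe_mk] at h1
    rw [hF, hF, Algebra.smul_def, Algebra.smul_def] at h1
    exact mul_left_cancel₀ (fun h => nonZeroDivisors.ne_zero b.2 (hinjA (by rw [h, map_zero]))) h1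

end Groth.Agent.S11499
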