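import Groth.Statements.S11500
import Groth.Agent.Synt29.SubLine
import Groth.Agent.Synt29.PlaneSplit
import Groth.Agent.Synt29.LineSimple
import Groth.Agent.Synt29.Rank2
import Groth.Agent.H9Misc.ProjQuot
import Groth.Agent.KFlatLib.Perfect.Tensor
import Groth.Agent.S11486

set_option autoImplicit false
set_option linter.style.haveILetI false
set_option linter.unusedSectionVars false
set_option backward.isDefEq.respectTransparency false
set_option backward.isDefEq.respectTransparency.types false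
set_option maxHeartbeats 1600000
set_option synthInstance.maxHeartbeats 400000
universe u
open VBPn

namespace Groth.Agent.S11500

section Aux

open CategoryTheory CategoryTheory.Limits AlgebraicGeometry
open Groth.Agent Groth.Agent.H23.PicMul Groth.Agent.RegEpi Groth.Agent.ProjRegular Groth.Agent.PnCoh.Finite
open scoped Groth.Agent.H23.PicMul

variable (k : Type u) [Field k]

noncomputable instance overP : (CohB1.ProjSpace 2 k).Over (Spec (CommRingCat.of k)) :=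
  ⟨CohB1.ProjSpace.toSpec 2 k⟩

noncomputable instance overProj : (Proj (CohB1.polyGrading 2 k)).Over (Spec (CommRingCat.of k)) :=
  inferInstanceAs ((CohB1.ProjSpace 2 k).Over (Spec (CommRingCat.of k)))

local notation "P" => CohB1.ProjSpace 2 k
local notation "O" => Twist.twistProjSpace 2 k

local notation "Tw" => twF (k := k) (n := 2)

/-- `O ≅ O(-d)(d)`. -/
theorem nonempty_unit (d : ℤ) : Nonempty (Coh.structureModule P ≅ (Tw d).obj (O (-d))) :=
  cl_eq_iff.1 (show PicF.cl (Coh.structureModule P) = PicF.cl (CohB1.tensorMod (O (-d)) (O d)) by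
    rw [cl_tensor]
    exact ((Synt29.PnEuler.tw_add 2 k (-d) d).trans (by rw [neg_add_cancel, Synt29.PnEuler.tw_zero]; rfl)).symm)

/-- Every section of every twist lifts. -/
def Lifts {G F : (P).Modules} (ψ : G ⟶ F) : Prop :=
  ∀ (d : ℤ) (g : Coh.structureModule P ⟶ (Tw d).obj F),
    ∃ g' : Coh.structureModule P ⟶ (Tw d).obj G, g' ≫ (Tw d).map ψ = g

theorem hom_eq_zero_of_nonneg {F : (P).Modules} (hF : FlatMod.IsFinLocFree F)
    (h0 : Subsingleton (Coh.HH P F 0)) {d : ℤ} (hd : 0 ≤ d) (h : O d ⟶ F) : h = 0 := by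
  haveI : IsIntegral P := H23.PnChart.isIntegral_projSpace 2 k
  haveI : IsLocallyNoetherian P := PnCoh.Finite.isLocallyNoetherian_projSpace 2 k
  haveI : QuasiSeparated (CohB1.ProjSpace.toSpec 2 k) := inferInstance
  by_contra hne
  haveI := Synt29.Rank2.mono_of_ne_zero (Synt29.Rank2Pn.rank_O d) hF h hne
  obtain ⟨e⟩ := cl_eq_iff.1 (show PicF.cl (CohB1.tensorMod F (O 0)) = PicF.cl F by
    rw [cl_tensor]
    exact (congrArg (PicF.cl F * ·) (Synt29.PnEuler.tw_zero 2 k)).trans (mul_one _))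
  exact Synt29.Rank2Pn.not_subsingleton_of_sub hF h (k₀ := 0) (by omega)
    (QCoh.subsingleton_HH_of_iso e.symm 0 h0)

/-- A presentation by negative twists, surjective on all spaces of sections. -/
theorem exists_pres {F : (P).Modules} (hF : FlatMod.IsFinLocFree F) (h0 : Subsingleton (Coh.HH P F 0)) :
    ∃ (s : ℕ) (mm : Fin s → ℤ) (G : (P).Modules) (ψ : G ⟶ F),
      (∀ j, mm j < 0) ∧ Nonempty (G ≅ ∐ fun j => O (mm j)) ∧ Epi ψ ∧
      Lifts k ψ := by
  classical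
  haveI : IsLocallyNoetherian P := PnCoh.Finite.isLocallyNoetherian_projSpace 2 k
  haveI : IsLocallyNoetherian (Proj (CohB1.polyGrading 2 k)) :=
    PnCoh.Finite.isLocallyNoetherian_projSpace 2 k
  have hFc : Coh.IsCoh F := QCoh.isCoh_iff_isFP.2 (QCoh.isFP_of_isFinLocFree hF)
  haveI : IsNoetherianRing (MvPolynomial (Fin (2 + 1)) k) := inferInstance
  obtain ⟨b, e, φ, hφ, he⟩ : ∃ (b : ℕ) (e : ℕ) (φ : (∐ fun _ : Fin b => O (-(e : ℤ))) ⟶ F),
      Epi φ ∧ 1 ≤ e := by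
    obtain ⟨b, e, φ, hφ⟩ := H9Misc.ProjQuot.exists_epi_twists_neg (𝒜 := CohB1.polyGrading 2 k) hFc
    rcases Nat.eq_zero_or_pos e with rfl | he
    · have hz : IsZero F := IsZero.of_epi_eq_zero φ (Sigma.hom_ext _ _ fun i => by
        rw [comp_zero]
        exact hom_eq_zero_of_nonneg k hF h0 (by simp) _)
      exact ⟨0, 1, Sigma.desc fun i => i.elim0, ⟨fun g h _ => hz.eq_of_src g h⟩, le_rfl⟩
    · exact ⟨b, e, φ, hφ, he⟩
  haveI := hφ
  let S₀ : ShortComplex (P).Modules := ShortComplex.mk (kernel.ι φ) φ (kernel.condition φ)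
  have hS₀ : S₀.ShortExact := { exact := ShortComplex.exact_of_f_is_kernel _ (kernelIsKernel φ) }
  have hK₀ : Coh.IsCoh (kernel φ) := QCoh.isCoh_kernel (isCoh_sigma_twist (k := k) (n := 2) b _) hFc φ
  obtain ⟨e₁, he₁⟩ := RegDescent.exists_vanishing_twF (k := k) (n := 2) hK₀ 1 Nat.one_pos
  let T : ℕ := e₁.toNat
  choose α hα using fun d : ℤ => show ∃ _ : Coh.structureModule P ≅ (Tw d).obj (O (-d)), True from
    (nonempty_unit k d).elim fun u => ⟨u, trivial⟩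
  choose N v hv using fun t : Fin T => show ∃ (N : ℕ) (v : Fin N → (O (-((t : ℕ) + 1 : ℤ)) ⟶ F)),
      Submodule.span k (Set.range fun i =>
        (α ((t : ℕ) + 1 : ℤ)).hom ≫ (Tw ((t : ℕ) + 1 : ℤ)).map (v i)) = ⊤ by
    haveI : Module.Finite k (Coh.HH P ((Tw ((t : ℕ) + 1 : ℤ)).obj F) 0) := (S11674.hyp k 2).fin _
      (Horrocks.isCoh_twF (k := k) (n := 2) hFc _)
    haveI : Module.Finite k (Coh.structureModule P ⟶ (Tw ((t : ℕ) + 1 : ℤ)).obj F) :=
      Module.Finite.equiv (LinearEquiv.ofBijective _ (evalOneLin_bijective k _)).symm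
    obtain ⟨N, w, hw⟩ := Module.Finite.exists_fin (R := k)
      (M := Coh.structureModule P ⟶ (Tw ((t : ℕ) + 1 : ℤ)).obj F)
    choose v hv using fun i => (Tw ((t : ℕ) + 1 : ℤ)).map_surjective ((α ((t : ℕ) + 1 : ℤ)).inv ≫ w i)
    refine ⟨N, v, ?_⟩
    have hfun : (fun i => (α ((t : ℕ) + 1 : ℤ)).hom ≫ (Tw ((t : ℕ) + 1 : ℤ)).map (v i)) = w :=
      funext fun i => (congrArg ((α ((t : ℕ) + 1 : ℤ)).hom ≫ ·) (hv i)).trans (Iso.hom_inv_id_assoc _ _)
    rw [hfun, hw]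
  let J := Fin b ⊕ Σ t : Fin T, Fin (N t)
  let deg : J → ℤ := Sum.elim (fun _ => -(e : ℤ)) (fun x => -((x.1 : ℕ) + 1 : ℤ))
  let v' : ∀ x : J, O (deg x) ⟶ F := fun x => match x with
    | Sum.inl a => Sigma.ι (fun _ : Fin b => O (-(e : ℤ))) a ≫ φ
    | Sum.inr ⟨t, i⟩ => v t i
  let ψ : (∐ fun x : J => O (deg x)) ⟶ F := Sigma.desc v'
  let j₀ : (∐ fun _ : Fin b => O (-(e : ℤ))) ⟶ ∐ fun x : J => O (deg x) :=
    Sigma.desc fun a => Sigma.ι (fun x : J => O (deg x)) (Sum.inl a)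
  have hφψ : j₀ ≫ ψ = φ := Sigma.hom_ext _ _ fun a => by
    show Sigma.ι (fun _ : Fin b => O (-(e : ℤ))) a ≫ Sigma.desc _ ≫ ψ = _
    rw [Sigma.ι_desc_assoc]
    exact Sigma.ι_desc v' (Sum.inl a)
  haveI : Epi ψ := epi_of_epi_fac hφψ
  let σ := Fintype.equivFin J
  refine ⟨Fintype.card J, fun j => deg (σ.symm j), _, ψ, fun j => ?_,
    ⟨(Sigma.reindex σ.symm (fun x : J => O (deg x))).symm⟩, inferInstance, fun d g => ?_⟩
  · show deg (σ.symm j) < 0
    rcases σ.symm j with a | ⟨t, i⟩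
    · show -(e : ℤ) < 0
      omega
    · show -((t : ℕ) + 1 : ℤ) < 0
      omega
  rcases le_or_gt d 0 with hd | hd
  · obtain ⟨h, hh⟩ := (Tw d).map_surjective ((α d).inv ≫ g)
    rw [hom_eq_zero_of_nonneg k hF h0 (by omega : 0 ≤ -d) h, Functor.map_zero] at hh
    refine ⟨0, ?_⟩
    rw [zero_comp, ← Iso.hom_inv_id_assoc (α d) g, ← hh, comp_zero]
  rcases le_or_gt d (T : ℤ) with hT | hT
  · obtain ⟨t, rfl⟩ : ∃ t : Fin T, d = ((t : ℕ) + 1 : ℤ) := ⟨⟨(d - 1).toNat, by omega⟩, by simp; omega⟩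
    have hh : g ∈ Submodule.span k (Set.range fun i =>
        (α ((t : ℕ) + 1 : ℤ)).hom ≫ (Tw ((t : ℕ) + 1 : ℤ)).map (v t i)) := (hv t) ▸ Submodule.mem_top
    induction hh using Submodule.span_induction with
    | mem y hy =>
      obtain ⟨i, rfl⟩ := hy
      refine ⟨(α ((t : ℕ) + 1 : ℤ)).hom ≫
        (Tw ((t : ℕ) + 1 : ℤ)).map (Sigma.ι (fun x : J => O (deg x)) (Sum.inr ⟨t, i⟩)), ?_⟩
      rw [Category.assoc, ← Functor.map_comp]
      exact congrArg (fun z => (α ((t : ℕ) + 1 : ℤ)).hom ≫ (Tw ((t : ℕ) + 1 : ℤ)).map z) (Sigma.ι_desc v' _)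
    | zero => exact ⟨0, zero_comp⟩
    | add a c _ _ ha hc =>
      obtain ⟨a', rfl⟩ := ha
      obtain ⟨c', rfl⟩ := hc
      exact ⟨a' + c', Preadditive.add_comp _ _ _ _ _ _⟩
    | smul r a _ ha =>
      obtain ⟨a', rfl⟩ := ha
      exact ⟨r • a', Linear.smul_comp _ _ _ _ _ _⟩
  · have hS' := RegDescent.twSeq_exact (coords k 2) coords_mem coords_cover hS₀ d
    obtain ⟨y, hy⟩ := Synt29.Quadric.surjective_g_of_h1 (k := k) hS' (he₁ d (by omega)) (evalOneLin k _ g)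
    obtain ⟨χ, rfl⟩ := (evalOneLin_bijective k _).2 y
    refine ⟨χ ≫ (Tw d).map j₀, ?_⟩
    rw [Category.assoc, ← Functor.map_comp, hφψ]
    exact (evalOneLin_bijective k _).1 ((Synt29.LineSimple.evalOne_comp χ ((Tw d).map φ)).trans hy)

theorem isCoh_of_lf {M : (P).Modules} (h : FlatMod.IsFinLocFree M) : Coh.IsCoh M := by
  haveI : IsLocallyNoetherian P := PnCoh.Finite.isLocallyNoetherian_projSpace 2 k
  exact QCoh.isCoh_iff_isFP.2 (QCoh.isFP_of_isFinLocFree h)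

theorem isCoh_sum {s : ℕ} (mm : Fin s → ℤ) : Coh.IsCoh (∐ fun j => O (mm j)) :=
  isCoh_of_lf k (KFlatLib.isFinLocFree_sigma _ Finset.univ (fun i hi => absurd (Finset.mem_univ i) hi)
    (fun j => H28.KvbModel.lf_of_rank (Synt29.Rank2Pn.rank_O _)))

theorem h1_left_of_surjective {X : Scheme.{u}} [X.Over (Spec (CommRingCat.of k))] {S : ShortComplex X.Modules}
    (hS : S.ShortExact) (h2 : Subsingleton (Coh.HH X S.X₂ 1))
    (hs : Function.Surjective (Canon.HHlin k S.g 0)) : Subsingleton (Coh.HH X S.X₁ 1) := by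
  refine subsingleton_of_forall_eq 0 fun x => ?_
  obtain ⟨y, rfl⟩ := (PnDual.HHlin_f_eq_zero_iff (k := k) hS 0 x).1 (h2.elim _ _)
  obtain ⟨z, rfl⟩ := hs y
  exact LinearMap.mem_ker.1 (LinearMap.mem_ker.2 ((QCoh.Ab.connecting_eq_zero_iff
    (X := X.toPresheafedSpace.carrier) (QCoh.toAb_shortExact hS) 0 _).2 ⟨z, rfl⟩))

theorem h0_left {X : Scheme.{u}} [X.Over (Spec (CommRingCat.of k))] {S : ShortComplex X.Modules}
    (hS : S.ShortExact) (h2 : Subsingleton (Coh.HH X S.X₂ 0)) : Subsingleton (Coh.HH X S.X₁ 0) :=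
  Syzygy.subsingleton_HH_zero_X₁ (k := k) hS fun _ _ _ => h2.elim _ _

theorem h1_functor {X : Scheme.{u}} [X.Over (Spec (CommRingCat.of k))] (Φ : X.Modules ⥤ X.Modules)
    [Φ.IsEquivalence] [Φ.Additive] {A B C : X.Modules} (ι : A ⟶ B) (ψ : B ⟶ C) (w : ι ≫ ψ = 0)
    (hS : (ShortComplex.mk ι ψ w).ShortExact) (h2 : Subsingleton (Coh.HH X (Φ.obj B) 1))
    (hs : Function.Surjective (Canon.HHlin k (Φ.map ψ) 0)) : Subsingleton (Coh.HH X (Φ.obj A) 1) :=
  h1_left_of_surjective k (hS.map_of_exact Φ) h2 hs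

theorem h0_functor {X : Scheme.{u}} [X.Over (Spec (CommRingCat.of k))] (Φ : X.Modules ⥤ X.Modules)
    [Φ.IsEquivalence] [Φ.Additive] {A B C : X.Modules} (ι : A ⟶ B) (ψ : B ⟶ C) (w : ι ≫ ψ = 0)
    (hS : (ShortComplex.mk ι ψ w).ShortExact) (h2 : Subsingleton (Coh.HH X (Φ.obj B) 0)) :
    Subsingleton (Coh.HH X (Φ.obj A) 0) :=
  h0_left k (hS.map_of_exact Φ) h2

theorem surjective_of_lifts {G F : (P).Modules} (ψ : G ⟶ F) (hlift : Lifts k ψ) (d : ℤ) :
    Function.Surjective (Canon.HHlin k ((Tw d).map ψ) 0) := fun y => by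
  obtain ⟨g, rfl⟩ := (evalOneLin_bijective k _).2 y
  obtain ⟨g', hg'⟩ := hlift d g
  exact ⟨evalOneLin k _ g', (Synt29.LineSimple.evalOne_comp g' _).symm.trans (congrArg _ hg')⟩

theorem acm_kernel {s : ℕ} (mm : Fin s → ℤ) {G F : (P).Modules} (ψ : G ⟶ F) [Epi ψ] (hlift : Lifts k ψ)
    (hFc : Coh.IsCoh F) (eG : G ≅ ∐ fun j => O (mm j)) : Horrocks.ACM k 2 (kernel ψ) := by
  haveI : IsLocallyNoetherian P := PnCoh.Finite.isLocallyNoetherian_projSpace 2 k
  haveI : IsLocallyNoetherian (Proj (CohB1.polyGrading 2 k)) :=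
    PnCoh.Finite.isLocallyNoetherian_projSpace 2 k
  let S : ShortComplex (P).Modules := ShortComplex.mk (kernel.ι ψ) ψ (kernel.condition ψ)
  have hS : S.ShortExact := { exact := ShortComplex.exact_of_f_is_kernel _ (kernelIsKernel ψ) }
  obtain ⟨hmid, hlow⟩ := S11674.acm_of_sigma k 2 s mm
  refine ⟨QCoh.isCoh_kernel (SheafHomX.isCoh_of_iso eG.symm (isCoh_sum k mm)) hFc ψ, ?_, ?_⟩
  · intro d i h1 h2
    obtain rfl : i = 1 := by omega
    have hG1 : Subsingleton (Coh.HH P ((Tw d).obj G) 1) :=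
      QCoh.subsingleton_HH_of_iso ((Tw d).mapIso eG).symm 1 (hmid d 1 le_rfl h2)
    exact h1_functor k (Tw d) (kernel.ι ψ) ψ (kernel.condition ψ) hS hG1 (surjective_of_lifts k ψ hlift d)
  · obtain ⟨d₀, hd₀⟩ := hlow (by norm_num)
    refine ⟨d₀, fun d hd => ?_⟩
    have h0G : Subsingleton (Coh.HH P ((Tw d).obj G) 0) :=
      QCoh.subsingleton_HH_of_iso ((Tw d).mapIso eG).symm 0 (hd₀ d hd)
    exact h0_functor k (Tw d) (kernel.ι ψ) ψ (kernel.condition ψ) hS h0G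

theorem neg_kernel {r s : ℕ} (kk : Fin r → ℤ) (mm : Fin s → ℤ) (hmm : ∀ j, mm j < 0) {K G : (P).Modules}
    (ι : K ⟶ G) {F : (P).Modules} (ψ : G ⟶ F) (w : ι ≫ ψ = 0) (hS : (ShortComplex.mk ι ψ w).ShortExact)
    (eK : K ≅ ∐ fun j => O (kk j)) (eG : G ≅ ∐ fun j => O (mm j)) (i : Fin r) : kk i < 0 := by
  classical
  have h1 : Subsingleton (Coh.HH P (∐ fun j => O (mm j)) 0) :=
    subsingleton_HH_sigma _ 0 fun j => Synt29.NullCorr.vanish_twist_line _ 0
      (fun h => by have := hmm j; omega) (fun h => by omega)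
  have h2 : Subsingleton (Coh.HH P K 0) :=
    Synt29.PnHodge.subsingleton_left_zero k hS (QCoh.subsingleton_HH_of_iso eG.symm 0 h1)
  by_contra hi
  refine Synt29.Rank2Pn.not_subsingleton_line (n := 2) (k := k) (not_lt.1 hi) ?_
  exact Horrocks.subsingleton_HH_retract (Sigma.ι (fun i => O (kk i)) i)
    (Sigma.desc fun l => if h : l = i then eqToHom (by rw [h]) else 0) (by simp) 0
    (QCoh.subsingleton_HH_of_iso eK 0 h2)

theorem main {F : (P).Modules} (hF : FlatMod.IsFinLocFree F) (h0 : Subsingleton (Coh.HH P F 0)) :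
    ∃ (r s : ℕ) (kk : Fin r → ℤ) (mm : Fin s → ℤ) (S : ShortComplex (P).Modules),
      S.ShortExact ∧ (∀ i, kk i < 0) ∧ (∀ j, mm j < 0) ∧
      Nonempty (S.X₁ ≅ ∐ fun i : Fin r => O (kk i)) ∧
      Nonempty (S.X₂ ≅ ∐ fun j : Fin s => O (mm j)) ∧ Nonempty (S.X₃ ≅ F) := by
  obtain ⟨s, mm, G, ψ, hmm, ⟨eG⟩, hψ, hlift⟩ := exists_pres k hF h0
  haveI := hψ
  obtain ⟨r, kk, ⟨eK⟩⟩ := S11674.split_of_acm k 2 (by norm_num) (kernel ψ)
    (acm_kernel k mm ψ hlift (isCoh_of_lf k hF) eG)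
  have hS : (ShortComplex.mk (kernel.ι ψ) ψ (kernel.condition ψ)).ShortExact :=
    { exact := ShortComplex.exact_of_f_is_kernel _ (kernelIsKernel ψ) }
  exact ⟨r, s, kk, mm, _, hS, neg_kernel k kk mm hmm _ ψ _ hS eK eG, hmm, ⟨eK⟩, ⟨eG⟩, ⟨Iso.refl _⟩⟩

end Aux

open CategoryTheory CategoryTheory.Limits AlgebraicGeometry in
/-- Let k be a characteristic-zero algebraically closed field and E a semistable rank-2 vector bundle on
P^2_k with c_1(E) = 0; here, for a finite locally free O-module E of rank 2, c_1(E) = 0 is expressed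
as 'a second exterior power of E is isomorphic to O' and semistability as H^0(P^2_k, E ⊗ O(−1)) = 0,
which for such E is equivalent to it. Then there is a short exact sequence 0 → ⊕_i O(k_i) → ⊕_j
O(m_j) → E ⊗ O(−1) → 0 with finitely many integers k_i, m_j, all negative. -/
theorem result (k : Type u) [Field k] [IsAlgClosed k]
    [CharZero k] (E : (CohB1.ProjSpace 2 k).Modules) (hE : FlatMod.IsFinLocFreeOfRank 2 E)
    (hdet : ∃ L : (CohB1.ProjSpace 2 k).Modules, ExtPow.IsExtPow 2 E L ∧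
      Nonempty (L ≅ Coh.structureModule (CohB1.ProjSpace 2 k)))
    (hss : Subsingleton (Coh.HH (CohB1.ProjSpace 2 k) (CohB1.tensorMod E (Twist.twistProjSpace 2 k (-1))) 0)) :
    ∃ (r s : ℕ) (kk : Fin r → ℤ) (mm : Fin s → ℤ) (S : ShortComplex (CohB1.ProjSpace 2 k).Modules),
      S.ShortExact ∧ (∀ i, kk i < 0) ∧ (∀ j, mm j < 0) ∧
      Nonempty (S.X₁ ≅ ∐ fun i : Fin r => Twist.twistProjSpace 2 k (kk i)) ∧
      Nonempty (S.X₂ ≅ ∐ fun j : Fin s => Twist.twistProjSpace 2 k (mm j)) ∧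
      Nonempty (S.X₃ ≅ CohB1.tensorMod E (Twist.twistProjSpace 2 k (-1))) := by
  refine main k (Synt29.PnEuler.isFinLocFree_tensorMod (H28.KvbModel.lf_of_rank hE)
    (H28.KvbModel.lf_of_rank (Synt29.Rank2Pn.rank_O _))) hss

end Groth.Agent.S11500
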