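import Groth.Statements.S11501
import Groth.Agent.H28.Serre2.Bundle
import Groth.Agent.H28.Serre2.Twist
import Groth.Agent.Lib.CurveTensor
import Groth.Agent.Synt29.PnEuler
import Groth.Agent.S0844
-- import your own Groth.Agent.* helpers here

set_option autoImplicit false
set_option backward.isDefEq.respectTransparency false
set_option backward.isDefEq.respectTransparency.types false
universe u
open VBPn

namespace Groth.Agent.S11501

open CategoryTheory CategoryTheory.Limits AlgebraicGeometry Groth.Agent.H23.PicMul in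
/-- Let k be an algebraically closed field of characteristic zero, n ≥ 3, and i : Y → P^n_k a closed
immersion which is a local complete intersection of codimension 2 (a regular immersion of
codimension 2), with ideal sheaf J_Y. Assume the determinant of the normal bundle extends to P^n_k:
some second exterior power of the conormal sheaf of i is isomorphic to i^*O(−c) for an integer c.
Then there is a rank-2 vector bundle E on P^n_k (finite locally free of rank 2), with a second
exterior power isomorphic to O(c), and a short exact sequence 0 → O → E → J_Y ⊗ O(c) → 0; the first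
map is a section of E whose zero scheme is Y. The published statement also gives c_2(E) = deg Y;
this row does not state it. -/
theorem result (k : Type u) [Field k] [IsAlgClosed k] [CharZero k]
    (n : ℕ) (hn : 3 ≤ n) {Y : Scheme.{u}} (i : Y ⟶ CohB1.ProjSpace n k) [IsClosedImmersion i]
    (hlci : RegImm.IsRegularImmersionOfCodim RegImm.Kind.regular 2 i) (c : ℤ)
    (hdet : ∃ L : Y.Modules, ExtPow.IsExtPow 2 (Omega.conormal i) L ∧
      Nonempty (L ≅ (Scheme.Modules.pullback i).obj (Twist.twistProjSpace n k (-c)))) :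
    ∃ S : ShortComplex (CohB1.ProjSpace n k).Modules, S.ShortExact ∧ FlatMod.IsFinLocFreeOfRank 2 S.X₂ ∧
      Nonempty (S.X₁ ≅ Coh.structureModule (CohB1.ProjSpace n k)) ∧
      Nonempty (S.X₃ ≅ CohB1.tensorMod (ClSub.idealMod i.ker) (Twist.twistProjSpace n k c)) ∧
      ∃ D : (CohB1.ProjSpace n k).Modules, ExtPow.IsExtPow 2 S.X₂ D ∧ Nonempty (D ≅ Twist.twistProjSpace n k c) := by
  obtain ⟨L, hL, ⟨eL⟩⟩ := hdet
  let P := CohB1.ProjSpace n k
  let ω : P.Modules := Twist.twistProjSpace n k (-c)
  haveI : EnoughInjectives P.Modules := inferInstanceAs (EnoughInjectives (SheafOfModules _))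
  let I : InjectiveResolution ω := InjectiveResolution.of _
  have hω : PicF.IsInvertible ω := Synt29.PnEuler.isInvertible_O n k (-c)
  have h2 : Subsingleton (Coh.HH P ω 2) :=
    S0844.result k n (-c) 2 (fun h => by omega) (fun h => by omega)
  obtain ⟨g, hk, hu⟩ := H28.Serre2.exists_class I i hL hω hlci eL h2
  let F := H28.Serre2.ext2 I i g hk
  have hF : FlatMod.IsFinLocFreeOfRank 2 F := H28.Serre2.rank_two I i g hk hω hlci hu
  have hdetF : ExtPow.IsExtPow 2 F ω := H28.Serre2.isExtPow_two I i g hk hω hlci hu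
  let O' : P.Modules := Twist.twistProjSpace n k c
  have hO : PicF.IsInvertible O' := Synt29.PnEuler.isInvertible_O n k c
  have hOl : FlatMod.IsFinLocFree O' := H28.KvbModel.lf_of_rank (InvEnd.isFinLocFreeOfRank_one hO)
  have hS := CurveTensor.shortExact_tensor hOl _ _ _ (H28.Serre2.shortExact I i g hk)
  refine ⟨_, hS, ?_, ?_, ?_, ?_⟩
  · exact (H28.Serre2.rank_twist hO hF)
  · refine H23.PicMul.cl_eq_iff.1 ?_
    show PicF.cl (CohB1.tensorMod O' ω) = _
    rw [H23.PicMul.cl_tensor, ← H23.PicMul.one_def]
    show Synt29.PnEuler.tw n k c * Synt29.PnEuler.tw n k (-c) = 1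
    rw [Synt29.PnEuler.tw_add, add_neg_cancel, Synt29.PnEuler.tw_zero]
  · exact H23.PicMul.comm O' (ClSub.idealMod i.ker)
  · refine ⟨_, H28.LamTwist.isExtPow_twist hO (H28.KvbModel.lf_of_rank hF) 2, H23.PicMul.cl_eq_iff.1 ?_⟩
    obtain ⟨e⟩ := H28.ExtSh.nonempty_iso_L (m := 2) (H28.KvbModel.lf_of_rank hF) hdetF
    rw [H23.PicMul.cl_tensor, H23.PicMul.cl_tensorPow, H23.PicMul.cl_eq_iff.2 ⟨e⟩]
    show Synt29.PnEuler.tw n k c ^ 2 * Synt29.PnEuler.tw n k (-c) = Synt29.PnEuler.tw n k c
    rw [pow_two, mul_assoc, Synt29.PnEuler.tw_add, add_neg_cancel, Synt29.PnEuler.tw_zero, mul_one]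

end Groth.Agent.S11501
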