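import Groth.Statements.S11502
import Groth.Agent.Synt29.SubLine

set_option autoImplicit false
universe u
open VBPn

namespace Groth.Agent.S11502

set_option linter.style.haveILetI false
set_option backward.isDefEq.respectTransparency false
set_option backward.isDefEq.respectTransparency.types false
set_option maxHeartbeats 1000000

section
open CategoryTheory CategoryTheory.Limits AlgebraicGeometry CategoryTheory.Abelian
open Groth.Agent Groth.Agent.Synt29 Groth.Agent.H23.PicMul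

attribute [local instance] Groth.Agent.QCoh.hasFiniteBiproducts

variable {n : ℕ} {k : Type u} [Field k] [QuasiSeparated (CohB1.ProjSpace.toSpec n k)]

noncomputable local instance : (CohB1.ProjSpace n k).Over (Spec (CommRingCat.of k)) :=
  ⟨CohB1.ProjSpace.toSpec n k⟩

local notation "O" => Rank2Pn.O (n := n) (k := k)

/-- Twisting a surjection out of a biproduct. -/
theorem epi_twist {A B A' B' M M' : (CohB1.ProjSpace n k).Modules} (c : ℤ) (π : A ⊞ B ⟶ M) [Epi π]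
    (eA : A' ≅ (DCoh.tensorBi.flip.obj (O c)).obj A) (eB : B' ≅ (DCoh.tensorBi.flip.obj (O c)).obj B)
    (eM : (DCoh.tensorBi.flip.obj (O c)).obj M ≅ M') :
    Epi (biprod.desc (eA.hom ≫ (DCoh.tensorBi.flip.obj (O c)).map (biprod.inl ≫ π) ≫ eM.hom)
      (eB.hom ≫ (DCoh.tensorBi.flip.obj (O c)).map (biprod.inr ≫ π) ≫ eM.hom)) := by
  haveI := SubLine.isEquivalence_twist (n := n) (k := k) c
  let G := DCoh.tensorBi.flip.obj (O c)
  haveI : G.Additive := Functor.additive_of_preserves_binary_products _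
  refine Preadditive.epi_of_cancel_zero _ fun {Z} z hz => ?_
  have h1 := congrArg (fun q => eA.inv ≫ biprod.inl ≫ q) hz
  have h2 := congrArg (fun q => eB.inv ≫ biprod.inr ≫ q) hz
  simp only [biprod.inl_desc_assoc, biprod.inr_desc_assoc, Category.assoc, Iso.inv_hom_id_assoc, comp_zero] at h1 h2
  have h : G.map π ≫ eM.hom ≫ z = 0 := by
    have e : π = biprod.fst ≫ biprod.inl ≫ π + biprod.snd ≫ biprod.inr ≫ π := by
      rw [← Category.assoc, ← Category.assoc, ← Preadditive.add_comp, biprod.total, Category.id_comp]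
    rw [e, G.map_add, G.map_comp biprod.fst, G.map_comp biprod.snd, Preadditive.add_comp, Category.assoc,
      Category.assoc]
    erw [h1, h2]
    simp
  exact (cancel_epi (G.map π ≫ eM.hom)).1 (by rw [Category.assoc, h, comp_zero])

theorem forward {c a' b' : ℤ} {X E J : (CohB1.ProjSpace n k).Modules} (g : E ⟶ X) [Epi g]
    (e₃ : X ≅ CohB1.tensorMod J (O c)) (e : E ≅ O a' ⊞ O b') :
    ∃ (a b : ℤ) (ψ : O (-a) ⊞ O (-b) ⟶ J), Epi ψ := by
  obtain ⟨eA⟩ : Nonempty (O (-(c - a')) ≅ (DCoh.tensorBi.flip.obj (O (-c))).obj (O a')) :=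
    cl_eq_iff.1 (((PnEuler.cl_tens (O a') (O (-c))).trans (PnEuler.tw_add n k a' (-c))).trans (by ring_nf)).symm
  obtain ⟨eB⟩ : Nonempty (O (-(c - b')) ≅ (DCoh.tensorBi.flip.obj (O (-c))).obj (O b')) :=
    cl_eq_iff.1 (((PnEuler.cl_tens (O b') (O (-c))).trans (PnEuler.tw_add n k b' (-c))).trans (by ring_nf)).symm
  obtain ⟨eM⟩ : Nonempty ((DCoh.tensorBi.flip.obj (O (-c))).obj X ≅ J) := cl_eq_iff.1 (by
    refine (PnEuler.cl_tens X (O (-c))).trans ?_
    rw [cl_eq_iff.2 ⟨e₃⟩, cl_tensor, mul_assoc]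
    refine Eq.trans ?_ (mul_one _)
    exact congrArg _ ((PnEuler.tw_add n k c (-c)).trans (by rw [add_neg_cancel, PnEuler.tw_zero])))
  haveI : Epi (e.inv ≫ g) := epi_comp _ _
  exact ⟨c - a', c - b', _, epi_twist (-c) (e.inv ≫ g) eA eB eM⟩

theorem backward [IsAlgClosed k] [CharZero k] (hn : 3 ≤ n) {c a b : ℤ} {J : (CohB1.ProjSpace n k).Modules}
    {S : ShortComplex (CohB1.ProjSpace n k).Modules} (hS : S.ShortExact) (hE : FlatMod.IsFinLocFreeOfRank 2 S.X₂)
    (e₁ : S.X₁ ≅ Coh.structureModule (CohB1.ProjSpace n k)) (e₃ : S.X₃ ≅ CohB1.tensorMod J (O c))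
    (ψ : O (-a) ⊞ O (-b) ⟶ J) [Epi ψ] :
    ∃ a' b' : ℤ, Nonempty (S.X₂ ≅ O a' ⊞ O b') := by
  obtain ⟨eA⟩ : Nonempty (O (c - a) ≅ (DCoh.tensorBi.flip.obj (O c)).obj (O (-a))) :=
    cl_eq_iff.1 (((PnEuler.cl_tens (O (-a)) (O c)).trans (PnEuler.tw_add n k (-a) c)).trans (by ring_nf)).symm
  obtain ⟨eB⟩ : Nonempty (O (c - b) ≅ (DCoh.tensorBi.flip.obj (O c)).obj (O (-b))) :=
    cl_eq_iff.1 (((PnEuler.cl_tens (O (-b)) (O c)).trans (PnEuler.tw_add n k (-b) c)).trans (by ring_nf)).symm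
  let eM : (DCoh.tensorBi.flip.obj (O c)).obj J ≅ S.X₃ := e₃.symm
  haveI := epi_twist c ψ eA eB eM
  let ψ' := biprod.desc (eA.hom ≫ (DCoh.tensorBi.flip.obj (O c)).map (biprod.inl ≫ ψ) ≫ eM.hom)
      (eB.hom ≫ (DCoh.tensorBi.flip.obj (O c)).map (biprod.inr ≫ ψ) ≫ eM.hom)
  haveI := PnRigid.hasExt n k
  have hlift : ∀ (d : ℤ) (f : O d ⟶ S.X₃), ∃ g : O d ⟶ S.X₂, g ≫ S.g = f := fun d f => by
    have hx : Subsingleton (Ext.{u} (O d) S.X₁ 1) := PnRigid.ext_twist n k d _ 1 fun M hM => by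
      rw [cl_eq_iff.2 ⟨e₁⟩, ← one_def, one_mul] at hM
      obtain ⟨eM⟩ := cl_eq_iff.1 hM
      exact QCoh.subsingleton_HH_of_iso eM.symm 1 (NullCorr.vanish_twist_line _ 1 (by omega) (by omega))
    obtain ⟨y, hy⟩ := Ext.covariant_sequence_exact₃ _ hS (Ext.mk₀ f) (zero_add 1) (hx.elim _ _)
    obtain ⟨y, rfl⟩ := (Ext.mk₀_bijective _ _).2 y
    rw [Ext.mk₀_comp_mk₀] at hy
    exact ⟨y, (Ext.mk₀_bijective _ _).1 hy⟩
  obtain ⟨θ₁, hθ₁⟩ := hlift (c - a) (biprod.inl ≫ ψ')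
  obtain ⟨θ₂, hθ₂⟩ := hlift (c - b) (biprod.inr ≫ ψ')
  have hθ : biprod.desc θ₁ θ₂ ≫ S.g = ψ' := biprod.hom_ext' _ _ (by simp [hθ₁]) (by simp [hθ₂])
  haveI := hS.epi_g
  haveI : Epi (biprod.desc S.f (biprod.desc θ₁ θ₂)) := Preadditive.epi_of_cancel_zero _ fun {Z} z hz => by
    have h1 : S.f ≫ z = 0 := by simpa using congrArg (fun q => biprod.inl ≫ q) hz
    have h2 : biprod.desc θ₁ θ₂ ≫ z = 0 := by simpa using congrArg (fun q => biprod.inr ≫ q) hz
    obtain ⟨z', hz'⟩ := CokernelCofork.IsColimit.desc' hS.gIsCokernel z h1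
    have hz'' : S.g ≫ z' = z := hz'
    rw [← hz'', reassoc_of% hθ] at h2
    haveI : Epi ψ' := epi_twist c ψ eA eB eM
    rw [← hz'', (cancel_epi ψ').1 (h2.trans comp_zero.symm), comp_zero]
  have hC : FlatMod.IsFinLocFreeOfRank 1 S.X₁ := SubLine.rank_of_cl
    ((cl_eq_iff.2 ⟨e₁⟩).trans ((PnEuler.tw_zero n k).trans one_def).symm) (Rank2Pn.rank_O 0)
  exact SubLine.exists_split hn (Rank2Pn.rank_O (c - a)) (Rank2Pn.rank_O (c - b)) hC hE
    (biprod.desc S.f (biprod.desc θ₁ θ₂))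

end

open CategoryTheory CategoryTheory.Limits AlgebraicGeometry in
/-- Let k be an algebraically closed field of characteristic zero, n ≥ 3, i : Y → P^n_k a closed
immersion which is a local complete intersection of codimension 2 (regular immersion of codimension
2) with ideal sheaf J_Y, and E a rank-2 vector bundle belonging to Y, that is a finite locally free
O-module of rank 2 with a short exact sequence 0 → O → E → J_Y ⊗ O(c) → 0 for some integer c. Then E
splits as O(a') ⊕ O(b') for some integers a', b' if and only if Y is a global complete intersection: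
J_Y is an epimorphic image of O(−a) ⊕ O(−b) for some integers a, b (Y is cut out
scheme-theoretically by two hypersurfaces). -/
theorem result (k : Type u) [Field k] [IsAlgClosed k] [CharZero k]
    (n : ℕ) (hn : 3 ≤ n) {Y : Scheme.{u}} (i : Y ⟶ CohB1.ProjSpace n k) [IsClosedImmersion i]
    (hlci : RegImm.IsRegularImmersionOfCodim RegImm.Kind.regular 2 i) (c : ℤ)
    (S : ShortComplex (CohB1.ProjSpace n k).Modules) (hS : S.ShortExact) (hE : FlatMod.IsFinLocFreeOfRank 2 S.X₂)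
    (h₁ : Nonempty (S.X₁ ≅ Coh.structureModule (CohB1.ProjSpace n k)))
    (h₃ : Nonempty (S.X₃ ≅ CohB1.tensorMod (ClSub.idealMod i.ker) (Twist.twistProjSpace n k c))) :
    (∃ a' b' : ℤ, Nonempty (S.X₂ ≅ Twist.twistProjSpace n k a' ⊞ Twist.twistProjSpace n k b')) ↔
      ∃ (a b : ℤ) (ψ : Twist.twistProjSpace n k (-a) ⊞ Twist.twistProjSpace n k (-b) ⟶ ClSub.idealMod i.ker),
        Epi ψ := by
  haveI : QuasiSeparated (CohB1.ProjSpace.toSpec n k) := by
    haveI := Groth.Agent.PnCoh.Chow.isProper_toSpec n k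
    infer_instance
  obtain ⟨e₁⟩ := h₁
  obtain ⟨e₃⟩ := h₃
  haveI := hS.epi_g
  constructor
  · rintro ⟨a', b', ⟨e⟩⟩
    exact forward S.g e₃ e
  · rintro ⟨a, b, ψ, hψ⟩
    haveI := hψ
    exact backward hn hS hE e₁ e₃ ψ


end Groth.Agent.S11502
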