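import Groth.Statements.S11503
import Groth.Agent.Lib.InvEnd
import Groth.Agent.ParShLib.Rank
import Groth.Agent.H23.PnChart

set_option autoImplicit false
universe u
open VBPn

namespace Groth.Agent.S11503

open CategoryTheory CategoryTheory.Limits AlgebraicGeometry TopologicalSpace Opposite

theorem rank_one_unit (X : Scheme.{u}) : FlatMod.IsFinLocFreeOfRank 1 (Coh.structureModule X) :=
  fun x => ⟨⊤, trivial, ⟨Scheme.Modules.restrictUnitIso _ ≪≫
    (coproductUniqueIso fun _ : Fin 1 => Coh.structureModule ((⊤ : X.Opens) : Scheme.{u})).symm⟩⟩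

theorem eq_zero_or_eq_zero_of_comp_eq_zero {X : Scheme.{u}} [IsIntegral X] {E : X.Modules} {r : ℕ}
    (hE : FlatMod.IsFinLocFreeOfRank r E) (s : Coh.structureModule X ⟶ E) (t : E ⟶ Coh.structureModule X)
    (h : t ≫ s = 0) : s = 0 ∨ t = 0 := by
  classical
  have hS : ∀ x : X, ∃ U : X.Opens, x ∈ U ∧ ∃ f : Fin r → Γ(E, U), H23.Frame.IsFrame E f := fun x => by
    obtain ⟨U, hx, ⟨e⟩⟩ := hE x
    exact ⟨U, hx, H23.Frame.exists_frame e⟩
  choose U hU f hf using hS
  let σ : ∀ W : X.Opens, Γ(E, W) := fun W => s.app W (show Γ(X, W) from 1)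
  have hs : ∀ (W : X.Opens) (a : Γ(X, W)), s.app W a = a • σ W := fun W a => by
    refine Eq.trans ?_ (Scheme.Modules.Hom.app_smul s a (show Γ(X, W) from 1))
    congr 1
    exact (mul_one a).symm
  have hσ : ∀ {W W' : X.Opens} (hle : W' ≤ W), E.presheaf.map (homOfLE hle).op (σ W) = σ W' := fun {W W'} hle =>
    (show s.app W' ((Coh.structureModule X).presheaf.map (homOfLE hle).op (show Γ(X, W) from 1)) =
      E.presheaf.map (homOfLE hle).op (s.app W (show Γ(X, W) from 1)) from
        ConcreteCategory.congr_hom (s.mapPresheaf.naturality (homOfLE hle).op) _).symm.trans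
      (congrArg (s.app W') (show (Coh.structureModule X).presheaf.map (homOfLE hle).op (show Γ(X, W) from (1 : Γ(X, W))) =
        (show Γ(X, W') from (1 : Γ(X, W'))) from map_one (X.presheaf.map (homOfLE hle).op).hom))
  by_cases hz : ∃ x, σ (U x) = 0
  · left
    obtain ⟨x₀, hx₀⟩ := hz
    have hall : ∀ (x : X) (W : X.Opens), W ≤ U x → σ W = 0 := by
      intro x W hW
      rw [← hσ hW]
      have : σ (U x) = 0 := by
        haveI hne : Nonempty ((U x ⊓ U x₀ : X.Opens)) := by
          obtain ⟨z, hz⟩ := nonempty_preirreducible_inter (U x).isOpen (U x₀).isOpen ⟨x, hU x⟩ ⟨x₀, hU x₀⟩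
          exact ⟨⟨z, hz⟩⟩
        obtain ⟨c, hc⟩ := (hf x (U x) le_rfl).2 (σ (U x))
        have h0 : H23.Frame.comb E (f x) (U x ⊓ U x₀) inf_le_left
            (fun i => X.presheaf.map (homOfLE (inf_le_left : U x ⊓ U x₀ ≤ U x)).op (c i)) = 0 := by
          have h1 := congrArg (E.presheaf.map (homOfLE (inf_le_left : U x ⊓ U x₀ ≤ U x)).op) hc
          rw [hσ, ← hσ (inf_le_right : U x ⊓ U x₀ ≤ U x₀), hx₀, map_zero] at h1
          refine Eq.trans ?_ h1
          simp only [H23.Frame.comb, map_sum, Scheme.Modules.map_smul]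
          refine Finset.sum_congr rfl fun i _ => ?_
          congr 1
          rw [← ConcreteCategory.comp_apply, ← E.presheaf.map_comp]
          rfl
        have h2 := (hf x _ inf_le_left).1 (h0.trans (by simp [H23.Frame.comb] :
          (0 : Γ(E, U x ⊓ U x₀)) = H23.Frame.comb E (f x) _ inf_le_left 0))
        have hc0 : c = 0 := by
          funext i
          apply map_injective_of_isIntegral (X := X) (homOfLE (inf_le_left : U x ⊓ U x₀ ≤ U x))
          rw [Pi.zero_apply, map_zero]
          exact congrFun h2 i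
        rw [← hc, hc0]
        simp [H23.Frame.comb]
      rw [this, map_zero]
    apply Scheme.Modules.hom_ext
    intro W
    ext a
    refine TopCat.Sheaf.eq_of_locally_eq' ⟨E.presheaf, E.isSheaf⟩ (fun x : W => W ⊓ U x) W
      (fun x => homOfLE inf_le_left) (fun y hy => Opens.mem_iSup.mpr ⟨⟨y, hy⟩, hy, hU y⟩) _ _ fun x => ?_
    refine Eq.trans ?_ (map_zero _).symm
    refine (congrArg _ (hs W a)).trans ?_
    show E.presheaf.map (homOfLE (inf_le_left : W ⊓ U x ≤ W)).op ((show Γ(X, W) from a) • σ W) = 0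
    rw [Scheme.Modules.map_smul, hσ, hall x _ inf_le_right, smul_zero]
  · right
    push Not at hz
    have hall : ∀ (x : X) (W : X.Opens), W ≤ U x → ∀ e : Γ(E, W), t.app W e = 0 := by
      intro x W hW e
      rcases isEmpty_or_nonempty (W : Set X) with hem | hne
      · have hWbot : W = ⊥ := eq_bot_iff.2 fun y hy => (hem.false ⟨y, hy⟩).elim
        subst hWbot
        exact @Subsingleton.elim Γ(X, ⊥) inferInstance _ _
      haveI : Nonempty W := hne
      haveI : Nonempty (U x) := ⟨⟨x, hU x⟩⟩
      let a : Γ(X, W) := t.app W e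
      show a = 0
      have h0 : a • σ W = 0 := by
        rw [← hs]
        exact congrArg (fun φ => Scheme.Modules.Hom.app φ W e) h
      obtain ⟨c, hc⟩ := (hf x (U x) le_rfl).2 (σ (U x))
      obtain ⟨i, hi⟩ : ∃ i, c i ≠ 0 := by
        by_contra! hc0
        apply hz x
        rw [← hc]
        simp [H23.Frame.comb, hc0]
      have h1 : σ W = H23.Frame.comb E (f x) W hW (fun i => X.presheaf.map (homOfLE hW).op (c i)) := by
        rw [← hσ hW, ← hc]
        simp only [H23.Frame.comb, map_sum, Scheme.Modules.map_smul]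
        refine Finset.sum_congr rfl fun i _ => ?_
        congr 1
        rw [← ConcreteCategory.comp_apply, ← E.presheaf.map_comp]
        rfl
      rw [h1] at h0
      have h2 := (hf x W hW).1 (a₁ := fun i => a * X.presheaf.map (homOfLE hW).op (c i)) (a₂ := 0) (by
        refine Eq.trans ?_ (h0.trans (by simp [H23.Frame.comb]))
        simp [H23.Frame.comb, Finset.smul_sum, mul_smul])
      rcases mul_eq_zero.1 (congrFun h2 i) with h3 | h3
      · exact h3
      · exact absurd (map_injective_of_isIntegral (X := X) (homOfLE hW) (h3.trans (map_zero _).symm)) hi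
    apply Scheme.Modules.hom_ext
    intro W
    ext e
    refine TopCat.Sheaf.eq_of_locally_eq' ⟨(Coh.structureModule X).presheaf, (Coh.structureModule X).isSheaf⟩
      (fun x : W => W ⊓ U x) W (fun x => homOfLE inf_le_left)
      (fun y hy => Opens.mem_iSup.mpr ⟨⟨y, hy⟩, hy, hU y⟩) _ _ fun x => ?_
    refine Eq.trans ?_ (map_zero _).symm
    exact (ConcreteCategory.congr_hom (t.mapPresheaf.naturality (homOfLE (inf_le_left : W ⊓ U x ≤ W)).op) e).symm.trans
      (hall x _ inf_le_right _)


open CategoryTheory CategoryTheory.Limits AlgebraicGeometry in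
/-- Let k be a characteristic-zero algebraically closed field and E a finite locally free O-module of
rank r > 1 on P^n_k. If E has a nonzero section (a nonzero morphism O → E) and its dual has a
nonzero section (a nonzero morphism E → O), then E is not simple: there is an endomorphism of E
which is not a homothety, i.e. whose underlying map of abelian sheaves is not multiplication by any
scalar c ∈ k. -/
theorem result (k : Type u) [Field k] [IsAlgClosed k] [CharZero k]
    (n r : ℕ) (hr : 1 < r) (E : (CohB1.ProjSpace n k).Modules) (hE : FlatMod.IsFinLocFreeOfRank r E)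
    (s : Coh.structureModule (CohB1.ProjSpace n k) ⟶ E) (hs : s ≠ 0)
    (t : E ⟶ Coh.structureModule (CohB1.ProjSpace n k)) (ht : t ≠ 0) :
    ∃ φ : E ⟶ E, ∀ c : k, (SheafOfModules.toSheaf (CohB1.ProjSpace n k).ringCatSheaf).map φ ≠
      Coh.smulAb E (Coh.toGlobal (CohB1.ProjSpace.toSpec n k) c) := by
  haveI : IsIntegral (CohB1.ProjSpace n k) := H23.PnChart.isIntegral_projSpace n k
  refine ⟨t ≫ s, fun c hc => ?_⟩
  by_cases hc0 : c = 0
  · rw [hc0, map_zero, Coh.smulAb_zero] at hc
    have h0 : t ≫ s = 0 := (SheafOfModules.toSheaf (CohB1.ProjSpace n k).ringCatSheaf).map_injective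
      (hc.trans (Functor.map_zero _ _ _).symm)
    rcases eq_zero_or_eq_zero_of_comp_eq_zero hE s t h0 with h | h
    · exact hs h
    · exact ht h
  · have hmul : Coh.smulAb E (Coh.toGlobal (CohB1.ProjSpace.toSpec n k) c) ≫
        Coh.smulAb E (Coh.toGlobal (CohB1.ProjSpace.toSpec n k) c⁻¹) = 𝟙 _ := by
      rw [← Coh.smulAb_mul, ← map_mul, inv_mul_cancel₀ hc0, map_one, Coh.smulAb_one]
    haveI : IsSplitMono (Coh.smulAb E (Coh.toGlobal (CohB1.ProjSpace.toSpec n k) c)) := ⟨⟨⟨_, hmul⟩⟩⟩
    haveI : Mono ((SheafOfModules.toSheaf (CohB1.ProjSpace n k).ringCatSheaf).map (t ≫ s)) := by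
      exact hc.symm ▸ (inferInstance : Mono (Coh.smulAb E (Coh.toGlobal (CohB1.ProjSpace.toSpec n k) c)))
    haveI : Mono (t ≫ s) := (SheafOfModules.toSheaf (CohB1.ProjSpace n k).ringCatSheaf).mono_of_mono_map this
    haveI : Mono t := mono_of_mono t s
    have := ParShLib.rank_le_of_mono t hE (rank_one_unit _)
    omega

end Groth.Agent.S11503
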