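import Groth.Statements.S11504
import Groth.Agent.Synt29.PnRigid
import Groth.Agent.PnCoh.Chow.Proper

set_option autoImplicit false
universe u
open VBPn

namespace Groth.Agent.S11504

open CategoryTheory CategoryTheory.Limits AlgebraicGeometry in
/-- Let k be an algebraically closed field of characteristic zero. The sheaf of relative differentials
Ω^1 of P^n_k → Spec k is simple: every O-module endomorphism of it is a homothety, i.e. its
underlying map of abelian sheaves is multiplication by some scalar c ∈ k. The published statement is
for the tangent bundle T, the dual of Ω^1; the two are equivalent since dualising identifies their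
endomorphisms. Simplicity implies indecomposability. -/
theorem result (k : Type u) [Field k] [IsAlgClosed k] [CharZero k] (n : ℕ)
    (φ : Omega.sheaf (CohB1.ProjSpace.toSpec n k) ⟶ Omega.sheaf (CohB1.ProjSpace.toSpec n k)) :
    ∃ c : k, (SheafOfModules.toSheaf (CohB1.ProjSpace n k).ringCatSheaf).map φ =
      Coh.smulAb (Omega.sheaf (CohB1.ProjSpace.toSpec n k)) (Coh.toGlobal (CohB1.ProjSpace.toSpec n k) c) := by
  haveI : QuasiSeparated (CohB1.ProjSpace.toSpec n k) := by
    haveI := Groth.Agent.PnCoh.Chow.isProper_toSpec n k
    infer_instance
  letI : (CohB1.ProjSpace n k).Over (Spec (CommRingCat.of k)) := ⟨CohB1.ProjSpace.toSpec n k⟩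
  obtain ⟨c, rfl⟩ := Groth.Agent.Synt29.PnRigid.exists_smul_omega n k φ
  refine ⟨c, ?_⟩
  rw [KLin.smul_id]
  rfl


end Groth.Agent.S11504
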