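import Groth.Statements.S11509
import Groth.Agent.Synt29.NullCorr
import Groth.Agent.PnCoh.Chow.Proper

set_option autoImplicit false
set_option backward.isDefEq.respectTransparency false
set_option backward.isDefEq.respectTransparency.types false
set_option linter.style.haveILetI false
universe u
open VBPn

namespace Groth.Agent.S11509

open CategoryTheory CategoryTheory.Limits AlgebraicGeometry in
/-- Let k be an algebraically closed field of characteristic zero and u : O(−1) → Ω^1 ⊗ O(1) a
monomorphism of O-modules on P^3_k whose cokernel M is finite locally free of rank 2 (M is the dual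
N^* of a null-correlation bundle N, and N ≅ N^* as c_1(N) = 0). Then H^0(P^3_k, M) = 0. The
published statement says that the null-correlation bundle N is stable; this row states H^0(N^*) = 0,
which is equivalent since N ≅ N^* and c_1(N) = 0. -/
theorem result (k : Type u) [Field k] [IsAlgClosed k] [CharZero k]
    (u : Twist.twistProjSpace 3 k (-1) ⟶
      CohB1.tensorMod (Omega.sheaf (CohB1.ProjSpace.toSpec 3 k)) (Twist.twistProjSpace 3 k 1))
    [Mono u] (hM : FlatMod.IsFinLocFreeOfRank 2 (cokernel u)) :
    Subsingleton (Coh.HH (CohB1.ProjSpace 3 k) (cokernel u) 0) := by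
  haveI : QuasiSeparated (CohB1.ProjSpace.toSpec 3 k) := by
    haveI := Groth.Agent.PnCoh.Chow.isProper_toSpec 3 k
    infer_instance
  exact Groth.Agent.Synt29.NullCorr.h0_coker u


end Groth.Agent.S11509
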