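import Groth.Statements.S11511
import Groth.Agent.H28.VdV.Main
-- import your own Groth.Agent.* helpers here

set_option autoImplicit false
set_option backward.isDefEq.respectTransparency false
set_option backward.isDefEq.respectTransparency.types false
universe u
open VBPn

namespace Groth.Agent.S11511

open CategoryTheory CategoryTheory.Limits AlgebraicGeometry in
/-- Let k be a characteristic-zero algebraically closed field and E a uniform rank-2 vector bundle on
P^2_k — a finite locally free O-module of rank 2 such that, for one fixed pair of integers a_1, a_2,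
i^*E ≅ O(a_1) ⊕ O(a_2) for every closed immersion of k-schemes i : P^1_k → P^2_k along which O(1)
pulls back to O(1) — which does not split as a direct sum of two twisting sheaves. Then E ≅ Ω^1 ⊗
O(b) for some integer b, Ω^1 the sheaf of differentials of P^2_k over k; equivalently E is a twist
T_{P^2}(a) of the tangent bundle. (Over P^n_k with n ≥ 3 uniform 2-bundles split.) -/
theorem result (k : Type u) [Field k] [IsAlgClosed k] [CharZero k]
    (E : (CohB1.ProjSpace 2 k).Modules) (hE : FlatMod.IsFinLocFreeOfRank 2 E) (a : Fin 2 → ℤ)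
    (huniform : ∀ (i : CohB1.ProjSpace 1 k ⟶ CohB1.ProjSpace 2 k) [IsClosedImmersion i],
      i ≫ CohB1.ProjSpace.toSpec 2 k = CohB1.ProjSpace.toSpec 1 k →
      Nonempty ((Scheme.Modules.pullback i).obj (Twist.twistProjSpace 2 k 1) ≅ Twist.twistProjSpace 1 k 1) →
      Nonempty ((Scheme.Modules.pullback i).obj E ≅ ∐ fun j : Fin 2 => Twist.twistProjSpace 1 k (a j)))
    (hns : ¬ ∃ b : Fin 2 → ℤ, Nonempty (E ≅ ∐ fun j : Fin 2 => Twist.twistProjSpace 2 k (b j))) :
    ∃ b : ℤ, Nonempty (E ≅ CohB1.tensorMod (Omega.sheaf (CohB1.ProjSpace.toSpec 2 k)) (Twist.twistProjSpace 2 k b)) := by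
  exact Groth.Agent.H28.VdV.main hE a huniform hns

end Groth.Agent.S11511
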