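import Groth.Statements.S11518
import Groth.Agent.Synt29.SimpleBundle
import Groth.Agent.PnCoh.Chow.Proper

set_option autoImplicit false
universe u
open VBPn

namespace Groth.Agent.S11518

open CategoryTheory CategoryTheory.Limits AlgebraicGeometry in
/-- Let k be an algebraically closed field of characteristic zero. For every n there is a finite locally
free O-module F of rank n − 1 on P^n_k which is simple, i.e. every endomorphism of F is a homothety
(its underlying map of abelian sheaves is multiplication by a scalar in k); in particular F is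
indecomposable. (For n ≤ 2 the assertion is trivial. The published statement also gives the total
Chern class (1 − 2h)/(1 − h)^{n+1}; this row does not state it.) -/
theorem result (k : Type u) [Field k] [IsAlgClosed k] [CharZero k] (n : ℕ) :
    ∃ F : (CohB1.ProjSpace n k).Modules, FlatMod.IsFinLocFreeOfRank (n - 1) F ∧
      ∀ φ : F ⟶ F, ∃ c : k, (SheafOfModules.toSheaf (CohB1.ProjSpace n k).ringCatSheaf).map φ =
        Coh.smulAb F (Coh.toGlobal (CohB1.ProjSpace.toSpec n k) c) := by
  haveI : QuasiSeparated (CohB1.ProjSpace.toSpec n k) := by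
    haveI := Groth.Agent.PnCoh.Chow.isProper_toSpec n k
    infer_instance
  letI : (CohB1.ProjSpace n k).Over (Spec (CommRingCat.of k)) := ⟨CohB1.ProjSpace.toSpec n k⟩
  suffices h : ∃ F : (CohB1.ProjSpace n k).Modules, FlatMod.IsFinLocFreeOfRank (n - 1) F ∧
      ∀ φ : F ⟶ F, ∃ c : k, φ = c • 𝟙 F by
    obtain ⟨F, hF, h⟩ := h
    refine ⟨F, hF, fun φ => ?_⟩
    obtain ⟨c, rfl⟩ := h φ
    refine ⟨c, ?_⟩
    rw [KLin.smul_id]
    rfl
  by_cases hn : 3 ≤ n
  · exact Groth.Agent.Synt29.SimpleBundle.exists_simple hn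
  refine ⟨FlatMod.freeMod (CohB1.ProjSpace n k) (n - 1), fun _ => ⟨⊤, trivial, Groth.Agent.H23.Frame.exists_iso_of_frame _
    (Groth.Agent.H23.Frame.incl_isFrame (X := CohB1.ProjSpace n k) (n := n - 1))⟩, fun φ => ?_⟩
  obtain ⟨f, rfl⟩ := Groth.Agent.Synt29.PnRestrict.exists_mat φ
  haveI : Subsingleton (Fin (n - 1)) := Fin.subsingleton_iff_le_one.2 (by omega)
  refine ⟨∑ i, f (Pi.single i 1) i, Groth.Agent.Synt29.PnRestrict.hom_ext fun i => ?_⟩
  rw [Groth.Agent.Synt29.PnRestrict.incl_mat, Fintype.sum_subsingleton _ i, Fintype.sum_subsingleton _ i,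
    Linear.comp_smul, Category.comp_id]


end Groth.Agent.S11518
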