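import Groth.Statements.S11519
import Groth.Agent.Synt29.NullCorr
import Groth.Agent.PnCoh.Chow.Proper

set_option autoImplicit false
set_option backward.isDefEq.respectTransparency false
set_option backward.isDefEq.respectTransparency.types false
set_option linter.style.haveILetI false
universe u
open VBPn

namespace Groth.Agent.S11519

open CategoryTheory CategoryTheory.Limits AlgebraicGeometry in
/-- Let k be an algebraically closed field of characteristic zero and a, a' : O(−1) → Ω^1 ⊗ O(1) two
bundle monomorphisms of O-modules on P^3_k, i.e. monomorphisms whose cokernels E, E' are finite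
locally free of rank 2 (null-correlation bundles up to duality). Then E ≅ E' if and only if a' = c·a
for a nonzero constant c ∈ k: the underlying map of abelian sheaves of a' equals that of a followed
by multiplication by c on Ω^1 ⊗ O(1). -/
theorem result (k : Type u) [Field k] [IsAlgClosed k] [CharZero k]
    (a a' : Twist.twistProjSpace 3 k (-1) ⟶
      CohB1.tensorMod (Omega.sheaf (CohB1.ProjSpace.toSpec 3 k)) (Twist.twistProjSpace 3 k 1))
    [Mono a] [Mono a'] (hE : FlatMod.IsFinLocFreeOfRank 2 (cokernel a)) (hE' : FlatMod.IsFinLocFreeOfRank 2 (cokernel a')) :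
    Nonempty (cokernel a ≅ cokernel a') ↔
      ∃ c : k, c ≠ 0 ∧ (SheafOfModules.toSheaf (CohB1.ProjSpace 3 k).ringCatSheaf).map a' =
        (SheafOfModules.toSheaf (CohB1.ProjSpace 3 k).ringCatSheaf).map a ≫
          Coh.smulAb (CohB1.tensorMod (Omega.sheaf (CohB1.ProjSpace.toSpec 3 k)) (Twist.twistProjSpace 3 k 1))
            (Coh.toGlobal (CohB1.ProjSpace.toSpec 3 k) c) := by
  haveI : QuasiSeparated (CohB1.ProjSpace.toSpec 3 k) := by
    haveI := Groth.Agent.PnCoh.Chow.isProper_toSpec 3 k
    infer_instance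
  letI : (CohB1.ProjSpace 3 k).Over (Spec (CommRingCat.of k)) := ⟨CohB1.ProjSpace.toSpec 3 k⟩
  haveI : Nonempty (CohB1.ProjSpace 3 k) := by
    haveI : IsIntegral (CohB1.ProjSpace 3 k) := Groth.Agent.H23.PnChart.isIntegral_projSpace 3 k
    infer_instance
  rw [Groth.Agent.Synt29.NullCorr.nonempty_iso_iff a a'
    (Groth.Agent.Synt29.NullCorr.not_isZero_of_rank (by norm_num) hE')]
  refine exists_congr fun c => and_congr_right fun _ => ?_
  have h : c • a = a ≫ (c • 𝟙 (CohB1.tensorMod (Omega.sheaf (CohB1.ProjSpace.toSpec 3 k)) (Twist.twistProjSpace 3 k 1))) := by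
    rw [Linear.comp_smul, Category.comp_id]
  have h' : (SheafOfModules.toSheaf (CohB1.ProjSpace 3 k).ringCatSheaf).map (c • a) =
      (SheafOfModules.toSheaf (CohB1.ProjSpace 3 k).ringCatSheaf).map a ≫
        Coh.smulAb (CohB1.tensorMod (Omega.sheaf (CohB1.ProjSpace.toSpec 3 k)) (Twist.twistProjSpace 3 k 1))
          (Coh.toGlobal (CohB1.ProjSpace.toSpec 3 k) c) := by
    rw [h, KLin.smul_id]
    exact ((SheafOfModules.toSheaf (CohB1.ProjSpace 3 k).ringCatSheaf).map_comp _ _).trans rfl
  rw [← h']
  exact ⟨fun e => by rw [e], fun e => (SheafOfModules.toSheaf (CohB1.ProjSpace 3 k).ringCatSheaf).map_injective e⟩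


end Groth.Agent.S11519
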