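import Groth.Statements.S1152
import Groth.Agent.S2491
import Groth.Agent.AmpleDesc5.RelStage
import Groth.Agent.AmpleX.RelAffine

set_option autoImplicit false
set_option linter.style.haveILetI false
set_option backward.isDefEq.respectTransparency false
set_option backward.isDefEq.respectTransparency.types false
open CategoryTheory CategoryTheory.Limits AlgebraicGeometry Opposite
universe u
open Desc

namespace Groth.Agent.S1152

/-- A quasi-compact scheme is covered by an affine scheme, flatly. -/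
theorem exists_affine_cover_flat (P : Scheme.{u}) [CompactSpace P] :
    ∃ (W : Scheme.{u}) (a : W ⟶ P), IsAffine W ∧ Flat a ∧ Surjective a := by
  classical
  choose U hU hpU _ using fun p : P => exists_isAffineOpen_mem_and_subset (x := p) (U := ⊤) trivial
  obtain ⟨F, hF⟩ := isCompact_univ.elim_finite_subcover (fun p => ((U p : P.Opens) : Set P))
    (fun p => (U p).2) fun p _ => Set.mem_iUnion.mpr ⟨p, hpU p⟩
  let D : F → Scheme.{u} := fun p => (U p.1).toScheme
  haveI : ∀ p, IsAffine (D p) := fun p => hU p.1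
  refine ⟨∐ D, Sigma.desc fun p => (U p.1).ι, inferInstance,
    IsZariskiLocalAtSource.sigmaDesc fun p => inferInstance, ⟨fun x => ?_⟩⟩
  obtain ⟨p, hp, hx⟩ := Set.mem_iUnion₂.mp (hF (Set.mem_univ x))
  refine ⟨Sigma.ι D ⟨p, hp⟩ ⟨x, hx⟩, ?_⟩
  rw [← Scheme.Hom.comp_apply, Sigma.ι_desc]
  rfl

/-- Single quasi-compact flat surjective cover; the converse direction is base change: Let f : X ⟶ S be
a morphism, L an invertible O_X-module, g : S' ⟶ S quasi-compact, flat and surjective, X' = X ×_S S'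
with projections to X and S', and L' the pullback of L to X'. If L' is ample on X' relative to S',
then L is ample on X relative to S. -/
theorem result {X S S' : Scheme.{u}} (f : X ⟶ S) (L : X.Modules) (hL : PicF.IsInvertible L)
    (g : S' ⟶ S) [QuasiCompact g] [Flat g] [Surjective g]
    (h : RelAmple.IsRelAmple (pullback.snd f g) ((Scheme.Modules.pullback (pullback.fst f g)).obj L)) :
    RelAmple.IsRelAmple f L := by
  haveI := h.1
  haveI : QuasiCompact f := quasiCompact_iff_forall_isAffineOpen.2 fun V hV => by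
    haveI : Surjective (pullback.fst f g) := MorphismProperty.pullback_fst f g inferInstance
    have h1 : IsCompact ((pullback.snd f g ⁻¹ᵁ (g ⁻¹ᵁ V) : Scheme.Opens _) : Set ↥(pullback f g)) :=
      (pullback.snd f g).isCompact_preimage (g.isCompact_preimage hV.isCompact)
    have h2 : pullback.fst f g ⁻¹ᵁ (f ⁻¹ᵁ V) = pullback.snd f g ⁻¹ᵁ (g ⁻¹ᵁ V) := by
      rw [← Scheme.Hom.comp_preimage, ← Scheme.Hom.comp_preimage, pullback.condition]
    rw [← h2] at h1
    have h3 := h1.image (pullback.fst f g).continuous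
    have h4 : (pullback.fst f g) '' ((pullback.fst f g ⁻¹ᵁ (f ⁻¹ᵁ V) : Scheme.Opens _) : Set ↥(pullback f g)) =
        ((f ⁻¹ᵁ V : X.Opens) : Set X) :=
      Set.image_preimage_eq ((f ⁻¹ᵁ V : X.Opens) : Set X) (pullback.fst f g).surjective
    exact h4 ▸ h3
  refine ⟨inferInstance, fun V => ?_⟩
  haveI : IsAffine (V.1 : Scheme.{u}) := V.2
  haveI : CompactSpace (g ⁻¹ᵁ V.1).toScheme := isCompact_iff_compactSpace.mp (g.isCompact_preimage V.2.isCompact)
  obtain ⟨W, a, hW, haf, has⟩ := exists_affine_cover_flat (g ⁻¹ᵁ V.1).toScheme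
  haveI : Flat (g ∣_ V.1) := IsZariskiLocalAtTarget.restrict ‹Flat g› _
  haveI : Surjective (g ∣_ V.1) := IsZariskiLocalAtTarget.restrict ‹Surjective g› _
  haveI : QuasiCompact (f ∣_ V.1) := IsZariskiLocalAtTarget.restrict ‹QuasiCompact f› _
  refine Groth.Agent.S2491.result (f ∣_ V.1) (a ≫ g ∣_ V.1) _
    (AmpleX.isInvertible_restrict _ hL) ?_
  have h1 := AmpleX.isRelAmple_baseChange (pullback.snd f g) (a ≫ (g ⁻¹ᵁ V.1).ι) h
  have sq1 : IsPullback (pullback.fst (pullback.snd f g) (a ≫ (g ⁻¹ᵁ V.1).ι) ≫ pullback.fst f g)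
      (pullback.snd (pullback.snd f g) (a ≫ (g ⁻¹ᵁ V.1).ι)) f ((a ≫ (g ⁻¹ᵁ V.1).ι) ≫ g) :=
    (IsPullback.of_hasPullback (pullback.snd f g) (a ≫ (g ⁻¹ᵁ V.1).ι)).paste_horiz
      (IsPullback.of_hasPullback f g)
  have sq2 : IsPullback (pullback.fst (f ∣_ V.1) (a ≫ g ∣_ V.1) ≫ (f ⁻¹ᵁ V.1).ι)
      (pullback.snd (f ∣_ V.1) (a ≫ g ∣_ V.1)) f ((a ≫ (g ⁻¹ᵁ V.1).ι) ≫ g) := by
    rw [Category.assoc, ← morphismRestrict_ι, ← Category.assoc a]
    exact (IsPullback.of_hasPullback _ _).paste_horiz (isPullback_morphismRestrict f V.1).flip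
  have h2 := Groth.Agent.AmpleDesc5.isRelAmple_congr sq1 sq2
    (Groth.Agent.AmpleDesc5.isRelAmple_of_moduleIso ((Scheme.Modules.pullbackComp _ _).app L) h1)
  haveI := h2.1
  refine AmpleX.isAmple_of_iso (?_ : _ ≅ _) ((AmpleX.isRelAmple_iff_isAmple _ _).1 h2)
  exact ((Scheme.Modules.pullbackComp _ _).app L).symm ≪≫
    (Scheme.Modules.pullback _).mapIso ((Scheme.Modules.restrictFunctorIsoPullback (f ⁻¹ᵁ V.1).ι).app L).symm

end Groth.Agent.S1152
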