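import Groth.Statements.S11522
import Mathlib
import Groth.Agent.PervT.Heart

set_option autoImplicit false
universe v u v' u'
open CategoryTheory CategoryTheory.Limits CategoryTheory.Pretriangulated CategoryTheory.Triangulated
open PervT

namespace Groth.Agent.S11522

/-- Let `C` be a triangulated category (octahedron axiom included) with a t-structure `t`, and let `H`
be an abelian category identified with the heart of `t` through a fully faithful additive functor
`ι` whose essential image is the heart. Let `H0 : C ⥤ H` be any functor whose composite with `ι` is
isomorphic to `τ≤0 ∘ τ≥0`, the degree-zero cohomology functor of `t`. Then `H0` is a homological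
functor: for every distinguished triangle `X ⟶ Y ⟶ Z ⟶ X⟦1⟧` the sequence `H0 X ⟶ H0 Y ⟶ H0 Z` is
exact, so that by rotation one gets the long exact cohomology sequence of the triangle in `H`. -/
theorem result {C : Type u} [Category.{v} C] [Preadditive C] [HasZeroObject C] [HasShift C ℤ] [∀ n : ℤ, (shiftFunctor C n).Additive] [Pretriangulated C] [IsTriangulated C] (t : TStructure C) {H : Type u'} [Category.{v'} H] [Abelian H] [t.Heart H] (H0 : C ⥤ H)
    (e : H0 ⋙ t.ιHeart ≅ t.truncGE 0 ⋙ t.truncLE 0) : H0.IsHomological := by
  exact Groth.Agent.HeartAb.isHomological t H0 e

end Groth.Agent.S11522
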