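import Groth.Statements.S11523
import Mathlib

set_option autoImplicit false
universe v u v' u'
open CategoryTheory CategoryTheory.Limits
open PervT

namespace Groth.Agent.S11523

/-- Let `u : A ⥤ B` be a fully faithful exact functor of abelian categories admitting a left adjoint and
a right adjoint `uStar`. Suppose every object of `A` has finite length (it is both an artinian and a
noetherian object) and that `u` sends simple objects to simple objects. Then for every object `Y` of
`B` the counit `u (uStar Y) ⟶ Y` of the adjunction `u ⊣ uStar` is a monomorphism. (The published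
statement also lists two further conditions equivalent to this one: that for every object `Y` of `B`
the unit `Y ⟶ u (L Y)` of the adjunction `L ⊣ u` of the left adjoint `L` is an epimorphism, and that
the essential image of `u` is stable under subobjects and quotients; this row states only the counit
condition.) -/
theorem result {A : Type u} [Category.{v} A] [Abelian A] {B : Type u'} [Category.{v'} B] [Abelian B]
    (u : A ⥤ B) [u.Full] [u.Faithful] [PreservesFiniteLimits u] [PreservesFiniteColimits u] [u.IsRightAdjoint]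
    (uStar : B ⥤ A) (adj : u ⊣ uStar)
    (hlen : ∀ X : A, IsArtinianObject X ∧ IsNoetherianObject X)
    (hsimple : ∀ X : A, Simple X → Simple (u.obj X)) (Y : B) :
    Mono (adj.counit.app Y) := by
  classical
  have : uStar.IsRightAdjoint := ⟨u, ⟨adj⟩⟩
  have : PreservesLimitsOfSize.{0, 0} uStar := adj.rightAdjoint_preservesLimits
  have : uStar.PreservesMonomorphisms := inferInstance
  have : u.PreservesEpimorphisms := inferInstance
  have : IsIso adj.unit := inferInstance
  have hiso : IsIso (uStar.map (adj.counit.app Y)) := by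
    have h := adj.right_triangle_components Y
    have : IsIso (adj.unit.app (uStar.obj Y)) := inferInstance
    exact IsIso.of_isIso_fac_left h
  refine Preadditive.mono_of_kernel_zero ?_
  by_contra hne
  have : Mono (uStar.map (kernel.ι (adj.counit.app Y))) := inferInstance
  have hK : IsZero (uStar.obj (kernel (adj.counit.app Y))) := by
    refine IsZero.of_mono_eq_zero (uStar.map (kernel.ι (adj.counit.app Y))) ?_
    rw [← cancel_mono (uStar.map (adj.counit.app Y)), ← Functor.map_comp, kernel.condition,
      Functor.map_zero, zero_comp]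
  clear this
  suffices main : ∀ (X : A) (K : B) (ι : K ⟶ u.obj X), Mono ι → IsZero (uStar.obj K) → ι = 0 from
    hne (main _ _ _ inferInstance hK)
  clear hne hK
  intro X K ι _ hK
  by_contra hne
  have := (hlen X).2
  let 𝒮 : Set (Subobject X) := {Z | ∀ {W : B} (a : W ⟶ K) (b : W ⟶ u.obj (Z : A)),
    a ≫ ι = b ≫ u.map Z.arrow → a = 0}
  have hbot : 𝒮.Nonempty := ⟨⊥, fun {W} a b h => by
    rw [Subobject.bot_arrow, Functor.map_zero, comp_zero] at h
    exact (cancel_mono ι).1 (h.trans zero_comp.symm)⟩
  obtain ⟨Z, hZ, hmax⟩ := (wellFounded_gt (α := Subobject X)).has_min 𝒮 hbot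
  let S₀ : ShortComplex A := ShortComplex.mk Z.arrow (cokernel.π Z.arrow) (cokernel.condition _)
  have hS₀ : S₀.Exact := ShortComplex.exact_of_g_is_cokernel _ (cokernelIsCokernel Z.arrow)
  have : Mono S₀.f := (inferInstance : Mono Z.arrow)
  have : Mono (S₀.map u).f := (inferInstance : Mono (u.map Z.arrow))
  have hlift : ∀ {W : B} (a : W ⟶ K), a ≫ ι ≫ u.map (cokernel.π Z.arrow) = 0 → a = 0 := by
    intro W a h
    have h' : (a ≫ ι) ≫ (S₀.map u).g = 0 := (Category.assoc _ _ _).trans h
    exact hZ a ((hS₀.map u).lift (a ≫ ι) h') ((hS₀.map u).lift_f (a ≫ ι) h').symm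
  have hκ : Mono (ι ≫ u.map (cokernel.π Z.arrow)) := Preadditive.mono_of_cancel_zero _ hlift
  have hQ : ¬ IsZero (cokernel Z.arrow) := fun hz => hne <| by
    have hc : cokernel.π Z.arrow = 0 := hz.eq_of_tgt _ _
    have h1 : 𝟙 K = 0 := hlift (𝟙 K) (by rw [hc, Functor.map_zero, comp_zero, comp_zero])
    rw [← Category.id_comp ι, h1, zero_comp]
  have := (hlen (cokernel Z.arrow)).1
  obtain ⟨T, hT⟩ := exists_simple_subobject hQ
  have := hsimple _ hT
  have : Epi (pullback.snd (cokernel.π Z.arrow) T.arrow) := inferInstance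
  let P := Subobject.mk (pullback.fst (cokernel.π Z.arrow) T.arrow)
  have hle : Z ≤ P := Subobject.le_mk_of_comm (pullback.lift Z.arrow 0 (by rw [cokernel.condition, zero_comp])) (pullback.lift_fst _ _ _)
  have hlt : Z < P := by
    refine lt_of_le_of_ne hle fun he => Simple.not_isZero (T : A) ?_
    refine IsZero.of_epi_eq_zero (pullback.snd (cokernel.π Z.arrow) T.arrow) ?_
    rw [← cancel_mono T.arrow, ← pullback.condition, zero_comp]
    have hfac : ∃ k, pullback.fst (cokernel.π Z.arrow) T.arrow = k ≫ Z.arrow :=
      ⟨(Subobject.underlyingIso _).inv ≫ Subobject.ofLE P Z he.ge, by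
        rw [Category.assoc, Subobject.ofLE_arrow]
        exact (Subobject.underlyingIso_arrow _).symm⟩
    obtain ⟨k, hk⟩ := hfac
    rw [hk, Category.assoc, cokernel.condition, comp_zero]
  have hP : P ∉ 𝒮 := fun h => hmax P h hlt
  simp only [𝒮, Set.mem_setOf_eq, not_forall] at hP
  obtain ⟨W, a, b, hab, ha⟩ := hP
  let κ := ι ≫ u.map (cokernel.π Z.arrow)
  have : Mono κ := hκ
  have hb : ∃ b' : W ⟶ u.obj (T : A), a ≫ κ = b' ≫ u.map T.arrow := by
    refine ⟨b ≫ u.map ((Subobject.underlyingIso _).hom ≫ pullback.snd (cokernel.π Z.arrow) T.arrow), ?_⟩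
    rw [Category.assoc, ← Functor.map_comp, Category.assoc, ← pullback.condition, ← Category.assoc
      (Subobject.underlyingIso _).hom, Subobject.underlyingIso_hom_comp_eq_mk, Functor.map_comp,
      ← Category.assoc b, ← hab, Category.assoc]
  obtain ⟨b', hb'⟩ := hb
  have hsnd : pullback.snd κ (u.map T.arrow) ≠ 0 := fun h0 => ha <| by
    have h1 : b' = pullback.lift a b' hb' ≫ pullback.snd κ (u.map T.arrow) := (pullback.lift_snd _ _ _).symm
    rw [h0, comp_zero] at h1
    rw [h1, zero_comp] at hb'
    exact (cancel_mono κ).1 (hb'.trans zero_comp.symm)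
  have := isIso_of_mono_of_nonzero hsnd
  have h1 : inv (pullback.snd κ (u.map T.arrow)) ≫ pullback.fst κ (u.map T.arrow) = 0 :=
    (adj.homEquiv (T : A) K).injective (hK.eq_of_tgt _ _)
  have h2 : pullback.fst κ (u.map T.arrow) = 0 := by
    rw [← cancel_epi (inv (pullback.snd κ (u.map T.arrow))), h1, comp_zero]
  apply ha
  rw [← pullback.lift_fst a b' hb', h2, comp_zero]

end Groth.Agent.S11523
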