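import Groth.Statements.S11526
import Groth.Agent.Frg7.Coherent
-- import your own Groth.Agent.* helpers here

set_option autoImplicit false
universe u
open AdicRing

namespace Groth.Agent.S11526

/-- Let R be a base ring of class (N) or (V) for the ideal I and A an R-algebra topologically of finite
presentation. Then A is a coherent ring: every finitely generated ideal of A is finitely presented
as an A-module. -/
theorem result
    (R : Type u) [CommRing R] (I : Ideal R) (hR : AdicRing.IsBase R I)
    (A : Type u) [CommRing A] [Algebra R A] (hA : AdicRing.TopFinitePresentation R I A)
    (J : Ideal A) (hJ : J.FG) :
    Module.FinitePresentation A J := by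
  exact Frg7.finitePresentation_ideal hR hA J hJ

end Groth.Agent.S11526
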