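import Groth.Statements.S1153
import Groth.Agent.DescLib.SepSurj

set_option autoImplicit false
set_option backward.isDefEq.respectTransparency false
set_option backward.isDefEq.respectTransparency.types false
open CategoryTheory CategoryTheory.Limits AlgebraicGeometry Opposite
universe u
open Desc

namespace Groth.Agent.S1153

/-- Let f : X ⟶ Y be locally of finite type, Z a closed subset of X and g : Y' ⟶ Y quasi-compact, flat
and surjective. If the preimage of Z in X ×_Y Y' is proper over Y', then Z is proper over Y. -/
theorem result {X Y Y' : Scheme.{u}} (f : X ⟶ Y) [LocallyOfFiniteType f] (Z : Set X) (hZ : IsClosed Z)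
    (g : Y' ⟶ Y) [QuasiCompact g] [Flat g] [Surjective g]
    (h : ClSub.IsProperOver (pullback.snd f g) ((pullback.fst f g).base ⁻¹' Z)) :
    ClSub.IsProperOver f Z := by
  obtain ⟨hZ', hp⟩ := h
  let i : (Scheme.IdealSheafData.vanishingIdeal ⟨Z, hZ⟩).subscheme ⟶ X :=
    (Scheme.IdealSheafData.vanishingIdeal ⟨Z, hZ⟩).subschemeι
  let i₀ : (Scheme.IdealSheafData.vanishingIdeal ⟨_, hZ'⟩).subscheme ⟶ pullback f g :=
    (Scheme.IdealSheafData.vanishingIdeal ⟨_, hZ'⟩).subschemeι
  let q := i ≫ f
  haveI : LocallyOfFiniteType q := inferInstance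
  let qW := pullback.snd q g
  let i' : pullback q g ⟶ pullback f g :=
    pullback.map q g f g i (𝟙 Y') (𝟙 Y) (Category.comp_id _) ((Category.comp_id _).trans (Category.id_comp _).symm)
  have hsq : IsPullback i' (pullback.fst q g) (pullback.fst f g) i := by
    refine (IsPullback.of_bot ?_ (pullback.lift_fst _ _ _).symm (IsPullback.of_hasPullback f g)).flip
    rw [show i' ≫ pullback.snd f g = pullback.snd q g from (pullback.lift_snd _ _ _).trans (Category.comp_id _)]
    exact IsPullback.of_hasPullback q g
  haveI : IsClosedImmersion i' := MorphismProperty.of_isPullback hsq.flip inferInstance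
  have hrange : Set.range i' = pullback.fst f g ⁻¹' Z := by
    rw [show Set.range i' = Set.range (hsq.isoPullback.hom ≫ pullback.fst (pullback.fst f g) i) by
      rw [hsq.isoPullback_hom_fst], Scheme.Hom.comp_base, TopCat.coe_comp, Set.range_comp,
      Set.range_eq_univ.2 hsq.isoPullback.hom.surjective, Set.image_univ, Scheme.Pullback.range_fst,
      Scheme.IdealSheafData.range_subschemeι, Scheme.IdealSheafData.coe_support_vanishingIdeal]
    rfl
  have hr0 : Set.range i₀ = pullback.fst f g ⁻¹' Z := by
    rw [Scheme.IdealSheafData.range_subschemeι, Scheme.IdealSheafData.coe_support_vanishingIdeal]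
    rfl
  have hle : i'.ker ≤ i₀.ker := by
    rw [Scheme.IdealSheafData.ker_subschemeι, ← Scheme.IdealSheafData.le_support_iff_le_vanishingIdeal]
    intro z hz
    exact i'.range_subset_ker_support (show z ∈ Set.range i' by rw [hrange]; exact hz)
  let j := IsClosedImmersion.lift i' i₀ hle
  have hj : j ≫ i' = i₀ := IsClosedImmersion.lift_fac _ _ _
  haveI : IsClosedImmersion (j ≫ i') := by rw [hj]; infer_instance
  haveI : IsClosedImmersion j := IsClosedImmersion.of_comp_isClosedImmersion j i'
  haveI : Surjective j := ⟨fun w => by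
    obtain ⟨z, hz⟩ : i' w ∈ Set.range i₀ := by rw [hr0, ← hrange]; exact ⟨w, rfl⟩
    exact ⟨z, i'.isClosedEmbedding.injective (by rw [← Scheme.Hom.comp_apply, hj]; exact hz)⟩⟩
  have hjq : j ≫ qW = i₀ ≫ pullback.snd f g := by
    rw [← hj, Category.assoc, show i' ≫ pullback.snd f g = qW from (pullback.lift_snd _ _ _).trans (Category.comp_id _)]
  haveI : IsProper (j ≫ qW) := by rw [hjq]; exact hp
  haveI : UniversallyClosed qW := UniversallyClosed.of_comp_surjective j qW
  haveI : IsSeparated qW := Groth.Agent.DescLib.isSeparated_of_comp_surjective j qW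
  have sq : IsPullback qW (pullback.fst q g) g q := (IsPullback.of_hasPullback q g).flip
  have hg := Groth.Agent.DescLib.univSubmersive_of_flat g
  haveI := SGA1Q.isSeparated_of_isPullback sq hg inferInstance
  haveI := SGA1Q.universallyClosed_of_isPullback sq hg inferInstance
  exact ⟨hZ, ⟨⟩⟩

end Groth.Agent.S1153
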