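import Groth.Statements.S11532
import Groth.Agent.Frg7.Flat
-- import your own Groth.Agent.* helpers here

set_option autoImplicit false
universe u
open scoped TensorProduct
open AdicRing

namespace Groth.Agent.S11532

/-- Let R be a base ring of class (N) or (V) for the ideal I, A → B a morphism of R-algebras
topologically of finite type and M a finite B-module. Then M is a faithfully flat A-module exactly
when, for every n, writing A_n = A/I^(n+1)A, the module A_n ⊗_A M is faithfully flat over A_n. -/
theorem result
    (R : Type u) [CommRing R] (I : Ideal R) (hR : AdicRing.IsBase R I)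
    (A : Type u) [CommRing A] [Algebra R A] (hA : AdicRing.TopFiniteType R I A)
    (B : Type u) [CommRing B] [Algebra R B] [Algebra A B] [IsScalarTower R A B]
    (hB : AdicRing.TopFiniteType R I B)
    (M : Type u) [AddCommGroup M] [Module B M] [Module A M] [IsScalarTower A B M]
    [Module.Finite B M] :
    Module.FaithfullyFlat A M ↔
      ∀ n : ℕ, Module.FaithfullyFlat (AdicRing.trunc A I n) ((AdicRing.trunc A I n) ⊗[A] M) := by
  refine ⟨fun h n => inferInstance, fun h => ?_⟩
  haveI : Module.Flat A M := Frg7.flat_of_trunc hR hA hB fun n => (h n).toFlat
  haveI := h 0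
  exact Frg7.faithfullyFlat_of_trunc hR hA

end Groth.Agent.S11532
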