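import Groth.Statements.S11533
import Groth.Agent.Frg7.Completion
-- import your own Groth.Agent.* helpers here

set_option autoImplicit false
universe u
open AdicRing

namespace Groth.Agent.S11533

/-- Let R be a base ring of class (N) or (V) for the ideal I, A an R-algebra topologically of finite
type and f_1, ..., f_r elements of A generating the unit ideal. Then every complete localization
A⟨f_i⁻¹⟩ is flat over A, and the product of the A⟨f_i⁻¹⟩ is faithfully flat over A. -/
theorem result
    (R : Type u) [CommRing R] (I : Ideal R) (hR : AdicRing.IsBase R I)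
    (A : Type u) [CommRing A] [Algebra R A] (hA : AdicRing.TopFiniteType R I A)
    (r : ℕ) (f : Fin r → A) (hf : Ideal.span (Set.range f) = ⊤) :
    (∀ i, Module.Flat A (AdicRing.CLoc I (f i))) ∧
      Module.FaithfullyFlat A (∀ i, AdicRing.CLoc I (f i)) := by
  have hflat : ∀ i, Module.Flat A (AdicRing.CLoc I (f i)) := fun i => by
    haveI : Algebra.FiniteType A (Localization.Away (f i)) := inferInstance
    haveI : Module.Flat (Localization.Away (f i)) (AdicRing.CLoc I (f i)) :=
      Frg7.flat_completion (Frg7.IsBase.fg hR) (Frg7.nice_of_finiteType hR hA _)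
    haveI : Module.Flat A (Localization.Away (f i)) := IsLocalization.flat _ (Submonoid.powers (f i))
    exact Module.Flat.trans A (Localization.Away (f i)) _
  haveI := hflat
  haveI : Module.Flat A (∀ i, AdicRing.CLoc I (f i)) :=
    Module.Flat.of_linearEquiv (DirectSum.linearEquivFunOnFintype A (Fin r) fun i => AdicRing.CLoc I (f i)).symm
  refine ⟨hflat, ⟨fun m hm h => ?_⟩⟩
  have hIm : I.map (algebraMap R A) ≤ m :=
    (Frg7.le_jacobson hR hA).trans (sInf_le ⟨bot_le, hm⟩)
  obtain ⟨i, hi⟩ : ∃ i, f i ∉ m := by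
    by_contra! hall
    exact hm.ne_top (top_le_iff.mp (hf ▸ Ideal.span_le.mpr (Set.range_subset_iff.mpr hall)))
  let L := Localization.Away (f i)
  let mL : Ideal L := m.map (algebraMap A L)
  have hJ : I.map (algebraMap R L) ≤ mL := by
    rw [IsScalarTower.algebraMap_eq R A L, ← Ideal.map_map]
    exact Ideal.map_mono hIm
  let g : AdicRing.CLoc I (f i) →ₐ[A] L ⧸ mL :=
    ((Ideal.Quotient.factorₐ L hJ).comp (AdicCompletion.evalOneₐ _)).restrictScalars A
  let G : (∀ j, AdicRing.CLoc I (f j)) →ₗ[A] L ⧸ mL := g.toLinearMap.comp (LinearMap.proj i)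
  have hG : Submodule.map G (m • ⊤) = ⊥ := by
    rw [Submodule.map_smul'', eq_bot_iff, Submodule.smul_le]
    intro a ha y _
    obtain ⟨z, rfl⟩ := Ideal.Quotient.mk_surjective y
    rw [Submodule.mem_bot]
    show Ideal.Quotient.mk mL (a • z) = 0
    rw [Algebra.smul_def]
    exact Ideal.Quotient.eq_zero_iff_mem.mpr (mL.mul_mem_right _ (Ideal.mem_map_of_mem _ ha))
  rw [h] at hG
  have h1 : (1 : L ⧸ mL) = 0 := by
    have : G (fun _ => 1) ∈ Submodule.map G ⊤ := Submodule.mem_map_of_mem trivial
    rw [hG, Submodule.mem_bot] at this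
    exact (map_one g).symm.trans this
  have hdisj : Disjoint (Submonoid.powers (f i) : Set A) m := by
    rw [Set.disjoint_left]
    rintro x ⟨k, rfl⟩ hx
    exact hi (hm.isPrime.mem_of_pow_mem k hx)
  exact (IsLocalization.isPrime_of_isPrime_disjoint (Submonoid.powers (f i)) L m hm.isPrime hdisj).ne_top
    ((Ideal.eq_top_iff_one _).mpr (Ideal.Quotient.eq_zero_iff_mem.mp ((map_one (Ideal.Quotient.mk mL)).trans h1)))

end Groth.Agent.S11533
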