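import Groth.Statements.S11536
import Groth.Agent.S11535
import Groth.Agent.S11533
import Groth.Agent.Frg7.Local
-- import your own Groth.Agent.* helpers here

set_option autoImplicit false
universe u
open AdicRing

namespace Groth.Agent.S11536

/-- Let R be a base ring of class (N) or (V) for the ideal I, A an R-algebra which is complete and
separated for the I-adic topology, and f_1, ..., f_r elements generating the unit ideal of A. Then A
is admissible over R if and only if each complete localization A⟨f_i⁻¹⟩ is. -/
theorem result
    (R : Type u) [CommRing R] (I : Ideal R) (hR : AdicRing.IsBase R I)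
    (A : Type u) [CommRing A] [Algebra R A] [IsAdicComplete (I.map (algebraMap R A)) A]
    (r : ℕ) (f : Fin r → A) (hf : Ideal.span (Set.range f) = ⊤) :
    AdicRing.Admissible R I A ↔ ∀ i, AdicRing.Admissible R I (AdicRing.CLoc I (f i)) := by
  have hI := Frg7.IsBase.fg hR
  refine ⟨fun h i => ⟨(S11535.result R I hR A r f hf).mp h.1 i, ?_⟩, fun h => ?_⟩
  · haveI := (S11533.result R I hR A ⟨_, _, h.1.choose_spec.choose_spec.1⟩ r f hf).1 i
    exact Frg7.noPowTorsion_of_flat' hI h.2 _
  · have hA := (S11535.result R I hR A r f hf).mpr fun i => (h i).1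
    refine ⟨hA, fun x k hx => ?_⟩
    obtain ⟨n, φ, hφ, -⟩ := id hA
    haveI := (S11533.result R I hR A ⟨n, φ, hφ⟩ r f hf).2
    have h0 : ∀ i, algebraMap A (AdicRing.CLoc I (f i)) x = 0 := fun i =>
      (h i).2 _ k fun a ha => by
        rw [Algebra.algebraMap_eq_smul_one, ← smul_assoc, hx a ha, zero_smul]
    exact FaithfulSMul.algebraMap_injective A (∀ i, AdicRing.CLoc I (f i))
      ((funext h0 : algebraMap A (∀ i, AdicRing.CLoc I (f i)) x = 0).trans (map_zero _).symm)

end Groth.Agent.S11536
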