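import Groth.Statements.S11538
import Mathlib
-- import your own Groth.Agent.* helpers here

set_option autoImplicit false
universe u v
open scoped TensorProduct
open AdicRing

namespace Groth.Agent.S11538

/-- `1 ⊗ -` kills exactly the multiples of `π`. -/
theorem exists_smul_of_one_tmul_eq_zero {A : Type u} [CommRing A] (π : A) (B : Type u) [CommRing B]
    [Algebra A B] (hB : Function.Surjective (algebraMap A B))
    (hker : RingHom.ker (algebraMap A B) = Ideal.span {π})
    {P : Type*} [AddCommGroup P] [Module A P] (p : P) (hp : (1 : B) ⊗ₜ[A] p = 0) :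
    ∃ q : P, π • q = p := by
  have e : (A ⧸ Ideal.span {π}) ≃ₐ[A] B :=
    (Ideal.quotientEquivAlgOfEq A (show Ideal.span {π} = RingHom.ker (Algebra.ofId A B) from hker.symm)).trans
      (Ideal.quotientKerAlgEquivOfSurjective hB)
  have h1 : (1 : A ⧸ Ideal.span {π}) ⊗ₜ[A] p = 0 := by
    apply (LinearEquiv.rTensor P e.toLinearEquiv).injective
    simp [hp]
  have h2 : Submodule.Quotient.mk p = (0 : P ⧸ Ideal.span {π} • (⊤ : Submodule A P)) := by
    have := congrArg (TensorProduct.quotTensorEquivQuotSMul P (Ideal.span {π})) h1
    simpa using this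
  rw [Submodule.Quotient.mk_eq_zero, Submodule.ideal_span_singleton_smul,
    Submodule.mem_smul_pointwise_iff_exists] at h2
  obtain ⟨q, -, hq⟩ := h2
  exact ⟨q, hq⟩

theorem smul_eq_zero_of_ker {A : Type u} [CommRing A] (π : A) (B : Type u) [CommRing B]
    [Algebra A B] (hker : RingHom.ker (algebraMap A B) = Ideal.span {π})
    {P : Type*} [AddCommGroup P] [Module A P] (p : P) : (1 : B) ⊗ₜ[A] (π • p) = 0 := by
  rw [TensorProduct.tmul_smul, TensorProduct.smul_tmul', Algebra.smul_def,
    show algebraMap A B π = 0 by
      rw [← RingHom.mem_ker, hker]; exact Ideal.mem_span_singleton_self π,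
    zero_mul, TensorProduct.zero_tmul]

/-- reduction mod π of an injection with torsion-free cokernel is injective -/
theorem baseChange_injective {A : Type u} [CommRing A] (π : A) (B : Type u) [CommRing B]
    [Algebra A B] (hB : Function.Surjective (algebraMap A B))
    (hker : RingHom.ker (algebraMap A B) = Ideal.span {π})
    {F N : Type u} [AddCommGroup F] [Module A F] [AddCommGroup N] [Module A N]
    (g : F →ₗ[A] N) (hN : ∀ x : N, π • x = 0 → x = 0) :
    Function.Injective ((LinearMap.ker g).subtype.baseChange B) := by
  rw [injective_iff_map_eq_zero]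
  intro w hw
  obtain ⟨r, rfl⟩ := TensorProduct.mk_surjective A (LinearMap.ker g) B hB w
  have hw' : (1 : B) ⊗ₜ[A] (r : F) = 0 := hw
  obtain ⟨q, hq'⟩ := exists_smul_of_one_tmul_eq_zero π B hB hker _ hw'
  have hqR : q ∈ LinearMap.ker g := by
    refine hN _ ?_
    rw [← map_smul, hq']
    exact r.2
  have hr : r = π • (⟨q, hqR⟩ : LinearMap.ker g) := Subtype.ext hq'.symm
  rw [TensorProduct.mk_apply, hr]
  exact smul_eq_zero_of_ker π B hker _

theorem rTensor_baseChange_injective {A : Type u} [CommRing A] (B : Type u) [CommRing B]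
    [Algebra A B] {M : Type v} [AddCommGroup M] [Module A M] [Module.Flat B (B ⊗[A] M)]
    {R F : Type u} [AddCommGroup R] [Module A R] [AddCommGroup F] [Module A F] (f : R →ₗ[A] F)
    (hi : Function.Injective (f.baseChange B)) :
    Function.Injective ((f.rTensor M).baseChange B) := by
  have h3 : Function.Injective ((f.baseChange B).rTensor (B ⊗[A] M)) :=
    Module.Flat.rTensor_preserves_injective_linearMap _ hi
  have h4 : ((f.baseChange B).rTensor (B ⊗[A] M)) ∘ₗ
      (TensorProduct.AlgebraTensorModule.distribBaseChange A B R M).toLinearMap =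
      (TensorProduct.AlgebraTensorModule.distribBaseChange A B F M).toLinearMap ∘ₗ
        ((f.rTensor M).baseChange B) := by
    ext r m
    simp [TensorProduct.AlgebraTensorModule.distribBaseChange]
  intro a b hab
  apply (TensorProduct.AlgebraTensorModule.distribBaseChange A B R M).injective
  apply h3
  have ha := LinearMap.congr_fun h4 a
  have hb := LinearMap.congr_fun h4 b
  simp only [LinearMap.comp_apply, LinearEquiv.coe_coe] at ha hb
  rw [ha, hb, hab]

theorem torsionFree_presentation {A : Type u} [CommRing A] (π : A) (B : Type u) [CommRing B]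
    [Algebra A B] (hker : RingHom.ker (algebraMap A B) = Ideal.span {π})
    (hB : Function.Surjective (algebraMap A B))
    {M : Type v} [AddCommGroup M] [Module A M]
    {R F N : Type u} [AddCommGroup R] [Module A R] [AddCommGroup F] [Module A F]
    [AddCommGroup N] [Module A N] (i : R →ₗ[A] F) (g : F →ₗ[A] N) (hex0 : Function.Exact i g)
    (hg : Function.Surjective g) (hFM : ∀ y : F ⊗[A] M, π • y = 0 → y = 0)
    (hinj : Function.Injective ((i.rTensor M).baseChange B))
    (x : N ⊗[A] M) (hx : π • x = 0) : x = 0 := by
  obtain ⟨y, rfl⟩ := LinearMap.rTensor_surjective M hg x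
  have hex : Function.Exact (i.rTensor M) (g.rTensor M) := rTensor_exact M hex0 hg
  rw [← map_smul] at hx
  obtain ⟨z, hz⟩ := (hex _).1 hx
  have hz0 : (1 : B) ⊗ₜ[A] z = 0 := by
    apply hinj
    rw [LinearMap.baseChange_tmul, hz, map_zero]
    exact smul_eq_zero_of_ker π B hker _
  obtain ⟨z', rfl⟩ := exists_smul_of_one_tmul_eq_zero π B hB hker z hz0
  rw [map_smul] at hz
  have h0 : π • (i.rTensor M z' - y) = 0 := by rw [smul_sub, hz, sub_self]
  rw [← sub_eq_zero.1 (hFM _ h0)]
  exact hex.apply_apply_eq_zero z'

theorem flat_tensor_torsionFree {A : Type u} [CommRing A] (π : A)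
    {M : Type v} [AddCommGroup M] [Module A M] (hM : ∀ x : M, π • x = 0 → x = 0)
    (F : Type u) [AddCommGroup F] [Module A F] [Module.Flat A F] (y : F ⊗[A] M) (hy : π • y = 0) :
    y = 0 := by
  have hi : Function.Injective (LinearMap.lsmul A M π) := by
    rw [injective_iff_map_eq_zero]; exact hM
  have h := Module.Flat.lTensor_preserves_injective_linearMap (M := F) (LinearMap.lsmul A M π) hi
  have e : LinearMap.lTensor F (LinearMap.lsmul A M π) = π • LinearMap.id := by
    ext f m
    simp
  apply h
  rw [e, LinearMap.smul_apply, LinearMap.id_apply, hy, map_zero]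

theorem torsionFree_of_flat_presentation {A : Type u} [CommRing A] (π : A) (B : Type u) [CommRing B]
    [Algebra A B] (hB : Function.Surjective (algebraMap A B))
    (hker : RingHom.ker (algebraMap A B) = Ideal.span {π})
    {M : Type v} [AddCommGroup M] [Module A M]
    (hM : ∀ x : M, π • x = 0 → x = 0) [Module.Flat B (B ⊗[A] M)]
    {F N : Type u} [AddCommGroup F] [Module A F] [Module.Flat A F] [AddCommGroup N] [Module A N]
    (g : F →ₗ[A] N) (hg : Function.Surjective g) (hN : ∀ x : N, π • x = 0 → x = 0)
    (x : N ⊗[A] M) (hx : π • x = 0) : x = 0 :=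
  torsionFree_presentation π B hker hB (LinearMap.ker g).subtype g (LinearMap.exact_subtype_ker_map g) hg
    (flat_tensor_torsionFree π hM F)
    (rTensor_baseChange_injective B _ (baseChange_injective π B hB hker g hN)) x hx

/-- π-torsion of `N ⊗ M` vanishes, for `N` π-torsion free, if `M` is π-torsion free and `M/πM` flat mod π. -/
theorem torsionFree_tensor {A : Type u} [CommRing A] (π : A) (B : Type u) [CommRing B] [Algebra A B]
    (hB : Function.Surjective (algebraMap A B)) (hker : RingHom.ker (algebraMap A B) = Ideal.span {π})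
    {M : Type v} [AddCommGroup M] [Module A M]
    (hM : ∀ x : M, π • x = 0 → x = 0) [Module.Flat B (B ⊗[A] M)]
    {N : Type u} [AddCommGroup N] [Module A N] (hN : ∀ x : N, π • x = 0 → x = 0)
    (x : N ⊗[A] M) (hx : π • x = 0) : x = 0 := by
  obtain ⟨g, hg⟩ : ∃ g : (N →₀ A) →ₗ[A] N, Function.Surjective g :=
    ⟨_, Finsupp.linearCombination_id_surjective A N⟩
  exact torsionFree_of_flat_presentation π B hB hker hM g hg hN x hx

/-- Let A be a commutative ring, π an element of A which is not a zero divisor and M an A-module. Then M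
is flat over A if and only if the π-power torsion of M vanishes, (A/πA) ⊗_A M is flat over A/πA, and
A[π⁻¹] ⊗_A M is flat over A[π⁻¹]. -/
theorem result
    (A : Type u) [CommRing A] (π : A) (hπ : π ∈ nonZeroDivisors A)
    (M : Type v) [AddCommGroup M] [Module A M] :
    Module.Flat A M ↔
      (∀ (x : M) (n : ℕ), π ^ n • x = 0 → x = 0) ∧
        Module.Flat (A ⧸ Ideal.span {π}) ((A ⧸ Ideal.span {π}) ⊗[A] M) ∧
        Module.Flat (Localization.Away π) ((Localization.Away π) ⊗[A] M) := by
  classical
  have hker : RingHom.ker (algebraMap A (A ⧸ Ideal.span {π})) = Ideal.span {π} := Ideal.mk_ker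
  constructor
  · intro h
    refine ⟨fun x n hx => ?_, inferInstance, inferInstance⟩
    have hr : IsSMulRegular A (π ^ n) := fun a b hab => by
      simpa using (mem_nonZeroDivisors_iff_right.1 (pow_mem hπ n) (a - b)
        (by simp only [smul_eq_mul] at hab; linear_combination hab) |> sub_eq_zero.1)
    have hi : Function.Injective (LinearMap.rTensor M (LinearMap.lsmul A A (π ^ n))) :=
      Module.Flat.rTensor_preserves_injective_linearMap _ (fun a b hab => hr hab)
    have h1 : LinearMap.rTensor M (LinearMap.lsmul A A (π ^ n)) ((1 : A) ⊗ₜ[A] x) = 0 := by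
      rw [LinearMap.rTensor_tmul, LinearMap.lsmul_apply, TensorProduct.smul_tmul, hx,
        TensorProduct.tmul_zero]
    have h2 := hi (h1.trans (map_zero _).symm)
    simpa using congrArg (TensorProduct.lid A M) h2
  · rintro ⟨htf, hmod, haway⟩
    rw [Module.Flat.iff_rTensor_injective']
    intro I
    rw [injective_iff_map_eq_zero]
    intro x hx
    let S := Localization.Away π
    have : Module.Flat A (S ⊗[A] M) := Module.Flat.trans A S (S ⊗[A] M)
    have hinjS : Function.Injective (LinearMap.rTensor (S ⊗[A] M) I.subtype) :=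
      Module.Flat.rTensor_preserves_injective_linearMap _ Subtype.val_injective
    have h1 : (1 : S) ⊗ₜ[A] x = 0 := by
      apply (TensorProduct.leftComm A S I M).injective
      rw [map_zero]
      apply hinjS
      rw [map_zero]
      have hnat : ∀ w : I ⊗[A] M, LinearMap.rTensor (S ⊗[A] M) I.subtype
          (TensorProduct.leftComm A S I M ((1 : S) ⊗ₜ[A] w)) =
          TensorProduct.leftComm A S A M ((1 : S) ⊗ₜ[A] (LinearMap.rTensor M I.subtype w)) := by
        intro w
        induction w using TensorProduct.induction_on with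
        | zero => simp
        | tmul i m => simp
        | add a b ha hb => simp only [TensorProduct.tmul_add, map_add, ha, hb]
      rw [hnat, hx, TensorProduct.tmul_zero, map_zero]
    have : IsLocalizedModule (Submonoid.powers π) (TensorProduct.mk A S (I ⊗[A] M) 1) :=
      (isLocalizedModule_iff_isBaseChange (Submonoid.powers π) S _).mpr
        (TensorProduct.isBaseChange A (I ⊗[A] M) S)
    obtain ⟨⟨s, n, rfl⟩, hs⟩ := (IsLocalizedModule.eq_zero_iff (Submonoid.powers π)
      (TensorProduct.mk A S (I ⊗[A] M) 1)).1 h1
    have hs' : π ^ n • x = 0 := hs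
    clear hs h1
    induction n generalizing x with
    | zero => simpa using hs'
    | succ n ih =>
      apply ih
      · exact hx
      · have := hmod
        refine torsionFree_tensor π (A ⧸ Ideal.span {π}) Ideal.Quotient.mk_surjective hker
          (fun m hm => htf m 1 (by simpa using hm)) (fun i hi => ?_) _ ?_
        · apply Subtype.ext
          have := congrArg Subtype.val hi
          exact (mul_left_mem_nonZeroDivisors_eq_zero_iff hπ).1 this
        · rw [smul_smul, ← pow_succ']; exact hs' 

end Groth.Agent.S11538
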