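import Groth.Statements.S11539
import Groth.Agent.Frg7.Completion
-- import your own Groth.Agent.* helpers here

set_option autoImplicit false
universe u
open AdicRing

namespace Groth.Agent.S11539

/-- Let R be a base ring of class (N) or (V) for the ideal I, A an R-algebra topologically of finite
type and C a finitely generated A-algebra. The I-adic completion of C is then flat over C. -/
theorem result
    (R : Type u) [CommRing R] (I : Ideal R) (hR : AdicRing.IsBase R I)
    (A : Type u) [CommRing A] [Algebra R A] (hA : AdicRing.TopFiniteType R I A)
    (C : Type u) [CommRing C] [Algebra R C] [Algebra A C] [IsScalarTower R A C]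
    [Algebra.FiniteType A C] :
    Module.Flat C (AdicCompletion (I.map (algebraMap R C)) C) := by
  exact Frg7.flat_completion (Frg7.IsBase.fg hR) (Frg7.nice_of_finiteType hR hA C)

end Groth.Agent.S11539
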