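import Groth.Statements.S1154
import Groth.Agent.InsepPic.Limit

set_option autoImplicit false
open CategoryTheory CategoryTheory.Limits AlgebraicGeometry Opposite
universe u
open PicF

namespace Groth.Agent.S1154
open scoped Groth.Agent.H23.PicMul


/-- Let k have characteristic p > 0, let X be quasi-compact and quasi-separated over k whose ring of
global functions is k itself (the structure morphism induces an isomorphism on global sections), let
n be prime to p and k'/k purely inseparable. Then every isomorphism class of invertible modules M on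
X_{k'} with M^n trivial is the pullback of such a class on X (injectivity of this pullback on
classes being a separate fact). -/
theorem result (k : Type u) [Field k] (p : ℕ) [Fact p.Prime] [CharP k p]
    (X : Scheme.{u}) (f : X ⟶ Spec (CommRingCat.of k)) [CompactSpace X] [QuasiSeparatedSpace X]
    (hH0 : IsIso f.appTop) (n : ℕ) (hn : ¬ p ∣ n) (k' : Type u) [Field k'] [Algebra k k'] [IsPurelyInseparable k k'] :
    ∀ d : PicF.Cl (pullback f (Spec.map (CommRingCat.ofHom (algebraMap k k')))), (PicF.IsInvertibleCl d ∧ ∃ M : ((pullback f (Spec.map (CommRingCat.ofHom (algebraMap k k'))))).Modules, PicF.cl M = d ∧ Nonempty (CohB1.tensorPow M n ≅ Coh.structureModule ((pullback f (Spec.map (CommRingCat.ofHom (algebraMap k k'))))))) →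
      ∃ c : PicF.Cl X, (PicF.IsInvertibleCl c ∧ ∃ M : (X).Modules, PicF.cl M = c ∧ Nonempty (CohB1.tensorPow M n ≅ Coh.structureModule (X))) ∧ PicF.pullCl (pullback.fst f (Spec.map (CommRingCat.ofHom (algebraMap k k')))) c = d := by
  rintro d ⟨hd, M, rfl, ⟨e⟩⟩
  have hdn : PicF.cl M ^ n = 1 := (Groth.Agent.H23.PicMul.cl_tensorPow M n).symm.trans
    ((Groth.Agent.H23.PicMul.cl_eq_iff.2 ⟨e⟩).trans Groth.Agent.H23.PicMul.one_def.symm)
  obtain ⟨_, ⟨N, rfl, hN⟩, hcn, hcd⟩ := Groth.Agent.InsepPic.exists_descent f k' p n hn _ hd hdn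
  refine ⟨PicF.cl N, ⟨⟨N, rfl, hN⟩, N, rfl, ?_⟩, hcd⟩
  exact Groth.Agent.H23.PicMul.cl_eq_iff.1
    ((Groth.Agent.H23.PicMul.cl_tensorPow N n).trans (hcn.trans Groth.Agent.H23.PicMul.one_def))

end Groth.Agent.S1154
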