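import Groth.Statements.S11540
import Groth.Agent.Frg7.Local
-- import your own Groth.Agent.* helpers here

set_option autoImplicit false
universe u
open AdicRing TensorProduct

namespace Groth.Agent.S11540

theorem smul_eq_zero_of_flat {R : Type u} [CommRing R] {I : Ideal R} (hI : I.FG) {S : Type u} [CommRing S]
    [Algebra R S] {C : Type u} [AddCommGroup C] [Module S C] [Module R C] [IsScalarTower R S C] [Module.Flat S C]
    (n : ℕ) (e : S) (h : ∀ t : S, (∀ a ∈ I ^ n, a • t = 0) → e * t = 0) (x : C)
    (hx : ∀ a ∈ I ^ n, a • x = 0) : e • x = 0 := by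
  classical
  obtain ⟨W, hW⟩ := hI.pow (n := n)
  let g : S →ₗ[S] (W → S) := LinearMap.pi fun w => LinearMap.mulLeft S (algebraMap R S (w : R))
  have hker : ∀ t ∈ LinearMap.ker g, e * t = 0 := fun t ht => h t fun a ha => by
    rw [← hW] at ha
    induction ha using Submodule.span_induction with
    | mem a ha => rw [Algebra.smul_def]; exact congrFun (LinearMap.mem_ker.mp ht) ⟨a, ha⟩
    | zero => exact zero_smul _ _
    | add a b _ _ ha hb => rw [add_smul, ha, hb, add_zero]
    | smul c a _ ha => rw [smul_assoc, ha, smul_zero]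
  have hg1 : g 1 = ∑ w : W, algebraMap R S (w : R) • (Pi.single w (1 : S) : W → S) := by
    funext b
    simp [g, Pi.single_apply, Finset.sum_apply, Algebra.algebraMap_eq_smul_one]
  have h0 : g.lTensor C (x ⊗ₜ[S] 1) = 0 := by
    rw [LinearMap.lTensor_tmul, hg1, TensorProduct.tmul_sum]
    refine Finset.sum_eq_zero fun w _ => ?_
    rw [← TensorProduct.smul_tmul, algebraMap_smul, hx _ (hW ▸ Submodule.subset_span w.2), TensorProduct.zero_tmul]
  obtain ⟨y, hy⟩ := (Module.Flat.lTensor_exact C (LinearMap.exact_subtype_ker_map g) _).mp h0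
  have h4 : ∀ y : C ⊗[S] (LinearMap.ker g), e • TensorProduct.rid S C ((LinearMap.ker g).subtype.lTensor C y) = 0 := by
    intro y
    induction y using TensorProduct.induction_on with
    | zero => simp
    | tmul c t =>
      rw [LinearMap.lTensor_tmul, TensorProduct.rid_tmul, smul_smul, Submodule.subtype_apply, hker t t.2, zero_smul]
    | add a b ha hb => rw [map_add, map_add, smul_add, ha, hb, add_zero]
  have h5 := h4 y
  rwa [hy, TensorProduct.rid_tmul, one_smul] at h5

/-- Let R be a base ring of class (N) or (V) for the ideal I, A an admissible R-algebra and f_0, ...,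
f_r elements of A generating an open ideal, i.e. one containing I^k A for some k. Fix i and let C_i
be the I-adic completion of the chart algebra A[ζ_j ; j ≠ i]/(f_i ζ_j − f_j ; j ≠ i). Then the
I-power torsion of C_i coincides with its f_i-power torsion. (That f_i-power torsion is I-power
torsion is elementary; the content is the converse.) -/
theorem result
    (R : Type u) [CommRing R] (I : Ideal R) (hR : AdicRing.IsBase R I)
    (A : Type u) [CommRing A] [Algebra R A] (hA : AdicRing.Admissible R I A)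
    (r : ℕ) (f : Fin (r + 1) → A) (k : ℕ)
    (hopen : (I ^ k).map (algebraMap R A) ≤ Ideal.span (Set.range f)) (i : Fin (r + 1))
    (x : AdicRing.chartCompl I f i) :
    (∃ n : ℕ, ∀ a ∈ I ^ n, a • x = 0) ↔
      ∃ n : ℕ, algebraMap A (AdicRing.chartCompl I f i) (f i) ^ n * x = 0 := by
  classical
  have hI := Frg7.IsBase.fg hR
  obtain ⟨⟨nA, φ, hφ, -⟩, hTA⟩ := hA
  let S := AdicRing.chartAlg f i
  let mkS : MvPolynomial {j // j ≠ i} A →+* S := Ideal.Quotient.mk _
  let s : S := algebraMap A S (f i)
  have hrel : ∀ j : {j // j ≠ i}, s * mkS (MvPolynomial.X j) = algebraMap A S (f j.1) := fun j => by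
    show mkS (MvPolynomial.C (f i)) * mkS (MvPolynomial.X j) = mkS (MvPolynomial.C (f j.1))
    rw [← map_mul]
    exact Ideal.Quotient.eq.mpr (Ideal.subset_span ⟨j, rfl⟩)
  have hfj : ∀ j, algebraMap A S (f j) ∈ Ideal.span {s} := fun j => by
    by_cases h : j = i
    · rw [h]; exact Ideal.mem_span_singleton_self s
    · exact Ideal.mem_span_singleton'.mpr ⟨mkS (MvPolynomial.X ⟨j, h⟩), by rw [mul_comm]; exact hrel ⟨j, h⟩⟩
  have hk : ∀ a ∈ I ^ k, algebraMap R S a ∈ Ideal.span {s} := fun a ha => by
    rw [IsScalarTower.algebraMap_apply R A S]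
    have h1 := hopen (Ideal.mem_map_of_mem _ ha)
    have h2 : Ideal.span (Set.range f) ≤ (Ideal.span {s}).comap (algebraMap A S) :=
      Ideal.span_le.mpr (Set.range_subset_iff.mpr hfj)
    exact h2 h1
  have hS : ∀ t : S, ∃ (a : A) (N : ℕ), s ^ N * t = algebraMap A S a := fun t => by
    obtain ⟨p, rfl⟩ := Ideal.Quotient.mk_surjective t
    induction p using MvPolynomial.induction_on with
    | C a => exact ⟨a, 0, by rw [pow_zero, one_mul]; rfl⟩
    | add p q hp hq =>
      obtain ⟨a, N, ha⟩ := hp
      obtain ⟨b, M, hb⟩ := hq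
      refine ⟨f i ^ M * a + f i ^ N * b, N + M, ?_⟩
      rw [map_add, map_add, map_mul, map_mul, map_pow, map_pow, ← ha, ← hb]
      ring
    | mul_X p j hp =>
      obtain ⟨a, N, ha⟩ := hp
      refine ⟨a * f j.1, N + 1, ?_⟩
      rw [map_mul, map_mul, ← ha, ← hrel j, pow_succ]
      ring
  let L := Localization.Away (f i)
  let ev : MvPolynomial {j // j ≠ i} A →+* L := MvPolynomial.eval₂Hom (algebraMap A L)
    fun j => algebraMap A L (f j.1) * IsLocalization.Away.invSelf (f i)
  have hinv : algebraMap A L (f i) * IsLocalization.Away.invSelf (f i) = 1 := IsLocalization.Away.mul_invSelf (f i)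
  let evS : S →+* L := Ideal.Quotient.lift _ ev fun x hx => by
    refine (Ideal.span_le (I := RingHom.ker ev)).mpr ?_ hx
    rintro _ ⟨j, rfl⟩
    simp only [SetLike.mem_coe, RingHom.mem_ker, map_sub, map_mul, ev, MvPolynomial.eval₂Hom_C, MvPolynomial.eval₂Hom_X']
    rw [mul_left_comm, hinv, mul_one, sub_self]
  have hevA : ∀ a : A, evS (algebraMap A S a) = algebraMap A L a := fun a => MvPolynomial.eval₂Hom_C _ _ a
  haveI : Module.Flat A L := IsLocalization.flat _ (Submonoid.powers (f i))
  have hLtor := Frg7.noPowTorsion_of_flat' hI hTA L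
  have htor : ∀ t : S, ∀ n, (∀ a ∈ I ^ n, a • t = 0) → ∃ N, s ^ N * t = 0 := fun t n ht => by
    obtain ⟨a, N, ha⟩ := hS t
    have h1 : algebraMap A L a = 0 := hLtor _ n fun b hb => by
      rw [← hevA, ← ha]
      have h2 : algebraMap R S b * t = 0 := by rw [← Algebra.smul_def]; exact ht b hb
      have h3 := congrArg evS h2
      rw [map_mul, map_zero, IsScalarTower.algebraMap_apply R A S, hevA, ← IsScalarTower.algebraMap_apply] at h3
      rw [Algebra.smul_def, map_mul, mul_left_comm, h3, mul_zero]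
    obtain ⟨⟨_, M, rfl⟩, hM⟩ := (IsLocalization.map_eq_zero_iff (Submonoid.powers (f i)) L a).mp h1
    refine ⟨M + N, ?_⟩
    rw [pow_add, mul_assoc, ha, ← map_pow, ← map_mul]
    exact (congrArg _ hM).trans (map_zero _)
  haveI : Algebra.FiniteType A S := inferInstance
  have hnice : Frg7.Nice I S := Frg7.nice_of_finiteType hR ⟨nA, φ, hφ⟩ S
  obtain ⟨G, hG⟩ := hnice.1.fg (Frg7.satClosure I (⊥ : Submodule S S)) (Frg7.isSat_satClosure hI ⊥)
  have hN' : ∀ t : G, ∃ N, s ^ N * (t : S) = 0 := fun t => by
    obtain ⟨n, hn⟩ := (hG ▸ Submodule.subset_span t.2 : (t : S) ∈ Frg7.satClosure I (⊥ : Submodule S S))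
    exact htor t n fun a ha => (Submodule.mem_bot S).mp (hn a ha)
  choose N hN using hN'
  have hkill : ∀ t ∈ Frg7.satClosure I (⊥ : Submodule S S), s ^ (Finset.univ.sup N) * t = 0 := by
    intro t ht
    rw [← hG] at ht
    induction ht using Submodule.span_induction with
    | mem t ht =>
      obtain ⟨d, hd⟩ := le_iff_exists_add'.mp (Finset.le_sup (f := N) (Finset.mem_univ ⟨t, ht⟩))
      rw [hd, pow_add, mul_assoc, hN ⟨t, ht⟩, mul_zero]
    | zero => exact mul_zero _
    | add a b _ _ ha hb => rw [mul_add, ha, hb, add_zero]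
    | smul c a _ ha => rw [smul_eq_mul, mul_left_comm, ha, mul_zero]
  constructor
  · rintro ⟨n, hn⟩
    refine ⟨Finset.univ.sup N, ?_⟩
    haveI : Module.Flat S (AdicRing.chartCompl I f i) := Frg7.flat_completion hI hnice
    have h5 := smul_eq_zero_of_flat hI n (s ^ (Finset.univ.sup N))
      (fun t ht => hkill t ⟨n, fun a ha => (Submodule.mem_bot S).mpr (ht a ha)⟩) x hn
    refine Eq.trans ?_ h5
    refine (congrArg (· * x) ?_).trans (Algebra.smul_def (R := S) (A := AdicRing.chartCompl I f i) _ x).symm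
    rw [map_pow]
    exact congrArg (· ^ _) (IsScalarTower.algebraMap_apply A S (AdicRing.chartCompl I f i) (f i))
  · rintro ⟨n, hn⟩
    refine ⟨k * n, fun a ha => ?_⟩
    have h1 : algebraMap R S a ∈ Ideal.span {s} ^ n := by
      have : (I ^ k).map (algebraMap R S) ≤ Ideal.span {s} := Ideal.map_le_iff_le_comap.mpr hk
      refine Ideal.pow_right_mono this n ?_
      rw [← Ideal.map_pow, ← pow_mul]
      exact Ideal.mem_map_of_mem _ ha
    rw [Ideal.span_singleton_pow, Ideal.mem_span_singleton'] at h1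
    obtain ⟨c, hc⟩ := h1
    rw [IsScalarTower.algebraMap_apply A S, ← map_pow] at hn
    rw [← algebraMap_smul S a x, ← hc, mul_smul, Algebra.smul_def (s ^ n) x]
    rw [show algebraMap S (AdicRing.chartCompl I f i) (s ^ n) * x = 0 from hn, smul_zero]

end Groth.Agent.S11540
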