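import Groth.Statements.S11542
import Groth.Agent.Frg7.RigPoint2
-- import your own Groth.Agent.* helpers here

set_option autoImplicit false
universe u
open AdicRing

namespace Groth.Agent.S11542

/-- Let R be a complete valuation ring of height one with t a nonzero element generating an ideal of
definition, A and B admissible R-algebras with B a local integral domain of Krull dimension one, f
an element of A and u a surjective R-algebra homomorphism from the complete localization A⟨f⁻¹⟩ onto
B. Then the composite of u with the canonical map A → A⟨f⁻¹⟩ is surjective. -/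
theorem result
    (R : Type u) [CommRing R] [IsDomain R] [ValuationRing R] [Ring.KrullDimLE 1 R]
    (t : R) (ht : t ≠ 0) [IsAdicComplete (Ideal.span {t}) R]
    (A : Type u) [CommRing A] [Algebra R A] (hA : AdicRing.Admissible R (Ideal.span {t}) A) (f : A)
    (B : Type u) [CommRing B] [Algebra R B] [IsDomain B] [IsLocalRing B]
    (hB : AdicRing.Admissible R (Ideal.span {t}) B) (hdim : ringKrullDim B = 1)
    (u : AdicRing.CLoc (Ideal.span {t}) f →ₐ[R] B) (hu : Function.Surjective u) :
    Function.Surjective
      (u.toRingHom.comp (algebraMap A (AdicRing.CLoc (Ideal.span {t}) f))) := by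
  classical
  have h := Frg7.algebraMap_ne_zero_of_admissible ht hB
  obtain ⟨⟨n, φ, hφ, -⟩, -⟩ := hB
  haveI := Frg7.finite_of_dim_le_one ht ⟨n, φ, hφ⟩ h hdim.le
  let C := AdicRing.CLoc (Ideal.span {t}) f
  let w : A →ₐ[R] B := u.comp (IsScalarTower.toAlgHom R A C)
  suffices hw : Function.Surjective w from hw
  obtain ⟨s, hs⟩ : IsUnit (algebraMap A C f) := by
    rw [IsScalarTower.algebraMap_apply A (Localization.Away f) C]
    exact (IsLocalization.Away.algebraMap_isUnit f).map _
  have hinv : u ↑s⁻¹ ∈ w.range := by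
    obtain ⟨P, hP, hPx⟩ := Algebra.IsIntegral.isIntegral (R := R) (u (↑s⁻¹ : C))
    have hbb : w f * u ↑s⁻¹ = 1 := by
      show u (algebraMap A C f) * u ↑s⁻¹ = 1
      rw [← map_mul, ← hs, Units.mul_inv, map_one]
    have key : ∀ Q : Polynomial R, ∀ k, Q.natDegree ≤ k →
        w f ^ k * Polynomial.aeval (u ↑s⁻¹) Q ∈ w.range := by
      intro Q k hk
      rw [Polynomial.aeval_eq_sum_range, Finset.mul_sum]
      refine sum_mem fun i hi => ?_
      obtain ⟨j, rfl⟩ := le_iff_exists_add'.mp ((Nat.lt_succ_iff.mp (Finset.mem_range.mp hi)).trans hk)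
      rw [mul_smul_comm, pow_add, mul_assoc, ← mul_pow, hbb, one_pow, mul_one]
      exact Subalgebra.smul_mem _ (pow_mem (w.mem_range_self f) j) _
    rcases Nat.eq_zero_or_pos P.natDegree with hd | hd
    · rw [hP.natDegree_eq_zero.mp hd, Polynomial.eval₂_one] at hPx
      exact absurd hPx one_ne_zero
    · obtain ⟨k, hk⟩ : ∃ k, P.natDegree = k + 1 := ⟨P.natDegree - 1, (Nat.sub_add_cancel hd).symm⟩
      have hQ := key P.eraseLead k (by have := P.eraseLead_natDegree_le; omega)
      have hsum := congrArg (Polynomial.aeval (u (↑s⁻¹ : C))) P.eraseLead_add_C_mul_X_pow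
      rw [map_add, map_mul, map_pow, Polynomial.aeval_X, Polynomial.aeval_C, hP.leadingCoeff, map_one, one_mul,
        hk] at hsum
      have hlast : w f ^ k * Polynomial.aeval (u ↑s⁻¹) P.eraseLead + u ↑s⁻¹ = 0 := by
        have h1 := congrArg (w f ^ k * ·) hsum
        simp only [← Polynomial.aeval_def] at hPx
        simp only [hPx, mul_zero, mul_add, pow_succ, ← mul_assoc, ← mul_pow, hbb, one_pow, one_mul] at h1
        exact h1
      rw [eq_neg_of_add_eq_zero_right hlast]
      exact neg_mem hQ
  have hI := Frg7.IsBase.fg (Frg7.isBase (R := R) ht)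
  have hcong : ∀ b : B, ∃ a : A, b - w a ∈ (Ideal.span {t} • ⊤ : Submodule R B) := by
    intro b
    obtain ⟨z, rfl⟩ := hu b
    obtain ⟨l, hl⟩ := Adic7.exists_sub_algebraMap_mem _ (hI.map (algebraMap R (Localization.Away f))) z 1
    obtain ⟨a, ⟨_, k, rfl⟩, rfl⟩ := IsLocalization.exists_mk'_eq (Submonoid.powers f) l
    have hloc : u (algebraMap (Localization.Away f) C (IsLocalization.mk' (Localization.Away f) a (⟨f ^ k, k, rfl⟩ : Submonoid.powers f))) ∈ w.range := by
      have hC : algebraMap (Localization.Away f) C (IsLocalization.mk' (Localization.Away f) a (⟨f ^ k, k, rfl⟩ : Submonoid.powers f)) =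
          algebraMap A C a * (↑s⁻¹ : C) ^ k := by
        apply (IsUnit.pow k ⟨s, hs⟩).mul_right_cancel
        rw [mul_assoc, ← mul_pow, ← hs, Units.inv_mul, one_pow, mul_one, hs, ← map_pow,
          IsScalarTower.algebraMap_apply A (Localization.Away f) C, ← map_mul, IsLocalization.mk'_spec,
          ← IsScalarTower.algebraMap_apply]
      rw [hC, map_mul, map_pow]
      exact mul_mem (w.mem_range_self a) (pow_mem hinv k)
    obtain ⟨a', ha'⟩ := hloc
    refine ⟨a', ?_⟩
    rw [pow_one, Ideal.map_map, ← IsScalarTower.algebraMap_eq] at hl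
    have h2 := Ideal.mem_map_of_mem u.toRingHom hl
    rw [Ideal.map_map, AlgHom.toRingHom_eq_coe, u.comp_algebraMap, RingHom.coe_coe, map_sub] at h2
    rw [Ideal.smul_top_eq_map, Submodule.restrictScalars_mem]
    rw [show w a' = _ from ha']
    exact h2
  have hle : (⊤ : Submodule R B) ≤ LinearMap.range w.toLinearMap := by
    refine Submodule.le_of_le_smul_of_le_jacobson_bot (I := Ideal.span {t}) Module.Finite.fg_top ?_ fun b _ => ?_
    · rw [IsLocalRing.jacobson_eq_maximalIdeal _ bot_ne_top]
      exact (Ideal.span_singleton_le_iff_mem _).mpr (Frg7.mem_maximalIdeal_of_isAdicComplete ‹_›)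
    · obtain ⟨a, ha⟩ := hcong b
      exact Submodule.mem_sup.mpr ⟨w a, ⟨a, rfl⟩, _, ha, add_sub_cancel _ _⟩
  exact fun b => hle (x := b) trivial

end Groth.Agent.S11542
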