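import Groth.Statements.S11543
import Groth.Agent.Frg7.DimOne
-- import your own Groth.Agent.* helpers here

set_option autoImplicit false
universe u
open scoped TensorProduct
open AdicRing

namespace Groth.Agent.S11543

/-- Let R be a complete valuation ring of height one with t a nonzero element generating an ideal of
definition and K its field of fractions, and let A be an admissible R-algebra. Then the non-open
prime ideals p of A (those not containing t) with A/p of Krull dimension one correspond bijectively
to the maximal ideals of A ⊗_R K: the extension of such a p along A → A ⊗_R K is maximal and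
contracts back to p, and every maximal ideal of A ⊗_R K contracts to such a prime and is the
extension of its contraction. -/
theorem result
    (R : Type u) [CommRing R] [IsDomain R] [ValuationRing R] [Ring.KrullDimLE 1 R]
    (t : R) (ht : t ≠ 0) [IsAdicComplete (Ideal.span {t}) R]
    (A : Type u) [CommRing A] [Algebra R A] (hA : AdicRing.Admissible R (Ideal.span {t}) A) :
    (∀ p : Ideal A, p.IsPrime → algebraMap R A t ∉ p → ringKrullDim (A ⧸ p) = 1 →
        (p.map (Algebra.TensorProduct.includeLeftRingHom :
          A →+* A ⊗[R] FractionRing R)).IsMaximal ∧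
        (p.map (Algebra.TensorProduct.includeLeftRingHom :
          A →+* A ⊗[R] FractionRing R)).comap (Algebra.TensorProduct.includeLeftRingHom :
          A →+* A ⊗[R] FractionRing R) = p) ∧
      (∀ m : Ideal (A ⊗[R] FractionRing R), m.IsMaximal →
        algebraMap R A t ∉ m.comap (Algebra.TensorProduct.includeLeftRingHom :
            A →+* A ⊗[R] FractionRing R) ∧
          ringKrullDim (A ⧸ m.comap (Algebra.TensorProduct.includeLeftRingHom :
            A →+* A ⊗[R] FractionRing R)) = 1 ∧
          (m.comap (Algebra.TensorProduct.includeLeftRingHom :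
            A →+* A ⊗[R] FractionRing R)).map (Algebra.TensorProduct.includeLeftRingHom :
            A →+* A ⊗[R] FractionRing R) = m) := by
  have hR := Frg7.isBase (R := R) ht
  obtain ⟨⟨nA, φ, hφ, -⟩, -⟩ := hA
  have hA' : AdicRing.TopFiniteType R (Ideal.span {t}) A := ⟨nA, φ, hφ⟩
  have htm := Frg7.mem_maximalIdeal_of_isAdicComplete ‹IsAdicComplete (Ideal.span {t}) R›
  let M := Algebra.algebraMapSubmonoid A (nonZeroDivisors R)
  let G := A ⊗[R] FractionRing R
  have hι : (Algebra.TensorProduct.includeLeftRingHom : A →+* G) = algebraMap A G := rfl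
  rw [hι]
  have hdisj : ∀ p : Ideal A, p.IsPrime → algebraMap R A t ∉ p → Disjoint (M : Set A) p := by
    intro p hp htp
    rw [Set.disjoint_left]
    rintro _ ⟨r, hr, rfl⟩ hrp
    obtain ⟨k, e, he⟩ := Frg7.exists_dvd_pow htm (nonZeroDivisors.ne_zero hr)
    exact htp (hp.mem_of_pow_mem k (by rw [← map_pow, he, map_mul]; exact p.mul_mem_right _ hrp))
  have htM : algebraMap R A t ∈ M := ⟨t, mem_nonZeroDivisors_of_ne_zero ht, rfl⟩
  refine ⟨fun p hp htp hdim => ?_, fun m hm => ?_⟩
  · have hd := hdisj p hp htp
    have hcomap : (p.map (algebraMap A G)).comap (algebraMap A G) = p :=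
      IsLocalization.under_map_of_isPrime_disjoint M G hp hd
    refine ⟨?_, hcomap⟩
    obtain ⟨n, hn, hle⟩ := Ideal.exists_le_maximal _ (IsLocalization.isPrime_of_isPrime_disjoint M G p hp hd).ne_top
    have hq := (IsLocalization.isPrime_iff_isPrime_disjoint M G n).mp hn.isPrime
    have hpq : p ≤ n.comap (algebraMap A G) := hcomap ▸ Ideal.comap_mono hle
    suffices hq' : n.comap (algebraMap A G) = p by
      rw [show p.map (algebraMap A G) = n from hq' ▸ IsLocalization.map_under M G n]
      exact hn
    by_contra hne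
    haveI := hp
    haveI : Ring.KrullDimLE 1 (A ⧸ p) := ⟨hdim.le⟩
    haveI : (n.comap (algebraMap A G)).IsPrime := hq.1
    have hq0 : (n.comap (algebraMap A G)).map (Ideal.Quotient.mk p) ≠ ⊥ := fun h => hne (le_antisymm (by
      have := Ideal.map_le_iff_le_comap.mp h.le
      rwa [← RingHom.ker_eq_comap_bot, Ideal.mk_ker] at this) hpq)
    have hmax : ((n.comap (algebraMap A G)).map (Ideal.Quotient.mk p)).IsMaximal :=
      Ideal.IsPrime.isMaximal_of_ne_bot
        (Ideal.map_isPrime_of_surjective Ideal.Quotient.mk_surjective (by rwa [Ideal.mk_ker])) hq0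
    have hmax' : (n.comap (algebraMap A G)).IsMaximal := by
      have := Ideal.comap_isMaximal_of_surjective (Ideal.Quotient.mk p) Ideal.Quotient.mk_surjective (K := (n.comap (algebraMap A G)).map (Ideal.Quotient.mk p))
      rwa [Ideal.comap_map_of_surjective _ Ideal.Quotient.mk_surjective, ← RingHom.ker_eq_comap_bot, Ideal.mk_ker,
        sup_eq_left.mpr hpq] at this
    exact Set.disjoint_left.mp hq.2 htM
      ((Frg7.le_jacobson hR hA').trans (sInf_le ⟨bot_le, hmax'⟩)
        (Ideal.mem_map_of_mem _ (Ideal.mem_span_singleton_self t)))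
  · have hp := (IsLocalization.isPrime_iff_isPrime_disjoint M G m).mp hm.isPrime
    have htp : algebraMap R A t ∉ m.comap (algebraMap A G) := fun h => Set.disjoint_left.mp hp.2 htM h
    refine ⟨htp, ?_, IsLocalization.map_under M G m⟩
    set p := m.comap (algebraMap A G) with hpdef
    haveI : p.IsPrime := hp.1
    obtain hB : AdicRing.TopFiniteType R (Ideal.span {t}) (A ⧸ p) :=
      ⟨nA, (Ideal.Quotient.mkₐ R p).comp φ, Ideal.Quotient.mk_surjective.comp hφ⟩
    refine Frg7.ringKrullDim_eq_one_of_forall_dvd ht hB (fun h => htp (Ideal.Quotient.eq_zero_iff_mem.mp h)) fun b hb => ?_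
    obtain ⟨b, rfl⟩ := Ideal.Quotient.mk_surjective b
    have hbm : algebraMap A G b ∉ m := fun h => hb (Ideal.Quotient.eq_zero_iff_mem.mpr h)
    obtain ⟨z, hz⟩ := hm.exists_inv hbm
    obtain ⟨i, hi, hzi⟩ := hz
    obtain ⟨a, ⟨_, r, hr, rfl⟩, rfl⟩ := IsLocalization.exists_mk'_eq M z
    obtain ⟨k, e, he⟩ := Frg7.exists_dvd_pow htm (nonZeroDivisors.ne_zero hr)
    refine ⟨Ideal.Quotient.mk p (a * algebraMap R A e), k, ?_⟩
    rw [← map_mul, show algebraMap R (A ⧸ p) t ^ k = Ideal.Quotient.mk p (algebraMap R A (t ^ k)) by rw [map_pow, map_pow]; rfl,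
      Ideal.Quotient.eq, he, map_mul, show b * (a * algebraMap R A e) - algebraMap R A r * algebraMap R A e =
        (b * a - algebraMap R A r) * algebraMap R A e by ring]
    refine p.mul_mem_right _ ?_
    rw [hpdef, Ideal.mem_comap, map_sub, map_mul, ← IsLocalization.mk'_spec G a (⟨algebraMap R A r, r, hr, rfl⟩ : M),
      ← mul_assoc, ← sub_one_mul]
    refine m.mul_mem_right _ ?_
    rw [mul_comm (algebraMap A G b), show IsLocalization.mk' G a (⟨algebraMap R A r, r, hr, rfl⟩ : M) * algebraMap A G b - 1 = -i by
      linear_combination hzi]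
    exact neg_mem hi

end Groth.Agent.S11543
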