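import Groth.Statements.S11545
import Groth.Agent.Adic7.Lift

set_option autoImplicit false
universe u
open AdicRing

namespace Groth.Agent.S11545

/-- Let R be a base ring of class (N) or (V) for the ideal I, A an admissible R-algebra, f_0, ..., f_r
elements generating an open ideal 𝔞 of A, and A_i = C_i/(f_i-power torsion) the i-th chart algebra
of the formal blowing-up of 𝔞. Let B be an R-algebra complete and separated for the I-adic topology
and φ : A → B an R-algebra homomorphism such that the ideal 𝔞B is generated by φ(f_i), a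
non-zero-divisor of B. Then there is exactly one R-algebra homomorphism A_i → B whose composite with
A → A_i is φ. -/
theorem result
    (R : Type u) [CommRing R] (I : Ideal R) (hR : AdicRing.IsBase R I)
    (A : Type u) [CommRing A] [Algebra R A] (hA : AdicRing.Admissible R I A)
    (r : ℕ) (f : Fin (r + 1) → A) (k : ℕ)
    (hopen : (I ^ k).map (algebraMap R A) ≤ Ideal.span (Set.range f)) (i : Fin (r + 1))
    (B : Type u) [CommRing B] [Algebra R B] [IsAdicComplete (I.map (algebraMap R B)) B]
    (φ : A →ₐ[R] B) (hnzd : φ (f i) ∈ nonZeroDivisors B)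
    (hgen : (Ideal.span (Set.range f)).map φ = Ideal.span {φ (f i)}) :
    ∃! ψ : AdicRing.chartAdm I f i →ₐ[R] B,
      ψ.comp (IsScalarTower.toAlgHom R A (AdicRing.chartAdm I f i)) = φ := by
  classical
  have hI : I.FG := by
    obtain ⟨-, ⟨hN, -⟩ | ⟨-, -, -, t, -, rfl⟩⟩ := hR
    · exact IsNoetherian.noetherian I
    · exact Submodule.fg_span_singleton t
  have hj : ∀ j, ∃ g : B, φ (f j) = g * φ (f i) := fun j =>
    Ideal.mem_span_singleton'.mp (hgen.le (Ideal.mem_map_of_mem φ (Ideal.subset_span ⟨j, rfl⟩)))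
      |>.imp fun g hg => hg.symm
  choose g hg using hj
  let S := AdicRing.chartAlg f i
  let J : Ideal S := I.map (algebraMap R S)
  let C := AdicRing.chartCompl I f i
  let K := I.map (algebraMap R B)
  let ev : MvPolynomial {j // j ≠ i} A →+* B := MvPolynomial.eval₂Hom φ.toRingHom fun j => g j.1
  let f₀ : S →+* B := Ideal.Quotient.lift _ ev fun x hx => by
    refine (Ideal.span_le (I := RingHom.ker ev)).mpr ?_ hx
    rintro _ ⟨j, rfl⟩
    simp [ev, ← hg j.1, mul_comm]
  let fS : S →ₐ[R] B := AlgHom.mk f₀ fun a => by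
    show ev (algebraMap R (MvPolynomial {j // j ≠ i} A) a) = _
    rw [IsScalarTower.algebraMap_apply R A (MvPolynomial {j // j ≠ i} A), MvPolynomial.algebraMap_eq]
    simp [ev]
  have hfS : J.map fS ≤ K :=
    le_of_eq ((Ideal.map_map (algebraMap R S) fS.toRingHom).trans (congrArg (Ideal.map · I) fS.comp_algebraMap))
  obtain ⟨F, hF⟩ := Groth.Agent.Adic7.exists_lift_completion J K fS hfS
  have hFA : ∀ a : A, F (algebraMap A C a) = φ a := fun a => by
    rw [IsScalarTower.algebraMap_apply A S C, hF]
    show ev (MvPolynomial.C a) = _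
    simp [ev]
  have htor : ∀ x ∈ (⨆ n : ℕ, Submodule.torsionBy C C (algebraMap A C (f i) ^ n) : Ideal C), F x = 0 := by
    intro x hx
    refine (iSup_le fun n => ?_ : _ ≤ RingHom.ker F) hx
    intro y hy
    rw [Submodule.mem_torsionBy_iff, smul_eq_mul] at hy
    have h1 := congrArg F hy
    rw [map_zero, map_mul, map_pow, hFA, mul_comm] at h1
    exact (mem_nonZeroDivisors_iff_right.mp (pow_mem hnzd n)) _ h1
  refine ⟨Ideal.Quotient.liftₐ _ F htor, AlgHom.ext fun a => hFA a, fun ψ hψ => ?_⟩
  refine Ideal.Quotient.algHom_ext R ?_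
  rw [show (Ideal.Quotient.liftₐ _ F htor).comp (Ideal.Quotient.mkₐ R _) = F from AlgHom.ext fun _ => rfl]
  let G : C →ₐ[R] B := ψ.comp (Ideal.Quotient.mkₐ R _)
  have hle : ∀ H : C →ₐ[R] B, (J.map (algebraMap S C)).map H ≤ K := fun H => le_of_eq (by
    rw [Ideal.map_map]
    exact (Ideal.map_map _ H.toRingHom).trans (congrArg (Ideal.map · I) H.comp_algebraMap))
  refine Groth.Agent.Adic7.algHom_ext_completion J (Ideal.FG.map hI _) K G F (hle G) (hle F) fun s => ?_
  have hGA : ∀ a : A, G (algebraMap A C a) = φ a := fun a => AlgHom.congr_fun hψ a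
  obtain ⟨p, rfl⟩ := Ideal.Quotient.mk_surjective s
  rw [hF]
  refine congr($(MvPolynomial.ringHom_ext (f := ((G.toRingHom).comp (algebraMap S C)).comp (Ideal.Quotient.mk _))
    (g := f₀.comp (Ideal.Quotient.mk _)) (fun a => ?_) (fun j => ?_)) p)
  · show G (algebraMap A C a) = ev (MvPolynomial.C a)
    rw [hGA]; simp [ev]
  · show G (algebraMap S C (Ideal.Quotient.mk _ (MvPolynomial.X j))) = ev (MvPolynomial.X j)
    have hrel : algebraMap A C (f i) * algebraMap S C (Ideal.Quotient.mk _ (MvPolynomial.X j)) =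
        algebraMap A C (f j.1) := by
      rw [IsScalarTower.algebraMap_apply A S C, IsScalarTower.algebraMap_apply A S C, ← map_mul]
      congr 1
      show Ideal.Quotient.mk _ (MvPolynomial.C (f i)) * _ = Ideal.Quotient.mk _ (MvPolynomial.C (f j.1))
      rw [← map_mul, Ideal.Quotient.eq]
      exact Ideal.subset_span ⟨j, rfl⟩
    have h1 := congrArg G hrel
    rw [map_mul, hGA, hGA, hg j.1] at h1
    have h2 : (G (algebraMap S C (Ideal.Quotient.mk _ (MvPolynomial.X j))) - g j.1) * φ (f i) = 0 := by
      linear_combination h1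
    have h3 := (mem_nonZeroDivisors_iff_right.mp hnzd) _ h2
    rw [sub_eq_zero] at h3
    simpa [ev] using h3


end Groth.Agent.S11545
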