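import Groth.Statements.S11548
import Mathlib.FieldTheory.IsAlgClosed.AlgebraicClosure
import Groth.Agent.Frg7.RigPoint2
-- import your own Groth.Agent.* helpers here

set_option autoImplicit false
universe u
open AdicRing

namespace Groth.Agent.S11548

/-- Let R be a complete valuation ring of height one with t a nonzero element generating an ideal of
definition, and m a maximal ideal of R⟨ζ_1, ..., ζ_n⟩ containing t (a closed point of the special
fibre). Then there is a prime ideal p contained in m and not containing t such that R⟨ζ_1, ...,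
ζ_n⟩/p has Krull dimension one. (This is the affine content of the surjectivity of the
specialization map onto closed points, for the formal affine space.) -/
theorem result
    (R : Type u) [CommRing R] [IsDomain R] [ValuationRing R] [Ring.KrullDimLE 1 R]
    (t : R) (ht : t ≠ 0) [IsAdicComplete (Ideal.span {t}) R]
    (n : ℕ) (m : Ideal (AdicRing.RPow R (Ideal.span {t}) n)) [m.IsMaximal]
    (hm : algebraMap R (AdicRing.RPow R (Ideal.span {t}) n) t ∈ m) :
    ∃ p : Ideal (AdicRing.RPow R (Ideal.span {t}) n), p.IsPrime ∧ p ≤ m ∧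
      algebraMap R (AdicRing.RPow R (Ideal.span {t}) n) t ∉ p ∧
      ringKrullDim (AdicRing.RPow R (Ideal.span {t}) n ⧸ p) = 1 := by
  classical
  have hR := Frg7.isBase (R := R) ht
  have hI := Frg7.IsBase.fg hR
  set RP := AdicRing.RPow R (Ideal.span {t}) n with hRP
  let ρ : MvPolynomial (Fin n) R →ₐ[R] RP := IsScalarTower.toAlgHom R (MvPolynomial (Fin n) R) RP
  have hdense : ∀ b : RP, ∃ q, b - ρ q ∈ Ideal.span {algebraMap R RP t} := fun b => by
    obtain ⟨q, hq⟩ := Frg7.exists_sub_mem_map_pow hI b 1
    rw [pow_one] at hq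
    exact ⟨q, Ideal.map_le_iff_le_comap.mpr
      ((Ideal.span_singleton_le_iff_mem _).mpr (Ideal.mem_span_singleton_self (algebraMap R RP t))) hq⟩
  let mk : MvPolynomial (Fin n) R →ₐ[R] RP ⧸ m := (Ideal.Quotient.mkₐ R m).comp ρ
  have hmk : Function.Surjective mk := fun y => by
    obtain ⟨b, rfl⟩ := Ideal.Quotient.mk_surjective y
    obtain ⟨q, hq⟩ := hdense b
    exact ⟨q, (Ideal.Quotient.eq.mpr ((Ideal.span_singleton_le_iff_mem m).mpr hm hq)).symm⟩
  letI := Ideal.Quotient.field m
  haveI : Algebra.FiniteType R (RP ⧸ m) := Algebra.FiniteType.of_surjective mk hmk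
  haveI : Module.Finite R (RP ⧸ m) := by
    refine Frg7.finite_of_forall_isMaximal ht _ (Ideal.Quotient.eq_zero_iff_mem.mpr hm) fun P hP => ?_
    rw [(Ideal.eq_bot_or_top P).resolve_right hP.ne_top]
    exact Ideal.bot_isMaximal
  haveI := Frg7.henselian ht (R := R)
  let L := AlgebraicClosure (FractionRing R)
  let O := integralClosure R L
  haveI : IsLocalRing O := Hensel.isLocalRing_of_isIntegral_domain R O
  set M := IsLocalRing.maximalIdeal O with hM
  let kk := IsLocalRing.ResidueField R
  have hMc : M.comap (algebraMap R O) = IsLocalRing.maximalIdeal R := IsLocalRing.eq_maximalIdeal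
    (Ideal.isMaximal_comap_of_isIntegral_of_isMaximal M)
  letI := Ideal.Quotient.field M
  letI : Algebra kk (O ⧸ M) := (Ideal.quotientMap M (algebraMap R O) hMc.ge).toAlgebra
  haveI : IsScalarTower R kk (O ⧸ M) := IsScalarTower.of_algebraMap_eq fun _ => rfl
  haveI : IsAlgClosed (O ⧸ M) := IsAlgClosed.of_exists_root _ fun p hpm hirr => by
    obtain ⟨q, hq, -, hqm⟩ := Polynomial.lifts_and_degree_eq_and_monic (f := Ideal.Quotient.mk M)
      ((Polynomial.mem_lifts p).mpr (Polynomial.map_surjective _ Ideal.Quotient.mk_surjective p)) hpm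
    have hdeg : (q.map (algebraMap O L)).degree ≠ 0 := by
      rw [hqm.degree_map]
      intro h0
      have h1 : p = 1 := hpm.degree_le_zero_iff_eq_one.mp (by rw [← hq, hqm.degree_map, h0])
      exact hirr.not_isUnit (h1 ▸ isUnit_one)
    obtain ⟨α, hα⟩ := IsAlgClosed.exists_root _ hdeg
    have hint : IsIntegral O α := ⟨q, hqm, by rw [← Polynomial.eval_map]; exact hα⟩
    let a : O := ⟨α, isIntegral_trans (R := R) (A := O) α hint⟩
    refine ⟨Ideal.Quotient.mk M a, ?_⟩
    have hinj : Function.Injective (algebraMap O L) := Subtype.val_injective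
    have h2 : q.eval a = 0 := hinj (by
      rw [map_zero, ← Polynomial.eval₂_at_apply, ← Polynomial.eval_map]
      exact hα)
    rw [← hq, Polynomial.eval_map, Polynomial.eval₂_at_apply, h2, map_zero]
  letI : Algebra kk (RP ⧸ m) := (Ideal.Quotient.lift (IsLocalRing.maximalIdeal R) (algebraMap R (RP ⧸ m)) fun a ha => by
    obtain ⟨k, hk⟩ := Frg7.mem_radical_of_mem ha ht
    obtain ⟨b, hb⟩ := Ideal.mem_span_singleton'.mp hk
    refine pow_eq_zero_iff'.mp (show algebraMap R (RP ⧸ m) a ^ k = 0 by
      rw [← map_pow, ← hb, map_mul, show algebraMap R (RP ⧸ m) t = 0 from Ideal.Quotient.eq_zero_iff_mem.mpr hm, mul_zero]) |>.1).toAlgebra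
  haveI : IsScalarTower R kk (RP ⧸ m) := IsScalarTower.of_algebraMap_eq fun _ => rfl
  haveI : Module.Finite kk (RP ⧸ m) := Module.Finite.of_restrictScalars_finite R kk _
  let θ : RP ⧸ m →ₐ[kk] O ⧸ M := IsAlgClosed.lift
  choose a ha using fun i => Ideal.Quotient.mk_surjective (θ (mk (MvPolynomial.X i)))
  set C := Algebra.adjoin R (Set.range a) with hC
  haveI : Module.Finite R C := Module.Finite.iff_fg.mpr
    (fg_adjoin_of_finite (Set.finite_range a) fun x _ => Algebra.IsIntegral.isIntegral x)
  have htO : algebraMap R O t ≠ 0 := fun e => ht (IsFractionRing.injective R (FractionRing R)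
    ((algebraMap (FractionRing R) L).injective (by
      rw [map_zero, map_zero, ← IsScalarTower.algebraMap_apply]; exact congrArg Subtype.val e)))
  have htC : algebraMap R C t ≠ 0 := fun e => htO (congrArg Subtype.val e)
  haveI := Frg7.isLocalRing_of_finite ht (B := C)
  haveI : IsAdicComplete ((Ideal.span {t}).map (algebraMap R C)) C :=
    (IsAdicComplete.map_algebraMap_iff _ C).mpr (Frg7.isAdicComplete hR (Frg7.topFiniteType_self ht) C)
  let f : MvPolynomial (Fin n) R →ₐ[R] C := MvPolynomial.aeval fun i => ⟨a i, Algebra.subset_adjoin ⟨i, rfl⟩⟩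
  obtain ⟨F, hF⟩ := Adic7.exists_lift_completion ((Ideal.span {t}).map (MvPolynomial.C : R →+* MvPolynomial (Fin n) R))
    ((Ideal.span {t}).map (algebraMap R C)) f
    (le_of_eq ((Ideal.map_map (I := Ideal.span {t}) MvPolynomial.C f.toRingHom).trans
      (congrArg (Ideal.map · (Ideal.span {t})) f.comp_algebraMap)))
  have hFsurj : Function.Surjective F := fun y => by
    have hval : C.val.comp f = MvPolynomial.aeval a := MvPolynomial.algHom_ext fun i => by simp [f]
    obtain ⟨q, hq⟩ : (y : O) ∈ (MvPolynomial.aeval a : MvPolynomial (Fin n) R →ₐ[R] O).range :=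
      Algebra.adjoin_range_eq_range_aeval R a ▸ y.2
    refine ⟨algebraMap _ _ q, Subtype.ext ?_⟩
    rw [hF]
    exact (AlgHom.congr_fun hval q).trans hq
  let red : RP →ₐ[R] O ⧸ M := ((Ideal.Quotient.mkₐ R M).comp C.val).comp F
  have hredρ : red.comp ρ = (θ.restrictScalars R).comp mk := MvPolynomial.algHom_ext fun i => by
    show Ideal.Quotient.mk M ((F (algebraMap _ _ (MvPolynomial.X i)) : C) : O) = θ (mk (MvPolynomial.X i))
    rw [hF, ← ha i]
    simp [f]
  refine ⟨RingHom.ker F.toRingHom, RingHom.ker_isPrime _, fun x hx => ?_, fun h => htC ?_, ?_⟩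
  · obtain ⟨q, hq⟩ := hdense x
    have h1 : red x = 0 := by
      show Ideal.Quotient.mk M ((F x : C) : O) = 0
      rw [show F x = 0 from hx]; rfl
    have h2 : red (ρ q) = 0 := by
      obtain ⟨e, he⟩ := Ideal.mem_span_singleton'.mp hq
      have h3 : red (algebraMap R RP t) = 0 := by
        rw [AlgHom.commutes]
        refine Ideal.Quotient.eq_zero_iff_mem.mpr (hMc.ge ?_)
        exact Frg7.mem_maximalIdeal_of_isAdicComplete ‹IsAdicComplete (Ideal.span {t}) R›
      rw [show ρ q = x - e * algebraMap R RP t by rw [he]; ring, map_sub, map_mul, h1, h3, mul_zero, sub_zero]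
    have h4 : mk q = 0 := θ.toRingHom.injective (by
      rw [map_zero]
      exact (AlgHom.congr_fun hredρ q).symm.trans h2)
    have h5 := add_mem ((Ideal.span_singleton_le_iff_mem m).mpr hm hq) (Ideal.Quotient.eq_zero_iff_mem.mp h4)
    convert h5 using 1
    exact (sub_add_cancel _ _).symm
  · rw [← F.commutes]; exact h
  · exact (ringKrullDim_eq_of_ringEquiv (RingHom.quotientKerEquivOfSurjective hFsurj)).trans
      (Frg7.ringKrullDim_of_finite ht htC)

end Groth.Agent.S11548
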