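import Groth.Statements.S5022
import Groth.Agent.Synt29.SmoothFree
import Groth.Agent.Synt29.SmoothDim
import Groth.Agent.S2156

set_option autoImplicit false
set_option linter.style.haveILetI false
universe u
open CategoryTheory CategoryTheory.Limits AlgebraicGeometry TopologicalSpace
open Unram17

namespace Groth.Agent.S5022

/-- Let f : X ⟶ Y be locally of finite presentation, (Ω', d) a sheaf of differentials of X over Y (d
universal) and x a point of X. Then f is smooth at x if and only if the stalk map at x is flat and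
there are an open neighbourhood U of x and an integer n with Ω' free of rank n on U and n equal to
the local dimension at x of the fibre of f through x. -/
theorem result {X Y : Scheme.{u}} (f : X ⟶ Y)
    [LocallyOfFinitePresentation f] (Ω' : X.Modules) (d : OmegaSh.Der f Ω') (hd : OmegaSh.IsUniversal d) (x : ↥X) :
    x ∈ f.smoothLocus ↔
      (f.stalkMap x).hom.Flat ∧
        ∃ (U : X.Opens) (n : ℕ), x ∈ U ∧ Nonempty (Ω'.restrict U.ι ≅ FlatMod.freeMod (↑U) n) ∧
          FlatMor.fibreDimAt f x = (n : WithBot ℕ∞) := by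
  constructor
  · intro hx
    refine ⟨Groth.Agent.S2156.flat_of_mem f x hx, ?_⟩
    let W := f.smoothLocus
    haveI : Smooth (W.ι ≫ f) := by
      rw [← Scheme.Hom.smoothLocus_eq_top_iff, ← Scheme.Hom.preimage_smoothLocus_eq]
      exact Scheme.Opens.ι_preimage_self f.smoothLocus
    obtain ⟨U, hU, V', hV', e', n, hxV', hstd, -, hdim⟩ :=
      Groth.Agent.Synt29.SmoothDim.exists_chart (W.ι ≫ f) ⟨x, hx⟩
    rw [Groth.Agent.FibDim.fibreDimAt_openImmersion_comp W.ι f ⟨x, hx⟩] at hdim
    let V := W.ι ''ᵁ V'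
    have hV : IsAffineOpen V := hV'.image_of_isOpenImmersion W.ι
    have hxV : x ∈ V := ⟨⟨x, hx⟩, hxV', rfl⟩
    have e : V ≤ f ⁻¹ᵁ U := by rintro _ ⟨z, hz, rfl⟩; exact e' hz
    refine ⟨V, n, hxV, ?_, hdim⟩
    letI := (f.appLE U V e).hom.toAlgebra
    have hstd' : RingHom.IsStandardSmoothOfRelativeDimension n (f.appLE U V e).hom := by
      have heq : f.appLE U V e ≫ (W.ι.appIso V').hom = (W.ι ≫ f).appLE U V' e' := by
        rw [Scheme.Hom.appIso_hom', Scheme.Hom.appLE_comp_appLE]
      have h2 := RingHom.isStandardSmoothOfRelativeDimension_respectsIso (n := n)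
      rw [← h2.cancel_right_isIso (f.appLE U V e) (W.ι.appIso V').hom, ← CommRingCat.hom_comp, heq]
      exact hstd
    have : Algebra.IsStandardSmoothOfRelativeDimension n Γ(Y, U) Γ(X, V) := hstd'
    have : Algebra.IsStandardSmooth Γ(Y, U) Γ(X, V) :=
      Algebra.IsStandardSmoothOfRelativeDimension.isStandardSmooth n
    have : Nontrivial Γ(X, V) := by
      refine ⟨⟨0, 1, fun h => ?_⟩⟩
      have h1 := congrArg (X.presheaf.germ V x hxV) h
      rw [map_zero, map_one] at h1
      exact zero_ne_one h1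
    have hr : Module.finrank Γ(X, V) Ω[Γ(X, V)⁄Γ(Y, U)] = n := by
      have := Algebra.IsStandardSmoothOfRelativeDimension.rank_kaehlerDifferential (R := Γ(Y, U)) (S := Γ(X, V)) n
      simp [Module.finrank, this]
    let b := (Module.finBasisOfFinrankEq Γ(X, V) Ω[Γ(X, V)⁄Γ(Y, U)] hr).reindex Equiv.ulift.symm
    obtain ⟨l⟩ := Groth.Agent.Synt29.OmegaStalk.exists_linearEquiv_sections hd hV hU e
    exact Groth.Agent.QCoh.exists_free_restrict
      (Groth.Agent.Synt29.OmegaStalk.isQCoh_of_isUniversal hd) hV (l.trans b.repr)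
  · rintro ⟨hflat, U, n, hxU, ⟨e⟩, hdim⟩
    exact Groth.Agent.Synt29.SmoothFree.mem_smoothLocus_of_free f Ω' d hd x hflat U n hxU e hdim

end Groth.Agent.S5022
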