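import Groth.Statements.S1162
import Mathlib.AlgebraicGeometry.Morphisms.UniversallyInjective
import Mathlib.AlgebraicGeometry.Morphisms.Flat
import Mathlib.AlgebraicGeometry.Morphisms.UniversallyOpen
import Mathlib.Topology.Sober

set_option autoImplicit false
set_option backward.isDefEq.respectTransparency false
set_option backward.isDefEq.respectTransparency.types false
open CategoryTheory CategoryTheory.Limits AlgebraicGeometry Opposite
universe u
open Desc

namespace Groth.Agent.S1162

/-- Let f : X ⟶ Y be flat and separated. Write X⁰ for the generic points of the irreducible components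
of X. If for every ξ in X⁰ the residue field extension κ(f ξ) ⊆ κ(ξ) is trivial and f is injective
on X⁰, then f is universally injective. -/
theorem result {X Y : Scheme.{u}} (f : X ⟶ Y) [Flat f] [IsSeparated f]
    (h2 : ∀ ξ : X, closure ({ξ} : Set X) ∈ irreducibleComponents (X : Type u) →
      Function.Surjective (f.residueFieldMap ξ).hom)
    (h3 : Set.InjOn f.base {ξ : X | closure ({ξ} : Set X) ∈ irreducibleComponents (X : Type u)}) :
    UniversallyInjective f := by
  rw [UniversallyInjective.iff_diagonal]
  haveI := (inferInstance : IsClosedImmersion (pullback.diagonal f))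
  have hmax : ∀ {Z : Scheme.{u}} {z z' : Z}, closure ({z} : Set Z) ∈ irreducibleComponents (Z : Type u) →
      z' ⤳ z → z' = z := fun {Z z z'} hz h => by
    have h1 : closure ({z} : Set Z) = closure ({z'} : Set Z) :=
      le_antisymm h.closure_subset (hz.2 isIrreducible_singleton.closure h.closure_subset)
    exact (h.antisymm (specializes_iff_closure_subset.2 h1.symm.subset)).eq
  -- generic points go to generic points along flat morphisms
  have hgen : ∀ {Z W : Scheme.{u}} (p : Z ⟶ W) [Flat p] {z : Z},
      closure ({z} : Set Z) ∈ irreducibleComponents (Z : Type u) →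
        closure ({p z} : Set W) ∈ irreducibleComponents (W : Type u) := fun {Z W} p _ {z} hz => by
    obtain ⟨C, hC, hzC⟩ := exists_mem_irreducibleComponents_subset_of_isIrreducible _
      (isIrreducible_singleton (x := p z)).closure
    have hg := hC.1.isGenericPoint_genericPoint (isClosed_of_mem_irreducibleComponents C hC)
    have hs : hC.1.genericPoint ⤳ p z := hg.specializes (hzC (subset_closure rfl))
    obtain ⟨z', hz', e⟩ := Flat.generalizingMap p hs
    rw [← hmax hz hz', e, hg.def]
    exact hC
  refine ⟨fun z₀ => ?_⟩
  have hcl : IsClosed (Set.range (pullback.diagonal f)) := (pullback.diagonal f).isClosedEmbedding.isClosed_range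
  refine closure_minimal ?_ hcl
    ((genericPoints.closure (α := (pullback f f : Scheme.{u}))).symm.subset (Set.mem_univ z₀))
  intro z (hz : closure ({z} : Set (pullback f f : Scheme.{u})) ∈ irreducibleComponents _)
  have hff : pullback.fst f f z = pullback.snd f f z := by
    refine h3 (hgen _ hz) (hgen _ hz) ?_
    rw [← Scheme.Hom.comp_apply, ← Scheme.Hom.comp_apply, pullback.condition]
  let K := (pullback f f).residueField z
  let φ : Spec K ⟶ pullback f f := (pullback f f).fromSpecResidueField z
  suffices h : φ ≫ pullback.fst f f = φ ≫ pullback.snd f f by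
    have hfac : φ = (φ ≫ pullback.fst f f) ≫ pullback.diagonal f := by
      apply pullback.hom_ext <;> simp [h]
    obtain ⟨x, hx⟩ : ∃ x, φ x = z := ⟨IsLocalRing.closedPoint K,
      Scheme.fromSpecResidueField_apply _ _⟩
    exact ⟨(φ ≫ pullback.fst f f) x, by rw [← hx, ← Scheme.Hom.comp_apply, ← hfac]⟩
  have main : ∀ (x : X), closure ({x} : Set X) ∈ irreducibleComponents (X : Type u) →
      ∀ (a b : X.residueField x ⟶ K), (Spec.map a ≫ X.fromSpecResidueField x) ≫ f =
        (Spec.map b ≫ X.fromSpecResidueField x) ≫ f → a = b := fun x hx a b h => by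
    rw [Category.assoc, Category.assoc, ← Scheme.Hom.SpecMap_residueFieldMap_fromSpecResidueField,
      ← Category.assoc, ← Category.assoc, cancel_mono, ← Spec.map_comp, ← Spec.map_comp, Spec.map_inj] at h
    haveI : Epi (f.residueFieldMap x) := ConcreteCategory.epi_of_surjective _ (h2 x hx)
    exact (cancel_epi (f.residueFieldMap x)).1 h
  have ha : Spec.map ((pullback.fst f f).residueFieldMap z) ≫ X.fromSpecResidueField (pullback.fst f f z) =
      φ ≫ pullback.fst f f := Scheme.Hom.SpecMap_residueFieldMap_fromSpecResidueField _ _
  have hb : Spec.map ((X.residueFieldCongr hff).hom ≫ (pullback.snd f f).residueFieldMap z) ≫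
      X.fromSpecResidueField (pullback.fst f f z) = φ ≫ pullback.snd f f := by
    rw [Spec.map_comp, Category.assoc, Scheme.residueFieldCongr_fromSpecResidueField]
    exact Scheme.Hom.SpecMap_residueFieldMap_fromSpecResidueField _ _
  have hab := main _ (hgen _ hz) _ _ (show (Spec.map ((pullback.fst f f).residueFieldMap z) ≫ _) ≫ f =
    (Spec.map ((X.residueFieldCongr hff).hom ≫ (pullback.snd f f).residueFieldMap z) ≫ _) ≫ f by
      rw [ha, hb, Category.assoc, Category.assoc, pullback.condition])
  rw [← ha, hab]
  exact hb

end Groth.Agent.S1162
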