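import Groth.Statements.S15108
import Groth.Agent.S19228
import Groth.Agent.GrpSchLib.AlphaPairing
import Groth.Agent.GrpSchLib.ExtSmooth
import Groth.Agent.GrpSchLib.PrimeClassify
import Mathlib.Algebra.Polynomial.Laurent
import Mathlib.FieldTheory.IsSepClosed

set_option autoImplicit false
set_option backward.isDefEq.respectTransparency false
set_option backward.isDefEq.respectTransparency.types false
universe u
open CategoryTheory CategoryTheory.Limits MonoidalCategory CartesianMonoidalCategory MonObj GrpObj AlgebraicGeometry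
open GrpSch

namespace Groth.Agent.S15108

set_option maxHeartbeats 800000

open GrpSchLib.AffineHopf WithConv Groth.Agent.S19228
open scoped TensorProduct

set_option synthInstance.maxHeartbeats 400000 in
theorem smooth_laurent (k : Type u) [Field k] : Algebra.Smooth k (LaurentPolynomial k) := by
  haveI : Algebra.Smooth (Polynomial k) (LaurentPolynomial k) :=
    Algebra.Smooth.of_isLocalization_Away (Polynomial.X : Polynomial k)
  haveI : Algebra.Smooth k (Polynomial k) := ⟨inferInstance, inferInstance⟩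
  haveI : IsScalarTower k (Polynomial k) (LaurentPolynomial k) :=
    IsScalarTower.of_algebraMap_eq fun r => by
      rw [LaurentPolynomial.algebraMap_eq_toLaurent, ← Polynomial.C_eq_algebraMap, Polynomial.toLaurent_C]
      rfl
  exact Algebra.Smooth.comp k (Polynomial k) (LaurentPolynomial k)

/-- `𝔾_m` is smooth. -/
theorem smooth_Gm (k : Type u) [Field k] : Smooth (Red.Gm (Spec (CommRingCat.of k))).hom := by
  obtain ⟨e⟩ := nonempty_DS_iso k ℤ
  let e' := (Grp.forget _).mapIso e
  haveI hL : Algebra.Smooth k (LaurentPolynomial k) := smooth_laurent k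
  let φ : MonoidAlgebra k (Multiplicative ℤ) →ₐ[k] LaurentPolynomial k :=
    MonoidAlgebra.lift k _ _ (AddMonoidAlgebra.of k ℤ)
  let ψ : LaurentPolynomial k →ₐ[k] MonoidAlgebra k (Multiplicative ℤ) :=
    AddMonoidAlgebra.lift k _ _ (MonoidAlgebra.of k (Multiplicative ℤ))
  let E : LaurentPolynomial k ≃ₐ[k] MonoidAlgebra k (Multiplicative ℤ) := AlgEquiv.ofAlgHom ψ φ
    (MonoidAlgebra.algHom_ext (fun c => by
      show ψ (φ (MonoidAlgebra.single c 1)) = MonoidAlgebra.single c 1
      simp only [φ, ψ, MonoidAlgebra.lift_single, AddMonoidAlgebra.of_apply, one_smul, AddMonoidAlgebra.lift_single]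
      simp) (by ext))
    (AddMonoidAlgebra.algHom_ext (fun c => by
      show φ (ψ (AddMonoidAlgebra.single c 1)) = AddMonoidAlgebra.single c 1
      simp only [φ, ψ, MonoidAlgebra.of_apply, one_smul, AddMonoidAlgebra.lift_single, MonoidAlgebra.lift_single]
      simp) (by ext))
  haveI := Algebra.Smooth.of_equiv E
  have h : Smooth (Red.diag k ℤ).hom :=
    (HasRingHomProperty.Spec_iff (P := @Smooth)).mpr (RingHom.smooth_algebraMap.mpr inferInstance)
  haveI : IsIso e'.inv.left := ((Over.forget _).mapIso e').isIso_inv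
  show Smooth (Red.DS (Spec (CommRingCat.of k)) ℤ).hom
  rw [← show e'.inv.left ≫ (Red.diag k ℤ).hom = (Red.DS (Spec (CommRingCat.of k)) ℤ).hom from Over.w e'.inv]
  exact (MorphismProperty.cancel_left_of_respectsIso (P := @Smooth) e'.inv.left _).mpr h

/-- A coordinate on the points of a multiplicative group. -/
structure Coord (k : Type u) [Field k] (Z : Over (Spec (CommRingCat.of k))) [GrpObj Z] where
  v : ∀ {C : Type u} [CommRing C] [Algebra k C], (sp k C ⟶ Z) → C
  mul : ∀ {C : Type u} [CommRing C] [Algebra k C] (g g' : sp k C ⟶ Z), v (g * g') = v g * v g'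
  one : ∀ {C : Type u} [CommRing C] [Algebra k C], v (1 : sp k C ⟶ Z) = 1
  isUnit : ∀ {C : Type u} [CommRing C] [Algebra k C] (g : sp k C ⟶ Z), IsUnit (v g)
  nat : ∀ {C D : Type u} [CommRing C] [CommRing D] [Algebra k C] [Algebra k D] (f : C →ₐ[k] D) (g : sp k C ⟶ Z),
    v (spMap f ≫ g) = f (v g)
  inj : ∀ {C : Type u} [CommRing C] [Algebra k C] {g g' : sp k C ⟶ Z}, v g = v g' → g = g'

/-- The coordinate of a group isomorphic to `𝔾_m`. -/
noncomputable def coordOfIso {k : Type u} [Field k] {Z : Over (Spec (CommRingCat.of k))} [GrpObj Z]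
    (jz : Z ≅ Red.diag k ℤ) [IsMonHom jz.hom] : Coord k Z where
  v g := val (g ≫ jz.hom)
  mul g g' := by rw [MonObj.mul_comp, val_mul]
  one {C} _ _ := by rw [MonObj.one_comp, val_one]
  isUnit g := isUnit_val _
  nat f g := by rw [Category.assoc, val_nat]
  inj h := (cancel_mono jz.hom).mp (val_injective h)

section Points

variable {k : Type u} [Field k] {K : Over (Spec (CommRingCat.of k))} [GrpObj K] {T : Type u} [CommRing T]
  [HopfAlgebra k T] (j : sp k T ≅ K) [IsMonHom j.hom] {Z : Over (Spec (CommRingCat.of k))} [GrpObj Z] (cz : Coord k Z) (l : K ⊗ K ⟶ Z)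

/-- A function of two variables vanishes if it does on all points. -/
theorem eq_one_of_points [IsAffine K.left]
    (h : ∀ (C : Type u) [CommRing C] [Algebra k C] (x y : sp k C ⟶ sp k T),
      cz.v (lift (x ≫ j.hom) (y ≫ j.hom) ≫ l) = 1) : l = 1 := by
  haveI : IsAffine (K ⊗ K).left := inferInstanceAs (IsAffine (Limits.pullback K.hom K.hom))
  obtain ⟨C, _, _, ⟨io⟩⟩ := exists_sp (K ⊗ K)
  rw [← cancel_epi io.hom, MonObj.comp_one]
  apply cz.inj
  rw [cz.one, ← h C (io.hom ≫ fst K K ≫ j.inv) (io.hom ≫ snd K K ≫ j.inv)]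
  congr 2
  apply CartesianMonoidalCategory.hom_ext <;> simp

/-- Functions of two variables on a reduced finite group are determined by pairs of points. -/
theorem tensor_eq_of_points {A : Type u} [CommRing A] [Algebra k A] [Module.Finite k A]
    (hA : Function.Bijective fun (a : A) (g : A →ₐ[k] k) => g a) {z z' : A ⊗[k] A}
    (h : ∀ g g' : A →ₐ[k] k,
      Algebra.TensorProduct.productMap g g' z = Algebra.TensorProduct.productMap g g' z') : z = z' := by
  classical
  haveI : Finite (A →ₐ[k] k) := inferInstance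
  haveI := Fintype.ofFinite (A →ₐ[k] k)
  choose δ hδ using fun g : A →ₐ[k] k => hA.2 (Pi.single g 1)
  have hδ' : ∀ g g' : A →ₐ[k] k, g' (δ g) = if g' = g then 1 else 0 := fun g g' =>
    (congrFun (hδ g) g').trans (Pi.single_apply _ _ _)
  have hdec : ∀ a : A, a = ∑ g : A →ₐ[k] k, g a • δ g := fun a => hA.1 (funext fun g' => by
    simp [hδ'])
  have hz : ∀ z : A ⊗[k] A,
      z = ∑ g, ∑ g', Algebra.TensorProduct.productMap g g' z • (δ g ⊗ₜ[k] δ g') := by
    intro z
    induction z using TensorProduct.induction_on with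
    | zero => simp
    | tmul a b =>
      conv_lhs => rw [hdec a, hdec b]
      simp only [TensorProduct.sum_tmul, TensorProduct.tmul_sum, TensorProduct.smul_tmul_smul,
        Algebra.TensorProduct.productMap_apply_tmul]
      exact Finset.sum_comm
    | add a b ha hb =>
      conv_lhs => rw [ha, hb]
      simp only [map_add, add_smul, Finset.sum_add_distrib]
  rw [hz z, hz z']
  simp only [h]

variable (hbl : ∀ {X : Over (Spec (CommRingCat.of k))} (x x' y : X ⟶ K),
      lift (x * x') y ≫ l = (lift x' y ≫ l) * (lift x y ≫ l) ∧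
      lift y (x * x') ≫ l = (lift y x ≫ l) * (lift y x' ≫ l))
  (halt : ∀ {X : Over (Spec (CommRingCat.of k))} (x : X ⟶ K), lift x x ≫ l = 1)

include j cz hbl halt in
theorem eq_one_of_card [IsAffine K.left] [Module.Finite k T] {ℓ : ℕ} [Fact ℓ.Prime]
    (hT : Module.finrank k T = ℓ) (hcard : Nat.card (WithConv (T →ₐ[k] k)) = ℓ) : l = 1 := by
  have hA : Function.Bijective fun (a : T) (g : T →ₐ[k] k) => g a := by
    have h := GrpSchLib.points_eval_bijective hcard hT
    exact ⟨fun a b hab => h.1 (funext fun g => congrFun hab g.ofConv), fun f => by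
      obtain ⟨a, ha⟩ := h.2 fun g => f g.ofConv
      exact ⟨a, funext fun g => congrFun ha (toConv g)⟩⟩
  haveI : Finite (WithConv (T →ₐ[k] k)) := Nat.finite_of_card_ne_zero (hcard ▸ (Fact.out : ℓ.Prime).ne_zero)
  obtain ⟨g₀, hg₀⟩ := (isCyclic_of_prime_card hcard).exists_generator
  let Fp : WithConv (T →ₐ[k] k) →* (sp k k ⟶ K) := MonoidHom.mk' (fun g => spMap g.ofConv ≫ j.hom) fun g g' => by
    rw [← MonObj.mul_comp]
    exact congrArg (· ≫ j.hom) (spMap_mul g.ofConv g'.ofConv).symm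
  let L : (sp k k ⟶ K) → (sp k k ⟶ K) →* (sp k k ⟶ Z) := fun y => MonoidHom.mk' (fun x => lift y x ≫ l)
    fun a b => (hbl a b y).2
  let R : (sp k k ⟶ K) → (sp k k ⟶ K) →* (sp k k ⟶ Z) := fun y => MonoidHom.mk' (fun x => lift x y ≫ l)
    fun a b => by
      rw [(hbl a b y).1]
      apply cz.inj
      rw [cz.mul, cz.mul, _root_.mul_comm]
  have hpts : ∀ g g' : WithConv (T →ₐ[k] k), lift (Fp g) (Fp g') ≫ l = 1 := by
    intro g g'
    obtain ⟨a, rfl⟩ := Subgroup.mem_zpowers_iff.mp (hg₀ g)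
    obtain ⟨b, rfl⟩ := Subgroup.mem_zpowers_iff.mp (hg₀ g')
    show R (Fp (g₀ ^ b)) (Fp (g₀ ^ a)) = 1
    rw [map_zpow, map_zpow, map_zpow, show R (Fp g₀ ^ b) (Fp g₀) = L (Fp g₀) (Fp g₀ ^ b) from rfl, map_zpow,
      show L (Fp g₀) (Fp g₀) = 1 from halt _, one_zpow, one_zpow]
  refine eq_one_of_points j cz l fun C _ _ x y => ?_
  obtain ⟨φ, rfl⟩ := exists_eq_spMap x
  obtain ⟨ψ, rfl⟩ := exists_eq_spMap y
  let z : T ⊗[k] T := cz.v (lift (spMap (Algebra.TensorProduct.includeLeft : T →ₐ[k] T ⊗[k] T) ≫ j.hom)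
    (spMap (Algebra.TensorProduct.includeRight : T →ₐ[k] T ⊗[k] T) ≫ j.hom) ≫ l)
  have hnat : ∀ {C : Type u} [CommRing C] [Algebra k C] (φ ψ : T →ₐ[k] C),
      cz.v (lift (spMap φ ≫ j.hom) (spMap ψ ≫ j.hom) ≫ l) = Algebra.TensorProduct.productMap φ ψ z := by
    intro C _ _ φ ψ
    rw [← cz.nat, ← Category.assoc, comp_lift, ← Category.assoc, ← Category.assoc]
    erw [spMap_comp, spMap_comp]
    rw [Algebra.TensorProduct.productMap_left, Algebra.TensorProduct.productMap_right]
  have hz : z = 1 := tensor_eq_of_points hA fun g g' => by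
    rw [← hnat g g', map_one]
    exact (congrArg cz.v (hpts (toConv g) (toConv g'))).trans cz.one
  rw [hnat, hz, map_one]

end Points

section Mu

variable {k : Type u} [Field k] [IsAlgClosed k] {K : Over (Spec (CommRingCat.of k))} [GrpObj K] [IsAffine K.left]
  {n : ℕ} [NeZero n]
  (j : sp k (MonoidAlgebra k (Multiplicative (ZMod n))) ≅ K) [IsMonHom j.hom] {Z : Over (Spec (CommRingCat.of k))} [GrpObj Z] (cz : Coord k Z) (l : K ⊗ K ⟶ Z)
  (hbl : ∀ {X : Over (Spec (CommRingCat.of k))} (x x' y : X ⟶ K),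
      lift (x * x') y ≫ l = (lift x' y ≫ l) * (lift x y ≫ l) ∧
      lift y (x * x') ≫ l = (lift y x ≫ l) * (lift y x' ≫ l))
  (halt : ∀ {X : Over (Spec (CommRingCat.of k))} (x : X ⟶ K), lift x x ≫ l = 1)

include j cz hbl halt in
theorem eq_one_of_mu : l = 1 := by
  classical
  haveI : IsSepClosed (IsLocalRing.ResidueField k) := by
    haveI : IsAlgClosed (IsLocalRing.ResidueField k) := IsAlgClosed.of_ringEquiv k (IsLocalRing.ResidueField k)
      (RingEquiv.ofBijective (IsLocalRing.residue k) ⟨(IsLocalRing.residue k).injective, IsLocalRing.residue_surjective⟩)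
    infer_instance
  have hmul : ∀ {C : Type u} [CommRing C] [Algebra k C] (x x' : C) (hx : x ^ n = 1) (hx' : x' ^ n = 1)
      (h : (x * x') ^ n = 1), pt (R := k) (x * x') h ≫ j.hom = (pt x hx ≫ j.hom) * (pt x' hx' ≫ j.hom) := by
    intro C _ _ x x' hx hx' h
    rw [pt_mul x x' hx hx' h, MonObj.mul_comp]
  let P : GrpSchLib.MuPairing.Pairing k n :=
    { e := fun A _ _ x y => if h : x ^ n = 1 ∧ y ^ n = 1 then
        cz.v (lift (pt x h.1 ≫ j.hom) (pt y h.2 ≫ j.hom) ≫ l) else 1
      nat' := fun {A B} _ _ _ _ f x y hx hy => by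
        have hx' : (f x) ^ n = 1 := by rw [← map_pow, hx, map_one]
        have hy' : (f y) ^ n = 1 := by rw [← map_pow, hy, map_one]
        rw [dif_pos ⟨hx, hy⟩, dif_pos ⟨hx', hy'⟩, ← cz.nat, ← Category.assoc, comp_lift, ← Category.assoc,
          ← Category.assoc, pt_nat, pt_nat]
      isUnit' := fun x y hx hy => by rw [dif_pos ⟨hx, hy⟩]; exact cz.isUnit _
      left' := fun x x' y hx hx' hy => by
        have h : (x * x') ^ n = 1 := by rw [_root_.mul_pow, hx, hx', _root_.one_mul]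
        rw [dif_pos ⟨h, hy⟩, dif_pos ⟨hx, hy⟩, dif_pos ⟨hx', hy⟩, hmul x x' hx hx' h, (hbl _ _ _).1, cz.mul,
          _root_.mul_comm]
      right' := fun x y y' hx hy hy' => by
        have h : (y * y') ^ n = 1 := by rw [_root_.mul_pow, hy, hy', _root_.one_mul]
        rw [dif_pos ⟨hx, h⟩, dif_pos ⟨hx, hy⟩, dif_pos ⟨hx, hy'⟩, hmul y y' hy hy' h, (hbl _ _ _).2, cz.mul]
      self' := fun x hx => by rw [dif_pos ⟨hx, hx⟩, halt, cz.one] }
  refine eq_one_of_points j cz l fun C _ _ x y => ?_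
  obtain ⟨a, ha, rfl⟩ := pt_surjective x
  obtain ⟨b, hb, rfl⟩ := pt_surjective y
  have h := P.eq_one (NeZero.ne n) a b ha hb
  simp only [P, dif_pos (And.intro ha hb)] at h
  exact h

end Mu

section Alpha

variable {k : Type u} [Field k] {p : ℕ} [Fact p.Prime] [CharP k p]

/-- The point of `α_p` of a nilpotent element. -/
noncomputable def apt {C : Type u} [CommRing C] [Algebra k C] (c : C) (hc : c ^ p = 0) :
    sp k C ⟶ sp k (AlphaP.A p k) :=
  spMap (AlphaP.lift p k c hc)

theorem apt_mul {C : Type u} [CommRing C] [Algebra k C] (c c' : C) (hc : c ^ p = 0) (hc' : c' ^ p = 0)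
    (h : (c + c') ^ p = 0) : apt (k := k) (c + c') h = apt c hc * apt c' hc' := by
  rw [apt, apt, apt, spMap_mul]
  refine congrArg spMap (AlphaP.algHom_ext ?_)
  rw [AlphaP.lift_x]
  refine Eq.trans ?_ (AlgHom.convMul_apply (toConv (AlphaP.lift p k c hc)) (toConv (AlphaP.lift p k c' hc'))
    (AlphaP.x p k)).symm
  simp

theorem apt_nat {C C' : Type u} [CommRing C] [CommRing C'] [Algebra k C] [Algebra k C'] (f : C →ₐ[k] C')
    (c : C) (hc : c ^ p = 0) (h : (f c) ^ p = 0) : spMap f ≫ apt c hc = apt (f c) h := by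
  rw [apt, apt, spMap_comp]
  refine congrArg spMap (AlphaP.algHom_ext ?_)
  simp

theorem apt_surjective {C : Type u} [CommRing C] [Algebra k C] (g : sp k C ⟶ sp k (AlphaP.A p k)) :
    ∃ c hc, apt c hc = g := by
  obtain ⟨f, rfl⟩ := exists_eq_spMap g
  exact ⟨f (AlphaP.x p k), by rw [← map_pow, AlphaP.x_pow, map_zero],
    congrArg spMap (AlphaP.algHom_ext (AlphaP.lift_x _ _))⟩

theorem apt_zero {C : Type u} [CommRing C] [Algebra k C] (h : (0 : C) ^ p = 0) :
    apt (k := k) (0 : C) h = 1 := by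
  have h1 := apt_mul (k := k) (0 : C) 0 h h (by rwa [add_zero])
  simp only [add_zero] at h1
  exact left_eq_mul.mp h1

variable {K : Over (Spec (CommRingCat.of k))} [GrpObj K] [IsAffine K.left]
  (j : sp k (AlphaP.A p k) ≅ K) [IsMonHom j.hom]

include j in
theorem eq_one_of_alpha (hp : p ≠ 2) {Z : Over (Spec (CommRingCat.of k))} [GrpObj Z] (cz : Coord k Z) (l : K ⊗ K ⟶ Z)
    (hbl : ∀ {X : Over (Spec (CommRingCat.of k))} (x x' y : X ⟶ K),
      lift (x * x') y ≫ l = (lift x' y ≫ l) * (lift x y ≫ l) ∧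
      lift y (x * x') ≫ l = (lift y x ≫ l) * (lift y x' ≫ l))
    (halt : ∀ {X : Over (Spec (CommRingCat.of k))} (x : X ⟶ K), lift x x ≫ l = 1) : l = 1 := by
  classical
  have h1l : ∀ {X : Over (Spec (CommRingCat.of k))} (y : X ⟶ K), lift 1 y ≫ l = 1 := fun y => by
    have h := (hbl 1 1 y).1
    rw [_root_.one_mul] at h
    exact left_eq_mul.mp h
  have h1r : ∀ {X : Over (Spec (CommRingCat.of k))} (y : X ⟶ K), lift y 1 ≫ l = 1 := fun y => by
    have h := (hbl 1 1 y).2
    rw [_root_.one_mul] at h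
    exact left_eq_mul.mp h
  let P : GrpSchLib.AlphaPairing.Pairing k p :=
    { e := fun A _ _ x y => if h : x ^ p = 0 ∧ y ^ p = 0 then
        cz.v (lift (apt x h.1 ≫ j.hom) (apt y h.2 ≫ j.hom) ≫ l) else 1
      nat' := fun {A B} _ _ _ _ f x y hx hy => by
        have hx' : (f x) ^ p = 0 := by rw [← map_pow, hx, map_zero]
        have hy' : (f y) ^ p = 0 := by rw [← map_pow, hy, map_zero]
        rw [dif_pos ⟨hx, hy⟩, dif_pos ⟨hx', hy'⟩, ← cz.nat, ← Category.assoc, comp_lift, ← Category.assoc,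
          ← Category.assoc, apt_nat f x hx hx', apt_nat f y hy hy']
      zero_left' := fun y hy => by
        rw [dif_pos ⟨zero_pow (Fact.out : p.Prime).ne_zero, hy⟩, apt_zero, MonObj.one_comp, h1l, cz.one]
      zero_right' := fun x hx => by
        rw [dif_pos ⟨hx, zero_pow (Fact.out : p.Prime).ne_zero⟩, apt_zero, MonObj.one_comp, h1r, cz.one]
      left' := fun x x' y hx hx' hy => by
        have h := GrpSchLib.AlphaPairing.add_pow' (k := k) hx hx'
        rw [dif_pos ⟨h, hy⟩, dif_pos ⟨hx, hy⟩, dif_pos ⟨hx', hy⟩, apt_mul x x' hx hx' h, MonObj.mul_comp,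
          (hbl _ _ _).1, cz.mul, _root_.mul_comm]
      right' := fun x y y' hx hy hy' => by
        have h := GrpSchLib.AlphaPairing.add_pow' (k := k) hy hy'
        rw [dif_pos ⟨hx, h⟩, dif_pos ⟨hx, hy⟩, dif_pos ⟨hx, hy'⟩, apt_mul y y' hy hy' h, MonObj.mul_comp,
          (hbl _ _ _).2, cz.mul]
      self' := fun x hx => by rw [dif_pos ⟨hx, hx⟩, halt, cz.one] }
  refine eq_one_of_points j cz l fun C _ _ x y => ?_
  obtain ⟨a, ha, rfl⟩ := apt_surjective x
  obtain ⟨b, hb, rfl⟩ := apt_surjective y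
  have h := P.eq_one hp a b ha hb
  simp only [P, dif_pos (And.intro ha hb)] at h
  exact h

end Alpha

/-- Central extensions of `α_2` by `𝔾_m` are commutative. -/
theorem comm_of_alpha_two {k : Type u} [Field k] [IsAlgClosed k] [CharP k 2] [Fact (Nat.Prime 2)]
    {Z G K : Over (Spec (CommRingCat.of k))} [GrpObj Z] [GrpObj G] [GrpObj K] [IsCommMonObj K] [IsAffine K.left]
    (cz : Coord k Z)
    (j : sp k (AlphaP.A 2 k) ≅ K) [IsMonHom j.hom]
    (u : Z ⟶ G) (v : G ⟶ K) (hex : NonAbH1.IsExactSeq Scheme.fppfPrecoverage u v) [Smooth v.left] [Surjective v.left]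
    (hcentral : ∀ (T : Over (Spec (CommRingCat.of k))) (g : T ⟶ G) (t : T ⟶ Z), g * (t ≫ u) = (t ≫ u) * g)
    (T : Over (Spec (CommRingCat.of k))) (g h : T ⟶ G) : g * h = h * g := by
  classical
  haveI := hex.1
  haveI := hex.2.1
  haveI : IsIso j.inv.left := ((Over.forget _).mapIso j).isIso_inv
  -- a section
  let f : G.left ⟶ Spec (CommRingCat.of (AlphaP.A 2 k)) := v.left ≫ j.inv.left
  haveI : Smooth f := MorphismProperty.comp_mem _ _ _ ‹Smooth v.left› (inferInstanceAs (Smooth j.inv.left))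
  haveI : Surjective f := MorphismProperty.comp_mem _ _ _ ‹Surjective v.left› (inferInstanceAs (Surjective j.inv.left))
  haveI : LocallyOfFiniteType (f ≫ Spec.map (CommRingCat.ofHom (algebraMap k (AlphaP.A 2 k)))) := by
    haveI : LocallyOfFiniteType (Spec.map (CommRingCat.ofHom (algebraMap k (AlphaP.A 2 k)))) :=
      (HasRingHomProperty.Spec_iff (P := @LocallyOfFiniteType)).mpr
        (RingHom.finiteType_algebraMap.mpr inferInstance)
    infer_instance
  let χ : AlphaP.A 2 k →ₐ[k] k := AlphaP.lift 2 k (0 : k) (zero_pow two_ne_zero)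
  have hn : IsNilpotent (RingHom.ker χ.toRingHom) := by
    refine ⟨2, ?_⟩
    have hle : RingHom.ker χ.toRingHom ≤ Ideal.span {AlphaP.x 2 k} := by
      intro a ha
      obtain ⟨Q, rfl⟩ := AlphaP.mk_surjective (p := 2) (R := k) a
      have hQ : Q.coeff 0 = 0 := by
        have h : χ (AlphaP.mk 2 k Q) = 0 := ha
        rw [← AlphaP.aeval_x, ← Polynomial.aeval_algHom_apply, AlphaP.lift_x] at h
        rwa [← Polynomial.coeff_zero_eq_aeval_zero] at h
      rw [← Polynomial.X_mul_divX_add Q, hQ, map_zero, add_zero, map_mul, AlphaP.mk_X]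
      exact Ideal.mul_mem_right _ _ (Ideal.subset_span rfl)
    exact le_bot_iff.mp ((Ideal.pow_right_mono hle 2).trans (by
      rw [Ideal.span_singleton_pow, AlphaP.x_pow, Ideal.span_singleton_zero]))
  obtain ⟨s₀, hs₀⟩ := GrpSchLib.ExtSmooth.exists_section (AlphaP.A 2 k) χ hn f
  have hjj : j.hom.left ≫ j.inv.left = 𝟙 _ := by
    rw [← Over.comp_left, Iso.hom_inv_id]
    rfl
  have hjj' : j.inv.left ≫ j.hom.left = 𝟙 _ := by
    rw [← Over.comp_left, Iso.inv_hom_id]
    rfl
  have hsv0 : (j.inv.left ≫ s₀) ≫ v.left = 𝟙 K.left := by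
    have h1 : s₀ ≫ v.left = j.hom.left := by
      refine Eq.trans ?_ ((congrArg (· ≫ j.hom.left) hs₀).trans (Category.id_comp _))
      simp only [f, Category.assoc]
      exact (congrArg (s₀ ≫ ·) ((congrArg (v.left ≫ ·) hjj').trans (Category.comp_id _))).symm
    exact (Category.assoc _ _ _).trans ((congrArg (j.inv.left ≫ ·) h1).trans hjj')
  let s : K ⟶ G := Over.homMk (j.inv.left ≫ s₀) (by
    show (j.inv.left ≫ s₀) ≫ G.hom = K.hom
    rw [← Over.w v, ← Category.assoc, hsv0, Category.id_comp])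
  have hsv : s ≫ v = 𝟙 K := Over.OverMorphism.ext hsv0
  let σ : K ⟶ G := s * (toUnit K ≫ η[K] ≫ s)⁻¹
  have hσv : σ ≫ v = 𝟙 K := by
    simp only [σ, MonObj.mul_comp, GrpObj.inv_comp, Category.assoc, hsv, Category.comp_id]
    rw [← Hom.one_def, inv_one, _root_.mul_one]
  have hσ1 : ∀ X : Over (Spec (CommRingCat.of k)), (1 : X ⟶ K) ≫ σ = 1 := by
    intro X
    simp only [σ, MonObj.comp_mul, GrpObj.comp_inv]
    rw [← Category.assoc (1 : X ⟶ K), toUnit_unique ((1 : X ⟶ K) ≫ toUnit K) (toUnit X), Hom.one_def, Category.assoc,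
      _root_.mul_inv_cancel]
  clear_value σ
  -- the cocycle
  let w : K ⊗ K ⟶ G := (fst K K ≫ σ) * (snd K K ≫ σ) * ((fst K K * snd K K) ≫ σ)⁻¹
  obtain ⟨d, hd⟩ := GrpExtRigid.exists_ker hex (d := w) (by
    simp only [w, MonObj.mul_comp, GrpObj.inv_comp, Category.assoc, hσv, Category.comp_id, _root_.mul_inv_cancel])
  have hw : ∀ {X : Over (Spec (CommRingCat.of k))} (x y : X ⟶ K),
      lift x y ≫ d ≫ u = (x ≫ σ) * (y ≫ σ) * ((x * y) ≫ σ)⁻¹ := by
    intro X x y
    rw [hd]
    show lift x y ≫ ((fst K K ≫ σ) * (snd K K ≫ σ) * ((fst K K * snd K K) ≫ σ)⁻¹) = _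
    rw [MonObj.comp_mul, MonObj.comp_mul, GrpObj.comp_inv, lift_fst_assoc, lift_snd_assoc,
      ← Category.assoc (lift x y) (fst K K * snd K K) σ, MonObj.comp_mul, lift_fst, lift_snd]
  have hu : ∀ {X : Over (Spec (CommRingCat.of k))} (a b : X ⟶ Z), a ≫ u = b ≫ u → a = b :=
    fun a b h => GrpExtRigid.comp_u_eq_of_eq hex h
  have hd1 : ∀ {X : Over (Spec (CommRingCat.of k))} (y : X ⟶ K), lift 1 y ≫ d = 1 ∧ lift y 1 ≫ d = 1 := by
    intro X y
    refine ⟨hu _ _ ?_, hu _ _ ?_⟩ <;> rw [MonObj.one_comp, Category.assoc, hw, hσ1]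
    · rw [_root_.one_mul, _root_.one_mul, _root_.mul_inv_cancel]
    · rw [_root_.mul_one, _root_.mul_one, _root_.mul_inv_cancel]
  let E : GrpSchLib.AlphaPairing.Biext k 2 :=
    { e := fun A _ _ x y => if h : x ^ 2 = 0 ∧ y ^ 2 = 0 then
        cz.v (lift (apt x h.1 ≫ j.hom) (apt y h.2 ≫ j.hom) ≫ d) else 1
      nat' := fun {A B} _ _ _ _ f x y hx hy => by
        have hx' : (f x) ^ 2 = 0 := by rw [← map_pow, hx, map_zero]
        have hy' : (f y) ^ 2 = 0 := by rw [← map_pow, hy, map_zero]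
        rw [dif_pos ⟨hx, hy⟩, dif_pos ⟨hx', hy'⟩, ← cz.nat, ← Category.assoc (spMap f), comp_lift,
          ← Category.assoc, ← Category.assoc, apt_nat f x hx hx', apt_nat f y hy hy']
      zero_left' := fun y hy => by
        rw [dif_pos ⟨zero_pow two_ne_zero, hy⟩, apt_zero, MonObj.one_comp, (hd1 _).1, cz.one]
      zero_right' := fun x hx => by
        rw [dif_pos ⟨hx, zero_pow two_ne_zero⟩, apt_zero, MonObj.one_comp, (hd1 _).2, cz.one] }
  haveI : IsAffine (K ⊗ K).left := inferInstanceAs (IsAffine (Limits.pullback K.hom K.hom))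
  obtain ⟨C, _, _, ⟨io⟩⟩ := exists_sp (K ⊗ K)
  have hsym : (fst K K ≫ σ) * (snd K K ≫ σ) = (snd K K ≫ σ) * (fst K K ≫ σ) := by
    rw [← cancel_epi io.hom, MonObj.comp_mul, MonObj.comp_mul, ← Category.assoc, ← Category.assoc]
    obtain ⟨a, ha, hxa⟩ := apt_surjective (io.hom ≫ fst K K ≫ j.inv)
    obtain ⟨b, hb, hyb⟩ := apt_surjective (io.hom ≫ snd K K ≫ j.inv)
    have h := E.symm a b ha hb
    simp only [E, dif_pos (And.intro ha hb), dif_pos (And.intro hb ha)] at h
    rw [hxa, hyb] at h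
    simp only [Category.assoc, Iso.inv_hom_id, Category.comp_id] at h
    have h2 := cz.inj h
    have h3 := congrArg (· ≫ u) h2
    simp only [Category.assoc, hw] at h3
    rw [show (io.hom ≫ snd K K) * (io.hom ≫ fst K K) = (io.hom ≫ fst K K) * (io.hom ≫ snd K K) from
      _root_.mul_comm _ _] at h3
    exact mul_right_cancel h3
  have hdec : ∀ x : T ⟶ G, ∃ t : T ⟶ Z, x = ((x ≫ v) ≫ σ) * (t ≫ u) := fun x =>
    GrpExtRigid.exists_fibre hex (by rw [Category.assoc _ σ v, hσv, Category.comp_id])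
  have hc : ∀ a b : T ⟶ K, (a ≫ σ) * (b ≫ σ) = (b ≫ σ) * (a ≫ σ) := fun a b => by
    have := congrArg (lift a b ≫ ·) hsym
    simpa only [MonObj.comp_mul, lift_fst_assoc, lift_snd_assoc] using this
  obtain ⟨t, ht⟩ := hdec g
  obtain ⟨t', ht'⟩ := hdec h
  rw [ht, ht']
  generalize hA : (g ≫ v) ≫ σ = A
  generalize hB : (h ≫ v) ≫ σ = B
  have hAB : A * B = B * A := by rw [← hA, ← hB]; exact hc _ _
  have hct : ∀ x : T ⟶ G, Commute (t ≫ u) x := fun x => (hcentral T x t).symm
  have hct' : ∀ x : T ⟶ G, Commute (t' ≫ u) x := fun x => (hcentral T x t').symm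
  exact Commute.mul_left (Commute.mul_right hAB (hct' A).symm) (Commute.mul_right (hct B) (hct _))

/-- Let k be an algebraically closed field and 1 → G_m → G → K → 1 a theta group over k: u : G_m → G and
v : G → K are homomorphisms of k-group schemes forming a sequence exact for the fppf topology (u ≫ v
trivial, G a pseudo-torsor over K under G_m acting by right translations through u, v acquiring
sections fppf-locally on K), with K commutative and u(G_m) central in G. If K is finite of prime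
order ℓ — K is k-isomorphic to Spec B for a k-algebra B of dimension ℓ over k, ℓ a prime number,
possibly the characteristic — then G is commutative: g h = h g for all points g, h of G with values
in any k-scheme T. -/
theorem result (k : Type u) [Field k] [IsAlgClosed k]
    (G K : Over (Spec (CommRingCat.of k))) [GrpObj G] [GrpObj K] [IsCommMonObj K]
    (u : Red.Gm (Spec (CommRingCat.of k)) ⟶ G) (v : G ⟶ K) (hex : NonAbH1.IsExactSeq Scheme.fppfPrecoverage u v)
    (hcentral : ∀ (T : Over (Spec (CommRingCat.of k))) (g : T ⟶ G) (t : T ⟶ Red.Gm (Spec (CommRingCat.of k))), g * (t ≫ u) = (t ≫ u) * g)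
    (B : Type u) [CommRing B] [Algebra k B] [Module.Finite k B] (ℓ : ℕ) (hℓ : ℓ.Prime)
    (hB : Module.finrank k B = ℓ)
    (e : K.left ≅ Spec (CommRingCat.of B)) (he : e.hom ≫ Spec.map (CommRingCat.ofHom (algebraMap k B)) = K.hom) :
    ∀ (T : Over (Spec (CommRingCat.of k))) (g h : T ⟶ G), g * h = h * g := by
  classical
  haveI : Fact ℓ.Prime := ⟨hℓ⟩
  haveI : IsAffine K.left := IsAffine.of_isIso e.hom
  haveI := smooth_Gm k
  haveI := hex.1
  haveI := hex.2.1
  obtain ⟨hsm, hsur⟩ := GrpSchLib.ExtSmooth.smooth_surjective hex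
  haveI := hsm
  haveI := hsur
  obtain ⟨A, _, _, ⟨eK⟩⟩ := exists_hopf K
  let j : sp k A ≅ K := (Grp.forget _).mapIso eK
  haveI : IsMonHom j.hom := eK.hom.hom.isMonHom_hom
  -- the rank
  let φ : CommRingCat.of B ⟶ CommRingCat.of A := Spec.preimage (j.hom.left ≫ e.hom)
  haveI : IsIso j.hom.left := ((Over.forget _).mapIso j).isIso_hom
  haveI : IsIso (Spec.map φ) := by rw [Spec.map_preimage]; infer_instance
  haveI : IsIso φ := by
    haveI : IsIso (Scheme.Spec.map φ.op) := ‹IsIso (Spec.map φ)›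
    haveI : IsIso φ.op := isIso_of_fully_faithful Scheme.Spec φ.op
    exact isIso_of_op φ
  let E : B ≃ₐ[k] A := AlgEquiv.ofRingEquiv (f := (asIso φ).commRingCatIsoToRingEquiv) fun r => by
    have h : CommRingCat.ofHom (algebraMap k B) ≫ φ = CommRingCat.ofHom (algebraMap k A) := by
      apply Spec.map_injective
      rw [Spec.map_comp, Spec.map_preimage, Category.assoc, he, Over.w j.hom]
      rfl
    exact ConcreteCategory.congr_hom h r
  haveI : Module.Finite k A := Module.Finite.equiv E.toLinearEquiv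
  have hA : Module.finrank k A = ℓ := E.toLinearEquiv.finrank_eq.symm.trans hB
  obtain ⟨eZ⟩ := nonempty_DS_iso k ℤ
  let jz : Red.Gm (Spec (CommRingCat.of k)) ≅ Red.diag k ℤ := ((Grp.forget _).mapIso eZ).symm
  haveI : IsMonHom jz.hom := eZ.inv.hom.isMonHom_hom
  obtain ⟨l, hbl, halt, hfin⟩ := exists_pairing u v (GrpSchLib.ExtSmooth.isKernel hex)
    ⟨inferInstance, inferInstance, inferInstance⟩ hcentral (fun X a b => _root_.mul_comm a b)
  let cz := coordOfIso jz
  have hend : l = 1 → ∀ (T : Over (Spec (CommRingCat.of k))) (g h : T ⟶ G), g * h = h * g := hfin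
  by_cases hcard : Nat.card (WithConv (A →ₐ[k] k)) = ℓ
  · exact hend (eq_one_of_card j cz l hbl halt hA hcard)
  have hnr : ¬ _root_.IsReduced A := fun _ => hcard (GrpSchLib.card_points_eq_finrank_of_isReduced hℓ hA)
  rcases GrpSchLib.deriv_or_card_points_of_finrank_prime hℓ hA with ⟨_, _, -, -, -, h0⟩ | h
  swap
  · exact absurd h hcard
  haveI : CharP k ℓ := (CharP.charP_iff_prime_eq_zero hℓ).mpr h0
  rcases GrpSchLib.exists_surjective_mu_or_alpha (k := k) ℓ hnr with ⟨f, hf⟩ | ⟨f, hf⟩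
  · obtain ⟨F⟩ := GrpSchLib.nonempty_bialgEquiv_of_surjective f hf (by
      rw [hA, Module.finrank_eq_card_basis (MonoidAlgebra.basis (Multiplicative (ZMod ℓ)) k)]
      simp)
    let e2 := (spIso F).trans eK
    let j2 : sp k (MonoidAlgebra k (Multiplicative (ZMod ℓ))) ≅ K := (Grp.forget _).mapIso e2
    haveI : IsMonHom j2.hom := e2.hom.hom.isMonHom_hom
    exact hend (eq_one_of_mu j2 cz l hbl halt)
  · obtain ⟨F⟩ := GrpSchLib.nonempty_bialgEquiv_of_surjective f hf (by rw [hA, AlphaP.finrank_eq])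
    let e2 := (spIso F).trans eK
    let j2 : sp k (AlphaP.A ℓ k) ≅ K := (Grp.forget _).mapIso e2
    haveI : IsMonHom j2.hom := e2.hom.hom.isMonHom_hom
    by_cases h2 : ℓ = 2
    · subst h2
      exact comm_of_alpha_two cz j2 u v hex hcentral
    · exact hend (eq_one_of_alpha j2 h2 cz l hbl halt)

end Groth.Agent.S15108
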