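import Groth.Statements.S1171
import Groth.Agent.RelCurveDiv.Sum
-- import your own Groth.Agent.* helpers here

set_option autoImplicit false
open CategoryTheory CategoryTheory.Limits AlgebraicGeometry
universe u
open HilbD

namespace Groth.Agent.S1171

/-- Let f : X ⟶ S be smooth of relative dimension 1 and let D₁, D₂ be closed subschemes of X (given by
quasi-coherent ideal sheaves I₁, I₂) which are finite locally free over S of degrees d₁ and d₂. Then
the closed subscheme D₁ + D₂ defined by the product ideal I₁I₂ is finite locally free over S of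
degree d₁ + d₂. -/
theorem result {X S : Scheme.{u}} (f : X ⟶ S) [SmoothOfRelativeDimension 1 f]
    (I₁ I₂ : X.IdealSheafData) (d₁ d₂ : ℕ) (h₁ : Mor2.IsFinLocFreeOfDeg d₁ (I₁.subschemeι ≫ f))
    (h₂ : Mor2.IsFinLocFreeOfDeg d₂ (I₂.subschemeι ≫ f)) :
    Mor2.IsFinLocFreeOfDeg (d₁ + d₂) ((I₁ * I₂).subschemeι ≫ f) := by
  refine ⟨(Groth.Agent.RelCurveDiv.isFinLocFree_mul f h₁.1 h₂.1).2.2, fun y => ?_⟩
  rw [Groth.Agent.RelCurveDiv.finrank_mul f h₁.1 h₂.1, h₁.2, h₂.2]
end Groth.Agent.S1171
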