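import Groth.Statements.S1175
import Groth.Agent.EtLC12.AssocSec

set_option backward.isDefEq.respectTransparency false
set_option backward.isDefEq.respectTransparency.types false

set_option autoImplicit false
open CategoryTheory CategoryTheory.Limits AlgebraicGeometry Opposite
universe u
open Desc

namespace Groth.Agent.S1175

/-- Let S be a scheme, F a quasi-coherent 𝒪_S-module and G an abelian sheaf on the small étale site of S
with sections G(U) = Γ(U, u^*F) for U → S étale (an associated étale sheaf of F). Then for every q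
the étale cohomology group H^q(S_ét, G) is isomorphic to the Zariski cohomology group H^q(S, F). -/
theorem result {S : Scheme.{u}} (F : S.Modules) [F.IsQuasicoherent] (G : EtCoh.Ab S)
    (hG : EtAssoc.IsAssoc F G) (q : ℕ) : Nonempty (EtCoh.H S G q ≃+ ULift.{u + 1} (Coh.HH S F q)) := by
  haveI := Agent.EtLC12.EtZarCompare.zarCont S
  obtain ⟨e₁⟩ := Agent.EtLC12.EtZarCompare.nonempty_H_addEquiv G
    (Agent.EtLC12.AssocSec.isAffAcyclic F hG) q
  obtain ⟨e₂⟩ := Agent.EtLC12.ZarLift.nonempty_H_addEquiv (X := S) (Coh.toAb F) q
  exact ⟨((e₁.trans ((Sheaf.functorH _ q).mapIso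
    (Agent.EtLC12.AssocSec.resZarIso F hG)).addCommGroupIsoToAddEquiv).trans e₂.symm).trans AddEquiv.ulift.symm⟩

end Groth.Agent.S1175
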