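import Groth.Statements.S1177
import Groth.Agent.FTDescent.FP

set_option autoImplicit false
set_option backward.isDefEq.respectTransparency false
set_option backward.isDefEq.respectTransparency.types false
open CategoryTheory CategoryTheory.Limits AlgebraicGeometry Opposite
universe u
open Desc

namespace Groth.Agent.S1177

/-- Let g : X' ⟶ X be quasi-compact, flat and surjective and F a quasi-coherent O_X-module. If the
pullback g^*F is a finite locally free O_{X'}-module, then F is finite locally free. -/
theorem result {X X' : Scheme.{u}} (g : X' ⟶ X) [QuasiCompact g] [Flat g] [Surjective g]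
    (F : X.Modules) [F.IsQuasicoherent] (h : FlatMod.IsFinLocFree ((Scheme.Modules.pullback g).obj F)) :
    FlatMod.IsFinLocFree F := by
  exact Groth.Agent.FTDescent.isFinLocFree_of_pullback g (‹_› : Coh.IsQCoh F) h

end Groth.Agent.S1177
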