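import Groth.Statements.S1178
import Groth.Agent.QCoh.Support
import Mathlib.RingTheory.Finiteness.ModuleFinitePresentation

set_option autoImplicit false
set_option backward.isDefEq.respectTransparency false
set_option backward.isDefEq.respectTransparency.types false
open CategoryTheory CategoryTheory.Limits AlgebraicGeometry Opposite
universe u
open Desc

namespace Groth.Agent.S1178

theorem finitePresentation_of_restrictScalars (A B M : Type*) [CommRing A] [CommRing B] [Algebra A B]
    [Module.Finite A B] [AddCommGroup M] [Module A M] [Module B M] [IsScalarTower A B M]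
    [Module.FinitePresentation A M] : Module.FinitePresentation B M := by
  haveI : Module.Finite B M := Module.Finite.of_restrictScalars_finite A B M
  obtain ⟨n, l, hl⟩ := Module.Finite.exists_fin' B M
  refine Module.finitePresentation_of_surjective l hl ?_
  have h : (LinearMap.ker (l.restrictScalars A)).FG :=
    Module.FinitePresentation.fg_ker (l.restrictScalars A) hl
  obtain ⟨s, hs, hspan⟩ := Submodule.fg_def.1 h
  refine Submodule.fg_def.2 ⟨s, hs, le_antisymm ?_ fun x hx => ?_⟩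
  · refine Submodule.span_le.2 fun x hx => ?_
    have : x ∈ LinearMap.ker (l.restrictScalars A) := hspan ▸ Submodule.subset_span hx
    exact this
  · have : x ∈ Submodule.span A s := hspan.symm ▸ (hx : l.restrictScalars A x = 0)
    exact Submodule.span_le_restrictScalars A B s this

open CategoryTheory AlgebraicGeometry in

/-- Let f : X ⟶ Y be finite and locally of finite presentation and F a quasi-coherent O_X-module. Then F
is finitely presented exactly when its pushforward f_*F is a finitely presented O_Y-module. -/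
theorem result {X Y : Scheme.{u}} (f : X ⟶ Y) [IsFinite f] [LocallyOfFinitePresentation f]
    (F : X.Modules) [F.IsQuasicoherent] :
    CohB1.IsFP F ↔ CohB1.IsFP ((Scheme.Modules.pushforward f).obj F) := by
  have hM : Coh.IsQCoh F := ‹_›
  have hN : Coh.IsQCoh ((Scheme.Modules.pushforward f).obj F) := QCoh.isQCoh_pushforward f hM
  constructor
  · intro h
    refine (QCoh.isFP_iff hN).2 fun U => ?_
    have hW : IsAffineOpen (f ⁻¹ᵁ U.1) := U.2.preimage f
    have := QCoh.finitePresentation_of_isFP h hW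
    letI : Algebra Γ(Y, U.1) Γ(X, f ⁻¹ᵁ U.1) := (f.app U.1).hom.toAlgebra
    have : Module.Finite Γ(Y, U.1) Γ(X, f ⁻¹ᵁ U.1) := IsFinite.finite_app f U.1 U.2
    have hA : (f.appLE U.1 (f ⁻¹ᵁ U.1) le_rfl).hom.FinitePresentation :=
      f.finitePresentation_appLE U.2 hW le_rfl
    rw [← Scheme.Hom.app_eq_appLE] at hA
    haveI : Algebra.FinitePresentation Γ(Y, U.1) Γ(X, f ⁻¹ᵁ U.1) := hA
    haveI := Module.FinitePresentation.of_finite_of_finitePresentation Γ(Y, U.1) Γ(X, f ⁻¹ᵁ U.1)
    letI : Module Γ(Y, U.1) Γ(F, f ⁻¹ᵁ U.1) := Module.compHom _ (f.app U.1).hom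
    have : IsScalarTower Γ(Y, U.1) Γ(X, f ⁻¹ᵁ U.1) Γ(F, f ⁻¹ᵁ U.1) :=
      IsScalarTower.of_algebraMap_smul fun _ _ => rfl
    have := Module.FinitePresentation.trans Γ(Y, U.1) Γ(F, f ⁻¹ᵁ U.1) Γ(X, f ⁻¹ᵁ U.1)
    exact Module.FinitePresentation.of_equiv
      ({ toFun := fun x => (show Γ(F, f ⁻¹ᵁ U.1) from x), invFun := fun x => (show Γ(F, f ⁻¹ᵁ U.1) from x),
         map_add' := fun _ _ => rfl, left_inv := fun _ => rfl, right_inv := fun _ => rfl,
         map_smul' := fun r x => (QCoh.pushforward_smul f U.1 r x).symm } :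
        Γ(F, f ⁻¹ᵁ U.1) ≃ₗ[Γ(Y, U.1)] Γ((Scheme.Modules.pushforward f).obj F, U.1))
  · intro h
    refine QCoh.isFP_of_finitePresentation hM (fun U : Y.affineOpens => f ⁻¹ᵁ U.1) ?_ (fun U => U.2.preimage f)
      fun U => ?_
    · exact top_le_iff.1 fun z _ => TopologicalSpace.Opens.mem_iSup.2 <| by
        obtain ⟨_, ⟨W, hW, rfl⟩, hz, -⟩ :=
          Y.isBasis_affineOpens.exists_subset_of_mem_open (Set.mem_univ (f z)) isOpen_univ
        exact ⟨⟨W, hW⟩, hz⟩
    have := QCoh.finitePresentation_of_isFP h U.2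
    letI : Algebra Γ(Y, U.1) Γ(X, f ⁻¹ᵁ U.1) := (f.app U.1).hom.toAlgebra
    have : Module.Finite Γ(Y, U.1) Γ(X, f ⁻¹ᵁ U.1) := IsFinite.finite_app f U.1 U.2
    letI : Module Γ(Y, U.1) Γ(F, f ⁻¹ᵁ U.1) := Module.compHom _ (f.app U.1).hom
    have : IsScalarTower Γ(Y, U.1) Γ(X, f ⁻¹ᵁ U.1) Γ(F, f ⁻¹ᵁ U.1) :=
      IsScalarTower.of_algebraMap_smul fun _ _ => rfl
    haveI : Module.FinitePresentation Γ(Y, U.1) Γ(F, f ⁻¹ᵁ U.1) := Module.FinitePresentation.of_equiv
      ({ toFun := fun x => (show Γ(F, f ⁻¹ᵁ U.1) from x), invFun := fun x => (show Γ(F, f ⁻¹ᵁ U.1) from x),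
         map_add' := fun _ _ => rfl, left_inv := fun _ => rfl, right_inv := fun _ => rfl,
         map_smul' := fun r x => QCoh.pushforward_smul f U.1 r x } :
        Γ((Scheme.Modules.pushforward f).obj F, U.1) ≃ₗ[Γ(Y, U.1)] Γ(F, f ⁻¹ᵁ U.1))
    exact finitePresentation_of_restrictScalars Γ(Y, U.1) Γ(X, f ⁻¹ᵁ U.1) Γ(F, f ⁻¹ᵁ U.1)

end Groth.Agent.S1178
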