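import Groth.Statements.S1183
import Groth.Agent.S2609
import Groth.Agent.S9438
import Groth.Agent.GeomReg.Basic
import Groth.Agent.FlatLoc6.BaseChangeEss
import Groth.Agent.RegLoc6.RegEtale

set_option autoImplicit false
set_option backward.isDefEq.respectTransparency false
set_option backward.isDefEq.respectTransparency.types false
universe u
open Desc

namespace Groth.Agent.S1183

/-- Let A → B be a smooth ring map of Noetherian rings and k a natural number. If A satisfies (R_k) then
so does B; and if moreover A → B is faithfully flat and B satisfies (R_k), then A does. -/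
theorem result (A B : Type u) [CommRing A] [CommRing B] [IsNoetherianRing A] [IsNoetherianRing B]
    [Algebra A B] [Algebra.Smooth A B] (k : ℕ) :
    (LocCoh.HasRk k A → LocCoh.HasRk k B) ∧
    (Module.FaithfullyFlat A B → LocCoh.HasRk k B → LocCoh.HasRk k A) := by
  refine ⟨fun hA q _ hq => ?_, fun hff hB => (Groth.Agent.S9438.result k A B hB).2⟩
  have hfib : ∀ (q' : Ideal B) [q'.IsPrime], LocCoh.HasRk k (EGA4.FibLocRing A B q') := fun q' _ P _ _ => by
    haveI : IsRegularRing ((q'.comap (algebraMap A B)).Fiber B) :=
      Groth.Agent.GeomReg.isRegularRing_of_smooth (q'.comap (algebraMap A B)).ResidueField _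
    exact Groth.Agent.FlatLoc6.fibLocRing_regular (q'.comap (algebraMap A B)) q' rfl P
  have hAt : EGA4.HasRkAt k A (q.comap (algebraMap A B)) := fun P _ hP => by
    refine (Groth.Agent.RegLoc6.regular_iff_localization (q.comap (algebraMap A B)).primeCompl
      (Localization.AtPrime (q.comap (algebraMap A B))) P).2 (hA _ ?_)
    rwa [IsLocalization.height_comap (q.comap (algebraMap A B)).primeCompl]
  have hBq := Groth.Agent.S2609.result k A B hfib q hAt (IsLocalRing.maximalIdeal _) (by
    rwa [← IsLocalization.height_comap q.primeCompl, IsLocalization.AtPrime.comap_maximalIdeal (Localization.AtPrime q) q])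
  have h2 := (Groth.Agent.RegLoc6.regular_iff_localization q.primeCompl (Localization.AtPrime q)
    (IsLocalRing.maximalIdeal _)).1 hBq
  convert h2 <;> exact (IsLocalization.AtPrime.comap_maximalIdeal (Localization.AtPrime q) q).symm

end Groth.Agent.S1183
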