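import Groth.Statements.S1185
import Groth.Agent.Pi1Ext.NormalSections

set_option autoImplicit false
universe u
open Pi1

namespace Groth.Agent.S1185

open AlgebraicGeometry CategoryTheory CategoryTheory.Limits IsLocalRing
open Groth.Agent.Pi1Ext.PuritySch Groth.Agent.Pi1Ext.RegPurity Groth.Agent.Pi1Ext

set_option backward.isDefEq.respectTransparency false
set_option backward.isDefEq.respectTransparency.types false
set_option linter.style.haveILetI false

/-- Sections of a cover, described by a model. -/
theorem exists_sections_iso (A : Type u) [CommRing A] [IsDomain A] [IsNoetherianRing A] [IsLocalRing A]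
    (hd : (2 : ℕ∞) ≤ LocCoh.depth A A) (V : FEt.Cat (FEt.puncturedSpec A : Scheme.{u}))
    (C : Type u) [CommRing C] [Algebra A C] [Module.Finite A C] (hC : EtOff A C)
    (eV : obj C (prop_rest C hC) ≅ V) :
    ∃ (B : Type u) (_ : CommRing B) (_ : Algebra A B) (_ : Module.Finite A B) (f : C →ₐ[A] B)
      (hB : FEt.prop (rest A B)) (_ : obj B hB ≅ V) (e : B ≃+* Γ(V.left, ⊤)),
      ((V.hom ≫ (FEt.puncturedSpec A).ι).appTop).hom.comp (Scheme.ΓSpecIso (CommRingCat.of A)).inv.hom =
        e.toRingHom.comp (algebraMap A B) ∧ (Module.Free A C → Function.Bijective f) := by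
  obtain ⟨B, _, _, _, f, hiso, hres, hfree⟩ := NormalSections.exists_sections hd C hC
  have hB : EtOff A B := fun g hg => (hiso g hg).etale (hC g hg)
  obtain ⟨i⟩ := nonempty_iso f hiso (prop_rest C hC) (prop_rest B hB)
  let eB := i ≪≫ eV
  let l : V.left ⟶ pullback (sp A B) (FEt.puncturedSpec A).ι := eB.inv.left
  have hl : l ≫ rest A B = V.hom := MorphismProperty.Over.w eB.inv
  haveI : IsIso l := ⟨eB.hom.left, by
    show eB.inv.left ≫ eB.hom.left = _
    rw [← MorphismProperty.Comma.comp_left, Iso.inv_hom_id]; rfl, by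
    show eB.hom.left ≫ eB.inv.left = _
    rw [← MorphismProperty.Comma.comp_left, Iso.hom_inv_id]; rfl⟩
  have hbij : Function.Bijective (l.appTop.hom.comp (NormalSections.res A B)) :=
    (ConcreteCategory.bijective_of_isIso l.appTop).comp hres
  refine ⟨B, inferInstance, inferInstance, inferInstance, f, prop_rest B hB, eB, RingEquiv.ofBijective _ hbij, ?_, hfree⟩
  have h0 : V.hom ≫ (FEt.puncturedSpec A).ι = (l ≫ pullback.fst _ _) ≫ sp A B := by
    rw [← hl, Category.assoc, Category.assoc, pullback.condition]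
  have h1 : (Scheme.ΓSpecIso (CommRingCat.of A)).inv ≫ (V.hom ≫ (FEt.puncturedSpec A).ι).appTop =
      CommRingCat.ofHom (algebraMap A B) ≫ ((Scheme.ΓSpecIso (CommRingCat.of B)).inv ≫
        (pullback.fst (sp A B) (FEt.puncturedSpec A).ι).appTop) ≫ l.appTop := by
    rw [h0, Scheme.Hom.comp_appTop, ← Category.assoc,
      show (Scheme.ΓSpecIso (CommRingCat.of A)).inv ≫ (sp A B).appTop = CommRingCat.ofHom (algebraMap A B) ≫
        (Scheme.ΓSpecIso (CommRingCat.of B)).inv from (Scheme.ΓSpecIso_inv_naturality _).symm, Scheme.Hom.comp_appTop]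
    simp only [Category.assoc]
  exact congrArg CommRingCat.Hom.hom h1

open AlgebraicGeometry CategoryTheory CategoryTheory.Limits in
/-- Finiteness of the sections and the extension criterion; the normality of the sections and the
equivalence of categories are not asserted: Let A be a normal Noetherian local domain of Krull
dimension at least 2 with punctured spectrum U, and V a finite etale cover of U. Then the ring of
global sections of V is finite over A (through the map induced by V ⟶ U ⟶ Spec A), and V is the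
restriction of a finite etale cover of Spec A if and only if that ring is etale over A. -/
theorem result (A : Type u) [CommRing A] [IsDomain A] [IsNoetherianRing A]
    [IsLocalRing A] [IsIntegrallyClosed A] (hdim : (2 : WithBot ℕ∞) ≤ ringKrullDim A)
    (V : FEt.Cat (FEt.puncturedSpec A : Scheme.{u})) :
    (((V.hom ≫ (FEt.puncturedSpec A).ι).appTop).hom.comp (Scheme.ΓSpecIso (CommRingCat.of A)).inv.hom).Finite ∧
    ((∃ Y : FEt.Cat (Spec (CommRingCat.of A)), Nonempty ((FEt.restrict (FEt.puncturedSpec A).ι).obj Y ≅ V)) ↔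
      (((V.hom ≫ (FEt.puncturedSpec A).ι).appTop).hom.comp (Scheme.ΓSpecIso (CommRingCat.of A)).inv.hom).Etale) := by
  have hd : (2 : ℕ∞) ≤ LocCoh.depth A A := Groth.Agent.ParaFX.two_le_depth_of_normal A hdim
  obtain ⟨C, _, _, _, hC, ⟨eV⟩⟩ := exists_finite_model V
  obtain ⟨B, _, _, _, f, hB, eB, e, he, -⟩ := exists_sections_iso A hd V C hC eV
  refine ⟨?_, ?_, ?_⟩
  · rw [he]
    exact RingHom.finite_respectsIso.1 _ e (RingHom.finite_algebraMap.2 inferInstance)
  · rintro ⟨Y, ⟨eY⟩⟩
    haveI : IsAffine Y.left := by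
      let y : Y.left ⟶ Spec (CommRingCat.of A) := Y.hom
      haveI : IsFinite y := Y.prop.1
      exact isAffine_of_isAffineHom y
    let φ : CommRingCat.of A ⟶ Γ(Y.left, ⊤) := Spec.preimage (Y.left.isoSpec.inv ≫ Y.hom)
    let D : Type u := Γ(Y.left, ⊤)
    letI : Algebra A D := φ.hom.toAlgebra
    have hφ : Y.left.isoSpec.hom ≫ sp A D = Y.hom := by
      rw [show sp A D = Spec.map φ from rfl, Spec.map_preimage, Iso.hom_inv_id_assoc]
    have hY : FEt.prop (sp A D) := by
      rw [← MorphismProperty.cancel_left_of_respectsIso (P := FEt.prop) Y.left.isoSpec.hom, hφ]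
      exact Y.prop
    obtain ⟨hDfin, hDet⟩ := fet_sp_iff.1 hY
    haveI := hDfin
    haveI : Algebra.Etale A D := hDet
    have hD : EtOff A D := fun g _ => etAway_of_etale g
    let Yo : FEt.Cat (Spec (CommRingCat.of A)) := MorphismProperty.Over.mk ⊤ (sp A D) hY
    let eo : Yo ≅ Y := MorphismProperty.Over.isoMk Y.left.isoSpec.symm (by
      show Y.left.isoSpec.inv ≫ Y.hom = sp A D
      rw [← hφ, Iso.inv_hom_id_assoc])
    haveI : Module.Free A D := Module.free_of_flat_of_isLocalRing
    obtain ⟨B', _, _, _, f', hB', eB', e', he', hf'⟩ := exists_sections_iso A hd V D hD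
      (MorphismProperty.Over.isoMk (Iso.refl _) (by simp) ≪≫ (FEt.restrict (FEt.puncturedSpec A).ι).mapIso eo ≪≫ eY)
    haveI : Algebra.Etale A B' := Algebra.Etale.of_equiv (AlgEquiv.ofBijective f' (hf' inferInstance))
    rw [he']
    exact RingHom.Etale.respectsIso.1 _ e' (RingHom.etale_algebraMap.2 inferInstance)
  · intro het
    rw [he] at het
    have h := RingHom.Etale.respectsIso.1 _ e.symm het
    rw [← RingHom.comp_assoc, RingEquiv.symm_toRingHom_comp_toRingHom, RingHom.id_comp] at h
    haveI : Algebra.Etale A B := RingHom.etale_algebraMap.1 h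
    exact ⟨MorphismProperty.Over.mk ⊤ (sp A B) (fet_sp_iff.2 ⟨inferInstance, inferInstance⟩),
      ⟨MorphismProperty.Over.isoMk (Iso.refl _) (by simp) ≪≫ eB⟩⟩

end Groth.Agent.S1185
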