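import Groth.Statements.S1186
import Mathlib
import Groth.Agent.RingPO.FEtDescent

set_option autoImplicit false
universe u
open Pi1

namespace Groth.Agent.S1186

open AlgebraicGeometry CategoryTheory CategoryTheory.Limits in
/-- Let i : Z ⟶ X be a closed immersion and j : Z ⟶ Y an integral morphism such that every fibre of j
lies in the preimage under i of some affine open of X, and let a : X ⟶ W, b : Y ⟶ W exhibit W as the
pushout of i and j in the category of schemes. If U is finite étale over X and V is finite étale
over Y with U ×_X Z ≅ V ×_Y Z over Z, then there is a finite étale cover T of W whose restrictions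
to X and to Y are isomorphic to U and to V respectively. (This is the essential-surjectivity part of
an equivalence between finite étale covers of W and the 2-fibre product of the categories of finite
étale covers of X and of Y over that of Z; only the gluing of objects is asserted, and the
compatibility of the two identifications over Z is not asserted.) -/
theorem result {Z X Y W : Scheme.{u}} (i : Z ⟶ X) [IsClosedImmersion i] (j : Z ⟶ Y) [IsIntegralHom j]
    (h3 : ∀ y : Y, ∃ U : X.Opens, IsAffineOpen U ∧ ∀ z : Z, j.base z = y → i.base z ∈ U)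
    (a : X ⟶ W) (b : Y ⟶ W) (hpo : IsPushout i j a b)
    (U : FEt.Cat X) (V : FEt.Cat Y) (e : (FEt.restrict i).obj U ≅ (FEt.restrict j).obj V) :
    ∃ T : FEt.Cat W, Nonempty ((FEt.restrict a).obj T ≅ U) ∧ Nonempty ((FEt.restrict b).obj T ≅ V) := by
  haveI := U.prop.1; haveI := U.prop.2; haveI := V.prop.1; haveI := V.prop.2
  let φ : pullback U.hom i ⟶ pullback V.hom j := e.hom.left
  have hφ : φ ≫ pullback.snd V.hom j = pullback.snd U.hom i := MorphismProperty.Over.w e.hom
  haveI : IsIso φ := (((MorphismProperty.Over.forget FEt.prop ⊤ Z) ⋙ CategoryTheory.Over.forget Z).mapIso e).isIso_hom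
  have hY : IsPullback (φ ≫ pullback.fst V.hom j) (pullback.snd U.hom i) V.hom j :=
    (IsPullback.of_hasPullback V.hom j).of_iso (asIso φ).symm (Iso.refl _) (Iso.refl _) (Iso.refl _)
      (by simp) (by rw [← hφ]; simp) (by simp) (by simp)
  have hj : ∀ y : Y, ∃ U : X.Opens, IsAffineOpen U ∧ j ⁻¹' {y} ⊆ (i ⁻¹ᵁ U : Set Z) := fun y => by
    obtain ⟨O, hO, hz⟩ := h3 y
    exact ⟨O, hO, fun z hz' => hz z hz'⟩
  obtain ⟨P', h, a', b', h1, h2, hA, hB⟩ := RingPO.exists_fet_glue i j hj a b hpo (IsPullback.of_hasPullback U.hom i) hY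
  refine ⟨MorphismProperty.Over.mk ⊤ h ⟨h1, h2⟩,
    ⟨MorphismProperty.Over.isoMk hA.isoPullback.symm ?_⟩, ⟨MorphismProperty.Over.isoMk hB.isoPullback.symm ?_⟩⟩
  · exact hA.isoPullback_inv_snd
  · exact hB.isoPullback_inv_snd

end Groth.Agent.S1186
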