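import Groth.Statements.S1191
import Groth.Agent.ZClosLib.FibAssIdeal
-- import your own Groth.Agent.* helpers here

set_option autoImplicit false
universe u
open FlatMor

namespace Groth.Agent.S1191

open TensorProduct in
/-- For a finitely presented algebra S over R, a finitely presented S-module N and a prime q of S over
p, some element of S outside q maps into every associated prime of the fibre module of N over p that
is not contained in the extension of q to the fibre ring. -/
theorem result {R S : Type u} [CommRing R] [CommRing S] [Algebra R S] [Algebra.FinitePresentation R S]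
    (N : Type u) [AddCommGroup N] [Module S N] [Module R N] [IsScalarTower R S N] [Module.FinitePresentation S N]
    (p : Ideal R) [p.IsPrime] (q : Ideal S) [q.IsPrime] [q.LiesOver p] :
    ∃ g : S, g ∉ q ∧ ∀ r ∈ associatedPrimes (p.Fiber S) (FlatCA.fiberMod p S N),
      ¬ r ≤ FlatCA.fiberIdeal p q → (1 : p.ResidueField) ⊗ₜ[R] g ∈ r := by
  haveI : Algebra.FiniteType p.ResidueField (p.Fiber S) := inferInstance
  haveI : IsNoetherianRing (p.Fiber S) := Algebra.FiniteType.isNoetherianRing p.ResidueField _
  letI : Algebra S (p.Fiber S) := Algebra.TensorProduct.rightAlgebra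
  haveI : Module.Finite (p.Fiber S) (FlatCA.fiberMod p S N) :=
    inferInstanceAs (Module.Finite (p.Fiber S) ((p.Fiber S) ⊗[S] N))
  classical
  have hfin := associatedPrimes.finite (p.Fiber S) (FlatCA.fiberMod p S N)
  have hex : ∀ r : Ideal (p.Fiber S), ¬ r ≤ FlatCA.fiberIdeal p q →
      ∃ g : S, g ∉ q ∧ (1 : p.ResidueField) ⊗ₜ[R] g ∈ r := fun r hr => by
    by_contra hcon
    refine hr ?_
    rw [Groth.Agent.ZClosLib.FibAssIdeal.eq_fiberIdeal p (Q := r) rfl]
    exact Ideal.map_mono fun g hg => by_contra fun hgq => hcon ⟨g, hgq, hg⟩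
  choose g hgq hgr using hex
  let G : Ideal (p.Fiber S) → S := fun r => if h : r ≤ FlatCA.fiberIdeal p q then 1 else g r h
  have hG : ∀ r, G r ∉ q := fun r => by
    by_cases h : r ≤ FlatCA.fiberIdeal p q
    · simpa [G, h] using fun h1 => Ideal.IsPrime.ne_top inferInstance ((Ideal.eq_top_iff_one q).2 h1)
    · simpa [G, h] using hgq r h
  refine ⟨∏ r ∈ hfin.toFinset, G r, fun hmem => ?_, fun r hr hle => ?_⟩
  · obtain ⟨r, -, hr⟩ := (Ideal.IsPrime.prod_mem_iff (p := q)).1 hmem
    exact hG r hr
  · rw [← Finset.mul_prod_erase _ _ (hfin.mem_toFinset.2 hr),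
      show ((1 : p.ResidueField) ⊗ₜ[R] (G r * ∏ x ∈ hfin.toFinset.erase r, G x) : p.Fiber S) =
        (1 : p.ResidueField) ⊗ₜ[R] G r * (1 : p.ResidueField) ⊗ₜ[R] (∏ x ∈ hfin.toFinset.erase r, G x) by
        rw [Algebra.TensorProduct.tmul_mul_tmul, one_mul]]
    refine Ideal.mul_mem_right _ _ ?_
    simpa [G, hle] using hgr r hle

end Groth.Agent.S1191
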