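import Groth.Statements.S1193
import Groth.Agent.AssFiber.Basic
import Mathlib.RingTheory.Ideal.AssociatedPrime.Finiteness
import Mathlib.RingTheory.Localization.Ideal
import Mathlib.RingTheory.Ideal.Operations

set_option autoImplicit false
universe u
open FlatMor

namespace Groth.Agent.S1193

open IsLocalRing TensorProduct

attribute [local instance] Algebra.TensorProduct.rightAlgebra

variable (R S : Type u) [CommRing R] [IsLocalRing R] [CommRing S] [Algebra R S]

theorem algebraMap_fiber_surjective :
    Function.Surjective (algebraMap S ((maximalIdeal R).Fiber S)) := by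
  intro z
  induction z using TensorProduct.induction_on with
  | zero => exact ⟨0, map_zero _⟩
  | tmul c t =>
    obtain ⟨r, rfl⟩ := Ideal.algebraMap_residueField_surjective (maximalIdeal R) c
    refine ⟨r • t, ?_⟩
    rw [show algebraMap S ((maximalIdeal R).Fiber S) (r • t) =
      (1 : (maximalIdeal R).ResidueField) ⊗ₜ[R] (r • t) from rfl, ← smul_tmul,
      Algebra.smul_def, mul_one]
  | add a b ha hb =>
    obtain ⟨a, rfl⟩ := ha; obtain ⟨b, rfl⟩ := hb
    exact ⟨a + b, map_add _ _ _⟩

variable (N : Type u) [AddCommGroup N] [Module S N] [Module R N] [IsScalarTower R S N]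

theorem mem_colon_iff (x : FlatCA.fiberMod (maximalIdeal R) S N) (s : S) :
    algebraMap S ((maximalIdeal R).Fiber S) s ∈ (⊥ : Submodule ((maximalIdeal R).Fiber S) _).colon {x} ↔
      s ∈ (⊥ : Submodule S _).colon {x} := by
  simp [Submodule.mem_colon_singleton, AssFiber.algebraMap_smul_fiberMod]

theorem associatedPrimes_eq : associatedPrimes S (FlatCA.fiberMod (maximalIdeal R) S N) =
    Ideal.comap (algebraMap S ((maximalIdeal R).Fiber S)) ''
      associatedPrimes ((maximalIdeal R).Fiber S) (FlatCA.fiberMod (maximalIdeal R) S N) := by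
  have key : ∀ x : FlatCA.fiberMod (maximalIdeal R) S N, ((⊥ : Submodule S _).colon {x}).radical =
      Ideal.comap (algebraMap S ((maximalIdeal R).Fiber S))
        ((⊥ : Submodule ((maximalIdeal R).Fiber S) _).colon {x}).radical := by
    intro x
    rw [Ideal.comap_radical]
    congr 1
  ext q
  constructor
  · rintro ⟨hq, x, hx⟩
    refine ⟨((⊥ : Submodule ((maximalIdeal R).Fiber S) _).colon {x}).radical, ⟨?_, x, rfl⟩,
      ((key x).symm.trans hx.symm)⟩
    rw [hx, key x] at hq
    haveI := hq
    have := Ideal.map_isPrime_of_surjective (algebraMap_fiber_surjective R S)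
      (I := Ideal.comap (algebraMap S ((maximalIdeal R).Fiber S))
        ((⊥ : Submodule ((maximalIdeal R).Fiber S) _).colon {x}).radical)
      ((RingHom.ker_eq_comap_bot _).trans_le (Ideal.comap_mono bot_le))
    rwa [Ideal.map_comap_of_surjective _ (algebraMap_fiber_surjective R S)] at this
  · rintro ⟨Q, ⟨hQ, x, rfl⟩, rfl⟩
    exact ⟨hQ.comap _, x, (key x).symm⟩

end Groth.Agent.S1193

namespace Groth.Agent.S1193

attribute [local instance] Algebra.TensorProduct.rightAlgebra


open IsLocalRing in
/-- Let R be a local ring, S an R-algebra whose closed fibre ring is Noetherian and N an S-module whose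
closed fibre module N/𝔪N is finite. Let Σ be the set of elements of S acting injectively on N/𝔪N.
Then a prime of S is disjoint from Σ exactly when it lies inside an associated prime of N/𝔪N (the
primes of the localization at Σ), the localization of S at Σ has finitely many maximal ideals, and
an ideal of that localization is maximal exactly when it is prime and contracts to a maximal member
of the set of associated primes of N/𝔪N. -/
theorem result {R S : Type u} [CommRing R] [IsLocalRing R] [CommRing S] [Algebra R S]
    (N : Type u) [AddCommGroup N] [Module S N] [Module R N] [IsScalarTower R S N]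
    [IsNoetherianRing ((maximalIdeal R).Fiber S)]
    [Module.Finite ((maximalIdeal R).Fiber S) (FlatCA.fiberMod (maximalIdeal R) S N)] :
    (∀ (q : Ideal S) [q.IsPrime], Disjoint (q : Set S) (FlatCA.nzdFiber R S N) ↔
        ∃ q' ∈ associatedPrimes S (FlatCA.fiberMod (maximalIdeal R) S N), q ≤ q') ∧
    {Q : Ideal (Localization (FlatCA.nzdFiber R S N)) | Q.IsMaximal}.Finite ∧
    (∀ Q : Ideal (Localization (FlatCA.nzdFiber R S N)), Q.IsMaximal ↔ (Q.IsPrime ∧
        Maximal (fun r => r ∈ associatedPrimes S (FlatCA.fiberMod (maximalIdeal R) S N))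
          (Q.comap (algebraMap S (Localization (FlatCA.nzdFiber R S N)))))) := by
  classical
  set F := (maximalIdeal R).Fiber S
  set M := FlatCA.fiberMod (maximalIdeal R) S N
  set sg := FlatCA.nzdFiber R S N
  have hfin : (associatedPrimes S M).Finite := by
    rw [associatedPrimes_eq R S N]; exact (associatedPrimes.finite F M).image _
  have hzd : ∀ s : S, s ∉ sg ↔ ∃ q' ∈ associatedPrimes S M, s ∈ q' := by
    intro s
    have h := Set.ext_iff.1 (biUnion_associatedPrimes_eq_zero_divisors F M) (algebraMap S F s)
    simp only [Set.mem_iUnion, SetLike.mem_coe, exists_prop] at h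
    rw [associatedPrimes_eq R S N]
    simp only [Set.exists_mem_image, Ideal.mem_comap]
    refine Iff.trans ?_ h.symm
    simp only [Set.mem_ofPred_eq, AssFiber.algebraMap_smul_fiberMod]
    change ¬ (∀ x : M, s • x = 0 → x = 0) ↔ _
    push Not
    exact exists_congr fun x => and_comm
  have h1 : ∀ (q : Ideal S) [q.IsPrime], Disjoint (q : Set S) sg ↔
      ∃ q' ∈ associatedPrimes S M, q ≤ q' := by
    intro q hq
    refine ⟨fun hd => ?_, fun ⟨q', hq', hle⟩ => Set.disjoint_left.2 fun s hs hs' =>
      ((hzd s).2 ⟨q', hq', hle hs⟩) hs'⟩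
    have hsub : (q : Set S) ⊆ ⋃ i ∈ (↑hfin.toFinset : Set (Ideal S)), ((id i : Ideal S) : Set S) := by
      intro s hs
      obtain ⟨q', hq', hm⟩ := (hzd s).1 (Set.disjoint_left.1 hd hs)
      exact Set.mem_iUnion₂.2 ⟨q', hfin.mem_toFinset.2 hq', hm⟩
    obtain ⟨q', hq', hle⟩ := (Ideal.subset_union_prime (f := id) ⊥ ⊥
      fun i hi _ _ => (hfin.mem_toFinset.1 hi).isPrime).1 hsub
    exact ⟨q', hfin.mem_toFinset.1 hq', hle⟩
  let L := Localization sg
  have h3 : ∀ Q : Ideal L, Q.IsMaximal ↔ (Q.IsPrime ∧
      Maximal (fun r => r ∈ associatedPrimes S M) (Q.comap (algebraMap S L))) := by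
    have hdis : ∀ r ∈ associatedPrimes S M, Disjoint (sg : Set S) r := fun r hr =>
      haveI : r.IsPrime := IsAssociatedPrime.isPrime hr
      ((h1 r).2 ⟨r, hr, le_rfl⟩).symm
    intro Q
    constructor
    · intro hQ
      obtain ⟨hp, hd⟩ := (IsLocalization.isPrime_iff_isPrime_disjoint sg L Q).1 hQ.isPrime
      haveI := hp
      obtain ⟨q', hq', hle⟩ := (h1 _).1 hd.symm
      have hmax : ∀ r ∈ associatedPrimes S M, Q.comap (algebraMap S L) ≤ r →
          r = Q.comap (algebraMap S L) := by
        intro r hr hle
        have hp' := IsLocalization.isPrime_of_isPrime_disjoint sg L r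
          (IsAssociatedPrime.isPrime hr) (hdis r hr)
        have hle' : Q ≤ r.map (algebraMap S L) :=
          (IsLocalization.map_under sg L Q).symm.le.trans (Ideal.map_mono hle)
        rw [hQ.eq_of_le hp'.ne_top hle']
        exact (IsLocalization.under_map_of_isPrime_disjoint sg L
          (IsAssociatedPrime.isPrime hr) (hdis r hr)).symm
      refine ⟨hQ.isPrime, ?_, fun r hr hle' => (hmax r hr hle').le⟩
      exact hmax q' hq' hle ▸ hq'
    · rintro ⟨hQ, hm⟩
      obtain ⟨J, hJ, hle⟩ := Ideal.exists_le_maximal Q hQ.ne_top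
      obtain ⟨hp, hd⟩ := (IsLocalization.isPrime_iff_isPrime_disjoint sg L J).1 hJ.isPrime
      haveI := hp
      obtain ⟨q', hq', hle'⟩ := (h1 _).1 hd.symm
      have h := hm.2 hq' ((Ideal.comap_mono hle).trans hle')
      have : J ≤ Q := by
        rw [← IsLocalization.map_under sg L J, ← IsLocalization.map_under sg L Q]
        exact Ideal.map_mono (hle'.trans h)
      rwa [le_antisymm hle this]
  refine ⟨h1, ?_, h3⟩
  refine Set.Finite.of_finite_image (f := Ideal.comap (algebraMap S L)) (hfin.subset ?_) ?_
  · rintro _ ⟨Q, hQ, rfl⟩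
    exact ((h3 Q).1 hQ).2.1
  · intro Q _ Q' _ h
    rw [← IsLocalization.map_under sg L Q, ← IsLocalization.map_under sg L Q']
    exact congrArg (Ideal.map (algebraMap S L)) h

end Groth.Agent.S1193
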