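import Groth.Statements.S1194
import Groth.Agent.ZClosLib.NzdAssoc

set_option autoImplicit false
set_option linter.style.haveILetI false
universe u
open FlatMor

namespace Groth.Agent.S1194

open TensorProduct Groth.Agent.ZClosLib

attribute [local instance] Algebra.TensorProduct.rightAlgebra

open IsLocalRing in
/-- Let R → S be a local homomorphism of local rings which is essentially of finite presentation, and N
a finitely presented S-module flat over R. Then multiplication by any element of S acting
injectively on N/𝔪_R N is a universally injective map of R-modules on N, and the localization map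
from N to its localization at all such elements is universally injective over R. -/
theorem result {R S : Type u} [CommRing R] [IsLocalRing R] [CommRing S] [IsLocalRing S] [Algebra R S]
    [IsLocalHom (algebraMap R S)] (hS : FlatCA.EssFinitePresentation R S)
    (N : Type u) [AddCommGroup N] [Module S N] [Module R N] [IsScalarTower R S N] [Module.FinitePresentation S N] [Module.Flat R N] :
    (∀ s ∈ FlatCA.nzdFiber R S N, FlatCA.UnivInj R ((LinearMap.lsmul S N s).restrictScalars R)) ∧
    FlatCA.UnivInj R ((LocalizedModule.mkLinearMap (FlatCA.nzdFiber R S N) N).restrictScalars R) := by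
  have hmul : ∀ s ∈ FlatCA.nzdFiber R S N, ∀ (Q : Type u) [AddCommGroup Q] [Module R Q],
      Function.Injective (fun z : N ⊗[R] Q => s • z) := fun s hs Q _ _ =>
    NzdUnivInj.smul_injective hS s (NzdUnivInj.isSMulRegular_quot_maximal N fun x hx =>
      (mem_nonZeroSMulDivisors_iff.1 hs) x hx) Q
  refine ⟨fun s hs Q _ _ => ?_, fun Q _ _ => ?_⟩
  · have key : ∀ z : Q ⊗[R] N, TensorProduct.comm R Q N (((LinearMap.lsmul S N s).restrictScalars R).lTensor Q z) =
        s • TensorProduct.comm R Q N z := by
      intro z
      induction z using TensorProduct.induction_on with
      | zero => rw [map_zero, map_zero, smul_zero]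
      | tmul q n => rw [LinearMap.lTensor_tmul, TensorProduct.comm_tmul, TensorProduct.comm_tmul, TensorProduct.smul_tmul']; rfl
      | add a b ha hb => rw [map_add, map_add, map_add, smul_add, ha, hb]
    intro a b hab
    refine (TensorProduct.comm R Q N).injective (hmul s hs Q ?_)
    show s • _ = s • _
    rw [← key, ← key, hab]
  · let g := LocalizedModule.mkLinearMap (FlatCA.nzdFiber R S N) N
    let G := AlgebraTensorModule.rTensor R Q g
    haveI : IsLocalizedModule (FlatCA.nzdFiber R S N) G := IsLocalizedModule.rTensor _ _ g
    have key : ∀ z : Q ⊗[R] N, TensorProduct.comm R Q _ ((g.restrictScalars R).lTensor Q z) =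
        G (TensorProduct.comm R Q N z) := by
      intro z
      induction z using TensorProduct.induction_on with
      | zero => rw [map_zero, map_zero, map_zero, map_zero]
      | tmul q n => rw [LinearMap.lTensor_tmul, TensorProduct.comm_tmul, TensorProduct.comm_tmul]; rfl
      | add a b ha hb => rw [map_add, map_add, map_add, map_add, ha, hb]
    intro a b hab
    refine (TensorProduct.comm R Q N).injective ?_
    obtain ⟨c, hc⟩ := (IsLocalizedModule.eq_iff_exists (FlatCA.nzdFiber R S N) G).1
      (show G (TensorProduct.comm R Q N a) = G (TensorProduct.comm R Q N b) by rw [← key, ← key, hab])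
    exact hmul c c.2 Q hc

end Groth.Agent.S1194
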