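import Groth.Statements.S1196
import Groth.Agent.ZClosLib.NzdAssoc

set_option autoImplicit false
set_option linter.style.haveILetI false
universe u
open FlatMor

namespace Groth.Agent.S1196

open TensorProduct Groth.Agent.ZClosLib

attribute [local instance] Algebra.TensorProduct.rightAlgebra

/-- Kernel elements of the base change map vanish in the flat base change. -/
theorem tmul_one_eq_zero {R S S' : Type u} [CommRing R] [CommRing S] [CommRing S'] [Algebra R S] [Algebra S S']
    [Algebra R S'] [IsScalarTower R S S'] {N : Type u} [AddCommGroup N] [Module S N] [Module R N] [IsScalarTower R S N]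
    {Q : Type u} [AddCommGroup Q] [Module R Q] {z : Q ⊗[R] N}
    (hz : ((TensorProduct.mk S S' N 1).restrictScalars R).lTensor Q z = 0) :
    (1 : S') ⊗ₜ[S] TensorProduct.comm R Q N z = 0 := by
  have key : ∀ w : Q ⊗[R] N, (AlgebraTensorModule.assoc R S S S' N Q)
      (TensorProduct.comm R Q (S' ⊗[S] N) (((TensorProduct.mk S S' N 1).restrictScalars R).lTensor Q w)) =
      (1 : S') ⊗ₜ[S] TensorProduct.comm R Q N w := by
    intro w
    induction w using TensorProduct.induction_on with
    | zero => rw [map_zero, map_zero, map_zero, map_zero, tmul_zero]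
    | tmul q n => rfl
    | add a b ha hb => rw [map_add, map_add, map_add, map_add, tmul_add, ha, hb]
  rw [← key, hz, map_zero, map_zero]

open TensorProduct IsLocalRing in
/-- Let R → S be a local homomorphism of local rings, essentially of finite presentation, N a finitely
presented S-module flat over R, and S' a flat S-algebra such that every prime of S which is an
associated prime of N/𝔪_R N is the contraction of a prime of S'. Then N → S' ⊗_S N is universally
injective as a map of R-modules. -/
theorem result {R S S' : Type u} [CommRing R] [IsLocalRing R] [CommRing S] [IsLocalRing S] [CommRing S'] [Algebra R S] [IsLocalHom (algebraMap R S)] [Algebra S S'] [Algebra R S'] [IsScalarTower R S S']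
    (hS : FlatCA.EssFinitePresentation R S) [Module.Flat S S']
    (N : Type u) [AddCommGroup N] [Module S N] [Module R N] [IsScalarTower R S N] [Module.FinitePresentation S N] [Module.Flat R N]
    (h : ∀ q ∈ associatedPrimes S (FlatCA.fiberMod (maximalIdeal R) S N),
      ∃ q' : Ideal S', q'.IsPrime ∧ q'.comap (algebraMap S S') = q) :
    FlatCA.UnivInj R ((TensorProduct.mk S S' N 1).restrictScalars R) := by
  intro Q _ _
  rw [injective_iff_map_eq_zero]
  intro z hz
  by_contra hz0
  obtain ⟨S₀, _, _, _, _, M, _, _⟩ := id hS
  haveI : Algebra.EssFiniteType S₀ S := Algebra.EssFiniteType.of_isLocalization S M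
  haveI : Algebra.EssFiniteType R S := Algebra.EssFiniteType.comp R S₀ S
  haveI : IsNoetherianRing ((maximalIdeal R).Fiber S) :=
    Algebra.EssFiniteType.isNoetherianRing (maximalIdeal R).ResidueField _
  let w := TensorProduct.comm R Q N z
  have htop := NzdUnivInj.map_annihilator_eq_top (tmul_one_eq_zero hz)
  obtain ⟨s, hsJ, hs⟩ := NzdUnivInj.exists_avoid (maximalIdeal R) N (fun _ => True) (WeakAss.annEl S w)
    fun r hr _ hle => by
      obtain ⟨hrp, -, -, hass⟩ := NzdUnivInj.comap_spec (maximalIdeal R) N hr
      obtain ⟨q', hq', hqq'⟩ := h _ hass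
      refine hq'.ne_top (top_le_iff.1 ?_)
      rw [← htop, Ideal.map_le_iff_le_comap, hqq']
      exact hle
  have hreg : ∀ x : FlatCA.fiberMod (maximalIdeal R) S N, s • x = 0 → x = 0 := fun x hx => by
    by_contra hx0
    obtain ⟨r, hr, hle⟩ := exists_le_isAssociatedPrime_of_isNoetherianRing ((maximalIdeal R).Fiber S) x hx0
    refine hs r hr trivial (hle ?_)
    rw [Submodule.mem_colon_singleton, Submodule.mem_bot, AssFiber.algebraMap_smul_fiberMod, hx]
  refine hz0 ((TensorProduct.comm R Q N).injective ?_)
  rw [map_zero]
  refine NzdUnivInj.smul_injective hS s (NzdUnivInj.isSMulRegular_quot_maximal N hreg) Q ?_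
  show s • w = s • (0 : N ⊗[R] Q)
  rw [smul_zero, WeakAss.mem_annEl.1 hsJ]

end Groth.Agent.S1196
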