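import Groth.Statements.S16676
import Groth.Agent.H23.KerIsog
-- import your own Groth.Agent.* helpers here

set_option autoImplicit false
universe u
open CategoryTheory CategoryTheory.Limits MonoidalCategory CartesianMonoidalCategory MonObj GrpObj AlgebraicGeometry
open AbVar

namespace Groth.Agent.S16676

/-- The equivalence of its second and third conditions. Let X and Y be abelian varieties over a field k
(proper, geometrically integral k-group schemes), f : X → Y a homomorphism which is finite, flat and
surjective (an isogeny), and i : N → X the kernel of f (the square formed by i, f, the unit section
of Y and the structure map of N is cartesian). Then f is universally injective (a purely inseparable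
morphism) if and only if the scheme N is connected. (The published item also includes the equivalent
condition that the function field of X is purely inseparable over that of Y; that clause is not part
of this statement.) -/
theorem result (k : Type u) [Field k]
    (X Y : Over (Spec (CommRingCat.of k)))
    [GrpObj X] [IsProper X.hom] [GeometricallyIntegral X.hom]
    [GrpObj Y] [IsProper Y.hom] [GeometricallyIntegral Y.hom]
    (f : X ⟶ Y) [IsMonHom f] [IsFinite f.left] [Flat f.left] [Surjective f.left]
    (N : Over (Spec (CommRingCat.of k))) (i : N ⟶ X) (hN : AlgGrp.IsKernel i f) :
    UniversallyInjective f.left ↔ ConnectedSpace ↥N.left := by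
  have e : 𝟙_ (Over (Spec (CommRingCat.of k))) ⟶ N := hN.lift η[X] (𝟙 _) (by rw [IsMonHom.one_hom, Category.id_comp])
  have : IsFinite N.hom := Groth.Agent.H23.KerIsog.prop_ker i f @IsFinite hN inferInstance
  constructor
  · intro h
    have := Groth.Agent.H23.KerIsog.prop_ker i f @UniversallyInjective hN h
    exact Groth.Agent.H23.KerIsog.connected_of_universallyInjective N.hom e.left
  · intro h
    exact Groth.Agent.H23.KerIsog.prop_of_ker i f @UniversallyInjective hN
      (Groth.Agent.H23.KerIsog.universallyInjective_of_connected N.hom e.left (Over.w e))

end Groth.Agent.S16676
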