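import Groth.Statements.S1204
import Groth.Agent.RG.Criterion

set_option autoImplicit false
universe u
open FlatMor

namespace Groth.Agent.S1204

set_option maxHeartbeats 1000000 in
open TensorProduct IsLocalRing in
/-- Let R be a local ring and S a finitely presented flat R-algebra with geometrically integral fibres,
so that 𝔭 = 𝔪_R S is a prime of S; let q be a prime of S over 𝔪_R and N a finite S-module. Then
there is an S-linear map α from a finite free module S^r to N inducing a bijection after base change
to κ(𝔭); and for any such α the following are equivalent: N_q is flat over R; α is universally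
injective over R and the cokernel of α is flat over R at q; α is injective and the cokernel is flat
at q; α localized at 𝔭 is bijective and the cokernel is flat at q; α localized at q is injective and
the cokernel is flat at q. -/
theorem result {R S : Type u} [CommRing R] [IsLocalRing R] [CommRing S] [Algebra R S] [Algebra.FinitePresentation R S] [Module.Flat R S]
    (hgi : FlatCA.GeomIntegralFibres R S) [((maximalIdeal R).map (algebraMap R S)).IsPrime]
    (q : Ideal S) [q.IsPrime] [q.LiesOver (maximalIdeal R)]
    (N : Type u) [AddCommGroup N] [Module S N] [Module R N] [IsScalarTower R S N] [Module.Finite S N] :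
    (∃ (r : ℕ) (α : (Fin r → S) →ₗ[S] N), Function.Bijective (α.baseChange ((maximalIdeal R).map (algebraMap R S)).ResidueField)) ∧
    ∀ (r : ℕ) (α : (Fin r → S) →ₗ[S] N), Function.Bijective (α.baseChange ((maximalIdeal R).map (algebraMap R S)).ResidueField) →
      [FlatCA.FlatAt R q N,
       FlatCA.UnivInj R (α.restrictScalars R) ∧ FlatCA.FlatAt R q (N ⧸ LinearMap.range α),
       Function.Injective α ∧ FlatCA.FlatAt R q (N ⧸ LinearMap.range α),
       Function.Bijective (LocalizedModule.map ((maximalIdeal R).map (algebraMap R S)).primeCompl α) ∧ FlatCA.FlatAt R q (N ⧸ LinearMap.range α),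
       Function.Injective (LocalizedModule.map q.primeCompl α) ∧ FlatCA.FlatAt R q (N ⧸ LinearMap.range α)].TFAE := by
  open Groth.Agent.RG in
  refine ⟨exists_fibre_basis _ N, fun r α hfib => ?_⟩
  haveI : Module.Flat R (Fin r → S) := by
    classical exact Module.Flat.of_linearEquiv ((Finsupp.linearEquivFunOnFinite R S (Fin r)).symm.trans (finsuppLEquivDirectSum R S (Fin r)))
  have hd := domFib_of_geomIntegral hgi
  set P : Ideal S := (maximalIdeal R).map (algebraMap R S) with hP
  have hPq : P ≤ q := Ideal.map_le_iff_le_comap.2 (Ideal.LiesOver.over (P := q) (p := maximalIdeal R)).le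
  have hPr : P.LiesOver (maximalIdeal R) := ⟨le_antisymm
    (fun a ha => Ideal.mem_map_of_mem _ ha)
    (le_maximalIdeal (Ideal.comap_ne_top _ (Ideal.IsPrime.ne_top ‹P.IsPrime›)))⟩
  have hunit : ∀ w ∈ Algebra.algebraMapSubmonoid S (maximalIdeal R).primeCompl, IsUnit w := by
    rintro _ ⟨a, ha, rfl⟩
    exact (IsLocalRing.notMem_maximalIdeal.1 ha).map (algebraMap R S)
  have hle : Algebra.algebraMapSubmonoid S (maximalIdeal R).primeCompl ≤ q.primeCompl :=
    fun w hw h => ‹q.IsPrime›.ne_top (q.eq_top_of_isUnit_mem h (hunit w hw))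
  have hflatP : FlatCA.FlatAt R q N → FlatCA.FlatAt R P N :=
    flat_localized_mono fun x hx h => hx (hPq h)
  have h1 : FlatCA.FlatAt R q N →
      UnivInjUpTo R (Algebra.algebraMapSubmonoid S (maximalIdeal R).primeCompl) α := by
    intro h
    obtain ⟨β, hβ⟩ := exists_retractions hd (maximalIdeal R) P hP hPr (hflatP h) α hfib
    exact univInjUpTo_of_retractions _ (Localization.AtPrime P)
      (exists_smul_tmul_eq_zero_atPrime hd (maximalIdeal R) P hPr) α β hβ
  tfae_have 1 → 2 := fun h => by
    refine ⟨fun Q _ _ => ?_, flat_coker hle (h1 h) h⟩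
    rw [injective_iff_map_eq_zero]
    intro z hz
    apply (TensorProduct.comm R Q (Fin r → S)).injective
    obtain ⟨w, hw, hwz⟩ := h1 h Q (TensorProduct.comm R Q (Fin r → S) z)
      (by rw [LinearMap.rTensor_comm, hz, map_zero])
    rw [map_zero]
    exact (hunit w hw).smul_eq_zero.1 hwz
  tfae_have 2 → 3 := fun h => ⟨fun a b hab => injective_of_univInj h.1 hab, h.2⟩
  tfae_have 3 → 5 := fun h => ⟨(injective_localizedMap_iff _ α).2 fun x hx =>
    ⟨1, one_mem _, by rw [one_smul]; exact h.1 (hx.trans (map_zero α).symm)⟩, h.2⟩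
  tfae_have 5 → 1 := fun h => flat_of_coker ((injective_localizedMap_iff _ α).1 h.1) h.2
  tfae_have 1 → 4 := fun h => by
    obtain ⟨β, hβ⟩ := exists_retractions hd (maximalIdeal R) P hP hPr (hflatP h) α hfib
    exact ⟨bijective_localizedMap_of_retractions P α hfib β hβ, flat_coker hle (h1 h) h⟩
  tfae_have 4 → 3 := fun h => by
    refine ⟨(injective_iff_map_eq_zero α).2 fun x hx => ?_, h.2⟩
    obtain ⟨w, hw, hwx⟩ := exists_smul_eq_zero_of_bijective hd (maximalIdeal R) P hPr α h.1 hx
    exact (hunit w hw).smul_eq_zero.1 hwx
  tfae_finish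

end Groth.Agent.S1204
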