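import Groth.Statements.S1205
import Groth.Agent.RG.Criterion

set_option autoImplicit false
universe u
open FlatMor

namespace Groth.Agent.S1205

set_option maxHeartbeats 1000000 in
open TensorProduct in
/-- Let S be a finitely presented flat R-algebra with geometrically integral fibres, q a prime of S over
the prime 𝔯 of R, so that 𝔭 = 𝔯S is a prime of S, and N a finitely presented S-module. Then there is
an S-linear map α from a finite free module S^r to N inducing a bijection after base change to κ(𝔭);
and for any such α the following are equivalent: N_q is flat over R; for some f ∈ R outside 𝔯 the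
localization α_f is universally injective over R and for some g ∈ S outside q the localization of
the cokernel at g is flat over R; α localized at (the image of) 𝔯 is universally injective over R
and the cokernel is flat over R at q; α localized at 𝔯 is injective and the cokernel is flat at q; α
localized at 𝔭 is bijective and the cokernel is flat at q; α localized at q is injective and the
cokernel is flat at q. (Universal injectivity over R_f or R_𝔯 of a map of modules over these
localizations is the same as over R, which is how it is written.) -/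
theorem result {R S : Type u} [CommRing R] [CommRing S] [Algebra R S] [Algebra.FinitePresentation R S] [Module.Flat R S]
    (hgi : FlatCA.GeomIntegralFibres R S) (rr : Ideal R) [rr.IsPrime] [(rr.map (algebraMap R S)).IsPrime]
    (q : Ideal S) [q.IsPrime] [q.LiesOver rr]
    (N : Type u) [AddCommGroup N] [Module S N] [Module R N] [IsScalarTower R S N] [Module.FinitePresentation S N] :
    (∃ (r : ℕ) (α : (Fin r → S) →ₗ[S] N), Function.Bijective (α.baseChange (rr.map (algebraMap R S)).ResidueField)) ∧
    ∀ (r : ℕ) (α : (Fin r → S) →ₗ[S] N), Function.Bijective (α.baseChange (rr.map (algebraMap R S)).ResidueField) →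
      [FlatCA.FlatAt R q N,
       (∃ f : R, f ∉ rr ∧ FlatCA.UnivInj R ((LocalizedModule.map (Submonoid.powers (algebraMap R S f)) α).restrictScalars R)) ∧
         (∃ g : S, g ∉ q ∧ Module.Flat R (LocalizedModule (Submonoid.powers g) (N ⧸ LinearMap.range α))),
       FlatCA.UnivInj R ((LocalizedModule.map (Algebra.algebraMapSubmonoid S rr.primeCompl) α).restrictScalars R) ∧ FlatCA.FlatAt R q (N ⧸ LinearMap.range α),
       Function.Injective (LocalizedModule.map (Algebra.algebraMapSubmonoid S rr.primeCompl) α) ∧ FlatCA.FlatAt R q (N ⧸ LinearMap.range α),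
       Function.Bijective (LocalizedModule.map (rr.map (algebraMap R S)).primeCompl α) ∧ FlatCA.FlatAt R q (N ⧸ LinearMap.range α),
       Function.Injective (LocalizedModule.map q.primeCompl α) ∧ FlatCA.FlatAt R q (N ⧸ LinearMap.range α)].TFAE := by
  open Groth.Agent.RG in
  refine ⟨exists_fibre_basis _ N, fun r α hfib => ?_⟩
  haveI : Module.Flat R (Fin r → S) := by
    classical exact Module.Flat.of_linearEquiv ((Finsupp.linearEquivFunOnFinite R S (Fin r)).symm.trans (finsuppLEquivDirectSum R S (Fin r)))
  have hd := domFib_of_geomIntegral hgi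
  set P : Ideal S := rr.map (algebraMap R S) with hP
  have hPq : P ≤ q := Ideal.map_le_iff_le_comap.2 (Ideal.LiesOver.over (P := q) (p := rr)).le
  have hPr : P.LiesOver rr := ⟨le_antisymm
    (fun a ha => Ideal.mem_map_of_mem _ ha)
    ((Ideal.comap_mono hPq).trans (Ideal.LiesOver.over (P := q) (p := rr)).ge)⟩
  have hle : Algebra.algebraMapSubmonoid S rr.primeCompl ≤ q.primeCompl := by
    rintro _ ⟨a, ha, rfl⟩ h
    exact ha ((SetLike.ext_iff.1 (Ideal.LiesOver.over (P := q) (p := rr)) a).2 h)
  have hflatP : FlatCA.FlatAt R q N → FlatCA.FlatAt R P N :=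
    flat_localized_mono fun x hx h => hx (hPq h)
  have h1 : FlatCA.FlatAt R q N → UnivInjUpTo R (Algebra.algebraMapSubmonoid S rr.primeCompl) α := by
    intro h
    obtain ⟨β, hβ⟩ := exists_retractions hd rr P hP hPr (hflatP h) α hfib
    exact univInjUpTo_of_retractions _ (Localization.AtPrime P)
      (exists_smul_tmul_eq_zero_atPrime hd rr P hPr) α β hβ
  tfae_have 1 → 2 := fun h => by
    obtain ⟨β, hβ⟩ := exists_retractions hd rr P hP hPr (hflatP h) α hfib
    obtain ⟨f, hf, hfu⟩ := exists_univInjUpTo_powers hd rr P hPr α β hβ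
    refine ⟨⟨f, hf, hfu.univInj_localized⟩, ?_⟩
    haveI : Module.FinitePresentation S (N ⧸ LinearMap.range α) :=
      Module.finitePresentation_of_surjective (LinearMap.range α).mkQ (Submodule.mkQ_surjective _)
        (by rw [Submodule.ker_mkQ, LinearMap.range_eq_map]; exact Module.Finite.fg_top.map α)
    obtain ⟨g, hg, hgf⟩ := Groth.Agent.FlatModel.exists_flat_nhd (R := R) (N ⧸ LinearMap.range α) q
      (flat_coker hle (h1 h) h)
    exact ⟨g, hg, hgf _ (Submonoid.mem_powers g)⟩
  tfae_have 1 → 3 := fun h => ⟨(h1 h).univInj_localized, flat_coker hle (h1 h) h⟩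
  tfae_have 2 → 4 := fun h => by
    obtain ⟨⟨f, hf, hu⟩, g, hg, hgflat⟩ := h
    refine ⟨(injective_localizedMap_iff _ α).2 fun x hx => ?_,
      flat_localized_mono (Submonoid.powers_le.2 hg) hgflat⟩
    obtain ⟨w, ⟨k, rfl⟩, hwx⟩ := (injective_localizedMap_iff (Submonoid.powers (algebraMap R S f)) α).1 (fun a b hab => injective_of_univInj hu hab) x hx
    exact ⟨_, ⟨f ^ k, rr.primeCompl.pow_mem hf k, rfl⟩, (map_pow (algebraMap R S) f k).symm ▸ hwx⟩
  tfae_have 3 → 4 := fun h => ⟨fun a b hab => injective_of_univInj h.1 hab, h.2⟩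
  tfae_have 4 → 6 := fun h => ⟨(injective_localizedMap_iff _ α).2 fun x hx => by
    obtain ⟨w, hw, hwx⟩ := (injective_localizedMap_iff _ α).1 h.1 x hx
    exact ⟨w, hle hw, hwx⟩, h.2⟩
  tfae_have 6 → 1 := fun h => flat_of_coker ((injective_localizedMap_iff _ α).1 h.1) h.2
  tfae_have 1 → 5 := fun h => by
    obtain ⟨β, hβ⟩ := exists_retractions hd rr P hP hPr (hflatP h) α hfib
    exact ⟨bijective_localizedMap_of_retractions P α hfib β hβ, flat_coker hle (h1 h) h⟩
  tfae_have 5 → 4 := fun h => ⟨(injective_localizedMap_iff _ α).2 fun x hx =>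
    exists_smul_eq_zero_of_bijective hd rr P hPr α h.1 hx, h.2⟩
  tfae_finish

end Groth.Agent.S1205
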