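import Groth.Statements.S12056
import Mathlib.RingTheory.PowerSeries.Substitution
import Mathlib.RingTheory.PowerSeries.Derivative
import Mathlib.Algebra.DualNumber
import Mathlib.Tactic.LinearCombination
-- import your own Groth.Agent.* helpers here

set_option autoImplicit false
open Red

namespace Groth.Agent.S12056

section Aux

variable {R : Type*} [CommRing R]

local notation "ε" => (DualNumber.eps : DualNumber R)
local notation "ι" => PowerSeries.map (algebraMap R (DualNumber R))

theorem C_eps_mul_self : (PowerSeries.C ε : PowerSeries (DualNumber R)) * PowerSeries.C ε = 0 := by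
  rw [← map_mul, DualNumber.eps_mul_eps, map_zero]

/-- The first-order Taylor formula. -/
theorem subst_add_eps (v F : PowerSeries R) :
    PowerSeries.subst (PowerSeries.X + PowerSeries.C ε * ι v : PowerSeries (DualNumber R)) F =
      ι F + PowerSeries.C ε * ι (v * PowerSeries.derivative R F) := by
  set u : PowerSeries (DualNumber R) := PowerSeries.X + PowerSeries.C ε * ι v with hu
  have hsu : PowerSeries.HasSubst u := by
    show IsNilpotent (PowerSeries.constantCoeff u)
    refine ⟨2, ?_⟩
    have e : ε ^ 2 = 0 := by rw [pow_two, DualNumber.eps_mul_eps]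
    simp [hu, mul_pow, e]
  let Δ : PowerSeries R → PowerSeries (DualNumber R) := fun G =>
    PowerSeries.subst u G - (ι G + PowerSeries.C ε * ι (v * PowerSeries.derivative R G))
  have hstep : ∀ G : PowerSeries R, ∃ H, Δ G = u * Δ H := by
    intro G
    refine ⟨PowerSeries.mk fun p => PowerSeries.coeff (p + 1) G, ?_⟩
    set H := PowerSeries.mk fun p => PowerSeries.coeff (p + 1) G with hH
    have hG : G = PowerSeries.X * H + PowerSeries.C (PowerSeries.constantCoeff G) :=
      PowerSeries.eq_X_mul_shift_add_const G
    have h1 : PowerSeries.subst u G =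
        u * PowerSeries.subst u H + ι (PowerSeries.C (PowerSeries.constantCoeff G)) := by
      conv_lhs => rw [hG]
      rw [PowerSeries.subst_add hsu, PowerSeries.subst_mul hsu, PowerSeries.subst_X hsu]
      congr 1
      rw [PowerSeries.map_C]
      rw [← PowerSeries.coe_substAlgHom hsu, PowerSeries.C_eq_algebraMap, AlgHom.commutes]
      exact IsScalarTower.algebraMap_apply R (DualNumber R) _ _
    have h2 : PowerSeries.derivative R G = H + PowerSeries.X * PowerSeries.derivative R H := by
      conv_lhs => rw [hG]
      rw [map_add, Derivation.leibniz, PowerSeries.derivative_X, PowerSeries.derivative_C, add_zero,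
        smul_eq_mul, smul_eq_mul, mul_one, add_comm]
    have h3 : ι G = PowerSeries.X * ι H + ι (PowerSeries.C (PowerSeries.constantCoeff G)) := by
      conv_lhs => rw [hG]
      rw [map_add, map_mul, PowerSeries.map_X]
    simp only [Δ]
    rw [h1, h2, h3]
    simp only [map_add, map_mul, PowerSeries.map_X]
    rw [hu]
    linear_combination (ι v * ι v * ι (PowerSeries.derivative R H)) * C_eps_mul_self (R := R)
  have hiter : ∀ (n : ℕ) (G : PowerSeries R), ∃ H, Δ G = u ^ n * Δ H := by
    intro n
    induction n with
    | zero => exact fun G => ⟨G, by simp⟩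
    | succ n ih =>
      intro G
      obtain ⟨H, hH⟩ := ih G
      obtain ⟨H', hH'⟩ := hstep H
      exact ⟨H', by rw [hH, hH', pow_succ, mul_assoc]⟩
  have hdvd : ∀ n : ℕ, PowerSeries.X ^ n ∣ u ^ (n + 1) := by
    intro n
    refine ⟨PowerSeries.X + ((n + 1 : ℕ) : PowerSeries (DualNumber R)) * (PowerSeries.C ε * ι v), ?_⟩
    induction n with
    | zero => simp [hu]
    | succ n ih =>
      rw [pow_succ, ih, hu, pow_succ]
      push_cast
      linear_combination (PowerSeries.X ^ n * ((n : PowerSeries (DualNumber R)) + 1) * ι v * ι v) *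
        C_eps_mul_self (R := R)
  have hzero : Δ F = 0 := by
    refine PowerSeries.ext fun n => ?_
    obtain ⟨H, hH⟩ := hiter (n + 2) F
    rw [map_zero, hH]
    exact PowerSeries.X_pow_dvd_iff.mp (dvd_mul_of_dvd_left (hdvd (n + 1)) _) n (Nat.lt_succ_self n)
  exact sub_eq_zero.mp hzero

theorem subst_X' (F : PowerSeries R) :
    PowerSeries.subst (PowerSeries.X : PowerSeries (DualNumber R)) F = ι F := by
  have h := subst_add_eps 0 F
  simpa using h

theorem subst_C_eps (F : PowerSeries R) :
    PowerSeries.subst (PowerSeries.C ε : PowerSeries (DualNumber R)) F =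
      ι (PowerSeries.C (PowerSeries.constantCoeff F)) +
        PowerSeries.C ε * ι (PowerSeries.C (PowerSeries.coeff 1 F)) := by
  have hs : PowerSeries.HasSubst (PowerSeries.C ε : PowerSeries (DualNumber R)) := by
    show IsNilpotent (PowerSeries.constantCoeff (PowerSeries.C ε))
    exact ⟨2, by rw [PowerSeries.constantCoeff_C, pow_two, DualNumber.eps_mul_eps]⟩
  have hC : ∀ r : R, PowerSeries.subst (PowerSeries.C ε : PowerSeries (DualNumber R)) (PowerSeries.C r) =
      ι (PowerSeries.C r) := by
    intro r
    rw [PowerSeries.map_C, ← PowerSeries.coe_substAlgHom hs]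
    exact (AlgHom.commutes _ r).trans (IsScalarTower.algebraMap_apply R (DualNumber R) _ _)
  set G := PowerSeries.mk fun p => PowerSeries.coeff (p + 1) F with hG
  have hG0 : PowerSeries.constantCoeff G = PowerSeries.coeff 1 F := by
    simp [hG, ← PowerSeries.coeff_zero_eq_constantCoeff_apply]
  conv_lhs => rw [PowerSeries.eq_X_mul_shift_add_const F, ← hG, PowerSeries.eq_X_mul_shift_add_const G]
  simp only [PowerSeries.subst_add hs, PowerSeries.subst_mul hs, PowerSeries.subst_X hs, hC, hG0]
  linear_combination
    (PowerSeries.subst (PowerSeries.C ε : PowerSeries (DualNumber R))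
      (PowerSeries.mk fun p => PowerSeries.coeff (p + 1) G)) * C_eps_mul_self (R := R)

/-- Reading off the `ε`-part. -/
theorem eps_ext {P Q P' Q' : PowerSeries R}
    (h : ι P + PowerSeries.C ε * ι Q = ι P' + PowerSeries.C ε * ι Q') : Q = Q' := by
  refine PowerSeries.ext fun n => ?_
  have := congrArg (fun z => TrivSqZeroExt.snd (PowerSeries.coeff n z)) h
  simp only [map_add, PowerSeries.coeff_C_mul, PowerSeries.coeff_map, TrivSqZeroExt.snd_add,
    DualNumber.snd_mul, DualNumber.fst_eps, DualNumber.snd_eps, TrivSqZeroExt.algebraMap_eq_inl,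
    TrivSqZeroExt.fst_inl, TrivSqZeroExt.snd_inl] at this
  simpa using this

end Aux

/-- In formal-power-series form, let R be a commutative ring and F ∈ R⟦X⟧ with constant term 1 whose
linear coefficient a is a unit of R. Suppose that in R⟦X₀, X₁⟧ one has F(X₀ + X₁ · F(X₀)) = F(X₀) ·
F(X₁) (the functional equation F(x + y F(x)) = F(x) F(y)). Then F = 1 + a X. (The published
statement concerns a morphism to the multiplicative group from an open neighbourhood of the zero
section in the additive group over a base scheme, the identity holding on an open neighbourhood of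
the origin of the plane on which all terms are defined, with a the derivative at 0; this row states
it for formal power series over a ring.) -/
theorem result (R : Type) [CommRing R] (F : PowerSeries R)
    (h0 : PowerSeries.constantCoeff F = 1) (ha : IsUnit (PowerSeries.coeff 1 F))
    (hFE : PowerSeries.subst
        (MvPowerSeries.X (0 : Fin 2) + MvPowerSeries.X 1 * PowerSeries.subst (MvPowerSeries.X (0 : Fin 2)) F :
          MvPowerSeries (Fin 2) R) F =
      PowerSeries.subst (MvPowerSeries.X (0 : Fin 2)) F * PowerSeries.subst (MvPowerSeries.X (1 : Fin 2)) F) :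
    F = 1 + PowerSeries.C (PowerSeries.coeff 1 F) * PowerSeries.X := by
  set a := PowerSeries.coeff 1 F with ha'
  let e : PowerSeries (DualNumber R) := PowerSeries.C DualNumber.eps
  let F' := PowerSeries.map (algebraMap R (DualNumber R)) F
  have hFu : IsUnit F := MvPowerSeries.isUnit_iff_constantCoeff.mpr (by
    have h1 : MvPowerSeries.constantCoeff F = 1 := h0
    rw [h1]; exact isUnit_one)
  -- the two first-order consequences
  have key : ∀ (b : Fin 2 → PowerSeries (DualNumber R)) (hb : MvPowerSeries.HasSubst b),
      PowerSeries.subst (b 0 + b 1 * PowerSeries.subst (b 0) F) F =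
        PowerSeries.subst (b 0) F * PowerSeries.subst (b 1) F := by
    intro b hb
    have hX : ∀ i : Fin 2, PowerSeries.HasSubst (MvPowerSeries.X i : MvPowerSeries (Fin 2) R) :=
      PowerSeries.HasSubst.X
    have hcomp : ∀ {c : MvPowerSeries (Fin 2) R}, PowerSeries.HasSubst c → ∀ G : PowerSeries R,
        MvPowerSeries.subst b (PowerSeries.subst c G) = PowerSeries.subst (MvPowerSeries.subst b c) G :=
      fun hc G => MvPowerSeries.subst_comp_subst_apply hc.const hb G
    have harg : PowerSeries.HasSubst (MvPowerSeries.X (0 : Fin 2) +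
        MvPowerSeries.X 1 * PowerSeries.subst (MvPowerSeries.X (0 : Fin 2)) F : MvPowerSeries (Fin 2) R) :=
      (hX 0).add ((hX 1).mul_left)
    have h := congrArg (MvPowerSeries.subst b) hFE
    rw [hcomp harg, MvPowerSeries.subst_mul hb, hcomp (hX 0), hcomp (hX 1), MvPowerSeries.subst_add hb,
      MvPowerSeries.subst_mul hb, hcomp (hX 0)] at h
    simpa [MvPowerSeries.subst_X hb] using h
  have hne : (IsNilpotent (DualNumber.eps : (DualNumber R))) := ⟨2, by rw [pow_two, DualNumber.eps_mul_eps]⟩
  have hbA : MvPowerSeries.HasSubst (![PowerSeries.X, e] : Fin 2 → PowerSeries (DualNumber R)) := by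
    refine MvPowerSeries.hasSubst_of_constantCoeff_nilpotent fun i => ?_
    fin_cases i
    · exact ⟨1, by simp [PowerSeries.X]⟩
    · exact hne
  have hbB : MvPowerSeries.HasSubst (![e, PowerSeries.X] : Fin 2 → PowerSeries (DualNumber R)) := by
    refine MvPowerSeries.hasSubst_of_constantCoeff_nilpotent fun i => ?_
    fin_cases i
    · exact hne
    · exact ⟨1, by simp [PowerSeries.X]⟩
  have hA := key _ hbA
  have hB := key _ hbB
  simp only [Matrix.cons_val_zero, Matrix.cons_val_one, e, subst_X', subst_C_eps, h0, map_one,
    ← ha'] at hA hB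
  rw [subst_add_eps] at hA
  have hargB : (PowerSeries.C DualNumber.eps : PowerSeries (DualNumber R)) +
      PowerSeries.X * (1 + PowerSeries.C DualNumber.eps * PowerSeries.map (algebraMap R (DualNumber R)) (PowerSeries.C a)) =
      PowerSeries.X + PowerSeries.C DualNumber.eps *
        PowerSeries.map (algebraMap R (DualNumber R)) (1 + PowerSeries.C a * PowerSeries.X) := by
    rw [map_add, map_one, map_mul, PowerSeries.map_X]; ring
  rw [hargB, subst_add_eps] at hB
  have hA' : F * PowerSeries.derivative R F = F * PowerSeries.C a := by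
    refine eps_ext (P := F) (P' := F) ?_
    rw [hA, map_mul]; ring
  have hB' : (1 + PowerSeries.C a * PowerSeries.X) * PowerSeries.derivative R F = PowerSeries.C a * F := by
    refine eps_ext (P := F) (P' := F) ?_
    rw [hB, map_mul]; ring
  rw [hFu.mul_left_cancel hA', mul_comm] at hB'
  exact ((ha.map PowerSeries.C).mul_left_cancel hB').symm


end Groth.Agent.S12056
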