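import Groth.Statements.S12058
import Groth.Agent.SiteBase.ExtCompare
import Mathlib.CategoryTheory.Abelian.Basic

set_option autoImplicit false
universe w v u
open CategoryTheory CategoryTheory.Limits CategoryTheory.Abelian
open SGA3

namespace Groth.Agent.S12058

/-- In an abelian category, let 0 → A' → A → A'' → 0 be a short exact sequence, φ : A' ⟶ Q a morphism
and π : A'' ⟶ P an epimorphism with kernel C. Consider the quadruples (B, f, g, h) with 0 → Q → B →
P → 0 short exact (maps f, g) and h : A ⟶ B such that the squares commute: (A' → A → B) = (A' → Q →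
B) and (A → B → P) = (A → A'' → P). Such a quadruple exists if and only if the image in Ext¹(C, Q)
of the class of the given extension in Ext¹(A'', A') (push forward along φ, pull back along the
inclusion C → A'') is zero. -/
theorem result {C : Type u} [Category.{v} C] [Abelian C]
    [HasExt.{w} C] {S : ShortComplex C} (hS : S.ShortExact) {Q P : C} (φ : S.X₁ ⟶ Q) (π : S.X₃ ⟶ P) [Epi π] :
    (∃ (B : C) (f : Q ⟶ B) (g : B ⟶ P) (h : S.X₂ ⟶ B) (w : f ≫ g = 0),
        (ShortComplex.mk f g w).ShortExact ∧ S.f ≫ h = φ ≫ f ∧ h ≫ g = S.g ≫ π) ↔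
      (Ext.mk₀ (kernel.ι π)).comp (hS.extClass.comp (Ext.mk₀ φ) (add_zero 1)) (zero_add 1) = 0 := by
  constructor
  · rintro ⟨B, f, g, h, w, hT, h1, h2⟩
    have hnat := ShortComplex.ShortExact.extClass_naturality hS hT
      (ShortComplex.homMk φ h π h1.symm h2)
    simp only [ShortComplex.homMk_τ₁, ShortComplex.homMk_τ₃] at hnat
    rw [hnat, ← Ext.comp_assoc_of_second_deg_zero, Ext.mk₀_comp_mk₀, kernel.condition, Ext.mk₀_zero, Ext.zero_comp]
  · intro h0
    let q : pushout S.f φ ⟶ S.X₃ := pushout.desc S.g 0 (by simp)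
    let S' : ShortComplex C := ShortComplex.mk (pushout.inr S.f φ) q (pushout.inr_desc _ _ _)
    have := hS.mono_f
    have := hS.epi_g
    have : Mono S'.f := inferInstanceAs (Mono (pushout.inr S.f φ))
    have hq : Epi S'.g := epi_of_epi_fac (pushout.inl_desc S.g 0 (by simp) : pushout.inl S.f φ ≫ q = S.g)
    have hS' : S'.ShortExact := by
      refine { exact := ShortComplex.exact_of_g_is_cokernel _ (CokernelCofork.IsColimit.ofπ _ _
        (fun {Z} k hk => hS.gIsCokernel.desc (CokernelCofork.ofπ (pushout.inl S.f φ ≫ k)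
          (show S.f ≫ pushout.inl S.f φ ≫ k = 0 by rw [pushout.condition_assoc, hk, comp_zero])))
        (fun {Z} k hk => ?_) (fun {Z} k hk m hm => ?_)) }
      · have hfac := Cofork.IsColimit.π_desc (t := CokernelCofork.ofπ (pushout.inl S.f φ ≫ k)
          (show S.f ≫ pushout.inl S.f φ ≫ k = 0 by rw [pushout.condition_assoc, hk, comp_zero])) hS.gIsCokernel
        refine pushout.hom_ext ?_ ?_
        · rw [show pushout.inl S.f φ ≫ S'.g ≫ _ = S.g ≫ _ from pushout.inl_desc_assoc _ _ _ _]
          exact hfac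
        · rw [show pushout.inr S.f φ ≫ S'.g ≫ _ = 0 ≫ _ from pushout.inr_desc_assoc _ _ _ _, zero_comp]
          exact hk.symm
      · rw [← cancel_epi S.g]
        refine Eq.trans ?_ (Cofork.IsColimit.π_desc (t := CokernelCofork.ofπ (pushout.inl S.f φ ≫ k)
          (show S.f ≫ pushout.inl S.f φ ≫ k = 0 by rw [pushout.condition_assoc, hk, comp_zero])) hS.gIsCokernel).symm
        show S.g ≫ m = pushout.inl S.f φ ≫ k
        rw [← hm, show pushout.inl S.f φ ≫ S'.g ≫ m = S.g ≫ m from pushout.inl_desc_assoc _ _ _ _]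
    have hnat := ShortComplex.ShortExact.extClass_naturality hS hS'
      (ShortComplex.homMk (S₂ := S') φ (pushout.inl S.f φ) (𝟙 S.X₃) pushout.condition.symm
        ((pushout.inl_desc _ _ _).trans (Category.comp_id _).symm))
    simp only [ShortComplex.homMk_τ₁, ShortComplex.homMk_τ₃, Ext.mk₀_id_comp] at hnat
    rw [hnat] at h0
    obtain ⟨ψ, hψ⟩ := (Groth.Agent.SiteBase.conn_eq_zero_iff (kernel π) hS' (kernel.ι π)).mp h0
    have : Mono ψ := mono_of_mono_fac hψ
    have hw : ψ ≫ q ≫ π = 0 := by rw [← Category.assoc, hψ, kernel.condition]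
    have hgπ : cokernel.π ψ ≫ cokernel.desc ψ (q ≫ π) hw = q ≫ π := cokernel.π_desc _ _ _
    refine ⟨cokernel ψ, pushout.inr S.f φ ≫ cokernel.π ψ, cokernel.desc ψ (q ≫ π) hw,
      pushout.inl S.f φ ≫ cokernel.π ψ, ?_, ?_, ?_, ?_⟩
    · rw [Category.assoc, hgπ, pushout.inr_desc_assoc, zero_comp]
    · have : Mono (pushout.inr S.f φ ≫ cokernel.π ψ) := Preadditive.mono_of_cancel_zero _ fun {Z} x hx => by
        rw [← Category.assoc] at hx
        obtain ⟨c, hc⟩ := KernelFork.IsLimit.lift' (Abelian.monoIsKernelOfCokernel (CokernelCofork.ofπ _ (cokernel.condition ψ))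
          (cokernelIsCokernel ψ)) (x ≫ pushout.inr S.f φ) hx
        have hc0 : c = 0 := by
          have e := congrArg (· ≫ S'.g) hc
          simp only [KernelFork.ι_ofι, Category.assoc, hψ] at e
          rw [show pushout.inr S.f φ ≫ S'.g = 0 from S'.zero, comp_zero] at e
          exact zero_of_comp_mono _ e
        rw [hc0, zero_comp] at hc
        exact zero_of_comp_mono (pushout.inr S.f φ) hc.symm
      have : Epi (cokernel.desc ψ (q ≫ π) hw) := by
        have : Epi q := hq
        exact epi_of_epi_fac hgπ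
      refine { exact := ShortComplex.exact_of_g_is_cokernel _ (CokernelCofork.IsColimit.ofπ' _ _ fun {Z} k hk => ?_) }
      obtain ⟨k', hk'⟩ := CokernelCofork.IsColimit.desc' hS'.gIsCokernel (cokernel.π ψ ≫ k)
        ((Category.assoc _ _ _).symm.trans hk)
      have hk'' : kernel.ι π ≫ k' = 0 := by
        rw [← hψ, Category.assoc]
        erw [hk']
        rw [cokernel.condition_assoc, zero_comp]
      obtain ⟨k₃, hk₃⟩ := CokernelCofork.IsColimit.desc' (Abelian.epiIsCokernelOfKernel (KernelFork.ofι _ (kernel.condition π))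
        (kernelIsKernel π)) k' hk''
      refine ⟨k₃, ?_⟩
      rw [← cancel_epi (cokernel.π ψ), reassoc_of% hgπ]
      erw [hk₃]
      exact hk'
    · rw [pushout.condition_assoc]
    · rw [Category.assoc, hgπ, pushout.inl_desc_assoc]

end Groth.Agent.S12058
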