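import Groth.Statements.S1206
import Mathlib

set_option autoImplicit false
universe u
open FlatMor

namespace Groth.Agent.S1206

/-- Let A be a local domain which is not a field and 𝒮 a set of finitely generated ideals of A, closed
under products, such that the union of the closed sets V(I), I ∈ 𝒮, is exactly the set of nonzero
primes (every nonzero prime contains a member of 𝒮 and no member is zero). Then the intersection of
all members of 𝒮 is zero. -/
theorem result (A : Type u) [CommRing A] [IsDomain A] [IsLocalRing A] (hA : ¬ IsField A)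
    (𝒮 : Set (Ideal A)) (hfg : ∀ I ∈ 𝒮, I.FG) (hmul : ∀ I ∈ 𝒮, ∀ J ∈ 𝒮, I * J ∈ 𝒮)
    (hne : ∀ I ∈ 𝒮, I ≠ ⊥) (hcov : ∀ (p : Ideal A), p.IsPrime → p ≠ ⊥ → ∃ I ∈ 𝒮, I ≤ p) :
    sInf 𝒮 = ⊥ := by
  classical
  rw [eq_bot_iff]
  intro x hx
  by_contra hx0
  rw [Ideal.mem_bot] at hx0
  rw [Submodule.mem_sInf] at hx
  have hm : IsLocalRing.maximalIdeal A ≠ ⊥ := by
    intro h
    exact hA (IsLocalRing.isField_iff_maximalIdeal_eq.mpr h)
  obtain ⟨I₀, hI₀, hI₀m⟩ := hcov _ (IsLocalRing.maximalIdeal.isMaximal A).isPrime hm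
  have hxm : x ∈ IsLocalRing.maximalIdeal A := hI₀m (hx I₀ hI₀)
  by_cases hJ : ∃ J ∈ 𝒮, J ≤ Ideal.span {x ^ 2}
  · obtain ⟨J, hJ1, hJ2⟩ := hJ
    obtain ⟨a, ha⟩ := Ideal.mem_span_singleton'.mp (hJ2 (hx J hJ1))
    have : a * x = 1 := mul_right_cancel₀ hx0 (by rw [one_mul]; linear_combination ha)
    exact (IsLocalRing.mem_maximalIdeal x).mp hxm (IsUnit.of_mul_eq_one_right a this)
  · let S : Set (Ideal A) := {K | ¬ ∃ J ∈ 𝒮, J ≤ K}
    obtain ⟨P, hle, hP⟩ := zorn_le_nonempty₀ S (fun c hcS hc K hK => by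
      refine ⟨sSup c, ?_, fun K' h => le_sSup h⟩
      rintro ⟨J, hJ1, hJ2⟩
      obtain ⟨y, hy, hJy⟩ : ∃ y ∈ c, J ≤ y := by
        obtain ⟨s, rfl⟩ := hfg J hJ1
        rw [Submodule.span_le] at hJ2
        obtain ⟨y, hy, hys⟩ : ∃ y ∈ c, (s : Set A) ⊆ y := by
          clear hJ1
          induction s using Finset.induction with
          | empty => exact ⟨K, hK, by simp⟩
          | @insert b s _ ih =>
            rw [Finset.coe_insert, Set.insert_subset_iff] at hJ2
            obtain ⟨y, hy, hys⟩ := ih hJ2.2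
            obtain ⟨y', hy', hby'⟩ := (Submodule.mem_sSup_of_directed ⟨K, hK⟩ hc.directedOn).mp hJ2.1
            obtain ⟨w, hw, hyw, hy'w⟩ := hc.directedOn y hy y' hy'
            refine ⟨w, hw, ?_⟩
            rw [Finset.coe_insert, Set.insert_subset_iff]
            exact ⟨hy'w hby', hys.trans hyw⟩
        exact ⟨y, hy, Submodule.span_le.mpr hys⟩
      exact hcS hy ⟨J, hJ1, hJy⟩) (Ideal.span {x ^ 2}) hJ
    have hPp : P.IsPrime := by
      refine ⟨fun h => hP.1 ⟨I₀, hI₀, h ▸ le_top⟩, ?_⟩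
      intro a b hab
      by_contra hcon
      push_neg at hcon
      obtain ⟨ha, hb⟩ := hcon
      have key : ∀ c : A, c ∉ P → ∃ J ∈ 𝒮, J ≤ P ⊔ Ideal.span {c} := by
        intro c hc
        by_contra h
        exact hc ((hP.2 (y := P ⊔ Ideal.span {c}) h le_sup_left) (Ideal.mem_sup_right (Ideal.mem_span_singleton_self c)))
      obtain ⟨J₁, hJ₁, h₁⟩ := key a ha
      obtain ⟨J₂, hJ₂, h₂⟩ := key b hb
      refine hP.1 ⟨J₁ * J₂, hmul _ hJ₁ _ hJ₂, le_trans (Ideal.mul_mono h₁ h₂) ?_⟩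
      rw [Ideal.sup_mul, Ideal.mul_sup, Ideal.mul_sup, Ideal.span_singleton_mul_span_singleton]
      refine sup_le (sup_le Ideal.mul_le_left Ideal.mul_le_left) (sup_le Ideal.mul_le_right ?_)
      exact (Ideal.span_singleton_le_iff_mem _).mpr hab
    have hPne : P ≠ ⊥ := by
      intro h
      have : x ^ 2 ∈ P := hle (Ideal.mem_span_singleton_self _)
      rw [h, Ideal.mem_bot] at this
      exact hx0 (pow_eq_zero_iff (n := 2) (by norm_num) |>.mp this)
    obtain ⟨J, hJ1, hJ2⟩ := hcov P hPp hPne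
    exact hP.1 ⟨J, hJ1, hJ2⟩

end Groth.Agent.S1206
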