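import Groth.Statements.S12067
import Groth.Agent.ComodLib.Unitriangular

set_option autoImplicit false
universe u
open TensorProduct
open SGA3t2b

namespace Groth.Agent.S12067

/-- In Hopf-algebra form, let k be a field and A a finitely generated commutative Hopf algebra over k
(an affine algebraic group G) which is unipotent: every nonzero finite-dimensional comodule has a
nonzero fixed vector. Then every finite-dimensional comodule V (a finite-dimensional representation
of G), of dimension n, has a flag of subcomodules 0 = V_0 ⊂ V_1 ⊂ ⋯ ⊂ V_n = V with one-dimensional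
successive quotients on which G acts trivially: for v ∈ V_(i+1) the coaction of v is congruent to v
⊗ 1 modulo V_i ⊗ A. -/
theorem result (k : Type u) [Field k] (A : Type u) [CommRing A]
    [HopfAlgebra k A] [Algebra.FiniteType k A] (hU : HopfRep.IsUnipotent k A)
    (V : Type u) [AddCommGroup V] [Module k V] [HopfRep.Comod k A V] [Module.Finite k V] :
    ∃ F : Fin (Module.finrank k V + 1) → Submodule k V,
      F 0 = ⊥ ∧ F (Fin.last _) = ⊤ ∧
      (∀ i : Fin (Module.finrank k V + 1), HopfRep.IsSubcomod (k := k) (A := A) (F i)) ∧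
      ∀ i : Fin (Module.finrank k V), F i.castSucc ≤ F i.succ ∧
        Module.finrank k ↥(F i.succ) = Module.finrank k ↥(F i.castSucc) + 1 ∧
        ∀ v ∈ F i.succ, HopfRep.Comod.coact (k := k) (A := A) v - v ⊗ₜ[k] (1 : A) ∈
          LinearMap.range ((F i.castSucc).subtype.rTensor A) := by
  obtain ⟨b, hb⟩ := Groth.Agent.ComodLib.exists_uniMatrix_basis hU V
  let F : Fin (Module.finrank k V + 1) → Submodule k V := fun i =>
    Submodule.span k (b '' {j | (j : ℕ) < (i : ℕ)})
  have hmono : ∀ i i' : Fin (Module.finrank k V + 1), (i : ℕ) ≤ i' → F i ≤ F i' := fun i i' h =>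
    Submodule.span_mono (Set.image_mono fun j hj => lt_of_lt_of_le hj h)
  have hcard : ∀ i : Fin (Module.finrank k V + 1), Module.finrank k ↥(F i) = i := fun i => by
    have hli : LinearIndependent k fun j : {j : Fin (Module.finrank k V) // (j : ℕ) < (i : ℕ)} => b j :=
      b.linearIndependent.comp _ Subtype.val_injective
    have h := finrank_span_eq_card hli
    rw [show F i = Submodule.span k (Set.range fun j : {j : Fin (Module.finrank k V) // (j : ℕ) < (i : ℕ)} => b j)
      from by simp only [F]; rw [Set.image_eq_range]; rfl, h, Fintype.card_subtype, Fin.card_filter_val_lt]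
    omega
  have hkey : ∀ (i : Fin (Module.finrank k V + 1)) (j : Fin (Module.finrank k V)), (j : ℕ) ≤ i →
      HopfRep.Comod.coact (k := k) (A := A) (b j) - b j ⊗ₜ[k] (1 : A) ∈
        LinearMap.range ((F i).subtype.rTensor A) := fun i j hj => by
    rw [Groth.Agent.ComodLib.coact_basis, ← Finset.sum_erase_add _ _ (Finset.mem_univ j),
      hb.1 j j le_rfl, if_pos rfl, add_sub_cancel_right]
    refine Submodule.sum_mem _ fun l hl => ?_
    by_cases hjl : j ≤ l
    · rw [hb.1 l j hjl, if_neg (Finset.mem_erase.mp hl).1, TensorProduct.tmul_zero]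
      exact Submodule.zero_mem _
    · exact ⟨(⟨b l, Submodule.subset_span ⟨l, lt_of_lt_of_le (Fin.lt_def.mp (not_le.mp hjl)) hj, rfl⟩⟩ : F i) ⊗ₜ[k]
        Groth.Agent.ComodLib.coeffMatrix b l j, rfl⟩
  refine ⟨F, ?_, ?_, fun i => ?_, fun i => ⟨hmono _ _ (by simp), by rw [hcard, hcard]; simp, fun v hv => ?_⟩⟩
  · exact (Submodule.finrank_eq_zero).mp (hcard 0)
  · exact Submodule.eq_top_of_finrank_eq (hcard _)
  · intro v hv
    induction hv using Submodule.span_induction with
    | mem x hx =>
      obtain ⟨j, hj, rfl⟩ := hx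
      have h := hkey i j (le_of_lt hj)
      obtain ⟨z, hz⟩ := h
      refine ⟨z + (⟨b j, Submodule.subset_span ⟨j, hj, rfl⟩⟩ : F i) ⊗ₜ[k] (1 : A), ?_⟩
      rw [map_add, hz, LinearMap.rTensor_tmul]
      exact sub_add_cancel _ _
    | zero => rw [map_zero]; exact Submodule.zero_mem _
    | add x y _ _ hx hy => rw [map_add]; exact Submodule.add_mem _ hx hy
    | smul c x _ hx => rw [map_smul]; exact Submodule.smul_mem _ c hx
  · induction hv using Submodule.span_induction with
    | mem x hx =>
      obtain ⟨j, hj, rfl⟩ := hx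
      exact hkey i.castSucc j (Nat.lt_succ_iff.mp (by simpa using hj))
    | zero => simp
    | add x y _ _ hx hy =>
      rw [map_add, TensorProduct.add_tmul, add_sub_add_comm]
      exact Submodule.add_mem _ hx hy
    | smul c x _ hx =>
      rw [map_smul, ← TensorProduct.smul_tmul', ← smul_sub]
      exact Submodule.smul_mem _ c hx

end Groth.Agent.S12067
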