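import Groth.Statements.S12069
import Groth.Agent.Pic13Lib.BoundedReg
import Groth.Agent.InvX.GenEpi
import Groth.Agent.FlatG.Gamma
import Groth.Agent.KFlatLib.Scheme.InnerHom

set_option autoImplicit false
universe u
open CategoryTheory CategoryTheory.Limits AlgebraicGeometry
open FGA

namespace Groth.Agent.S12069
open Groth.Agent Groth.Agent.H23 Groth.Agent.H23.PicMul CategoryTheory CategoryTheory.Limits AlgebraicGeometry
open Groth.Agent.Pic13Lib

attribute [local instance] PicMul.clMonoid FlatG.Pol.secR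

section
variable {k : Type u} [Field k] {X : Scheme.{u}} [X.Over (Spec (CommRingCat.of k))]
  [IsProper (X ↘ Spec (CommRingCat.of k))]

omit [X.Over (Spec (CommRingCat.of k))] [IsProper (X ↘ Spec (CommRingCat.of k))] in
theorem hom_ext_one {M : X.Modules} {s t : Coh.structureModule X ⟶ M} (h : InvX.one s = InvX.one t) : s = t := by
  refine Scheme.Modules.hom_ext _ _ fun W => ?_
  ext r
  refine (InvX.app_eq_smul s r).trans (Eq.trans ?_ (InvX.app_eq_smul t r).symm)
  rw [h]

/-- A globally generated sheaf is generated by as many sections as the dimension of `H⁰`. -/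
theorem exists_sections {M : X.Modules} (hM : Coh.IsCoh M) (hgg : Curv2.IsGloballyGenerated M) {N : ℕ}
    (hN : Module.finrank k (Coh.HH X M 0) ≤ N) :
    ∃ q : Fin N → (Coh.structureModule X ⟶ M), Epi (Sigma.desc q) := by
  obtain ⟨ι, p, hp⟩ := hgg
  haveI := FlatG.finite_gamma k hM
  let b := Module.finBasis k Γ(M, ⊤)
  have hrk : Module.finrank k Γ(M, ⊤) ≤ N := (FlatG.h0Equiv k M).finrank_eq.symm.le.trans hN
  refine ⟨fun j => if h : (j : ℕ) < _ then InvX.ofSect (b ⟨j, h⟩) else 0, ⟨fun {W} φ ψ h => ?_⟩⟩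
  have hb : ∀ i, φ.app ⊤ (b i) = ψ.app ⊤ (b i) := fun i => by
    have := congrArg (fun χ => InvX.one (Sigma.ι (fun _ : Fin N => Coh.structureModule X) ⟨i, i.2.trans_le hrk⟩ ≫ χ)) h
    simp only [← Category.assoc, Sigma.ι_desc, dif_pos i.2] at this
    have e : InvX.one (InvX.ofSect (b i)) = b i := InvX.one_ofSect _
    exact (congrArg (φ.app ⊤) e).symm.trans (this.trans (congrArg (ψ.app ⊤) e))
  have hall : FlatG.Pol.appR k φ ⊤ = FlatG.Pol.appR k ψ ⊤ := b.ext hb
  haveI := hp
  refine (cancel_epi p).1 ?_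
  refine Cofan.IsColimit.hom_ext (SheafOfModules.isColimitFreeCofan ι) _ _ fun a => ?_
  have key : ∀ s : Coh.structureModule X ⟶ M, s ≫ φ = s ≫ ψ := fun s =>
    hom_ext_one (LinearMap.congr_fun hall (InvX.one s))
  exact (Category.assoc _ _ _).symm.trans ((key _).trans (Category.assoc _ _ _))

/-- Twisting an epimorphism out of a free sheaf. -/
theorem exists_twist_epi {M F L : X.Modules} {N : ℕ} {g : Fin N → (Coh.structureModule X ⟶ M)}
    (hg : Epi (Sigma.desc g)) (e : CohB1.tensorMod M L ≅ F) :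
    ∃ p : (∐ fun _ : Fin N => CohB1.tensorMod (Coh.structureModule X) L) ⟶ F, Epi p := by
  let Q : X.Modules ⥤ X.Modules := DCoh.tensorBi.flip.obj L
  haveI : PreservesColimitsOfSize.{u, u} Q :=
    inferInstanceAs (PreservesColimitsOfSize.{u, u} (DCoh.tensorBi.flip.obj L))
  haveI : PreservesColimitsOfSize.{0, 0} Q := preservesColimitsOfSize_shrink Q
  haveI := hg
  haveI : Epi (Q.map (Sigma.desc g)) := inferInstance
  let s : (∐ fun _ : Fin N => Q.obj (Coh.structureModule X)) ⟶ Q.obj (∐ fun _ : Fin N => Coh.structureModule X) :=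
    sigmaComparison Q _
  haveI : Epi s := inferInstance
  exact ⟨s ≫ Q.map (Sigma.desc g) ≫ e.hom, @epi_comp _ _ _ _ _ s ‹_› _ (epi_comp _ _)⟩

end


/-- Over an algebraically closed field k, let X ⊆ P^n_k be a closed subscheme and P a bounded family of
coherent O_X-modules. Then there are integers m, N and an O_X-module E which is a direct sum of N
copies of O_X(-m) such that every member of the family is a quotient of E. (The published statement
is relative, for families of classes of sheaves on the fibres of a projective scheme over a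
Noetherian base, and gives two necessary conditions for boundedness, which are then shown to be
sufficient together; this row is the necessity of the first condition in the case of the base Spec
k. Finiteness of the set of Hilbert polynomials of the family, the other necessary condition, is a
separate result.) -/
theorem result (k : Type u) [Field k] [IsAlgClosed k] (n : ℕ) (X : Scheme.{u})
    [X.Over (Spec (CommRingCat.of k))] (i : X ⟶ CohB1.ProjSpace n k) [IsClosedImmersion i]
    (hi : i ≫ CohB1.ProjSpace.toSpec n k = X ↘ Spec (CommRingCat.of k))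
    (P : X.Modules → Prop) (hP : ∀ F, P F → Coh.IsCoh F) (hb : Pic13.IsBounded k X P) :
    ∃ (m : ℤ) (N : ℕ) (E : X.Modules) (c : Fin N → (Pic13.twistOn k i (Coh.structureModule X) (-m) ⟶ E)),
      Nonempty (IsColimit (Cofan.mk E c)) ∧ ∀ F, P F → ∃ p : E ⟶ F, Epi p := by
  classical
  haveI := Pic13Lib.isProper_of_closed i hi
  obtain ⟨T, q, hq₁, hq₂, G, hG, hmem⟩ := hb
  haveI := hq₁
  haveI := hq₂
  obtain ⟨m, hm⟩ := Pic13Lib.exists_mRegular_family i q hG
  obtain ⟨s, hs⟩ := Pic13Lib.finite_polys_family i q hi hG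
  let N := s.sup fun φ => ⌊φ.eval ((m : ℤ) : ℚ)⌋.toNat
  let L' := (Scheme.Modules.pullback i).obj (Twist.twistProjSpace n k (-(m : ℤ)))
  refine ⟨m, N, _, _, ⟨coproductIsCoproduct fun _ : Fin N => Pic13.twistOn k i (Coh.structureModule X) (-(m : ℤ))⟩, fun F hF => ?_⟩
  obtain ⟨t, ht, ⟨eF⟩⟩ := hmem F hF
  haveI := CurveCohLib.isNoetherian_of_proper (k := k) (X := X)
  haveI : IsLocallyNoetherian T := LocallyOfFiniteType.isLocallyNoetherian q
  haveI : IsLocallyNoetherian (Pic13.prodK k X q) :=
    LocallyOfFiniteType.isLocallyNoetherian (pullback.snd (X ↘ Spec (CommRingCat.of k)) q)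
  let F₀ := Pic13.fibreMod k X q t ht G
  have hF₀ : Coh.IsCoh F₀ := ZClosLib.isCoh_pullback _ hG
  let M := Pic13.twistOn k i F₀ (m : ℤ)
  have hM : Coh.IsCoh M := Pic13Regular.isCoh_twistOn i hF₀ _
  have hgg : Curv2.IsGloballyGenerated M := Pic13Regular.isGloballyGenerated_twistOn i hF₀ (hm t ht)
  obtain ⟨φ, hφ, hχ⟩ := hs t ht
  have hh : FGA.eulerCharLE k X M n = (Module.finrank k (Coh.HH X M 0) : ℤ) := by
    refine (Finset.sum_eq_single 0 (fun j _ hj => ?_) (by simp)).trans (by simp)
    haveI := Pic13Regular.vanish i hF₀ (hm t ht) j (Nat.one_le_iff_ne_zero.2 hj) (m : ℤ) (by omega)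
    rw [Module.finrank_zero_of_subsingleton, Nat.cast_zero, mul_zero]
  have hle : Module.finrank k (Coh.HH X M 0) ≤ N := by
    refine le_of_eq_of_le ?_ (Finset.le_sup (f := fun φ : Polynomial ℚ => ⌊φ.eval ((m : ℤ) : ℚ)⌋.toNat) hφ)
    show _ = ⌊φ.eval ((m : ℤ) : ℚ)⌋.toNat
    rw [← hχ (m : ℤ), Int.floor_intCast]
    exact (congrArg Int.toNat hh).symm
  obtain ⟨g, hg⟩ := exists_sections hM hgg hle
  obtain ⟨e⟩ : Nonempty (CohB1.tensorMod M L' ≅ F) := by
    rw [← cl_eq_iff]
    show PicF.cl (CohB1.tensorMod (CohB1.tensorMod F₀ _) L') = _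
    rw [cl_tensor, cl_tensor, mul_assoc]
    obtain ⟨h1⟩ := DualRange.nonempty_twist_inverse i (m : ℤ)
    have h2 := cl_eq_iff.2 ⟨h1⟩
    refine (congrArg (PicF.cl F₀ * ·) ?_).trans ((mul_one _).trans (cl_eq_iff.2 ⟨eF⟩))
    rw [one_def, ← h2]
    exact (cl_tensor _ _).symm
  exact exists_twist_epi hg e

end Groth.Agent.S12069
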