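import Groth.Statements.S1207
import Mathlib

set_option autoImplicit false
universe u
open FlatMor

namespace Groth.Agent.S1207

/-- Let A be a local ring and I, J ideals of A with J finitely generated, J ≠ A, and I ⊆ J^n for all n ≥
1. Then every prime p not containing J which is maximal among the primes not containing J (a closed
point of Spec A ∖ V(J)) contains I. (The published statement leaves the hypothesis J ≠ A implicit;
for J = A the assertion fails.) -/
theorem result (A : Type u) [CommRing A] [IsLocalRing A] (I J : Ideal A) (hJ : J.FG) (hJ1 : J ≠ ⊤)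
    (hI : ∀ n : ℕ, 1 ≤ n → I ≤ J ^ n) (p : Ideal A) [p.IsPrime] (hp : ¬ J ≤ p)
    (hmax : ∀ (p' : Ideal A), p'.IsPrime → p ≤ p' → ¬ J ≤ p' → p' = p) : I ≤ p := by
  intro x hx
  by_contra hxp
  have hrad : J ≤ (p ⊔ Ideal.span {x}).radical := by
    intro j hj
    rw [Ideal.radical_eq_sInf, Submodule.mem_sInf]
    intro P hP
    obtain ⟨hle, hPp⟩ := hP
    by_contra hjP
    have := hmax P hPp (le_sup_left.trans hle) (fun h => hjP (h hj))
    exact hxp (this ▸ hle (Ideal.mem_sup_right (Ideal.mem_span_singleton_self x)))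
  obtain ⟨N, hN⟩ := Ideal.exists_pow_le_of_le_radical_of_fg hrad hJ
  have hxJ : x ∈ (J ^ N) * (J ^ (N + 1)) := by
    rw [← pow_add]; exact hI _ (by omega) hx
  have hx2 : x ∈ (p ⊔ Ideal.span {x}) * J := by
    refine Ideal.mul_mono hN ?_ hxJ
    exact Ideal.pow_le_self (by omega)
  have hJm : J ≤ IsLocalRing.maximalIdeal A := IsLocalRing.le_maximalIdeal hJ1
  rw [Ideal.sup_mul] at hx2
  obtain ⟨a, ha, b, hb, hab⟩ := Submodule.mem_sup.mp hx2
  obtain ⟨z, hz, rfl⟩ := Ideal.mem_span_singleton_mul.mp hb
  have hap : a ∈ p := Ideal.mul_le_left (I := p) (J := J) ha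
  have h1 : x * (1 - z) ∈ p := by
    have : x * (1 - z) = a := by linear_combination -hab
    rw [this]; exact hap
  have hu : IsUnit (1 - z) := by
    rcases IsLocalRing.isUnit_or_isUnit_of_add_one (a := z) (b := 1 - z) (by ring) with h | h
    · exact absurd h ((IsLocalRing.mem_maximalIdeal z).mp (hJm hz))
    · exact h
  rcases (‹p.IsPrime›).mem_or_mem h1 with h | h
  · exact hxp h
  · exact (‹p.IsPrime›).ne_top (Ideal.eq_top_of_isUnit_mem _ h hu)

end Groth.Agent.S1207
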