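import Groth.Statements.S12071
import Mathlib.GroupTheory.Archimedean


set_option autoImplicit false
open RootD

namespace Groth.Agent.S12071

/-- Let G be the group generated by two elements x, y subject to x² = y² = 1 (the infinite dihedral
group; here Mathlib's DihedralGroup 0 with x = sr 0 and y = sr 1, so that x y = r 1). Then every
normal subgroup of G containing neither x nor y is generated by an element (x y)^n with n > 0; such
a subgroup is cyclic, generated by r n. (The published statement does not exclude the trivial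
subgroup, for which no n > 0 works; this row assumes the subgroup nontrivial.) -/
theorem result (N : Subgroup (DihedralGroup 0)) [N.Normal]
    (hN : N ≠ ⊥) (hx : DihedralGroup.sr (0 : ZMod 0) ∉ N) (hy : DihedralGroup.sr (1 : ZMod 0) ∉ N) :
    ∃ n : ℕ, 0 < n ∧ N = Subgroup.zpowers (DihedralGroup.r (n : ZMod 0)) := by
  classical
  have hconj : ∀ i : ZMod 0, DihedralGroup.sr i ∈ N → DihedralGroup.sr (0 : ZMod 0) ∈ N ∨ DihedralGroup.sr (1 : ZMod 0) ∈ N := by
    intro i hi
    have h : ∀ k : ZMod 0, DihedralGroup.sr (i - k - k) ∈ N := by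
      intro k
      have := Subgroup.Normal.conj_mem ‹N.Normal› _ hi (DihedralGroup.r k)
      simpa [DihedralGroup.r_mul_sr, DihedralGroup.sr_mul_r, DihedralGroup.inv_r, sub_eq_add_neg] using this
    obtain ⟨m, hm⟩ | ⟨m, hm⟩ := Int.even_or_odd (i : ℤ)
    · left
      have := h (show ZMod 0 from m)
      convert this using 2
      show (0 : ℤ) = (show ℤ from i) - m - m
      rw [show (show ℤ from i) = m + m from hm]; ring
    · right
      have := h (show ZMod 0 from m)
      convert this using 2
      show (1 : ℤ) = (show ℤ from i) - m - m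
      rw [show (show ℤ from i) = 2 * m + 1 from hm]; ring
  have hns : ∀ i, DihedralGroup.sr i ∉ N := fun i hi => (hconj i hi).elim hx hy
  let H : AddSubgroup ℤ :=
    { carrier := {k | DihedralGroup.r (n := 0) k ∈ N}
      zero_mem' := by
        show DihedralGroup.r (0 : ZMod 0) ∈ N
        rw [← DihedralGroup.one_def]; exact N.one_mem
      add_mem' := fun {a b} ha hb => by
        have := N.mul_mem (show DihedralGroup.r (n := 0) a ∈ N from ha) (show DihedralGroup.r (n := 0) b ∈ N from hb)
        exact (congrArg (fun z => z ∈ N) (DihedralGroup.r_mul_r (n := 0) a b)).mp this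
      neg_mem' := fun {a} ha => by
        have := N.inv_mem (show DihedralGroup.r (n := 0) a ∈ N from ha)
        exact (congrArg (fun z => z ∈ N) (DihedralGroup.inv_r (n := 0) a)).mp this }
  obtain ⟨a, ha⟩ := Int.subgroup_cyclic H
  have hmemH : ∀ k : ℤ, DihedralGroup.r (n := 0) k ∈ N ↔ ∃ t : ℤ, t * a = k := fun k => by
    show k ∈ H ↔ _
    rw [ha, AddSubgroup.mem_closure_singleton]
    simp
  have ha0 : a ≠ 0 := by
    rintro rfl
    refine hN (eq_bot_iff.mpr fun x hxN => ?_)
    rcases x with k | k
    · obtain ⟨t, ht⟩ := (hmemH k).mp hxN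
      rw [mul_zero] at ht
      subst ht
      exact Subgroup.mem_bot.mpr DihedralGroup.one_def.symm
    · exact absurd hxN (hns k)
  refine ⟨a.natAbs, Int.natAbs_pos.mpr ha0, le_antisymm (fun x hxN => ?_) ?_⟩
  · rcases x with k | k
    · obtain ⟨t, ht⟩ := (hmemH k).mp hxN
      obtain ⟨s, hs⟩ := (Int.natAbs_dvd).mpr (Dvd.intro_left t ht)
      refine ⟨s, ?_⟩
      show DihedralGroup.r _ ^ s = _
      rw [DihedralGroup.r_zpow]
      congr 1
      rw [hs]; rfl
    · exact absurd hxN (hns k)
  · rw [Subgroup.zpowers_le, show ((a.natAbs : ℕ) : ZMod 0) = ((a.natAbs : ℤ)) from rfl, hmemH]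
    obtain ⟨s, hs⟩ : a ∣ (a.natAbs : ℤ) := Int.dvd_natAbs.mpr dvd_rfl
    exact ⟨s, by rw [hs, mul_comm]⟩

end Groth.Agent.S12071
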