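import Groth.Statements.S12076
import Groth.Agent.RootData.Facts
import Mathlib.Algebra.Order.Group.PiLex
import Mathlib.Algebra.Order.Monoid.Prod

set_option autoImplicit false
open RootD

namespace Groth.Agent.S12076

open Groth.Agent.RootData

/-- Let Δ be a system of simple roots (a base b of a root pairing P over ℤ) and Γ₀ the subgroup
generated by the roots. Then Γ₀ has a structure of totally ordered group for which the roots > 0 are
exactly the positive roots defined by Δ and for which the height (the additive function with value 1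
on each simple root) is monotone. The order is given here by its positive cone C ⊆ Γ₀: 0 ∉ C, C + C
⊆ C, and for every x ≠ 0 exactly one of x, −x lies in C (x < y meaning y − x ∈ C). -/
theorem result {ι M N : Type*} [AddCommGroup M] [AddCommGroup N]
    (P : RootPairing ι ℤ M N) [Finite ι] (b : P.Base) :
    ∃ C : Set ↥(Submodule.span ℤ (Set.range P.root)),
      0 ∉ C ∧ (∀ x ∈ C, ∀ y ∈ C, x + y ∈ C) ∧ (∀ x, x ≠ 0 → (x ∈ C ∨ -x ∈ C)) ∧ (∀ x ∈ C, -x ∉ C) ∧
      (∀ i : ι, (⟨P.root i, Submodule.subset_span (Set.mem_range_self i)⟩ : ↥(Submodule.span ℤ (Set.range P.root))) ∈ C ↔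
        b.IsPos i) ∧
      ∀ φ : ↥(Submodule.span ℤ (Set.range P.root)) →+ ℤ,
        (∀ j ∈ b.support, φ ⟨P.root j, Submodule.subset_span (Set.mem_range_self j)⟩ = 1) →
        ∀ x y : ↥(Submodule.span ℤ (Set.range P.root)), y - x ∈ C → φ x ≤ φ y := by
  classical
  have := Fintype.ofFinite ι
  have h := Simple.of_base b
  have hex : ∀ x : Submodule.span ℤ (Set.range P.root), ∃ c : ι → ℤ, (∀ a, a ∉ (b.support : Set ι) → c a = 0) ∧ comb P c = x.1 := by
    intro x
    obtain ⟨d, hd⟩ := (Submodule.mem_span_range_iff_exists_fun ℤ).mp x.2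
    refine ⟨∑ k, d k • h.co k, fun a ha => ?_, ?_⟩
    · simp [Finset.sum_apply, h.co_supp ha]
    · rw [comb_sum]; simp only [comb_smul, h.co_spec, hd]
  choose cf hcs hcf using hex
  have hu : ∀ x c, (∀ a, a ∉ (b.support : Set ι) → c a = 0) → comb P c = x.1 → cf x = c := fun x c h1 h2 =>
    sub_eq_zero.mp (li_comb_eq_zero h.li (fun a ha => by simp [hcs x a ha, h1 a ha]) (by rw [comb_sub, hcf, h2, sub_self]))
  let e := Fintype.equivFin ι
  let κ : Submodule.span ℤ (Set.range P.root) → ℤ ×ₗ Lex (Fin (Fintype.card ι) → ℤ) := fun x =>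
    toLex (∑ a, cf x a, toLex fun k => cf x (e.symm k))
  have hadd : ∀ x y, cf (x + y) = cf x + cf y := fun x y =>
    hu _ _ (fun a ha => by simp [hcs x a ha, hcs y a ha]) (by rw [comb_add, hcf, hcf]; rfl)
  have hκadd : ∀ x y, κ (x + y) = κ x + κ y := fun x y => by
    show toLex _ = toLex _
    simp only [hadd, Pi.add_apply, Finset.sum_add_distrib]
    rfl
  have hκ0 : κ 0 = 0 := by
    have := hκadd 0 0
    rw [add_zero] at this
    exact left_eq_add.mp this
  have hκneg : ∀ x, κ (-x) = -κ x := fun x => by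
    refine eq_neg_of_add_eq_zero_left ?_
    rw [← hκadd, neg_add_cancel, hκ0]
  have hκne : ∀ x, x ≠ 0 → κ x ≠ 0 := fun x hx he => hx <| Subtype.ext <| by
    have h2 : (toLex fun k => cf x (e.symm k)) = (0 : Lex (Fin (Fintype.card ι) → ℤ)) :=
      congrArg (fun p => (ofLex p).2) he
    have : cf x = 0 := funext fun a => by
      have := congrFun (congrArg ofLex h2) (e a)
      exact (congrArg (cf x) (e.symm_apply_apply a)).symm.trans this
    rw [← hcf x, this]; simp [comb]
  have hfst : ∀ x, (0 : ℤ ×ₗ Lex (Fin (Fintype.card ι) → ℤ)) < κ x → 0 ≤ ∑ a, cf x a := by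
    intro x hx
    rcases (Prod.Lex.lt_iff ..).mp hx with h1 | h1
    · exact le_of_lt h1
    · exact h1.1.le
  refine ⟨{x | 0 < κ x}, ?_, fun x hx y hy => ?_, fun x hx => ?_, fun x hx hnx => ?_, fun i => ?_, fun φ hφ x y hxy => ?_⟩
  · simp [hκ0]
  · show 0 < κ (x + y)
    rw [hκadd]; exact add_pos hx hy
  · rcases lt_or_gt_of_ne (hκne x hx) with h1 | h1
    · exact .inr (by show 0 < κ (-x); rw [hκneg]; exact Left.neg_pos_iff.mpr h1)
    · exact .inl h1
  · have h2 : 0 < κ (-x) := hnx
    rw [hκneg] at h2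
    exact lt_asymm hx (Left.neg_pos_iff.mp h2)
  · have e1 : cf ⟨P.root i, Submodule.subset_span (Set.mem_range_self i)⟩ = h.co i :=
      hu _ _ (fun a ha => h.co_supp ha) (h.co_spec i)
    rw [base_isPos_iff]
    constructor
    · intro hi
      by_contra hni
      have := h.ht_pos (h.neg_mem_posOf_iff.mpr hni)
      have h2 := hfst _ hi
      rw [e1] at h2
      simp only [Simple.ht, h.co_neg, Pi.neg_apply, Finset.sum_neg_distrib] at this
      omega
    · intro hi
      refine (Prod.Lex.lt_iff ..).mpr (.inl ?_)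
      show (0 : ℤ) < ∑ a, cf _ a
      rw [e1]; exact h.ht_pos hi
  · have key : ∀ z, φ z = ∑ a, cf z a := by
      intro z
      have e1 : z = ∑ a, cf z a • (⟨P.root a, Submodule.subset_span (Set.mem_range_self a)⟩ : Submodule.span ℤ (Set.range P.root)) := by
        apply Subtype.ext
        rw [AddSubmonoidClass.coe_finsetSum]
        exact (hcf z).symm
      conv_lhs => rw [e1]
      rw [map_sum]
      refine Finset.sum_congr rfl fun a _ => ?_
      by_cases ha : a ∈ b.support
      · rw [map_zsmul, hφ a ha, smul_eq_mul, mul_one]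
      · simp [hcs z a (by simpa using ha)]
    have h1 := hfst _ hxy
    rw [← key, map_sub] at h1
    omega

end Groth.Agent.S12076
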