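import Groth.Statements.S12077
import Mathlib

set_option autoImplicit false
universe u
open Polynomial
open CAlg

namespace Groth.Agent.S12077

open Polynomial CategoryTheory Limits

theorem exists_roots_finset {R : Type u} [CommRing R] (F : Finset R[X]) :
    ∃ (C : Type u) (_ : CommRing C) (i : R →+* C), Function.Injective i ∧
      ∀ f ∈ F, f.Monic → f.natDegree ≠ 0 → ∃ x, (f.map i).IsRoot x := by
  classical
  induction F using Finset.induction_on with
  | empty => exact ⟨R, inferInstance, RingHom.id R, Function.injective_id, by simp⟩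
  | insert g F _ ih =>
    obtain ⟨C, _, i, hi, hC⟩ := ih
    by_cases hg : g.Monic ∧ g.natDegree ≠ 0
    · rcases subsingleton_or_nontrivial C with hsub | hnt
      · exact ⟨C, inferInstance, i, hi, fun f _ _ _ => ⟨0, Subsingleton.elim _ _⟩⟩
      have hgm := hg.1.map i
      have hdeg : (g.map i).natDegree = g.natDegree := hg.1.natDegree_map i
      have hinj : Function.Injective (AdjoinRoot.of (g.map i)) := by
        rw [injective_iff_map_eq_zero]
        intro c hc
        by_contra hne
        refine hgm.not_dvd_of_degree_lt (C_ne_zero.2 hne) ?_ (AdjoinRoot.mk_eq_zero.1 hc)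
        rw [degree_C hne, degree_eq_natDegree hgm.ne_zero, hdeg]
        exact_mod_cast Nat.pos_of_ne_zero hg.2
      refine ⟨AdjoinRoot (g.map i), inferInstance, (AdjoinRoot.of _).comp i, hinj.comp hi, fun f hf hm hd => ?_⟩
      rw [← Polynomial.map_map]
      rcases Finset.mem_insert.1 hf with rfl | hf
      · exact ⟨_, AdjoinRoot.isRoot_root _⟩
      · obtain ⟨x, hx⟩ := hC f hf hm hd
        exact ⟨_, hx.map⟩
    · refine ⟨C, inferInstance, i, hi, fun f hf hm hd => ?_⟩
      rcases Finset.mem_insert.1 hf with rfl | hf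
      · exact absurd ⟨hm, hd⟩ hg
      · exact hC f hf hm hd

/-- One step: roots for all monic polynomials. -/
theorem exists_roots (R : CommRingCat.{u}) :
    ∃ (S : CommRingCat.{u}) (i : R ⟶ S), Function.Injective i ∧
      ∀ f : (R : Type u)[X], f.Monic → f.natDegree ≠ 0 → ∃ x, (f.map i.hom).IsRoot x := by
  classical
  choose C hC i hi hroot using fun F : Finset (R : Type u)[X] => exists_roots_finset F
  let J : Ideal (∀ F, C F) :=
    { carrier := {v | ∃ F₀ : Finset (R : Type u)[X], ∀ F, F₀ ⊆ F → v F = 0}
      zero_mem' := ⟨∅, fun _ _ => rfl⟩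
      add_mem' := by
        rintro a b ⟨F₁, h₁⟩ ⟨F₂, h₂⟩
        refine ⟨F₁ ∪ F₂, fun F hF => ?_⟩
        rw [Pi.add_apply, h₁ F (Finset.union_subset_left hF), h₂ F (Finset.union_subset_right hF), add_zero]
      smul_mem' := by
        rintro c a ⟨F₁, h₁⟩
        refine ⟨F₁, fun F hF => ?_⟩
        rw [smul_eq_mul, Pi.mul_apply, h₁ F hF, mul_zero] }
  refine ⟨CommRingCat.of ((∀ F, C F) ⧸ J), CommRingCat.ofHom ((Ideal.Quotient.mk J).comp (Pi.ringHom i)), ?_, ?_⟩
  · show Function.Injective ((Ideal.Quotient.mk J).comp (Pi.ringHom i))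
    rw [injective_iff_map_eq_zero]
    intro a ha
    obtain ⟨F₀, h₀⟩ := Ideal.Quotient.eq_zero_iff_mem.1 ha
    exact (map_eq_zero_iff _ (hi F₀)).1 (h₀ F₀ subset_rfl)
  · intro f hm hd
    let v : ∀ F, C F := fun F => if h : f ∈ F then (hroot F f h hm hd).choose else 0
    refine ⟨Ideal.Quotient.mk J v, ?_⟩
    show ((f.map ((Ideal.Quotient.mk J).comp (Pi.ringHom i)))).IsRoot (Ideal.Quotient.mk J v)
    rw [IsRoot.def, ← Polynomial.map_map, eval_map_apply, Ideal.Quotient.eq_zero_iff_mem]
    refine ⟨{f}, fun F hF => ?_⟩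
    have hfF : f ∈ F := hF (Finset.mem_singleton_self f)
    have key := (hroot F f hfF hm hd).choose_spec
    rw [IsRoot.def, Polynomial.eval_map] at key
    show Pi.evalRingHom C F ((f.map (Pi.ringHom i)).eval v) = 0
    rw [Polynomial.eval_map, hom_eval₂]
    have hv : Pi.evalRingHom C F v = (hroot F f hfF hm hd).choose := dif_pos hfF
    rw [hv]
    exact key

theorem root_push {R S B : Type*} [CommRing R] [CommRing S] [CommRing B] (i : R →+* S) (k : S →+* B) (h : R →+* B)
    (e : k.comp i = h) (q : R[X]) (x : S) (hx : (q.map i).IsRoot x) : (q.map h).IsRoot (k x) := by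
  rw [← e, ← Polynomial.map_map]
  exact hx.map

theorem splits_of_roots {B : Type*} [CommRing B]
    (h : ∀ f : B[X], f.Monic → f.natDegree ≠ 0 → ∃ x, f.IsRoot x) :
    ∀ n, ∀ f : B[X], f.Monic → f.natDegree = n → ∃ s : Multiset B, f = (s.map fun b => X - C b).prod := by
  intro n
  induction n with
  | zero => exact fun f hm hd => ⟨0, by simp [Polynomial.Monic.natDegree_eq_zero hm |>.1 hd]⟩
  | succ n ih =>
    intro f hm hd
    rcases subsingleton_or_nontrivial B with hs | hn
    · exact ⟨0, Subsingleton.elim _ _⟩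
    obtain ⟨x, hx⟩ := h f hm (by omega)
    obtain ⟨g, rfl⟩ := dvd_iff_isRoot.2 hx
    have hg : g.Monic := (monic_X_sub_C x).of_mul_monic_left hm
    rw [(monic_X_sub_C x).natDegree_mul hg, natDegree_X_sub_C] at hd
    obtain ⟨s, hs⟩ := ih g hg (by omega)
    exact ⟨x ::ₘ s, by rw [Multiset.map_cons, Multiset.prod_cons, ← hs]⟩


/-- Every commutative ring `A` admits an injective ring map into an absolutely integrally closed
commutative ring `B`, that is, one over which every monic polynomial is a product of linear factors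
`X - b`. (Only the existence of such an extension is stated, not the finer structure of the
construction.) -/
theorem result (A : Type u) [CommRing A] :
    ∃ (B : Type u) (_ : CommRing B) (_ : Algebra A B), Function.Injective (algebraMap A B) ∧
      ∀ f : B[X], f.Monic → ∃ s : Multiset B, f = (s.map fun b => X - C b).prod := by
  choose T j hj hroot using exists_roots.{u}
  let seq : ℕ → CommRingCat.{u} := fun n => Nat.rec (CommRingCat.of A) (fun _ S => T S) n
  let step : ∀ n, seq n ⟶ seq (n + 1) := fun n => j (seq n)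
  let F : ℕ ⥤ CommRingCat.{u} := Functor.ofSequence step
  have : PreservesFilteredColimitsOfSize.{0, 0} (forget CommRingCat.{u}) :=
    preservesSmallestFilteredColimits_of_preservesFilteredColimits _
  have hsucc : ∀ n, Function.Injective (F.map (homOfLE (Nat.le_add_right n 1))) := fun n => by
    rw [Functor.ofSequence_map_homOfLE_succ]; exact hj _
  have hmap : ∀ (d n : ℕ), Function.Injective (F.map (homOfLE (Nat.le_add_right n d))) := by
    intro d
    induction d with
    | zero =>
      intro n
      rw [show homOfLE (Nat.le_add_right n 0) = 𝟙 n from rfl, F.map_id]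
      exact Function.injective_id
    | succ d ih =>
      intro n
      rw [show homOfLE (Nat.le_add_right n (d + 1)) =
        homOfLE (Nat.le_add_right n d) ≫ homOfLE (Nat.le_add_right (n + d) 1) from rfl, F.map_comp]
      exact fun a b hab => ih n (hsucc (n + d) hab)
  have hι : ∀ n, Function.Injective (colimit.ι F n) := by
    intro n a b hab
    obtain ⟨k, f, g, hk⟩ := (Concrete.colimit_rep_eq_iff_exists F a b).1 hab
    obtain rfl : f = g := Subsingleton.elim _ _
    obtain ⟨d, rfl⟩ := Nat.exists_eq_add_of_le (leOfHom f)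
    rw [show f = homOfLE (Nat.le_add_right n d) from Subsingleton.elim _ _] at hk
    exact hmap d n hk
  refine ⟨(colimit F : CommRingCat.{u}), inferInstance, (colimit.ι F 0).hom.toAlgebra, hι 0, ?_⟩
  refine fun f hm => splits_of_roots (fun f hm hd => ?_) _ f hm rfl
  have hpush : ∀ (n d : ℕ) (q : (F.obj n)[X]),
      (q.map (F.map (homOfLE (Nat.le_add_right n d))).hom).map (colimit.ι F (n + d)).hom =
        q.map (colimit.ι F n).hom := by
    intro n d q
    rw [Polynomial.map_map, ← CommRingCat.hom_comp, colimit.w]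
  have hex : ∀ p : (colimit F : CommRingCat.{u})[X],
      ∃ n, ∃ q : (F.obj n)[X], q.map (colimit.ι F n).hom = p := by
    intro p
    induction p using Polynomial.induction_on' with
    | add p q hp hq =>
      obtain ⟨n, p, rfl⟩ := hp
      obtain ⟨m, q, rfl⟩ := hq
      rcases Nat.le_total n m with h | h
      · obtain ⟨d, rfl⟩ := Nat.exists_eq_add_of_le h
        exact ⟨_, _ + q, by rw [Polynomial.map_add, hpush]⟩
      · obtain ⟨d, rfl⟩ := Nat.exists_eq_add_of_le h
        exact ⟨_, p + _, by rw [Polynomial.map_add, hpush]⟩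
    | monomial k a =>
      obtain ⟨n, a, rfl⟩ := Concrete.colimit_exists_rep F a
      exact ⟨n, monomial k a, Polynomial.map_monomial _⟩
  obtain ⟨n, q, rfl⟩ := hex f
  have hqm : q.Monic := monic_of_injective (hι n) hm
  have hx : ∃ x : F.obj (n + 1), (q.map (F.map (homOfLE (Nat.le_add_right n 1))).hom).IsRoot x := by
    rw [show F.map (homOfLE (Nat.le_add_right n 1)) = step n from Functor.ofSequence_map_homOfLE_succ step n]
    exact hroot (seq n) q hqm (by rwa [natDegree_map_eq_of_injective (hι n)] at hd)
  obtain ⟨x, hx⟩ := hx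
  exact ⟨_, root_push _ _ _ (congrArg CommRingCat.Hom.hom (colimit.w F (homOfLE (Nat.le_add_right n 1)))) q x hx⟩

end Groth.Agent.S12077
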