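import Groth.Statements.S12078
import Mathlib

set_option autoImplicit false
universe u
open CAlg

namespace Groth.Agent.S12078

/-- An elementary divisor domain is Bézout. Here `R` is a domain such that for all `n, m ≥ 1` and every
`n × m` matrix `A` there are invertible matrices `U` (`n × n`) and `V` (`m × m`) with `U * A * V`
zero off the diagonal and with diagonal entries `f 0 ∣ f 1 ∣ f 2 ∣ …`; the conclusion is that every
finitely generated ideal of `R` is principal. -/
theorem result (R : Type u) [CommRing R] [IsDomain R]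
    (hR : ∀ n m : ℕ, 1 ≤ n → 1 ≤ m → ∀ A : Matrix (Fin n) (Fin m) R,
      ∃ (U : (Matrix (Fin n) (Fin n) R)ˣ) (V : (Matrix (Fin m) (Fin m) R)ˣ) (f : ℕ → R),
        (∀ k : ℕ, f k ∣ f (k + 1)) ∧
        ∀ (i : Fin n) (j : Fin m), ((U : Matrix (Fin n) (Fin n) R) * A * (V : Matrix (Fin m) (Fin m) R)) i j =
          if (i : ℕ) = (j : ℕ) then f i else 0) :
    IsBezout R := by
  rw [IsBezout.iff_span_pair_isPrincipal]
  intro a b
  obtain ⟨U, V, f, -, hf⟩ := hR 1 2 le_rfl one_le_two !![a, b]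
  refine ⟨⟨f 0, ?_⟩⟩
  let U₀ : R := (U : Matrix (Fin 1) (Fin 1) R) 0 0
  have hU : IsUnit U₀ := by
    have h := (Matrix.isUnit_iff_isUnit_det _).1 U.isUnit
    rwa [Matrix.det_fin_one] at h
  have e0 := hf 0 0
  have e1 := hf 0 1
  simp [Matrix.mul_apply, Fin.sum_univ_two] at e0 e1
  have hback : !![a, b] = (↑U⁻¹ : Matrix (Fin 1) (Fin 1) R) *
      ((U : Matrix (Fin 1) (Fin 1) R) * !![a, b] * (V : Matrix (Fin 2) (Fin 2) R)) * (↑V⁻¹ : Matrix (Fin 2) (Fin 2) R) := by
    rw [← Matrix.mul_assoc, ← Matrix.mul_assoc, Units.inv_mul, Matrix.one_mul, Matrix.mul_assoc,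
      Units.mul_inv, Matrix.mul_one]
  have f0 := hf 0 0
  have f1 := hf 0 1
  simp only [Fin.isValue, Fin.val_zero, Fin.val_one, ↓reduceIte, zero_ne_one] at f0 f1
  set N := (U : Matrix (Fin 1) (Fin 1) R) * !![a, b] * (V : Matrix (Fin 2) (Fin 2) R)
  refine le_antisymm ?_ ?_
  · rw [Ideal.span_le]
    have key : ∀ j, !![a, b] 0 j ∈ Submodule.span R {f 0} := fun j => by
      rw [Submodule.mem_span_singleton, hback, Matrix.mul_assoc]
      refine ⟨(↑U⁻¹ : Matrix (Fin 1) (Fin 1) R) 0 0 * (↑V⁻¹ : Matrix (Fin 2) (Fin 2) R) 0 j, ?_⟩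
      simp [Matrix.mul_apply, Fin.sum_univ_two, f0, f1]
      ring
    rintro z (rfl | rfl)
    · exact key 0
    · exact key 1
  · rw [Submodule.span_singleton_le_iff_mem, ← e0]
    have ha : a ∈ Ideal.span {a, b} := Ideal.subset_span (Set.mem_insert _ _)
    have hb : b ∈ Ideal.span {a, b} := Ideal.subset_span (Set.mem_insert_of_mem _ rfl)
    exact add_mem (Ideal.mul_mem_right _ _ (Ideal.mul_mem_left _ _ ha))
      (Ideal.mul_mem_right _ _ (Ideal.mul_mem_left _ _ hb))

end Groth.Agent.S12078
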