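import Groth.Statements.S12079
import Mathlib.RingTheory.Flat.Basic
import Mathlib.Algebra.Module.FinitePresentation
import Mathlib.LinearAlgebra.Contraction

set_option autoImplicit false
universe u
open TensorProduct
open CAlg

namespace Groth.Agent.S12079
open TensorProduct

theorem bijective_free (R : Type u) [CommRing R] (ι : Type) [Finite ι]
    (N L : Type u) [AddCommGroup N] [Module R N] [AddCommGroup L] [Module R L] :
    Function.Bijective (TensorProduct.rTensorHomToHomRTensor (RingHom.id R) (ι → R) N L) := by
  have h := (rTensorHomEquivHomRTensor R (ι → R) N L).bijective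
  rw [← LinearEquiv.coe_toLinearMap, rTensorHomEquivHomRTensor_toLinearMap] at h
  exact h

theorem natural {R : Type u} [CommRing R] {P Q N L : Type u} [AddCommGroup P] [Module R P]
    [AddCommGroup Q] [Module R Q] [AddCommGroup N] [Module R N] [AddCommGroup L] [Module R L]
    (f : P →ₗ[R] Q) (z : (Q →ₗ[R] N) ⊗[R] L) :
    TensorProduct.rTensorHomToHomRTensor (RingHom.id R) P N L ((LinearMap.lcomp R N f).rTensor L z) =
      (TensorProduct.rTensorHomToHomRTensor (RingHom.id R) Q N L z) ∘ₗ f := by
  induction z with
  | zero => simp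
  | add a b ha hb => simp only [map_add, ha, hb, LinearMap.add_comp]
  | tmul g l => ext x; simp

/-- For a finitely presented `R`-module `M`, any `R`-module `N` and a flat `R`-module `L`, the canonical
map `Hom_R(M, N) ⊗_R L → Hom_R(M, N ⊗_R L)` sending `f ⊗ l` to `m ↦ f m ⊗ l` is bijective. -/
theorem result (R : Type u) [CommRing R]
    (M N L : Type u) [AddCommGroup M] [Module R M] [AddCommGroup N] [Module R N] [AddCommGroup L] [Module R L]
    [Module.FinitePresentation R M] [Module.Flat R L] :
    Function.Bijective (TensorProduct.rTensorHomToHomRTensor (RingHom.id R) M N L) := by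
  obtain ⟨n, K, e, hK⟩ := Module.FinitePresentation.exists_fin R M
  haveI : Module.Finite R K := Module.Finite.of_fg hK
  obtain ⟨m, q, hq⟩ := Module.Finite.exists_fin' R K
  let π : (Fin n → R) →ₗ[R] M := e.symm.toLinearMap ∘ₗ K.mkQ
  have hπ : Function.Surjective π := e.symm.surjective.comp K.mkQ_surjective
  let σ : (Fin m → R) →ₗ[R] (Fin n → R) := K.subtype ∘ₗ q
  have hσπ : Function.Exact σ π := by
    intro x
    rw [LinearMap.comp_apply, LinearEquiv.coe_coe, LinearEquiv.map_eq_zero_iff, Submodule.mkQ_apply,
      Submodule.Quotient.mk_eq_zero]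
    constructor
    · intro hx
      obtain ⟨y, hy⟩ := hq ⟨x, hx⟩
      exact ⟨y, by simp [σ, hy]⟩
    · rintro ⟨y, rfl⟩
      exact (q y).2
  have hinj : Function.Injective (LinearMap.lcomp R N π) := fun a b h => LinearMap.ext fun x => by
    obtain ⟨y, rfl⟩ := hπ x
    exact LinearMap.congr_fun h y
  have hex : Function.Exact (LinearMap.lcomp R N π) (LinearMap.lcomp R N σ) := by
    intro g
    constructor
    · intro hg
      have hle : LinearMap.ker π ≤ LinearMap.ker g := fun x hx => by
        obtain ⟨y, rfl⟩ := (hσπ x).1 hx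
        exact LinearMap.congr_fun hg y
      refine ⟨(LinearMap.ker π).liftQ g hle ∘ₗ (π.quotKerEquivOfSurjective hπ).symm.toLinearMap,
        LinearMap.ext fun y => ?_⟩
      have : (π.quotKerEquivOfSurjective hπ).symm (π y) = Submodule.Quotient.mk y := by
        rw [LinearEquiv.symm_apply_eq]; rfl
      simp [this]
    · rintro ⟨h, rfl⟩
      exact LinearMap.ext fun y => by simp [hσπ.apply_apply_eq_zero]
  have hinjT := Module.Flat.rTensor_preserves_injective_linearMap (M := L) _ hinj
  have hexT := Module.Flat.rTensor_exact L hex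
  have b0 := bijective_free R (Fin n) N L
  have b1 := bijective_free R (Fin m) N L
  constructor
  · intro a b h
    refine hinjT (b0.1 ?_)
    rw [natural, natural, h]
  · intro F
    obtain ⟨z, hz⟩ := b0.2 (F ∘ₗ π)
    have h0 : (LinearMap.lcomp R N σ).rTensor L z = 0 := by
      refine b1.1 ?_
      rw [natural, hz, map_zero, LinearMap.comp_assoc, hσπ.linearMap_comp_eq_zero, LinearMap.comp_zero]
    obtain ⟨w, rfl⟩ := (hexT z).1 h0
    refine ⟨w, LinearMap.ext fun x => ?_⟩
    obtain ⟨y, rfl⟩ := hπ x
    rw [natural] at hz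
    exact LinearMap.congr_fun hz y

end Groth.Agent.S12079
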