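import Groth.Statements.S12080
import Groth.Agent.InvMod.Local

set_option autoImplicit false
universe u
open TensorProduct
open CAlg

namespace Groth.Agent.S12080

/-- (1) ⇒ (2): let `M` be a finite locally free `R`-module of rank `1`, i.e. there is a set `s ⊆ R`
generating the unit ideal with `M_f ≅ R_f` as `R_f`-modules for every `f ∈ s`. Then the evaluation
map `Hom_R(M, R) ⊗_R M → R` is bijective, so `M` is invertible with inverse its dual. -/
theorem result (R : Type u) [CommRing R] (M : Type u) [AddCommGroup M]
    [Module R M] (s : Set R) (hs : Ideal.span s = ⊤)
    (hfree : ∀ f ∈ s, Nonempty (LocalizedModule.Away f M ≃ₗ[Localization.Away f] Localization.Away f)) :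
    Module.Invertible R M := by
  exact Groth.Agent.InvMod.invertible_of_locally_free s hs hfree

end Groth.Agent.S12080
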