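import Groth.Statements.S12082
import Groth.Agent.S11454
import Groth.Agent.CotTLib.CI
import Mathlib

set_option autoImplicit false
universe u
open Synt

namespace Groth.Agent.S12082

/-- Let `S = k[x_1, …, x_n]/I` over a field `k`, `q` a prime of `S` with preimage `q'` in the polynomial
ring, `c` the natural number with `c + ht(q) = ht(q')`, and `J` the extension of `I` to the local
ring `R = k[x_1, …, x_n]_{q'}`. Any `c` elements of `J` whose images generate `J / q' J` form a
regular sequence in `R`. -/
theorem result (k : Type u) [Field k] (n : ℕ)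
    (I : Ideal (MvPolynomial (Fin n) k)) (q : Ideal (MvPolynomial (Fin n) k ⧸ I)) [q.IsPrime] (c : ℕ)
    (hc : (c : ℕ∞) + q.height = (q.comap (Ideal.Quotient.mk I)).height)
    (f : Fin c → Localization.AtPrime (q.comap (Ideal.Quotient.mk I)))
    (hf : ∀ i, f i ∈ I.map (algebraMap _ (Localization.AtPrime (q.comap (Ideal.Quotient.mk I)))))
    (hgen : Ideal.span (Set.range f) ⊔
        IsLocalRing.maximalIdeal (Localization.AtPrime (q.comap (Ideal.Quotient.mk I))) *
          I.map (algebraMap _ (Localization.AtPrime (q.comap (Ideal.Quotient.mk I)))) =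
      I.map (algebraMap _ (Localization.AtPrime (q.comap (Ideal.Quotient.mk I))))) :
    RingTheory.Sequence.IsRegular (Localization.AtPrime (q.comap (Ideal.Quotient.mk I))) (List.ofFn f) := by
  let A := MvPolynomial (Fin n) k
  let P : Ideal A := q.comap (Ideal.Quotient.mk I)
  let R := Localization.AtPrime P
  let J : Ideal R := I.map (algebraMap A R)
  have hreg : IsRegularLocalRing R := IsRegularRing.isRegularLocalRing_localization (R := A) P
  have hIP : I ≤ P := fun a ha => by
    show Ideal.Quotient.mk I a ∈ q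
    rw [Ideal.Quotient.eq_zero_iff_mem.2 ha]; exact q.zero_mem
  have hJm : J ≤ IsLocalRing.maximalIdeal R := by
    rw [← Localization.AtPrime.map_eq_maximalIdeal]; exact Ideal.map_mono hIP
  -- generators
  have hspan : Ideal.span (Set.range f) = J := by
    refine le_antisymm (Ideal.span_le.2 (by rintro _ ⟨i, rfl⟩; exact hf i)) ?_
    exact Submodule.le_of_le_smul_of_le_jacobson_bot (IsNoetherian.noetherian J)
      (IsLocalRing.maximalIdeal_le_jacobson ⊥) hgen.ge
  -- the quotient
  let Q := Localization.AtPrime q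
  let ψ : R →+* Q := Localization.localRingHom P q (Ideal.Quotient.mk I) rfl
  have hψ : ∀ (a : A) (s : P.primeCompl), ψ (IsLocalization.mk' R a s) =
      IsLocalization.mk' Q (Ideal.Quotient.mk I a) (⟨Ideal.Quotient.mk I s, s.2⟩ : q.primeCompl) := fun a s => by
    simp only [ψ]
    exact Localization.localRingHom_mk' _ _ _ _ _ _
  have hsurj : Function.Surjective ψ := fun y => by
    obtain ⟨⟨b, t⟩, rfl⟩ := IsLocalization.mk'_surjective q.primeCompl y
    obtain ⟨a, rfl⟩ := Ideal.Quotient.mk_surjective b
    obtain ⟨t, ht⟩ := t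
    obtain ⟨s, rfl⟩ := Ideal.Quotient.mk_surjective t
    exact ⟨IsLocalization.mk' R a (⟨s, ht⟩ : P.primeCompl), hψ a _⟩
  have hker : RingHom.ker ψ = J := by
    refine le_antisymm (fun x hx => ?_) (Ideal.map_le_iff_le_comap.2 fun a ha => ?_)
    · obtain ⟨⟨a, s⟩, rfl⟩ := IsLocalization.mk'_surjective P.primeCompl x
      rw [RingHom.mem_ker, hψ, IsLocalization.mk'_eq_zero_iff] at hx
      obtain ⟨⟨t, ht⟩, hta⟩ := hx
      obtain ⟨u, rfl⟩ := Ideal.Quotient.mk_surjective t
      rw [← map_mul, Ideal.Quotient.eq_zero_iff_mem] at hta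
      exact (IsLocalization.mk'_mem_map_algebraMap_iff P.primeCompl R I a s).2 ⟨u, ht, hta⟩
    · show ψ (algebraMap A R a) = 0
      rw [show ψ (algebraMap A R a) = algebraMap (A ⧸ I) Q (Ideal.Quotient.mk I a) from Localization.localRingHom_to_map _ _ _ _ _,
        Ideal.Quotient.eq_zero_iff_mem.2 ha, map_zero]
  have hdimQ : ringKrullDim (R ⧸ J) = (q.height : WithBot ℕ∞) := by
    rw [ringKrullDim_eq_of_ringEquiv ((Ideal.quotEquivOfEq hker.symm).trans (RingHom.quotientKerEquivOfSurjective hsurj))]
    exact IsLocalization.AtPrime.ringKrullDim_eq_height q Q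
  have hdimR : ringKrullDim R = (P.height : WithBot ℕ∞) := IsLocalization.AtPrime.ringKrullDim_eq_height P R
  have hmem : ∀ x ∈ List.ofFn f, x ∈ IsLocalRing.maximalIdeal R := fun x hx => by
    obtain ⟨i, rfl⟩ := List.mem_ofFn.1 hx
    exact hJm (hf i)
  have hlist : Ideal.ofList (List.ofFn f) = J := by
    rw [← hspan]
    simp [Ideal.ofList, List.mem_ofFn, Set.range]
  have hCM := Groth.Agent.CotTLib.isCM_of_isRegularLocalRing R
  have : LocCoh.IsCohenMacaulayLocalRing R := { supportDim_eq_depth := hCM }
  have hw := Groth.Agent.S11454.isWeaklyRegular_of_dim (List.ofFn f) hmem hCM (by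
    rw [hlist, hdimQ, hdimR, List.length_ofFn, ← hc, WithBot.coe_add, add_comm]
    rfl)
  exact RingTheory.Sequence.IsRegular.of_isWeaklyRegular_of_mem_maximalIdeal R hmem hw

end Groth.Agent.S12082
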