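import Groth.Statements.S12083
import Groth.Agent.RelFP.Basic
import Mathlib.RingTheory.IsTensorProduct
import Mathlib.RingTheory.FinitePresentation

set_option autoImplicit false
universe u
open CAlg

namespace Groth.Agent.S12083
open MvPolynomial

/-- Let `R → A` be a finite type ring map with a surjective presentation `α : R[x_1, …, x_n] → A` and
`M` an `A`-module finitely presented relative to `R` (finitely presented as an `R[x_1, …,
x_n]`-module through `α`). For a ring map `R → R'` let `A' = R' ⊗_R A` (a pushout square) and `γ :
R'[z_1, …, z_k] → A'` any surjective presentation. Then `A' ⊗_A M = R' ⊗_R M` is finitely presented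
relative to `R'`, i.e. finitely presented as an `R'[z_1, …, z_k]`-module through `γ`. -/
theorem result {R A R' A' : Type u} [CommRing R] [CommRing A] [CommRing R'] [CommRing A']
    [Algebra R A] [Algebra R R'] [Algebra A A'] [Algebra R' A'] [Algebra R A'] [IsScalarTower R A A'] [IsScalarTower R R' A']
    [Algebra.IsPushout R A R' A'] [Algebra.FiniteType R A] (M : Type u) [AddCommGroup M] [Module A M] {n k : ℕ}
    (α : MvPolynomial (Fin n) R →ₐ[R] A) (hα : Function.Surjective α)
    (hM : @Module.FinitePresentation (MvPolynomial (Fin n) R) M _ _ (Module.compHom M α.toRingHom))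
    (γ : MvPolynomial (Fin k) R' →ₐ[R'] A') (hγ : Function.Surjective γ) :
    @Module.FinitePresentation (MvPolynomial (Fin k) R') (TensorProduct A A' M) _ _
      (Module.compHom (TensorProduct A A' M) γ.toRingHom) := by
  classical
  let P := MvPolynomial (Fin n) R
  let T := MvPolynomial (Fin n) R'
  letI : Algebra P A := α.toRingHom.toAlgebra
  letI : Algebra P A' := ((algebraMap A A').comp α.toRingHom).toAlgebra
  letI : Algebra P T := (MvPolynomial.map (algebraMap R R')).toAlgebra
  let αT : T →ₐ[R'] A' := aeval fun i => algebraMap A A' (α (X i))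
  letI : Algebra T A' := αT.toRingHom.toAlgebra
  haveI : IsScalarTower P A A' := IsScalarTower.of_algebraMap_eq fun _ => rfl
  haveI : IsScalarTower P T A' := IsScalarTower.of_algebraMap_eq' (MvPolynomial.ringHom_ext (fun r => by
    show algebraMap A A' (α (C r)) = αT (MvPolynomial.map (algebraMap R R') (C r))
    rw [map_C, show αT (C (algebraMap R R' r)) = algebraMap R' A' (algebraMap R R' r) from aeval_C _ _,
      ← MvPolynomial.algebraMap_eq, α.commutes,
      ← IsScalarTower.algebraMap_apply R A A', ← IsScalarTower.algebraMap_apply R R' A']) fun i => by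
    show algebraMap A A' (α (X i)) = αT (MvPolynomial.map (algebraMap R R') (X i))
    exact ((congrArg αT (map_X _ i)).trans (aeval_X _ i)).symm)
  letI : Module P M := Module.compHom M α.toRingHom
  haveI : IsScalarTower P A M := IsScalarTower.of_algebraMap_smul fun _ _ => rfl
  haveI : Module.FinitePresentation P M := hM
  let K : Ideal T := (RingHom.ker (algebraMap P A)).map (algebraMap P T)
  -- the inverse map
  have hlift : ∀ a ∈ RingHom.ker α.toRingHom, Ideal.Quotient.mk K (MvPolynomial.map (algebraMap R R') a) = 0 := fun a ha =>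
    Ideal.Quotient.eq_zero_iff_mem.2 (Ideal.mem_map_of_mem _ ha)
  let g₀ : P →ₐ[R] T ⧸ K := { (Ideal.Quotient.mk K).comp (MvPolynomial.map (algebraMap R R')) with
    commutes' := fun r => by
      show Ideal.Quotient.mk K (MvPolynomial.map (algebraMap R R') (C r)) = _
      rw [map_C]; rfl }
  let g : A →ₐ[R] T ⧸ K := AlgHom.liftOfSurjective α hα g₀ fun a ha => hlift a ha
  let f : R' →ₐ[R] T ⧸ K := IsScalarTower.toAlgHom R R' (T ⧸ K)
  haveI : Algebra.IsPushout R R' A A' := Algebra.IsPushout.symm inferInstance
  let inv : A' →ₐ[R] T ⧸ K := Algebra.pushoutDesc A' f g fun x y => mul_comm _ _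
  have hinv : inv.toRingHom.comp αT.toRingHom = Ideal.Quotient.mk K := by
    refine MvPolynomial.ringHom_ext (fun r => ?_) fun i => ?_
    · show inv (αT (C r)) = _
      refine (congrArg inv (aeval_C _ r)).trans ((Algebra.pushoutDesc_left A' f g _ r).trans ?_)
      rfl
    · show inv (αT (X i)) = _
      refine (congrArg inv (aeval_X _ i)).trans ((Algebra.pushoutDesc_right A' f g _ _).trans
        ((AlgHom.liftOfSurjective_apply α hα g₀ (fun a ha => hlift a ha) (X i)).trans ?_))
      show Ideal.Quotient.mk K (MvPolynomial.map (algebraMap R R') (X i)) = _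
      rw [map_X]
  have hTsurj : Function.Surjective (algebraMap T A') := by
    intro y
    show ∃ t, αT t = y
    have : αT.range = ⊤ := by
      rw [eq_top_iff]
      intro y _
      refine (Algebra.IsPushout.out (R := R) (S := R') (R' := A) (S' := A')).inductionOn y _ αT.range.zero_mem ?_
        (fun c u hu => ?_) (fun u v hu hv => αT.range.add_mem hu hv)
      · intro a
        obtain ⟨q, rfl⟩ := hα a
        exact ⟨MvPolynomial.map (algebraMap R R') q, (IsScalarTower.algebraMap_apply P T A' q).symm.trans rfl⟩
      · exact αT.range.smul_mem hu c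
    exact (this ▸ trivial : y ∈ αT.range)
  have key := Groth.Agent.RelFP.fp_baseChange P T A A' M hα hTsurj ⊥ Submodule.fg_bot (by
    rw [bot_sup_eq]
    refine le_antisymm (fun t ht => ?_) ?_
    · rw [← Ideal.Quotient.eq_zero_iff_mem, ← hinv]
      show inv (αT t) = 0
      rw [show αT t = 0 from ht, map_zero]
    · refine Ideal.map_le_iff_le_comap.2 fun a ha => ?_
      show algebraMap T A' (algebraMap P T a) = 0
      rw [← IsScalarTower.algebraMap_apply, IsScalarTower.algebraMap_apply P A A', RingHom.mem_ker.1 ha, map_zero])
  exact (Groth.Agent.RelFP.fpVia_indep αT γ (RingHom.Finite.of_surjective _ hTsurj)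
    (RingHom.Finite.of_surjective γ.toRingHom hγ) _).mp key

end Groth.Agent.S12083
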