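import Mathlib
import Groth.Statements.S12085
-- import your own Groth.Agent.* helpers here

set_option autoImplicit false
universe u
open TensorProduct
open CAlg

noncomputable section

namespace Groth.Agent.S12085


section helpers

open MvPolynomial

variable {R : Type u} [CommRing R] {S : Type u} [CommRing S] [Algebra R S] {n : ℕ}

lemma exists_jacobian_certificate [Algebra.FormallyUnramified R S]
    (π : MvPolynomial (Fin n) R →ₐ[R] S) (hπ : Function.Surjective π)
    {σ : Type} [Fintype σ] (f : σ → MvPolynomial (Fin n) R)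
    (hker : RingHom.ker π.toRingHom = Ideal.span (Set.range f)) :
    ∃ (a : Fin n → σ → MvPolynomial (Fin n) R) (b : Fin n → Fin n → σ → MvPolynomial (Fin n) R),
      ∀ i l, ∑ j, a i j * pderiv l (f j) =
        (if i = l then 1 else 0) + ∑ j, b i l j * f j := by
  classical
  let grad : MvPolynomial (Fin n) R → (Fin n → S) := fun p l => π (pderiv l p)
  let W : Submodule S (Fin n → S) := Submodule.span S (Set.range fun j => grad (f j))
  let L : MvPolynomial (Fin n) R →ₗ[R] (Fin n → S) ⧸ W :=
    (W.mkQ.restrictScalars R).comp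
      (LinearMap.pi fun l => π.toLinearMap.comp (pderiv (R := R) l).toLinearMap)
  have hL : ∀ p, L p = W.mkQ (grad p) := fun p => rfl
  have hgrad : ∀ p q, grad (p * q) = π p • grad q + π q • grad p := by
    intro p q
    funext l
    simp [grad, Derivation.leibniz, map_add, map_mul]
  have hker' : LinearMap.ker π.toLinearMap ≤ LinearMap.ker L := by
    intro p hp
    have hp' : p ∈ Ideal.span (Set.range f) := by rw [← hker]; exact hp
    rw [LinearMap.mem_ker]
    clear hp
    induction hp' using Submodule.span_induction with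
    | mem x hx =>
        obtain ⟨j, rfl⟩ := hx
        rw [hL, Submodule.mkQ_apply, Submodule.Quotient.mk_eq_zero]
        exact Submodule.subset_span ⟨j, rfl⟩
    | zero => exact map_zero L
    | add x y _ _ hx hy => rw [map_add, hx, hy, add_zero]
    | smul c x hx0 hx =>
        have h0 : π x = 0 := by
          have : x ∈ RingHom.ker π.toRingHom := by rw [hker]; exact hx0
          exact this
        rw [smul_eq_mul, hL, hgrad, map_add, map_smul, map_smul, h0, zero_smul, add_zero, ← hL,
          hx, smul_zero]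
  let D₀ : S →ₗ[R] (Fin n → S) ⧸ W :=
    (Submodule.liftQ _ L hker').comp (LinearMap.quotKerEquivOfSurjective π.toLinearMap hπ).symm.toLinearMap
  have hD₀ : ∀ p, D₀ (π p) = W.mkQ (grad p) := by
    intro p
    change Submodule.liftQ _ L hker' ((LinearMap.quotKerEquivOfSurjective π.toLinearMap hπ).symm (π p)) = _
    rw [show (LinearMap.quotKerEquivOfSurjective π.toLinearMap hπ).symm (π p) =
      Submodule.Quotient.mk p from (LinearEquiv.symm_apply_eq _).mpr rfl, Submodule.liftQ_apply]
    rfl
  let D : Derivation R S ((Fin n → S) ⧸ W) := Derivation.mk' D₀ (fun s t => by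
    obtain ⟨p, rfl⟩ := hπ s
    obtain ⟨q, rfl⟩ := hπ t
    rw [← map_mul, hD₀, hD₀, hD₀, hgrad, map_add, map_smul, map_smul])
  have hD : ∀ s, D s = 0 := fun s => by
    rw [← Derivation.liftKaehlerDifferential_comp D]
    simp [Subsingleton.elim (KaehlerDifferential.D R S s) 0]
  have hsingle : ∀ i : Fin n, Pi.single i (1 : S) ∈ W := by
    intro i
    have h1 : W.mkQ (grad (MvPolynomial.X i)) = 0 := by rw [← hD₀]; exact hD _
    have h2 : grad (MvPolynomial.X i) = Pi.single i (1 : S) := by
      funext l
      by_cases h : i = l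
      · subst h; simp [grad]
      · simp [grad, pderiv_X_of_ne (Ne.symm h), h, Ne.symm h, Pi.single_eq_of_ne]
    rwa [h2, Submodule.mkQ_apply, Submodule.Quotient.mk_eq_zero] at h1
  choose c hc using fun i => (Submodule.mem_span_range_iff_exists_fun S).mp (hsingle i)
  choose a ha using fun i j => hπ (c i j)
  have herr : ∀ i l, (∑ j, a i j * pderiv l (f j)) - (if i = l then 1 else 0) ∈
      Ideal.span (Set.range f) := by
    intro i l
    rw [← hker, RingHom.mem_ker]
    have h1 := congrFun (hc i) l
    simp only [Finset.sum_apply, Pi.smul_apply, smul_eq_mul, grad] at h1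
    change π _ = 0
    rw [map_sub, map_sum]
    simp only [map_mul, ha]
    rw [h1, Pi.single_apply]
    by_cases h : i = l
    · subst h; simp
    · simp [h, Ne.symm h]
  choose b hb using fun i l => Ideal.mem_span_range_iff_exists_fun.mp (herr i l)
  exact ⟨a, b, fun i l => by rw [hb i l]; ring⟩

lemma derivation_comp_eq {R₀ : Type u} [CommRing R₀] {S₀ : Type u} [CommRing S₀] [Algebra R₀ S₀]
    {M : Type u} [AddCommGroup M] [Module S₀ M] [Module R₀ M] (d : Derivation R₀ S₀ M)
    (π : MvPolynomial (Fin n) R₀ →ₐ[R₀] S₀) (p : MvPolynomial (Fin n) R₀) :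
    d (π p) = ∑ l, π (pderiv l p) • d (π (MvPolynomial.X l)) := by
  classical
  induction p using MvPolynomial.induction_on with
  | C r =>
      rw [show π (MvPolynomial.C r) = algebraMap R₀ S₀ r from π.commutes r, Derivation.map_algebraMap]
      simp
  | add p q hp hq => simp only [map_add, hp, hq, add_smul, Finset.sum_add_distrib]
  | mul_X p i hp =>
      rw [map_mul, Derivation.leibniz, hp, Finset.smul_sum]
      simp only [Derivation.leibniz, map_add, smul_eq_mul, map_mul, add_smul, Finset.sum_add_distrib,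
        smul_smul]
      congr 1
      rw [Finset.sum_eq_single i]
      · simp
      · intro l _ hl
        simp [pderiv_X_of_ne hl.symm]
      · simp

lemma derivation_eq_zero {R₀ : Type u} [CommRing R₀] {S₀ : Type u} [CommRing S₀] [Algebra R₀ S₀]
    {M : Type u} [AddCommGroup M] [Module S₀ M] [Module R₀ M] (d : Derivation R₀ S₀ M)
    (π : MvPolynomial (Fin n) R₀ →ₐ[R₀] S₀) (hπ : Function.Surjective π) {σ : Type} [Fintype σ]
    (f : σ → MvPolynomial (Fin n) R₀) (hf : ∀ j, π (f j) = 0)
    (a : Fin n → σ → MvPolynomial (Fin n) R₀)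
    (b : Fin n → Fin n → σ → MvPolynomial (Fin n) R₀)
    (h : ∀ i l, ∑ j, a i j * pderiv l (f j) = (if i = l then 1 else 0) + ∑ j, b i l j * f j)
    (x : S₀) : d x = 0 := by
  classical
  have hX : ∀ i, d (π (MvPolynomial.X i)) = 0 := by
    intro i
    have h1 : ∑ j, π (a i j) • d (π (f j)) = 0 := by
      simp [hf]
    simp only [derivation_comp_eq d π (f _), Finset.smul_sum, smul_smul] at h1
    have hsum : ∀ l, ∑ j, π (a i j) * π (pderiv l (f j)) = if i = l then 1 else 0 := by
      intro l
      have h2 := congrArg π (h i l)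
      simp only [map_sum, map_add, map_mul, hf, mul_zero, Finset.sum_const_zero, add_zero,
        apply_ite π, map_one, map_zero] at h2
      exact h2
    rw [Finset.sum_comm] at h1
    simp only [← Finset.sum_smul, hsum, ite_smul, one_smul, zero_smul, Finset.sum_ite_eq,
      Finset.mem_univ, if_true] at h1
    exact h1
  obtain ⟨p, rfl⟩ := hπ x
  rw [derivation_comp_eq d π p]
  simp [hX]

lemma formallyUnramified_of_certificate {R₀ : Type u} [CommRing R₀] {S₀ : Type u} [CommRing S₀]
    [Algebra R₀ S₀] (π : MvPolynomial (Fin n) R₀ →ₐ[R₀] S₀) (hπ : Function.Surjective π)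
    {σ : Type} [Fintype σ]
    (f : σ → MvPolynomial (Fin n) R₀) (hf : ∀ j, π (f j) = 0)
    (a : Fin n → σ → MvPolynomial (Fin n) R₀)
    (b : Fin n → Fin n → σ → MvPolynomial (Fin n) R₀)
    (h : ∀ i l, ∑ j, a i j * pderiv l (f j) = (if i = l then 1 else 0) + ∑ j, b i l j * f j) :
    Algebra.FormallyUnramified R₀ S₀ := by
  constructor
  have h0 := derivation_eq_zero (KaehlerDifferential.D R₀ S₀) π hπ f hf a b h
  rw [← Submodule.subsingleton_iff S₀]
  refine subsingleton_of_bot_eq_top ?_
  rw [eq_comm, ← KaehlerDifferential.span_range_derivation, Submodule.span_eq_bot]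
  rintro _ ⟨x, rfl⟩
  exact h0 x

end helpers

set_option maxHeartbeats 400000 in
/-- If `R → S` is G-unramified (of finite presentation and formally unramified), then there are a finite
type `ℤ`-algebra `R₀`, a ring map `R₀ → R` and a G-unramified ring map `R₀ → S₀` such that `S ≅ R
⊗_{R₀} S₀` as `R`-algebras (existence of an isomorphism). -/
theorem result (R : Type u) [CommRing R] (S : Type u) [CommRing S]
    [Algebra R S] [Algebra.FinitePresentation R S] [Algebra.FormallyUnramified R S] :
    ∃ (R₀ : Type u) (_ : CommRing R₀) (_ : Algebra.FiniteType ℤ R₀) (S₀ : Type u) (_ : CommRing S₀)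
      (_ : Algebra R₀ S₀) (_ : Algebra.FinitePresentation R₀ S₀) (_ : Algebra.FormallyUnramified R₀ S₀)
      (_ : Algebra R₀ R), Nonempty (R ⊗[R₀] S₀ ≃ₐ[R] S) := by
  classical
  obtain ⟨n, π, hπ, hfg⟩ := Algebra.FinitePresentation.out (R := R) (A := S)
  obtain ⟨s, hs⟩ := hfg
  obtain ⟨m, ⟨e⟩⟩ : ∃ m, Nonempty (Fin m ≃ s) := ⟨s.card, ⟨s.equivFin.symm⟩⟩
  let f : Fin m → MvPolynomial (Fin n) R := fun j => (e j : MvPolynomial (Fin n) R)
  have hrange : Set.range f = (s : Set (MvPolynomial (Fin n) R)) := by
    rw [show f = Subtype.val ∘ e from rfl, EquivLike.range_comp]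
    simp
  have hker : RingHom.ker π.toRingHom = Ideal.span (Set.range f) := by rw [hrange]; exact hs.symm
  obtain ⟨a, b, hab⟩ := exists_jacobian_certificate π hπ f hker
  let T : Finset R := (Finset.univ.biUnion fun j => (f j).coeffs) ∪
    (Finset.univ.biUnion fun ij : Fin n × Fin m => (a ij.1 ij.2).coeffs) ∪
    (Finset.univ.biUnion fun q : Fin n × Fin n × Fin m => (b q.1 q.2.1 q.2.2).coeffs)
  let R₀ : Subalgebra ℤ R := Algebra.adjoin ℤ (T : Set R)
  have hlift : ∀ p : MvPolynomial (Fin n) R, p.coeffs ⊆ T →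
      ∃ q : MvPolynomial (Fin n) R₀, MvPolynomial.map (algebraMap R₀ R) q = p := by
    intro p hp
    apply MvPolynomial.mem_range_map_iff_coeffs_subset.mpr
    intro c hc
    exact ⟨⟨c, Algebra.subset_adjoin (hp hc)⟩, rfl⟩
  choose f₀ hf₀ using fun j => hlift (f j) (fun c hc => by
    simp only [T, Finset.mem_union, Finset.mem_biUnion, Finset.mem_univ, true_and]
    exact Or.inl (Or.inl ⟨j, hc⟩))
  choose a₀ ha₀ using fun i j => hlift (a i j) (fun c hc => by
    simp only [T, Finset.mem_union, Finset.mem_biUnion, Finset.mem_univ, true_and]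
    exact Or.inl (Or.inr ⟨(i, j), hc⟩))
  choose b₀ hb₀ using fun i l j => hlift (b i l j) (fun c hc => by
    simp only [T, Finset.mem_union, Finset.mem_biUnion, Finset.mem_univ, true_and]
    exact Or.inr ⟨(i, l, j), hc⟩)
  have hab₀ : ∀ i l, ∑ j, a₀ i j * MvPolynomial.pderiv l (f₀ j) =
      (if i = l then 1 else 0) + ∑ j, b₀ i l j * f₀ j := by
    intro i l
    apply MvPolynomial.map_injective (algebraMap R₀ R) Subtype.val_injective
    simp only [map_sum, map_add, map_mul, ← MvPolynomial.pderiv_map, hf₀, ha₀, hb₀, hab]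
    by_cases h : i = l <;> simp [h]
  let I₀ := Ideal.span (Set.range f₀)
  have hunr : Algebra.FormallyUnramified R₀ (MvPolynomial (Fin n) R₀ ⧸ I₀) :=
    formallyUnramified_of_certificate (Ideal.Quotient.mkₐ R₀ I₀) (Ideal.Quotient.mkₐ_surjective R₀ I₀)
      f₀ (fun j => Ideal.Quotient.eq_zero_iff_mem.mpr (Ideal.subset_span ⟨j, rfl⟩)) a₀ b₀ hab₀
  have hI : Ideal.map (MvPolynomial.algebraTensorAlgEquiv R₀ (σ := Fin n) R : _ →+* MvPolynomial (Fin n) R)
      (I₀.map (Algebra.TensorProduct.includeRight (A := R) (R := R₀) (B := MvPolynomial (Fin n) R₀))) =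
      RingHom.ker π.toRingHom := by
    rw [hker, Ideal.map_span, Ideal.map_span, ← Set.range_comp, ← Set.range_comp]
    congr 2
    funext j
    simp [hf₀]
  refine ⟨R₀, inferInstance, (Subalgebra.fg_iff_finiteType R₀).mp ⟨T, rfl⟩, MvPolynomial (Fin n) R₀ ⧸ I₀,
    inferInstance, inferInstance, ?_, hunr, inferInstance, ⟨?_⟩⟩
  · exact Algebra.FinitePresentation.quotient (Submodule.fg_span (Set.finite_range _))
  · exact ((Algebra.TensorProduct.tensorQuotientEquiv (R := R₀) R (MvPolynomial (Fin n) R₀) R I₀).trans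
      (Ideal.quotientEquivAlg _ _ (MvPolynomial.algebraTensorAlgEquiv R₀ R) hI.symm)).trans
      (Ideal.quotientKerAlgEquivOfSurjective hπ)

end Groth.Agent.S12085
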