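import Groth.Statements.S12088
import Groth.Agent.RelPC17.Comp

set_option autoImplicit false
set_option backward.isDefEq.respectTransparency false
set_option backward.isDefEq.respectTransparency.types false
universe u
open CategoryTheory CategoryTheory.Limits AlgebraicGeometry
attribute [local instance] HasDerivedCategory.standard
open FlatMor

namespace Groth.Agent.S12088

/-- Let `f : X ⟶ Y` and `g : Y ⟶ S` be locally of finite type with `g` pseudo-coherent (`O_Y` placed in
degree `0` is `n`-pseudo-coherent relative to `g` for every integer `n`), `m` an integer and `E` any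
object of `D(O_X)`. Relative to `f`, `E` is `m`-pseudo-coherent if and only if it is
`m`-pseudo-coherent relative to the composite `f ≫ g` (cover-and-chart form). No boundedness of `E`
is assumed: relative pseudo-coherence forces it locally on `X`. -/
theorem result {X Y S : Scheme.{u}} (f : X ⟶ Y) (g : Y ⟶ S)
    [LocallyOfFiniteType f] [LocallyOfFiniteType g] (hg : ∀ n : ℤ, DerSch.IsNPseudoCoherent g n)
    (m : ℤ) (E : DCoh.D X) :
    DerSch.IsPseudoCoherentRel f m E ↔ DerSch.IsPseudoCoherentRel (f ≫ g) m E := by
  exact (Groth.Agent.RelPC17.rel_comp_iff f g (Groth.Agent.RelPC17.chartsPC_of_nPC g hg) m E).symm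

end Groth.Agent.S12088
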