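import Groth.Statements.S12091
import Mathlib

set_option autoImplicit false
universe u
open TensorProduct MvPolynomial
open FlatMor

namespace Groth.Agent.S12091

/-- Let `x_1, …, x_m` generate the `A`-module `M`, let `K ⊆ A^m` be the module of relations, `C =
Sym_A(M)` and `α : A[y_1, …, y_m] → C` the presentation with `y_j ↦ x_j`, with kernel `J`. Then the
`C`-linear map `C ⊗_A K → J/J²` sending `1 ⊗ k` to the class of `Σ_j k_j y_j` is surjective, and it
is bijective when `M` is a projective `A`-module (so that then `J/J² ≅ K ⊗_A C` and the naive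
cotangent complex of `α` is `K ⊗_A C → ⊕_j C dy_j`). (The published statement asserts `J/J² ≅ K ⊗_A
C` for every `M`. For `A = ℤ`, `M = (ℤ/2)²`, `m = 2` and the two unit vectors, `K = 2ℤ²` and the
element `y_2 ⊗ (2, 0) - y_1 ⊗ (0, 2)` of `C ⊗_A K` is non-zero but maps to the class of `y_2 · 2y_1
- y_1 · 2y_2 = 0`; in degree `2` the graded piece of `J/J²` has `8` elements and that of `K ⊗_A C`
has `16`. The published degree-by-degree computation does show that `J` is generated by the linear
forms coming from `K`, which is the surjectivity, and it is valid as written when `0 → K → A^m → M →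
0` splits, which is the projective case.) -/
theorem result (A : Type u) [CommRing A] (M : Type u)
    [AddCommGroup M] [Module A M] (m : ℕ) (x : Fin m → M)
    (hx : Function.Surjective (Fintype.linearCombination A x))
    (G : Algebra.Generators A (SymmetricAlgebra A M) (Fin m))
    (hG : ∀ j, G.val j = SymmetricAlgebra.ι A M (x j)) :
    ∃ e : SymmetricAlgebra A M ⊗[A] (LinearMap.ker (Fintype.linearCombination A x)) →ₗ[SymmetricAlgebra A M]
        G.toExtension.Cotangent,
      (∀ (k : LinearMap.ker (Fintype.linearCombination A x))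
        (hk : (∑ j, C ((k : Fin m → A) j) * X j : MvPolynomial (Fin m) A) ∈ G.toExtension.ker),
        e (1 ⊗ₜ k) = Algebra.Extension.Cotangent.mk ⟨_, hk⟩) ∧
      Function.Surjective e ∧ (Module.Projective A M → Function.Bijective e) := by
  classical
  set L := Fintype.linearCombination A x with hL
  have hval : G.val = fun j => SymmetricAlgebra.ι A M (x j) := funext hG
  let ℓ : (Fin m → A) →ₗ[A] MvPolynomial (Fin m) A := Fintype.linearCombination A (MvPolynomial.X : Fin m → MvPolynomial (Fin m) A)
  have hℓ : ∀ v : Fin m → A, ℓ v = ∑ j, C (v j) * X j := fun v => by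
    simp [ℓ, Fintype.linearCombination_apply, MvPolynomial.smul_eq_C_mul]
  have hαℓ : ∀ v, MvPolynomial.aeval G.val (ℓ v) = SymmetricAlgebra.ι A M (L v) := fun v => by
    simp [ℓ, L, Fintype.linearCombination_apply, hval]
  have hker : ∀ p : MvPolynomial (Fin m) A, p ∈ G.toExtension.ker ↔ MvPolynomial.aeval G.val p = 0 := fun p => by
    exact SetLike.ext_iff.mp G.ker_eq_ker_aeval_val p
  have hmem : ∀ k : LinearMap.ker L, ℓ k ∈ G.toExtension.ker := fun k => by
    rw [hker, hαℓ, LinearMap.mem_ker.mp k.2, map_zero]
  let J₀ : Ideal (MvPolynomial (Fin m) A) := Ideal.span (Set.range fun k : LinearMap.ker L => ℓ k)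
  -- the kernel is generated by the linear forms
  have hle : ∀ p : MvPolynomial (Fin m) A, MvPolynomial.aeval G.val p = 0 → p ∈ J₀ := by
    intro p hp
    let t : (Fin m → A) →ₗ[A] MvPolynomial (Fin m) A ⧸ J₀ := (Ideal.Quotient.mkₐ A J₀).toLinearMap ∘ₗ ℓ
    have htk : LinearMap.ker L ≤ LinearMap.ker t := fun v hv =>
      Ideal.Quotient.eq_zero_iff_mem.mpr (Ideal.subset_span ⟨⟨v, hv⟩, rfl⟩)
    let t' : M →ₗ[A] MvPolynomial (Fin m) A ⧸ J₀ :=
      ((LinearMap.ker L).liftQ t htk) ∘ₗ (L.quotKerEquivOfSurjective hx).symm.toLinearMap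
    have ht' : ∀ v, t' (L v) = t v := fun v => by
      show (LinearMap.ker L).liftQ t htk ((L.quotKerEquivOfSurjective hx).symm (L v)) = t v
      rw [show (L.quotKerEquivOfSurjective hx).symm (L v) = Submodule.Quotient.mk v from
        (L.quotKerEquivOfSurjective hx).symm_apply_eq.mpr rfl]
      rfl
    have hcomp : (SymmetricAlgebra.lift t').comp (MvPolynomial.aeval G.val) = Ideal.Quotient.mkₐ A J₀ := by
      refine MvPolynomial.algHom_ext fun j => ?_
      rw [AlgHom.comp_apply, aeval_X, hG, SymmetricAlgebra.lift_ι_apply,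
        show x j = L (Pi.single j 1) from (by simp [L]), ht']
      simp [t, ℓ]
    have h := AlgHom.congr_fun hcomp p
    rw [AlgHom.comp_apply, hp, map_zero] at h
    exact Ideal.Quotient.eq_zero_iff_mem.mp h.symm
  let e₀ : LinearMap.ker L →ₗ[A] G.toExtension.Cotangent :=
    { toFun := fun k => Algebra.Extension.Cotangent.mk ⟨ℓ k, hmem k⟩
      map_add' := fun a b => by
        rw [← map_add]; congr 1; exact Subtype.ext (map_add ℓ _ _)
      map_smul' := fun r a => by
        have h1 : (⟨ℓ ↑(r • a), hmem (r • a)⟩ : G.toExtension.ker) =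
            (show G.toExtension.Ring from C r) • (⟨ℓ a, hmem a⟩ : G.toExtension.ker) :=
          Subtype.ext (by
            show ℓ (r • (a : Fin m → A)) = C r * ℓ a
            rw [map_smul, MvPolynomial.smul_eq_C_mul])
        show Algebra.Extension.Cotangent.mk _ = r • Algebra.Extension.Cotangent.mk _
        rw [h1, map_smul]
        exact algebraMap_smul _ r _ }
  have hsurj : Function.Surjective (LinearMap.liftBaseChange (SymmetricAlgebra A M) e₀) := by
    intro y
    obtain ⟨⟨p, hp⟩, rfl⟩ := Algebra.Extension.Cotangent.mk_surjective y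
    suffices h : ∀ (q : MvPolynomial (Fin m) A), q ∈ J₀ → ∀ hq : q ∈ G.toExtension.ker,
        Algebra.Extension.Cotangent.mk ⟨q, hq⟩ ∈ LinearMap.range (LinearMap.liftBaseChange (SymmetricAlgebra A M) e₀) by
      exact h p (hle p ((hker p).mp hp)) hp
    intro q hq
    induction hq using Submodule.span_induction with
    | mem q hq =>
      obtain ⟨k, rfl⟩ := hq
      exact fun _ => ⟨1 ⊗ₜ k, by rw [LinearMap.liftBaseChange_tmul, one_smul]; rfl⟩
    | zero => exact fun h0 => ⟨0, by rw [map_zero]; exact (map_zero (Algebra.Extension.Cotangent.mk (P := G.toExtension))).symm⟩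
    | add a b ha hb iha ihb =>
      intro hab
      have ha' : a ∈ G.toExtension.ker := (Ideal.span_le.mpr (by rintro _ ⟨k, rfl⟩; exact hmem k)) ha
      have hb' : b ∈ G.toExtension.ker := (Ideal.span_le.mpr (by rintro _ ⟨k, rfl⟩; exact hmem k)) hb
      rw [show (⟨a + b, hab⟩ : G.toExtension.ker) = ⟨a, ha'⟩ + ⟨b, hb'⟩ from rfl, map_add]
      exact add_mem (iha ha') (ihb hb')
    | smul r a ha iha =>
      intro hra
      have ha' : a ∈ G.toExtension.ker := (Ideal.span_le.mpr (by rintro _ ⟨k, rfl⟩; exact hmem k)) ha
      let r' : G.toExtension.Ring := r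
      show Algebra.Extension.Cotangent.mk (r' • (⟨a, ha'⟩ : G.toExtension.ker)) ∈ _
      rw [map_smul, ← algebraMap_smul (SymmetricAlgebra A M) r']
      exact Submodule.smul_mem _ _ (iha ha')
  refine ⟨LinearMap.liftBaseChange _ e₀, ?_, ?_, ?_⟩
  · intro k hk
    rw [LinearMap.liftBaseChange_tmul, one_smul]
    exact congrArg Algebra.Extension.Cotangent.mk (Subtype.ext (hℓ k))
  · exact hsurj
  · intro hproj
    refine ⟨?_, ?_⟩
    · obtain ⟨sec, hsec⟩ := Module.projective_lifting_property L LinearMap.id hx
      let r : (Fin m → A) →ₗ[A] LinearMap.ker L :=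
        LinearMap.codRestrict (LinearMap.ker L) (LinearMap.id - sec ∘ₗ L) fun v => by
          have := LinearMap.congr_fun hsec (L v)
          simp only [LinearMap.comp_apply, LinearMap.id_apply] at this
          simp [this]
      have hr : ∀ k : LinearMap.ker L, r k = k := fun k => Subtype.ext (by
        show (k : Fin m → A) - sec (L k) = k
        rw [LinearMap.mem_ker.mp k.2, map_zero, sub_zero])
      let Φ : G.toExtension.Cotangent →ₗ[SymmetricAlgebra A M] SymmetricAlgebra A M ⊗[A] LinearMap.ker L :=
        (Finsupp.linearCombination (SymmetricAlgebra A M) fun j => (1 : SymmetricAlgebra A M) ⊗ₜ[A] r (Pi.single j 1)) ∘ₗ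
          G.cotangentSpaceBasis.repr.toLinearMap ∘ₗ G.toExtension.cotangentComplex
      have hΦ : Φ ∘ₗ LinearMap.liftBaseChange (SymmetricAlgebra A M) e₀ = LinearMap.id := by
        refine TensorProduct.AlgebraTensorModule.ext fun c k => ?_
        rw [LinearMap.comp_apply, LinearMap.liftBaseChange_tmul, map_smul, LinearMap.id_apply]
        have h1 : Φ (e₀ k) = 1 ⊗ₜ k := by
          show Finsupp.linearCombination _ _ (G.cotangentSpaceBasis.repr
            (G.toExtension.cotangentComplex (Algebra.Extension.Cotangent.mk ⟨ℓ k, hmem k⟩))) = _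
          rw [Algebra.Extension.cotangentComplex_mk, Finsupp.linearCombination_apply, Finsupp.sum_fintype _ _ (by simp)]
          have h3 : ∀ j, G.cotangentSpaceBasis.repr ((1 : SymmetricAlgebra A M) ⊗ₜ[G.toExtension.Ring]
              KaehlerDifferential.D A G.toExtension.Ring (show G.toExtension.Ring from ℓ k)) j =
              MvPolynomial.aeval G.val (pderiv j (ℓ k)) := fun j => G.cotangentSpaceBasis_repr_one_tmul _ j
          refine (Finset.sum_congr rfl fun j _ => congrArg (· • _) (h3 j)).trans ?_
          have h2 : ∀ j, MvPolynomial.aeval G.val (pderiv j (ℓ k)) = algebraMap A (SymmetricAlgebra A M) ((k : Fin m → A) j) := fun j => by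
            rw [hℓ]
            simp [Pi.single_apply, Finset.sum_ite_eq']
          simp only [h2]
          conv_rhs => rw [← hr k, pi_eq_sum_univ' (k : Fin m → A), map_sum, TensorProduct.tmul_sum]
          refine Finset.sum_congr rfl fun j _ => ?_
          rw [map_smul, algebraMap_smul, TensorProduct.tmul_smul]
        rw [h1, TensorProduct.smul_tmul', smul_eq_mul, mul_one]
      exact Function.LeftInverse.injective (g := Φ) (LinearMap.congr_fun hΦ)
    · exact hsurj

end Groth.Agent.S12091
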