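import Groth.Statements.S12094
import Mathlib
import Groth.Agent.H9Misc.DRingTwoTerm

set_option autoImplicit false
universe u
open CategoryTheory
attribute [local instance] HasDerivedCategory.standard
open DRing

namespace Groth.Agent.S12094

/-- (1) ⇔ (2): let `I ⊆ R` be an ideal and `K ∈ D(R)` with `H^i(K) = 0` for `i ∉ {-1, 0}`. Then some
power `I^c` annihilates `Ext¹_R(K, N) = Hom_{D(R)}(K, N[1])` for every `R`-module `N` if and only
if, for some `c`, (a) `I^c` annihilates `H^{-1}(K)` and (b) `H^0(K)` is `I^c`-projective, i.e. `I^c`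
annihilates `Ext¹_R(H^0(K), N)` for every `R`-module `N`. -/
theorem result {R : Type u} [CommRing R] (I : Ideal R) (K : Dual.D R)
    (hK : ∀ i : ℤ, i ≠ -1 → i ≠ 0 → Subsingleton (Dual.HD R K i)) :
    (∃ c : ℕ, ∀ (N : Type u) [AddCommGroup N] [Module R N] (a : R), a ∈ I ^ c →
        ∀ ξ : K ⟶ (Dual.inD R N)⟦(1 : ℤ)⟧, a • ξ = 0) ↔
      ∃ c : ℕ, (∀ a : R, a ∈ I ^ c → ∀ x : Dual.HD R K (-1), a • x = 0) ∧
        ∀ (N : Type u) [AddCommGroup N] [Module R N] (a : R), a ∈ I ^ c →
          ∀ ξ : Dual.inD R (Dual.HD R K 0) ⟶ (Dual.inD R N)⟦(1 : ℤ)⟧, a • ξ = 0 := by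
  have hα := Groth.Agent.H9Misc.DRingTwoTerm.exists_toH0 hK
  obtain ⟨α, hα0, hH0⟩ := hα
  have hK' : ∀ i : ℤ, i ≠ -1 → i ≠ 0 → Subsingleton (Dual.HD R (Dual.inD R (Dual.HD R K 0)) i) :=
    fun i _ h => hH0 i h
  constructor
  · rintro ⟨c, hc⟩
    refine ⟨c, fun a ha x => ?_, fun N _ _ a ha ξ => ?_⟩
    · obtain ⟨E, hz, hfree, ⟨e⟩⟩ := Groth.Agent.H9Misc.DRingTwoTerm.exists_rep K hK
      haveI := hfree
      obtain ⟨h, hh⟩ := (Groth.Agent.H9Misc.DRingTwoTerm.annihilates_iff hz inferInstance e a).1
        (fun N _ _ ξ => hc N a ha ξ)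
      have hcyc : ∀ z : E.cycles (-1), a • z = 0 := by
        intro z
        apply (ModuleCat.mono_iff_injective (E.iCycles (-1))).1 inferInstance
        rw [map_smul, map_zero]
        have h1 : E.iCycles (-1) ≫ (a • 𝟙 (E.X (-1))) = 0 := by
          rw [← hh, ← Category.assoc, HomologicalComplex.iCycles_d, Limits.zero_comp]
        exact ConcreteCategory.congr_hom h1 z
      let e' := (Groth.Agent.H9Misc.DRingTwoTerm.hIso e (-1)).toLinearEquiv
      obtain ⟨z, hz'⟩ := (ModuleCat.epi_iff_surjective (E.homologyπ (-1))).1 inferInstance (e' x)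
      apply e'.injective
      rw [map_smul, map_zero, ← hz', ← map_smul, hcyc, map_zero]
    · refine Groth.Agent.H9Misc.DRingTwoTerm.eq_zero_of_precomp α hK hK' hα0 ?_
        (Groth.Agent.H9Misc.DRingTwoTerm.isGE_shiftedMod (ModuleCat.of R N)) _ ?_
      · haveI := hH0 (-1) (by omega)
        exact ⟨fun {Z} f g _ => (ModuleCat.isZero_of_subsingleton _).eq_of_src f g⟩
      · rw [Linear.comp_smul]
        exact hc N a ha _
  · rintro ⟨c, hneg, hext⟩
    obtain ⟨F, p, q, hT⟩ := Pretriangulated.distinguished_cocone_triangle₁ α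
    let H := fun i => DerivedCategory.homologyFunctor (ModuleCat.{u} R) i
    have hmono : ∀ i : ℤ, i ≠ 1 → Mono ((H i).map p) := fun i hi => by
      have h := DerivedCategory.HomologySequence.exact₁ _ hT (i - 1) i (by omega)
      refine h.mono_g ?_
      haveI := hH0 (i - 1) (by omega)
      exact (ModuleCat.isZero_of_subsingleton
        ((H (i - 1)).obj (Dual.inD R (Dual.HD R K 0)))).eq_of_src _ _
    have hpα : ∀ i : ℤ, (H i).map p ≫ (H i).map α = 0 := fun i => by
      rw [← Functor.map_comp, show p ≫ α = 0 from Pretriangulated.comp_distTriang_mor_zero₁₂ _ hT,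
        Functor.map_zero]
    have hF : ∀ i : ℤ, i ≠ -1 → Limits.IsZero ((H i).obj F) := by
      intro i hi
      rcases eq_or_ne i 1 with rfl | h1
      · refine (DerivedCategory.HomologySequence.exact₁ _ hT 0 1 rfl).isZero_of_both_zeros ?_ ?_
        · haveI := hα0
          refine (cancel_epi ((H 0).map α)).1 ?_
          exact (DerivedCategory.HomologySequence.comp_δ _ hT 0 1 rfl).trans Limits.comp_zero.symm
        · haveI := hK 1 (by omega) (by omega)
          exact (ModuleCat.isZero_of_subsingleton ((H 1).obj K)).eq_of_tgt _ _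
      · haveI := hmono i h1
        rcases eq_or_ne i 0 with rfl | h0
        · haveI := hα0
          refine Limits.IsZero.of_mono_eq_zero ((H 0).map p) ?_
          rw [← cancel_mono ((H 0).map α), hpα, Limits.zero_comp]
        · haveI := hK i hi h0
          exact Limits.IsZero.of_mono ((H i).map p) (ModuleCat.isZero_of_subsingleton _)
    have hge : DerivedCategory.IsGE F (-1) :=
      (DerivedCategory.isGE_iff F _).2 fun i hi => hF i (by omega)
    have hle : DerivedCategory.IsLE F (-1) :=
      (DerivedCategory.isLE_iff F _).2 fun i hi => hF i (by omega)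
    obtain ⟨Y, ⟨eY⟩⟩ := DerivedCategory.exists_iso_singleFunctor_obj_of_isGE_of_isLE F (-1)
    have hann : ∀ a ∈ I ^ c, a • 𝟙 F = 0 := by
      intro a ha
      have hY : ∀ y : Y, a • y = 0 := by
        intro y
        let j : Y ⟶ (H (-1)).obj K :=
          ((DerivedCategory.singleFunctorCompHomologyFunctorIso (ModuleCat.{u} R) (-1)).app Y).inv ≫
            (H (-1)).map eY.inv ≫ (H (-1)).map p
        haveI := hmono (-1) (by omega)
        haveI : Mono j := by dsimp only [j]; infer_instance
        apply (ModuleCat.mono_iff_injective j).1 inferInstance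
        rw [map_smul, map_zero]
        exact hneg a ha _
      have h0 : a • 𝟙 Y = 0 := ModuleCat.hom_ext (LinearMap.ext hY)
      rw [← cancel_epi eY.inv, ← cancel_mono eY.hom, Linear.comp_smul, Linear.smul_comp, Category.comp_id,
        Iso.inv_hom_id, Limits.comp_zero, Limits.zero_comp, ← CategoryTheory.Functor.map_id,
        ← Functor.map_smul, h0, Functor.map_zero]
    refine ⟨c + c, fun N _ _ r hr ξ => ?_⟩
    rw [pow_add] at hr
    refine Submodule.mul_induction_on hr (fun b hb a ha => ?_) (fun x y hx hy => by rw [add_smul, hx, hy, add_zero])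
    obtain ⟨η, hη⟩ := Pretriangulated.Triangle.yoneda_exact₂ _ hT (a • ξ) (by
      show p ≫ (a • ξ) = 0
      rw [Linear.comp_smul, ← Linear.smul_comp, show a • p = 0 from by
        rw [← Category.id_comp p, ← Linear.smul_comp, hann a ha, Limits.zero_comp], Limits.zero_comp])
    rw [mul_smul, show a • ξ = α ≫ η from hη, ← Linear.comp_smul, hext N b hb η, Limits.comp_zero]

end Groth.Agent.S12094
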