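import Groth.Statements.S12096
import Groth.Agent.BlowAlgX.Map

set_option autoImplicit false
universe u
open BlowUp

namespace Groth.Agent.S12096

/-- Néron's blowup is compatible with localization. For a ring `A`, an ideal `I`, elements `π, a ∈ A`,
`A' = A[I/π] ⊆ A_π` the affine blowup algebra and `(A_a)' = A_a[I A_a/π]` that of the localization,
the canonical map `A' → (A_a)'` (the restriction of `A_π → (A_a)_π`, given here as a datum with that
compatibility) identifies `(A_a)'` with the localization `A'_a`. In Néron's situation (`I` the
inverse image of the maximal ideal of `Λ`, `π` a uniformizer, `a ∉ I`) this reads: the Néron blowup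
of `A_a` is `A'_a`; the identity holds for arbitrary `A, I, π, a`. -/
theorem result (A : Type u) [CommRing A] (I : Ideal A) (π a : A) (hπ : π ∈ I)
    (ψ : BlowUp.affineAlgebra A I π →+*
      BlowUp.affineAlgebra (Localization.Away a) (I.map (algebraMap A (Localization.Away a))) (algebraMap A (Localization.Away a) π))
    (hψ : ∀ x : BlowUp.affineAlgebra A I π,
      ((ψ x : BlowUp.affineAlgebra (Localization.Away a) (I.map (algebraMap A (Localization.Away a))) (algebraMap A (Localization.Away a) π)) :
          Localization.Away (algebraMap A (Localization.Away a) π)) =
        Localization.awayMap (algebraMap A (Localization.Away a)) π (x : Localization.Away π)) :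
    letI := ψ.toAlgebra
    IsLocalization.Away (algebraMap A (BlowUp.affineAlgebra A I π) a)
      (BlowUp.affineAlgebra (Localization.Away a) (I.map (algebraMap A (Localization.Away a))) (algebraMap A (Localization.Away a) π)) := by
  exact BlowAlgX.isLocalization_away ψ hψ hπ a

end Groth.Agent.S12096
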