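import Groth.Statements.S12097
import Groth.Agent.BlowAlgX.Map

set_option autoImplicit false
universe u
open BlowUp

namespace Groth.Agent.S12097

/-- Néron's blowup is compatible with closed immersions. For a surjective ring map `B → A` with kernel
`J`, an ideal `I ⊆ B` containing `π`, and the affine blowup algebras `B' = B[I/π] ⊆ B_π`, `A' =
A[IA/π] ⊆ A_π`, the canonical map `B' → A'` (the restriction of `B_π → A_π`, given as a datum with
that compatibility) is surjective with kernel the elements `x` such that `π^n x ∈ J B'` for some
`n`: `A'` is the quotient of `B'/JB'` by its `π`-power torsion. In Néron's situation (`I` the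
inverse image of the maximal ideal of `Λ`, `π` a uniformizer) this is the printed functoriality; the
identity holds for any surjection. -/
theorem result (B A : Type u) [CommRing B] [CommRing A] [Algebra B A]
    (hq : Function.Surjective (algebraMap B A)) (I : Ideal B) (π : B) (hπ : π ∈ I)
    (ψ : BlowUp.affineAlgebra B I π →+* BlowUp.affineAlgebra A (I.map (algebraMap B A)) (algebraMap B A π))
    (hψ : ∀ x : BlowUp.affineAlgebra B I π,
      ((ψ x : BlowUp.affineAlgebra A (I.map (algebraMap B A)) (algebraMap B A π)) : Localization.Away (algebraMap B A π)) =
        Localization.awayMap (algebraMap B A) π (x : Localization.Away π)) :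
    Function.Surjective ψ ∧
      ∀ x : BlowUp.affineAlgebra B I π, x ∈ RingHom.ker ψ ↔
        ∃ n : ℕ, algebraMap B (BlowUp.affineAlgebra B I π) π ^ n * x ∈
          (RingHom.ker (algebraMap B A)).map (algebraMap B (BlowUp.affineAlgebra B I π)) := by
  exact ⟨BlowAlgX.surjective_of_surjective ψ hψ hπ hq, fun x => BlowAlgX.ker_iff ψ hψ hπ x⟩

end Groth.Agent.S12097
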