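import Groth.Statements.S1210
import Groth.Agent.RG.NearFT
-- import your own Groth.Agent.* helpers here

set_option autoImplicit false
universe u
open FlatMor

namespace Groth.Agent.S1210

open TensorProduct in
set_option backward.isDefEq.respectTransparency false in
/-- Ring form, X = Spec S and S = Spec R affine: let S be a finitely presented R-algebra, N a finite
S-module and q a prime of S over p with N_q flat over R. Then there is an étale R-algebra R' with a
prime p' over p having the same residue field such that, writing A for the local ring of R' at p',
S_A for the base change of S to A and N_A for that of N: there is an element g of S_A, outside every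
prime of S_A lying over both q and the maximal ideal of A (there is exactly one such prime), with
the localization of N_A at g finitely presented over (S_A)_g and flat over A. The base change is
stated for any model of the tensor product. -/
theorem result {R S : Type u} [CommRing R] [CommRing S] [Algebra R S] [Algebra.FinitePresentation R S]
    (N : Type u) [AddCommGroup N] [Module S N] [Module R N] [IsScalarTower R S N] [Module.Finite S N]
    (p : Ideal R) [p.IsPrime] (q : Ideal S) [q.IsPrime] [q.LiesOver p] (hflat : FlatCA.FlatAt R q N) :
    ∃ (R' : Type u) (_ : CommRing R') (_ : Algebra R R') (p' : Ideal R') (_ : p'.IsPrime), FlatCA.IsEtaleNhd R R' p p' ∧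
      ∀ (SA NA : Type u) [CommRing SA] [Algebra R SA] [Algebra S SA] [Algebra (Localization.AtPrime p') SA]
        [IsScalarTower R S SA] [IsScalarTower R (Localization.AtPrime p') SA]
        [Algebra.IsPushout R S (Localization.AtPrime p') SA]
        [AddCommGroup NA] [Module SA NA] [Module S NA] [IsScalarTower S SA NA]
        [Module (Localization.AtPrime p') NA] [IsScalarTower (Localization.AtPrime p') SA NA]
        (f : N →ₗ[S] NA), IsBaseChange SA f →
        ∃ g : SA, (∀ (Q : Ideal SA) [Q.IsPrime], Q.LiesOver q → Q.LiesOver (IsLocalRing.maximalIdeal (Localization.AtPrime p')) → g ∉ Q) ∧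
          Module.FinitePresentation (Localization.Away g) (LocalizedModule (Submonoid.powers g) NA) ∧
          Module.Flat (Localization.AtPrime p') (LocalizedModule (Submonoid.powers g) NA) := by
  obtain ⟨R', _, _, p', _, hR', H⟩ := Groth.Agent.RG.near_model N p q (Groth.Agent.RG.near_of_flatAt N p q hflat)
  refine ⟨R', inferInstance, inferInstance, p', inferInstance, hR', ?_⟩
  intro SA NA _ _ _ _ _ _ _ _ _ _ _ _ _ f hf
  obtain ⟨g, hg, hfp, hfl⟩ := H SA NA f hf
  exact ⟨g, hg, (Groth.Agent.RG.fpAt_iff_localizedModule _ _).2 hfp, hfl⟩

end Groth.Agent.S1210
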