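import Groth.Statements.S12100
import Groth.Agent.PCohLib.Derived

set_option autoImplicit false
universe w v u
open CategoryTheory CategoryTheory.Limits
open PCoh

namespace Groth.Agent.S12100

/-- Let C be an abelian category and C₀ a strictly full additive subcategory, quasi-stable under kernels
of epimorphisms and quasi-liftable; let n, i be integers, E a strictly n-pseudo-coherent cochain
complex, F an n-pseudo-coherent cochain complex (isomorphic in D(C) to a strictly n-pseudo-coherent
one) and u : E ⟶ F an i-quasi-isomorphism (an isomorphism on H^j for j > i, an epimorphism on H^i).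
Then u = v ≫ u' with u' : E' ⟶ F a quasi-isomorphism, E' strictly n-pseudo-coherent, and v : E ⟶ E'
a monomorphism in each degree which is an isomorphism in every degree ≥ i. (The source obtains v
equal to the identity in degrees ≥ i; stated here up to isomorphism in those degrees.) -/
theorem result {C : Type u} [Category.{v} C] [Abelian C] [HasDerivedCategory.{w} C]
    (P : ObjectProperty C) [P.IsClosedUnderIsomorphisms] [P.ContainsZero] (hsum : ∀ X Y : C, P X → P Y → P (X ⨯ Y))
    (hqs : PCoh.IsQuasiStableUnderKernels P) (hql : PCoh.IsQuasiLiftable P)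
    (n i : ℤ) (E F : CochainComplex C ℤ) (hE : PCoh.IsStrictPC P n E)
    (hF : ∃ F₀ : CochainComplex C ℤ, PCoh.IsStrictPC P n F₀ ∧ Nonempty (DerivedCategory.Q.obj F₀ ≅ DerivedCategory.Q.obj F))
    (u : E ⟶ F) (hiso : ∀ j : ℤ, i < j → IsIso (HomologicalComplex.homologyMap u j))
    (hepi : Epi (HomologicalComplex.homologyMap u i)) :
    ∃ (E' : CochainComplex C ℤ) (v : E ⟶ E') (u' : E' ⟶ F), v ≫ u' = u ∧ PCoh.IsStrictPC P n E' ∧ QuasiIso u' ∧
      (∀ j : ℤ, Mono (v.f j)) ∧ (∀ j : ℤ, i ≤ j → IsIso (v.f j)) := by
  exact PCohLib.exists_factor hsum hql (PCohLib.coneFT_of_pcn hsum hqs hql hF) i u hE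
    ((PCohLib.exactGE_iff u i).mpr ⟨hiso, hepi⟩)

end Groth.Agent.S12100
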