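import Groth.Statements.S12102
import Groth.Agent.PCohLib.Apps

set_option autoImplicit false
universe w v u
open CategoryTheory CategoryTheory.Limits
open PCoh

namespace Groth.Agent.S12102

/-- Let C be an abelian category and C₀ a strictly full additive subcategory, quasi-stable under kernels
of epimorphisms and quasi-liftable; let F be an object of C and n a natural number. Then F is of
n-C₀-finite presentation (there is an exact sequence E_{n+1} → ⋯ → E_1 → F → 0 with all E_j in C₀;
encoded as an ℕ-indexed chain complex K with K_0 ≅ F, exact at the indices 0, …, n, zero beyond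
index n + 1, and K_1, …, K_{n+1} in C₀) if and only if F placed in degree 0 is (−n)-pseudo-coherent
(isomorphic in D(C) to a strictly (−n)-pseudo-coherent complex). -/
theorem result {C : Type u} [Category.{v} C] [Abelian C] [HasDerivedCategory.{w} C]
    (P : ObjectProperty C) [P.IsClosedUnderIsomorphisms] [P.ContainsZero] (hsum : ∀ X Y : C, P X → P Y → P (X ⨯ Y))
    (hqs : PCoh.IsQuasiStableUnderKernels P) (hql : PCoh.IsQuasiLiftable P)
    (F : C) (n : ℕ) :
    (∃ K : ChainComplex C ℕ, Nonempty (K.X 0 ≅ F) ∧ (∀ j : ℕ, j ≤ n → K.ExactAt j) ∧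
        (∀ j : ℕ, n + 1 < j → IsZero (K.X j)) ∧ (∀ j : ℕ, 1 ≤ j → j ≤ n + 1 → P (K.X j))) ↔
      (∃ E : CochainComplex C ℤ, PCoh.IsStrictPC P (-(n : ℤ)) E ∧
        Nonempty (DerivedCategory.Q.obj E ≅ (DerivedCategory.singleFunctor C 0).obj F)) := by
  exact PCohLib.hasRes_iff hsum hqs hql n F

end Groth.Agent.S12102
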