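import Groth.Statements.S12104
import Groth.Agent.TypeRLib.BC
-- import your own Groth.Agent.* helpers here

set_option autoImplicit false
open CategoryTheory MonoidalCategory CartesianMonoidalCategory MonObj GrpObj AlgebraicGeometry
universe u
open RedSub

namespace Groth.Agent.S12104

open CategoryTheory.Limits

set_option backward.isDefEq.respectTransparency.types false
set_option synthInstance.maxHeartbeats 100000
set_option maxHeartbeats 1000000

theorem exists_pullback_sub {S : Scheme.{u}} {G : Over S} [GrpObj G] [IsAffineHom G.hom] [Smooth G.hom]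
    {M : Over S} {H : Over M.left} [GrpObj H] {h : H ⟶ Red.bc M.hom G} (hh : RedSub.IsTypeR h)
    {S' : Scheme.{u}} {f : S' ⟶ S} {g : S' ⟶ M.left} (hg : g ≫ M.hom = f) :
    ∃ h' : Red.bc g H ⟶ Red.bc f G, RedSub.IsTypeR h' ∧ RedSub.SamePoints G f h' M h g := by
  haveI : LocallyOfFinitePresentation (Red.bc M.hom G).hom :=
    inferInstanceAs (LocallyOfFinitePresentation (pullback.snd _ _))
  haveI : QuasiCompact (Red.bc M.hom G).hom := inferInstanceAs (QuasiCompact (pullback.snd _ _))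
  haveI : QuasiSeparated (Red.bc M.hom G).hom := inferInstanceAs (QuasiSeparated (pullback.snd _ _))
  haveI := MaxTorTransp.isMonHom_cmp_hom hg G
  let h' : Red.bc g H ⟶ Red.bc f G := (Over.pullback g).map h ≫ (GrpLimLib.cmp hg G).hom
  have e : h'.left ≫ pullback.fst G.hom f = pullback.fst H.hom g ≫ h.left ≫ pullback.fst G.hom M.hom := by
    show (((Over.pullback g).map h).left ≫ (GrpLimLib.cmp hg G).hom.left) ≫ _ = _
    rw [Category.assoc, GrpLimLib.cmp_hom_fst hg G]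
    simp only [GrpLimLib.pr]
    erw [← Category.assoc, GrpLimLib.map_left_fst, Category.assoc]
  refine ⟨h', TypeRLib.isTypeR_comp_iso (TypeRLib.isTypeR_bc h hh g) _, fun X y c => ⟨?_, ?_⟩⟩
  · rintro ⟨p, hp, hpc⟩
    refine ⟨p ≫ pullback.fst H.hom g, ?_, ?_⟩
    · rw [Category.assoc, pullback.condition, ← hp, Category.assoc]
      rfl
    · rw [Category.assoc, ← e, hpc]
  · rintro ⟨p, hp, hpc⟩
    refine ⟨pullback.lift p y hp, pullback.lift_snd _ _ _, ?_⟩
    rw [e, pullback.lift_fst_assoc, hpc]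


/-- Let G be a reductive S-group and (M, h : H ⟶ G_M) a representing pair for the functor of subgroups
of type (RC) of G (type (R) with closed root sets on the geometric fibres; every such subgroup of a
base change G_{S'} has the same points as the pullback of h along exactly one S-morphism S' ⟶ M).
Suppose (Cl₁, cl₁ : M ⟶ Cl₁) and (Cl₂, cl₂ : M ⟶ Cl₂) are two pairs with the following properties:
Clᵢ finite and etale over S; clᵢ smooth, surjective, quasi-compact, locally of finite presentation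
and locally quasi-projective with connected geometric fibres; and two subgroups of type (RC) of
G_{S'} with classifying maps g₁, g₂ : S' ⟶ M have the same image under clᵢ if and only if at every
point of S' their geometric fibres are conjugate under a point of the geometric fibre of G. Then
there is exactly one S-isomorphism e : Cl₁ ≅ Cl₂ with cl₁ ≫ e.hom = cl₂. -/
theorem result {S : Scheme.{u}} (G : Over S) [GrpObj G] (hG : Red.IsReductive G)
    (M : Over S) (H : Over M.left) [GrpObj H] (h : H ⟶ Red.bc M.hom G) (hh : RedSub.IsTypeR h)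
    (hRC : (∀ (s : ↥M.left) (D' : Red.SplitRed (Red.geomFibre s (Red.bc M.hom G))) (t' : D'.T ⟶ Red.geomFibre s _),
        t' ≫ (Over.pullback (Red.geomPt s)).map h = D'.i →
        ∀ a b c : D'.idx, (∃ v, v ≫ (Over.pullback (Red.geomPt s)).map h = D'.u a) →
          (∃ v, v ≫ (Over.pullback (Red.geomPt s)).map h = D'.u b) → D'.P.root a + D'.P.root b = D'.P.root c →
          ∃ v, v ≫ (Over.pullback (Red.geomPt s)).map h = D'.u c))
    (huniv : ∀ (S' : Scheme.{u}) (f : S' ⟶ S) (H' : Over S') [GrpObj H'] (h' : H' ⟶ Red.bc f G), RedSub.IsTypeR h' →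
        (∀ (s : ↥S') (D' : Red.SplitRed (Red.geomFibre s (Red.bc f G))) (t' : D'.T ⟶ Red.geomFibre s _),
        t' ≫ (Over.pullback (Red.geomPt s)).map h' = D'.i →
        ∀ a b c : D'.idx, (∃ v, v ≫ (Over.pullback (Red.geomPt s)).map h' = D'.u a) →
          (∃ v, v ≫ (Over.pullback (Red.geomPt s)).map h' = D'.u b) → D'.P.root a + D'.P.root b = D'.P.root c →
          ∃ v, v ≫ (Over.pullback (Red.geomPt s)).map h' = D'.u c) →
        ∃! g : S' ⟶ M.left, g ≫ M.hom = f ∧ RedSub.SamePoints G f h' M h g) 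
    (Cl₁ : Over S) (cl₁ : M ⟶ Cl₁) (Cl₂ : Over S) (cl₂ : M ⟶ Cl₂)
    (hCl₁ : IsFinite Cl₁.hom ∧ Etale Cl₁.hom ∧ Smooth cl₁.left ∧ Surjective cl₁.left ∧
      QuasiCompact cl₁.left ∧ LocallyOfFinitePresentation cl₁.left ∧ RedSub.IsLocallyQuasiProjective (Over.mk cl₁.left) ∧
      (∀ c : ↥Cl₁.left, ConnectedSpace ↥(Red.geomFibre c (Over.mk cl₁.left)).left) ∧
      ∀ (S' : Scheme.{u}) (f : S' ⟶ S) (H₁ H₂ : Over S') [GrpObj H₁] [GrpObj H₂] (h₁ : H₁ ⟶ Red.bc f G)
        (h₂ : H₂ ⟶ Red.bc f G) (g₁ g₂ : S' ⟶ M.left), RedSub.IsTypeR h₁ → RedSub.IsTypeR h₂ →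
        g₁ ≫ M.hom = f → g₂ ≫ M.hom = f → RedSub.SamePoints G f h₁ M h g₁ → RedSub.SamePoints G f h₂ M h g₂ →
        (g₁ ≫ cl₁.left = g₂ ≫ cl₁.left ↔
          ∀ s : ↥S', ∃ gpt : 𝟙_ _ ⟶ Red.geomFibre s (Red.bc f G),
            RedSub.ConjEq ((Over.pullback (Red.geomPt s)).map h₁) ((Over.pullback (Red.geomPt s)).map h₂) gpt))
    (hCl₂ : IsFinite Cl₂.hom ∧ Etale Cl₂.hom ∧ Smooth cl₂.left ∧ Surjective cl₂.left ∧
      QuasiCompact cl₂.left ∧ LocallyOfFinitePresentation cl₂.left ∧ RedSub.IsLocallyQuasiProjective (Over.mk cl₂.left) ∧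
      (∀ c : ↥Cl₂.left, ConnectedSpace ↥(Red.geomFibre c (Over.mk cl₂.left)).left) ∧
      ∀ (S' : Scheme.{u}) (f : S' ⟶ S) (H₁ H₂ : Over S') [GrpObj H₁] [GrpObj H₂] (h₁ : H₁ ⟶ Red.bc f G)
        (h₂ : H₂ ⟶ Red.bc f G) (g₁ g₂ : S' ⟶ M.left), RedSub.IsTypeR h₁ → RedSub.IsTypeR h₂ →
        g₁ ≫ M.hom = f → g₂ ≫ M.hom = f → RedSub.SamePoints G f h₁ M h g₁ → RedSub.SamePoints G f h₂ M h g₂ →
        (g₁ ≫ cl₂.left = g₂ ≫ cl₂.left ↔
          ∀ s : ↥S', ∃ gpt : 𝟙_ _ ⟶ Red.geomFibre s (Red.bc f G),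
            RedSub.ConjEq ((Over.pullback (Red.geomPt s)).map h₁) ((Over.pullback (Red.geomPt s)).map h₂) gpt)) :
    ∃! e : Cl₁ ≅ Cl₂, cl₁ ≫ e.hom = cl₂ := by
  haveI : IsAffineHom G.hom := hG.1
  haveI : Smooth G.hom := hG.2.1
  obtain ⟨-, -, hs₁, hsurj₁, hq₁, -, -, -, hc₁⟩ := hCl₁
  obtain ⟨-, -, hs₂, hsurj₂, hq₂, -, -, -, hc₂⟩ := hCl₂
  haveI := hs₁
  haveI := hsurj₁
  haveI := hq₁
  haveI := hs₂
  haveI := hsurj₂
  haveI := hq₂
  have cov₁ : FpqcDescLib.Covers cl₁.left :=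
    FpqcDescLib.covers_of_isCovering (FpqcDescLib.isCovering_of_quasiCompact cl₁.left)
  have cov₂ : FpqcDescLib.Covers cl₂.left :=
    FpqcDescLib.covers_of_isCovering (FpqcDescLib.isCovering_of_quasiCompact cl₂.left)
  have key : ∀ (T : Over S) (a b : T ⟶ M), a ≫ cl₁ = b ≫ cl₁ ↔ a ≫ cl₂ = b ≫ cl₂ := by
    intro T a b
    obtain ⟨h₁, hR₁, hS₁⟩ := exists_pullback_sub hh (Over.w a)
    obtain ⟨h₂, hR₂, hS₂⟩ := exists_pullback_sub hh (Over.w b)
    have e₁ := hc₁ T.left T.hom _ _ h₁ h₂ a.left b.left hR₁ hR₂ (Over.w a) (Over.w b) hS₁ hS₂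
    have e₂ := hc₂ T.left T.hom _ _ h₁ h₂ a.left b.left hR₁ hR₂ (Over.w a) (Over.w b) hS₁ hS₂
    exact ⟨fun e => Over.OverMorphism.ext (e₂.2 (e₁.1 (congrArg CommaMorphism.left e))),
      fun e => Over.OverMorphism.ext (e₁.2 (e₂.1 (congrArg CommaMorphism.left e)))⟩
  obtain ⟨u, hu, -⟩ := cov₁.over_desc cl₂ fun T a b e => (key T a b).1 e
  obtain ⟨v, hv, -⟩ := cov₂.over_desc cl₁ fun T a b e => (key T a b).2 e
  haveI := cov₁.over_epi
  haveI := cov₂.over_epi
  refine ⟨⟨u, v, ?_, ?_⟩, hu, fun e he => Iso.ext ?_⟩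
  · rw [← cancel_epi cl₁, reassoc_of% hu, hv, Category.comp_id]
  · rw [← cancel_epi cl₂, reassoc_of% hv, hu, Category.comp_id]
  · rw [← cancel_epi cl₁, he, hu]

end Groth.Agent.S12104
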