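import Groth.Statements.S1211
import Groth.Agent.RG.NearFT
-- import your own Groth.Agent.* helpers here

set_option autoImplicit false
universe u
open FlatMor

namespace Groth.Agent.S1211

open TensorProduct in
set_option backward.isDefEq.respectTransparency false in
/-- Ring form, X = Spec S and S = Spec R affine: let S be a finite type R-algebra, N a finite S-module
and q a prime of S over p with N_q flat over R. Then there is an étale R-algebra R' with a prime p'
over p having the same residue field such that, writing A for the local ring of R' at p', S_A and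
N_A for the base changes: some element g of S_A outside every prime over both q and the maximal
ideal of A has the localization of N_A at g flat over A. -/
theorem result {R S : Type u} [CommRing R] [CommRing S] [Algebra R S] [Algebra.FiniteType R S]
    (N : Type u) [AddCommGroup N] [Module S N] [Module R N] [IsScalarTower R S N] [Module.Finite S N]
    (p : Ideal R) [p.IsPrime] (q : Ideal S) [q.IsPrime] [q.LiesOver p] (hflat : FlatCA.FlatAt R q N) :
    ∃ (R' : Type u) (_ : CommRing R') (_ : Algebra R R') (p' : Ideal R') (_ : p'.IsPrime), FlatCA.IsEtaleNhd R R' p p' ∧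
      ∀ (SA NA : Type u) [CommRing SA] [Algebra R SA] [Algebra S SA] [Algebra (Localization.AtPrime p') SA]
        [IsScalarTower R S SA] [IsScalarTower R (Localization.AtPrime p') SA]
        [Algebra.IsPushout R S (Localization.AtPrime p') SA]
        [AddCommGroup NA] [Module SA NA] [Module S NA] [IsScalarTower S SA NA]
        [Module (Localization.AtPrime p') NA] [IsScalarTower (Localization.AtPrime p') SA NA]
        (f : N →ₗ[S] NA), IsBaseChange SA f →
        ∃ g : SA, (∀ (Q : Ideal SA) [Q.IsPrime], Q.LiesOver q → Q.LiesOver (IsLocalRing.maximalIdeal (Localization.AtPrime p')) → g ∉ Q) ∧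
          Module.Flat (Localization.AtPrime p') (LocalizedModule (Submonoid.powers g) NA) := by
  obtain ⟨n, φ, hφ⟩ := Algebra.FiniteType.iff_quotient_mvPolynomial''.1 ‹Algebra.FiniteType R S›
  letI : Algebra (MvPolynomial (Fin n) R) S := φ.toRingHom.toAlgebra
  haveI : IsScalarTower R (MvPolynomial (Fin n) R) S := IsScalarTower.of_algebraMap_eq' φ.comp_algebraMap.symm
  obtain ⟨R', _, _, p', _, hR', H⟩ := Groth.Agent.RG.near_presentation (P := MvPolynomial (Fin n) R) hφ N p q hflat
  refine ⟨R', inferInstance, inferInstance, p', inferInstance, hR', ?_⟩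
  intro SA NA _ _ _ _ _ _ _ _ _ _ _ _ _ f hf
  obtain ⟨PA, _, _, _, _, _, _, g, -, -, hg, -, hfl⟩ := H SA NA f hf
  exact ⟨algebraMap PA SA g, hg, hfl⟩

end Groth.Agent.S1211
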