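import Groth.Statements.S12113
import Groth.Agent.GrpExtRigid.Basic
-- import your own Groth.Agent.* helpers here

set_option autoImplicit false
universe u
open CategoryTheory CategoryTheory.Limits MonoidalCategory CartesianMonoidalCategory MonObj AlgebraicGeometry
open SGA7

namespace Groth.Agent.S12113

/-- Group schemes, fppf site: over a base scheme S, let P and G be S-group schemes with G commutative,
and let u : G → E, v : E → P and u' : G → E', v' : E' → P be homomorphisms forming sequences 1 → G →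
E → P → 1 and 1 → G → E' → P → 1 exact for the fppf topology. Suppose every morphism of S-schemes P
×_S P → G trivial on P × e_P and on e_P × P is trivial. Let f : E → E' be a morphism of S-schemes
over P (f ≫ v' = v) and under G (u ≫ f = u'), preserving the unit section, and compatible with left
and right translations by G: for all points g of G and x of E with values in any S-scheme, f(u(g) x)
= u'(g) f(x) and f(x u(g)) = f(x) u'(g). Then f is a homomorphism of S-group schemes: such
extensions have no non-multiplicative morphisms of their underlying rigidified bitorsors. (The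
published statement is for sheaves of groups on an arbitrary topos and phrased as full faithfulness
of the functor from extensions to rigidified bitorsors; this row is the case of representable
sheaves on the fppf site of S, with G commutative so that the defect of multiplicativity descends to
P ×_S P as in the printed argument. Morphisms to a group scheme form a group; trivial means equal to
its unit.) -/
theorem result (S : Scheme.{u})
    (P G E E' : Over S) [GrpObj P] [GrpObj G] [GrpObj E] [GrpObj E'] [IsCommMonObj G]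
    (u : G ⟶ E) (v : E ⟶ P) (hex : NonAbH1.IsExactSeq Scheme.fppfPrecoverage u v)
    (u' : G ⟶ E') (v' : E' ⟶ P) (hex' : NonAbH1.IsExactSeq Scheme.fppfPrecoverage u' v')
    (hPP : ∀ c : P ⊗ P ⟶ G, lift (𝟙 P) (toUnit P ≫ η[P]) ≫ c = 1 → lift (toUnit P ≫ η[P]) (𝟙 P) ≫ c = 1 → c = 1)
    (f : E ⟶ E') (hv : f ≫ v' = v) (hu : u ≫ f = u') (h1 : η[E] ≫ f = η[E'])
    (hl : ∀ (T : Over S) (g : T ⟶ G) (x : T ⟶ E), ((g ≫ u) * x) ≫ f = (g ≫ u') * (x ≫ f))
    (hr : ∀ (T : Over S) (g : T ⟶ G) (x : T ⟶ E), (x * (g ≫ u)) ≫ f = (x ≫ f) * (g ≫ u')) :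
    IsMonHom f := by
  haveI := hex.1
  haveI := hex.2.1
  haveI := hex'.1
  haveI := hex'.2.1
  let d : E ⊗ E ⟶ E' := ((fst E E * snd E E) ≫ f) * ((fst E E ≫ f) * (snd E E ≫ f))⁻¹
  have hd : d ≫ v' = 1 := by
    simp only [d, MonObj.mul_comp, GrpObj.inv_comp, Category.assoc, hv, mul_inv_cancel]
  obtain ⟨c, hc⟩ := GrpExtRigid.exists_ker hex' hd
  have key : ∀ {T : Over S} (x y : T ⟶ E),
      (lift x y ≫ c) ≫ u' = ((x * y) ≫ f) * ((x ≫ f) * (y ≫ f))⁻¹ := by
    intro T x y
    rw [Category.assoc, hc]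
    simp only [d, MonObj.comp_mul, GrpObj.comp_inv]
    simp only [← Category.assoc, MonObj.comp_mul, lift_fst, lift_snd]
  have hj := GrpExtRigid.hasLocSec_tensor (GrpExtRigid.hasLocSec hex) (GrpExtRigid.hasLocSec hex)
  have hinv : ∀ (T : Over S) (a b : T ⟶ E ⊗ E),
      a ≫ lift (fst E E ≫ v) (snd E E ≫ v) = b ≫ lift (fst E E ≫ v) (snd E E ≫ v) →
        a ≫ c = b ≫ c := by
    intro T a b hab
    have h1 := congrArg (· ≫ fst P P) hab
    have h2 := congrArg (· ≫ snd P P) hab
    simp only [Category.assoc, lift_fst, lift_snd] at h1 h2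
    rw [← Category.assoc, ← Category.assoc] at h1 h2
    obtain ⟨g, hg⟩ := GrpExtRigid.exists_fibre hex h1
    obtain ⟨h, hh⟩ := GrpExtRigid.exists_fibre hex h2
    have ea : a = lift (a ≫ fst E E) (a ≫ snd E E) := by rw [← comp_lift, lift_fst_snd, Category.comp_id]
    have eb : b = lift (b ≫ fst E E) (b ≫ snd E E) := by rw [← comp_lift, lift_fst_snd, Category.comp_id]
    have hx : ((a ≫ fst E E) * (g ≫ u) * (a ≫ fst E E)⁻¹) ≫ v = 1 := by
      rw [MonObj.mul_comp, MonObj.mul_comp, GrpObj.inv_comp, GrpExtRigid.comp_u_v hex, _root_.mul_one,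
        mul_inv_cancel]
    obtain ⟨g₁, hg₁⟩ := GrpExtRigid.exists_ker hex hx
    refine GrpExtRigid.comp_u_eq_of_eq hex' ?_
    rw [eb, ea, key, key, hg, hh]
    have hcu := key (a ≫ fst E E) (a ≫ snd E E)
    generalize a ≫ fst E E = x at hg₁ hcu ⊢
    generalize a ≫ snd E E = y at hcu ⊢
    have e0 : x * (g ≫ u) = (g₁ ≫ u) * x := by rw [hg₁, inv_mul_cancel_right]
    have hcm : Commute (g₁ ≫ u') ((lift x y ≫ c) ≫ u') := GrpExtRigid.commute_u hex' _ _
    rw [hcu] at hcm
    have e1 : (x * (g ≫ u) * (y * (h ≫ u))) ≫ f = (g₁ ≫ u') * ((x * y) ≫ f) * (h ≫ u') := by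
      rw [e0, ← hl, ← hr]
      simp only [_root_.mul_assoc]
    rw [e1, e0, hl, hr]
    symm
    calc (g₁ ≫ u') * ((x * y) ≫ f) * (h ≫ u') * ((g₁ ≫ u') * (x ≫ f) * ((y ≫ f) * (h ≫ u')))⁻¹
        = (g₁ ≫ u') * (((x * y) ≫ f) * ((x ≫ f) * (y ≫ f))⁻¹) * (g₁ ≫ u')⁻¹ := by group
      _ = _ := by rw [hcm.eq, mul_inv_cancel_right]
  obtain ⟨χ, hχ, -⟩ := hj.existsUnique_desc c hinv
  have key' : ∀ {T : Over S} (x y : T ⟶ E), lift (x ≫ v) (y ≫ v) ≫ χ = lift x y ≫ c := by
    intro T x y
    rw [← hχ, ← Category.assoc]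
    congr 1
    refine CartesianMonoidalCategory.hom_ext _ _ ?_ ?_ <;> simp
  have hf1 : ∀ T : Over S, (1 : T ⟶ E) ≫ f = 1 := by
    intro T
    rw [Hom.one_def, Category.assoc, h1, Hom.one_def]
  have hχ1 : χ = 1 := by
    refine hPP χ ?_ ?_
    · refine (GrpExtRigid.hasLocSec hex).hom_ext ?_
      rw [MonObj.comp_one, ← Category.assoc, comp_lift, Category.comp_id, ← Hom.one_def,
        MonObj.comp_one]
      refine GrpExtRigid.comp_u_eq_of_eq hex' ?_
      have := key' (𝟙 E) (1 : E ⟶ E)
      rw [Category.id_comp, MonObj.one_comp] at this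
      rw [this, key, MonObj.one_comp (f := u')]
      simp [hf1]
    · refine (GrpExtRigid.hasLocSec hex).hom_ext ?_
      rw [MonObj.comp_one, ← Category.assoc, comp_lift, Category.comp_id, ← Hom.one_def,
        MonObj.comp_one]
      refine GrpExtRigid.comp_u_eq_of_eq hex' ?_
      have := key' (1 : E ⟶ E) (𝟙 E)
      rw [Category.id_comp, MonObj.one_comp] at this
      rw [this, key, MonObj.one_comp (f := u')]
      simp [hf1]
  have := key (fst E E) (snd E E)
  rw [← key', hχ1, MonObj.comp_one, MonObj.one_comp] at this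
  have hμ : μ[E] = fst E E * snd E E := by rw [Hom.mul_def, lift_fst_snd, Category.id_comp]
  refine ⟨h1, ?_⟩
  rw [hμ, mul_inv_eq_one.mp this.symm, Hom.mul_def]
  congr 1

end Groth.Agent.S12113
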