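import Groth.Statements.S12118


set_option autoImplicit false
universe u v
open EGA41

namespace Groth.Agent.S12118

/-- Let A be a commutative ring, M an A-module, (M_k)_{k ≥ 0} a decreasing filtration of M by submodules
with M_0 = M and ⋂_k M_k = 0, and f an element of A which is a non-zero-divisor on every graded
piece M_k/M_{k+1} (equivalently on the associated graded module). Then (i) f is a non-zero-divisor
on M, and (ii) M_k ∩ fM = fM_k for every k ≥ 0. -/
theorem result {A : Type u} [CommRing A] {M : Type v} [AddCommGroup M] [Module A M]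
    (F : ℕ → Submodule A M) (hanti : Antitone F) (h0 : F 0 = ⊤) (hsep : ⨅ k, F k = ⊥) (f : A)
    (hreg : ∀ k : ℕ, IsSMulRegular (↥(F k) ⧸ Submodule.comap (F k).subtype (F (k + 1))) f) :
    IsSMulRegular M f ∧ ∀ k : ℕ, F k ⊓ (Ideal.span {f} • (⊤ : Submodule A M)) = Ideal.span {f} • F k := by
  have key : ∀ k x, x ∈ F k → f • x ∈ F (k + 1) → x ∈ F (k + 1) := by
    intro k x hx hfx
    have := hreg k (a₁ := Submodule.Quotient.mk ⟨x, hx⟩) (a₂ := 0) ?_
    · rw [Submodule.Quotient.mk_eq_zero] at this
      exact this
    · show f • Submodule.Quotient.mk _ = f • (0 : (↥(F k) ⧸ Submodule.comap (F k).subtype (F (k + 1))))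
      rw [smul_zero, ← Submodule.Quotient.mk_smul, Submodule.Quotient.mk_eq_zero]
      exact hfx
  refine ⟨isSMulRegular_iff_right_eq_zero_of_smul.mpr fun x hx => ?_, fun k => ?_⟩
  · have : ∀ k, x ∈ F k := by
      intro k
      induction k with
      | zero => simp [h0]
      | succ k ih => exact key k x ih (by simp [hx])
    have h2 : x ∈ ⨅ k, F k := by simpa [Submodule.mem_iInf] using this
    simpa [hsep] using h2
  · ext z
    simp only [Submodule.ideal_span_singleton_smul, Submodule.mem_inf]
    constructor
    · rintro ⟨hz, hzf⟩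
      rw [Submodule.mem_smul_pointwise_iff_exists] at hzf ⊢
      obtain ⟨y, -, rfl⟩ := hzf
      refine ⟨y, ?_, rfl⟩
      have : ∀ j ≤ k, y ∈ F j := by
        intro j hj
        induction j with
        | zero => simp [h0]
        | succ j ih => exact key j y (ih (by omega)) (hanti hj hz)
      exact this k le_rfl
    · intro hz
      rw [Submodule.mem_smul_pointwise_iff_exists] at hz ⊢
      obtain ⟨y, hy, rfl⟩ := hz
      exact ⟨(F k).smul_mem f hy, y, trivial, rfl⟩

end Groth.Agent.S12118
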