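import Groth.Statements.S12121
import Groth.Agent.SkSeq.Basic

set_option autoImplicit false
universe u
open EGA4

namespace Groth.Agent.S12121

/-- Let A be a Noetherian ring, M a finite A-module (a coherent sheaf on X = Spec A) and k ≥ 1. Then M
has property (S_k) — depth M_p ≥ min(k, dim M_p) at every prime p — if and only if, for every basic
open set D(g) of X, every integer r < k and every M_g-regular sequence f_1, …, f_r in A_g, the
module M_g/(f_1, …, f_r)M_g has no embedded associated primes, i.e. no associated prime of it
strictly contains another one. (The published statement quantifies over all open subsets of a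
locally Noetherian scheme; both sides being local, over an affine scheme the basic open sets
suffice.) -/
theorem result (k : ℕ) (hk : 1 ≤ k) (A : Type u) [CommRing A] [IsNoetherianRing A]
    (M : Type u) [AddCommGroup M] [Module A M] [Module.Finite A M] :
    LocCoh.HasSk k A M ↔
      ∀ (g : A) (rs : List (Localization.Away g)), rs.length < k →
        RingTheory.Sequence.IsWeaklyRegular (LocalizedModule (Submonoid.powers g) M) rs →
        ∀ p ∈ associatedPrimes (Localization.Away g)
            (LocalizedModule (Submonoid.powers g) M ⧸
              (Ideal.ofList rs • (⊤ : Submodule (Localization.Away g) (LocalizedModule (Submonoid.powers g) M)))),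
          ∀ q ∈ associatedPrimes (Localization.Away g)
            (LocalizedModule (Submonoid.powers g) M ⧸
              (Ideal.ofList rs • (⊤ : Submodule (Localization.Away g) (LocalizedModule (Submonoid.powers g) M)))),
            p ≤ q → p = q := by
    constructor
    · intro h g rs hlen hreg p hp q hq hpq
      by_contra hne
      haveI : IsNoetherianRing (Localization.Away g) := IsLocalization.isNoetherianRing (Submonoid.powers g) _ ‹_›
      haveI : Module.Finite (Localization.Away g) (LocalizedModule (Submonoid.powers g) M) :=
        Module.Finite.of_isLocalizedModule (Submonoid.powers g) (LocalizedModule.mkLinearMap _ M)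
      haveI := hq.isPrime
      obtain ⟨h1, h2⟩ := SkSeq.drop_by_length rs _ hreg q (SkSeq.le_of_mem_associatedPrimes rs _ hq)
      rw [(SkSeq.depth_eq_zero_of_ass _ q).2 hq, zero_add] at h1
      have hk := (Alg6.hasSk_localization_iff (Submonoid.powers g) M k).2
        (fun q' _ _ => h q') q
      rw [← h1, ← h2] at hk
      have hpos := (SkSeq.supportDim_pos_iff_exists_ass _ q).2 ⟨p, hp, lt_of_le_of_ne hpq hne⟩
      obtain ⟨d, hd⟩ := WithBot.ne_bot_iff_exists.1 (ne_bot_of_gt hpos)
      rw [← hd] at hk hpos
      have hd1 : 1 ≤ d := Order.one_le_iff_pos.2 (WithBot.coe_lt_coe.1 hpos)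
      have hk' : min (k : ℕ∞) (d + rs.length) ≤ (rs.length : ℕ∞) := by
        refine WithBot.coe_le_coe.1 (le_trans (le_of_eq ?_) hk)
        push_cast
        rfl
      rcases min_le_iff.1 hk' with hc | hc
      · exact absurd (Nat.cast_le.1 hc) (by omega)
      · exact absurd ((add_le_add hd1 le_rfl).trans hc)
          (by rw [← Nat.cast_one, ← Nat.cast_add, Nat.cast_le]; omega)
    · intro H P hP
      by_contra hbad
      rw [not_le, lt_min_iff] at hbad
      obtain ⟨hbk, hbd⟩ := hbad
      obtain ⟨r, hr⟩ := ENat.ne_top_iff_exists.1 (show LocCoh.depth (Localization.AtPrime P)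
        (LocalizedModule P.primeCompl M) ≠ ⊤ from ne_top_of_lt (WithBot.coe_lt_coe.1 hbk))
      rw [← hr] at hbk hbd
      have hrk : r < k := Nat.cast_lt.1 (WithBot.coe_lt_coe.1 hbk)
      obtain ⟨g, hg, -, xs, hlen, hxs, hreg⟩ := SkSeq.exists_regular_list P r M hr.symm 1
        (fun h1 => hP.ne_top ((Ideal.eq_top_iff_one _).2 h1))
      haveI : IsNoetherianRing (Localization.Away g) := IsLocalization.isNoetherianRing (Submonoid.powers g) _ ‹_›
      haveI : Module.Finite (Localization.Away g) (LocalizedModule (Submonoid.powers g) M) :=
        Module.Finite.of_isLocalizedModule (Submonoid.powers g) (LocalizedModule.mkLinearMap _ M)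
      have hdisj : Disjoint (Submonoid.powers g : Set A) P := by
        rw [Set.disjoint_left]
        rintro _ ⟨n, rfl⟩ hn
        exact hg (hP.mem_of_pow_mem n hn)
      let q : Ideal (Localization.Away g) := P.map (algebraMap A _)
      haveI hq : q.IsPrime := IsLocalization.isPrime_of_isPrime_disjoint (Submonoid.powers g) _ P hP hdisj
      have hc : q.comap (algebraMap A (Localization.Away g)) = P :=
        IsLocalization.under_map_of_isPrime_disjoint (Submonoid.powers g) _ hP hdisj
      let rs := xs.map (algebraMap A (Localization.Away g))
      have hreg' : RingTheory.Sequence.IsWeaklyRegular (LocalizedModule (Submonoid.powers g) M) rs :=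
        (RingTheory.Sequence.isWeaklyRegular_map_algebraMap_iff _ _ _).2 hreg
      have hrsq : ∀ y ∈ rs, y ∈ q := by
        intro y hy
        obtain ⟨x, hx, rfl⟩ := List.mem_map.1 hy
        exact Ideal.mem_map_of_mem _ (hxs x hx)
      obtain ⟨h1, h2⟩ := SkSeq.drop_by_length rs _ hreg' q hrsq
      have key : ∀ (P' : Ideal A) [P'.IsPrime], P' = P →
          LocCoh.depth (Localization.AtPrime P') (LocalizedModule P'.primeCompl M) = r ∧
            ((r : ℕ∞) : WithBot ℕ∞) < Module.supportDim (Localization.AtPrime P') (LocalizedModule P'.primeCompl M) := by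
        intro P' _ e
        subst e
        exact ⟨hr.symm, hbd⟩
      obtain ⟨k1, k2⟩ := key (q.comap (algebraMap A (Localization.Away g))) hc
      rw [Alg6.depth_locLoc (Submonoid.powers g) M q, k1] at h1
      rw [Alg6.supportDim_locLoc (Submonoid.powers g) M q] at h2
      simp only [rs, List.length_map, hlen] at h1 h2
      have hass := (SkSeq.depth_eq_zero_of_ass _ q).1 (WithTop.add_right_cancel (ENat.natCast_ne_top r) (h1.trans (zero_add _).symm))
      have hpos : (0 : WithBot ℕ∞) < Module.supportDim (Localization.AtPrime q) (LocalizedModule q.primeCompl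
          (LocalizedModule (Submonoid.powers g) M ⧸
            (Ideal.ofList rs • ⊤ : Submodule (Localization.Away g) (LocalizedModule (Submonoid.powers g) M)))) := by
        by_contra hn
        refine absurd k2 (not_lt.2 ?_)
        rw [← h2]
        exact (add_le_add (not_lt.1 hn) le_rfl).trans (le_of_eq (zero_add _))
      obtain ⟨p, hp, hpq⟩ := (SkSeq.supportDim_pos_iff_exists_ass _ q).1 hpos
      exact hpq.ne (H g rs (by simpa [rs, hlen] using hrk) hreg' p hp q hass hpq.le)

end Groth.Agent.S12121
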