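import Groth.Statements.S12123
import Groth.Agent.EGA41Lib.ConsQS

set_option autoImplicit false
universe u
open EGA41

namespace Groth.Agent.S12123

open AlgebraicGeometry Topology in
/-- Let X be a quasi-separated scheme and X^cons its underlying set with the constructible topology,
generated by the quasi-compact open subsets and their complements (for X quasi-separated this is the
topology whose open sets are the ind-constructible subsets). Then X^cons is a Hausdorff, locally
compact, totally disconnected space. (The published statement also asserts that X^cons is Hausdorff
only if X is quasi-separated; for the topology used here that converse fails when X is not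
quasi-separated, where the two constructible topologies differ, so it is not part of this row.) -/
theorem result (X : Scheme.{u}) [QuasiSeparatedSpace X] :
    T2Space (WithConstructibleTopology X) ∧ LocallyCompactSpace (WithConstructibleTopology X) ∧
      TotallyDisconnectedSpace (WithConstructibleTopology X) := by
  haveI := SpecLib.t2Space_W (X := X)
  haveI : TotallySeparatedSpace (WithConstructibleTopology X) := by
    refine totallySeparatedSpace_iff_exists_isClopen.2 fun v w h => ?_
    obtain ⟨U, h1, h2, h3, h4⟩ := SpecLib.exists_clopen_separating
      (fun e => h (WithTopology.ofTopology_injective _ e) : v.ofTopology ≠ w.ofTopology)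
    exact ⟨{x | x.ofTopology ∈ U}, ⟨SpecLib.isClosed_W h1, WithConstructibleTopology.isOpen_iff.2 h2⟩, h3, h4⟩
  exact ⟨inferInstance, EGA41Lib.locallyCompactSpace_cons, inferInstance⟩

end Groth.Agent.S12123
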