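import Groth.Statements.S12124
import Groth.Agent.UnibConn.MoriNagata

set_option autoImplicit false
universe u
open CAlg

namespace Groth.Agent.S12124
open UnibConn

section Parts

variable {A : Type u} [CommRing A] [IsDomain A] [IsNoetherianRing A] [IsLocalRing A]
  {K : Type u} [Field K] [Algebra A K] [IsFractionRing A K] (C : Subalgebra A K) [Module.Finite A C]
  (hle : C ≤ integralClosure A K)

theorem isFractionRing_sub : IsFractionRing C K := by
  constructor; constructor
  · rintro ⟨c, hc⟩
    exact IsUnit.mk0 _ fun h => nonZeroDivisors.ne_zero hc (Subtype.ext h)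
  · intro z
    obtain ⟨r, a, ha, rfl⟩ := IsFractionRing.div_surjective A z
    have ha0 : algebraMap A K (a : A) ≠ 0 := fun h0 =>
      nonZeroDivisors.ne_zero ha (IsFractionRing.injective A K (h0.trans (map_zero _).symm))
    refine ⟨⟨algebraMap A C r, ⟨algebraMap A C a, mem_nonZeroDivisors_of_ne_zero fun h => ha0 (congrArg Subtype.val h)⟩⟩, ?_⟩
    show algebraMap A K r / algebraMap A K a * algebraMap A K a = _
    rw [div_mul_cancel₀ _ ha0]; rfl
  · intro x y h
    exact ⟨1, by rw [Subtype.ext h]⟩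

theorem isIntegral_iff_sub (y : K) : IsIntegral C y ↔ IsIntegral A y :=
  haveI : Algebra.IsIntegral A C := Algebra.IsIntegral.of_finite A C
  ⟨fun h => isIntegral_trans (A := C) y h, fun h => h.tower_top⟩

theorem isIntegralClosure_sub [Algebra C (integralClosure A K)] [IsScalarTower C (integralClosure A K) K] :
    IsIntegralClosure (integralClosure A K) C K :=
  ⟨fun _ _ h => Subtype.ext h, fun {x} => ⟨fun h => ⟨⟨x, (isIntegral_iff_sub C x).1 h⟩, rfl⟩,
    fun ⟨y, hy⟩ => hy ▸ (isIntegral_iff_sub C _).2 y.2⟩⟩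

theorem isLocalRing_norm (p : Ideal C) [p.IsPrime] [Algebra (Localization.AtPrime p) K]
    [IsScalarTower C (Localization.AtPrime p) K] (π : Pt A) (hπ : cC C hle π = p) (hbad : π.Bad)
    (hsep : ∀ M₁ M₂ : Ideal (integralClosure A K), M₁.IsPrime → M₂.IsPrime →
        (∃ π : Pt A, π.Bad ∧ M₁.comap (algebraMap A (integralClosure A K)) = π.centre) →
        M₁.comap (inclNorm C hle) = M₂.comap (inclNorm C hle) → M₁ = M₂) :
    IsLocalRing (integralClosure (Localization.AtPrime p) K) := by
  letI : Algebra C (integralClosure A K) := (inclNorm C hle).toAlgebra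
  haveI : IsScalarTower C (integralClosure A K) K := IsScalarTower.of_algebraMap_eq fun _ => rfl
  haveI := isIntegralClosure_sub C
  haveI := isFractionRing_sub C
  refine isLocalRing_normAtPrime C K (integralClosure A K) p fun M₁ M₂ h₁ h₂ e₁ e₂ => ?_
  refine hsep M₁ M₂ h₁ h₂ ⟨π, hbad, ?_⟩ (e₁.trans e₂.symm)
  rw [← comap_cC C hle π, hπ, ← e₁, Ideal.comap_comap]
  rfl

theorem exists_subring (L : Type u) [CommRing L] [Algebra L K] (h : IsLocalRing (integralClosure L K)) :
    ∃ D : Subring K, IsLocalRing D ∧ ∀ x, x ∈ D ↔ x ∈ integralClosure L K :=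
  ⟨(integralClosure L K).toSubring, h, fun _ => Iff.rfl⟩

theorem mem_norm_iff (p : Ideal C) [p.IsPrime] [Algebra (Localization.AtPrime p) K]
    [IsScalarTower C (Localization.AtPrime p) K] (x : K) :
    x ∈ integralClosure (Localization.AtPrime p) K ↔ Dp C p x := by
  haveI := isFractionRing_sub C
  refine (mem_normAtPrime_iff C K p x).trans ?_
  exact ⟨fun ⟨s, hs, h⟩ => ⟨s, hs, (isIntegral_iff_sub C _).1 h⟩,
    fun ⟨s, hs, h⟩ => ⟨s, hs, (isIntegral_iff_sub C _).2 h⟩⟩

include hle in
theorem good (π : Pt A) (hπ : ¬ π.Bad) (x : K) (hx : π.Pos K x) : Dp C (cC C hle π) x := by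
  obtain ⟨t, ht, hint⟩ := π.exists_isIntegral hπ hx
  exact ⟨algebraMap A C t, fun h => ht ((comap_cC C hle π).le h), hint⟩

include hle in
theorem partA (hsep : ∀ M₁ M₂ : Ideal (integralClosure A K), M₁.IsPrime → M₂.IsPrime →
        (∃ π : Pt A, π.Bad ∧ M₁.comap (algebraMap A (integralClosure A K)) = π.centre) →
        M₁.comap (inclNorm C hle) = M₂.comap (inclNorm C hle) → M₁ = M₂)
    (p : Ideal C) [p.IsPrime] (hp : p.height = 1) :
    ∃ V : ValuationSubring K, IsDiscreteValuationRing V ∧ ∀ x : K, x ∈ V ↔ Dp C p x := by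
  classical
  haveI := isFractionRing_sub C
  haveI hCint : Algebra.IsIntegral A C := Algebra.IsIntegral.of_finite A C
  haveI : IsNoetherianRing C := IsNoetherianRing.of_finite A C
  have hnz : ∀ (q : Ideal C) [q.IsPrime], q ≠ ⊥ → q.comap (algebraMap A C) ≠ ⊥ := fun q _ hq h =>
    hq (Ideal.eq_bot_of_comap_eq_bot h)
  obtain ⟨c, hc, hc0⟩ := Submodule.exists_mem_ne_zero_of_ne_bot (p := p) (fun h => by subst h; simp at hp)
  have hdvr : ∀ π : Pt A, cC C hle π = p → IsDiscreteValuationRing (π.valSubring K) := fun π hπ =>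
    π.isDiscreteValuationRing_valSubring (inclNorm C hle c) (hπ.ge hc) fun h0 => hc0 (Subtype.ext h0)
  by_cases hgood : ∃ π : Pt A, cC C hle π = p ∧ ¬ π.Bad
  · obtain ⟨π, rfl, hπ⟩ := hgood
    exact ⟨π.valSubring K, hdvr π rfl, fun x => ⟨good C hle π hπ x, pos_of_Dp C hle le_rfl⟩⟩
  push Not at hgood
  obtain ⟨π₀, hπ₀⟩ : ∃ π : Pt A, cC C hle π = p := by
    letI : Algebra C (integralClosure A K) := (inclNorm C hle).toAlgebra
    exact exists_centred C hle rfl p hp
  obtain ⟨a, ha, ha0⟩ := Submodule.exists_mem_ne_zero_of_ne_bot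
    (hnz p (fun h => by subst h; simp at hp))
  have hfinι : {π : Pt A | cC C hle π = p}.Finite := by
    refine (finite_points_mem (A := A) (fun Q _ => algebraMap (AdicCompletion (IsLocalRing.maximalIdeal A) A) (NQ Q)
      (algebraMap A _ a)) (fun Q _ hQ h0 => ?_)).subset fun π hπ => ?_
    · refine ha0 (injective_toFQ hQ ?_)
      rw [map_zero]
      exact (IsScalarTower.algebraMap_apply A (AdicCompletion (IsLocalRing.maximalIdeal A) A) (FQ Q) a).trans
        (congrArg Subtype.val h0)
    · have h2 : a ∈ π.centre := by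
        rw [← comap_cC C hle π, show cC C hle π = p from hπ]; exact ha
      exact h2
  haveI := hfinι.fintype
  obtain ⟨D, hDl, hDmem⟩ : ∃ D : Subring K, IsLocalRing D ∧ ∀ x, x ∈ D ↔ Dp C p x :=
    by
      letI := algAtPrime C K p
      haveI : IsScalarTower C (Localization.AtPrime p) K :=
        IsScalarTower.of_algebraMap_eq' (IsLocalization.lift_comp _).symm
      obtain ⟨D, h1, h2⟩ := exists_subring (Localization.AtPrime p)
        (isLocalRing_norm C hle p π₀ hπ₀ (hgood π₀ hπ₀) hsep)
      exact ⟨D, h1, fun x => (h2 x).trans (mem_norm_iff C p x)⟩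
  let V : {π : Pt A | cC C hle π = p} → ValuationSubring K := fun π => π.1.valSubring _
  have hD : ∀ x, x ∈ D ↔ ∀ i, x ∈ V i := fun x => by
    rw [hDmem, Dp_iff C hle hp]
    exact ⟨fun h i => h i.1 i.2, fun h π hπ => h ⟨π, hπ⟩⟩
  haveI : Nonempty {π : Pt A | cC C hle π = p} := ⟨⟨π₀, hπ₀⟩⟩
  obtain ⟨i, hi⟩ := exists_eq_of_inter (ValuationSubring.ofSubring D (mem_or_inv_mem_of_isLocalRing D V hD)) V hD
  exact ⟨V i, hdvr i.1 i.2, fun x => by rw [hi]; exact hDmem x⟩

theorem partB (hsep : ∀ M₁ M₂ : Ideal (integralClosure A K), M₁.IsPrime → M₂.IsPrime →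
        (∃ π : Pt A, π.Bad ∧ M₁.comap (algebraMap A (integralClosure A K)) = π.centre) →
        M₁.comap (inclNorm C hle) = M₂.comap (inclNorm C hle) → M₁ = M₂)
    (x : K) (h : ∀ (p : Ideal C) [p.IsPrime], p.height = 1 → Dp C p x) : IsIntegral A x := by
  classical
  haveI := isFractionRing_sub C
  haveI hCint : Algebra.IsIntegral A C := Algebra.IsIntegral.of_finite A C
  haveI : IsNoetherianRing C := IsNoetherianRing.of_finite A C
  have hnz : ∀ (q : Ideal C) [q.IsPrime], q ≠ ⊥ → q.comap (algebraMap A C) ≠ ⊥ := fun q _ hq h =>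
    hq (Ideal.eq_bot_of_comap_eq_bot h)
  by_contra hx
  have hx' : ¬ ∀ π : Pt A, π.Pos K x := fun h' => hx ((isIntegral_iff_forall_pos x).2 h')
  push Not at hx'
  obtain ⟨π', hπ'⟩ := hx'
  let neg : Set (Ideal C) := cC C hle '' {π | ¬ π.Pos K x}
  obtain ⟨z, hzmem, hmin⟩ := Set.Finite.exists_minimalFor id neg ((finite_not_pos x).image _)
    ⟨_, π', hπ', rfl⟩
  obtain ⟨π, hπx, rfl⟩ := hzmem
  haveI : (cC C hle π).IsPrime := Ideal.comap_isPrime _ _
  set z := cC C hle π with hz
  have hz0 : z ≠ ⊥ := centre_cC_ne_bot C hle hπx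
  have hnot1 : ¬ z.height ≤ 1 := fun h1 => by
    have h1' : z.height = 1 := le_antisymm h1 (Order.one_le_iff_ne_zero.2 fun h0 => hz0 (by
      rw [Ideal.height_eq_zero_iff, IsDomain.minimalPrimes_eq_singleton_bot] at h0; exact h0))
    exact hπx (pos_of_Dp C hle le_rfl (h z h1'))
  have hbad : π.Bad := by
    by_contra hg
    refine hnot1 (Ideal.height_le_iff.2 fun q hq hlt => ?_)
    haveI := hq
    have hq0 : q = ⊥ := by
      by_contra hq0
      haveI : (q.comap (algebraMap A C)).IsPrime := Ideal.comap_isPrime _ _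
      have h2 := Ideal.IsIntegral.comap_lt_comap (R := A) hlt
      have h3 := π.centre_minimal hg _ (hnz q hq0) (h2.le.trans (comap_cC C hle π).le)
      rw [h3, ← comap_cC C hle π] at h2
      exact lt_irrefl _ h2
    subst hq0
    simp
  letI := algAtPrime C K z
  haveI : IsScalarTower C (Localization.AtPrime z) K :=
    IsScalarTower.of_algebraMap_eq' (IsLocalization.lift_comp _).symm
  haveI := isFractionRing_atPrime C K z
  haveI : IsDomain (Localization.AtPrime z) :=
    IsLocalization.isDomain_localization z.primeCompl_le_nonZeroDivisors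
  haveI : IsNoetherianRing (Localization.AtPrime z) := IsLocalization.isNoetherianRing z.primeCompl _ ‹_›
  have hloc := isLocalRing_norm C hle z π hz.symm hbad hsep
  have hdim : 2 ≤ ringKrullDim (Localization.AtPrime z) := by
    rw [IsLocalization.AtPrime.ringKrullDim_eq_height z]
    have : (2 : ℕ∞) ≤ z.height := by
      rw [not_le] at hnot1
      exact Order.add_one_le_of_lt hnot1
    exact WithBot.coe_le_coe.2 this
  obtain ⟨s, hs, hpoles⟩ := exists_clear C hle z x
  set x₁ : K := (s : K) * x with hx₁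
  have hcen : ∀ ρ : Pt A, ¬ ρ.Pos K x₁ → cC C hle ρ = z := fun ρ hρ => by
    obtain ⟨h1, h2⟩ := hpoles ρ hρ
    exact le_antisymm h2 (hmin ⟨ρ, h1, rfl⟩ h2)
  let I : Ideal C :=
    { carrier := {c | IsIntegral A ((c : K) * x₁)}
      add_mem' := fun {u v} hu hv => by
        show IsIntegral A (((u + v : C) : K) * x₁)
        push_cast; rw [add_mul]; exact hu.add hv
      zero_mem' := by
        show IsIntegral A (((0 : C) : K) * x₁)
        push_cast; rw [zero_mul]; exact isIntegral_zero
      smul_mem' := fun c u hu => by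
        show IsIntegral A (((c * u : C) : K) * x₁)
        push_cast; rw [mul_assoc]
        exact (show IsIntegral A (c : K) from hle c.2).mul hu }
  have hrad : z ≤ I.radical := by
    intro c hc
    choose k hk using fun (ρ : {ρ : Pt A // cC C hle ρ = z}) =>
      ρ.1.exists_pow_pos (inclNorm C hle c) (ρ.2.ge hc) x₁
    let Z := (finite_not_pos (A := A) x₁).toFinset
    refine ⟨∑ ρ ∈ Z, (if h : cC C hle ρ = z then k ⟨ρ, h⟩ else 0), ?_⟩
    show IsIntegral A _
    push_cast
    refine (isIntegral_iff_forall_pos _).2 fun ρ => ?_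
    by_cases hρ : ρ.Pos K x₁
    · exact Pt.pos_mul (ρ.pos_of_isIntegral ((show IsIntegral A (c : K) from hle c.2).pow _)) hρ
    · refine hk ⟨ρ, hcen ρ hρ⟩ _ ?_
      refine le_trans (le_of_eq ?_) (Finset.single_le_sum (fun i _ => Nat.zero_le _)
        ((Set.Finite.mem_toFinset _).2 hρ : ρ ∈ Z))
      rw [dif_pos (hcen ρ hρ)]
  obtain ⟨k, hk⟩ := Ideal.exists_pow_le_of_le_radical_of_fg hrad (IsNoetherian.noetherian z)
  have hx1 : IsIntegral (Localization.AtPrime z) x₁ := by
    refine isIntegral_of_punctured K hloc hdim k fun i hi => ?_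
    rw [← Localization.AtPrime.map_eq_maximalIdeal, ← Ideal.map_pow,
      IsLocalization.mem_map_algebraMap_iff z.primeCompl] at hi
    obtain ⟨⟨⟨c, hc⟩, ⟨t, ht⟩⟩, hct⟩ := hi
    refine (mem_normAtPrime_iff C K z _).2 ⟨t, ht, ?_⟩
    have e := congrArg (algebraMap (Localization.AtPrime z) K) hct
    rw [map_mul, ← IsScalarTower.algebraMap_apply, ← IsScalarTower.algebraMap_apply] at e
    rw [← mul_assoc, mul_comm (algebraMap C K t), e]
    exact (isIntegral_iff_sub C _).2 (hk hc)
  obtain ⟨t, ht, htx⟩ := (mem_normAtPrime_iff C K z x₁).1 hx1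
  refine hπx (pos_of_Dp C hle le_rfl (p := z) ⟨t * s, fun h' => (Ideal.IsPrime.mem_or_mem inferInstance h').elim ht hs, ?_⟩)
  push_cast
  rw [mul_assoc]
  exact (isIntegral_iff_sub C _).1 htx

include hle in
theorem partC (x : K) : {p : Ideal C | p.IsPrime ∧ p.height = 1 ∧ ¬ Dp C p x}.Finite := by
  refine ((finite_not_pos (A := A) x).image (cC C hle)).subset ?_
  rintro p ⟨hp, hp1, hnot⟩
  haveI := hp
  rw [Dp_iff C hle hp1] at hnot
  push Not at hnot
  obtain ⟨π, hπ, hn⟩ := hnot
  exact ⟨π, hn, hπ⟩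

end Parts

theorem core {A : Type u} [CommRing A] [IsDomain A] [IsNoetherianRing A] [IsLocalRing A] :
    ∃ C : Subalgebra A (FractionRing A), Module.Finite A C ∧
      (∀ (p : Ideal C) [p.IsPrime], p.height = 1 →
        ∃ V : ValuationSubring (FractionRing A), IsDiscreteValuationRing V ∧
          ∀ x : FractionRing A, x ∈ V ↔ Dp C p x) ∧
      (∀ x : FractionRing A, x ∈ integralClosure A (FractionRing A) ↔
        ∀ (p : Ideal C) [p.IsPrime], p.height = 1 → Dp C p x) ∧
      (∀ x : FractionRing A, {p : Ideal C | p.IsPrime ∧ p.height = 1 ∧ ¬ Dp C p x}.Finite) := by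
  obtain ⟨C, hfin, hle, hsep⟩ := exists_separating A (FractionRing A)
  haveI := hfin
  refine ⟨C, hfin, fun p _ hp => partA C hle hsep p hp, fun x => ⟨fun hx p _ _ => ⟨1, p.one_notMem, ?_⟩,
    fun h => partB C hle hsep x h⟩, fun x => partC C hle x⟩
  rw [OneMemClass.coe_one, one_mul]; exact hx

/-- Let A be a Noetherian local domain with fraction field K and A' its integral closure in K. Then A'
is a Krull domain whose essential valuation rings come from a finite sub-A-algebra: there is a
sub-A-algebra C of K, finite over A, such that, writing V_p for the integral closure in K of the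
local ring C_p at a height-one prime p of C (the elements x of K with s x integral over C for some s
in C outside p), (a) each V_p is a discrete valuation ring with fraction field K, (b) A' is the
intersection of the V_p over all height-one primes p of C, and (c) every element of K lies in V_p
for all but finitely many p. (The published statement calls C local and also records that A' is
semi-local; this row does not assert that C is local, and the semi-locality of A' is a separate
result.) -/
theorem result {A : Type u} [CommRing A] [IsDomain A] [IsNoetherianRing A] [IsLocalRing A] :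
    ∃ C : Subalgebra A (FractionRing A), Module.Finite A C ∧
      (∀ (p : Ideal C) [p.IsPrime], p.height = 1 →
        ∃ V : ValuationSubring (FractionRing A), IsDiscreteValuationRing V ∧
          ∀ x : FractionRing A, x ∈ V ↔ ∃ s : C, s ∉ p ∧ IsIntegral C ((s : FractionRing A) * x)) ∧
      (∀ x : FractionRing A, x ∈ integralClosure A (FractionRing A) ↔
        ∀ (p : Ideal C) [p.IsPrime], p.height = 1 → ∃ s : C, s ∉ p ∧ IsIntegral C ((s : FractionRing A) * x)) ∧
      (∀ x : FractionRing A, {p : Ideal C | p.IsPrime ∧ p.height = 1 ∧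
        ¬ ∃ s : C, s ∉ p ∧ IsIntegral C ((s : FractionRing A) * x)}.Finite) := by
  obtain ⟨C, hC, h1, h2, h3⟩ := core (A := A)
  haveI := hC
  haveI : Algebra.IsIntegral A C := Algebra.IsIntegral.of_finite A C
  have key : ∀ (p : Ideal C) (x : FractionRing A), Dp C p x ↔
      ∃ s : C, s ∉ p ∧ IsIntegral C ((s : FractionRing A) * x) := fun p x =>
    ⟨fun ⟨s, hs, h⟩ => ⟨s, hs, h.tower_top⟩, fun ⟨s, hs, h⟩ => ⟨s, hs, isIntegral_trans (A := C) _ h⟩⟩
  simp only [key] at h1 h2 h3
  exact ⟨C, hC, h1, h2, h3⟩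

end Groth.Agent.S12124
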