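import Groth.Statements.S12126
import Groth.Agent.CatDim22.Basic
-- import your own Groth.Agent.* helpers here

set_option autoImplicit false
universe u
open CAlg

namespace Groth.Agent.S12126

/-- Let A be a Noetherian local domain with maximal ideal m and residue field k, B a domain containing A
which is an A-algebra of finite type, q a prime ideal of B over m and k' the residue field of B_q.
If for every sub-A-algebra A' of finite type of the polynomial ring B[T] and every maximal ideal m'
of A' lying over m the local ring A'_{m'} is catenary, then ht(q) + trdeg_k k' = dim(A) + trdeg_A B,
stated with heights and transcendence degrees as cardinals (the transcendence degree of B over A is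
that of the fraction fields, and that of k' over k is that of B/q over A/m). -/
theorem result (R : Type u) [CommRing R] [IsDomain R]
    [IsNoetherianRing R] [IsLocalRing R] (S : Type u) [CommRing S] [IsDomain S] [Algebra R S]
    [FaithfulSMul R S] [Algebra.FiniteType R S] (q : Ideal S) [q.IsPrime]
    [q.LiesOver (IsLocalRing.maximalIdeal R)]
    (hcat : ∀ A' : Subalgebra R (Polynomial S), A'.FG →
      ∀ (m' : Ideal A') [m'.IsMaximal], m'.LiesOver (IsLocalRing.maximalIdeal R) →
        CAlg.IsCatenary (Localization.AtPrime m')) :
    (q.height : Cardinal.{u}) + Algebra.trdeg (R ⧸ IsLocalRing.maximalIdeal R) (S ⧸ q) =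
      ((IsLocalRing.maximalIdeal R).height : Cardinal.{u}) + Algebra.trdeg R S := by
  exact CatDim22.main R S q hcat

end Groth.Agent.S12126
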