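import Groth.Statements.S12132
import Groth.Agent.LenIneq5.Apply

set_option autoImplicit false
universe u
open AssSch

namespace Groth.Agent.S12132

/-- Let B be a Noetherian local ring (the local ring of X at the generic point z of an irreducible
component Z of the support of F/tF), t an element of its maximal ideal, and M a finite B-module (the
stalk F_z) such that the support of M has positive dimension (Z is not an irreducible component of
Supp F) and M/tM has finite length (z is a maximal point of Supp(F/tF)). Then the length of M/tM is
at least the sum, over the primes p of B minimal over the annihilator of M (the generic points of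
the irreducible components of Supp F through z), of the lengths of the B_p-modules M_p; and the two
are equal if and only if t is a non-zero-divisor on M and for every such p the image of t generates
the maximal ideal of B/p (so that B/p is a discrete valuation ring with uniformizer t). -/
theorem result {B : Type u} [CommRing B] [IsNoetherianRing B]
    [IsLocalRing B] (t : B) (ht : t ∈ IsLocalRing.maximalIdeal B)
    (M : Type u) [AddCommGroup M] [Module B M] [Module.Finite B M]
    (hdim : 0 < Module.supportDim B M)
    (hfin : Module.length B (M ⧸ (Ideal.span {t} • (⊤ : Submodule B M))) ≠ ⊤) :
    (∑ᶠ p : (Module.annihilator B M).minimalPrimes,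
        haveI : p.1.IsPrime := p.2.1.1
        Module.length (Localization.AtPrime p.1) (LocalizedModule p.1.primeCompl M)) ≤
      Module.length B (M ⧸ (Ideal.span {t} • (⊤ : Submodule B M))) ∧
    ((∑ᶠ p : (Module.annihilator B M).minimalPrimes,
        haveI : p.1.IsPrime := p.2.1.1
        Module.length (Localization.AtPrime p.1) (LocalizedModule p.1.primeCompl M)) =
      Module.length B (M ⧸ (Ideal.span {t} • (⊤ : Submodule B M))) ↔
    IsSMulRegular M t ∧
      ∀ p : (Module.annihilator B M).minimalPrimes,
        Ideal.map (Ideal.Quotient.mk p.1) (IsLocalRing.maximalIdeal B) =
          Ideal.span {Ideal.Quotient.mk p.1 t}) := by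
  exact Groth.Agent.LenIneq5.length_support t ht hdim hfin

end Groth.Agent.S12132
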