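import Groth.Statements.S12133
import Groth.Agent.Proj16.IntGraded

set_option autoImplicit false
universe u
open EGA2

namespace Groth.Agent.S12133

open CategoryTheory AlgebraicGeometry Opposite in
/-- Let Y be a scheme, 𝒮 a quasi-coherent positively graded O_Y-algebra, and (U_i) a finite cover of Y
by affine open sets such that each graded ring 𝒮(U_i) is an algebra of finite type over O_Y(U_i).
Then there is an integer d > 0 such that for every i: 𝒮(U_i)_{nd} = (𝒮(U_i)_d)^n for all n > 0 (as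
additive subgroups of the ring 𝒮(U_i); that is, 𝒮^{(d)} is generated by 𝒮_d), and 𝒮(U_i)_d is a
finitely generated module over the degree-zero subring 𝒮(U_i)_0. (The published statement says 𝒮_d
is an O_Y-module of finite type; its proof gives finite generation over 𝒮_0, which is what is stated
here — for 𝒮 = O_Y[x][T] with x of degree 0 and T of degree 1 over an affine Y, 𝒮 is of finite type
but 𝒮_1 = O_Y[x] T is not a finitely generated O_Y-module.) -/
theorem result {Y : Scheme.{u}} (𝒮 : RelProj.QCGrAlg Y)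
    {ι : Type u} [Finite ι] (U : ι → Y.Opens) (hU : ∀ i, IsAffineOpen (U i)) (hcov : ⨆ i, U i = ⊤)
    (hft : ∀ i, (𝒮.str.app (op (U i))).hom.FiniteType) :
    ∃ d : ℕ, 0 < d ∧ ∀ i,
      (∀ n : ℕ, 0 < n →
        AddSubgroup.toIntSubmodule (𝒮.deg (U i) (hU i) (n * d)) =
          AddSubgroup.toIntSubmodule (𝒮.deg (U i) (hU i) d) ^ n) ∧
      ∃ T : Finset (𝒮.presheaf.obj (op (U i))),
        (↑T : Set (𝒮.presheaf.obj (op (U i)))) ⊆ (𝒮.deg (U i) (hU i) d : Set (𝒮.presheaf.obj (op (U i)))) ∧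
        AddSubgroup.toIntSubmodule (𝒮.deg (U i) (hU i) d) =
          AddSubgroup.toIntSubmodule (𝒮.deg (U i) (hU i) 0) *
            Submodule.span ℤ (↑T : Set (𝒮.presheaf.obj (op (U i)))) := by
  cases nonempty_fintype ι
  have hft' : ∀ i, Algebra.FiniteType (𝒮.deg (U i) (hU i) 0) (𝒮.presheaf.obj (op (U i))) :=
    fun i ↦ Groth.Agent.Proj16.finiteType_degZero _ _ (hft i) (𝒮.str_mem _ _)
  choose h hh hpow using fun i ↦
    haveI : Algebra.FiniteType (Groth.Agent.Proj16.intDeg (𝒮.deg (U i) (hU i)) 0)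
        (𝒮.presheaf.obj (op (U i))) := hft' i
    Groth.Agent.Proj16.exists_pow_degree_eq (Groth.Agent.Proj16.intDeg (𝒮.deg (U i) (hU i)))
  refine ⟨∏ i, h i, Finset.prod_pos fun i _ ↦ hh i, fun i ↦ ⟨fun n hn ↦ ?_,
    haveI := hft' i
    Groth.Agent.Proj16.exists_finset_deg_eq (𝒮.deg (U i) (hU i)) _⟩⟩
  obtain ⟨k, hk⟩ := Finset.dvd_prod_of_mem h (Finset.mem_univ i)
  have hk0 : 0 < k := by
    have hp : 0 < ∏ i, h i := Finset.prod_pos fun i _ ↦ hh i
    rw [hk] at hp
    exact pos_of_mul_pos_right hp (Nat.zero_le _)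
  change Groth.Agent.Proj16.intDeg (𝒮.deg (U i) (hU i)) _ =
    Groth.Agent.Proj16.intDeg (𝒮.deg (U i) (hU i)) _ ^ n
  rw [hk, mul_comm (h i) k, ← mul_assoc, hpow i _ (Nat.mul_pos hn hk0), hpow i _ hk0, ← pow_mul,
    mul_comm k n]

end Groth.Agent.S12133
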