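import Groth.Statements.S12134
import Groth.Agent.GrFlat5.RedStrat
import Groth.Agent.FlatMisc.RingPullback
import Groth.Agent.GrFlat5.Present

set_option autoImplicit false
universe u
open scoped TensorProduct
open EGA43

namespace Groth.Agent.S12134

open TensorProduct Groth.Agent.GrFlat5

theorem flat_map_mkQ {T N : Type u} [CommRing T] [AddCommGroup N] [Module T N] (R₁ R₂ : Submodule T N)
    (h : R₁ ≤ R₂) [Module.Flat T (N ⧸ R₁)] [Module.Flat T (N ⧸ R₂)] :
    Module.Flat T ↥(Submodule.map R₁.mkQ R₂) :=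
  FlatMisc.flat_of_exact (Submodule.map R₁.mkQ R₂).subtype (Submodule.factor h) Subtype.val_injective
    (Submodule.factor_surjective h) (LinearMap.exact_iff.2 (by
      rw [Submodule.range_subtype, Submodule.factor, Submodule.mapQ, Submodule.ker_liftQ, LinearMap.comp_id,
        Submodule.ker_mkQ]))

theorem flat_gr {A₀ M : Type u} [CommRing A₀] [AddCommGroup M] [Module A₀ M] (T : Type u) [CommRing T]
    [Algebra A₀ T] (N₁ N₂ : Submodule A₀ M) (hle : N₁ ≤ N₂) [Module.Flat T (T ⊗[A₀] (M ⧸ N₁))]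
    [Module.Flat T (T ⊗[A₀] (M ⧸ N₂))] :
    Module.Flat T ↥(Submodule.map (LinearMap.range (N₁.subtype.baseChange T)).mkQ
      (LinearMap.range (N₂.subtype.baseChange T))) := by
  obtain ⟨e₁⟩ := nonempty_quot_range_equiv T N₁
  obtain ⟨e₂⟩ := nonempty_quot_range_equiv T N₂
  haveI := Module.Flat.of_linearEquiv e₁
  haveI := Module.Flat.of_linearEquiv e₂
  refine flat_map_mkQ _ _ ?_
  rw [show N₁.subtype = N₂.subtype ∘ₗ Submodule.inclusion hle from rfl, LinearMap.baseChange_comp]
  exact LinearMap.range_comp_le_range _ _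

theorem range_comap_away_quotient {A : Type u} [CommRing A] (r : Ideal A) (f : A) :
    Set.range (PrimeSpectrum.comap (algebraMap A (Localization.Away (Ideal.Quotient.mk r f)))) =
      PrimeSpectrum.zeroLocus (r : Set A) ∩ (PrimeSpectrum.basicOpen f : Set (PrimeSpectrum A)) := by
  rw [IsScalarTower.algebraMap_eq A (A ⧸ r) (Localization.Away (Ideal.Quotient.mk r f)),
    PrimeSpectrum.comap_comp, Set.range_comp,
    PrimeSpectrum.localization_away_comap_range (Localization.Away (Ideal.Quotient.mk r f)) (Ideal.Quotient.mk r f)]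
  ext q
  constructor
  · rintro ⟨x, hx, rfl⟩
    refine ⟨fun y hy => ?_, hx⟩
    show Ideal.Quotient.mk r y ∈ x.asIdeal
    rw [Ideal.Quotient.eq_zero_iff_mem.2 hy]
    exact zero_mem _
  · rintro ⟨hq, hf⟩
    have : q ∈ Set.range (PrimeSpectrum.comap (algebraMap A (A ⧸ r))) := by
      rw [range_comap_of_surjective _ (algebraMap A (A ⧸ r)) Ideal.Quotient.mk_surjective]
      exact fun y hy => hq (Ideal.Quotient.eq_zero_iff_mem.1 hy)
    obtain ⟨x, rfl⟩ := this
    exact ⟨x, hf, rfl⟩


open AlgebraicGeometry CategoryTheory in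
/-- Suppose A₀ is a Noetherian ring and B₀ is a finitely generated A₀-algebra; fix an ideal J₀ ⊆ B₀ and
a finite B₀-module M₀. Then Spec A₀ admits finitely many affine subschemes S_1, …, S_m — presented
as immersions Spec A_i → Spec A₀ — whose underlying sets are mutually disjoint with union all of
Spec A₀, such that each S_i is open in S_i ∪ S_{i+1} ∪ … ∪ S_m, and such that for each i, setting
N_i = A_i ⊗_{A₀} M₀, the graded module associated to the J₀-adic filtration on N_i is A_i-flat.
Concretely, for every n the A_i-module J₀ⁿN_i / J₀ⁿ⁺¹N_i is flat, where this quotient is encoded as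
the image of J₀ⁿN_i inside N_i / J₀ⁿ⁺¹N_i, and J₀ⁿN_i denotes the image in N_i of A_i ⊗_{A₀} J₀ⁿM₀. -/
theorem result {A₀ : Type u} [CommRing A₀] [IsNoetherianRing A₀]
    {B₀ : Type u} [CommRing B₀] [Algebra A₀ B₀] [Algebra.FiniteType A₀ B₀] (J₀ : Ideal B₀)
    (M₀ : Type u) [AddCommGroup M₀] [Module B₀ M₀] [Module A₀ M₀] [IsScalarTower A₀ B₀ M₀]
    [Module.Finite B₀ M₀] :
    ∃ (m : ℕ) (A : Fin m → Type u) (_ : ∀ i, CommRing (A i)) (_ : ∀ i, Algebra A₀ (A i)),
      (∀ i, IsImmersion (Spec.map (CommRingCat.ofHom (algebraMap A₀ (A i))))) ∧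
      (∀ i j, i ≠ j → Disjoint (Set.range (Spec.map (CommRingCat.ofHom (algebraMap A₀ (A i)))))
        (Set.range (Spec.map (CommRingCat.ofHom (algebraMap A₀ (A j)))))) ∧
      (⋃ i, Set.range (Spec.map (CommRingCat.ofHom (algebraMap A₀ (A i)))) = Set.univ) ∧
      (∀ i, ∃ U : Set (Spec (CommRingCat.of A₀)), IsOpen U ∧
        U ∩ (⋃ j, ⋃ (_ : i ≤ j), Set.range (Spec.map (CommRingCat.ofHom (algebraMap A₀ (A j))))) =
          Set.range (Spec.map (CommRingCat.ofHom (algebraMap A₀ (A i))))) ∧
      ∀ i (n : ℕ), Module.Flat (A i)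
        ↥(Submodule.map
            (LinearMap.range (LinearMap.baseChange (A i)
              ((J₀ ^ (n + 1) • (⊤ : Submodule B₀ M₀)).restrictScalars A₀).subtype)).mkQ
            (LinearMap.range (LinearMap.baseChange (A i)
              ((J₀ ^ n • (⊤ : Submodule B₀ M₀)).restrictScalars A₀).subtype))) := by
    classical
    haveI : IsNoetherianRing B₀ := Algebra.FiniteType.isNoetherianRing A₀ B₀
    haveI : Algebra.FinitePresentation A₀ B₀ := Algebra.FinitePresentation.of_finiteType.1 ‹_›
    haveI : Module.FinitePresentation B₀ M₀ := Module.finitePresentation_of_finite B₀ M₀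
    obtain ⟨R₀, hR₀, ⟨P⟩⟩ := exists_presentation (A := A₀) (I := J₀) (M := M₀) (IsNoetherian.noetherian J₀)
    haveI : Algebra.FiniteType ℤ R₀ := (Subalgebra.fg_iff_finiteType R₀).1 hR₀
    haveI : IsNoetherianRing R₀ := Algebra.FiniteType.isNoetherianRing ℤ R₀
    obtain ⟨l₀, hl₀, hproj⟩ := exists_reduced_strat P.K P.J (⊥ : Ideal R₀)
    rw [bot_sup_eq] at hl₀
    let a : Fin l₀.length → A₀ := fun i => algebraMap R₀ A₀ l₀[i.1]
    let r : Fin l₀.length → Ideal A₀ := fun i =>
      ((Ideal.span {x | x ∈ l₀.take i.1}).map (algebraMap R₀ A₀)).radical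
    have hmem : ∀ i j : Fin l₀.length, i < j → a i ∈ r j := fun i j hij =>
      Ideal.le_radical (Ideal.mem_map_of_mem _ (Ideal.subset_span
        (List.mem_take_iff_getElem.2 ⟨i.1, by omega, rfl⟩)))
    let A : Fin l₀.length → Type u := fun i => Localization.Away (Ideal.Quotient.mk (r i) (a i))
    have hrange : ∀ i, Set.range (Spec.map (CommRingCat.ofHom (algebraMap A₀ (A i)))) =
        PrimeSpectrum.zeroLocus (r i : Set A₀) ∩ (PrimeSpectrum.basicOpen (a i) : Set (PrimeSpectrum A₀)) :=
      fun i => range_comap_away_quotient (r i) (a i)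
    have hnot : ∀ i j : Fin l₀.length, i < j → ∀ q : PrimeSpectrum A₀,
        a i ∉ q.asIdeal → q ∈ Set.range (Spec.map (CommRingCat.ofHom (algebraMap A₀ (A j)))) → False := by
      intro i j hij q hq hqj
      rw [hrange] at hqj
      exact hq (hqj.1 (hmem i j hij))
    refine ⟨l₀.length, A, fun i => inferInstance, fun i => inferInstance, fun i => ?_, ?_, ?_, fun i => ?_,
      fun i n => ?_⟩
    · rw [show algebraMap A₀ (A i) = (algebraMap (A₀ ⧸ r i) (A i)).comp (Ideal.Quotient.mk (r i)) from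
        IsScalarTower.algebraMap_eq A₀ (A₀ ⧸ r i) (A i), CommRingCat.ofHom_comp, Spec.map_comp]
      haveI : IsOpenImmersion (Spec.map (CommRingCat.ofHom (algebraMap (A₀ ⧸ r i) (A i)))) :=
        IsOpenImmersion.of_isLocalization (Ideal.Quotient.mk (r i) (a i))
      haveI : IsClosedImmersion (Spec.map (CommRingCat.ofHom (Ideal.Quotient.mk (r i)))) :=
        IsClosedImmersion.spec_of_surjective _ Ideal.Quotient.mk_surjective
      infer_instance
    · intro i j hij
      rw [Set.disjoint_left]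
      intro q hqi hqj
      rcases lt_or_gt_of_ne hij with h | h
      · refine hnot i j h q ?_ hqj
        rw [hrange] at hqi
        exact hqi.2
      · refine hnot j i h q ?_ hqi
        rw [hrange] at hqj
        exact hqj.2
    · refine Set.eq_univ_of_forall fun (q : PrimeSpectrum A₀) => ?_
      have hex : ∃ k, ∃ hk : k < l₀.length, a ⟨k, hk⟩ ∉ q.asIdeal := by
        by_contra h
        push_neg at h
        have h1 : (Ideal.span {x | x ∈ l₀}).map (algebraMap R₀ A₀) ≤ q.asIdeal := by
          rw [Ideal.map_le_iff_le_comap, Ideal.span_le]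
          intro x hx
          obtain ⟨k, hk, rfl⟩ := List.mem_iff_getElem.1 hx
          exact h k hk
        rw [hl₀, Ideal.map_top] at h1
        exact q.isPrime.ne_top (top_le_iff.1 h1)
      obtain ⟨hk, hkq⟩ := Nat.find_spec hex
      refine Set.mem_iUnion.2 ⟨⟨_, hk⟩, ?_⟩
      rw [hrange]
      refine ⟨?_, hkq⟩
      show r _ ≤ q.asIdeal
      rw [Ideal.IsPrime.radical_le_iff q.isPrime, Ideal.map_le_iff_le_comap, Ideal.span_le]
      intro x hx
      obtain ⟨j, hj, rfl⟩ := List.mem_take_iff_getElem.1 hx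
      by_contra hjq
      exact Nat.find_min hex (show j < Nat.find hex by dsimp only at hj; omega) ⟨by omega, hjq⟩
    · refine ⟨(PrimeSpectrum.basicOpen (a i) : Set (PrimeSpectrum A₀)), (PrimeSpectrum.basicOpen (a i)).isOpen, ?_⟩
      ext q
      constructor
      · rintro ⟨hq, hq'⟩
        obtain ⟨j, hij, hqj⟩ : ∃ j, i ≤ j ∧ q ∈ Set.range (Spec.map (CommRingCat.ofHom (algebraMap A₀ (A j)))) := by
          simpa using hq'
        rcases hij.eq_or_lt with rfl | h
        · exact hqj
        · exact (hnot i j h q hq hqj).elim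
      · intro hq
        refine ⟨?_, Set.mem_iUnion₂.2 ⟨i, le_rfl, hq⟩⟩
        rw [hrange] at hq
        exact hq.2
    · haveI : IsReduced (A₀ ⧸ r i) := (Ideal.isRadical_iff_quotient_reduced _).1 (Ideal.radical_isRadical _)
      haveI : IsReduced (A i) := isReduced_localizationPreserves (R := A₀ ⧸ r i) (Submonoid.powers (Ideal.Quotient.mk (r i) (a i))) (A i) ‹_›
      let N : ℕ → Submodule A₀ M₀ := fun k => (J₀ ^ k • (⊤ : Submodule B₀ M₀)).restrictScalars A₀
      have hu : IsUnit (algebraMap R₀ (A i) l₀[i.1]) := by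
        rw [IsScalarTower.algebraMap_apply R₀ A₀ (A i), IsScalarTower.algebraMap_apply A₀ (A₀ ⧸ r i) (A i)]
        exact IsLocalization.Away.algebraMap_isUnit _
      have hmap : ((⊥ : Ideal R₀) ⊔ Ideal.span {x | x ∈ l₀.take i.1}).map (algebraMap R₀ (A i)) = ⊥ := by
        rw [bot_sup_eq, Ideal.map_eq_bot_iff_le_ker]
        intro x hx
        have hx' : algebraMap A₀ (A₀ ⧸ r i) (algebraMap R₀ A₀ x) = 0 :=
          Ideal.Quotient.eq_zero_iff_mem.2 (Ideal.le_radical (Ideal.mem_map_of_mem _ hx))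
        rw [RingHom.mem_ker, IsScalarTower.algebraMap_apply R₀ A₀ (A i),
          IsScalarTower.algebraMap_apply A₀ (A₀ ⧸ r i) (A i), hx', map_zero]
      have hflat : ∀ k, Module.Flat (A i) (A i ⊗[A₀] (M₀ ⧸ N k)) := by
        intro k
        haveI := hproj i.1 i.2 (A i) hu hmap k
        obtain ⟨e₂⟩ := P.nonempty_equiv k
        exact Module.Flat.of_linearEquiv ((e₂.symm.baseChange A₀ (A i) _ _).trans
          (TensorProduct.AlgebraTensorModule.cancelBaseChange R₀ A₀ (A i) (A i) (Qk P.K P.J k)))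
      haveI := hflat n
      haveI := hflat (n + 1)
      have hle : (J₀ ^ (n + 1) • (⊤ : Submodule B₀ M₀)) ≤ J₀ ^ n • ⊤ := Submodule.smul_mono_left (Ideal.pow_le_pow_right n.le_succ)
      exact flat_gr (A i) (N (n + 1)) (N n) (fun x hx => hle hx)

end Groth.Agent.S12134
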