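import Groth.Statements.S12135
import Groth.Agent.EGA41Lib.ConsX
import Mathlib.Topology.Maps.Proper.Basic

set_option autoImplicit false
universe u
open EGA41

namespace Groth.Agent.S12135

open AlgebraicGeometry Topology in
/-- Let f : X → Y be a morphism of schemes with X and Y quasi-separated, and let X^cons, Y^cons denote
the underlying sets with the constructible topology (generated by the quasi-compact open subsets and
their complements; for quasi-separated schemes the open sets are exactly the ind-constructible
subsets). Then f is quasi-compact if and only if the map X^cons → Y^cons underlying f is proper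
(continuous and universally closed). (The published statement is for arbitrary schemes with the
ind-constructible topology; this row covers the quasi-separated case, where that topology is the one
used here.) -/
theorem result {X Y : Scheme.{u}} [QuasiSeparatedSpace X]
    [QuasiSeparatedSpace Y] (f : X ⟶ Y) :
    QuasiCompact f ↔ @IsProperMap X Y (constructibleTopology X) (constructibleTopology Y) f := by
  have hle : ∀ {Z : Scheme.{u}}, constructibleTopology Z ≤ (inferInstance : TopologicalSpace Z) := by
    intro Z U hU
    obtain ⟨S, hS, rfl⟩ := PrespectralSpace.isTopologicalBasis.open_eq_sUnion hU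
    exact @isOpen_sUnion Z (constructibleTopology Z) S fun s hs =>
      (hS hs).2.isOpen_constructibleTopology_of_isOpen (hS hs).1
  -- compact opens are compact for the constructible topology
  have hc : ∀ {Z : Scheme.{u}} [QuasiSeparatedSpace Z] (U : Set Z), IsOpen U → IsCompact U →
      @IsCompact Z (constructibleTopology Z) U := by
    intro Z _ U hU hU'
    have hcov : ∀ z ∈ U, ∃ V : Z.Opens, IsAffineOpen V ∧ z ∈ V ∧ (V : Set Z) ⊆ U := fun z hz => by
      obtain ⟨_, ⟨V, hV, rfl⟩, hzV, hVU⟩ := Z.isBasis_affineOpens.exists_subset_of_mem_open hz hU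
      exact ⟨V, hV, hzV, hVU⟩
    choose V hV hzV hVU using hcov
    obtain ⟨t, ht⟩ := hU'.elim_finite_subcover (fun z : U => (V z.1 z.2 : Set Z)) (fun z => (V z.1 z.2).isOpen)
      (fun z hz => Set.mem_iUnion.mpr ⟨⟨z, hz⟩, hzV z hz⟩)
    have he : U = ⋃ z ∈ t, (V z.1 z.2 : Set Z) :=
      Set.Subset.antisymm ht (Set.iUnion₂_subset fun z _ => hVU z.1 z.2)
    rw [he]
    refine @Finset.isCompact_biUnion Z _ (constructibleTopology Z) t _ fun z _ => ?_
    haveI := EGA41Lib.spectralSpace_affine (hV z.1 z.2)
    have hs : IsSpectralMap (Subtype.val : (V z.1 z.2 : Set Z) → Z) :=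
      ⟨continuous_subtype_val, fun W hW hW' => by
        rw [Subtype.isCompact_iff, Subtype.image_preimage_coe]
        exact QuasiSeparatedSpace.inter_isCompact _ _ (V z.1 z.2).isOpen (hV z.1 z.2).isCompact hW hW'⟩
    have := @IsCompact.image _ _ (constructibleTopology _) (constructibleTopology Z) Set.univ Subtype.val
      (@isCompact_univ _ (constructibleTopology _) SpecLib.compactSpace_cons) (SpecLib.IsSpectralMap.continuous_cons hs)
    rwa [Set.image_univ, Subtype.range_coe] at this
  constructor
  · intro hqc
    have hcont : @Continuous X Y (constructibleTopology X) (constructibleTopology Y) f.base :=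
      SpecLib.IsSpectralMap.continuous_cons (quasiCompact_iff_isSpectralMap.mp hqc)
    haveI ht2 : @T2Space Y (constructibleTopology Y) := by
      refine @T2Space.mk Y (constructibleTopology Y) fun x y hxy => ?_
      obtain ⟨W, hW, hW'⟩ := exists_isOpen_xor'_mem hxy
      rcases hW' with ⟨hxW, hyW⟩ | ⟨hyW, hxW⟩
      · obtain ⟨_, ⟨V, hV, rfl⟩, hxV, hVW⟩ := Y.isBasis_affineOpens.exists_subset_of_mem_open hxW hW
        exact ⟨V, (V : Set Y)ᶜ, hV.isCompact.isOpen_constructibleTopology_of_isOpen V.isOpen,
          (show IsCompact (V : Set Y)ᶜᶜ by rw [compl_compl]; exact hV.isCompact).isOpen_constructibleTopology_of_isClosed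
            V.isOpen.isClosed_compl, hxV, fun h => hyW (hVW h), disjoint_compl_right⟩
      · obtain ⟨_, ⟨V, hV, rfl⟩, hyV, hVW⟩ := Y.isBasis_affineOpens.exists_subset_of_mem_open hyW hW
        exact ⟨(V : Set Y)ᶜ, V, (show IsCompact (V : Set Y)ᶜᶜ by rw [compl_compl]; exact hV.isCompact).isOpen_constructibleTopology_of_isClosed
            V.isOpen.isClosed_compl, hV.isCompact.isOpen_constructibleTopology_of_isOpen V.isOpen,
          fun h => hxW (hVW h), hyV, disjoint_compl_left⟩
    have hpre : ∀ V : Y.Opens, IsAffineOpen V → @IsCompact X (constructibleTopology X) (f.base ⁻¹' V) :=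
      fun V hV => hc _ (f ⁻¹ᵁ V).isOpen (f.isCompact_preimage hV.isCompact)
    refine @isProperMap_iff_isClosedMap_and_compact_fibers X Y (constructibleTopology X) (constructibleTopology Y) f.base |>.mpr
      ⟨hcont, fun C hC => ?_, fun y => ?_⟩
    · refine @IsClosed.mk Y (constructibleTopology Y) _ ?_
      refine (@isOpen_iff_forall_mem_open Y (constructibleTopology Y) _).mpr fun y hy => ?_
      obtain ⟨_, ⟨V, hV, rfl⟩, hyV, -⟩ :=
        Y.isBasis_affineOpens.exists_subset_of_mem_open (Set.mem_univ y) isOpen_univ
      have hK : @IsCompact Y (constructibleTopology Y) (f.base '' (f.base ⁻¹' V ∩ C)) :=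
        @IsCompact.image X Y (constructibleTopology X) (constructibleTopology Y) _ f.base
          (@IsCompact.inter_right X (constructibleTopology X) _ _ (hpre V hV) hC) hcont
      refine ⟨(V : Set Y) ∩ (f.base '' (f.base ⁻¹' V ∩ C))ᶜ, fun z hz hzC => ?_,
        @IsOpen.inter Y (constructibleTopology Y) _ _ (hle _ V.isOpen)
          (@IsClosed.isOpen_compl Y (constructibleTopology Y) _ (@IsCompact.isClosed Y (constructibleTopology Y) ht2 _ hK)),
        hyV, fun h => hy ?_⟩
      · obtain ⟨w, hw, rfl⟩ := hzC
        exact hz.2 ⟨w, ⟨hz.1, hw⟩, rfl⟩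
      · obtain ⟨w, hw, rfl⟩ := h
        exact ⟨w, hw.2, rfl⟩
    · obtain ⟨_, ⟨V, hV, rfl⟩, hyV, -⟩ :=
        Y.isBasis_affineOpens.exists_subset_of_mem_open (Set.mem_univ y) isOpen_univ
      exact @IsCompact.of_isClosed_subset X (constructibleTopology X) _ _ (hpre V hV)
        (@IsClosed.preimage X Y (constructibleTopology X) (constructibleTopology Y) f.base hcont _
          (@isClosed_singleton Y (constructibleTopology Y) inferInstance y))
        (fun z hz => show f.base z ∈ (V : Set Y) from (Set.mem_singleton_iff.mp hz).symm ▸ hyV)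
  · intro hp
    refine ⟨fun U hU hU' => ?_⟩
    have h1 := @IsProperMap.isCompact_preimage X Y (constructibleTopology X) (constructibleTopology Y) f.base hp _ (hc U hU hU')
    have := @IsCompact.image X X (constructibleTopology X) inferInstance _ id h1 (continuous_id_iff_le.mpr hle)
    rwa [Set.image_id] at this

end Groth.Agent.S12135
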