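import Groth.Statements.S12137
import Groth.Agent.ProjQX.Core
import Groth.Agent.RelSpecX.Spec
-- import your own Groth.Agent.* helpers here

set_option autoImplicit false
universe u
open CategoryTheory CategoryTheory.Limits AlgebraicGeometry Opposite TopologicalSpace
open scoped HomogeneousIdeal
noncomputable section
open EGA2

namespace Groth.Agent.S12137

open Groth.Agent.ProjQX Polynomial
set_option backward.isDefEq.respectTransparency false
set_option backward.isDefEq.respectTransparency.types false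

section alg
variable {A B σ : Type u} [CommRing A] [CommRing B] [SetLike σ B] [AddSubgroupClass σ B] {ℬ : ℕ → σ} [GradedRing ℬ]
  {ι : A →+* B} {z : B}

lemma exists_eq_mul_pow (hι : ∀ a, ι a ∈ ℬ 0) (hz : z ∈ ℬ 1)
    (hbij : Function.Bijective (Polynomial.eval₂RingHom ι z)) {n : ℕ} {x : B} (hx : x ∈ ℬ n) :
    ∃ a, x = ι a * z ^ n := by
  classical
  obtain ⟨p, rfl⟩ := hbij.2 x
  refine ⟨p.coeff n, ?_⟩
  have hterm : ∀ i, ι (p.coeff i) * z ^ i ∈ ℬ i := fun i => by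
    simpa using SetLike.mul_mem_graded (hι (p.coeff i)) (SetLike.pow_mem_graded i hz)
  have h := congrArg (GradedRing.proj ℬ n)
    (show Polynomial.eval₂RingHom ι z p = ∑ i ∈ p.support, ι (p.coeff i) * z ^ i from Polynomial.eval₂_eq_sum)
  rw [map_sum, GradedRing.proj_apply, DirectSum.decompose_of_mem_same _ hx] at h
  rw [h, Finset.sum_eq_single n]
  · exact DirectSum.decompose_of_mem_same _ (hterm n)
  · exact fun i _ hi => DirectSum.decompose_of_mem_ne _ (hterm i) hi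
  · intro hn
    rw [Polynomial.notMem_support_iff.1 hn, map_zero, zero_mul, map_zero]

lemma basicOpen_eq_top (hι : ∀ a, ι a ∈ ℬ 0) (hz : z ∈ ℬ 1)
    (hbij : Function.Bijective (Polynomial.eval₂RingHom ι z)) : Proj.basicOpen ℬ z = ⊤ := by
  refine top_le_iff.1 ((Proj.iSup_basicOpen_eq_top ℬ (fun _ : Unit => z) ?_).ge.trans
    (iSup_le fun _ => le_rfl))
  show (HomogeneousIdeal.irrelevant ℬ).toIdeal ≤ _
  rw [HomogeneousIdeal.toIdeal_irrelevant_le]
  intro n hn x hx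
  obtain ⟨r, rfl⟩ := exists_eq_mul_pow hι hz hbij hx
  exact Ideal.mul_mem_left _ _ (Ideal.pow_mem_of_mem _ (Ideal.subset_span (Set.mem_range_self ())) n hn)

lemma theta_bijective (hι : ∀ a, ι a ∈ ℬ 0) (hz : z ∈ ℬ 1)
    (hbij : Function.Bijective (Polynomial.eval₂RingHom ι z)) (θ : HomogeneousLocalization.Away ℬ z →+* A)
    (hθ : ∀ (q : HomogeneousLocalization.Away ℬ z) (k : ℕ) (a : A),
      q.val = Localization.mk (ι a * z ^ k) ⟨z ^ k, pow_mem (Submonoid.mem_powers z) k⟩ → θ q = a) :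
    Function.Bijective θ := by
  refine ⟨(injective_iff_map_eq_zero θ).mpr fun q hq => ?_, fun a => ?_⟩
  · obtain ⟨n, x, hx, rfl⟩ := q.mk_surjective ℬ hz
    obtain ⟨a, ha⟩ := exists_eq_mul_pow hι hz hbij (n := n) (by simpa using hx)
    have h0 : a = 0 := (hθ _ n a (by rw [HomogeneousLocalization.Away.val_mk]; simp [ha])).symm.trans hq
    apply HomogeneousLocalization.val_injective
    rw [HomogeneousLocalization.Away.val_mk, HomogeneousLocalization.val_zero]
    subst ha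
    simp [h0, Localization.mk_zero]
  · refine ⟨HomogeneousLocalization.Away.mk ℬ hz 0 (ι a) (by simpa using hι a),
      hθ _ 0 a ?_⟩
    rw [HomogeneousLocalization.Away.val_mk]
    simp

end alg

lemma chart_res {A A' B B' σ σ' : Type u} [CommRing A] [CommRing A'] [CommRing B] [CommRing B'] [SetLike σ B]
    [AddSubgroupClass σ B] [SetLike σ' B'] [AddSubgroupClass σ' B'] {ℬ : ℕ → σ} [GradedRing ℬ] {ℬ' : ℕ → σ'}
    [GradedRing ℬ'] (ρ : ℬ →+*ᵍ ℬ') (hρ : (ℬ'₊) ≤ (ℬ₊).map ρ) (ρA : A →+* A') (ι : A →+* B) (ι' : A' →+* B')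
    (hcomm : ∀ a, ρ (ι a) = ι' (ρA a)) (hι : ∀ a, ι a ∈ ℬ 0) {z : B} {z' : B'} (hz : z ∈ ℬ 1) (hz' : z' ∈ ℬ' 1)
    (hbij : Function.Bijective (Polynomial.eval₂RingHom ι z)) (e : ρ z = z')
    (θ : HomogeneousLocalization.Away ℬ z →+* A)
    (hθ : ∀ (q : HomogeneousLocalization.Away ℬ z) (k : ℕ) (a : A),
      q.val = Localization.mk (ι a * z ^ k) ⟨z ^ k, pow_mem (Submonoid.mem_powers z) k⟩ → θ q = a)
    (θ' : HomogeneousLocalization.Away ℬ' z' →+* A')
    (hθ' : ∀ (q : HomogeneousLocalization.Away ℬ' z') (k : ℕ) (a : A'),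
      q.val = Localization.mk (ι' a * z' ^ k) ⟨z' ^ k, pow_mem (Submonoid.mem_powers z') k⟩ → θ' q = a) :
    Spec.map (CommRingCat.ofHom ρA) ≫ Spec.map (CommRingCat.ofHom θ) ≫ Proj.awayι ℬ z hz one_pos =
      Spec.map (CommRingCat.ofHom θ') ≫ Proj.awayι ℬ' z' hz' one_pos ≫ Proj.map ρ hρ := by
  subst e
  rw [Proj.awayι_comp_map ρ hρ one_pos z hz, ← Spec.map_comp_assoc, ← Spec.map_comp_assoc]
  congr 2
  refine CommRingCat.hom_ext (RingHom.ext fun q => ?_)
  show ρA (θ q) = θ' (HomogeneousLocalization.Away.map ρ z q)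
  obtain ⟨n, x, hx, rfl⟩ := q.mk_surjective ℬ hz
  obtain ⟨a, rfl⟩ := exists_eq_mul_pow hι hz hbij (n := n) (by simpa using hx)
  rw [hθ _ n a (HomogeneousLocalization.Away.val_mk _ _ _ _ _)]
  refine (hθ' _ n (ρA a) ?_).symm
  rw [HomogeneousLocalization.Away.map_mk, HomogeneousLocalization.Away.val_mk]
  simp [← hcomm, map_mul, map_pow]


/-- Let Y be a scheme, 𝒜 a quasi-coherent O_Y-algebra and Ŝ = 𝒜[T], graded with 𝒜 in degree 0 and T in
degree 1 — presented through a homomorphism of algebras ι : 𝒜 → Ŝ landing in degree 0 and a global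
section z of Ŝ of degree 1 such that, over every affine open U, the map 𝒜(U)[X] → Ŝ(U) sending X to
z is bijective — and let p : P → Y with its charts be the relative homogeneous spectrum Proj(Ŝ). For
each affine open U let θ_U : Ŝ(U)_(z) → 𝒜(U) be the ring isomorphism sending ι(a) z^k / z^k to a.
Then there is a unique morphism i : Spec(𝒜) → P which, on the chart Spec 𝒜(U) of Spec(𝒜) over each
affine open U, is Spec(θ_U) followed by the open immersion of D_+(z|U) into Proj Ŝ(U) and the chart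
of P; moreover i is an isomorphism and lies over Y. In particular Proj(O_Y[T]) is Y. -/
theorem result {Y P : Scheme.{u}} (𝒜 : RelSpec.QCAlg Y) (Sh : RelProj.QCGrAlg Y)
    (ι : 𝒜 ⟶ Sh.toQCAlg)
    (hι : ∀ (U : Y.Opens) (hU : IsAffineOpen U) (a : 𝒜.presheaf.obj (op U)), (ι.hom.app (op U)).hom a ∈ Sh.deg U hU 0)
    (z : Sh.presheaf.obj (op ⊤))
    (hz : ∀ (U : Y.Opens) (hU : IsAffineOpen U), (Sh.presheaf.map (homOfLE le_top).op).hom z ∈ Sh.deg U hU 1)
    (hpoly : ∀ (U : Y.Opens) (hU : IsAffineOpen U),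
      Function.Bijective (Polynomial.eval₂RingHom (ι.hom.app (op U)).hom ((Sh.presheaf.map (homOfLE le_top).op).hom z)))
    (p : P ⟶ Y)
    (chart : ∀ (U : Y.Opens) (hU : IsAffineOpen U), (((p ⁻¹ᵁ U : P.Opens) : Scheme.{u}) ≅ Proj (Sh.deg U hU)))
    (hP : RelProj.IsRelProj Sh p chart)
    (θ : ∀ (U : Y.Opens) (hU : IsAffineOpen U),
      CommRingCat.of (HomogeneousLocalization.Away (Sh.deg U hU) ((Sh.presheaf.map (homOfLE le_top).op).hom z)) ⟶
        𝒜.presheaf.obj (op U))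
    (hθ : ∀ (U : Y.Opens) (hU : IsAffineOpen U)
      (q : HomogeneousLocalization.Away (Sh.deg U hU) ((Sh.presheaf.map (homOfLE le_top).op).hom z))
      (k : ℕ) (a : 𝒜.presheaf.obj (op U)),
        q.val = Localization.mk ((ι.hom.app (op U)).hom a * (Sh.presheaf.map (homOfLE le_top).op).hom z ^ k)
          ⟨(Sh.presheaf.map (homOfLE le_top).op).hom z ^ k,
            pow_mem (Submonoid.mem_powers ((Sh.presheaf.map (homOfLE le_top).op).hom z)) k⟩ →
        (θ U hU).hom q = a) :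
    (∃! i : 𝒜.spec ⟶ P, ∀ (U : Y.Opens) (hU : IsAffineOpen U),
        𝒜.ι U hU ≫ i =
          Spec.map (θ U hU) ≫
            Proj.awayι (Sh.deg U hU) ((Sh.presheaf.map (homOfLE le_top).op).hom z) (hz U hU) one_pos ≫
              RelProj.emb p chart U hU) ∧
      ∀ i : 𝒜.spec ⟶ P, (∀ (U : Y.Opens) (hU : IsAffineOpen U),
        𝒜.ι U hU ≫ i =
          Spec.map (θ U hU) ≫
            Proj.awayι (Sh.deg U hU) ((Sh.presheaf.map (homOfLE le_top).op).hom z) (hz U hU) one_pos ≫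
              RelProj.emb p chart U hU) →
        IsIso i ∧ i ≫ p = 𝒜.π := by
  have hθbij : ∀ (U : Y.Opens) (hU : IsAffineOpen U), Function.Bijective (θ U hU).hom := fun U hU =>
    theta_bijective (hι U hU) (hz U hU) (hpoly U hU) _ (hθ U hU)
  let S : ∀ (U : Y.Opens) (hU : IsAffineOpen U), Spec (𝒜.presheaf.obj (op U)) ⟶ P := fun U hU =>
    Spec.map (θ U hU) ≫ Proj.awayι (Sh.deg U hU) ((Sh.presheaf.map (homOfLE le_top).op).hom z) (hz U hU) one_pos ≫
      RelProj.emb p chart U hU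
  show (∃! i : 𝒜.spec ⟶ P, ∀ (U : Y.Opens) (hU : IsAffineOpen U), 𝒜.ι U hU ≫ i = S U hU) ∧
    ∀ i : 𝒜.spec ⟶ P, (∀ (U : Y.Opens) (hU : IsAffineOpen U), 𝒜.ι U hU ≫ i = S U hU) → IsIso i ∧ i ≫ p = 𝒜.π
  have hres : ∀ {U V : Y.Opens} (hU : IsAffineOpen U) (hV : IsAffineOpen V) (hb : IsBasic U V),
      Spec.map (𝒜.presheaf.map (homOfLE hb.le).op) ≫ S U hU = S V hV := by
    intro U V hU hV hb
    have hc : ∀ a, (Sh.res hU hV hb.le) ((ι.hom.app (op U)).hom a) =
        (ι.hom.app (op V)).hom ((𝒜.presheaf.map (homOfLE hb.le).op).hom a) := fun a =>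
      (ConcreteCategory.congr_hom (ι.hom.naturality (homOfLE hb.le).op) a).symm
    have he : (Sh.res hU hV hb.le) ((Sh.presheaf.map (homOfLE (le_top : U ≤ ⊤)).op).hom z) =
        (Sh.presheaf.map (homOfLE (le_top : V ≤ ⊤)).op).hom z := by
      show (Sh.presheaf.map _).hom ((Sh.presheaf.map _).hom z) = (Sh.presheaf.map _).hom z
      rw [← CommRingCat.comp_apply, ← Sh.presheaf.map_comp]
      rfl
    have h := chart_res (Sh.res hU hV hb.le) (irr_res Sh hU hV hb) (𝒜.presheaf.map (homOfLE hb.le).op).hom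
      (ι.hom.app (op U)).hom (ι.hom.app (op V)).hom hc (hι U hU) (hz U hU) (hz V hV) (hpoly U hU) he
      (θ U hU).hom (hθ U hU) (θ V hV).hom (hθ V hV)
    simp only [S]
    rw [← map_emb hP hU hV hb]
    simp only [CommRingCat.ofHom_hom] at h
    simpa only [Category.assoc] using congrArg (· ≫ RelProj.emb p chart U hU) h
  let c : Cocone 𝒜.glueData.functor :=
    { pt := P
      ι := { app := fun U => S U.1 U.2
             naturality := fun V U k => by
               obtain ⟨r, hr⟩ := k.le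
               exact (hres U.2 V.2 ⟨r, hr.symm⟩).trans (Category.comp_id _).symm } }
  let i : 𝒜.spec ⟶ P := colimit.desc _ c
  have hi : ∀ (U : Y.Opens) (hU : IsAffineOpen U), 𝒜.ι U hU ≫ i = S U hU := fun U hU => colimit.ι_desc c ⟨U, hU⟩
  have hu : ∀ i' : 𝒜.spec ⟶ P, (∀ (U : Y.Opens) (hU : IsAffineOpen U), 𝒜.ι U hU ≫ i' = S U hU) → i' = i :=
    fun i' h => colimit.hom_ext fun U => (h U.1 U.2).trans (hi U.1 U.2).symm
  refine ⟨⟨i, hi, hu⟩, fun i' h => ?_⟩
  obtain rfl := hu i' h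
  have hover : i ≫ p = 𝒜.π := by
    refine colimit.hom_ext fun U => ?_
    show 𝒜.ι U.1 U.2 ≫ i ≫ p = 𝒜.ι U.1 U.2 ≫ 𝒜.π
    rw [reassoc_of% (hi U.1 U.2), 𝒜.ι_π]
    simp only [S, Category.assoc]
    rw [emb_over hP U.1 U.2, Proj.awayι_toSpecZero_assoc, ← Spec.map_comp_assoc, ← Spec.map_comp_assoc]
    congr 2
    refine CommRingCat.hom_ext (RingHom.ext fun r => ?_)
    refine (hθ U.1 U.2 _ 0 ((𝒜.str.app (op U.1)).hom r) ?_).trans rfl
    have hs : (ι.hom.app (op U.1)).hom ((𝒜.str.app (op U.1)).hom r) = (Sh.str.app (op U.1)).hom r := by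
      rw [← CommRingCat.comp_apply, ← NatTrans.comp_app, ι.comm]
    simp only [pow_zero, mul_one, hs]
    rfl
  refine ⟨?_, hover⟩
  refine (IsZariskiLocalAtTarget.iff_of_iSup_eq_top (P := MorphismProperty.isomorphisms Scheme.{u})
    (f := i) (fun U : Y.affineOpens => p ⁻¹ᵁ U.1) ?_).mpr fun U => ?_
  · exact IsOpenCover.comap (v := fun U : Y.affineOpens => U.1) (iSup_affineOpens_eq_top Y) p.base.1
  show IsIso (i ∣_ p ⁻¹ᵁ U.1)
  have : IsIso (θ U.1 U.2) := (ConcreteCategory.isIso_iff_bijective _).mpr (hθbij U.1 U.2)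
  have : IsIso (Proj.awayι (Sh.deg U.1 U.2) ((Sh.presheaf.map (homOfLE le_top).op).hom z) (hz U.1 U.2) one_pos) :=
    isIso_of_isOpenImmersion_of_opensRange_eq_top _ ((Proj.opensRange_awayι _ _ _ one_pos).trans
      (basicOpen_eq_top (hι U.1 U.2) (hz U.1 U.2) (hpoly U.1 U.2)))
  let e1 := IsOpenImmersion.isoOfRangeEq (𝒜.ι U.1 U.2) (i ⁻¹ᵁ (p ⁻¹ᵁ U.1)).ι (by
    rw [Scheme.Opens.range_ι, ← Scheme.Hom.comp_preimage, hover, 𝒜.π_preimage U.1 U.2]; rfl)
  have h1 : (e1.hom ≫ i ∣_ p ⁻¹ᵁ U.1) ≫ (p ⁻¹ᵁ U.1).ι = ((Spec.map (θ U.1 U.2) ≫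
      Proj.awayι (Sh.deg U.1 U.2) ((Sh.presheaf.map (homOfLE le_top).op).hom z) (hz U.1 U.2) one_pos) ≫
        (chart U.1 U.2).inv) ≫ (p ⁻¹ᵁ U.1).ι := by
    rw [Category.assoc, morphismRestrict_ι, IsOpenImmersion.isoOfRangeEq_hom_fac_assoc, hi U.1 U.2]
    simp only [S, RelProj.emb, Category.assoc]
  have h2 := (cancel_mono _).mp h1
  have : IsIso (e1.hom ≫ i ∣_ p ⁻¹ᵁ U.1) := by rw [h2]; infer_instance
  exact IsIso.of_isIso_comp_left e1.hom _

end Groth.Agent.S12137
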