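import Groth.Statements.S12138
import Groth.Agent.QCoh.FlatAffine

set_option autoImplicit false
universe u
attribute [local instance] HasDerivedCategory.standard
open Coherent

namespace Groth.Agent.S12138

open AlgebraicGeometry CategoryTheory in
/-- For a complex reduced to one sheaf and affine bases. Let A be a Noetherian ring, X a proper A-scheme
with structure morphism f, F a coherent O_X-module flat over Spec A, and T^p(M) = H^p(X, f^*(M~) ⊗
F) for A-modules M. Let A' be any commutative A-algebra, X' an A'-scheme with a morphism g' : X' → X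
making X' the fibre product X ×_{Spec A} Spec A', F' = g'^* F, and T'^p(M') = H^p(X', f'^*(M'~) ⊗
F') for A'-modules M'. If T^p takes surjections to surjections (resp. injections to injections),
then T'^p does the same. (The converse when Spec A' → Spec A is faithfully flat is a separate
statement; the published statement is for an arbitrary base change of schemes and reduces to this
affine case.) -/
theorem result (A A' : Type u) [CommRing A] [IsNoetherianRing A]
    [CommRing A'] [Algebra A A'] (X X' : Scheme.{u}) [X.Over (Spec (CommRingCat.of A))]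
    [X'.Over (Spec (CommRingCat.of A'))] [IsProper (X ↘ Spec (CommRingCat.of A))] (g' : X' ⟶ X)
    (hsq : IsPullback g' (X' ↘ Spec (CommRingCat.of A')) (X ↘ Spec (CommRingCat.of A))
      (Spec.map (CommRingCat.ofHom (algebraMap A A'))))
    (F : X.Modules) (hF : Coh.IsCoh F) (hfl : FlatMod.IsFlatOver (X ↘ Spec (CommRingCat.of A)) F) (p : ℕ) :
    ((CohIII.tensorAFunctor A F ⋙ CohIII.HAb X p).PreservesEpimorphisms →
        (CohIII.tensorAFunctor A' ((Scheme.Modules.pullback g').obj F) ⋙ CohIII.HAb X' p).PreservesEpimorphisms) ∧
      ((CohIII.tensorAFunctor A F ⋙ CohIII.HAb X p).PreservesMonomorphisms →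
        (CohIII.tensorAFunctor A' ((Scheme.Modules.pullback g').obj F) ⋙ CohIII.HAb X' p).PreservesMonomorphisms) := by
  haveI : CompactSpace X := QuasiCompact.compactSpace_of_compactSpace (X ↘ Spec (CommRingCat.of A))
  haveI : X.IsSeparated := ⟨by
    rw [← Limits.terminal.comp_from (X ↘ Spec (CommRingCat.of A))]
    infer_instance⟩
  obtain ⟨e⟩ := Groth.Agent.QCoh.nonempty_HAb_bc_iso (algebraMap A A') g' hsq hF.1 p
  exact ⟨fun h => Groth.Agent.QCoh.preservesEpi_of_bc_iso _ e h,
    fun h => Groth.Agent.QCoh.preservesMono_of_bc_iso _ e h⟩

end Groth.Agent.S12138
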