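import Groth.Statements.S1214
import Mathlib

set_option autoImplicit false
universe u
open FlatMor

namespace Groth.Agent.S1214

open TensorProduct in
/-- Let R → S be a ring map, I an ideal of R and N an S-module which is I-adically complete. Then for
every R-module M and every prime q of S which is the annihilator of an element of the S-module N ⊗_R
M we have q + IS ≠ S. -/
theorem result {R S : Type u} [CommRing R] [CommRing S] [Algebra R S] (I : Ideal R)
    (N : Type u) [AddCommGroup N] [Module S N] [Module R N] [IsScalarTower R S N] [IsAdicComplete I N]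
    (M : Type u) [AddCommGroup M] [Module R M]
    (q : Ideal S) [q.IsPrime] (hq : q ∈ FlatCA.ass S (N ⊗[R] M)) :
    q ⊔ I.map (algebraMap R S) ≠ ⊤ := by
  intro htop
  obtain ⟨hqp, t, ht⟩ := hq
  have h1 : (1 : S) ∈ q ⊔ I.map (algebraMap R S) := htop ▸ Submodule.mem_top
  obtain ⟨a, ha, b, hb, hab⟩ := Submodule.mem_sup.mp h1
  have hbN : ∀ c ∈ I.map (algebraMap R S), ∀ (k : ℕ) (n : N),
      n ∈ (I ^ k • ⊤ : Submodule R N) → c • n ∈ (I ^ (k + 1) • ⊤ : Submodule R N) := by
    intro c hc
    induction hc using Submodule.span_induction with
    | mem c hc =>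
      obtain ⟨r, hr, rfl⟩ := hc
      intro k n hn
      rw [algebraMap_smul, pow_succ', mul_smul]
      exact Submodule.smul_mem_smul hr hn
    | zero => intro k n _; simp
    | add c d _ _ hc hd => intro k n hn; rw [add_smul]; exact Submodule.add_mem _ (hc k n hn) (hd k n hn)
    | smul s c _ hc =>
      intro k n hn
      rw [smul_eq_mul, mul_comm, mul_smul]
      refine hc k _ ?_
      refine Submodule.smul_induction_on hn (fun r hr x _ => ?_) (fun x y hx hy => ?_)
      · rw [smul_comm]; exact Submodule.smul_mem_smul hr Submodule.mem_top
      · rw [smul_add]; exact Submodule.add_mem _ hx hy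
  have hbk : ∀ (k : ℕ) (n : N), b ^ k • n ∈ (I ^ k • ⊤ : Submodule R N) := by
    intro k
    induction k with
    | zero => intro n; simp
    | succ k ih => intro n; rw [show b ^ (k + 1) • n = b • b ^ k • n by rw [pow_succ', mul_smul]]; exact hbN b hb k _ (ih n)
  have haeq : a = 1 - b := by rw [← hab]; ring
  let φ : N →ₗ[R] N := (LinearMap.lsmul S N a).restrictScalars R
  have hbij : Function.Bijective φ := by
    constructor
    · rw [injective_iff_map_eq_zero]
      intro n hn
      have hn' : b • n = n := by
        have : a • n = 0 := hn
        rw [haeq, sub_smul, one_smul, sub_eq_zero] at this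
        exact this.symm
      have hk : ∀ k : ℕ, b ^ k • n = n := by
        intro k
        induction k with
        | zero => simp
        | succ k ih => rw [pow_succ, mul_smul, hn', ih]
      refine IsHausdorff.haus (inferInstance : IsHausdorff I N) n fun k => ?_
      rw [SModEq.zero, ← hk k]
      exact hbk k n
    · intro n
      let f : ℕ → N := fun k => (∑ i ∈ Finset.range k, b ^ i) • n
      obtain ⟨L, hL⟩ := IsPrecomplete.prec (inferInstance : IsPrecomplete I N) (f := f) (by
        intro m k hmk
        rw [SModEq.sub_mem, ← neg_mem_iff, neg_sub, ← sub_smul,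
          ← Finset.sum_Ico_eq_sub _ hmk, Finset.sum_smul]
        refine Submodule.sum_mem _ fun i hi => ?_
        exact Submodule.smul_mono_left (Ideal.pow_le_pow_right (Finset.mem_Ico.mp hi).1) (hbk i n))
      refine ⟨L, ?_⟩
      rw [← sub_eq_zero]
      refine IsHausdorff.haus (inferInstance : IsHausdorff I N) _ fun k => ?_
      rw [SModEq.zero]
      have h2 : a • (L - f k) ∈ (I ^ k • ⊤ : Submodule R N) := by
        have h3 : L - f k ∈ (I ^ k • ⊤ : Submodule R N) := SModEq.sub_mem.mp (hL k).symm
        rw [haeq, sub_smul, one_smul]
        refine Submodule.sub_mem _ h3 ?_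
        exact Submodule.smul_mono_left (Ideal.pow_le_pow_right k.le_succ) (hbN b hb k _ h3)
      have h4 : a • f k = n - b ^ k • n := by
        simp only [f]
        rw [← mul_smul, haeq, mul_neg_geom_sum, sub_smul, one_smul]
      have : φ L - n = a • (L - f k) - b ^ k • n := by
        change a • L - n = _
        rw [smul_sub, h4]; abel
      rw [this]
      exact Submodule.sub_mem _ h2 (hbk k n)
  let e := LinearEquiv.ofBijective φ hbij
  have hat : a • t = 0 := by
    have : a ∈ (Submodule.span S {t}).annihilator := ht ▸ ha
    exact Submodule.mem_annihilator.mp this t (Submodule.mem_span_singleton_self t)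
  have hact : ∀ y : N ⊗[R] M, TensorProduct.congr e (LinearEquiv.refl R M) y = a • y := by
    intro y
    induction y using TensorProduct.induction_on with
    | zero => simp
    | tmul n m => simp [e, φ, TensorProduct.smul_tmul']
    | add x y hx hy => simp [map_add, hx, hy]
  have ht0 : t = 0 := (TensorProduct.congr e (LinearEquiv.refl R M)).injective
    (by rw [hact, hat, map_zero])
  apply hqp.ne_top
  rw [ht, ht0, Submodule.span_zero_singleton, Submodule.annihilator_bot]

end Groth.Agent.S1214
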