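import Groth.Statements.S12141
import Groth.Agent.ProjQX.AwayBC
import Groth.Agent.ProjQX.Points
import Groth.Agent.ProjQX.SameBase
-- import your own Groth.Agent.* helpers here

set_option autoImplicit false
universe u
open CategoryTheory CategoryTheory.Limits AlgebraicGeometry TopologicalSpace Opposite
open scoped HomogeneousIdeal
noncomputable section
open EGA2

namespace Groth.Agent.S12141

open Groth.Agent.ProjQX TensorProduct
set_option backward.isDefEq.respectTransparency false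
set_option backward.isDefEq.respectTransparency.types false

section pair
variable {Y Y' : Scheme.{u}} {ψ : Y' ⟶ Y} {𝒮 : RelProj.QCGrAlg Y} {𝒮' : RelProj.QCGrAlg Y'}
  {u : RelProj.QGrHom ψ 𝒮 𝒮'} (hu : RelSpec.IsQBaseChange u.toQHom)
  {U : Y.Opens} (hU : IsAffineOpen U) {U' : Y'.Opens} (hU' : IsAffineOpen U') (hle : U' ≤ ψ ⁻¹ᵁ U)

include hu in
/-- The algebra of one pair of affine opens. -/
lemma pair_facts :
    (∀ (n : ℕ) (b : 𝒮'.presheaf.obj (op U')), b ∈ 𝒮'.deg U' hU' n →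
      b ∈ Ideal.span ((u.gradedAt U hU U' hU' hle) '' (𝒮.deg U hU n : Set (𝒮.presheaf.obj (op U))))) ∧
    ∀ (d : ℕ) (f : 𝒮.presheaf.obj (op U)), f ∈ 𝒮.deg U hU d →
      IsPushout (ψ.appLE U U' hle)
        (𝒮.strZero U hU ≫ CommRingCat.ofHom
          (HomogeneousLocalization.fromZeroRingHom (𝒮.deg U hU) (Submonoid.powers f)))
        (𝒮'.strZero U' hU' ≫ CommRingCat.ofHom
          (HomogeneousLocalization.fromZeroRingHom (𝒮'.deg U' hU') (Submonoid.powers (u.gradedAt U hU U' hU' hle f))))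
        (CommRingCat.ofHom (HomogeneousLocalization.Away.map (u.gradedAt U hU U' hU' hle) f)) := by
  have hsq := hu U hU U' hU' hle
  let φ := u.gradedAt U hU U' hU' hle
  letI : Algebra Γ(Y, U) Γ(Y', U') := (ψ.appLE U U' hle).hom.toAlgebra
  letI : Algebra Γ(Y, U) (𝒮.presheaf.obj (op U)) := (𝒮.str.app (op U)).hom.toAlgebra
  letI : Algebra Γ(Y', U') (𝒮'.presheaf.obj (op U')) := (𝒮'.str.app (op U')).hom.toAlgebra
  letI : Algebra (𝒮.presheaf.obj (op U)) (𝒮'.presheaf.obj (op U')) := (u.appLE U U' hle).hom.toAlgebra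
  letI : Algebra Γ(Y, U) (𝒮'.presheaf.obj (op U')) :=
    ((𝒮'.str.app (op U')).hom.comp (ψ.appLE U U' hle).hom).toAlgebra
  have : IsScalarTower Γ(Y, U) Γ(Y', U') (𝒮'.presheaf.obj (op U')) := IsScalarTower.of_algebraMap_eq' rfl
  have : IsScalarTower Γ(Y, U) (𝒮.presheaf.obj (op U)) (𝒮'.presheaf.obj (op U')) :=
    IsScalarTower.of_algebraMap_eq' (congrArg CommRingCat.Hom.hom hsq.w)
  have hA : ∀ r, algebraMap Γ(Y, U) (𝒮.presheaf.obj (op U)) r ∈ 𝒮.deg U hU 0 := 𝒮.str_mem U hU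
  have hB : ∀ r, algebraMap Γ(Y', U') (𝒮'.presheaf.obj (op U')) r ∈ 𝒮'.deg U' hU' 0 := 𝒮'.str_mem U' hU'
  have hφ : ∀ r, φ (algebraMap Γ(Y, U) (𝒮.presheaf.obj (op U)) r) = algebraMap _ (𝒮'.presheaf.obj (op U')) r :=
    fun r => (ConcreteCategory.congr_hom hsq.w r).symm
  have hpo : Algebra.IsPushout Γ(Y, U) Γ(Y', U') (𝒮.presheaf.obj (op U)) (𝒮'.presheaf.obj (op U')) :=
    CommRingCat.isPushout_iff_isPushout.mp hsq
  have hΦ : Function.Bijective (AwayBC.Φ (R' := Γ(Y', U')) φ hφ) := by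
    have he : ∀ x, AwayBC.Φ (R' := Γ(Y', U')) φ hφ x = hpo.out.equiv x := by
      intro x
      induction x using TensorProduct.induction_on with
      | zero => simp
      | tmul r a => rw [AwayBC.Φ_tmul, IsBaseChange.equiv_tmul, Algebra.smul_def]; rfl
      | add x y hx hy => simp only [map_add, hx, hy]
    exact (funext he : ⇑(AwayBC.Φ (R' := Γ(Y', U')) φ hφ) = hpo.out.equiv) ▸ hpo.out.equiv.bijective
  refine ⟨fun n b hb => ?_, fun d f hf => ?_⟩
  · obtain ⟨y, rfl⟩ := AwayBC.mem_range_Ψ φ hA hB hφ hΦ hb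
    clear hb
    induction y using TensorProduct.induction_on with
    | zero => simp
    | tmul r a =>
      rw [AwayBC.Ψ_tmul]
      exact Ideal.mul_mem_left _ _ (Ideal.subset_span ⟨a, a.2, rfl⟩)
    | add x y hx hy => rw [map_add]; exact Ideal.add_mem _ hx hy
  · exact AwayBC.isPushout φ hA hB hφ hΦ hf

end pair


/-- Let ψ : Y' → Y be a morphism of schemes, 𝒮 a quasi-coherent positively graded O_Y-algebra and 𝒮' =
ψ^*𝒮, presented as a quasi-coherent graded O_{Y'}-algebra with a graded ψ-morphism u : 𝒮 → ψ_*𝒮'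
whose squares over affine opens U' ⊆ ψ⁻¹(U) are pushouts of rings; let P = Proj(𝒮), P' = Proj(𝒮')
with their charts. Then the morphism Proj(u) : P' → P is everywhere defined (its open of definition
G(u) is P' and it exists, pinned on the standard affine charts), and any such morphism identifies P'
with the fibre product P ×_Y Y'. -/
theorem result {Y Y' P P' : Scheme.{u}} (ψ : Y' ⟶ Y)
    (𝒮 : RelProj.QCGrAlg Y) (𝒮' : RelProj.QCGrAlg Y') (u : RelProj.QGrHom ψ 𝒮 𝒮')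
    (hu : RelSpec.IsQBaseChange u.toQHom)
    (p : P ⟶ Y) (chart : ∀ (U : Y.Opens) (hU : IsAffineOpen U), (((p ⁻¹ᵁ U : P.Opens) : Scheme.{u}) ≅ Proj (𝒮.deg U hU)))
    (hP : RelProj.IsRelProj 𝒮 p chart)
    (p' : P' ⟶ Y') (chart' : ∀ (U : Y'.Opens) (hU : IsAffineOpen U), (((p' ⁻¹ᵁ U : P'.Opens) : Scheme.{u}) ≅ Proj (𝒮'.deg U hU)))
    (hP' : RelProj.IsRelProj 𝒮' p' chart') :
    (∃ h : P' ⟶ P, RelProj.IsProjQMap u p chart p' chart' h) ∧
      ∀ h : P' ⟶ P, RelProj.IsProjQMap u p chart p' chart' h → IsPullback h p' p ψ := by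
  have hpair : ∀ y : Y', ∃ (U : Y.Opens) (_ : IsAffineOpen U) (U' : Y'.Opens) (_ : IsAffineOpen U'),
      U' ≤ ψ ⁻¹ᵁ U ∧ y ∈ U' := by
    intro y
    obtain ⟨_, ⟨U, hU, rfl⟩, hxU, -⟩ := Y.isBasis_affineOpens.exists_subset_of_mem_open
      (Set.mem_univ (ψ y)) isOpen_univ
    obtain ⟨_, ⟨U', hU', rfl⟩, hxU', hle⟩ := Y'.isBasis_affineOpens.exists_subset_of_mem_open
      (show y ∈ ψ ⁻¹ᵁ U from hxU) (ψ ⁻¹ᵁ U).2
    exact ⟨U, hU, U', hU', hle, hxU'⟩
  have htop : RelProj.domQ u p' chart' = ⊤ := by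
    refine top_le_iff.mp fun x _ => ?_
    obtain ⟨U, hU, U', hU', hle, hxU'⟩ := hpair (p' x)
    obtain ⟨z, rfl⟩ := (mem_opensRange_emb (chart := chart') hU').mpr hxU'
    refine (emb_mem_domQ_iff' hP' hU hU' hle z).mpr ?_
    obtain ⟨n, b, hn, hb, hbz⟩ := exists_homogeneous (𝒮'.deg U' hU') z
    by_contra hz
    refine hbz ?_
    refine (Ideal.span_le.mpr ?_ : Ideal.span _ ≤ (z : ProjectiveSpectrum _).asHomogeneousIdeal.toIdeal)
      ((pair_facts hu hU hU' hle).1 n b hb)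
    rintro _ ⟨a, ha, rfl⟩
    by_contra haz
    exact hz (mem_domOpen_of_homogeneous _ hn ha haz)
  have hιiso : IsIso (RelProj.domQ u p' chart').ι :=
    isIso_of_isOpenImmersion_of_opensRange_eq_top _ ((Scheme.Opens.opensRange_ι _).trans htop)
  obtain ⟨v, hv, -⟩ := existsUnique_map (u := u) hP hP'
  refine ⟨⟨inv (RelProj.domQ u p' chart').ι ≫ v, htop, fun U hU U' hU' hle d hd f hf => ?_⟩, fun h hh => ?_⟩
  · have e := (isProjQMapOn_domQ_iff u chart chart' v).mp hv ⟨U, hU, U', hU', hle, d, hd, f, hf⟩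
    refine Eq.trans ?_ e
    show emb' u chart' ⟨U, hU, U', hU', hle, d, hd, f, hf⟩ ≫ inv (RelProj.domQ u p' chart').ι ≫ v = _
    rw [← embDom_ι, Category.assoc, IsIso.hom_inv_id_assoc]
  have hon : RelProj.IsProjQMapOn u p chart p' chart' (RelProj.domQ u p' chart')
      ((RelProj.domQ u p' chart').ι ≫ h) := by
    intro U hU U' hU' hle d hd f hf hW
    rw [← Category.assoc, IsOpenImmersion.lift_fac]
    exact hh.2 U hU U' hU' hle d hd f hf
  have hcomm : h ≫ p = p' ≫ ψ := by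
    rw [← cancel_epi (RelProj.domQ u p' chart').ι]
    simpa only [Category.assoc] using comp_eq hP hP' hon
  refine IsPullback.of_iso_pullback ⟨hcomm⟩ (@asIso _ _ _ _ (pullback.lift h p' hcomm) ?_)
    (pullback.lift_fst _ _ _) (pullback.lift_snd _ _ _)
  set c := pullback.lift h p' hcomm
  let W : Idx u → (pullback p ψ).Opens := fun i =>
    pullback.fst p ψ ⁻¹ᵁ (RelProj.emb p chart i.U i.hU ''ᵁ Proj.basicOpen (𝒮.deg i.U i.hU) i.f) ⊓
      pullback.snd p ψ ⁻¹ᵁ i.U'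
  refine (IsZariskiLocalAtTarget.iff_of_iSup_eq_top (P := MorphismProperty.isomorphisms Scheme.{u})
    (f := c) W ?_).mpr fun i => ?_
  · refine top_le_iff.mp fun t _ => ?_
    obtain ⟨_, ⟨U, hU, rfl⟩, hyU, -⟩ := Y.isBasis_affineOpens.exists_subset_of_mem_open
      (Set.mem_univ (p (pullback.fst p ψ t))) isOpen_univ
    obtain ⟨a, ha⟩ := (mem_opensRange_emb (chart := chart) hU).mpr hyU
    obtain ⟨d, f, hd, hf, hfa⟩ := exists_homogeneous (𝒮.deg U hU) a
    have hsU : ψ (pullback.snd p ψ t) ∈ U := by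
      have := congrArg (fun k : pullback p ψ ⟶ Y => k t) (pullback.condition (f := p) (g := ψ))
      change p (pullback.fst p ψ t) = ψ (pullback.snd p ψ t) at this
      exact this ▸ hyU
    obtain ⟨_, ⟨U', hU', rfl⟩, hxU', hle⟩ := Y'.isBasis_affineOpens.exists_subset_of_mem_open
      (show pullback.snd p ψ t ∈ ψ ⁻¹ᵁ U from hsU) (ψ ⁻¹ᵁ U).2
    exact Opens.mem_iSup.mpr ⟨⟨U, hU, U', hU', hle, d, hd, f, hf⟩, ⟨a, hfa, ha⟩, hxU'⟩
  show IsIso (c ∣_ W i)
  let sA : Spec (CommRingCat.of (HomogeneousLocalization.Away (𝒮.deg i.U i.hU) i.f)) ⟶ Spec Γ(Y, i.U) :=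
    Spec.map (𝒮.strZero i.U i.hU ≫ CommRingCat.ofHom
      (HomogeneousLocalization.fromZeroRingHom (𝒮.deg i.U i.hU) (Submonoid.powers i.f)))
  let sB : i.src ⟶ Spec Γ(Y', i.U') :=
    Spec.map (𝒮'.strZero i.U' i.hU' ≫ CommRingCat.ofHom
      (HomogeneousLocalization.fromZeroRingHom (𝒮'.deg i.U' i.hU') (Submonoid.powers (i.grad i.f))))
  let i₁ : Spec (CommRingCat.of (HomogeneousLocalization.Away (𝒮.deg i.U i.hU) i.f)) ⟶ P :=
    Proj.awayι (𝒮.deg i.U i.hU) i.f i.hf i.hd ≫ RelProj.emb p chart i.U i.hU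
  have hk : IsPullback (Spec.map (CommRingCat.ofHom (HomogeneousLocalization.Away.map i.grad i.f))) sB sA
      (Spec.map (ψ.appLE i.U i.U' i.hle)) :=
    (isPullback_SpecMap_of_isPushout _ _ _ _ ((pair_facts hu i.hU i.hU' i.hle).2 i.d i.f i.hf)).flip
  have e₁ : sA ≫ i.hU.fromSpec = i₁ ≫ p := by
    simp only [sA, i₁, Category.assoc]
    rw [emb_over hP i.U i.hU, Proj.awayι_toSpecZero_assoc, Spec.map_comp, Category.assoc]
  have e₂ : Spec.map (ψ.appLE i.U i.U' i.hle) ≫ i.hU.fromSpec = i.hU'.fromSpec ≫ ψ :=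
    IsAffineOpen.SpecMap_appLE_fromSpec ψ i.hU i.hU' i.hle
  let μ := pullback.map sA (Spec.map (ψ.appLE i.U i.U' i.hle)) p ψ i₁ i.hU'.fromSpec i.hU.fromSpec e₁ e₂
  have hemb : emb' u chart' i ≫ c = hk.isoPullback.hom ≫ μ := by
    refine pullback.hom_ext ?_ ?_
    · simp only [μ, c, Category.assoc, pullback.lift_fst]
      rw [hk.isoPullback_hom_fst_assoc]
      exact hh.2 i.U i.hU i.U' i.hU' i.hle i.d i.hd i.f i.hf
    · simp only [μ, c, Category.assoc, pullback.lift_snd]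
      rw [hk.isoPullback_hom_snd_assoc]
      show (Proj.awayι (𝒮'.deg i.U' i.hU') _ (i.grad.map_mem i.hf) i.hd ≫ RelProj.emb p' chart' i.U' i.hU') ≫ p' = _
      rw [Category.assoc, emb_over hP', Proj.awayι_toSpecZero_assoc]
      simp only [sB, Spec.map_comp, Category.assoc]
      rfl
  have hμ : Set.range μ = (W i : Set _) := by
    rw [Scheme.Pullback.range_map]
    have hr : Set.range i₁ = (RelProj.emb p chart i.U i.hU ''ᵁ Proj.basicOpen (𝒮.deg i.U i.hU) i.f : Set _) := by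
      refine (congrArg (fun O : P.Opens => (O : Set P)) ?_ : ((Proj.awayι (𝒮.deg i.U i.hU) i.f i.hf i.hd ≫ RelProj.emb p chart i.U i.hU).opensRange : Set P) = _)
      rw [Scheme.Hom.opensRange_comp, Proj.opensRange_awayι]
    rw [hr, i.hU'.range_fromSpec]
    rfl
  have hpre : c ⁻¹ᵁ W i = (emb' u chart' i).opensRange := by
    have hc1 : ∀ x, pullback.fst p ψ (c x) = h x := fun x => by
      rw [← Scheme.Hom.comp_apply, pullback.lift_fst]
    have hc2 : ∀ x, pullback.snd p ψ (c x) = p' x := fun x => by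
      rw [← Scheme.Hom.comp_apply, pullback.lift_snd]
    refine le_antisymm ?_ ?_
    · intro x hx
      have hx1 : h x ∈ RelProj.emb p chart i.U i.hU ''ᵁ Proj.basicOpen (𝒮.deg i.U i.hU) i.f := hc1 x ▸ hx.1
      have hx2 : p' x ∈ i.U' := hc2 x ▸ hx.2
      obtain ⟨z, hz⟩ := (mem_opensRange_emb (chart := chart') i.hU').mpr hx2
      rw [range_emb']
      exact ⟨z, (map_mem_iff hP hP' hon i.hle i.hd i.hf ⟨x, htop.ge trivial⟩ (z := z) hz).mp hx1, hz⟩
    · rintro _ ⟨s, rfl⟩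
      show c (emb' u chart' i s) ∈ (W i : Set _)
      rw [← hμ, ← Scheme.Hom.comp_apply, hemb]
      exact ⟨_, rfl⟩
  have hrange : Set.range (emb' u chart' i) = Set.range (c ⁻¹ᵁ W i).ι := by
    rw [Scheme.Opens.range_ι, hpre]; rfl
  have hμr : Set.range (hk.isoPullback.hom ≫ μ) = Set.range (W i).ι := by
    rw [Scheme.Opens.range_ι, ← hμ]
    simp only [Scheme.Hom.comp_base, TopCat.hom_comp, ContinuousMap.coe_comp]
    rw [Set.range_comp, Set.range_eq_univ.mpr hk.isoPullback.hom.surjective, Set.image_univ]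
  let e₃ := IsOpenImmersion.isoOfRangeEq (emb' u chart' i) (c ⁻¹ᵁ W i).ι hrange
  have heq : e₃.hom ≫ c ∣_ W i = (IsOpenImmersion.isoOfRangeEq (hk.isoPullback.hom ≫ μ) (W i).ι hμr).hom := by
    rw [← cancel_mono (W i).ι, Category.assoc, morphismRestrict_ι, IsOpenImmersion.isoOfRangeEq_hom_fac_assoc,
      IsOpenImmersion.isoOfRangeEq_hom_fac, hemb]
  have : IsIso (e₃.hom ≫ c ∣_ W i) := by rw [heq]; infer_instance
  exact IsIso.of_isIso_comp_left e₃.hom _

end Groth.Agent.S12141
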