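import Groth.Statements.S12142
import Groth.Agent.RelSpecX.Spec

set_option autoImplicit false
universe u
open CategoryTheory CategoryTheory.Limits AlgebraicGeometry TopologicalSpace Opposite
open scoped HomogeneousIdeal
noncomputable section
open EGA2

namespace Groth.Agent.S12142

/-- Let g : S' → S be a morphism of schemes, A a quasi-coherent O_S-algebra and B = g^*A, presented as a
quasi-coherent O_{S'}-algebra with a g-morphism u : A → g_*B whose squares of rings over affine
opens U' ⊆ g⁻¹(U) are pushouts; let h = Spec(u) : Spec(B) → Spec(A) be the induced morphism of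
relative spectra (chartwise Spec of A(U) → B(U')). Then h and the structure morphisms form a
cartesian square: Spec(g^*A) is the fibre product Spec(A) ×_S S'. -/
theorem result {S S' : Scheme.{u}} (g : S' ⟶ S)
    (A : RelSpec.QCAlg S) (B : RelSpec.QCAlg S') (u : RelSpec.QHom g A B) (hu : RelSpec.IsQBaseChange u)
    (h : B.spec ⟶ A.spec) (hh : RelSpec.IsSpecQMap u h) :
    IsPullback h B.π A.π g := by
  exact RelSpecX.isPullback_of_isQBaseChange hu hh

end Groth.Agent.S12142
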