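import Groth.Statements.S12145
import Groth.Agent.ProjQX.LineBundle
-- import your own Groth.Agent.* helpers here

set_option autoImplicit false
universe u
open CategoryTheory CategoryTheory.Limits AlgebraicGeometry TopologicalSpace Opposite
open scoped HomogeneousIdeal
noncomputable section
open EGA2

namespace Groth.Agent.S12145

open Groth.Agent.ProjQX
set_option backward.isDefEq.respectTransparency false

/-- Let q : X → Y be a morphism with Y affine, L an invertible O_X-module, 𝒮L = ⊕_{n≥0} L^{⊗n} its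
graded symmetric algebra (whose Proj, presented with its charts, is identified with X by its
structure morphism pL), 𝒮 a quasi-coherent positively graded O_Y-algebra with S = Γ(Y, 𝒮), ψ : q^*𝒮
→ 𝒮L a graded homomorphism given as a graded q-morphism u = ψ♭ : 𝒮 → q_*𝒮L, P = Proj(𝒮), and r =
r_{L,ψ} : G(ψ) → P the associated morphism on its open of definition G(ψ) ⊆ Proj(𝒮L). Then r is
everywhere defined, i.e. G(ψ) = X, if and only if for every x ∈ X there are an integer n > 0 and s ∈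
S_n such that the section t = ψ♭(s) of L^{⊗n} does not vanish at x (x has an affine neighbourhood V
over which 𝒮L(V)_n = Γ(V, L^{⊗n}) lies in the ideal generated by t|V). -/
theorem result {Y X P PL : Scheme.{u}} (q : X ⟶ Y)
    (L : X.Modules) (hL : PicF.IsInvertible L) (hLq : Coh.IsQCoh L)
    (𝒮 : RelProj.QCGrAlg Y) (𝒮L : RelProj.QCGrAlg X) (j : L ⟶ 𝒮L.toModule) (hj : RelProj.IsGrSymAlg L 𝒮L j)
    (u : RelProj.QGrHom q 𝒮 𝒮L)
    (p : P ⟶ Y) (chart : ∀ (U : Y.Opens) (hU : IsAffineOpen U), (((p ⁻¹ᵁ U : P.Opens) : Scheme.{u}) ≅ Proj (𝒮.deg U hU)))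
    (hP : RelProj.IsRelProj 𝒮 p chart)
    (pL : PL ⟶ X) (chartL : ∀ (U : X.Opens) (hU : IsAffineOpen U), (((pL ⁻¹ᵁ U : PL.Opens) : Scheme.{u}) ≅ Proj (𝒮L.deg U hU)))
    (hPL : RelProj.IsRelProj 𝒮L pL chartL)
    (hY : IsAffineOpen (⊤ : Y.Opens)) :
    RelProj.domQ u pL chartL = ⊤ ↔
      ∀ x : X, ∃ (n : ℕ) (_ : 0 < n) (s : 𝒮.presheaf.obj (op ⊤)) (_ : s ∈ 𝒮.deg ⊤ hY n)
        (V : X.Opens) (hV : IsAffineOpen V), x ∈ V ∧
          ((𝒮L.deg V hV n : AddSubgroup (𝒮L.presheaf.obj (op V))) : Set (𝒮L.presheaf.obj (op V))) ⊆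
            (Ideal.span {(u.appLE ⊤ V (le_top.trans (Scheme.Hom.preimage_top q).ge)).hom s} : Set (𝒮L.presheaf.obj (op V))) := by
  have hle : ∀ V : X.Opens, V ≤ q ⁻¹ᵁ (⊤ : Y.Opens) := fun V => le_top.trans (Scheme.Hom.preimage_top q).ge
  have : IsIso pL := Groth.Agent.S12143.result L hL hLq 𝒮L j hj pL chartL hPL
  constructor
  · intro htop x
    obtain ⟨y, rfl⟩ := pL.homeomorph.surjective x
    obtain ⟨_, ⟨V, hV, rfl⟩, hxV, -⟩ := X.isBasis_affineOpens.exists_subset_of_mem_open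
      (Set.mem_univ (pL y)) isOpen_univ
    obtain ⟨z, hz⟩ := (mem_opensRange_emb (chart := chartL) hV).mpr hxV
    obtain ⟨n, s, hn, hs, hsz⟩ := exists_homogeneous_of_mem_domOpen _
      ((emb_mem_domQ_iff' hPL hY hV (hle V) z).mp (htop.ge trivial))
    obtain ⟨D, hD, hDV, hxD, hspan⟩ := exists_span hPL hL hLq hj hV
      ((u.gradedAt ⊤ hY V hV (hle V)).map_mem hs) z hsz
    rw [hz] at hxD
    have he : 𝒮L.res hV hD hDV (u.gradedAt ⊤ hY V hV (hle V) s) = (u.appLE ⊤ D (hle D)).hom s := by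
      show (𝒮L.presheaf.map (homOfLE hDV).op).hom ((u.appLE ⊤ V (hle V)).hom s) = _
      rw [← CommRingCat.comp_apply, u.toQHom.appLE_map]
    exact ⟨n, hn, s, hs, D, hD, hxD, he ▸ hspan⟩
  · intro h
    refine top_le_iff.mp fun y _ => ?_
    obtain ⟨n, hn, s, hs, V, hV, hyV, hspan⟩ := h (pL y)
    obtain ⟨z, rfl⟩ := (mem_opensRange_emb (chart := chartL) hV).mpr hyV
    exact (emb_mem_domQ_iff' hPL hY hV (hle V) z).mpr
      (mem_domOpen_of_homogeneous _ hn hs (notMem_of_span hLq hj hV hspan z))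

end Groth.Agent.S12145
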