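import Groth.Statements.S1215
import Groth.Agent.RG.HenselML
-- import your own Groth.Agent.* helpers here

set_option autoImplicit false
universe u
open FlatMor

set_option linter.style.haveILetI false
set_option backward.isDefEq.respectTransparency false
set_option backward.isDefEq.respectTransparency.types false

namespace Groth.Agent.S1215

/-- Let A → B be a local homomorphism of local rings which is essentially of finite type, with A
henselian, and N a finite B-module flat over A. Then N is a Mittag-Leffler A-module. (The source
moreover writes N as a filtered colimit of free A-modules with transition maps injective modulo 𝔪_A;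
only the Mittag-Leffler conclusion is stated here.) -/
theorem result {A B : Type u} [CommRing A] [HenselianLocalRing A] [CommRing B] [IsLocalRing B] [Algebra A B]
    [IsLocalHom (algebraMap A B)] [Algebra.EssFiniteType A B]
    (N : Type u) [AddCommGroup N] [Module B N] [Module A N] [IsScalarTower A B N] [Module.Finite B N] [Module.Flat A N] :
    CAlg.IsMittagLeffler A N := by
  classical
  obtain ⟨σ, hσ⟩ := (Algebra.essFiniteType_iff A B).1 inferInstance
  let P := MvPolynomial σ A
  let φ : P →ₐ[A] B := MvPolynomial.aeval Subtype.val
  letI : Algebra P B := φ.toRingHom.toAlgebra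
  haveI : IsScalarTower A P B := IsScalarTower.of_algebraMap_eq (R := A) (S := P) (A := B) fun a =>
    (φ.commutes a).symm
  letI : Module P N := Module.compHom N (algebraMap P B)
  haveI : IsScalarTower P B N := IsScalarTower.of_algebraMap_smul fun _ _ => rfl
  haveI : IsScalarTower A P N := IsScalarTower.of_algebraMap_smul fun a n => by
    show algebraMap P B (algebraMap A P a) • n = a • n
    rw [← IsScalarTower.algebraMap_apply, algebraMap_smul]
  have hr : Algebra.adjoin A (σ : Set B) = φ.range := by
    rw [← Algebra.adjoin_range_eq_range_aeval]
    exact congrArg _ Subtype.range_coe.symm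
  have hloc : ∀ b : B, ∃ s : P, IsUnit (algebraMap P B s) ∧ ∃ a : P, algebraMap P B s * b = algebraMap P B a := by
    intro b
    obtain ⟨t, ht, htu, hbt⟩ := hσ b
    rw [hr] at ht hbt
    obtain ⟨s, hs⟩ := ht
    obtain ⟨a, ha⟩ := hbt
    refine ⟨s, ?_, a, ?_⟩
    · show IsUnit (φ s)
      rw [show φ s = t from hs]
      exact htu
    · show φ s * b = φ a
      rw [show φ s = t from hs, show φ a = b * t from ha, mul_comm]
  haveI : IsNoetherianRing (P ⧸ (IsLocalRing.maximalIdeal A).map (algebraMap A P)) :=
    isNoetherianRing_of_ringEquiv _
      (MvPolynomial.quotientEquivQuotientMvPolynomial (σ := σ) (IsLocalRing.maximalIdeal A)).toRingEquiv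
  exact RG.ml_of_model (P := P) hloc N

end Groth.Agent.S1215
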