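import Groth.Statements.S12150
import Groth.Agent.ProjQX.FamilyImm
-- import your own Groth.Agent.* helpers here

set_option autoImplicit false
universe u
open CategoryTheory CategoryTheory.Limits AlgebraicGeometry TopologicalSpace Opposite
open scoped HomogeneousIdeal
noncomputable section
open EGA2

namespace Groth.Agent.S12150

open Groth.Agent.ProjQX
set_option backward.isDefEq.respectTransparency false
set_option backward.isDefEq.respectTransparency.types false

/-- Let q : X → Y be a morphism with Y affine, L an invertible O_X-module with 𝒮L = ⊕ L^{⊗n} (whose Proj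
is X), 𝒮 a quasi-coherent positively graded O_Y-algebra with S = Γ(Y, 𝒮), ψ♭ = u : 𝒮 → q_*𝒮L a
graded q-morphism and r = r_{L,ψ} : G(ψ) → P = Proj(𝒮). For a family s_a ∈ S_{n_a} (n_a > 0) put f_a
= ψ♭(s_a) ∈ Γ(X, L^{⊗n_a}) and let X_{f_a} be the open where f_a does not vanish; conditions: (i)
the X_{f_a} cover X; (ii) the X_{f_a} are affine; (iii) every function t on X_{f_a} is of the form
ψ♭(s') f_a^{-m} with m > 0 and s' ∈ S_{m n_a} (that is, t f_a^m = ψ♭(s') in 𝒮L(X_{f_a})). Then r is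
everywhere defined (G(ψ) = X) and an immersion if and only if there is a family (s_a) satisfying
(i), (ii) and (iii). -/
theorem result {Y X P PL : Scheme.{u}} (q : X ⟶ Y)
    (L : X.Modules) (hL : PicF.IsInvertible L) (hLq : Coh.IsQCoh L)
    (𝒮 : RelProj.QCGrAlg Y) (𝒮L : RelProj.QCGrAlg X) (j : L ⟶ 𝒮L.toModule) (hj : RelProj.IsGrSymAlg L 𝒮L j)
    (u : RelProj.QGrHom q 𝒮 𝒮L)
    (p : P ⟶ Y) (chart : ∀ (U : Y.Opens) (hU : IsAffineOpen U), (((p ⁻¹ᵁ U : P.Opens) : Scheme.{u}) ≅ Proj (𝒮.deg U hU)))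
    (hP : RelProj.IsRelProj 𝒮 p chart)
    (pL : PL ⟶ X) (chartL : ∀ (U : X.Opens) (hU : IsAffineOpen U), (((pL ⁻¹ᵁ U : PL.Opens) : Scheme.{u}) ≅ Proj (𝒮L.deg U hU)))
    (hPL : RelProj.IsRelProj 𝒮L pL chartL)
    (r : ((RelProj.domQ u pL chartL : PL.Opens) : Scheme.{u}) ⟶ P)
    (hr : RelProj.IsProjQMapOn u p chart pL chartL (RelProj.domQ u pL chartL) r)
    (hY : IsAffineOpen (⊤ : Y.Opens)) :
    (RelProj.domQ u pL chartL = ⊤ ∧ IsImmersion r) ↔
      ∃ (ι : Type u) (n : ι → ℕ) (s : ι → 𝒮.presheaf.obj (op ⊤)) (XT : ι → X.Opens),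
        (∀ a, 0 < n a ∧ s a ∈ 𝒮.deg ⊤ hY (n a)) ∧
        (∀ a, XT a = (⨆ V : {V : X.affineOpens //
          ((𝒮L.deg V.1 V.2 (n a) : AddSubgroup (𝒮L.presheaf.obj (op (V.1 : X.Opens)))) : Set (𝒮L.presheaf.obj (op (V.1 : X.Opens)))) ⊆
            (Ideal.span {(u.appLE ⊤ (V.1 : X.Opens) (le_top.trans (Scheme.Hom.preimage_top q).ge)).hom (s a)} : Set (𝒮L.presheaf.obj (op (V.1 : X.Opens))))},
          (V.1.1 : X.Opens))) ∧
        (⨆ a, XT a) = ⊤ ∧ (∀ a, IsAffineOpen (XT a)) ∧
        (∀ (a : ι) (t : X.presheaf.obj (op (XT a))), ∃ (m : ℕ) (_ : 0 < m) (s' : 𝒮.presheaf.obj (op ⊤)) (_ : s' ∈ 𝒮.deg ⊤ hY (m * n a)),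
            (𝒮L.str.app (op (XT a))).hom t * ((u.appLE ⊤ (XT a) (le_top.trans (Scheme.Hom.preimage_top q).ge)).hom (s a)) ^ m =
              (u.appLE ⊤ (XT a) (le_top.trans (Scheme.Hom.preimage_top q).ge)).hom s') := by
  have hi : RelProj.domQ u pL chartL = ⊤ → IsIso (RelProj.domQ u pL chartL).ι := fun htop =>
    isIso_of_isOpenImmersion_of_opensRange_eq_top _ ((Scheme.Opens.opensRange_ι _).trans htop)
  constructor
  · rintro ⟨htop, hr'⟩
    have := hi htop
    have := Family.isIso_pL hL hLq hj hPL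
    set v := inv (RelProj.domQ u pL chartL).ι ≫ r
    choose n s hn hs hy hsub using fun x : X => Family.exists_O (chart := chart) hY (v (inv pL x))
      (W := (v.coborderRange : Set P)) v.coborderRange.2 (subset_coborder (Set.mem_range_self (inv pL x)))
    have hcl : ∀ x, IsClosedImmersion (v ∣_ Family.O chart hY (s x)) := fun x =>
      Family.restrict_isClosedImmersion v (hsub x)
    have haff : ∀ x, IsAffineOpen (v ⁻¹ᵁ Family.O chart hY (s x)) := fun x => by
      have hO : IsAffineOpen (Family.O chart hY (s x)) :=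
        (Scheme.Hom.isAffineOpen_iff_of_isOpenImmersion _).mpr (Proj.isAffineOpen_basicOpen _ (s x) (hs x) (hn x))
      have : IsAffine _ := hO
      have := hcl x
      exact isAffine_of_isAffineHom (v ∣_ Family.O chart hY (s x))
    refine ⟨X, n, s, fun x => Family.XT u (n x) (s x), fun x => ⟨hn x, hs x⟩, fun _ => rfl,
      top_le_iff.mp fun x _ => Opens.mem_iSup.mpr ⟨x, ?_⟩,
      fun x => (Family.isAffineOpen_XT_iff hL hLq hj hP hPL hr hY (hn x) (hs x) htop).mp (haff x), fun x => ?_⟩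
    · have := (Family.preimage_O' hL hLq hj hP hPL hr hY (hn x) (hs x) htop).le (hy x)
      exact (congrArg (· ∈ Family.XT u (n x) (s x)) (congrArg (fun k : X ⟶ X => k x) (IsIso.inv_hom_id pL))).mp this
    · have hV := (Family.isAffineOpen_XT_iff hL hLq hj hP hPL hr hY (hn x) (hs x) htop).mp (haff x)
      have := (Family.restrict_iff hL hLq hj hP hPL hr hY (hn x) (hs x) hV rfl htop @IsClosedImmersion).mp (hcl x)
      exact (Family.mp_surjective_iff hL hLq hj hP hPL hr hY (hn x) (hs x) hV rfl).mp (surjective_of_isClosedImmersion _)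
  · rintro ⟨ι, n, s, XT, hns, hXT, hcov, haff, hiii⟩
    obtain rfl : XT = fun a => Family.XT u (n a) (s a) := funext hXT
    have htop := Family.domQ_eq_top hL hLq hj hP hPL hr hY hns hcov
    have := hi htop
    refine ⟨htop, ?_⟩
    obtain ⟨w, hw, hwc⟩ := Family.factor (inv (RelProj.domQ u pL chartL).ι ≫ r) @IsClosedImmersion
      (fun a => Family.O chart hY (s a)) (fun a =>
        (Family.restrict_iff hL hLq hj hP hPL hr hY (hns a).1 (hns a).2 (haff a) rfl htop @IsClosedImmersion).mpr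
          (IsClosedImmersion.spec_of_surjective _
            ((Family.mp_surjective_iff hL hLq hj hP hPL hr hY (hns a).1 (hns a).2 (haff a) rfl).mpr (hiii a))))
      (by
        refine top_le_iff.mp fun y _ => ?_
        obtain ⟨a, ha⟩ := Opens.mem_iSup.mp (hcov.ge (trivial : pL y ∈ (⊤ : X.Opens)))
        exact Opens.mem_iSup.mpr ⟨a, (Family.preimage_O' hL hLq hj hP hPL hr hY (hns a).1 (hns a).2 htop).ge ha⟩)
    have : IsImmersion (inv (RelProj.domQ u pL chartL).ι ≫ r) := hw ▸ inferInstance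
    rw [← IsIso.hom_inv_id_assoc (RelProj.domQ u pL chartL).ι r]
    infer_instance

end Groth.Agent.S12150
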