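import Groth.Statements.S12154
import Groth.Agent.ProjQX.Comp
import Groth.Agent.ProjQX.TN
import Groth.Agent.S12139
import Groth.Agent.S12140
-- import your own Groth.Agent.* helpers here

set_option autoImplicit false
universe u
open CategoryTheory CategoryTheory.Limits AlgebraicGeometry TopologicalSpace Opposite
open scoped HomogeneousIdeal
noncomputable section
open EGA2

namespace Groth.Agent.S12154

set_option backward.isDefEq.respectTransparency false

/-- Let q : X → Y be a morphism, L an invertible O_X-module with 𝒮L = ⊕ L^{⊗n} (whose Proj, with its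
charts, is X), v : 𝒯 → 𝒮 a graded homomorphism of quasi-coherent positively graded O_Y-algebras, ψ♭
= u : 𝒮 → q_*𝒮L a graded q-morphism and ψ'♭ = u' its composite with v; let r = r_{L,ψ} : G(ψ) →
Proj(𝒮) and r' = r_{L,ψ'} : G(ψ') → Proj(𝒯), with r' everywhere defined and v (TN)-surjective (v :
𝒯_k → 𝒮_k surjective for all large k, on sections over affine opens). If r' is an open immersion, so
is r; if r' is a closed immersion, so is r. -/
theorem result {Y X P PL P' : Scheme.{u}} (q : X ⟶ Y)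
    (L : X.Modules) (hL : PicF.IsInvertible L) (hLq : Coh.IsQCoh L)
    (𝒮 : RelProj.QCGrAlg Y) (𝒮L : RelProj.QCGrAlg X) (j : L ⟶ 𝒮L.toModule) (hj : RelProj.IsGrSymAlg L 𝒮L j)
    (u : RelProj.QGrHom q 𝒮 𝒮L)
    (p : P ⟶ Y) (chart : ∀ (U : Y.Opens) (hU : IsAffineOpen U), (((p ⁻¹ᵁ U : P.Opens) : Scheme.{u}) ≅ Proj (𝒮.deg U hU)))
    (hP : RelProj.IsRelProj 𝒮 p chart)
    (pL : PL ⟶ X) (chartL : ∀ (U : X.Opens) (hU : IsAffineOpen U), (((pL ⁻¹ᵁ U : PL.Opens) : Scheme.{u}) ≅ Proj (𝒮L.deg U hU)))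
    (hPL : RelProj.IsRelProj 𝒮L pL chartL)
    (r : ((RelProj.domQ u pL chartL : PL.Opens) : Scheme.{u}) ⟶ P)
    (hr : RelProj.IsProjQMapOn u p chart pL chartL (RelProj.domQ u pL chartL) r)
    (𝒯 : RelProj.QCGrAlg Y) (v : 𝒯.toQCAlg ⟶ 𝒮.toQCAlg) (hv : RelProj.IsGradedHom v)
    (u' : RelProj.QGrHom q 𝒯 𝒮L) (hu' : ∀ U : Y.Opens, u'.app U = v.hom.app (op U) ≫ u.app U)
    (p' : P' ⟶ Y) (chart' : ∀ (U : Y.Opens) (hU : IsAffineOpen U), (((p' ⁻¹ᵁ U : P'.Opens) : Scheme.{u}) ≅ Proj (𝒯.deg U hU)))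
    (hP' : RelProj.IsRelProj 𝒯 p' chart')
    (r' : ((RelProj.domQ u' pL chartL : PL.Opens) : Scheme.{u}) ⟶ P')
    (hr' : RelProj.IsProjQMapOn u' p' chart' pL chartL (RelProj.domQ u' pL chartL) r')
    (hTN : ∃ n : ℕ, ∀ k, n ≤ k → ∀ (U : Y.Opens) (hU : IsAffineOpen U), ∀ y ∈ 𝒮.deg U hU k,
      ∃ x ∈ 𝒯.deg U hU k, (v.hom.app (op U)).hom x = y)
    (hdef : RelProj.domQ u' pL chartL = ⊤) :
    (IsOpenImmersion r' → IsOpenImmersion r) ∧ (IsClosedImmersion r' → IsClosedImmersion r) := by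
  obtain ⟨⟨Φ, hΦ, -⟩, -⟩ := Groth.Agent.S12139.result (𝟙 Y) 𝒯 𝒮 (RelProj.QGrHom.ofHom v hv) p' chart' hP' p chart hP
  obtain ⟨w, hw, hw'⟩ := Groth.Agent.ProjQX.exists_comp hv hu' hPL hr hr' hΦ
  have hle := Groth.Agent.ProjQX.domQ_le (u := u) (pL := pL) (chartL := chartL) hv hu' hPL
  have : IsAffineHom Φ := (Groth.Agent.S12140.result 𝒯 𝒮 v hv p' chart' hP' p chart hP Φ hΦ).1
  have htop : RelProj.domQ u pL chartL = ⊤ := top_le_iff.mp (hdef ▸ hle)
  have hiso : IsIso (PL.homOfLE hle) := by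
    refine isIso_of_isOpenImmersion_of_opensRange_eq_top _ (top_le_iff.mp fun x _ => ?_)
    refine ⟨⟨x.1, hdef.ge trivial⟩, (RelProj.domQ u pL chartL).ι.isOpenEmbedding.injective ?_⟩
    rw [← Scheme.Hom.comp_apply, Scheme.homOfLE_ι]
    rfl
  obtain ⟨n, hn⟩ := hTN
  have hvtop : RelProj.domQ (RelProj.QGrHom.ofHom v hv) p chart = ⊤ :=
    Groth.Agent.ProjQX.domQ_eq_top hP fun U hU =>
      Groth.Agent.ProjQX.domOpen_eq_top_of_tnSurj _ (n := n) fun k hk y hy => hn k hk U hU y hy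
  have : IsClosedImmersion Φ := Groth.Agent.ProjQX.map_of_charts (Pr := @IsClosedImmersion) hP' hP hΦ fun t =>
    IsClosedImmersion.spec_of_surjective _ (Groth.Agent.ProjQX.awayMap_surj_of_tnSurj _ (n := n)
      (fun k hk y hy => by
        obtain ⟨x, hx, e⟩ := hn k hk t.U t.hU y hy
        exact ⟨x, hx, (Groth.Agent.ProjQX.gradedAt_ofHom t.U t.hU le_rfl x).trans e⟩) t.hd t.hf)
  have : IsIso (RelProj.domQ (RelProj.QGrHom.ofHom v hv) p chart).ι :=
    isIso_of_isOpenImmersion_of_opensRange_eq_top _ ((Scheme.Opens.opensRange_ι _).trans hvtop)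
  refine ⟨fun ho => ?_, fun hc => ?_⟩
  · have hpb : IsPullback w (𝟙 _) Φ r' := IsPullback.of_isLimit' ⟨by rw [hw', Category.id_comp]⟩
      (PullbackCone.IsLimit.mk _ (fun s => s.snd)
        (fun s => by
          rw [← cancel_mono Φ, Category.assoc, hw', s.condition])
        (fun s => Category.comp_id _) (fun s m _ hm => by rw [← hm, Category.comp_id]))
    have : IsOpenImmersion w := MorphismProperty.of_isPullback (P := @IsOpenImmersion) hpb.flip ho
    exact (MorphismProperty.cancel_left_of_respectsIso @IsOpenImmersion (PL.homOfLE hle) r).mp (hw ▸ inferInstance)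
  · have : IsClosedImmersion (w ≫ Φ) := hw'.symm ▸ hc
    have : IsClosedImmersion w := IsClosedImmersion.of_comp w Φ
    exact (MorphismProperty.cancel_left_of_respectsIso @IsClosedImmersion (PL.homOfLE hle) r).mp (hw ▸ inferInstance)

end Groth.Agent.S12154
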