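import Groth.Statements.S12155
import Groth.Agent.ProjQX.ConeMap
import Groth.Agent.ProjQX.Comp
-- import your own Groth.Agent.* helpers here

set_option autoImplicit false
universe u
open CategoryTheory CategoryTheory.Limits AlgebraicGeometry TopologicalSpace Opposite
open scoped HomogeneousIdeal
noncomputable section
open EGA2

namespace Groth.Agent.S12155

open Groth.Agent.ProjQX
set_option backward.isDefEq.respectTransparency false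
set_option backward.isDefEq.respectTransparency.types false

/-- Let q : Y' → Y be a morphism, φ : 𝒮 → q_*𝒮' a graded q-morphism of quasi-coherent positively graded
algebras with 𝒮_0 = O_Y, 𝒮'_0 = O_{Y'}, φ̂ : 𝒮[z] → q_*𝒮'[z] its extension with φ̂(z) = z, Ĉ =
Proj(𝒮[z]), Ĉ' = Proj(𝒮'[z]) the projective cones with pointed cones Ê, Ê', and Φ̂ = Proj(φ̂) :
G(φ̂) → Ĉ. Then Φ̂⁻¹(Ê) ⊆ Ê'; moreover if Proj(φ) is everywhere defined on Proj(𝒮'), then Φ̂ is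
everywhere defined on Ĉ' and Φ̂⁻¹(Ê) = Ê'. -/
theorem result {Y Y' PC PC' : Scheme.{u}} (q : Y' ⟶ Y)
    (𝒮 : RelProj.QCGrAlg Y) (𝒮' : RelProj.QCGrAlg Y') (h0 : RelCone.StrZeroBij 𝒮) (h0' : RelCone.StrZeroBij 𝒮')
    (u : RelProj.QGrHom q 𝒮 𝒮')
    (𝒮h : RelProj.QCGrAlg Y) (ι : 𝒮.toQCAlg ⟶ 𝒮h.toQCAlg) (z : 𝒮h.presheaf.obj (op ⊤))
    (hz : RelCone.IsPolyOver 𝒮 𝒮h ι z)
    (pC : PC ⟶ Y) (chartC : ∀ (U : Y.Opens) (hU : IsAffineOpen U), (((pC ⁻¹ᵁ U : PC.Opens) : Scheme.{u}) ≅ Proj (𝒮h.deg U hU)))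
    (hC : RelProj.IsRelProj 𝒮h pC chartC)
    (𝒮h' : RelProj.QCGrAlg Y') (ι' : 𝒮'.toQCAlg ⟶ 𝒮h'.toQCAlg) (z' : 𝒮h'.presheaf.obj (op ⊤))
    (hz' : RelCone.IsPolyOver 𝒮' 𝒮h' ι' z')
    (pC' : PC' ⟶ Y') (chartC' : ∀ (U : Y'.Opens) (hU : IsAffineOpen U), (((pC' ⁻¹ᵁ U : PC'.Opens) : Scheme.{u}) ≅ Proj (𝒮h'.deg U hU)))
    (hC' : RelProj.IsRelProj 𝒮h' pC' chartC')
    (uh : RelProj.QGrHom q 𝒮h 𝒮h')
    (huh : ∀ U : Y.Opens, ι.hom.app (op U) ≫ uh.app U = u.app U ≫ ι'.hom.app (op (q ⁻¹ᵁ U)))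
    (huhz : (uh.app ⊤).hom z = RelCone.restrictTop 𝒮h' z' (q ⁻¹ᵁ ⊤))
    (Φh : ((RelProj.domQ uh pC' chartC' : PC'.Opens) : Scheme.{u}) ⟶ PC)
    (hΦh : RelProj.IsProjQMapOn uh pC chartC pC' chartC' (RelProj.domQ uh pC' chartC') Φh)
    {P' : Scheme.{u}} (p' : P' ⟶ Y') (chart' : ∀ (U : Y'.Opens) (hU : IsAffineOpen U), (((p' ⁻¹ᵁ U : P'.Opens) : Scheme.{u}) ≅ Proj (𝒮'.deg U hU)))
    (hP' : RelProj.IsRelProj 𝒮' p' chart') :
    (RelProj.domQ uh pC' chartC').ι ''ᵁ (Φh ⁻¹ᵁ RelCone.pointedProjCone 𝒮 hz pC chartC) ≤ RelCone.pointedProjCone 𝒮' hz' pC' chartC' ∧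
      (RelProj.domQ u p' chart' = ⊤ →
        RelProj.domQ uh pC' chartC' = ⊤ ∧
          (RelProj.domQ uh pC' chartC').ι ''ᵁ (Φh ⁻¹ᵁ RelCone.pointedProjCone 𝒮 hz pC chartC) = RelCone.pointedProjCone 𝒮' hz' pC' chartC') := by
  have hd : ∀ (x : (RelProj.domQ uh pC' chartC' : Scheme.{u})), Φh x ∈ RelCone.pointedProjCone 𝒮 hz pC chartC →
      x.1 ∈ RelCone.pointedProjCone 𝒮' hz' pC' chartC' := by
    intro x hx
    rw [pointed_eq_domQ hz pC chartC hC] at hx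
    obtain ⟨i, hi⟩ := exists_idx _ hx
    rw [range_emb'] at hi
    obtain ⟨a, ha, hax⟩ := hi
    have hle0 : i.U' ≤ i.U := i.hle
    have hpx : q (pC' x.1) ∈ i.U' := by
      have hcomp := congrArg (fun ψ : (RelProj.domQ uh pC' chartC' : Scheme.{u}) ⟶ Y => ψ x)
        (comp_eq hC hC' hΦh)
      change pC (Φh x) = q (pC' x.1) at hcomp
      exact hcomp ▸ (mem_opensRange_emb i.hU').mp ⟨a, hax⟩
    obtain ⟨_, ⟨U', hU', rfl⟩, hxU', hle⟩ := Y'.isBasis_affineOpens.exists_subset_of_mem_open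
      (show pC' x.1 ∈ q ⁻¹ᵁ i.U' from hpx) (q ⁻¹ᵁ i.U').2
    obtain ⟨b, hb⟩ := (mem_opensRange_emb (chart := chartC') hU').mpr hxU'
    have hf := (𝒮.res i.hU i.hU' hle0).map_mem i.hf
    have key : (RelProj.QGrHom.ofHom ι hz.graded).gradedAt i.U i.hU i.U' i.hU' i.hle i.f =
        (ι.hom.app (op i.U')).hom (𝒮.res i.hU i.hU' hle0 i.f) :=
      (ConcreteCategory.congr_hom (ι.hom.naturality (homOfLE hle0).op) i.f).symm
    have hb' := (map_mem_iff hC hC' hΦh (U := i.U') (hU := i.hU') (hU' := hU') hle i.hd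
      (hz.graded i.U' i.hU' i.d _ hf) x hb).mp ⟨a, by
        show (ι.hom.app (op i.U')).hom _ ∉ _
        exact key ▸ ha, hax⟩
    rw [← hb, mem_pointed_iff hz' hC' hU' b]
    refine ⟨u.gradedAt i.U' i.hU' U' hU' hle (𝒮.res i.hU i.hU' hle0 i.f),
      HomogeneousIdeal.mem_irrelevant_of_mem _ i.hd ((u.gradedAt i.U' i.hU' U' hU' hle).map_mem hf), ?_⟩
    rw [← grad_ι huh i.hU' hU' hle]
    exact hb'
  refine ⟨fun y hy => ?_, fun htop => ?_⟩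
  · obtain ⟨x, hx, rfl⟩ := hy
    exact hd x hx
  have hpair : ∀ x : PC', ∃ (U : Y.Opens) (_ : IsAffineOpen U) (U' : Y'.Opens) (_ : IsAffineOpen U'),
      U' ≤ q ⁻¹ᵁ U ∧ pC' x ∈ U' := by
    intro x
    obtain ⟨_, ⟨U, hU, rfl⟩, hxU, -⟩ := Y.isBasis_affineOpens.exists_subset_of_mem_open
      (Set.mem_univ (q (pC' x))) isOpen_univ
    obtain ⟨_, ⟨U', hU', rfl⟩, hxU', hle⟩ := Y'.isBasis_affineOpens.exists_subset_of_mem_open
      (show pC' x ∈ q ⁻¹ᵁ U from hxU) (q ⁻¹ᵁ U).2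
    exact ⟨U, hU, U', hU', hle, hxU'⟩
  have hu : ∀ {U : Y.Opens} (hU : IsAffineOpen U) {U' : Y'.Opens} (hU' : IsAffineOpen U') (hle : U' ≤ q ⁻¹ᵁ U)
      (b : Proj (𝒮h'.deg U' hU')),
      (∃ f ∈ (𝒮'.deg U' hU')₊.toIdeal, (ι'.hom.app (op U')).hom f ∉ (b : ProjectiveSpectrum (𝒮h'.deg U' hU')).asHomogeneousIdeal) →
      ∃ (d : ℕ) (f : 𝒮.presheaf.obj (op U)), 0 < d ∧ f ∈ 𝒮.deg U hU d ∧
        b ∈ Proj.basicOpen (𝒮h'.deg U' hU') (uh.gradedAt U hU U' hU' hle ((ι.hom.app (op U)).hom f)) := by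
    intro U hU U' hU' hle b hb
    let φ := RelProj.gradedHomAt ι' hz'.graded U' hU'
    have hrel : ¬ (𝒮'.deg U' hU')₊ ≤ (b : ProjectiveSpectrum (𝒮h'.deg U' hU')).asHomogeneousIdeal.comap φ := by
      intro h
      obtain ⟨f, hf, hfb⟩ := hb
      exact hfb (h hf)
    let c : Proj (𝒮'.deg U' hU') :=
      (⟨(b : ProjectiveSpectrum (𝒮h'.deg U' hU')).asHomogeneousIdeal.comap φ, Ideal.IsPrime.comap φ.toRingHom, hrel⟩ :
        ProjectiveSpectrum (𝒮'.deg U' hU'))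
    obtain ⟨d, f, hd, hf, hfc⟩ := exists_homogeneous_of_mem_domOpen _
      ((emb_mem_domQ_iff' hP' hU hU' hle c).mp (htop.ge trivial))
    exact ⟨d, f, hd, hf, (congrArg (· ∉ (b : ProjectiveSpectrum (𝒮h'.deg U' hU')).asHomogeneousIdeal)
      (grad_ι huh hU hU' hle f)).mpr hfc⟩
  have htop' : RelProj.domQ uh pC' chartC' = ⊤ := by
    refine top_le_iff.mp fun x _ => ?_
    obtain ⟨U, hU, U', hU', hle, hxU'⟩ := hpair x
    obtain ⟨b, rfl⟩ := (mem_opensRange_emb (chart := chartC') hU').mpr hxU'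
    refine (emb_mem_domQ_iff' hC' hU hU' hle b).mpr ?_
    by_cases hb : ∃ f ∈ (𝒮'.deg U' hU')₊.toIdeal,
        (ι'.hom.app (op U')).hom f ∉ (b : ProjectiveSpectrum (𝒮h'.deg U' hU')).asHomogeneousIdeal
    · obtain ⟨d, f, hd, hf, hfb⟩ := hu hU hU' hle b hb
      exact mem_domOpen_of_homogeneous _ hd (hz.graded U hU d f hf) hfb
    · push Not at hb
      refine mem_domOpen_of_homogeneous _ one_pos (hz.deg_z U hU) ?_
      rw [show uh.gradedAt U hU U' hU' hle (RelCone.restrictTop 𝒮h z U) = _ from grad_z huhz hU hU' hle]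
      exact mem_irrelevant_le hz' hU' b hb
  refine ⟨htop', le_antisymm (fun y hy => ?_) fun y hy => ?_⟩
  · obtain ⟨x, hx, rfl⟩ := hy
    exact hd x hx
  obtain ⟨U, hU, U', hU', hle, hxU'⟩ := hpair y
  obtain ⟨b, rfl⟩ := (mem_opensRange_emb (chart := chartC') hU').mpr hxU'
  obtain ⟨d, f, hd', hf, hfb⟩ := hu hU hU' hle b ((mem_pointed_iff hz' hC' hU' b).mp hy)
  obtain ⟨a, ha, hax⟩ := (map_mem_iff hC hC' hΦh hle hd' (hz.graded U hU d f hf)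
    ⟨RelProj.emb pC' chartC' U' hU' b, htop'.ge trivial⟩ (z := b) rfl).mpr hfb
  refine ⟨⟨_, htop'.ge trivial⟩, ?_, rfl⟩
  show Φh _ ∈ RelCone.pointedProjCone 𝒮 hz pC chartC
  refine (congrArg (· ∈ RelCone.pointedProjCone 𝒮 hz pC chartC) hax).mp ?_
  refine (mem_pointed_iff hz hC hU a).mpr ?_
  exact ⟨f, HomogeneousIdeal.mem_irrelevant_of_mem _ hd' hf, ha⟩

end Groth.Agent.S12155
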