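import Groth.Statements.S12156
import Groth.Agent.ProjQX.ConeMap
import Groth.Agent.ProjQX.Comp
-- import your own Groth.Agent.* helpers here

set_option autoImplicit false
universe u
open CategoryTheory CategoryTheory.Limits AlgebraicGeometry TopologicalSpace Opposite
open scoped HomogeneousIdeal
noncomputable section
open EGA2

namespace Groth.Agent.S12156

open Groth.Agent.ProjQX
set_option backward.isDefEq.respectTransparency false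
set_option backward.isDefEq.respectTransparency.types false

theorem main {Y Y' PC PC' P P' : Scheme.{u}} {q : Y' ⟶ Y}
    {𝒮 : RelProj.QCGrAlg Y} {𝒮' : RelProj.QCGrAlg Y'} {u : RelProj.QGrHom q 𝒮 𝒮'}
    {𝒮h : RelProj.QCGrAlg Y} {ι : 𝒮.toQCAlg ⟶ 𝒮h.toQCAlg} (hι : RelProj.IsGradedHom ι)
    {pC : PC ⟶ Y} {chartC : ∀ (U : Y.Opens) (hU : IsAffineOpen U), (((pC ⁻¹ᵁ U : PC.Opens) : Scheme.{u}) ≅ Proj (𝒮h.deg U hU))}
    (hC : RelProj.IsRelProj 𝒮h pC chartC)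
    {𝒮h' : RelProj.QCGrAlg Y'} {ι' : 𝒮'.toQCAlg ⟶ 𝒮h'.toQCAlg} (hι' : RelProj.IsGradedHom ι')
    {pC' : PC' ⟶ Y'} {chartC' : ∀ (U : Y'.Opens) (hU : IsAffineOpen U), (((pC' ⁻¹ᵁ U : PC'.Opens) : Scheme.{u}) ≅ Proj (𝒮h'.deg U hU))}
    (hC' : RelProj.IsRelProj 𝒮h' pC' chartC')
    {uh : RelProj.QGrHom q 𝒮h 𝒮h'}
    (huh : ∀ U : Y.Opens, ι.hom.app (op U) ≫ uh.app U = u.app U ≫ ι'.hom.app (op (q ⁻¹ᵁ U)))
    {Φh : ((RelProj.domQ uh pC' chartC' : PC'.Opens) : Scheme.{u}) ⟶ PC}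
    (hΦh : RelProj.IsProjQMapOn uh pC chartC pC' chartC' (RelProj.domQ uh pC' chartC') Φh)
    {p : P ⟶ Y} {chart : ∀ (U : Y.Opens) (hU : IsAffineOpen U), (((p ⁻¹ᵁ U : P.Opens) : Scheme.{u}) ≅ Proj (𝒮.deg U hU))}
    {p' : P' ⟶ Y'} {chart' : ∀ (U : Y'.Opens) (hU : IsAffineOpen U), (((p' ⁻¹ᵁ U : P'.Opens) : Scheme.{u}) ≅ Proj (𝒮'.deg U hU))}
    {Φ : ((RelProj.domQ u p' chart' : P'.Opens) : Scheme.{u}) ⟶ P}
    (hΦ : RelProj.IsProjQMapOn u p chart p' chart' (RelProj.domQ u p' chart') Φ)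
    {r : ((RelProj.domQ (RelProj.QGrHom.ofHom ι hι) pC chartC : PC.Opens) : Scheme.{u}) ⟶ P}
    (hr : RelProj.IsProjQMapOn (RelProj.QGrHom.ofHom ι hι) p chart pC chartC (RelProj.domQ (RelProj.QGrHom.ofHom ι hι) pC chartC) r)
    {r' : ((RelProj.domQ (RelProj.QGrHom.ofHom ι' hι') pC' chartC' : PC'.Opens) : Scheme.{u}) ⟶ P'}
    (hr' : RelProj.IsProjQMapOn (RelProj.QGrHom.ofHom ι' hι') p' chart' pC' chartC' (RelProj.domQ (RelProj.QGrHom.ofHom ι' hι') pC' chartC') r')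
    (T : Scheme.{u}) (a : T ⟶ ((RelProj.domQ (RelProj.QGrHom.ofHom ι' hι') pC' chartC' : PC'.Opens) : Scheme.{u}))
    (b : T ⟶ ((RelProj.domQ uh pC' chartC' : PC'.Opens) : Scheme.{u}))
    (c : T ⟶ ((RelProj.domQ (RelProj.QGrHom.ofHom ι hι) pC chartC : PC.Opens) : Scheme.{u}))
    (hab : a ≫ (RelProj.domQ (RelProj.QGrHom.ofHom ι' hι') pC' chartC').ι = b ≫ (RelProj.domQ uh pC' chartC').ι)
    (hbc : b ≫ Φh = c ≫ (RelProj.domQ (RelProj.QGrHom.ofHom ι hι) pC chartC).ι) :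
    Set.range (a ≫ r').base ⊆ ((RelProj.domQ u p' chart' : P'.Opens) : Set P') ∧
      ∀ d : T ⟶ ((RelProj.domQ u p' chart' : P'.Opens) : Scheme.{u}),
        a ≫ r' = d ≫ (RelProj.domQ u p' chart').ι → c ≫ r = d ≫ Φ := by
  have key : ∀ t : T, ∃ O : T.Opens, t ∈ O ∧ ∃ d₀ : (O : Scheme.{u}) ⟶ (RelProj.domQ u p' chart' : Scheme.{u}),
      O.ι ≫ a ≫ r' = d₀ ≫ (RelProj.domQ u p' chart').ι ∧ O.ι ≫ c ≫ r = d₀ ≫ Φ := by
    intro t
    have hct : Φh (b t) = (c t).1 := congrArg (fun k : T ⟶ PC => k t) hbc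
    obtain ⟨j, hj⟩ := exists_idx _ (hct ▸ (c t).2 : Φh (b t) ∈ RelProj.domQ (RelProj.QGrHom.ofHom ι hι) pC chartC)
    rw [range_emb'] at hj
    obtain ⟨w, hw, hwx⟩ := hj
    have hle0 : j.U' ≤ j.U := j.hle
    have hpx : q (pC' (b t).1) ∈ j.U' := by
      have hcomp := congrArg (fun ψ : (RelProj.domQ uh pC' chartC' : Scheme.{u}) ⟶ Y => ψ (b t))
        (comp_eq hC hC' hΦh)
      change pC (Φh (b t)) = q (pC' (b t).1) at hcomp
      exact hcomp ▸ (mem_opensRange_emb j.hU').mp ⟨w, hwx⟩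
    obtain ⟨_, ⟨U', hU', rfl⟩, hxU', hle⟩ := Y'.isBasis_affineOpens.exists_subset_of_mem_open
      (show pC' (b t).1 ∈ q ⁻¹ᵁ j.U' from hpx) (q ⁻¹ᵁ j.U').2
    obtain ⟨v, hv⟩ := (mem_opensRange_emb (chart := chartC') hU').mpr hxU'
    let s := 𝒮.res j.hU j.hU' hle0 j.f
    have hs : s ∈ 𝒮.deg j.U' j.hU' j.d := (𝒮.res j.hU j.hU' hle0).map_mem j.hf
    let iι : Idx (RelProj.QGrHom.ofHom ι hι) := ⟨j.U', j.hU', j.U', j.hU', le_rfl, j.d, j.hd, s, hs⟩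
    let iu : Idx u := ⟨j.U', j.hU', U', hU', hle, j.d, j.hd, s, hs⟩
    let iι' : Idx (RelProj.QGrHom.ofHom ι' hι') :=
      ⟨U', hU', U', hU', le_rfl, j.d, j.hd, iu.grad s, iu.grad.map_mem hs⟩
    let iuh : Idx uh := ⟨j.U', j.hU', U', hU', hle, j.d, j.hd, iι.grad s, iι.grad.map_mem hs⟩
    have hsq : iι'.grad.comp iu.grad = iuh.grad.comp iι.grad := by
      ext x
      refine Eq.trans (show iι'.grad (iu.grad x) = _ from gradedAt_ofHom U' hU' le_rfl _) ?_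
      refine Eq.trans (grad_ι huh j.hU' hU' hle x).symm ?_
      exact congrArg iuh.grad (gradedAt_ofHom (φ := ι) (hφ := hι) j.U' j.hU' le_rfl x).symm
    have hkey : (RelProj.QGrHom.ofHom ι hι).gradedAt j.U j.hU j.U' j.hU' j.hle j.f = iι.grad s := by
      refine Eq.trans (ConcreteCategory.congr_hom (ι.hom.naturality (homOfLE hle0).op) j.f).symm ?_
      exact (gradedAt_ofHom (φ := ι) (hφ := hι) j.U' j.hU' le_rfl s).symm
    have hv' : v ∈ Proj.basicOpen (𝒮h'.deg U' hU') ((iι'.grad.comp iu.grad) s) := by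
      rw [hsq]
      exact (map_mem_iff hC hC' hΦh (U := j.U') (hU := j.hU') (hU' := hU') hle j.hd (iι.grad.map_mem hs)
        (b t) hv).mp ⟨w, hkey ▸ hw, hwx⟩
    let χ := iι'.grad.comp iu.grad
    let ε : Spec (CommRingCat.of (HomogeneousLocalization.Away (𝒮h'.deg U' hU') (χ s))) ⟶ PC' :=
      Proj.awayι (𝒮h'.deg U' hU') (χ s) (χ.map_mem hs) j.hd ≫ RelProj.emb pC' chartC' U' hU'
    let O : T.Opens := (b ≫ (RelProj.domQ uh pC' chartC').ι) ⁻¹ᵁ ε.opensRange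
    refine ⟨O, ?_, ?_⟩
    · show (b t).1 ∈ ε.opensRange
      obtain ⟨y, hy⟩ : v ∈ (Proj.awayι (𝒮h'.deg U' hU') (χ s) (χ.map_mem hs) j.hd).opensRange := by
        rw [Proj.opensRange_awayι]; exact hv'
      exact ⟨y, (congrArg (RelProj.emb pC' chartC' U' hU') hy).trans hv⟩
    let w₀ := IsOpenImmersion.lift ε (O.ι ≫ b ≫ (RelProj.domQ uh pC' chartC').ι) (by
      rintro _ ⟨y, rfl⟩
      exact y.2)
    have hw₀ : w₀ ≫ ε = O.ι ≫ b ≫ (RelProj.domQ uh pC' chartC').ι := IsOpenImmersion.lift_fac _ _ _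
    obtain ⟨c₁, hc₁, hc₁'⟩ := chart_comp χ iι.grad iuh.grad hsq j.hd hs
    obtain ⟨c₂, hc₂, hc₂'⟩ := chart_comp χ iu.grad iι'.grad rfl j.hd hs
    have hb : O.ι ≫ b = w₀ ≫ c₁ ≫ embDom chartC' iuh := by
      rw [← cancel_mono (RelProj.domQ uh pC' chartC').ι, Category.assoc, ← hw₀, Category.assoc, Category.assoc,
        embDom_ι]
      exact congrArg (w₀ ≫ ·) ((congrArg (· ≫ RelProj.emb pC' chartC' U' hU') hc₁).symm.trans (Category.assoc _ _ _))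
    have ha : O.ι ≫ a = w₀ ≫ c₂ ≫ embDom chartC' iι' := by
      rw [← cancel_mono (RelProj.domQ (RelProj.QGrHom.ofHom ι' hι') pC' chartC').ι, Category.assoc, hab, ← hw₀,
        Category.assoc, Category.assoc, embDom_ι]
      exact congrArg (w₀ ≫ ·) ((congrArg (· ≫ RelProj.emb pC' chartC' U' hU') hc₂).symm.trans (Category.assoc _ _ _))
    have hc : O.ι ≫ c = w₀ ≫ c₁ ≫
        Spec.map (CommRingCat.ofHom (HomogeneousLocalization.Away.map iuh.grad (iι.grad s))) ≫ embDom chartC iι := by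
      rw [← cancel_mono (RelProj.domQ (RelProj.QGrHom.ofHom ι hι) pC chartC).ι, Category.assoc, ← hbc,
        reassoc_of% hb, (isProjQMapOn_domQ_iff uh chartC chartC' Φh).mp hΦh iuh]
      simp only [Category.assoc, embDom_ι]
      rfl
    refine ⟨w₀ ≫ c₂ ≫
        Spec.map (CommRingCat.ofHom (HomogeneousLocalization.Away.map iι'.grad (iu.grad s))) ≫ embDom chart' iu,
      ?_, ?_⟩
    · rw [reassoc_of% ha, (isProjQMapOn_domQ_iff _ chart' chartC' r').mp hr' iι']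
      simp only [Category.assoc, embDom_ι]
      rfl
    · rw [reassoc_of% hc, (isProjQMapOn_domQ_iff _ chart chartC r).mp hr iι]
      simp only [Category.assoc]
      rw [(isProjQMapOn_domQ_iff u chart chart' Φ).mp hΦ iu]
      exact congrArg (w₀ ≫ ·) ((reassoc_of% hc₁') _ |>.trans ((reassoc_of% hc₂') _).symm)
  refine ⟨?_, fun d hd => ?_⟩
  · rintro _ ⟨t, rfl⟩
    obtain ⟨O, ht, d₀, hd₀, -⟩ := key t
    show (a ≫ r') t ∈ _
    rw [show (a ≫ r') t = (d₀ ⟨t, ht⟩).1 from congrArg (fun k : (O : Scheme.{u}) ⟶ P' => k ⟨t, ht⟩) hd₀]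
    exact (d₀ ⟨t, ht⟩).2
  · refine Scheme.hom_ext_of_forall _ _ fun t => ?_
    obtain ⟨O, ht, d₀, hd₀, hd₁⟩ := key t
    refine ⟨O, ht, ?_⟩
    have : d₀ = O.ι ≫ d := by
      rw [← cancel_mono (RelProj.domQ u p' chart').ι, ← hd₀, hd, Category.assoc]
    rw [hd₁, this, Category.assoc]


/-- Let q : Y' → Y be a morphism, φ : 𝒮 → q_*𝒮' a graded q-morphism of quasi-coherent positively graded
algebras with 𝒮_0 = O_Y, 𝒮'_0 = O_{Y'}, φ̂ : 𝒮[z] → q_*𝒮'[z] its extension with φ̂(z) = z, Ĉ =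
Proj(𝒮[z]), Ĉ' = Proj(𝒮'[z]) the projective cones with pointed cones Ê, Ê', and Φ̂ = Proj(φ̂) :
G(φ̂) → Ĉ; let X = Proj(𝒮), X' = Proj(𝒮'), Proj(φ) : G(φ) → X on its open of definition G(φ) ⊆ X',
and p̂ : Ê → X, p̂' : Ê' → X' the canonical retractions. Then p̂'(Φ̂⁻¹(Ê)) ⊆ G(φ) and on Φ̂⁻¹(Ê) the
composites p̂ ∘ Φ̂ and Proj(φ) ∘ p̂' agree (stated on T-valued points: a : T → Ê' and b : T → G(φ̂)
agreeing in Ĉ' with Φ̂ ∘ b = c : T → Ê). -/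
theorem result {Y Y' PC PC' : Scheme.{u}} (q : Y' ⟶ Y)
    (𝒮 : RelProj.QCGrAlg Y) (𝒮' : RelProj.QCGrAlg Y') (h0 : RelCone.StrZeroBij 𝒮) (h0' : RelCone.StrZeroBij 𝒮')
    (u : RelProj.QGrHom q 𝒮 𝒮')
    (𝒮h : RelProj.QCGrAlg Y) (ι : 𝒮.toQCAlg ⟶ 𝒮h.toQCAlg) (z : 𝒮h.presheaf.obj (op ⊤))
    (hz : RelCone.IsPolyOver 𝒮 𝒮h ι z)
    (pC : PC ⟶ Y) (chartC : ∀ (U : Y.Opens) (hU : IsAffineOpen U), (((pC ⁻¹ᵁ U : PC.Opens) : Scheme.{u}) ≅ Proj (𝒮h.deg U hU)))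
    (hC : RelProj.IsRelProj 𝒮h pC chartC)
    (𝒮h' : RelProj.QCGrAlg Y') (ι' : 𝒮'.toQCAlg ⟶ 𝒮h'.toQCAlg) (z' : 𝒮h'.presheaf.obj (op ⊤))
    (hz' : RelCone.IsPolyOver 𝒮' 𝒮h' ι' z')
    (pC' : PC' ⟶ Y') (chartC' : ∀ (U : Y'.Opens) (hU : IsAffineOpen U), (((pC' ⁻¹ᵁ U : PC'.Opens) : Scheme.{u}) ≅ Proj (𝒮h'.deg U hU)))
    (hC' : RelProj.IsRelProj 𝒮h' pC' chartC')
    (uh : RelProj.QGrHom q 𝒮h 𝒮h')
    (huh : ∀ U : Y.Opens, ι.hom.app (op U) ≫ uh.app U = u.app U ≫ ι'.hom.app (op (q ⁻¹ᵁ U)))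
    (huhz : (uh.app ⊤).hom z = RelCone.restrictTop 𝒮h' z' (q ⁻¹ᵁ ⊤))
    (Φh : ((RelProj.domQ uh pC' chartC' : PC'.Opens) : Scheme.{u}) ⟶ PC)
    (hΦh : RelProj.IsProjQMapOn uh pC chartC pC' chartC' (RelProj.domQ uh pC' chartC') Φh)
    {P P' : Scheme.{u}} (p : P ⟶ Y) (chart : ∀ (U : Y.Opens) (hU : IsAffineOpen U), (((p ⁻¹ᵁ U : P.Opens) : Scheme.{u}) ≅ Proj (𝒮.deg U hU)))
    (hP : RelProj.IsRelProj 𝒮 p chart)
    (p' : P' ⟶ Y') (chart' : ∀ (U : Y'.Opens) (hU : IsAffineOpen U), (((p' ⁻¹ᵁ U : P'.Opens) : Scheme.{u}) ≅ Proj (𝒮'.deg U hU)))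
    (hP' : RelProj.IsRelProj 𝒮' p' chart')
    (Φ : ((RelProj.domQ u p' chart' : P'.Opens) : Scheme.{u}) ⟶ P)
    (hΦ : RelProj.IsProjQMapOn u p chart p' chart' (RelProj.domQ u p' chart') Φ)
    (r : ((RelCone.pointedProjCone 𝒮 hz pC chartC : PC.Opens) : Scheme.{u}) ⟶ P)
    (hr : RelProj.IsProjQMapOn (RelProj.QGrHom.ofHom ι hz.graded) p chart pC chartC (RelCone.pointedProjCone 𝒮 hz pC chartC) r)
    (r' : ((RelCone.pointedProjCone 𝒮' hz' pC' chartC' : PC'.Opens) : Scheme.{u}) ⟶ P')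
    (hr' : RelProj.IsProjQMapOn (RelProj.QGrHom.ofHom ι' hz'.graded) p' chart' pC' chartC' (RelCone.pointedProjCone 𝒮' hz' pC' chartC') r')
    (T : Scheme.{u}) (a : T ⟶ ((RelCone.pointedProjCone 𝒮' hz' pC' chartC' : PC'.Opens) : Scheme.{u}))
    (b : T ⟶ ((RelProj.domQ uh pC' chartC' : PC'.Opens) : Scheme.{u}))
    (c : T ⟶ ((RelCone.pointedProjCone 𝒮 hz pC chartC : PC.Opens) : Scheme.{u}))
    (hab : a ≫ (RelCone.pointedProjCone 𝒮' hz' pC' chartC').ι = b ≫ (RelProj.domQ uh pC' chartC').ι) (hbc : b ≫ Φh = c ≫ (RelCone.pointedProjCone 𝒮 hz pC chartC).ι) :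
    Set.range (a ≫ r').base ⊆ ((RelProj.domQ u p' chart' : P'.Opens) : Set P') ∧
      ∀ d : T ⟶ ((RelProj.domQ u p' chart' : P'.Opens) : Scheme.{u}),
        a ≫ r' = d ≫ (RelProj.domQ u p' chart').ι → c ≫ r = d ≫ Φ := by
  suffices h : ∀ (W : PC.Opens), W = RelProj.domQ (RelProj.QGrHom.ofHom ι hz.graded) pC chartC →
      ∀ (W' : PC'.Opens), W' = RelProj.domQ (RelProj.QGrHom.ofHom ι' hz'.graded) pC' chartC' →
      ∀ (r : (W : Scheme.{u}) ⟶ P), RelProj.IsProjQMapOn (RelProj.QGrHom.ofHom ι hz.graded) p chart pC chartC W r →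
      ∀ (r' : (W' : Scheme.{u}) ⟶ P'), RelProj.IsProjQMapOn (RelProj.QGrHom.ofHom ι' hz'.graded) p' chart' pC' chartC' W' r' →
      ∀ (a : T ⟶ (W' : Scheme.{u})) (c : T ⟶ (W : Scheme.{u})),
        a ≫ W'.ι = b ≫ (RelProj.domQ uh pC' chartC').ι → b ≫ Φh = c ≫ W.ι →
        Set.range (a ≫ r').base ⊆ ((RelProj.domQ u p' chart' : P'.Opens) : Set P') ∧
          ∀ d : T ⟶ ((RelProj.domQ u p' chart' : P'.Opens) : Scheme.{u}),
            a ≫ r' = d ≫ (RelProj.domQ u p' chart').ι → c ≫ r = d ≫ Φ from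
    h _ (pointed_eq_domQ hz pC chartC hC) _ (pointed_eq_domQ hz' pC' chartC' hC') r hr r' hr' a c hab hbc
  rintro _ rfl _ rfl r hr r' hr' a c hab hbc
  exact main hz.graded hC hz'.graded hC' huh hΦh hΦ hr hr' T a b c hab hbc

end Groth.Agent.S12156
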