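import Groth.Statements.S12157
import Groth.Agent.ProjQX.ConeMap
import Groth.Agent.ProjQX.Comp
-- import your own Groth.Agent.* helpers here

set_option autoImplicit false
universe u
open CategoryTheory CategoryTheory.Limits AlgebraicGeometry TopologicalSpace Opposite
open scoped HomogeneousIdeal
noncomputable section
open EGA2

namespace Groth.Agent.S12157

open Groth.Agent.ProjQX
set_option backward.isDefEq.respectTransparency false
set_option backward.isDefEq.respectTransparency.types false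

/-- Let q : Y' → Y be a morphism, φ : 𝒮 → q_*𝒮' a graded q-morphism of quasi-coherent positively graded
algebras with 𝒮_0 = O_Y, 𝒮'_0 = O_{Y'}, φ̂ : 𝒮[z] → q_*𝒮'[z] its extension with φ̂(z) = z, Ĉ =
Proj(𝒮[z]), Ĉ' = Proj(𝒮'[z]) the projective cones with pointed cones Ê, Ê', and Φ̂ = Proj(φ̂) :
G(φ̂) → Ĉ; let Φ = Spec(φ) : C' = Spec(𝒮') → C = Spec(𝒮) be the morphism of affine cones and i : C →
Ĉ, i' : C' → Ĉ' the canonical open immersions. Then i'(C') ⊆ G(φ̂) and the square formed by Φ, i', i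
and Φ̂ commutes. -/
theorem result {Y Y' PC PC' : Scheme.{u}} (q : Y' ⟶ Y)
    (𝒮 : RelProj.QCGrAlg Y) (𝒮' : RelProj.QCGrAlg Y') (h0 : RelCone.StrZeroBij 𝒮) (h0' : RelCone.StrZeroBij 𝒮')
    (u : RelProj.QGrHom q 𝒮 𝒮')
    (𝒮h : RelProj.QCGrAlg Y) (ι : 𝒮.toQCAlg ⟶ 𝒮h.toQCAlg) (z : 𝒮h.presheaf.obj (op ⊤))
    (hz : RelCone.IsPolyOver 𝒮 𝒮h ι z)
    (pC : PC ⟶ Y) (chartC : ∀ (U : Y.Opens) (hU : IsAffineOpen U), (((pC ⁻¹ᵁ U : PC.Opens) : Scheme.{u}) ≅ Proj (𝒮h.deg U hU)))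
    (hC : RelProj.IsRelProj 𝒮h pC chartC)
    (𝒮h' : RelProj.QCGrAlg Y') (ι' : 𝒮'.toQCAlg ⟶ 𝒮h'.toQCAlg) (z' : 𝒮h'.presheaf.obj (op ⊤))
    (hz' : RelCone.IsPolyOver 𝒮' 𝒮h' ι' z')
    (pC' : PC' ⟶ Y') (chartC' : ∀ (U : Y'.Opens) (hU : IsAffineOpen U), (((pC' ⁻¹ᵁ U : PC'.Opens) : Scheme.{u}) ≅ Proj (𝒮h'.deg U hU)))
    (hC' : RelProj.IsRelProj 𝒮h' pC' chartC')
    (uh : RelProj.QGrHom q 𝒮h 𝒮h')
    (huh : ∀ U : Y.Opens, ι.hom.app (op U) ≫ uh.app U = u.app U ≫ ι'.hom.app (op (q ⁻¹ᵁ U)))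
    (huhz : (uh.app ⊤).hom z = RelCone.restrictTop 𝒮h' z' (q ⁻¹ᵁ ⊤))
    (Φh : ((RelProj.domQ uh pC' chartC' : PC'.Opens) : Scheme.{u}) ⟶ PC)
    (hΦh : RelProj.IsProjQMapOn uh pC chartC pC' chartC' (RelProj.domQ uh pC' chartC') Φh)
    (Φc : 𝒮'.toQCAlg.spec ⟶ 𝒮.toQCAlg.spec) (hΦc : RelSpec.IsSpecQMap u.toQHom Φc)
    (i : 𝒮.toQCAlg.spec ⟶ PC) (hi : RelCone.IsConeImm 𝒮 hz pC chartC i)
    (i' : 𝒮'.toQCAlg.spec ⟶ PC') (hi' : RelCone.IsConeImm 𝒮' hz' pC' chartC' i') :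
    Set.range i'.base ⊆ ((RelProj.domQ uh pC' chartC' : PC'.Opens) : Set PC') ∧
      ∀ i'' : 𝒮'.toQCAlg.spec ⟶ ((RelProj.domQ uh pC' chartC' : PC'.Opens) : Scheme.{u}),
        i'' ≫ (RelProj.domQ uh pC' chartC').ι = i' → i'' ≫ Φh = Φc ≫ i := by
  have hpair : ∀ s : 𝒮'.toQCAlg.spec, ∃ (U : Y.Opens) (_ : IsAffineOpen U) (U' : Y'.Opens) (hU' : IsAffineOpen U'),
      U' ≤ q ⁻¹ᵁ U ∧ s ∈ (𝒮'.toQCAlg.ι U' hU').opensRange := by
    intro s
    obtain ⟨_, ⟨U, hU, rfl⟩, hxU, -⟩ := Y.isBasis_affineOpens.exists_subset_of_mem_open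
      (Set.mem_univ (q (𝒮'.toQCAlg.π s))) isOpen_univ
    obtain ⟨_, ⟨U', hU', rfl⟩, hxU', hle⟩ := Y'.isBasis_affineOpens.exists_subset_of_mem_open
      (show 𝒮'.toQCAlg.π s ∈ q ⁻¹ᵁ U from hxU) (q ⁻¹ᵁ U).2
    exact ⟨U, hU, U', hU', hle, (𝒮'.toQCAlg.π_preimage U' hU').le hxU'⟩
  refine ⟨?_, fun i'' hi'' => ?_⟩
  · rintro _ ⟨s, rfl⟩
    obtain ⟨U, hU, U', hU', hle, t, rfl⟩ := hpair s
    obtain ⟨b, hb, hbx⟩ : i' (𝒮'.toQCAlg.ι U' hU' t) ∈ (RelProj.emb pC' chartC' U' hU') ''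
        (Proj.basicOpen (𝒮h'.deg U' hU') (RelCone.restrictTop 𝒮h' z' U') : Set _) :=
      (range_coneImm_chart hz' hi' hU').le ⟨t, rfl⟩
    rw [← hbx]
    refine (emb_mem_domQ_iff' hC' hU hU' hle b).mpr (mem_domOpen_of_homogeneous _ one_pos (hz.deg_z U hU) ?_)
    rw [show uh.gradedAt U hU U' hU' hle (RelCone.restrictTop 𝒮h z U) = _ from grad_z huhz hU hU' hle]
    exact hb
  refine Scheme.hom_ext_of_forall _ _ fun s => ?_
  obtain ⟨U, hU, U', hU', hle, hs⟩ := hpair s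
  refine ⟨(𝒮'.toQCAlg.ι U' hU').opensRange, hs, ?_⟩
  rw [← cancel_epi (𝒮'.toQCAlg.ι U' hU').isoOpensRange.hom, Scheme.Hom.isoOpensRange_hom_ι_assoc,
    Scheme.Hom.isoOpensRange_hom_ι_assoc]
  let k : Idx uh := ⟨U, hU, U', hU', hle, 1, one_pos, RelCone.restrictTop 𝒮h z U, hz.deg_z U hU⟩
  have he : k.grad k.f = RelCone.restrictTop 𝒮h' z' U' := grad_z huhz hU hU' hle
  have hunit : IsUnit (hz'.evalOne U' hU' (k.grad k.f)) := by rw [he, hz'.evalOne_z]; exact isUnit_one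
  let θa : HomogeneousLocalization.Away (𝒮h'.deg U' hU') (k.grad k.f) →+* 𝒮'.presheaf.obj (op U') :=
    (IsLocalization.Away.lift (k.grad k.f) (g := hz'.evalOne U' hU') hunit).comp
      (algebraMap (HomogeneousLocalization.Away (𝒮h'.deg U' hU') (k.grad k.f)) (Localization.Away (k.grad k.f)))
  have hval : ∀ (m : HomogeneousLocalization.Away (𝒮h'.deg U' hU') (k.grad k.f)) (n : ℕ) (x : 𝒮h'.presheaf.obj (op U')),
      m.val = Localization.mk x ⟨(k.grad k.f) ^ n, pow_mem (Submonoid.mem_powers _) n⟩ →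
        θa m = hz'.evalOne U' hU' x := by
    intro m n x hm
    show IsLocalization.Away.lift _ hunit (algebraMap _ _ m) = _
    rw [HomogeneousLocalization.algebraMap_apply, hm, Localization.mk_eq_mk', IsLocalization.Away.lift,
      IsLocalization.lift_mk', Units.mul_inv_eq_iff_eq_mul, IsUnit.coe_liftRight]
    simp [he, hz'.evalOne_z]
  have h1 := spec_awayι_congr he (k.grad.map_mem k.hf) (hz'.deg_z U' hU') θa (hz'.awayZToBase U' hU')
    (fun n x hx => (hval _ n x (HomogeneousLocalization.Away.val_mk _ _ _ _ _)).trans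
      (hz'.awayZToBase_of_val U' hU' _ x n (HomogeneousLocalization.Away.val_mk _ _ _ _ _)).symm)
  have hi2 : 𝒮'.toQCAlg.ι U' hU' ≫ i'' = Spec.map (CommRingCat.ofHom θa) ≫ embDom chartC' k := by
    rw [← cancel_mono (RelProj.domQ uh pC' chartC').ι, Category.assoc, hi'', hi' U' hU', Category.assoc, embDom_ι]
    exact ((congrArg (· ≫ RelProj.emb pC' chartC' U' hU') h1).trans (Category.assoc _ _ _)).symm.trans
      (Category.assoc _ _ _)
  rw [reassoc_of% hi2, (isProjQMapOn_domQ_iff uh chartC chartC' Φh).mp hΦh k,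
    reassoc_of% (hΦc U hU U' hU' hle), hi U hU]
  show Spec.map _ ≫ Spec.map _ ≫ _ = _
  rw [← Spec.map_comp_assoc, ← Spec.map_comp_assoc]
  refine congrArg (fun φ => Spec.map φ ≫ _) (CommRingCat.hom_ext (RingHom.ext fun m => ?_))
  obtain ⟨n, x, hx, rfl⟩ := HomogeneousLocalization.Away.mk_surjective (𝒮h.deg U hU) (hz.deg_z U hU) m
  show θa (HomogeneousLocalization.Away.map k.grad k.f _) = (u.toQHom.appLE U U' hle).hom (hz.awayZToBase U hU _)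
  rw [hz.awayZToBase_of_val U hU _ x n (HomogeneousLocalization.Away.val_mk _ _ _ _ _)]
  refine (hval _ n (k.grad x) ?_).trans (evalOne_grad hz hz' huh huhz hU hU' hle x)
  rw [HomogeneousLocalization.Away.map_mk, HomogeneousLocalization.Away.val_mk]

end Groth.Agent.S12157
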