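import Groth.Statements.S12158
import Groth.Agent.ProjQX.ConeMap
import Groth.Agent.ProjQX.Comp
-- import your own Groth.Agent.* helpers here

set_option autoImplicit false
universe u
open CategoryTheory CategoryTheory.Limits AlgebraicGeometry TopologicalSpace Opposite
open scoped HomogeneousIdeal
noncomputable section
open EGA2

namespace Groth.Agent.S12158

open Groth.Agent.ProjQX
set_option backward.isDefEq.respectTransparency false
set_option backward.isDefEq.respectTransparency.types false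

lemma retraction_zero {Y : Scheme.{u}} {𝒮 𝒮h : RelProj.QCGrAlg Y} {z : 𝒮h.presheaf.obj (op ⊤)}
    (θ : 𝒮h.toQCAlg ⟶ 𝒮.toQCAlg) (hθz : (θ.hom.app (op ⊤)).hom z = 0) (U : Y.Opens) :
    (θ.hom.app (op U)).hom (RelCone.restrictTop 𝒮h z U) = 0 := by
  refine (ConcreteCategory.congr_hom (θ.hom.naturality (homOfLE (le_top : U ≤ ⊤)).op) z).trans ?_
  exact (congrArg (𝒮.presheaf.map (homOfLE (le_top : U ≤ ⊤)).op).hom hθz).trans (map_zero _)

lemma retraction_ι {Y : Scheme.{u}} {𝒮 𝒮h : RelProj.QCGrAlg Y} {ι : 𝒮.toQCAlg ⟶ 𝒮h.toQCAlg}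
    {θ : 𝒮h.toQCAlg ⟶ 𝒮.toQCAlg} (hθι : ι ≫ θ = 𝟙 _) (U : Y.Opens) (a : 𝒮.presheaf.obj (op U)) :
    (θ.hom.app (op U)).hom ((ι.hom.app (op U)).hom a) = a :=
  ConcreteCategory.congr_hom (congrArg (fun ψ : 𝒮.toQCAlg ⟶ 𝒮.toQCAlg => ψ.hom.app (op U)) hθι) a


/-- Let q : Y' → Y be a morphism, φ : 𝒮 → q_*𝒮' a graded q-morphism of quasi-coherent positively graded
algebras with 𝒮_0 = O_Y, 𝒮'_0 = O_{Y'}, φ̂ : 𝒮[z] → q_*𝒮'[z] its extension with φ̂(z) = z, Ĉ =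
Proj(𝒮[z]), Ĉ' = Proj(𝒮'[z]) the projective cones with pointed cones Ê, Ê', and Φ̂ = Proj(φ̂) :
G(φ̂) → Ĉ; let Proj(φ) : G(φ) → X = Proj(𝒮) be the morphism induced by φ on G(φ) ⊆ X' = Proj(𝒮'),
and j : X → Ĉ, j' : X' → Ĉ' the canonical closed immersions at infinity (Proj of the graded
retractions 𝒮[z] → 𝒮, 𝒮'[z] → 𝒮' killing z). Then j'(G(φ)) ⊆ G(φ̂) and the square formed by Proj(φ),
j', j and Φ̂ commutes. -/
theorem result {Y Y' PC PC' : Scheme.{u}} (q : Y' ⟶ Y)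
    (𝒮 : RelProj.QCGrAlg Y) (𝒮' : RelProj.QCGrAlg Y') (h0 : RelCone.StrZeroBij 𝒮) (h0' : RelCone.StrZeroBij 𝒮')
    (u : RelProj.QGrHom q 𝒮 𝒮')
    (𝒮h : RelProj.QCGrAlg Y) (ι : 𝒮.toQCAlg ⟶ 𝒮h.toQCAlg) (z : 𝒮h.presheaf.obj (op ⊤))
    (hz : RelCone.IsPolyOver 𝒮 𝒮h ι z)
    (pC : PC ⟶ Y) (chartC : ∀ (U : Y.Opens) (hU : IsAffineOpen U), (((pC ⁻¹ᵁ U : PC.Opens) : Scheme.{u}) ≅ Proj (𝒮h.deg U hU)))
    (hC : RelProj.IsRelProj 𝒮h pC chartC)
    (𝒮h' : RelProj.QCGrAlg Y') (ι' : 𝒮'.toQCAlg ⟶ 𝒮h'.toQCAlg) (z' : 𝒮h'.presheaf.obj (op ⊤))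
    (hz' : RelCone.IsPolyOver 𝒮' 𝒮h' ι' z')
    (pC' : PC' ⟶ Y') (chartC' : ∀ (U : Y'.Opens) (hU : IsAffineOpen U), (((pC' ⁻¹ᵁ U : PC'.Opens) : Scheme.{u}) ≅ Proj (𝒮h'.deg U hU)))
    (hC' : RelProj.IsRelProj 𝒮h' pC' chartC')
    (uh : RelProj.QGrHom q 𝒮h 𝒮h')
    (huh : ∀ U : Y.Opens, ι.hom.app (op U) ≫ uh.app U = u.app U ≫ ι'.hom.app (op (q ⁻¹ᵁ U)))
    (huhz : (uh.app ⊤).hom z = RelCone.restrictTop 𝒮h' z' (q ⁻¹ᵁ ⊤))
    (Φh : ((RelProj.domQ uh pC' chartC' : PC'.Opens) : Scheme.{u}) ⟶ PC)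
    (hΦh : RelProj.IsProjQMapOn uh pC chartC pC' chartC' (RelProj.domQ uh pC' chartC') Φh)
    {P P' : Scheme.{u}} (p : P ⟶ Y) (chart : ∀ (U : Y.Opens) (hU : IsAffineOpen U), (((p ⁻¹ᵁ U : P.Opens) : Scheme.{u}) ≅ Proj (𝒮.deg U hU)))
    (hP : RelProj.IsRelProj 𝒮 p chart)
    (p' : P' ⟶ Y') (chart' : ∀ (U : Y'.Opens) (hU : IsAffineOpen U), (((p' ⁻¹ᵁ U : P'.Opens) : Scheme.{u}) ≅ Proj (𝒮'.deg U hU)))
    (hP' : RelProj.IsRelProj 𝒮' p' chart')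
    (Φ : ((RelProj.domQ u p' chart' : P'.Opens) : Scheme.{u}) ⟶ P)
    (hΦ : RelProj.IsProjQMapOn u p chart p' chart' (RelProj.domQ u p' chart') Φ)
    (θ : 𝒮h.toQCAlg ⟶ 𝒮.toQCAlg) (hθ : RelProj.IsGradedHom θ) (hθι : ι ≫ θ = 𝟙 _)
    (hθz : (θ.hom.app (op ⊤)).hom z = 0)
    (jX : P ⟶ PC) (hjX : RelProj.IsProjQMap (RelProj.QGrHom.ofHom θ hθ) pC chartC p chart jX)
    (θ' : 𝒮h'.toQCAlg ⟶ 𝒮'.toQCAlg) (hθ' : RelProj.IsGradedHom θ') (hθι' : ι' ≫ θ' = 𝟙 _)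
    (hθz' : (θ'.hom.app (op ⊤)).hom z' = 0)
    (jX' : P' ⟶ PC') (hjX' : RelProj.IsProjQMap (RelProj.QGrHom.ofHom θ' hθ') pC' chartC' p' chart' jX')
    (T : Scheme.{u}) (d : T ⟶ ((RelProj.domQ u p' chart' : P'.Opens) : Scheme.{u}))
    (e : T ⟶ ((RelProj.domQ uh pC' chartC' : PC'.Opens) : Scheme.{u}))
    (hde : d ≫ (RelProj.domQ u p' chart').ι ≫ jX' = e ≫ (RelProj.domQ uh pC' chartC').ι) :
    jX'.base '' ((RelProj.domQ u p' chart' : P'.Opens) : Set P') ⊆ ((RelProj.domQ uh pC' chartC' : PC'.Opens) : Set PC') ∧ e ≫ Φh = d ≫ Φ ≫ jX := by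
  have hsq0 : ∀ {U : Y.Opens} (hU : IsAffineOpen U) {U' : Y'.Opens} (hU' : IsAffineOpen U') (hle : U' ≤ q ⁻¹ᵁ U) (x),
      (θ'.hom.app (op U')).hom (uh.gradedAt U hU U' hU' hle x) =
        u.gradedAt U hU U' hU' hle ((θ.hom.app (op U)).hom x) := by
    intro U hU U' hU' hle x
    obtain ⟨pl, rfl⟩ := (hz.polyEquiv U hU).surjective x
    suffices h : ((θ'.hom.app (op U')).hom.comp (uh.gradedAt U hU U' hU' hle).toRingHom).comp
        (hz.polyEquiv U hU).toRingHom =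
        (((u.gradedAt U hU U' hU' hle).toRingHom).comp (θ.hom.app (op U)).hom).comp (hz.polyEquiv U hU).toRingHom from
      RingHom.congr_fun h pl
    refine Polynomial.ringHom_ext (fun a => ?_) ?_
    · show (θ'.hom.app (op U')).hom (uh.gradedAt U hU U' hU' hle (hz.polyEquiv U hU (Polynomial.C a))) =
        u.gradedAt U hU U' hU' hle ((θ.hom.app (op U)).hom (hz.polyEquiv U hU (Polynomial.C a)))
      rw [RelCone.IsPolyOver.polyEquiv_apply, Polynomial.eval₂_C, grad_ι huh, retraction_ι hθι', retraction_ι hθι]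
    · show (θ'.hom.app (op U')).hom (uh.gradedAt U hU U' hU' hle (hz.polyEquiv U hU Polynomial.X)) =
        u.gradedAt U hU U' hU' hle ((θ.hom.app (op U)).hom (hz.polyEquiv U hU Polynomial.X))
      rw [RelCone.IsPolyOver.polyEquiv_apply, Polynomial.eval₂_X, grad_z huhz, retraction_zero θ' hθz',
        retraction_zero θ hθz, map_zero]
  have key : ∀ {U : Y.Opens} (hU : IsAffineOpen U) {U' : Y'.Opens} (hU' : IsAffineOpen U') (hle : U' ≤ q ⁻¹ᵁ U)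
      {dd : ℕ} (hdd : 0 < dd) {f : 𝒮.presheaf.obj (op U)} (hf : f ∈ 𝒮.deg U hU dd) (v : Proj (𝒮'.deg U' hU')),
      v ∈ Proj.basicOpen (𝒮'.deg U' hU') (u.gradedAt U hU U' hU' hle f) →
      ∃ (W : Scheme.{u}) (ε : W ⟶ (RelProj.domQ u p' chart' : Scheme.{u}))
        (δ : W ⟶ (RelProj.domQ uh pC' chartC' : Scheme.{u})) (w : W),
        IsOpenImmersion ε ∧ (ε w).1 = RelProj.emb p' chart' U' hU' v ∧
          ε ≫ (RelProj.domQ u p' chart').ι ≫ jX' = δ ≫ (RelProj.domQ uh pC' chartC').ι ∧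
          δ ≫ Φh = ε ≫ Φ ≫ jX := by
    intro U hU U' hU' hle dd hdd f hf v hv
    let iι : Idx (RelProj.QGrHom.ofHom ι hz.graded) := ⟨U, hU, U, hU, le_rfl, dd, hdd, f, hf⟩
    let iθ : Idx (RelProj.QGrHom.ofHom θ hθ) := ⟨U, hU, U, hU, le_rfl, dd, hdd, iι.grad f, iι.grad.map_mem hf⟩
    let iu : Idx u := ⟨U, hU, U', hU', hle, dd, hdd, iθ.grad (iι.grad f), iθ.grad.map_mem (iι.grad.map_mem hf)⟩
    let iuh : Idx uh := ⟨U, hU, U', hU', hle, dd, hdd, iι.grad f, iι.grad.map_mem hf⟩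
    let iθ' : Idx (RelProj.QGrHom.ofHom θ' hθ') :=
      ⟨U', hU', U', hU', le_rfl, dd, hdd, iuh.grad (iι.grad f), iuh.grad.map_mem (iι.grad.map_mem hf)⟩
    have hsq : iu.grad.comp iθ.grad = iθ'.grad.comp iuh.grad := by
      ext x
      refine Eq.trans ?_ (gradedAt_ofHom (φ := θ') (hφ := hθ') U' hU' le_rfl _).symm
      refine Eq.trans ?_ (hsq0 hU hU' hle x).symm
      exact congrArg (u.gradedAt U hU U' hU' hle) (gradedAt_ofHom (φ := θ) (hφ := hθ) U hU le_rfl x)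
    have hfix : iθ.grad (iι.grad f) = f := by
      refine Eq.trans (gradedAt_ofHom (φ := θ) (hφ := hθ) U hU le_rfl _) ?_
      exact (congrArg _ (gradedAt_ofHom (φ := ι) (hφ := hz.graded) U hU le_rfl f)).trans (retraction_ι hθι U f)
    obtain ⟨c, hc, hc'⟩ := chart_comp (iu.grad.comp iθ.grad) iuh.grad iθ'.grad hsq hdd (iι.grad.map_mem hf)
    have hv' : v ∈ Proj.basicOpen (𝒮'.deg U' hU') (iu.grad (iθ.grad (iι.grad f))) := by rw [hfix]; exact hv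
    obtain ⟨w, hw⟩ : v ∈ (Proj.awayι (𝒮'.deg U' hU') (iu.grad (iθ.grad (iι.grad f)))
        (iu.grad.map_mem (iθ.grad.map_mem (iι.grad.map_mem hf))) hdd).opensRange := by
      rw [Proj.opensRange_awayι]; exact hv'
    refine ⟨iu.src, embDom chart' iu,
      c ≫ Spec.map (CommRingCat.ofHom (HomogeneousLocalization.Away.map iθ'.grad (iuh.grad (iι.grad f)))) ≫
        embDom chartC' iuh, w, inferInstance, ?_, ?_, ?_⟩
    · show ((RelProj.domQ u p' chart').ι (embDom chart' iu w)) = _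
      rw [← Scheme.Hom.comp_apply, embDom_ι]
      exact congrArg (RelProj.emb p' chart' U' hU') hw
    · have h2 : emb' (RelProj.QGrHom.ofHom θ' hθ') chart' iθ' ≫ jX' =
          tgt (RelProj.QGrHom.ofHom θ' hθ') chartC' iθ' :=
        hjX'.2 U' hU' U' hU' le_rfl dd hdd _ iθ'.hf
      have h3 : emb' u chart' iu = c ≫ emb' (RelProj.QGrHom.ofHom θ' hθ') chart' iθ' :=
        ((congrArg (· ≫ RelProj.emb p' chart' U' hU') hc).symm.trans (Category.assoc _ _ _))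
      rw [← Category.assoc, embDom_ι, h3, Category.assoc, h2, Category.assoc, Category.assoc, embDom_ι]
      rfl
    · have h4 : emb' (RelProj.QGrHom.ofHom θ hθ) chart iθ ≫ jX = tgt (RelProj.QGrHom.ofHom θ hθ) chartC iθ :=
        hjX.2 U hU U hU le_rfl dd hdd _ iθ.hf
      rw [Category.assoc, Category.assoc, (isProjQMapOn_domQ_iff uh chartC chartC' Φh).mp hΦh iuh,
        reassoc_of% ((isProjQMapOn_domQ_iff u chart chart' Φ).mp hΦ iu)]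
      refine (reassoc_of% hc') _ |>.trans ?_
      rw [HomogeneousLocalization.Away.map_comp, CommRingCat.ofHom_comp, Spec.map_comp, Category.assoc]
      simp only [tgt, Category.assoc]
      refine congrArg (Spec.map (CommRingCat.ofHom (HomogeneousLocalization.Away.map iu.grad (iθ.grad (iι.grad f)))) ≫ ·) ?_
      exact h4.symm.trans (Category.assoc _ _ _)
  have hloc : ∀ x : (RelProj.domQ u p' chart' : Scheme.{u}), ∃ (W : Scheme.{u}) (ε : W ⟶ (RelProj.domQ u p' chart' : Scheme.{u}))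
      (δ : W ⟶ (RelProj.domQ uh pC' chartC' : Scheme.{u})) (w : W),
      IsOpenImmersion ε ∧ ε w = x ∧
        ε ≫ (RelProj.domQ u p' chart').ι ≫ jX' = δ ≫ (RelProj.domQ uh pC' chartC').ι ∧ δ ≫ Φh = ε ≫ Φ ≫ jX := by
    intro x
    obtain ⟨i, hi⟩ := exists_idx u x.2
    rw [range_emb'] at hi
    obtain ⟨v, hv, hvx⟩ := hi
    obtain ⟨W, ε, δ, w, h1, h2, h3⟩ := key i.hU i.hU' i.hle i.hd i.hf v hv
    exact ⟨W, ε, δ, w, h1, (RelProj.domQ u p' chart').ι.isOpenEmbedding.injective (h2.trans hvx), h3⟩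
  refine ⟨?_, ?_⟩
  · rintro _ ⟨x, hx, rfl⟩
    obtain ⟨W, ε, δ, w, -, hw, h3, -⟩ := hloc ⟨x, hx⟩
    have := congrArg (fun k : W ⟶ PC' => k w) h3
    change jX' (ε w).1 = (δ w).1 at this
    rw [hw] at this
    show jX' x ∈ _
    exact this ▸ (δ w).2
  · refine Scheme.hom_ext_of_forall _ _ fun t => ?_
    obtain ⟨W, ε, δ, w, hε, hw, h3, h4⟩ := hloc (d t)
    refine ⟨d ⁻¹ᵁ ε.opensRange, ⟨w, hw⟩, ?_⟩
    let k := IsOpenImmersion.lift ε ((d ⁻¹ᵁ ε.opensRange).ι ≫ d) (by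
      rintro _ ⟨y, rfl⟩
      exact y.2)
    have hk : k ≫ ε = (d ⁻¹ᵁ ε.opensRange).ι ≫ d := IsOpenImmersion.lift_fac _ _ _
    have he : (d ⁻¹ᵁ ε.opensRange).ι ≫ e = k ≫ δ := by
      rw [← cancel_mono (RelProj.domQ uh pC' chartC').ι, Category.assoc, ← hde, Category.assoc, ← h3, reassoc_of% hk]
    rw [reassoc_of% he, h4, reassoc_of% hk]

end Groth.Agent.S12158
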