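import Groth.Statements.S12159
import Groth.Agent.ProjQX.LineBundle
-- import your own Groth.Agent.* helpers here

set_option autoImplicit false
universe u
open CategoryTheory CategoryTheory.Limits AlgebraicGeometry TopologicalSpace Opposite
open scoped HomogeneousIdeal
noncomputable section
open EGA2

namespace Groth.Agent.S12159

open Groth.Agent.ProjQX
set_option backward.isDefEq.respectTransparency false

/-- Let Y be a quasi-compact scheme, q : X → Y a quasi-compact morphism, L an invertible O_X-module with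
𝒮L = ⊕ L^{⊗n} (whose Proj is X), 𝒮 = colim 𝒮^i a filtered colimit of quasi-coherent positively
graded O_Y-algebras along graded homomorphisms φ_i : 𝒮^i → 𝒮 (colimit taken on sections over affine
opens), ψ♭ = u : 𝒮 → q_*𝒮L a graded q-morphism and ψ_i♭ = u ∘ φ_i. Then r_{L,ψ} is everywhere
defined if and only if some r_{L,ψ_i} is everywhere defined, and in that case r_{L,ψ_j} is
everywhere defined for all j ≥ i. -/
theorem result {Y X P PL : Scheme.{u}} (q : X ⟶ Y)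
    (L : X.Modules) (hL : PicF.IsInvertible L) (hLq : Coh.IsQCoh L)
    (𝒮 : RelProj.QCGrAlg Y) (𝒮L : RelProj.QCGrAlg X) (j : L ⟶ 𝒮L.toModule) (hj : RelProj.IsGrSymAlg L 𝒮L j)
    (u : RelProj.QGrHom q 𝒮 𝒮L)
    (p : P ⟶ Y) (chart : ∀ (U : Y.Opens) (hU : IsAffineOpen U), (((p ⁻¹ᵁ U : P.Opens) : Scheme.{u}) ≅ Proj (𝒮.deg U hU)))
    (hP : RelProj.IsRelProj 𝒮 p chart)
    (pL : PL ⟶ X) (chartL : ∀ (U : X.Opens) (hU : IsAffineOpen U), (((pL ⁻¹ᵁ U : PL.Opens) : Scheme.{u}) ≅ Proj (𝒮L.deg U hU)))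
    (hPL : RelProj.IsRelProj 𝒮L pL chartL)
    [CompactSpace Y] [QuasiCompact q]
    (Λ : Type u) [Preorder Λ] [IsDirected Λ (· ≤ ·)] [Nonempty Λ]
    (𝒮i : Λ → RelProj.QCGrAlg Y) (φ : ∀ i, (𝒮i i).toQCAlg ⟶ 𝒮.toQCAlg) (hφ : ∀ i, RelProj.IsGradedHom (φ i))
    (t : ∀ i j, i ≤ j → ((𝒮i i).toQCAlg ⟶ (𝒮i j).toQCAlg)) (ht : ∀ i j (h : i ≤ j), RelProj.IsGradedHom (t i j h))
    (hφt : ∀ i j (h : i ≤ j), t i j h ≫ φ j = φ i)
    (hsurj : ∀ (U : Y.Opens), IsAffineOpen U → ∀ x : 𝒮.presheaf.obj (op U),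
      ∃ (i : Λ) (y : (𝒮i i).presheaf.obj (op U)), ((φ i).hom.app (op U)).hom y = x)
    (hker : ∀ (U : Y.Opens), IsAffineOpen U → ∀ (i : Λ) (y : (𝒮i i).presheaf.obj (op U)),
      ((φ i).hom.app (op U)).hom y = 0 → ∃ (j : Λ) (h : i ≤ j), ((t i j h).hom.app (op U)).hom y = 0)
    (ui : ∀ i, RelProj.QGrHom q (𝒮i i) 𝒮L) (hui : ∀ i (U : Y.Opens), (ui i).app U = (φ i).hom.app (op U) ≫ u.app U) :
    (RelProj.domQ u pL chartL = ⊤ ↔ ∃ i, RelProj.domQ (ui i) pL chartL = ⊤) ∧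
      ∀ i, RelProj.domQ (ui i) pL chartL = ⊤ → ∀ j, i ≤ j → RelProj.domQ (ui j) pL chartL = ⊤ := by
  have : IsIso pL := Groth.Agent.S12143.result L hL hLq 𝒮L j hj pL chartL hPL
  have hX : CompactSpace X := QuasiCompact.compactSpace_of_compactSpace q
  have hPLc : CompactSpace PL := QuasiCompact.compactSpace_of_compactSpace pL
  have mono : ∀ {𝒜 ℬ : RelProj.QCGrAlg Y} (ψ : 𝒜.toQCAlg ⟶ ℬ.toQCAlg) (hψ : RelProj.IsGradedHom ψ)
      (a : RelProj.QGrHom q 𝒜 𝒮L) (b : RelProj.QGrHom q ℬ 𝒮L),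
      (∀ U, a.app U = ψ.hom.app (op U) ≫ b.app U) → RelProj.domQ a pL chartL ≤ RelProj.domQ b pL chartL := by
    intro 𝒜 ℬ ψ hψ a b hab x hx
    obtain ⟨⟨⟨⟨U, hU⟩, ⟨U', hU'⟩⟩, hle⟩, z, hz, rfl⟩ := Opens.mem_iSup.mp hx
    obtain ⟨d, f, hd, hf, hfz⟩ := exists_homogeneous_of_mem_domOpen _ hz
    refine (emb_mem_domQ_iff' hPL hU hU' hle z).mpr (mem_domOpen_of_homogeneous _ hd (hψ U hU d f hf) ?_)
    have e : a.gradedAt U hU U' hU' hle f = b.gradedAt U hU U' hU' hle ((ψ.hom.app (op U)).hom f) := by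
      show (a.app U ≫ 𝒮L.presheaf.map (homOfLE hle).op).hom f = _
      rw [hab U]
      rfl
    rw [e] at hfz
    exact hfz
  have monoij : ∀ i j (h : i ≤ j), RelProj.domQ (ui i) pL chartL ≤ RelProj.domQ (ui j) pL chartL := fun i j h =>
    mono (t i j h) (ht i j h) _ _ fun U => by
      rw [hui, hui, ← hφt i j h]
      rfl
  refine ⟨⟨fun htop => ?_, fun ⟨i, hi⟩ => top_le_iff.mp (hi ▸ mono (φ i) (hφ i) _ _ (hui i))⟩,
    fun i hi j h => top_le_iff.mp (hi ▸ monoij i j h)⟩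
  have hpt : ∀ x : PL, ∃ i, x ∈ RelProj.domQ (ui i) pL chartL := by
    intro x
    obtain ⟨⟨U, hU, U', hU', hle, d, hd, f, hf⟩, hx⟩ := exists_idx (chart' := chartL) u (x := x) (htop.ge trivial)
    rw [range_emb'] at hx
    obtain ⟨z, hz, rfl⟩ := hx
    obtain ⟨i, a, rfl⟩ := hsurj U hU f
    classical
    refine ⟨i, (emb_mem_domQ_iff' hPL hU hU' hle z).mpr ?_⟩
    refine mem_domOpen_of_homogeneous _ hd (SetLike.coe_mem (DirectSum.decompose ((𝒮i i).deg U hU) a d)) ?_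
    have e1 : ((φ i).hom.app (op U)).hom (DirectSum.decompose ((𝒮i i).deg U hU) a d :
        (𝒮i i).presheaf.obj (op U)) = ((φ i).hom.app (op U)).hom a :=
      ((RelProj.gradedHomAt (φ i) (hφ i) U hU).map_directSumDecompose).trans (DirectSum.decompose_of_mem_same _ hf)
    show (ui i).gradedAt U hU U' hU' hle _ ∉ (z : ProjectiveSpectrum _).asHomogeneousIdeal
    rw [show (ui i).gradedAt U hU U' hU' hle (DirectSum.decompose ((𝒮i i).deg U hU) a d :
        (𝒮i i).presheaf.obj (op U)) = u.gradedAt U hU U' hU' hle (((φ i).hom.app (op U)).hom a) from ?_]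
    · exact hz
    show ((ui i).app U ≫ 𝒮L.presheaf.map (homOfLE hle).op).hom _ = _
    rw [hui i U]
    exact congrArg (fun y => (u.app U ≫ 𝒮L.presheaf.map (homOfLE hle).op).hom y) e1
  obtain ⟨i, hi⟩ := CompactSpace.isCompact_univ.elim_directed_cover
    (fun i => ((RelProj.domQ (ui i) pL chartL : PL.Opens) : Set PL)) (fun i => Opens.isOpen _)
    (fun x _ => Set.mem_iUnion.mpr (hpt x)) (fun i j => by
      obtain ⟨k, hik, hjk⟩ := directed_of (· ≤ ·) i j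
      exact ⟨k, monoij i k hik, monoij j k hjk⟩)
  exact ⟨i, top_le_iff.mp fun x _ => hi (Set.mem_univ x)⟩

end Groth.Agent.S12159
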