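import Groth.Statements.S1216
import Groth.Agent.RG.DevFreeBC
import Groth.Agent.RG.DevSat
import Groth.Agent.S1963
-- import your own Groth.Agent.* helpers here

set_option autoImplicit false
universe u
open FlatMor

namespace Groth.Agent.S1216

set_option backward.isDefEq.respectTransparency false
set_option backward.isDefEq.respectTransparency.types false
set_option linter.style.haveILetI false
set_option maxHeartbeats 800000

open TensorProduct IsLocalRing

attribute [local instance] Algebra.TensorProduct.rightAlgebra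

/-- A nonzero family in a ring with the same values as a valuation ring is a multiple of a primitive one. -/
theorem exists_primitive {A A' : Type u} [CommRing A] [IsDomain A] [ValuationRing A] [CommRing A'] [IsLocalRing A']
    [Algebra A A'] (hval : ∀ b : A', b ≠ 0 → ∃ (a : A) (u : A'ˣ), b = u * algebraMap A A' a)
    {F : Type u} [AddCommGroup F] [Module A' F] {ι : Type*} (bs : Module.Basis ι A' F) (z : F) (hz : z ≠ 0) :
    ∃ (a : A) (f : F), a ≠ 0 ∧ z = algebraMap A A' a • f ∧ ∃ i, IsUnit (bs.repr f i) := by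
  classical
  let s := (bs.repr z).support
  have hs : s.Nonempty := Finsupp.support_nonempty_iff.2 fun h => hz (bs.repr.map_eq_zero_iff.1 h)
  have h1 : ∀ i ∈ s, ∃ (a : A) (u : A'ˣ), bs.repr z i = u * algebraMap A A' a :=
    fun i hi => hval _ (Finsupp.mem_support_iff.1 hi)
  choose a u hau using h1
  have hdvd : ∀ t : Finset {i // i ∈ s}, t.Nonempty → ∃ i ∈ t, ∀ j ∈ t, a i.1 i.2 ∣ a j.1 j.2 := by
    intro t ht
    induction ht using Finset.Nonempty.cons_induction with
    | singleton i => exact ⟨i, Finset.mem_singleton_self i, fun j hj => by rw [Finset.mem_singleton.1 hj]⟩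
    | cons i t hi _ ih =>
      obtain ⟨k, hk, hkt⟩ := ih
      rcases ValuationRing.dvd_total (a i.1 i.2) (a k.1 k.2) with h | h
      · exact ⟨i, Finset.mem_cons_self i t, fun j hj => (Finset.mem_cons.1 hj).elim (fun e => by rw [e])
          fun hj => h.trans (hkt j hj)⟩
      · exact ⟨k, Finset.mem_cons_of_mem hk, fun j hj => (Finset.mem_cons.1 hj).elim (fun e => by rw [e]; exact h)
          fun hj => hkt j hj⟩
  obtain ⟨⟨i₀, hi₀⟩, -, hmin⟩ := hdvd s.attach (hs.attach)
  have hc : ∀ i, ∃ c : A', bs.repr z i = algebraMap A A' (a i₀ hi₀) * c ∧ (i = i₀ → IsUnit c) := by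
    intro i
    by_cases hii : i = i₀
    · subst hii
      exact ⟨u i hi₀, by rw [hau i hi₀, mul_comm], fun _ => Units.isUnit _⟩
    by_cases hi : i ∈ s
    · obtain ⟨d, hd⟩ := hmin ⟨i, hi⟩ (Finset.mem_attach _ _)
      exact ⟨(u i hi : A') * algebraMap A A' d, by rw [hau i hi, show a i hi = a i₀ hi₀ * d from hd, map_mul]; ring,
        fun h => absurd h hii⟩
    · exact ⟨0, by rw [Finsupp.notMem_support_iff.1 hi, mul_zero], fun h => absurd h hii⟩
  choose c hc hcu using hc
  refine ⟨a i₀ hi₀, ∑ i ∈ s, c i • bs i, fun h => Finsupp.mem_support_iff.1 hi₀ (by rw [hau i₀ hi₀, h, map_zero, mul_zero]), ?_, i₀, ?_⟩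
  · conv_lhs => rw [← bs.linearCombination_repr z]
    rw [Finset.smul_sum, Finsupp.linearCombination_apply, Finsupp.sum]
    exact Finset.sum_congr rfl fun i _ => by rw [smul_smul, ← hc i]
  · rw [map_sum, Finsupp.finsetSum_apply]
    rw [Finset.sum_eq_single i₀ (fun i _ hi => by simp [hi]) (fun h => absurd hi₀ h)]
    simp [hcu i₀ rfl]

/-- Elements in an extended ideal times the module. -/
theorem mem_smul_top_of_map {A B : Type u} [CommRing A] [CommRing B] [Algebra A B] {M : Type u} [AddCommGroup M]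
    [Module B M] [Module A M] [IsScalarTower A B M] (J : Ideal A) (z : M) :
    z ∈ J.map (algebraMap A B) • (⊤ : Submodule B M) ↔ z ∈ J • (⊤ : Submodule A M) := by
  constructor
  · intro h
    refine Submodule.smul_induction_on h (fun r hr m _ => ?_) fun a b ha hb => add_mem ha hb
    induction hr using Submodule.span_induction generalizing m with
    | mem _ ha => obtain ⟨a, ha, rfl⟩ := ha; rw [algebraMap_smul]; exact Submodule.smul_mem_smul ha trivial
    | zero => rw [zero_smul]; exact zero_mem _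
    | add a b _ _ ha hb => rw [add_smul]; exact add_mem (ha m trivial) (hb m trivial)
    | smul t a _ ha => rw [smul_eq_mul, mul_comm, mul_smul]; exact ha (t • m) trivial
  · intro h
    refine Submodule.smul_induction_on h (fun r hr m _ => ?_) fun a b ha hb => add_mem ha hb
    rw [← algebraMap_smul B r m]
    exact Submodule.smul_mem_smul (Ideal.mem_map_of_mem _ hr) trivial


/-- A free base change of the model around the point. -/
theorem exists_free_nbhd {R R' S S' A' : Type u} [CommRing R] [CommRing R'] [CommRing S] [CommRing S'] [CommRing A']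
    [IsLocalRing A'] [Algebra R R'] [Algebra R S] [Algebra S S'] [Algebra R' S'] [Algebra R S'] [IsScalarTower R R' S']
    [IsScalarTower R S S'] [Algebra.Etale R R'] [Algebra.Etale S S'] [Algebra.FinitePresentation R S] [Algebra R' A']
    [Module.Flat R' A'] (N₀ : Type u) [AddCommGroup N₀] [Module S N₀] [Module R N₀] [IsScalarTower R S N₀]
    [Module.Finite S N₀] (p' : Ideal R') [p'.IsPrime] (q : Ideal S) [q.IsPrime] (q' : Ideal S') [q'.IsPrime]
    [hqo : q'.LiesOver q] [q'.LiesOver p'] (hflat : FlatCA.FlatAt R q N₀)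
    (hdev : RG.DevAt R' p' S' (S' ⊗[S] N₀) q') [hA : (maximalIdeal A').LiesOver p']
    (hκ : Function.Bijective (Ideal.ResidueField.mapₐ p' (maximalIdeal A') (Algebra.ofId R' A') hA.over)) :
    ∃ (C F : Type u) (_ : CommRing C) (_ : Algebra A' C) (_ : Algebra S C) (_ : AddCommGroup F) (_ : Module C F)
      (_ : Module A' F) (_ : IsScalarTower A' C F) (_ : Module S F) (_ : IsScalarTower S C F) (ιF : N₀ →ₗ[S] F)
      (Q : Ideal C) (_ : Q.IsPrime),
      (∀ r : R, algebraMap S C (algebraMap R S r) = algebraMap A' C (algebraMap R' A' (algebraMap R R' r))) ∧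
      IsBaseChange C ιF ∧ Module.Flat S C ∧ Q.comap (algebraMap S C) = q ∧ Module.Free A' F ∧
      ∀ c : C, c ∉ Q → ∀ z : F, c • z ∈ (maximalIdeal A').map (algebraMap A' C) • (⊤ : Submodule C F) →
        z ∈ (maximalIdeal A').map (algebraMap A' C) • (⊤ : Submodule C F) := by
  haveI : Algebra.FinitePresentation R S' := Algebra.FinitePresentation.trans R S S'
  haveI : Algebra.FinitePresentation R' S' :=
    Algebra.FinitePresentation.of_restrict_scalars_finitePresentation R R' S'
  let C := S' ⊗[R'] A'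
  haveI : Algebra.IsPushout R' A' S' C := Algebra.IsPushout.symm inferInstance
  haveI : IsScalarTower R' A' C := inferInstance
  obtain ⟨Q, _, hQq, hQA⟩ :=
    RG.exists_prime_over (R := R') (R' := A') (S := S') (S' := C) p' (maximalIdeal A') hκ q'
  haveI := hQq
  haveI := hQA
  haveI : Algebra.FinitePresentation A' C := Algebra.FinitePresentation.equiv (Algebra.IsPushout.equiv R' A' S' C)
  haveI : IsScalarTower R R' (S' ⊗[S] N₀) := inferInstance
  have h1 : FlatCA.FlatAt R q' (S' ⊗[S] N₀) :=
    RG.flat_localized_baseChange (W := q.primeCompl) (V := q'.primeCompl)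
      (fun w hw hw' => hw ((SetLike.ext_iff.1 hqo.over w).2 hw')) hflat
  have h2 : FlatCA.FlatAt R' q' (S' ⊗[S] N₀) :=
    (Groth.Agent.S1231.result (R := R) (T := R') (C := S') (S' ⊗[S] N₀) q').1.1 h1
  have h3 : FlatCA.FlatAt A' Q (C ⊗[S'] (S' ⊗[S] N₀)) := RG.flatAt_baseChange_base (S' ⊗[S] N₀) q' Q h2
  have hbc := hdev.baseChange A' (maximalIdeal A') hκ C (C ⊗[S'] (S' ⊗[S] N₀))
    (TensorProduct.mk S' C (S' ⊗[S] N₀) 1) (TensorProduct.isBaseChange _ _ _) Q
  obtain ⟨D, hD⟩ := hbc.has
  obtain ⟨-, hfree, -⟩ := Groth.Agent.S1253.result (R := A') (S := C) (C ⊗[S'] (S' ⊗[S] N₀)) Q h3 D hD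
  haveI : Module.Flat S' C := inferInstance
  haveI : Module.Flat S C := Module.Flat.trans S S' C
  refine ⟨C, C ⊗[S'] (S' ⊗[S] N₀), inferInstance, inferInstance, inferInstance, inferInstance, inferInstance,
    inferInstance, inferInstance, inferInstance, inferInstance,
    (TensorProduct.mk S' C (S' ⊗[S] N₀) 1).restrictScalars S ∘ₗ TensorProduct.mk S S' N₀ 1, Q, inferInstance,
    fun r => ?_, (TensorProduct.isBaseChange S N₀ S').comp (TensorProduct.isBaseChange S' (S' ⊗[S] N₀) C),
    inferInstance, ?_, hfree, hbc.sat⟩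
  · rw [IsScalarTower.algebraMap_apply S S' C, ← IsScalarTower.algebraMap_apply R S S',
      IsScalarTower.algebraMap_apply R R' S', ← IsScalarTower.algebraMap_apply R' S' C,
      IsScalarTower.algebraMap_apply R' A' C]
  · rw [IsScalarTower.algebraMap_eq S S' C, ← Ideal.comap_comap, ← Ideal.under_def (A := S') Q, ← hQq.over]
    exact hqo.over.symm

/-- The content from a free base change. -/
theorem content_of_free {A A' S C : Type u} [CommRing A] [IsDomain A] [ValuationRing A] [CommRing A'] [IsDomain A']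
    [IsLocalRing A'] [CommRing S] [CommRing C] [Algebra A A'] [Algebra A S] [Algebra A' C] [Algebra S C] [Algebra A C]
    [IsScalarTower A S C] (hAC : ∀ a : A, algebraMap A C a = algebraMap A' C (algebraMap A A' a))
    (hval : ∀ b : A', b ≠ 0 → ∃ (a : A) (u : A'ˣ), b = u * algebraMap A A' a)
    (hinj : Function.Injective (algebraMap A A')) (hloc : ∀ t ∈ maximalIdeal A, algebraMap A A' t ∈ maximalIdeal A')
    [Module.Flat S C] (N₀ : Type u) [AddCommGroup N₀] [Module S N₀] [Module A N₀] [IsScalarTower A S N₀]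
    (q : Ideal S) [q.IsPrime] (Q : Ideal C) [Q.IsPrime] (hQS : Q.comap (algebraMap S C) = q)
    {F : Type u} [AddCommGroup F] [Module C F] [Module A' F] [IsScalarTower A' C F] [Module S F] [IsScalarTower S C F]
    [Module.Free A' F] (ιF : N₀ →ₗ[S] F) (hιF : IsBaseChange C ιF)
    (hsat : ∀ c : C, c ∉ Q → ∀ z : F, c • z ∈ (maximalIdeal A').map (algebraMap A' C) • (⊤ : Submodule C F) →
      z ∈ (maximalIdeal A').map (algebraMap A' C) • (⊤ : Submodule C F)) (n : N₀) :
    ∃ I : Ideal A, I.IsPrincipal ∧ (∃ s : S, s ∉ q ∧ s • n ∈ I • (⊤ : Submodule A N₀)) ∧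
      ∀ J : Ideal A, (∃ s : S, s ∉ q ∧ s • n ∈ J • (⊤ : Submodule A N₀)) → I ≤ J := by
  classical
  -- from the free module back to the model
  have hdesc : ∀ (J : Ideal A) (k : N₀), ιF k ∈ J.map (algebraMap A C) • (⊤ : Submodule C F) →
      ∃ s : S, s ∉ q ∧ s • k ∈ J • (⊤ : Submodule A N₀) := by
    intro J k hk
    let W : Submodule S N₀ := J.map (algebraMap A S) • (⊤ : Submodule S N₀)
    let K : Ideal S := LinearMap.ker (LinearMap.toSpanSingleton S (N₀ ⧸ W) (Submodule.Quotient.mk k))
    by_contra hne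
    have hK : K ≤ q := fun a ha => by
      by_contra haq
      refine hne ⟨a, haq, (mem_smul_top_of_map (B := S) J _).1 ?_⟩
      rw [← Submodule.Quotient.mk_eq_zero, Submodule.Quotient.mk_smul]
      exact ha
    let π : C ⊗[S] N₀ →ₗ[C] C ⊗[S] (N₀ ⧸ W) := W.mkQ.baseChange C
    have h9 : (1 : C) ⊗ₜ[S] (Submodule.Quotient.mk k : N₀ ⧸ W) = 0 := by
      have h10 : (1 : C) ⊗ₜ[S] k ∈ J.map (algebraMap A C) • (⊤ : Submodule C (C ⊗[S] N₀)) := by
        have h11 := Submodule.mem_map_of_mem (f := hιF.equiv.symm.toLinearMap) hk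
        rw [Submodule.map_smul'', Submodule.map_top, LinearEquiv.range] at h11
        rwa [LinearEquiv.coe_coe, IsBaseChange.equiv_symm_apply] at h11
      have h12 : ∀ y ∈ J.map (algebraMap A C) • (⊤ : Submodule C (C ⊗[S] N₀)), π y = 0 := by
        intro y hy
        refine Submodule.smul_induction_on hy (fun r hr m _ => ?_) fun a b ha hb => by rw [map_add, ha, hb, add_zero]
        induction hr using Submodule.span_induction generalizing m with
        | mem _ ha =>
          obtain ⟨a, ha, rfl⟩ := ha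
          rw [IsScalarTower.algebraMap_apply A S C, algebraMap_smul]
          induction m using TensorProduct.induction_on with
          | zero => rw [smul_zero, map_zero]
          | add b c hb hc => rw [smul_add, map_add, hb trivial, hc trivial, add_zero]
          | tmul c m =>
            rw [← TensorProduct.tmul_smul]
            show c ⊗ₜ[S] W.mkQ (algebraMap A S a • m) = 0
            rw [Submodule.mkQ_apply,
              (Submodule.Quotient.mk_eq_zero W).2 (Submodule.smul_mem_smul (Ideal.mem_map_of_mem _ ha) trivial),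
              TensorProduct.tmul_zero]
        | zero => rw [zero_smul, map_zero]
        | add a b _ _ ha hb => rw [add_smul, map_add, ha m trivial, hb m trivial, add_zero]
        | smul t a _ ha => rw [smul_eq_mul, mul_comm, mul_smul]; exact ha (t • m) trivial
      exact h12 _ h10
    let θ : (S ⧸ K) →ₗ[S] N₀ ⧸ W := Submodule.liftQ K (LinearMap.toSpanSingleton S _ (Submodule.Quotient.mk k)) le_rfl
    have hθ : Function.Injective θ := by
      rw [← LinearMap.ker_eq_bot]
      exact Submodule.ker_liftQ_eq_bot _ _ _ le_rfl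
    have h13 : (Ideal.Quotient.mk K 1) ⊗ₜ[S] (1 : C) = (0 : (S ⧸ K) ⊗[S] C) := by
      apply (TensorProduct.comm S (S ⧸ K) C).injective
      apply Module.Flat.lTensor_preserves_injective_linearMap (M := C) θ hθ
      rw [map_zero, map_zero, TensorProduct.comm_tmul, LinearMap.lTensor_tmul]
      show (1 : C) ⊗ₜ[S] θ (Submodule.Quotient.mk 1) = 0
      rw [Submodule.liftQ_apply, LinearMap.toSpanSingleton_apply, one_smul]
      exact h9
    rw [← RG.mem_map_iff_tmul_eq_zero] at h13
    exact (inferInstance : Q.IsPrime).ne_top ((Ideal.eq_top_iff_one Q).2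
      (Ideal.map_le_iff_le_comap.2 (hK.trans hQS.ge) h13))
  have hto : ∀ (J : Ideal A) (k : N₀) (s : S), s ∉ q → s • k ∈ J • (⊤ : Submodule A N₀) →
      ∃ c : C, c ∉ Q ∧ c • ιF k ∈ J.map (algebraMap A C) • (⊤ : Submodule C F) := by
    intro J k s hs hsk
    refine ⟨algebraMap S C s, fun h => hs (hQS ▸ h : s ∈ q), ?_⟩
    rw [algebraMap_smul, ← map_smul]
    refine Submodule.smul_induction_on hsk (fun a ha m _ => ?_) fun a b ha hb => by rw [map_add]; exact add_mem ha hb
    rw [← algebraMap_smul S a m, map_smul, ← algebraMap_smul C (algebraMap A S a), ← IsScalarTower.algebraMap_apply]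
    exact Submodule.smul_mem_smul (Ideal.mem_map_of_mem _ ha) trivial
  by_cases hz : ιF n = 0
  · exact ⟨⊥, inferInstance, hdesc ⊥ n (by rw [hz]; exact Submodule.zero_mem _), fun J _ => bot_le⟩
  obtain ⟨a, f, ha0, hzf, i, hi⟩ := exists_primitive hval (Module.Free.chooseBasis A' F) (ιF n) hz
  refine ⟨Ideal.span {a}, ⟨⟨a, rfl⟩⟩, hdesc _ n ?_, fun J hJ => ?_⟩
  · rw [hzf, ← algebraMap_smul C (algebraMap A A' a), ← hAC]
    exact Submodule.smul_mem_smul (Ideal.mem_map_of_mem _ (Ideal.mem_span_singleton_self a)) trivial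
  rw [Ideal.span_singleton_le_iff_mem]
  by_contra haJ
  obtain ⟨s₀, hs₀, hsn⟩ := hJ
  obtain ⟨c, hc, hcz⟩ := hto J n s₀ hs₀ hsn
  have hJa : ∀ b ∈ J, ∃ t ∈ maximalIdeal A, b = a * t := by
    intro b hb
    rcases ValuationRing.dvd_total a b with ⟨t, ht⟩ | ⟨t, ht⟩
    · refine ⟨t, (mem_maximalIdeal t).2 fun hu => haJ ?_, ht⟩
      obtain ⟨v, hv⟩ := hu.exists_right_inv
      have h14 : a = b * v := by rw [ht, mul_assoc, hv, mul_one]
      rw [h14]
      exact J.mul_mem_right v hb
    · exact absurd (ht ▸ J.mul_mem_right t hb) haJ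
  have hsub : ∀ y ∈ J.map (algebraMap A C) • (⊤ : Submodule C F),
      ∃ w ∈ (maximalIdeal A').map (algebraMap A' C) • (⊤ : Submodule C F), y = algebraMap A' C (algebraMap A A' a) • w := by
    intro y hy
    refine Submodule.smul_induction_on hy (fun r hr m _ => ?_) fun u v hu hv => ?_
    · induction hr using Submodule.span_induction generalizing m with
      | mem _ hb =>
        obtain ⟨b, hb, rfl⟩ := hb
        obtain ⟨t, ht, rfl⟩ := hJa b hb
        refine ⟨algebraMap A C t • m, Submodule.smul_mem_smul ?_ trivial, ?_⟩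
        · rw [hAC]
          refine Ideal.mem_map_of_mem _ ?_
          exact hloc t ht
        · rw [map_mul, mul_smul, hAC]
      | zero => exact ⟨0, zero_mem _, by rw [zero_smul, smul_zero]⟩
      | add u v _ _ hu hv =>
        obtain ⟨w₁, hw₁, e₁⟩ := hu m trivial
        obtain ⟨w₂, hw₂, e₂⟩ := hv m trivial
        exact ⟨w₁ + w₂, add_mem hw₁ hw₂, by rw [add_smul, e₁, e₂, smul_add]⟩
      | smul t u _ hu => rw [smul_eq_mul, mul_comm, mul_smul]; exact hu (t • m) trivial
    · obtain ⟨w₁, hw₁, rfl⟩ := hu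
      obtain ⟨w₂, hw₂, rfl⟩ := hv
      exact ⟨w₁ + w₂, add_mem hw₁ hw₂, (smul_add _ _ _).symm⟩
  obtain ⟨w, hw, hwe⟩ := hsub _ hcz
  have hcf : c • f = w := by
    rw [hzf, ← algebraMap_smul C (algebraMap A A' a) f, smul_comm,
      algebraMap_smul C (algebraMap A A' a) (c • f), algebraMap_smul C (algebraMap A A' a) w] at hwe
    exact smul_right_injective F (fun h => ha0 (hinj (h.trans (map_zero _).symm))) hwe
  have hfm : f ∈ (maximalIdeal A').map (algebraMap A' C) • (⊤ : Submodule C F) :=
    hsat c hc f (hcf ▸ hw)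
  have hfm' : f ∈ maximalIdeal A' • (⊤ : Submodule A' F) := (mem_smul_top_of_map (B := C) _ f).1 hfm
  have hall : ∀ y ∈ maximalIdeal A' • (⊤ : Submodule A' F), (Module.Free.chooseBasis A' F).repr y i ∈ maximalIdeal A' := by
    intro y hy
    refine Submodule.smul_induction_on hy (fun r hr m _ => ?_) fun u v hu hv => ?_
    · rw [map_smul, Finsupp.smul_apply, smul_eq_mul]
      exact Ideal.mul_mem_right _ _ hr
    · rw [map_add, Finsupp.add_apply]
      exact add_mem hu hv
  exact (mem_maximalIdeal _).1 (hall f hfm') hi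



/-- The content of an element of a finitely presented model. -/
theorem content_of_model {A S : Type u} [CommRing A] [IsDomain A] [ValuationRing A] [CommRing S] [Algebra A S]
    [Algebra.FinitePresentation A S] (N₀ : Type u) [AddCommGroup N₀] [Module S N₀] [Module A N₀]
    [IsScalarTower A S N₀] [Module.Finite S N₀] (q : Ideal S) [q.IsPrime] [q.LiesOver (maximalIdeal A)]
    (hflat : FlatCA.FlatAt A q N₀) (hqs : (⟨q, inferInstance⟩ : PrimeSpectrum S) ∈ Module.support S N₀) (n : N₀) :
    ∃ I : Ideal A, I.IsPrincipal ∧ (∃ s : S, s ∉ q ∧ s • n ∈ I • (⊤ : Submodule A N₀)) ∧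
      ∀ J : Ideal A, (∃ s : S, s ∉ q ∧ s • n ∈ J • (⊤ : Submodule A N₀)) → I ≤ J := by
  classical
  obtain ⟨ξ, hξq, hξ⟩ := RG.exists_fibre_point (maximalIdeal A) q N₀ hqs
  obtain ⟨R', S', _, _, _, _, _, _, _, _, p', q', _, _, hR, hS, ho, hdev⟩ :=
    RG.devAfterEtale N₀ (maximalIdeal A) q ⟨ξ, hξ, hξq⟩
  haveI := hR.1
  haveI := hS.1
  haveI := ho
  obtain ⟨hpo, -⟩ := hR.2
  obtain ⟨hqo, -⟩ := hS.2
  haveI := hqo
  obtain ⟨hdom, -, hinj, -, hval⟩ := Groth.Agent.S1963.result A R' p' hpo.over.symm
  haveI := hdom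
  obtain ⟨hAo, hκ⟩ := RG.residue_bijective_atPrime p'
  haveI := hAo
  haveI : Module.Flat R' (Localization.AtPrime p') := IsLocalization.flat (Localization.AtPrime p') p'.primeCompl
  obtain ⟨C, F, _, _, _, _, _, _, _, _, _, ιF, Q, _, hcomm, hιF, hfl, hQS, hfree, hsat⟩ :=
    exists_free_nbhd (A' := Localization.AtPrime p') N₀ p' q q' hflat hdev hκ
  haveI := hfl
  haveI := hfree
  letI : Algebra A C := ((algebraMap S C).comp (algebraMap A S)).toAlgebra
  haveI : IsScalarTower A S C := IsScalarTower.of_algebraMap_eq' rfl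
  refine content_of_free (A' := Localization.AtPrime p') (fun a => ?_) hval hinj (fun t ht => ?_) N₀ q Q hQS ιF hιF hsat n
  · rw [IsScalarTower.algebraMap_apply A S C, hcomm, ← IsScalarTower.algebraMap_apply A R' (Localization.AtPrime p')]
  · rw [IsScalarTower.algebraMap_apply A R' (Localization.AtPrime p')]
    exact (SetLike.ext_iff.1 hAo.over _).1 ((SetLike.ext_iff.1 hpo.over t).1 ht)

/-- The statement for a presented ring of which `B` is a localisation. -/
theorem aux {A B S : Type u} [CommRing A] [IsDomain A] [ValuationRing A] [CommRing B] [IsLocalRing B] [Algebra A B]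
    [IsLocalHom (algebraMap A B)] [CommRing S] [Algebra A S] [Algebra.FinitePresentation A S] [Algebra S B]
    [IsScalarTower A S B]
    (hsurj : ∀ b : B, ∃ (t s : S), IsUnit (algebraMap S B s) ∧ algebraMap S B s * b = algebraMap S B t)
    (N : Type u) [AddCommGroup N] [Module B N] [Module A N] [IsScalarTower A B N] [Module.Finite B N] [Module.Flat A N]
    [Nontrivial N] (x : N) :
    ∃ I : Ideal A, I.IsPrincipal ∧ x ∈ I • (⊤ : Submodule A N) ∧ ∀ J : Ideal A, x ∈ J • (⊤ : Submodule A N) → I ≤ J := by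
  classical
  let q := (maximalIdeal B).comap (algebraMap S B)
  have hq1 : ∀ s : S, IsUnit (algebraMap S B s) → s ∉ q := fun s hu hm =>
    (maximalIdeal.isMaximal B).ne_top (Ideal.eq_top_of_isUnit_mem _ hm hu)
  have hunit : ∀ s : S, s ∉ q → IsUnit (algebraMap S B s) := fun s hs => by
    by_contra h
    exact hs ((mem_maximalIdeal _).2 h)
  obtain ⟨G, hG⟩ := (Module.finite_def.1 (inferInstance : Module.Finite B N))
  letI : Module S N := Module.compHom N (algebraMap S B)
  haveI : IsScalarTower S B N := IsScalarTower.of_algebraMap_smul fun _ _ => rfl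
  haveI : IsScalarTower A S N := IsScalarTower.of_algebraMap_smul fun r n => by
    show algebraMap S B (algebraMap A S r) • n = r • n
    rw [← IsScalarTower.algebraMap_apply, algebraMap_smul]
  let N₀ : Submodule S N := Submodule.span S (G : Set N)
  haveI : Module.Finite S N₀ := Module.Finite.iff_fg.2 ⟨G, rfl⟩
  have hnum : ∀ n : N, ∃ s : S, s ∉ q ∧ s • n ∈ N₀ := by
    intro n
    have hn : n ∈ Submodule.span B (G : Set N) := hG ▸ Submodule.mem_top
    induction hn using Submodule.span_induction with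
    | mem g hg => exact ⟨1, fun h => (inferInstance : q.IsPrime).ne_top ((Ideal.eq_top_iff_one _).2 h), by rw [one_smul]; exact Submodule.subset_span hg⟩
    | zero => exact ⟨1, fun h => (inferInstance : q.IsPrime).ne_top ((Ideal.eq_top_iff_one _).2 h), by rw [smul_zero]; exact zero_mem _⟩
    | add a b _ _ ha hb =>
      obtain ⟨s, hs, hsa⟩ := ha
      obtain ⟨t, ht, htb⟩ := hb
      refine ⟨s * t, fun h => ((inferInstance : q.IsPrime).mem_or_mem h).elim hs ht, ?_⟩
      rw [smul_add, mul_comm s t, mul_smul, mul_comm t s, mul_smul]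
      exact add_mem (N₀.smul_mem t hsa) (N₀.smul_mem s htb)
    | smul b a _ ha =>
      obtain ⟨s, hs, hsa⟩ := ha
      obtain ⟨t, u, hu', hut⟩ := hsurj b
      have hu := hq1 u hu'
      refine ⟨u * s, fun h => ((inferInstance : q.IsPrime).mem_or_mem h).elim hu hs, ?_⟩
      have h2 : (u * s) • b • a = t • s • a := by
        rw [← algebraMap_smul B (u * s), ← algebraMap_smul B t, ← algebraMap_smul B s a, smul_smul, smul_smul,
          map_mul, mul_right_comm, hut]
      rw [h2]
      exact N₀.smul_mem t hsa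
  haveI hlm : IsLocalizedModule q.primeCompl N₀.subtype :=
    { map_units := fun s => by
        rw [Module.End.isUnit_iff]
        have hu := hunit s.1 s.2
        constructor
        · intro a b hab
          have h2 : algebraMap S B s.1 • a = algebraMap S B s.1 • b := hab
          exact hu.smul_left_cancel.1 h2
        · intro a
          refine ⟨((hu.unit⁻¹ : Bˣ) : B) • a, ?_⟩
          show algebraMap S B s.1 • ((hu.unit⁻¹ : Bˣ) : B) • a = a
          rw [smul_smul, hu.mul_val_inv, one_smul]
      surj := fun n => by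
        obtain ⟨s, hs, hsn⟩ := hnum n
        exact ⟨(⟨s • n, hsn⟩, ⟨s, hs⟩), rfl⟩
      exists_of_eq := fun h => ⟨1, by rw [Subtype.ext h]⟩ }
  haveI hqm : q.LiesOver (maximalIdeal A) := ⟨by
    rw [Ideal.under_def, Ideal.comap_comap, ← IsScalarTower.algebraMap_eq A S B]
    ext a
    rw [Ideal.mem_comap, mem_maximalIdeal, mem_maximalIdeal, mem_nonunits_iff, mem_nonunits_iff, isUnit_map_iff]⟩
  have hflat : FlatCA.FlatAt A q N₀ :=
    Module.Flat.of_linearEquiv ((IsLocalizedModule.iso q.primeCompl N₀.subtype).restrictScalars A)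
  have hqs : (⟨q, inferInstance⟩ : PrimeSpectrum S) ∈ Module.support S N₀ := by
    rw [Module.mem_support_iff]
    exact (IsLocalizedModule.iso q.primeCompl N₀.subtype).toEquiv.nontrivial
  obtain ⟨⟨n, s₁⟩, hn⟩ := IsLocalizedModule.surj q.primeCompl N₀.subtype x
  -- elements of `B`-module from `N₀`
  have hback : ∀ (M₀ : Submodule A N) (hB : ∀ (b : B) (m : N), m ∈ M₀ → b • m ∈ M₀) (k : N) (s : S), s ∉ q → s • k ∈ M₀ → k ∈ M₀ := by
    intro M₀ hB k s hs hk
    obtain ⟨u, hu⟩ := hunit s hs
    have h4 := hB ((u⁻¹ : Bˣ) : B) _ hk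
    rwa [← algebraMap_smul B s k, ← hu, smul_smul, Units.inv_mul, one_smul] at h4
  have hBstable : ∀ (J : Ideal A) (b : B) (m : N), m ∈ J • (⊤ : Submodule A N) → b • m ∈ J • (⊤ : Submodule A N) := by
    intro J b m hm
    rw [← mem_smul_top_of_map (B := B)] at hm ⊢
    exact Submodule.smul_mem _ b hm
  have hxn : ∀ J : Ideal A, x ∈ J • (⊤ : Submodule A N) ↔ (n : N) ∈ J • (⊤ : Submodule A N) := by
    intro J
    have hn' : (s₁ : S) • x = (n : N) := hn
    constructor
    · intro h
      rw [← hn', ← algebraMap_smul B (s₁ : S) x]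
      exact hBstable J _ x h
    · intro h
      exact hback _ (hBstable J) x s₁ s₁.2 (hn' ▸ h)
  have hnum' : ∀ (J : Ideal A) (k : N₀), (k : N) ∈ J • (⊤ : Submodule A N) →
      ∃ s : S, s ∉ q ∧ s • k ∈ J • (⊤ : Submodule A N₀) := by
    intro J k hk
    have h5 : ∀ m ∈ J • (⊤ : Submodule A N), ∃ s : S, s ∉ q ∧ ∃ k' ∈ J • (⊤ : Submodule A N₀), (k' : N) = s • m := by
      intro m hm
      refine Submodule.smul_induction_on hm (fun a ha m _ => ?_) fun a b ha hb => ?_
      · obtain ⟨s, hs, hsm⟩ := hnum m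
        exact ⟨s, hs, a • (⟨s • m, hsm⟩ : N₀), Submodule.smul_mem_smul ha trivial, smul_comm a s m⟩
      · obtain ⟨s, hs, k₁, hk₁, e₁⟩ := ha
        obtain ⟨t, ht, k₂, hk₂, e₂⟩ := hb
        refine ⟨t * s, fun h => ((inferInstance : q.IsPrime).mem_or_mem h).elim ht hs, t • k₁ + s • k₂, ?_, ?_⟩
        · have hst : ∀ (r : S) (k : N₀), k ∈ J • (⊤ : Submodule A N₀) → r • k ∈ J • (⊤ : Submodule A N₀) := fun r k hk => by
            rw [← mem_smul_top_of_map (B := S)] at hk ⊢
            exact Submodule.smul_mem _ r hk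
          exact add_mem (hst t _ hk₁) (hst s _ hk₂)
        · push_cast
          rw [e₁, e₂, smul_add, smul_smul, smul_smul, mul_comm s t]
    obtain ⟨s, hs, k', hk', e⟩ := h5 _ hk
    have : k' = s • k := Subtype.ext e
    exact ⟨s, hs, this ▸ hk'⟩
  obtain ⟨I, hI, ⟨s, hs, hsn⟩, hmin⟩ := content_of_model N₀ q hflat hqs n
  have hsub : ∀ (J : Ideal A) (k : N₀), k ∈ J • (⊤ : Submodule A N₀) → (k : N) ∈ J • (⊤ : Submodule A N) := by
    intro J k hk
    refine Submodule.smul_induction_on hk (fun a ha m _ => ?_) fun a b ha hb => by push_cast; exact add_mem ha hb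
    exact Submodule.smul_mem_smul ha trivial
  exact ⟨I, hI, (hxn I).2 (hback _ (hBstable I) n s hs (hsub I _ hsn)),
    fun J hJ => hmin J (hnum' J n ((hxn J).1 hJ))⟩

/-- Let A → B be a local homomorphism of local rings which is essentially of finite type, with A a
valuation ring, and N a finite B-module flat over A. Then every element x of N has a content ideal,
that is a smallest ideal I of A with x ∈ IN, and this ideal is principal. -/
theorem result {A B : Type u} [CommRing A] [IsDomain A] [ValuationRing A] [CommRing B] [IsLocalRing B] [Algebra A B]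
    [IsLocalHom (algebraMap A B)] [Algebra.EssFiniteType A B]
    (N : Type u) [AddCommGroup N] [Module B N] [Module A N] [IsScalarTower A B N] [Module.Finite B N] [Module.Flat A N] (x : N) :
    ∃ I : Ideal A, I.IsPrincipal ∧ x ∈ I • (⊤ : Submodule A N) ∧ ∀ J : Ideal A, x ∈ J • (⊤ : Submodule A N) → I ≤ J := by
  classical
  by_cases hN : Subsingleton N
  · exact ⟨⊥, inferInstance, by rw [Subsingleton.elim x 0]; exact Submodule.zero_mem _, fun J _ => bot_le⟩
  haveI : Nontrivial N := not_subsingleton_iff_nontrivial.1 hN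
  let A₀ := Algebra.EssFiniteType.subalgebra A B
  obtain ⟨ι, _, φ, hφ⟩ := Algebra.FiniteType.iff_quotient_mvPolynomial'.1 (inferInstance : Algebra.FiniteType A A₀)
  letI : Algebra (MvPolynomial ι A) B := ((algebraMap A₀ B).comp φ.toRingHom).toAlgebra
  haveI : IsScalarTower A (MvPolynomial ι A) B := IsScalarTower.of_algebraMap_eq fun r => by
    show algebraMap A B r = algebraMap A₀ B (φ (algebraMap A (MvPolynomial ι A) r))
    rw [φ.commutes, ← IsScalarTower.algebraMap_apply]
  refine aux (A := A) (B := B) (S := MvPolynomial ι A) (fun b => ?_) N x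
  obtain ⟨⟨t, s⟩, hts⟩ := IsLocalization.surj (Algebra.EssFiniteType.submonoid A B) b
  obtain ⟨t', ht'⟩ := hφ t
  obtain ⟨s', hs'⟩ := hφ s
  have e1 : algebraMap (MvPolynomial ι A) B s' = algebraMap A₀ B s := congrArg (algebraMap A₀ B) hs'
  have e2 : algebraMap (MvPolynomial ι A) B t' = algebraMap A₀ B t := congrArg (algebraMap A₀ B) ht'
  exact ⟨t', s', by rw [e1]; exact IsLocalization.map_units B s, by rw [e1, e2, ← hts, mul_comm]⟩

end Groth.Agent.S1216
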