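import Groth.Statements.S12161
import Groth.Agent.ProjQX.Comp
import Groth.Agent.ProjQX.FamilyImm
import Groth.Agent.S12153
import Groth.Agent.S12139
-- import your own Groth.Agent.* helpers here

set_option autoImplicit false
universe u
open CategoryTheory CategoryTheory.Limits AlgebraicGeometry TopologicalSpace Opposite
open scoped HomogeneousIdeal
noncomputable section
open EGA2

namespace Groth.Agent.S12161

open Groth.Agent.ProjQX
set_option backward.isDefEq.respectTransparency false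
set_option backward.isDefEq.respectTransparency.types false

section
variable {Y X P PL : Scheme.{u}} {q : X ⟶ Y} {𝒮 : RelProj.QCGrAlg Y} {𝒮L : RelProj.QCGrAlg X}
  {u : RelProj.QGrHom q 𝒮 𝒮L}
  {p : P ⟶ Y} {chart : ∀ (U : Y.Opens) (hU : IsAffineOpen U), (((p ⁻¹ᵁ U : P.Opens) : Scheme.{u}) ≅ Proj (𝒮.deg U hU))}
  {pL : PL ⟶ X} {chartL : ∀ (U : X.Opens) (hU : IsAffineOpen U), (((pL ⁻¹ᵁ U : PL.Opens) : Scheme.{u}) ≅ Proj (𝒮L.deg U hU))}
  (hP : RelProj.IsRelProj 𝒮 p chart) (hPL : RelProj.IsRelProj 𝒮L pL chartL)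
  {r : (RelProj.domQ u pL chartL : Scheme.{u}) ⟶ P}
  (hr : RelProj.IsProjQMapOn u p chart pL chartL (RelProj.domQ u pL chartL) r)

include hP hPL hr in
lemma mem_O_iff {U : Y.Opens} (hU : IsAffineOpen U) {d : ℕ} (hd : 0 < d) {g : 𝒮.presheaf.obj (op U)}
    (hg : g ∈ 𝒮.deg U hU d) (y : (RelProj.domQ u pL chartL : Scheme.{u})) :
    r y ∈ RelProj.emb p chart U hU ''ᵁ Proj.basicOpen (𝒮.deg U hU) g ↔
      ∃ (U' : X.Opens) (hU' : IsAffineOpen U') (hle : U' ≤ q ⁻¹ᵁ U) (z : Proj (𝒮L.deg U' hU')),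
        RelProj.emb pL chartL U' hU' z = y.1 ∧
          z ∈ Proj.basicOpen (𝒮L.deg U' hU') (u.gradedAt U hU U' hU' hle g) := by
  constructor
  · intro hy
    have hqU : q (pL y.1) ∈ U := by
      obtain ⟨a, -, ha⟩ := hy
      have hcomp := congrArg (fun ψ : (RelProj.domQ u pL chartL : Scheme.{u}) ⟶ Y => ψ y) (comp_eq hP hPL hr)
      change p (r y) = q (pL y.1) at hcomp
      exact hcomp ▸ (mem_opensRange_emb hU).mp ⟨a, ha⟩
    obtain ⟨_, ⟨U', hU', rfl⟩, hyU', hle⟩ := X.isBasis_affineOpens.exists_subset_of_mem_open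
      (show pL y.1 ∈ q ⁻¹ᵁ U from hqU) (q ⁻¹ᵁ U).2
    obtain ⟨z, hz⟩ := (mem_opensRange_emb (chart := chartL) hU').mpr hyU'
    exact ⟨U', hU', hle, z, hz, (map_mem_iff hP hPL hr (hU' := hU') hle hd hg y hz).mp hy⟩
  · rintro ⟨U', hU', hle, z, hz, hzg⟩
    exact (map_mem_iff hP hPL hr (hU' := hU') hle hd hg y hz).mpr hzg

variable (u pL chartL r) in
/-- Where `Proj(u)` lands in `D_+(g)`. -/
def pre (chart : ∀ (U : Y.Opens) (hU : IsAffineOpen U), (((p ⁻¹ᵁ U : P.Opens) : Scheme.{u}) ≅ Proj (𝒮.deg U hU)))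
    (U : Y.Opens) (hU : IsAffineOpen U) (g : 𝒮.presheaf.obj (op U)) : PL.Opens :=
  (RelProj.domQ u pL chartL).ι ''ᵁ (r ⁻¹ᵁ (RelProj.emb p chart U hU ''ᵁ Proj.basicOpen (𝒮.deg U hU) g))

lemma mem_pre_iff {U : Y.Opens} (hU : IsAffineOpen U) {g : 𝒮.presheaf.obj (op U)} {y : PL} :
    y ∈ pre u pL chartL r chart U hU g ↔ ∃ h : y ∈ RelProj.domQ u pL chartL,
      r ⟨y, h⟩ ∈ RelProj.emb p chart U hU ''ᵁ Proj.basicOpen (𝒮.deg U hU) g :=
  ⟨fun ⟨x, hx, e⟩ => e ▸ ⟨x.2, hx⟩, fun ⟨h, hx⟩ => ⟨⟨y, h⟩, hx, rfl⟩⟩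

include hP hPL hr in
lemma mem_pre_iff' {U : Y.Opens} (hU : IsAffineOpen U) {d : ℕ} (hd : 0 < d) {g : 𝒮.presheaf.obj (op U)}
    (hg : g ∈ 𝒮.deg U hU d) {y : PL} :
    y ∈ pre u pL chartL r chart U hU g ↔
      ∃ (U' : X.Opens) (hU' : IsAffineOpen U') (hle : U' ≤ q ⁻¹ᵁ U) (z : Proj (𝒮L.deg U' hU')),
        RelProj.emb pL chartL U' hU' z = y ∧
          z ∈ Proj.basicOpen (𝒮L.deg U' hU') (u.gradedAt U hU U' hU' hle g) := by
  rw [mem_pre_iff]
  refine ⟨fun ⟨h, hy⟩ => (mem_O_iff hP hPL hr hU hd hg ⟨y, h⟩).mp hy, ?_⟩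
  rintro ⟨U', hU', hle, z, rfl, hz⟩
  have h := (emb_mem_domQ_iff' hPL hU hU' hle z).mpr (mem_domOpen_of_homogeneous _ hd hg hz)
  exact ⟨h, (mem_O_iff hP hPL hr hU hd hg ⟨_, h⟩).mpr ⟨U', hU', hle, z, rfl, hz⟩⟩

lemma inv_ι_val {Z : Scheme.{u}} (W : Z.Opens) [IsIso W.ι] (y : Z) : (inv W.ι y).1 = y :=
  congrArg (fun ψ : Z ⟶ Z => ψ y) (IsIso.inv_hom_id W.ι)

end


/-- Let Y be a quasi-compact scheme, q : X → Y a quasi-compact morphism, L an invertible O_X-module with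
𝒮L = ⊕ L^{⊗n} (whose Proj is X), 𝒮 = colim 𝒮^i a filtered colimit of quasi-coherent positively
graded O_Y-algebras along graded homomorphisms φ_i : 𝒮^i → 𝒮 (colimit taken on sections over affine
opens), ψ♭ = u : 𝒮 → q_*𝒮L a graded q-morphism and ψ_i♭ = u ∘ φ_i, with q of finite type; let r =
r_{L,ψ} : G(ψ) → Proj(𝒮) and r_i = r_{L,ψ_i} : G(ψ_i) → Proj(𝒮^i). Then r is everywhere defined and
an immersion if and only if some r_i is, and then so is r_j for all j ≥ i. -/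
theorem result {Y X P PL : Scheme.{u}} (q : X ⟶ Y)
    (L : X.Modules) (hL : PicF.IsInvertible L) (hLq : Coh.IsQCoh L)
    (𝒮 : RelProj.QCGrAlg Y) (𝒮L : RelProj.QCGrAlg X) (j : L ⟶ 𝒮L.toModule) (hj : RelProj.IsGrSymAlg L 𝒮L j)
    (u : RelProj.QGrHom q 𝒮 𝒮L)
    (p : P ⟶ Y) (chart : ∀ (U : Y.Opens) (hU : IsAffineOpen U), (((p ⁻¹ᵁ U : P.Opens) : Scheme.{u}) ≅ Proj (𝒮.deg U hU)))
    (hP : RelProj.IsRelProj 𝒮 p chart)
    (pL : PL ⟶ X) (chartL : ∀ (U : X.Opens) (hU : IsAffineOpen U), (((pL ⁻¹ᵁ U : PL.Opens) : Scheme.{u}) ≅ Proj (𝒮L.deg U hU)))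
    (hPL : RelProj.IsRelProj 𝒮L pL chartL)
    [CompactSpace Y] [QuasiCompact q] [LocallyOfFiniteType q]
    (r : ((RelProj.domQ u pL chartL : PL.Opens) : Scheme.{u}) ⟶ P)
    (hr : RelProj.IsProjQMapOn u p chart pL chartL (RelProj.domQ u pL chartL) r)
    (Λ : Type u) [Preorder Λ] [IsDirected Λ (· ≤ ·)] [Nonempty Λ]
    (𝒮i : Λ → RelProj.QCGrAlg Y) (φ : ∀ i, (𝒮i i).toQCAlg ⟶ 𝒮.toQCAlg) (hφ : ∀ i, RelProj.IsGradedHom (φ i))
    (t : ∀ i j, i ≤ j → ((𝒮i i).toQCAlg ⟶ (𝒮i j).toQCAlg)) (ht : ∀ i j (h : i ≤ j), RelProj.IsGradedHom (t i j h))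
    (hφt : ∀ i j (h : i ≤ j), t i j h ≫ φ j = φ i)
    (hsurj : ∀ (U : Y.Opens), IsAffineOpen U → ∀ x : 𝒮.presheaf.obj (op U),
      ∃ (i : Λ) (y : (𝒮i i).presheaf.obj (op U)), ((φ i).hom.app (op U)).hom y = x)
    (hker : ∀ (U : Y.Opens), IsAffineOpen U → ∀ (i : Λ) (y : (𝒮i i).presheaf.obj (op U)),
      ((φ i).hom.app (op U)).hom y = 0 → ∃ (j : Λ) (h : i ≤ j), ((t i j h).hom.app (op U)).hom y = 0)
    (ui : ∀ i, RelProj.QGrHom q (𝒮i i) 𝒮L) (hui : ∀ i (U : Y.Opens), (ui i).app U = (φ i).hom.app (op U) ≫ u.app U)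
    (Pi : Λ → Scheme.{u}) (pi : ∀ i, Pi i ⟶ Y)
    (charti : ∀ i (U : Y.Opens) (hU : IsAffineOpen U), ((((pi i) ⁻¹ᵁ U : (Pi i).Opens) : Scheme.{u}) ≅ Proj ((𝒮i i).deg U hU)))
    (hPi : ∀ i, RelProj.IsRelProj (𝒮i i) (pi i) (charti i))
    (ri : ∀ i, ((RelProj.domQ (ui i) pL chartL : PL.Opens) : Scheme.{u}) ⟶ Pi i)
    (hri : ∀ i, RelProj.IsProjQMapOn (ui i) (pi i) (charti i) pL chartL (RelProj.domQ (ui i) pL chartL) (ri i)) :
    ((RelProj.domQ u pL chartL = ⊤ ∧ IsImmersion r) ↔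
        ∃ i, RelProj.domQ (ui i) pL chartL = ⊤ ∧ IsImmersion (ri i)) ∧
      ∀ i, (RelProj.domQ (ui i) pL chartL = ⊤ ∧ IsImmersion (ri i)) →
        ∀ j, i ≤ j → RelProj.domQ (ui j) pL chartL = ⊤ ∧ IsImmersion (ri j) := by
  classical
  have hcompat : ∀ i k (h : i ≤ k) (U : Y.Opens), (ui i).app U = (t i k h).hom.app (op U) ≫ (ui k).app U := by
    intro i k h U
    rw [hui i, hui k, ← Category.assoc, ← NatTrans.comp_app]
    exact congrArg (fun ψ : (𝒮i i).toQCAlg ⟶ 𝒮.toQCAlg => ψ.hom.app (op U) ≫ u.app U) (hφt i k h).symm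
  have hback : ∀ i, (RelProj.domQ (ui i) pL chartL = ⊤ ∧ IsImmersion (ri i)) →
      (RelProj.domQ u pL chartL = ⊤ ∧ IsImmersion r) := fun i h =>
    Groth.Agent.S12153.result q L hL hLq 𝒮 𝒮L j hj u p chart hP pL chartL hPL r hr (𝒮i i) (φ i) (hφ i) (ui i)
      (hui i) (pi i) (charti i) (hPi i) (ri i) (hri i) h.1 h.2
  refine ⟨⟨?_, fun ⟨i, hi⟩ => hback i hi⟩, fun i hi k hk =>
    Groth.Agent.S12153.result q L hL hLq (𝒮i k) 𝒮L j hj (ui k) (pi k) (charti k) (hPi k) pL chartL hPL (ri k) (hri k)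
      (𝒮i i) (t i k hk) (ht i k hk) (ui i) (hcompat i k hk) (pi i) (charti i) (hPi i) (ri i) (hri i) hi.1 hi.2⟩
  rintro ⟨htop, hr'⟩
  have := Family.isIso_pL hL hLq hj hPL
  have hιiso : IsIso (RelProj.domQ u pL chartL).ι :=
    isIso_of_isOpenImmersion_of_opensRange_eq_top _ ((Scheme.Opens.opensRange_ι _).trans htop)
  set v := inv (RelProj.domQ u pL chartL).ι ≫ r
  have hvp : v ≫ p = pL ≫ q := by
    simp only [v, Category.assoc]
    rw [comp_eq hP hPL hr, IsIso.inv_hom_id_assoc]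
  let χ : ∀ (i : Λ) (U : Y.Opens) (hU : IsAffineOpen U), (𝒮i i).deg U hU →+*ᵍ 𝒮.deg U hU := fun i U hU =>
    (RelProj.QGrHom.ofHom (φ i) (hφ i)).gradedAt U hU U hU le_rfl
  have hχ : ∀ i U hU a, χ i U hU a = ((φ i).hom.app (op U)).hom a := fun i U hU a =>
    gradedAt_ofHom (φ := φ i) (hφ := hφ i) U hU le_rfl a
  have hlift : ∀ (U : Y.Opens) (hU : IsAffineOpen U) (n : ℕ), ∀ a ∈ 𝒮.deg U hU n,
      ∃ i, ∀ k, i ≤ k → ∃ a' ∈ (𝒮i k).deg U hU n, χ k U hU a' = a := by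
    intro U hU n a ha
    obtain ⟨i, y, hy⟩ := hsurj U hU a
    refine ⟨i, fun k hk => ⟨(DirectSum.decompose ((𝒮i k).deg U hU) (((t i k hk).hom.app (op U)).hom y) n : _),
      SetLike.coe_mem _, ?_⟩⟩
    rw [GradedRingHom.map_directSumDecompose ((𝒮i k).deg U hU) (𝒮.deg U hU) (χ k U hU)]
    have e : χ k U hU (((t i k hk).hom.app (op U)).hom y) = a := by
      refine (hχ k U hU _).trans (Eq.trans ?_ hy)
      exact ConcreteCategory.congr_hom
        (congrArg (fun ψ : (𝒮i i).toQCAlg ⟶ 𝒮.toQCAlg => ψ.hom.app (op U)) (hφt i k hk)) y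
    rw [e, DirectSum.decompose_of_mem_same _ ha]
  have hgr : ∀ k (U : Y.Opens) (hU : IsAffineOpen U) (U' : X.Opens) (hU' : IsAffineOpen U') (hle : U' ≤ q ⁻¹ᵁ U) a,
      (ui k).gradedAt U hU U' hU' hle a = u.gradedAt U hU U' hU' hle (χ k U hU a) := fun k U hU U' hU' hle a =>
    DFunLike.congr_fun (grad_eq (u := u) (hφ k) (hui k) hU hU' hle) a
  have hpre : ∀ k (U : Y.Opens) (hU : IsAffineOpen U) {d : ℕ} (hd : 0 < d) {a : (𝒮i k).presheaf.obj (op U)}
      (ha : a ∈ (𝒮i k).deg U hU d),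
      pre (ui k) pL chartL (ri k) (charti k) U hU a = pre u pL chartL r chart U hU (χ k U hU a) := by
    intro k U hU d hd a ha
    ext y
    show y ∈ pre (ui k) pL chartL (ri k) (charti k) U hU a ↔ y ∈ pre u pL chartL r chart U hU (χ k U hU a)
    refine (mem_pre_iff' (hPi k) hPL (hri k) hU hd ha).trans
      (Iff.trans ?_ (mem_pre_iff' hP hPL hr hU hd ((χ k U hU).map_mem ha)).symm)
    exact exists_congr fun U' => exists_congr fun hU' => exists_congr fun hle => exists_congr fun z =>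
      and_congr_right fun _ => Iff.of_eq (congrArg (fun w => z ∈ Proj.basicOpen (𝒮L.deg U' hU') w) (hgr k U hU U' hU' hle a))
  choose U hU d g hd hg hy hcl using fun x : PL => show ∃ (U : Y.Opens) (hU : IsAffineOpen U) (d : ℕ)
      (g : 𝒮.presheaf.obj (op U)), 0 < d ∧ g ∈ 𝒮.deg U hU d ∧
        x ∈ v ⁻¹ᵁ (RelProj.emb p chart U hU ''ᵁ Proj.basicOpen (𝒮.deg U hU) g) ∧
        IsClosedImmersion (v ∣_ (RelProj.emb p chart U hU ''ᵁ Proj.basicOpen (𝒮.deg U hU) g)) by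
    obtain ⟨_, ⟨U, hU, rfl⟩, hxU, -⟩ := Y.isBasis_affineOpens.exists_subset_of_mem_open
      (Set.mem_univ (p (v x))) isOpen_univ
    obtain ⟨z, hz⟩ := (mem_opensRange_emb (chart := chart) hU).mpr hxU
    obtain ⟨d, g, hd, hg, hzg, hsub⟩ := Proj16.exists_basicOpen_subset
      (v.coborderRange.2.preimage (RelProj.emb p chart U hU).continuous)
      (show z ∈ _ from Set.mem_preimage.mpr (hz.symm ▸ subset_coborder (Set.mem_range_self x)))
    exact ⟨U, hU, d, g, hd, hg, ⟨z, hzg, hz⟩, Family.restrict_isClosedImmersion v (Set.image_subset_iff.mpr hsub)⟩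
  have hloc : ∀ x : PL, ∃ i, ∀ k, i ≤ k → ∀ (hk : IsIso (RelProj.domQ (ui k) pL chartL).ι)
      (f' : (𝒮i k).presheaf.obj (op (U x))), f' ∈ (𝒮i k).deg (U x) (hU x) (d x) → χ k (U x) (hU x) f' = g x →
        IsClosedImmersion ((inv (RelProj.domQ (ui k) pL chartL).ι ≫ ri k) ∣_
          (RelProj.emb (pi k) (charti k) (U x) (hU x) ''ᵁ Proj.basicOpen ((𝒮i k).deg (U x) (hU x)) f')) := by
    intro x
    specialize hcl x; specialize hg x; specialize hd x
    revert hcl hg hd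
    generalize g x = g, d x = d
    generalize hU x = hU
    generalize U x = U at hU g ⊢
    intro hd hg hcl
    set O := RelProj.emb p chart U hU ''ᵁ Proj.basicOpen (𝒮.deg U hU) g
    let b := Proj.awayι (𝒮.deg U hU) g hg hd ≫ RelProj.emb p chart U hU
    have hb : Set.range b = Set.range O.ι := by
      rw [Scheme.Opens.range_ι]
      refine (congrArg (fun W : P.Opens => (W : Set P)) ?_ : (b.opensRange : Set P) = _)
      rw [Scheme.Hom.opensRange_comp, Proj.opensRange_awayι]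
    let e₂ := IsOpenImmersion.isoOfRangeEq b O.ι hb
    obtain ⟨I, e, he⟩ := IsClosedImmersion.Spec_iff.mp (inferInstance : IsClosedImmersion (v ∣_ O ≫ e₂.inv))
    let m := CommRingCat.ofHom (Ideal.Quotient.mk I)
    let κ := e.inv ≫ (v ⁻¹ᵁ O).ι
    have hκ : κ ≫ v = Spec.map m ≫ b := by
      simp only [κ, Category.assoc]
      rw [← morphismRestrict_ι, ← IsOpenImmersion.isoOfRangeEq_inv_fac b O.ι hb, ← Category.assoc (v ∣_ O)]
      refine (congrArg (fun w => e.inv ≫ w ≫ b) he).trans ?_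
      simp [m]
    let σC := 𝒮.strZero U hU ≫ CommRingCat.ofHom
      (HomogeneousLocalization.fromZeroRingHom (𝒮.deg U hU) (Submonoid.powers g))
    have hft : (σC ≫ m).hom.FiniteType := by
      refine (HasRingHomProperty.Spec_iff (P := @LocallyOfFiniteType)).mp ?_
      have e1 : Spec.map (σC ≫ m) ≫ hU.fromSpec = κ ≫ pL ≫ q := by
        rw [← hvp, reassoc_of% hκ]
        simp only [b, Category.assoc]
        rw [emb_over hP U hU, Proj.awayι_toSpecZero_assoc, Spec.map_comp, Spec.map_comp,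
          Category.assoc, Category.assoc]
      have : LocallyOfFiniteType (Spec.map (σC ≫ m) ≫ hU.fromSpec) := e1 ▸ inferInstance
      exact locallyOfFiniteType_of_comp _ hU.fromSpec
    letI : Algebra Γ(Y, U) (HomogeneousLocalization.Away (𝒮.deg U hU) g ⧸ I) := (σC ≫ m).hom.toAlgebra
    obtain ⟨T, hT⟩ := (hft : Algebra.FiniteType Γ(Y, U) (HomogeneousLocalization.Away (𝒮.deg U hU) g ⧸ I)).out
    have hTl : ∀ w : HomogeneousLocalization.Away (𝒮.deg U hU) g ⧸ I, ∃ i, ∀ k, i ≤ k →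
        ∃ (n : ℕ) (a' : (𝒮i k).presheaf.obj (op U)) (ha' : a' ∈ (𝒮i k).deg U hU (n • d)),
          Ideal.Quotient.mk I (HomogeneousLocalization.Away.mk (𝒮.deg U hU) hg n (χ k U hU a')
            ((χ k U hU).map_mem ha')) = w := by
      intro w
      obtain ⟨c, rfl⟩ := Ideal.Quotient.mk_surjective w
      obtain ⟨n, a, ha, rfl⟩ := c.mk_surjective (𝒮.deg U hU) hg
      obtain ⟨i, hi⟩ := hlift U hU _ a ha
      refine ⟨i, fun k hk => ?_⟩
      obtain ⟨a', ha', rfl⟩ := hi k hk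
      exact ⟨n, a', ha', rfl⟩
    choose iT hiT using hTl
    obtain ⟨i, hi⟩ := Finset.exists_le (T.image iT)
    refine ⟨i, fun k hk hkiso f' hf' hfg => ?_⟩
    subst hfg
    have hsurjk : Function.Surjective
        ((Ideal.Quotient.mk I).comp (HomogeneousLocalization.Away.map (χ k U hU) f')) := by
      intro w
      have hw : w ∈ Algebra.adjoin Γ(Y, U) (T : Set (HomogeneousLocalization.Away (𝒮.deg U hU) (χ k U hU f') ⧸ I)) :=
        hT ▸ Algebra.mem_top
      have hw' : w ∈ (Algebra.adjoin Γ(Y, U) (T : Set (HomogeneousLocalization.Away (𝒮.deg U hU) (χ k U hU f') ⧸ I))).toSubring := hw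
      rw [Algebra.adjoin_eq_ring_closure] at hw'
      refine Subring.mem_closure.mp hw' ((Ideal.Quotient.mk I).comp (HomogeneousLocalization.Away.map (χ k U hU) f')).range ?_
      rintro c (⟨a, rfl⟩ | hc)
      · refine ⟨((𝒮i k).strZero U hU ≫ CommRingCat.ofHom
          (HomogeneousLocalization.fromZeroRingHom ((𝒮i k).deg U hU) (Submonoid.powers f'))).hom a, ?_⟩
        show Ideal.Quotient.mk I _ = Ideal.Quotient.mk I _
        refine congrArg _ (HomogeneousLocalization.val_injective _ ?_)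
        show Localization.mk _ _ = Localization.mk _ _
        refine Localization.mk_eq_mk_iff.mpr (Localization.r_of_eq ?_)
        have : χ k U hU (((𝒮i k).str.app (op U)).hom a) = (𝒮.str.app (op U)).hom a := by
          rw [hχ, ← CommRingCat.comp_apply, ← NatTrans.comp_app, (φ k).comm]
        simp [this]
        exact this.symm ▸ rfl
      · obtain ⟨n, a', ha', e'⟩ := hiT c k ((hi _ (Finset.mem_image_of_mem iT hc)).trans hk)
        refine ⟨HomogeneousLocalization.Away.mk _ hf' n a' ha', ?_⟩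
        rw [RingHom.comp_apply, HomogeneousLocalization.Away.map_mk]
        exact e'
    set Ok := RelProj.emb (pi k) (charti k) U hU ''ᵁ Proj.basicOpen ((𝒮i k).deg U hU) f'
    set vk := inv (RelProj.domQ (ui k) pL chartL).ι ≫ ri k
    obtain ⟨⟨Φ, hΦ, -⟩, -⟩ := Groth.Agent.S12139.result (𝟙 Y) (𝒮i k) 𝒮 (RelProj.QGrHom.ofHom (φ k) (hφ k))
      (pi k) (charti k) (hPi k) p chart hP
    obtain ⟨w, hw, hw'⟩ := exists_comp (hφ k) (hui k) hPL hr (hri k) hΦ
    let iq : Idx (RelProj.QGrHom.ofHom (φ k) (hφ k)) := ⟨U, hU, U, hU, le_rfl, d, hd, f', hf'⟩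
    have hκw : κ ≫ inv (RelProj.domQ (ui k) pL chartL).ι ≫ w = Spec.map m ≫ embDom chart iq := by
      rw [← cancel_mono (RelProj.domQ (RelProj.QGrHom.ofHom (φ k) (hφ k)) p chart).ι]
      simp only [Category.assoc, hw, embDom_ι]
      refine Eq.trans ?_ hκ
      simp only [v]
      congr 1
      rw [IsIso.inv_comp_eq, ← Category.assoc]
      congr 1
      rw [← cancel_mono (RelProj.domQ u pL chartL).ι, Category.assoc, IsIso.inv_hom_id, Category.comp_id,
        Scheme.homOfLE_ι]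
    let b' := Proj.awayι ((𝒮i k).deg U hU) f' hf' hd ≫ RelProj.emb (pi k) (charti k) U hU
    have hfac : κ ≫ vk = Spec.map (CommRingCat.ofHom
        ((Ideal.Quotient.mk I).comp (HomogeneousLocalization.Away.map (χ k U hU) f'))) ≫ b' := by
      simp only [vk]
      rw [← hw', reassoc_of% hκw, (isProjQMapOn_domQ_iff _ (charti k) chart Φ).mp hΦ iq]
      rw [CommRingCat.ofHom_comp, Spec.map_comp, Category.assoc]
      rfl
    have hsrc : Set.range κ = Set.range (vk ⁻¹ᵁ Ok).ι := by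
      have h1 : Set.range κ = (v ⁻¹ᵁ O : Set PL) := by
        simp only [κ, Scheme.Hom.comp_base, TopCat.hom_comp, ContinuousMap.coe_comp]
        rw [Set.range_comp, Set.range_eq_univ.mpr e.inv.surjective, Set.image_univ, Scheme.Opens.range_ι]
      rw [h1, Scheme.Opens.range_ι]
      have h2 := hpre k U hU hd hf'
      ext y
      have hy2 := SetLike.ext_iff.mp h2 y
      constructor
      · intro hy
        obtain ⟨h, hh⟩ := mem_pre_iff (u := ui k) hU |>.mp (hy2.mpr ((mem_pre_iff hU).mpr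
          ⟨htop.ge trivial, by
            have : inv (RelProj.domQ u pL chartL).ι y = (⟨y, htop.ge trivial⟩ : (RelProj.domQ u pL chartL : Scheme.{u})) :=
              (RelProj.domQ u pL chartL).ι.isOpenEmbedding.injective
                (congrArg (fun ψ : PL ⟶ PL => ψ y) (IsIso.inv_hom_id (RelProj.domQ u pL chartL).ι))
            exact this ▸ hy⟩))
        have : inv (RelProj.domQ (ui k) pL chartL).ι y = (⟨y, h⟩ : (RelProj.domQ (ui k) pL chartL : Scheme.{u})) :=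
          (RelProj.domQ (ui k) pL chartL).ι.isOpenEmbedding.injective
            (congrArg (fun ψ : PL ⟶ PL => ψ y) (IsIso.inv_hom_id (RelProj.domQ (ui k) pL chartL).ι))
        show ri k (inv (RelProj.domQ (ui k) pL chartL).ι y) ∈ Ok
        rw [this]
        exact hh
      · intro hy
        have hyk : y ∈ RelProj.domQ (ui k) pL chartL :=
          inv_ι_val (RelProj.domQ (ui k) pL chartL) y ▸ (inv (RelProj.domQ (ui k) pL chartL).ι y).2
        have e1 : inv (RelProj.domQ (ui k) pL chartL).ι y = (⟨y, hyk⟩ : (RelProj.domQ (ui k) pL chartL : Scheme.{u})) :=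
          (RelProj.domQ (ui k) pL chartL).ι.isOpenEmbedding.injective
            (congrArg (fun ψ : PL ⟶ PL => ψ y) (IsIso.inv_hom_id (RelProj.domQ (ui k) pL chartL).ι))
        obtain ⟨h, hh⟩ := (mem_pre_iff hU).mp (hy2.mp ((mem_pre_iff hU).mpr ⟨hyk, e1 ▸ hy⟩))
        have e0 : inv (RelProj.domQ u pL chartL).ι y = (⟨y, h⟩ : (RelProj.domQ u pL chartL : Scheme.{u})) :=
          (RelProj.domQ u pL chartL).ι.isOpenEmbedding.injective
            (congrArg (fun ψ : PL ⟶ PL => ψ y) (IsIso.inv_hom_id (RelProj.domQ u pL chartL).ι))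
        show r (inv (RelProj.domQ u pL chartL).ι y) ∈ O
        rw [e0]
        exact hh
    have htgt : Set.range b' = Set.range Ok.ι := by
      rw [Scheme.Opens.range_ι]
      refine (congrArg (fun W : (Pi k).Opens => (W : Set (Pi k))) ?_ : (b'.opensRange : Set (Pi k)) = _)
      rw [Scheme.Hom.opensRange_comp, Proj.opensRange_awayι]
    let f₁ := IsOpenImmersion.isoOfRangeEq κ (vk ⁻¹ᵁ Ok).ι hsrc
    let f₂ := IsOpenImmersion.isoOfRangeEq b' Ok.ι htgt
    have hh : f₁.hom ≫ vk ∣_ Ok = Spec.map (CommRingCat.ofHom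
        ((Ideal.Quotient.mk I).comp (HomogeneousLocalization.Away.map (χ k U hU) f'))) ≫ f₂.hom := by
      rw [← cancel_mono Ok.ι, Category.assoc, morphismRestrict_ι, Category.assoc,
        IsOpenImmersion.isoOfRangeEq_hom_fac, IsOpenImmersion.isoOfRangeEq_hom_fac_assoc, hfac]
    have hcl' := IsClosedImmersion.spec_of_surjective (CommRingCat.ofHom
      ((Ideal.Quotient.mk I).comp (HomogeneousLocalization.Away.map (χ k U hU) f'))) hsurjk
    rw [← MorphismProperty.cancel_left_of_respectsIso @IsClosedImmersion f₁.hom (vk ∣_ Ok), hh,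
      MorphismProperty.cancel_right_of_respectsIso @IsClosedImmersion]
    exact hcl'
  have : CompactSpace X := QuasiCompact.compactSpace_of_compactSpace q
  have : CompactSpace PL := pL.homeomorph.symm.compactSpace
  obtain ⟨s, hs⟩ := isCompact_univ.elim_finite_subcover
    (fun x => ((v ⁻¹ᵁ (RelProj.emb p chart (U x) (hU x) ''ᵁ Proj.basicOpen (𝒮.deg (U x) (hU x)) (g x)) : PL.Opens) : Set PL))
    (fun x => Opens.isOpen _) (fun x _ => Set.mem_iUnion.mpr ⟨x, hy x⟩)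
  choose i₁ hi₁ using fun x => hlift (U x) (hU x) (d x) (g x) (hg x)
  choose i₂ hi₂ using hloc
  obtain ⟨k, hk⟩ := Finset.exists_le (s.image i₁ ∪ s.image i₂)
  choose f' hf' hfg using fun x : s => hi₁ x.1 k (hk _ (Finset.mem_union_left _ (Finset.mem_image_of_mem i₁ x.2)))
  have hcov : ∀ y : PL, ∃ x : s, y ∈ pre (ui k) pL chartL (ri k) (charti k) (U x.1) (hU x.1) (f' x) := by
    intro y
    obtain ⟨x, hxs, hyx⟩ := Set.mem_iUnion₂.mp (hs (Set.mem_univ y))
    refine ⟨⟨x, hxs⟩, ?_⟩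
    rw [hpre k (U x) (hU x) (hd x) (hf' ⟨x, hxs⟩), hfg ⟨x, hxs⟩]
    exact ⟨_, hyx, inv_ι_val (RelProj.domQ u pL chartL) y⟩
  have htopk : RelProj.domQ (ui k) pL chartL = ⊤ := top_le_iff.mp fun y _ => by
    obtain ⟨x, hx⟩ := hcov y
    exact ((mem_pre_iff _).mp hx).1
  have hkiso : IsIso (RelProj.domQ (ui k) pL chartL).ι :=
    isIso_of_isOpenImmersion_of_opensRange_eq_top _ ((Scheme.Opens.opensRange_ι _).trans htopk)
  obtain ⟨w, hw, hwc⟩ := Family.factor (inv (RelProj.domQ (ui k) pL chartL).ι ≫ ri k) @IsClosedImmersion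
    (fun x : s => RelProj.emb (pi k) (charti k) (U x.1) (hU x.1) ''ᵁ Proj.basicOpen ((𝒮i k).deg (U x.1) (hU x.1)) (f' x))
    (fun x => hi₂ x.1 k (hk _ (Finset.mem_union_right _ (Finset.mem_image_of_mem i₂ x.2))) hkiso (f' x) (hf' x) (hfg x))
    (by
      refine top_le_iff.mp fun y _ => ?_
      obtain ⟨x, z, hz, rfl⟩ := hcov y
      refine Opens.mem_iSup.mpr ⟨x, ?_⟩
      have h2 : (inv (RelProj.domQ (ui k) pL chartL).ι ≫ ri k) ((RelProj.domQ (ui k) pL chartL).ι z) ∈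
          ((RelProj.emb (pi k) (charti k) (U x.1) (hU x.1) ''ᵁ
            Proj.basicOpen ((𝒮i k).deg (U x.1) (hU x.1)) (f' x) : (Pi k).Opens) : Set (Pi k)) :=
        Set.mem_of_eq_of_mem (congrArg (fun ψ : (RelProj.domQ (ui k) pL chartL : Scheme.{u}) ⟶ Pi k => ψ z)
          (IsIso.hom_inv_id_assoc (RelProj.domQ (ui k) pL chartL).ι (ri k))) hz
      exact h2)
  refine ⟨k, htopk, ?_⟩
  have : IsImmersion (inv (RelProj.domQ (ui k) pL chartL).ι ≫ ri k) := hw ▸ inferInstance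
  rw [← IsIso.hom_inv_id_assoc (RelProj.domQ (ui k) pL chartL).ι (ri k)]
  infer_instance

end Groth.Agent.S12161
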