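import Groth.Statements.S12163
import Groth.Agent.ConeX.Pointed

set_option autoImplicit false
universe u
open CategoryTheory CategoryTheory.Limits AlgebraicGeometry TopologicalSpace Opposite
open scoped HomogeneousIdeal
noncomputable section
open EGA2

namespace Groth.Agent.S12163

/-- Let φ : 𝒜 → ℬ be a graded homomorphism of quasi-coherent positively graded O_Y-algebras and PB =
Proj(ℬ) with its charts. If every point of Y has an affine neighbourhood U over which the irrelevant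
ideal of ℬ(U) is contained in the ideal generated by φ(𝒜(U)_+), then the open of definition G(φ) of
Proj(φ) is all of PB. (The published condition asks 𝒮_+ to be generated by the image as a module
over the functions on U; generation as an ideal, used here, is implied by it.) -/
theorem result {Y PB : Scheme.{u}} (𝒜 ℬ : RelProj.QCGrAlg Y)
    (φ : 𝒜.toQCAlg ⟶ ℬ.toQCAlg) (hφ : RelProj.IsGradedHom φ)
    (pB : PB ⟶ Y) (chartB : ∀ (U : Y.Opens) (hU : IsAffineOpen U), (((pB ⁻¹ᵁ U : PB.Opens) : Scheme.{u}) ≅ Proj (ℬ.deg U hU)))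
    (hB : RelProj.IsRelProj ℬ pB chartB)
    (hcov : ∀ y : Y, ∃ (U : Y.Opens) (hU : IsAffineOpen U), y ∈ U ∧
      (ℬ.deg U hU)₊ ≤ ((𝒜.deg U hU)₊).map (RelProj.gradedHomAt φ hφ U hU)) :
    RelProj.domQ (RelProj.QGrHom.ofHom φ hφ) pB chartB = ⊤ := by
  refine eq_top_iff.mpr fun x _ => ?_
  obtain ⟨U, hU, hy, hirr⟩ := hcov (pB x)
  refine Opens.mem_iSup.mpr ⟨⟨(⟨U, hU⟩, ⟨U, hU⟩), le_rfl⟩, ?_⟩
  obtain ⟨p, hp⟩ : x ∈ (RelProj.emb pB chartB U hU).opensRange := by
    refine ⟨(chartB U hU).hom (⟨x, hy⟩ : (pB ⁻¹ᵁ U : PB.Opens)), ?_⟩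
    show ((chartB U hU).inv ≫ (pB ⁻¹ᵁ U : PB.Opens).ι) _ = x
    rw [← Scheme.Hom.comp_apply, Iso.hom_inv_id_assoc]
    rfl
  refine ⟨p, (RelCone.mem_domOpen _ p).mpr ?_, hp⟩
  by_contra hne
  push Not at hne
  refine (p : ProjectiveSpectrum (ℬ.deg U hU)).not_irrelevant_le (le_trans hirr ?_)
  refine (show ((((𝒜.deg U hU)₊).map (RelProj.gradedHomAt φ hφ U hU))).toIdeal ≤
    p.asHomogeneousIdeal.toIdeal from Ideal.map_le_iff_le_comap.mpr fun a ha => ?_)
  have e := hne a ha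
  have e2 : (RelProj.QGrHom.ofHom φ hφ).gradedAt U hU U hU le_rfl a =
      RelProj.gradedHomAt φ hφ U hU a := by
    show (φ.hom.app (op U) ≫ ℬ.presheaf.map (homOfLE (le_refl U)).op).hom a = (φ.hom.app (op U)).hom a
    rw [Subsingleton.elim (homOfLE (le_refl U)) (𝟙 U), op_id, ℬ.presheaf.map_id, Category.comp_id]
  show (RelProj.gradedHomAt φ hφ U hU) a ∈ p.asHomogeneousIdeal.toIdeal
  rw [← e2]
  exact e

end Groth.Agent.S12163
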