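import Groth.Statements.S12165
import Groth.Agent.ProjQX.TN

set_option autoImplicit false
universe u
open CategoryTheory CategoryTheory.Limits AlgebraicGeometry TopologicalSpace Opposite
open scoped HomogeneousIdeal
noncomputable section
open EGA2

namespace Groth.Agent.S12165

set_option backward.isDefEq.respectTransparency false

/-- Let φ : 𝒜 → ℬ be a (TN)-surjective graded homomorphism of quasi-coherent positively graded
O_Y-algebras (φ : 𝒜_k → ℬ_k surjective for all large k, on sections over affine opens), PA =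
Proj(𝒜), PB = Proj(ℬ) with their charts. Then Proj(φ) is defined on all of PB and is a closed
immersion PB → PA. -/
theorem result {Y PA PB : Scheme.{u}} (𝒜 ℬ : RelProj.QCGrAlg Y)
    (φ : 𝒜.toQCAlg ⟶ ℬ.toQCAlg) (hφ : RelProj.IsGradedHom φ)
    (hTN : ∃ n : ℕ, ∀ k, n ≤ k → ∀ (U : Y.Opens) (hU : IsAffineOpen U), ∀ y ∈ ℬ.deg U hU k,
      ∃ x ∈ 𝒜.deg U hU k, (φ.hom.app (op U)).hom x = y)
    (pA : PA ⟶ Y) (chartA : ∀ (U : Y.Opens) (hU : IsAffineOpen U), (((pA ⁻¹ᵁ U : PA.Opens) : Scheme.{u}) ≅ Proj (𝒜.deg U hU)))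
    (hA : RelProj.IsRelProj 𝒜 pA chartA)
    (pB : PB ⟶ Y) (chartB : ∀ (U : Y.Opens) (hU : IsAffineOpen U), (((pB ⁻¹ᵁ U : PB.Opens) : Scheme.{u}) ≅ Proj (ℬ.deg U hU)))
    (hB : RelProj.IsRelProj ℬ pB chartB) :
    RelProj.domQ (RelProj.QGrHom.ofHom φ hφ) pB chartB = ⊤ ∧
      ∀ h : PB ⟶ PA, RelProj.IsProjQMap (RelProj.QGrHom.ofHom φ hφ) pA chartA pB chartB h →
        IsClosedImmersion h := by
  obtain ⟨n, hn⟩ := hTN
  refine ⟨Groth.Agent.ProjQX.domQ_eq_top hB fun U hU =>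
    Groth.Agent.ProjQX.domOpen_eq_top_of_tnSurj _ (n := n) fun k hk y hy => hn k hk U hU y hy, fun h hh => ?_⟩
  refine Groth.Agent.ProjQX.qMap_of_charts (Pr := @IsClosedImmersion) hA hB hh fun t =>
    IsClosedImmersion.spec_of_surjective _ ?_
  refine Groth.Agent.ProjQX.awayMap_surj_of_tnSurj _ (n := n) (fun k hk y hy => ?_) t.hd t.hf
  obtain ⟨x, hx, e⟩ := hn k hk t.U t.hU y hy
  exact ⟨x, hx, (Groth.Agent.ProjQX.gradedAt_ofHom t.U t.hU le_rfl x).trans e⟩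

end Groth.Agent.S12165
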