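import Groth.Statements.S12166
import Groth.Agent.ProjQX.TN

set_option autoImplicit false
universe u
open CategoryTheory CategoryTheory.Limits AlgebraicGeometry TopologicalSpace Opposite
open scoped HomogeneousIdeal
noncomputable section
open EGA2

namespace Groth.Agent.S12166

set_option backward.isDefEq.respectTransparency false

/-- Let φ : 𝒜 → ℬ be a graded homomorphism of quasi-coherent positively graded O_Y-algebras which is a
(TN)-isomorphism (φ : 𝒜_k → ℬ_k bijective for all large k, on sections over affine opens), PA =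
Proj(𝒜), PB = Proj(ℬ) with their charts. Then Proj(φ) is defined on all of PB and is an isomorphism
PB → PA. -/
theorem result {Y PA PB : Scheme.{u}} (𝒜 ℬ : RelProj.QCGrAlg Y)
    (φ : 𝒜.toQCAlg ⟶ ℬ.toQCAlg) (hφ : RelProj.IsGradedHom φ)
    (hTN : ∃ n : ℕ, ∀ k, n ≤ k → ∀ (U : Y.Opens) (hU : IsAffineOpen U),
      (∀ x ∈ 𝒜.deg U hU k, (φ.hom.app (op U)).hom x = 0 → x = 0) ∧
        ∀ y ∈ ℬ.deg U hU k, ∃ x ∈ 𝒜.deg U hU k, (φ.hom.app (op U)).hom x = y)
    (pA : PA ⟶ Y) (chartA : ∀ (U : Y.Opens) (hU : IsAffineOpen U), (((pA ⁻¹ᵁ U : PA.Opens) : Scheme.{u}) ≅ Proj (𝒜.deg U hU)))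
    (hA : RelProj.IsRelProj 𝒜 pA chartA)
    (pB : PB ⟶ Y) (chartB : ∀ (U : Y.Opens) (hU : IsAffineOpen U), (((pB ⁻¹ᵁ U : PB.Opens) : Scheme.{u}) ≅ Proj (ℬ.deg U hU)))
    (hB : RelProj.IsRelProj ℬ pB chartB) :
    RelProj.domQ (RelProj.QGrHom.ofHom φ hφ) pB chartB = ⊤ ∧
      ∀ h : PB ⟶ PA, RelProj.IsProjQMap (RelProj.QGrHom.ofHom φ hφ) pA chartA pB chartB h → IsIso h := by
  obtain ⟨n, hn⟩ := hTN
  refine ⟨Groth.Agent.ProjQX.domQ_eq_top hB fun U hU =>
    Groth.Agent.ProjQX.domOpen_eq_top_of_tnSurj _ (n := n) fun k hk y hy => (hn k hk U hU).2 y hy, fun h hh => ?_⟩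
  refine Groth.Agent.ProjQX.qMap_of_charts (Pr := MorphismProperty.isomorphisms Scheme.{u}) hA hB hh fun t => ?_
  have : IsIso (CommRingCat.ofHom (HomogeneousLocalization.Away.map
      (Groth.Agent.ProjQX.Idx.grad (Groth.Agent.ProjQX.TIdx.up (φ := φ) (hφ := hφ) t)) t.f)) :=
    (ConcreteCategory.isIso_iff_bijective _).mpr
      ⟨Groth.Agent.ProjQX.awayMap_inj_of_tnInj _ (n := n) (fun k hk x hx e => (hn k hk t.U t.hU).1 x hx
        ((Groth.Agent.ProjQX.gradedAt_ofHom t.U t.hU le_rfl x).symm.trans e)) t.hd t.hf,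
      Groth.Agent.ProjQX.awayMap_surj_of_tnSurj _ (n := n) (fun k hk y hy => by
        obtain ⟨x, hx, e⟩ := (hn k hk t.U t.hU).2 y hy
        exact ⟨x, hx, (Groth.Agent.ProjQX.gradedAt_ofHom t.U t.hU le_rfl x).trans e⟩) t.hd t.hf⟩
  simp only [MorphismProperty.isomorphisms.iff]
  infer_instance

end Groth.Agent.S12166
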