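import Groth.Statements.S1217
import Groth.Agent.ZClosLib.PurityDescent

set_option autoImplicit false
universe u
open FlatMor

namespace Groth.Agent.S1217

open TensorProduct Groth.Agent.ZClosLib

attribute [local instance] Algebra.TensorProduct.rightAlgebra

set_option linter.style.haveILetI false

/-- An impurity above `p` yields one above `p'` on a given common base change. -/
theorem descend_core {A B : Type u} [CommRing A] [CommRing B] [Algebra A B] [Algebra.FiniteType A B]
    {N : Type u} [AddCommGroup N] [Module B N] {p : Ideal A} [p.IsPrime]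
    {A' B' N' : Type u} [CommRing A'] [CommRing B'] [Algebra A A'] [Algebra B B'] [Algebra A' B'] [Algebra A B']
    [IsScalarTower A B B'] [IsScalarTower A A' B'] [hp : Algebra.IsPushout A B A' B']
    [AddCommGroup N'] [Module B' N'] [Module B N'] [IsScalarTower B B' N'] {f : N →ₗ[B] N'} (hf : IsBaseChange B' f)
    (p' : Ideal A') [p'.IsPrime] [Module.Flat A (Localization.AtPrime p')]
    {A₁ B₁ N₁ : Type u} [CommRing A₁] [CommRing B₁] [Algebra A A₁] [Algebra B B₁] [Algebra A₁ B₁]
    [Algebra A B₁] [IsScalarTower A B B₁] [IsScalarTower A A₁ B₁] [AddCommGroup N₁] [Module B₁ N₁]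
    [Module B N₁] [IsScalarTower B B₁ N₁] [Module A₁ N₁] [IsScalarTower A₁ B₁ N₁]
    {f₁ : N →ₗ[B] N₁} {t' t : Ideal A₁} [t'.IsPrime] [t.IsPrime] {P : Ideal B₁} [P.IsPrime]
    (himp : FlatCA.IsImpurity A B N p A₁ B₁ N₁ f₁ t' t P)
    (A₂ B₂ N₂ : Type u) [CommRing A₂] [Algebra A A₂] [Algebra A₁ A₂] [Algebra A' A₂]
    [IsScalarTower A A₁ A₂] [IsScalarTower A A' A₂] [Algebra.IsPushout A A₁ A' A₂]
    [CommRing B₂] [Algebra B' B₂] [Algebra A₂ B₂] [Algebra A' B₂] [IsScalarTower A' B' B₂] [IsScalarTower A' A₂ B₂]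
    [hpush' : Algebra.IsPushout A' B' A₂ B₂]
    [AddCommGroup N₂] [Module B₂ N₂] [Module B' N₂] [IsScalarTower B' B₂ N₂] [Module A₂ N₂] [IsScalarTower A₂ B₂ N₂]
    (g : N' →ₗ[B'] N₂) (hg : IsBaseChange B₂ g)
    (t₂ : Ideal A₂) [ht₂ : t₂.IsPrime] [t₂.LiesOver t] [t₂.LiesOver p']
    (Q : ∀ (C : Type u) [CommRing C] [Algebra A' C], Ideal C → Prop) (hQ : Q A₂ t₂) :
    FlatCA.HasImpurity A' B' N' p' Q := by
  haveI := ZClosLib.PurityBC.flat_localization_of_isPushout (A := A) (A₁ := A₁) p' t₂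
  obtain ⟨t₂', ht₂', h', hle⟩ := ZClosLib.PurityBC.exists_le_liesOver himp.2.2.1 t₂
  letI : Algebra B B₂ := ((algebraMap B' B₂).comp (algebraMap B B')).toAlgebra
  letI : Algebra A B₂ := ((algebraMap A₂ B₂).comp (algebraMap A A₂)).toAlgebra
  haveI : IsScalarTower B B' B₂ := IsScalarTower.of_algebraMap_eq fun _ => rfl
  haveI : IsScalarTower A A₂ B₂ := IsScalarTower.of_algebraMap_eq fun _ => rfl
  haveI : IsScalarTower A B B₂ := IsScalarTower.of_algebraMap_eq fun x => by
    show algebraMap A₂ B₂ (algebraMap A A₂ x) = algebraMap B' B₂ (algebraMap B B' (algebraMap A B x))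
    rw [← IsScalarTower.algebraMap_apply A B B', IsScalarTower.algebraMap_apply A A' A₂,
      IsScalarTower.algebraMap_apply A A' B', ← IsScalarTower.algebraMap_apply A' A₂ B₂,
      ← IsScalarTower.algebraMap_apply A' B' B₂]
  haveI hpush : Algebra.IsPushout A B A₂ B₂ :=
    ZClosLib.PurityBC.isPushout_comp A B A' B' A₂ B₂ hp hpush'
  letI : Module B N₂ := Module.compHom N₂ (algebraMap B B')
  haveI : IsScalarTower B B' N₂ := IsScalarTower.of_algebraMap_smul fun _ _ => rfl
  haveI : IsScalarTower B B₂ N₂ := IsScalarTower.of_algebraMap_smul fun b z =>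
    (algebraMap_smul B₂ (algebraMap B B' b) z)
  obtain ⟨P₂, hP₂, -, -, -, -, hP₂t, hass, hno⟩ := ZClosLib.PurityBC.IsImpurity.propagate himp A₂ B₂ N₂
    (g.restrictScalars B ∘ₗ f) (hf.comp hg) t₂' t₂ hle
  exact ⟨A₂, B₂, N₂, inferInstance, inferInstance, inferInstance, inferInstance, inferInstance, inferInstance,
    inferInstance, inferInstance, inferInstance, inferInstance, inferInstance, inferInstance, inferInstance,
    inferInstance, g, t₂', t₂, ht₂', ht₂, P₂, hP₂,
    ⟨hpush', hg, hle, inferInstance, hP₂t, hass, hno⟩, hQ⟩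

/-- An impurity above `p` yields one above `p'` on the common base change. -/
theorem descend {A B : Type u} [CommRing A] [CommRing B] [Algebra A B] [Algebra.FiniteType A B]
    {N : Type u} [AddCommGroup N] [Module B N] {p : Ideal A} [p.IsPrime]
    {A' B' N' : Type u} [CommRing A'] [CommRing B'] [Algebra A A'] [Algebra B B'] [Algebra A' B'] [Algebra A B']
    [IsScalarTower A B B'] [IsScalarTower A A' B'] [hp : Algebra.IsPushout A B A' B']
    [AddCommGroup N'] [Module B' N'] [Module B N'] [IsScalarTower B B' N'] {f : N →ₗ[B] N'} (hf : IsBaseChange B' f)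
    (p' : Ideal A') [p'.IsPrime] [Module.Flat A (Localization.AtPrime p')]
    {A₁ B₁ N₁ : Type u} [CommRing A₁] [CommRing B₁] [Algebra A A₁] [Algebra B B₁] [Algebra A₁ B₁]
    [Algebra A B₁] [IsScalarTower A B B₁] [IsScalarTower A A₁ B₁] [AddCommGroup N₁] [Module B₁ N₁]
    [Module B N₁] [IsScalarTower B B₁ N₁] [Module A₁ N₁] [IsScalarTower A₁ B₁ N₁]
    {f₁ : N →ₗ[B] N₁} {t' t : Ideal A₁} [t'.IsPrime] [t.IsPrime] {P : Ideal B₁} [P.IsPrime]
    (himp : FlatCA.IsImpurity A B N p A₁ B₁ N₁ f₁ t' t P)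
    (A₂ : Type u) [CommRing A₂] [Algebra A A₂] [Algebra A₁ A₂] [Algebra A' A₂]
    [IsScalarTower A A₁ A₂] [IsScalarTower A A' A₂] [Algebra.IsPushout A A₁ A' A₂]
    (t₂ : Ideal A₂) [ht₂ : t₂.IsPrime] [t₂.LiesOver t] [t₂.LiesOver p']
    (Q : ∀ (C : Type u) [CommRing C] [Algebra A' C], Ideal C → Prop) (hQ : Q A₂ t₂) :
    FlatCA.HasImpurity A' B' N' p' Q := by
  exact descend_core hf p' himp A₂ (A₂ ⊗[A'] B') ((A₂ ⊗[A'] B') ⊗[B'] N')
    (hpush' := Algebra.IsPushout.symm inferInstance)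
    (TensorProduct.mk B' (A₂ ⊗[A'] B') N' 1) (TensorProduct.isBaseChange B' N' _) t₂ Q hQ

/-- Ring form, X = Spec B affine: let B be a finite type A-algebra, N a finite B-module, p a prime of A,
and A' an A-algebra with a prime p' over p such that the local ring of A' at p' is flat over A. Let
B', N' be the base changes of B, N to A'. If N' is pure along the fibre over p' then N is pure along
the fibre over p, and likewise for universal purity. -/
theorem result {A B : Type u} [CommRing A] [CommRing B] [Algebra A B] [Algebra.FiniteType A B]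
    (N : Type u) [AddCommGroup N] [Module B N] [Module.Finite B N] (p : Ideal A) [p.IsPrime]
    (A' B' N' : Type u) [CommRing A'] [CommRing B'] [Algebra A A'] [Algebra B B'] [Algebra A' B'] [Algebra A B']
    [IsScalarTower A B B'] [IsScalarTower A A' B'] [Algebra.IsPushout A B A' B']
    [AddCommGroup N'] [Module B' N'] [Module B N'] [IsScalarTower B B' N'] (f : N →ₗ[B] N') (hf : IsBaseChange B' f)
    (p' : Ideal A') [p'.IsPrime] [p'.LiesOver p] [Module.Flat A (Localization.AtPrime p')] :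
    (FlatCA.IsPureAlong A' B' N' p' → FlatCA.IsPureAlong A B N p) ∧
    (FlatCA.IsUnivPureAlong A' B' N' p' → FlatCA.IsUnivPureAlong A B N p) := by
  refine ⟨fun h => ?_, fun h => ?_⟩
  · intro A₁ B₁ N₁ _ _ _ _ _ _ _ _ _ _ _ _ _ _ f₁ t' t _ _ P _ het himp
    obtain ⟨hA₁, ht, hbij⟩ := het
    let κ := (Ideal.ResidueField.mapₐ p t (Algebra.ofId A A₁) ht.over)
    let e : p.ResidueField ≃ₐ[A] t.ResidueField := AlgEquiv.ofBijective κ hbij
    let α : A₁ →ₐ[A] p'.ResidueField := (Ideal.ResidueField.mapₐ p p' (Algebra.ofId A A') (Ideal.LiesOver.over)).comp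
      (e.symm.toAlgHom.comp (IsScalarTower.toAlgHom A A₁ t.ResidueField))
    let A₂ : Type u := A' ⊗[A] A₁
    let ψ : A₂ →ₐ[A'] p'.ResidueField := Algebra.TensorProduct.lift (Algebra.ofId A' _) α fun _ _ => .all _ _
    let t₂ : Ideal A₂ := RingHom.ker ψ
    haveI : t₂.IsPrime := RingHom.ker_isPrime _
    haveI : t₂.LiesOver p' := ⟨by
      ext x
      rw [Ideal.mem_comap, RingHom.mem_ker, AlgHom.commutes, Ideal.algebraMap_residueField_eq_zero]⟩
    haveI : t₂.LiesOver t := ⟨by
      ext x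
      rw [Ideal.mem_comap, RingHom.mem_ker]
      show x ∈ t ↔ ψ (1 ⊗ₜ x) = 0
      rw [Algebra.TensorProduct.lift_tmul, map_one, one_mul, ← Ideal.algebraMap_residueField_eq_zero]
      exact ⟨fun h0 => by simp [α, h0], fun h0 => by simpa [α] using h0⟩⟩
    haveI : Algebra.IsPushout A A₁ A' A₂ := inferInstance
    have hQ : ∃ _ : t₂.IsPrime, FlatCA.IsEtaleNhd A' A₂ p' t₂ := by
      refine ⟨inferInstance, inferInstance, inferInstance, RingHom.injective _, fun z => ?_⟩
      obtain ⟨a, b, hb, rfl⟩ := IsFractionRing.div_surjective (A₂ ⧸ t₂) z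
      obtain ⟨a, rfl⟩ := Ideal.Quotient.mk_surjective a
      obtain ⟨b, rfl⟩ := Ideal.Quotient.mk_surjective b
      have hbt : b ∉ t₂ := fun h0 => nonZeroDivisors.ne_zero hb (Ideal.Quotient.eq_zero_iff_mem.2 h0)
      obtain ⟨c, d, hd, hcd⟩ := IsFractionRing.div_surjective (A' ⧸ p') (ψ a / ψ b)
      obtain ⟨c, rfl⟩ := Ideal.Quotient.mk_surjective c
      obtain ⟨d, rfl⟩ := Ideal.Quotient.mk_surjective d
      have hdp : d ∉ p' := fun h0 => nonZeroDivisors.ne_zero hd (Ideal.Quotient.eq_zero_iff_mem.2 h0)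
      change algebraMap A' p'.ResidueField c / algebraMap A' p'.ResidueField d = _ at hcd
      rw [div_eq_div_iff (fun h0 => hdp (Ideal.algebraMap_residueField_eq_zero.1 h0)) hbt] at hcd
      refine ⟨algebraMap A' p'.ResidueField c / algebraMap A' p'.ResidueField d, ?_⟩
      show _ = algebraMap A₂ t₂.ResidueField a / algebraMap A₂ t₂.ResidueField b
      rw [map_div₀, AlgHom.commutes, AlgHom.commutes, IsScalarTower.algebraMap_apply A' A₂ t₂.ResidueField,
        IsScalarTower.algebraMap_apply A' A₂ t₂.ResidueField,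
        div_eq_div_iff (fun h0 => hdp ((Ideal.mem_of_liesOver t₂ p' d).2 (Ideal.algebraMap_residueField_eq_zero.1 h0)))
          (fun h0 => hbt (Ideal.algebraMap_residueField_eq_zero.1 h0)),
        ← map_mul, ← map_mul, ← sub_eq_zero, ← map_sub, Ideal.algebraMap_residueField_eq_zero, RingHom.mem_ker,
        map_sub, map_mul, map_mul, AlgHom.commutes, AlgHom.commutes, hcd, sub_self]
    obtain ⟨C, D, M, _, _, _, _, _, _, _, _, _, _, _, _, _, _, g, s', s, _, _, P₂, _, h2, hs⟩ :=
      descend hf p' himp A₂ t₂ (fun C _ _ s => ∃ _ : s.IsPrime, FlatCA.IsEtaleNhd A' C p' s) hQ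
    exact h C D M g s' s P₂ hs.2 h2
  · intro A₁ B₁ N₁ _ _ _ _ _ _ _ _ _ _ _ _ _ _ f₁ t' t _ _ P _ himp
    haveI : t.LiesOver p := himp.2.2.2.1
    letI := (Ideal.ResidueField.mapₐ p t (Algebra.ofId A A₁) (Ideal.LiesOver.over)).toRingHom.toAlgebra
    letI := (Ideal.ResidueField.mapₐ p p' (Algebra.ofId A A') (Ideal.LiesOver.over)).toRingHom.toAlgebra
    haveI : IsScalarTower A p.ResidueField t.ResidueField := IsScalarTower.of_algebraMap_eq fun x => (AlgHom.commutes _ x).symm
    haveI : IsScalarTower A p.ResidueField p'.ResidueField := IsScalarTower.of_algebraMap_eq fun x => (AlgHom.commutes _ x).symm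
    obtain ⟨m, hm⟩ := Ideal.exists_maximal (p'.ResidueField ⊗[p.ResidueField] t.ResidueField)
    let F := (p'.ResidueField ⊗[p.ResidueField] t.ResidueField) ⧸ m
    letI : Field F := Ideal.Quotient.field m
    let π := Ideal.Quotient.mkₐ A m
    let β : p'.ResidueField →ₐ[A] F := π.comp (Algebra.TensorProduct.includeLeft (R := p.ResidueField) (S := A))
    let γ : t.ResidueField →ₐ[A] F := π.comp
      ((Algebra.TensorProduct.includeRight (R := p.ResidueField) (A := p'.ResidueField)).restrictScalars A)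
    let A₂ : Type u := A' ⊗[A] A₁
    let ψ : A₂ →ₐ[A] F := Algebra.TensorProduct.lift (β.comp (IsScalarTower.toAlgHom A A' _))
      (γ.comp (IsScalarTower.toAlgHom A A₁ _)) fun _ _ => .all _ _
    let t₂ : Ideal A₂ := RingHom.ker ψ
    haveI : t₂.IsPrime := RingHom.ker_isPrime _
    haveI : t₂.LiesOver p' := ⟨by
      ext x
      rw [Ideal.mem_comap, RingHom.mem_ker]
      show x ∈ p' ↔ ψ (x ⊗ₜ 1) = 0
      rw [Algebra.TensorProduct.lift_tmul, map_one, mul_one, AlgHom.comp_apply,
        map_eq_zero, IsScalarTower.toAlgHom_apply,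
        Ideal.algebraMap_residueField_eq_zero]⟩
    haveI : t₂.LiesOver t := ⟨by
      ext x
      rw [Ideal.mem_comap, RingHom.mem_ker]
      show x ∈ t ↔ ψ (1 ⊗ₜ x) = 0
      rw [Algebra.TensorProduct.lift_tmul, map_one, one_mul, AlgHom.comp_apply,
        map_eq_zero, IsScalarTower.toAlgHom_apply,
        Ideal.algebraMap_residueField_eq_zero]⟩
    obtain ⟨C, D, M, _, _, _, _, _, _, _, _, _, _, _, _, _, _, g, s', s, _, _, P₂, _, h2, -⟩ :=
      descend hf p' himp A₂ t₂ (fun _ _ _ _ => True) trivial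
    exact h C D M g s' s P₂ h2

end Groth.Agent.S1217
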