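import Groth.Statements.S1218
import Groth.Agent.RG.CoverPure
-- import your own Groth.Agent.* helpers here

set_option autoImplicit false
universe u
open FlatMor

namespace Groth.Agent.S1218

set_option backward.isDefEq.respectTransparency false
set_option backward.isDefEq.respectTransparency.types false
set_option linter.style.haveILetI false
set_option maxHeartbeats 2000000

open TensorProduct IsLocalRing

attribute [local instance] Algebra.TensorProduct.rightAlgebra

/-- Universal purity from a free piece, over an abstract local ring. -/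
theorem aux {A B : Type u} [CommRing A] [CommRing B] [Algebra A B] [Algebra.FiniteType A B]
    {N : Type u} [AddCommGroup N] [Module B N] [Module A N] [IsScalarTower A B N] [Module.Finite B N]
    {p : Ideal A} [p.IsPrime] (hpure : FlatCA.IsPureAlong A B N p)
    {A' : Type u} [CommRing A'] [Algebra A A'] {p' : Ideal A'} [p'.IsPrime] (hA : FlatCA.IsEtaleNhd A A' p p')
    (R : Type u) [CommRing R] [IsLocalRing R] [Algebra A R] [Algebra A' R] [IsScalarTower A A' R]
    [IsLocalization p'.primeCompl R] [hR : (maximalIdeal R).LiesOver p']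
    (hκ : Function.Bijective (Ideal.ResidueField.mapₐ p' (maximalIdeal R) (Algebra.ofId A' R) hR.over))
    (H : ∀ (SA NA : Type u) [CommRing SA] [Algebra A SA] [Algebra B SA] [Algebra R SA]
        [IsScalarTower A B SA] [IsScalarTower A R SA]
        [Algebra.IsPushout A B R SA]
        [AddCommGroup NA] [Module SA NA] [Module B NA] [IsScalarTower B SA NA]
        (f : N →ₗ[B] NA), IsBaseChange SA f →
        ∃ (C : Type u) (_ : CommRing C) (_ : Algebra SA C) (_ : Algebra R C)
          (_ : IsScalarTower R SA C) (_ : Algebra B C) (_ : IsScalarTower B SA C),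
          Algebra.Etale SA C ∧
          (∀ (q : Ideal B) [q.IsPrime], q.LiesOver p → ∃ x' : Ideal C, x'.IsPrime ∧ x'.comap (algebraMap B C) = q ∧
            x'.LiesOver (maximalIdeal R)) ∧
          Module.Free R (RestrictScalars R C (C ⊗[SA] NA))) :
    FlatCA.IsUnivPureAlong A B N p := by
  haveI : Algebra.IsPushout A B R (B ⊗[A] R) := inferInstance
  obtain ⟨C, _, _, _, _, _, _, het, hcov, hfree⟩ :=
    H (B ⊗[A] R) ((B ⊗[A] R) ⊗[B] N) (TensorProduct.mk B (B ⊗[A] R) N 1) (TensorProduct.isBaseChange B N (B ⊗[A] R))
  haveI := het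
  haveI := hfree
  let M := C ⊗[B ⊗[A] R] ((B ⊗[A] R) ⊗[B] N)
  haveI : Module.Free R M := Module.Free.of_equiv
    ({ RestrictScalars.addEquiv R C M with
        map_smul' := fun r z => by
          show RestrictScalars.addEquiv R C M (r • z) = r • RestrictScalars.addEquiv R C M z
          rw [RestrictScalars.addEquiv_map_smul, algebraMap_smul] } : RestrictScalars R C M ≃ₗ[R] M)
  refine RG.isUnivPureAlong_of_chart hpure hA R hκ C fun q _ hq => ?_
  obtain ⟨x, hx, hxq, hxm⟩ := hcov q hq
  haveI := hx
  refine ⟨x.comap (algebraMap (B ⊗[A] R) C), ?_, ⟨?_⟩, x, hx, rfl⟩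
  · rw [Ideal.comap_comap, ← IsScalarTower.algebraMap_eq B (B ⊗[A] R) C]
    exact hxq
  · rw [Ideal.under_def, Ideal.comap_comap, ← IsScalarTower.algebraMap_eq R (B ⊗[A] R) C]
    exact hxm.over

/-- Ring form, X = Spec B affine: let B be a finite type A-algebra, N a finite B-module and p a prime of
A such that N is flat over A at every prime of B lying over p. If N is pure along the fibre over p
then N is universally pure along the fibre over p. -/
theorem result {A B : Type u} [CommRing A] [CommRing B] [Algebra A B] [Algebra.FiniteType A B]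
    (N : Type u) [AddCommGroup N] [Module B N] [Module A N] [IsScalarTower A B N] [Module.Finite B N] (p : Ideal A) [p.IsPrime]
    (hflat : ∀ (q : Ideal B) [q.IsPrime], q.LiesOver p → FlatCA.FlatAt A q N)
    (hpure : FlatCA.IsPureAlong A B N p) : FlatCA.IsUnivPureAlong A B N p := by
  obtain ⟨A', _, _, p', _, hA, H⟩ := Groth.Agent.S1259.result (R := A) (S := B) N p hflat
  obtain ⟨hR, hκ⟩ := RG.residue_bijective_atPrime p'
  haveI := hR
  exact aux hpure hA (Localization.AtPrime p') hκ H

end Groth.Agent.S1218
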