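import Groth.Statements.S12193
import Groth.Agent.SchImgEt.Main

set_option backward.isDefEq.respectTransparency false
set_option backward.isDefEq.respectTransparency.types false

set_option autoImplicit false
universe u
open CategoryTheory CategoryTheory.Limits AlgebraicGeometry
open AlgSp

namespace Groth.Agent.S12193

/-- Let X be a reduced algebraic space over S, f : X → Y a morphism of algebraic spaces over S, and Z →
Y the scheme theoretic image of f. Then forming the scheme theoretic image commutes with etale base
change: for every etale morphism V → Y of algebraic spaces and cartesian squares X ×_Y V, Z ×_Y V,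
the closed subspace Z ×_Y V → V is the scheme theoretic image of X ×_Y V → V. -/
theorem result {S : Scheme.{u}} {X Y Z V XV ZV : AlgSp.Space S} (f : X ⟶ Y)
    (i : Z ⟶ Y) (hX : AlgSp.IsReducedSp X.obj) (hZ : AlgSp.IsSchImage f.hom i.hom) (b : V ⟶ Y)
    (hb : AlgSp.IsEtaleMor b.hom) (f₁ : XV ⟶ X) (fV : XV ⟶ V) (i₁ : ZV ⟶ Z) (iV : ZV ⟶ V)
    (sqX : IsPullback f₁.hom fV.hom f.hom b.hom) (sqZ : IsPullback i₁.hom iV.hom i.hom b.hom) :
    AlgSp.IsSchImage fV.hom iV.hom := by
  exact SchImgEt.isSchImage_baseChange X.property Y.property Z.property V.property hX hZ hb sqX sqZ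


end Groth.Agent.S12193
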