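import Groth.Statements.S12194
import Groth.Agent.AlgSpWA.StalkMor

set_option backward.isDefEq.respectTransparency false
set_option backward.isDefEq.respectTransparency.types false
-- import your own Groth.Agent.* helpers here

set_option autoImplicit false
universe u
open CategoryTheory CategoryTheory.Limits AlgebraicGeometry Opposite
open AlgSp

namespace Groth.Agent.S12194

/-- Let X be a locally Noetherian algebraic space over S, φ : G ⟶ F a morphism of coherent O_X-modules
on the small etale site of X (of finite presentation, X being locally Noetherian) and x̄ a geometric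
point of X. If the map φ_x̄ on stalks at x̄ (of the underlying abelian sheaves) is surjective, then
there is an open subspace X' ⊂ X containing the image of x̄ such that φ|_{X'} is surjective: the
stalk map φ_ȳ is surjective for every geometric point ȳ of X lying over a point of |X'|. -/
theorem result {S : Scheme.{u}} (X : AlgSp.Space S)
    (hX : AlgSp.IsLocNoethSp X.obj) {G F : AlgSp.ModEt X.obj} [G.IsFinitePresentation] [F.IsFinitePresentation]
    (φ : G ⟶ F) (xbar : AlgSp.FieldPt X.obj) (hx : xbar.IsGeometric)
    (hsurj : Epi ((AlgSp.stalkEtFunctor AddCommGrpCat.{u + 1} xbar).map ((AlgSp.toAbEt X.obj).map φ))) :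
    ∃ (X' : AlgSp.Space S) (j : X' ⟶ X), AlgSp.RepWith @IsOpenImmersion j.hom ∧
      AlgSp.Points.mk xbar ∈ Set.range (AlgSp.Points.map j.hom) ∧
        ∀ ybar : AlgSp.FieldPt X.obj, ybar.IsGeometric →
          AlgSp.Points.mk ybar ∈ Set.range (AlgSp.Points.map j.hom) →
            Epi ((AlgSp.stalkEtFunctor AddCommGrpCat.{u + 1} ybar).map ((AlgSp.toAbEt X.obj).map φ)) :=  by
  obtain ⟨U, hU, hpU, h⟩ := Groth.Agent.AlgSpWA.exists_open_epi φ X.property hx hsurj
  obtain ⟨X', j, hj, hr⟩ := Groth.Agent.AlgSpWA.exists_space_of_open X hU
  exact ⟨X', j, hj, hr.ge hpU, fun y hy hy' => h y hy (hr.le hy')⟩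
end Groth.Agent.S12194
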