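import Groth.Statements.S12195
import Groth.Agent.AlgSpLib.InfLocal

set_option backward.isDefEq.respectTransparency false
set_option backward.isDefEq.respectTransparency.types false
-- import your own Groth.Agent.* helpers here

set_option autoImplicit false
universe u
open CategoryTheory CategoryTheory.Limits AlgebraicGeometry
open AlgSp

namespace Groth.Agent.S12195

/-- Let a : F ⟶ G be a representable, surjective and etale morphism of fppf sheaves on (Sch/S) and b : G
⟶ H a morphism such that a ≫ b is formally smooth. Consider a solid infinitesimal lifting square for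
b: a square-zero thickening T = Spec (A/I) ⊂ T' = Spec A of affine schemes over S, a morphism T ⟶ G
and a morphism T' ⟶ H making the square commute. Then for every point t of T' there exist an affine
scheme U', an etale morphism U' ⟶ T' whose image contains t, and a morphism U' ⟶ G lying over T' ⟶ H
whose restriction to T ×_{T'} U' agrees with the given T ⟶ G (stated for every scheme V mapping
compatibly to T and U'). (The published statement is for transformations of arbitrary presheaves of
sets on (Sch/S)_fppf; this row takes fppf sheaves, the case of algebraic spaces.) -/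
theorem result {S : Scheme.{u}} {F G H : AlgSp.Sp S} (a : F ⟶ G)
    (b : G ⟶ H) (ha : AlgSp.RepWith @Etale a) (ha' : AlgSp.RepWith @Surjective a)
    (hab : AlgSp.IsFormallySmoothMor (a ≫ b)) (sq : AlgSp.InfSq b) (t : ↥sq.ptT'.left) :
    ∃ (U' : Over S) (g : U' ⟶ sq.ptT') (l : (AlgSp.yon S).obj U' ⟶ G),
      IsAffine U'.left ∧ Etale g.left ∧ (∃ u : ↥U'.left, g.left u = t) ∧
        l ≫ b = (AlgSp.yon S).map g ≫ sq.bot ∧
          ∀ (V : Over S) (p : V ⟶ sq.ptT) (q : V ⟶ U'), p ≫ sq.j = q ≫ g →
            (AlgSp.yon S).map q ≫ l = (AlgSp.yon S).map p ≫ sq.top :=  by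
  open Groth.Agent.AlgSpLib in
  obtain ⟨ι, W, φ, hφ, hsurj, hlift⟩ := exists_local_lift ha ha' hab sq
  obtain ⟨i, w, hw⟩ := hsurj t
  obtain ⟨O, hO, hwO, -⟩ := exists_isAffineOpen_mem_and_subset (U := ⊤) (x := w) trivial
  obtain ⟨x, hx, hxb⟩ := hlift i
  let e : Over.mk (O.ι ≫ (W i).hom) ⟶ W i := Over.homMk O.ι rfl
  haveI := hφ i
  refine ⟨Over.mk (O.ι ≫ (W i).hom), e ≫ φ i, (AlgSp.yon S).map e ≫ x, hO,
    inferInstanceAs (Etale (O.ι ≫ (φ i).left)), ⟨⟨w, hwO⟩, hw⟩, ?_, fun V p q hpq => ?_⟩
  · rw [Category.assoc, hxb, ← Category.assoc, ← Functor.map_comp]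
  · refine Groth.Agent.AlgSpLib.hom_ext_of_affines _ _ fun D s => ?_
    rw [← Category.assoc, ← Category.assoc, ← Functor.map_comp, ← Functor.map_comp]
    rw [← Category.assoc, ← Functor.map_comp]
    exact hx _ _ _ _ (by simp only [Category.assoc]; rw [← hpq])
end Groth.Agent.S12195
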