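import Groth.Statements.S1220
import Groth.Agent.RG.PureCrit
-- import your own Groth.Agent.* helpers here

set_option autoImplicit false
universe u
open FlatMor

namespace Groth.Agent.S1220

set_option backward.isDefEq.respectTransparency false
set_option linter.style.haveILetI false

open TensorProduct

/-- Ring form, X = Spec B affine: let B be a finitely presented A-algebra and N a finitely presented
B-module flat over A. Then the set of points p of Spec A such that N is pure along the fibre over p
is open. -/
theorem result {A B : Type u} [CommRing A] [CommRing B] [Algebra A B] [Algebra.FinitePresentation A B]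
    (N : Type u) [AddCommGroup N] [Module B N] [Module A N] [IsScalarTower A B N] [Module.FinitePresentation B N] [Module.Flat A N] :
    IsOpen {p : PrimeSpectrum A | FlatCA.IsPureAlong A B N p.asIdeal} := by
  rw [isOpen_iff_forall_mem_open]
  intro p hp
  haveI := p.isPrime
  obtain ⟨g, hg, hproj⟩ := RG.exists_projective_away_of_pure N p.asIdeal hp
  haveI := hproj
  refine ⟨(PrimeSpectrum.basicOpen g : Set (PrimeSpectrum A)), fun q hq => ?_, (PrimeSpectrum.basicOpen g).isOpen, hg⟩
  haveI := q.isPrime
  exact RG.isPureAlong_of_isUnivPureAlong (RG.isUnivPureAlong_of_projective_away N g q.asIdeal hq)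

end Groth.Agent.S1220
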