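import Groth.Statements.S12204
import Groth.Agent.AlgSpDec.GeomRed

set_option backward.isDefEq.respectTransparency false
set_option backward.isDefEq.respectTransparency.types false
-- import your own Groth.Agent.* helpers here

set_option autoImplicit false
universe u
open CategoryTheory CategoryTheory.Limits AlgebraicGeometry Topology TopologicalSpace
open AlgSp Groth.Agent.AlgSpDec

namespace Groth.Agent.S12204

/-- (5) ⇒ (2): let k be a field of characteristic p > 0, k' a perfect closure of k (a perfect field
which is a purely inseparable extension of k) and X an algebraic space over k. If X_{k'} is reduced,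
then X_K is reduced for every field extension K of k. -/
theorem result (k : Type u) [Field k] (p : ℕ) [Fact p.Prime] [CharP k p]
    (X : AlgSp.Space (Spec (CommRingCat.of k))) (k' : Type u) [Field k'] [Algebra k k'] [PerfectField k']
    [IsPurelyInseparable k k']
    (h : AlgSp.EtaleLocally (fun U => IsReduced U) (X.obj ⨯ (AlgSp.yon (Spec (CommRingCat.of k))).obj (Over.mk (Spec.map (CommRingCat.ofHom (algebraMap k k'))))))
    (K : Type u) [Field K] [Algebra k K] : AlgSp.EtaleLocally (fun U => IsReduced U) (X.obj ⨯ (AlgSp.yon (Spec (CommRingCat.of k))).obj (Over.mk (Spec.map (CommRingCat.ofHom (algebraMap k K))))) :=  by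
  obtain ⟨U, a, ha, hs⟩ := X.property.atlas
  exact GeomRed.bc_isReduced_of_geomReduced K ha hs (GeomRed.geomReduced_of_perfect k' ha hs h)
end Groth.Agent.S12204
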