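import Groth.Statements.S12205
import Mathlib
import Groth.Agent.TorBridge.Basic
import Groth.Agent.LocalCrit.Flatness

set_option autoImplicit false
universe u
open CategoryTheory
open scoped TensorProduct
open CAlg

namespace Groth.Agent.S12205

/-- Let I be an ideal of a commutative ring R and M an R-module such that M/IM is flat over R/I and
Tor_1^R(R/I, M) = 0. Then Tor_1^R(N, M) = 0 for every R-module N annihilated by I^m for some m ≥ 0.
Here Tor_1^R(N, M) is the first left derived functor of N ⊗_R − evaluated at M. -/
theorem result (R : Type u) [CommRing R] (I : Ideal R) (M : Type u)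
    [AddCommGroup M] [Module R M] [Module.Flat (R ⧸ I) ((R ⧸ I) ⊗[R] M)]
    (h : Limits.IsZero (((CategoryTheory.Tor (ModuleCat.{u} R) 1).obj (ModuleCat.of R (R ⧸ I))).obj (ModuleCat.of R M)))
    (N : Type u) [AddCommGroup N] [Module R N] (m : ℕ) (hN : ∀ a : R, a ∈ I ^ m → ∀ x : N, a • x = 0) :
    Limits.IsZero (((CategoryTheory.Tor (ModuleCat.{u} R) 1).obj (ModuleCat.of R N)).obj (ModuleCat.of R M)) := by
  have hK : Groth.Agent.LocalCrit.KeepsInjective I M := Groth.Agent.LocalCrit.keepsInjective_of_flat I M
  have hI : Function.Injective (I.subtype.rTensor M) := by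
    have h' := (Groth.Agent.TorBridge.isZero_tor_one_iff M (R ⧸ I) I.mkQ I.mkQ_surjective).1 h
    rwa [Submodule.ker_mkQ] at h'
  let q : (N →₀ R) →ₗ[R] N := Finsupp.linearCombination R id
  rw [Groth.Agent.TorBridge.isZero_tor_one_iff M N q (Finsupp.linearCombination_id_surjective R N)]
  have key : ∀ j : ℕ, Function.Injective
      ((LinearMap.ker q ⊔ I ^ j • ⊤ : Submodule R (N →₀ R)).subtype.rTensor M) := by
    intro j
    induction j with
    | zero =>
      rw [pow_zero, Ideal.one_eq_top, Submodule.top_smul, sup_top_eq]
      exact ((Submodule.topEquiv (R := R) (M := N →₀ R)).rTensor M).injective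
    | succ j ih =>
      set A : Submodule R (N →₀ R) := LinearMap.ker q ⊔ I ^ (j + 1) • ⊤
      set B : Submodule R (N →₀ R) := LinearMap.ker q ⊔ I ^ j • ⊤
      have hAB : A ≤ B := sup_le_sup_left (Submodule.smul_mono_left (Ideal.pow_le_pow_right j.le_succ)) _
      have hle : I • ⊤ ≤ Submodule.comap B.subtype A := by
        rw [Submodule.smul_le]
        rintro a ha ⟨x, hx⟩ -
        obtain ⟨y, hy, z, hz, rfl⟩ := Submodule.mem_sup.mp hx
        show a • (y + z) ∈ A
        rw [smul_add]
        refine add_mem (Submodule.mem_sup_left (Submodule.smul_mem _ a hy)) (Submodule.mem_sup_right ?_)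
        rw [pow_succ', Submodule.mul_smul]
        exact Submodule.smul_mem_smul ha hz
      clear_value A B
      let e : A ≃ₗ[R] Submodule.comap B.subtype A := (Submodule.comapSubtypeEquivOfLe hAB).symm
      have : A.subtype = B.subtype ∘ₗ (Submodule.comap B.subtype A).subtype ∘ₗ e.toLinearMap := by
        ext; rfl
      rw [this, LinearMap.rTensor_comp, LinearMap.rTensor_comp, LinearMap.coe_comp, LinearMap.coe_comp]
      have he : Function.Injective (e.toLinearMap.rTensor M) := by
        apply Function.LeftInverse.injective (g := e.symm.toLinearMap.rTensor M)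
        intro x
        rw [← LinearMap.comp_apply, ← LinearMap.rTensor_comp, LinearEquiv.symm_comp, LinearMap.rTensor_id,
          LinearMap.id_apply]
      have h2 := Groth.Agent.LocalCrit.rTensor_injective_of_smul_le I M hI hK (N := ↥B) (Submodule.comap B.subtype A) hle
      exact ih.comp (h2.comp he)
  have hm := key m
  have : LinearMap.ker q ⊔ I ^ m • ⊤ = LinearMap.ker q := by
    rw [sup_eq_left, Submodule.smul_le]
    intro a ha x _
    rw [LinearMap.mem_ker, map_smul]
    exact hN a ha _
  rwa [this] at hm

end Groth.Agent.S12205
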