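import Groth.Statements.S12206
-- imports

set_option autoImplicit false
universe u
open CAlg

namespace Groth.Agent.S12206

/-- Let φ : N → M be a linear map from a finite R-module N to a coherent R-module M, where coherent
means finitely generated with every finitely generated submodule finitely presented. Then the kernel
of φ is finitely generated, and the image of φ and the cokernel M/φ(N) are coherent. -/
theorem result (R : Type u) [CommRing R] {N M : Type u}
    [AddCommGroup N] [Module R N] [AddCommGroup M] [Module R M] [Module.Finite R N]
    (hM : Module.Finite R M ∧ ∀ P : Submodule R M, P.FG → Module.FinitePresentation R P)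
    (φ : N →ₗ[R] M) :
    (LinearMap.ker φ).FG ∧
    (Module.Finite R (LinearMap.range φ) ∧
      ∀ P : Submodule R (LinearMap.range φ), P.FG → Module.FinitePresentation R P) ∧
    (Module.Finite R (M ⧸ LinearMap.range φ) ∧
      ∀ P : Submodule R (M ⧸ LinearMap.range φ), P.FG → Module.FinitePresentation R P) := by
  obtain ⟨hMfin, hMP⟩ := hM
  have hrfg : (LinearMap.range φ).FG := by
    rw [LinearMap.range_eq_map]; exact Module.Finite.fg_top.map φ
  haveI : Module.FinitePresentation R (LinearMap.range φ) := hMP _ hrfg
  have hk : (LinearMap.ker φ).FG := by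
    have := Module.FinitePresentation.fg_ker φ.rangeRestrict φ.surjective_rangeRestrict
    rwa [LinearMap.ker_rangeRestrict] at this
  refine ⟨hk, ⟨inferInstance, fun P hP => ?_⟩, ⟨inferInstance, fun P hP => ?_⟩⟩
  · haveI := hMP (P.map (LinearMap.range φ).subtype) (hP.map _)
    exact Module.FinitePresentation.of_equiv
      (Submodule.equivMapOfInjective _ (LinearMap.range φ).injective_subtype P).symm
  · let π := (LinearMap.range φ).mkQ
    let P' := P.comap π
    have hker : LinearMap.ker π = LinearMap.range φ := Submodule.ker_mkQ _
    have hfg : P'.FG := by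
      refine Submodule.fg_of_fg_map_of_fg_inf_ker π ?_ ?_
      · rwa [Submodule.map_comap_eq_of_surjective (Submodule.mkQ_surjective _)]
      · rw [inf_eq_right.2 (LinearMap.ker_le_comap π (p := P)), hker]; exact hrfg
    haveI := hMP P' hfg
    let l : P' →ₗ[R] P := π.restrict (fun _ hx => hx)
    refine Module.finitePresentation_of_surjective l ?_ ?_
    · rintro ⟨y, hy⟩
      obtain ⟨x, rfl⟩ := Submodule.mkQ_surjective _ y
      exact ⟨⟨x, hy⟩, rfl⟩
    · apply Submodule.fg_of_fg_map_injective P'.subtype P'.injective_subtype
      have : (LinearMap.ker l).map P'.subtype = LinearMap.range φ := by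
        ext x
        constructor
        · rintro ⟨⟨y, hy⟩, hly, rfl⟩
          exact (Submodule.Quotient.mk_eq_zero _).1 (congrArg Subtype.val hly)
        · intro hx
          have h0 : π x = 0 := (Submodule.Quotient.mk_eq_zero _).2 hx
          exact ⟨⟨x, show π x ∈ P by rw [h0]; exact zero_mem P⟩, Subtype.ext h0, rfl⟩
      rw [this]; exact hrfg

end Groth.Agent.S12206
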