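import Groth.Statements.S12209
import Mathlib.Algebra.Colimit.Ring
import Mathlib.RingTheory.Flat.EquationalCriterion
import Mathlib.Data.Fintype.Order

set_option autoImplicit false
universe u
open CAlg

namespace Groth.Agent.S12209

/-- Let (R_i) be a system of commutative rings over a nonempty directed preorder, with colimit R, and
let M be an R-module which is flat as an R_i-module for every i (the R_i-module structure being
restriction of scalars along R_i → R). Then M is flat as an R-module. -/
theorem result {ι : Type u} [Preorder ι] [Nonempty ι] [IsDirectedOrder ι]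
    (G : ι → Type u) [∀ i, CommRing (G i)] (f : ∀ i j, i ≤ j → G i →+* G j)
    [DirectedSystem G fun i j h => f i j h]
    (M : Type u) [AddCommGroup M] [Module (Ring.DirectLimit G fun i j h => f i j h) M]
    (hflat : ∀ i, letI : Module (G i) M := Module.compHom M (Ring.DirectLimit.of G (fun i j h => f i j h) i);
      Module.Flat (G i) M) :
    Module.Flat (Ring.DirectLimit G fun i j h => f i j h) M := by
  classical
  refine Module.Flat.of_forall_isTrivialRelation fun {l a x} hax => ?_
  choose ia b hb using fun k => Ring.DirectLimit.exists_of (G := G) (f := fun i j h => f i j h) (a k)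
  obtain ⟨j, hj⟩ := Finite.exists_le ia
  letI : Module (G j) M := Module.compHom M (Ring.DirectLimit.of G (fun i j h => f i j h) j)
  haveI := hflat j
  have hb' : ∀ k, Ring.DirectLimit.of G (fun i j h => f i j h) j (f (ia k) j (hj k) (b k)) = a k :=
    fun k => (Ring.DirectLimit.of_f (hj k) (b k)).trans (hb k)
  have hrel : ∑ k, f (ia k) j (hj k) (b k) • x k = 0 := by
    refine Eq.trans (Finset.sum_congr rfl fun k _ => ?_) hax
    exact congrArg (· • x k) (hb' k)
  obtain ⟨κ, c, y, hy, hc⟩ := Module.Flat.isTrivialRelation_of_sum_smul_eq_zero hrel
  refine ⟨κ, fun k m => Ring.DirectLimit.of G (fun i j h => f i j h) j (c k m), y, fun k => hy k,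
    fun m => ?_⟩
  rw [← map_zero (Ring.DirectLimit.of G (fun i j h => f i j h) j), ← hc m, map_sum]
  exact Finset.sum_congr rfl fun k _ => by rw [map_mul, hb']

end Groth.Agent.S12209
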