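import Groth.Statements.S12213
import Groth.Agent.Pi1Ext.KummerSeq
-- import your own Groth.Agent.* helpers here

set_option autoImplicit false
universe u
open CategoryTheory AlgebraicGeometry MonoidalCategory CartesianMonoidalCategory MonObj GrpObj
open EtCoh

namespace Groth.Agent.S12213

/-- For a scheme S and an integer n ≥ 1 the Kummer sequence 1 → μ_n → G_m → G_m → 1 over S, the last map
being the n-th power, is a short exact sequence for the fppf topology. Here G_m = D_S(ℤ), μ_n =
D_S(ℤ/n) mapped into G_m by the morphism of diagonalisable groups induced by ℤ → ℤ/n, and exactness
means: both maps are homomorphisms with trivial composite, (g, z) ↦ (g, gz) identifies G_m ×_S μ_n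
with the fibre product of the n-th power map with itself, and the n-th power map acquires sections
on the members of some fppf covering family of its target. (For n = 0 the sequence is not exact; n ≥
1 is assumed.) -/
theorem result {S : Scheme.{u}} (n : ℕ) (hn : 0 < n) :
    NonAbH1.IsExactSeq Scheme.fppfPrecoverage
      (Red.DSmap S (Int.castAddHom (ZMod n))) (Red.chi S (n : ℤ)) := by
  exact Groth.Agent.Pi1Ext.KummerSeq.isExactSeq_fppf (S := S) n hn

end Groth.Agent.S12213
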