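import Groth.Statements.S12217
import Groth.Agent.GorSocle.Basic
import Mathlib.RingTheory.AdicCompletion.Completeness
import Mathlib.RingTheory.AdicCompletion.Noetherian
import Mathlib.RingTheory.PowerSeries.Inverse

set_option autoImplicit false
universe u
open Curves

namespace Groth.Agent.S12217

open IsLocalRing PowerSeries


/-- In this form A is the local ring of the curve at the point, and a Gorenstein scheme has Gorenstein
local rings. Let k be an algebraically closed field and A a Gorenstein local ring whose completion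
with respect to its maximal ideal is isomorphic to the multicross ring with n ≥ 2 branches, the
subring of (k[[t]])^n consisting of the n-tuples of power series having a common constant term. Then
n = 2: a Gorenstein multicross singularity is a node. The isomorphism is given as an injective ring
map from the completion to (k[[t]])^n with that subring as its range. -/
theorem result (k : Type u) [Field k] [IsAlgClosed k]
    (A : Type u) [CommRing A] [LocCoh.IsGorensteinLocalRing A] (n : ℕ) (hn : 2 ≤ n)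
    (φ : AdicCompletion (IsLocalRing.maximalIdeal A) A →+* (Fin n → PowerSeries k))
    (hinj : Function.Injective φ)
    (hrange : Set.range φ = {f : Fin n → PowerSeries k | ∀ i j : Fin n, PowerSeries.constantCoeff (f i) = PowerSeries.constantCoeff (f j)}) :
    n = 2 := by
  classical
  let m := maximalIdeal A
  let of := algebraMap A (AdicCompletion m A)
  have hofeq : ∀ r, of r = AdicCompletion.of m A r := fun r => rfl
  let ψ : A →+* (Fin n → PowerSeries k) := φ.comp of
  have hψinj : Function.Injective ψ := by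
    have : IsHausdorff m A := IsHausdorff.of_isLocalRing m A (maximalIdeal.isMaximal A).ne_top
    exact hinj.comp (AdicCompletion.of_injective m A)
  let i₀ : Fin n := ⟨0, by omega⟩
  let i₁ : Fin n := ⟨1, by omega⟩
  have hrng : ∀ z, ∀ i j, constantCoeff (φ z i) = constantCoeff (φ z j) := fun z =>
    hrange.subset ⟨z, rfl⟩
  have hzero : ∀ r ∈ m, ∀ i, constantCoeff (ψ r i) = 0 := by
    intro r hr i
    by_contra hc
    have hu : ∀ j, IsUnit (ψ r j) := fun j => by
      rw [isUnit_iff_constantCoeff, isUnit_iff_ne_zero,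
        show constantCoeff (ψ r j) = constantCoeff (ψ r i) from hrng _ j i]
      exact hc
    obtain ⟨w, hw⟩ : (fun j => ((hu j).unit⁻¹ : (PowerSeries k)ˣ).1) ∈ Set.range φ := by
      rw [hrange]
      intro p q
      have key : ∀ j, constantCoeff ((hu j).unit⁻¹ : (PowerSeries k)ˣ).1 * constantCoeff (ψ r i) = 1 := fun j => by
        rw [show constantCoeff (ψ r i) = constantCoeff (ψ r j) from hrng _ i j, ← map_mul,
          (hu j).val_inv_mul, map_one]
      exact mul_right_cancel₀ hc ((key p).trans (key q).symm)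
    have h1 : w * of r = 1 := hinj (by
      rw [map_mul, hw, map_one]; funext j; exact (hu j).val_inv_mul)
    have h2 := congrArg (AdicCompletion.evalₐ m 1) h1
    rw [map_mul, map_one, hofeq, AdicCompletion.evalₐ_of,
      Ideal.Quotient.eq_zero_iff_mem.mpr (by simpa using hr : r ∈ m ^ 1), mul_zero] at h2
    have : (1 : A) ∈ m ^ 1 := Ideal.Quotient.eq_zero_iff_mem.mp ((map_one _).trans h2.symm)
    exact (maximalIdeal.isMaximal A).ne_top ((Ideal.eq_top_iff_one m).mpr (by simpa using this))
  have hsq : ∀ r ∈ m ^ 2, ∀ i, (X : PowerSeries k) ^ 2 ∣ ψ r i := by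
    intro r hr i
    rw [pow_two] at hr
    refine Submodule.mul_induction_on hr (fun a ha b hb => ?_) (fun a b ha hb => ?_)
    · rw [map_mul, Pi.mul_apply, pow_two]
      exact mul_dvd_mul (X_dvd_iff.mpr (hzero a ha i)) (X_dvd_iff.mpr (hzero b hb i))
    · rw [map_add, Pi.add_apply]; exact dvd_add ha hb
  have hdense : ∀ z, ∃ a, ∀ i, (X : PowerSeries k) ^ 2 ∣ φ z i - ψ a i := by
    intro z
    obtain ⟨a, ha⟩ := Ideal.Quotient.mk_surjective (AdicCompletion.evalₐ m 2 z)
    refine ⟨a, ?_⟩
    have h0 : AdicCompletion.evalₐ m 2 (z - of a) = 0 := by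
      rw [map_sub, hofeq, AdicCompletion.evalₐ_of, ha, sub_self]
    have h1 : z - of a ∈ LinearMap.ker (AdicCompletion.eval m A 2) := by
      rw [LinearMap.mem_ker, ← AdicCompletion.factor_evalₐ_eq_eval (I := m) (z - of a)
        (by rw [smul_eq_mul, Ideal.mul_top]), h0, map_zero]
      all_goals rfl
    rw [← AdicCompletion.pow_smul_top_eq_ker_eval (IsNoetherian.noetherian m)] at h1
    suffices H : ∀ y ∈ m ^ 2 • (⊤ : Submodule A (AdicCompletion m A)), ∀ i, (X : PowerSeries k) ^ 2 ∣ φ y i by
      intro i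
      have := H _ h1 i
      rwa [map_sub, Pi.sub_apply] at this
    intro y hy i
    refine Submodule.smul_induction_on hy (fun r hr w _ => ?_) (fun p q hp hq => ?_)
    · rw [Algebra.smul_def, map_mul, Pi.mul_apply]
      exact (hsq r hr i).trans (dvd_mul_right _ _)
    · rw [map_add, Pi.add_apply]; exact dvd_add hp hq
  -- elements of `A` with prescribed linear terms
  have htarget : ∀ c : Fin n → k, ∃ a ∈ m, ∀ i, (X : PowerSeries k) ^ 2 ∣ ψ a i - C (c i) * X := by
    intro c
    obtain ⟨z, hz⟩ : (fun i => C (c i) * X) ∈ Set.range φ := by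
      rw [hrange]; intro p q; simp
    obtain ⟨a, ha⟩ := hdense z
    have h : ∀ i, (X : PowerSeries k) ^ 2 ∣ ψ a i - C (c i) * X := fun i => by
      have := (ha i).neg_right
      rwa [neg_sub, hz] at this
    refine ⟨a, ?_, h⟩
    by_contra hc
    have hu : IsUnit a := by
      by_contra hu'
      exact hc ((mem_maximalIdeal a).mpr hu')
    have h2 : IsUnit (ψ a i₀) := Pi.isUnit_iff.mp (hu.map ψ) i₀
    have h3 : constantCoeff (ψ a i₀ - C (c i₀) * X) = 0 :=
      X_dvd_iff.mp ((dvd_pow_self X two_ne_zero).trans (h i₀))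
    rw [map_sub, map_mul, constantCoeff_X, mul_zero, sub_zero] at h3
    exact (isUnit_iff_constantCoeff.mp h2).ne_zero h3
  have hcoeff : ∀ {c : Fin n → k} {a : A}, (∀ i, (X : PowerSeries k) ^ 2 ∣ ψ a i - C (c i) * X) →
      ∀ i, coeff 1 (ψ a i) = c i := by
    intro c a h i
    have := X_pow_dvd_iff.mp (h i) 1 (by norm_num)
    simpa [sub_eq_zero] using this
  obtain ⟨x, hxm, hx⟩ := htarget fun _ => 1
  have hxX : ∀ i, ∃ v : PowerSeries k, IsUnit v ∧ ψ x i = X * v := by
    intro i
    obtain ⟨v, hv⟩ := X_dvd_iff.mpr (hzero x hxm i)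
    refine ⟨v, ?_, hv⟩
    have := hcoeff hx i
    rw [hv, coeff_succ_X_mul, coeff_zero_eq_constantCoeff] at this
    rw [isUnit_iff_constantCoeff, this]
    exact isUnit_one
  choose v hv hxv using hxX
  have hreg : IsSMulRegular A x := by
    intro p q hpq
    refine hψinj (funext fun i => ?_)
    have := congrFun (congrArg ψ hpq) i
    simp only [smul_eq_mul, map_mul, Pi.mul_apply, hxv] at this
    exact mul_left_cancel₀ (mul_ne_zero X_ne_zero (hv i).ne_zero) this
  have hkrull : ∀ r : A, (∃ z, of r = of x * z) → r ∈ Ideal.span {x} := by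
    rintro r ⟨z, hz⟩
    have : Ideal.Quotient.mk (Ideal.span {x}) r = 0 := by
      have hH : IsHausdorff m (A ⧸ Ideal.span {x}) :=
        IsHausdorff.of_isLocalRing m _ (maximalIdeal.isMaximal A).ne_top
      refine hH.haus _ fun N => ?_
      rw [SModEq.zero]
      obtain ⟨w, hw⟩ := Ideal.Quotient.mk_surjective (AdicCompletion.evalₐ m N z)
      have h2 := congrArg (AdicCompletion.evalₐ m N) hz
      rw [map_mul, hofeq, hofeq, AdicCompletion.evalₐ_of, AdicCompletion.evalₐ_of, ← hw, ← map_mul,
        Ideal.Quotient.eq] at h2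
      have e : Ideal.Quotient.mk (Ideal.span {x}) r = (r - x * w) • (1 : A ⧸ Ideal.span {x}) := by
        rw [Algebra.smul_def, mul_one, Ideal.Quotient.algebraMap_eq, map_sub, sub_eq_self.mpr ?_]
        exact Ideal.Quotient.eq_zero_iff_mem.mpr (Ideal.mem_span_singleton.mpr (dvd_mul_right _ _))
      rw [e]
      exact Submodule.smul_mem_smul h2 trivial
    exact Ideal.Quotient.eq_zero_iff_mem.mp this
  have hle : m ^ 2 ≤ Ideal.span {x} := by
    intro r hr
    choose g hg using fun i => hsq r hr i
    obtain ⟨z, hz⟩ : (fun i => X * g i * ((hv i).unit⁻¹ : (PowerSeries k)ˣ).1) ∈ Set.range φ := by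
      rw [hrange]; intro p q; simp
    refine hkrull r ⟨z, hinj ?_⟩
    rw [map_mul, hz]
    funext i
    show ψ r i = ψ x i * _
    rw [hxv, hg i]
    calc X ^ 2 * g i = X ^ 2 * g i * (v i * ((hv i).unit⁻¹ : (PowerSeries k)ˣ).1) := by
          rw [(hv i).mul_val_inv, mul_one]
      _ = _ := by ring
  have hsoc : ∀ a ∈ m, ∀ r ∈ m, r * a ∈ Ideal.span {x} := fun a ha r hr =>
    hle (by rw [pow_two]; exact Ideal.mul_mem_mul hr ha)
  obtain ⟨a₀, ha₀m, ha₀⟩ := htarget (Pi.single i₀ 1)
  obtain ⟨a₁, ha₁m, ha₁⟩ := htarget (Pi.single i₁ 1)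
  have hmul : ∀ (c : A) (b : A) (i : Fin n), b ∈ m → coeff 1 (ψ (c * b) i) = constantCoeff (ψ c i) * coeff 1 (ψ b i) := by
    intro c b i hb
    rw [map_mul, Pi.mul_apply, coeff_one_mul, hzero b hb i, mul_zero, zero_add, mul_comm]
  have hne : i₁ ≠ i₀ := by simp [i₀, i₁]
  have ha₀x : a₀ ∉ Ideal.span {x} := by
    intro h
    obtain ⟨c, hc⟩ := Ideal.mem_span_singleton'.mp h
    have e : ∀ i, constantCoeff (ψ c i) = (Pi.single i₀ 1 : Fin n → k) i := fun i => by
      rw [← hcoeff ha₀ i, ← hc, hmul c x i hxm, hcoeff hx i, mul_one]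
    have := (e i₁).symm.trans ((hrng _ i₁ i₀).trans (e i₀))
    simp [hne] at this
  obtain ⟨r, hr⟩ := GorSocle.socle_dependent (GorSocle.mem_maximalIdeal_of_sq_le hle hxm hreg) hxm hreg
    a₀ a₁ (hsoc a₀ ha₀m) (hsoc a₁ ha₁m) ha₀x
  obtain ⟨c, hc⟩ := Ideal.mem_span_singleton'.mp hr
  by_contra hn2
  let i₂ : Fin n := ⟨2, by omega⟩
  have e : ∀ i, constantCoeff (ψ c i) =
      (Pi.single i₁ 1 : Fin n → k) i - constantCoeff (ψ r i) * (Pi.single i₀ 1 : Fin n → k) i := fun i => by
    have h := congrArg (fun t => coeff 1 (ψ t i)) hc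
    simp only [map_sub, Pi.sub_apply, hmul c x i hxm, hcoeff hx i, mul_one, hmul r a₀ i ha₀m,
      hcoeff ha₀ i, hcoeff ha₁ i] at h
    exact h
  have h20 : i₂ ≠ i₀ := by simp [i₀, i₂]
  have h21 : i₂ ≠ i₁ := by simp [i₁, i₂]
  have := (e i₂).symm.trans ((hrng _ i₂ i₁).trans (e i₁))
  simp [hne, h20, h21] at this

end Groth.Agent.S12217
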