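import Groth.Statements.S12218
import Groth.Agent.CurveGor.Multicross

set_option autoImplicit false
universe u
open Curves

namespace Groth.Agent.S12218

/-- Let k be a separably closed field and A a one-dimensional reduced Nagata local k-algebra with
residue field k, having n branches (n a natural number). If the δ-invariant of A equals n − 1, then
the completion of A with respect to its maximal ideal is the multicross ring with n branches: there
is an injective ring map from the completion to (k[[t]])^n, compatible with the structure maps from
k, whose range is the subring of n-tuples of power series with a common constant term. (The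
inequality δ ≥ n − 1 itself is the companion statement on geometric branches.) -/
theorem result (k : Type u) [Field k] [IsSepClosed k]
    (A : Type u) [CommRing A] [IsLocalRing A] [Algebra k A] [IsReduced A]
    (hdim : ringKrullDim A = 1) (hN : CAlg.IsNagata A)
    (hres : Function.Bijective (algebraMap k (IsLocalRing.ResidueField A)))
    (n : ℕ) (hn : Brnch.numBranches A = n) (hδ : Curv2.deltaInv A + 1 = n) :
    ∃ φ : AdicCompletion (IsLocalRing.maximalIdeal A) A →+* (Fin n → PowerSeries k),
      Function.Injective φ ∧
      (∀ c : k, φ (algebraMap A (AdicCompletion (IsLocalRing.maximalIdeal A) A) (algebraMap k A c)) =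
        fun _ => algebraMap k (PowerSeries k) c) ∧
      Set.range φ = {f : Fin n → PowerSeries k | ∀ i j : Fin n, PowerSeries.constantCoeff (f i) = PowerSeries.constantCoeff (f j)} := by
  haveI := hN.1
  exact Groth.Agent.CurveGor.Multi.exists_multicross (k := k)
    (Groth.Agent.RedNorm.finite_norm A fun p => hN.2 p.1 (FractionRing (A ⧸ p.1)) inferInstance) hdim
    (fun z => hres.2 z) hn hδ


end Groth.Agent.S12218
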