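import Groth.Statements.S1224
import Mathlib.RingTheory.Ideal.GoingUp
import Mathlib.RingTheory.IsTensorProduct
import Mathlib.RingTheory.Ideal.AssociatedPrime.Basic
import Mathlib.RingTheory.LocalRing.ResidueField.Ideal

set_option autoImplicit false
universe u
open FlatMor

namespace Groth.Agent.S1224

attribute [local instance] Algebra.TensorProduct.rightAlgebra

open TensorProduct in
theorem fiber_annihilated {A' B' : Type u} [CommRing A'] [CommRing B'] [Algebra A' B']
    (t : Ideal A') [t.IsPrime] (N' : Type u) [AddCommGroup N'] [Module B' N'] [Module A' N']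
    [IsScalarTower A' B' N'] (j : B') (hj : ∀ n : N', j • n = 0) :
    (Algebra.TensorProduct.includeRight (R := A') (A := t.ResidueField) (B := B')) j ∈
      (⊤ : Submodule (t.Fiber B') (FlatCA.fiberMod t B' N')).annihilator := by
  refine Submodule.mem_annihilator.mpr fun z hz => ?_
  clear hz
  change (t.Fiber B') ⊗[B'] N' at z
  show (_ : t.Fiber B') • (z : (t.Fiber B') ⊗[B'] N') = 0
  induction z with
  | zero => exact smul_zero _
  | add a b ha hb => rw [smul_add, ha, hb, add_zero]
  | tmul x n =>
    rw [TensorProduct.smul_tmul', smul_eq_mul,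
      show (Algebra.TensorProduct.includeRight (R := A') (A := t.ResidueField) (B := B')) j * x = j • x
        from (Algebra.smul_def (R := B') (A := t.Fiber B') j x).symm,
      TensorProduct.smul_tmul, hj, TensorProduct.tmul_zero]



/-- Ring form, X = Spec B affine, where proper support means finite support: let B be a finite type
A-algebra and N a finite B-module such that B modulo the annihilator of N is finite over A. Then N
is universally pure relative to Spec A. -/
theorem result {A B : Type u} [CommRing A] [CommRing B] [Algebra A B] [Algebra.FiniteType A B]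
    (N : Type u) [AddCommGroup N] [Module B N] [Module A N] [IsScalarTower A B N] [Module.Finite B N]
    [Module.Finite A (B ⧸ Module.annihilator B N)] : FlatCA.IsUnivPure A B N := by
  intro p _
  intro A' B' N' _ _ _ _ _ _ _ _ _ _ _ _ _ _ f t' t _ _ P _ himp
  obtain ⟨hpush, hbc, htt, -, hP, hass, hno⟩ := himp
  let J : Ideal B' := (Module.annihilator B N).map (algebraMap B B')
  have hJN : ∀ j ∈ J, ∀ n : N', j • n = 0 := by
    suffices J ≤ Module.annihilator B' N' from
      fun j hj => Module.mem_annihilator.mp (this hj)
    refine Ideal.map_le_iff_le_comap.mpr fun b hb => Ideal.mem_comap.mpr ?_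
    refine Module.mem_annihilator.mpr fun n => ?_
    refine hbc.inductionOn n (motive := fun n => algebraMap B B' b • n = 0) ?_ ?_ ?_ ?_
    · exact smul_zero _
    · intro m
      rw [algebraMap_smul, ← map_smul, Module.mem_annihilator.mp hb, map_zero]
    · intro s n hn
      rw [smul_comm, hn, smul_zero]
    · intro a c ha hc
      rw [smul_add, ha, hc, add_zero]
  haveI hQp : (FlatCA.fiberIdeal t' P).IsPrime := hass.1
  let ι : B' →+* t'.Fiber B' :=
    (Algebra.TensorProduct.includeRight (R := A') (A := t'.ResidueField) (B := B')).toRingHom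
  let Q : Ideal B' := (FlatCA.fiberIdeal t' P).comap ι
  have hPQ : P ≤ Q := Ideal.le_comap_map
  have hJQ : J ≤ Q := fun j hj => IsAssociatedPrime.annihilator_le hass
    (fiber_annihilated t' N' j (hJN j hj))
  have hQt : Q.comap (algebraMap A' B') = t' := by
    have e : ι.comp (algebraMap A' B') = (algebraMap t'.ResidueField (t'.Fiber B')).comp
        (algebraMap A' t'.ResidueField) := by
      ext a
      show (Algebra.TensorProduct.includeRight (R := A') (A := t'.ResidueField) (B := B'))
        (algebraMap A' B' a) = _
      rw [AlgHom.commutes]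
      rfl
    show ((FlatCA.fiberIdeal t' P).comap ι).comap (algebraMap A' B') = t'
    rw [Ideal.comap_comap, e, ← Ideal.comap_comap,
      Ideal.eq_bot_of_prime ((FlatCA.fiberIdeal t' P).comap (algebraMap t'.ResidueField _)),
      ← RingHom.ker_eq_comap_bot, Ideal.ker_algebraMap_residueField]
  haveI : Module.Finite A' (B' ⧸ J) := by
    obtain ⟨s, hs⟩ := (‹Module.Finite A (B ⧸ Module.annihilator B N)›).fg_top
    let φ : (B ⧸ Module.annihilator B N) →ₗ[A] B' ⧸ J :=
      (Ideal.quotientMapₐ J (IsScalarTower.toAlgHom A B B') Ideal.le_comap_map).toLinearMap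
    classical
    refine ⟨⟨s.image φ, top_le_iff.mp fun z _ => ?_⟩⟩
    obtain ⟨z, rfl⟩ := Ideal.Quotient.mk_surjective z
    refine hpush.symm.out.inductionOn z
      (motive := fun z => Ideal.Quotient.mk J z ∈ Submodule.span A' (↑(s.image φ) : Set (B' ⧸ J))) ?_ ?_ ?_ ?_
    · rw [map_zero]; exact zero_mem _
    · intro b
      have h1 : φ (Ideal.Quotient.mk _ b) ∈ Submodule.span A (φ '' (s : Set _)) := by
        rw [← Submodule.map_span, hs]
        exact ⟨_, trivial, rfl⟩
      rw [Finset.coe_image]
      exact Submodule.span_le_restrictScalars A A' _ h1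
    · intro a n hn
      rw [show Ideal.Quotient.mk J (a • n) = a • Ideal.Quotient.mk J n from rfl]
      exact Submodule.smul_mem _ _ hn
    · intro a b ha hb
      rw [map_add]; exact add_mem ha hb
  haveI hQprime : Q.IsPrime := inferInstance
  haveI : (Q.map (Ideal.Quotient.mk J)).IsPrime :=
    Ideal.map_isPrime_of_surjective Ideal.Quotient.mk_surjective (by rwa [Ideal.mk_ker])
  obtain ⟨Q', hQ', hQ'p, hQ't⟩ := Ideal.exists_ideal_over_prime_of_isIntegral_of_isPrime
    (R := A') (S := B' ⧸ J) t (Q.map (Ideal.Quotient.mk J)) (by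
      rw [show algebraMap A' (B' ⧸ J) = (Ideal.Quotient.mk J).comp (algebraMap A' B') from rfl,
        ← Ideal.comap_comap, Ideal.comap_map_of_surjective _ Ideal.Quotient.mk_surjective,
        ← RingHom.ker_eq_comap_bot, Ideal.mk_ker, sup_eq_left.mpr hJQ, hQt]
      exact htt)
  haveI : (Q'.comap (Ideal.Quotient.mk J)).IsPrime := Ideal.comap_isPrime _ Q'
  refine hno (Q'.comap (Ideal.Quotient.mk J)) (hPQ.trans (Ideal.map_le_iff_le_comap.mp hQ')) ⟨?_⟩
  rw [Ideal.under_def, Ideal.comap_comap]
  exact hQ't.symm

end Groth.Agent.S1224
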