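import Groth.Statements.S1222
import Groth.Agent.RG.QuasiFinitePure
import Groth.Agent.S1224
-- import your own Groth.Agent.* helpers here

set_option autoImplicit false
universe u
open FlatMor

namespace Groth.Agent.S1222

/-- Ring form, X = Spec B affine hence separated over Spec A: let B be a finite type A-algebra and N a
finite B-module such that for every prime p of A the fibre module of N over p has finite support.
Then the following are equivalent: N is pure relative to Spec A; the scheme-theoretic support of N,
namely B modulo the annihilator of N, is finite over A; N is universally pure relative to Spec A. -/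
theorem result {A B : Type u} [CommRing A] [CommRing B] [Algebra A B] [Algebra.FiniteType A B]
    (N : Type u) [AddCommGroup N] [Module B N] [Module A N] [IsScalarTower A B N] [Module.Finite B N]
    (hfin : ∀ (p : Ideal A) [p.IsPrime], (Module.support (p.Fiber B) (FlatCA.fiberMod p B N)).Finite) :
    [FlatCA.IsPure A B N, Module.Finite A (B ⧸ Module.annihilator B N), FlatCA.IsUnivPure A B N].TFAE := by
  tfae_have 1 → 2 := RG.finite_support_of_pure N hfin
  tfae_have 2 → 3 := fun h => by
    haveI := h
    exact S1224.result N
  tfae_have 3 → 1 := fun h p _ A' B' N' _ _ _ _ _ _ _ _ _ _ _ _ _ _ f t' t _ _ P _ _ =>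
    h p A' B' N' f t' t P
  tfae_finish

end Groth.Agent.S1222
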