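import Groth.Statements.S12221
import Groth.Agent.Algz7.Canon2.FlatMain
-- import your own Groth.Agent.* helpers here

set_option autoImplicit false
universe u
open CategoryTheory AlgebraicGeometry Opposite
open Algz

namespace Groth.Agent.S12221

/-- Let A be a Noetherian ring, I ⊆ 𝔞 ideals, U the complement of V(𝔞) in Spec A and (F_n) an object of
Coh(U, IO_U), indexed here from 0. Assume that for some Noetherian local ring R with maximal ideal 𝔪
and some ring map φ : R → A we have (1) I = 𝔪A, (2) for every point y of U lying in V(I) the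
completed stalk F_y^∧ is flat as an R-module (through R → A → O_{U,y} → O_{U,y}^∧), and (3) the
cohomology groups H^0(U, F_0), H^1(U, F_0) are finitely generated over A. Then (F_n) has a canonical
extension to Spec A. -/
theorem result (A : Type u) [CommRing A] [IsNoetherianRing A] (I 𝔞 : Ideal A) (hI𝔞 : I ≤ 𝔞)
    (G : ℕᵒᵖ ⥤ (↑(LocCoh.puncturedOpen A 𝔞) : Scheme.{u}).Modules) (hG : Formal.IsCohFormal I G)
    (R : Type u) [CommRing R] [IsNoetherianRing R] [IsLocalRing R] (φ : R →+* A)
    (h1 : I = Ideal.map φ (IsLocalRing.maximalIdeal R))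
    (h2 : ∀ (y : (↑(LocCoh.puncturedOpen A 𝔞) : Scheme.{u})), (LocCoh.puncturedOpen A 𝔞).ι.base y ∈ PrimeSpectrum.zeroLocus (R := A) I →
      letI : Module R ↥(Algz.hatStalk I G y) := Module.compHom ↥(Algz.hatStalk I G y)
        ((algebraMap ((↑(LocCoh.puncturedOpen A 𝔞) : Scheme.{u}).presheaf.stalk y) (Algz.hatRing I y)).comp ((Algz.toStalk A (↑(LocCoh.puncturedOpen A 𝔞) : Scheme.{u}) y).comp φ));
      Module.Flat R ↥(Algz.hatStalk I G y))
    (h3 : Module.Finite A (Coh.HH (↑(LocCoh.puncturedOpen A 𝔞) : Scheme.{u}) (G.obj (op 0)) 0) ∧ Module.Finite A (Coh.HH (↑(LocCoh.puncturedOpen A 𝔞) : Scheme.{u}) (G.obj (op 0)) 1)) :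
    Algz.CanonicallyExtends A I (LocCoh.puncturedOpen A 𝔞) G := by
  exact Groth.Agent.Algz7.Canon2.canonicallyExtends_of_flat (LocCoh.puncturedOpen A 𝔞) I hG R φ h1 h2 h3.1 h3.2

end Groth.Agent.S12221
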