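import Groth.Statements.S12222
import Groth.Agent.Hensel.QuasiFiniteSplit
-- import your own Groth.Agent.* helpers here

set_option autoImplicit false
universe u
open Hensel

namespace Groth.Agent.S12222

/-- (11) ⇒ (1): let R be a local ring such that every finite-type R-algebra S can be written as a
product A × B with A finite over R and R → B quasi-finite at no prime lying over the maximal ideal —
concretely, S has an idempotent e with S/(1 − e) finite over R and R → S/(e) quasi-finite at no
prime over the maximal ideal. Then R is henselian. -/
theorem result (R : Type u) [CommRing R] [IsLocalRing R]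
    (h : ∀ (S : Type u) [CommRing S] [Algebra R S] [Algebra.FiniteType R S],
      ∃ e : S, IsIdempotentElem e ∧ Module.Finite R (S ⧸ Ideal.span ({1 - e} : Set S)) ∧
        ∀ (q : Ideal (S ⧸ Ideal.span ({e} : Set S))) [q.IsPrime],
          q.LiesOver (IsLocalRing.maximalIdeal R) → ¬ Algebra.QuasiFiniteAt R q) :
    HenselianLocalRing R := by
  exact Groth.Agent.Hensel.henselianLocalRing_of_split R h

end Groth.Agent.S12222
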