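import Groth.Statements.S12229
import Groth.Agent.TriCat.RPlus

set_option autoImplicit false
universe w w' v v' u u'
open CategoryTheory CategoryTheory.Limits
open CohDer

namespace Groth.Agent.S12229

/-- Let F : C → D be a left exact functor between abelian categories with C having enough injectives,
and let 0 → X₁ → X₂ → X₃ → 0 be a short exact sequence of bounded below complexes of C (maps f, g
with f a monomorphism, g an epimorphism and ker g = im f, degreewise). Then there is a long exact
cohomology sequence … → H^i(RF X₁) → H^i(RF X₂) → H^i(RF X₃) → H^{i+1}(RF X₁) → …: for every i the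
induced sequence is exact at H^i(RF X₂), and there is a connecting morphism H^i(RF X₃) → H^{i+1}(RF
X₁) with exactness at H^i(RF X₃) and at H^{i+1}(RF X₁). Here RF is the right derived functor on the
bounded below derived category and H^i is computed in D(D); exactness is expressed as equality of
kernel and image subobjects. Existence of such a connecting morphism only; the canonical one coming
from the distinguished triangle of the short exact sequence is not named. -/
theorem result {C : Type u} [Category.{v} C] [Abelian C] [HasDerivedCategory.{w} C]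
    [EnoughInjectives C] {D : Type u'} [Category.{v'} D] [Abelian D] [HasDerivedCategory.{w'} D]
    (F : C ⥤ D) [F.Additive] [PreservesFiniteLimits F]
    {X₁ X₂ X₃ : CochainComplex.Plus C} (f : X₁ ⟶ X₂) (g : X₂ ⟶ X₃)
    (hf : Mono ((CochainComplex.Plus.ι C).map f)) (hg : Epi ((CochainComplex.Plus.ι C).map g))
    (hex : kernelSubobject ((CochainComplex.Plus.ι C).map g) = imageSubobject ((CochainComplex.Plus.ι C).map f))
    (i : ℤ) :
    let Φ := HomotopyCategory.Plus.quotient C ⋙ DerivedCategory.Plus.Qh ⋙ F.rightDerivedFunctorPlus ⋙
      DerivedCategory.Plus.ι ⋙ DerivedCategory.homologyFunctor D i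
    let Ψ := HomotopyCategory.Plus.quotient C ⋙ DerivedCategory.Plus.Qh ⋙ F.rightDerivedFunctorPlus ⋙
      DerivedCategory.Plus.ι ⋙ DerivedCategory.homologyFunctor D (i + 1)
    kernelSubobject (Φ.map g) = imageSubobject (Φ.map f) ∧
      ∃ δ : Φ.obj X₃ ⟶ Ψ.obj X₁,
        kernelSubobject δ = imageSubobject (Φ.map g) ∧ kernelSubobject (Ψ.map f) = imageSubobject δ := by
  intro Φ Ψ
  have w : f.hom ≫ g.hom = 0 := by
    have h1 : (imageSubobject ((CochainComplex.Plus.ι C).map f)).Factors
        ((CochainComplex.Plus.ι C).map f) :=
      (Subobject.factors_iff _ _).2 ⟨factorThruImageSubobject _, imageSubobject_arrow_comp _⟩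
    rw [← hex] at h1
    have h2 : (kernelSubobject ((CochainComplex.Plus.ι C).map g)).factorThru _ h1 ≫
        (kernelSubobject ((CochainComplex.Plus.ι C).map g)).arrow ≫
          (CochainComplex.Plus.ι C).map g = 0 := by
      rw [kernelSubobject_arrow_comp, comp_zero]
    rw [Subobject.factorThru_arrow_assoc] at h2
    exact h2
  have hS : (ShortComplex.mk f.hom g.hom w).ShortExact :=
    { exact := (ShortComplex.exact_iff_image_eq_kernel _).2 hex.symm
      mono_f := hf
      epi_g := hg }
  obtain ⟨δ, w₁, w₂, w₃, h₁, h₂, h₃⟩ :=
    Groth.Agent.TriCat.exists_rightDerived_les C F f g w hS i (i + 1) rfl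
  exact ⟨((ShortComplex.exact_iff_image_eq_kernel _).1 h₁).symm, δ,
    ((ShortComplex.exact_iff_image_eq_kernel _).1 h₂).symm,
    ((ShortComplex.exact_iff_image_eq_kernel _).1 h₃).symm⟩

end Groth.Agent.S12229
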