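import Mathlib
import Groth.Agent.W4Lib.Flat
import Groth.Agent.S0391
import Groth.Statements.S12233
-- import your own Groth.Agent.* helpers here

set_option autoImplicit false
universe u
open scoped TensorProduct
open CAlg

noncomputable section

namespace Groth.Agent.S12233

section helpers

open TensorProduct

variable {R R' : Type u} [CommRing R] [CommRing R'] [Algebra R R'] (I : Ideal R)

/-- multiplication `I' ⊗ Y → Y` -/
def mu (J : Ideal R') (Y : Type u) [AddCommGroup Y] [Module R' Y] : ↥J ⊗[R'] Y →ₗ[R'] Y :=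
  (TensorProduct.lid R' Y).toLinearMap ∘ₗ (Submodule.subtype J).rTensor Y

lemma mu_tmul (J : Ideal R') (Y : Type u) [AddCommGroup Y] [Module R' Y] (i : J) (y : Y) :
    mu J Y (i ⊗ₜ y) = (i : R') • y := rfl

lemma mu_natural (J : Ideal R') {Y Z : Type u} [AddCommGroup Y] [Module R' Y] [AddCommGroup Z] [Module R' Z]
    (h : Y →ₗ[R'] Z) (x : ↥J ⊗[R'] Y) : h (mu J Y x) = mu J Z (h.lTensor _ x) := by
  induction x using TensorProduct.induction_on with
  | zero => simp only [map_zero]
  | tmul i y => rw [mu_tmul, LinearMap.lTensor_tmul, mu_tmul, map_smul]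
  | add a b ha hb => simp only [map_add, ha, hb]

/-- the comparison map `I ⊗ M → I' ⊗ (R' ⊗ M)` -/
def Phi (M : Type u) [AddCommGroup M] [Module R M] :
    ↥I ⊗[R] M →ₗ[R] ↥(I.map (algebraMap R R')) ⊗[R'] (R' ⊗[R] M) :=
  TensorProduct.lift
    (((TensorProduct.mk R' ↥(I.map (algebraMap R R')) (R' ⊗[R] M)).restrictScalars₁₂ R R).compl₁₂
      (Algebra.idealMap R' I) (TensorProduct.mk R R' M 1))

lemma Phi_tmul (M : Type u) [AddCommGroup M] [Module R M] (i : I) (m : M) :
    Phi (R' := R') I M (i ⊗ₜ m) = Algebra.idealMap R' I i ⊗ₜ ((1 : R') ⊗ₜ m) := rfl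

lemma lTensor_Phi {P M : Type u} [AddCommGroup P] [Module R P] [AddCommGroup M] [Module R M]
    (h : P →ₗ[R] M) (w : ↥I ⊗[R] P) :
    (h.baseChange R').lTensor _ (Phi (R' := R') I P w) = Phi (R' := R') I M (h.lTensor _ w) := by
  induction w using TensorProduct.induction_on with
  | zero => simp only [map_zero]
  | tmul i p => rfl
  | add a b ha hb => simp only [map_add, ha, hb]

lemma mu_Phi (M : Type u) [AddCommGroup M] [Module R M] (w : ↥I ⊗[R] M) :
    mu (I.map (algebraMap R R')) (R' ⊗[R] M) (Phi (R' := R') I M w) =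
      (1 : R') ⊗ₜ (mu I M w) := by
  induction w using TensorProduct.induction_on with
  | zero => simp only [map_zero, TensorProduct.tmul_zero]
  | tmul i m =>
      rw [Phi_tmul, mu_tmul, mu_tmul]
      show algebraMap R R' (i : R) • ((1 : R') ⊗ₜ[R] m) = _
      rw [algebraMap_smul, TensorProduct.tmul_smul]
  | add a b ha hb => simp only [map_add, TensorProduct.tmul_add, ha, hb]

lemma mem_range_mu {Y : Type u} [AddCommGroup Y] [Module R' Y] (J : Ideal R') {y : Y}
    (hy : y ∈ J • (⊤ : Submodule R' Y)) : ∃ w, mu J Y w = y := by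
  induction hy using Submodule.smul_induction_on' with
  | smul i hi y _ => exact ⟨(⟨i, hi⟩ : J) ⊗ₜ y, rfl⟩
  | add a _ b _ ha hb =>
      obtain ⟨v, rfl⟩ := ha
      obtain ⟨w, rfl⟩ := hb
      exact ⟨v + w, map_add _ _ _⟩

variable {M : Type u} [AddCommGroup M] [Module R M]

lemma kernel_le' {P : Type u} [AddCommGroup P] [Module R P] [Module.Free R P] (π : P →ₗ[R] M)
    (hπ : Function.Surjective π) (hflat : Module.Flat (R ⧸ I) ((R ⧸ I) ⊗[R] M)) :
    ∀ (z : ↥(I.map (algebraMap R R')) ⊗[R'] (R' ⊗[R] M)),
      mu (I.map (algebraMap R R')) (R' ⊗[R] M) z = 0 →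
      z ∈ Submodule.span R' (Phi (R' := R') I M '' {x | mu I M x = 0}) := by
  set I' := I.map (algebraMap R R') with hI'
  intro z hz
  set N : Submodule R P := LinearMap.ker π with hN
  set IP : Submodule R P := I • ⊤ with hIP
  set N0 : Submodule R N := IP.comap N.subtype with hN0
  -- the reduced sequence over `R ⧸ I`
  let j : (N ⧸ N0) →ₗ[R] (P ⧸ IP) := Submodule.mapQ N0 IP N.subtype le_rfl
  have hj : Function.Injective j := by
    rw [← LinearMap.ker_eq_bot, Submodule.ker_mapQ, ← hN0, Submodule.mkQ_map_self]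
  let p : (P ⧸ IP) →ₗ[R] (M ⧸ (I • ⊤ : Submodule R M)) := Submodule.mapQ IP _ π (by
    rw [← Submodule.map_le_iff_le_comap, Submodule.map_smul'']
    exact Submodule.smul_mono le_rfl le_top)
  have hp : Function.Surjective p := fun y => by
    obtain ⟨m, rfl⟩ := Submodule.Quotient.mk_surjective _ y
    obtain ⟨x, rfl⟩ := hπ m
    exact ⟨Submodule.Quotient.mk x, rfl⟩
  have hex : Function.Exact j p := by
    intro y
    constructor
    · intro hy
      obtain ⟨x, rfl⟩ := Submodule.Quotient.mk_surjective _ y
      have h1 : π x ∈ (I • ⊤ : Submodule R M) := (Submodule.Quotient.mk_eq_zero _).mp hy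
      have h2 : π x ∈ Submodule.map π IP := by
        rw [hIP, Submodule.map_smul'', Submodule.map_top, LinearMap.range_eq_top.mpr hπ]
        exact h1
      obtain ⟨w, hw, hwx⟩ := h2
      refine ⟨Submodule.Quotient.mk ⟨x - w, by simp [hN, hwx]⟩, ?_⟩
      refine (Submodule.Quotient.eq IP).mpr ?_
      simpa using hw
    · rintro ⟨n, rfl⟩
      obtain ⟨n, rfl⟩ := Submodule.Quotient.mk_surjective _ n
      change Submodule.Quotient.mk (π n.1) = 0
      rw [show π n.1 = 0 from n.2]
      rfl
  have hann1 : Module.IsTorsionBySet R (N ⧸ N0) I := fun x a => by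
    obtain ⟨n, rfl⟩ := Submodule.Quotient.mk_surjective _ x
    rw [← Submodule.Quotient.mk_smul, Submodule.Quotient.mk_eq_zero]
    exact Submodule.smul_mem_smul a.2 Submodule.mem_top
  have hann2 : Module.IsTorsionBySet R (P ⧸ IP) I := fun x a => by
    obtain ⟨n, rfl⟩ := Submodule.Quotient.mk_surjective _ x
    rw [← Submodule.Quotient.mk_smul, Submodule.Quotient.mk_eq_zero]
    exact Submodule.smul_mem_smul a.2 Submodule.mem_top
  letI : Module (R ⧸ I) (N ⧸ N0) := hann1.module
  haveI : IsScalarTower R (R ⧸ I) (N ⧸ N0) := hann1.isScalarTower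
  letI : Module (R ⧸ I) (P ⧸ IP) := hann2.module
  haveI : IsScalarTower R (R ⧸ I) (P ⧸ IP) := hann2.isScalarTower
  have hsur : Function.Surjective (algebraMap R (R ⧸ I)) := Ideal.Quotient.mk_surjective
  let j' := j.extendScalarsOfSurjective hsur
  let e3 : (M ⧸ (I • ⊤ : Submodule R M)) ≃ₗ[R] (R ⧸ I) ⊗[R] M := (TensorProduct.quotTensorEquivQuotSMul M I).symm
  let p' : (P ⧸ IP) →ₗ[R ⧸ I] (R ⧸ I) ⊗[R] M := (e3.toLinearMap ∘ₗ p).extendScalarsOfSurjective hsur
  have hex' : Function.Exact j' p' := fun y => by
    refine (Iff.trans ?_ (hex y))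
    exact e3.map_eq_zero_iff
  letI : Algebra (R ⧸ I) (R' ⧸ I') :=
    (Ideal.quotientMap I' (algebraMap R R') Ideal.le_comap_map).toAlgebra
  haveI : IsScalarTower R (R ⧸ I) (R' ⧸ I') := IsScalarTower.of_algebraMap_eq fun _ => rfl
  have hinj := Groth.Agent.W4Lib.lTensor_injective_of_flat_quotient (f := j') (g := p') hj hex'
    (fun y => by obtain ⟨x, hx⟩ := (e3.surjective.comp hp) y; exact ⟨x, hx⟩) (R' ⧸ I')
  have hinjR : Function.Injective (j.lTensor (R' ⧸ I')) := by
    haveI : TensorProduct.CompatibleSMul R (R ⧸ I) (R' ⧸ I') (N ⧸ N0) := ⟨fun r m n => by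
      obtain ⟨r, rfl⟩ := Ideal.Quotient.mk_surjective r
      change (algebraMap R (R ⧸ I) r • m) ⊗ₜ[R] n = m ⊗ₜ[R] (algebraMap R (R ⧸ I) r • n)
      rw [algebraMap_smul, algebraMap_smul, TensorProduct.smul_tmul]⟩
    haveI : TensorProduct.CompatibleSMul R (R ⧸ I) (R' ⧸ I') (P ⧸ IP) := ⟨fun r m n => by
      obtain ⟨r, rfl⟩ := Ideal.Quotient.mk_surjective r
      change (algebraMap R (R ⧸ I) r • m) ⊗ₜ[R] n = m ⊗ₜ[R] (algebraMap R (R ⧸ I) r • n)
      rw [algebraMap_smul, algebraMap_smul, TensorProduct.smul_tmul]⟩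
    intro a b hab
    let c1 := TensorProduct.equivOfCompatibleSMul R (R ⧸ I) R (R' ⧸ I') (N ⧸ N0)
    let c2 := TensorProduct.equivOfCompatibleSMul R (R ⧸ I) R (R' ⧸ I') (P ⧸ IP)
    have hnat : ∀ t, c2 (j'.lTensor _ t) = j.lTensor _ (c1 t) := by
      intro t
      induction t using TensorProduct.induction_on with
      | zero => simp only [map_zero]
      | tmul x y => rfl
      | add u v hu hv => simp only [map_add, hu, hv]
    obtain ⟨a, rfl⟩ := c1.surjective a
    obtain ⟨b, rfl⟩ := c1.surjective b
    rw [← hnat, ← hnat] at hab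
    rw [hinj (c2.injective hab)]
  -- lift `z` to the free module
  obtain ⟨ζ, rfl⟩ := LinearMap.lTensor_surjective (↥I') (LinearMap.baseChange_surjective (A := R') hπ) z
  have hμinj : Function.Injective (mu I' (R' ⊗[R] P)) :=
    (TensorProduct.lid R' _).injective.comp
      (Module.Flat.rTensor_preserves_injective_linearMap _ I'.injective_subtype)
  have hπp : π.baseChange R' (mu I' _ ζ) = 0 := by rw [mu_natural]; exact hz
  have hexR : Function.Exact (N.subtype.lTensor R') (π.lTensor R') :=
    lTensor_exact R' (LinearMap.exact_subtype_ker_map π) hπ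
  obtain ⟨q, hq⟩ := (hexR _).mp hπp
  let mk' : R' →ₗ[R] R' ⧸ I' := (Ideal.Quotient.mkₐ R I').toLinearMap
  have hθP : TensorProduct.map mk' IP.mkQ (mu I' (R' ⊗[R] P) ζ) = 0 := by
    clear hπp hq hz
    induction ζ using TensorProduct.induction_on with
    | zero => simp only [map_zero]
    | tmul i y =>
        rw [mu_tmul]
        induction y using TensorProduct.induction_on with
        | zero => simp only [smul_zero, map_zero]
        | tmul r x =>
            rw [TensorProduct.smul_tmul', TensorProduct.map_tmul, smul_eq_mul]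
            rw [show mk' ((i : R') * r) = 0 from
              Ideal.Quotient.eq_zero_iff_mem.mpr (Ideal.mul_mem_right _ _ i.2), TensorProduct.zero_tmul]
        | add a b ha hb => simp only [smul_add, map_add, ha, hb, add_zero]
    | add a b ha hb => simp only [map_add, ha, hb, add_zero]
  have hθN : TensorProduct.map mk' N0.mkQ q = 0 := by
    refine hinjR ?_
    rw [map_zero, ← hθP, ← hq]
    clear hq
    induction q using TensorProduct.induction_on with
    | zero => simp only [map_zero]
    | tmul r n => rfl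
    | add a b ha hb => simp only [map_add, ha, hb]
  have hmem : q ∈ LinearMap.ker (TensorProduct.map mk' N0.mkQ) := hθN
  have hker : LinearMap.ker (TensorProduct.map mk' N0.mkQ) =
      LinearMap.range (N0.subtype.lTensor R') ⊔ LinearMap.range ((I'.restrictScalars R).subtype.rTensor N) :=
    TensorProduct.map_ker (f := (I'.restrictScalars R).subtype) (g := mk') (fun y => by
        rw [show mk' y = Ideal.Quotient.mk I' y from rfl, Ideal.Quotient.eq_zero_iff_mem]
        exact ⟨fun h => ⟨⟨y, h⟩, rfl⟩, fun ⟨x, hx⟩ => hx ▸ x.2⟩) Ideal.Quotient.mk_surjective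
      (LinearMap.exact_subtype_mkQ N0) N0.mkQ_surjective
  rw [hker, Submodule.mem_sup] at hmem
  obtain ⟨q2, ⟨t2, rfl⟩, q1, ⟨t1, rfl⟩, hsum⟩ := hmem
  set U := Submodule.span R' (Phi (R' := R') I M '' {x | mu I M x = 0})
  let Pred : R' ⊗[R] P → Prop := fun y => ∃ ζ', mu I' _ ζ' = y ∧ (π.baseChange R').lTensor _ ζ' ∈ U
  have hadd : ∀ y y', Pred y → Pred y' → Pred (y + y') := by
    rintro _ _ ⟨a, rfl, ha⟩ ⟨b, rfl, hb⟩
    exact ⟨a + b, map_add _ _ _, by rw [map_add]; exact add_mem ha hb⟩
  have hzero : Pred 0 := ⟨0, map_zero _, by rw [map_zero]; exact zero_mem _⟩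
  have h1 : Pred (N.subtype.lTensor R' ((I'.restrictScalars R).subtype.rTensor N t1)) := by
    clear hsum
    induction t1 using TensorProduct.induction_on with
    | zero => simp only [map_zero]; exact hzero
    | tmul i n =>
        refine ⟨(⟨i.1, i.2⟩ : I') ⊗ₜ[R'] ((1 : R') ⊗ₜ[R] (n : P)), ?_, ?_⟩
        · rw [mu_tmul, LinearMap.rTensor_tmul, LinearMap.lTensor_tmul, TensorProduct.smul_tmul',
            smul_eq_mul, mul_one]
          rfl
        · rw [LinearMap.lTensor_tmul, LinearMap.baseChange_tmul, show π n = 0 from n.2,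
            TensorProduct.tmul_zero, TensorProduct.tmul_zero]
          exact zero_mem _
    | add a b ha hb => simp only [map_add]; exact hadd _ _ ha hb
  have h2 : Pred (N.subtype.lTensor R' (N0.subtype.lTensor R' t2)) := by
    clear hsum
    induction t2 using TensorProduct.induction_on with
    | zero => simp only [map_zero]; exact hzero
    | tmul r v =>
        obtain ⟨w, hw⟩ := mem_range_mu (R' := R) I (show ((v : N) : P) ∈ IP from v.2)
        refine ⟨r • Phi (R' := R') I _ w, ?_, ?_⟩
        · rw [map_smul, mu_Phi, hw, TensorProduct.smul_tmul', smul_eq_mul, mul_one]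
          rfl
        · rw [map_smul, lTensor_Phi]
          refine Submodule.smul_mem _ r (Submodule.subset_span ⟨_, ?_, rfl⟩)
          change mu I M (π.lTensor _ w) = 0
          rw [← mu_natural (R' := R), hw]
          exact (v : N).2
    | add a b ha hb => simp only [map_add]; exact hadd _ _ ha hb
  have hPred : Pred (mu I' _ ζ) := by
    rw [← hq, ← hsum, map_add]
    exact hadd _ _ h2 h1
  obtain ⟨ζ', hζ', hζU⟩ := hPred
  rwa [hμinj hζ'] at hζU

lemma kernel_le (hflat : Module.Flat (R ⧸ I) ((R ⧸ I) ⊗[R] M))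
    (z : ↥(I.map (algebraMap R R')) ⊗[R'] (R' ⊗[R] M))
    (hz : mu (I.map (algebraMap R R')) (R' ⊗[R] M) z = 0) :
    z ∈ Submodule.span R' (Phi (R' := R') I M '' {x | mu I M x = 0}) :=
  kernel_le' I (Finsupp.linearCombination R (id : M → M)) (fun m => ⟨Finsupp.single m 1, by simp⟩) hflat z hz

lemma flat_transfer {A : Type u} [CommRing A] [Algebra R' A] {T : Type u} [CommRing T] [Algebra R' T]
    (W : Submonoid T) {X Y : Type u} [AddCommGroup X] [Module R' X] [Module T X] [IsScalarTower R' T X]
    [AddCommGroup Y] [Module R' Y] [Module T Y] [IsScalarTower R' T Y]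
    (g : X →ₗ[T] Y) [IsLocalizedModule W g] [Module.Flat A (A ⊗[R'] X)] :
    Module.Flat A (A ⊗[R'] Y) := by
  rw [Module.Flat.iff_rTensor_preserves_injective_linearMapₛ.{u, u, u}]
  intro N P _ _ _ _ f hf
  letI : Module R' N := Module.compHom N (algebraMap R' A)
  haveI : IsScalarTower R' A N := IsScalarTower.of_algebraMap_smul fun _ _ => rfl
  letI : Module R' P := Module.compHom P (algebraMap R' A)
  haveI : IsScalarTower R' A P := IsScalarTower.of_algebraMap_smul fun _ _ => rfl
  have nat : ∀ (Z : Type u) [AddCommGroup Z] [Module R' Z] (x : N ⊗[A] (A ⊗[R'] Z)),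
      TensorProduct.comm R' P Z (AlgebraTensorModule.cancelBaseChange R' A A P Z (f.rTensor _ x)) =
        (f.restrictScalars R').lTensor Z
          (TensorProduct.comm R' N Z (AlgebraTensorModule.cancelBaseChange R' A A N Z x)) := by
    intro Z _ _ x
    induction x using TensorProduct.induction_on with
    | zero => simp only [map_zero]
    | tmul n y =>
        induction y using TensorProduct.induction_on with
        | zero => simp only [TensorProduct.tmul_zero, map_zero]
        | tmul a z => simp
        | add a b ha hb => simp only [TensorProduct.tmul_add, map_add, ha, hb]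
    | add a b ha hb => simp only [map_add, ha, hb]
  have hX : Function.Injective ((f.restrictScalars R').lTensor X) := by
    intro a b hab
    let e := (AlgebraTensorModule.cancelBaseChange R' A A N X).toEquiv.trans (TensorProduct.comm R' N X).toEquiv
    obtain ⟨a, rfl⟩ := e.surjective a
    obtain ⟨b, rfl⟩ := e.surjective b
    simp only [e, Equiv.trans_apply, LinearEquiv.coe_toEquiv] at hab ⊢
    rw [← nat, ← nat] at hab
    rw [Module.Flat.rTensor_preserves_injective_linearMap f hf
      ((AlgebraTensorModule.cancelBaseChange R' A A P X).injective ((TensorProduct.comm R' P X).injective hab))]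
  have hY : Function.Injective ((f.restrictScalars R').lTensor Y) := by
    have h := IsLocalizedModule.map_injective W (AlgebraTensorModule.rTensor R' N g)
      (AlgebraTensorModule.rTensor R' P g) (AlgebraTensorModule.lTensor T X (f.restrictScalars R')) hX
    rw [IsLocalizedModule.map_lTensor] at h
    exact h
  intro a b hab
  refine (AlgebraTensorModule.cancelBaseChange R' A A N Y).injective
    ((TensorProduct.comm R' N Y).injective (hY ?_))
  rw [← nat, ← nat, hab]

end helpers

/-- Let R → S, R → R', S → S' and R' → S' be local homomorphisms of Noetherian local rings forming a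
commutative square, I ⊊ R an ideal, M a finite S-module, I' = IR' and M' = M ⊗_S S' (given through a
base-change map f : M → M'). Assume (1) S' is a localization of S ⊗_R R' via the induced map, (2)
M/IM is flat over R/I, and (3) the map Tor_1^R(M, R/I) → Tor_1^{R'}(M', R'/I') is zero — with
Tor_1(−, R/I) computed as the kernel of I ⊗_R M → M, this says that every element of that kernel
goes to zero under the natural map I ⊗_R M → I' ⊗_{R'} M'. Then M' is flat over R'. -/
theorem result
    (R S R' S' : Type u) [CommRing R] [CommRing S] [CommRing R'] [CommRing S']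
    [IsLocalRing R] [IsLocalRing S] [IsLocalRing R'] [IsLocalRing S']
    [IsNoetherianRing R] [IsNoetherianRing S] [IsNoetherianRing R'] [IsNoetherianRing S']
    [Algebra R S] [Algebra R R'] [Algebra S S'] [Algebra R' S'] [Algebra R S']
    [IsScalarTower R S S'] [IsScalarTower R R' S']
    [IsLocalHom (algebraMap R S)] [IsLocalHom (algebraMap R R')] [IsLocalHom (algebraMap S S')]
    [IsLocalHom (algebraMap R' S')]
    (I : Ideal R) (hI : I ≠ ⊤) (M : Type u) [AddCommGroup M] [Module S M] [Module R M] [IsScalarTower R S M]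
    [Module.Finite S M]
    (M' : Type u) [AddCommGroup M'] [Module S' M'] [Module R' M'] [IsScalarTower R' S' M']
    [Module S M'] [IsScalarTower S S' M'] [Module R M'] [IsScalarTower R R' M'] [IsScalarTower R S M']
    (f : M →ₗ[S] M') (hf : IsBaseChange S' f)
    (h1 : ∃ W : Submonoid (S ⊗[R] R'),
      letI : Algebra (S ⊗[R] R') S' :=
        (Algebra.TensorProduct.lift (IsScalarTower.toAlgHom R S S') (IsScalarTower.toAlgHom R R' S')
          (fun s r => Commute.all _ _)).toRingHom.toAlgebra;
      IsLocalization W S')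
    (h2 : Module.Flat (R ⧸ I) ((R ⧸ I) ⊗[R] M))
    (h3 : ∀ x : ↥I ⊗[R] M, (Submodule.subtype I).rTensor M x = 0 →
      (TensorProduct.mapOfCompatibleSMul R' R R ↥(I.map (algebraMap R R')) M')
        ((TensorProduct.map (Algebra.idealMap R' I) (f.restrictScalars R)) x) = 0) :
    Module.Flat R' M' := by
  obtain ⟨W, hW⟩ := h1
  set I' := I.map (algebraMap R R') with hI'
  haveI : Module.Finite S' M' := Module.Finite.equiv hf.equiv
  let φ : (S ⊗[R] R') →ₐ[R] S' := Algebra.TensorProduct.lift (IsScalarTower.toAlgHom R S S')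
    (IsScalarTower.toAlgHom R R' S') (fun s r => Commute.all _ _)
  letI algTS' : Algebra (S ⊗[R] R') S' := φ.toRingHom.toAlgebra
  haveI : IsLocalization W S' := hW
  letI : Algebra R' (S ⊗[R] R') := Algebra.TensorProduct.rightAlgebra
  letI modTM' : Module (S ⊗[R] R') M' := Module.compHom M' (algebraMap (S ⊗[R] R') S')
  haveI : IsScalarTower (S ⊗[R] R') S' M' := IsScalarTower.of_algebraMap_smul fun _ _ => rfl
  haveI : IsScalarTower R' (S ⊗[R] R') M' := IsScalarTower.of_algebraMap_smul fun r x => by
    change φ ((1 : S) ⊗ₜ r) • x = r • x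
    rw [Algebra.TensorProduct.lift_tmul, map_one, one_mul]
    exact algebraMap_smul S' r x
  haveI : IsScalarTower S (S ⊗[R] R') S' := IsScalarTower.of_algebraMap_eq fun s => by
    change _ = φ (s ⊗ₜ (1 : R'))
    rw [Algebra.TensorProduct.lift_tmul, map_one, mul_one]
    rfl
  haveI : IsScalarTower S (S ⊗[R] R') M' := IsScalarTower.of_algebraMap_smul fun s x => by
    change φ (s ⊗ₜ (1 : R')) • x = s • x
    rw [Algebra.TensorProduct.lift_tmul, map_one, mul_one]
    exact algebraMap_smul S' s x
  -- the module `R' ⊗ M` over `S ⊗ R'`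
  let ρS : S →ₐ[R] Module.End R (R' ⊗[R] M) :=
    (Module.End.lTensorAlgHom R M R').comp (Algebra.lsmul R R M)
  let ρR : R' →ₐ[R] Module.End R (R' ⊗[R] M) := Algebra.lsmul R R (R' ⊗[R] M)
  let ρ : (S ⊗[R] R') →ₐ[R] Module.End R (R' ⊗[R] M) := Algebra.TensorProduct.lift ρS ρR (fun s r => by
    refine LinearMap.ext fun y => ?_
    change (Algebra.lsmul R R M s).lTensor R' (r • y) = r • (Algebra.lsmul R R M s).lTensor R' y
    induction y using TensorProduct.induction_on with
    | zero => simp
    | tmul a m => simp [TensorProduct.smul_tmul']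
    | add a b ha hb => simp [smul_add, ha, hb])
  letI modTX : Module (S ⊗[R] R') (R' ⊗[R] M) := Module.compHom _ ρ.toRingHom
  letI modSX : Module S (R' ⊗[R] M) := Module.compHom _ (algebraMap S (S ⊗[R] R'))
  haveI : IsScalarTower S (S ⊗[R] R') (R' ⊗[R] M) := IsScalarTower.of_algebraMap_smul fun _ _ => rfl
  have hρ : ∀ (s : S) (r a : R') (m : M),
      (s ⊗ₜ[R] r : S ⊗[R] R') • (a ⊗ₜ[R] m : R' ⊗[R] M) = (r * a) ⊗ₜ[R] (s • m) := by
    intro s r a m
    change ρ (s ⊗ₜ r) (a ⊗ₜ m) = _
    rw [show ρ (s ⊗ₜ r) = ρS s * ρR r from Algebra.TensorProduct.lift_tmul ..]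
    rfl
  have hρR : ∀ (r : R') (y : R' ⊗[R] M), ((1 : S) ⊗ₜ[R] r : S ⊗[R] R') • y = r • y := by
    intro r y
    induction y using TensorProduct.induction_on with
    | zero => rw [smul_zero, smul_zero]
    | tmul a m => rw [hρ, one_smul, TensorProduct.smul_tmul', smul_eq_mul]
    | add a b ha hb => rw [smul_add, smul_add, ha, hb]
  haveI : IsScalarTower R' (S ⊗[R] R') (R' ⊗[R] M) :=
    IsScalarTower.of_algebraMap_smul fun r x => hρR r x
  let ι : M →ₗ[S] R' ⊗[R] M :=
    { toFun := fun m => (1 : R') ⊗ₜ m
      map_add' := fun a b => TensorProduct.tmul_add _ _ _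
      map_smul' := fun s m => by
        change _ = (s ⊗ₜ[R] (1 : R') : S ⊗[R] R') • ((1 : R') ⊗ₜ[R] m : R' ⊗[R] M)
        rw [hρ, mul_one] }
  have hι : IsBaseChange (S ⊗[R] R') ι := by
    let e := LinearMap.liftBaseChange (S ⊗[R] R') ι
    let back : R' ⊗[R] M →ₗ[R] (S ⊗[R] R') ⊗[S] M :=
      TensorProduct.lift (LinearMap.mk₂ R (fun (r : R') (m : M) => ((1 : S) ⊗ₜ[R] r : S ⊗[R] R') ⊗ₜ[S] m)
        (fun a b m => by rw [TensorProduct.tmul_add, TensorProduct.add_tmul])
        (fun c a m => by rw [TensorProduct.tmul_smul, ← TensorProduct.smul_tmul'])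
        (fun a m n => TensorProduct.tmul_add _ _ _)
        (fun c a m => TensorProduct.tmul_smul c _ _))
    have hl : ∀ z, back (e z) = z := by
      intro z
      induction z using TensorProduct.induction_on with
      | zero => simp only [map_zero]
      | tmul t m =>
          induction t using TensorProduct.induction_on with
          | zero => simp only [TensorProduct.zero_tmul, map_zero]
          | tmul s r =>
              change back ((s ⊗ₜ[R] r : S ⊗[R] R') • ((1 : R') ⊗ₜ[R] m : R' ⊗[R] M)) = _
              rw [hρ, mul_one]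
              change ((1 : S) ⊗ₜ[R] r : S ⊗[R] R') ⊗ₜ[S] (s • m) = _
              rw [← TensorProduct.smul_tmul, TensorProduct.smul_tmul', smul_eq_mul, mul_one]
          | add a b ha hb => simp only [TensorProduct.add_tmul, map_add, ha, hb]
      | add a b ha hb => simp only [map_add, ha, hb]
    have hsur : Function.Surjective e := by
      intro y
      induction y using TensorProduct.induction_on with
      | zero => exact ⟨0, map_zero _⟩
      | tmul r m =>
          refine ⟨((1 : S) ⊗ₜ[R] r : S ⊗[R] R') ⊗ₜ[S] m, ?_⟩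
          change ((1 : S) ⊗ₜ[R] r : S ⊗[R] R') • ((1 : R') ⊗ₜ[R] m : R' ⊗[R] M) = _
          rw [hρ, one_smul, mul_one]
      | add a b ha hb =>
          obtain ⟨x, rfl⟩ := ha
          obtain ⟨y, rfl⟩ := hb
          exact ⟨x + y, map_add _ _ _⟩
    exact IsBaseChange.of_equiv (LinearEquiv.ofBijective e ⟨Function.LeftInverse.injective hl, hsur⟩)
      fun m => one_smul (S ⊗[R] R') (ι m)
  let g₀ : R' ⊗[R] M →ₗ[R'] M' := LinearMap.liftBaseChange R' (f.restrictScalars R)
  let g : R' ⊗[R] M →ₗ[S ⊗[R] R'] M' :=
    { toFun := g₀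
      map_add' := map_add g₀
      map_smul' := fun t y => by
        induction t using TensorProduct.induction_on with
        | zero => simp
        | tmul s r =>
            induction y using TensorProduct.induction_on with
            | zero => simp
            | tmul a m =>
                rw [hρ, RingHom.id_apply]
                change (r * a) • f (s • m) = φ (s ⊗ₜ r) • (a • f m)
                rw [Algebra.TensorProduct.lift_tmul, map_smul, ← algebraMap_smul S' (r * a),
                  ← algebraMap_smul S' a, ← algebraMap_smul S' s, smul_smul, smul_smul, map_mul]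
                congr 1
                simp only [IsScalarTower.coe_toAlgHom']
                ring
            | add a b ha hb => rw [smul_add, map_add, ha, hb, map_add, smul_add]
        | add a b ha hb => rw [add_smul, map_add, ha, hb, RingHom.id_apply, RingHom.id_apply,
            RingHom.id_apply, add_smul] }
  haveI hgloc : IsLocalizedModule W g := by
    rw [isLocalizedModule_iff_isBaseChange W S']
    refine IsBaseChange.of_comp hι (h := g) ?_
    convert hf
    exact LinearMap.ext fun m => one_smul R' (f m)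
  -- injectivity of `I' ⊗ M' → M'`
  have hinj : Function.Injective (LinearMap.rTensor M' (Submodule.subtype I')) := by
    rw [injective_iff_map_eq_zero]
    intro x hx
    let c : ↥I' ⊗[R'] (R' ⊗[R] M) ≃ₗ[R'] (R' ⊗[R] M) ⊗[R'] ↥I' := TensorProduct.comm _ _ _
    let c' : ↥I' ⊗[R'] M' ≃ₗ[R'] M' ⊗[R'] ↥I' := TensorProduct.comm _ _ _
    let G := TensorProduct.AlgebraTensorModule.rTensor R' (↥I') g
    have hG : ∀ y, G (c y) = c' (g₀.lTensor _ y) := by
      intro y
      induction y using TensorProduct.induction_on with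
      | zero => simp only [map_zero]
      | tmul i y => rfl
      | add a b ha hb => simp only [map_add, ha, hb]
    obtain ⟨⟨y, w⟩, hyw⟩ := IsLocalizedModule.surj W G (c' x)
    obtain ⟨y, rfl⟩ := c.surjective y
    rw [hG] at hyw
    -- transport the scalar `w`
    have hmw : ∀ (t : S ⊗[R] R') (z : ↥I' ⊗[R'] M'), mu I' M' (c'.symm (t • c' z)) = t • mu I' M' z := by
      intro t z
      induction z using TensorProduct.induction_on with
      | zero => simp only [map_zero, smul_zero]
      | tmul i m =>
          change mu I' M' (c'.symm ((t • m) ⊗ₜ i)) = _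
          simp only [c', TensorProduct.comm_symm_tmul, mu_tmul]
          exact smul_comm _ _ _
      | add a b ha hb => simp only [map_add, smul_add, ha, hb]
    have hmw' : ∀ (t : S ⊗[R] R') (z : ↥I' ⊗[R'] (R' ⊗[R] M)),
        mu I' _ (c.symm (t • c z)) = t • mu I' _ z := by
      intro t z
      induction z using TensorProduct.induction_on with
      | zero => simp only [map_zero, smul_zero]
      | tmul i m =>
          change mu I' _ (c.symm ((t • m) ⊗ₜ i)) = _
          simp only [c, TensorProduct.comm_symm_tmul, mu_tmul]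
          exact smul_comm _ _ _
      | add a b ha hb => simp only [map_add, smul_add, ha, hb]
    have hμx : mu I' M' x = 0 := by
      rw [show mu I' M' x = TensorProduct.lid R' M' (LinearMap.rTensor M' (Submodule.subtype I') x) from rfl,
        hx, map_zero]
    have hgy : g (mu I' _ y) = 0 := by
      change g₀ (mu I' _ y) = 0
      rw [mu_natural, ← c'.symm_apply_apply (g₀.lTensor _ y), ← hyw, Submonoid.smul_def, hmw, hμx, smul_zero]
    obtain ⟨w', hw'⟩ := (IsLocalizedModule.eq_iff_exists W g).mp (hgy.trans (map_zero g).symm)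
    rw [smul_zero, Submonoid.smul_def, ← hmw'] at hw'
    -- the kernel dies in `I' ⊗ M'`
    have hkill : g₀.lTensor _ (c.symm ((w' : S ⊗[R] R') • c y)) = 0 := by
      have hle : Submodule.span R' (Phi (R' := R') I M '' {x | mu I M x = 0}) ≤
          LinearMap.ker (g₀.lTensor ↥I') := by
        rw [Submodule.span_le]
        rintro _ ⟨v, hv, rfl⟩
        change g₀.lTensor ↥I' (Phi (R' := R') I M v) = 0
        have hv' : (Submodule.subtype I).rTensor M v = 0 :=
          (TensorProduct.lid R M).injective (hv.trans (map_zero _).symm)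
        rw [← h3 v hv']
        clear hv hv'
        induction v using TensorProduct.induction_on with
        | zero => simp only [map_zero]
        | tmul i m =>
            rw [Phi_tmul, LinearMap.lTensor_tmul]
            change Algebra.idealMap R' I i ⊗ₜ[R'] ((1 : R') • f m) = _
            rw [one_smul]
            rfl
        | add a b ha hb => simp only [map_add, ha, hb]
      exact hle (kernel_le I h2 _ hw')
    have h0 : G ((w' : S ⊗[R] R') • c y) = 0 := by
      rw [← c.apply_symm_apply ((w' : S ⊗[R] R') • c y), hG, hkill, map_zero]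
    rw [map_smul, hG, ← hyw, Submonoid.smul_def, smul_smul] at h0
    refine c'.injective ?_
    rw [map_zero]
    refine (Module.End.isUnit_iff _).mp (IsLocalizedModule.map_units G (w' * w)) |>.1 ?_
    simpa [smul_smul, mul_comm] using h0
  -- flatness modulo `I'`
  haveI : Module.Flat (R ⧸ I) ((R ⧸ I) ⊗[R] M) := h2
  letI : Algebra (R ⧸ I) (R' ⧸ I') :=
    (Ideal.quotientMap I' (algebraMap R R') Ideal.le_comap_map).toAlgebra
  haveI : IsScalarTower R (R ⧸ I) (R' ⧸ I') := IsScalarTower.of_algebraMap_eq fun _ => rfl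
  haveI : Module.Flat (R' ⧸ I') ((R' ⧸ I') ⊗[R'] (R' ⊗[R] M)) :=
    Module.Flat.of_linearEquiv
      ((TensorProduct.AlgebraTensorModule.cancelBaseChange R R' (R' ⧸ I') (R' ⧸ I') M).trans
        (TensorProduct.AlgebraTensorModule.cancelBaseChange R (R ⧸ I) (R' ⧸ I') (R' ⧸ I') M).symm)
  haveI hflat' : Module.Flat (R' ⧸ I') ((R' ⧸ I') ⊗[R'] M') := flat_transfer (A := R' ⧸ I') W g
  refine Groth.Agent.S0391.result (R := R') (S := S') (M := M') I' ?_ hinj hflat'
  intro htop
  have hle : I' ≤ IsLocalRing.maximalIdeal R' :=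
    (Ideal.map_mono (IsLocalRing.le_maximalIdeal hI)).trans
      (((IsLocalRing.local_hom_TFAE (algebraMap R R')).out 0 2 :).mp ‹_›)
  exact (IsLocalRing.maximalIdeal.isMaximal R').ne_top (top_le_iff.mp (htop ▸ hle))

end Groth.Agent.S12233
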