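import Groth.Statements.S12235
import Groth.Agent.GeomField18.Dense
import Groth.Agent.GeomField.GlobalFunctions
import Groth.Agent.H23.CubeField
import Groth.Agent.NormCurve.Delta
import Groth.Agent.NagataLib.Scheme
import Groth.Agent.GrpSchLib.SmoothReduced
import Groth.Agent.H23.KunnethH1
-- import your own Groth.Agent.* helpers here

set_option autoImplicit false
universe u
set_option backward.isDefEq.respectTransparency false
set_option backward.isDefEq.respectTransparency.types false
set_option linter.style.haveILetI false
open CategoryTheory CategoryTheory.Limits AlgebraicGeometry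
open Curves

namespace Groth.Agent.S12235

/-- Let k be a field, X a proper geometrically irreducible curve over k (proper over k, integral, of
dimension one), K/k a field extension and Y_K the normalization of the reduction of X_K (that
reduction is integral). If Y_K is smooth over K then H^0(Y_K, O) = K: the global functions of Y_K
form a one-dimensional K-vector space. (Stated for proper X; the instance hypotheses on (X_K)_red
always hold.) -/
theorem result (k : Type u) [Field k] (X : Scheme.{u})
    [X.Over (Spec (CommRingCat.of k))] [IsIntegral X] [IsProper (X ↘ (Spec (CommRingCat.of k)))]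
    [GeometricallyIrreducible (X ↘ (Spec (CommRingCat.of k)))] (hdim : topologicalKrullDim X = 1)
    (K : Type u) [Field K] [Algebra k K] [IsIntegral ((Curv2.bc k X K).nilradical).subscheme]
    [QuasiCompact ((((Curv2.bc k X K).nilradical).subscheme).fromSpecStalk (genericPoint ((Curv2.bc k X K).nilradical).subscheme))]
    [QuasiSeparated ((((Curv2.bc k X K).nilradical).subscheme).fromSpecStalk (genericPoint ((Curv2.bc k X K).nilradical).subscheme))]
    (hsm : Smooth (Curv2.normalizationι ((Curv2.bc k X K).nilradical).subscheme ≫ ((Curv2.bc k X K).nilradical).subschemeι ≫ Curv2.bcSnd k X K)) :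
    letI : (Curv2.normalization ((Curv2.bc k X K).nilradical).subscheme).Over (Spec (CommRingCat.of K)) := ⟨(Curv2.normalizationι ((Curv2.bc k X K).nilradical).subscheme ≫ ((Curv2.bc k X K).nilradical).subschemeι ≫ Curv2.bcSnd k X K)⟩
    Module.finrank K (Coh.HH (Curv2.normalization ((Curv2.bc k X K).nilradical).subscheme) (Coh.structureModule (Curv2.normalization ((Curv2.bc k X K).nilradical).subscheme)) 0) = 1 := by
  let R := ((Curv2.bc k X K).nilradical).subscheme
  let i := ((Curv2.bc k X K).nilradical).subschemeι
  let Y := Curv2.normalization R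
  let ν : Y ⟶ R := Curv2.normalizationι R
  let p : Y ⟶ Spec (CommRingCat.of K) := ν ≫ i ≫ Curv2.bcSnd k X K
  letI : Y.Over (Spec (CommRingCat.of K)) := ⟨p⟩
  haveI : IsProper (Curv2.bcSnd k X K) :=
    inferInstanceAs (IsProper (pullback.snd (X ↘ (Spec (CommRingCat.of k))) _))
  haveI : GeometricallyIrreducible (Curv2.bcSnd k X K) :=
    inferInstanceAs (GeometricallyIrreducible (pullback.snd (X ↘ (Spec (CommRingCat.of k))) _))
  haveI : Surjective i := ⟨fun x => by
    have h : (Set.range i) = Set.univ := by
      rw [Scheme.IdealSheafData.range_subschemeι]; simp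
    exact h.ge trivial⟩
  letI : R.Over (Spec (CommRingCat.of K)) := ⟨i ≫ Curv2.bcSnd k X K⟩
  haveI : IsProper (i ≫ Curv2.bcSnd k X K) := inferInstance
  haveI : GeometricallyIrreducible (i ≫ Curv2.bcSnd k X K) :=
    Groth.Agent.GeomField18.geometricallyIrreducible_comp_closed i _
  have hN : ∀ U : R.affineOpens, CAlg.IsNagata Γ(R, (U : R.Opens)) := fun U =>
    Groth.Agent.NagataLib.isNagata_affineOpen (i ≫ Curv2.bcSnd k X K) U
  haveI : IsFinite ν := Groth.Agent.NormCurve.isFinite_normalizationι R hN
  haveI : IsProper p := inferInstance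
  obtain ⟨U, hU, hiso⟩ := Groth.Agent.NormCurve.exists_isIso R hN
  haveI : IsIso (ν ∣_ U) := hiso
  haveI : IsIntegral Y := inferInstanceAs (IsIntegral (R.fromSpecStalk (genericPoint R)).normalization)
  haveI : GeometricallyIrreducible p := by
    let V : Y.Opens := ν ⁻¹ᵁ U
    have hne : (V : Set Y).Nonempty := by
      obtain ⟨y, hy⟩ := Groth.Agent.NormCurve.genericPoint_mem_range R
      refine ⟨y, ?_⟩
      show ν y ∈ U
      rw [show ν y = genericPoint R from hy]
      obtain ⟨x, hx⟩ := hU.nonempty
      exact ((genericPoint_spec R).mem_open_set_iff U.isOpen).2 (by simpa using ⟨x, hx⟩)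
    haveI : Nonempty ↥(V.toScheme) := ⟨⟨_, hne.choose_spec⟩⟩
    refine Groth.Agent.GeomField18.geometricallyIrreducible_of_dense_open p V (V.isOpen.dense hne) ?_
    rw [show V.ι ≫ p = ((ν ∣_ U) ≫ U.ι) ≫ (i ≫ Curv2.bcSnd k X K) by
      rw [morphismRestrict_ι, Category.assoc]]
    exact Groth.Agent.GeomField18.geometricallyIrreducible_comp_open ((ν ∣_ U) ≫ U.ι) _
  haveI : Smooth p := hsm
  haveI : GeometricallyReduced (Over.mk p).hom := Groth.Agent.GrpSchLib.geometricallyReduced_of_smooth p
  haveI : IsProper (Over.mk p).hom := ‹IsProper p›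
  haveI : GeometricallyConnected (Over.mk p).hom := ⟨geometrically_iff_of_isClosedUnderIsomorphisms.mpr fun L _ x => by
    haveI : IrreducibleSpace ↥(pullback p x) :=
      pullback_of_geometrically (GeometricallyIrreducible.geometrically_irreducibleSpace (f := p)) L x
    exact inferInstanceAs (ConnectedSpace ↥(pullback p x))⟩
  have hb : Function.Bijective p.appTop :=
    Groth.Agent.H23.CubeField.bijective_appTop_of_connected (Over.mk p)
  letI : Algebra K Γ(Y, ⊤) := Groth.Agent.GeomField.globalAlgebra K Y
  have hbij : Function.Bijective (algebraMap K Γ(Y, ⊤)) :=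
    hb.comp (ConcreteCategory.bijective_of_isIso (Scheme.ΓSpecIso (CommRingCat.of K)).inv)
  exact (Groth.Agent.GeomField.finrank_HH_zero K Y).trans ((LinearEquiv.ofBijective (Algebra.linearMap K Γ(Y, ⊤)) hbij).finrank_eq.symm.trans (Module.finrank_self K))

end Groth.Agent.S12235
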