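import Groth.Statements.S12238
import Groth.Agent.BigSiteLib.FinitePushIso
-- import your own Groth.Agent.* helpers here

set_option autoImplicit false
open CategoryTheory CategoryTheory.Limits AlgebraicGeometry Opposite
universe u
open BigSite

namespace Groth.Agent.S12238

/-- Let f : T → S be a finite morphism of schemes and F an arbitrary abelian sheaf on the small étale
site of T. Then for every q the abelian sheaves π_S⁻¹(R^q f_small,* F) and R^q f_big,*(π_T⁻¹ F) on
the big étale site of S are isomorphic, where π⁻¹ denotes pullback from the small to the big étale
site. Existence of an isomorphism only; this is what the comparison π_S⁻¹ Rf_small,* K = Rf_big,*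
π_T⁻¹ K, valid for every complex K when f is finite, gives on cohomology sheaves for K = F placed in
degree 0. -/
theorem result {T S : Scheme.{u}} (f : T ⟶ S) [IsFinite f]
    (F : EtCoh.Ab T) (q : ℕ) :
    Nonempty ((BigSite.piEtPull Scheme.etalePrecoverage S).obj ((EtCoh.Rpush f q).obj F) ≅
      (BigSite.RpushBig Scheme.etalePrecoverage f q).obj ((BigSite.piEtPull Scheme.etalePrecoverage T).obj F)) := by
  exact Groth.Agent.BigSiteLib.piPull_Rpush_iso f F q

end Groth.Agent.S12238
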