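import Groth.Statements.S12240
import Groth.Agent.NormBCSmooth.Basic

set_option autoImplicit false
universe u
open CategoryTheory CategoryTheory.Limits AlgebraicGeometry
open Curves

namespace Groth.Agent.S12240
set_option linter.unusedVariables false


/-- Stated over the field where the nonsingular projective model is already smooth. Let K be a field and
X a proper geometrically irreducible curve over K (proper over K, integral, of dimension one) whose
normalization Y = X^ν is smooth over K. Then for every field extension Ω of K the base change Y_Ω,
together with its map to X_Ω, is the normalization of the reduction (X_Ω)_red: there is an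
isomorphism from Y_Ω to the normalization of (X_Ω)_red whose composite with the normalization map
and the closed immersion (X_Ω)_red → X_Ω is the base change Y_Ω → X_Ω of Y → X. (Applied to the
reduction of the base change of a geometrically irreducible proper curve to a field over which its
nonsingular projective model becomes smooth, this says that the smooth model is compatible with all
further field extensions; the instance hypotheses on (X_Ω)_red — integrality and the two conditions
needed to form the normalization — always hold.) -/
theorem result (K : Type u) [Field K] (X : Scheme.{u})
    [X.Over (Spec (CommRingCat.of K))] [IsIntegral X] [IsProper (X ↘ (Spec (CommRingCat.of K)))]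
    [GeometricallyIrreducible (X ↘ (Spec (CommRingCat.of K)))] (hdim : topologicalKrullDim X = 1)
    [QuasiCompact (X.fromSpecStalk (genericPoint X))] [QuasiSeparated (X.fromSpecStalk (genericPoint X))]
    (hsm : Smooth (Curv2.normalizationι X ≫ (X ↘ (Spec (CommRingCat.of K)))))
    (Ω : Type u) [Field Ω] [Algebra K Ω]
    [IsIntegral ((Curv2.bc K X Ω).nilradical).subscheme]
    [QuasiCompact ((((Curv2.bc K X Ω).nilradical).subscheme).fromSpecStalk (genericPoint ((Curv2.bc K X Ω).nilradical).subscheme))]
    [QuasiSeparated ((((Curv2.bc K X Ω).nilradical).subscheme).fromSpecStalk (genericPoint ((Curv2.bc K X Ω).nilradical).subscheme))] :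
    ∃ e : Limits.pullback (Curv2.normalizationι X ≫ (X ↘ (Spec (CommRingCat.of K))))
          (Spec.map (CommRingCat.ofHom (algebraMap K Ω))) ≅
        Curv2.normalization ((Curv2.bc K X Ω).nilradical).subscheme,
      e.hom ≫ Curv2.normalizationι ((Curv2.bc K X Ω).nilradical).subscheme ≫ ((Curv2.bc K X Ω).nilradical).subschemeι =
        Limits.pullback.map (Curv2.normalizationι X ≫ (X ↘ (Spec (CommRingCat.of K))))
          (Spec.map (CommRingCat.ofHom (algebraMap K Ω))) (X ↘ (Spec (CommRingCat.of K)))
          (Spec.map (CommRingCat.ofHom (algebraMap K Ω))) (Curv2.normalizationι X) (𝟙 _) (𝟙 _)
          (Category.comp_id _) ((Category.comp_id _).trans (Category.id_comp _).symm) := by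
  exact Groth.Agent.NormBCSmooth.exists_iso K X hsm Ω


end Groth.Agent.S12240
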