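import Groth.Statements.S12244
import Groth.Agent.RG.StepShrink
import Groth.Agent.RG.CompleteBC

set_option autoImplicit false
universe u
open FlatMor

namespace Groth.Agent.S12244

open TensorProduct in
/-- All schemes are affine. Let R → S be of finite type, N a finite S-module, p ⊆ R and q ⊆ S primes, 𝒟
a complete dévissage of N/S/R over p in the prelude's algebraic form and 𝒜 a datum making it a
complete dévissage at q (primes qB_i ⊆ B_i over p with purely transcendental residue fields, unique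
primes qA_i ⊆ A_i over them, threaded through q and through the maps B_i → A_{i+1}, relative
dimensions d_i of R → B_i equal to the local dimension of the fibre support of M_i at qB_i). Let R →
R' be a ring map and p' a prime over p with κ(p) → κ(p') bijective, S' the base change of S, N' = N
⊗_S S', and q' a prime of S' over q and over p'. Let 𝒟' be a complete dévissage of N'/S'/R' over p'
of the same length whose rings A'_i, B'_i (i below the length) are base changes of A_i, B_i along R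
→ R' compatibly with B_i → A_i, B_i → A_{i+1}, S → A_0 and S' → A'_0, and whose modules M'_i are
base changes of M_i along A_i → A'_i compatibly with N ≅ M_0 and N' ≅ M'_0. Assume moreover that at
every index at or beyond the length the ring B'_i has a prime over p' and A'_i a prime over that one
(the structure's families run over all natural numbers and constrain nothing at those indices, while
a datum at a point asks for such primes at every index; the condition touches only this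
unconstrained tail and holds, for instance, when the tail repeats the last genuine step — without it
the zero ring could sit there and no datum would exist). Then 𝒟' is a complete dévissage at q' with
the same relative dimensions: there is a datum 𝒜' for (𝒟', q') with d' = d whose primes qB'_i, qA'_i
lie over qB_i, qA_i for every step i below the length. -/
theorem result
    (R S : Type u) [CommRing R] [CommRing S] [Algebra R S] [Algebra.FiniteType R S]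
    (N : Type u) [AddCommGroup N] [Module S N] [Module.Finite S N]
    (p : Ideal R) [p.IsPrime] (q : Ideal S) [q.IsPrime] (𝒟 : FlatCA.CompleteDevissage R S N p)
    (𝒜 : FlatCA.CompleteDevissageAt R S N p q 𝒟)
    (R' : Type u) [CommRing R'] [Algebra R R'] (p' : Ideal R') [p'.IsPrime] [hp' : p'.LiesOver p]
    (hκ : Function.Bijective (Ideal.ResidueField.mapₐ p p' (Algebra.ofId R R') hp'.over))
    (S' : Type u) [CommRing S'] [Algebra R' S'] [Algebra R S'] [Algebra S S'] [IsScalarTower R R' S']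
    [IsScalarTower R S S'] [Algebra.IsPushout R R' S S']
    (N' : Type u) [AddCommGroup N'] [Module S' N'] [Module S N'] [IsScalarTower S S' N']
    (f : N →ₗ[S] N') (hf : IsBaseChange S' f)
    (q' : Ideal S') [q'.IsPrime] [q'.LiesOver q] [q'.LiesOver p']
    (𝒟' : FlatCA.CompleteDevissage R' S' N' p') (hn : 𝒟'.n = 𝒟.n)
    (htail : ∀ i, 𝒟.n ≤ i → ∃ (Q : Ideal (𝒟'.B i)) (P : Ideal (𝒟'.A i)),
      Q.IsPrime ∧ P.IsPrime ∧ Q.LiesOver p' ∧ P.LiesOver Q)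
    [aA : ∀ i : Fin 𝒟.n, Algebra (𝒟.A i) (𝒟'.A i)] [rA : ∀ i : Fin 𝒟.n, Algebra R (𝒟'.A i)]
      [∀ i : Fin 𝒟.n, IsScalarTower R (R') (𝒟'.A i)] [∀ i : Fin 𝒟.n, IsScalarTower R (𝒟.A i) (𝒟'.A i)]
      [aB : ∀ i : Fin 𝒟.n, Algebra (𝒟.B i) (𝒟'.B i)] [rB : ∀ i : Fin 𝒟.n, Algebra R (𝒟'.B i)]
      [∀ i : Fin 𝒟.n, IsScalarTower R (R') (𝒟'.B i)] [∀ i : Fin 𝒟.n, IsScalarTower R (𝒟.B i) (𝒟'.B i)]
      [bA : ∀ i : Fin 𝒟.n, Algebra (𝒟.B i) (𝒟'.A i)] [∀ i : Fin 𝒟.n, IsScalarTower (𝒟.B i) (𝒟.A i) (𝒟'.A i)]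
      [∀ i : Fin 𝒟.n, IsScalarTower (𝒟.B i) (𝒟'.B i) (𝒟'.A i)]
      [bA' : ∀ i : Fin 𝒟.n, Algebra (𝒟.B i) (𝒟'.A (i + 1))]
      [∀ i : Fin 𝒟.n, IsScalarTower (𝒟.B i) (𝒟'.B i) (𝒟'.A (i + 1))]
      [sA : Algebra S (𝒟'.A 0)] [IsScalarTower S (S') (𝒟'.A 0)]
      [mA : ∀ i : Fin 𝒟.n, Module (𝒟.A i) (𝒟'.M i)] [∀ i : Fin 𝒟.n, IsScalarTower (𝒟.A i) (𝒟'.A i) (𝒟'.M i)]
      (gM : ∀ i : Fin 𝒟.n, 𝒟.M i →ₗ[𝒟.A i] 𝒟'.M i)
    (hbc : (letI := aA ⟨0, 𝒟.pos⟩; IsScalarTower S (𝒟.A 0) (𝒟'.A 0)) ∧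
      (∀ x : N, 𝒟'.isoN (f x) = gM ⟨0, 𝒟.pos⟩ (𝒟.isoN x)) ∧
      (∀ (i : Fin 𝒟.n) (h : (i : ℕ) + 1 < 𝒟.n),
        letI := aA ⟨i + 1, h⟩; IsScalarTower (𝒟.B i) (𝒟.A (i + 1)) (𝒟'.A (i + 1))) ∧
      ∀ i : Fin 𝒟.n,
        Algebra.IsPushout R R' (𝒟.A i) (𝒟'.A i) ∧ Algebra.IsPushout R R' (𝒟.B i) (𝒟'.B i) ∧
        IsBaseChange (𝒟'.A i) (gM i)) :
    ∃ 𝒜' : FlatCA.CompleteDevissageAt R' S' N' p' q' 𝒟', 𝒜'.d = 𝒜.d ∧
      ∀ i : Fin 𝒟.n, (𝒜'.qB i).LiesOver (𝒜.qB i) ∧ (𝒜'.qA i).LiesOver (𝒜.qA i) := by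
  classical
  obtain ⟨ht0, hN, htA', hall⟩ := hbc
  haveI := 𝒜.hqA
  haveI := 𝒜.hqB
  haveI := 𝒜.overA
  haveI := 𝒜.overB
  have hA : ∀ i : Fin 𝒟.n, Algebra.IsPushout R R' (𝒟.A i) (𝒟'.A i) := fun i => (hall i).1
  have hB : ∀ i : Fin 𝒟.n, Algebra.IsPushout R R' (𝒟.B i) (𝒟'.B i) := fun i => (hall i).2.1
  have hexA : ∀ i, ∃ (Q : Ideal (𝒟'.A i)) (P : Ideal (𝒟'.B i)), Q.IsPrime ∧ P.IsPrime ∧ P.LiesOver p' ∧
      Q.LiesOver P ∧ ∀ h : i < 𝒟.n,
        (letI := aA ⟨i, h⟩; Q.LiesOver (𝒜.qA i)) ∧ (letI := aB ⟨i, h⟩; P.LiesOver (𝒜.qB i)) := by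
    intro i
    by_cases h : i < 𝒟.n
    swap
    · obtain ⟨P, Q, hP, hQ, hPo, hQP⟩ := htail i (not_lt.1 h)
      exact ⟨Q, P, hQ, hP, hPo, hQP, fun h' => absurd h' h⟩
    obtain ⟨j, rfl⟩ : ∃ j : Fin 𝒟.n, (j : ℕ) = i := ⟨⟨i, h⟩, rfl⟩
    haveI : (𝒜.qA j).LiesOver p := Ideal.LiesOver.trans _ (𝒜.qB j) p
    haveI := hA j
    haveI := hB j
    obtain ⟨Q, hQ, hQA, hQp⟩ := RG.exists_prime_over (S := 𝒟.A j) (S' := 𝒟'.A j) p p' hκ (𝒜.qA j)
    haveI := hQ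
    haveI := hQA
    haveI := hQp
    refine ⟨Q, Q.comap (algebraMap (𝒟'.B j) (𝒟'.A j)), hQ, inferInstance, ⟨?_⟩, ⟨rfl⟩, fun _ => ⟨hQA, ⟨?_⟩⟩⟩
    · rw [Ideal.under_def, Ideal.comap_comap, ← IsScalarTower.algebraMap_eq R' (𝒟'.B j) (𝒟'.A j), ← Ideal.under_def]
      exact hQp.over
    · rw [Ideal.under_def, Ideal.comap_comap, ← IsScalarTower.algebraMap_eq (𝒟.B j) (𝒟'.B j) (𝒟'.A j),
        IsScalarTower.algebraMap_eq (𝒟.B j) (𝒟.A j) (𝒟'.A j), ← Ideal.comap_comap, ← Ideal.under_def, ← Ideal.under_def,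
        ← hQA.over]
      exact Ideal.LiesOver.over
  choose qA qB hqA hqB hqBp hqAB hover using hexA
  haveI := hqA
  haveI := hqB
  haveI := hqBp
  haveI := hqAB
  haveI hAo : ∀ i, (qA i).LiesOver p' := fun i => Ideal.LiesOver.trans _ (qB i) p'
  have hlt : ∀ {i}, i < 𝒟'.n → i < 𝒟.n := fun h => hn ▸ h
  refine ⟨{ qB := qB
            qA := qA
            pureTrans := fun i hi => ?_
            uniq := fun i hi Q _ hQ => ?_
            q0 := ?_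
            qStep := fun i hi => ?_
            d := 𝒜.d
            relDim := fun i hi => ?_
            locDim := fun i hi => ?_ }, rfl, fun i => ⟨(hover i i.2).2, (hover i i.2).1⟩⟩
  · obtain ⟨j, rfl⟩ : ∃ j : Fin 𝒟.n, (j : ℕ) = i := ⟨⟨i, hlt hi⟩, rfl⟩
    haveI := hB j
    haveI := (hover j j.2).2
    exact RG.purelyTranscendental_baseChange (S := 𝒟.B j) (S' := 𝒟'.B j) p p' hκ (𝒜.qB j) (qB j) (𝒜.pureTrans j j.2)
  · obtain ⟨j, rfl⟩ : ∃ j : Fin 𝒟.n, (j : ℕ) = i := ⟨⟨i, hlt hi⟩, rfl⟩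
    haveI := hA j
    haveI := (hover j j.2).1
    haveI := (hover j j.2).2
    haveI := hQ
    haveI : Q.LiesOver p' := Ideal.LiesOver.trans Q (qB j) p'
    haveI : (𝒜.qA j).LiesOver p := Ideal.LiesOver.trans _ (𝒜.qB j) p
    haveI : (Q.comap (algebraMap (𝒟.A j) (𝒟'.A j))).LiesOver (𝒜.qB j) := ⟨by
      rw [Ideal.under_def, Ideal.comap_comap, ← IsScalarTower.algebraMap_eq (𝒟.B j) (𝒟.A j) (𝒟'.A j),
        IsScalarTower.algebraMap_eq (𝒟.B j) (𝒟'.B j) (𝒟'.A j), ← Ideal.comap_comap,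
        ← Ideal.under_def (A := 𝒟'.B j) Q, ← hQ.over, ← Ideal.under_def]
      exact Ideal.LiesOver.over⟩
    haveI : Q.LiesOver (𝒜.qA j) := ⟨(𝒜.uniq j j.2 (Q.comap (algebraMap (𝒟.A j) (𝒟'.A j))) inferInstance).symm⟩
    exact RG.eq_of_liesOver (S := 𝒟.A j) (S' := 𝒟'.A j) p p' hκ (𝒜.qA j) Q (qA j)
  · letI := aA ⟨0, 𝒟.pos⟩
    haveI := ht0
    haveI := (hover 0 𝒟.pos).1
    haveI : ((qA 0).comap (algebraMap S' (𝒟'.A 0))).LiesOver p' := ⟨by
      rw [Ideal.under_def, Ideal.comap_comap, ← IsScalarTower.algebraMap_eq R' S' (𝒟'.A 0), ← Ideal.under_def]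
      exact (hAo 0).over⟩
    haveI : ((qA 0).comap (algebraMap S' (𝒟'.A 0))).LiesOver q := ⟨by
      rw [Ideal.under_def, Ideal.comap_comap, ← IsScalarTower.algebraMap_eq S S' (𝒟'.A 0),
        IsScalarTower.algebraMap_eq S (𝒟.A 0) (𝒟'.A 0), ← Ideal.comap_comap, ← Ideal.under_def (A := 𝒟.A 0),
        ← (hover 0 𝒟.pos).1.over, 𝒜.q0]⟩
    haveI : q.LiesOver p := ⟨by
      rw [← 𝒜.q0, Ideal.under_def, Ideal.comap_comap, ← IsScalarTower.algebraMap_eq R S (𝒟.A 0),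
        ← Ideal.under_def]
      exact (Ideal.LiesOver.trans (𝒜.qA 0) (𝒜.qB 0) p).over⟩
    exact RG.eq_of_liesOver (S := S) (S' := S') p p' hκ q _ q'
  · obtain ⟨j, rfl⟩ : ∃ j : Fin 𝒟.n, (j : ℕ) = i := ⟨⟨i, hlt (Nat.lt_of_succ_lt hi)⟩, rfl⟩
    letI := aA ⟨j + 1, hlt hi⟩
    haveI := htA' j (hlt hi)
    haveI := hB j
    haveI := (hover (j + 1) (hlt hi)).1
    haveI := (hover j j.2).2
    haveI : ((qA (j + 1)).comap (algebraMap (𝒟'.B j) (𝒟'.A (j + 1)))).LiesOver p' := ⟨by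
      rw [Ideal.under_def, Ideal.comap_comap, ← IsScalarTower.algebraMap_eq R' (𝒟'.B j) (𝒟'.A (j + 1)), ← Ideal.under_def]
      exact (hAo (j + 1)).over⟩
    haveI : ((qA (j + 1)).comap (algebraMap (𝒟'.B j) (𝒟'.A (j + 1)))).LiesOver (𝒜.qB j) := ⟨by
      rw [Ideal.under_def, Ideal.comap_comap, ← IsScalarTower.algebraMap_eq (𝒟.B j) (𝒟'.B j) (𝒟'.A (j + 1)),
        IsScalarTower.algebraMap_eq (𝒟.B j) (𝒟.A (j + 1)) (𝒟'.A (j + 1)), ← Ideal.comap_comap,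
        ← Ideal.under_def (A := 𝒟.A (j + 1)), ← (hover (j + 1) (hlt hi)).1.over,
        𝒜.qStep j (hlt hi)]⟩
    exact RG.eq_of_liesOver (S := 𝒟.B j) (S' := 𝒟'.B j) p p' hκ (𝒜.qB j) _ (qB j)
  · obtain ⟨j, rfl⟩ : ∃ j : Fin 𝒟.n, (j : ℕ) = i := ⟨⟨i, hlt hi⟩, rfl⟩
    haveI := hB j
    exact RG.smoothRelDim_baseChange R R' (𝒟.B j) (𝒟'.B j) (𝒜.relDim j j.2)
  · obtain ⟨j, rfl⟩ : ∃ j : Fin 𝒟.n, (j : ℕ) = i := ⟨⟨i, hlt hi⟩, rfl⟩
    haveI := hA j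
    haveI := hB j
    haveI := (hover j j.2).2
    haveI : Algebra.IsPushout R (𝒟.A j) R' (𝒟'.A j) := Algebra.IsPushout.symm inferInstance
    haveI : Algebra.IsPushout (𝒟.B j) (𝒟.A j) (𝒟'.B j) (𝒟'.A j) :=
      RG.isPushout_of_base R R' (𝒟.B j) (𝒟'.B j) (𝒟.A j) (𝒟'.A j)
    haveI := 𝒟.finiteBA j j.2
    haveI := 𝒟.finiteM j j.2
    haveI : Module.Finite (𝒟.B j) (𝒟.M j) := Module.Finite.trans (𝒟.A j) (𝒟.M j)
    letI : Module (𝒟.B j) (𝒟'.M j) := Module.compHom _ (algebraMap (𝒟.B j) (𝒟'.B j))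
    haveI : IsScalarTower (𝒟.B j) (𝒟'.B j) (𝒟'.M j) := IsScalarTower.of_algebraMap_smul fun _ _ => rfl
    haveI : IsScalarTower (𝒟.B j) (𝒟.A j) (𝒟'.M j) := IsScalarTower.of_algebraMap_smul fun b x => by
      show algebraMap (𝒟.B j) (𝒟.A j) b • x = algebraMap (𝒟.B j) (𝒟'.B j) b • x
      rw [← algebraMap_smul (𝒟'.A j) (algebraMap (𝒟.B j) (𝒟.A j) b) x, ← IsScalarTower.algebraMap_apply,
        IsScalarTower.algebraMap_apply (𝒟.B j) (𝒟'.B j) (𝒟'.A j), algebraMap_smul]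
    exact RG.exists_fibre_point_baseChange p p' hκ (𝒟.M j) (𝒟'.M j) ((gM j).restrictScalars (𝒟.B j))
      (RG.isBaseChange_restrict (gM j) (hall j).2.2) (𝒜.qB j) (𝒜.locDim j j.2) (qB j)

end Groth.Agent.S12244
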