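import Groth.Statements.S12247
import Groth.Agent.RG.DevShrinkChoice
-- import your own Groth.Agent.* helpers here

set_option autoImplicit false
set_option backward.isDefEq.respectTransparency false
set_option backward.isDefEq.respectTransparency.types false
set_option maxHeartbeats 2000000
universe u
open FlatMor

namespace Groth.Agent.S12247

open TensorProduct in
/-- All schemes are affine and standard opens are rendered as localizations away from one element. Let R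
→ S be of finite type, N a finite S-module, p ⊆ R and q ⊆ S primes, and (𝒟, 𝒜) a complete dévissage
of N/S/R at q in the prelude's algebraic form, of length m (rings A_i, smooth R-algebras B_i,
modules M_i, maps α_i, points qA_i, qB_i, relative dimensions d_i, for i < m). Then for every w in
the last smooth algebra B_{m-1} outside its point qB_{m-1} there is a standard shrinking whose last
smooth piece is D(w) restricted over the shrunken base: g ∉ p and hX ∉ q, compatible structures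
making S[1/hX] and N[1/hX] live over R[1/g], and a complete dévissage (𝒟', 𝒜') of N[1/hX] over
S[1/hX] relative to R[1/g] at the extended prime of q, of the same length, ranks and relative
dimensions, whose rings A'_i, B'_i are localizations of A_i, B_i away from single elements a_i ∉
qA_i, b_i ∉ qB_i with b_{m-1} the product of w and the image of g (as algebras compatible with R →
R[1/g], with B_i → A_i, B_i → A_{i+1}, S → A_0 and S[1/hX] → A'_0), whose modules M'_i are the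
corresponding localizations of M_i (compatibly with N ≅ M_0), whose points lie over the qA_i, qB_i,
and with the image of α_i generating the image of α'_i. (The cokernel identifications of 𝒟' are not
pinned.) -/
theorem result
    (R S : Type u) [CommRing R] [CommRing S] [Algebra R S] [Algebra.FiniteType R S]
    (N : Type u) [AddCommGroup N] [Module S N] [Module.Finite S N]
    (p : Ideal R) [p.IsPrime] (q : Ideal S) [q.IsPrime] (𝒟 : FlatCA.CompleteDevissage R S N p)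
    (𝒜 : FlatCA.CompleteDevissageAt R S N p q 𝒟)
    (w : 𝒟.B (𝒟.n - 1)) (hw : w ∉ 𝒜.qB (𝒟.n - 1)) :
    ∃ (g : R) (hX : S), g ∉ p ∧ hX ∉ q ∧
      ∃ (_ : Algebra (Localization.Away g) (Localization.Away hX)) (_ : IsScalarTower R (Localization.Away g) (Localization.Away hX))
        (_ : Module (Localization.Away g) (LocalizedModule (Submonoid.powers hX) N)) (_ : IsScalarTower (Localization.Away g) (Localization.Away hX) (LocalizedModule (Submonoid.powers hX) N))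
        (_ : (Ideal.map (algebraMap R (Localization.Away g)) p).IsPrime) (_ : (Ideal.map (algebraMap S (Localization.Away hX)) q).IsPrime)
        (𝒟' : FlatCA.CompleteDevissage (Localization.Away g) (Localization.Away hX) (LocalizedModule (Submonoid.powers hX) N) (Ideal.map (algebraMap R (Localization.Away g)) p))
        (𝒜' : FlatCA.CompleteDevissageAt (Localization.Away g) (Localization.Away hX) (LocalizedModule (Submonoid.powers hX) N) (Ideal.map (algebraMap R (Localization.Away g)) p) (Ideal.map (algebraMap S (Localization.Away hX)) q) 𝒟')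
        (a : ∀ i : Fin 𝒟.n, 𝒟.A i) (b : ∀ i : Fin 𝒟.n, 𝒟.B i)
      (aA : ∀ i : Fin 𝒟.n, Algebra (𝒟.A i) (𝒟'.A i)) (rA : ∀ i : Fin 𝒟.n, Algebra R (𝒟'.A i))
      (_t1 : ∀ i : Fin 𝒟.n, IsScalarTower R (Localization.Away g) (𝒟'.A i)) (_t2 : ∀ i : Fin 𝒟.n, IsScalarTower R (𝒟.A i) (𝒟'.A i))
      (aB : ∀ i : Fin 𝒟.n, Algebra (𝒟.B i) (𝒟'.B i)) (rB : ∀ i : Fin 𝒟.n, Algebra R (𝒟'.B i))
      (_t3 : ∀ i : Fin 𝒟.n, IsScalarTower R (Localization.Away g) (𝒟'.B i)) (_t4 : ∀ i : Fin 𝒟.n, IsScalarTower R (𝒟.B i) (𝒟'.B i))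
      (bA : ∀ i : Fin 𝒟.n, Algebra (𝒟.B i) (𝒟'.A i)) (_t5 : ∀ i : Fin 𝒟.n, IsScalarTower (𝒟.B i) (𝒟.A i) (𝒟'.A i))
      (_t6 : ∀ i : Fin 𝒟.n, IsScalarTower (𝒟.B i) (𝒟'.B i) (𝒟'.A i))
      (bA' : ∀ i : Fin 𝒟.n, Algebra (𝒟.B i) (𝒟'.A (i + 1)))
      (_t7 : ∀ i : Fin 𝒟.n, IsScalarTower (𝒟.B i) (𝒟'.B i) (𝒟'.A (i + 1)))
      (sA : Algebra S (𝒟'.A 0)) (_t8 : IsScalarTower S (Localization.Away hX) (𝒟'.A 0))
      (mA : ∀ i : Fin 𝒟.n, Module (𝒟.A i) (𝒟'.M i)) (_t9 : ∀ i : Fin 𝒟.n, IsScalarTower (𝒟.A i) (𝒟'.A i) (𝒟'.M i))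
      (gM : ∀ i : Fin 𝒟.n, 𝒟.M i →ₗ[𝒟.A i] 𝒟'.M i),
        𝒟'.n = 𝒟.n ∧ 𝒟'.r = 𝒟.r ∧ 𝒜'.d = 𝒜.d ∧
        (letI := aA ⟨0, 𝒟.pos⟩; IsScalarTower S (𝒟.A 0) (𝒟'.A 0)) ∧
      (∀ x : N, 𝒟'.isoN (LocalizedModule.mkLinearMap (Submonoid.powers hX) N x) = gM ⟨0, 𝒟.pos⟩ (𝒟.isoN x)) ∧
      (∀ (i : Fin 𝒟.n) (h : (i : ℕ) + 1 < 𝒟.n),
        letI := aA ⟨i + 1, h⟩; IsScalarTower (𝒟.B i) (𝒟.A (i + 1)) (𝒟'.A (i + 1))) ∧
        b ⟨𝒟.n - 1, Nat.sub_one_lt_of_lt 𝒟.pos⟩ = w * algebraMap R (𝒟.B (𝒟.n - 1)) g ∧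
        ∀ i : Fin 𝒟.n,
          a i ∉ 𝒜.qA i ∧ b i ∉ 𝒜.qB i ∧
          IsLocalization.Away (a i) (𝒟'.A i) ∧ IsLocalization.Away (b i) (𝒟'.B i) ∧
          IsLocalizedModule (Submonoid.powers (a i)) (gM i) ∧
          (𝒜'.qA i).LiesOver (𝒜.qA i) ∧ (𝒜'.qB i).LiesOver (𝒜.qB i) ∧
          LinearMap.range (𝒟'.α i) =
            Submodule.span (𝒟'.B i) ((gM i) '' (LinearMap.range (𝒟.α i) : Set (𝒟.M i))) := by
  obtain ⟨c, hc, hcw⟩ := RG.exists_chain_last 𝒜 w hw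
  obtain ⟨h₀, himg⟩ := 𝒟.surjSA (algebraMap (𝒟.B 0) (𝒟.A 0) (c 0))
  obtain ⟨g, hg, hqX, hd, hb⟩ := RG.exists_shrinkData 𝒜 hc himg
  refine ⟨g, h₀ * algebraMap R S g, hg, hqX, ?_⟩
  obtain ⟨a1, t1, m1, tm, hp₁, hq₁, 𝒟', 𝒜', a, b, aA, rA, u1, u2, aB, rB, u3, u4, bA, u5, u6, bA', u7, sA, u8, mA, u9,
    gM, hn, hr, hdd, ht0, hN, hstep, hbeq, hall⟩ := RG.exists_shrinking R S N p q 𝒟 𝒜 g hg _ hqX _ hd hb
  refine ⟨a1, t1, m1, tm, hp₁, hq₁, 𝒟', 𝒜', a, b, aA, rA, u1, u2, aB, rB, u3, u4, bA, u5, u6, bA', u7, sA, u8, mA, u9,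
    gM, hn, hr, hdd, ht0, hN, hstep, ?_, hall⟩
  rw [hbeq]
  show c (𝒟.n - 1) * algebraMap R (𝒟.B (𝒟.n - 1)) g = w * algebraMap R (𝒟.B (𝒟.n - 1)) g
  rw [hcw]

end Groth.Agent.S12247
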