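import Groth.Statements.S12249
import Groth.Agent.ArtFunLib.Hull.Prorep

set_option autoImplicit false
universe u v
open CategoryTheory
open Deform

namespace Groth.Agent.S12249

/-- Let k be an algebraically closed field and F a set-valued functor on local Artinian k-algebras with
residue field k such that F(k) is a single point. If F has a semiuniversal formal element and its
tangent space F(k[ε]) is reduced to one element, then F(A) consists of exactly one element for every
A: F is the constant one-point functor h_k. -/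
theorem result
    {k : Type u} [Field k] [IsAlgClosed k]
    (F : ArtFun.Art k k ⥤ Type v) (h0 : ArtFun.H0 F) (hF : ArtFun.HasHull F)
    (ht : Subsingleton (ArtFun.TangentSpace F)) (A : ArtFun.Art k k) :
    Nonempty (F.obj A) ∧ Subsingleton (F.obj A) := by
  obtain ⟨H⟩ := hF
  have hs := ArtFunLib.surjective_app_of_isVersal H.miniversal.1 h0
  let G := ArtFun.hR (Λ := k) k (AlgHom.id k k)
  let η : ∀ B, (ArtFun.hR H.ring.carrier H.ring.res).obj B → G.obj B := fun B _ =>
    ⟨Algebra.ofId k B, Subsingleton.elim _ _⟩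
  have hG : ∀ B, Subsingleton (G.obj B) := fun B =>
    ⟨fun a b => Subtype.ext (Subsingleton.elim _ _)⟩
  have hη : ∀ ⦃B C : ArtFun.Art k k⦄ (f : B ⟶ C) x,
      η C ((ArtFun.hR H.ring.carrier H.ring.res).map f x) = G.map f (η B x) :=
    fun _ C _ _ => (hG C).elim _ _
  have hsub : Subsingleton ((ArtFun.hR H.ring.carrier H.ring.res).obj A) := ⟨fun φ₁ φ₂ =>
    ArtFunLib.sepAt_of_small hη (fun B C μ hμ => ArtFunLib.sepAt_small hη
      (ArtFunLib.hR_hbar _ _) (ArtFunLib.hR_heps _ _)
      (fun _ _ _ p₁ p₂ f h _ => ArtFunLib.hR_isLeftExact k (AlgHom.id k k) p₁ p₂ f f h)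
      (fun a b _ => H.miniversal.2.1 (ht.elim _ _)) μ hμ)
      (ArtFun.Art.toBase A) A.res_surjective φ₁ φ₂
      ((ArtFunLib.hR_h0 _ _).2.elim _ _) ((hG A).elim _ _)⟩
  obtain ⟨x₀⟩ := h0.1
  let inc : ArtFun.Art.base k k ⟶ A :=
    ⟨Algebra.ofId k A, AlgHom.ext fun c => A.res.commutes c⟩
  exact ⟨⟨F.map inc x₀⟩, ⟨fun y z => by
    obtain ⟨a, rfl⟩ := hs A y
    obtain ⟨b, rfl⟩ := hs A z
    rw [@Subsingleton.elim _ hsub a b]⟩⟩

end Groth.Agent.S12249
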