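import Groth.Statements.S1225
import Groth.Agent.RG.WeakAssTensorFlat
import Groth.Agent.S1221
import Groth.Agent.RG.DevExists
-- import your own Groth.Agent.* helpers here

set_option autoImplicit false
universe u
open FlatMor

namespace Groth.Agent.S1225

set_option backward.isDefEq.respectTransparency false
set_option backward.isDefEq.respectTransparency.types false
set_option linter.style.haveILetI false

open TensorProduct IsLocalRing Groth.Agent.ZClosLib

attribute [local instance] Algebra.TensorProduct.rightAlgebra

open IsLocalRing in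
/-- Ring form, X = Spec B affine: let A be a local ring, B a finite type A-algebra and N a finite
B-module which is flat over A and pure along the closed fibre. Then a B-linear map φ from N to any
B-module is injective if and only if its localization at q is injective for every prime q of B over
𝔪_A whose extension to the closed fibre ring is an associated prime of the closed fibre module. -/
theorem result {A B : Type u} [CommRing A] [IsLocalRing A] [CommRing B] [Algebra A B] [Algebra.FiniteType A B]
    (N : Type u) [AddCommGroup N] [Module B N] [Module A N] [IsScalarTower A B N] [Module.Finite B N] [Module.Flat A N]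
    (hpure : FlatCA.IsPureAlong A B N (maximalIdeal A))
    (N' : Type u) [AddCommGroup N'] [Module B N'] (φ : N →ₗ[B] N') :
    Function.Injective φ ↔ ∀ (q : Ideal B) [q.IsPrime], q.LiesOver (maximalIdeal A) →
      FlatCA.fiberIdeal (maximalIdeal A) q ∈ associatedPrimes ((maximalIdeal A).Fiber B) (FlatCA.fiberMod (maximalIdeal A) B N) →
      Function.Injective (LocalizedModule.map q.primeCompl φ) := by
  refine ⟨fun hφ q _ _ _ => LocalizedModule.map_injective q.primeCompl φ hφ, fun h => ?_⟩
  rw [injective_iff_map_eq_zero]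
  intro x hx
  by_contra hx0
  have hJ : WeakAss.annEl B x ≠ ⊤ := fun h0 => hx0 <| by
    have h1 := WeakAss.mem_annEl.1 ((Ideal.eq_top_iff_one _).1 h0)
    rwa [one_smul] at h1
  obtain ⟨Q, hQ, hJQ⟩ := Ideal.exists_le_maximal _ hJ
  haveI := hQ.isPrime
  obtain ⟨q, hq, -⟩ := Ideal.exists_minimalPrimes_le (I := WeakAss.annEl B x) (J := Q) hJQ
  haveI : q.IsPrime := hq.1.1
  haveI : q.LiesOver (q.under A) := ⟨rfl⟩
  have hflat : ∀ (q : Ideal B) [q.IsPrime], FlatCA.FlatAt A q N := fun q _ =>
    (FlatModel.flat_localized_iff q.primeCompl (LocalizedModule.mkLinearMap q.primeCompl N)).2 fun J y hy =>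
      ⟨1, one_mem _, by rw [Module.Flat.iff_lTensor_injective'.1 ‹Module.Flat A N› J (hy.trans (map_zero _).symm), smul_zero]⟩
  let e : N ≃ₗ[B] N ⊗[A] A := (AlgebraTensorModule.rid A B N).symm
  have hw : q ∈ FlatCA.weakAss B (N ⊗[A] A) :=
    WeakAss.mem_weakAss_iff.2 ⟨e x, by rw [show e x = e.toLinearMap x from rfl, WeakAss.annEl_map_of_injective _ e.injective]; exact hq⟩
  have hass := ((RG.mem_weakAss_tensor_iff N A (q.under A) q (hflat q)).1 hw).2
  haveI : IsScalarTower A B N := ‹_›
  haveI : Algebra.IsPushout A B A B := Algebra.IsPushout.symm inferInstance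
  have hspec : ∃ (t : Ideal B), t.IsPrime ∧ q ≤ t ∧ t.LiesOver (maximalIdeal A) := by
    by_contra hne
    push Not at hne
    exact hpure A B N LinearMap.id (q.under A) (maximalIdeal A) q (RG.isEtaleNhd_refl A (maximalIdeal A))
      ⟨inferInstance, (IsBaseChange.ofEquiv (LinearEquiv.refl B N)), IsLocalRing.le_maximalIdeal Ideal.IsPrime.ne_top',
        ⟨rfl⟩, ⟨rfl⟩, hass, fun P' hP' h1 h2 => hne P' hP' h1 h2⟩
  obtain ⟨q₁, hq₁, hle, hq₁m, hq₁a⟩ := Groth.Agent.S1221.result N (maximalIdeal A) (fun t _ _ => hflat t) (q.under A)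
    (IsLocalRing.le_maximalIdeal Ideal.IsPrime.ne_top') q hass hspec
  haveI := hq₁
  have hinj := h q₁ hq₁m hq₁a
  have h0 : LocalizedModule.map q₁.primeCompl φ (LocalizedModule.mk x 1) = 0 := by
    rw [LocalizedModule.map_mk, hx, LocalizedModule.zero_mk]
  obtain ⟨c, hc⟩ := LocalizedModule.mk_eq.1
    ((hinj (h0.trans (map_zero _).symm)).trans (LocalizedModule.zero_mk 1).symm)
  refine c.2 (hle (hq.1.2 (WeakAss.mem_annEl.2 ?_)))
  simpa [Submonoid.smul_def] using hc

end Groth.Agent.S1225
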