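import Groth.Statements.S12254
import Groth.Agent.DefGlueLib.Auto
-- import your own Groth.Agent.* helpers here

set_option autoImplicit false
set_option backward.isDefEq.respectTransparency false
set_option backward.isDefEq.respectTransparency.types false
universe u
open CategoryTheory CategoryTheory.Limits AlgebraicGeometry
open Deform

namespace Groth.Agent.S12254

/-- Let k be an algebraically closed field and X a projective k-scheme, given with a closed immersion
into some P^n_k over k. Then the space of infinitesimal automorphisms H^0(X, T_X) =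
Hom_{O_X}(Ω_{X/k}, O_X) vanishes if and only if, for every local Artinian k-algebra A with residue
field k and every deformation of X over A (a scheme flat over Spec A together with a morphism from X
identifying X with the closed fibre), the only automorphism of the total space over Spec A
compatible with the inclusion of X is the identity. -/
theorem result
    {k : Type u} [Field k] [IsAlgClosed k] (X : Scheme.{u}) (x : X ⟶ Spec (CommRingCat.of k))
    [LocallyOfFiniteType x] [IsSeparated x] [QuasiCompact x]
    (hproj : ∃ (n : ℕ) (c : X ⟶ CohB1.ProjSpaceOver n (Spec (CommRingCat.of k))),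
      IsClosedImmersion c ∧ c ≫ CohB1.ProjSpaceOver.toBase n (Spec (CommRingCat.of k)) = x) :
    Subsingleton (Omega.sheaf x ⟶ Coh.structureModule X) ↔
      ∀ (A : ArtFun.Art k k) (ξ : ArtFun.DefSch X x A) (e : ξ.Iso ξ), e.iso.hom = 𝟙 ξ.total := by
  constructor
  · exact fun h A ξ e => Groth.Agent.DefGlueLib.iso_hom_eq_id
      (fun δ U s => δ.eq_zero_of_subsingleton h U s) ξ e
  · intro h
    by_contra hne
    obtain ⟨δ, U, s, hs⟩ := Groth.Agent.DefGlueLib.exists_famDer_ne_zero x hne
    let ξ := ArtFun.DefSch.trivial X x (Groth.Agent.DefGlueLib.flat_str x) (ArtFun.Art.dual k k)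
    let D := Groth.Agent.DefGlueLib.ofSch ξ
    refine hs (Groth.Agent.DefGlueLib.eq_zero_of_glue_eq_id D δ ?_ U s)
    let e := (Groth.Agent.DefGlueLib.endOf D δ).glue.toIso
    let c := Groth.Agent.DefGlueLib.counit ξ
    have h1 : c.iso.inv ≫ e.iso.hom ≫ c.iso.hom = 𝟙 ξ.total := h _ ξ (c.symm.trans (e.trans c))
    have h2 : e.iso.hom = 𝟙 _ := by
      have h3 := congrArg (fun t => c.iso.hom ≫ t ≫ c.iso.inv) h1
      simpa using h3
    exact h2

end Groth.Agent.S12254
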