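import Groth.Statements.S12255
import Groth.Agent.DefFin29.Tangent
import Groth.Agent.ArtFunLib.Hull.Prorep
import Groth.Agent.PnLight.Chart
import Groth.Agent.PnCoh.Chow.Proper

set_option autoImplicit false
universe u
open CategoryTheory CategoryTheory.Limits AlgebraicGeometry
open Deform

namespace Groth.Agent.S12255

/-- Let k be an algebraically closed field and X a projective k-scheme, given with a closed immersion
into some P^n_k over k, such that H^0(X, T_X) = Hom_{O_X}(Ω_{X/k}, O_X) = 0 (no infinitesimal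
automorphisms). Then the local moduli functor Def_X, of isomorphism classes of deformations of X
over local Artinian k-algebras with residue field k, is prorepresentable by a complete local
Noetherian k-algebra with residue field k. -/
theorem result
    {k : Type u} [Field k] [IsAlgClosed k] (X : Scheme.{u}) (x : X ⟶ Spec (CommRingCat.of k))
    [LocallyOfFiniteType x] [IsSeparated x] [QuasiCompact x]
    (hproj : ∃ (n : ℕ) (c : X ⟶ CohB1.ProjSpaceOver n (Spec (CommRingCat.of k))),
      IsClosedImmersion c ∧ c ≫ CohB1.ProjSpaceOver.toBase n (Spec (CommRingCat.of k)) = x)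
    (h0 : Subsingleton (Omega.sheaf x ⟶ Coh.structureModule X)) :
    ArtFun.IsProrepresentable (ArtFun.defFunctor (Λ := k) X x) := by
  letI : X.Over (Spec (CommRingCat.of k)) := ⟨x⟩
  haveI : QuasiSeparated (Groth.Agent.DefTan29.xk k X) := inferInstanceAs (QuasiSeparated x)
  haveI : IsProper (Groth.Agent.DefTan29.xk k X) := Groth.Agent.NormalLib.isProper_of_projective x hproj
  have h0' := Groth.Agent.DefGlueLib.h0_defFunctor (Λ := k) (x := x)
  have h2 := Groth.Agent.DefGlueLib.heps_defFunctor (Λ := k) (x := x)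
  obtain ⟨T⟩ := Groth.Agent.ArtFunLib.nonempty_tangentStr h0' h2
  letI := T
  have hrig : ∀ (A : ArtFun.Art k k) (ξ : ArtFun.DefSch X x A) (e : ξ.Iso ξ), e.iso.hom = 𝟙 ξ.total :=
    fun A ξ e => Groth.Agent.DefGlueLib.iso_hom_eq_id (fun δ U s => δ.eq_zero_of_subsingleton h0 U s) ξ e
  have hfin : ArtFun.Hfin (ArtFun.defFunctor (Λ := k) X x) := by
    obtain ⟨n, c, hc, hcw⟩ := hproj
    haveI := hc
    haveI : Smooth (CohB1.ProjSpace.toSpec n (ULift.{u} ℤ)) := SmoothOfRelativeDimension.smooth n _
    haveI : Smooth (CohB1.ProjSpaceOver.toBase n (Spec (CommRingCat.of k))) :=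
      MorphismProperty.pullback_snd _ _ inferInstance
    haveI : IsProper (CohB1.ProjSpaceOver.toBase n (Spec (CommRingCat.of k))) := by
      haveI := Groth.Agent.PnCoh.Chow.isProper_toSpec n (ULift.{u} ℤ)
      exact MorphismProperty.pullback_snd _ _ inferInstance
    exact Groth.Agent.DefFin29.finite_tangent (T := T) (c := c)
      (y := CohB1.ProjSpaceOver.toBase n (Spec (CommRingCat.of k))) hcw
  refine (Groth.Agent.ArtFunLib.Hull.isProrepresentable_iff (fun c => ⟨c, rfl⟩) h0').2
    ⟨fun _ _ _ _ _ _ _ _ h hs => Groth.Agent.DefGlueLib.surjective_cmp h hs.1, h2, hfin,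
      fun _ _ _ _ _ _ h hs => ⟨Groth.Agent.DefGlueLib.injective_cmp h hs.1 fun ξ σ =>
        ⟨ArtFun.DefSch.Iso.refl ξ, Groth.Agent.DefGlueLib.iso_ext ((hrig _ _ _).trans (hrig _ _ σ).symm)⟩,
        Groth.Agent.DefGlueLib.surjective_cmp h hs.1⟩⟩

end Groth.Agent.S12255
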