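import Groth.Statements.S12256
import Groth.Agent.AffDefLib.Node

set_option autoImplicit false
universe u
open CategoryTheory CategoryTheory.Limits AlgebraicGeometry
open Deform

namespace Groth.Agent.S12256

/-- Let k be an algebraically closed field and C = Spec k[x, y]/(xy) the union of the two coordinate
axes in the affine plane. Then the local moduli functor Def_C, of isomorphism classes of
deformations of C over local Artinian k-algebras with residue field k, is not prorepresentable by
any complete local Noetherian k-algebra with residue field k. -/
theorem result
    {k : Type u} [Field k] [IsAlgClosed k] :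
    ¬ ArtFun.IsProrepresentable (ArtFun.defFunctor (Λ := k)
      (Spec (CommRingCat.of (MvPolynomial (Fin 2) k ⧸
        Ideal.span {(MvPolynomial.X 0 * MvPolynomial.X 1 : MvPolynomial (Fin 2) k)})))
      (Spec.map (CommRingCat.ofHom (algebraMap k (MvPolynomial (Fin 2) k ⧸
        Ideal.span {(MvPolynomial.X 0 * MvPolynomial.X 1 : MvPolynomial (Fin 2) k)}))))) := by
  exact Groth.Agent.AffDefLib.not_isProrepresentable

end Groth.Agent.S12256
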