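import Groth.Statements.S12258
import Groth.Agent.ArtFunLib.FunPullback
import Mathlib.CategoryTheory.Limits.Shapes.BinaryProducts
import Mathlib.CategoryTheory.Limits.Preserves.Shapes.BinaryProducts

set_option autoImplicit false
universe u v
open CategoryTheory CategoryTheory.Limits
open Deform

namespace Groth.Agent.S12258

/-- Let k be an algebraically closed field, Λ a complete local Noetherian k-algebra with residue field
k, and F, G set-valued functors on local Artinian Λ-algebras with residue field k, each with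
one-point value at k. If F and G are smooth functors, i.e. F(B) → F(A) and G(B) → G(A) are
surjective for every surjection B → A, then the product functor F × G is smooth. -/
theorem result
    {k Λ : Type u} [Field k] [IsAlgClosed k] [CommRing Λ] [IsLocalRing Λ] [IsNoetherianRing Λ]
    [IsAdicComplete (IsLocalRing.maximalIdeal Λ) Λ] [Algebra k Λ] [Algebra Λ k] [IsScalarTower k Λ k]
    {F G : ArtFun.Art Λ k ⥤ Type v}
    (hF : ArtFun.H0 F) (hG : ArtFun.H0 G) (sF : ArtFun.IsSmoothFunctor F) (sG : ArtFun.IsSmoothFunctor G) :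
    ArtFun.IsSmoothFunctor (F ⨯ G) := by
  intro B A μ hμ z
  obtain ⟨x, hx⟩ := sF μ hμ ((Limits.prod.fst (X := F) (Y := G)).app A z)
  obtain ⟨y, hy⟩ := sG μ hμ ((Limits.prod.snd (X := F) (Y := G)).app A z)
  have hlim := mapIsLimitOfPreservesOfIsLimit ((evaluation (ArtFun.Art Λ k) (Type v)).obj B) _ _
    (prodIsProd F G)
  have hlimA := mapIsLimitOfPreservesOfIsLimit ((evaluation (ArtFun.Art Λ k) (Type v)).obj A) _ _
    (prodIsProd F G)
  obtain ⟨w, hw⟩ : ∃ w, (Limits.prod.fst (X := F) (Y := G)).app B w = x ∧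
      (Limits.prod.snd (X := F) (Y := G)).app B w = y := by
    obtain ⟨e, he⟩ := BinaryFan.IsLimit.lift' hlim (W := PUnit) (↾fun _ => x) (↾fun _ => y)
    exact ⟨e PUnit.unit, ConcreteCategory.congr_hom he.1 PUnit.unit, ConcreteCategory.congr_hom he.2 PUnit.unit⟩
  refine ⟨w, ?_⟩
  have key : (↾fun _ : PUnit.{v+1} => (F ⨯ G).map μ w) = (↾fun _ : PUnit.{v+1} => z) := by
    refine BinaryFan.IsLimit.hom_ext hlimA ?_ ?_ <;> refine ConcreteCategory.hom_ext _ _ fun _ => ?_
    · exact (NatTrans.naturality_apply (Limits.prod.fst (X := F) (Y := G)) μ w).trans ((congrArg _ hw.1).trans hx)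
    · exact (NatTrans.naturality_apply (Limits.prod.snd (X := F) (Y := G)) μ w).trans ((congrArg _ hw.2).trans hy)
  exact ConcreteCategory.congr_hom key PUnit.unit

end Groth.Agent.S12258
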