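import Groth.Statements.S12259
import Groth.Agent.DefTan29.HH
import Groth.Agent.CurveFF.Facts
import Groth.Agent.NormalLib.Finite
import Groth.Agent.H23.FinCondSch
import Groth.Agent.GrpSchLib.SmoothRegular
import Groth.Agent.RegLoc6.Basic
import Groth.Agent.ArtFunLib.Hull.Prorep
import Groth.Agent.ArtFunLib.Tangent

set_option autoImplicit false
universe u
open CategoryTheory CategoryTheory.Limits AlgebraicGeometry
open Deform

namespace Groth.Agent.S12259

/-- Let k be an algebraically closed field and X a nonsingular connected projective curve over k, i.e. X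
is smooth over k, connected, of dimension one and a closed subscheme of some projective space P^n_k,
and assume its genus g = dim_k H^1(X, O_X) is at least 2. Then the local moduli functor Def_X
(isomorphism classes of deformations of X over local Artinian k-algebras with residue field k) is
prorepresentable by a complete local Noetherian k-algebra with residue field k. (The published
statement treats every genus and identifies the prorepresenting ring with a power series ring in 0,
1 or 3g − 3 variables; this row is the prorepresentability for g ≥ 2 only.) -/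
theorem result
    {k : Type u} [Field k] [IsAlgClosed k] (X : Scheme.{u}) [X.Over (Spec (CommRingCat.of k))]
    [Smooth (X ↘ Spec (CommRingCat.of k))] [IsSeparated (X ↘ Spec (CommRingCat.of k))]
    [QuasiCompact (X ↘ Spec (CommRingCat.of k))] [ConnectedSpace X]
    (hdim : topologicalKrullDim X = 1)
    (hproj : ∃ (n : ℕ) (c : X ⟶ CohB1.ProjSpaceOver n (Spec (CommRingCat.of k))),
      IsClosedImmersion c ∧ c ≫ CohB1.ProjSpaceOver.toBase n (Spec (CommRingCat.of k)) = X ↘ Spec (CommRingCat.of k))
    (hg : 2 ≤ Curv2.genus k X) :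
    ArtFun.IsProrepresentable (ArtFun.defFunctor (Λ := k) X (X ↘ Spec (CommRingCat.of k))) := by
  haveI : IsProper (X ↘ Spec (CommRingCat.of k)) := Groth.Agent.NormalLib.isProper_of_projective _ hproj
  haveI := Groth.Agent.CurveCohLib.isNoetherian_of_proper (k := k) (X := X)
  haveI : IsIntegral X := Groth.Agent.H23.FinCondSch.isIntegral_iff.2 ⟨inferInstance, fun z =>
    haveI := Groth.Agent.GrpSchLib.isRegularLocalRing_stalk_of_smooth (X ↘ Spec (CommRingCat.of k)) z
    Groth.Agent.RegLoc6.isDomain_of_isRegularLocalRing _⟩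
  haveI : QuasiSeparated (Groth.Agent.DefTan29.xk k X) :=
    inferInstanceAs (QuasiSeparated (X ↘ Spec (CommRingCat.of k)))
  haveI : HasExt.{u} X.Modules := IsGrothendieckAbelian.hasExt _
  have h0 := Groth.Agent.DefGlueLib.h0_defFunctor (Λ := k) (x := X ↘ Spec (CommRingCat.of k))
  have h2 := Groth.Agent.DefGlueLib.heps_defFunctor (Λ := k) (x := X ↘ Spec (CommRingCat.of k))
  obtain ⟨T⟩ := Groth.Agent.ArtFunLib.nonempty_tangentStr h0 h2
  letI := T
  have hsub : Subsingleton (Omega.sheaf (X ↘ Spec (CommRingCat.of k)) ⟶ Coh.structureModule X) :=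
    subsingleton_of_forall_eq 0 (Groth.Agent.CurveFF.hom_Ωm_eq_zero k hdim hg)
  have hrig : ∀ (A : ArtFun.Art k k) (ξ : ArtFun.DefSch X (X ↘ Spec (CommRingCat.of k)) A) (e : ξ.Iso ξ),
      e.iso.hom = 𝟙 ξ.total := fun A ξ e =>
    Groth.Agent.DefGlueLib.iso_hom_eq_id (fun δ U s => δ.eq_zero_of_subsingleton hsub U s) ξ e
  have hfin : ArtFun.Hfin (ArtFun.defFunctor (Λ := k) X (X ↘ Spec (CommRingCat.of k))) := by
    obtain ⟨e⟩ := Groth.Agent.DefTan29.nonempty_tangent_linearEquiv (k := k) (X := X)
    obtain ⟨e'⟩ := Groth.Agent.PnDual.nonempty_ext_linearEquiv_HH (A := k)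
      (Groth.Agent.DefTan29.isFinLocFree_omega' (k := k) (X := X)) (Coh.structureModule X) 1
    haveI := Groth.Agent.CurveCohLib.finite_HH (k := k) (Groth.Agent.SheafHomX.isCoh_hom
      (Groth.Agent.CurveDeg.isCoh_of_isInvertible (Groth.Agent.CurveFF.isInvertible_Ωm k X hdim))
      Groth.Agent.QCoh.isCoh_structureModule') 1
    exact Module.Finite.equiv (e ≪≫ₗ e').symm
  refine (Groth.Agent.ArtFunLib.Hull.isProrepresentable_iff (fun c => ⟨c, rfl⟩) h0).2
    ⟨fun _ _ _ _ _ _ _ _ h hs => Groth.Agent.DefGlueLib.surjective_cmp h hs.1, h2, hfin,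
      fun _ _ _ _ _ _ h hs => ⟨Groth.Agent.DefGlueLib.injective_cmp h hs.1 fun ξ σ =>
        ⟨ArtFun.DefSch.Iso.refl ξ, Groth.Agent.DefGlueLib.iso_ext ((hrig _ _ _).trans (hrig _ _ σ).symm)⟩,
        Groth.Agent.DefGlueLib.surjective_cmp h hs.1⟩⟩

end Groth.Agent.S12259
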