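import Groth.Statements.S1226
import Groth.Agent.ZClosLib.PurityQF
-- import your own Groth.Agent.* helpers here

set_option autoImplicit false
universe u
open FlatMor

namespace Groth.Agent.S1226

/-- Ring form, X = Spec B affine: let B be a finite type A-algebra, N a finite B-module and p a prime of
A; let A' be an A-algebra with a prime p' over p such that A' is of finite type over A and
quasi-finite at p', and let B', N' be the base changes of B, N. If N is pure along the fibre over p
then N' is pure along the fibre over p'. -/
theorem result {A B : Type u} [CommRing A] [CommRing B] [Algebra A B] [Algebra.FiniteType A B]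
    (N : Type u) [AddCommGroup N] [Module B N] [Module.Finite B N] (p : Ideal A) [p.IsPrime]
    (A' B' N' : Type u) [CommRing A'] [CommRing B'] [Algebra A A'] [Algebra B B'] [Algebra A' B'] [Algebra A B']
    [IsScalarTower A B B'] [IsScalarTower A A' B'] [Algebra.IsPushout A B A' B']
    [AddCommGroup N'] [Module B' N'] [Module B N'] [IsScalarTower B B' N'] (f : N →ₗ[B] N') (hf : IsBaseChange B' f)
    (p' : Ideal A') [p'.IsPrime] [p'.LiesOver p] [Algebra.FiniteType A A'] [Algebra.QuasiFiniteAt A p']
    (h : FlatCA.IsPureAlong A B N p) : FlatCA.IsPureAlong A' B' N' p' := by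
  intro A₁ B₁ N₁ _ _ _ _ _ _ _ _ _ _ _ _ _ _ g t' t _ _ P _ het himp
  obtain ⟨het₁, ht, -⟩ := het
  obtain ⟨hpush₁, hg, hle, -, hPt, hass, hno⟩ := himp
  letI : Algebra A A₁ := ((algebraMap A' A₁).comp (algebraMap A A')).toAlgebra
  haveI : IsScalarTower A A' A₁ := IsScalarTower.of_algebraMap_eq fun _ => rfl
  letI : Algebra A B₁ := ((algebraMap A₁ B₁).comp (algebraMap A A₁)).toAlgebra
  haveI : IsScalarTower A A₁ B₁ := IsScalarTower.of_algebraMap_eq fun _ => rfl
  letI : Algebra B B₁ := ((algebraMap B' B₁).comp (algebraMap B B')).toAlgebra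
  haveI : IsScalarTower B B' B₁ := IsScalarTower.of_algebraMap_eq fun _ => rfl
  haveI : IsScalarTower A B B₁ := IsScalarTower.of_algebraMap_eq fun x => by
    show algebraMap A₁ B₁ (algebraMap A' A₁ (algebraMap A A' x)) = algebraMap B' B₁ (algebraMap B B' (algebraMap A B x))
    rw [← IsScalarTower.algebraMap_apply A B B', IsScalarTower.algebraMap_apply A A' B',
      ← IsScalarTower.algebraMap_apply A' A₁ B₁, ← IsScalarTower.algebraMap_apply A' B' B₁]
  have hpush : Algebra.IsPushout A B A₁ B₁ :=
    Groth.Agent.ZClosLib.PurityBC.isPushout_comp A B A' B' A₁ B₁ inferInstance hpush₁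
  letI : Module B N₁ := Module.compHom N₁ (algebraMap B B')
  haveI : IsScalarTower B B' N₁ := IsScalarTower.of_algebraMap_smul fun _ _ => rfl
  haveI : IsScalarTower B B₁ N₁ := IsScalarTower.of_algebraMap_smul fun b z => algebraMap_smul B₁ (algebraMap B B' b) z
  haveI : Algebra.FiniteType A A₁ := Algebra.FiniteType.trans (R := A) (S := A') (A := A₁) inferInstance inferInstance
  haveI : t.LiesOver p := Ideal.LiesOver.trans t p' p
  haveI : Algebra.QuasiFiniteAt A t := by
    letI := Localization.AtPrime.algebraOfLiesOver p' t
    haveI : IsScalarTower A (Localization.AtPrime p') (Localization.AtPrime t) :=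
      IsScalarTower.of_algebraMap_eq fun x => by
        rw [IsScalarTower.algebraMap_apply A A' (Localization.AtPrime p'), ← IsScalarTower.algebraMap_apply A' (Localization.AtPrime p') (Localization.AtPrime t),
          ← IsScalarTower.algebraMap_apply A A' (Localization.AtPrime t)]
    haveI : Algebra.QuasiFinite A' A₁ := inferInstance
    haveI : Algebra.QuasiFinite A' (Localization.AtPrime t) := Algebra.QuasiFinite.of_isLocalization t.primeCompl
    haveI : Algebra.QuasiFinite (Localization.AtPrime p') (Localization.AtPrime t) :=
      Algebra.QuasiFinite.of_restrictScalars A' (Localization.AtPrime p') (Localization.AtPrime t)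
    exact Algebra.QuasiFinite.trans A (Localization.AtPrime p') (Localization.AtPrime t)
  exact Groth.Agent.ZClosLib.PurityQF.not_impurity_of_quasiFiniteAt h
    (f₁ := g.restrictScalars B ∘ₗ f) (t' := t') (t := t) (P := P)
    ⟨hpush, hf.comp hg, hle, inferInstance, hPt, hass, hno⟩

end Groth.Agent.S1226
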