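import Groth.Statements.S12260
import Groth.Agent.ArtFunLib.HilbLeftExact
-- import your own Groth.Agent.* helpers here

set_option autoImplicit false
universe u
open CategoryTheory CategoryTheory.Limits AlgebraicGeometry
open Deform

namespace Groth.Agent.S12260

/-- Let k be an algebraically closed field, Y a separated k-scheme of finite type and X ⊆ Y the closed
subscheme of a quasi-coherent ideal sheaf I₀. The local Hilbert functor of X in Y, whose value at a
local Artinian k-algebra A with residue field k is the set of closed subschemes of Y ×_k Spec A that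
are flat over Spec A and restrict to X on the closed fibre, satisfies the conditions H_0 (one point
over k), H_ε (the comparison map for A' ×_k k[ε] is bijective), H̄ (the comparison map for A' ×_A
A'' is surjective when A'' → A is a small extension) and H (the comparison map for A' ×_A A' is
bijective when A' → A is a small extension). -/
theorem result
    {k : Type u} [Field k] [IsAlgClosed k] (Y : Scheme.{u}) (y : Y ⟶ Spec (CommRingCat.of k))
    [LocallyOfFiniteType y] [IsSeparated y] [QuasiCompact y] (I₀ : Y.IdealSheafData) :
    ArtFun.H0 (ArtFun.localHilb Y y I₀) ∧ ArtFun.Heps (ArtFun.localHilb Y y I₀) ∧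
      ArtFun.Hbar (ArtFun.localHilb Y y I₀) ∧ ArtFun.HSq (ArtFun.localHilb Y y I₀) := by
  exact ⟨Groth.Agent.ArtFunLib.HilbLeftExact.h0 y I₀,
    fun _ _ p' p'' h => Groth.Agent.ArtFunLib.HilbLeftExact.bijective_cmp I₀ p' p'' _ _ h,
    fun _ _ _ _ p' p'' f' f'' h _ => (Groth.Agent.ArtFunLib.HilbLeftExact.bijective_cmp I₀ p' p'' f' f'' h).2,
    fun _ _ _ p₁ p₂ f h _ => Groth.Agent.ArtFunLib.HilbLeftExact.bijective_cmp I₀ p₁ p₂ f f h⟩

end Groth.Agent.S12260
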