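import Groth.Statements.S12261
import Groth.Agent.ArtFunLib.HilbTangent
import Groth.Agent.ArtFunLib.Hull.Prorep
import Groth.Agent.NormalLib.Finite

set_option autoImplicit false
universe u
open CategoryTheory CategoryTheory.Limits AlgebraicGeometry
open Deform

namespace Groth.Agent.S12261

/-- Let k be an algebraically closed field, Y a separated k-scheme of finite type and X ⊆ Y the closed
subscheme of a quasi-coherent ideal sheaf I₀; assume X is projective over k, i.e. X admits a closed
immersion over k into some projective space P^n_k. Then the local Hilbert functor of X in Y (closed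
subschemes of Y ×_k Spec A flat over Spec A restricting to X on the closed fibre, for A local
Artinian with residue field k) is prorepresentable by a complete local Noetherian k-algebra with
residue field k. (The published statement assumes only that the space of global sections of the
normal sheaf of X in Y is finite-dimensional, X projective being the named instance; this row states
the projective case.) -/
theorem result
    {k : Type u} [Field k] [IsAlgClosed k] (Y : Scheme.{u}) (y : Y ⟶ Spec (CommRingCat.of k))
    [LocallyOfFiniteType y] [IsSeparated y] [QuasiCompact y] (I₀ : Y.IdealSheafData)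
    (hproj : ∃ (n : ℕ) (c : I₀.subscheme ⟶ CohB1.ProjSpaceOver n (Spec (CommRingCat.of k))),
      IsClosedImmersion c ∧ c ≫ CohB1.ProjSpaceOver.toBase n (Spec (CommRingCat.of k)) = I₀.subschemeι ≫ y) :
    ArtFun.IsProrepresentable (ArtFun.localHilb Y y I₀) := by
  letI : Y.Over (Spec (CommRingCat.of k)) := ⟨y⟩
  letI : I₀.subscheme.Over (Spec (CommRingCat.of k)) := ⟨I₀.subschemeι ≫ y⟩
  haveI : IsProper (I₀.subscheme ↘ Spec (CommRingCat.of k)) := Groth.Agent.NormalLib.isProper_of_projective _ hproj
  haveI : IsLocallyNoetherian Y := LocallyOfFiniteType.isLocallyNoetherian y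
  have h0 := Groth.Agent.ArtFunLib.HilbLeftExact.h0 y I₀
  have hl : ∀ {B A A' A'' : ArtFun.Art k k} (p' : B ⟶ A') (p'' : B ⟶ A'') (f' : A' ⟶ A) (f'' : A'' ⟶ A)
      (h : ArtFun.Art.IsFibreProd p' p'' f' f''),
        Function.Bijective (ArtFun.cmp (ArtFun.localHilb Y y I₀) h) :=
    fun p' p'' f' f'' h => Groth.Agent.ArtFunLib.HilbLeftExact.bijective_cmp I₀ p' p'' f' f'' h
  have h2 : ArtFun.Heps (ArtFun.localHilb Y y I₀) := fun _ _ p' p'' h => hl p' p'' _ _ h
  obtain ⟨T⟩ := Groth.Agent.ArtFunLib.nonempty_tangentStr h0 h2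
  letI := T
  refine (Groth.Agent.ArtFunLib.Hull.isProrepresentable_iff (fun c => ⟨c, rfl⟩) h0).2
    ⟨fun _ _ _ _ p' p'' f' f'' h _ => (hl p' p'' f' f'' h).2, h2, ?_, fun _ _ _ p₁ p₂ f h _ => hl p₁ p₂ f f h⟩
  letI : ArtFun.TangentStr (ArtFun.localHilb Y (Y ↘ Spec (CommRingCat.of k)) I₀) := T
  obtain ⟨e⟩ := Groth.Agent.ArtFunLib.HilbTangent.nonempty_tangentSpace_linearEquiv (k := k) (X := Y) I₀
  haveI := Groth.Agent.NormalLib.finite_hom (k := k) I₀ rfl
  exact Module.Finite.equiv e.symm

end Groth.Agent.S12261
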