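import Groth.Statements.S12263
import Groth.Agent.DefGlueLib.Rigid

set_option autoImplicit false
universe u
open CategoryTheory CategoryTheory.Limits AlgebraicGeometry
open Deform

namespace Groth.Agent.S12263

/-- Let k be an algebraically closed field and B₀ a finitely generated commutative k-algebra. Suppose
T^1_{B₀} = 0 in the form: every k-algebra extension of B₀ by the B₀-module B₀ (square-zero kernel)
is trivial. Then B₀ is rigid: every deformation of Spec B₀ over a local Artinian k-algebra A with
residue field k (a scheme flat over Spec A together with a cartesian square exhibiting Spec B₀ as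
the fibre over the closed point) is isomorphic, over Spec A and under Spec B₀, to the product
deformation Spec B₀ ×_k Spec A. (The published statement is for a k-algebra B₀, Noetherian by the
standing convention; this row takes B₀ finitely generated over k, the case covered by the results on
algebraic schemes that its proof cites. It also asserts a semiuniversal formal element when T^1_{B₀}
is finite-dimensional, in particular for isolated singularities; those clauses are instances of
results on all algebraic schemes and are not repeated here. The first-order deformations of B₀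
correspond to the k-algebra extensions of B₀ by B₀, the trivial deformation to the trivial
extension.) -/
theorem result
    {k : Type u} [Field k] [IsAlgClosed k] (B₀ : Type u) [CommRing B₀] [Algebra k B₀] [Algebra.FiniteType k B₀]
    (hT : ∀ E : Exal.Ext k B₀ B₀, E.IsTrivial) (A : ArtFun.Art k k)
    (ξ : ArtFun.DefSch (Spec (CommRingCat.of B₀)) (Spec.map (CommRingCat.ofHom (algebraMap k B₀))) A) :
    Nonempty (ξ.Iso (ArtFun.DefSch.trivial (Spec (CommRingCat.of B₀))
      (Spec.map (CommRingCat.ofHom (algebraMap k B₀))) inferInstance A)) := by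
  let X := Spec (CommRingCat.of B₀)
  let x : X ⟶ ArtFun.Art.specPt k := Spec.map (CommRingCat.ofHom (algebraMap k B₀))
  let _ : Algebra k Γ(X, ⊤) := (DefGlueLib.str x (DefGlueLib.topAZ X)).toAlgebra
  let e₀ : B₀ →+* Γ(X, ⊤) := (Scheme.ΓSpecIso (CommRingCat.of B₀)).inv.hom
  have he : Function.Bijective e₀ :=
    (ConcreteCategory.isIso_iff_bijective (Scheme.ΓSpecIso (CommRingCat.of B₀)).inv).1 inferInstance
  have hcomm : ∀ c, e₀ (algebraMap k B₀ c) = DefGlueLib.str x (DefGlueLib.topAZ X) c := fun c => by
    change _ = ((Scheme.ΓSpecIso (CommRingCat.of k)).inv ≫ x.appLE ⊤ ⊤ le_top).hom c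
    rw [show x.appLE ⊤ ⊤ le_top = x.appTop from Scheme.Hom.appLE_eq_app _, ← Scheme.ΓSpecIso_inv_naturality]
    rfl
  let e : B₀ ≃ₐ[k] Γ(X, ⊤) := AlgEquiv.ofBijective { e₀ with commutes' := hcomm } he
  obtain ⟨n, π, hπ⟩ := Algebra.FiniteType.iff_quotient_mvPolynomial''.1 ‹Algebra.FiniteType k B₀›
  let P := MvPolynomial (Fin n) k
  let _ : Algebra P Γ(X, ⊤) := (e.toAlgHom.comp π).toRingHom.toAlgebra
  have : IsScalarTower k P Γ(X, ⊤) := IsScalarTower.of_algebraMap_eq fun c => ((e.toAlgHom.comp π).commutes c).symm
  have hc : ∀ c : k, algebraMap k Γ(X, ⊤) c = DefGlueLib.str x (DefGlueLib.topAZ X) c := fun c => rfl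
  have hs : Function.Surjective (algebraMap P Γ(X, ⊤)) := e.surjective.comp hπ
  have ht : Subsingleton ((ArtFun.defFunctor (Λ := k) X x).obj (ArtFun.Art.dual k k)) := by
    refine subsingleton_of_forall_eq (DefGlueLib.tanOf k (P := P) hc hs 0) fun t => ?_
    obtain ⟨h, rfl⟩ := DefGlueLib.tanOf_surjective (Λ := k) (P := P) hc hs (fun {R} _ _ q hq => by
      refine ⟨MvPolynomial.aeval fun i => (hq (e (π (MvPolynomial.X i)))).choose, MvPolynomial.algHom_ext fun i => ?_⟩
      rw [AlgHom.comp_apply, MvPolynomial.aeval_X, (hq (e (π (MvPolynomial.X i)))).choose_spec]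
      rfl) t
    obtain ⟨D, hD⟩ := DefGlueLib.exists_derivation_of_isTrivial e hT hs h
    exact (DefGlueLib.tanOf_shift (P := P) hc hs _ _ D fun g => (zero_add _).trans (hD g).symm).symm
  exact DefGlueLib.cl_eq_iff.1 ((DefGlueLib.subsingleton_obj_of_subsingleton_tangent
    DefGlueLib.h0_defFunctor (fun _ _ _ _ _ _ _ _ h hf => DefGlueLib.surjective_cmp h hf.1)
    DefGlueLib.heps_defFunctor ht A).elim _ _)

end Groth.Agent.S12263
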