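import Groth.Statements.S12265
import Groth.Agent.ArtFunLib.HilbLinkApply
-- import your own Groth.Agent.* helpers here

set_option autoImplicit false
set_option linter.style.haveILetI false
universe u
open CategoryTheory CategoryTheory.Limits AlgebraicGeometry
attribute [local instance] HasDerivedCategory.standard
open Deform

namespace Groth.Agent.S12265

/-- Let k be an algebraically closed field and Y a projective k-scheme (separated, of finite type, with
a closed k-immersion into some P^m_k). Let (H, Z) represent the Hilbert functor of Y over k on
locally Noetherian k-schemes: H is locally Noetherian, Z ⊆ Y ×_k H is a closed subscheme proper and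
flat over H, and every closed subscheme of Y ×_k T proper and flat over a locally Noetherian
k-scheme T is the pullback of Z along a unique k-morphism T → H. Let i : X → Y be a closed immersion
over k, N = Hom_{O_X}(I/I², O_X) its normal sheaf (the sheaf Hom of the conormal sheaf, taken as a
right adjoint, assumed to exist) and h : Spec k → H the k-point classifying X, i.e. the pullback of
Z along h is X ⊆ Y ×_k Spec k. Then the Zariski tangent space of H at the point [X] = h(pt) and
H^0(X, N) have the same dimension: the dimension of m/m² over the residue field of the local ring of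
H at [X] equals dim_k H^0(X, N). (The published statement gives a canonical isomorphism T_{[X]} H ≅
H^0(X, N); this row records the equality of dimensions.) -/
theorem result
    {k : Type u} [Field k] [IsAlgClosed k] (Y : Scheme.{u}) (y : Y ⟶ Spec (CommRingCat.of k))
    [LocallyOfFiniteType y] [IsSeparated y] [QuasiCompact y]
    (hprojY : ∃ (m : ℕ) (c : Y ⟶ CohB1.ProjSpaceOver m (Spec (CommRingCat.of k))),
      IsClosedImmersion c ∧ c ≫ CohB1.ProjSpaceOver.toBase m (Spec (CommRingCat.of k)) = y)
    (H : Over (Spec (CommRingCat.of k))) (Z : FGA.HilbSet y H) (hH : FGA.HilbRepresentedBy y H Z)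
    (X : Scheme.{u}) [X.Over (Spec (CommRingCat.of k))] (i : X ⟶ Y) [IsClosedImmersion i] (hi : i ≫ y = X ↘ (Spec (CommRingCat.of k)))
    [DCoh.HasSheafHom (Omega.conormal i)]
    (h : Over.mk (𝟙 (Spec (CommRingCat.of k))) ⟶ H)
    (hh : FGA.hilbPull y h Z.1 = i.ker.comap (pullback.fst y (Over.mk (𝟙 (Spec (CommRingCat.of k)))).hom)) :
    Module.finrank (IsLocalRing.ResidueField (H.left.presheaf.stalk (h.left.base (IsLocalRing.closedPoint k))))
        (IsLocalRing.CotangentSpace (H.left.presheaf.stalk (h.left.base (IsLocalRing.closedPoint k)))) =
      Module.finrank k (Coh.HH X ((DCoh.sheafHom (Omega.conormal i)).obj (Coh.structureModule X)) 0) := by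
  letI : Y.Over (Spec (CommRingCat.of k)) := ⟨y⟩
  haveI : IsProper (Y ↘ Spec (CommRingCat.of k)) := Groth.Agent.NormalLib.isProper_of_projective y hprojY
  exact Groth.Agent.ArtFunLib.HilbLink.finrank_cotangentSpace_stalk (k := k) (P := Y) (Y := X) i hi hH h hh

end Groth.Agent.S12265
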