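import Groth.Statements.S12266
import Groth.Agent.HomTan29.Tangent
import Groth.Agent.PnCoh.Chow.Proper

set_option autoImplicit false
universe u
open CategoryTheory CategoryTheory.Limits MonoidalCategory CartesianMonoidalCategory AlgebraicGeometry
attribute [local instance] HasDerivedCategory.standard
open Deform

namespace Groth.Agent.S12266

/-- Let k be an algebraically closed field, X a reduced projective k-scheme (with a closed k-immersion
into some P^n_k) and Y a nonsingular quasi-projective k-scheme (smooth over k, with a k-immersion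
into some P^m_k). Suppose the k-scheme M together with υ : X ×_k M → Y over k represents the functor
of morphisms: for every k-scheme T and every k-morphism φ : X ×_k T → Y there is exactly one
k-morphism a : T → M with φ = υ ∘ (X ×_k a). Let f : X → Y be a k-morphism and a_f : Spec k → M the
k-point [f] classifying f (through X ×_k Spec k ≅ X). Then the Zariski tangent space of M at [f] has
the dimension of H^0(X, f^*T_Y): the dimension of m/m² over the residue field of the local ring of M
at [f] equals dim_k H^0(X, Hom_{O_X}(f^*Ω_{Y/k}, O_X)), the sheaf Hom (taken as a right adjoint,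
assumed to exist) of the pullback of the sheaf of differentials of Y over k, which is f^*T_Y as
Ω_{Y/k} is locally free. (The published statement gives a canonical isomorphism T_{[f]} Hom(X, Y) ≅
H^0(X, f^*T_Y) and adds that the obstruction space at [f] lies in H^1(X, f^*T_Y); this row records
the equality of dimensions.) -/
theorem result
    {k : Type u} [Field k] [IsAlgClosed k]
    (X : Scheme.{u}) [X.Over (Spec (CommRingCat.of k))] [IsReduced X]
    (hprojX : ∃ (n : ℕ) (c : X ⟶ CohB1.ProjSpaceOver n (Spec (CommRingCat.of k))),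
      IsClosedImmersion c ∧ c ≫ CohB1.ProjSpaceOver.toBase n (Spec (CommRingCat.of k)) = X ↘ (Spec (CommRingCat.of k)))
    (Y : Scheme.{u}) (yY : Y ⟶ (Spec (CommRingCat.of k))) [Smooth yY]
    (hqprojY : ∃ (m : ℕ) (c : Y ⟶ CohB1.ProjSpaceOver m (Spec (CommRingCat.of k))),
      IsImmersion c ∧ c ≫ CohB1.ProjSpaceOver.toBase m (Spec (CommRingCat.of k)) = yY)
    (M : Over (Spec (CommRingCat.of k))) (υ : Over.mk (X ↘ (Spec (CommRingCat.of k))) ⊗ M ⟶ Over.mk yY)
    (hM : ∀ (T : Over (Spec (CommRingCat.of k))) (φ : Over.mk (X ↘ (Spec (CommRingCat.of k))) ⊗ T ⟶ Over.mk yY),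
      ∃! a : T ⟶ M, (Over.mk (X ↘ (Spec (CommRingCat.of k))) ◁ a) ≫ υ = φ)
    (f : X ⟶ Y) (hf : f ≫ yY = X ↘ (Spec (CommRingCat.of k)))
    (af : 𝟙_ (Over (Spec (CommRingCat.of k))) ⟶ M)
    (haf : (Over.mk (X ↘ (Spec (CommRingCat.of k))) ◁ af) ≫ υ = (ρ_ (Over.mk (X ↘ (Spec (CommRingCat.of k))))).hom ≫ (Over.homMk f hf : Over.mk (X ↘ (Spec (CommRingCat.of k))) ⟶ Over.mk yY))
    [DCoh.HasSheafHom ((Scheme.Modules.pullback f).obj (Omega.sheaf yY))] :
    Module.finrank (IsLocalRing.ResidueField (M.left.presheaf.stalk (af.left.base (IsLocalRing.closedPoint k))))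
        (IsLocalRing.CotangentSpace (M.left.presheaf.stalk (af.left.base (IsLocalRing.closedPoint k)))) =
      Module.finrank k (Coh.HH X
        ((DCoh.sheafHom ((Scheme.Modules.pullback f).obj (Omega.sheaf yY))).obj (Coh.structureModule X)) 0) := by
  haveI : QuasiSeparated yY := by
    obtain ⟨m, c, hc, hcy⟩ := hqprojY
    rw [← hcy]
    haveI : IsImmersion c := hc
    haveI : IsProper (CohB1.ProjSpaceOver.toBase m (Spec (CommRingCat.of k))) :=
      MorphismProperty.of_isPullback (IsPullback.of_hasPullback (CohB1.ProjSpace.toSpec m (ULift.{u} ℤ))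
        (specULiftZIsTerminal.from (Spec (CommRingCat.of k)))) (Groth.Agent.PnCoh.Chow.isProper_toSpec m (ULift.{u} ℤ))
    infer_instance
  exact Groth.Agent.HomTan29.finrank_cotangentSpace (x := X ↘ Spec (CommRingCat.of k)) (y := yY) (f := f) rfl hf M υ hM af haf

end Groth.Agent.S12266
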