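import Groth.Statements.S12722
import Groth.Agent.ArtFunLib.VersalPS

set_option autoImplicit false
universe u v
open CategoryTheory
open ArtFun

namespace Groth.Agent.S12722

/-- (1) ⇔ (5): let Λ be a complete local Noetherian ring with residue field k. For a complete local
Noetherian Λ-algebra R with residue field k, the functor h_R on Artinian local Λ-algebras with
residue field k is smooth if and only if R is isomorphic over Λ to a power series ring Λ[[x₁, …,
xₙ]] for some n. -/
theorem result {Λ : Type u} {k : Type u} [CommRing Λ] [Field k] [Algebra Λ k]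
    [IsNoetherianRing Λ] [Module.Finite Λ k]
    [IsLocalRing Λ] [IsAdicComplete (IsLocalRing.maximalIdeal Λ) Λ]
    (hk : Function.Surjective (algebraMap Λ k)) (R : ArtFun.CRing Λ k) :
    ArtFun.IsSmoothFunctor (ArtFun.hR R.carrier R.res) ↔
      ∃ n : ℕ, Nonempty (R.carrier ≃ₐ[Λ] MvPowerSeries (Fin n) Λ) := by
  let R₀ : ArtFun.CRing Λ k :=
    { carrier := Λ, res := Algebra.ofId Λ k, res_surjective := hk, isAdicComplete := inferInstance }
  letI : Algebra R₀.carrier R.carrier := (inferInstanceAs (Algebra Λ R.carrier))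
  haveI : IsScalarTower Λ R₀.carrier R.carrier := IsScalarTower.of_algebraMap_eq fun l => rfl
  have hRS : R.res.comp (IsScalarTower.toAlgHom Λ R₀.carrier R.carrier) = R₀.res :=
    AlgHom.ext fun l => R.res.commutes l
  have hpt : ∀ (B : ArtFun.Art Λ k) (y y' : ArtFun.HomSet R₀.carrier R₀.res B), y = y' := fun B y y' =>
    Subtype.ext (AlgHom.ext fun l => (y.1.commutes l).trans (y'.1.commutes l).symm)
  have key : ArtFun.IsSmoothFunctor (ArtFun.hR R.carrier R.res) ↔ ArtFun.IsVersal
      ((ArtFun.Family.self R₀.carrier R₀.res).along (IsScalarTower.toAlgHom Λ R₀.carrier R.carrier) hRS) := by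
    constructor
    · intro h B A μ hμ φ y _
      obtain ⟨ψ, hψ⟩ := h μ hμ φ
      exact ⟨ψ, hψ, hpt _ _ _⟩
    · intro h B A μ hμ φ
      let y : ArtFun.HomSet R₀.carrier R₀.res B :=
        ⟨Algebra.ofId Λ B, AlgHom.ext fun l => B.res.commutes l⟩
      obtain ⟨ψ, hψ, -⟩ := h μ hμ φ y (hpt _ _ _)
      exact ⟨ψ, hψ⟩
  rw [key]
  constructor
  · intro h
    obtain ⟨n, ⟨e⟩⟩ := Groth.Agent.ArtFunLib.VersalPS.exists_powerSeries_of_isVersal R₀ R hRS h
    exact ⟨n, ⟨e⟩⟩
  · rintro ⟨n, ⟨e⟩⟩
    exact Groth.Agent.ArtFunLib.VersalPS.isVersal_of_powerSeries R₀ R hRS (n := n) e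

end Groth.Agent.S12722
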