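import Groth.Statements.S12268
import Groth.Agent.AffDefLib.HullBound
import Groth.Agent.PSLib.Basic
import Groth.Agent.S12722
import Groth.Agent.ArtFunLib.Hull.Criteria
import Groth.Agent.S12723
import Groth.Agent.S12721
import Groth.Agent.ArtFunLib.SmoothHull
-- import your own Groth.Agent.* helpers here

set_option autoImplicit false
universe u
open CategoryTheory CategoryTheory.Limits AlgebraicGeometry
open Deform

namespace Groth.Agent.S12268

set_option maxHeartbeats 1000000 in
/-- Let k be an algebraically closed field and B₀ a k-algebra with a finite presentation P =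
k[X_i]/(f_s); let T¹ = T¹(B₀/k, B₀) and T² = T²(B₀/k, B₀) be the first and second cotangent modules
computed from P, and assume T¹ is finite-dimensional over k. Then for every semiuniversal formal
deformation of Spec B₀ — a complete local Noetherian k-algebra R̄ with residue field k carrying a
miniversal family for the functor Def_{B₀} of isomorphism classes of deformations — one has dim R̄ ≤
dim_k T¹; if T² is finite-dimensional as well, dim_k T¹ ≤ dim R̄ + dim_k T²; and dim R̄ = dim_k T¹
holds exactly when Spec B₀ is unobstructed, i.e. Def_{B₀}(B) → Def_{B₀}(A) is surjective for every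
surjection B → A of local Artinian k-algebras with residue field k. (The published statement writes
the lower bound as dim_k T¹ − dim_k T² ≤ dim R̄, empty when T² is infinite-dimensional, and allows a
localisation of the polynomial ring as ambient algebra.) -/
theorem result
    {k : Type u} [Field k] [IsAlgClosed k] (B₀ : Type u) [CommRing B₀] [Algebra k B₀] {ι σ : Type u} [Finite ι] [Finite σ]
    (P : Algebra.Presentation k B₀ ι σ)
    [Module.Finite k (CotT.T1 P B₀)] (H : ArtFun.Hull (ArtFun.defFunctor (Λ := k) (Spec (CommRingCat.of B₀)) (Spec.map (CommRingCat.ofHom (algebraMap k B₀))))) :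
    ringKrullDim H.ring.carrier ≤ ((Module.finrank k (CotT.T1 P B₀) : ℕ∞) : WithBot ℕ∞) ∧
      (Module.Finite k (CotT.T2 P B₀) →
        ((Module.finrank k (CotT.T1 P B₀) : ℕ∞) : WithBot ℕ∞) ≤
          ringKrullDim H.ring.carrier + ((Module.finrank k (CotT.T2 P B₀) : ℕ∞) : WithBot ℕ∞)) ∧
      (ringKrullDim H.ring.carrier = ((Module.finrank k (CotT.T1 P B₀) : ℕ∞) : WithBot ℕ∞) ↔
        ArtFun.IsSmoothFunctor (ArtFun.defFunctor (Λ := k) (Spec (CommRingCat.of B₀)) (Spec.map (CommRingCat.ofHom (algebraMap k B₀))))) := by
  classical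
  let R := H.ring
  haveI := R.isAdicComplete
  have hm : RingHom.ker R.res = IsLocalRing.maximalIdeal R.carrier := Groth.Agent.ArtFunLib.SmoothHull.ker_res_eq R
  have hres : Function.Surjective ((IsLocalRing.residue R.carrier).comp (algebraMap k R.carrier)) := fun z => by
    obtain ⟨r, rfl⟩ := IsLocalRing.residue_surjective z
    refine ⟨R.res r, Ideal.Quotient.eq.2 ?_⟩
    rw [← hm, RingHom.mem_ker, map_sub, AlgHom.commutes]
    exact sub_self _
  let n := (IsLocalRing.maximalIdeal R.carrier).spanFinrank
  -- a presentation by power series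
  obtain ⟨π, hπ⟩ : ∃ π : MvPowerSeries (Fin n) k →ₐ[k] R.carrier, Function.Surjective π := by
    obtain ⟨s, hs, hspan⟩ := Submodule.FG.exists_span_finset_card_eq_spanFinrank
      (IsNoetherian.noetherian (IsLocalRing.maximalIdeal R.carrier))
    let b : Fin n → R.carrier := fun i => (s.equivFinOfCardEq hs).symm i
    have hb : ∀ i, b i ∈ IsLocalRing.maximalIdeal R.carrier := fun i =>
      hspan.le (Submodule.subset_span ((s.equivFinOfCardEq hs).symm i).2)
    obtain ⟨π, hπX⟩ := Groth.Agent.PSLib.exists_algHom (R := k) (IsLocalRing.maximalIdeal R.carrier) b hb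
    refine ⟨π, Groth.Agent.PSLib.surjective_of_span hres π (fun i => hπX i ▸ hb i) (le_sup_of_le_left ?_)⟩
    rw [← hspan]
    refine Submodule.span_le.2 fun x hx => Submodule.subset_span ⟨s.equivFinOfCardEq hs ⟨x, hx⟩, ?_⟩
    show π (MvPowerSeries.X _) = x
    rw [hπX]
    simp [b]
  haveI := Groth.Agent.PSLib.isRegularLocalRing k n
  -- tangent space
  obtain ⟨Ψ⟩ := Groth.Agent.AffDefLib.nonempty_dual_cotangent_equiv P hm H.family H.miniversal.2
  let κ := IsLocalRing.ResidueField R.carrier
  have hκ : Function.Bijective (algebraMap k κ) := ⟨(algebraMap k κ).injective, hres⟩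
  have hrk : Module.finrank k (IsLocalRing.maximalIdeal R.carrier).Cotangent = n := by
    rw [show n = Module.finrank κ (IsLocalRing.CotangentSpace R.carrier) from
      IsLocalRing.spanFinrank_maximalIdeal_eq_finrank_cotangentSpace ..]
    refine congrArg Cardinal.toNat ?_
    exact rank_eq_of_equiv_equiv (algebraMap k κ)
      (AddEquiv.refl (IsLocalRing.maximalIdeal R.carrier).Cotangent) hκ
      fun c x => (algebraMap_smul R.carrier c x).symm
  haveI : Module.Finite k (IsLocalRing.maximalIdeal R.carrier).Cotangent := by
    refine Module.finite_of_rank_eq_nat (R := k) (n := n) ?_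
    rw [rank_eq_of_equiv_equiv (algebraMap k κ)
      (AddEquiv.refl (IsLocalRing.maximalIdeal R.carrier).Cotangent) hκ
      fun c x => (algebraMap_smul R.carrier c x).symm]
    rw [show n = Module.finrank κ (IsLocalRing.CotangentSpace R.carrier) from
      IsLocalRing.spanFinrank_maximalIdeal_eq_finrank_cotangentSpace ..]
    exact (Module.finrank_eq_rank κ (IsLocalRing.CotangentSpace R.carrier)).symm
  have hT1 : Module.finrank k (CotT.T1 P B₀) = n := by
    rw [← Ψ.finrank_eq, Subspace.dual_finrank_eq, hrk]
  rw [hT1]
  have hle : ringKrullDim R.carrier ≤ ((n : ℕ∞) : WithBot ℕ∞) :=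
    (ringKrullDim_le_spanFinrank_maximalIdeal R.carrier)
  refine ⟨hle, fun hT2 => ?_, ?_⟩
  · haveI := hT2
    obtain ⟨S, _, _, _, π', hπ', hJ⟩ :=
      Groth.Agent.ArtFunLib.ObsBound.exists_minimal_aux _ (MvPowerSeries (Fin n) k) R.carrier π hπ le_rfl
    obtain ⟨s, hs, hcard⟩ := Groth.Agent.AffDefLib.exists_generators P H.family H.miniversal.1 π' hπ' hJ
    have hn : (n : WithBot ℕ∞) ≤ ringKrullDim S := by
      rw [← (isRegularLocalRing_iff S).1 inferInstance]
      have h1 : n ≤ (IsLocalRing.maximalIdeal S).spanFinrank := by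
        have h2 := Ideal.spanFinrank_map_le_of_fg π'.toRingHom (IsLocalRing.maximalIdeal S).fg_of_isNoetherianRing
        rwa [IsLocalRing.map_maximalIdeal_of_surjective π'.toRingHom hπ'] at h2
      exact_mod_cast h1
    have hdim := ringKrullDim_le_ringKrullDim_quotient_add_card s (R := S) fun x hx => by
      rw [IsLocalRing.ringJacobson_eq_maximalIdeal]
      exact Ideal.pow_le_self two_ne_zero (hJ (hs ▸ Ideal.subset_span hx))
    rw [ringKrullDim_eq_of_ringEquiv
      ((Ideal.quotEquivOfEq hs).trans (RingHom.quotientKerEquivOfSurjective (f := π'.toRingHom) hπ'))] at hdim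
    refine (hn.trans hdim).trans (add_le_add le_rfl ?_)
    exact_mod_cast hcard
  · haveI : IsAdicComplete (IsLocalRing.maximalIdeal k) k := by
      rw [IsLocalRing.maximalIdeal_eq_bot]
      infer_instance
    have hh0 := Groth.Agent.ArtFunLib.Hull.h0_of_tangent_surjective H.family H.miniversal.2.2
    rw [Groth.Agent.S12723.result hh0 R H.family H.miniversal.1, ← Groth.Agent.S12721.result R,
      Groth.Agent.S12722.result (Function.surjective_id) R]
    constructor
    · intro h
      exact ⟨n, ⟨(AlgEquiv.ofBijective π (Groth.Agent.PSLib.bijective_of_surjective k n π.toRingHom hπ h)).symm⟩⟩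
    · rintro ⟨m, ⟨e⟩⟩
      haveI := Groth.Agent.PSLib.isRegularLocalRing k m
      haveI : IsRegularLocalRing R.carrier := IsRegularLocalRing.of_ringEquiv e.symm.toRingEquiv
      exact ((isRegularLocalRing_iff R.carrier).1 inferInstance).symm


end Groth.Agent.S12268
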