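import Groth.Statements.S12269
import Groth.Agent.CotTLib.SmoothVanish

set_option autoImplicit false
universe u
open CategoryTheory
open Deform

namespace Groth.Agent.S12269

open CotT CotTLib

theorem lift_eq_zero {k B : Type u} [Field k] [CommRing B] [Algebra k B] {ι σ : Type u} [Finite ι]
    (P : Algebra.Presentation k B ι σ) [IsReduced B] (φ : L2 P →ₗ[B] B) (x : L2 P) (hx : d2 P x = 0) : φ x = 0 := by
  obtain ⟨q, rfl⟩ := cl_surjective P x
  rw [d2_cl] at hx
  let π := algebraMap P.toExtension.Ring B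
  have hπ : Function.Surjective π := algebraMap_surjective P
  have hcoef : ∀ s, π (q.1 s) = 0 := fun s => by
    rw [← L1basis_repr_toL1, hx, map_zero]
    rfl
  have hf : Ideal.span (Set.range (rel P)) = RingHom.ker π := P.span_range_relation_eq_ker.trans rfl
  have : IsRegularRing P.toExtension.Ring := inferInstanceAs (IsRegularRing (MvPolynomial ι k))
  have hnil : φ (cl P q) ∈ nilradical B := by
    rw [nilradical, Ideal.zero_eq_bot, ← Ideal.sInf_minimalPrimes]
    refine Submodule.mem_sInf.2 fun (p : Ideal B) (hp : p ∈ Ideal.minimalPrimes ⊥) => ?_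
    have hpP : p.IsPrime := hp.1.1
    let p₀ : Ideal P.toExtension.Ring := Ideal.comap π p
    have hker : RingHom.ker π ≤ p₀ := fun r hr => by
      show π r ∈ p
      rw [RingHom.mem_ker.1 hr]
      exact zero_mem p
    have : IsRegularLocalRing (Localization.AtPrime p₀) := IsRegularRing.isRegularLocalRing_localization p₀
    have : IsRegularLocalRing (Localization.AtPrime p) := by
      have hF : IsField (Localization.AtPrime p) := by
        rw [IsLocalRing.isField_iff_maximalIdeal_eq, ← Localization.AtPrime.map_eq_maximalIdeal,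
          ← IsLocalization.AtPrime.radical_map_of_mem_minimalPrimes (A := Localization.AtPrime p) p ⊥ hp,
          Ideal.map_bot]
        exact nilradical_eq_zero _
      let := hF.toField
      infer_instance
    let ρ : Localization.AtPrime p₀ →+* Localization.AtPrime p := Localization.localRingHom p₀ p π rfl
    have hρ : Function.Surjective ρ := by
      intro z
      obtain ⟨b, s, rfl⟩ := IsLocalization.exists_mk'_eq p.primeCompl z
      obtain ⟨b, rfl⟩ := hπ b
      obtain ⟨s₀, hs₀⟩ := hπ s.1
      have hs₀p : s₀ ∈ p₀.primeCompl := fun hmem => s.2 (hs₀ ▸ hmem)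
      refine ⟨IsLocalization.mk' _ b (⟨s₀, hs₀p⟩ : p₀.primeCompl), ?_⟩
      rw [Localization.localRingHom_mk']
      congr 1
      exact Subtype.ext hs₀
    let al := algebraMap P.toExtension.Ring (Localization.AtPrime p₀)
    have hspan : Ideal.span (Set.range (al ∘ rel P)) = RingHom.ker ρ := by
      refine le_antisymm (Ideal.span_le.2 ?_) fun z hz => ?_
      · rintro _ ⟨i, rfl⟩
        rw [SetLike.mem_coe, RingHom.mem_ker, Function.comp_apply, Localization.localRingHom_to_map,
          show π (rel P i) = 0 from hf.le (Ideal.subset_span ⟨i, rfl⟩), map_zero]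
      · obtain ⟨a, t, rfl⟩ := IsLocalization.exists_mk'_eq p₀.primeCompl z
        rw [RingHom.mem_ker, Localization.localRingHom_mk', IsLocalization.mk'_eq_zero_iff] at hz
        obtain ⟨c, hc⟩ := hz
        obtain ⟨c₀, hc₀⟩ := hπ c.1
        have hc₀p : c₀ ∈ p₀.primeCompl := fun hmem => c.2 (hc₀ ▸ hmem)
        have hmem : c₀ * a ∈ Ideal.span (Set.range (rel P)) := by
          rw [hf, RingHom.mem_ker, map_mul, hc₀]; exact hc
        have h5 : al (c₀ * a) ∈ Ideal.span (Set.range (al ∘ rel P)) := by
          rw [Set.range_comp, ← Ideal.map_span]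
          exact Ideal.mem_map_of_mem _ hmem
        rw [map_mul] at h5
        rw [IsLocalization.mk'_eq_mul_mk'_one]
        exact Ideal.mul_mem_right _ _ ((Ideal.unit_mul_mem_iff_mem _
          (IsLocalization.map_units (Localization.AtPrime p₀) (⟨c₀, hc₀p⟩ : p₀.primeCompl))).1 h5)
    have hlc : Finsupp.linearCombination (Localization.AtPrime p₀) (al ∘ rel P)
        (q.1.mapRange al (map_zero _)) = 0 := by
      have h6 : ∀ g : σ →₀ P.toExtension.Ring, Finsupp.linearCombination (Localization.AtPrime p₀) (al ∘ rel P)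
          (g.mapRange al (map_zero _)) = al (Finsupp.linearCombination P.toExtension.Ring (rel P) g) := fun g => by
        induction g using Finsupp.induction_linear with
        | zero => simp
        | add a b ha hb => rw [Finsupp.mapRange_add (map_add _), map_add, map_add, map_add, ha, hb]
        | single i c => simp
      rw [h6, show Finsupp.linearCombination P.toExtension.Ring (rel P) q.1 = 0 from q.2, map_zero]
    obtain ⟨s, hs, hsq⟩ := exists_smul_mem_triv (rel P) p₀ (Rp := Localization.AtPrime p₀) q.1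
      (mem_triv_of_regSurj ρ hρ _ hspan _ hlc fun i => by
        rw [Finsupp.mapRange_apply, Localization.localRingHom_to_map, hcoef, map_zero])
    have h0 : cl P (s • q) = 0 := cl_eq_zero P hsq
    rw [cl_smul] at h0
    have h1 : π s * φ (cl P q) = 0 := by
      rw [← smul_eq_mul, ← map_smul, h0, map_zero]
    exact (hpP.mem_or_mem (h1 ▸ zero_mem p : π s * φ (cl P q) ∈ p)).resolve_left hs
  exact IsReduced.eq_zero _ hnil

theorem exists_equiv {B : Type u} [CommRing B] {L₂ L₁ C : Type u} [AddCommGroup L₂] [Module B L₂]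
    [AddCommGroup L₁] [Module B L₁] [AddCommGroup C] [Module B C] {σ : Type u} (b : Module.Basis σ B L₁)
    (d : L₂ →ₗ[B] L₁) (t : L₁ →ₗ[B] C) (ht : Function.Surjective t)
    (hk : LinearMap.ker t = LinearMap.range d) (hd : ∀ (φ : L₂ →ₗ[B] B) (x : L₂), d x = 0 → φ x = 0) :
    Nonempty (((L₂ →ₗ[B] B) ⧸ LinearMap.range (LinearMap.lcomp B B d)) ≃ₗ[B]
      Abelian.Ext.{u} (ModuleCat.of B C) (ModuleCat.of B B) 1) := by
  let K : Submodule B (L₁) := LinearMap.range d
  let S : ShortComplex (ModuleCat.{u} B) := ShortComplex.mk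
    (ModuleCat.ofHom K.subtype : ModuleCat.of B K ⟶ ModuleCat.of B (L₁))
    (ModuleCat.ofHom t : ModuleCat.of B (L₁) ⟶ ModuleCat.of B C)
    (ModuleCat.hom_ext (LinearMap.ext fun x => by
      exact LinearMap.mem_ker.1 (hk.ge x.2 : (x : L₁) ∈ LinearMap.ker t)))
  have hS : S.ShortExact :=
    { exact := by
        rw [ShortComplex.moduleCat_exact_iff]
        intro x hx
        exact ⟨⟨x, hk.le (LinearMap.mem_ker.2 hx)⟩, rfl⟩
      mono_f := (ModuleCat.mono_iff_injective _).2 Subtype.val_injective
      epi_g := (ModuleCat.epi_iff_surjective _).2 ht }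
  let Y : ModuleCat.{u} B := ModuleCat.of B B
  let δ : (K →ₗ[B] B) →ₗ[B] Abelian.Ext S.X₃ Y 1 :=
    { toFun := fun f => hS.extClass.comp (Abelian.Ext.mk₀ (ModuleCat.ofHom f : S.X₁ ⟶ Y)) (add_zero 1)
      map_add' := fun f g => by
        rw [show (ModuleCat.ofHom (f + g) : S.X₁ ⟶ Y) = ModuleCat.ofHom f + ModuleCat.ofHom g from rfl,
          Abelian.Ext.mk₀_add, Abelian.Ext.comp_add]
      map_smul' := fun c f => by
        rw [show (ModuleCat.ofHom (c • f) : S.X₁ ⟶ Y) = c • ModuleCat.ofHom f from rfl,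
          Abelian.Ext.mk₀_smul, Abelian.Ext.comp_smul, RingHom.id_apply] }
  have hδ : Function.Surjective δ := by
    intro z
    have : Projective S.X₂ :=
      have : Module.Free B (L₁) := Module.Free.of_basis b
      ModuleCat.projective_of_free b
    obtain ⟨x₁, hx₁⟩ := Abelian.Ext.contravariant_sequence_exact₃ hS Y z
      (Abelian.Ext.eq_zero_of_projective _) (add_zero 1)
    obtain ⟨f, rfl⟩ := (Abelian.Ext.addEquiv₀).symm.surjective x₁
    exact ⟨f.hom, hx₁⟩
  have hker : ∀ f : K →ₗ[B] B, δ f = 0 ↔ ∃ g : L₁ →ₗ[B] B, f = g ∘ₗ K.subtype := by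
    intro f
    constructor
    · intro h
      obtain ⟨x₂, hx₂⟩ := Abelian.Ext.contravariant_sequence_exact₁ hS Y _ (add_zero 1) h
      obtain ⟨g, rfl⟩ := (Abelian.Ext.addEquiv₀).symm.surjective x₂
      have h2 : S.f ≫ g = (ModuleCat.ofHom f : S.X₁ ⟶ Y) := Abelian.Ext.addEquiv₀.symm.injective
        ((Abelian.Ext.mk₀_comp_mk₀ S.f g).symm.trans hx₂)
      exact ⟨g.hom, (congrArg ModuleCat.Hom.hom h2).symm⟩
    · rintro ⟨g, rfl⟩
      show hS.extClass.comp (Abelian.Ext.mk₀ (S.f ≫ (ModuleCat.ofHom g : S.X₂ ⟶ Y))) (add_zero 1) = 0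
      rw [← Abelian.Ext.mk₀_comp_mk₀, ShortComplex.ShortExact.extClass_comp_assoc]
  have hlift : ∀ φ : L₂ →ₗ[B] B, LinearMap.ker d.rangeRestrict ≤ LinearMap.ker φ := fun φ x hx =>
    hd φ x (congrArg Subtype.val (LinearMap.mem_ker.1 hx))
  let j : (L₂ →ₗ[B] B) ≃ₗ[B] (K →ₗ[B] B) := (LinearEquiv.ofBijective
    (LinearMap.lcomp B B d.rangeRestrict)
    ⟨fun a b h => LinearMap.ext fun y => by
      obtain ⟨x, rfl⟩ := LinearMap.surjective_rangeRestrict d y
      exact LinearMap.congr_fun h x,
     fun φ => ⟨(LinearMap.ker d.rangeRestrict).liftQ φ (hlift φ) ∘ₗ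
        (d.rangeRestrict.quotKerEquivOfSurjective (LinearMap.surjective_rangeRestrict _)).symm.toLinearMap,
      LinearMap.ext fun x => by
        show (LinearMap.ker d.rangeRestrict).liftQ φ (hlift φ) (LinearEquiv.symm _ (d.rangeRestrict x)) = φ x
        rw [LinearMap.quotKerEquivOfSurjective_symm_apply]
        rfl⟩⟩).symm
  let Φ : (L₂ →ₗ[B] B) →ₗ[B] Abelian.Ext S.X₃ Y 1 := δ ∘ₗ j.toLinearMap
  have hΦs : Function.Surjective Φ := hδ.comp j.surjective
  have hΦk : LinearMap.ker Φ = LinearMap.range (LinearMap.lcomp B B d) := by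
    ext φ
    rw [LinearMap.mem_ker, LinearMap.mem_range]
    refine (hker (j φ)).trans ⟨fun ⟨g, hg⟩ => ⟨g, ?_⟩, fun ⟨g, hg⟩ => ⟨g, ?_⟩⟩
    · rw [← j.symm_apply_apply φ, hg]
      rfl
    · exact (LinearEquiv.eq_symm_apply _).1 (by rw [← hg]; rfl)
  exact ⟨(Submodule.quotEquivOfEq _ _ hΦk.symm).trans (Φ.quotKerEquivOfSurjective hΦs)⟩


/-- Let k be an algebraically closed field and B₀ a reduced k-algebra given with a finite presentation P
= k[X_i]/I (finitely many variables and relations); let T² = T²(B₀/k, B₀) be the second cotangent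
module computed from P and I/I² the conormal module of the presentation. Then T² and Ext¹_{B₀}(I/I²,
B₀) are isomorphic B₀-modules (existence of a B₀-linear isomorphism; the published one is induced by
the chosen presentation). (The published statement allows the quotient of any smooth k-algebra; this
row takes a polynomial presentation.) -/
theorem result
    {k : Type u} [Field k] [IsAlgClosed k] (B₀ : Type u) [CommRing B₀] [Algebra k B₀] {ι σ : Type u} [Finite ι] [Finite σ]
    (P : Algebra.Presentation k B₀ ι σ) [IsReduced B₀] :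
    Nonempty (CotT.T2 P B₀ ≃ₗ[B₀]
      Abelian.Ext (ModuleCat.of B₀ P.toExtension.Cotangent) (ModuleCat.of B₀ B₀) 1) := by
  exact exists_equiv (L1basis P) (d2 P) (toCot P) (toCot_surjective P) (ker_toCot P) fun φ x hx =>
    lift_eq_zero P φ x hx

end Groth.Agent.S12269
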