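import Groth.Statements.S1227
import Mathlib

set_option autoImplicit false
universe u
open FlatMor

namespace Groth.Agent.S1227

open TensorProduct in
/-- Let u be a surjective linear map from a projective A-module M to an A-module N. Then there is an
ideal I of A such that for every A-algebra B, the base change u ⊗ 1 from B ⊗ M to B ⊗ N is bijective
if and only if the image of I in B is zero. -/
theorem result {A : Type u} [CommRing A] {M N : Type u} [AddCommGroup M] [Module A M] [Module.Projective A M]
    [AddCommGroup N] [Module A N] (u : M →ₗ[A] N) (hu : Function.Surjective u) :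
    ∃ I : Ideal A, ∀ (B : Type u) [CommRing B] [Algebra A B],
      Function.Bijective (u.baseChange B) ↔ I.map (algebraMap A B) = ⊥ := by
  let I : Ideal A := Ideal.span (Set.range fun q : LinearMap.ker u × Module.Dual A M => q.2 q.1.1)
  refine ⟨I, fun B _ _ => ?_⟩
  let inc := (LinearMap.ker u).subtype
  have hex : Function.Exact (inc.lTensor B) (u.lTensor B) :=
    lTensor_exact B (LinearMap.exact_subtype_ker_map u) hu
  have hsur : Function.Surjective (u.baseChange B) := LinearMap.lTensor_surjective B hu
  obtain ⟨s, hs⟩ := Module.projective_def'.mp ‹Module.Projective A M›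
  constructor
  · intro hb
    rw [Ideal.map_span, Ideal.span_eq_bot]
    rintro _ ⟨_, ⟨⟨k, φ⟩, rfl⟩, rfl⟩
    have h0 : (1 : B) ⊗ₜ[A] k.1 = 0 := by
      refine hb.1 ?_
      rw [map_zero, LinearMap.baseChange_tmul, show u k.1 = 0 from k.2, TensorProduct.tmul_zero]
    have h2 := congrArg (fun z => TensorProduct.rid A B (φ.lTensor B z)) h0
    simpa [Algebra.smul_def] using h2
  · intro hI
    refine ⟨?_, hsur⟩
    rw [injective_iff_map_eq_zero]
    intro z hz
    obtain ⟨w, rfl⟩ := (hex z).mp hz
    clear hz
    induction w using TensorProduct.induction_on with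
    | zero => simp
    | add a b ha hb => rw [map_add, ha, hb, add_zero]
    | tmul b k =>
      have hM : k.1 = Finsupp.linearCombination A id (s k.1) := (LinearMap.congr_fun hs k.1).symm
      show b ⊗ₜ[A] k.1 = 0
      rw [hM, Finsupp.linearCombination_apply, Finsupp.sum, TensorProduct.tmul_sum]
      refine Finset.sum_eq_zero fun i _ => ?_
      have hc : algebraMap A B (s k.1 i) = 0 := by
        have hmem : s k.1 i ∈ I :=
          Ideal.subset_span ⟨(k, (Finsupp.lapply i).comp s), rfl⟩
        have := Ideal.mem_map_of_mem (algebraMap A B) hmem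
        rwa [hI, Ideal.mem_bot] at this
      rw [← TensorProduct.smul_tmul, Algebra.smul_def, hc, zero_mul, TensorProduct.zero_tmul]

end Groth.Agent.S1227
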