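import Groth.Statements.S12270
import Groth.Agent.QuotSm29.Smooth
import Groth.Agent.PnCoh.Chow.Proper

set_option autoImplicit false
universe u
open CategoryTheory CategoryTheory.Limits AlgebraicGeometry
open Deform

namespace Groth.Agent.S12270

/-- Let k be an algebraically closed field, S a separated k-scheme of finite type, x : X → S a
projective morphism (X admits a closed immersion over S into some P^n_S), and H a coherent
O_X-module flat over S. Let (Q, K_u) represent the Quot functor of H over S on locally Noetherian
S-schemes: Q → S with Q locally Noetherian, K_u ⊆ H_Q a submodule on X ×_S Q with coherent Q-flat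
quotient, and every submodule of H_T with coherent T-flat quotient (T locally Noetherian over S) is
the pullback of K_u along a unique S-morphism T → Q. Let s : Spec k → S be a k-rational point of S,
K ⊆ H(s) a submodule on the fibre X(s) = X ×_S Spec k with coherent quotient F(s) (the restriction
to the fibre of a point q of Q over s: by flatness its kernel is K(s)), g : Spec k → Q the
corresponding point q over s, and suppose Ext¹_{O_{X(s)}}(K(s), F(s)) = 0. Then the projection π : Q
→ S is smooth at q: there is an open subscheme U of Q containing q such that U → S is smooth. (The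
published statement also gives the exact sequence 0 → Hom(K(s), F(s)) → t_q Q → t_s S → Ext¹(K(s),
F(s)) and places the kernel of the obstruction map of π at q inside Ext¹(K(s), F(s)); its corollary
adds the relative dimension dim Hom(K(s), F(s)). This row keeps the smoothness conclusion.) -/
theorem result
    {k : Type u} [Field k] [IsAlgClosed k] (S : Scheme.{u}) (σ : S ⟶ (Spec (CommRingCat.of k)))
    [LocallyOfFiniteType σ] [IsSeparated σ] [QuasiCompact σ]
    (X : Scheme.{u}) (x : X ⟶ S)
    (hprojX : ∃ (n : ℕ) (c : X ⟶ CohB1.ProjSpaceOver n S), IsClosedImmersion c ∧ c ≫ CohB1.ProjSpaceOver.toBase n S = x)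
    (H : X.Modules) (hH : Coh.IsCoh H) (hHflat : FlatMod.IsFlatOver x H)
    (Q : Over S) (Ku : FGA.QuotSet x H Q) (hQ : FGA.QuotRepresentedBy x H Q Ku)
    (s : (Spec (CommRingCat.of k)) ⟶ S) (hs : s ≫ σ = 𝟙 _)
    (K₀ : FGA.QuotSet x H (Over.mk s)) (g : (Over.mk s) ⟶ Q) (hg : FGA.quotPull x H g Ku.1 = K₀.1)
    [HasExt.{u} (PicF.XT x (Over.mk s)).Modules]
    (hExt : Subsingleton (Abelian.Ext.{u} (Subobject.underlying.obj K₀.1) (cokernel K₀.1.arrow) 1)) :
    ∃ U : Q.left.Opens, g.left.base (IsLocalRing.closedPoint k) ∈ U ∧ Smooth (U.ι ≫ Q.hom) := by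
  obtain ⟨n, c, _, hc⟩ := hprojX
  haveI : IsProper x := by
    rw [← hc]
    haveI : IsProper (CohB1.ProjSpaceOver.toBase n S) :=
      MorphismProperty.pullback_snd _ _ (Groth.Agent.PnCoh.Chow.isProper_toSpec n _)
    infer_instance
  exact Groth.Agent.QuotSm29.exists_open_smooth σ x hH hHflat Ku hQ s hs K₀ g hg hExt

end Groth.Agent.S12270
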