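import Groth.Statements.S9443
import Groth.Agent.PSLib.Regular

set_option autoImplicit false
universe u
open CAlg

namespace Groth.Agent.S9443

/-- A complete regular local ring R with a coefficient field k (a subfield mapping isomorphically onto
the residue field) is k-isomorphic to a power series ring over k in finitely many variables
(existence of an isomorphism only; the number of variables is then the dimension of R). -/
theorem result (R : Type u)
    [CommRing R] [IsRegularLocalRing R] [IsAdicComplete (IsLocalRing.maximalIdeal R) R]
    (k : Type u) [Field k] [Algebra k R]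
    (hk : Function.Bijective (algebraMap k (IsLocalRing.ResidueField R))) :
    ∃ d : ℕ, Nonempty (R ≃ₐ[k] MvPowerSeries (Fin d) k) := by
  classical
  obtain ⟨s, hs, hspan⟩ := Submodule.FG.exists_span_finset_card_eq_spanFinrank
    (IsNoetherian.noetherian (IsLocalRing.maximalIdeal R))
  let b : Fin s.card → R := fun i => (s.equivFin.symm i : R)
  have hrange : Set.range b = (s : Set R) := by
    ext x
    constructor
    · rintro ⟨i, rfl⟩; exact (s.equivFin.symm i).2
    · intro hx; exact ⟨s.equivFin ⟨x, hx⟩, by simp [b]⟩
  have hb : ∀ i, b i ∈ IsLocalRing.maximalIdeal R := fun i =>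
    hspan ▸ Submodule.subset_span (hrange ▸ Set.mem_range_self i)
  obtain ⟨ψ, hψ⟩ := PSLib.exists_algHom (R := k) (IsLocalRing.maximalIdeal R) b hb
  have hψ' : ∀ i, ψ (MvPowerSeries.X i) ∈ IsLocalRing.maximalIdeal R := fun i => hψ i ▸ hb i
  have hres : Function.Surjective ((IsLocalRing.residue R).comp (algebraMap k R)) := hk.2
  have hgen : IsLocalRing.maximalIdeal R ≤
      Ideal.span (Set.range fun i => ψ (MvPowerSeries.X i)) ⊔ IsLocalRing.maximalIdeal R ^ 2 := by
    refine le_trans ?_ le_sup_left
    rw [funext hψ, hrange]
    exact hspan.ge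
  have hsurj := PSLib.surjective_of_span hres ψ hψ' hgen
  have hbij := PSLib.bijective_of_surjective k s.card (ψ : MvPowerSeries (Fin s.card) k →+* R) hsurj
    (by rw [← IsRegularLocalRing.spanFinrank_maximalIdeal, hs])
  exact ⟨s.card, ⟨(AlgEquiv.ofBijective ψ hbij).symm⟩⟩


end Groth.Agent.S9443
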