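import Groth.Statements.S12271
import Groth.Agent.ArtFunLib.HilbTangent
import Groth.Agent.ArtFunLib.TangentDim
import Groth.Agent.NormalLib.Imm
import Groth.Agent.S12722
import Groth.Agent.S9443
import Groth.Agent.ArtFunLib.HilbObsApply
import Groth.Agent.ArtFunLib.ObsBound

set_option autoImplicit false
universe u
open CategoryTheory CategoryTheory.Limits AlgebraicGeometry
attribute [local instance] HasDerivedCategory.standard
open Deform

namespace Groth.Agent.S12271

/-- Let k be an algebraically closed field, Y a separated k-scheme of finite type and i : X → Y a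
regular closed immersion over k (its ideal is locally generated by a regular sequence) with X
projective over k; let N = Hom_{O_X}(I/I², O_X) be the normal sheaf (sheaf Hom of the conormal sheaf
of i, as a right adjoint, assumed to exist). Let R̄ be a complete local Noetherian k-algebra with
residue field k prorepresenting the local Hilbert functor of X in Y (closed subschemes of Y ×_k Spec
A flat over A restricting to X, X ⊆ Y given by the kernel ideal of i), i.e. carrying a universal
family — the formal universal deformation of X in Y. Then dim R̄ ≤ h⁰(X, N); h⁰(X, N) ≤ dim R̄ +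
h¹(X, N); and dim R̄ = h⁰(X, N) if and only if X is unobstructed in Y, i.e. the local Hilbert
functor takes every surjection B → A of local Artinian k-algebras with residue field k to a
surjective map. (The published statement writes the second bound as h⁰(N) − h¹(N) ≤ dim R̄.) -/
theorem result
    {k : Type u} [Field k] [IsAlgClosed k] (Y : Scheme.{u}) (y : Y ⟶ Spec (CommRingCat.of k))
    [LocallyOfFiniteType y] [IsSeparated y] [QuasiCompact y]
    (X : Scheme.{u}) [X.Over (Spec (CommRingCat.of k))] (i : X ⟶ Y) [IsClosedImmersion i] (hi : i ≫ y = X ↘ (Spec (CommRingCat.of k)))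
    (hreg : Mor2.IsRegularClosedImmersion i)
    (hproj : ∃ (n : ℕ) (c : X ⟶ CohB1.ProjSpaceOver n (Spec (CommRingCat.of k))),
      IsClosedImmersion c ∧ c ≫ CohB1.ProjSpaceOver.toBase n (Spec (CommRingCat.of k)) = X ↘ (Spec (CommRingCat.of k)))
    [DCoh.HasSheafHom (Omega.conormal i)]
    (R : ArtFun.ProRep (ArtFun.localHilb Y y i.ker)) :
    ringKrullDim R.ring.carrier ≤ ((Module.finrank k (Coh.HH X ((DCoh.sheafHom (Omega.conormal i)).obj (Coh.structureModule X)) 0) : ℕ∞) : WithBot ℕ∞) ∧
      ((Module.finrank k (Coh.HH X ((DCoh.sheafHom (Omega.conormal i)).obj (Coh.structureModule X)) 0) : ℕ∞) : WithBot ℕ∞) ≤ ringKrullDim R.ring.carrier + ((Module.finrank k (Coh.HH X ((DCoh.sheafHom (Omega.conormal i)).obj (Coh.structureModule X)) 1) : ℕ∞) : WithBot ℕ∞) ∧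
      (ringKrullDim R.ring.carrier = ((Module.finrank k (Coh.HH X ((DCoh.sheafHom (Omega.conormal i)).obj (Coh.structureModule X)) 0) : ℕ∞) : WithBot ℕ∞) ↔ ArtFun.IsSmoothFunctor (ArtFun.localHilb Y y i.ker)) := by
  letI : Y.Over (Spec (CommRingCat.of k)) := ⟨y⟩
  have h0 := Groth.Agent.ArtFunLib.HilbLeftExact.h0 y i.ker
  have h2 : ArtFun.Heps (ArtFun.localHilb Y y i.ker) := fun _ _ p' p'' h =>
    Groth.Agent.ArtFunLib.HilbLeftExact.bijective_cmp i.ker p' p'' _ _ h
  obtain ⟨T⟩ := Groth.Agent.ArtFunLib.nonempty_tangentStr h0 h2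
  letI := T
  letI : ArtFun.TangentStr (ArtFun.localHilb Y (Y ↘ Spec (CommRingCat.of k)) i.ker) := T
  obtain ⟨e⟩ := Groth.Agent.ArtFunLib.HilbTangent.nonempty_tangentSpace_linearEquiv (k := k) (X := Y) i.ker
  obtain ⟨e'⟩ := Groth.Agent.NormalLib.nonempty_normal_linearEquiv_imm (A := k) i hi
  have hn := Groth.Agent.ArtFunLib.TangentDim.finrank_tangentSpace R
  have hh : Module.finrank k (Coh.HH X ((DCoh.sheafHom (Omega.conormal i)).obj (Coh.structureModule X)) 0) =
      Module.finrank (IsLocalRing.ResidueField R.ring.carrier) (IsLocalRing.CotangentSpace R.ring.carrier) :=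
    ((e.trans e').finrank_eq).symm.trans hn
  rw [hh]
  have hadic : IsAdicComplete (IsLocalRing.maximalIdeal k) k := by
    rw [IsLocalRing.isField_iff_maximalIdeal_eq.1 (Field.toIsField k)]
    infer_instance
  have hps := Groth.Agent.S12722.result (Λ := k) (k := k) (fun c => ⟨c, rfl⟩) R.ring
  have hsm : ArtFun.IsSmoothFunctor (ArtFun.localHilb Y y i.ker) ↔
      ArtFun.IsSmoothFunctor (ArtFun.hR R.ring.carrier R.ring.res) := by
    constructor
    · intro h B A μ hμ φ
      obtain ⟨z, hz⟩ := h μ hμ (R.family.app A φ)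
      obtain ⟨φ', hφ'⟩ := (R.universal B).2 z
      exact ⟨φ', (R.universal A).1 ((R.family.natural μ φ').trans (by rw [hφ', hz]))⟩
    · intro h B A μ hμ z
      obtain ⟨φ, hφ⟩ := (R.universal A).2 z
      obtain ⟨φ', hφ'⟩ := h μ hμ φ
      exact ⟨R.family.app B φ', (R.family.natural μ φ').symm.trans ((congrArg (R.family.app A) hφ').trans hφ)⟩
  have hreg' : IsRegularLocalRing R.ring.carrier ↔ ∃ m : ℕ, Nonempty (R.ring.carrier ≃ₐ[k] MvPowerSeries (Fin m) k) := by
    constructor
    · intro h
      haveI := R.ring.isAdicComplete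
      refine Groth.Agent.S9443.result R.ring.carrier k ⟨(algebraMap k _).injective, fun c => ?_⟩
      obtain ⟨r, rfl⟩ := IsLocalRing.residue_surjective c
      refine ⟨R.ring.res r, Ideal.Quotient.eq.2 ?_⟩
      rw [ArtFun.CRing.mem_maximalIdeal_iff, map_sub, AlgHom.commutes]
      exact sub_self _
    · rintro ⟨m, ⟨ε⟩⟩
      haveI := Groth.Agent.PSLib.isRegularLocalRing k m
      exact IsRegularLocalRing.of_ringEquiv ε.symm.toRingEquiv
  haveI : IsLocallyNoetherian Y := LocallyOfFiniteType.isLocallyNoetherian y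
  haveI : IsProper (X ↘ Spec (CommRingCat.of k)) := Groth.Agent.NormalLib.isProper_of_projective _ hproj
  haveI := Groth.Agent.NormalLib.finite_normal_HH (k := k) i 1
  obtain ⟨ψ, hψs, hψ⟩ := Groth.Agent.T1Lift.exists_presentation R.ring
  haveI := Groth.Agent.PSLib.isRegularLocalRing k
    (Module.finrank (IsLocalRing.ResidueField R.ring.carrier) (IsLocalRing.CotangentSpace R.ring.carrier))
  have hker : RingHom.ker ψ ≤ IsLocalRing.maximalIdeal _ ^ 2 := fun g hg => by
    rw [Groth.Agent.PSLib.maximalIdeal_eq_vars]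
    refine Groth.Agent.PSLib.mem_pow_of_coeff_eq_zero 2 g fun d hd => ?_
    rcases Nat.lt_succ_iff_lt_or_eq.1 hd with h | h
    · obtain rfl : d = 0 := (Finsupp.degree_eq_zero_iff d).1 (Nat.lt_one_iff.1 h)
      rw [MvPowerSeries.coeff_zero_eq_constantCoeff_apply]
      by_contra hne
      exact not_isUnit_zero ((RingHom.mem_ker.1 hg) ▸ (MvPowerSeries.isUnit_iff_constantCoeff.2 (Ne.isUnit hne)).map ψ)
    · obtain ⟨l, rfl⟩ : ∃ l, d = Finsupp.single l 1 := by
        obtain ⟨l, hl⟩ : ∃ l, d l ≠ 0 := by
          by_contra hall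
          push Not at hall
          rw [show d = 0 from Finsupp.ext hall, map_zero] at h
          exact Nat.one_ne_zero h.symm
        obtain ⟨e, he⟩ : ∃ e, d = e + Finsupp.single l 1 :=
          ⟨d - Finsupp.single l 1,
            (tsub_add_cancel_of_le (Finsupp.single_le_iff.2 (Nat.one_le_iff_ne_zero.2 hl))).symm⟩
        rw [he, map_add, Finsupp.degree_single] at h
        refine ⟨l, ?_⟩
        rw [he, (Finsupp.degree_eq_zero_iff e).1 (by omega), zero_add]
      have h2 := (hψ g hg l).2
      rw [← MvPowerSeries.coeff_zero_eq_constantCoeff_apply, MvPowerSeries.coeff_pderiv] at h2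
      simpa using h2
  obtain ⟨eO⟩ := Groth.Agent.ArtFunLib.HilbObs.nonempty_ObSp_equiv_imm (k := k) i hi
  obtain ⟨T'⟩ := Groth.Agent.ArtFunLib.HilbObs.hasObsTheory_congr eO
    (Groth.Agent.ArtFunLib.HilbObs.hasObsTheory (k := k) (X := Y)
      (Groth.Agent.ArtFunLib.HilbObs.locReg_of_regular i hreg))
  let T₂ : ArtFun.ObsTheory (ArtFun.hR R.ring.carrier R.ring.res)
      (Coh.HH X ((DCoh.sheafHom (Omega.conormal i)).obj (Coh.structureModule X)) 1) :=
    { obs := fun p hp φ => T'.obs p hp (R.family.app _ φ)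
      obs_eq_zero_iff := fun {C' C} p hp φ => by
        refine (T'.obs_eq_zero_iff p hp (R.family.app _ φ)).trans ⟨?_, ?_⟩
        · rintro ⟨z, hz⟩
          obtain ⟨φ', rfl⟩ := (R.universal C').2 z
          exact ⟨φ', (R.universal C).1 ((R.family.natural p φ').trans hz)⟩
        · rintro ⟨φ', hφ'⟩
          exact ⟨R.family.app _ φ', (R.family.natural p φ').symm.trans (congrArg (R.family.app C) hφ')⟩
      obs_quot := fun p hp K hK hKJ hq φ => T'.obs_quot p hp K hK hKJ hq (R.family.app _ φ) }
  obtain ⟨hb1, hb2, -, -⟩ := Groth.Agent.ArtFunLib.ObsBound.bounds R.ring.res ψ hψs hker T₂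
  refine ⟨hb1, hb2, ?_⟩
  rw [hsm, hps, ← hreg', IsRegularLocalRing.iff_finrank_cotangentSpace]
  exact eq_comm

end Groth.Agent.S12271
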