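import Groth.Statements.S12277
import Groth.Agent.ArtFunLib.HilbCM
-- import your own Groth.Agent.* helpers here

set_option autoImplicit false
set_option linter.style.haveILetI false
universe u
open CategoryTheory CategoryTheory.Limits AlgebraicGeometry
open scoped TensorProduct
attribute [local instance] HasDerivedCategory.standard
open DefT

namespace Groth.Agent.S12277

/-- Let k be an algebraically closed field, X₀ a k-scheme of finite type, smooth over k, and Y₀ ⊆ X₀ the
closed subscheme cut out by a quasi-coherent ideal sheaf I; assume Y₀ is Cohen–Macaulay of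
codimension 2 in X₀ (every local ring of Y₀ is Cohen–Macaulay and dim O_{X₀,y} = dim O_{Y₀,y} + 2 at
every point y of Y₀), and let N₀ = Hom_{O_{Y₀}}(I/I², O_{Y₀}) be the normal sheaf (the sheaf Hom,
assumed to exist as the right adjoint of tensoring with I/I²). Suppose H^1(Y₀, N₀) = 0. Then for
every surjection C' → C of local Artinian k-algebras with residue field k whose kernel is killed by
multiplication by the maximal ideal of C', every closed subscheme of X₀ ×_k Spec C that is flat over
Spec C and pulls back to Y₀ on the closed fibre is the pull-back of a closed subscheme of X₀ ×_k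
Spec C' that is flat over Spec C': the local Hilbert functor of Y₀ in X₀ is surjective along C' → C.
(The published statement says that, for an arbitrary deformation of the ambient scheme over local
Artin rings, the obstructions to extending such a subscheme lie in H^1(Y₀, N₀ ⊗ J), J the kernel;
this row states the consequence when that group vanishes, inside the trivial ambient deformation
over local Artinian k-algebras.) -/
theorem result
    {k : Type u} [Field k] [IsAlgClosed k] (X₀ : Scheme.{u}) [X₀.Over (Spec (CommRingCat.of k))]
    [LocallyOfFiniteType (X₀ ↘ Spec (CommRingCat.of k))] [QuasiCompact (X₀ ↘ Spec (CommRingCat.of k))]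
    [Smooth (X₀ ↘ Spec (CommRingCat.of k))]
    (I₀ : X₀.IdealSheafData)
    (hCM : ∀ y : I₀.subscheme, LocCoh.IsCohenMacaulayLocalRing (I₀.subscheme.presheaf.stalk y))
    (hcodim : ∀ y : I₀.subscheme, ringKrullDim (I₀.subscheme.presheaf.stalk y) + 2 =
      ringKrullDim (X₀.presheaf.stalk (I₀.subschemeι.base y)))
    [DCoh.HasSheafHom (Omega.conormal I₀.subschemeι)]
    (h1 : Subsingleton (Coh.HH I₀.subscheme ((DCoh.sheafHom (Omega.conormal I₀.subschemeι)).obj
      (Coh.structureModule I₀.subscheme)) 1))
    {C' C : ArtFun.Art k k} (p : C' ⟶ C) (hp : ArtFun.Art.IsSemismallExt p) :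
    Function.Surjective ((ArtFun.localHilb X₀ (X₀ ↘ Spec (CommRingCat.of k)) I₀).map p) := by
  letI : I₀.subscheme.Over (Spec (CommRingCat.of k)) := ⟨I₀.subschemeι ≫ (X₀ ↘ Spec (CommRingCat.of k))⟩
  haveI : IsLocallyNoetherian X₀ := LocallyOfFiniteType.isLocallyNoetherian (X₀ ↘ Spec (CommRingCat.of k))
  obtain ⟨e⟩ := Groth.Agent.ArtFunLib.HilbObs.nonempty_ObSp_equiv_imm (k := k) I₀.subschemeι rfl
  haveI := h1
  haveI hs := e.toEquiv.subsingleton
  rw [Scheme.IdealSheafData.ker_subschemeι] at hs
  exact Groth.Agent.ArtFunLib.HilbObs.surjective_of_locUnob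
    (Groth.Agent.ArtFunLib.HilbObs.locUnob_of_cm _ I₀ hCM hcodim) p hp

end Groth.Agent.S12277
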