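import Groth.Statements.S1228
import Groth.Agent.S1219
import Groth.Agent.S1227
-- import your own Groth.Agent.* helpers here

set_option autoImplicit false
universe u
open FlatMor

namespace Groth.Agent.S1228

set_option backward.isDefEq.respectTransparency false
set_option linter.style.haveILetI false

open TensorProduct

open TensorProduct in
/-- Ring form, S = Spec A and X = Spec B affine, test schemes affine: let B be a finitely presented
A-algebra, N a finitely presented B-module which is flat over A and pure relative to Spec A, and u a
surjective B-linear map from N to a B-module N'. Then the functor 'u becomes an isomorphism after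
base change' is represented by a closed subscheme of Spec A: there is an ideal I of A such that for
every A-algebra A' the base change A' ⊗_A N → A' ⊗_A N' is bijective if and only if IA' = 0. If N'
is finitely presented then I is finitely generated. -/
theorem result {A B : Type u} [CommRing A] [CommRing B] [Algebra A B] [Algebra.FinitePresentation A B]
    (N : Type u) [AddCommGroup N] [Module B N] [Module A N] [IsScalarTower A B N] [Module.FinitePresentation B N] [Module.Flat A N]
    (hpure : FlatCA.IsPure A B N)
    (N' : Type u) [AddCommGroup N'] [Module B N'] [Module A N'] [IsScalarTower A B N'] (u : N →ₗ[B] N') (hu : Function.Surjective u) :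
    ∃ I : Ideal A, (∀ (A' : Type u) [CommRing A'] [Algebra A A'],
        Function.Bijective ((u.restrictScalars A).baseChange A') ↔ I.map (algebraMap A A') = ⊥) ∧
      (Module.FinitePresentation B N' → I.FG) := by
  classical
  haveI : Module.Projective A N := (S1219.result N).2 hpure
  obtain ⟨I, hI⟩ := S1227.result (u.restrictScalars A) hu
  refine ⟨I, hI, fun hfp => ?_⟩
  haveI := hfp
  obtain ⟨G, hG⟩ := Module.FinitePresentation.fg_ker u hu
  obtain ⟨s, hs⟩ := Module.projective_def'.mp (inferInstance : Module.Projective A N)
  let C : Finset A := G.biUnion fun k => (s k).support.image fun i => s k i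
  let I' : Ideal A := Ideal.span (C : Set A)
  have hC : ∀ k ∈ G, ∀ i, s k i ∈ I' := fun k hk i => by
    by_cases hi : i ∈ (s k).support
    · exact Ideal.subset_span (Finset.mem_biUnion.2 ⟨k, hk, Finset.mem_image.2 ⟨i, hi, rfl⟩⟩)
    · rw [Finsupp.notMem_support_iff.1 hi]; exact zero_mem _
  suffices h : I = I' by
    rw [h]; exact ⟨C, rfl⟩
  apply le_antisymm
  · have hb : Function.Bijective ((u.restrictScalars A).baseChange (A ⧸ I')) := by
      refine ⟨?_, LinearMap.lTensor_surjective _ hu⟩
      rw [injective_iff_map_eq_zero]
      intro z hz
      obtain ⟨w, rfl⟩ := (lTensor_exact (A ⧸ I') (f := (LinearMap.ker (u.restrictScalars A)).subtype)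
        (LinearMap.exact_subtype_ker_map (u.restrictScalars A)) hu z).1 hz
      clear hz
      have hker : ∀ x : N, u x = 0 → x ∈ I' • (⊤ : Submodule A N) := by
        intro x hx
        have hx' : x ∈ Submodule.span B (G : Set N) := hG.ge hx
        clear hx
        induction hx' using Submodule.span_induction with
        | mem k hk =>
          rw [show k = Finsupp.linearCombination A id (s k) from (LinearMap.congr_fun hs k).symm,
            Finsupp.linearCombination_apply, Finsupp.sum]
          exact Submodule.sum_mem _ fun i _ => Submodule.smul_mem_smul (hC k hk i) trivial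
        | zero => exact zero_mem _
        | add a b _ _ ha hb => exact add_mem ha hb
        | smul b x _ hx =>
          refine Submodule.smul_induction_on hx (fun a ha y _ => ?_) (fun a c ha hc => ?_)
          · rw [smul_comm]; exact Submodule.smul_mem_smul ha trivial
          · rw [smul_add]; exact add_mem ha hc
      induction w using TensorProduct.induction_on with
      | zero => simp
      | add a b ha hb => rw [map_add, ha, hb, add_zero]
      | tmul b k =>
        show b ⊗ₜ[A] k.1 = 0
        refine Submodule.smul_induction_on (hker k.1 k.2) (fun a ha y _ => ?_) (fun a c ha hc => ?_)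
        · rw [← TensorProduct.smul_tmul, Algebra.smul_def, Ideal.Quotient.algebraMap_eq,
            Ideal.Quotient.eq_zero_iff_mem.2 ha, zero_mul, TensorProduct.zero_tmul]
        · rw [TensorProduct.tmul_add, ha, hc, add_zero]
    have h0 := (hI (A ⧸ I')).1 hb
    intro a ha
    have h1 := Ideal.mem_map_of_mem (algebraMap A (A ⧸ I')) ha
    rw [h0, Ideal.mem_bot, Ideal.Quotient.algebraMap_eq, Ideal.Quotient.eq_zero_iff_mem] at h1
    exact h1
  · have hb := (hI (A ⧸ I)).2 (by
      rw [Ideal.Quotient.algebraMap_eq]; exact Ideal.map_quotient_self I)
    refine Ideal.span_le.2 fun c hc => ?_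
    obtain ⟨k, hk, hc⟩ := Finset.mem_biUnion.1 hc
    obtain ⟨i, -, rfl⟩ := Finset.mem_image.1 hc
    have hk0 : u k = 0 := hG.le (Submodule.subset_span hk)
    have h0 : (1 : A ⧸ I) ⊗ₜ[A] k = 0 := by
      refine hb.1 ?_
      rw [map_zero, LinearMap.baseChange_tmul, LinearMap.restrictScalars_apply, hk0, TensorProduct.tmul_zero]
    have h2 := congrArg (fun z => TensorProduct.rid A (A ⧸ I) (((Finsupp.lapply i).comp s).lTensor (A ⧸ I) z)) h0
    simp only [map_zero, LinearMap.lTensor_tmul, TensorProduct.rid_tmul, LinearMap.comp_apply, Finsupp.lapply_apply] at h2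
    rw [Algebra.smul_def, mul_one, Ideal.Quotient.algebraMap_eq, Ideal.Quotient.eq_zero_iff_mem] at h2
    exact h2

end Groth.Agent.S1228
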