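import Groth.Statements.S12287
import Groth.Agent.CotTLib.Special

set_option autoImplicit false
universe u w m
open scoped TensorProduct
open DefT

namespace Groth.Agent.S12287

/-- Let B be an A-algebra that is isomorphic over A to a polynomial ring A[x_j] in some set of
variables. Then for every B-module M the modules T^1(B/A, M) and T^2(B/A, M), computed from the
choice-free presentation of B over A (every element of B a variable, every element of the kernel a
relation), are zero. -/
theorem result
    (A B : Type u) [CommRing A] [CommRing B] [Algebra A B] (κ : Type u) (e : MvPolynomial κ A ≃ₐ[A] B)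
    (M : Type u) [AddCommGroup M] [Module B M] :
    Subsingleton (CotT.T1 (CotT.canon A B) M) ∧ Subsingleton (CotT.T2 (CotT.canon A B) M) := by
  let G : Algebra.Generators A B κ := Algebra.Generators.ofSurjective (fun k => e (MvPolynomial.X k)) (by
    intro b
    obtain ⟨p, rfl⟩ := e.surjective b
    exact ⟨p, congrArg (fun φ : MvPolynomial κ A →ₐ[A] B => φ p) (MvPolynomial.aeval_unique e.toAlgHom).symm⟩)
  let P : Algebra.Presentation A B κ PEmpty.{1} :=
    { toGenerators := G
      relation := PEmpty.elim
      span_range_relation_eq_ker := by
        rw [Set.range_eq_empty, Ideal.span_empty, Algebra.Generators.ker_eq_ker_aeval_val]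
        refine ((RingHom.injective_iff_ker_eq_bot _).1 ?_).symm
        rw [show (G.val) = (fun k => e.toAlgHom (MvPolynomial.X k)) from rfl]
        intro x y h
        have hu : ∀ z : MvPolynomial κ A, MvPolynomial.aeval (fun k => e.toAlgHom (MvPolynomial.X k)) z = e z :=
          fun z => (DFunLike.congr_fun (MvPolynomial.aeval_unique e.toAlgHom) z).symm
        change MvPolynomial.aeval _ x = MvPolynomial.aeval _ y at h
        rw [hu, hu] at h
        exact e.injective h }
  exact ⟨(CotTLib.T1equiv (M := M) P (CotT.canon A B) (CotTLib.someHom _ _)).toEquiv.subsingleton_congr.2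
      (CotTLib.subsingleton_T1 P),
    (CotTLib.T2equiv (M := M) P (CotT.canon A B) (CotTLib.someHom _ _)).toEquiv.subsingleton_congr.2
      (CotTLib.subsingleton_T2_of_relKer_le P (CotTLib.relKer_le_of_isEmpty P))⟩

end Groth.Agent.S12287
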