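import Groth.Statements.S12288
import Groth.Agent.CotTLib.Special

set_option autoImplicit false
universe u w m
open scoped TensorProduct
open DefT

namespace Groth.Agent.S12288

/-- Let A be a local ring and A → B a surjective ring homomorphism whose kernel is generated by a
regular sequence a_1, …, a_r on A (each a_i is a non-zero-divisor on A/(a_1, …, a_{i-1}) and the
ideal is proper). Then T^2(B/A, M) = 0 for every B-module M, the module being computed from the
choice-free presentation of B over A. -/
theorem result
    (A B : Type u) [CommRing A] [IsLocalRing A] [CommRing B] [Algebra A B]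
    (hs : Function.Surjective (algebraMap A B)) (rs : List A) (hreg : RingTheory.Sequence.IsRegular A rs)
    (hI : RingHom.ker (algebraMap A B) = Ideal.ofList rs) (M : Type u) [AddCommGroup M] [Module B M] :
    Subsingleton (CotT.T2 (CotT.canon A B) M) := by
  let a : Fin rs.length → A := fun i => rs.get i
  let G : Algebra.Generators A B PEmpty.{1} := Algebra.Generators.ofSurjective PEmpty.elim (fun b => by
    obtain ⟨x, rfl⟩ := hs b
    exact ⟨MvPolynomial.C x, MvPolynomial.aeval_C _ _⟩)
  have hCc : ∀ p : MvPolynomial PEmpty.{1} A, MvPolynomial.C (MvPolynomial.constantCoeff p) = p := fun p => by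
    induction p using MvPolynomial.induction_on with
    | C c => rw [MvPolynomial.constantCoeff_C]
    | add p q hp hq => rw [map_add, map_add, hp, hq]
    | mul_X p i _ => exact i.elim
  let P : Algebra.Presentation A B PEmpty.{1} (Fin rs.length) :=
    { toGenerators := G
      relation := fun i => MvPolynomial.C (a i)
      span_range_relation_eq_ker := by
        rw [Algebra.Generators.ker_eq_ker_aeval_val]
        refine le_antisymm (Ideal.span_le.2 ?_) fun p hp => ?_
        · rintro _ ⟨i, rfl⟩
          rw [SetLike.mem_coe, RingHom.mem_ker, MvPolynomial.aeval_C, ← RingHom.mem_ker, hI]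
          exact Ideal.subset_span (List.get_mem rs i)
        · rw [← hCc p] at hp ⊢
          rw [RingHom.mem_ker, MvPolynomial.aeval_C, ← RingHom.mem_ker, hI] at hp
          have h2 := Ideal.mem_map_of_mem (MvPolynomial.C (σ := PEmpty.{1})) hp
          rw [Ideal.map_ofList] at h2
          refine Ideal.span_mono ?_ h2
          intro x hx
          obtain ⟨y, hy, rfl⟩ := List.mem_map.1 hx
          obtain ⟨i, rfl⟩ := List.get_of_mem hy
          exact ⟨i, rfl⟩ }
  refine (CotTLib.T2equiv (M := M) P (CotT.canon A B) (CotTLib.someHom _ _)).toEquiv.subsingleton_congr.2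
    (CotTLib.subsingleton_T2_of_relKer_le P fun q hq => ?_)
  have hbase : ∀ k : Fin rs.length, ∀ x : A, x * a k ∈ Ideal.span (a '' {j | j < k}) →
      x ∈ Ideal.span (a '' {j | j < k}) := by
    intro k x hx
    have hspan : Ideal.span (a '' {j | j < k}) = Ideal.ofList (rs.take k) := by
      refine le_antisymm (Ideal.span_le.2 ?_) (Ideal.span_le.2 ?_)
      · rintro _ ⟨j, hj, rfl⟩
        exact Ideal.subset_span (List.mem_take_iff_getElem.2 ⟨j, by
          have : (j : ℕ) < k := hj
          omega, rfl⟩)
      · intro y hy
        obtain ⟨j, hj, rfl⟩ := List.mem_take_iff_getElem.1 hy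
        exact Ideal.subset_span ⟨⟨j, by omega⟩, Fin.lt_def.2 (lt_min_iff.1 hj).1, rfl⟩
    rw [hspan] at hx ⊢
    have h1 := hreg.toIsWeaklyRegular.regular_mod_prev k k.2
    have h2 : Submodule.Quotient.mk x = (0 : A ⧸ Ideal.ofList (rs.take k) • (⊤ : Submodule A A)) := by
      refine h1 ?_
      dsimp only
      rw [smul_zero, ← Submodule.Quotient.mk_smul, Submodule.Quotient.mk_eq_zero, smul_eq_mul, smul_eq_mul,
        Ideal.mul_top, mul_comm]
      exact hx
    rwa [Submodule.Quotient.mk_eq_zero, smul_eq_mul, Ideal.mul_top] at h2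
  let b : Fin rs.length → P.toExtension.Ring := fun i => MvPolynomial.C (a i)
  have hlift : ∀ k : Fin rs.length, ∀ x : P.toExtension.Ring, x * b k ∈ Ideal.span (b '' {j | j < k}) →
      x ∈ Ideal.span (b '' {j | j < k}) := by
    intro k x hx
    have hb : b '' {j | j < k} = MvPolynomial.C '' (a '' {j | j < k}) := (Set.image_image _ _ _).symm
    rw [hb] at hx ⊢
    change (show MvPolynomial PEmpty.{1} A from x) ∈ Ideal.span (MvPolynomial.C '' (a '' {j | j < k}))
    have hx' : (show MvPolynomial PEmpty.{1} A from x) * MvPolynomial.C (a k) ∈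
        Ideal.span (MvPolynomial.C '' (a '' {j | j < k})) := hx
    rw [← Ideal.map_span] at hx' ⊢
    have h1 := Ideal.mem_map_of_mem (MvPolynomial.constantCoeff (σ := PEmpty.{1}) (R := A)) hx'
    rw [Ideal.map_map, map_mul, MvPolynomial.constantCoeff_C,
      show (MvPolynomial.constantCoeff (σ := PEmpty.{1}) (R := A)).comp MvPolynomial.C = RingHom.id A from
        RingHom.ext fun _ => MvPolynomial.constantCoeff_C _ _, Ideal.map_id] at h1
    rw [← hCc (show MvPolynomial PEmpty.{1} A from x)]
    exact Ideal.mem_map_of_mem _ (hbase k _ h1)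
  have hkz : CotTLib.koszul b ≤ CotT.trivRel P := by
    refine Submodule.span_le.2 ?_
    rintro _ ⟨c, d, rfl⟩
    exact CotTLib.jmap_smul_sub_mem (P := P) c d
  exact hkz (CotTLib.mem_koszul_of_regular b hlift q hq)

end Groth.Agent.S12288
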