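import Groth.Statements.S12290
import Groth.Agent.CotTLib.SmoothVanish

set_option autoImplicit false
universe u w m
open scoped TensorProduct
open DefT

namespace Groth.Agent.S12290

/-- Let k be an algebraically closed field and B a finitely generated k-algebra, X = Spec B. Then X is
nonsingular (localizing B at any prime ideal gives a regular local ring) exactly when T^1(B/k, M)
vanishes for every B-module M; and when X is nonsingular, T^2(B/k, M) vanishes too, for every
B-module M. Here T^1, T^2 are computed from the choice-free presentation of B over k. -/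
theorem result
    (k B : Type u) [Field k] [IsAlgClosed k] [CommRing B] [Algebra k B] [Algebra.FiniteType k B] :
    ((∀ (p : Ideal B) [p.IsPrime], IsRegularLocalRing (Localization.AtPrime p)) ↔
      ∀ (M : Type u) [AddCommGroup M] [Module B M], Subsingleton (CotT.T1 (CotT.canon k B) M)) ∧
    ((∀ (p : Ideal B) [p.IsPrime], IsRegularLocalRing (Localization.AtPrime p)) →
      ∀ (M : Type u) [AddCommGroup M] [Module B M], Subsingleton (CotT.T2 (CotT.canon k B) M)) := by
  have hfp : Algebra.FinitePresentation k B := Algebra.FinitePresentation.of_finiteType.1 inferInstance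
  have hsmooth : (∀ (p : Ideal B) [p.IsPrime], IsRegularLocalRing (Localization.AtPrime p)) →
      Algebra.FormallySmooth k B := fun h =>
    (CotTLib.smooth_of_isSmoothAt_maximal fun m _ => CotTLib.isSmoothAt_of_isRegularLocalRing m (h m)).formallySmooth
  rw [CotTLib.subsingleton_T1_canon_iff]
  refine ⟨⟨hsmooth, fun h p _ => ?_⟩, fun h M _ _ => CotTLib.T2_subsingleton_of_regular (fun m _ => h m) (hsmooth h) M⟩
  have : Algebra.Smooth k B := ⟨h, hfp⟩
  have : Algebra.IsSmoothAt k p := by
    have h1 : (⟨p, ‹p.IsPrime›⟩ : PrimeSpectrum B) ∈ Algebra.smoothLocus k B := by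
      rw [Algebra.smoothLocus_eq_univ]; trivial
    exact h1
  exact CotTLib.isRegularLocalRing_of_isSmoothAt (k := k) p

end Groth.Agent.S12290
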