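import Groth.Statements.S12291
import Groth.Agent.CotTLib.CI

set_option autoImplicit false
universe u w m
open scoped TensorProduct
open DefT

namespace Groth.Agent.S12291

/-- Let k be an algebraically closed field and A a regular local k-algebra with residue field k such
that T^1(A/k, N) = 0 and T^2(A/k, N) = 0 for all A-modules N; let I be a proper ideal of A and B =
A/I. Then B is cut out of A as a local complete intersection — meaning I is generated by some list
of r elements with r + dim B = dim A, i.e. by dim A − dim B elements — exactly when T^2(B/k, M)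
vanishes for each B-module M. The T^i are computed from the choice-free presentations. (The
published statement assumes only that A is a regular local k-algebra with residue field k; its proof
uses the vanishing of T^1(A/k, −) and T^2(A/k, −), which holds when A is essentially of finite type
over k and which this row carries as a hypothesis.) -/
theorem result
    (k A : Type u) [Field k] [IsAlgClosed k] [CommRing A] [IsRegularLocalRing A] [Algebra k A]
    (hres : Function.Surjective (algebraMap k (IsLocalRing.ResidueField A)))
    (hT : ∀ (N : Type u) [AddCommGroup N] [Module A N],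
      Subsingleton (CotT.T1 (CotT.canon k A) N) ∧ Subsingleton (CotT.T2 (CotT.canon k A) N))
    (I : Ideal A) (hI : I ≠ ⊤) :
    (∃ rs : List A, Ideal.ofList rs = I ∧ (rs.length : WithBot ℕ∞) + ringKrullDim (A ⧸ I) = ringKrullDim A) ↔
      ∀ (M : Type u) [AddCommGroup M] [Module (A ⧸ I) M], Subsingleton (CotT.T2 (CotT.canon k (A ⧸ I)) M) := by
  have hs : Function.Surjective (algebraMap A (A ⧸ I)) := Ideal.Quotient.mk_surjective
  have hker : RingHom.ker (algebraMap A (A ⧸ I)) = I := Ideal.mk_ker
  have hmem : ∀ x ∈ I, x ∈ IsLocalRing.maximalIdeal A := fun x hx => IsLocalRing.le_maximalIdeal hI hx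
  constructor
  · rintro ⟨rs, hrs, hdim⟩ M _ _
    refine (CotTLib.subsingleton_T2_iff_of_base k A (A ⧸ I) hT M).1 ?_
    have hreg := CotTLib.isWeaklyRegular_of_dim rs (fun r hr => hmem r (hrs ▸ Ideal.subset_span hr)) (by rw [hrs]; exact hdim)
    refine CotTLib.subsingleton_T2_of_regular_quot hs rs.get ?_ (CotTLib.regular_of_isWeaklyRegular rs hreg) M
    rw [hker, ← hrs, Ideal.ofList, Set.range_list_get]
  · intro h
    have : Nontrivial (A ⧸ I) := Ideal.Quotient.nontrivial_iff.2 hI
    have hfg := I.fg_of_isNoetherianRing
    have hfin := Submodule.FG.finite_generators hfg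
    let e := hfin.toFinset.equivFin
    let f : Fin hfin.toFinset.card → A := fun i => (e.symm i).1
    have hrange : Set.range f = I.generators := by
      ext x
      constructor
      · rintro ⟨i, rfl⟩
        exact hfin.mem_toFinset.1 (e.symm i).2
      · intro hx
        exact ⟨e ⟨x, hfin.mem_toFinset.2 hx⟩, by simp [f]⟩
    have hspan : Ideal.span (Set.range f) = I := by rw [hrange]; exact I.span_generators
    have hfm : ∀ i, f i ∈ IsLocalRing.maximalIdeal A := fun i => hmem _ (hspan.le (Ideal.subset_span ⟨i, rfl⟩))
    have htriv := CotTLib.triv_of_T2_eq_zero hs f (hker.trans hspan.symm)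
      (by rw [hker, ← Submodule.FG.generators_ncard hfg, ← Set.ncard_eq_toFinset_card _ hfin])
      (fun M _ _ => (CotTLib.subsingleton_T2_iff_of_base k A (A ⧸ I) hT M).2 (h M))
    have hweak := CotTLib.isWeaklyRegular_ofFn f (CotTLib.weaklyRegular_of_triv f
      (fun i => IsLocalRing.maximalIdeal_le_jacobson _ (hfm i)) htriv)
    have hlist : Ideal.ofList (List.ofFn f) = I := (congrArg Ideal.span (Set.ext fun x => List.mem_ofFn)).trans hspan
    have hregular : RingTheory.Sequence.IsRegular A (List.ofFn f) :=
      RingTheory.Sequence.IsRegular.of_isWeaklyRegular_of_mem_maximalIdeal A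
        (fun r hr => hmem r (hlist ▸ Ideal.subset_span hr)) hweak
    refine ⟨List.ofFn f, hlist, ?_⟩
    have hd := ringKrullDim_add_length_eq_ringKrullDim_of_isRegular _ hregular
    rw [ringKrullDim_eq_of_ringEquiv (Ideal.quotEquivOfEq hlist)] at hd
    rw [add_comm]
    exact hd

end Groth.Agent.S12291
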