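import Groth.Statements.S12292
import Groth.Agent.CotTLib.Exal

set_option autoImplicit false
universe u w m
open scoped TensorProduct
open DefT

namespace Groth.Agent.S12292

/-- Let A → B be a ring homomorphism and M a B-module. The equivalence classes of extensions of B by M
as A-algebras (surjections of A-algebras B' → B whose kernel is an ideal of square zero identified
with M, two extensions being equivalent when there is an isomorphism compatible with the identities
of B and M) are in bijection with T^1(B/A, M), computed from the choice-free presentation, the class
of the trivial extension B ⊕ M corresponding to zero. (The published statement calls the
correspondence natural; this row asserts the existence of a bijection taking the trivial class to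
zero.) -/
theorem result
    (A B : Type u) [CommRing A] [CommRing B] [Algebra A B] (M : Type u) [AddCommGroup M] [Module B M] :
    ∃ e : Exal.Exalcom A B M ≃ CotT.T1 (CotT.canon A B) M, e 0 = 0 := by
  exact Groth.Agent.CotTLib.exists_exalcom_equiv (CotT.canon A B)

end Groth.Agent.S12292
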