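import Groth.Statements.S12295
import Groth.Agent.CotTLib.Special

set_option autoImplicit false
universe u w m
open scoped TensorProduct
open DefT

namespace Groth.Agent.S12295

/-- Let k be a commutative ring, B a k-algebra and P a presentation of B over k with polynomial ring R =
k[x_i] (any set of variables), so that B = R/I; let P' be a presentation of B over R with no
polynomial variables (R itself mapping onto B, with chosen generators of I), and M a B-module. Then
T^2(B/R, M), computed from P', and T^2(B/k, M), computed from P, are isomorphic B-modules.
(Existence of a B-linear isomorphism only; the published statement has finitely many variables over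
a field and notes that any base ring works.) -/
theorem result
    (k B : Type u) [CommRing k] [CommRing B] [Algebra k B] (ι σ ι' σ' : Type w)
    (P : Algebra.Presentation k B ι σ) [IsEmpty ι']
    (P' : Algebra.Presentation P.toExtension.Ring B ι' σ')
    (M : Type m) [AddCommGroup M] [Module B M] :
    Nonempty (CotT.T2 P' M ≃ₗ[B] CotT.T2 P M) := by
  let R := P.toExtension.Ring
  have hCc : ∀ p : MvPolynomial ι' R, MvPolynomial.C (MvPolynomial.constantCoeff p) = p := fun p => by
    induction p using MvPolynomial.induction_on with
    | C c => rw [MvPolynomial.constantCoeff_C]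
    | add p q hp hq => rw [map_add, map_add, hp, hq]
    | mul_X p i _ => exact isEmptyElim i
  let P'' : Algebra.Presentation P.toExtension.Ring B ι' σ :=
    { toGenerators := P'.toGenerators
      relation := fun s => MvPolynomial.C (CotT.rel P s)
      span_range_relation_eq_ker := by
        rw [Algebra.Generators.ker_eq_ker_aeval_val]
        refine le_antisymm (Ideal.span_le.2 ?_) fun p hp => ?_
        · rintro _ ⟨s, rfl⟩
          rw [SetLike.mem_coe, RingHom.mem_ker, MvPolynomial.aeval_C, CotT.algebraMap_rel]
        · rw [← hCc p] at hp ⊢
          rw [RingHom.mem_ker, MvPolynomial.aeval_C] at hp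
          obtain ⟨f, hf⟩ := CotTLib.exists_jmap_eq P hp
          rw [← hf]
          clear hf hp
          induction f using Finsupp.induction_linear with
          | zero => rw [map_zero, map_zero]; exact zero_mem _
          | add a b ha hb => rw [map_add, map_add]; exact add_mem ha hb
          | single s c =>
            rw [CotT.jmap_single, map_mul]
            exact Ideal.mul_mem_left _ _ (Ideal.subset_span ⟨s, rfl⟩) }
  let g : Algebra.Generators.Hom P.toGenerators P''.toGenerators :=
    { val := fun i => MvPolynomial.C (CotTLib.var P i)
      aeval_val := fun i => by
        rw [MvPolynomial.aeval_C]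
        exact CotTLib.algebraMap_var P i }
  have hg : ∀ x, g.toExtensionHom.toRingHom x = MvPolynomial.C x := by
    intro x
    refine DFunLike.congr_fun (CotTLib.poly_hom_ext (f := g.toExtensionHom.toRingHom)
      (g := (MvPolynomial.C : R →+* MvPolynomial ι' R)) P (fun a => ?_) (fun i => ?_)) x
    · change g.toAlgHom (MvPolynomial.C a) = _
      rw [Algebra.Generators.Hom.toAlgHom_C]
      rfl
    · change g.toAlgHom (MvPolynomial.X i) = _
      rw [Algebra.Generators.Hom.toAlgHom_X]
      rfl
  let h : CotT.PresHom P P'' :=
    { hom := g
      relVal := fun s => Finsupp.single s 1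
      jmap_relVal := fun s => by
        rw [CotT.jmap_single, one_mul, hg] }
  have hR : Function.Bijective h.ringHom := by
    rw [show (h.ringHom : P.toExtension.Ring → P''.toExtension.Ring) = fun x => MvPolynomial.C x from funext hg]
    exact ⟨MvPolynomial.C_injective ι' R, fun p => ⟨_, hCc p⟩⟩
  have hmap : ∀ f : CotT.relMod P, h.relModMap f = Finsupp.mapRange h.ringHom (map_zero _) f := by
    intro f
    induction f using Finsupp.induction_linear with
    | zero => simp
    | add a b ha hb => rw [map_add, ha, hb, Finsupp.mapRange_add (map_add h.ringHom)]
    | single s c =>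
      rw [CotT.PresHom.relModMap_single, Finsupp.mapRange_single]
      exact (Finsupp.smul_single _ _ _).trans (by rw [smul_eq_mul, mul_one])
  have hF : Function.Bijective h.relModMap := by
    rw [show (h.relModMap : CotT.relMod P → CotT.relMod P'') = Finsupp.mapRange h.ringHom (map_zero _) from funext hmap]
    exact ⟨Finsupp.mapRange_injective _ _ hR.1, Finsupp.mapRange_surjective _ _ hR.2⟩
  exact ⟨(CotTLib.T2equiv P'' P' (CotTLib.someHom _ _)).trans
    (LinearEquiv.ofBijective (h.T2pull M) (CotTLib.T2pull_bijective h hF hR))⟩

end Groth.Agent.S12295
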