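import Groth.Statements.S12297
import Groth.Agent.CotTLib.SmoothVanish

set_option autoImplicit false
universe u w m
open scoped TensorProduct
open DefT

namespace Groth.Agent.S12297

/-- Let k be an algebraically closed field, B a finitely generated k-algebra, m a maximal ideal of B and
B_m the localization, a local k-algebra with residue field k. Then B_m is a regular local ring if
and only if T^1(B_m/k, M) = 0 for all B_m-modules M, and in that case T^2(B_m/k, M) = 0 for all M as
well; the T^i are computed from the choice-free presentation of B_m over k. (The published statement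
is for a local k-algebra with residue field k, k algebraically closed, proved by localization from
the finitely generated case; this row states it for the localizations of finitely generated
k-algebras at maximal ideals, the case that proof covers.) -/
theorem result
    (k B : Type u) [Field k] [IsAlgClosed k] [CommRing B] [Algebra k B] [Algebra.FiniteType k B]
    (m : Ideal B) [m.IsMaximal] :
    (IsRegularLocalRing (Localization.AtPrime m) ↔
      ∀ (M : Type u) [AddCommGroup M] [Module (Localization.AtPrime m) M],
        Subsingleton (CotT.T1 (CotT.canon k (Localization.AtPrime m)) M)) ∧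
    (IsRegularLocalRing (Localization.AtPrime m) →
      ∀ (M : Type u) [AddCommGroup M] [Module (Localization.AtPrime m) M],
        Subsingleton (CotT.T2 (CotT.canon k (Localization.AtPrime m)) M)) := by
  have hfp : Algebra.FinitePresentation k B := Algebra.FinitePresentation.of_finiteType.1 inferInstance
  rw [CotTLib.subsingleton_T1_canon_iff]
  refine ⟨⟨CotTLib.isSmoothAt_of_isRegularLocalRing m, fun h => ?_⟩, fun h M _ _ => ?_⟩
  · have : Algebra.IsSmoothAt k m := h
    exact CotTLib.isRegularLocalRing_of_isSmoothAt (k := k) m
  have : Algebra.IsSmoothAt k m := CotTLib.isSmoothAt_of_isRegularLocalRing m h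
  obtain ⟨g, hg, hsm⟩ := Algebra.IsSmoothAt.exists_notMem_smooth (R := k) m
  let Bg := Localization.Away g
  let Bm := Localization.AtPrime m
  have hle : Submonoid.powers g ≤ m.primeCompl :=
    (Submonoid.powers_le).2 hg
  let : Algebra Bg Bm := IsLocalization.localizationAlgebraOfSubmonoidLe Bg Bm (Submonoid.powers g) m.primeCompl hle
  have : IsScalarTower B Bg Bm :=
    IsLocalization.localization_isScalarTower_of_submonoid_le Bg Bm (Submonoid.powers g) m.primeCompl hle
  have hloc : IsLocalization (m.primeCompl.map (algebraMap B Bg)) Bm :=
    IsLocalization.isLocalization_of_submonoid_le Bg Bm (Submonoid.powers g) m.primeCompl hle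
  have : IsScalarTower k Bg Bm := IsScalarTower.of_algebraMap_eq fun c => by
    rw [IsScalarTower.algebraMap_apply k B Bg, ← IsScalarTower.algebraMap_apply B Bg Bm,
      ← IsScalarTower.algebraMap_apply k B Bm]
  let : Module Bg M := Module.compHom M (algebraMap Bg Bm)
  have : IsScalarTower Bg Bm M := IsScalarTower.of_algebraMap_smul fun _ _ => rfl
  have : Algebra.FiniteType k Bg := inferInstance
  have hreg : ∀ (q : Ideal Bg) [q.IsMaximal], IsRegularLocalRing (Localization.AtPrime q) := fun q _ => by
    have : Algebra.IsSmoothAt k q := by
      have h1 : (⟨q, Ideal.IsMaximal.isPrime ‹_›⟩ : PrimeSpectrum Bg) ∈ Algebra.smoothLocus k Bg := by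
        rw [Algebra.smoothLocus_eq_univ]; trivial
      exact h1
    exact CotTLib.isRegularLocalRing_of_isSmoothAt (k := k) q
  have h1 : Subsingleton (CotT.T2 (CotT.canon k Bg) M) :=
    CotTLib.T2_subsingleton_of_regular hreg hsm.formallySmooth M
  have h2 : Subsingleton (CotT.T2 (CotT.canon Bg Bm) M) :=
    CotTLib.subsingleton_T2_localization Bg (m.primeCompl.map (algebraMap B Bg)) Bm M
  exact CotTLib.subsingleton_T2_trans k Bg Bm M h1 h2

end Groth.Agent.S12297
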