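import Groth.Statements.S12299
import Groth.Agent.ArtFunLib.Hull.Minimal

set_option autoImplicit false
universe u v
open CategoryTheory
open ArtFun

namespace Groth.Agent.S12299

/-- Let k be an algebraically closed field, F a set-valued functor on local Artinian k-algebras with
residue field k, and (R, ξ) a miniversal family for F, with R a complete local Noetherian k-algebra
with residue field k: the morphism h_R → F has the lifting property along surjections and is
bijective on the dual numbers. Let S be a complete local Noetherian k-algebra with residue field k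
and g₁, g₂ : R → S two k-algebra maps compatible with the augmentations along which ξ induces the
same formal family over S (the same compatible sequence in the F(S/m^(n+1))). Then g₁ and g₂ induce
the same map R → S/m_S², so the map R/m_R² → S/m_S² attached to a formal family over S is well
defined. (Coefficient rings are taken Noetherian here.) -/
theorem result
    {k : Type u} [Field k] [IsAlgClosed k] {F : ArtFun.Art k k ⥤ Type v}
    (R : ArtFun.CRing k k) (ξ : ArtFun.Family R.carrier R.res F) (hξ : ArtFun.IsMiniversal ξ)
    (S : ArtFun.CRing k k) (g₁ g₂ : R.carrier →ₐ[k] S.carrier)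
    (hg₁ : S.res.comp g₁ = R.res) (hg₂ : S.res.comp g₂ = R.res)
    (h : (ξ.along g₁ hg₁).toFormalElt = (ξ.along g₂ hg₂).toFormalElt) :
    (S.truncHom 1).1.comp g₁ = (S.truncHom 1).1.comp g₂ := by
  refine AlgHom.ext fun x => ArtFunLib.Hull.eq_of_forall_dual (S.trunc 1) ?_ ?_ fun G => ?_
  · have hmap : (IsLocalRing.maximalIdeal (S.trunc 1) : Ideal (S.carrier ⧸ ArtFun.CRing.mpow S 1)) =
        (IsLocalRing.maximalIdeal S.carrier).map (Ideal.Quotient.mk (ArtFun.CRing.mpow S 1)) := by
      symm
      refine IsLocalRing.eq_maximalIdeal ?_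
      exact Ideal.IsMaximal.map_of_surjective_of_ker_le Ideal.Quotient.mk_surjective
        (by rw [Ideal.mk_ker]; exact ArtFun.CRing.mpow_le S 1)
    change (IsLocalRing.maximalIdeal (S.trunc 1) : Ideal (S.carrier ⧸ ArtFun.CRing.mpow S 1)) ^ 2 = ⊥
    rw [hmap]
    refine ((Ideal.map_pow (Ideal.Quotient.mk (ArtFun.CRing.mpow S 1)) _ 2).symm.trans
      (Ideal.map_quotient_self _) :)
  · exact (DFunLike.congr_fun hg₁ x).trans (DFunLike.congr_fun hg₂ x).symm
  · let ψ : ∀ g : R.carrier →ₐ[k] S.carrier, S.res.comp g = R.res →
        ArtFun.HomSet R.carrier R.res (ArtFun.Art.dual k k) := fun g hg =>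
      ⟨(ArtFun.HomSet.map G (S.truncHom 1)).1.comp g,
        by rw [← AlgHom.comp_assoc, (ArtFun.HomSet.map G (S.truncHom 1)).2, hg]⟩
    have he : ξ.app _ (ψ g₁ hg₁) = ξ.app _ (ψ g₂ hg₂) := by
      have h1 := congrArg (fun u => F.map G (ArtFun.FormalElt.elt u 1)) h
      simp only [ArtFun.Family.toFormalElt, ← ArtFun.Family.natural] at h1
      exact h1
    exact congrArg TrivSqZeroExt.snd (DFunLike.congr_fun (congrArg Subtype.val (hξ.2.1 he)) x)

end Groth.Agent.S12299
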