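import Groth.Statements.S1230
import Groth.Agent.S1195
import Groth.Agent.RG.WeakAssTensorFlat
-- import your own Groth.Agent.* helpers here

set_option autoImplicit false
universe u
open FlatMor

namespace Groth.Agent.S1230

set_option backward.isDefEq.respectTransparency false
set_option backward.isDefEq.respectTransparency.types false
set_option linter.style.haveILetI false

open TensorProduct IsLocalRing Groth.Agent.ZClosLib

attribute [local instance] Algebra.TensorProduct.rightAlgebra

open TensorProduct in
/-- Ring form, X = Spec B, X' = Spec B' affine: let B be a finite type A-algebra, N a finite B-module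
flat over A, and B' a flat B-algebra such that every prime q of B, over p in A, whose extension to
the fibre ring over p is an associated prime of the fibre module of N is the contraction of a prime
of B'. Then the canonical map N → B' ⊗_B N is injective and remains injective after tensoring over A
with any A-algebra. -/
theorem result {A B B' : Type u} [CommRing A] [CommRing B] [CommRing B'] [Algebra A B] [Algebra B B'] [Algebra A B'] [IsScalarTower A B B']
    [Algebra.FiniteType A B] [Module.Flat B B']
    (N : Type u) [AddCommGroup N] [Module B N] [Module A N] [IsScalarTower A B N] [Module.Finite B N] [Module.Flat A N]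
    (h : ∀ (p : Ideal A) (q : Ideal B) [p.IsPrime] [q.IsPrime] [q.LiesOver p],
      FlatCA.fiberIdeal p q ∈ associatedPrimes (p.Fiber B) (FlatCA.fiberMod p B N) →
      ∃ q' : Ideal B', q'.IsPrime ∧ q'.comap (algebraMap B B') = q) :
    ∀ (A' : Type u) [CommRing A'] [Algebra A A'],
      Function.Injective (((TensorProduct.mk B B' N 1).restrictScalars A).baseChange A') := by
  intro A' _ _
  rw [injective_iff_map_eq_zero]
  intro z hz
  by_contra hz0
  let w := TensorProduct.comm A A' N z
  have hz' : ((TensorProduct.mk B B' N 1).restrictScalars A).lTensor A' z = 0 := hz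
  have htop := NzdUnivInj.map_annihilator_eq_top (S1195.tmul_one_eq_zero hz')
  have hJ : WeakAss.annEl B w ≠ ⊤ := fun h0 => hz0 <| (TensorProduct.comm A A' N).injective <| by
    rw [map_zero]
    have h1 := WeakAss.mem_annEl.1 ((Ideal.eq_top_iff_one _).1 h0)
    rwa [one_smul] at h1
  obtain ⟨Q, hQ, hJQ⟩ := Ideal.exists_le_maximal _ hJ
  haveI := hQ.isPrime
  obtain ⟨q, hq, -⟩ := Ideal.exists_minimalPrimes_le (I := WeakAss.annEl B w) (J := Q) hJQ
  haveI : q.IsPrime := hq.1.1
  haveI : q.LiesOver (q.under A) := ⟨rfl⟩
  have hflat : FlatCA.FlatAt A q N :=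
    (FlatModel.flat_localized_iff q.primeCompl (LocalizedModule.mkLinearMap q.primeCompl N)).2 fun J y hy =>
      ⟨1, one_mem _, by rw [Module.Flat.iff_lTensor_injective'.1 ‹Module.Flat A N› J (hy.trans (map_zero _).symm), smul_zero]⟩
  obtain ⟨q', hq', hqq'⟩ := h (q.under A) q
    ((RG.mem_weakAss_tensor_iff N A' (q.under A) q hflat).1 (WeakAss.mem_weakAss_iff.2 ⟨w, hq⟩)).2
  refine hq'.ne_top (top_le_iff.1 ?_)
  rw [← htop, Ideal.map_le_iff_le_comap, hqq']
  exact hq.1.2

end Groth.Agent.S1230
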