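import Groth.Statements.S12301
import Groth.Agent.ArtFunLib.Hull.Mor

set_option autoImplicit false
universe u v
open CategoryTheory
open ArtFun

namespace Groth.Agent.S12301

/-- Let k be an algebraically closed field, f : F₁ → F₂ a morphism of set-valued functors on local
Artinian k-algebras with residue field k, (R₁, ξ₁) a family for F₁ and (R₂, ξ₂) a versal family for
F₂, where R₁, R₂ are complete local Noetherian k-algebras with residue field k and versal is meant
in the strong sense: h_{R₂} → F₂ is surjective on every object and has the lifting property along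
surjections. Then there is a k-algebra map φ : R₂ → R₁, compatible with the augmentations, such that
for every local Artinian A and every u : R₁ → A the element of F₂(A) given by ξ₂ at u ∘ φ equals the
image under f of the element of F₁(A) given by ξ₁ at u; in other words composition with φ, h_{R₁} →
h_{R₂}, covers f. (The published statement assumes (R₁, ξ₁) versal as well; this row asks nothing of
ξ₁, which is all the argument uses, and takes the coefficient rings Noetherian.) -/
theorem result
    {k : Type u} [Field k] [IsAlgClosed k] {F₁ F₂ : ArtFun.Art k k ⥤ Type v} (f : F₁ ⟶ F₂)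
    (R₁ : ArtFun.CRing k k) (ξ₁ : ArtFun.Family R₁.carrier R₁.res F₁)
    (R₂ : ArtFun.CRing k k) (ξ₂ : ArtFun.Family R₂.carrier R₂.res F₂) (hξ₂ : ArtFun.IsVersal ξ₂)
    (hsurj : ∀ A : ArtFun.Art k k, Function.Surjective (ξ₂.app A)) :
    ∃ (φ : R₂.carrier →ₐ[k] R₁.carrier) (hφ : R₁.res.comp φ = R₂.res),
      ∀ (A : ArtFun.Art k k) (u : ArtFun.HomSet R₁.carrier R₁.res A),
        (ξ₂.along φ hφ).app A u = f.app A (ξ₁.app A u) := by
  have h0 : ArtFun.H0 F₂ := by
    let φ₀ : ArtFun.HomSet R₂.carrier R₂.res (ArtFun.Art.base k k) := ⟨R₂.res, AlgHom.id_comp _⟩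
    have hu : ∀ φ : ArtFun.HomSet R₂.carrier R₂.res (ArtFun.Art.base k k), φ = φ₀ := fun φ =>
      Subtype.ext (AlgHom.ext fun x => congr($(φ.2) x))
    refine ⟨⟨ξ₂.app _ φ₀⟩, ⟨fun a b => ?_⟩⟩
    obtain ⟨x, rfl⟩ := hsurj _ a
    obtain ⟨y, rfl⟩ := hsurj _ b
    rw [hu x, hu y]
  let η : ArtFun.Family R₁.carrier R₁.res F₂ :=
    { app := fun A u => f.app A (ξ₁.app A u)
      natural := fun {A B} g u => by rw [ξ₁.natural, NatTrans.naturality_apply] }
  obtain ⟨φ, hφ, e⟩ := Groth.Agent.ArtFunLib.Hull.exists_along_of_versal hξ₂ h0 R₁ η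
  exact ⟨φ, hφ, fun A u => by rw [e]⟩

end Groth.Agent.S12301
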