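import Groth.Statements.S12303
import Groth.Agent.ArtFunLib.Smooth
-- import your own Groth.Agent.* helpers here

set_option autoImplicit false
universe u v
open CategoryTheory
open ArtFun

namespace Groth.Agent.S12303

/-- Let k be an algebraically closed field, F a set-valued functor on local Artinian k-algebras with
residue field k, and ξ : h_R → F a miniversal family in the strong sense, over an augmented
k-algebra R: ξ is surjective on every object, has the lifting property along surjections, and is
bijective on the dual numbers k[ε]. Then for every object A and every fibre-product square B = A ×_k
k[ε] over k, the comparison map F(B) → F(A) ×_{F(k)} F(k[ε]) is bijective. (The published statement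
takes R complete local, which the argument does not use.) -/
theorem result
    {k : Type u} [Field k] [IsAlgClosed k] {F : ArtFun.Art k k ⥤ Type v}
    {R : Type u} [CommRing R] [Algebra k R] {resR : R →ₐ[k] k}
    (ξ : ArtFun.Family R resR F) (hξ : ArtFun.IsMiniversal ξ)
    (hsurj : ∀ A : ArtFun.Art k k, Function.Surjective (ξ.app A)) :
    ArtFun.Heps F := by
  exact ArtFunLib.heps_of_miniversal hξ hsurj

end Groth.Agent.S12303
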