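import Groth.Statements.S12305
import Groth.Agent.CotTLib.Away

set_option autoImplicit false
universe u
open CotT

namespace Groth.Agent.S12305

/-- Let k be an algebraically closed field, A a finitely generated k-algebra which is a domain, smooth
over k and of Krull dimension one (the coordinate ring of a nonsingular affine curve T), t ∈ A an
element generating a maximal ideal (a point 0 of T), and B a finitely generated flat A-algebra (an
affine flat family X = Spec B over T). Then the following are equivalent: (i) B is smooth over A at
every prime of B not containing t, that is, every fibre of X over a point of T other than 0 is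
smooth; (ii) there is an integer n₀ such that t^(n₀) annihilates the cotangent module T¹(B/A, M),
computed from the choice-free presentation of B over A, for every finitely generated B-module M. -/
theorem result
    {k : Type u} [Field k] [IsAlgClosed k] (A B : Type u) [CommRing A] [CommRing B] [IsDomain A]
    [Algebra k A] [Algebra.FiniteType k A] [Algebra.Smooth k A] (hdim : ringKrullDim A = 1)
    (t : A) (ht : (Ideal.span {t}).IsMaximal)
    [Algebra A B] [Algebra.FiniteType A B] [Module.Flat A B] :
    (∀ q : PrimeSpectrum B, algebraMap A B t ∉ q.asIdeal → q ∈ Algebra.smoothLocus A B) ↔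
    ∃ n₀ : ℕ, ∀ (M : Type u) [AddCommGroup M] [Module B M] [Module.Finite B M],
      ∀ x : CotT.T1 (CotT.canon A B) M, (algebraMap A B t) ^ n₀ • x = 0 := by
  have : IsNoetherianRing A := Algebra.FiniteType.isNoetherianRing k A
  obtain ⟨n, σ, ⟨P⟩⟩ := CotTLib.exists_fin_presentation A B
  constructor
  · intro h
    obtain ⟨N, l, hl⟩ := (CotTLib.smooth_away_iff (algebraMap A B t) P).1 fun q hq => h q hq
    refine ⟨N, fun M _ _ _ x => ?_⟩
    let e := CotTLib.T1equiv (M := M) P (CotT.canon A B) (CotTLib.someHom _ _)
    refine e.injective ?_
    rw [map_smul, map_zero]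
    obtain ⟨φ, hφ⟩ := CotTLib.homToT1_surjective P M (e x)
    rw [← hφ, ← map_smul, ← LinearMap.mem_ker, CotTLib.ker_homToT1]
    exact ⟨φ ∘ₗ l, by rw [LinearMap.lcomp_apply', LinearMap.comp_assoc, hl, LinearMap.comp_smul, LinearMap.comp_id]⟩
  · rintro ⟨N, hN⟩ q hq
    refine (CotTLib.smooth_away_iff (algebraMap A B t) P).2 ?_ hq
    have : IsNoetherianRing P.toExtension.Ring := inferInstanceAs (IsNoetherianRing (MvPolynomial (Fin n) A))
    have : Module.Finite B P.toExtension.Cotangent := by
      have : Module.Finite P.toExtension.Ring P.toExtension.ker := Module.Finite.of_fg (IsNoetherian.noetherian _)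
      have : Module.Finite P.toExtension.Ring P.toExtension.Cotangent :=
        .of_surjective _ Algebra.Extension.Cotangent.mk_surjective
      exact Module.Finite.of_restrictScalars_finite P.toExtension.Ring _ _
    let e := CotTLib.T1equiv (M := P.toExtension.Cotangent) (CotT.canon A B) P (CotTLib.someHom _ _)
    have h0 : CotT.homToT1 P P.toExtension.Cotangent ((algebraMap A B t) ^ N • LinearMap.id) = 0 := by
      refine e.injective ?_
      rw [map_smul, map_smul, map_zero]
      exact hN _ _
    rw [← LinearMap.mem_ker, CotTLib.ker_homToT1] at h0
    obtain ⟨l, hl⟩ := h0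
    exact ⟨N, l, hl⟩

end Groth.Agent.S12305
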