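import Groth.Statements.S12308
import Groth.Agent.DefGlueLib.Affine
import Groth.Agent.DefGlueLib.Fin
import Groth.Agent.ArtFunLib.Hull.Seed
import Mathlib.AlgebraicGeometry.Morphisms.Smooth
import Mathlib.AlgebraicGeometry.Morphisms.FiniteType

set_option autoImplicit false
universe u
open CategoryTheory AlgebraicGeometry
open SGA7

namespace Groth.Agent.S12308

/-- Suppose Λ is a Noetherian local ring, complete for its maximal ideal, whose residue field is k (so
the map Λ → k is surjective), and work with functors on local Artinian Λ-algebras having residue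
field k. Take X₀ to be an affine scheme of finite type over k, together with an open subscheme U ⊆
X₀ that is smooth over k and has finite complement (thus X₀ fails to be smooth at only finitely many
points). Under these assumptions the deformation functor of X₀, which sends A to isomorphism classes
of schemes flat over Spec A whose closed fibre is X₀, has a hull; equivalently, there is a
miniversal family defined over a complete local Noetherian Λ-algebra with residue field k. -/
theorem result (Λ k : Type u) [CommRing Λ] [IsLocalRing Λ] [IsNoetherianRing Λ]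
    [IsAdicComplete (IsLocalRing.maximalIdeal Λ) Λ] [Field k] [Algebra Λ k]
    (hk : Function.Surjective (algebraMap Λ k))
    (X : Scheme.{u}) [IsAffine X] (x : X ⟶ Spec (CommRingCat.of k)) [LocallyOfFiniteType x]
    (U : X.Opens) (hU : Smooth (U.ι ≫ x)) (hfin : ((U : Set X)ᶜ).Finite) :
    ArtFun.HasHull (ArtFun.defFunctor (Λ := Λ) X x) := by
  classical
  have : Module.Finite Λ k := Module.Finite.of_surjective (Algebra.linearMap Λ k) hk
  have h0 := DefGlueLib.h0_defFunctor (Λ := Λ) (x := x)
  have h2 := DefGlueLib.heps_defFunctor (Λ := Λ) (x := x)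
  obtain ⟨T⟩ := ArtFunLib.nonempty_tangentStr h0 h2
  refine ArtFunLib.Hull.hasHull_of_surjective hk h0
    (fun B A A' A'' p' p'' f' f'' h hf => DefGlueLib.surjective_cmp h hf.1) h2 ?_
  let B := Γ(X, ⊤)
  let _ : Algebra k B := (DefGlueLib.str x (DefGlueLib.topAZ X)).toAlgebra
  have hft : Algebra.FiniteType k B := by
    rw [← RingHom.finiteType_algebraMap]
    refine (HasRingHomProperty.Spec_iff (P := @LocallyOfFiniteType)
      (φ := CommRingCat.ofHom (DefGlueLib.str x (DefGlueLib.topAZ X)))).1 ?_
    rw [DefGlueLib.SpecMap_str]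
    infer_instance
  obtain ⟨n, π, hπ⟩ := Algebra.FiniteType.iff_quotient_mvPolynomial''.1 hft
  let P := MvPolynomial (Fin n) k
  let _ : Algebra P B := π.toRingHom.toAlgebra
  have : IsScalarTower k P B := IsScalarTower.of_algebraMap_eq fun c => (π.commutes c).symm
  have hc : ∀ c : k, algebraMap k Γ(X, ⊤) c = DefGlueLib.str x (DefGlueLib.topAZ X) c := fun c => rfl
  let S : Set B := {f | X.basicOpen f ≤ U}
  have hsm : ∀ f ∈ S, Algebra.FormallySmooth k (Localization.Away f) := fun f hf => by
    let V : Scheme.AffineZariskiSite X := (DefGlueLib.topAZ X).basicOpen f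
    have hloc : IsLocalization.Away f Γ(X, X.basicOpen f) := (isAffineOpen_top X).isLocalization_basicOpen f
    let _ : Algebra k Γ(X, X.basicOpen f) := (DefGlueLib.str x V).toAlgebra
    have : IsScalarTower k B Γ(X, X.basicOpen f) := IsScalarTower.of_algebraMap_eq fun c =>
      (DFunLike.congr_fun (DefGlueLib.str_res x ((DefGlueLib.topAZ X).basicOpen_le f)) c).symm
    have hsm' : (DefGlueLib.str x V).Smooth := by
      refine (HasRingHomProperty.Spec_iff (P := @Smooth) (φ := CommRingCat.ofHom (DefGlueLib.str x V))).1 ?_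
      rw [DefGlueLib.SpecMap_str]
      have hr : Set.range V.2.fromSpec ⊆ Set.range U.ι := by
        rw [IsAffineOpen.range_fromSpec, Scheme.Opens.range_ι]
        exact hf
      rw [← IsOpenImmersion.lift_fac U.ι V.2.fromSpec hr, Category.assoc]
      infer_instance
    have : Algebra.Smooth k Γ(X, X.basicOpen f) := hsm'
    exact Algebra.FormallySmooth.of_equiv
      ((IsLocalization.algEquiv (Submonoid.powers f) Γ(X, X.basicOpen f) (Localization.Away f)).restrictScalars k)
  have hfinS : (PrimeSpectrum.zeroLocus S).Finite := by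
    refine Set.Finite.of_injOn (f := (isAffineOpen_top X).fromSpec) ?_
      ((isAffineOpen_top X).fromSpec.isOpenEmbedding.injective.injOn) hfin
    intro p hp hpU
    obtain ⟨f, hfU, hpf⟩ := (isAffineOpen_top X).exists_basicOpen_le
      (V := U) ⟨(isAffineOpen_top X).fromSpec p, hpU⟩ trivial
    have hpf' : p ∈ (isAffineOpen_top X).fromSpec ⁻¹ᵁ X.basicOpen f := hpf
    rw [IsAffineOpen.fromSpec_preimage_basicOpen] at hpf'
    exact hpf' (hp hfU)
  have hfq := DefGlueLib.finite_quotient (k := k) (B := B) (n := n) hπ S hsm hfinS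
  obtain ⟨Θ, hΘ⟩ := DefGlueLib.exists_linearMap Λ (x := x) (P := P) hc hπ
  have hsur : Function.Surjective Θ := fun t => by
    obtain ⟨h, hh⟩ := DefGlueLib.tanOf_surjective (P := P) hc hπ (fun {R} _ _ q hq => by
      refine ⟨MvPolynomial.aeval fun i => (hq (π (MvPolynomial.X i))).choose, MvPolynomial.algHom_ext fun i => ?_⟩
      rw [AlgHom.comp_apply, MvPolynomial.aeval_X, (hq (π (MvPolynomial.X i))).choose_spec]
      rfl) t
    exact ⟨h, (hΘ h).trans hh⟩
  let N := (DefGlueLib.derRange k B P).restrictScalars k
  have hN : N ≤ LinearMap.ker Θ := fun h hh => by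
    obtain ⟨D, hD⟩ := DefGlueLib.mem_derRange.1 hh
    rw [LinearMap.mem_ker, hΘ, ← map_zero Θ, hΘ]
    exact (DefGlueLib.tanOf_shift (P := P) hc hπ _ _ D fun g => (zero_add _).trans (hD g).symm).symm
  have : Module.Finite k ((DefGlueLib.SqExt.rel P B →ₗ[P] B) ⧸ N) :=
    Module.Finite.equiv (Submodule.Quotient.restrictScalarsEquiv k (DefGlueLib.derRange k B P)).symm
  refine Module.Finite.of_surjective (Submodule.liftQ N Θ hN) fun t => ?_
  obtain ⟨h, rfl⟩ := hsur t
  exact ⟨Submodule.Quotient.mk h, rfl⟩

end Groth.Agent.S12308
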