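import Groth.Statements.S12310
import Groth.Agent.DefGlueLib.LiftAffine

set_option autoImplicit false
universe u
open CategoryTheory AlgebraicGeometry
open SGA7

namespace Groth.Agent.S12310

/-- Suppose Λ is a Noetherian local ring, complete for its maximal-ideal-adic topology, whose residue
field is k (so Λ → k is surjective), and work with functors defined on local Artinian Λ-algebras
having residue field k. Take a finite-type k-algebra A₀ that is a local complete intersection over k
(meaning it admits a presentation as a quotient of a polynomial algebra in finitely many variables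
whose kernel is Koszul-regular), and put X₀ = Spec A₀. Then X₀ has a smooth deformation functor (the
functor of isomorphism classes of schemes flat over Spec A whose closed fibre is X₀): given any
surjection A' → A, each deformation over A can be lifted to one over A'. -/
theorem result (Λ k : Type u) [CommRing Λ] [IsLocalRing Λ] [IsNoetherianRing Λ]
    [IsAdicComplete (IsLocalRing.maximalIdeal Λ) Λ] [Field k] [Algebra Λ k]
    (hk : Function.Surjective (algebraMap Λ k))
    (A₀ : Type u) [CommRing A₀] [Algebra k A₀] (hA : LCI.IsLCI k A₀) :
    ArtFun.IsSmoothFunctor (ArtFun.defFunctor (Λ := Λ) (Spec (CommRingCat.of A₀))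
      (Spec.map (CommRingCat.ofHom (algebraMap k A₀)))) := by
  obtain ⟨hft, n, π, hπ, hK⟩ := hA
  have : Module.Finite Λ k := Module.Finite.of_surjective (Algebra.linearMap Λ k) hk
  obtain ⟨r, f, hf⟩ := Submodule.fg_iff_exists_fin_generating_family.1
    (IsNoetherian.noetherian (RingHom.ker π.toRingHom))
  replace hf : Ideal.span (Set.range f) = RingHom.ker π.toRingHom := hf
  let e : A₀ →+* Γ(Spec (CommRingCat.of A₀), ⊤) := (Scheme.ΓSpecIso (CommRingCat.of A₀)).inv.hom
  have he : Function.Bijective e :=
    (ConcreteCategory.isIso_iff_bijective (Scheme.ΓSpecIso (CommRingCat.of A₀)).inv).1 inferInstance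
  let _ : Algebra (MvPolynomial (Fin n) k) Γ(Spec (CommRingCat.of A₀), ⊤) := (e.comp π.toRingHom).toAlgebra
  refine DefGlueLib.isSmoothFunctor_defFunctor_affine (Spec.map (CommRingCat.ofHom (algebraMap k A₀)))
    (n := n) ?_ (he.2.comp hπ) f ?_ (hf ▸ hK)
  · have h : (Spec.map (CommRingCat.ofHom (algebraMap k A₀))).appLE ⊤ ⊤ le_top =
        (Spec.map (CommRingCat.ofHom (algebraMap k A₀))).appTop := Scheme.Hom.appLE_eq_app _
    refine RingHom.ext fun c => ?_
    change ((Scheme.ΓSpecIso (CommRingCat.of k)).inv ≫
      (Spec.map (CommRingCat.ofHom (algebraMap k A₀))).appLE ⊤ ⊤ le_top).hom c = e (π (MvPolynomial.C c))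
    rw [h, ← Scheme.ΓSpecIso_inv_naturality]
    exact congrArg e (π.commutes c).symm
  · rw [hf]
    ext a
    exact ⟨fun ha => he.1 (ha.trans (map_zero e).symm), fun ha => (congrArg e ha).trans (map_zero e)⟩

end Groth.Agent.S12310
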