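import Groth.Statements.S12314
import Groth.Prelude.Def_SGA7a
-- import your own Groth.Agent.* helpers here

set_option autoImplicit false
universe u
open CategoryTheory CategoryTheory.Limits AlgebraicGeometry MonObj
open SGA7

namespace Groth.Agent.S12314

/-- Let R be a henselian discrete valuation ring with fraction field K and residue field k, Ω a
separable closure of K, W a valuation subring of Ω lying over R, A and C abelian varieties over K
(proper, geometrically integral commutative group schemes), and u : C → A an isogeny, in the form: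
there are a homomorphism v : A → C and an integer n > 0 with v ∘ u = n and u ∘ v = n. Let ℓ be a
prime invertible in k and consider the ℓ-adic Tate modules of the Ω-points of C and A; call an
element fixed when all its components are fixed by the inertia group at W (for such ℓ the fixed part
is the inertia invariants). Then T_ℓ(u) maps the fixed part of T_ℓ(C) into the fixed part of T_ℓ(A)
and induces an isogeny between them: T_ℓ(u) is injective, and n times every fixed element of T_ℓ(A)
is the image of a fixed element of T_ℓ(C). (The case of a prime equal to the residue characteristic,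
where the fixed part is defined through the Néron model, is not stated.) -/
theorem result (R K Ω : Type u) [CommRing R] [IsDomain R] [IsDiscreteValuationRing R] [HenselianLocalRing R]
    [Field K] [Algebra R K] [IsFractionRing R K] [Field Ω] [Algebra K Ω] [IsSepClosure K Ω]
    (W : ValuationSubring Ω) (hW : SGA7.LiesOver K R W)
    (A C : Over (Spec (CommRingCat.of K))) [GrpObj A] [IsCommMonObj A] [IsProper A.hom] [GeometricallyIntegral A.hom]
    [GrpObj C] [IsCommMonObj C] [IsProper C.hom] [GeometricallyIntegral C.hom]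
    (u : C ⟶ A) [IsMonHom u] (v : A ⟶ C) [IsMonHom v] (n : ℕ) (hn : 0 < n)
    (huv : u ≫ v = (𝟙 C) ^ n) (hvu : v ≫ u = (𝟙 A) ^ n)
    (l : ℕ) (hl : l.Prime) (hlp : (l : IsLocalRing.ResidueField R) ≠ 0) :
    (∀ z : AbDual.TateMod C l (SGA7.pt Ω),
      (∀ (τ : Ω ≃ₐ[K] Ω) (m : ℕ), SGA7.IsInertia W τ →
        SGA7.galAct τ (AbDual.TateMod.component C l (SGA7.pt Ω) m z).toMul =
          (AbDual.TateMod.component C l (SGA7.pt Ω) m z).toMul) →
      (∀ (τ : Ω ≃ₐ[K] Ω) (m : ℕ), SGA7.IsInertia W τ →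
        SGA7.galAct τ (AbDual.TateMod.component A l (SGA7.pt Ω) m (AbDual.tateMap u z)).toMul =
          (AbDual.TateMod.component A l (SGA7.pt Ω) m (AbDual.tateMap u z)).toMul)) ∧
    (∀ z : AbDual.TateMod C l (SGA7.pt Ω), AbDual.tateMap (l := l) (T := SGA7.pt Ω) u z = 0 → z = 0) ∧
    (∀ y : AbDual.TateMod A l (SGA7.pt Ω),
      (∀ (τ : Ω ≃ₐ[K] Ω) (m : ℕ), SGA7.IsInertia W τ →
        SGA7.galAct τ (AbDual.TateMod.component A l (SGA7.pt Ω) m y).toMul =
          (AbDual.TateMod.component A l (SGA7.pt Ω) m y).toMul) →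
      ∃ z : AbDual.TateMod C l (SGA7.pt Ω),
        (∀ (τ : Ω ≃ₐ[K] Ω) (m : ℕ), SGA7.IsInertia W τ →
        SGA7.galAct τ (AbDual.TateMod.component C l (SGA7.pt Ω) m z).toMul =
          (AbDual.TateMod.component C l (SGA7.pt Ω) m z).toMul) ∧
        AbDual.tateMap (l := l) (T := SGA7.pt Ω) u z = n • y) := by
  have hcomp : ∀ {A₁ B₁ : Over (Spec (CommRingCat.of K))} [GrpObj A₁] [IsCommMonObj A₁] [GrpObj B₁] [IsCommMonObj B₁]
      (f : A₁ ⟶ B₁) [IsMonHom f] (g : B₁ ⟶ A₁) [IsMonHom g] (_ : f ≫ g = (𝟙 A₁) ^ n)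
      (x : AbDual.TateMod A₁ l (SGA7.pt Ω)), AbDual.tateMap g (AbDual.tateMap f x) = n • x := by
    intro A₁ B₁ _ _ _ _ f _ g _ hfg x
    refine AbDual.TateMod.ext fun m => ?_
    change Additive.ofMul ((((x : ℕ → Additive (SGA7.pt Ω ⟶ A₁)) m).toMul ≫ f) ≫ g) =
      n • (x : ℕ → Additive (SGA7.pt Ω ⟶ A₁)) m
    rw [Category.assoc, hfg, MonObj.comp_pow, Category.comp_id]
    rfl
  have hgal : ∀ {A₁ B₁ : Over (Spec (CommRingCat.of K))} (τ : Ω ≃ₐ[K] Ω) (f : A₁ ⟶ B₁) (x : SGA7.Pts Ω A₁),
      SGA7.galAct τ (x ≫ f) = SGA7.galAct τ x ≫ f := fun τ f x => (Category.assoc _ _ _).symm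
  refine ⟨fun z hz τ m hτ => ?_, fun z hz => ?_, fun y hy => ⟨AbDual.tateMap v y, fun τ m hτ => ?_, hcomp v u hvu y⟩⟩
  · rw [AbDual.tateMap_component]
    exact (hgal τ u _).trans (congrArg (· ≫ u) (hz τ m hτ))
  · have h0 : n • z = 0 := by rw [← hcomp u v huv z, hz, map_zero]
    obtain ⟨k, m, hm, rfl⟩ := Nat.exists_eq_pow_mul_and_not_dvd hn.ne' l hl.ne_one
    refine AbDual.TateMod.ext fun j => ?_
    let z' : ℕ → Additive (SGA7.pt Ω ⟶ C) := z
    have hk : ∀ i, (l ^ k) • z' i = 0 := fun i => by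
      have h1 : m • (l ^ k • z' i) = 0 := by
        rw [← mul_nsmul]; exact congrArg (fun w : AbDual.TateMod C l (SGA7.pt Ω) => w.1 i) h0
      have h2 : (l ^ i) • (l ^ k • z' i) = 0 := by rw [smul_comm, z.torsion i, nsmul_zero]
      have hcop : Nat.gcd m (l ^ i) = 1 := Nat.Coprime.pow_right _ ((hl.coprime_iff_not_dvd.2 hm).symm)
      refine AddMonoid.addOrderOf_eq_one_iff.1 (Nat.dvd_one.1 ?_)
      rw [← hcop]
      exact Nat.dvd_gcd (addOrderOf_dvd_of_nsmul_eq_zero h1) (addOrderOf_dvd_of_nsmul_eq_zero h2)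
    have hshift : ∀ a i, (l ^ a) • z' (i + a) = z' i := by
      intro a
      induction a with
      | zero => intro i; simp
      | succ a ih => intro i; rw [pow_succ', ← add_assoc, mul_nsmul', ← ih i]
                     rw [← mul_nsmul', mul_comm, mul_nsmul']; exact congrArg _ (z.compat (i + a))
    exact (hshift k j).symm.trans (hk _)
  · rw [AbDual.tateMap_component]
    exact (hgal τ v _).trans (congrArg (· ≫ v) (hy τ m hτ))

end Groth.Agent.S12314
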