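import Groth.Statements.S12315
import Mathlib.RingTheory.AdicCompletion.Functoriality
import Mathlib.RingTheory.Nakayama
import Mathlib.RingTheory.Ideal.Quotient.Operations
import Mathlib.RingTheory.Noetherian.Orzech
import Mathlib.LinearAlgebra.Dual.Lemmas
-- import your own Groth.Agent.* helpers here

set_option autoImplicit false
universe u v
open CategoryTheory
open SGA7

namespace Groth.Agent.S12315

open IsLocalRing in
/-- A `k`-valued `Λ`-linear form separating a point from a submodule containing `m_Λ N`. -/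
theorem exists_form {Λ k N : Type u} [CommRing Λ] [IsLocalRing Λ] [Field k] [Algebra Λ k]
    (hk : Function.Surjective (algebraMap Λ k)) [AddCommGroup N] [Module Λ N]
    (S : Submodule Λ N) (hS : ∀ c ∈ maximalIdeal Λ, ∀ n : N, c • n ∈ S) {x : N} (hx : x ∉ S) :
    ∃ l : N →ₗ[Λ] k, (∀ n ∈ S, l n = 0) ∧ l x ≠ 0 := by
  have hker : RingHom.ker (algebraMap Λ k) = maximalIdeal Λ :=
    IsLocalRing.eq_maximalIdeal (RingHom.ker_isMaximal_of_surjective _ hk)
  let e : (Λ ⧸ maximalIdeal Λ) ≃ₐ[Λ] k :=
    (Ideal.quotientEquivAlgOfEq Λ hker.symm).trans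
      (Ideal.quotientKerAlgEquivOfSurjective (f := Algebra.ofId Λ k) hk)
  have ht : Module.IsTorsionBySet Λ (N ⧸ S) (maximalIdeal Λ : Set Λ) := by
    rintro n ⟨c, hc⟩
    obtain ⟨n, rfl⟩ := S.mkQ_surjective n
    exact (Submodule.Quotient.mk_eq_zero S).2 (hS c hc n)
  letI : Field (Λ ⧸ maximalIdeal Λ) := Ideal.Quotient.field _
  letI : Module (Λ ⧸ maximalIdeal Λ) (N ⧸ S) := ht.module
  have hx' : S.mkQ x ≠ 0 := fun h => hx ((Submodule.Quotient.mk_eq_zero S).1 h)
  obtain ⟨φ, hφ⟩ : ∃ φ : (N ⧸ S) →ₗ[Λ ⧸ maximalIdeal Λ] (Λ ⧸ maximalIdeal Λ), φ (S.mkQ x) ≠ 0 := by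
    by_contra h
    push Not at h
    exact hx' ((Module.forall_dual_apply_eq_zero_iff _ _).1 h)
  let φ' : (N ⧸ S) →ₗ[Λ] (Λ ⧸ maximalIdeal Λ) :=
    { toFun := φ
      map_add' := map_add φ
      map_smul' := fun c n => φ.map_smul (Ideal.Quotient.mk _ c) n }
  refine ⟨e.toLinearMap ∘ₗ φ' ∘ₗ S.mkQ, fun n hn => ?_, ?_⟩
  · change e (φ (S.mkQ n)) = 0
    rw [show S.mkQ n = 0 from (Submodule.Quotient.mk_eq_zero S).2 hn, map_zero, map_zero]
  · change e (φ (S.mkQ x)) ≠ 0
    exact (EmbeddingLike.map_ne_zero_iff).2 hφ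


/-- Let Λ be a complete Noetherian local ring with residue field k (the map Λ → k surjective), and
consider functors on the category of local Artinian Λ-algebras with residue field k. Let F be such a
functor, R a complete local Noetherian Λ-algebra with residue field k, and ξ a family of F over R (a
morphism h_R → F) which is injective on k[ε]: distinct augmented Λ-algebra maps R → k[ε] give
distinct elements of F(k[ε]). Then every endomorphism of the pair (R, ξ), that is every Λ-algebra
map α : R → R compatible with the augmentation such that transporting ξ along α gives back ξ, is an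
automorphism of R. (The published statement is for formal objects of a cofibred groupoid; this row
is the case of a set-valued functor.) -/
theorem result (Λ k : Type u) [CommRing Λ] [IsLocalRing Λ] [IsNoetherianRing Λ]
    [IsAdicComplete (IsLocalRing.maximalIdeal Λ) Λ] [Field k] [Algebra Λ k]
    (hk : Function.Surjective (algebraMap Λ k))
    (F : ArtFun.Art Λ k ⥤ Type v) (R : ArtFun.CRing Λ k) (ξ : ArtFun.Family R.carrier R.res F)
    (hinj : Function.Injective (ξ.app (ArtFun.Art.dual Λ k)))
    (α : R.carrier →ₐ[Λ] R.carrier) (hα : R.res.comp α = R.res) (hξ : ξ.along α hα = ξ) :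
    Function.Bijective α := by
  classical
  set m := IsLocalRing.maximalIdeal R.carrier with hm
  have hker : RingHom.ker (R.res : R.carrier →+* k) = m :=
    IsLocalRing.eq_maximalIdeal (RingHom.ker_isMaximal_of_surjective _ R.res_surjective)
  have hmem : ∀ r, r ∈ m ↔ R.res r = 0 := fun r => by rw [← hker]; exact RingHom.mem_ker
  have hres : ∀ r, R.res (α r) = R.res r := fun r => DFunLike.congr_fun hα r
  have hdec : ∀ r, ∃ (d : Λ) (r' : R.carrier), r' ∈ m ∧ r = algebraMap Λ R.carrier d + r' := fun r => by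
    obtain ⟨d, hd⟩ := hk (R.res r)
    exact ⟨d, r - algebraMap Λ _ d, (hmem _).2 (by rw [map_sub, AlgHom.commutes, hd, sub_self]), by abel⟩
  -- the `Λ`-submodule `Λ + m² + m_Λ R`
  let J : Ideal R.carrier := m ^ 2 ⊔ (IsLocalRing.maximalIdeal Λ).map (algebraMap Λ R.carrier)
  have hΛm : ∀ c ∈ IsLocalRing.maximalIdeal Λ, algebraMap Λ R.carrier c ∈ m := fun c hc => by
    rw [hmem, AlgHom.commutes]
    have : RingHom.ker (algebraMap Λ k) = IsLocalRing.maximalIdeal Λ :=
      IsLocalRing.eq_maximalIdeal (RingHom.ker_isMaximal_of_surjective _ hk)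
    rwa [← RingHom.mem_ker, this]
  have hJm : J ≤ m := sup_le (Ideal.pow_le_self two_ne_zero)
    (Ideal.map_le_iff_le_comap.2 fun c hc => hΛm c hc)
  let S : Submodule Λ R.carrier :=
    J.restrictScalars Λ ⊔ Submodule.span Λ {(1 : R.carrier)}
  have hS : ∀ c ∈ IsLocalRing.maximalIdeal Λ, ∀ n : R.carrier, c • n ∈ S := fun c hc n => by
    refine Submodule.mem_sup_left ?_
    rw [Submodule.restrictScalars_mem, Algebra.smul_def]
    exact Ideal.mem_sup_right (Ideal.mul_mem_right _ _ (Ideal.mem_map_of_mem _ hc))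
  have htan : ∀ x ∈ m, α x - x ∈ J := by
    intro x hx
    have hxm : α x - x ∈ m := sub_mem ((hmem _).2 (by rw [hres, (hmem x).1 hx])) hx
    have hxS : α x - x ∈ S := by
      by_contra hne
      obtain ⟨l, hl, hlx⟩ := exists_form hk S hS hne
      have hl1 : l 1 = 0 := hl 1 (Submodule.mem_sup_right (Submodule.mem_span_singleton_self _))
      have hlJ : ∀ r ∈ J, l r = 0 := fun r hr => hl r (Submodule.mem_sup_left hr)
      have hl' : ∀ (d : Λ), l (algebraMap Λ R.carrier d) = 0 := fun d => by
        rw [Algebra.algebraMap_eq_smul_one, map_smul, hl1, smul_zero]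
      have hmul : ∀ a b, l (a * b) = R.res a * l b + R.res b * l a := by
        intro a b
        obtain ⟨c, a', ha, rfl⟩ := hdec a
        obtain ⟨d, b', hb, rfl⟩ := hdec b
        have e : (algebraMap Λ R.carrier c + a') * (algebraMap Λ R.carrier d + b') =
            algebraMap Λ R.carrier (c * d) + c • b' + d • a' + a' * b' := by
          rw [map_mul, Algebra.smul_def, Algebra.smul_def]; ring
        rw [e]
        simp only [map_add, hl', map_smul, zero_add, AlgHom.commutes, (hmem a').1 ha, (hmem b').1 hb,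
          add_zero, hlJ _ (Ideal.mem_sup_left (by rw [pow_two]; exact Ideal.mul_mem_mul ha hb))]
        simp [Algebra.smul_def]
      let ψ : R.carrier →ₐ[Λ] DualNumber k :=
        { toFun := fun r => (R.res r, l r)
          map_one' := TrivSqZeroExt.ext (map_one R.res) hl1
          map_mul' := fun a b => TrivSqZeroExt.ext (map_mul R.res a b)
            (by
              change l (a * b) = (R.res a • l b + MulOpposite.op (R.res b) • l a)
              rw [hmul a b, MulOpposite.smul_eq_mul_unop, MulOpposite.unop_op, smul_eq_mul, mul_comm (l a)])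
          map_zero' := TrivSqZeroExt.ext (map_zero R.res) (map_zero l)
          map_add' := fun a b => TrivSqZeroExt.ext (map_add R.res a b) (map_add l a b)
          commutes' := fun c => TrivSqZeroExt.ext (R.res.commutes c) (hl' c) }
      have hψ : (ArtFun.Art.dual Λ k).res.comp ψ = R.res := AlgHom.ext fun r => rfl
      let Ψ : ArtFun.HomSet R.carrier R.res (ArtFun.Art.dual Λ k) := ⟨ψ, hψ⟩
      let Ψ' : ArtFun.HomSet R.carrier R.res (ArtFun.Art.dual Λ k) :=
        ⟨ψ.comp α, AlgHom.ext fun r => DFunLike.congr_fun hα r⟩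
      have hΨ : Ψ' = Ψ := hinj (congrFun (congrFun (congrArg ArtFun.Family.app hξ) (ArtFun.Art.dual Λ k)) Ψ)
      have h2 : l (α x) = l x :=
        congrArg TrivSqZeroExt.snd (DFunLike.congr_fun (congrArg Subtype.val hΨ) x)
      exact hlx (by rw [map_sub, h2, sub_self])
    obtain ⟨j, hj, u, hu, hju⟩ := Submodule.mem_sup.1 hxS
    obtain ⟨d, rfl⟩ := Submodule.mem_span_singleton.1 hu
    have hdR : d • (1 : R.carrier) ∈ m := by
      have : d • (1 : R.carrier) = (α x - x) - j := by rw [← hju]; abel
      rw [this]; exact sub_mem hxm (hJm hj)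
    rw [← hju]
    refine add_mem hj ?_
    rw [← Algebra.algebraMap_eq_smul_one] at hdR ⊢
    refine Ideal.mem_sup_right (Ideal.mem_map_of_mem _ ?_)
    rw [IsLocalRing.mem_maximalIdeal, mem_nonunits_iff]
    exact fun hd => (IsLocalRing.mem_maximalIdeal _).1 hdR (hd.map _)
  have hle : m.map α ≤ m :=
    Ideal.map_le_iff_le_comap.2 fun r hr => (hmem _).2 (by rw [hres]; exact (hmem r).1 hr)
  have hJle : J ≤ m.map α ⊔ m • m := by
    refine sup_le (by rw [pow_two]; exact le_sup_right) (Ideal.map_le_iff_le_comap.2 fun c hc => ?_)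
    refine Ideal.mem_sup_left ?_
    rw [← α.commutes c]
    exact Ideal.mem_map_of_mem _ (hΛm c hc)
  have hmap : m.map α = m := by
    refine le_antisymm hle (Submodule.le_of_le_smul_of_le_jacobson_bot (IsNoetherian.noetherian _)
      (IsLocalRing.maximalIdeal_le_jacobson _) fun x hx => ?_)
    rw [show x = α x - (α x - x) by abel]
    exact sub_mem (Ideal.mem_sup_left (Ideal.mem_map_of_mem _ hx)) (hJle (htan x hx))
  haveI := R.isAdicComplete
  have hmap' : m.map (α : R.carrier →+* R.carrier) = m := hmap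
  have hsurj : Function.Surjective (α : R.carrier →+* R.carrier) := by
    haveI : IsHausdorff (m.map (α : R.carrier →+* R.carrier)) R.carrier := by
      rw [hmap']; infer_instance
    refine surjective_of_mk_map_comp_surjective (I := m) (f := (α : R.carrier →+* R.carrier)) ?_
    intro y
    obtain ⟨r, rfl⟩ := Ideal.Quotient.mk_surjective y
    obtain ⟨d, r', hr', rfl⟩ := hdec r
    refine ⟨algebraMap Λ _ d, Ideal.Quotient.eq.2 ?_⟩
    change α (algebraMap Λ R.carrier d) - _ ∈ _
    rw [hmap', AlgHom.commutes, sub_add_cancel_left]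
    exact neg_mem hr'
  refine ⟨(injective_iff_map_eq_zero α).2 fun x hx => ?_, hsurj⟩
  obtain ⟨n, hn⟩ := monotone_stabilizes_iff_noetherian.2 (inferInstance : IsNoetherianRing R.carrier)
    ⟨fun n => RingHom.ker ((α : R.carrier →+* R.carrier) ^ n), monotone_nat_of_le_succ fun n r hr => by
      rw [RingHom.mem_ker] at hr ⊢
      rw [pow_succ', RingHom.mul_def, RingHom.comp_apply, hr, map_zero]⟩
  have hs : Function.Surjective ((α : R.carrier →+* R.carrier) ^ n) := by
    rw [RingHom.coe_pow]; exact hsurj.iterate n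
  obtain ⟨y, rfl⟩ := hs x
  have h1 : y ∈ RingHom.ker ((α : R.carrier →+* R.carrier) ^ (n + 1)) := by
    rw [RingHom.mem_ker, pow_succ', RingHom.mul_def, RingHom.comp_apply]; exact hx
  exact RingHom.mem_ker.1 ((hn (n + 1) n.le_succ).ge h1)

end Groth.Agent.S12315
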