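import Groth.Statements.S12316
import Groth.Agent.ArtFunLib.Smooth

set_option autoImplicit false
universe u v
open CategoryTheory
open SGA7

namespace Groth.Agent.S12316

/-- Suppose Λ is a Noetherian local ring, complete for its maximal ideal, whose residue field is k (so Λ
→ k is surjective), and work with functors defined on the category of local Artinian Λ-algebras
having residue field k. Take morphisms φ : F → G and ψ : G → H of such functors. Assume that each of
F(k), G(k), H(k) consists of a single point; that for G the comparison map on fibre products A₁ ×_A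
A₂ is surjective as soon as A₂ → A is surjective, and is bijective for products of the form A' ×_k
k[ε]; that for H the comparison map is bijective on every fibre product A₁ ×_A A₂ with A₂ → A
surjective; and that the induced map on tangent spaces G(k[ε]) → H(k[ε]) coming from ψ is injective.
Under these assumptions, φ ≫ ψ is smooth if and only if both φ and ψ are smooth. (The published
statement is for functors of cofibred groupoids with G semi-homogeneous and H homogeneous; this row
is the case of set-valued functors.) -/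
theorem result (Λ k : Type u) [CommRing Λ] [IsLocalRing Λ] [IsNoetherianRing Λ]
    [IsAdicComplete (IsLocalRing.maximalIdeal Λ) Λ] [Field k] [Algebra Λ k]
    (hk : Function.Surjective (algebraMap Λ k))
    {F G H : ArtFun.Art Λ k ⥤ Type v} (φ : F ⟶ G) (ψ : G ⟶ H)
    (hF : ArtFun.H0 F) (hG : ArtFun.H0 G ∧ ArtFun.S1 G ∧ ArtFun.Heps G) (hH0 : ArtFun.H0 H)
    (hH : ∀ ⦃B A A' A'' : ArtFun.Art Λ k⦄ (p' : B ⟶ A') (p'' : B ⟶ A'') (f' : A' ⟶ A) (f'' : A'' ⟶ A)
      (h : ArtFun.Art.IsFibreProd p' p'' f' f''), Function.Surjective f'' → Function.Bijective (ArtFun.cmp H h))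
    (hψ : Function.Injective (ArtFun.TangentSpace.map ψ)) :
    ArtFun.IsSmooth (φ ≫ ψ) ↔ (ArtFun.IsSmooth φ ∧ ArtFun.IsSmooth ψ) := by
  haveI : Module.Finite Λ k := Module.Finite.of_surjective (Algebra.linearMap Λ k) hk
  open Groth.Agent.ArtFunLib in
  constructor
  · intro hc
    have hcl := (isSmooth_iff_liftsAt (φ ≫ ψ)).1 hc
    have hsq : ArtFun.HSq H := fun B A A' p₁ p₂ f h hf => hH p₁ p₂ f f h hf.1
    have hφ : ArtFun.IsSmooth φ := by
      refine (isSmooth_iff_liftsAt φ).2 ?_
      intro B A μ hμ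
      refine liftsAt_of_small (natural_app φ) (fun A B μ hμ => ?_) μ hμ
      intro w z e
      obtain ⟨v, hv₁, hv₂⟩ := hcl μ hμ.1 w (ψ.app B z) (by
        change ψ.app A (φ.app A w) = _
        rw [show φ.app A w = G.map μ z from e]
        exact natural_app ψ μ z)
      refine ⟨v, hv₁, sepAt_small (natural_app ψ) (hbar_of_s1 hG.2.1) hG.2.2 hsq hψ μ hμ _ _ ?_ hv₂⟩
      rw [← natural_app φ μ v, hv₁]
      exact e
    refine ⟨hφ, (isSmooth_iff_liftsAt ψ).2 ?_⟩
    intro B A μ hμ x y e
    obtain ⟨w, hw⟩ := surjective_app_of_isSmooth φ hφ (fun y =>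
      hF.1.elim fun x => ⟨x, @Subsingleton.elim _ hG.1.2 _ _⟩) A x
    obtain ⟨v, hv₁, hv₂⟩ := hcl μ hμ w y (by
      change ψ.app A (φ.app A w) = _
      rw [hw]
      exact e)
    exact ⟨φ.app B v, by rw [← natural_app φ μ v, hv₁, hw], hv₂⟩
  · rintro ⟨h1, h2⟩
    refine (isSmooth_iff_liftsAt (φ ≫ ψ)).2 ?_
    intro B A μ hμ x y e
    obtain ⟨z, hz, hz'⟩ := (isSmooth_iff_liftsAt ψ).1 h2 μ hμ (φ.app A x) y e
    obtain ⟨v, hv, hv'⟩ := (isSmooth_iff_liftsAt φ).1 h1 μ hμ x z hz.symm
    refine ⟨v, hv, ?_⟩
    change ψ.app B (φ.app B v) = y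
    rw [show φ.app B v = z from hv']
    exact hz'

end Groth.Agent.S12316
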