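import Groth.Statements.S12317
import Groth.Agent.DefGlueLib.Schless

set_option autoImplicit false
universe u
open CategoryTheory AlgebraicGeometry
open SGA7

namespace Groth.Agent.S12317

/-- Let Λ be a complete Noetherian local ring with residue field k (the map Λ → k surjective), and
consider functors on the category of local Artinian Λ-algebras with residue field k. Let X₀ be an
arbitrary k-scheme and F its deformation functor (isomorphism classes of schemes flat over Spec A
with X₀ as closed fibre). Then the comparison map F(B) → F(A₁) ×_{F(A)} F(A₂) is bijective for every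
fibre product B = A₁ ×_A A₂ in which A₂ → A is a small extension (surjective, kernel non-zero
principal and killed by the maximal ideal) if and only if for every small extension p : A' → A and
every deformation X' of X₀ over A' the restriction map from automorphisms of X' (over Spec A',
identity on X₀) to automorphisms of its base change along p is surjective. (The published statement
is for any homogeneous cofibred groupoid; this row is its case for the groupoid of deformations of
X₀, which is homogeneous.) -/
theorem result (Λ k : Type u) [CommRing Λ] [IsLocalRing Λ] [IsNoetherianRing Λ]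
    [IsAdicComplete (IsLocalRing.maximalIdeal Λ) Λ] [Field k] [Algebra Λ k]
    (hk : Function.Surjective (algebraMap Λ k))
    (X : Scheme.{u}) (x : X ⟶ Spec (CommRingCat.of k)) :
    (∀ ⦃B A A₁ A₂ : ArtFun.Art Λ k⦄ (p₁ : B ⟶ A₁) (p₂ : B ⟶ A₂) (f₁ : A₁ ⟶ A) (f₂ : A₂ ⟶ A)
        (h : ArtFun.Art.IsFibreProd p₁ p₂ f₁ f₂), ArtFun.Art.IsSmallExt f₂ →
        Function.Bijective (ArtFun.cmp (ArtFun.defFunctor (Λ := Λ) X x) h)) ↔
      ∀ (A' A : ArtFun.Art Λ k) (p : A' ⟶ A), ArtFun.Art.IsSmallExt p →
        ∀ ξ' : ArtFun.DefSch (Λ := Λ) X x A',
          Function.Surjective (fun e : ξ'.Iso ξ' => e.baseChange p) := by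
  have : Module.Finite Λ k := Module.Finite.of_surjective (Algebra.linearMap Λ k) hk
  exact ⟨fun hb A' A p hp => DefGlueLib.liftable_of_injective hp.1 fun h => (hb _ _ _ _ h hp).1,
    fun hl B A A₁ A₂ p₁ p₂ f₁ f₂ h hf =>
      ⟨DefGlueLib.injective_cmp h hf.1 (hl _ _ f₂ hf), DefGlueLib.surjective_cmp h hf.1⟩⟩

end Groth.Agent.S12317
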