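import Groth.Statements.S1234
import Groth.Agent.ZClosLib.WeakAssHenz
-- import your own Groth.Agent.* helpers here

set_option autoImplicit false
universe u
open FlatMor

namespace Groth.Agent.S1234

open TensorProduct IsLocalRing in
/-- Ring form, S = Spec A: let M be an A-module and p a prime of A; let Ah be a henselization and Ash a
strict henselization of the local ring A_p. The following are equivalent: p is a weakly associated
prime of M; the maximal ideal of A_p is a weakly associated prime of M_p; the maximal ideal of Ah is
a weakly associated prime of Ah ⊗ M_p; the maximal ideal of Ash is a weakly associated prime of Ash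
⊗ M_p. -/
theorem result {A : Type u} [CommRing A] (M : Type u) [AddCommGroup M] [Module A M] (p : Ideal A) [p.IsPrime]
    (Ah Ash : Type u) [CommRing Ah] [IsLocalRing Ah] [CommRing Ash] [IsLocalRing Ash]
    [Algebra (Localization.AtPrime p) Ah] [IsLocalHom (algebraMap (Localization.AtPrime p) Ah)] [Hensel.IsHenselization (Localization.AtPrime p) Ah]
    [Algebra (Localization.AtPrime p) Ash] [IsLocalHom (algebraMap (Localization.AtPrime p) Ash)] [Hensel.IsStrictHenselization (Localization.AtPrime p) Ash] :
    [p ∈ FlatCA.weakAss A M,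
     maximalIdeal (Localization.AtPrime p) ∈ FlatCA.weakAss (Localization.AtPrime p) (LocalizedModule p.primeCompl M),
     maximalIdeal Ah ∈ FlatCA.weakAss Ah (Ah ⊗[Localization.AtPrime p] LocalizedModule p.primeCompl M),
     maximalIdeal Ash ∈ FlatCA.weakAss Ash (Ash ⊗[Localization.AtPrime p] LocalizedModule p.primeCompl M)].TFAE := by
  tfae_have 1 ↔ 2 := by
    rw [← Localization.AtPrime.map_eq_maximalIdeal]
    exact Groth.Agent.WeakAss.mem_weakAss_iff_map p.primeCompl (LocalizedModule.mkLinearMap p.primeCompl M)
      (Set.disjoint_left.2 fun _ hx hxp => hx hxp)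
  haveI := Groth.Agent.Hensel.faithfullyFlat_of_isHenselization (R := Localization.AtPrime p) (S := Ah)
  haveI := Groth.Agent.Hensel.faithfullyFlat_of_isStrictHenselization (R := Localization.AtPrime p) (S := Ash)
  tfae_have 2 → 3 := Groth.Agent.ZClosLib.WeakAssHenz.maximal_mem_weakAss
    (Groth.Agent.Hensel.map_maximalIdeal_of_isHenselization _ _)
  tfae_have 3 → 2 := fun h => by
    obtain ⟨e⟩ := Groth.Agent.Hensel.exists_algEquiv_localHenz (Localization.AtPrime p) Ah
    exact Groth.Agent.ZClosLib.WeakAssHenz.maximal_mem_weakAss_of_etale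
      (Groth.Agent.ZClosLib.WeakAssHenz.exists_etale_range_of_equiv e) h
  tfae_have 2 → 4 := Groth.Agent.ZClosLib.WeakAssHenz.maximal_mem_weakAss
    (Groth.Agent.Hensel.map_maximalIdeal_of_isStrictHenselization _ _)
  tfae_have 4 → 2 := fun h => by
    obtain ⟨e⟩ := Groth.Agent.Hensel.exists_algEquiv_strictHenz (Localization.AtPrime p) Ash
    exact Groth.Agent.ZClosLib.WeakAssHenz.maximal_mem_weakAss_of_etale
      (Groth.Agent.ZClosLib.WeakAssHenz.exists_etale_range_of_equiv e) h
  tfae_finish

end Groth.Agent.S1234
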