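import Groth.Statements.S1238
import Groth.Agent.RG.WeakAssFinite
-- import your own Groth.Agent.* helpers here

set_option autoImplicit false
universe u
open FlatMor

namespace Groth.Agent.S1238

set_option backward.isDefEq.respectTransparency false in
/-- Ring form, X = Spec S, S = Spec R affine: let R be a ring with finitely many weakly associated
primes and S a finite type R-algebra. Then the set of primes q of S with S_q flat over R is open in
Spec S, and every such q has a basic open neighbourhood D(g) with S_g flat and of finite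
presentation over R. -/
theorem result {R S : Type u} [CommRing R] [CommRing S] [Algebra R S] [Algebra.FiniteType R S]
    (hR : (FlatCA.weakAss R R).Finite) :
    IsOpen {q : PrimeSpectrum S | Module.Flat R (Localization.AtPrime q.asIdeal)} ∧
    ∀ (q : Ideal S) [q.IsPrime], Module.Flat R (Localization.AtPrime q) → ∃ g : S, g ∉ q ∧
      Algebra.FinitePresentation R (Localization.Away g) ∧ Module.Flat R (Localization.Away g) := by
  obtain ⟨n, φ, hφ⟩ := Algebra.FiniteType.iff_quotient_mvPolynomial''.1 ‹Algebra.FiniteType R S›
  letI : Algebra (MvPolynomial (Fin n) R) S := φ.toRingHom.toAlgebra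
  haveI : IsScalarTower R (MvPolynomial (Fin n) R) S := IsScalarTower.of_algebraMap_eq' φ.comp_algebraMap.symm
  haveI : Module.Finite (MvPolynomial (Fin n) R) S := Module.Finite.of_surjective (Algebra.linearMap _ S) hφ
  have hloc : ∀ (W : Submonoid S), Module.Flat R (Localization W) ↔ Module.Flat R (LocalizedModule W S) := fun W =>
    ⟨fun _ => Module.Flat.of_linearEquiv ((IsLocalizedModule.iso W (Algebra.linearMap S (Localization W))).restrictScalars R),
     fun _ => Module.Flat.of_linearEquiv ((IsLocalizedModule.iso W (Algebra.linearMap S (Localization W))).symm.restrictScalars R)⟩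
  have hc : ∀ (q : Ideal S) [q.IsPrime], Module.Flat R (Localization.AtPrime q) ↔
      FlatCA.FlatAt R (q.comap (algebraMap (MvPolynomial (Fin n) R) S)) S :=
    fun q _ => (hloc q.primeCompl).trans (Groth.Agent.RG.flatAt_comap_iff (M := S) hφ q _ rfl)
  refine ⟨?_, fun q _ hq => ?_⟩
  · convert (Groth.Agent.RG.isOpen_flatAt_of_weakAss_finite (S := MvPolynomial (Fin n) R) hR S).preimage
      (PrimeSpectrum.continuous_comap (algebraMap (MvPolynomial (Fin n) R) S)) using 1
    ext q
    exact hc q.asIdeal
  · obtain ⟨g, hg, hfp, hfl⟩ := Groth.Agent.RG.exists_nhd_of_weakAss_finite hR S _ ((hc q).1 hq)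
    refine ⟨algebraMap _ S g, hg, Groth.Agent.RG.finitePresentation_away hφ g hfp, (hloc _).2 ?_⟩
    refine (Groth.Agent.RG.flat_localized_restrict_iff (Submonoid.powers g) _ ?_ ?_).2 hfl
    · rintro _ ⟨k, rfl⟩
      exact ⟨k, (map_pow _ _ _).symm⟩
    · rintro _ ⟨k, rfl⟩
      exact ⟨g ^ k, ⟨k, rfl⟩, by rw [map_pow]⟩

end Groth.Agent.S1238
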