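import Groth.Statements.S1239
import Mathlib
import Groth.Agent.FlatValCrit.DenseAlg

set_option autoImplicit false
universe u
open FlatMor

namespace Groth.Agent.S1239

/-- Ring form, X = Spec B, S = Spec A affine; a retrocompact open of Spec A is a finite union of basic
opens: let B be a finitely presented A-algebra and N a finite B-module which is flat over A. Let
f_1, …, f_n be elements of A such that the map from A to the product of the localizations A_{f_i} is
injective (the open D(f_1) ∪ … ∪ D(f_n) is scheme-theoretically dense). If each localization N_{f_i}
is finitely presented over B_{f_i}, then N is finitely presented over B. -/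
theorem result {A B : Type u} [CommRing A] [CommRing B] [Algebra A B] [Algebra.FinitePresentation A B]
    (N : Type u) [AddCommGroup N] [Module B N] [Module A N] [IsScalarTower A B N] [Module.Finite B N] [Module.Flat A N]
    {n : ℕ} (f : Fin n → A)
    (hdense : Function.Injective (RingHom.pi (fun i => algebraMap A (Localization.Away (f i)))))
    (hfp : ∀ i, Module.FinitePresentation (Localization.Away (algebraMap A B (f i)))
      (LocalizedModule (Submonoid.powers (algebraMap A B (f i))) N)) :
    Module.FinitePresentation B N := by
  classical
  refine Groth.Agent.FlatValCrit.finitePresentation_module_of_dense N (Finset.univ.image f) (fun r hr => ?_) (fun g hg => ?_)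
  · refine hdense (funext fun i => ?_)
    obtain ⟨k, hk⟩ := hr (f i) (Finset.mem_image_of_mem f (Finset.mem_univ i))
    simp only [RingHom.pi, map_zero]
    show algebraMap A (Localization.Away (f i)) r = 0
    exact (IsLocalization.map_eq_zero_iff (Submonoid.powers (f i)) _ r).2 ⟨⟨_, k, rfl⟩, hk⟩
  · obtain ⟨i, -, rfl⟩ := Finset.mem_image.1 hg
    exact hfp i

end Groth.Agent.S1239
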