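import Groth.Statements.S1241
import Groth.Agent.S1202
import Groth.Agent.RG.EtalePieces
import Mathlib.RingTheory.Etale.Pi
import Mathlib.LinearAlgebra.TensorProduct.Pi
-- import your own Groth.Agent.* helpers here

set_option autoImplicit false
universe u
open FlatMor

namespace Groth.Agent.S1241

set_option backward.isDefEq.respectTransparency false
set_option backward.isDefEq.respectTransparency.types false
set_option linter.style.haveILetI false
set_option maxHeartbeats 1000000

open TensorProduct

attribute [local instance] Algebra.TensorProduct.rightAlgebra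

/-- A piece where the module is projective over the neighbourhood. -/
def Good {R S : Type u} [CommRing R] [CommRing S] [Algebra R S] (N : Type u) [AddCommGroup N] [Module S N]
    {p : Ideal R} [p.IsPrime] (π : RG.Piece R S p) : Prop :=
  Module.Projective π.R' (π.S' ⊗[S] N)

/-- Products of base changes. -/
theorem projective_pi_tensor {R S A : Type u} [CommRing R] [CommRing S] [CommRing A] {k : ℕ} (C : Fin k → Type u)
    [∀ i, CommRing (C i)] [∀ i, Algebra S (C i)] [∀ i, Algebra A (C i)] (N : Type u) [AddCommGroup N] [Module S N]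
    (h : ∀ i, Module.Projective A (C i ⊗[S] N)) : Module.Projective A ((∀ i, C i) ⊗[S] N) := by
  classical
  haveI : Module.Projective A (∀ i, C i ⊗[S] N) :=
    Module.Projective.of_equiv (DFinsupp.linearEquivFunOnFintype (R := A) (M := fun i => C i ⊗[S] N))
  let e : ((∀ i, C i) ⊗[S] N) ≃ₗ[A] ∀ i, C i ⊗[S] N :=
    { TensorProduct.piLeft S N C with
      map_smul' := fun a x => by
        show TensorProduct.piLeft S N C (a • x) = a • TensorProduct.piLeft S N C x
        induction x using TensorProduct.induction_on with
        | zero => rw [smul_zero, map_zero, smul_zero]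
        | tmul c n =>
          funext i
          rw [TensorProduct.smul_tmul']
          simp [TensorProduct.smul_tmul']
        | add x y hx hy => rw [smul_add, map_add, hx, hy, map_add, smul_add] }
  exact Module.Projective.of_equiv e.symm


open TensorProduct in
/-- Ring form, X = Spec S and S = Spec R affine: let S be a finitely presented R-algebra, N a finitely
presented S-module and p a prime of R such that N_q is flat over R for every prime q of S over p.
Then there are an étale R-algebra R' with a prime p' over p having the same residue field, and an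
étale S-algebra S' with a compatible R'-algebra structure, such that every prime of S over p is the
contraction of a prime of S' and S' ⊗_S N is a projective R'-module. -/
theorem result {R S : Type u} [CommRing R] [CommRing S] [Algebra R S] [Algebra.FinitePresentation R S]
    (N : Type u) [AddCommGroup N] [Module S N] [Module R N] [IsScalarTower R S N] [Module.FinitePresentation S N]
    (p : Ideal R) [p.IsPrime] (hflat : ∀ (q : Ideal S) [q.IsPrime], q.LiesOver p → FlatCA.FlatAt R q N) :
    ∃ (R' S' : Type u) (_ : CommRing R') (_ : CommRing S') (_ : Algebra R R') (_ : Algebra S S') (_ : Algebra R' S')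
      (_ : Algebra R S') (_ : IsScalarTower R R' S') (_ : IsScalarTower R S S')
      (p' : Ideal R') (_ : p'.IsPrime),
      FlatCA.IsEtaleNhd R R' p p' ∧ Algebra.Etale S S' ∧
      (∀ (q : Ideal S) [q.IsPrime], q.LiesOver p → ∃ q' : Ideal S', q'.IsPrime ∧ q'.comap (algebraMap S S') = q) ∧
      Module.Projective R' (RestrictScalars R' S' (S' ⊗[S] N)) := by
  classical
  obtain ⟨k, π, hgood, hcover⟩ := RG.exists_finite_pieces (Good N) (p := p) (fun q _ hq => by
    haveI := hq
    obtain ⟨R', S', _, _, _, _, _, _, _, _, p', q', _, _, hR, hS, ho, hproj⟩ :=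
      Groth.Agent.S1202.result (R := R) (S := S) N p q (hflat q hq)
    haveI := hS.1
    haveI := ho
    obtain ⟨hq', -⟩ := hS.2
    refine ⟨{ R' := R', S' := S', p' := p', nhd := hR, q' := q' }, ?_, hq'.over.symm⟩
    let e : RestrictScalars R' S' (S' ⊗[S] N) ≃ₗ[R'] (S' ⊗[S] N) :=
      { RestrictScalars.addEquiv R' S' (S' ⊗[S] N) with
        map_smul' := fun r x => by
          show RestrictScalars.addEquiv R' S' (S' ⊗[S] N) (r • x) = r • RestrictScalars.addEquiv R' S' (S' ⊗[S] N) x
          rw [RestrictScalars.addEquiv_map_smul, algebraMap_smul] }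
    haveI := hproj
    exact Module.Projective.of_equiv e)
  obtain ⟨A, _, _, p'', _, _, htow, hA, hnhd⟩ := RG.exists_common_piece_nhd π
  haveI := htow
  haveI : ∀ i, Algebra.Etale (π i).R' A := fun i => (hnhd i).1
  haveI := hA.1
  let C : Fin k → Type u := fun i => (π i).S' ⊗[(π i).R'] A
  haveI : ∀ i, IsScalarTower R A (C i) := fun i => IsScalarTower.of_algebraMap_eq fun a => by
    show algebraMap R (π i).S' a ⊗ₜ[(π i).R'] (1 : A) = (1 : (π i).S') ⊗ₜ[(π i).R'] algebraMap R A a
    rw [IsScalarTower.algebraMap_apply R (π i).R' (π i).S', IsScalarTower.algebraMap_apply R (π i).R' A,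
      ← mul_one (algebraMap (π i).R' (π i).S' _), ← Algebra.smul_def, TensorProduct.smul_tmul, Algebra.smul_def, mul_one]
  haveI : ∀ i, IsScalarTower R S (C i) := fun i => IsScalarTower.of_algebraMap_eq fun a => by
    show algebraMap R (π i).S' a ⊗ₜ[(π i).R'] (1 : A) = algebraMap S (π i).S' (algebraMap R S a) ⊗ₜ[(π i).R'] (1 : A)
    rw [IsScalarTower.algebraMap_apply R S (π i).S']
  haveI : ∀ i, Algebra.IsPushout (π i).R' A (π i).S' (C i) := fun i => Algebra.IsPushout.symm inferInstance
  haveI : ∀ i, Algebra.Etale S (C i) := fun i => Algebra.Etale.comp S (π i).S' (C i)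
  haveI hPi : IsScalarTower R A (∀ i, C i) := IsScalarTower.of_algebraMap_eq fun a => funext fun i =>
    IsScalarTower.algebraMap_apply R A (C i) a
  haveI hPi' : IsScalarTower R S (∀ i, C i) := IsScalarTower.of_algebraMap_eq fun a => funext fun i =>
    IsScalarTower.algebraMap_apply R S (C i) a
  refine ⟨A, (∀ i, C i), inferInstance, inferInstance, inferInstance, inferInstance, inferInstance, inferInstance,
    hPi, hPi', p'', inferInstance, hA, inferInstance, fun q _ hq => ?_, ?_⟩
  · obtain ⟨i, Q', hQ'1, hQ'2, hQ'3⟩ := hcover q hq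
    obtain ⟨ho, hκ⟩ := (hnhd i).2
    haveI := ho
    obtain ⟨Q'', _, hQ''q, -⟩ :=
      RG.exists_prime_over (R := (π i).R') (R' := A) (S := (π i).S') (S' := C i) (π i).p' p'' hκ Q'
    refine ⟨Q''.comap (Pi.evalRingHom C i), inferInstance, ?_⟩
    rw [Ideal.comap_comap]
    show Q''.comap ((algebraMap (π i).S' (C i)).comp (algebraMap S (π i).S')) = q
    rw [← Ideal.comap_comap, ← Ideal.under_def (A := (π i).S') Q'', ← hQ''q.over, hQ'3]
  · have hproj : ∀ i, Module.Projective A (C i ⊗[S] N) := fun i => by
      haveI : Module.Projective (π i).R' ((π i).S' ⊗[S] N) := hgood i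
      exact Module.Projective.of_equiv
        ((Algebra.IsPushout.cancelBaseChange (π i).R' A (π i).S' (C i) ((π i).S' ⊗[S] N)).symm ≪≫ₗ
          (AlgebraTensorModule.cancelBaseChange S (π i).S' (C i) (C i) N).restrictScalars A)
    haveI := projective_pi_tensor (R := R) C N hproj
    let e : ((∀ i, C i) ⊗[S] N) ≃ₗ[A] RestrictScalars A (∀ i, C i) ((∀ i, C i) ⊗[S] N) :=
      { (RestrictScalars.addEquiv A (∀ i, C i) ((∀ i, C i) ⊗[S] N)).symm with
        map_smul' := fun r x => by
          show (RestrictScalars.addEquiv A (∀ i, C i) ((∀ i, C i) ⊗[S] N)).symm (r • x) =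
            r • (RestrictScalars.addEquiv A (∀ i, C i) ((∀ i, C i) ⊗[S] N)).symm x
          rw [← algebraMap_smul (∀ i, C i) r x]
          exact RestrictScalars.addEquiv_symm_map_algebraMap_smul _ _ _ r x }
    exact Module.Projective.of_equiv e

end Groth.Agent.S1241
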