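import Groth.Statements.S12417

set_option autoImplicit false
universe u
open CategoryTheory AlgebraicGeometry
open Props

namespace Groth.Agent.S12417

/-- Let X be a quasi-compact quasi-separated scheme and P a property of opens of X such that (a) P holds
for every affine open, and (b) whenever a quasi-compact open U has a finite affine open covering U =
V_1 ∪ … ∪ V_n with P holding for every intersection V_i ∩ V_j, P holds for U. Then P holds for every
quasi-compact open of X. -/
theorem result (X : Scheme.{u}) [CompactSpace X] [QuasiSeparatedSpace X]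
    (P : X.Opens → Prop) (ha : ∀ U : X.Opens, IsAffineOpen U → P U)
    (hb : ∀ (U : X.Opens) (n : ℕ) (V : Fin n → X.Opens), IsCompact (U : Set X) →
      (∀ i, IsAffineOpen (V i)) → ⨆ i, V i = U → (∀ i j, P (V i ⊓ V j)) → P U)
    (U : X.Opens) (hU : IsCompact (U : Set X)) : P U := by
  have key : ∀ (V : X.Opens), IsAffineOpen V → ∀ W : X.Opens, IsCompact (W : Set X) → W ≤ V →
      P W := by
    intro V hV W hW hle
    choose f hf hfx using fun x : W => hV.exists_basicOpen_le x (hle x.2)
    obtain ⟨s, hs⟩ := hW.elim_finite_subcover (fun x : W => (X.basicOpen (f x) : Set X))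
      (fun x => (X.basicOpen (f x)).2) (fun x hx => Set.mem_iUnion.2 ⟨⟨x, hx⟩, hfx ⟨x, hx⟩⟩)
    refine hb W s.card (fun i => X.basicOpen (f (s.equivFin.symm i).1)) hW
      (fun i => hV.basicOpen _) (le_antisymm (iSup_le fun i => hf _) fun x hx => ?_) fun i j => ?_
    · obtain ⟨y, hy⟩ := Set.mem_iUnion.1 (hs hx)
      obtain ⟨hys, hy⟩ := Set.mem_iUnion.1 hy
      exact TopologicalSpace.Opens.mem_iSup.2 ⟨s.equivFin ⟨y, hys⟩, by simpa using hy⟩
    · rw [← Scheme.basicOpen_mul]
      exact ha _ (hV.basicOpen _)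
  choose V hV hx hle using fun x : U => exists_isAffineOpen_mem_and_subset (X := X) (U := U) x.2
  obtain ⟨s, hs⟩ := hU.elim_finite_subcover (fun x : U => (V x : Set X))
    (fun x => (V x).2) (fun x hx' => Set.mem_iUnion.2 ⟨⟨x, hx'⟩, hx _⟩)
  refine hb U s.card (fun i => V (s.equivFin.symm i).1) hU (fun i => hV _)
    (le_antisymm (iSup_le fun i => hle _) fun x hx' => ?_) fun i j => ?_
  · obtain ⟨y, hy⟩ := Set.mem_iUnion.1 (hs hx')
    obtain ⟨hys, hy⟩ := Set.mem_iUnion.1 hy
    exact TopologicalSpace.Opens.mem_iSup.2 ⟨s.equivFin ⟨y, hys⟩, by simpa using hy⟩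
  · exact key _ (hV (s.equivFin.symm i).1) _
      (QuasiSeparatedSpace.inter_isCompact _ _ (V _).2 (hV _).isCompact (V _).2 (hV _).isCompact) inf_le_left

end Groth.Agent.S12417
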