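import Groth.Statements.S12418
import Mathlib.RingTheory.Ideal.Colon

set_option autoImplicit false
universe u
open CAlg

namespace Groth.Agent.S12418

/-- Let R be a Noetherian ring and b ∈ R; for x outside the ideal (b) put I_x = ((b) : x), the ideal of
r with r x ∈ (b). If s ∉ (b) and I_s is maximal among the I_x (x ∉ (b)), then I_s is prime. -/
theorem result {R : Type u} [CommRing R] [IsNoetherianRing R]
    (b s : R) (hs : s ∉ Ideal.span {b})
    (hmax : ∀ x : R, x ∉ Ideal.span {b} →
      Submodule.colon (Ideal.span {b}) (Ideal.span {s}) ≤ Submodule.colon (Ideal.span {b}) (Ideal.span {x}) →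
      Submodule.colon (Ideal.span {b}) (Ideal.span {x}) = Submodule.colon (Ideal.span {b}) (Ideal.span {s})) :
    (Submodule.colon (Ideal.span {b}) (Ideal.span ({s} : Set R))).IsPrime := by
  have mem : ∀ x y : R, y ∈ Submodule.colon (Ideal.span {b}) (Ideal.span ({x} : Set R)) ↔ y * x ∈ Ideal.span {b} := by
    intro x y
    exact Submodule.mem_colon_span_singleton
  constructor
  · rw [Ne, Ideal.eq_top_iff_one, mem]
    simpa using hs
  · intro x y hxy
    by_contra hcon
    push Not at hcon
    obtain ⟨hx, hy⟩ := hcon
    rw [mem] at hxy hx hy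
    have hle : Submodule.colon (Ideal.span {b}) (Ideal.span ({s} : Set R)) ≤
        Submodule.colon (Ideal.span {b}) (Ideal.span ({y * s} : Set R)) := by
      intro z hz
      rw [mem] at hz ⊢
      rw [mul_left_comm]
      exact Ideal.mul_mem_left _ _ hz
    have := hmax (y * s) hy hle
    apply hx
    rw [← mem, ← this, mem, ← mul_assoc]
    exact hxy

end Groth.Agent.S12418
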