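import Groth.Statements.S12419
import Mathlib
import Groth.Agent.FlatInjDesc.Basic
import Groth.Agent.LocalCrit.Flatness

set_option autoImplicit false
universe u
open TensorProduct
open CAlg

namespace Groth.Agent.S12419

/-- Let A → B be a local homomorphism of Noetherian local rings, m the maximal ideal of A, and φ : A →
A' a ring homomorphism to a semi-local Noetherian ring A' with Jacobson radical r', such that
φ⁻¹(r') = m and such that every power m^n contains φ⁻¹(r'^N) for some N. Then B is flat over A if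
and only if A' ⊗_A B is flat over A'. (Given φ⁻¹(r') = m, the condition on powers says that the
m-adic topology of A is induced by the r'-adic topology of A', equivalently that the induced
homomorphism of adic completions is injective, which is how the published statement phrases this
hypothesis.) -/
theorem result (A B A' : Type u) [CommRing A] [CommRing B]
    [CommRing A'] [IsNoetherianRing A] [IsLocalRing A] [IsNoetherianRing B] [IsLocalRing B]
    [Algebra A B] [IsLocalHom (algebraMap A B)] [IsNoetherianRing A'] [Finite (MaximalSpectrum A')]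
    [Algebra A A']
    (hrad : (Ideal.jacobson (⊥ : Ideal A')).comap (algebraMap A A') = IsLocalRing.maximalIdeal A)
    (htop : ∀ n : ℕ, ∃ N : ℕ,
      ((Ideal.jacobson (⊥ : Ideal A')) ^ N).comap (algebraMap A A') ≤ (IsLocalRing.maximalIdeal A) ^ n) :
    Module.Flat A B ↔ Module.Flat A' (A' ⊗[A] B) := by
  refine ⟨fun h => inferInstance, fun h => ?_⟩
  refine LocalCrit.flat_of_forall_quotient_pow (B := B) (M := B) (IsLocalRing.maximalIdeal A) ?_ fun n => ?_
  · refine le_trans ?_ (IsLocalRing.jacobson_eq_maximalIdeal (⊥ : Ideal B) bot_ne_top).ge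
    exact ((IsLocalRing.local_hom_TFAE (algebraMap A B)).out 0 2).1 ‹_›
  obtain ⟨N, hN⟩ := htop (n + 1)
  set I : Ideal A := ((Ideal.jacobson (⊥ : Ideal A')) ^ N).comap (algebraMap A A') with hI
  set J : Ideal A' := (Ideal.jacobson (⊥ : Ideal A')) ^ N with hJ
  have hIn : I ≤ (IsLocalRing.maximalIdeal A) ^ n := hN.trans (Ideal.pow_le_pow_right n.le_succ)
  have hIm : I ≤ IsLocalRing.maximalIdeal A := hN.trans (Ideal.pow_le_self n.succ_ne_zero)
  let _ : Algebra (A ⧸ I) (A' ⧸ J) := (Ideal.quotientMap J (algebraMap A A') le_rfl).toAlgebra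
  have : IsScalarTower A (A ⧸ I) (A' ⧸ J) := IsScalarTower.of_algebraMap_eq fun a => rfl
  let m := (IsLocalRing.maximalIdeal A).map (Ideal.Quotient.mk I)
  have hmax : m.IsMaximal := Ideal.IsMaximal.map_of_surjective_of_ker_le Ideal.Quotient.mk_surjective
    (by rwa [Ideal.mk_ker])
  have hnil : IsNilpotent m := by
    refine ⟨N, ?_⟩
    rw [← Ideal.map_pow, Ideal.zero_eq_bot, Ideal.map_eq_bot_iff_le_ker, Ideal.mk_ker]
    show _ ≤ J.comap (algebraMap A A')
    rw [← Ideal.map_le_iff_le_comap, Ideal.map_pow, hJ]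
    exact Ideal.pow_right_mono (Ideal.map_le_iff_le_comap.2 hrad.ge) N
  have : Module.Flat (A' ⧸ J) ((A' ⧸ J) ⊗[A ⧸ I] ((A ⧸ I) ⊗[A] B)) :=
    Module.Flat.of_linearEquiv ((AlgebraTensorModule.cancelBaseChange A (A ⧸ I) (A' ⧸ J) (A' ⧸ J) B).trans
      (AlgebraTensorModule.cancelBaseChange A A' (A' ⧸ J) (A' ⧸ J) B).symm)
  have : Module.Flat (A ⧸ I) ((A ⧸ I) ⊗[A] B) :=
    FlatInjDesc.flat_of_injective Ideal.quotientMap_injective m hnil _
  let Q := A ⧸ (IsLocalRing.maximalIdeal A) ^ n
  let _ : Algebra (A ⧸ I) Q := (Ideal.Quotient.factor hIn).toAlgebra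
  have : IsScalarTower A (A ⧸ I) Q := IsScalarTower.of_algebraMap_eq fun a => rfl
  have : Module.Flat Q (Q ⊗[A] B) :=
    Module.Flat.of_linearEquiv (AlgebraTensorModule.cancelBaseChange A (A ⧸ I) Q Q B).symm
  exact LocalCrit.keepsInjective_of_flat _ _

end Groth.Agent.S12419
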