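import Groth.Statements.S1242
import Groth.Agent.RG.DevFreeBC
-- import your own Groth.Agent.* helpers here

set_option autoImplicit false
universe u
open FlatMor

namespace Groth.Agent.S1242

set_option backward.isDefEq.respectTransparency false
set_option backward.isDefEq.respectTransparency.types false
set_option linter.style.haveILetI false
set_option maxHeartbeats 2000000

open TensorProduct

attribute [local instance] Algebra.TensorProduct.rightAlgebra

open TensorProduct in
/-- Ring form, X = Spec S and S = Spec R affine: let S be a finitely presented R-algebra, N a finite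
S-module and q a prime of S over p with N_q flat over R. Then there is an étale R-algebra R' with a
prime p' over p having the same residue field such that, writing A for the local ring of R' at p'
and S_A, N_A for the base changes (any models): there is an étale S_A-algebra C, finitely presented
over A, with a prime over q whose residue field equals that of q, such that C ⊗ N_A is a finitely
presented C-module and a free A-module. -/
theorem result {R S : Type u} [CommRing R] [CommRing S] [Algebra R S] [Algebra.FinitePresentation R S]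
    (N : Type u) [AddCommGroup N] [Module S N] [Module R N] [IsScalarTower R S N] [Module.Finite S N]
    (p : Ideal R) [p.IsPrime] (q : Ideal S) [q.IsPrime] [q.LiesOver p] (hflat : FlatCA.FlatAt R q N) :
    ∃ (R' : Type u) (_ : CommRing R') (_ : Algebra R R') (p' : Ideal R') (_ : p'.IsPrime), FlatCA.IsEtaleNhd R R' p p' ∧
      ∀ (SA NA : Type u) [CommRing SA] [Algebra R SA] [Algebra S SA] [Algebra (Localization.AtPrime p') SA]
        [IsScalarTower R S SA] [IsScalarTower R (Localization.AtPrime p') SA]
        [Algebra.IsPushout R S (Localization.AtPrime p') SA]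
        [AddCommGroup NA] [Module SA NA] [Module S NA] [IsScalarTower S SA NA]
        (f : N →ₗ[S] NA), IsBaseChange SA f →
        ∃ (C : Type u) (_ : CommRing C) (_ : Algebra SA C) (_ : Algebra (Localization.AtPrime p') C)
          (_ : IsScalarTower (Localization.AtPrime p') SA C) (_ : Algebra S C) (_ : IsScalarTower S SA C)
          (x' : Ideal C) (_ : x'.IsPrime) (hx : x'.LiesOver q),
          Algebra.Etale SA C ∧ Algebra.FinitePresentation (Localization.AtPrime p') C ∧
          Function.Bijective (Ideal.ResidueField.mapₐ q x' (Algebra.ofId S C) hx.over) ∧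
          Module.FinitePresentation C (C ⊗[SA] NA) ∧
          Module.Free (Localization.AtPrime p') (RestrictScalars (Localization.AtPrime p') C (C ⊗[SA] NA)) := by
  obtain ⟨π, hS, hfree⟩ := RG.exists_free_piece N p q hflat
  haveI := π.nhd.1
  refine ⟨π.R', inferInstance, inferInstance, π.p', inferInstance, π.nhd, ?_⟩
  intro SA NA _ _ _ _ _ _ _ _ _ _ _ f hf
  let A := Localization.AtPrime π.p'
  let C := π.S' ⊗[π.R'] A
  obtain ⟨hAo, hκ⟩ := RG.residue_bijective_atPrime π.p'
  haveI := hAo
  obtain ⟨hfp, hfr⟩ := hfree A hκ
  haveI := hfp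
  haveI := hfr
  haveI : IsScalarTower R A C := IsScalarTower.of_algebraMap_eq fun a => by
    show algebraMap R π.S' a ⊗ₜ[π.R'] (1 : A) = (1 : π.S') ⊗ₜ[π.R'] algebraMap R A a
    rw [IsScalarTower.algebraMap_apply R π.R' π.S', IsScalarTower.algebraMap_apply R π.R' A,
      ← mul_one (algebraMap π.R' π.S' _), ← Algebra.smul_def, TensorProduct.smul_tmul, Algebra.smul_def, mul_one]
  haveI : IsScalarTower R S C := IsScalarTower.of_algebraMap_eq (R := R) (S := S) (A := C) fun a => by
    show algebraMap R π.S' a ⊗ₜ[π.R'] (1 : A) = algebraMap S π.S' (algebraMap R S a) ⊗ₜ[π.R'] (1 : A)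
    rw [IsScalarTower.algebraMap_apply R S π.S']
  letI : Algebra SA C := ((Algebra.pushoutDesc (R := R) (S := S) SA (IsScalarTower.toAlgHom R S C)
    (IsScalarTower.toAlgHom R A C) fun _ _ => Commute.all _ _).toRingHom).toAlgebra
  haveI : IsScalarTower S SA C := IsScalarTower.of_algebraMap_eq fun a =>
    (Algebra.pushoutDesc_left (R := R) (S := S) SA (IsScalarTower.toAlgHom R S C) (IsScalarTower.toAlgHom R A C)
      (fun _ _ => Commute.all _ _) a).symm
  haveI : IsScalarTower A SA C := IsScalarTower.of_algebraMap_eq fun a =>
    (Algebra.pushoutDesc_right (R := R) (S := S) SA (IsScalarTower.toAlgHom R S C) (IsScalarTower.toAlgHom R A C)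
      (fun _ _ => Commute.all _ _) a).symm
  haveI : Algebra.IsPushout π.R' A π.S' C := Algebra.IsPushout.symm inferInstance
  haveI : Algebra.FormallyEtale π.R' A := Algebra.FormallyEtale.of_isLocalization π.p'.primeCompl
  haveI : Algebra.FormallyEtale R A := Algebra.FormallyEtale.comp R π.R' A
  haveI : Algebra.FormallyEtale π.S' C := inferInstance
  haveI : Algebra.FormallyEtale S C := Algebra.FormallyEtale.comp S π.S' C
  haveI : Algebra.FinitePresentation R π.S' := Algebra.FinitePresentation.trans R S π.S'
  haveI : Algebra.FinitePresentation π.R' π.S' :=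
    Algebra.FinitePresentation.of_restrict_scalars_finitePresentation R π.R' π.S'
  haveI : Algebra.FinitePresentation A C := Algebra.FinitePresentation.equiv (Algebra.IsPushout.equiv π.R' A π.S' C)
  obtain ⟨hqo, hqκ⟩ := hS.2
  haveI := hqo
  obtain ⟨Q, _, hQq, hQA⟩ :=
    RG.exists_prime_over (R := π.R') (R' := A) (S := π.S') (S' := C) π.p' (IsLocalRing.maximalIdeal A) hκ π.q'
  haveI := hQq
  haveI := hQA
  haveI hx : Q.LiesOver q := Ideal.LiesOver.trans Q π.q' q
  haveI : SMulCommClass S A C := ⟨fun s a c => by rw [← algebraMap_smul C a c, ← algebraMap_smul C a (s • c), smul_comm]⟩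
  have hbc : IsBaseChange C ((TensorProduct.mk SA C NA 1).restrictScalars S ∘ₗ f) :=
    hf.comp (TensorProduct.isBaseChange SA NA C)
  let e : (C ⊗[S] N) ≃ₗ[C] C ⊗[SA] NA := hbc.equiv
  refine ⟨C, inferInstance, inferInstance, inferInstance, inferInstance, inferInstance, inferInstance, Q,
    inferInstance, hx, RG.etale_of_formallyEtale (R := R) (A := A) (S := S) (SA := SA) (C := C), inferInstance,
    RG.residue_bijective_comp hqo hQq hx hqκ
      (RG.residueField_bijective_baseChange (R := π.R') (R' := A) (S := π.S') (S' := C) π.p' (IsLocalRing.maximalIdeal A) hκ π.q' Q),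
    ?hfp, ?_⟩
  case hfp => exact @Module.FinitePresentation.of_equiv C (C ⊗[S] N) (C ⊗[SA] NA) _ _ _ _ _ e hfp
  let e₂ : (C ⊗[SA] NA) ≃ₗ[A] RestrictScalars A C (C ⊗[SA] NA) :=
    { (RestrictScalars.addEquiv A C (C ⊗[SA] NA)).symm with
      map_smul' := fun r x => by
        show (RestrictScalars.addEquiv A C (C ⊗[SA] NA)).symm (r • x) =
          r • (RestrictScalars.addEquiv A C (C ⊗[SA] NA)).symm x
        rw [← algebraMap_smul C r x]
        exact RestrictScalars.addEquiv_symm_map_algebraMap_smul _ _ _ r x }
  exact Module.Free.of_equiv (e.restrictScalars A ≪≫ₗ e₂)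

end Groth.Agent.S1242
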