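import Groth.Statements.S12421
import Groth.Agent.DescLib.Amitsur

set_option autoImplicit false
set_option backward.isDefEq.respectTransparency false
set_option backward.isDefEq.respectTransparency.types false
universe u
open TensorProduct
open Desc

namespace Groth.Agent.S12421

/-- Let R → R' be faithfully flat and M an R-module. With δ¹ : M ⊗ R' → M ⊗ (R' ⊗ R'), m ⊗ r ↦ m ⊗ (1 ⊗
r) − m ⊗ (r ⊗ 1), and δ² : M ⊗ (R' ⊗ R') → M ⊗ (R' ⊗ (R' ⊗ R')), m ⊗ x ↦ m ⊗ (1 ⊗ x) − m ⊗ (ins₁ x)
+ m ⊗ (ins₂ x), where ins₁ (r₁ ⊗ r₂) = r₁ ⊗ (1 ⊗ r₂) and ins₂ (r₁ ⊗ r₂) = r₁ ⊗ (r₂ ⊗ 1), the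
sequence M ⊗ R' → M ⊗ R'^{⊗2} → M ⊗ R'^{⊗3} is exact: the kernel of δ² is the image of δ¹. (The
published statement asserts exactness of the whole complex; this row states exactness at M ⊗ R′ ⊗ R′
only.) -/
theorem result (R R' : Type u) [CommRing R] [CommRing R'] [Algebra R R']
    [Module.FaithfullyFlat R R'] (M : Type u) [AddCommGroup M] [Module R M] :
    Function.Exact
      (LinearMap.lTensor M (Algebra.TensorProduct.includeRight : R' →ₐ[R] R' ⊗[R] R').toLinearMap -
        LinearMap.lTensor M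
          (Algebra.TensorProduct.includeLeft : R' →ₐ[R] R' ⊗[R] R').toLinearMap)
      (LinearMap.lTensor M
          (Algebra.TensorProduct.includeRight : R' ⊗[R] R' →ₐ[R] R' ⊗[R] (R' ⊗[R] R')).toLinearMap -
        LinearMap.lTensor M
          (Algebra.TensorProduct.map (AlgHom.id R R')
            (Algebra.TensorProduct.includeRight : R' →ₐ[R] R' ⊗[R] R')).toLinearMap +
        LinearMap.lTensor M
          (Algebra.TensorProduct.map (AlgHom.id R R')
            (Algebra.TensorProduct.includeLeft : R' →ₐ[R] R' ⊗[R] R')).toLinearMap) := by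
  exact Groth.Agent.DescLib.amitsur_degree_one M

end Groth.Agent.S12421
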