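import Groth.Statements.S12423
import Groth.Agent.S5021
import Groth.Agent.S2768
import Groth.Agent.Synt29.ConormalStalk
import Groth.Agent.Synt29.ConormalSeq
import Groth.Agent.CurveCohLib.RegularCurve
import Groth.Agent.CurveFin.RelDim
import Groth.Agent.GrpSchLib.SmoothRegular
import Groth.Agent.RegLoc6.Open

set_option autoImplicit false
universe u
open CategoryTheory CategoryTheory.Limits AlgebraicGeometry
open NonsingVar

namespace Groth.Agent.S12423
open Groth.Agent.Synt29 Groth.Agent.Synt29.OmegaStalk Groth.Agent.Synt29.ConormalStalk Groth.Agent.KFlatLib in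
open scoped TensorProduct in
/-- If the conormal sequence is exact on the left and the differentials are locally free, the stalk map to the base is
formally smooth. -/
theorem formallySmooth_of_mono {Z X Y : Scheme.{u}} (f : X ⟶ Y) [Smooth f] (i : Z ⟶ X) [IsClosedImmersion i]
    (ΩX : X.Modules) (dX : OmegaSh.Der f ΩX) (hX : OmegaSh.IsUniversal dX)
    (ΩZ : Z.Modules) (dZ : OmegaSh.Der (i ≫ f) ΩZ) (hZ : OmegaSh.IsUniversal dZ) (hfree : FlatMod.IsFinLocFree ΩZ)
    (φ : Omega.conormal i ⟶ (Scheme.Modules.pullback i).obj ΩX) (hφ : OmegaSh.IsConormalDiff i dX φ) [Mono φ]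
    (z : Z) : ((i ≫ f).stalkMap z).hom.FormallySmooth := by
  let _ := (f.stalkMap (i z)).hom.toAlgebra
  let _ := (i.stalkMap z).hom.toAlgebra
  let _ : Algebra (Y.presheaf.stalk (f (i z))) (Z.presheaf.stalk z) := ((i ≫ f).stalkMap z).hom.toAlgebra
  have : IsScalarTower (Y.presheaf.stalk (f (i z))) (X.presheaf.stalk (i z)) (Z.presheaf.stalk z) :=
    IsScalarTower.of_algebraMap_eq' (congrArg CommRingCat.Hom.hom (Scheme.Hom.stalkMap_comp i f z))
  have hA : Algebra.FormallySmooth (Y.presheaf.stalk (f (i z))) (X.presheaf.stalk (i z)) :=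
    StalkFormal.formallySmooth_stalkMap f ((Groth.Agent.S1488.result f).mp inferInstance).2 (i z)
  have hinj : Function.Injective (KaehlerDifferential.kerCotangentToTensor (Y.presheaf.stalk (f (i z)))
      (X.presheaf.stalk (i z)) (Z.presheaf.stalk z)) := by
    refine (injective_iff_map_eq_zero _).2 fun c hc => ?_
    obtain ⟨⟨a, ha⟩, rfl⟩ := Ideal.toCotangent_surjective _ c
    rw [KaehlerDifferential.kerCotangentToTensor_toCotangent] at hc
    refine (Ideal.toCotangent_eq_zero _ _).2 ?_
    obtain ⟨m, U, hx, k, hm, hk⟩ := exists_rep i (x := z) ha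
    refine ConormalSeq.mem_sq_of_unit1_eq_zero i (i.stalkMap_surjective z) (m := m) ⟨U, hx, k, hm, hk⟩ ?_
    have hz : gm (Omega.conormal i) hx (OmegaSh.conormalSect i U k) = 0 := by
      refine (injective_iff_map_eq_zero _).1 ((mono_iff_stalk φ).1 inferInstance z) _ ?_
      refine (DerSch.stalkFunctor_map_germ z φ _ hx _).trans ((congrArg _ (hφ U k)).trans ?_)
      refine (ConcreteCategory.bijective_of_isIso ((stalkPullbackIso i z).app ΩX).hom).1 ?_
      refine (stalkPullbackIso_gm i ΩX z hx (dX.app U (OmegaSh.idealSect i.ker U k))).trans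
        (Eq.trans ?_ (map_zero _).symm)
      rw [← stalkD_germ, hk]
      obtain ⟨j, hj⟩ := exists_iso_of_eq hX (i z) (f.stalkMap (i z)) rfl
      let E := (ModuleCat.extendScalars (i.stalkMap z).hom).mapIso j
      have h3 : E.hom (((ModuleCat.extendRestrictScalarsAdj (i.stalkMap z).hom).unit.app _).hom
          (CommRingCat.KaehlerDifferential.d a)) = 0 := (congrArg E.hom hc).trans (map_zero E.hom.hom)
      rw [← h3, ← hj a]
      exact congr($((ModuleCat.extendRestrictScalarsAdj (i.stalkMap z).hom).unit.naturality j.hom)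
        (CommRingCat.KaehlerDifferential.d a))
    rw [← hm]
    refine (stalkPullbackIso_gm i (I i) z hx k).symm.trans ((congrArg _ hz).trans ?_)
    exact map_zero ((stalkPullbackIso i z).app (I i)).hom.hom
  obtain ⟨jZ, -⟩ := exists_iso_of_eq hZ z ((i ≫ f).stalkMap z) rfl
  haveI : Module.Free (Z.presheaf.stalk z) ((DerSch.stalkFunctor Z z).obj ΩZ) :=
    Groth.Agent.QCoh.free_stalk_of_isFinLocFree hfree z
  haveI : Module.Free (Z.presheaf.stalk z) Ω[Z.presheaf.stalk z⁄Y.presheaf.stalk (f (i z))] :=
    Module.Free.of_equiv jZ.symm.toLinearEquiv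
  show Algebra.FormallySmooth (Y.presheaf.stalk (f (i z))) (Z.presheaf.stalk z)
  rw [Algebra.formallySmooth_iff]
  refine ⟨inferInstance, ?_⟩
  rw [← Algebra.FormallySmooth.kerCotangentToTensor_injective_iff (i.stalkMap_surjective z)]
  exact hinj


/-- Let k be an algebraically closed field, X a nonsingular variety over k (integral, separated and of
finite type over k, all local rings regular) of dimension n, i : Y → X an irreducible closed
subscheme of dimension q with ideal sheaf I, (Ω_X, d_X) and (Ω_Y, d_Y) sheaves of differentials of X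
and Y over k (universal derivations), and φ : I/I² → i^*Ω_X the canonical map from the conormal
sheaf (class of a local section s of I ↦ pullback of d_X s). Then Y is nonsingular if and only if
(1) Ω_Y is locally free and (2) φ is a monomorphism (the conormal sequence 0 → I/I² → i^*Ω_X → Ω_Y →
0 is exact on the left too). Moreover in that case I/I² is locally free of rank n − q, the
codimension of Y. (The clause that I is then locally generated by n − q sections is not restated.) -/
theorem result (k : Type u) [Field k]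
    [IsAlgClosed k] (n q : ℕ)
    (X : Scheme.{u}) [X.Over (Spec (CommRingCat.of k))] [IsIntegral X] [IsSeparated (X ↘ (Spec (CommRingCat.of k)))]
    [LocallyOfFiniteType (X ↘ (Spec (CommRingCat.of k)))] [QuasiCompact (X ↘ (Spec (CommRingCat.of k)))]
    (hreg : ∀ x : ↥X, IsRegularLocalRing ↑(X.presheaf.stalk x))
    (hn : topologicalKrullDim ↥X = (n : WithBot ℕ∞))
    (Y : Scheme.{u}) (i : Y ⟶ X) [IsClosedImmersion i] [IrreducibleSpace ↥Y]
    (hq : topologicalKrullDim ↥Y = (q : WithBot ℕ∞))
    (ΩX : X.Modules) (dX : OmegaSh.Der (X ↘ (Spec (CommRingCat.of k))) ΩX) (hX : OmegaSh.IsUniversal dX)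
    (ΩY : Y.Modules) (dY : OmegaSh.Der (i ≫ (X ↘ (Spec (CommRingCat.of k)))) ΩY) (hY : OmegaSh.IsUniversal dY)
    (φ : Omega.conormal i ⟶ (Scheme.Modules.pullback i).obj ΩX) (hφ : OmegaSh.IsConormalDiff i dX φ) :
    ((∀ y : ↥Y, IsRegularLocalRing ↑(Y.presheaf.stalk y)) ↔ (FlatMod.IsFinLocFree ΩY ∧ Mono φ)) ∧
      ((∀ y : ↥Y, IsRegularLocalRing ↑(Y.presheaf.stalk y)) →
        FlatMod.IsFinLocFreeOfRank (n - q) (Omega.conormal i)) := by
  let f := X ↘ (Spec (CommRingCat.of k))
  let _ : Y.Over (Spec (CommRingCat.of k)) := ⟨i ≫ f⟩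
  have : LocallyOfFiniteType (Y ↘ Spec (CommRingCat.of k)) := inferInstanceAs (LocallyOfFiniteType (i ≫ f))
  have : Smooth (X ↘ (Spec (CommRingCat.of k))) :=
    Groth.Agent.CurveCohLib.RegularCurve.smooth_of_regular k fun x _ => hreg x
  have hsm : (∀ y : ↥Y, IsRegularLocalRing ↑(Y.presheaf.stalk y)) → Smooth (i ≫ (X ↘ (Spec (CommRingCat.of k)))) :=
    fun h => Groth.Agent.CurveCohLib.RegularCurve.smooth_of_regular k (X := Y) fun y _ => h y
  refine ⟨⟨fun h => ?_, fun h y => ?_⟩, fun h => ?_⟩
  · have := hsm h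
    refine ⟨fun y => ?_, Groth.Agent.S5020.result i f ((Groth.Agent.S1488.result _).mp ‹_›).2 ΩX dX hX φ hφ⟩
    obtain ⟨U, m, hy, he, -⟩ := Groth.Agent.S5019.result _ ΩY dY hY y
    exact ⟨U, m, hy, he⟩
  · have := h.2
    have hlft : LocallyOfFiniteType (i ≫ (X ↘ (Spec (CommRingCat.of k)))) := inferInstance
    have : LocallyOfFinitePresentation (i ≫ (X ↘ (Spec (CommRingCat.of k)))) := inferInstance
    have : Smooth (i ≫ (X ↘ (Spec (CommRingCat.of k)))) := by
      rw [← Scheme.Hom.smoothLocus_eq_top_iff, eq_top_iff]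
      intro z _
      exact formallySmooth_of_mono (X ↘ (Spec (CommRingCat.of k))) i ΩX dX hX ΩY dY hY h.1 φ hφ z
    exact Groth.Agent.GrpSchLib.isRegularLocalRing_stalk_of_smooth (i ≫ (X ↘ (Spec (CommRingCat.of k)))) y
  · have := hsm h
    have : IsReduced Y := by
      have : ∀ y : Y, _root_.IsReduced (Y.presheaf.stalk y) := fun y => by
        have := h y
        have := Groth.Agent.RegLoc6.isDomain_of_isRegularLocalRing (Y.presheaf.stalk y)
        infer_instance
      exact isReduced_of_isReduced_stalk Y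
    have : IsIntegral Y := isIntegral_of_irreducibleSpace_of_isReduced Y
    have := Groth.Agent.CurveFin.smoothOfRelativeDimension_of_dim (X ↘ (Spec (CommRingCat.of k))) hn
    have := Groth.Agent.CurveFin.smoothOfRelativeDimension_of_dim (i ≫ (X ↘ (Spec (CommRingCat.of k)))) hq
    intro y
    obtain ⟨U, c, hy, he, hd⟩ := Groth.Agent.S5021.result (X ↘ (Spec (CommRingCat.of k))) i y
    rw [Groth.Agent.S2768.result n, Groth.Agent.S2768.result q] at hd
    have hd' : n = q + c := by exact_mod_cast hd
    obtain rfl : n - q = c := by omega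
    exact ⟨U, hy, he⟩


end Groth.Agent.S12423
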