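import Groth.Statements.S12424
import Mathlib
import Groth.Agent.CubicLib.Section

set_option autoImplicit false
universe u
open Cubic

namespace Groth.Agent.S12424

/-- Let k be an algebraically closed field of characteristic zero and S = V_+(f) ⊂ P^3_k a smooth cubic
surface, f a nonzero homogeneous cubic in four variables with the Jacobian condition at every
nonzero zero. For every hyperplane H of P^3_k the scheme-theoretic intersection S ∩ H is reduced;
concretely, for every 4 × 3 matrix A of rank 3 over k (a linear parametrisation of H), the ternary
cubic obtained from f by substituting X_i ↦ Σ_j A_{ij} Y_j is squarefree. -/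
theorem result (k : Type u) [Field k] [IsAlgClosed k] [CharZero k]
    (f : MvPolynomial (Fin 4) k) (hf : f.IsHomogeneous 3) (hf0 : f ≠ 0)
    (hsm : ∀ v : Fin 4 → k, v ≠ 0 → MvPolynomial.eval v f = 0 →
      ∃ i : Fin 4, MvPolynomial.eval v (MvPolynomial.pderiv i f) ≠ 0)
    (A : Matrix (Fin 4) (Fin 3) k) (hA : A.rank = 3) :
    Squarefree (MvPolynomial.aeval (fun i : Fin 4 => ∑ j : Fin 3, MvPolynomial.C (A i j) * MvPolynomial.X j) f) := by
  exact Groth.Agent.CubicLib.squarefree_section f hf hsm A hA

end Groth.Agent.S12424
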