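import Groth.Statements.S12426
import Groth.Agent.BirBlow22.Global
-- import your own Groth.Agent.* helpers here

set_option autoImplicit false
universe u
open AlgebraicGeometry CategoryTheory CategoryTheory.Limits
open BlowUp

namespace Groth.Agent.S12426


/-- Let X be an integral Noetherian scheme with an ample invertible module M, X′ an integral scheme and
f : X′ → X a projective birational morphism: f factors as a closed immersion X′ → P^N_X followed by
the projection (for X quasi-compact with an ample invertible module this is the same as projective)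
and f is an isomorphism over some nonempty open subset of X. Then X′ is X-isomorphic to the blow-up
of X in some closed subscheme: there is an ideal sheaf I on X such that f has the universal property
of the blowing-up of X in I. -/
theorem result
    {X' X : Scheme.{u}} [IsIntegral X'] [IsIntegral X] [AlgebraicGeometry.IsNoetherian X]
    (M : X.Modules) (hM : CohB1.IsAmple M)
    (f : X' ⟶ X) (N : ℕ) (i : X' ⟶ CohB1.ProjSpaceOver N X) [IsClosedImmersion i]
    (hi : i ≫ CohB1.ProjSpaceOver.toBase N X = f)
    (hbir : ∃ U : X.Opens, (U : Set X).Nonempty ∧ IsIso (f ∣_ U)) :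
    ∃ I : X.IdealSheafData, BlowUp.IsBlowUp f I := by
  obtain ⟨U, ⟨x, hxU⟩, hU⟩ := hbir
  let gX := specULiftZIsTerminal.from X
  let j : X' ⟶ CohB1.ProjSpace N (ULift.{u} ℤ) := i ≫ pullback.fst _ _
  have w : j ≫ CohB1.ProjSpace.toSpec N (ULift.{u} ℤ) = f ≫ gX := specULiftZIsTerminal.hom_ext _ _
  have he : pullback.lift j f w = i := pullback.hom_ext (pullback.lift_fst _ _ _) ((pullback.lift_snd _ _ _).trans hi.symm)
  haveI : IsClosedImmersion (pullback.lift j f w) := he.symm ▸ ‹IsClosedImmersion i›
  haveI := hU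
  obtain ⟨z, hz⟩ := (f ∣_ U).homeomorph.surjective ⟨x, hxU⟩
  haveI : Nonempty (f ⁻¹ᵁ U).toScheme := ⟨z⟩
  haveI hoi : IsOpenImmersion ((f ⁻¹ᵁ U).ι ≫ f) := by rw [← morphismRestrict_ι]; infer_instance
  haveI : IrreducibleSpace (f ⁻¹ᵁ U).toScheme := inferInstance
  have hgen : (f ⁻¹ᵁ U).ι (genericPoint (f ⁻¹ᵁ U).toScheme) = genericPoint X' :=
    genericPoint_eq_of_isOpenImmersion (f ⁻¹ᵁ U).ι
  have hη : f (genericPoint X') = genericPoint X := by
    rw [← hgen, ← Scheme.Hom.comp_apply]
    exact genericPoint_eq_of_isOpenImmersion ((f ⁻¹ᵁ U).ι ≫ f)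
  have hst : IsIso (f.stalkMap (genericPoint X')) := by
    rw [← hgen]
    have hc : IsIso (((f ⁻¹ᵁ U).ι ≫ f).stalkMap (genericPoint (f ⁻¹ᵁ U).toScheme)) := inferInstance
    rw [Scheme.Hom.stalkMap_comp] at hc
    exact @IsIso.of_isIso_comp_right _ _ _ _ _ _ ((f ⁻¹ᵁ U).ι.stalkMap (genericPoint (f ⁻¹ᵁ U).toScheme))
      inferInstance hc
  exact BirBlow22.exists_ideal M hM j gX w hη (ConcreteCategory.bijective_of_isIso _)

end Groth.Agent.S12426
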