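import Groth.Statements.S12431
import Groth.Agent.GenusOneSS.RankTwo
import Groth.Agent.GenusOneSS.Eval
import Groth.Agent.CurveCohLib.RankTwo
import Groth.Agent.CurveCohLib.RegularCurve
import Groth.Agent.Lib.PnDualSheafHom
import Groth.Agent.ExtIso.Main
-- import your own Groth.Agent.* helpers here

set_option autoImplicit false
universe u
open CategoryTheory CategoryTheory.Limits AlgebraicGeometry
open Curves

set_option backward.isDefEq.respectTransparency false
set_option backward.isDefEq.respectTransparency.types false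
set_option linter.style.haveILetI false
set_option linter.unusedSectionVars false
set_option maxHeartbeats 1000000

namespace Groth.Agent.S12431

open CategoryTheory CategoryTheory.Limits AlgebraicGeometry CategoryTheory.Abelian
open Groth.Agent.CurveBundle Groth.Agent.CurveSlope Groth.Agent.CurveStable

variable (k : Type u) [Field k] [IsAlgClosed k] (X : Scheme.{u}) [X.Over (Spec (CommRingCat.of k))]
  [IsIntegral X] [IsProper (X ↘ Spec (CommRingCat.of k))]

/-- A normalized indecomposable bundle of degree 0 is a non-split extension of `O` by `O`. -/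
theorem exists_ext [Smooth (X ↘ Spec (CommRingCat.of k))] (hdim : topologicalKrullDim X = 1)
    (hg : Curv2.genus k X = 1) (E : X.Modules) (hE : FlatMod.IsFinLocFreeOfRank 2 E)
    (hE0 : Nontrivial (Coh.HH X E 0))
    (hneg : ∀ M : X.Modules, PicF.IsInvertible M → Curv2.deg k X M 1 < 0 → Subsingleton (Coh.HH X (CohB1.tensorMod E M) 0))
    (hind : ∀ L₁ L₂ : X.Modules, PicF.IsInvertible L₁ → PicF.IsInvertible L₂ → IsEmpty (E ≅ L₁ ⊞ L₂))
    (hd : Curv2.deg k X E 2 = 0) :
    ∃ (f : Coh.structureModule X ⟶ E) (g : E ⟶ Coh.structureModule X) (w : f ≫ g = 0),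
      (ShortComplex.mk f g w).ShortExact ∧ IsEmpty (ShortComplex.mk f g w).Splitting := by
  obtain ⟨t, ht⟩ := exists_ne (0 : Coh.HH X E 0)
  let s : Coh.structureModule X ⟶ E := CurveSpecial.homOfClass t
  have hs : s ≠ 0 := by
    intro h0
    refine ht ?_
    rw [← GenusOneSS.toH_homOfClass t]
    show GenusOneSS.toH s = 0
    rw [h0]
    exact map_zero _
  obtain ⟨hm, hQi, hQd⟩ := CurveCohLib.RankTwo.cokernel_section k hdim hE hneg s hs
  haveI := hm
  have hS := CurveSlope.shortExact_cokernel_of_mono s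
  have hO := CurveCohLib.Clifford.finrank_h0_structure k (X := X)
  have hO1 := CurveDeg.isInvertible_structureModule (X := X)
  have hsplit : ∀ (g : E ⟶ Coh.structureModule X) (w : s ≫ g = 0),
      IsEmpty (ShortComplex.mk s g w).Splitting := fun g w =>
    ⟨fun σ => (hind _ _ hO1 hO1).false σ.isoBinaryBiproduct⟩
  obtain ⟨φ, hφ⟩ : ∃ φ : Coh.structureModule X ⟶ cokernel s, φ ≠ 0 := by
    by_contra hno
    push Not at hno
    haveI := GenusOneSS.isSplitEpi_of_hom_eq_zero k hdim hg hO hS
      (isFinLocFree_of_rank (InvEnd.isFinLocFreeOfRank_one hO1))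
      (isFinLocFree_of_rank (InvEnd.isFinLocFreeOfRank_one hQi)) hno
    exact (hind _ _ hO1 hQi).false (ShortComplex.Splitting.ofExactOfSection _ hS.exact
      (section_ (cokernel.π s)) (IsSplitEpi.id _) hS.mono_f).isoBinaryBiproduct
  haveI : IsIso φ := (CurveDeg.deg_le_and_isIso k hdim.le hO1 hQi φ hφ).2 (by
    rw [CurveDeg.deg_structureModule, hQd, hd])
  refine ⟨s, cokernel.π s ≫ inv φ, by simp, ?_, hsplit _ _⟩
  exact ShortComplex.shortExact_of_iso
    (ShortComplex.isoMk (S₁ := ShortComplex.mk s (cokernel.π s) (cokernel.condition s))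
      (S₂ := ShortComplex.mk s (cokernel.π s ≫ inv φ) (by simp)) (Iso.refl _) (Iso.refl _) (asIso φ).symm (by simp) (by simp)) hS

/-- On a genus one curve two non-split self-extensions of `O` have isomorphic middle terms. -/
theorem nonempty_iso (hg : Curv2.genus k X = 1) {E E' : X.Modules} {f : Coh.structureModule X ⟶ E}
    {g : E ⟶ Coh.structureModule X} {w : f ≫ g = 0} (hS : (ShortComplex.mk f g w).ShortExact)
    (hn : IsEmpty (ShortComplex.mk f g w).Splitting)
    {f' : Coh.structureModule X ⟶ E'} {g' : E' ⟶ Coh.structureModule X} {w' : f' ≫ g' = 0}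
    (hS' : (ShortComplex.mk f' g' w').ShortExact) (hn' : IsEmpty (ShortComplex.mk f' g' w').Splitting) :
    Nonempty (E ≅ E') := by
  haveI : HasExt.{u} X.Modules :=
    haveI : IsGrothendieckAbelian.{u} X.Modules :=
      inferInstanceAs (IsGrothendieckAbelian.{u} (SheafOfModules.{u} X.ringCatSheaf))
    IsGrothendieckAbelian.hasExt _
  have hOf : FlatMod.IsFinLocFree (Coh.structureModule X) :=
    isFinLocFree_of_rank (InvEnd.isFinLocFreeOfRank_one (CurveDeg.isInvertible_structureModule (X := X)))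
  obtain ⟨l⟩ := PnDual.nonempty_ext_linearEquiv_HH (A := k) hOf (Coh.structureModule X) 1
  have hd1 : Module.finrank k (Ext.{u} (Coh.structureModule X) (Coh.structureModule X) 1) = 1 := by
    rw [l.finrank_eq, (CurveCohLib.hhEquiv (k := k) ((SheafHomX.unitIso X).app (Coh.structureModule X)) 1).finrank_eq]
    exact hg
  have key : ∀ {B : X.Modules} {a : Coh.structureModule X ⟶ B} {b : B ⟶ Coh.structureModule X} {z : a ≫ b = 0}
      (h : (ShortComplex.mk a b z).ShortExact), IsEmpty (ShortComplex.mk a b z).Splitting → h.extClass ≠ 0 := by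
    intro B a b z h hne h0
    obtain ⟨y, hy⟩ := Ext.covariant_sequence_exact₃ (Coh.structureModule X) h (Ext.mk₀ (𝟙 _)) (zero_add 1)
      (by rw [h0, Ext.comp_zero])
    obtain ⟨σ, rfl⟩ := (Ext.mk₀_bijective _ B).2 y
    rw [Ext.mk₀_comp_mk₀] at hy
    haveI := h.mono_f
    exact hne.false (ShortComplex.Splitting.ofExactOfSection _ h.exact σ ((Ext.mk₀_bijective _ _).1 hy) h.mono_f)
  obtain ⟨c, hc⟩ := (finrank_eq_one_iff_of_nonzero' hS.extClass (key hS hn)).1 hd1 hS'.extClass
  have hc0 : c ≠ 0 := fun h0 => key hS' hn' (by rw [← hc, h0, zero_smul])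
  have w₂ : (c⁻¹ • f) ≫ g = 0 := by rw [Linear.smul_comp, w, smul_zero]
  let m : ShortComplex.mk f g w ⟶ ShortComplex.mk (c⁻¹ • f) g w₂ :=
    { τ₁ := c • 𝟙 _, τ₂ := 𝟙 _, τ₃ := 𝟙 _
      comm₁₂ := by simp [Linear.smul_comp, Linear.comp_smul, smul_smul, mul_inv_cancel₀ hc0, inv_mul_cancel₀ hc0]
      comm₂₃ := by simp }
  haveI : IsIso m.τ₁ := ⟨c⁻¹ • 𝟙 _, by simp [m, Linear.smul_comp, Linear.comp_smul, smul_smul, hc0],
    by simp [m, Linear.smul_comp, Linear.comp_smul, smul_smul, hc0]⟩
  haveI : IsIso m.τ₂ := inferInstanceAs (IsIso (𝟙 E))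
  haveI : IsIso m.τ₃ := inferInstanceAs (IsIso (𝟙 (Coh.structureModule X)))
  haveI : IsIso m := ShortComplex.isIso_of_isIso m
  have hS₂ := ShortComplex.shortExact_of_iso (asIso m) hS
  have hcl : hS₂.extClass = hS'.extClass := by
    have h := ShortComplex.ShortExact.extClass_naturality hS hS₂ m
    rw [Ext.mk₀_id_comp] at h
    rw [← hc, Ext.smul_eq_comp_mk₀]
    exact h.symm
  obtain ⟨e, -, -⟩ := ExtIso.exists_iso_of_extClass_eq hS₂ hS' hcl
  exact ⟨e⟩


/-- Uniqueness, e = 0 case: let C be an elliptic curve over an algebraically closed field k — integral,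
proper over k, of dimension one, all local rings regular, of genus 1 — and let E and E′ be locally
free O_C-modules of rank 2 which are normalized (H^0(C, E) ≠ 0 while H^0(C, E ⊗ M) = 0 for every
invertible M of negative degree; likewise for E′), indecomposable (not isomorphic to a direct sum of
two invertible modules) and of degree 0, where deg E = χ(E) − 2χ(O_C). Then E and E′ are isomorphic:
there is exactly one elliptic ruled surface with invariant e = 0 and indecomposable E. -/
theorem result (k : Type u) [Field k] [IsAlgClosed k] (C : Scheme.{u}) [C.Over (Spec (CommRingCat.of k))]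
    [IsIntegral C] [IsProper (C ↘ (Spec (CommRingCat.of k)))] (hdimC : topologicalKrullDim C = 1)
    (hregC : ∀ x : C, IsRegularLocalRing (C.presheaf.stalk x)) (hg : Curv2.genus k C = 1)
    (E : C.Modules) (hE : FlatMod.IsFinLocFreeOfRank 2 E)
    (hE0 : Nontrivial (Coh.HH C E 0))
    (hEneg : ∀ M : C.Modules, PicF.IsInvertible M → Curv2.deg k C M 1 < 0 → Subsingleton (Coh.HH C (CohB1.tensorMod E M) 0))
    (hEind : ∀ L₁ L₂ : C.Modules, PicF.IsInvertible L₁ → PicF.IsInvertible L₂ → IsEmpty (E ≅ L₁ ⊞ L₂))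
    (hEdeg : Curv2.deg k C E 2 = 0)
    (E' : C.Modules) (hE' : FlatMod.IsFinLocFreeOfRank 2 E')
    (hE'0 : Nontrivial (Coh.HH C E' 0))
    (hE'neg : ∀ M : C.Modules, PicF.IsInvertible M → Curv2.deg k C M 1 < 0 → Subsingleton (Coh.HH C (CohB1.tensorMod E' M) 0))
    (hE'ind : ∀ L₁ L₂ : C.Modules, PicF.IsInvertible L₁ → PicF.IsInvertible L₂ → IsEmpty (E' ≅ L₁ ⊞ L₂))
    (hE'deg : Curv2.deg k C E' 2 = 0) :
    Nonempty (E ≅ E') := by
  haveI := CurveCohLib.RegularCurve.smooth_of_regular k (X := C) fun x _ => hregC x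
  obtain ⟨f, g, w, hS, hn⟩ := exists_ext k C hdimC hg E hE hE0 hEneg hEind hEdeg
  obtain ⟨f', g', w', hS', hn'⟩ := exists_ext k C hdimC hg E' hE' hE'0 hE'neg hE'ind hE'deg
  exact nonempty_iso k C hg hS hn hS' hn'

end Groth.Agent.S12431
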