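import Groth.Statements.S12434
import Groth.Agent.H9Misc.Indec
import Groth.Agent.InjLocal.Noeth
import Groth.Agent.KFlatLib.Scheme.Grothendieck

set_option autoImplicit false
universe u
open CategoryTheory CategoryTheory.Limits AlgebraicGeometry
open Coherent

namespace Groth.Agent.S12434

/-- On a locally Noetherian scheme X every injective O_X-module (injective object of the category of all
O_X-modules) is isomorphic to a direct sum of indecomposable injective O_X-modules — a coproduct of
a family of injective modules J_i, each nonzero and such that in any decomposition J_i ≅ A ⊞ B one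
of A, B is zero. (The published statement also asserts uniqueness of the decomposition, not restated
here.) -/
theorem result {X : Scheme.{u}} [IsLocallyNoetherian X]
    (I : X.Modules) (hI : Injective I) :
    ∃ (ι : Type u) (J : ι → X.Modules), (∀ i, Injective (J i)) ∧ (∀ i, ¬ IsZero (J i)) ∧
      (∀ i (A B : X.Modules), Nonempty (J i ≅ A ⊞ B) → IsZero A ∨ IsZero B) ∧ Nonempty (I ≅ ∐ J) := by
  haveI := hI
  have hgen : ∀ M : X.Modules, ¬ IsZero M → ∃ (G : X.Modules) (h : G ⟶ M), WellFoundedGT (Subobject G) ∧ h ≠ 0 := by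
    intro M hM
    obtain ⟨V, hV, h, hh⟩ := Groth.Agent.InjLocal.exists_affine_gen_ne_zero (𝟙 M)
      (fun h0 => hM ((IsZero.iff_id_eq_zero M).2 h0))
    haveI : IsAffine (V : Scheme.{u}) := hV
    haveI : IsLocallyNoetherian (V : Scheme.{u}) := isLocallyNoetherian_of_isOpenImmersion V.ι
    haveI : IsNoetherian (V : Scheme.{u}) := {}
    exact ⟨_, h, wellFoundedGT_iff_monotone_chain_condition.2 fun c =>
      Groth.Agent.IdealSub.chain_stabilizes_lsh V.ι (Iso.refl _) c, by simpa using hh⟩
  obtain ⟨ι, J, hJ, ⟨e⟩⟩ := Groth.Agent.H9Misc.Indec.exists_decomposition I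
    (fun Z hZ => Groth.Agent.InjLocal.injective_coproduct Z hZ) hgen
  exact ⟨ι, J, fun i => (hJ i).1, fun i => (hJ i).2.1, fun i A B h => (hJ i).2.2 A B h, ⟨e⟩⟩

end Groth.Agent.S12434
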