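import Groth.Statements.S12436
import Groth.Agent.SurfRows.Ruled
import Groth.Agent.PnCoh.Chow.Proper
import Groth.Agent.CurveCohLib.RegularCurve

set_option autoImplicit false
set_option backward.isDefEq.respectTransparency false
set_option backward.isDefEq.respectTransparency.types false
set_option linter.style.haveILetI false
set_option linter.unusedSectionVars false
set_option maxHeartbeats 800000
universe u
open CategoryTheory CategoryTheory.Limits AlgebraicGeometry
open Surf

namespace Groth.Agent.S12436

open Groth.Agent Groth.Agent.H23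
attribute [local instance] PicMul.clMonoid

/-- Let π : X → C be a ruled surface over an algebraically closed field k — X a surface (integral, of
dimension two, all local rings regular, with a closed immersion into some P^n_k over k), C a curve
(integral, proper over k, of dimension one, all local rings regular), π a surjective k-morphism with
every closed fibre isomorphic to P^1_k, σ a section — let C₀ = σ(C) with ideal sheaf ker σ, and let
f = π⁻¹(y) be the fibre over a closed point y, with ideal m_y·O_X. Then C₀.f = 1 and f² = 0; in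
terms of the intersection number (L·M) = χ(O) − χ(L) − χ(M) + χ(L ⊗ M) of the ideal sheaves,
(I_{C₀}·I_f) = 1 and (I_f·I_f) = 0. -/
theorem result (k : Type u) [Field k] [IsAlgClosed k] (X : Scheme.{u}) [X.Over (Spec (CommRingCat.of k))]
    [IsIntegral X] (hdim : topologicalKrullDim X = 2) (hreg : ∀ x : X, IsRegularLocalRing (X.presheaf.stalk x))
    (hproj : ∃ (n : ℕ) (ι : X ⟶ CohB1.ProjSpace n k), IsClosedImmersion ι ∧ ι ≫ CohB1.ProjSpace.toSpec n k = (X ↘ (Spec (CommRingCat.of k))))
    (C : Scheme.{u}) [C.Over (Spec (CommRingCat.of k))]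
    [IsIntegral C] [IsProper (C ↘ (Spec (CommRingCat.of k)))] (hdimC : topologicalKrullDim C = 1)
    (hregC : ∀ x : C, IsRegularLocalRing (C.presheaf.stalk x))
    (π : X ⟶ C) (hπ : π ≫ (C ↘ (Spec (CommRingCat.of k))) = (X ↘ (Spec (CommRingCat.of k)))) (hsurj : Function.Surjective π)
    (hfib : ∀ y : C, IsClosed ({y} : Set C) → Nonempty (pullback π (C.fromSpecResidueField y) ≅ CohB1.ProjSpace 1 k))
    (σ : C ⟶ X) (hσ : σ ≫ π = 𝟙 C)
    [HasInjectiveResolutions X.Modules] (y : C) (hy : IsClosed ({y} : Set C)) :
    FGA.intNum k X 2 ![ClSub.idealMod σ.ker, (ClSub.idealMod ((Scheme.IdealSheafData.vanishingIdeal ⟨{y}, hy⟩).comap π))] (Coh.structureModule X) = 1 ∧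
      FGA.intNum k X 2 ![(ClSub.idealMod ((Scheme.IdealSheafData.vanishingIdeal ⟨{y}, hy⟩).comap π)), (ClSub.idealMod ((Scheme.IdealSheafData.vanishingIdeal ⟨{y}, hy⟩).comap π))] (Coh.structureModule X) = 0 := by
  obtain ⟨N, ι, hι, hfac⟩ := hproj
  haveI := hι
  haveI : IsProper (CohB1.ProjSpace.toSpec N k) := PnCoh.Chow.isProper_toSpec N k
  haveI : IsProper (X ↘ Spec (CommRingCat.of k)) := by rw [← hfac]; infer_instance
  haveI : Smooth (X ↘ Spec (CommRingCat.of k)) := CurveCohLib.RegularCurve.smooth_of_regular k fun x _ => hreg x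
  haveI : Smooth (C ↘ Spec (CommRingCat.of k)) := CurveCohLib.RegularCurve.smooth_of_regular k fun x _ => hregC x
  haveI : π.IsOver (Spec (CommRingCat.of k)) := ⟨hπ⟩
  haveI : Surjective π := ⟨hsurj⟩
  haveI : IsClosedImmersion σ := SurfRows.section_closedImmersion k π σ hσ
  obtain ⟨hIσ, hdσ⟩ := SurfRows.section_ideal k π σ hσ hdim hdimC y hy
  obtain ⟨e⟩ := hfib y hy
  have hI := (S8914.result _).2 (SurfRows.fibre_facts k hdim hdimC π y hy).1
  rw [SurfPairing.intNum_eq_pair k hdim.le hIσ hI, SurfPairing.intNum_eq_pair k hdim.le hI hI]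
  exact ⟨hdσ, SurfRows.fibre_self k π hdim hdimC y hy e⟩

end Groth.Agent.S12436
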