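import Groth.Statements.S12437
import Mathlib
import Groth.Agent.CubicLib.EsymmIrred

set_option autoImplicit false
universe u
open Cubic

namespace Groth.Agent.S12437

/-- Over an algebraically closed field k of characteristic zero, the closed subscheme V(σ₂, σ₄) of A^5_k
cut out by the elementary symmetric polynomials of degrees 2 and 4 in five variables — the affine
cone over the surface H = V_+(σ₂, σ₄) ⊂ P^4_k — is irreducible: the radical of the ideal (σ₂, σ₄) of
k[X_0, …, X_4] is a prime ideal. -/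
theorem result (k : Type u) [Field k] [IsAlgClosed k] [CharZero k] :
    (Ideal.span ({MvPolynomial.esymm (Fin 5) k 2, MvPolynomial.esymm (Fin 5) k 4} :
      Set (MvPolynomial (Fin 5) k))).radical.IsPrime := by
  classical
  let B := Groth.Agent.CubicLib.EsymmIrred.B k
  let e : MvPolynomial (Fin 5) k ≃+* (Polynomial (Polynomial B)) :=
    (MvPolynomial.finSuccEquiv k 4).toRingEquiv.trans
      (Polynomial.mapEquiv (MvPolynomial.finSuccEquiv k 3).toRingEquiv)
  have h0 : e (MvPolynomial.X 0) = Polynomial.X := by simp [e, MvPolynomial.finSuccEquiv_X_zero]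
  have h1 : e (MvPolynomial.X 1) = Polynomial.C Polynomial.X := by
    show Polynomial.map ((MvPolynomial.finSuccEquiv k 3).toRingEquiv).toRingHom
      (MvPolynomial.finSuccEquiv k 4 (MvPolynomial.X (Fin.succ (0 : Fin 4)))) = _
    rw [MvPolynomial.finSuccEquiv_X_succ, Polynomial.map_C]
    exact congrArg Polynomial.C MvPolynomial.finSuccEquiv_X_zero
  have h2 : ∀ j : Fin 3, e (MvPolynomial.X j.succ.succ) = Polynomial.C (Polynomial.C (MvPolynomial.X j)) := by
    intro j
    show Polynomial.map ((MvPolynomial.finSuccEquiv k 3).toRingEquiv).toRingHom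
      (MvPolynomial.finSuccEquiv k 4 (MvPolynomial.X j.succ.succ)) = _
    rw [MvPolynomial.finSuccEquiv_X_succ, Polynomial.map_C]
    exact congrArg Polynomial.C MvPolynomial.finSuccEquiv_X_succ
  have s2 : MvPolynomial.esymm (Fin 5) k 2 = MvPolynomial.X 0 * MvPolynomial.X 1 + MvPolynomial.X 0 * MvPolynomial.X 2
      + MvPolynomial.X 0 * MvPolynomial.X 3 + MvPolynomial.X 0 * MvPolynomial.X 4 + MvPolynomial.X 1 * MvPolynomial.X 2
      + MvPolynomial.X 1 * MvPolynomial.X 3 + MvPolynomial.X 1 * MvPolynomial.X 4 + MvPolynomial.X 2 * MvPolynomial.X 3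
      + MvPolynomial.X 2 * MvPolynomial.X 4 + MvPolynomial.X 3 * MvPolynomial.X 4 := by
    rw [MvPolynomial.esymm, show (Finset.univ : Finset (Fin 5)).powersetCard 2 =
      {{0, 1}, {0, 2}, {0, 3}, {0, 4}, {1, 2}, {1, 3}, {1, 4}, {2, 3}, {2, 4}, {3, 4}} by decide]
    iterate 9 rw [Finset.sum_insert (by decide)]
    rw [Finset.sum_singleton]
    iterate 10 rw [Finset.prod_pair (by decide)]
    ring
  have s4 : MvPolynomial.esymm (Fin 5) k 4 = MvPolynomial.X 1 * MvPolynomial.X 2 * MvPolynomial.X 3 * MvPolynomial.X 4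
      + MvPolynomial.X 0 * MvPolynomial.X 2 * MvPolynomial.X 3 * MvPolynomial.X 4
      + MvPolynomial.X 0 * MvPolynomial.X 1 * MvPolynomial.X 3 * MvPolynomial.X 4
      + MvPolynomial.X 0 * MvPolynomial.X 1 * MvPolynomial.X 2 * MvPolynomial.X 4
      + MvPolynomial.X 0 * MvPolynomial.X 1 * MvPolynomial.X 2 * MvPolynomial.X 3 := by
    rw [MvPolynomial.esymm, show (Finset.univ : Finset (Fin 5)).powersetCard 4 =
      {{1, 2, 3, 4}, {0, 2, 3, 4}, {0, 1, 3, 4}, {0, 1, 2, 4}, {0, 1, 2, 3}} by decide]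
    iterate 4 rw [Finset.sum_insert (by decide)]
    rw [Finset.sum_singleton]
    simp only [Finset.prod_insert (by decide : (1 : Fin 5) ∉ ({2, 3, 4} : Finset (Fin 5))),
      Finset.prod_insert (by decide : (0 : Fin 5) ∉ ({2, 3, 4} : Finset (Fin 5))),
      Finset.prod_insert (by decide : (0 : Fin 5) ∉ ({1, 3, 4} : Finset (Fin 5))),
      Finset.prod_insert (by decide : (0 : Fin 5) ∉ ({1, 2, 4} : Finset (Fin 5))),
      Finset.prod_insert (by decide : (0 : Fin 5) ∉ ({1, 2, 3} : Finset (Fin 5))),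
      Finset.prod_insert (by decide : (2 : Fin 5) ∉ ({3, 4} : Finset (Fin 5))),
      Finset.prod_insert (by decide : (1 : Fin 5) ∉ ({3, 4} : Finset (Fin 5))),
      Finset.prod_insert (by decide : (1 : Fin 5) ∉ ({2, 4} : Finset (Fin 5))),
      Finset.prod_insert (by decide : (1 : Fin 5) ∉ ({2, 3} : Finset (Fin 5))),
      Finset.prod_pair (by decide : (3 : Fin 5) ≠ 4), Finset.prod_pair (by decide : (2 : Fin 5) ≠ 4),
      Finset.prod_pair (by decide : (2 : Fin 5) ≠ 3)]
    ring
  have a2 : e (MvPolynomial.X 2) = Polynomial.C (Polynomial.C (MvPolynomial.X 0)) := h2 0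
  have a3 : e (MvPolynomial.X 3) = Polynomial.C (Polynomial.C (MvPolynomial.X 1)) := h2 1
  have a4 : e (MvPolynomial.X 4) = Polynomial.C (Polynomial.C (MvPolynomial.X 2)) := h2 2
  have E2 : e (MvPolynomial.esymm (Fin 5) k 2) = Polynomial.C (Groth.Agent.CubicLib.EsymmIrred.g2 k) +
      Polynomial.X * Polynomial.C (Groth.Agent.CubicLib.EsymmIrred.g1 k) := by
    rw [s2]
    simp only [map_add, map_mul, h0, h1, a2, a3, a4, Groth.Agent.CubicLib.EsymmIrred.g2,
      Groth.Agent.CubicLib.EsymmIrred.g1, Groth.Agent.CubicLib.EsymmIrred.f1,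
      Groth.Agent.CubicLib.EsymmIrred.f2]
    ring
  have E4 : e (MvPolynomial.esymm (Fin 5) k 4) = Polynomial.C (Groth.Agent.CubicLib.EsymmIrred.g4 k) +
      Polynomial.X * Polynomial.C (Groth.Agent.CubicLib.EsymmIrred.g3 k) := by
    rw [s4]
    simp only [map_add, map_mul, h0, h1, a2, a3, a4, Groth.Agent.CubicLib.EsymmIrred.g4,
      Groth.Agent.CubicLib.EsymmIrred.g3, Groth.Agent.CubicLib.EsymmIrred.f3,
      Groth.Agent.CubicLib.EsymmIrred.f2]
    ring
  let J : Ideal (Polynomial (Polynomial B)) := Ideal.span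
    {Polynomial.C (Groth.Agent.CubicLib.EsymmIrred.g2 k) + Polynomial.X * Polynomial.C (Groth.Agent.CubicLib.EsymmIrred.g1 k),
     Polynomial.C (Groth.Agent.CubicLib.EsymmIrred.g4 k) + Polynomial.X * Polynomial.C (Groth.Agent.CubicLib.EsymmIrred.g3 k)}
  have hJ : (Ideal.span ({MvPolynomial.esymm (Fin 5) k 2, MvPolynomial.esymm (Fin 5) k 4} :
      Set (MvPolynomial (Fin 5) k))).map e = J := by
    rw [Ideal.map_span, Set.image_pair, E2, E4]
  have hp : (Ideal.radical (R := Polynomial (Polynomial B)) J).IsPrime :=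
    Groth.Agent.CubicLib.EsymmIrred.isPrime_radical k
  have key : (Ideal.span ({MvPolynomial.esymm (Fin 5) k 2, MvPolynomial.esymm (Fin 5) k 4} :
      Set (MvPolynomial (Fin 5) k))).radical = (Ideal.radical (R := Polynomial (Polynomial B)) J).comap e := by
    ext x
    refine exists_congr fun n => ?_
    rw [← map_pow, ← hJ]
    exact ⟨Ideal.mem_map_of_mem e, fun h => by
      obtain ⟨y, hy, hxy⟩ := (Ideal.mem_map_iff_of_surjective e e.surjective).1 h
      exact e.injective hxy ▸ hy⟩
  rw [key]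
  exact Ideal.IsPrime.comap e

end Groth.Agent.S12437
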