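import Groth.Statements.S12439
import Groth.Agent.NNChain.Basic

set_option autoImplicit false
universe u
open Variety

namespace Groth.Agent.S12439

/-- Let k be a field, A an integral domain which is a finitely generated k-algebra of Krull dimension d,
and q_{h(1)} ⊊ … ⊊ q_{h(r)} a chain of prime ideals with dim A/q_{h(i)} = d − h(i), where 0 ≤ h(i) ≤
d. Then (1) there is a finite injective k-algebra homomorphism φ : k[T_1, …, T_d] → A with
φ⁻¹(q_{h(i)}) = (T_1, …, T_{h(i)}) for every i (variables indexed from 0 below: the ideal generated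
by the T_l with l < h(i)); and (2) for every such φ the given chain extends to a chain of primes q_0
⊊ … ⊊ q_d of A with φ⁻¹(q_j) = (T_1, …, T_j) for all j ≤ d. -/
theorem result (k A : Type u) [Field k]
    [CommRing A] [IsDomain A] [Algebra k A] [Algebra.FiniteType k A] (d : ℕ) (hd : ringKrullDim A = (d : WithBot ℕ∞))
    (r : ℕ) (q : Fin r → PrimeSpectrum A) (hq : StrictMono q) (h : Fin r → ℕ) (hh : ∀ i, h i ≤ d)
    (hdim : ∀ i, ringKrullDim (A ⧸ (q i).asIdeal) = ((d - h i : ℕ) : WithBot ℕ∞)) :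
    (∃ φ : MvPolynomial (Fin d) k →ₐ[k] A, φ.toRingHom.Finite ∧ Function.Injective φ ∧
      ∀ i, (q i).asIdeal.comap φ = Ideal.span (MvPolynomial.X '' {l : Fin d | (l : ℕ) < h i})) ∧
    (∀ φ : MvPolynomial (Fin d) k →ₐ[k] A, φ.toRingHom.Finite → Function.Injective φ →
      (∀ i, (q i).asIdeal.comap φ = Ideal.span (MvPolynomial.X '' {l : Fin d | (l : ℕ) < h i})) →
      ∃ Q : ℕ → PrimeSpectrum A,
        (∀ j, j ≤ d → (Q j).asIdeal.comap φ = Ideal.span (MvPolynomial.X '' {l : Fin d | (l : ℕ) < j})) ∧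
        (∀ j, j < d → Q j < Q (j + 1)) ∧ (∀ i, Q (h i) = q i)) := by
  classical
  refine ⟨?_, fun φ hfin hinj hφ => ?_⟩
  · obtain ⟨s, g, ginj, gfin⟩ := exists_finite_inj_algHom_of_fg k A
    have gint : g.toRingHom.IsIntegral := gfin.to_isIntegral
    obtain rfl : s = d := by
      letI := g.toRingHom.toAlgebra
      haveI : FaithfulSMul (MvPolynomial (Fin s) k) A := (faithfulSMul_iff_algebraMap_injective _ _).2 ginj
      haveI : Algebra.IsIntegral (MvPolynomial (Fin s) k) A := ⟨gint⟩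
      rw [VarDim.ringKrullDim_eq_of_isIntegral (R := MvPolynomial (Fin s) k),
        MvPolynomial.ringKrullDim_of_isNoetherianRing, ringKrullDim_eq_zero_of_field, zero_add,
        Nat.card_fin] at hd
      exact_mod_cast hd
    obtain ⟨ψ, m, hψi, hψj, hm⟩ := NNChain.exists_adapted s r (fun i => (q i).asIdeal.comap g)
      (fun a b hab => Ideal.comap_mono (hq.monotone hab))
      (fun i => Ideal.comap_ne_top _ (q i).2.ne_top)
    have hint : (g.comp ψ).toRingHom.IsIntegral := hψi.trans _ _ gint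
    refine ⟨g.comp ψ, ?_, ginj.comp hψj, fun i => ?_⟩
    · have hft : (algebraMap k A).FiniteType := RingHom.finiteType_algebraMap.2 inferInstance
      rw [← (g.comp ψ).comp_algebraMap] at hft
      exact hint.to_finite hft.of_comp_finiteType
    · have h1 := NNChain.ringKrullDim_quotient_eq (hm i).1 (g.comp ψ) hint (q i).asIdeal
        ((Ideal.comap_comap _ _).symm.trans (hm i).2)
      rw [hdim i] at h1
      have h2 : s - h i = s - m i := by exact_mod_cast h1
      have h3 : m i = h i := by have := (hm i).1; have := hh i; omega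
      rw [← h3]
      exact (Ideal.comap_comap _ _).symm.trans (hm i).2
  have hint : φ.toRingHom.IsIntegral := hfin.to_isIntegral
  letI := φ.toRingHom.toAlgebra
  haveI : Algebra.IsIntegral (MvPolynomial (Fin d) k) A := ⟨hint⟩
  have inc : ∀ P P' : PrimeSpectrum A, P ≤ P' → P.asIdeal.comap φ = P'.asIdeal.comap φ → P = P' := by
    intro P P' hle he
    by_contra hne
    exact (Ideal.IsIntegral.comap_lt_comap (R := MvPolynomial (Fin d) k)
      (show P.asIdeal < P'.asIdeal from lt_of_le_of_ne hle fun e => hne (PrimeSpectrum.ext e))).ne he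
  have ex : ∀ j, j ≤ d → ∀ P : PrimeSpectrum A, P.asIdeal.comap φ = NNChain.J k d j →
      (∀ i, j ≤ h i → P ≤ q i) → j < d →
      ∃ Q : PrimeSpectrum A, P ≤ Q ∧ Q.asIdeal.comap φ = NNChain.J k d (j + 1) ∧
        ∀ i, j + 1 ≤ h i → Q ≤ q i := by
    intro j _ P hP hPq hjd
    let S : Finset (Fin r) := Finset.univ.filter fun i => j + 1 ≤ h i
    by_cases hS : S.Nonempty
    · have hm : j + 1 ≤ h (S.min' hS) := by simpa [S] using S.min'_mem hS
      obtain ⟨Q, hQ1, hQ2, hQ3⟩ := NNChain.exists_between φ hint (Nat.le_succ j) hm (hh _) P (q (S.min' hS))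
        (hPq _ (by omega)) hP (hφ _)
      exact ⟨Q, hQ1, hQ3, fun i hi => hQ2.trans (hq.monotone (S.min'_le i (Finset.mem_filter.2 ⟨Finset.mem_univ i, hi⟩)))⟩
    · haveI := NNChain.J_isPrime (k := k) (Nat.succ_le_iff.2 hjd : j + 1 ≤ d)
      obtain ⟨Q, hPQ, hQp, hQ⟩ := Ideal.exists_ideal_over_prime_of_isIntegral (NNChain.J k d (j + 1)) P.asIdeal
        (hP.le.trans (NNChain.J_mono d (Nat.le_succ j)))
      exact ⟨⟨Q, hQp⟩, hPQ, hQ, fun i hi => absurd ⟨i, Finset.mem_filter.2 ⟨Finset.mem_univ i, hi⟩⟩ hS⟩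
  choose nxt hnxt using ex
  let Q : ℕ → {P : PrimeSpectrum A // True} := fun j => ⟨Nat.rec ⟨⊥, Ideal.isPrime_bot⟩ (fun j P =>
    if H : (j ≤ d ∧ P.asIdeal.comap φ = NNChain.J k d j ∧ (∀ i, j ≤ h i → P ≤ q i) ∧ j < d) then
      nxt j H.1 P H.2.1 H.2.2.1 H.2.2.2 else P) j, trivial⟩
  have inv : ∀ j, j ≤ d → (Q j).1.asIdeal.comap φ = NNChain.J k d j ∧ ∀ i, j ≤ h i → (Q j).1 ≤ q i := by
    intro j hj
    induction j with
    | zero => exact ⟨(NNChain.comap_eq_bot_of_injective hinj).trans (NNChain.J_zero d).symm, fun i _ => bot_le⟩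
    | succ j ih =>
      obtain ⟨h1, h2⟩ := ih (Nat.le_of_succ_le hj)
      have H : j ≤ d ∧ (Q j).1.asIdeal.comap φ = NNChain.J k d j ∧ (∀ i, j ≤ h i → (Q j).1 ≤ q i) ∧ j < d :=
        ⟨Nat.le_of_succ_le hj, h1, h2, hj⟩
      have e : (Q (j + 1)).1 = nxt j H.1 (Q j).1 H.2.1 H.2.2.1 H.2.2.2 := dif_pos H
      rw [e]
      exact (hnxt j H.1 (Q j).1 H.2.1 H.2.2.1 H.2.2.2).2
  have step : ∀ j, j < d → (Q j).1 ≤ (Q (j + 1)).1 := by
    intro j hj
    obtain ⟨h1, h2⟩ := inv j hj.le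
    have H : j ≤ d ∧ (Q j).1.asIdeal.comap φ = NNChain.J k d j ∧ (∀ i, j ≤ h i → (Q j).1 ≤ q i) ∧ j < d :=
      ⟨hj.le, h1, h2, hj⟩
    have e : (Q (j + 1)).1 = nxt j H.1 (Q j).1 H.2.1 H.2.2.1 H.2.2.2 := dif_pos H
    rw [e]
    exact (hnxt j H.1 (Q j).1 H.2.1 H.2.2.1 H.2.2.2).1
  refine ⟨fun j => (Q j).1, fun j hj => (inv j hj).1, fun j hj => lt_of_le_of_ne (step j hj) fun he => ?_,
    fun i => inc _ _ ((inv (h i) (hh i)).2 i le_rfl) ((inv (h i) (hh i)).1.trans (hφ i).symm)⟩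
  have h1 := (inv j hj.le).1
  rw [show (Q j).1 = (Q (j + 1)).1 from he, (inv (j + 1) hj).1] at h1
  exact (NNChain.J_lt hj).ne h1.symm

end Groth.Agent.S12439
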