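import Groth.Statements.S1244
import Groth.Agent.Approx.NilLimSect

set_option autoImplicit false
universe u
open FlatMor

namespace Groth.Agent.S1244

open AlgebraicGeometry CategoryTheory in
/-- Let A be the limit of an inverse system of rings (A_n) indexed by the natural numbers whose
transition maps are surjective with locally nilpotent kernels. Let T → Spec A be a monomorphism of
schemes which is locally of finite type. If each Spec A_n → Spec A factors through T, then T → Spec
A is an isomorphism. -/
theorem result {A : Type u} [CommRing A] (A' : ℕ → Type u) [∀ n, CommRing (A' n)]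
    (φ : ∀ n, A' (n + 1) →+* A' n) (π : ∀ n, A →+* A' n) (hlim : FlatCA.IsRingLimit A A' φ π)
    (hsurj : ∀ n, Function.Surjective (φ n)) (hnil : ∀ n, ∀ x ∈ RingHom.ker (φ n), IsNilpotent x)
    {T : Scheme.{u}} (h : T ⟶ Spec (CommRingCat.of A)) [Mono h] [LocallyOfFiniteType h]
    (hsec : ∀ n, ∃ g : Spec (CommRingCat.of (A' n)) ⟶ T, g ≫ h = Spec.map (CommRingCat.ofHom (π n))) :
    IsIso h := by
  exact Groth.Agent.Approx.NilLimSect.isIso_of_sections A' φ π hlim hsurj hnil h hsec

end Groth.Agent.S1244
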