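import Groth.Statements.S12441
import Groth.Agent.H23.GrassSubfun
-- import your own Groth.Agent.* helpers here

set_option autoImplicit false
universe u
open scoped TensorProduct
open Grass

namespace Groth.Agent.S12441

open AlgebraicGeometry CategoryTheory in
/-- Let k be a field, A a possibly non-commutative k-algebra, e a natural number, and X a k-scheme
representing the Grassmannian functor Grass^e(A) on affine k-schemes — bijections, natural in the
commutative k-algebra B, between k-morphisms Spec B → X and B-submodules U of B ⊗_k A whose quotient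
is finite projective of constant rank e. Then there is a closed immersion ι : Z → X such that a
k-morphism g : Spec B → X factors through ι if and only if the submodule U attached to g is a left
ideal of B ⊗_k A, i.e. is stable under left multiplication by every 1 ⊗ a. -/
theorem result (k : Type u) [Field k] (A : Type u) [Ring A] [Algebra k A]
    (e : ℕ) (X : Over (Spec (CommRingCat.of k)))
    (eX : ∀ B : CommAlgCat.{u} k,
      ((Over.mk (Spec.map (CommRingCat.ofHom (algebraMap k B)))) ⟶ X) ≃ (Module.Grassmannian.functor (R := k) (M := A) e).obj B)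
    (heX : ∀ (B C : CommAlgCat.{u} k) (φ : B ⟶ C)
      (g : Over.mk (Spec.map (CommRingCat.ofHom (algebraMap k B))) ⟶ X) (g' : Over.mk (Spec.map (CommRingCat.ofHom (algebraMap k C))) ⟶ X),
      g'.left = Spec.map (CommRingCat.ofHom φ.hom.toRingHom) ≫ g.left →
        eX C g' = (Module.Grassmannian.functor (R := k) (M := A) e).map φ (eX B g)) :
    ∃ (Z : Scheme.{u}) (ι : Z ⟶ X.left), IsClosedImmersion ι ∧
      ∀ (B : CommAlgCat.{u} k) (g : Over.mk (Spec.map (CommRingCat.ofHom (algebraMap k B))) ⟶ X),
        (∃ h : (Over.mk (Spec.map (CommRingCat.ofHom (algebraMap k B)))).left ⟶ Z, h ≫ ι = g.left) ↔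
          ∀ (a : A) (x : ↑B ⊗[k] A), x ∈ (eX B g).toSubmodule →
            ((1 : ↑B) ⊗ₜ[k] a) * x ∈ (eX B g).toSubmodule := by
  
  have he : Synt29.RepOpen.IsNat X _ eX := fun B C φ g => heX B C φ g _ rfl
  obtain ⟨Z, i, hi, hchar⟩ := H23.GrassClosed.exists_closed he
    (fun B U => ∀ (a : A) (x : (B : Type u) ⊗[k] A), x ∈ U.toSubmodule →
      ((1 : (B : Type u)) ⊗ₜ[k] a) * x ∈ U.toSubmodule) (fun B U => by
      refine ⟨H23.GrassSubfun.idealOf U
        {y | ∃ (a : A) (x : (B : Type u) ⊗[k] A), x ∈ U.toSubmodule ∧ ((1 : (B : Type u)) ⊗ₜ[k] a) * x = y},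
        fun C φ => ?_⟩
      have hmul : ∀ (a : A) (x : (B : Type u) ⊗[k] A), H23.GrassSubfun.ι φ.hom (((1 : (B : Type u)) ⊗ₜ[k] a) * x) =
          ((1 : (C : Type u)) ⊗ₜ[k] a) * H23.GrassSubfun.ι φ.hom x := fun a x => by
        induction x with
        | zero => simp
        | tmul b m => rw [Algebra.TensorProduct.tmul_mul_tmul, one_mul, H23.GrassSubfun.ι_tmul,
            H23.GrassSubfun.ι_tmul, Algebra.TensorProduct.tmul_mul_tmul, one_mul]
        | add x y hx hy => rw [mul_add, map_add, map_add, mul_add, hx, hy]
      refine (H23.GrassSubfun.idealOf_le_ker_iff φ.hom U _).trans ⟨fun h a z hz => ?_, ?_⟩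
      · replace hz : z ∈ (Module.Grassmannian.map φ.hom U).toSubmodule := hz
        show _ ∈ (Module.Grassmannian.map φ.hom U).toSubmodule
        rw [H23.GrassSubfun.map_eq_span] at hz h ⊢
        induction hz using Submodule.span_induction with
        | mem z hz =>
          obtain ⟨x, hx, rfl⟩ := hz
          rw [← hmul]
          exact h _ ⟨a, x, hx, rfl⟩
        | zero => rw [mul_zero]; exact zero_mem _
        | add p q _ _ hp hq => rw [mul_add]; exact add_mem hp hq
        | smul t p _ hp => rw [mul_smul_comm]; exact Submodule.smul_mem _ t hp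
      · rintro h _ ⟨a, x, hx, rfl⟩
        rw [hmul]
        refine h a _ ?_
        show _ ∈ (Module.Grassmannian.map φ.hom U).toSubmodule
        rw [H23.GrassSubfun.map_eq_span]
        exact Submodule.subset_span ⟨x, hx, rfl⟩)
  exact ⟨Z, i, hi, hchar⟩

end Groth.Agent.S12441
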