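import Groth.Statements.S12444
import Groth.Agent.SpecLib.Codim

set_option autoImplicit false
set_option backward.isDefEq.respectTransparency false
set_option backward.isDefEq.respectTransparency.types false
universe u
open PtTop

namespace Groth.Agent.S12444

/-- A topological space X is catenary if and only if it has an open covering by catenary subspaces
(here: every point has a catenary open neighbourhood); and if X is catenary then so is every locally
closed subspace of X. -/
theorem result (X : Type u) [TopologicalSpace X] :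
    (PtTop.IsCatenarySpace X ↔
      ∀ x : X, ∃ U : TopologicalSpace.Opens X, x ∈ U ∧ PtTop.IsCatenarySpace U) ∧
    (PtTop.IsCatenarySpace X → ∀ S : Set X, IsLocallyClosed S → PtTop.IsCatenarySpace S) := by
  have hsub : PtTop.IsCatenarySpace X → ∀ S : Set X, IsLocallyClosed S → PtTop.IsCatenarySpace S := by
    rintro hX S ⟨U, C, hU, hC, hS⟩
    refine SpecLib.isCatenarySpace_of_embedding hX SpecLib.clos SpecLib.clos_le_iff fun a b z ha hb => ?_
    refine SpecLib.mem_range_clos hU hS (le_trans (show (z : Set X) ⊆ _ from hb) ?_) ?_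
    · refine hC.closure_subset_iff.2 ?_
      rintro _ ⟨w, -, rfl⟩
      exact (show w.1 ∈ U ∩ C from hS ▸ w.2).2
    · obtain ⟨w, hw⟩ := a.2.1
      exact ⟨w.1, ha (subset_closure ⟨w, hw, rfl⟩), (show w.1 ∈ U ∩ C from hS ▸ w.2).1⟩
  refine ⟨⟨fun h x => ⟨⊤, trivial, hsub h Set.univ isOpen_univ.isLocallyClosed⟩, fun h => ?_⟩, hsub⟩
  rw [SpecLib.isCatenarySpace_iff]
  intro T T' hle
  obtain ⟨x, hx⟩ := T.2.1
  obtain ⟨U, hxU, hU⟩ := h x
  rw [SpecLib.isCatenarySpace_iff] at hU
  obtain ⟨U, hUo⟩ := U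
  have hS : U = U ∩ Set.univ := (Set.inter_univ U).symm
  have hmem : ∀ Z : TopologicalSpace.IrreducibleCloseds X, T ≤ Z → Z ∈ Set.range (SpecLib.clos (S := U)) :=
    fun Z hZ => SpecLib.mem_range_clos hUo hS (Set.subset_univ _) ⟨x, hZ hx, hxU⟩
  obtain ⟨a, rfl⟩ := hmem T le_rfl
  obtain ⟨b, rfl⟩ := hmem T' hle
  have hr : ∀ (p q : TopologicalSpace.IrreducibleCloseds U) (z : TopologicalSpace.IrreducibleCloseds X), SpecLib.clos p ≤ z → z ≤ SpecLib.clos q → z ∈ Set.range (SpecLib.clos (S := U)) :=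
    fun p q z hp _ => SpecLib.mem_range_clos hUo hS (Set.subset_univ _)
      (p.2.1.elim fun w hw => ⟨w.1, hp (subset_closure ⟨w, hw, rfl⟩), w.2⟩)
  have hab : a ≤ b := (SpecLib.clos_le_iff a b).1 hle
  obtain ⟨h1, h2⟩ := hU a b hab
  obtain ⟨hc, -⟩ := SpecLib.catenary_of_embedding SpecLib.clos SpecLib.clos_le_iff hr a b hab
  refine ⟨hc ▸ h1, fun s hs hl => ?_⟩
  have hlt : ∀ p q : TopologicalSpace.IrreducibleCloseds U, SpecLib.clos (S := U) p < SpecLib.clos q ↔ p < q := fun p q => by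
    simp only [lt_iff_le_not_ge, SpecLib.clos_le_iff]
  have hg : ∀ i, ∃ p, SpecLib.clos (S := U) p = s i := fun i =>
    hr a b (s i) (hs ▸ (SpecLib.SatSeries.toLT s).monotone (Fin.zero_le i)) (hl ▸ (SpecLib.SatSeries.toLT s).monotone (Fin.le_last i))
  choose g hg using hg
  let t : SpecLib.SatSeries (TopologicalSpace.IrreducibleCloseds U) := ⟨s.length, g, fun i => by
    have hc : s i.castSucc ⋖ s i.succ := s.step i
    refine ⟨(hlt _ _).1 (by rw [hg, hg]; exact hc.lt), fun z hz hz' => ?_⟩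
    have a1 := (hlt _ _).2 hz
    have a2 := (hlt _ _).2 hz'
    rw [hg] at a1 a2
    exact hc.2 a1 a2⟩
  have ht1 : t.head = a := le_antisymm ((SpecLib.clos_le_iff _ _).1 (le_of_eq ((hg 0).trans hs)))
    ((SpecLib.clos_le_iff _ _).1 (le_of_eq ((hg 0).trans hs).symm))
  have ht2 : t.last = b := le_antisymm ((SpecLib.clos_le_iff _ _).1 (le_of_eq ((hg _).trans hl)))
    ((SpecLib.clos_le_iff _ _).1 (le_of_eq ((hg _).trans hl).symm))
  rw [← hc, ← h2 t ht1 ht2]

end Groth.Agent.S12444
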