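import Groth.Statements.S12445
import Groth.Agent.Cat15.Order

set_option autoImplicit false
universe u
open CategoryTheory AlgebraicGeometry
open Props

namespace Groth.Agent.S12445

/-- (1) ⇔ (3) ⇔ (4): for a scheme S, the underlying topological space of S is catenary if and only if
the coordinate ring of every affine open of S is a catenary ring, if and only if S is covered by
affine opens with catenary coordinate rings. (Clause (2), openness of catenarity, and the final
assertion on locally closed subschemes are the topological statement for open coverings and locally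
closed subspaces.) -/
theorem result (S : Scheme.{u}) :
    (PtTop.IsCatenarySpace S ↔ ∀ U : S.affineOpens, CAlg.IsCatenary Γ(S, U)) ∧
    (PtTop.IsCatenarySpace S ↔
      ∀ s : S, ∃ U : S.affineOpens, s ∈ (U : S.Opens) ∧ CAlg.IsCatenary Γ(S, U)) := by
  open Groth.Agent.Cat15 in
  have hU : PtTop.IsCatenarySpace S → ∀ U : S.affineOpens, CAlg.IsCatenary Γ(S, U) := fun h U => by
    obtain ⟨e, -, he⟩ := pcat_affineOpen U
    exact (isCatenary_iff_spec _).2 (pcat_of_embedding e he ((isCatenarySpace_scheme S).1 h))
  open Groth.Agent.Cat15 in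
  have hC : (∀ s : S, ∃ U : S.affineOpens, s ∈ (U : S.Opens) ∧ CAlg.IsCatenary Γ(S, U)) →
      PtTop.IsCatenarySpace S := fun h => by
    choose U hsU hcU using h
    choose e hr he using fun s => pcat_affineOpen (U s)
    exact (isCatenarySpace_scheme S).2 (pcat_of_cover e he (fun b => ⟨b, by rw [hr]; exact hsU b⟩)
      fun s => (isCatenary_iff_spec _).1 (hcU s))
  have hA : (∀ U : S.affineOpens, CAlg.IsCatenary Γ(S, U)) →
      ∀ s : S, ∃ U : S.affineOpens, s ∈ (U : S.Opens) ∧ CAlg.IsCatenary Γ(S, U) := fun h s => by
    obtain ⟨_, ⟨V, hV, rfl⟩, hxV, -⟩ :=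
      S.isBasis_affineOpens.exists_subset_of_mem_open (Set.mem_univ s) isOpen_univ
    exact ⟨⟨V, hV⟩, hxV, h _⟩
  exact ⟨⟨hU, fun h => hC (hA h)⟩, fun h => hA (hU h), hC⟩

end Groth.Agent.S12445
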