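import Groth.Statements.S12447
import Groth.Agent.Cat15.DimFun
import Groth.Agent.S12444
import Mathlib.AlgebraicGeometry.Properties
import Mathlib.RingTheory.Spectrum.Prime.Noetherian

set_option autoImplicit false
universe u
open CategoryTheory AlgebraicGeometry
open Props

namespace Groth.Agent.S12447

/-- Let S be a locally Noetherian scheme. Then the underlying topological space of S is catenary if and
only if locally in the Zariski topology there is a dimension function, i.e. every point has an open
neighbourhood U carrying a function δ : U → ℤ which strictly decreases along nontrivial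
specializations and drops by exactly one along immediate specializations. -/
theorem result (S : Scheme.{u}) [IsLocallyNoetherian S] :
    PtTop.IsCatenarySpace S ↔
      ∀ s : S, ∃ U : S.Opens, s ∈ U ∧ ∃ δ : U → ℤ, PtTop.IsDimensionFunction δ := by
  refine ⟨fun h s => ?_, fun h => ?_⟩
  · obtain ⟨_, ⟨V, hV, rfl⟩, hsV, -⟩ :=
      S.isBasis_affineOpens.exists_subset_of_mem_open (Set.mem_univ s) isOpen_univ
    have hV' : IsAffineOpen V := hV
    have hcat : PtTop.IsCatenarySpace V := (Groth.Agent.S12444.result S).2 h (V : Set S) V.2.isLocallyClosed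
    have : IsNoetherianRing Γ(S, V) := IsLocallyNoetherian.component_noetherian ⟨V, hV⟩
    have hnv : TopologicalSpace.NoetherianSpace V := by
      have : TopologicalSpace.NoetherianSpace (PrimeSpectrum Γ(S, V)) := inferInstance
      exact @TopologicalSpace.noetherianSpace_of_surjective _ _ _ _ this _
        hV'.isoSpec.inv.continuous (Scheme.Hom.homeomorph hV'.isoSpec.inv).surjective
    have : QuasiSober V := V.2.isOpenEmbedding_subtypeVal.quasiSober
    obtain ⟨U, hsU, δ, hδ⟩ := Groth.Agent.Cat15.exists_dimensionFunction hcat ⟨s, hsV⟩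
    let U' : S.Opens := ⟨Subtype.val '' (U : Set V), V.2.isOpenMap_subtype_val _ U.2⟩
    have hmem : ∀ x : U', ∃ y : U, y.1.1 = x.1 := fun x => by
      obtain ⟨y, hy, hx⟩ := x.2
      exact ⟨⟨y, hy⟩, hx⟩
    choose g hg using hmem
    have hsp : ∀ a b : U', a ⤳ b ↔ g a ⤳ g b := fun a b => by
      refine (subtype_specializes_iff a b).trans (Iff.trans ?_ ((subtype_specializes_iff (g a) (g b)).trans (subtype_specializes_iff (g a).1 (g b).1)).symm)
      rw [hg, hg]
    have hinj : ∀ a b : U', g a = g b → a = b := fun a b e => Subtype.ext (by rw [← hg a, ← hg b, e])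
    refine ⟨U', ⟨⟨s, hsV⟩, hsU, rfl⟩, δ ∘ g,
      fun a b hab hne => hδ.1 _ _ ((hsp a b).1 hab) fun e => hne (hinj a b e),
      fun a b hab => hδ.2 _ _ ⟨(hsp a b).1 hab.1, fun e => hab.2.1 (hinj a b e), fun z h1 h2 => ?_⟩⟩
    let z' : U' := ⟨z.1.1, z.1, z.2, rfl⟩
    have hz : g z' = z := Subtype.ext (Subtype.ext (hg z'))
    rcases hab.2.2 z' ((hsp a z').2 (hz ▸ h1)) ((hsp z' b).2 (hz ▸ h2)) with e | e
    · exact Or.inl (hz ▸ congrArg g e)
    · exact Or.inr (hz ▸ congrArg g e)
  · refine (Groth.Agent.S12444.result S).1.2 fun x => ?_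
    obtain ⟨U, hxU, δ, hδ⟩ := h x
    have : QuasiSober ↥U := (TopologicalSpace.Opens.isOpenEmbedding' U).quasiSober
    exact ⟨U, hxU, Groth.Agent.Cat15.isCatenarySpace_of_dimensionFunction hδ⟩

end Groth.Agent.S12447
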