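import Groth.Statements.S12452
import Mathlib.Topology.Sheaves.SheafCondition.UniqueGluing
import Mathlib.Topology.Sheaves.SheafCondition.Sites

set_option autoImplicit false
set_option backward.isDefEq.respectTransparency false
set_option backward.isDefEq.respectTransparency.types false
universe u
open CategoryTheory TopologicalSpace Opposite
open ShSp

namespace Groth.Agent.S12452

/-- For sheaves of sets, let f : X → Y be a continuous map, F a sheaf of sets on X, G a sheaf of sets on
Y, and B_X, B_Y bases for the topologies of X and Y. Suppose given, for every V in B_Y and U in B_X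
with U ⊆ f⁻¹V, a map φ_V^U : G(V) → F(U), compatibly with restrictions. Then there is exactly one
morphism of sheaves ψ : G → f_*F (an f-map G → F) such that G(V) → F(f⁻¹V) → F(U) equals φ_V^U for
every such pair. -/
theorem result {X Y : TopCat.{u}} (f : X ⟶ Y) (F : X.Sheaf (Type u)) (G : Y.Sheaf (Type u))
    {BX : Set (Opens X)} (hBX : Opens.IsBasis BX) {BY : Set (Opens Y)} (hBY : Opens.IsBasis BY)
    (φ : ∀ (V : BY) (U : BX), (U : Opens X) ≤ (Opens.map f).obj V →
      (G.presheaf.obj (op (V : Opens Y)) → F.presheaf.obj (op (U : Opens X))))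
    (hφ : ∀ (V V' : BY) (U U' : BX) (hUV : (U : Opens X) ≤ (Opens.map f).obj V)
      (hU'V' : (U' : Opens X) ≤ (Opens.map f).obj V') (hV : (V' : Opens Y) ≤ V) (hU : (U' : Opens X) ≤ U)
      (s : G.presheaf.obj (op (V : Opens Y))),
      F.presheaf.map (homOfLE hU).op (φ V U hUV s) = φ V' U' hU'V' (G.presheaf.map (homOfLE hV).op s)) :
    ∃! ψ : G ⟶ (TopCat.Sheaf.pushforward (Type u) f).obj F,
      ∀ (V : BY) (U : BX) (hUV : (U : Opens X) ≤ (Opens.map f).obj V) (s : G.presheaf.obj (op (V : Opens Y))),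
        F.presheaf.map (homOfLE hUV).op (ψ.1.app (op (V : Opens Y)) s) = φ V U hUV s := by
  have hBY' : Opens.IsBasis (Set.range (fun V : BY => (V : Opens Y))) := by
    have : Set.range (fun V : BY => (V : Opens Y)) = BY := Subtype.range_coe
    rw [this]
    exact hBY
  have cover : ∀ (W : Opens X), W ≤ ⨆ U : {U : BX // (U : Opens X) ≤ W}, ((U.1 : Opens X)) := by
    intro W x hx
    obtain ⟨U, hU, hxU, hUW⟩ := Opens.isBasis_iff_nbhd.1 hBX hx
    exact Opens.mem_iSup.2 ⟨⟨⟨U, hU⟩, hUW⟩, hxU⟩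
  have ex : ∀ (V : BY) (s : G.presheaf.obj (op (V : Opens Y))),
      ∃! t : F.1.obj (op ((Opens.map f).obj V)),
        ∀ U : {U : BX // (U : Opens X) ≤ (Opens.map f).obj V}, F.1.map (homOfLE U.2).op t = φ V U.1 U.2 s := by
    intro V s
    refine F.existsUnique_gluing' _ _ (fun U => homOfLE U.2) (cover _) _ fun U₁ U₂ => ?_
    refine F.eq_of_locally_eq' (fun Z : {Z : BX // (Z : Opens X) ≤ (U₁.1 : Opens X) ⊓ U₂.1} => (Z.1 : Opens X)) _
      (fun Z => homOfLE Z.2) (cover _) _ _ fun Z => ?_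
    rw [← Functor.map_comp_apply, ← Functor.map_comp_apply, ← op_comp, ← op_comp]
    have hZ₁ : (Z.1 : Opens X) ≤ U₁.1 := Z.2.trans inf_le_left
    have hZ₂ : (Z.1 : Opens X) ≤ U₂.1 := Z.2.trans inf_le_right
    exact (hφ V V U₁.1 Z.1 U₁.2 (hZ₁.trans U₁.2) le_rfl hZ₁ s).trans
      ((hφ V V U₂.1 Z.1 U₂.2 (hZ₁.trans U₁.2) le_rfl hZ₂ s)).symm
  choose app happ huniq using ex
  let α : (inducedFunctor (fun V : BY => (V : Opens Y))).op ⋙ G.presheaf ⟶
      (inducedFunctor (fun V : BY => (V : Opens Y))).op ⋙ ((TopCat.Sheaf.pushforward (Type u) f).obj F).1 :=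
    { app := fun V => TypeCat.ofHom (app V.unop)
      naturality := fun V W g => by
        ext s
        obtain ⟨V⟩ := V
        obtain ⟨W⟩ := W
        change BY at V W
        have hWV : (W : Opens Y) ≤ (V : Opens Y) := ((inducedFunctor _).map g.unop).le
        refine (huniq W _ _ fun U => ?_).symm
        refine (Functor.map_comp_apply F.1 _ _ _).symm.trans ?_
        refine Eq.trans ?_ ((congrArg (φ W U.1 U.2) rfl))
        have h := hφ V W U.1 U.1 (U.2.trans ((Opens.map f).map (homOfLE hWV)).le) U.2 hWV le_rfl s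
        refine Eq.trans ?_ h
        refine Eq.trans ?_ (congrArg (F.presheaf.map _) (happ V s ⟨U.1, U.2.trans ((Opens.map f).map (homOfLE hWV)).le⟩))
        refine Eq.trans ?_ (Functor.map_comp_apply F.1 _ _ _)
        rfl }
  let ψ : G ⟶ (TopCat.Sheaf.pushforward (Type u) f).obj F :=
    ⟨TopCat.Sheaf.restrictHomEquivHom G.presheaf _ hBY' α⟩
  have hψ : ∀ (V : BY) (s : G.presheaf.obj (op (V : Opens Y))), ψ.1.app (op (V : Opens Y)) s = app V s :=
    fun V s => congrArg (fun q => q s) (TopCat.Sheaf.extend_hom_app G.presheaf _ hBY' α V)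
  refine ⟨ψ, fun V U hUV s => ?_, fun ψ' h' => ?_⟩
  · rw [hψ]
    exact happ V s ⟨U, hUV⟩
  · apply Sheaf.hom_ext
    refine TopCat.Sheaf.hom_ext G.presheaf _ hBY' fun V => ?_
    ext s
    exact (huniq V s _ fun U => h' V U.1 U.2 s).trans (hψ V s).symm

end Groth.Agent.S12452
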