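import Groth.Statements.S12454
import Groth.Agent.MorLib.FormallyEtaleHom

set_option autoImplicit false
universe u
open CategoryTheory AlgebraicGeometry
open FlatMor

namespace Groth.Agent.S12454

/-- A composition of formally étale morphisms of schemes is formally étale (formally étale meaning:
unique lifting in every solid commutative square whose left side is a square-zero thickening
Spec(A/I) → Spec(A) of affine schemes). -/
theorem result {X Y Z : Scheme.{u}} (f : X ⟶ Y) (g : Y ⟶ Z)
    (hf : MoreMor.IsFormallyEtaleHom f) (hg : MoreMor.IsFormallyEtaleHom g) :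
    MoreMor.IsFormallyEtaleHom (f ≫ g) := by
  intro A _ I hI a b w
  obtain ⟨l, ⟨hl1, hl2⟩, hl⟩ := hg A I hI (a ≫ f) b (by rw [w, Category.assoc])
  obtain ⟨m, ⟨hm1, hm2⟩, hm⟩ := hf A I hI a l hl1
  refine ⟨m, ⟨hm1, by rw [reassoc_of% hm2, hl2]⟩, fun n hn => ?_⟩
  refine hm n ⟨hn.1, hl (n ≫ f) ⟨by rw [reassoc_of% hn.1], by rw [Category.assoc, hn.2]⟩⟩

end Groth.Agent.S12454
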