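import Groth.Statements.S12456
import Groth.Agent.UnivThick.BaseChange

set_option autoImplicit false
universe u
open CategoryTheory AlgebraicGeometry
open OmegaSh

namespace Groth.Agent.S12456

/-- Let i : Z → X be an immersion, written as the closed subscheme of an open U ⊆ X cut out by an ideal
sheaf I followed by the inclusion of U. Then the first order infinitesimal neighbourhood of Z in X —
the closed subscheme of U cut out by I² — together with Z ⊂ V(I²) and V(I²) → U → X is a universal
first order thickening of Z over X. (The inequality I² ≤ I is carried as an argument h; it always
holds.) -/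
theorem result {X : Scheme.{u}} (U : X.Opens) (I : (U : Scheme.{u}).IdealSheafData)
    (h : I ^ 2 ≤ I) :
    OmegaSh.IsUnivThickening (I.subschemeι ≫ U.ι) (Scheme.IdealSheafData.inclusion h)
      ((I ^ 2).subschemeι ≫ U.ι) := by
  exact Groth.Agent.UnivThick.isUniv_idealSquare U I h

end Groth.Agent.S12456
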