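import Groth.Statements.S12459
import Groth.Agent.Cat15.Order
import Mathlib.AlgebraicGeometry.Morphisms.FiniteType
import Mathlib.RingTheory.Localization.BaseChange
import Mathlib.RingTheory.MvPolynomial.Localization
import Mathlib.RingTheory.RingHom.FiniteType

set_option autoImplicit false
universe u
open CategoryTheory AlgebraicGeometry
open Props

namespace Groth.Agent.S12459

/-- For a locally Noetherian scheme S, the scheme S is universally catenary — every scheme X locally of
finite type over S has catenary underlying topological space — if and only if all local rings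
O_{S,s} are universally catenary rings. (Schemes X over S are taken in the universe of S.) -/
theorem result (S : Scheme.{u}) [IsLocallyNoetherian S] :
    (∀ (X : Scheme.{u}) (f : X ⟶ S), LocallyOfFiniteType f → PtTop.IsCatenarySpace X) ↔
      ∀ s : S, CAlg.IsUniversallyCatenary (S.presheaf.stalk s) := by
  open Groth.Agent.Cat15 CategoryTheory in
  constructor
  · intro h s
    obtain ⟨_, ⟨U, hU, rfl⟩, hsU, -⟩ :=
      S.isBasis_affineOpens.exists_subset_of_mem_open (Set.mem_univ s) isOpen_univ
    have hU' : IsAffineOpen U := hU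
    let p := (hU'.primeIdealOf ⟨s, hsU⟩).asIdeal
    let : Algebra Γ(S, U) (S.presheaf.stalk s) := TopCat.Presheaf.algebra_section_stalk S.presheaf ⟨s, hsU⟩
    have : IsLocalization.AtPrime (S.presheaf.stalk s) p := hU'.isLocalization_stalk ⟨s, hsU⟩
    have hcat : ∀ (A A' : Type u) [CommRing A] [CommRing A'] [Algebra A A'] (M : Submonoid A) [IsLocalization M A']
        (fU : Spec (CommRingCat.of A) ⟶ S), LocallyOfFiniteType fU →
        ∀ (B : Type u) [CommRing B] [Algebra A' B], Algebra.FiniteType A' B → CAlg.IsCatenary B := by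
      intro A A' _ _ _ M _ fU hfU B _ _ hB
      obtain ⟨m, π, hπ⟩ := Algebra.FiniteType.iff_quotient_mvPolynomial''.1 hB
      let T := MvPolynomial (Fin m) A
      let T' := MvPolynomial (Fin m) A'
      letI : Algebra T T' := MvPolynomial.algebraMvPolynomial
      haveI : IsLocalization (M.map (MvPolynomial.C (σ := Fin m) (R := A))) T' := MvPolynomial.isLocalization _ _
      let ψ : T →+* B := π.toRingHom.comp (algebraMap T T')
      let C := T ⧸ RingHom.ker ψ
      letI : Algebra C B := (RingHom.kerLift ψ).toAlgebra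
      let MC : Submonoid C := (M.map (MvPolynomial.C (σ := Fin m) (R := A))).map (Ideal.Quotient.mk (RingHom.ker ψ))
      have hloc : IsLocalization MC B := by
        refine ⟨?_, fun b => ?_, fun {x y} e => ⟨1, by rw [RingHom.kerLift_injective ψ e]⟩⟩
        · rintro ⟨_, t, ht, rfl⟩
          exact (IsLocalization.map_units T' (⟨t, ht⟩ : M.map (MvPolynomial.C (σ := Fin m) (R := A)))).map π.toRingHom
        · obtain ⟨P, rfl⟩ := hπ b
          obtain ⟨⟨Q, t⟩, hQ⟩ := IsLocalization.surj (M.map (MvPolynomial.C (σ := Fin m) (R := A))) P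
          refine ⟨(Ideal.Quotient.mk _ Q, ⟨Ideal.Quotient.mk _ t.1, Submonoid.mem_map_of_mem _ t.2⟩), ?_⟩
          show π P * π (algebraMap T T' t.1) = π (algebraMap T T' Q)
          rw [← map_mul, hQ]
      have hC : CAlg.IsCatenary C := by
        let g : Spec (CommRingCat.of C) ⟶ Spec (CommRingCat.of A) :=
          Spec.map (CommRingCat.ofHom (algebraMap A C))
        have hg : LocallyOfFiniteType g :=
          (HasRingHomProperty.Spec_iff (P := @LocallyOfFiniteType)).2
            (show (algebraMap A C).FiniteType from RingHom.finiteType_algebraMap.2 inferInstance)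
        have := h _ (g ≫ fU) inferInstance
        exact (isCatenary_iff_spec (CommRingCat.of C)).2 ((isCatenarySpace_scheme _).1 this)
      exact isCatenary_localization MC hC
    refine ⟨IsLocalization.isNoetherianRing p.primeCompl _ (IsLocallyNoetherian.component_noetherian ⟨U, hU⟩),
      fun B _ _ hB => ?_⟩
    exact hcat Γ(S, U) (S.presheaf.stalk s) p.primeCompl hU'.fromSpec inferInstance B hB
  · intro h X f hf
    rw [isCatenarySpace_scheme, pcat_stalk]
    intro x
    obtain ⟨_, ⟨U, hU, rfl⟩, hxU, -⟩ :=
      S.isBasis_affineOpens.exists_subset_of_mem_open (Set.mem_univ (f x)) isOpen_univ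
    obtain ⟨_, ⟨V, hV, rfl⟩, hxV, hVU⟩ :=
      X.isBasis_affineOpens.exists_subset_of_mem_open (show x ∈ f ⁻¹ᵁ U from hxU) (f ⁻¹ᵁ U).isOpen
    have hU' : IsAffineOpen U := hU
    have hV' : IsAffineOpen V := hV
    let φ := f.appLE U V hVU
    let : Algebra Γ(S, U) Γ(X, V) := φ.hom.toAlgebra
    have : Algebra.FiniteType Γ(S, U) Γ(X, V) := f.finiteType_appLE hU' hV' hVU
    let q := (hV'.primeIdealOf ⟨x, hxV⟩).asIdeal
    let p := (hU'.primeIdealOf ⟨f x, hxU⟩).asIdeal
    let : Algebra Γ(X, V) (X.presheaf.stalk x) := TopCat.Presheaf.algebra_section_stalk X.presheaf ⟨x, hxV⟩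
    have : IsLocalization.AtPrime (X.presheaf.stalk x) q := hV'.isLocalization_stalk ⟨x, hxV⟩
    let : Algebra Γ(S, U) (S.presheaf.stalk (f x)) := TopCat.Presheaf.algebra_section_stalk S.presheaf ⟨f x, hxU⟩
    have : IsLocalization.AtPrime (S.presheaf.stalk (f x)) p := hU'.isLocalization_stalk ⟨f x, hxU⟩
    let : Algebra Γ(S, U) (X.presheaf.stalk x) := ((algebraMap Γ(X, V) (X.presheaf.stalk x)).comp φ.hom).toAlgebra
    have : IsScalarTower Γ(S, U) Γ(X, V) (X.presheaf.stalk x) := IsScalarTower.of_algebraMap_eq fun _ => rfl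
    have hpq : p = q.comap φ.hom := by
      have e : hU'.primeIdealOf ⟨f x, hxU⟩ = Spec.map φ (hV'.primeIdealOf ⟨x, hxV⟩) := by
        refine hU'.fromSpec.isOpenEmbedding.injective ?_
        rw [hU'.fromSpec_primeIdealOf, ← Scheme.Hom.comp_apply, IsAffineOpen.SpecMap_appLE_fromSpec f hU' hV' hVU]
        show f x = f (hV'.fromSpec (hV'.primeIdealOf ⟨x, hxV⟩))
        rw [hV'.fromSpec_primeIdealOf]
      exact congrArg PrimeSpectrum.asIdeal e
    let Bp := Localization (Algebra.algebraMapSubmonoid Γ(X, V) p.primeCompl)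
    let : Algebra (S.presheaf.stalk (f x)) Bp := localizationAlgebra p.primeCompl Γ(X, V)
    have : IsLocalization (p.primeCompl.map (algebraMap Γ(S, U) Γ(X, V))) Bp := Localization.isLocalization
    have hBp : CAlg.IsCatenary Bp := by
      refine (h (f x)).2 Bp ?_
      exact RingHom.finiteType_algebraMap.1 (RingHom.finiteType_localizationPreserves (algebraMap Γ(S, U) Γ(X, V))
        p.primeCompl (S.presheaf.stalk (f x)) Bp (RingHom.finiteType_algebraMap.2 inferInstance))
    have hle : Algebra.algebraMapSubmonoid Γ(X, V) p.primeCompl ≤ q.primeCompl := by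
      rintro _ ⟨a, ha, rfl⟩
      exact fun hb => ha (hpq ▸ hb)
    let : Algebra Bp (X.presheaf.stalk x) :=
      IsLocalization.localizationAlgebraOfSubmonoidLe Bp (X.presheaf.stalk x) _ q.primeCompl hle
    have : IsScalarTower Γ(X, V) Bp (X.presheaf.stalk x) :=
      IsLocalization.localization_isScalarTower_of_submonoid_le Bp (X.presheaf.stalk x) _ q.primeCompl hle
    have : IsLocalization (q.primeCompl.map (algebraMap Γ(X, V) Bp)) (X.presheaf.stalk x) :=
      IsLocalization.isLocalization_of_submonoid_le Bp (X.presheaf.stalk x) _ q.primeCompl hle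
    exact isCatenary_localization (q.primeCompl.map (algebraMap Γ(X, V) Bp)) hBp

end Groth.Agent.S12459
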