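import Groth.Statements.S12460
import Groth.Agent.CplFib6.Excellent
import Mathlib.AlgebraicGeometry.Morphisms.FiniteType

set_option autoImplicit false
universe u
open CategoryTheory AlgebraicGeometry
open Props

namespace Groth.Agent.S12460
namespace Aux
theorem regular_stalk_spec (R : CommRingCat.{u}) (p : Spec R) :
    IsRegularLocalRing ((Spec R).presheaf.stalk p) ↔ p ∈ EGA4.regLocus R := by
  let e : (Spec R).presheaf.stalk p ≃+* Localization.AtPrime p.asIdeal :=
    (AlgebraicGeometry.StructureSheaf.stalkIso R p).toRingEquiv.symm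
  exact ⟨fun h => @IsRegularLocalRing.of_ringEquiv _ _ h _ _ e,
    fun h => @IsRegularLocalRing.of_ringEquiv _ _ h _ _ e.symm⟩

theorem regular_stalk_fromSpec {X : Scheme.{u}} {V : X.Opens} (hV : IsAffineOpen V) (p : Spec Γ(X, V)) :
    IsRegularLocalRing (X.presheaf.stalk (hV.fromSpec p)) ↔ p ∈ EGA4.regLocus Γ(X, V) := by
  rw [← regular_stalk_spec]
  let e := (asIso (hV.fromSpec.stalkMap p)).commRingCatIsoToRingEquiv
  exact ⟨fun h => @IsRegularLocalRing.of_ringEquiv _ _ h _ _ e,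
    fun h => @IsRegularLocalRing.of_ringEquiv _ _ h _ _ e.symm⟩
end Aux

/-- (1) ⇔ (3) ⇔ (4): let X be a locally Noetherian scheme. Then X is J-2 — for every morphism Y → X
locally of finite type the set of points y with O_{Y,y} a regular local ring is open in Y — if and
only if for every affine open U of X the ring Γ(X, U) is J-2 (every finite type algebra over it has
open regular locus), if and only if every point of X lies in such an affine open. (Schemes Y over X
are taken in the universe of X.) -/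
theorem result (X : Scheme.{u}) [IsLocallyNoetherian X] :
    ((∀ (Y : Scheme.{u}) (g : Y ⟶ X), LocallyOfFiniteType g →
        IsOpen {y : Y | IsRegularLocalRing (Y.presheaf.stalk y)}) ↔
      ∀ U : X.affineOpens, EGA4.IsJ2 Γ(X, U)) ∧
    ((∀ (Y : Scheme.{u}) (g : Y ⟶ X), LocallyOfFiniteType g →
        IsOpen {y : Y | IsRegularLocalRing (Y.presheaf.stalk y)}) ↔
      ∀ x : X, ∃ U : X.affineOpens, x ∈ (U : X.Opens) ∧ EGA4.IsJ2 Γ(X, U)) := by
  have h1 : (∀ (Y : Scheme.{u}) (g : Y ⟶ X), LocallyOfFiniteType g →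
      IsOpen {y : Y | IsRegularLocalRing (Y.presheaf.stalk y)}) → ∀ U : X.affineOpens, EGA4.IsJ2 Γ(X, U) := by
    intro h U S _ _ hS
    let φ : Γ(X, U) ⟶ CommRingCat.of S := CommRingCat.ofHom (algebraMap Γ(X, U) S)
    have hφ : LocallyOfFiniteType (Spec.map φ ≫ U.2.fromSpec) := by
      haveI : LocallyOfFiniteType (Spec.map φ) :=
        (HasRingHomProperty.Spec_iff (P := @LocallyOfFiniteType)).2 (RingHom.finiteType_algebraMap.2 hS)
      infer_instance
    have ho := h _ _ hφ
    have he : EGA4.regLocus S = {y : Spec (CommRingCat.of S) | IsRegularLocalRing ((Spec (CommRingCat.of S)).presheaf.stalk y)} := by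
      ext p
      exact (Aux.regular_stalk_spec (CommRingCat.of S) p).symm
    rw [he]
    exact ho
  have h2 : (∀ x : X, ∃ U : X.affineOpens, x ∈ (U : X.Opens) ∧ EGA4.IsJ2 Γ(X, U)) →
      ∀ (Y : Scheme.{u}) (g : Y ⟶ X), LocallyOfFiniteType g →
        IsOpen {y : Y | IsRegularLocalRing (Y.presheaf.stalk y)} := by
    intro h Y g hg
    rw [isOpen_iff_forall_mem_open]
    intro y hy
    obtain ⟨U, hgy, hU⟩ := h (g y)
    obtain ⟨V, hV, hyV, hle⟩ := exists_isAffineOpen_mem_and_subset (U := g ⁻¹ᵁ (U : X.Opens)) hgy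
    have hFT := g.finiteType_appLE U.2 hV hle
    algebraize [(g.appLE U V hle).hom]
    haveI : Algebra.FiniteType Γ(X, U) Γ(Y, V) := hFT
    have ho := hU Γ(Y, V) inferInstance
    refine ⟨hV.fromSpec '' EGA4.regLocus Γ(Y, V), ?_, hV.fromSpec.isOpenEmbedding.isOpenMap _ ho, ?_⟩
    · rintro _ ⟨p, hp, rfl⟩
      exact (Aux.regular_stalk_fromSpec hV p).2 hp
    · exact ⟨hV.primeIdealOf ⟨y, hyV⟩,
        (Aux.regular_stalk_fromSpec hV _).1 (by rw [hV.fromSpec_primeIdealOf]; exact hy),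
        hV.fromSpec_primeIdealOf _⟩
  refine ⟨⟨h1, fun h => h2 fun x => ?_⟩, ⟨fun h x => ?_, h2⟩⟩
  · obtain ⟨U, hU, hxU, -⟩ := exists_isAffineOpen_mem_and_subset (U := (⊤ : X.Opens)) (x := x) trivial
    exact ⟨⟨U, hU⟩, hxU, h ⟨U, hU⟩⟩
  · obtain ⟨U, hU, hxU, -⟩ := exists_isAffineOpen_mem_and_subset (U := (⊤ : X.Opens)) (x := x) trivial
    exact ⟨⟨U, hU⟩, hxU, h1 h ⟨U, hU⟩⟩

end Groth.Agent.S12460
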