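import Groth.Statements.S9362
import Groth.Agent.QCoh.Tilde
import Groth.Agent.QCoh.Local

set_option autoImplicit false
set_option backward.isDefEq.respectTransparency false
set_option backward.isDefEq.respectTransparency.types false
universe u
open QCohSub

namespace Groth.Agent.S9362

open CategoryTheory CategoryTheory.Limits AlgebraicGeometry Opposite in
/-- The part of `G` swept out by quasi-coherent modules, as an image. -/
theorem main (X : Scheme.{u}) (F G : X.Modules) (hF : Coh.IsQCoh F) (j : G ⟶ F) [Mono j] :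
    ∃ (G' : X.Modules) (k : G' ⟶ G), Coh.IsQCoh G' ∧ Mono k ∧
      ∀ H : X.Modules, Coh.IsQCoh H → Function.Bijective (fun φ : H ⟶ G' => φ ≫ k) := by
  let P : (Σ V : X.Opens, Γ(G, V)) → Prop := fun i =>
    ∃ (H : X.Modules) (_ : Coh.IsQCoh H) (φ : H ⟶ G) (t : Γ(H, i.1)), φ.app i.1 t = i.2
  choose H hH φ t ht using fun i : {i // P i} => i.2
  let p : ∐ H ⟶ G := Sigma.desc φ
  let k : Abelian.image p ⟶ G := Abelian.image.ι p
  have hq : Coh.IsQCoh (cokernel (k ≫ j)) :=
    (Groth.Agent.QCoh.isQCoh_iff_iso (cokernelEpiComp (Abelian.factorThruImage p) (k ≫ j))).1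
      (Groth.Agent.QCoh.isQCoh_cokernel (Groth.Agent.QCoh.isQCoh_colimit (Discrete.functor H) fun i => hH i.as) hF _)
  have hI : Coh.IsQCoh (Abelian.image p) :=
    (Groth.Agent.QCoh.isQCoh_iff_iso (asIso (Abelian.factorThruImage (k ≫ j)))).2
      (Groth.Agent.QCoh.isQCoh_kernel hF hq _)
  refine ⟨_, k, hI, inferInstance, fun K hK => ⟨fun a b h => (cancel_mono k).1 h, fun ψ => ?_⟩⟩
  refine ⟨kernel.lift (cokernel.π p) ψ ?_, kernel.lift_ι _ _ _⟩
  refine Scheme.Modules.hom_ext _ _ fun V => ?_
  ext s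
  let i : {i // P i} := ⟨⟨V, ψ.app V s⟩, K, hK, ψ, s, rfl⟩
  have h0 : φ i ≫ cokernel.π p = 0 := by
    rw [← Sigma.ι_desc φ i, Category.assoc, cokernel.condition, comp_zero]
  show (cokernel.π p).app V (ψ.app V s) = 0
  rw [show ψ.app V s = (φ i).app V (t i) from (ht i).symm]
  show (φ i ≫ cokernel.π p).app V (t i) = 0
  rw [h0]
  rfl


open AlgebraicGeometry CategoryTheory in
/-- Let F be a quasi-coherent O_X-module and G ⊆ F an O_X-submodule. There is a quasi-coherent submodule
G' ⊆ G such that Hom(H, G') → Hom(H, G) is bijective for every quasi-coherent O_X-module H; in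
particular G' is the largest quasi-coherent submodule of F contained in G (it is unique up to unique
isomorphism over G). -/
theorem result (X : Scheme.{u}) (F G : X.Modules) (hF : Coh.IsQCoh F) (j : G ⟶ F) [Mono j] :
    ∃ (G' : X.Modules) (k : G' ⟶ G), Coh.IsQCoh G' ∧ Mono k ∧
      ∀ H : X.Modules, Coh.IsQCoh H → Function.Bijective (fun φ : H ⟶ G' => φ ≫ k) :=
  main X F G hF j

end Groth.Agent.S9362
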