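import Groth.Statements.S12461
import Groth.Agent.KZ.ClosedDev
import Groth.Agent.S9362

set_option autoImplicit false
set_option backward.isDefEq.respectTransparency false
set_option backward.isDefEq.respectTransparency.types false
universe u
open CategoryTheory AlgebraicGeometry
open QCohSub

namespace Groth.Agent.S12461

open CategoryTheory CategoryTheory.Limits AlgebraicGeometry TopologicalSpace Opposite Groth.Agent in
/-- The sections killed by the ideal of the closed subscheme. -/
noncomputable def killedSub {Z X : Scheme.{u}} (i : Z ⟶ X) [IsClosedImmersion i] (M : X.Modules) :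
    QCoh.SubMod M where
  mem U :=
    { carrier := {s | ∀ (V : X.affineOpens) (h : V.1 ≤ U), ∀ a ∈ i.ker.ideal V,
        a • M.presheaf.map (homOfLE h).op s = 0}
      zero_mem' := fun V h a _ => by rw [map_zero, smul_zero]
      add_mem' := fun {s t} hs ht V h a ha => by
        rw [map_add, smul_add, hs V h a ha, ht V h a ha, add_zero]
      smul_mem' := fun r s hs V h a ha => by
        rw [Scheme.Modules.map_smul, smul_comm, hs V h a ha, smul_zero] }
  map_mem {U W} j s hs V h a ha := by
    have h2 := hs V (h.trans j) a ha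
    rwa [← ConcreteCategory.comp_apply, ← Functor.map_comp]
  of_locally U s hs V h a ha := by
    have hx : ∀ p : V.1, ∃ V' : X.affineOpens, p.1 ∈ V'.1 ∧ ∃ h1 : V'.1 ≤ V.1,
        M.presheaf.map (homOfLE h1).op (a • M.presheaf.map (homOfLE h).op s) = 0 := fun p => by
      obtain ⟨W, j, hpW, hW⟩ := hs p.1 (h p.2)
      obtain ⟨_, ⟨V', hV', rfl⟩, hp, hle⟩ := X.isBasis_affineOpens.exists_subset_of_mem_open
        (show p.1 ∈ V.1 ⊓ W from ⟨p.2, hpW⟩) (V.1 ⊓ W).2
      have h1 : V' ≤ V.1 := hle.trans Set.inter_subset_left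
      have h2 : V' ≤ W := hle.trans Set.inter_subset_right
      refine ⟨⟨V', hV'⟩, hp, h1, ?_⟩
      rw [Scheme.Modules.map_smul]
      have hk := hW ⟨V', hV'⟩ h2 (X.presheaf.map (homOfLE h1).op a)
        (i.ker.ideal_le_comap_ideal (U := ⟨V', hV'⟩) (V := V) h1 ha)
      rw [← ConcreteCategory.comp_apply, ← Functor.map_comp] at hk ⊢
      exact hk
    choose V' hp h1 h0 using hx
    refine TopCat.Sheaf.eq_of_locally_eq' ⟨M.presheaf, M.isSheaf⟩ (fun p => (V' p).1) V.1
      (fun p => homOfLE (h1 p)) (fun p hpV => Opens.mem_iSup.2 ⟨⟨p, hpV⟩, hp ⟨p, hpV⟩⟩) _ _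
      fun p => (h0 p).trans (map_zero _).symm

open CategoryTheory CategoryTheory.Limits AlgebraicGeometry TopologicalSpace Opposite Groth.Agent in
theorem killed_killedSub {Z X : Scheme.{u}} (i : Z ⟶ X) [IsClosedImmersion i] (M : X.Modules) :
    KZ.ClosedDev.Killed i (killedSub i M).toModules := fun U a ha s => by
  refine (killedSub i M).ι_app_injective U.1 ?_
  rw [Scheme.Modules.Hom.app_smul, map_zero]
  have h := (killedSub i M).ι_app_mem U.1 s U le_rfl a ha
  exact (congrArg (a • ·) (Groth.Agent.QCoh.map_id' _ _)).symm.trans h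

open CategoryTheory CategoryTheory.Limits AlgebraicGeometry TopologicalSpace Opposite Groth.Agent in
/-- A morphism out of a killed module lands in the killed part. -/
theorem exists_lift_killedSub {Z X : Scheme.{u}} (i : Z ⟶ X) [IsClosedImmersion i] {M H : X.Modules}
    (hH : KZ.ClosedDev.Killed i H) (φ : H ⟶ M) : ∃ ψ : H ⟶ (killedSub i M).toModules, ψ ≫ (killedSub i M).ι = φ := by
  have hmem : ∀ (U : X.Opens) (s : Γ(H, U)), φ.app U s ∈ (killedSub i M).mem U := fun U s V h a ha => by
    rw [← QCoh.map_app_comm, ← Scheme.Modules.Hom.app_smul, hH V a ha, map_zero]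
  refine ⟨⟨PresheafOfModules.homMk
    { app := fun U => AddCommGrpCat.ofHom
        { toFun := fun s => ⟨φ.app U.unop s, hmem U.unop s⟩
          map_zero' := Subtype.ext (map_zero _)
          map_add' := fun a b => Subtype.ext (map_add _ a b) }
      naturality := fun U V f => by
        ext s
        exact Subtype.ext (ConcreteCategory.congr_hom (φ.mapPresheaf.naturality f) s) }
    (fun U r m => Subtype.ext (Scheme.Modules.Hom.app_smul φ r m))⟩, rfl⟩

open CategoryTheory CategoryTheory.Limits AlgebraicGeometry TopologicalSpace Opposite Groth.Agent in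
theorem main {Z X : Scheme.{u}} (i : Z ⟶ X) [IsClosedImmersion i] :
    ∃ L : QCohCat.QCoh Z ⥤ QCohCat.QCoh X,
      Nonempty (L ⋙ (QCohCat.isQCoh X).ι ≅ (QCohCat.isQCoh Z).ι ⋙ Coh.push i) ∧ L.IsLeftAdjoint := by
  let L : QCohCat.QCoh Z ⥤ QCohCat.QCoh X :=
    ObjectProperty.lift _ ((QCohCat.isQCoh Z).ι ⋙ Coh.push i) fun N => QCoh.isQCoh_pushforward i N.2
  refine ⟨L, ⟨Iso.refl _⟩, ?_⟩
  suffices ∀ M, HasTerminal (CostructuredArrow L M) by
    exact isLeftAdjoint_of_costructuredArrowTerminals L
  intro M
  obtain ⟨G', k, hq, hk, huniv⟩ := Groth.Agent.S9362.result X M.obj (killedSub i M.obj).toModules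
    M.2 (killedSub i M.obj).ι
  let adj := Scheme.Modules.pullbackPushforwardAdjunction i
  haveI : IsIso (adj.unit.app G') :=
    (QCoh.isIso_unit_closed_iff i hq).2 ((killed_killedSub i M.obj).of_mono i k)
  let m : (Scheme.Modules.pushforward i).obj ((Scheme.Modules.pullback i).obj G') ⟶ M.obj :=
    inv (adj.unit.app G') ≫ k ≫ (killedSub i M.obj).ι
  let N : QCohCat.QCoh Z := ⟨(Scheme.Modules.pullback i).obj G', QCoh.isQCoh_pullback i hq⟩
  let T : CostructuredArrow L M :=
    CostructuredArrow.mk (Y := N) (show L.obj N ⟶ M from InducedCategory.homMk m)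
  have hm : Mono m := inferInstance
  have hex : ∀ A : CostructuredArrow L M, ∃ g : A.left.obj ⟶ (Scheme.Modules.pullback i).obj G',
      (Scheme.Modules.pushforward i).map g ≫ m = A.hom.hom := fun A => by
    have hA := QCoh.isQCoh_pushforward i A.left.2
    obtain ⟨ψ, hψ⟩ := exists_lift_killedSub i (KZ.ClosedDev.killed_push i A.left.obj) A.hom.hom
    obtain ⟨φ, rfl⟩ := (huniv _ hA).2 ψ
    obtain ⟨g, hg⟩ := (KZ.ClosedDev.push_map_bijective i hA).2 (φ ≫ adj.unit.app G')
    exact ⟨g, by rw [hg, ← hψ]; simp [m]⟩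
  choose g hg using hex
  have hw : ∀ A : CostructuredArrow L M,
      L.map (show A.left ⟶ N from InducedCategory.homMk (g A)) ≫ T.hom = A.hom :=
    fun A => InducedCategory.hom_ext (hg A)
  haveI : ∀ A : CostructuredArrow L M, Unique (A ⟶ T) := fun A =>
    { default := CostructuredArrow.homMk (show A.left ⟶ N from InducedCategory.homMk (g A)) (hw A)
      uniq := fun f => CostructuredArrow.hom_ext _ _ (InducedCategory.hom_ext
        (KZ.ClosedDev.push_map_injective i _ _ ((cancel_mono m).1
          ((congrArg InducedCategory.Hom.hom (CostructuredArrow.w f)).trans (hg A).symm)))) }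
  exact hasTerminal_of_unique T


/-- Let i : Z → X be a closed immersion of schemes. The functor i_* : QCoh(O_Z) → QCoh(O_X) has a right
adjoint i^! : QCoh(O_X) → QCoh(O_Z). Stated as: there is a functor L between the full subcategories
of quasi-coherent modules which agrees with i_* after the inclusion into all O_X-modules (this
determines L up to isomorphism, the inclusion being fully faithful) and which is a left adjoint. -/
theorem result {Z X : Scheme.{u}} (i : Z ⟶ X) [IsClosedImmersion i] :
    ∃ L : QCohCat.QCoh Z ⥤ QCohCat.QCoh X,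
      Nonempty (L ⋙ (QCohCat.isQCoh X).ι ≅ (QCohCat.isQCoh Z).ι ⋙ Coh.push i) ∧ L.IsLeftAdjoint :=
  main i

end Groth.Agent.S12461
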