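import Groth.Statements.S12462
import Groth.Agent.SpecLib.Sierp
import Mathlib.Topology.Category.TopCat.Limits.Basic
import Mathlib.Data.Finset.Lattice.Fold
import Mathlib.Topology.Homeomorph.Lemmas

set_option autoImplicit false
set_option backward.isDefEq.respectTransparency false
set_option backward.isDefEq.respectTransparency.types false
universe u
open CategoryTheory CategoryTheory.Limits
open SpecSp

namespace Groth.Agent.S12462

/-- A spectral space is a directed inverse limit of finite sober topological spaces. Precisely: for X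
spectral there exist a nonempty directed preordered index set J, a functor from the opposite of J to
topological spaces whose values are finite sober (T0, every irreducible closed subset has a generic
point) spaces, and a limit cone of it whose vertex is isomorphic to X. -/
theorem result (X : Type u) [TopologicalSpace X] [SpectralSpace X] :
    ∃ (J : Type u) (_ : Preorder J) (_ : Nonempty J) (_ : IsDirected J (· ≤ ·)) (F : Jᵒᵖ ⥤ TopCat.{u})
      (c : Cone F), Nonempty (IsLimit c) ∧
        (∀ j : Jᵒᵖ, Finite (F.obj j) ∧ T0Space (F.obj j) ∧ QuasiSober (F.obj j)) ∧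
        Nonempty (c.pt ≅ TopCat.of X) := by
  classical
  let Q := {U : Set X // IsOpen U ∧ IsCompact U}
  let q : ∀ s : Finset Q, X → ({U // U ∈ s} → Prop) := fun s x U => x ∈ U.1.1
  let F : (Finset Q)ᵒᵖ ⥤ TopCat.{u} :=
    { obj := fun s => TopCat.of (Set.range (q s.unop))
      map := fun {s t} a => TopCat.ofHom
        ⟨fun g => ⟨fun U => g.1 ⟨U.1, (leOfHom a.unop) U.2⟩, by
          obtain ⟨x, hx⟩ := g.2
          exact ⟨x, funext fun U => congrFun hx ⟨U.1, (leOfHom a.unop) U.2⟩⟩⟩,
          continuous_induced_rng.2 (continuous_pi fun U : {U // U ∈ t.unop} =>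
            (continuous_apply (A := fun _ => Prop) (⟨U.1, (leOfHom a.unop) U.2⟩ : {U // U ∈ s.unop})).comp continuous_subtype_val)⟩
      map_id := fun s => rfl
      map_comp := fun a b => rfl }
  refine ⟨Finset Q, inferInstance, inferInstance, ⟨fun s t => ⟨s ∪ t, Finset.subset_union_left, Finset.subset_union_right⟩⟩,
    F, TopCat.limitCone F, ⟨TopCat.limitConeIsLimit F⟩, fun s => ?_, ?_⟩
  · haveI : Finite (Set.range (q s.unop)) := inferInstance
    haveI : T0Space (Set.range (q s.unop)) := by
      haveI := SpecLib.spectralSpace_pi_prop (I := {U // U ∈ s.unop})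
      exact Subtype.t0Space
    refine ⟨‹_›, ‹_›, ⟨fun {Z} hZ hZc => ?_⟩⟩
    obtain ⟨t, ht, hZt⟩ := (isIrreducible_iff_sUnion_isClosed.1 hZ)
      ((Z.toFinite.image fun z : Set.range (q s.unop) => closure {z}).toFinset)
      (fun w hw => by
        obtain ⟨z, -, rfl⟩ := (Set.Finite.mem_toFinset _).1 hw
        exact isClosed_closure)
      (fun z hz => ⟨_, (Set.Finite.mem_toFinset _).2 ⟨z, hz, rfl⟩, subset_closure rfl⟩)
    obtain ⟨z, hz, rfl⟩ := (Set.Finite.mem_toFinset _).1 ht
    exact ⟨z, Set.Subset.antisymm (hZc.closure_subset_iff.2 (Set.singleton_subset_iff.2 hz)) hZt⟩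
  · let φ : X → (TopCat.limitCone F).pt := fun x => ⟨fun s => ⟨q s.unop x, ⟨x, rfl⟩⟩, fun {i j} a => rfl⟩
    have hφ : Continuous φ := Continuous.subtype_mk (continuous_pi fun s => Continuous.subtype_mk (continuous_pi fun U =>
      continuous_generateFrom_iff.2 fun t ht => by
        rw [Set.mem_singleton_iff] at ht
        subst ht
        have : IsOpen U.1.1 := U.1.2.1
        convert this using 1
        ext x; simp [q]) _) _
    have hbij : Function.Bijective φ := by
      refine ⟨fun x y hxy => ?_, fun u => ?_⟩
      · by_contra hne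
        obtain ⟨U, h1, h2, h3⟩ := SpecLib.exists_qc_separating hne
        have h := congrArg (fun w : (TopCat.limitCone F).pt => (w.1 (Opposite.op {⟨U, h1, h2⟩})).1
          ⟨⟨U, h1, h2⟩, Finset.mem_singleton_self _⟩) hxy
        exact h3 (iff_of_eq h)
      · have hdir : Directed (· ⊇ ·) (fun s : Finset Q => {x | q s x = (u.1 (Opposite.op s)).1}) := fun s t => by
          refine ⟨s ∪ t, fun x hx => ?_, fun x hx => ?_⟩
          · have h := u.2 (homOfLE (Finset.subset_union_left (s₁ := s) (s₂ := t))).op
            exact funext fun U => (congrFun hx ⟨U.1, Finset.subset_union_left U.2⟩).trans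
              (congrFun (congrArg Subtype.val h) U)
          · have h := u.2 (homOfLE (Finset.subset_union_right (s₁ := s) (s₂ := t))).op
            exact funext fun U => (congrFun hx ⟨U.1, Finset.subset_union_right U.2⟩).trans
              (congrFun (congrArg Subtype.val h) U)
        have hcc : ∀ s : Finset Q, SpecLib.CC {x | q s x = (u.1 (Opposite.op s)).1} := fun s => by
          have e : {x | q s x = (u.1 (Opposite.op s)).1} =
              ⋂ U : {U // U ∈ s}, {x | x ∈ U.1.1 ↔ (u.1 (Opposite.op s)).1 U} := by
            ext x; simp [funext_iff, q]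
          rw [e]
          refine SpecLib.CC.iInter fun U => ?_
          by_cases hU : (u.1 (Opposite.op s)).1 U
          · simpa [hU] using SpecLib.cc_of_isOpen_isCompact U.1.2.1 U.1.2.2
          · simpa [hU, Set.compl_def] using (SpecLib.co_of_isOpen_isCompact U.1.2.1 U.1.2.2).compl
        obtain ⟨x, hx⟩ := SpecLib.CC.nonempty_iInter (X := X) _ hdir (fun s => (u.1 (Opposite.op s)).2) hcc
        rw [Set.mem_iInter] at hx
        exact ⟨x, Subtype.ext (funext fun s => Subtype.ext (hx s.unop))⟩
    have hind : Topology.IsInducing φ := ⟨le_antisymm hφ.le_induced fun V hV => by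
      obtain ⟨S, hS, rfl⟩ := PrespectralSpace.isTopologicalBasis.open_eq_sUnion hV
      refine @isOpen_sUnion X (TopologicalSpace.induced _ _) S fun t ht => isOpen_induced_iff.2
        ⟨(fun w : (TopCat.limitCone F).pt => (w.1 (Opposite.op {⟨t, hS ht⟩})).1 ⟨⟨t, hS ht⟩, Finset.mem_singleton_self _⟩) ⁻¹' {True},
          isOpen_singleton_true.preimage ((continuous_apply _).comp (continuous_subtype_val.comp
            ((continuous_apply _).comp continuous_subtype_val))), ?_⟩
      ext x; simp [φ, q]⟩
    exact ⟨(TopCat.isoOfHomeo ((isHomeomorph_iff_isEmbedding_surjective.2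
      ⟨⟨hind, hbij.1⟩, hbij.2⟩).homeomorph φ)).symm⟩

end Groth.Agent.S12462
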