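import Groth.Statements.S12466
import Mathlib
import Groth.Agent.Snc.Main

set_option autoImplicit false
universe u
open CategoryTheory CategoryTheory.Limits AlgebraicGeometry
open Resolve

namespace Groth.Agent.S12466

/-- Let X be an integral Noetherian scheme which is regular of dimension two and Z ⊂ X a closed
subscheme with ideal I ≠ 0 such that every integral closed subscheme of dimension one contained in Z
has finite normalization. Then there is a finite sequence of blowings up in closed points g : X' → X
such that the inverse image ideal I·O_{X'} is the ideal of an effective Cartier divisor supported on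
a strict normal crossings divisor, i.e. for every point p of its support there are an affine open U
∋ p, a regular system of parameters x_1, …, x_d of O_{X',p} (d = dim O_{X',p}, the x_i generating
the maximal ideal) and 1 ≤ r ≤ d such that the radical of the inverse image ideal, taken in
O_{X',p}, is generated by x_1⋯x_r. (The published statement takes X any regular scheme of dimension
two, hence only locally Noetherian, and Z any proper closed subscheme whose one-dimensional
irreducible components have finite normalization; this row takes X integral and Noetherian. For the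
disjoint union of a regular surface and a regular curve, with Z the curve, no sequence of blowings
up in closed points makes the inverse image of Z an effective Cartier divisor (the
largest-Cartier-divisor step of the proof needs every piece of X of dimension exactly two), and a
finite sequence of blowings up in single closed points can resolve Z only when X is quasi-compact,
since a non-quasi-compact regular surface may carry a curve with infinitely many singular points.
The quasi-compactness and quasi-separatedness binders in the hypothesis on the components of Z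
always hold.) -/
theorem result (X : Scheme.{u}) [IsIntegral X] [IsNoetherian X]
    (hreg : ∀ x : X, IsRegularLocalRing (X.presheaf.stalk x)) (hdim : topologicalKrullDim X = 2)
    (I : X.IdealSheafData) (hI : I ≠ ⊥)
    (hZ : ∀ (J : X.IdealSheafData) [IsIntegral J.subscheme]
      [QuasiCompact (J.subscheme.fromSpecStalk (genericPoint ↥J.subscheme))]
      [QuasiSeparated (J.subscheme.fromSpecStalk (genericPoint ↥J.subscheme))],
      (J.support : Set X) ⊆ I.support → topologicalKrullDim ↥J.subscheme = 1 →
        IsFinite (Curv2.normalizationι J.subscheme)) :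
    ∃ (X' : Scheme.{u}) (g : X' ⟶ X), Models.IsContractionSeq g ∧ BlowUp.IsEffCartierIdeal (I.comap g) ∧
      ∀ p : X', p ∈ ((I.comap g).support : Set X') →
        ∃ (U : X'.affineOpens) (hp : p ∈ (U : X'.Opens)) (d r : ℕ) (x : Fin d → X'.presheaf.stalk p),
          1 ≤ r ∧ r ≤ d ∧ ringKrullDim (X'.presheaf.stalk p) = (d : WithBot ℕ∞) ∧
          Ideal.span (Set.range x) = IsLocalRing.maximalIdeal (X'.presheaf.stalk p) ∧
          ((I.comap g).radical.ideal U).map (X'.presheaf.germ (U : X'.Opens) p hp).hom =
            Ideal.span {∏ i : Fin d, if (i : ℕ) < r then x i else 1} := by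
  have hS : Groth.Agent.Snc.Surf X := ⟨inferInstance, inferInstance, hreg, fun z =>
    (Groth.Agent.SchTop.ringKrullDim_stalk_le z).trans hdim.le⟩
  obtain ⟨S, hbad⟩ := Groth.Agent.Snc.exists_stage hI hS hZ
  have hgood : ∀ p, Groth.Agent.Snc.Good (Groth.Agent.H23.StalkIdeal.sI (I.comap S.M.G) p) := fun p => by
    by_contra h
    exact (Set.eq_empty_iff_forall_notMem.1 hbad p) h
  haveI := S.surf.noeth
  have hne := Groth.Agent.Snc.comap_ne_bot S.M hI
  refine ⟨S.M.Z, S.M.G, S.seq, Groth.Agent.MeroX.isEffCartier_of_stalk _ fun p _ U hU => ?_, fun p hp => ?_⟩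
  · obtain ⟨g, hg⟩ := (hgood p).1
    haveI := S.surf.regular p
    haveI := (Groth.Agent.S2821.result (S.M.Z.presheaf.stalk p)).1
    refine ⟨g, mem_nonZeroDivisors_of_ne_zero fun h0 => Groth.Agent.PointBlow.sI_ne_bot hne p ?_,
      (Groth.Agent.H23.StalkIdeal.sI_eq _ U hU).symm.trans hg⟩
    rw [hg, h0]
    exact Ideal.span_singleton_eq_bot.2 rfl
  · obtain ⟨U, hU, hpU, -⟩ := exists_isAffineOpen_mem_and_subset (x := p) (U := ⊤) trivial
    obtain ⟨d, r, x, h1, h2, h3, h4, h5⟩ := (hgood p).2 ((Groth.Agent.PointBlow.mem_support_iff _ p).1 hp)
    refine ⟨⟨U, hU⟩, hpU, d, r, x, h1, h2, h3, h4, ?_⟩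
    rw [← h5, Groth.Agent.H23.StalkIdeal.sI_eq _ ⟨U, hU⟩ hpU]
    letI := S.M.Z.presheaf.algebra_section_stalk (U := U) ⟨p, hpU⟩
    haveI := hU.isLocalization_stalk ⟨p, hpU⟩
    exact IsLocalization.map_radical (hU.primeIdealOf ⟨p, hpU⟩).asIdeal.primeCompl (S.M.Z.presheaf.stalk p) _

end Groth.Agent.S12466
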