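import Groth.Statements.S12468
import Groth.Agent.RelVA16.Segre
-- import your own Groth.Agent.* helpers here

set_option autoImplicit false
universe u
open CategoryTheory CategoryTheory.Limits AlgebraicGeometry TopologicalSpace Opposite
open scoped HomogeneousIdeal
open EGA2

namespace Groth.Agent.S12468

open Groth.Agent

/-- Let q : X → Y be a morphism of schemes, L an invertible O_X-module which is very ample relative to q
(isomorphic to the inverse image of O(1) along a Y-immersion of X into the projective bundle P(E) of
a quasi-coherent O_Y-module E), and L' an invertible O_X-module such that there are a quasi-coherent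
O_Y-module E' and an epimorphism q^*E' → L'. Then the tensor product L ⊗ L' is very ample relative
to q. -/
theorem result {X Y : Scheme.{u}} (q : X ⟶ Y) (L L' : X.Modules)
    (hL : PicF.IsInvertible L) (hva : RelProj.IsRelVeryAmple q L) (hL' : PicF.IsInvertible L')
    (E' : Y.Modules) (hE' : Coh.IsQCoh E') (φ : (Scheme.Modules.pullback q).obj E' ⟶ L') (hφ : Epi φ) :
    RelProj.IsRelVeryAmple q (CohB1.tensorMod L L') := by
  exact RelVA16.isRelVeryAmple_tensor_gen hva hE' _ (RelVA16.gen_of_epi hL' φ hφ)

end Groth.Agent.S12468
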