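import Groth.Statements.S12469
import Groth.Agent.RelVA16.TensorAmple
-- import your own Groth.Agent.* helpers here

set_option autoImplicit false
universe u
open CategoryTheory CategoryTheory.Limits AlgebraicGeometry TopologicalSpace Opposite
open scoped HomogeneousIdeal
open EGA2

namespace Groth.Agent.S12469

open Groth.Agent
open scoped Groth.Agent.H23.PicMul

/-- Let q : X → Y be a morphism of schemes, L an invertible O_X-module and K an invertible O_Y-module.
Then L is very ample relative to q (isomorphic to the inverse image of O(1) along a Y-immersion of X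
into the projective bundle P(E) of a quasi-coherent O_Y-module E) if and only if L ⊗ q^*K is. -/
theorem result {X Y : Scheme.{u}} (q : X ⟶ Y) (L : X.Modules)
    (hL : PicF.IsInvertible L) (K : Y.Modules) (hK : PicF.IsInvertible K) :
    RelProj.IsRelVeryAmple q L ↔
      RelProj.IsRelVeryAmple q (CohB1.tensorMod L ((Scheme.Modules.pullback q).obj K)) := by
  refine ⟨fun h => RelVA16.isRelVeryAmple_tensor_pullback h hK, fun h => ?_⟩
  obtain ⟨K', hK', e⟩ := H23.PicInv.exists_inverse hK
  have h2 := RelVA16.isRelVeryAmple_tensor_pullback h hK'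
  obtain ⟨E, hE, 𝒮, j, hj, P, p, chart, hP, O1, lam, hO1, i, hi, hf, ⟨ε⟩⟩ := h2
  obtain ⟨e'⟩ : Nonempty (CohB1.tensorMod (CohB1.tensorMod L ((Scheme.Modules.pullback q).obj K))
      ((Scheme.Modules.pullback q).obj K') ≅ L) := by
    refine H23.PicMul.cl_eq_iff.1 ?_
    show PicF.cl L * PicF.pullCl q (PicF.cl K) * PicF.pullCl q (PicF.cl K') = PicF.cl L
    have h1 : PicF.cl K * PicF.cl K' = 1 := H23.PicMul.cl_eq_iff.2 e
    rw [mul_assoc, ← H23.PicMul.pullCl_mul, h1, H23.PicMul.pullCl_one, mul_one]
  exact ⟨E, hE, 𝒮, j, hj, P, p, chart, hP, O1, lam, hO1, i, hi, hf, ⟨e'.symm ≪≫ ε⟩⟩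

end Groth.Agent.S12469
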