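import Groth.Statements.S12472
import Groth.Agent.RelVA16.IdAmple
-- import your own Groth.Agent.* helpers here

set_option autoImplicit false
universe u
open CategoryTheory CategoryTheory.Limits AlgebraicGeometry TopologicalSpace Opposite
open scoped HomogeneousIdeal
open EGA2

namespace Groth.Agent.S12472

/-- Let Y be a scheme and L an invertible O_Y-module. Then L is very ample relative to the identity
morphism of Y: there are a quasi-coherent O_Y-module E and a Y-immersion i of Y into the projective
bundle P(E) with L isomorphic to i^*O_{P(E)}(1). -/
theorem result (Y : Scheme.{u}) (L : Y.Modules) (hL : PicF.IsInvertible L) :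
    RelProj.IsRelVeryAmple (𝟙 Y) L := by
  exact RelVA16.isRelVeryAmple_id hL

end Groth.Agent.S12472
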