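import Groth.Statements.S12473
import Groth.Agent.RelVA16.CompVA
-- import your own Groth.Agent.* helpers here

set_option autoImplicit false
universe u
open CategoryTheory CategoryTheory.Limits AlgebraicGeometry TopologicalSpace Opposite
open scoped HomogeneousIdeal
open EGA2

namespace Groth.Agent.S12473
open Groth.Agent

/-- Let Z be a quasi-compact scheme, f : X → Y a morphism of finite type, g : Y → Z a quasi-compact
morphism, L an invertible O_X-module which is very ample relative to f and K an invertible
O_Y-module which is very ample relative to g (each isomorphic to the inverse image of O(1) along an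
immersion, over the base, into the projective bundle of a quasi-coherent module on the base). Then
there is an integer n₀ > 0 such that for every n ≥ n₀ the module L ⊗ f^*(K^{⊗n}) is very ample
relative to the composite X → Y → Z. -/
theorem result {X Y Z : Scheme.{u}} [CompactSpace Z] (f : X ⟶ Y)
    [QuasiCompact f] [LocallyOfFiniteType f] (g : Y ⟶ Z) [QuasiCompact g]
    (L : X.Modules) (hL : PicF.IsInvertible L) (hLva : RelProj.IsRelVeryAmple f L)
    (K : Y.Modules) (hK : PicF.IsInvertible K) (hKva : RelProj.IsRelVeryAmple g K) :
    ∃ n₀ : ℕ, 0 < n₀ ∧ ∀ n : ℕ, n₀ ≤ n →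
      RelProj.IsRelVeryAmple (f ≫ g)
        (CohB1.tensorMod L ((Scheme.Modules.pullback f).obj (CohB1.tensorPow K n))) := by
  obtain ⟨n₀, hn₀⟩ := RelVA16.eventually_isRelVeryAmple_comp f g hL hLva hK hKva
  exact ⟨n₀ + 1, Nat.succ_pos _, fun n hn => hn₀ n (by omega)⟩

end Groth.Agent.S12473
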