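import Groth.Statements.S12475
import Groth.Agent.RelVA16.SegrePair
-- import your own Groth.Agent.* helpers here

set_option autoImplicit false
set_option backward.isDefEq.respectTransparency false
set_option backward.isDefEq.respectTransparency.types false
universe u
open CategoryTheory CategoryTheory.Limits AlgebraicGeometry TopologicalSpace Opposite
open scoped HomogeneousIdeal
open EGA2

namespace Groth.Agent.S12475
open Groth.Agent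

/-- Let Y₁ → S and Y₂ → S be schemes over S, f₁ : X₁ → Y₁ and f₂ : X₂ → Y₂ morphisms (so that X₁, X₂ are
S-schemes through them), P with projections p₁, p₂ a fibre product X₁ ×_S X₂, Q with projections q₁,
q₂ a fibre product Y₁ ×_S Y₂, and h : P → Q the morphism f₁ ×_S f₂, that is, the one with h ≫ q₁ =
p₁ ≫ f₁ and h ≫ q₂ = p₂ ≫ f₂. If L₁ is an invertible O_{X₁}-module very ample relative to f₁ and L₂
an invertible O_{X₂}-module very ample relative to f₂ (each isomorphic to the inverse image of O(1)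
along an immersion over the base into the projective bundle of a quasi-coherent module on the base),
then the external tensor product p₁^*L₁ ⊗ p₂^*L₂ is very ample relative to h. -/
theorem result {S X₁ X₂ Y₁ Y₂ P Q : Scheme.{u}} (y₁ : Y₁ ⟶ S) (y₂ : Y₂ ⟶ S)
    (f₁ : X₁ ⟶ Y₁) (f₂ : X₂ ⟶ Y₂) (p₁ : P ⟶ X₁) (p₂ : P ⟶ X₂) (hP : IsPullback p₁ p₂ (f₁ ≫ y₁) (f₂ ≫ y₂))
    (q₁ : Q ⟶ Y₁) (q₂ : Q ⟶ Y₂) (hQ : IsPullback q₁ q₂ y₁ y₂) (h : P ⟶ Q)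
    (hh₁ : h ≫ q₁ = p₁ ≫ f₁) (hh₂ : h ≫ q₂ = p₂ ≫ f₂)
    (L₁ : X₁.Modules) (hL₁ : PicF.IsInvertible L₁) (hva₁ : RelProj.IsRelVeryAmple f₁ L₁)
    (L₂ : X₂.Modules) (hL₂ : PicF.IsInvertible L₂) (hva₂ : RelProj.IsRelVeryAmple f₂ L₂) :
    RelProj.IsRelVeryAmple h
      (CohB1.tensorMod ((Scheme.Modules.pullback p₁).obj L₁) ((Scheme.Modules.pullback p₂).obj L₂)) := by
  obtain ⟨E₁, B₁, i₁, hi₁, hif₁, ⟨e₁⟩⟩ := RelVA16.exists_pb_of_isRelVeryAmple hva₁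
  obtain ⟨E₂, B₂, i₂, hi₂, hif₂, ⟨e₂⟩⟩ := RelVA16.exists_pb_of_isRelVeryAmple hva₂
  obtain ⟨C₁⟩ := RelVA16.PB.exists_of_isQCoh (QCoh.isQCoh_pullback q₁ B₁.hE)
  obtain ⟨C₂⟩ := RelVA16.PB.exists_of_isQCoh (QCoh.isQCoh_pullback q₂ B₂.hE)
  obtain ⟨m₁, hpb₁, ⟨o₁⟩⟩ := B₁.exists_baseChange q₁ C₁
  obtain ⟨m₂, hpb₂, ⟨o₂⟩⟩ := B₂.exists_baseChange q₂ C₂
  let r₁ : P ⟶ C₁.P := hpb₁.lift (p₁ ≫ i₁) h (by rw [Category.assoc, hif₁, hh₁])
  let r₂ : P ⟶ C₂.P := hpb₂.lift (p₂ ≫ i₂) h (by rw [Category.assoc, hif₂, hh₂])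
  have hr₁ : r₁ ≫ C₁.p = h := hpb₁.lift_snd _ _ _
  have hr₂ : r₂ ≫ C₂.p = h := hpb₂.lift_snd _ _ _
  have hm₁ : r₁ ≫ m₁ = p₁ ≫ i₁ := hpb₁.lift_fst _ _ _
  have hm₂ : r₂ ≫ m₂ = p₂ ≫ i₂ := hpb₂.lift_fst _ _ _
  let τ₁ : (Scheme.Modules.pullback r₁).obj C₁.O1 ≅ (Scheme.Modules.pullback p₁).obj L₁ :=
    (Scheme.Modules.pullback r₁).mapIso o₁.symm ≪≫ (Scheme.Modules.pullbackComp r₁ m₁).app B₁.O1 ≪≫
      (Scheme.Modules.pullbackCongr hm₁).app B₁.O1 ≪≫ ((Scheme.Modules.pullbackComp p₁ i₁).app B₁.O1).symm ≪≫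
      (Scheme.Modules.pullback p₁).mapIso e₁.symm
  let τ₂ : (Scheme.Modules.pullback r₂).obj C₂.O1 ≅ (Scheme.Modules.pullback p₂).obj L₂ :=
    (Scheme.Modules.pullback r₂).mapIso o₂.symm ≪≫ (Scheme.Modules.pullbackComp r₂ m₂).app B₂.O1 ≪≫
      (Scheme.Modules.pullbackCongr hm₂).app B₂.O1 ≪≫ ((Scheme.Modules.pullbackComp p₂ i₂).app B₂.O1).symm ≪≫
      (Scheme.Modules.pullback p₂).mapIso e₂.symm
  haveI : IsImmersion (pullback.lift r₁ r₂ (hr₁.trans hr₂.symm) : P ⟶ pullback C₁.p C₂.p) := by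
    let μ : pullback (f₁ ≫ y₁) (f₂ ≫ y₂) ⟶ pullback (B₁.p ≫ y₁) (B₂.p ≫ y₂) :=
      pullback.map _ _ _ _ i₁ i₂ (𝟙 _) (by rw [Category.comp_id, ← Category.assoc, hif₁])
        (by rw [Category.comp_id, ← Category.assoc, hif₂])
    haveI : IsImmersion μ :=
      MorphismProperty.pullbackMap (P := @IsImmersion) (i₁ := i₁) (i₂ := i₂) hi₁ hi₂
        (e₁ := (by rw [← Category.assoc, hif₁])) (e₂ := (by rw [← Category.assoc, hif₂]))
    let ν : pullback C₁.p C₂.p ⟶ pullback (B₁.p ≫ y₁) (B₂.p ≫ y₂) :=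
      pullback.map _ _ _ _ m₁ m₂ (q₁ ≫ y₁) (by rw [← Category.assoc, ← Category.assoc, ← hpb₁.w])
        (by rw [hQ.w, ← Category.assoc, ← Category.assoc, ← hpb₂.w])
    have hfac : pullback.lift r₁ r₂ (hr₁.trans hr₂.symm) ≫ ν = hP.isoPullback.hom ≫ μ := by
      refine pullback.hom_ext ?_ ?_
      · simp [μ, ν, hm₁]
      · simp [μ, ν, hm₂]
    haveI : IsImmersion (pullback.lift r₁ r₂ (hr₁.trans hr₂.symm) ≫ ν) := by rw [hfac]; infer_instance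
    exact IsImmersion.of_comp _ ν
  exact RelVA16.isRelVeryAmple_mulPair C₁ C₂ (RelVA16.isMapOf_thetaOf hr₁ τ₁) (RelVA16.isMapOf_thetaOf hr₂ τ₂)

end Groth.Agent.S12475
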