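import Groth.Statements.S1248
import Groth.Agent.ZClosLib.ImpurityFP
import Groth.Agent.ZClosLib.WeakAssHenz
import Groth.Agent.MultTypeLib.LocalToGlobal
import Groth.Agent.Hensel.HenselizationProps

namespace Groth.Agent.S1248

universe v

open TensorProduct

attribute [local instance] Algebra.TensorProduct.rightAlgebra

set_option maxHeartbeats 1000000 in
/-- An étale algebra over a local ring: every element is a fraction of one coming from an étale algebra. -/
theorem exists_etale_model_frac {R : Type v} [CommRing R] (p : Ideal R) [p.IsPrime] (C : Type v) [CommRing C]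
    [Algebra R C] [Algebra (Localization.AtPrime p) C] [IsScalarTower R (Localization.AtPrime p) C]
    [Algebra.Etale (Localization.AtPrime p) C] :
    ∃ (C₀ : Type v) (_ : CommRing C₀) (_ : Algebra R C₀) (_ : Algebra.Etale R C₀) (φ : C₀ →ₐ[R] C),
      ∀ c : C, ∃ s ∉ p, ∃ c₀, algebraMap R C s * c = φ c₀ := by
  let Rp := Localization.AtPrime p
  let _ : Algebra (ULift.{v} ℤ) R :=
    ((Int.castRingHom R).comp (ULift.ringEquiv : ULift.{v} ℤ ≃+* ℤ).toRingHom).toAlgebra
  obtain ⟨A₀, B₀, _, _, hA₀, _, ⟨eC⟩⟩ := Algebra.Etale.exists_subalgebra_fg (R := ULift.{v} ℤ) (A := Rp) (B := C)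
  have : IsNoetherianRing (ULift.{v} ℤ) := isNoetherianRing_of_ringEquiv ℤ ULift.ringEquiv.symm
  have : Algebra.FiniteType (ULift.{v} ℤ) A₀ := ⟨A₀.fg_top.mpr hA₀⟩
  have : Algebra.FinitePresentation (ULift.{v} ℤ) A₀ := Algebra.FinitePresentation.of_finiteType.mp inferInstance
  obtain ⟨g, hg, ψ, hψ⟩ := Groth.Agent.SpreadIso.exists_lift (R := ULift.{v} ℤ) p (A := A₀) A₀.val
  let Rg := Localization.Away g
  let _ : Algebra A₀ Rg := ψ.toRingHom.toAlgebra
  let C₀ := Rg ⊗[A₀] B₀
  have : Algebra.Etale R Rg := Algebra.Etale.of_isLocalizationAway g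
  have : Algebra.Etale R C₀ := Algebra.Etale.comp R Rg C₀
  let toC₀ : C₀ →ₐ[R] C :=
    { toRingHom := eC.symm.toAlgHom.toRingHom.comp
        (Algebra.TensorProduct.map (R := A₀) (S := A₀) (A := Rg) (C := Rp)
          { (Groth.Agent.SpreadIso.toQ p hg).toRingHom with commutes' := fun a => hψ a } (AlgHom.id A₀ B₀)).toRingHom
      commutes' := fun r => by
        show eC.symm ((Groth.Agent.SpreadIso.toQ p hg (algebraMap R Rg r)) ⊗ₜ[A₀] (1 : B₀)) = algebraMap R C r
        rw [AlgHom.commutes, IsScalarTower.algebraMap_apply R Rp C, ← eC.symm.commutes]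
        rfl }
  refine ⟨C₀, inferInstance, inferInstance, inferInstance, toC₀, fun c => ?_⟩
  obtain ⟨z, rfl⟩ := eC.symm.surjective c
  induction z using TensorProduct.induction_on with
  | zero => exact ⟨1, fun h => ‹p.IsPrime›.ne_top ((Ideal.eq_top_iff_one p).2 h), 0, by simp⟩
  | tmul a b =>
    obtain ⟨r, ⟨s, hs⟩, rfl⟩ := IsLocalization.exists_mk'_eq p.primeCompl a
    refine ⟨s, hs, (algebraMap R Rg r) ⊗ₜ[A₀] b, ?_⟩
    have h1 : algebraMap R C s = eC.symm (algebraMap Rp (Rp ⊗[A₀] B₀) (algebraMap R Rp s)) := by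
      rw [eC.symm.commutes, ← IsScalarTower.algebraMap_apply]
    rw [h1, ← map_mul]
    show eC.symm _ = eC.symm (Groth.Agent.SpreadIso.toQ p hg (algebraMap R Rg r) ⊗ₜ[A₀] b)
    congr 1
    rw [AlgHom.commutes, Algebra.TensorProduct.algebraMap_apply, Algebra.TensorProduct.tmul_mul_tmul, one_mul]
    congr 1
    exact IsLocalization.mk'_spec' Rp r (⟨s, hs⟩ : p.primeCompl)
  | add x y hx hy =>
    obtain ⟨s, hs, c₁, h₁⟩ := hx
    obtain ⟨t, ht, c₂, h₂⟩ := hy
    refine ⟨s * t, p.primeCompl.mul_mem hs ht, algebraMap R C₀ t * c₁ + algebraMap R C₀ s * c₂, ?_⟩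
    rw [map_mul, map_add, map_add, map_mul, map_mul, AlgHom.commutes, AlgHom.commutes, ← h₁, ← h₂]
    ring

open IsLocalRing in
/-- Finitely many elements of the henselization come from an étale algebra over the base. -/
theorem exists_etale_range {A : Type v} [CommRing A] (p : Ideal A) [p.IsPrime] {S : Type v} [CommRing S]
    [IsLocalRing S] [Algebra A S] [Algebra (Localization.AtPrime p) S]
    [IsScalarTower A (Localization.AtPrime p) S] [IsLocalHom (algebraMap (Localization.AtPrime p) S)]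
    [Hensel.IsHenselization (Localization.AtPrime p) S] (F : Finset S) :
    ∃ (C : Type v) (_ : CommRing C) (_ : Algebra A C) (_ : Algebra.Etale A C) (φ : C →ₐ[A] S),
      ∀ x ∈ F, x ∈ Set.range φ := by
  classical
  obtain ⟨e⟩ := Groth.Agent.Hensel.exists_algEquiv_localHenz (Localization.AtPrime p) S
  obtain ⟨E, _, _, _, φ, hφ⟩ := Groth.Agent.ZClosLib.WeakAssHenz.exists_etale_range_of_equiv e F
  letI : Algebra A E := ((algebraMap (Localization.AtPrime p) E).comp (algebraMap A _)).toAlgebra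
  haveI : IsScalarTower A (Localization.AtPrime p) E := IsScalarTower.of_algebraMap_eq fun _ => rfl
  obtain ⟨C₀, _, _, _, ψ, hψ⟩ := exists_etale_model_frac p E
  choose pre hpre using hφ
  choose s hs c hc using fun x : {x // x ∈ F} => hψ (pre x.1 x.2)
  let g : A := ∏ x, s x
  have hg : g ∉ p := fun h => by
    obtain ⟨x, -, hx⟩ := Ideal.IsPrime.prod_mem_iff.1 h
    exact hs x hx
  let χ : C₀ →ₐ[A] S := (φ.restrictScalars A).comp ψ
  have hu : IsUnit (χ (algebraMap A C₀ g)) := by
    rw [AlgHom.commutes, IsScalarTower.algebraMap_apply A (Localization.AtPrime p) S]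
    exact (IsLocalization.map_units _ (⟨g, hg⟩ : p.primeCompl)).map _
  let C := Localization.Away (algebraMap A C₀ g)
  have : Algebra.Etale C₀ C := Algebra.Etale.of_isLocalizationAway (algebraMap A C₀ g)
  have : Algebra.Etale A C := Algebra.Etale.comp A C₀ C
  let χ' : C →ₐ[A] S := IsLocalization.Away.liftAlgHom (A := A) (algebraMap A C₀ g) (f := χ) hu
  have hχ : ∀ y, χ' (algebraMap C₀ C y) = χ y := fun y => by simp [χ']
  refine ⟨C, inferInstance, inferInstance, inferInstance, χ', fun x hx => ?_⟩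
  let x' : {x // x ∈ F} := ⟨x, hx⟩
  have hsu : IsUnit (algebraMap A C (s x')) := by
    refine isUnit_of_dvd_unit (map_dvd _ (Finset.dvd_prod_of_mem s (Finset.mem_univ x'))) ?_
    rw [IsScalarTower.algebraMap_apply A C₀ C]
    exact IsLocalization.Away.algebraMap_isUnit _
  refine ⟨↑hsu.unit⁻¹ * algebraMap C₀ C (c x'), ?_⟩
  refine ((hsu.map χ').mul_right_injective) ?_
  show χ' (algebraMap A C (s x')) * χ' (↑hsu.unit⁻¹ * _) = χ' (algebraMap A C (s x')) * x
  rw [← map_mul, ← mul_assoc, IsUnit.mul_val_inv, one_mul, hχ, AlgHom.commutes]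
  show φ (ψ (c x')) = _
  rw [← hc x', map_mul, hpre]
  congr 1
  exact (φ.restrictScalars A).commutes (s x')

open IsLocalRing in
/-- The descended impurity. -/
theorem main {A B : Type v} [CommRing A] [CommRing B] [Algebra A B] [Algebra.FiniteType A B]
    {N : Type v} [AddCommGroup N] [Module B N] (p : Ideal A) [p.IsPrime]
    {A₂ B₂ N₂ : Type v} [CommRing A₂] [CommRing B₂] [Algebra A A₂] [Algebra B B₂] [Algebra A₂ B₂]
    [Algebra A B₂] [IsScalarTower A B B₂] [IsScalarTower A A₂ B₂] [AddCommGroup N₂] [Module B₂ N₂]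
    [Module B N₂] [IsScalarTower B B₂ N₂] [Module A₂ N₂] [IsScalarTower A₂ B₂ N₂]
    {f₂ : N →ₗ[B] N₂} {t' t : Ideal A₂} [t'.IsPrime] [t.IsPrime] {P : Ideal B₂} [P.IsPrime]
    (himp : FlatCA.IsImpurity A B N p A₂ B₂ N₂ f₂ t' t P)
    [IsLocalRing A₂] [Algebra (Localization.AtPrime p) A₂] [IsScalarTower A (Localization.AtPrime p) A₂]
    [IsLocalHom (algebraMap (Localization.AtPrime p) A₂)]
    [Hensel.IsHenselization (Localization.AtPrime p) A₂] (ht : t = maximalIdeal A₂) :
    FlatCA.HasImpurity A B N p (fun A' _ _ t => ∃ _ : t.IsPrime, FlatCA.IsEtaleNhd A A' p t) := by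
  classical
  obtain ⟨g, hgt, hg⟩ := Groth.Agent.ZClosLib.ImpurityFP.exists_sup_eq_top himp
  have hgu : IsUnit g := by
    by_contra h
    exact hgt (ht ▸ h)
  have htop : P ⊔ t.map (algebraMap A₂ B₂) = ⊤ := Ideal.eq_top_of_isUnit_mem _ hg (hgu.map _)
  obtain ⟨π, hπ, z, hz, hπz⟩ := Submodule.mem_sup.1 (htop.ge (Submodule.mem_top : (1 : B₂) ∈ _))
  haveI hpush : Algebra.IsPushout A B A₂ B₂ := himp.1
  obtain ⟨hf₂, hle, htp, hPt, hass, -⟩ := himp.2
  obtain ⟨F, hF⟩ := Groth.Agent.ZClosLib.ImpurityFP.exists_finset_lift (A := A) (B := B) t hz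
  obtain ⟨C₀, _, _, _, φ, hφ⟩ := exists_etale_range p F
  let D₀ := C₀ ⊗[A] B
  let ψ : D₀ →ₐ[A] B₂ := Algebra.TensorProduct.lift ((IsScalarTower.toAlgHom A A₂ B₂).comp φ)
    (IsScalarTower.toAlgHom A B B₂) fun _ _ => .all _ _
  have hψl : ∀ c : C₀, ψ (c ⊗ₜ 1) = algebraMap A₂ B₂ (φ c) := fun c =>
    (Algebra.TensorProduct.lift_tmul _ _ _ c (1 : B)).trans (by rw [map_one, mul_one]; rfl)
  have hψr : ∀ b : B, ψ ((1 : C₀) ⊗ₜ b) = algebraMap B B₂ b := fun b =>
    (Algebra.TensorProduct.lift_tmul _ _ _ (1 : C₀) b).trans (by rw [map_one, one_mul]; rfl)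
  obtain ⟨z₀, hz₀, hψz⟩ := hF C₀ D₀ φ.toRingHom ψ.toRingHom hψl hψr hφ
  letI : Algebra C₀ A₂ := φ.toRingHom.toAlgebra
  haveI : IsScalarTower A C₀ A₂ := IsScalarTower.of_algebraMap_eq fun x => (φ.commutes x).symm
  letI : Algebra C₀ B₂ := ((IsScalarTower.toAlgHom A A₂ B₂).comp φ).toRingHom.toAlgebra
  haveI : IsScalarTower C₀ A₂ B₂ := IsScalarTower.of_algebraMap_eq fun _ => rfl
  haveI : IsScalarTower A C₀ B₂ := IsScalarTower.of_algebraMap_eq fun x =>
    (((IsScalarTower.toAlgHom A A₂ B₂).comp φ).commutes x).symm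
  letI : Algebra D₀ B₂ := ψ.toRingHom.toAlgebra
  haveI : IsScalarTower C₀ D₀ B₂ := IsScalarTower.of_algebraMap_eq fun x => (hψl x).symm
  haveI : IsScalarTower B D₀ B₂ := IsScalarTower.of_algebraMap_eq fun x => (hψr x).symm
  haveI : IsScalarTower A D₀ B₂ := IsScalarTower.of_algebraMap_eq fun x => (ψ.commutes x).symm
  haveI hpush₀ : Algebra.IsPushout A B C₀ D₀ := Algebra.IsPushout.symm inferInstance
  haveI : Algebra.IsPushout A C₀ B D₀ := hpush₀.symm
  haveI : Algebra.IsPushout A A₂ B B₂ := hpush.symm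
  haveI hpush' : Algebra.IsPushout C₀ A₂ D₀ B₂ :=
    (Algebra.IsPushout.comp_iff A C₀ B D₀ (T := A₂) (T' := B₂)).1 inferInstance
  haveI : IsScalarTower C₀ D₀ (D₀ ⊗[B] N) := TensorProduct.isScalarTower_left
  let f₀ : N →ₗ[B] D₀ ⊗[B] N := TensorProduct.mk B D₀ N 1
  have hf₀ : IsBaseChange D₀ f₀ := TensorProduct.isBaseChange B N D₀
  letI : Module D₀ N₂ := Module.compHom N₂ (algebraMap D₀ B₂)
  haveI : IsScalarTower D₀ B₂ N₂ := IsScalarTower.of_algebraMap_smul fun _ _ => rfl
  haveI : IsScalarTower B D₀ N₂ := IsScalarTower.to₁₂₄ B D₀ B₂ N₂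
  letI : Module C₀ N₂ := Module.compHom N₂ (algebraMap C₀ A₂)
  haveI : IsScalarTower C₀ A₂ N₂ := IsScalarTower.of_algebraMap_smul fun _ _ => rfl
  haveI : IsScalarTower C₀ B₂ N₂ := IsScalarTower.of_algebraMap_smul fun r m => by
    rw [IsScalarTower.algebraMap_apply C₀ A₂ B₂, algebraMap_smul]; rfl
  haveI : IsScalarTower C₀ D₀ N₂ := IsScalarTower.to₁₂₄ C₀ D₀ B₂ N₂
  let g₀ := hf₀.lift f₂
  have hg₀ : IsBaseChange B₂ g₀ := IsBaseChange.of_comp hf₀ (by rw [hf₀.lift_comp]; exact hf₂)
  let t₀ : Ideal C₀ := t.comap (algebraMap C₀ A₂)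
  let t₀' : Ideal C₀ := t'.comap (algebraMap C₀ A₂)
  haveI := htp
  haveI hl₀ : t₀.LiesOver p := ⟨by
    rw [Ideal.under_def, Ideal.comap_comap, ← IsScalarTower.algebraMap_eq]; exact htp.over⟩
  haveI : t'.LiesOver t₀' := ⟨rfl⟩
  haveI : t.LiesOver t₀ := ⟨rfl⟩
  haveI : Algebra.FiniteType C₀ D₀ := Groth.Agent.ZClosLib.PurityBC.finiteType_of_isPushout A B C₀ D₀
  obtain ⟨hover, hass₀⟩ := Groth.Agent.ZClosLib.PurityQF.assoc_contract (A := C₀) (C := A₂) g₀
    (Groth.Agent.QCart13.isBaseChange_of_pushout g₀ hg₀) t₀' t' P hass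
  refine ⟨C₀, D₀, D₀ ⊗[B] N, inferInstance, inferInstance, inferInstance, inferInstance, inferInstance, inferInstance,
    inferInstance, inferInstance, inferInstance, inferInstance, inferInstance, inferInstance, inferInstance,
    inferInstance, f₀, t₀', t₀, inferInstance, inferInstance, P.comap (algebraMap D₀ B₂), inferInstance,
    ⟨hpush₀, hf₀, Ideal.comap_mono hle, inferInstance, hover, hass₀, fun P' hP' hPP' hP's => ?_⟩,
    inferInstance, inferInstance, hl₀, ?_⟩
  · refine hP'.ne_top ((Ideal.eq_top_iff_one P').2 ?_)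
    have hπ' : algebraMap D₀ B₂ (1 - z₀) ∈ P := by
      show ψ (1 - z₀) ∈ P
      rw [map_sub, map_one, show ψ z₀ = z from hψz, ← hπz, add_sub_cancel_right]
      exact hπ
    have h1 : (1 : D₀) - z₀ ∈ P' := hPP' hπ'
    have h2 : z₀ ∈ P' := Ideal.map_le_iff_le_comap.2 hP's.over.le hz₀
    simpa using add_mem h1 h2
  -- the residue field
  subst ht
  refine ⟨RingHom.injective (Ideal.ResidueField.mapₐ p t₀ (Algebra.ofId A C₀) hl₀.over).toRingHom, fun x => ?_⟩
  let j : t₀.ResidueField →ₐ[A] (maximalIdeal A₂).ResidueField :=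
    Ideal.ResidueField.mapₐ t₀ (maximalIdeal A₂) φ rfl
  let i : p.ResidueField →ₐ[A] (maximalIdeal A₂).ResidueField :=
    Ideal.ResidueField.mapₐ p (maximalIdeal A₂) (Algebra.ofId A A₂) htp.over
  suffices h : ∀ y : (maximalIdeal A₂).ResidueField, ∃ u : p.ResidueField, i u = y by
    obtain ⟨u, hu⟩ := h (j x)
    refine ⟨u, RingHom.injective j.toRingHom ?_⟩
    refine Eq.trans ?_ hu
    exact RingHom.congr_fun (Ideal.ResidueField.ringHom_ext (I := p) (R := A)
      (f := j.toRingHom.comp (Ideal.ResidueField.mapₐ p t₀ (Algebra.ofId A C₀) hl₀.over).toRingHom)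
      (g := i.toRingHom) (RingHom.ext fun a => by
        show j (Ideal.ResidueField.mapₐ p t₀ (Algebra.ofId A C₀) hl₀.over (algebraMap A _ a)) = i (algebraMap A _ a)
        rw [AlgHom.commutes, AlgHom.commutes, AlgHom.commutes])) u
  intro y
  obtain ⟨r, hr⟩ := Ideal.algebraMap_residueField_surjective (maximalIdeal A₂) y
  obtain ⟨a, ha⟩ := Groth.Agent.Hensel.exists_sub_mem_of_isHenselization (Localization.AtPrime p) A₂ r
  rw [Groth.Agent.Hensel.map_maximalIdeal_of_isHenselization (Localization.AtPrime p) A₂,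
    ← Ideal.algebraMap_residueField_eq_zero, map_sub, sub_eq_zero] at ha
  obtain ⟨a₀, ⟨s, hs⟩, rfl⟩ := IsLocalization.exists_mk'_eq p.primeCompl a
  refine ⟨algebraMap A p.ResidueField a₀ / algebraMap A p.ResidueField s, ?_⟩
  have hs0 : algebraMap A (maximalIdeal A₂).ResidueField s ≠ 0 := by
    rw [IsScalarTower.algebraMap_apply A A₂ (maximalIdeal A₂).ResidueField, Ne, Ideal.algebraMap_residueField_eq_zero]
    intro hm
    exact hs (htp.over.ge hm)
  rw [map_div₀, AlgHom.commutes, AlgHom.commutes, div_eq_iff hs0, ← hr, ha,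
    IsScalarTower.algebraMap_apply A A₂ (maximalIdeal A₂).ResidueField,
    IsScalarTower.algebraMap_apply A A₂ (maximalIdeal A₂).ResidueField, ← map_mul,
    IsScalarTower.algebraMap_apply A (Localization.AtPrime p) A₂,
    IsScalarTower.algebraMap_apply A (Localization.AtPrime p) A₂, ← map_mul, IsLocalization.mk'_spec]

end Groth.Agent.S1248

set_option autoImplicit false
universe u
open FlatMor

namespace Groth.Agent.S1248

open IsLocalRing in
/-- Ring form, X = Spec B affine: let B be a finite type A-algebra, N a finite B-module and p a prime of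
A. If there is an impurity of N above p whose base change ring A' is a henselization of the local
ring A_p (compatibly with A → A_p) and whose point t is the maximal ideal, then there is an impurity
of N above p for which (A', t) is an elementary étale ring map at p. -/
theorem result {A B : Type u} [CommRing A] [CommRing B] [Algebra A B] [Algebra.FiniteType A B]
    (N : Type u) [AddCommGroup N] [Module B N] [Module.Finite B N] (p : Ideal A) [p.IsPrime]
    (h : FlatCA.HasImpurity A B N p (fun A' _ _ t => ∃ (_ : IsLocalRing A') (_ : Algebra (Localization.AtPrime p) A')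
        (_ : IsScalarTower A (Localization.AtPrime p) A') (_ : IsLocalHom (algebraMap (Localization.AtPrime p) A')),
        Hensel.IsHenselization (Localization.AtPrime p) A' ∧ t = maximalIdeal A')) :
    FlatCA.HasImpurity A B N p (fun A' _ _ t => ∃ _ : t.IsPrime, FlatCA.IsEtaleNhd A A' p t) := by
  obtain ⟨A', B', N', _, _, _, _, _, _, _, _, _, _, _, _, _, _, f, t', t, _, _, P, _, himp, _, _, _, _, hh, ht⟩ := h
  haveI := hh
  exact main p himp ht

end Groth.Agent.S1248
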