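import Groth.Statements.S12480
import Groth.Agent.RelVA16.Segre
import Groth.Agent.AmpleX.CounitEpi
import Groth.Agent.QCoh.Qcqs
import Groth.Agent.ProjUPX.Affine
-- import your own Groth.Agent.* helpers here

set_option autoImplicit false
set_option backward.isDefEq.respectTransparency false
set_option backward.isDefEq.respectTransparency.types false
universe u
open CategoryTheory CategoryTheory.Limits AlgebraicGeometry TopologicalSpace Opposite
open scoped HomogeneousIdeal
open EGA2

namespace Groth.Agent.S12480
open Groth.Agent

/-- Let X be a quasi-affine scheme and L an invertible O_X-module. Then L is very ample relative to the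
canonical morphism u : X → Spec Γ(X, O_X): there are a quasi-coherent module E on that spectrum and
an immersion i of X into the projective bundle P(E), compatible with u, with L isomorphic to
i^*O_{P(E)}(1). (The published statement adds that L is then ample; that assertion is stated
separately.) -/
theorem result (X : Scheme.{u}) [X.IsQuasiAffine] (L : X.Modules)
    (hL : PicF.IsInvertible L) : RelProj.IsRelVeryAmple X.toSpecΓ L := by
  have hqa : Mor2.IsQuasiAffine X.toSpecΓ := ⟨inferInstance, fun V hV => by
    haveI : CompactSpace (X.toSpecΓ ⁻¹ᵁ V : Scheme.{u}) :=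
      isCompact_iff_compactSpace.1 (X.toSpecΓ.isCompact_preimage hV.isCompact)
    exact Scheme.IsQuasiAffine.of_isImmersion (X.toSpecΓ ⁻¹ᵁ V).ι⟩
  have hLq := ProjUPX.isQCoh_of_isInvertible hL
  obtain ⟨B⟩ := RelVA16.PB.exists_of_isQCoh (QCoh.isQCoh_pushforward X.toSpecΓ hLq)
  let adj := Scheme.Modules.pullbackPushforwardAdjunction X.toSpecΓ
  have hgen : RelVA16.Gen (q := X.toSpecΓ) (L := L) (𝟙 ((Scheme.Modules.pushforward X.toSpecΓ).obj L)) := by
    have h := RelVA16.gen_of_epi hL (adj.counit.app L) (AmpleX.epi_counit_of_isQuasiAffine X.toSpecΓ hqa hLq)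
    rwa [Adjunction.homEquiv_unit, adj.right_triangle_components] at h
  obtain ⟨r, hr⟩ := RelVA16.exists_isMapOf B _ hgen
  haveI : IsImmersion r := by
    haveI : IsImmersion (r ≫ B.p) := by rw [hr.comp]; infer_instance
    exact IsImmersion.of_comp r B.p
  obtain ⟨τ, -⟩ := hr.exists_iso
  exact B.isRelVeryAmple _ r hr.comp τ.symm

end Groth.Agent.S12480
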