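import Groth.Statements.S12482
import Groth.Agent.LC.DepthExt
-- import your own Groth.Agent.* helpers here

set_option autoImplicit false
universe u
open Dual

namespace Groth.Agent.S12482

/-- Let `A` be a commutative ring, `x_1, …, x_p` a sequence of elements of `A` such that each `x_i` is a
non-zero-divisor on `A/(x_1, …, x_{i-1})`, and `J` the ideal generated by the `x_i`. Then `J/J²` is
a free `(A/J)`-module with basis the classes of the `x_i`: there is a basis of `J/J²` over `A/J`,
indexed by `1, …, p`, whose `i`-th vector is the class of `x_i`. (The other assertions of the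
published statement, on the Koszul complex and on Ext and Tor against `A/J`, are stated separately.) -/
theorem result (A : Type u) [CommRing A] (p : ℕ) (x : Fin p → A)
    (hreg : RingTheory.Sequence.IsWeaklyRegular A (List.ofFn x)) :
    ∃ b : Module.Basis (Fin p) (A ⧸ Ideal.span (Set.range x)) (Ideal.span (Set.range x)).Cotangent,
      ∀ i, b i = (Ideal.span (Set.range x)).toCotangent ⟨x i, Ideal.subset_span (Set.mem_range_self i)⟩ := by
  classical
  have key : ∀ (n : ℕ) (y : Fin n → A), RingTheory.Sequence.IsWeaklyRegular A (List.ofFn y) →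
      ∀ a : Fin n → A, ∑ i, a i * y i = 0 → ∀ i, a i ∈ Ideal.span (Set.range y) := by
    intro n
    induction n with
    | zero => exact fun y _ a _ i => i.elim0
    | succ n ih =>
      intro y hy a hsum
      rw [List.ofFn_succ', List.concat_eq_append, LC.isWeaklyRegular_concat_iff] at hy
      obtain ⟨hy', hlast⟩ := hy
      let J0 := Ideal.span (Set.range fun i : Fin n => y i.castSucc)
      have hJ0 : (Ideal.ofList (List.ofFn fun i : Fin n => y i.castSucc) • (⊤ : Submodule A A)) = J0 := by
        rw [Ideal.smul_eq_mul, Ideal.mul_top, Ideal.ofList]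
        congr 1
        ext z
        simp [List.mem_ofFn]
      have hle : J0 ≤ Ideal.span (Set.range y) :=
        Ideal.span_mono fun z ⟨i, hi⟩ => ⟨i.castSucc, hi⟩
      rw [Fin.sum_univ_castSucc] at hsum
      have hal : a (Fin.last n) ∈ J0 := by
        rw [isSMulRegular_iff_right_eq_zero_of_smul] at hlast
        have := hlast (Submodule.Quotient.mk (a (Fin.last n))) (by
          rw [← Submodule.Quotient.mk_smul, Submodule.Quotient.mk_eq_zero, hJ0, smul_eq_mul, mul_comm,
            eq_neg_of_add_eq_zero_right hsum]
          exact J0.neg_mem (Ideal.sum_mem _ fun i _ => Ideal.mul_mem_left _ _ (Ideal.subset_span ⟨i, rfl⟩)))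
        rwa [Submodule.Quotient.mk_eq_zero, hJ0] at this
      obtain ⟨c, hc⟩ := (Submodule.mem_span_range_iff_exists_fun A).1 hal
      have hrel : ∑ i : Fin n, (a i.castSucc + c i * y (Fin.last n)) * y i.castSucc = 0 := by
        calc _ = ∑ i : Fin n, a i.castSucc * y i.castSucc + (∑ i : Fin n, c i • y i.castSucc) * y (Fin.last n) := by
              rw [Finset.sum_mul, ← Finset.sum_add_distrib]
              exact Finset.sum_congr rfl fun i _ => by rw [smul_eq_mul]; ring
          _ = 0 := by rw [hc]; exact hsum
      have hh := ih _ hy' _ hrel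
      intro i
      induction i using Fin.lastCases with
      | last => exact hle hal
      | cast i =>
        have h1 := hle (hh i)
        have h2 : c i * y (Fin.last n) ∈ Ideal.span (Set.range y) :=
          Ideal.mul_mem_left _ _ (Ideal.subset_span ⟨_, rfl⟩)
        exact (Ideal.add_mem_iff_left _ h2).1 h1
  let J := Ideal.span (Set.range x)
  let v : Fin p → J.Cotangent := fun i => J.toCotangent ⟨x i, Ideal.subset_span (Set.mem_range_self i)⟩
  have hli : LinearIndependent (A ⧸ J) v := by
    rw [Fintype.linearIndependent_iff]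
    intro g hg i
    choose a ha using fun i => Ideal.Quotient.mk_surjective (g i)
    have h0 : J.toCotangent (∑ i, a i • (⟨x i, Ideal.subset_span (Set.mem_range_self i)⟩ : J)) = 0 := by
      rw [map_sum, ← hg]
      exact Finset.sum_congr rfl fun i _ => by
        rw [map_smul, ← algebraMap_smul (A ⧸ J) (a i), Ideal.Quotient.algebraMap_eq, ha]
    rw [Ideal.toCotangent_eq_zero] at h0
    simp only [Submodule.coe_sum, Submodule.coe_smul, smul_eq_mul] at h0
    obtain ⟨b, hb, hsum⟩ : ∃ b : Fin p → A, (∀ i, b i ∈ J) ∧ ∑ i, b i * x i = ∑ i, a i * x i := by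
      rw [pow_two, ← Ideal.smul_eq_mul, Submodule.mem_ideal_smul_span_iff_exists_sum] at h0
      obtain ⟨b, hb, hs⟩ := h0
      exact ⟨fun i => b i, hb, by rw [← hs, Finsupp.sum_fintype _ _ (fun i => by simp)]; rfl⟩
    have hk := key p x hreg (fun i => a i - b i) (by
      simp only [sub_mul, Finset.sum_sub_distrib, hsum, sub_self]) i
    rw [← ha i, Ideal.Quotient.eq_zero_iff_mem]
    exact (sub_add_cancel (a i) (b i)) ▸ J.add_mem hk (hb i)
  have hsp : ⊤ ≤ Submodule.span (A ⧸ J) (Set.range v) := by
    intro z _
    obtain ⟨⟨w, hw⟩, rfl⟩ := J.toCotangent_surjective z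
    obtain ⟨c, hc⟩ := (Submodule.mem_span_range_iff_exists_fun A).1 hw
    have : (⟨w, hw⟩ : J) = ∑ i, c i • (⟨x i, Ideal.subset_span (Set.mem_range_self i)⟩ : J) :=
      Subtype.ext (by simp only [Submodule.coe_sum, Submodule.coe_smul, hc])
    rw [this, map_sum]
    refine sum_mem fun i _ => ?_
    rw [map_smul, ← algebraMap_smul (A ⧸ J) (c i)]
    exact Submodule.smul_mem _ _ (Submodule.subset_span ⟨i, rfl⟩)
  exact ⟨Module.Basis.mk hli hsp, fun i => Module.Basis.mk_apply hli hsp i⟩

end Groth.Agent.S12482
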