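import Groth.Statements.S12486
import Groth.Agent.RelVA16.Projective
-- import your own Groth.Agent.* helpers here

set_option autoImplicit false
universe u
open CategoryTheory CategoryTheory.Limits AlgebraicGeometry TopologicalSpace Opposite
open scoped HomogeneousIdeal
open EGA2

namespace Groth.Agent.S12486
open Groth.Agent

/-- Let Y be a scheme which is either quasi-compact and separated or has Noetherian underlying space, q
: X → Y a morphism of finite type and L an invertible O_X-module which is very ample relative to q.
Then the quasi-coherent module of the definition can be taken of finite type: there are a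
quasi-coherent O_Y-module E of finite type, its graded symmetric algebra 𝒯 with projective bundle p
: P(E) = Proj(𝒯) → Y (given with its charts over affine opens) and fundamental sheaf O(1) (given
with its chart identifications), and an immersion i : X → P(E) with i ≫ p = q and L isomorphic to
i^*O(1). (The published statement phrases this condition through the morphism to P(E) attached to an
epimorphism q^*E → L, and adds a variant in which E is a submodule of q_*L; those forms are not
stated here.) -/
theorem result {X Y : Scheme.{u}}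
    (hY : (CompactSpace Y ∧ Y.IsSeparated) ∨ TopologicalSpace.NoetherianSpace Y) (q : X ⟶ Y) [QuasiCompact q]
    [LocallyOfFiniteType q] (L : X.Modules) (hL : PicF.IsInvertible L) (h : RelProj.IsRelVeryAmple q L) :
    ∃ (E : Y.Modules) (𝒯 : RelProj.QCGrAlg Y) (j : E ⟶ 𝒯.toModule) (P : Scheme.{u}) (p : P ⟶ Y)
      (chart : ∀ (U : Y.Opens) (hU : IsAffineOpen U), ((p ⁻¹ᵁ U : P.Opens) : Scheme.{u}) ≅ Proj (𝒯.deg U hU))
      (O1 : P.Modules)
      (lam : ∀ (U : Y.Opens) (hU : IsAffineOpen U),
        O1 ⟶ (Scheme.Modules.pushforward (RelProj.emb p chart U hU)).obj (GrTwist.twist (𝒯.deg U hU) 1))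
      (i : X ⟶ P),
      Coh.IsQCoh E ∧ CohB1.IsFT E ∧ RelProj.IsGrSymAlg E 𝒯 j ∧ RelProj.IsRelProj 𝒯 p chart ∧
        RelProj.IsRelTwist 𝒯 p chart 1 O1 lam ∧ IsImmersion i ∧ i ≫ p = q ∧
        Nonempty (L ≅ (Scheme.Modules.pullback i).obj O1) := by
  obtain ⟨E, B, i, hft, hi, hif, he⟩ := RelVA16.exists_ft_pb_of_isRelVeryAmple hY h
  exact ⟨E, B.𝒮, B.j, B.P, B.p, B.chart, B.O1, B.lam, i, B.hE, hft, B.hj, B.hP, B.hO1, hi, hif, he⟩

end Groth.Agent.S12486
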