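import Groth.Statements.S12491
import Groth.Agent.RegLoc6.Serre
import Mathlib.Algebra.Module.LocalizedModule.Exact
import Mathlib.RingTheory.Ideal.KrullsHeightTheorem

set_option autoImplicit false
universe u
open VBPn

namespace Groth.Agent.S12491

theorem projective_of_syzygy {R : Type u} [CommRing R] (n k : ℕ) (hnk : n ≤ k)
    (hgd : ∀ (M : Type u) [AddCommGroup M] [Module R M] [Module.Finite R M], RegLoc6.PdLE R n M)
    (N : ℕ → Type u) [∀ i, AddCommGroup (N i)] [∀ i, Module R (N i)] [Module.Finite R (N 0)]
    (hproj : ∀ i, 1 ≤ i → i ≤ k → Module.Projective R (N i) ∧ Module.Finite R (N i))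
    (d : ∀ i, N i →ₗ[R] N (i + 1)) (hinj : Function.Injective (d 0))
    (hex : ∀ i, i + 1 < k → LinearMap.range (d i) = LinearMap.ker (d (i + 1))) :
    Module.Projective R (N 0) := by
  rw [← RegLoc6.pdLE_zero_iff]
  rcases Nat.eq_zero_or_pos k with rfl | hk
  · exact RegLoc6.pdLE_mono hnk (hgd (N 0))
  have key : ∀ j i, i + j + 1 = k → RegLoc6.PdLE R (n - (j + 1)) (LinearMap.range (d i)) := by
    intro j
    induction j with
    | zero =>
      intro i hi
      obtain ⟨hP, hF⟩ := hproj (i + 1) (by omega) (by omega)
      haveI := hP
      haveI := hF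
      exact RegLoc6.pdLE_of_equiv (LinearEquiv.ofEq _ _ (Submodule.ker_mkQ _))
        (RegLoc6.pdLE_ker (LinearMap.range (d i)).mkQ (Submodule.mkQ_surjective _)
          (RegLoc6.pdLE_mono (by omega) (hgd _)) (RegLoc6.pdLE_of_projective _))
    | succ j ih =>
      intro i hi
      obtain ⟨hP, hF⟩ := hproj (i + 1) (by omega) (by omega)
      haveI := hP
      refine RegLoc6.pdLE_of_equiv (LinearEquiv.ofEq _ _ ?_)
        (RegLoc6.pdLE_ker (d (i + 1)).rangeRestrict (d (i + 1)).surjective_rangeRestrict
          (RegLoc6.pdLE_mono (by omega) (ih (i + 1) (by omega))) (RegLoc6.pdLE_of_projective _))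
      rw [LinearMap.ker_rangeRestrict, hex i (by omega)]
  have h := key (k - 1) 0 (by omega)
  exact RegLoc6.pdLE_of_equiv (LinearEquiv.ofInjective (d 0) hinj).symm
    (RegLoc6.pdLE_mono (by omega) h)



/-- Let A be a regular local ring, k ≥ 0, and N_0, N_1, … A-modules with N_0 finitely generated and N_1,
…, N_k finitely generated and free, with linear maps d_i : N_i → N_{i+1} such that d_0 is injective
and the sequence 0 → N_0 → N_1 → ⋯ → N_k is exact. Then for every prime ideal p of A of height at
most k the localization of N_0 at p is a free module over A_p. The published statement is for a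
coherent analytic sheaf on a complex manifold that is locally a k-th syzygy sheaf and says its set
of non-free stalks has codimension greater than k; this row is the statement at one stalk, over any
regular local ring. -/
theorem result (A : Type u) [CommRing A] [IsRegularLocalRing A]
    (k : ℕ) (N : ℕ → Type u) [∀ i, AddCommGroup (N i)] [∀ i, Module A (N i)] [Module.Finite A (N 0)]
    (hfree : ∀ i, 1 ≤ i → i ≤ k → Module.Free A (N i) ∧ Module.Finite A (N i))
    (d : ∀ i, N i →ₗ[A] N (i + 1)) (hinj : Function.Injective (d 0))
    (hex : ∀ i, i + 1 < k → LinearMap.range (d i) = LinearMap.ker (d (i + 1)))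
    (p : Ideal A) [p.IsPrime] (hp : p.height ≤ k) :
    Module.Free (Localization.AtPrime p) (LocalizedModule p.primeCompl (N 0)) := by
  haveI : IsRegularLocalRing (Localization.AtPrime p) :=
    RegLoc6.isRegularLocalRing_localization A p
  have hn : (IsLocalRing.maximalIdeal (Localization.AtPrime p)).spanFinrank ≤ k := by
    have h1 := (isRegularLocalRing_iff (Localization.AtPrime p)).mp inferInstance
    rw [IsLocalization.AtPrime.ringKrullDim_eq_height p (Localization.AtPrime p)] at h1
    have h2 : ((IsLocalRing.maximalIdeal (Localization.AtPrime p)).spanFinrank : ℕ∞) ≤ k :=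
      (WithBot.coe_inj.mp h1).trans_le hp
    exact_mod_cast h2
  have hproj : ∀ i, 1 ≤ i → i ≤ k → Module.Projective (Localization.AtPrime p)
      (LocalizedModule p.primeCompl (N i)) ∧
      Module.Finite (Localization.AtPrime p) (LocalizedModule p.primeCompl (N i)) := by
    intro i h1 h2
    obtain ⟨hF, hFin⟩ := hfree i h1 h2
    haveI := hF
    haveI := hFin
    haveI : Module.Projective (Localization.AtPrime p) (LocalizedModule p.primeCompl (N i)) :=
      RegLoc6.pdLE_zero_iff.mp (RegLoc6.pdLE_localized (RegLoc6.pdLE_of_projective 0) p.primeCompl)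
    exact ⟨inferInstance, inferInstance⟩
  have := projective_of_syzygy _ k hn
    (fun M _ _ _ => RegLoc6.pdLE_of_isRegularLocalRing (Localization.AtPrime p) M)
    (fun i => LocalizedModule p.primeCompl (N i)) hproj
    (fun i => LocalizedModule.map p.primeCompl (d i))
    (LocalizedModule.map_injective p.primeCompl (d 0) hinj)
    (fun i hi => by
      have h := LocalizedModule.map_exact p.primeCompl (d i) (d (i + 1))
        (LinearMap.exact_iff.mpr (hex i hi).symm)
      exact (LinearMap.exact_iff (f := LocalizedModule.map p.primeCompl (d i))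
        (g := LocalizedModule.map p.primeCompl (d (i + 1)))).mp h |>.symm)
  exact Module.free_of_flat_of_isLocalRing

end Groth.Agent.S12491
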