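import Groth.Statements.S12498
import Mathlib

set_option autoImplicit false
open scoped TensorProduct
universe u
open Deform

namespace Groth.Agent.S12498

/-- An endomorphism congruent to the identity modulo `t B`, `t² = 0`, is bijective. -/
lemma bijective_of_congr {A B : Type u} [CommRing A] [CommRing B] [Algebra A B] (t : A) (htt : t * t = 0)
    (h : B →ₐ[A] B) (hh : ∀ b, h b - b ∈ Ideal.span {algebraMap A B t}) : Function.Bijective h := by
  have hd : ∀ b, h (h b) = h b + (h b - b) := fun b => by
    obtain ⟨c, hc⟩ := Ideal.mem_span_singleton'.1 (hh b)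
    obtain ⟨d, hd⟩ := Ideal.mem_span_singleton'.1 (hh c)
    have e1 : h (h b - b) = h b - b := by
      rw [← hc, map_mul, AlgHom.commutes]
      have : h c * algebraMap A B t - c * algebraMap A B t = 0 := by
        rw [← sub_mul, ← hd, mul_assoc, ← map_mul, htt, map_zero, mul_zero]
      exact sub_eq_zero.1 this
    rw [map_sub] at e1
    linear_combination e1
  refine ⟨(injective_iff_map_eq_zero h).2 fun b hb => ?_, fun b => ⟨2 * b - h b, ?_⟩⟩
  · have := hd b
    rw [hb, map_zero] at this
    linear_combination this
  · rw [map_sub, map_mul, map_ofNat, hd]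
    ring

/-- In a flat algebra the annihilator of `t` is `m B`, if the annihilator of `t` in `A` is `m`. -/
lemma smul_eq_zero_iff {A B : Type u} [CommRing A] [CommRing B] [Algebra A B] [Module.Flat A B] (t : A) (m : Ideal A)
    (htm : ∀ a : A, a * t = 0 ↔ a ∈ m) (b : B) :
    algebraMap A B t * b = 0 ↔ b ∈ m.map (algebraMap A B) := by
  constructor
  · intro hb
    have hex : Function.Exact m.subtype (LinearMap.mulRight A t) := fun a => by
      rw [LinearMap.mulRight_apply, htm]
      exact ⟨fun h => ⟨⟨a, h⟩, rfl⟩, fun ⟨y, hy⟩ => hy ▸ y.2⟩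
    have h := (Module.Flat.lTensor_exact B hex) (b ⊗ₜ[A] (1 : A))
    have h0 : LinearMap.lTensor B (LinearMap.mulRight A t) (b ⊗ₜ[A] (1 : A)) = 0 := by
      apply (TensorProduct.rid A B).injective
      simp [Algebra.smul_def, hb]
    obtain ⟨w, hw⟩ := h.1 h0
    have e : TensorProduct.rid A B (m.subtype.lTensor B w) = b := by rw [hw]; simp
    rw [← e]
    clear hw e
    induction w using TensorProduct.induction_on with
    | zero => simp
    | tmul c a => simp [Algebra.smul_def, Ideal.mul_mem_right, Ideal.mem_map_of_mem]
    | add x y hx hy => rw [map_add, map_add]; exact add_mem hx hy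
  · intro hb
    induction hb using Submodule.span_induction with
    | mem x hx =>
      obtain ⟨a, ha, rfl⟩ := hx
      rw [← map_mul, mul_comm, (htm a).2 ha, map_zero]
    | zero => simp
    | add x y _ _ hx hy => rw [mul_add, hx, hy, add_zero]
    | smul c x _ hx => rw [smul_eq_mul, mul_left_comm, hx, mul_zero]

/-- Let k be an algebraically closed field, A a local Artinian k-algebra with residue field k, and t a
nonzero element of the maximal ideal m_A annihilated by m_A, so that A → A/tA is a small extension.
Let B be a flat A-algebra (a deformation over A of its closed fibre B_0 = B/m_A B), and σ an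
A-algebra automorphism of B/tB inducing the identity on B_0. Fix an A-algebra automorphism τ of B
inducing σ (so τ induces the identity on B_0). Then the A-algebra automorphisms η of B inducing σ
correspond bijectively to the k-derivations d of B_0 through the rule η = τ + t·d, meaning η(b) =
τ(b) + t b′ for all b ∈ B and all b′ ∈ B lifting d applied to the image of b in B_0: every such η
determines a unique d, and every d comes from some such η. (The published statement phrases the
conclusion as a free and transitive action of Der_k(B_0, B_0) on the nonempty set of lifts of σ; the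
condition that σ induces the identity on B_0 is expressed here through the chosen lift τ.) -/
theorem result
    {k : Type u} [Field k] [IsAlgClosed k]
    {A : Type u} [CommRing A] [Algebra k A] [IsLocalRing A] [IsArtinianRing A]
    (hres : ∀ a : A, ∃ c : k, a - algebraMap k A c ∈ IsLocalRing.maximalIdeal A)
    (t : A) (ht : t ∈ IsLocalRing.maximalIdeal A) (ht0 : t ≠ 0)
    (htm : ∀ a ∈ IsLocalRing.maximalIdeal A, a * t = 0)
    {B : Type u} [CommRing B] [Algebra A B] [Module.Flat A B] [Algebra k B] [IsScalarTower k A B]
    (σ : (B ⧸ Ideal.span {algebraMap A B t}) ≃ₐ[A] (B ⧸ Ideal.span {algebraMap A B t}))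
    (τ : B ≃ₐ[A] B)
    (hτ : ∀ b : B, Ideal.Quotient.mk (Ideal.span {algebraMap A B t}) (τ b) =
      σ (Ideal.Quotient.mk (Ideal.span {algebraMap A B t}) b))
    (hτ0 : ∀ b : B, τ b - b ∈ (IsLocalRing.maximalIdeal A).map (algebraMap A B)) :
    (∀ η : B ≃ₐ[A] B, (∀ b : B, Ideal.Quotient.mk (Ideal.span {algebraMap A B t}) (η b) =
        σ (Ideal.Quotient.mk (Ideal.span {algebraMap A B t}) b)) →
      ∃! d : Derivation k (B ⧸ (IsLocalRing.maximalIdeal A).map (algebraMap A B))
          (B ⧸ (IsLocalRing.maximalIdeal A).map (algebraMap A B)),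
        ∀ b b' : B, Ideal.Quotient.mk ((IsLocalRing.maximalIdeal A).map (algebraMap A B)) b' =
            d (Ideal.Quotient.mk ((IsLocalRing.maximalIdeal A).map (algebraMap A B)) b) →
          η b = τ b + algebraMap A B t * b') ∧
    (∀ d : Derivation k (B ⧸ (IsLocalRing.maximalIdeal A).map (algebraMap A B))
        (B ⧸ (IsLocalRing.maximalIdeal A).map (algebraMap A B)),
      ∃ η : B ≃ₐ[A] B, (∀ b : B, Ideal.Quotient.mk (Ideal.span {algebraMap A B t}) (η b) =
          σ (Ideal.Quotient.mk (Ideal.span {algebraMap A B t}) b)) ∧
        ∀ b b' : B, Ideal.Quotient.mk ((IsLocalRing.maximalIdeal A).map (algebraMap A B)) b' =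
            d (Ideal.Quotient.mk ((IsLocalRing.maximalIdeal A).map (algebraMap A B)) b) →
          η b = τ b + algebraMap A B t * b') := by
  classical
  let N : Ideal B := (IsLocalRing.maximalIdeal A).map (algebraMap A B)
  let tB : B := algebraMap A B t
  let π := Ideal.Quotient.mk N
  have htt : t * t = 0 := htm t ht
  have hann : ∀ a : A, a * t = 0 ↔ a ∈ IsLocalRing.maximalIdeal A := fun a => by
    refine ⟨fun h => ?_, htm a⟩
    by_contra hu
    exact ht0 ((IsUnit.mul_right_eq_zero (IsLocalRing.notMem_maximalIdeal.1 hu)).1 h)
  have hz : ∀ b : B, tB * b = 0 ↔ b ∈ N := smul_eq_zero_iff t _ hann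
  have hcan : ∀ b c : B, tB * b = tB * c ↔ π b = π c := fun b c => by
    rw [Ideal.Quotient.eq, ← hz, mul_sub, sub_eq_zero]
  have hτπ : ∀ b, π (τ b) = π b := fun b => Ideal.Quotient.eq.2 (hτ0 b)
  have htB2 : tB * tB = 0 := by show algebraMap A B t * algebraMap A B t = 0; rw [← map_mul, htt, map_zero]
  refine ⟨fun η hη => ?_, fun d => ?_⟩
  · have hex : ∀ b, ∃ c, η b = τ b + tB * c := fun b => by
      obtain ⟨c, hc⟩ := Ideal.mem_span_singleton'.1 (Ideal.Quotient.eq.1 ((hη b).trans (hτ b).symm))
      exact ⟨c, by linear_combination -hc⟩
    choose β hβ using hex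
    have hadd : ∀ a b, π (β (a + b)) = π (β a) + π (β b) := fun a b => by
      rw [← map_add π, ← hcan]
      have := hβ (a + b)
      rw [map_add, map_add, hβ a, hβ b] at this
      linear_combination -this
    have hN : ∀ x ∈ N, π (β x) = 0 := by
      intro x hx
      induction hx using Submodule.span_induction with
      | mem x hx =>
        obtain ⟨a, ha, rfl⟩ := hx
        rw [← map_zero π, ← hcan, mul_zero]
        have := hβ (algebraMap A B a)
        rw [AlgEquiv.commutes, AlgEquiv.commutes] at this
        linear_combination -this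
      | zero =>
        rw [← map_zero π, ← hcan, mul_zero]
        have := hβ 0
        rw [map_zero, map_zero, zero_add] at this
        exact this.symm
      | add x y _ _ hx hy => rw [hadd, hx, hy, add_zero]
      | smul c x hxN hx =>
        rw [smul_eq_mul, ← map_zero π, ← hcan, mul_zero]
        have h1 := hβ (c * x)
        rw [map_mul, map_mul, hβ c, hβ x] at h1
        have h2 : tB * β x = 0 := by rw [hz, ← Ideal.Quotient.eq_zero_iff_mem]; exact hx
        have h3 : tB * τ x = 0 := by
          rw [hz, ← Ideal.Quotient.eq_zero_iff_mem]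
          exact (hτπ x).trans (Ideal.Quotient.eq_zero_iff_mem.2 hxN)
        linear_combination -h1 + (τ c + tB * β c) * h2 + β c * h3
    have hwd : ∀ a b, π a = π b → π (β a) = π (β b) := fun a b h => by
      have h1 := hadd (a - b) b
      rw [sub_add_cancel, hN _ (Ideal.Quotient.eq.1 h), zero_add] at h1
      exact h1
    have hmul : ∀ a b, π (β (a * b)) = π a * π (β b) + π b * π (β a) := fun a b => by
      rw [← hτπ a, ← hτπ b, ← map_mul, ← map_mul, ← map_add, ← hcan]
      have h1 := hβ (a * b)
      rw [map_mul, map_mul, hβ a, hβ b] at h1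
      linear_combination -h1 + β a * β b * htB2
    have hk : ∀ c : k, π (β (algebraMap k B c)) = 0 := fun c => by
      rw [← map_zero π, ← hcan, mul_zero]
      have := hβ (algebraMap A B (algebraMap k A c))
      rw [AlgEquiv.commutes, AlgEquiv.commutes, ← IsScalarTower.algebraMap_apply] at this
      linear_combination -this
    choose g hg using (Ideal.Quotient.mk_surjective (I := N))
    let D : Derivation k (B ⧸ N) (B ⧸ N) :=
      Derivation.mk'
        { toFun := fun x => π (β (g x))
          map_add' := fun x y => by
            rw [← hadd]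
            exact hwd _ _ (by rw [map_add]; exact (hg _).trans (by rw [hg, hg]))
          map_smul' := fun c x => by
            have h1 : π (g (c • x)) = π (algebraMap k B c * g x) := by
              rw [map_mul]
              exact (hg _).trans (by rw [hg]; exact Algebra.smul_def c x)
            rw [hwd _ _ h1, hmul, hk, mul_zero, add_zero, RingHom.id_apply]
            exact (Algebra.smul_def c (π (β (g x)))).symm }
        (fun x y => by
          show π (β (g (x * y))) = x • π (β (g y)) + y • π (β (g x))
          rw [hwd _ (g x * g y) (by rw [map_mul]; exact (hg _).trans (by rw [hg, hg])), hmul]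
          exact congrArg₂ (fun u v => u * π (β (g y)) + v * π (β (g x))) (hg x) (hg y))
    refine ⟨D, fun b b' hb => ?_, fun E hE => ?_⟩
    · rw [hβ b]
      congr 1
      refine ((hcan _ _).2 ?_).symm
      rw [show π b' = π (β (g (π b))) from hb]
      exact hwd _ _ (hg _)
    · ext x
      obtain ⟨b, rfl⟩ := Ideal.Quotient.mk_surjective x
      obtain ⟨b', hb'⟩ := Ideal.Quotient.mk_surjective (E (π b))
      show E (π b) = π (β (g (π b)))
      rw [← hb', ← hcan]
      have h1 := hE b b' hb'
      have h2 : tB * β (g (π b)) = tB * β b := (hcan _ _).2 (hwd _ _ (hg _))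
      linear_combination (hβ b) - h1 - h2
  · choose g hg using (Ideal.Quotient.mk_surjective (I := N))
    have hval : ∀ b b', π b' = d (π b) → τ b + tB * g (d (π b)) = τ b + tB * b' := fun b b' h => by
      rw [(hcan _ _).2 ((hg _).trans h.symm)]
    let η₀ : B →ₐ[A] B :=
      { toFun := fun b => τ b + tB * g (d (π b))
        map_one' := by rw [hval 1 0 (by simp), map_one, mul_zero, add_zero]
        map_zero' := by rw [hval 0 0 (by simp), map_zero, mul_zero, add_zero]
        map_add' := fun x y => by
          rw [hval (x + y) (g (d (π x)) + g (d (π y))) (by rw [map_add, map_add π, map_add d]; exact congrArg₂ (· + ·) (hg _) (hg _)), map_add]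
          ring
        map_mul' := fun x y => by
          rw [hval (x * y) (τ x * g (d (π y)) + τ y * g (d (π x))) (by
            rw [map_add, map_mul π, map_mul π, map_mul π, hτπ, hτπ, Derivation.leibniz]
            exact congrArg₂ (fun u v => π x * u + π y * v) (hg _) (hg _)), map_mul]
          linear_combination -(g (d (π x)) * g (d (π y))) * htB2
        commutes' := fun a => by
          obtain ⟨c, hc⟩ := hres a
          have : π (algebraMap A B a) = algebraMap k (B ⧸ N) c := by
            have h1 : π (algebraMap A B (a - algebraMap k A c)) = 0 :=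
              Ideal.Quotient.eq_zero_iff_mem.2 (Ideal.mem_map_of_mem _ hc)
            rw [map_sub, map_sub, sub_eq_zero, ← IsScalarTower.algebraMap_apply] at h1
            exact h1
          rw [hval _ 0 (by rw [map_zero, this, Derivation.map_algebraMap]), mul_zero, add_zero, AlgEquiv.commutes] }
    have hcong : ∀ b, η₀ (τ.symm b) - b ∈ Ideal.span {tB} := fun b => by
      show τ (τ.symm b) + tB * _ - b ∈ _
      rw [AlgEquiv.apply_symm_apply, add_sub_cancel_left]
      exact Ideal.mul_mem_right _ _ (Ideal.mem_span_singleton_self tB)
    have hbij := bijective_of_congr t htt (η₀.comp (τ.symm : B →ₐ[A] B)) hcong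
    have hb2 : Function.Bijective η₀ := by
      have := hbij.comp τ.bijective
      convert this using 1
      funext x
      simp
    refine ⟨AlgEquiv.ofBijective η₀ hb2, fun b => ?_, fun b b' h => hval b b' h⟩
    show Ideal.Quotient.mk _ (τ b + tB * g (d (π b))) = _
    rw [map_add, hτ, map_mul, Ideal.Quotient.eq_zero_iff_mem.2 (Ideal.mem_span_singleton_self tB), zero_mul, add_zero]

end Groth.Agent.S12498
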