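import Groth.Statements.S12509
import Groth.Agent.KExact.FilteredRpush
-- import your own Groth.Agent.* helpers here

set_option autoImplicit false
set_option linter.style.haveILetI false
set_option backward.isDefEq.respectTransparency false
set_option backward.isDefEq.respectTransparency.types false

universe u
attribute [local instance] HasDerivedCategory.standard
open CategoryTheory CategoryTheory.Limits AlgebraicGeometry
attribute [local instance] HasDerivedCategory.standard
open Perf

namespace Groth.Agent.S12509

open KFlatLib in
lemma isIso_app_colimit {C D : Type*} [Category C] [Category D] {J : Type*} [Category J]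
    {L L2 : C ⥤ D} (ψ : L ⟶ L2) (F : J ⥤ C) [HasColimit F]
    [PreservesColimit F L] [PreservesColimit F L2] (h : ∀ j, IsIso (ψ.app (F.obj j))) :
    IsIso (ψ.app (colimit F)) := by
  let e : F ⋙ L ≅ F ⋙ L2 :=
    NatIso.ofComponents (fun j => @asIso _ _ _ _ (ψ.app (F.obj j)) (h j)) fun g => ψ.naturality _
  let i := IsColimit.coconePointsIsoOfNatIso (isColimitOfPreserves L (colimit.isColimit F))
    (isColimitOfPreserves L2 (colimit.isColimit F)) e
  have hi : ψ.app (colimit F) = i.hom := by
    refine (isColimitOfPreserves L (colimit.isColimit F)).hom_ext fun j => ?_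
    have := IsColimit.comp_coconePointsIsoOfNatIso_hom (isColimitOfPreserves L (colimit.isColimit F))
      (isColimitOfPreserves L2 (colimit.isColimit F)) e j
    exact (ψ.naturality (colimit.ι F j)).trans this.symm
  rw [hi]
  infer_instance


/-- Let f : X ⟶ Y be a quasi-compact quasi-separated morphism of schemes for which the unbounded derived
direct image Rf_* exists, J a small filtered category and C : J ⥤ (cochain complexes of O_X-modules)
a diagram with colimit colim C in the category of complexes, such that for one fixed integer n every
C_j has cohomology sheaves vanishing below degree n. If for every j the canonical map f_* C_j ⟶ Rf_*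
C_j in D(O_Y) (the unit of the total right derived functor of f_* at C_j) is an isomorphism, then
the same map for colim C is an isomorphism. (The published corollary also allows, instead of the
uniform lower bound on cohomology, the hypothesis that every C_j has quasi-coherent cohomology
sheaves; this row states the bounded-below case.) -/
theorem result {X Y : Scheme.{u}} (f : X ⟶ Y) [QuasiCompact f]
    [QuasiSeparated f] [DCoh.HasRpush f] {J : Type u} [SmallCategory J] [IsFiltered J]
    (C : J ⥤ CochainComplex X.Modules ℤ) [HasColimit C] (n : ℤ) (hC : ∀ j : J, (DCoh.toD X (C.obj j)).IsGE n)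
    (hac : ∀ j : J, IsIso (((DCoh.pushKh f).totalRightDerivedUnit DerivedCategory.Qh
      (HomotopyCategory.quasiIso X.Modules (ComplexShape.up ℤ))).app
      ((HomotopyCategory.quotient X.Modules (ComplexShape.up ℤ)).obj (C.obj j)))) :
    IsIso (((DCoh.pushKh f).totalRightDerivedUnit DerivedCategory.Qh
      (HomotopyCategory.quasiIso X.Modules (ComplexShape.up ℤ))).app
      ((HomotopyCategory.quotient X.Modules (ComplexShape.up ℤ)).obj (colimit C))) := by
  rw [← KFlatLib.isIso_rpushUnit_iff]
  rw [DerivedCategory.isIso_iff]
  intro i
  let H := DerivedCategory.homologyFunctor Y.Modules i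
  let P := (Scheme.Modules.pushforward f).mapHomologicalComplex (ComplexShape.up ℤ)
  haveI := KExact.Filtered.preservesColimit_hd_rpush f C n hC i
  haveI := KExact.Filtered.preservesColimitsOfShape_pushforward (J := J) f
  haveI : PreservesColimitsOfShape J P :=
    ⟨fun {K} => ⟨fun {c} hc => ⟨HomologicalComplex.isColimitOfEval _ _ fun m =>
      isColimitOfPreserves (HomologicalComplex.eval X.Modules (ComplexShape.up ℤ) m ⋙
        Scheme.Modules.pushforward f) hc⟩⟩⟩
  haveI := FlatCxLib.preservesColimitsOfShape_complexHomology (C := Y.Modules) (J := J)
    (ComplexShape.up ℤ) i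
  haveI : PreservesColimitsOfShape J (P ⋙ DerivedCategory.Q ⋙ H) :=
    preservesColimitsOfShape_of_natIso
      (Functor.isoWhiskerLeft P (DerivedCategory.homologyFunctorFactors Y.Modules i).symm)
  let ψ : P ⋙ DerivedCategory.Q ⋙ H ⟶ DerivedCategory.Q ⋙ DCoh.Rpush f ⋙ H :=
    Functor.whiskerRight (KFlatLib.rpushUnit f) H
  refine isIso_app_colimit ψ C fun j => ?_
  haveI := (KFlatLib.isIso_rpushUnit_iff f (C.obj j)).2 (hac j)
  exact inferInstanceAs (IsIso (H.map ((KFlatLib.rpushUnit f).app (C.obj j))))
end Groth.Agent.S12509
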