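import Groth.Statements.S12515
import Groth.Agent.FFLib.Rational

set_option autoImplicit false
open FunFld Groth.Agent.FFLib WithZero

namespace Groth.Agent.S12515

/-- If `char k ≠ 2` and `K` has degree `2` over the rational function field `k(x)`, then `K = k(x)(y)`
for some `y` with `y² = f(x)`, `f` a squarefree polynomial over `k`. -/
theorem result (k K : Type*) [Field k] [Field K] (h2 : ringChar k ≠ 2)
    [Algebra (RatFunc k) K] (hdeg : Module.finrank (RatFunc k) K = 2) :
    ∃ (y : K) (f : Polynomial k), Squarefree f ∧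
      y ^ 2 = algebraMap (RatFunc k) K (algebraMap (Polynomial k) (RatFunc k) f) ∧
      IntermediateField.adjoin (RatFunc k) ({y} : Set K) = ⊤ := by
  classical
  have := Module.finite_of_finrank_eq_succ (R := RatFunc k) (M := K) (n := 1) hdeg
  obtain ⟨z, hz⟩ : ∃ z : K, z ∉ Set.range (algebraMap (RatFunc k) K) := by
    by_contra! h
    have e : RatFunc k ≃ₗ[RatFunc k] K := LinearEquiv.ofBijective (Algebra.linearMap (RatFunc k) K)
      ⟨(algebraMap (RatFunc k) K).injective, h⟩
    rw [← e.finrank_eq, Module.finrank_self] at hdeg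
    omega
  have hi : IsIntegral (RatFunc k) z := IsIntegral.of_finite _ _
  have hle := minpoly.natDegree_le (A := RatFunc k) z
  have h2' : (minpoly (RatFunc k) z).natDegree = 2 := by
    have := minpoly.two_le_natDegree_iff hi |>.mpr (by simpa using hz)
    omega
  set p := minpoly (RatFunc k) z with hp
  have hmon := minpoly.monic hi
  have hev := minpoly.aeval (RatFunc k) z
  rw [← hp, Polynomial.aeval_eq_sum_range, h2', Finset.sum_range_succ, Finset.sum_range_succ,
    Finset.sum_range_one] at hev
  have hc2 : p.coeff 2 = 1 := h2' ▸ hmon.coeff_natDegree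
  simp only [hc2, pow_zero, pow_one, Algebra.smul_def, mul_one, map_one, one_mul] at hev
  set b := p.coeff 1
  set c := p.coeff 0
  have h20 : (2 : k) ≠ 0 := Ring.two_ne_zero h2
  have h2R : (2 : RatFunc k) ≠ 0 := fun h => h20 ((algebraMap k (RatFunc k)).injective (by
    rw [map_ofNat, map_zero, h]))
  let G : RatFunc k := b ^ 2 - 4 * c
  let w : K := 2 * z + algebraMap (RatFunc k) K b
  have hw2 : w ^ 2 = algebraMap (RatFunc k) K G := by
    simp only [w, G, map_sub, map_pow, map_mul, map_ofNat]
    linear_combination 4 * hev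
  have hw : w ∉ Set.range (algebraMap (RatFunc k) K) := by
    rintro ⟨r, hr⟩
    refine hz ⟨(r - b) / 2, ?_⟩
    have : (2 : K) ≠ 0 := fun h => h2R ((algebraMap (RatFunc k) K).injective (by
      rw [map_ofNat, map_zero, h]))
    rw [map_div₀, map_sub, map_ofNat, hr]
    field_simp
    simp [w]
  -- squarefree part
  have hdec : ∀ (n : ℕ) (q : Polynomial k), q.natDegree ≤ n → q ≠ 0 →
      ∃ f s : Polynomial k, Squarefree f ∧ q = s ^ 2 * f := by
    intro n
    induction n using Nat.strong_induction_on with
    | _ n ih =>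
      intro q hq hq0
      by_cases hsq : Squarefree q
      · exact ⟨q, 1, hsq, by simp⟩
      · simp only [Squarefree, not_forall] at hsq
        obtain ⟨u, ⟨r, hr⟩, hu⟩ := hsq
        have hu0 : u ≠ 0 := fun h => hq0 (by simp [hr, h])
        have hr0 : r ≠ 0 := fun h => hq0 (by simp [hr, h])
        have hud : 0 < u.natDegree := by
          by_contra h
          exact hu (Polynomial.isUnit_iff_degree_eq_zero.mpr (by
            rw [Polynomial.degree_eq_natDegree hu0]; simp; omega))
        have hdeg' : q.natDegree = u.natDegree + u.natDegree + r.natDegree := by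
          rw [hr, Polynomial.natDegree_mul (mul_ne_zero hu0 hu0) hr0,
            Polynomial.natDegree_mul hu0 hu0]
        obtain ⟨f, s, hf, hfs⟩ := ih r.natDegree (by omega) r le_rfl hr0
        exact ⟨f, u * s, hf, by rw [hr, hfs]; ring⟩
  have hG0 : G ≠ 0 := fun h => hw ⟨0, by
    rw [h, map_zero] at hw2
    rw [map_zero, eq_zero_of_pow_eq_zero hw2]⟩
  have hd0 : algebraMap (Polynomial k) (RatFunc k) G.denom ≠ 0 := by
    simp [RatFunc.denom_ne_zero]
  obtain ⟨f, s, hf, hfs⟩ := hdec _ (G.num * G.denom) le_rfl
    (mul_ne_zero (RatFunc.num_ne_zero hG0) (RatFunc.denom_ne_zero G))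
  have hs0 : algebraMap (Polynomial k) (RatFunc k) s ≠ 0 := by
    intro h
    have : s = 0 := by simpa using h
    rw [this] at hfs
    simp [RatFunc.num_ne_zero hG0, RatFunc.denom_ne_zero G] at hfs
  set r : RatFunc k := algebraMap (Polynomial k) (RatFunc k) G.denom /
    algebraMap (Polynomial k) (RatFunc k) s
  have hr0 : r ≠ 0 := div_ne_zero hd0 hs0
  refine ⟨w * algebraMap (RatFunc k) K r, f, hf, ?_, ?_⟩
  · rw [mul_pow, hw2, ← map_pow, ← map_mul]
    congr 1
    have hG := RatFunc.num_div_denom G
    have hfs' := congrArg (algebraMap (Polynomial k) (RatFunc k)) hfs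
    rw [map_mul, map_mul, map_pow] at hfs'
    simp only [r]
    field_simp
    have hN := (div_eq_iff hd0).mp hG
    linear_combination hfs' - algebraMap (Polynomial k) (RatFunc k) G.denom * hN
  · set y := w * algebraMap (RatFunc k) K r
    have hy : y ∉ Set.range (algebraMap (RatFunc k) K) := by
      rintro ⟨q, hq⟩
      refine hw ⟨q / r, ?_⟩
      rw [map_div₀, hq, mul_div_cancel_right₀ _ (by simpa using hr0)]
    have hyi : IsIntegral (RatFunc k) y := IsIntegral.of_finite _ _
    refine IntermediateField.eq_of_le_of_finrank_le le_top ?_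
    rw [IntermediateField.finrank_top', hdeg, IntermediateField.adjoin.finrank hyi]
    exact minpoly.two_le_natDegree_iff hyi |>.mpr (by simpa using hy)

end Groth.Agent.S12515
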