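import Groth.Statements.S12516
import Groth.Agent.FFLib.Quadratic

set_option autoImplicit false
open Groth.Agent
open FunFld

namespace Groth.Agent.S12516

/-- Let `char k ≠ 2`, `K` of degree `2` over `k(x)`, `y ∈ K` with `y² = f(x)` for a squarefree
polynomial `f` of degree `≥ 1`, and `P∞` the place of `k(x)` at which `x` has a pole. If `deg f` is
odd there is a unique place of `K` above `P∞`; it has ramification index `2` and degree `1`. If `deg
f` is even, every place of `K` above `P∞` is unramified and the conorm of `P∞` has degree `2` (so it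
is one place of degree `2` or the sum of two places of degree `1`). -/
theorem result (k K : Type*) [Field k] [Field K] (h2 : ringChar k ≠ 2) [Algebra k K]
    [Algebra (RatFunc k) K] [IsScalarTower k (RatFunc k) K]
    (hdeg : Module.finrank (RatFunc k) K = 2) (y : K) (f : Polynomial k) (hf : Squarefree f)
    (hd : 1 ≤ f.natDegree)
    (heq : y ^ 2 = algebraMap (RatFunc k) K (algebraMap (Polynomial k) (RatFunc k) f))
    (Pinf : FunFld.Place k (RatFunc k)) (hinf : Pinf.ord (RatFunc.X : RatFunc k) < 0) :
    (Odd f.natDegree → (∃! P : FunFld.Place k K, FunFld.IsOver P Pinf) ∧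
      ∀ P : FunFld.Place k K, FunFld.IsOver P Pinf → FunFld.IsOverWith P Pinf 2 ∧ P.deg = 1) ∧
    (Even f.natDegree → (FunFld.conorm K (Finsupp.single Pinf 1)).deg = 2 ∧
      ∀ P : FunFld.Place k K, FunFld.IsOver P Pinf → FunFld.IsOverWith P Pinf 1) := by
  classical
  have hF := FFLib.isFF_ratFunc k
  have h2F : (2 : RatFunc k) ≠ 0 := by
    rw [← map_ofNat (algebraMap k (RatFunc k)) 2]
    exact (map_ne_zero _).mpr (Ring.two_ne_zero h2)
  obtain ⟨hX, hdeg1, hord⟩ := FFLib.ratFunc_infinity Pinf hinf
  have hf0 : f ≠ 0 := hf.ne_zero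
  constructor
  · intro hodd
    obtain ⟨h1, h2'⟩ := FFLib.ramified_of_odd hF hdeg (P := Pinf) fun Q e he =>
      ⟨Q.ord y, -(f.natDegree : ℤ), ((Int.odd_coe_nat _).mpr hodd).neg, by
        have h3 := FFLib.ord_pow Q y 2
        rw [heq, FFLib.ord_over he, hord f hf0] at h3
        push_cast at h3
        linarith⟩
    exact ⟨h1, fun P hP => ⟨(h2' P hP).1, (h2' P hP).2.trans hdeg1⟩⟩
  · intro hev
    have : FiniteDimensional (RatFunc k) K := Module.finite_of_finrank_eq_succ hdeg
    refine ⟨?_, fun P hP => ?_⟩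
    · rw [FFLib.deg_conorm hF, FFLib.Divisor.deg_single, hdeg, hdeg1]; norm_num
    refine FFLib.unramified_of_sq hF hdeg h2F heq ?_ ?_ hP
    · rintro ⟨g, rfl⟩
      rw [← map_pow] at heq
      have hg := (algebraMap (RatFunc k) K).injective heq
      obtain ⟨q, hq⟩ := IsIntegrallyClosed.algebraMap_eq_of_integral
        (IsIntegral.of_pow (R := Polynomial k) (x := g) two_pos (hg ▸ isIntegral_algebraMap))
      rw [← hq, ← map_pow] at hg
      have hgq := IsFractionRing.injective (Polynomial k) (RatFunc k) hg
      have hu := hf q ⟨1, by rw [mul_one, ← hgq, sq]⟩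
      rw [← hgq, Polynomial.natDegree_pow, Polynomial.natDegree_eq_zero_of_isUnit hu] at hd
      omega
    · rw [hord f hf0]; exact ((Int.even_coe_nat _).mpr hev).neg

end Groth.Agent.S12516
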