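import Groth.Statements.S12517
import Groth.Agent.FFLib.Rational

set_option autoImplicit false
open FunFld Groth.Agent.FFLib WithZero

namespace Groth.Agent.S12517

/-- If `k` is perfect of characteristic `2` and `K` is a separable extension of degree `2` of the
rational function field `k(x)`, then `K = k(x)(y)` for some `y` with `y² + y = f(x)`, `f ∈ k(x)`.
The correspondence between such extensions and cosets of `{a² + a}` in `k(x)` is not stated. -/
theorem result (k K : Type*) [Field k] [Field K] [PerfectField k]
    (h2 : ringChar k = 2) [Algebra (RatFunc k) K] (hdeg : Module.finrank (RatFunc k) K = 2)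
    [Algebra.IsSeparable (RatFunc k) K] :
    ∃ (y : K) (f : RatFunc k), y ^ 2 + y = algebraMap (RatFunc k) K f ∧
      IntermediateField.adjoin (RatFunc k) ({y} : Set K) = ⊤ := by
  classical
  have := Module.finite_of_finrank_eq_succ (R := RatFunc k) (M := K) (n := 1) hdeg
  obtain ⟨z, hz⟩ : ∃ z : K, z ∉ Set.range (algebraMap (RatFunc k) K) := by
    by_contra! h
    have e : RatFunc k ≃ₗ[RatFunc k] K := LinearEquiv.ofBijective (Algebra.linearMap (RatFunc k) K)
      ⟨(algebraMap (RatFunc k) K).injective, h⟩
    rw [← e.finrank_eq, Module.finrank_self] at hdeg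
    omega
  have hi : IsIntegral (RatFunc k) z := IsIntegral.of_finite _ _
  have hle := minpoly.natDegree_le (A := RatFunc k) z
  have h2' : (minpoly (RatFunc k) z).natDegree = 2 := by
    have := minpoly.two_le_natDegree_iff hi |>.mpr (by simpa using hz)
    omega
  set p := minpoly (RatFunc k) z with hp
  have hmon := minpoly.monic hi
  have hev := minpoly.aeval (RatFunc k) z
  rw [← hp, Polynomial.aeval_eq_sum_range, h2', Finset.sum_range_succ, Finset.sum_range_succ,
    Finset.sum_range_one] at hev
  have hc2 : p.coeff 2 = 1 := h2' ▸ hmon.coeff_natDegree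
  simp only [hc2, pow_zero, pow_one, Algebra.smul_def, mul_one, map_one, one_mul] at hev
  have hb : p.coeff 1 ≠ 0 := by
    intro hb
    have hsep : p.Separable := Algebra.IsSeparable.isSeparable (RatFunc k) z
    have hder : Polynomial.derivative p = 0 := by
      have hchar : (2 : RatFunc k) = 0 := by
        have h20 : (2 : k) = 0 := by
          have := ringChar.Nat.cast_ringChar (R := k); rw [h2] at this; exact_mod_cast this
        have := congrArg (algebraMap k (RatFunc k)) h20
        rwa [map_ofNat, map_zero] at this
      ext i
      rw [Polynomial.coeff_derivative, Polynomial.coeff_zero]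
      rcases i with _ | _ | i
      · simp [hb]
      · simp only [zero_add, hc2, one_mul, Nat.cast_one]
        rw [← hchar]; norm_num
      · rw [Polynomial.coeff_eq_zero_of_natDegree_lt (by omega), zero_mul]
    rw [Polynomial.separable_def, hder, isCoprime_zero_right] at hsep
    have := Polynomial.natDegree_eq_zero_of_isUnit hsep
    omega
  set b := p.coeff 1
  set c := p.coeff 0
  refine ⟨z / algebraMap (RatFunc k) K b, -c / b ^ 2, ?_, ?_⟩
  · have hb' : algebraMap (RatFunc k) K b ≠ 0 := by simpa using hb
    rw [map_div₀, map_neg, map_pow]
    field_simp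
    linear_combination hev
  · set y := z / algebraMap (RatFunc k) K b
    have hy : y ∉ Set.range (algebraMap (RatFunc k) K) := by
      rintro ⟨r, hr⟩
      refine hz ⟨r * b, ?_⟩
      rw [map_mul, hr, div_mul_cancel₀ _ (by simpa using hb)]
    have hyi : IsIntegral (RatFunc k) y := IsIntegral.of_finite _ _
    refine IntermediateField.eq_of_le_of_finrank_le le_top ?_
    rw [IntermediateField.finrank_top', hdeg, IntermediateField.adjoin.finrank hyi]
    exact minpoly.two_le_natDegree_iff hyi |>.mpr (by simpa using hy)

end Groth.Agent.S12517
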