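import Groth.Statements.S12518
import Groth.Agent.FFLib.Quad.Reduce
import Groth.Agent.S12517

set_option autoImplicit false
open Groth.Agent
open FunFld

namespace Groth.Agent.S12518

/-- If `k` is perfect of characteristic `2` and `K` is a separable extension of degree `2` of `k(x)`,
then `K = k(x)(y)` for some `y` with `y² + y = f(x)` such that every pole of `f`, at any place of
`k(x)/k` including the infinite one, has odd order. -/
theorem result (k K : Type*) [Field k] [Field K] [PerfectField k] (h2 : ringChar k = 2)
    [Algebra k K] [Algebra (RatFunc k) K] [IsScalarTower k (RatFunc k) K]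
    (hdeg : Module.finrank (RatFunc k) K = 2) [Algebra.IsSeparable (RatFunc k) K] :
    ∃ (y : K) (f : RatFunc k), y ^ 2 + y = algebraMap (RatFunc k) K f ∧
      IntermediateField.adjoin (RatFunc k) ({y} : Set K) = ⊤ ∧
      ∀ P : FunFld.Place k (RatFunc k), P.ord f < 0 → Odd (P.ord f) := by
  haveI : CharP k 2 := h2 ▸ ringChar.charP k
  obtain ⟨y, f, heq, htop⟩ := S12517.result k K h2 hdeg
  obtain ⟨h, hh⟩ := FFLib.exists_odd_poles (FFLib.isFunctionField_ratFunc k) (FFLib.genus_ratFunc k) f
  have h20 : (2 : K) = 0 := by
    rw [← map_ofNat (algebraMap k K) 2, show (2 : k) = 0 from by exact_mod_cast CharP.cast_eq_zero k 2, map_zero]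
  refine ⟨y + algebraMap (RatFunc k) K h, f + h ^ 2 + h, ?_, ?_, hh⟩
  · simp only [map_add, map_pow, ← heq]
    linear_combination (y * algebraMap (RatFunc k) K h) * h20
  · refine eq_top_iff.mpr (htop.ge.trans (IntermediateField.adjoin_simple_le_iff.mpr ?_))
    have h1 := sub_mem (IntermediateField.mem_adjoin_simple_self (RatFunc k) (y + algebraMap (RatFunc k) K h))
      (IntermediateField.algebraMap_mem (IntermediateField.adjoin (RatFunc k) ({y + algebraMap (RatFunc k) K h} : Set K)) h)
    simpa using h1

end Groth.Agent.S12518
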