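import Groth.Statements.S12519
import Groth.Agent.FFLib.Quadratic

set_option autoImplicit false
open Groth.Agent
open FunFld

namespace Groth.Agent.S12519

/-- Let `k` be perfect of characteristic `2`, `K` separable of degree `2` over `k(x)`, and `y ∈ K \
k(x)` with `y² + y = f(x)`. At a place `p` of `k(x)/k` where `f` has a pole of odd order there is a
unique place `P` of `K` above `p`, with `e(P|p) = 2` and `deg P = deg p` (residue degree `1`); at a
place where `f` has no pole, every place of `K` above it is unramified. The different is not stated. -/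
theorem result (k K : Type*) [Field k] [Field K] [PerfectField k] (h2 : ringChar k = 2)
    [Algebra k K] [Algebra (RatFunc k) K] [IsScalarTower k (RatFunc k) K]
    (hdeg : Module.finrank (RatFunc k) K = 2) [Algebra.IsSeparable (RatFunc k) K]
    (y : K) (hy : y ∉ Set.range (algebraMap (RatFunc k) K))
    (f : RatFunc k) (heq : y ^ 2 + y = algebraMap (RatFunc k) K f)
    (P₀ : FunFld.Place k (RatFunc k)) :
    ((P₀.ord f < 0 ∧ Odd (P₀.ord f)) → (∃! P : FunFld.Place k K, FunFld.IsOver P P₀) ∧
      ∀ P : FunFld.Place k K, FunFld.IsOver P P₀ → FunFld.IsOverWith P P₀ 2 ∧ P.deg = P₀.deg) ∧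
    (0 ≤ P₀.ord f → ∀ P : FunFld.Place k K, FunFld.IsOver P P₀ → FunFld.IsOverWith P P₀ 1) := by
  have hF := FFLib.isFF_ratFunc k
  have h2F : (2 : RatFunc k) = 0 := by
    have : ((2 : ℕ) : k) = 0 := (ringChar.spec k 2).mpr (by rw [h2])
    rw [← map_ofNat (algebraMap k (RatFunc k)) 2, show (OfNat.ofNat 2 : k) = 0 from this, map_zero]
  refine ⟨fun ⟨hneg, hodd⟩ => ?_, fun hf P hP => ?_⟩
  · refine FFLib.ramified_of_odd hF hdeg fun Q e he => ⟨Q.ord y, P₀.ord f, hodd, ?_⟩
    have : FiniteDimensional (RatFunc k) K := Module.finite_of_finrank_eq_succ hdeg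
    rw [← FFLib.ord_over he]
    refine FFLib.ord_as heq ?_
    rw [FFLib.ord_over he]
    have := FFLib.over_pos hF he
    exact mul_neg_of_pos_of_neg (by omega) hneg
  · refine FFLib.unramified_of_as hF hdeg h2F heq hy ?_ hP
    rcases eq_or_ne f 0 with rfl | hf0
    · simp
    · exact (FFLib.val_le_one_iff P₀ hf0).mpr hf

end Groth.Agent.S12519
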