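import Groth.Statements.S1252
import Groth.Agent.RG.DevExists

set_option autoImplicit false
universe u
open FlatMor

namespace Groth.Agent.S1252

/-- Existence of a complete dévissage after étale localization, in affine algebraic form. Let S be a
finite type R-algebra, N a finite S-module, p a prime of R and q a prime of S over p such that the
point of the fibre ring S ⊗_R κ(p) given by q lies in the support of the fibre module N ⊗_R κ(p) (a
condition the published statement leaves implicit). Then there are an étale R-algebra R' with a
prime p' over p and an étale S-algebra S' with a prime q' over q, both with trivial residue field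
extensions, and a compatible R'-algebra structure on S' with q' lying over p', such that for the
base change N' of N to S' (any module N' with an S-linear map N → N' exhibiting it as the base
change), N'/S'/R' admits a complete dévissage at q' (FlatCA.HasCompleteDevissageAt). -/
theorem result {R S : Type u} [CommRing R] [CommRing S] [Algebra R S] [Algebra.FiniteType R S]
    (N : Type u) [AddCommGroup N] [Module S N] [Module R N] [IsScalarTower R S N] [Module.Finite S N]
    (p : Ideal R) [p.IsPrime] (q : Ideal S) [q.IsPrime] [q.LiesOver p]
    (hsupp : ∃ x ∈ Module.support (p.Fiber S) (FlatCA.fiberMod p S N), x.asIdeal = FlatCA.fiberIdeal p q) :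
    ∃ (R' S' : Type u) (_ : CommRing R') (_ : CommRing S') (_ : Algebra R R') (_ : Algebra S S') (_ : Algebra R' S')
      (_ : Algebra R S') (_ : IsScalarTower R R' S') (_ : IsScalarTower R S S')
      (p' : Ideal R') (q' : Ideal S') (_ : p'.IsPrime) (_ : q'.IsPrime),
      FlatCA.IsEtaleNhd R R' p p' ∧ FlatCA.IsEtaleNhd S S' q q' ∧ q'.LiesOver p' ∧
      ∀ (N' : Type u) [AddCommGroup N'] [Module S' N'] [Module S N'] [IsScalarTower S S' N']
        (f : N →ₗ[S] N'), IsBaseChange S' f → FlatCA.HasCompleteDevissageAt R' S' N' p' q' := by
  obtain ⟨R', S', _, _, _, _, _, _, _, _, p', q', _, _, hR, hS, ho, hdev⟩ := RG.devAfterEtale N p q hsupp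
  refine ⟨R', S', inferInstance, inferInstance, inferInstance, inferInstance, inferInstance, inferInstance,
    inferInstance, inferInstance, p', q', inferInstance, inferInstance, hR, hS, ho, ?_⟩
  intro N' _ _ _ _ f hf
  exact (hdev.congr hf.equiv.symm).has

end Groth.Agent.S1252
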