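import Groth.Statements.S12520
import Groth.Agent.FFLib.Geometric

set_option autoImplicit false
open Groth.Agent
universe u v
open FunFld

namespace Groth.Agent.S12520

/-- For a geometric function field of one variable `K/k` of characteristic `p > 0` and a geometric
function field `K₀/k₀` with `K₀ ⊆ K` of finite index (and `k₀ ⊆ k` compatibly), the map `Ω_{K₀/k₀} →
Ω_{K/k}` induced by the inclusion vanishes when `K₀ ⊆ kK^p` and is injective otherwise. -/
theorem result (k₀ k : Type u) (K₀ K : Type v) [Field k₀] [Field k] [Field K₀] [Field K]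
    [Algebra k₀ k] [Algebra k₀ K₀] [Algebra k₀ K] [Algebra k K] [Algebra K₀ K]
    [IsScalarTower k₀ k K] [IsScalarTower k₀ K₀ K] [FiniteDimensional K₀ K]
    (p : ℕ) [Fact p.Prime] [CharP K p]
    (hK : FunFld.IsFunctionField k K) (hg : FunFld.IsGeometric k K)
    (hK₀ : FunFld.IsFunctionField k₀ K₀) (hg₀ : FunFld.IsGeometric k₀ K₀) :
    (Set.range (algebraMap K₀ K) ⊆ ↑(IntermediateField.adjoin k (Set.range fun y : K => y ^ p)) →
      KaehlerDifferential.map k₀ k K₀ K = 0) ∧
    (¬ Set.range (algebraMap K₀ K) ⊆ ↑(IntermediateField.adjoin k (Set.range fun y : K => y ^ p)) →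
      Function.Injective (KaehlerDifferential.map k₀ k K₀ K)) := by
  classical
  haveI : CharP K₀ p := (algebraMap K₀ K).charP (algebraMap K₀ K).injective p
  obtain ⟨x₀, hx₀, hsep₀⟩ := FFLib.exists_separating_element hK₀ hg₀
  obtain ⟨b, hb⟩ := FFLib.exists_basis_D hK₀ hx₀ hsep₀
  obtain ⟨x, hx, hsep⟩ := FFLib.exists_separating_element hK hg
  obtain ⟨-, -, hker⟩ := FFLib.powField_facts p hK hx hsep
  refine ⟨fun hsub => b.ext fun i => ?_, fun hnot => ?_⟩
  · rw [Fin.fin_one_eq_zero i, hb, KaehlerDifferential.map_D, LinearMap.zero_apply]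
    exact FFLib.D_eq_zero_of_mem p (hsub ⟨x₀, rfl⟩)
  · have hne : KaehlerDifferential.map k₀ k K₀ K (b 0) ≠ 0 := by
      intro h0
      apply hnot
      rintro _ ⟨a, rfl⟩
      refine hker _ ?_
      rw [← KaehlerDifferential.map_D k₀ k K₀ K, ← b.sum_repr (KaehlerDifferential.D k₀ K₀ a),
        Fin.sum_univ_one, map_smul, h0, smul_zero]
    rw [← LinearMap.ker_eq_bot, eq_bot_iff]
    intro w hw
    rw [LinearMap.mem_ker, ← b.sum_repr w, Fin.sum_univ_one, map_smul, ← algebraMap_smul K,
      smul_eq_zero] at hw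
    have h1 : b.repr w 0 = 0 := (map_eq_zero _).mp (hw.resolve_right hne)
    rw [Submodule.mem_bot, ← b.sum_repr w, Fin.sum_univ_one, h1, zero_smul]

end Groth.Agent.S12520
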