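import Groth.Statements.S12524
import Mathlib

set_option autoImplicit false
universe u v
open CAlg

namespace Groth.Agent.S12524

open IsLocalRing in
/-- Let `A` be a complete discrete valuation ring with maximal ideal `m`, containing a field `K` such
that `K → A → A/m` is bijective (a coefficient field), and let `x` be any generator of `m`. Then the
`K`-algebra map `K[X] → A`, `X ↦ x`, extends to a bijective `K`-algebra map `φ : K⟦X⟧ → A`,
characterised by `φ(∑ aᵢ Xⁱ) ≡ ∑_{i<n} aᵢ xⁱ (mod mⁿ)` for every `n`. -/
theorem result (K : Type u) (A : Type v) [Field K]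
    [CommRing A] [IsDomain A] [IsDiscreteValuationRing A] [Algebra K A]
    [IsAdicComplete (maximalIdeal A) A]
    (hK : Function.Bijective ((residue A).comp (algebraMap K A)))
    (x : A) (hx : maximalIdeal A = Ideal.span {x}) :
    ∃ φ : PowerSeries K →ₐ[K] A, φ PowerSeries.X = x ∧ Function.Bijective φ ∧
      ∀ (f : PowerSeries K) (n : ℕ),
        φ f - (Finset.range n).sum (fun i => algebraMap K A (PowerSeries.coeff i f) * x ^ i) ∈
          maximalIdeal A ^ n := by
  have hxm : ∀ n : ℕ, x ^ n ∈ maximalIdeal A ^ n := fun n => Ideal.pow_mem_pow (by rw [hx]; exact Ideal.mem_span_singleton_self x) n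
  let ev : Polynomial K →ₐ[K] A := Polynomial.aeval x
  have hkey : ∀ (n : ℕ) (P Q : Polynomial K), (∀ i < n, P.coeff i = Q.coeff i) →
      ev P - ev Q ∈ maximalIdeal A ^ n := by
    intro n P Q h
    obtain ⟨T, hT⟩ : (Polynomial.X : Polynomial K) ^ n ∣ P - Q :=
      Polynomial.X_pow_dvd_iff.2 fun i hi => by rw [Polynomial.coeff_sub, h i hi, sub_self]
    rw [← map_sub, hT, map_mul, map_pow]
    refine Ideal.mul_mem_right _ _ ?_
    simpa [ev] using hxm n
  let f : (n : ℕ) → PowerSeries K →+* A ⧸ maximalIdeal A ^ n := fun n =>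
    { toFun := fun s => Ideal.Quotient.mk _ (ev (PowerSeries.trunc n s))
      map_one' := by
        rw [← map_one (Ideal.Quotient.mk (maximalIdeal A ^ n)), Ideal.Quotient.eq, ← map_one ev]
        exact hkey n _ _ fun i hi => by simp [PowerSeries.coeff_trunc, hi, Polynomial.coeff_one, PowerSeries.coeff_one]
      map_mul' := fun s t => by
        rw [← map_mul, Ideal.Quotient.eq, ← map_mul]
        refine hkey n _ _ fun i hi => ?_
        rw [← PowerSeries.trunc_trunc_mul_trunc, PowerSeries.coeff_trunc, if_pos hi,
          ← Polynomial.coe_mul, Polynomial.coeff_coe]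
      map_zero' := by simp
      map_add' := fun s t => by simp }
  have hf : ∀ {a b : ℕ} (hle : a ≤ b), (Ideal.Quotient.factorPow (maximalIdeal A) hle).comp (f b) = f a := by
    intro a b hle
    refine RingHom.ext fun s => ?_
    change Ideal.Quotient.mk _ _ = Ideal.Quotient.mk _ _
    rw [Ideal.Quotient.eq]
    exact hkey a _ _ fun i hi => by simp [PowerSeries.coeff_trunc, hi, hi.trans_le hle]
  let φ₀ : PowerSeries K →+* A := IsAdicComplete.liftRingHom (maximalIdeal A) f hf
  have hφ : ∀ s n, φ₀ s - ev (PowerSeries.trunc n s) ∈ maximalIdeal A ^ n := fun s n => by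
    rw [← Ideal.Quotient.eq, IsAdicComplete.mk_liftRingHom]
    rfl
  have hlim : ∀ a b : A, (∀ n, a - b ∈ maximalIdeal A ^ n) → a = b := fun a b h =>
    sub_eq_zero.1 (IsHausdorff.haus (I := maximalIdeal A) inferInstance _ fun n => by
      rw [SModEq.zero, Ideal.smul_eq_mul, Ideal.mul_top]; exact h n)
  have hC : ∀ c : K, φ₀ (algebraMap K (PowerSeries K) c) = algebraMap K A c := fun c => by
    refine hlim _ _ fun n => ?_
    rcases n with _ | n
    · simp
    · have := hφ (algebraMap K (PowerSeries K) c) (n + 1)
      rw [PowerSeries.algebraMap_apply, Algebra.algebraMap_self, RingHom.id_apply, PowerSeries.trunc_C] at this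
      simpa [ev, PowerSeries.algebraMap_apply] using this
  let φ : PowerSeries K →ₐ[K] A := { φ₀ with commutes' := hC }
  have hX : φ PowerSeries.X = x := by
    refine hlim _ _ fun n => ?_
    have h2 := Ideal.pow_le_pow_right (show n ≤ n + 2 by omega) (hφ PowerSeries.X (n + 2))
    rw [PowerSeries.trunc_X] at h2
    simp only [ev, Polynomial.aeval_X] at h2
    exact h2
  have hev : ∀ (s : PowerSeries K) (n : ℕ), ev (PowerSeries.trunc n s) =
      (Finset.range n).sum (fun i => algebraMap K A (PowerSeries.coeff i s) * x ^ i) := fun s n => by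
    induction n with
    | zero => simp
    | succ n ih =>
      rw [PowerSeries.trunc_succ, map_add, ih, Finset.sum_range_succ]
      simp [ev]
  refine ⟨φ, hX, ⟨?_, ?_⟩, fun s n => hev s n ▸ hφ s n⟩
  · rw [injective_iff_map_eq_zero]
    intro s hs
    by_contra h0
    obtain ⟨u, hu⟩ : ∃ u : (PowerSeries K)ˣ, s = PowerSeries.X ^ s.order.toNat * (u : PowerSeries K) :=
      ⟨PowerSeries.Unit_of_divided_by_X_pow_order s, by
        rw [PowerSeries.Unit_of_divided_by_X_pow_order_nonzero h0, PowerSeries.X_pow_order_mul_divXPowOrder]⟩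
    rw [hu, map_mul, map_pow, hX] at hs
    rcases mul_eq_zero.1 hs with h | h
    · have hx0 : x = 0 := pow_eq_zero_iff'.1 h |>.1
      exact IsDiscreteValuationRing.not_isField A (isField_iff_maximalIdeal_eq.2 (by rw [hx, hx0]; simp))
    · exact (u.isUnit.map φ).ne_zero h
  · intro a
    have hdec : ∀ b : A, ∃ (c : K) (b' : A), b = algebraMap K A c + x * b' := by
      intro b
      obtain ⟨c, hc⟩ := hK.2 (residue A b)
      have : b - algebraMap K A c ∈ maximalIdeal A := by
        rw [← residue_eq_zero_iff, map_sub, ← RingHom.comp_apply, hc, sub_self]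
      rw [hx, Ideal.mem_span_singleton'] at this
      obtain ⟨b', hb'⟩ := this
      exact ⟨c, b', by rw [mul_comm, hb']; ring⟩
    choose c b' hdec using hdec
    let rem : ℕ → A := fun n => b'^[n] a
    let s : PowerSeries K := PowerSeries.mk fun n => c (rem n)
    refine ⟨s, hlim _ _ fun n => ?_⟩
    have hsum : ∀ n, a = (Finset.range n).sum (fun i => algebraMap K A (c (rem i)) * x ^ i) + x ^ n * rem n := by
      intro n
      induction n with
      | zero => simp [rem]
      | succ n ih =>
        rw [Finset.sum_range_succ]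
        conv_lhs => rw [ih, hdec (rem n)]
        simp only [rem, Function.iterate_succ_apply']
        ring
    have h1 := hφ s n
    rw [hev] at h1
    simp only [s, PowerSeries.coeff_mk] at h1
    have h2 : φ s - a = (φ₀ s - (Finset.range n).sum (fun i => algebraMap K A (c (rem i)) * x ^ i)) - x ^ n * rem n := by
      conv_lhs => rw [hsum n]
      rw [sub_add_eq_sub_sub]; rfl
    rw [h2]
    exact Ideal.sub_mem _ h1 (Ideal.mul_mem_right _ _ (hxm n))

end Groth.Agent.S12524
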