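import Groth.Statements.S12526
import Groth.Agent.FFLib.Diff.Nonsing

set_option autoImplicit false
open Groth.Agent
universe u v
open FunFld

namespace Groth.Agent.S12526

/-- Let `K/k` be a geometric function field of one variable, `P` a place of `K`, `k'/k` finite and `K' =
k' ⊗_k K`; let `R` be the integral closure of `O_P` in `K'` and `R̃ = k' ⊗_k O_P = O_P[k']`. Then
`R/R̃` is finite-dimensional over `k`, and `R̃` contains a nonzero ideal of `R`. -/
theorem result (k k' : Type u) (K K' : Type v) [Field k] [Field k'] [Field K] [Field K']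
    [Algebra k k'] [FiniteDimensional k k'] [Algebra k K] [Algebra K K'] [Algebra k' K'] [Algebra k K']
    [IsScalarTower k k' K'] [IsScalarTower k K K']
    (h : Function.Bijective (Algebra.TensorProduct.productMap
      (IsScalarTower.toAlgHom k k' K') (IsScalarTower.toAlgHom k K K')))
    (hK : FunFld.IsFunctionField k K) (hg : FunFld.IsGeometric k K)
    (P : FunFld.Place k K) [Algebra P.O K'] [IsScalarTower P.O K K'] :
    (∃ V : Submodule k K', FiniteDimensional k V ∧ ∀ r ∈ integralClosure P.O K',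
        ∃ s ∈ Algebra.adjoin P.O (Set.range (algebraMap k' K')), r - s ∈ V) ∧
    (∃ c ∈ integralClosure P.O K', c ≠ 0 ∧ ∀ r ∈ integralClosure P.O K',
        c * r ∈ Algebra.adjoin P.O (Set.range (algebraMap k' K'))) := by
  classical
  obtain ⟨C, hC⟩ := FFLib.exists_coordExp.{u, v, v} hK hg P
  let b := Module.finBasis k k'
  obtain ⟨vK, hvK⟩ := FFLib.exists_const_basis (K := K) h b
  haveI : FiniteDimensional K K' := Module.Finite.of_basis vK
  have hg' : (algebraMap K K').comp P.O.subtype = algebraMap P.O K' :=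
    RingHom.ext fun c => (IsScalarTower.algebraMap_apply P.O K K' c).symm
  have hcoord : ∀ r ∈ integralClosure P.O K', ∀ l, P.1 (vK.repr r l) ≤ WithZero.exp (C : ℤ) := fun r hr => by
    obtain ⟨p, hp, hpz⟩ := (mem_integralClosure_iff P.O K').mp hr
    exact hC k' K' h _ b vK hvK r fun R hR => FFLib.val_le_one_of_monic' hR hp (hg'.symm ▸ hpz)
  have hadj : ∀ a : Fin (Module.finrank k k') → K, (∀ l, P.1 (a l) ≤ 1) →
      (∑ l, a l • vK l) ∈ Algebra.adjoin P.O (Set.range (algebraMap k' K')) := fun a ha => by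
    refine Subalgebra.sum_mem _ fun l _ => ?_
    rw [Algebra.smul_def, show algebraMap K K' (a l) = algebraMap P.O K' ⟨a l, ha l⟩ from
      (IsScalarTower.algebraMap_apply P.O K K' ⟨a l, ha l⟩).symm]
    exact Subalgebra.mul_mem _ (Subalgebra.algebraMap_mem _ _) (Algebra.subset_adjoin ⟨b l, (hvK l).symm⟩)
  refine ⟨?_, ?_⟩
  · obtain ⟨V, hV, hVa⟩ := FFLib.exists_digit_space hK.1 P C
    haveI := hV
    let f : (Fin (Module.finrank k k') → V) →ₗ[k] K' :=
      { toFun := fun a => ∑ l, (a l : K) • vK l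
        map_add' := fun a a' => by simp [add_smul, Finset.sum_add_distrib]
        map_smul' := fun c a => by simp [Finset.smul_sum] }
    refine ⟨LinearMap.range f, inferInstance, fun r hr => ?_⟩
    choose v hv hvd using fun l => hVa _ (hcoord r hr l)
    refine ⟨∑ l, (vK.repr r l - v l) • vK l, hadj _ hvd, ⟨fun l => ⟨v l, hv l⟩, ?_⟩⟩
    show ∑ l, v l • vK l = r - ∑ l, (vK.repr r l - v l) • vK l
    simp [sub_smul, Finset.sum_sub_distrib, vK.sum_repr]
  · obtain ⟨π, hπ0, hπ⟩ := FFLib.exists_unif P
    have hπ1 : P.1 (π ^ C) ≤ 1 := by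
      rw [map_pow, hπ]
      exact pow_le_one' (by rw [← WithZero.exp_zero, WithZero.exp_le_exp]; norm_num) C
    refine ⟨algebraMap P.O K' ⟨π ^ C, hπ1⟩, Subalgebra.algebraMap_mem _ _, ?_, fun r hr => ?_⟩
    · rw [IsScalarTower.algebraMap_apply P.O K K']
      exact (map_ne_zero _).mpr (pow_ne_zero C hπ0)
    · rw [IsScalarTower.algebraMap_apply P.O K K', show algebraMap K K' (algebraMap P.O K ⟨π ^ C, hπ1⟩) * r =
        ∑ l, (π ^ C * vK.repr r l) • vK l by
          conv_lhs => rw [← vK.sum_repr r, Finset.mul_sum]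
          exact Finset.sum_congr rfl fun l _ => by rw [← Algebra.smul_def, smul_smul]; rfl]
      refine hadj _ fun l => ?_
      rw [map_mul, map_pow, hπ]
      refine (mul_le_mul' le_rfl (hcoord r hr l)).trans ?_
      rw [← WithZero.exp_nsmul, ← WithZero.exp_add, ← WithZero.exp_zero, WithZero.exp_le_exp, nsmul_eq_mul]
      omega

end Groth.Agent.S12526
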