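import Groth.Statements.S12532
import Groth.Agent.FFLib.Conductor

set_option autoImplicit false
open FunFld

namespace Groth.Agent.S12532

open Groth.Agent

/-- Over an algebraically closed field `k`, let `φ = (φ₀, …, φₙ)`, `n ≥ 1`, be a birational projective
map of the function field `K/k` and `P` a place with image point `a = φ(P)`. Then for some `N`,
every `z ∈ K` with `ord_Q z ≥ N` at all places `Q` over `a` belongs to the local ring `O_a` of `φ`
at `P` (quotients of polynomials in the ratios `φᵢ/φⱼ` with denominator a unit at `P`). (The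
published statement asserts that each nonzero ideal of `O_a` includes some nonzero ideal of the
integral closure `R_a`, with `R_a/I` finite-dimensional; this row states the inclusion the printed
proof establishes, from which those follow.) -/
theorem result (k K : Type*) [Field k] [IsAlgClosed k] [Field K] [Algebra k K]
    (hK : FunFld.IsFunctionField k K) {n : ℕ} (hn : 1 ≤ n)
    (φ : Fin (n + 1) → K) (hφ : LinearIndependent k φ)
    (hbir : IntermediateField.adjoin k (Set.range fun i => φ i / φ 0) = ⊤) (P : FunFld.Place k K) :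
    ∃ N : ℕ, ∀ z : K, (∀ Q : FunFld.Place k K, FunFld.SameImage φ P Q → Q.1 z ≤ WithZero.exp (-(N : ℤ))) →
      FunFld.InLocRing φ P z := by

  classical
  have h := FFLib.isBpfSeries_span' hK hφ
  set D := FunFld.mapDiv k φ with hDdef
  obtain ⟨n₀, e, b, hb0, hbV, hcond⟩ := FFLib.exists_conductor hK hn hφ hbir
  obtain ⟨j, hj0, hjP⟩ := FFLib.exists_exact_entry h P
  have hle : ∀ (Q : FunFld.Place k K) i, Q.1 (φ i) ≤ WithZero.exp (D Q) := fun Q i =>
    h.le (Submodule.subset_span ⟨i, rfl⟩) Q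
  have hchart : ∀ Q : FunFld.Place k K, Q.ord (φ j) = -D Q → ∀ i, Q.1 (φ i) ≤ Q.1 (φ j) := fun Q hQ i => by
    rw [FFLib.val_eq_exp Q hj0, hQ, neg_neg]; exact hle Q i
  have hjmem : φ j ∈ Submodule.span k (Set.range φ) := Submodule.subset_span ⟨j, rfl⟩
  have hrange : (Set.range fun i => φ i / φ j) = (fun v => v / φ j) '' Set.range φ := by
    rw [← Set.range_comp]; rfl
  have hadj : ∀ r : K, r ∈ Algebra.adjoin k (Set.range fun i => φ i / φ j) ↔
      ∃ m : ℕ, r * φ j ^ m ∈ Submodule.span k (Set.range φ) ^ m := fun r => by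
    rw [hrange]; exact FFLib.mem_adjoin_div_iff hjmem hj0 Submodule.subset_span le_rfl
  set d : K := b / φ j ^ e with hd
  have hd0 : d ≠ 0 := div_ne_zero hb0 (pow_ne_zero _ hj0)
  have hfib := FFLib.finite_sameImage hK hn hφ P
  refine ⟨hfib.toFinset.sup fun Q => (Q.ord d).toNat, fun z hz => ?_⟩
  rw [FFLib.inLocRing_iff P φ hj0 (hchart P hjP)]
  rcases eq_or_ne z 0 with rfl | hz0
  · exact zero_mem _
  set y : K := z / d with hy
  have hy0 : y ≠ 0 := div_ne_zero hz0 hd0
  obtain ⟨a, haj, ha⟩ := FFLib.exists_values P φ hK hj0 (hchart P hjP)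
  have hfinord := FFLib.finite_support_ord hK.1 y
  let B := hfinord.toFinset.filter fun Q => Q.ord y < 0 ∧ Q.ord (φ j) = -D Q
  have hw : ∀ Q ∈ B, ∃ w ∈ Algebra.adjoin k (Set.range fun i => φ i / φ j), P.1 w = 1 ∧ Q.1 w < 1 := fun Q hQ => by
    obtain ⟨-, hQneg, hQj⟩ := Finset.mem_filter.mp hQ
    have hns : ¬ FunFld.SameImage φ P Q := fun hs => by
      have h1 := hz Q hs
      rw [FFLib.val_eq_exp Q hz0, WithZero.exp_le_exp] at h1
      have h2 : (Q.ord d).toNat ≤ hfib.toFinset.sup fun Q => (Q.ord d).toNat :=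
        Finset.le_sup (f := fun Q : FunFld.Place k K => (Q.ord d).toNat) (hfib.mem_toFinset.mpr hs)
      rw [hy, div_eq_mul_inv, FFLib.ord_mul Q hz0 (inv_ne_zero hd0), FFLib.ord_inv] at hQneg
      omega
    obtain ⟨c, -, hc⟩ := FFLib.exists_values Q φ hK hj0 (hchart Q hQj)
    obtain ⟨i, hi⟩ : ∃ i, a i ≠ c i := by
      by_contra! hall
      exact hns ⟨j, hj0, hchart P hjP, hchart Q hQj, fun i => ⟨a i, ha i, hall i ▸ hc i⟩⟩
    refine ⟨φ i / φ j - algebraMap k K (c i),
      sub_mem (Algebra.subset_adjoin ⟨i, rfl⟩) (Subalgebra.algebraMap_mem _ _), ?_, hc i⟩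
    rw [show φ i / φ j - algebraMap k K (c i) = algebraMap k K (a i - c i) + (φ i / φ j - algebraMap k K (a i)) by
      rw [map_sub]; ring, P.1.map_add_eq_of_lt_left (by rw [FFLib.val_algebraMap P (sub_ne_zero.mpr hi)]; exact ha i),
      FFLib.val_algebraMap P (sub_ne_zero.mpr hi)]
  choose! w hwR hwP hwQ using hw
  let W := ∏ Q ∈ B, w Q ^ (-Q.ord y).toNat
  have hWR : W ∈ Algebra.adjoin k (Set.range fun i => φ i / φ j) :=
    Subalgebra.prod_mem _ fun Q hQ => pow_mem (hwR Q hQ) _
  have hWP : P.1 W = 1 := by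
    rw [map_prod]
    exact Finset.prod_eq_one fun Q hQ => by rw [map_pow, hwP Q hQ, one_pow]
  have hW0 : W ≠ 0 := fun e0 => by rw [e0, map_zero] at hWP; exact zero_ne_one hWP
  have hwle : ∀ Q : FunFld.Place k K, Q.ord (φ j) = -D Q →
      ∀ r ∈ Algebra.adjoin k (Set.range fun i => φ i / φ j), 0 ≤ Q.ord r := fun Q hQ r hr => by
    obtain ⟨c, -, hc⟩ := FFLib.exists_values Q φ hK hj0 (hchart Q hQ)
    rcases eq_or_ne r 0 with rfl | hr0
    · rw [FFLib.ord_zero]
    · exact (FFLib.val_le_one_iff Q hr0).mp (FFLib.val_ptIdeal Q hc ⟨r, hr⟩).1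
  have hgood : ∀ Q : FunFld.Place k K, Q.ord (φ j) = -D Q → 0 ≤ Q.ord (y * W) := fun Q hQ => by
    rw [FFLib.ord_mul Q hy0 hW0]
    by_cases hneg : Q.ord y < 0
    · have hQB : Q ∈ B := Finset.mem_filter.mpr ⟨hfinord.mem_toFinset.mpr (by
        simp only [Function.mem_support]; omega), hneg, hQ⟩
      have hsplit : W = w Q ^ (-Q.ord y).toNat * ∏ R ∈ B.erase Q, w R ^ (-R.ord y).toNat :=
        (Finset.mul_prod_erase B _ hQB).symm
      obtain ⟨h1, h2⟩ := mul_ne_zero_iff.mp (hsplit ▸ hW0)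
      rw [hsplit, FFLib.ord_mul Q h1 h2, FFLib.ord_pow]
      have h3 := hwle Q hQ _ (Subalgebra.prod_mem _ fun R hR => pow_mem (hwR R (Finset.mem_of_mem_erase hR)) (-R.ord y).toNat :
        (∏ R ∈ B.erase Q, w R ^ (-R.ord y).toNat) ∈ _)
      have hwne : w Q ≠ 0 := fun e0 => by
        have := hwP Q hQB
        rw [e0, map_zero] at this; exact zero_ne_one this
      have h4 := (FFLib.val_lt_one_iff Q hwne).mp (hwQ Q hQB)
      have h5 : ((-Q.ord y).toNat : ℤ) = -Q.ord y := Int.toNat_of_nonneg (by omega)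
      rw [h5]
      nlinarith
    · have := hwle Q hQ W hWR
      omega
  have hyW0 : y * W ≠ 0 := mul_ne_zero hy0 hW0
  let q : ℕ := (FFLib.finite_support_ord hK.1 (y * W)).toFinset.sup fun Q => (-Q.ord (y * W)).toNat
  have hmem : (y * W) * φ j ^ (n₀ + q) ∈ FunFld.L ((n₀ + q : ℕ) • D) :=
    (FFLib.mem_L_iff_ord (mul_ne_zero hyW0 (pow_ne_zero _ hj0))).mpr fun Q => by
      rw [FFLib.ord_mul Q hyW0 (pow_ne_zero _ hj0), FFLib.ord_pow, Finsupp.smul_apply, nsmul_eq_mul]
      have hjQ := (FFLib.mem_L_iff_ord hj0).mp (h.le hjmem) Q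
      by_cases hQ : Q.ord (φ j) = -D Q
      · have := hgood Q hQ
        rw [hQ]
        push_cast
        linarith
      · have hge : -D Q + 1 ≤ Q.ord (φ j) := by omega
        have hq : -Q.ord (y * W) ≤ (q : ℤ) := by
          by_cases h0 : Q.ord (y * W) = 0
          · omega
          · have : (-Q.ord (y * W)).toNat ≤ q :=
              Finset.le_sup (f := fun Q : FunFld.Place k K => (-Q.ord (y * W)).toNat)
                ((FFLib.finite_support_ord hK.1 (y * W)).mem_toFinset.mpr h0)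
            omega
        push_cast
        nlinarith
  refine ⟨W, hWR, hWP, (hadj _).mpr ⟨q + (n₀ + e), ?_⟩⟩
  convert hcond q _ hmem using 1
  rw [hy, hd]
  field_simp
  ring

end Groth.Agent.S12532
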