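import Groth.Statements.S12535
import Groth.Agent.FFLib.Quadratic

set_option autoImplicit false
open Groth.Agent
open FunFld

namespace Groth.Agent.S12535

/-- Let `char k ≠ 2`, `K` of degree `2` over `k(x)`, and `y ∈ K` with `y² = f(x)`, `f` a squarefree
polynomial of degree `≥ 1`. Then a place `P` of `K` is a zero of `y` exactly when it lies over a
finite place of `k(x)` where `f` has a zero, and in that case `ord_P(y) = 1`: the divisor of zeros
of `y` is `Σ P_i`, one place over each irreducible factor of `f`, with multiplicity one. -/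
theorem result (k K : Type*) [Field k] [Field K] (h2 : ringChar k ≠ 2) [Algebra k K]
    [Algebra (RatFunc k) K] [IsScalarTower k (RatFunc k) K]
    (hdeg : Module.finrank (RatFunc k) K = 2) (y : K) (f : Polynomial k) (hf : Squarefree f)
    (hd : 1 ≤ f.natDegree)
    (heq : y ^ 2 = algebraMap (RatFunc k) K (algebraMap (Polynomial k) (RatFunc k) f)) (P : FunFld.Place k K) :
    (0 < P.ord y → P.ord y = 1) ∧
    (0 < P.ord y ↔ ∃ P₀ : FunFld.Place k (RatFunc k), FunFld.IsOver P P₀ ∧ 0 ≤ P₀.ord (RatFunc.X : RatFunc k) ∧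
      0 < P₀.ord (algebraMap (Polynomial k) (RatFunc k) f)) := by
  have hF := FFLib.isFF_ratFunc k
  have : FiniteDimensional (RatFunc k) K := Module.finite_of_finrank_eq_succ hdeg
  obtain ⟨P₀, e, he1, he⟩ := FFLib.exists_over hF P
  obtain ⟨-, he2, -⟩ := FFLib.quad_over hF hdeg he
  have h3 := FFLib.ord_pow P y 2
  rw [heq, FFLib.ord_over he] at h3
  have key : 0 < P.ord y → 0 ≤ P₀.ord (RatFunc.X : RatFunc k) ∧
      P₀.ord (algebraMap (Polynomial k) (RatFunc k) f) = 1 ∧ P.ord y = 1 := by
    intro hy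
    have hpos : 0 < P₀.ord (algebraMap (Polynomial k) (RatFunc k) f) := by
      push_cast at h3
      by_contra hle
      have : (e : ℤ) * P₀.ord (algebraMap (Polynomial k) (RatFunc k) f) ≤ 0 :=
        mul_nonpos_of_nonneg_of_nonpos (by positivity) (not_lt.mp hle)
      omega
    have hX : 0 ≤ P₀.ord (RatFunc.X : RatFunc k) := by
      by_contra hneg
      obtain ⟨-, -, hord⟩ := FFLib.ratFunc_infinity P₀ (not_le.mp hneg)
      rw [hord f hf.ne_zero] at hpos
      omega
    rcases FFLib.ratFunc_squarefree P₀ hX hf with h | h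
    · omega
    · rw [h] at h3
      push_cast at h3
      exact ⟨hX, h, by omega⟩
  refine ⟨fun h => (key h).2.2, fun h => ⟨P₀, ⟨e, he⟩, (key h).1, by rw [(key h).2.1]; norm_num⟩, ?_⟩
  rintro ⟨P₁, ⟨e', he'⟩, -, hpos⟩
  have h4 := FFLib.ord_pow P y 2
  rw [heq, FFLib.ord_over he'] at h4
  push_cast at h4
  have := FFLib.over_pos hF he'
  have := mul_pos (show (0 : ℤ) < e' by omega) hpos
  omega

end Groth.Agent.S12535
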