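import Groth.Statements.S12536
import Groth.Agent.KExact.CurveBottom
import Groth.Agent.S10831
import Groth.Agent.QCoh.Sections
import Groth.Agent.NormAmpleX.Generic
import Groth.Agent.KExact.BCNat
-- import your own Groth.Agent.* helpers here

set_option autoImplicit false
set_option linter.style.haveILetI false
set_option backward.isDefEq.respectTransparency false
set_option backward.isDefEq.respectTransparency.types false

universe u
open CategoryTheory CategoryTheory.Limits AlgebraicGeometry Opposite
attribute [local instance] HasDerivedCategory.standard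
open Dual3

namespace Groth.Agent.S12536

attribute [local instance] HasDerivedCategory.standard
open Groth.Agent.KExact Groth.Agent.KFlatLib Groth.Agent


/-- Let `X` be proper and reduced over a field `k`, of pure dimension `1`, with dualizing module `ω =
H^{-1}(a(O))` (`a` right adjoint to `Rf_*` on `D_QCoh`, `O` the structure sheaf of `Spec k` in
degree `0`), and let `U ⊆ X` be an open subscheme containing every non-closed point. Then `ω →
j_*(ω|_U)` is injective: for every open `V`, restriction of sections `ω(V) → ω(V ∩ U)` is injective.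
(The published statement takes `U` to be the dense open smooth locus of a generically smooth `X`;
this row allows any open `U` containing the generic points, which is what the printed proof uses:
the kernel is supported at finitely many closed points.) -/
theorem result (k : Type u) [Field k] (X : Scheme.{u}) (f : X ⟶ Spec (CommRingCat.of k))
    [IsProper f] [IsReduced X]
    (hdim : ∀ Z ∈ irreducibleComponents X, topologicalKrullDim ↥Z = (1 : WithBot ℕ∞))
    [DCoh.HasRpush f] (hf : DCoh.RpushPreservesQCoh f)
    (a : DCoh.DQCoh (Spec (CommRingCat.of k)) ⥤ DCoh.DQCoh X) (adj : DCoh.RpushQ f hf ⊣ a)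
    (O : DCoh.DQCoh (Spec (CommRingCat.of k)))
    (hO : Nonempty (O.obj ≅ DCoh.inD (Spec (CommRingCat.of k)) (Coh.structureModule (Spec (CommRingCat.of k)))))
    (U : X.Opens) (hU : ∀ x : X, ¬ IsClosed ({x} : Set X) → x ∈ U) (V : X.Opens) :
    Function.Injective ((DCoh.HD (a.obj O).obj (-(1 : ℤ))).presheaf.map (homOfLE (inf_le_left : V ⊓ U ≤ V)).op) := by
  classical
  letI : X.Over (Spec (CommRingCat.of k)) := ⟨f⟩
  haveI : IsProper (X ↘ Spec (CommRingCat.of k)) := ‹IsProper f›
  haveI : IsNoetherian X := Groth.Agent.KExact.BCNat.isNoetherian_of_ft f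
  haveI : ∀ (W : Scheme.{u}) (j : W ⟶ X) [IsOpenImmersion j], PreservesFiniteLimits (Scheme.Modules.restrictFunctor j) :=
    fun W j _ => inferInstance
  haveI : ∀ R : CommRingCat.{u}, PreservesFiniteLimits (tilde.functor R) := fun R => QCoh.tilde_preservesFiniteLimits
  refine (injective_iff_map_eq_zero _).2 fun s hs => ?_
  refine Groth.Agent.QCoh.eq_zero_of_locally V s fun p hp => ?_
  haveI : Nonempty X := ⟨p⟩
  have hd : topologicalKrullDim X = ((1 : ℕ) : WithBot ℕ∞) := by
    rw [Groth.Agent.S10831.result]
    refine le_antisymm (iSup₂_le fun Z hZ => (hdim Z hZ).le) ?_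
    exact le_trans (hdim _ (irreducibleComponent_mem_irreducibleComponents p)).ge
      (le_iSup₂ (f := fun (Z : Set X) (_ : Z ∈ irreducibleComponents X) => topologicalKrullDim Z)
        (irreducibleComponent p) (irreducibleComponent_mem_irreducibleComponents p))
  obtain ⟨hK, hz, -⟩ := Groth.Agent.S1811.result k X 1 hd f rfl hf a adj O hO
  obtain ⟨⟨-, -, hsupp⟩, -⟩ := Groth.Agent.S3638.result k X f 1 hd hf a adj O hO
  obtain ⟨W, hW, hpW, hWV⟩ := exists_isAffineOpen_mem_and_subset (X := X) (x := p) (U := V) hp
  refine ⟨W, homOfLE hWV, hpW, ?_⟩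
  refine Groth.Agent.KExact.CurveBottom.eq_zero hK (-(1 : ℤ)) (fun i hi => hz i (Or.inl (by exact_mod_cast hi)))
    (fun x => ?_) (fun x hx => ?_) hW _ fun y hy => ?_
  · have hx : x ∈ ⋃ Z ∈ {Z : Set X | Z ∈ irreducibleComponents X ∧ topologicalKrullDim ↥Z = ((1 : ℕ) : WithBot ℕ∞)}, Z :=
      Set.mem_iUnion₂.2 ⟨irreducibleComponent x,
        ⟨irreducibleComponent_mem_irreducibleComponents x, hdim _ (irreducibleComponent_mem_irreducibleComponents x)⟩,
        mem_irreducibleComponent⟩
    rw [← hsupp] at hx
    exact hx
  · obtain ⟨η, hη, hηx⟩ := Groth.Agent.NormAmpleX.exists_generic_specializes x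
    refine ⟨η, hηx, fun h => ?_⟩
    have hC : closure ({η} : Set X) ∈ irreducibleComponents X := hη
    have h1 := hdim _ hC
    rw [h, hx.closure_eq] at h1
    have h0 : topologicalKrullDim ({x} : Set X) ≤ 0 := topologicalKrullDim_zero_of_discreteTopology _
    rw [h1] at h0
    exact absurd h0 (by decide)
  · have hyU : y.1 ∈ U := hU y.1 hy
    have h' := congrArg ((DCoh.HD (a.obj O).obj (-(1 : ℤ))).presheaf.germ (V ⊓ U) y.1 ⟨hWV y.2, hyU⟩) hs
    rw [map_zero] at h'
    erw [TopCat.Presheaf.germ_res_apply] at h' ⊢
    exact h'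
end Groth.Agent.S12536
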