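import Groth.Statements.S12540
import Groth.Agent.AGFLib.QuotProper
import Groth.Agent.ChevAffine.Main
import Groth.Agent.EtFound.Descent
-- import your own Groth.Agent.* helpers here

set_option autoImplicit false
set_option backward.isDefEq.respectTransparency false
set_option backward.isDefEq.respectTransparency.types false
set_option linter.style.haveILetI false
universe u
open CategoryTheory MonoidalCategory CartesianMonoidalCategory MonObj GrpObj AlgebraicGeometry
open AlgGrp

namespace Groth.Agent.S12540

open CategoryTheory.Limits AGFLib.QuotProper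

/-- The orbit map is invariant under the subgroup. -/
theorem orbit_mul {k : Type u} [Field k] {G H : Over (Spec (CommRingCat.of k))} [GrpObj G] [GrpObj H] {i : H ⟶ G}
    {X : Over (Spec (CommRingCat.of k))} {a : AlgGrp.Action G X} {o : 𝟙_ (Over (Spec (CommRingCat.of k))) ⟶ X}
    (hX : AGF.IsQuotient i X a o) {T : Over (Spec (CommRingCat.of k))} (g : T ⟶ G) (y : T ⟶ H) :
    (g * (y ≫ i)) ≫ a.orbitMap o = g ≫ a.orbitMap o := by
  have e : g * (y ≫ i) = lift g y ≫ (G ◁ i) ≫ μ[G] := by
    rw [← mul_eq_comp, lift_fst, ← Category.assoc, lift_snd]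
  rw [e, Category.assoc, ← hX.2.2.2.w, ← Category.assoc, lift_fst]


/-- Over an algebraically closed field k, let G be an algebraic group (a smooth k-group scheme of finite
type), h : H → G a closed subgroup scheme, and h' : H' → H a closed subgroup scheme of H which is
reduced with the same underlying space as H (the reduced subgroup scheme H_red; it is a subgroup of
G through h' ≫ h). Let X, with its G-action and base point, be the quotient G/H, and X' the quotient
G/H' (each locally of finite type over k, with flat surjective orbit map identifying G × H with G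
×_X G, respectively G × H' with G ×_{X'} G). Then X is affine if and only if X' is affine. (The
published statement adds the same equivalence with the identity component of H_red; that clause is
not stated here.) -/
theorem result (k : Type u) [Field k] [IsAlgClosed k]
    (G : Over (Spec (CommRingCat.of k))) [GrpObj G] [Smooth G.hom] [QuasiCompact G.hom]
    (H : Over (Spec (CommRingCat.of k))) [GrpObj H] (h : H ⟶ G) [IsMonHom h] [IsClosedImmersion h.left]
    (H' : Over (Spec (CommRingCat.of k))) [GrpObj H'] (h' : H' ⟶ H) [IsMonHom h'] [IsClosedImmersion h'.left]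
    [Surjective h'.left] [IsReduced H'.left]
    (X : Over (Spec (CommRingCat.of k))) (a : AlgGrp.Action G X) (o : 𝟙_ (Over (Spec (CommRingCat.of k))) ⟶ X)
    (hX : AGF.IsQuotient h X a o)
    (X' : Over (Spec (CommRingCat.of k))) (a' : AlgGrp.Action G X') (o' : 𝟙_ (Over (Spec (CommRingCat.of k))) ⟶ X')
    (hX' : AGF.IsQuotient (h' ≫ h) X' a' o') :
    IsAffine X.left ↔ IsAffine X'.left := by
  haveI := GrpSchLib.AntiAffine.isSeparated_grp G
  haveI : LocallyOfFiniteType X.hom := hX.1
  haveI : LocallyOfFiniteType X'.hom := hX'.1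
  haveI : IsClosedImmersion (h' ≫ h).left := inferInstanceAs (IsClosedImmersion (h'.left ≫ h.left))
  haveI : IsSeparated X.hom := quot_isSeparated hX
  haveI : IsSeparated X'.hom := quot_isSeparated hX'
  haveI : QuasiCompact X.hom := quot_quasiCompact hX
  haveI : QuasiCompact X'.hom := quot_quasiCompact hX'
  let o1 : G ⟶ X := a.orbitMap o
  let o1' : G ⟶ X' := a'.orbitMap o'
  obtain ⟨hqc, -⟩ := quot_orbit_qc hX
  obtain ⟨hqc', -⟩ := quot_orbit_qc hX'
  haveI : QuasiCompact o1.left := hqc
  haveI : QuasiCompact o1'.left := hqc'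
  haveI : Flat o1.left := hX.2.1
  haveI : Surjective o1.left := hX.2.2.1
  haveI : Flat o1'.left := hX'.2.1
  haveI : Surjective o1'.left := hX'.2.2.1
  -- the projection
  have hd : ∀ {Z : Scheme.{u}} (g₁ g₂ : Z ⟶ G.left), g₁ ≫ o1'.left = g₂ ≫ o1'.left → g₁ ≫ o1.left = g₂ ≫ o1.left := by
    intro Z g₁ g₂ e
    let T : Over (Spec (CommRingCat.of k)) := Over.mk (g₁ ≫ G.hom)
    let u₁ : T ⟶ G := Over.homMk g₁ rfl
    let u₂ : T ⟶ G := Over.homMk g₂ (by
      show g₂ ≫ G.hom = g₁ ≫ G.hom
      rw [← Over.w o1', ← Category.assoc, ← e, Category.assoc])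
    obtain ⟨y, hy⟩ := exists_mul_eq hX' u₁ u₂ (Over.OverMorphism.ext e)
    rw [← Category.assoc] at hy
    have := orbit_mul hX u₁ (y ≫ h')
    rw [hy] at this
    exact (congrArg CommaMorphism.left this).symm
  let πl : X'.left ⟶ X.left := EffectiveEpi.desc o1'.left o1.left hd
  have hπl : o1'.left ≫ πl = o1.left := EffectiveEpi.fac _ _ _
  let π : X' ⟶ X := Over.homMk πl (by
    rw [← cancel_epi o1'.left, reassoc_of% hπl, Over.w o1', Over.w o1])
  have hπ : o1' ≫ π = o1 := Over.OverMorphism.ext hπl
  haveI : Surjective π.left := by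
    haveI : Surjective (o1'.left ≫ π.left) := by
      show Surjective (o1'.left ≫ πl)
      rw [hπl]; infer_instance
    exact Surjective.of_comp o1'.left π.left
  -- the base change along the orbit map
  let P : Over (Spec (CommRingCat.of k)) := Over.mk (pullback.fst o1.left π.left ≫ G.hom)
  let pG : P ⟶ G := Over.homMk (pullback.fst o1.left π.left) rfl
  let pX : P ⟶ X' := Over.homMk (pullback.snd o1.left π.left) (by
    show pullback.snd o1.left π.left ≫ X'.hom = pullback.fst o1.left π.left ≫ G.hom
    rw [← Over.w π, ← pullback.condition_assoc, Over.w o1])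
  have hP : pG ≫ o1 = pX ≫ π := Over.OverMorphism.ext pullback.condition
  let s : G.left ⟶ pullback o1.left π.left := pullback.lift (𝟙 _) o1'.left ((Category.id_comp _).trans hπl.symm)
  -- surjectivity of the section
  let Q : Over (Spec (CommRingCat.of k)) := Over.mk (pullback.fst pX.left o1'.left ≫ P.hom)
  let qP : Q ⟶ P := Over.homMk (pullback.fst pX.left o1'.left) rfl
  let qG : Q ⟶ G := Over.homMk (pullback.snd pX.left o1'.left) (by
    show pullback.snd pX.left o1'.left ≫ G.hom = pullback.fst pX.left o1'.left ≫ P.hom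
    rw [← Over.w o1', ← pullback.condition_assoc, Over.w pX])
  have hQ : qP ≫ pX = qG ≫ o1' := Over.OverMorphism.ext pullback.condition
  haveI : Surjective qP.left := inferInstanceAs (Surjective (pullback.fst pX.left o1'.left))
  obtain ⟨y, hy⟩ := exists_mul_eq hX (qP ≫ pG) qG (by
    show (qP ≫ pG) ≫ o1 = qG ≫ o1
    rw [Category.assoc, hP, ← Category.assoc, hQ, Category.assoc, hπ])
  let m : Q ⟶ G ⊗ H := lift (qP ≫ pG) y
  let Φ : G ⊗ H ⟶ P := Over.homMk (pullback.lift (fst G H).left ((fst G H * (snd G H ≫ h)) ≫ o1').left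
    (congrArg CommaMorphism.left (show fst G H ≫ o1 = ((fst G H * (snd G H ≫ h)) ≫ o1') ≫ π by
      rw [Category.assoc, hπ]; exact (orbit_mul hX _ _).symm))) (by
      show pullback.lift _ _ _ ≫ pullback.fst _ _ ≫ G.hom = _
      rw [pullback.lift_fst_assoc, Over.w])
  have hΦ1 : Φ ≫ pG = fst G H := Over.OverMorphism.ext (pullback.lift_fst _ _ _)
  have hΦ2 : Φ ≫ pX = (fst G H * (snd G H ≫ h)) ≫ o1' := Over.OverMorphism.ext (pullback.lift_snd _ _ _)
  have hmΦ : m ≫ Φ = qP := by
    apply Over.OverMorphism.ext
    apply pullback.hom_ext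
    · have e : (m ≫ Φ) ≫ pG = qP ≫ pG := by rw [Category.assoc, hΦ1, lift_fst]
      exact congrArg CommaMorphism.left e
    · have e : (m ≫ Φ) ≫ pX = qP ≫ pX := by
        rw [Category.assoc, hΦ2, ← Category.assoc, MonObj.comp_mul, lift_fst, ← Category.assoc, lift_snd, hy, hQ]
      exact congrArg CommaMorphism.left e
  haveI : Surjective Φ.left := by
    haveI : Surjective (m.left ≫ Φ.left) := by rw [← Over.comp_left, hmΦ]; infer_instance
    exact Surjective.of_comp m.left Φ.left
  haveI : Surjective (G ◁ h').left := MorphismProperty.pullbackMap (P := @Surjective)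
    (h₁ := (inferInstance : Surjective (𝟙 G.left))) (h₂ := ‹Surjective h'.left›) (Category.id_comp _).symm (Over.w h').symm
  have hs : (G ◁ h').left ≫ Φ.left = (fst G H').left ≫ s := by
    apply pullback.hom_ext
    · have e : ((G ◁ h') ≫ Φ) ≫ pG = fst G H' := by rw [Category.assoc, hΦ1, whiskerLeft_fst]
      rw [Category.assoc (fst G H').left s, pullback.lift_fst]
      exact (congrArg CommaMorphism.left e).trans (Category.comp_id _).symm
    · have e : ((G ◁ h') ≫ Φ) ≫ pX = fst G H' ≫ o1' := by
        rw [Category.assoc, hΦ2, ← Category.assoc, MonObj.comp_mul, whiskerLeft_fst, whiskerLeft_snd_assoc]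
        exact orbit_mul hX' _ _
      rw [Category.assoc (fst G H').left s, pullback.lift_snd]
      exact congrArg CommaMorphism.left e
  haveI : Surjective s := by
    haveI : Surjective ((fst G H').left ≫ s) := by rw [← hs]; infer_instance
    exact Surjective.of_comp (fst G H').left s
  haveI : IsSeparated π.left := by
    haveI : IsSeparated (π.left ≫ X.hom) := by rw [Over.w π]; infer_instance
    exact IsSeparated.of_comp π.left X.hom
  haveI : QuasiCompact π.left := by
    haveI : QuasiCompact (π.left ≫ X.hom) := by rw [Over.w π]; infer_instance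
    exact QuasiCompact.of_comp π.left X.hom
  haveI : LocallyOfFiniteType π.left := by
    haveI : LocallyOfFiniteType (π.left ≫ X.hom) := by rw [Over.w π]; infer_instance
    exact locallyOfFiniteType_of_comp π.left X.hom
  let p1 := pullback.fst o1.left π.left
  haveI : IsSeparated p1 := MorphismProperty.pullback_fst _ _ ‹IsSeparated π.left›
  haveI : LocallyOfFiniteType p1 := MorphismProperty.pullback_fst _ _ ‹LocallyOfFiniteType π.left›
  haveI : QuasiCompact p1 := MorphismProperty.pullback_fst _ _ ‹QuasiCompact π.left›
  have hsec : s ≫ p1 = 𝟙 _ := pullback.lift_fst _ _ _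
  haveI : UniversallyClosed (s ≫ p1) := by rw [hsec]; infer_instance
  haveI : UniversallyClosed p1 := UniversallyClosed.of_comp_surjective s p1
  haveI : IsProper p1 := IsProper.mk
  haveI : LocallyQuasiFinite p1 := .of_finite_preimage_singleton p1 fun g => by
    refine (Set.finite_singleton (s g)).subset fun z hz => ?_
    obtain ⟨w, rfl⟩ := s.surjective z
    have : p1 (s w) = w := by rw [← Scheme.Hom.comp_apply, hsec]; rfl
    rw [Set.mem_preimage, Set.mem_singleton_iff, this] at hz
    rw [hz]; rfl
  haveI : IsFinite p1 := IsFinite.of_isProper_of_locallyQuasiFinite p1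
  haveI := EtFound.fpqc_isFinite.{u}
  haveI : IsFinite π.left := MorphismProperty.of_pullback_fst_of_descendsAlong (P := @IsFinite)
    (Q := @Surjective ⊓ @Flat ⊓ @QuasiCompact) (f := o1.left) (g := π.left)
    ⟨⟨inferInstance, inferInstance⟩, inferInstance⟩ ‹IsFinite p1›
  refine ⟨fun hA => ?_, fun hA => ?_⟩
  · haveI := hA
    exact isAffine_of_isAffineHom π.left
  · haveI := hA
    haveI : IsLocallyNoetherian X.left := LocallyOfFiniteType.isLocallyNoetherian X.hom
    haveI : CompactSpace X.left := (quasiCompact_iff_compactSpace X.hom).mp inferInstance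
    haveI : IsNoetherian X.left := {}
    exact ChevAffine.isAffine_of_finite_surjective π.left

end Groth.Agent.S12540
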