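import Groth.Statements.S12545
import Groth.Agent.ComodLib.Mu
-- import your own Groth.Agent.* helpers here

set_option autoImplicit false
universe u
open TensorProduct LaurentPolynomial
open GIT

namespace Groth.Agent.S12545

/-- Let a commutative bialgebra A over a field k coact linearly on affine ι-space, let λ be a
one-parameter subgroup (a bialgebra map to the Laurent polynomial ring) and v ≠ 0 a vector; write
μ(v, λ) = m when t^m · (v moved by λ(t)) extends to the affine line with non-zero value at t = 0.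
Then v moved by λ(t) has no limit as t → 0 exactly when μ(v, λ) > 0, has a limit different from the
origin exactly when μ(v, λ) = 0, and tends to the origin exactly when μ(v, λ) < 0. -/
theorem result (k : Type u) [Field k] (A : Type u) [CommRing A] [Bialgebra k A]
    (ι : Type u) [Fintype ι] [HopfRep.Comod k A (MvPolynomial ι k)] [GLin.IsCoactAlg k A (MvPolynomial ι k)]
    (hlin : GLin.IsLinear k A ι) (lam : A →ₐc[k] k[T;T⁻¹]) (v : ι → k) (hv : v ≠ 0) :
    (¬ GLin.HasLimit k A lam (GLin.vecPt k ι v) ↔ ∃ m : ℤ, GLin.IsMu k A lam v m ∧ 0 < m) ∧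
      ((GLin.HasLimit k A lam (GLin.vecPt k ι v) ∧
          ¬ GLin.IsLimit k A lam (GLin.vecPt k ι v) (GLin.vecPt k ι (fun _ => (0 : k)))) ↔
        GLin.IsMu k A lam v 0) ∧
      (GLin.IsLimit k A lam (GLin.vecPt k ι v) (GLin.vecPt k ι (fun _ => (0 : k))) ↔
        ∃ m : ℤ, GLin.IsMu k A lam v m ∧ m < 0) := by
  obtain ⟨m₀, hm₀, huniq⟩ := Groth.Agent.ComodLib.existsUnique_isMu lam hv
  obtain ⟨h1, i₀, hi₀⟩ := (Groth.Agent.ComodLib.isMu_iff lam v m₀).mp hm₀
  have hlim : GLin.HasLimit k A lam (GLin.vecPt k ι v) ↔ m₀ ≤ 0 := by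
    rw [Groth.Agent.ComodLib.hasLimit_iff]
    refine ⟨fun h => ?_, fun h i n hn => h1 i n (by omega)⟩
    by_contra hc
    exact hi₀ (h i₀ _ (by omega))
  have hzero : GLin.IsLimit k A lam (GLin.vecPt k ι v) (GLin.vecPt k ι (fun _ => (0 : k))) ↔ m₀ < 0 := by
    rw [Groth.Agent.ComodLib.isLimit_iff]
    refine ⟨fun h => ?_, fun h => ⟨fun i n hn => h1 i n (by omega), fun i => h1 i 0 (by omega)⟩⟩
    by_contra hc
    rcases (not_lt.mp hc).lt_or_eq with h0 | h0
    · exact hi₀ (h.1 i₀ _ (by omega))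
    · refine hi₀ ?_
      rw [← h0, neg_zero]
      exact h.2 i₀
  have hmu : ∀ m, GLin.IsMu k A lam v m ↔ m = m₀ := fun m => ⟨huniq m, fun h => h ▸ hm₀⟩
  simp only [hlim, hzero, hmu, exists_eq_left, not_le, not_lt]
  exact ⟨trivial, ⟨fun h => by omega, fun h => by omega⟩, trivial⟩

end Groth.Agent.S12545
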