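import Groth.Statements.S12546
import Groth.Agent.FormsSLLib.Binary
-- import your own Groth.Agent.* helpers here

set_option autoImplicit false
universe u
open TensorProduct LaurentPolynomial
open GIT

namespace Groth.Agent.S12546

open Groth.Agent.FormsSLLib Groth.Agent.SmoothFormLib MvPolynomial
open scoped Groth.Agent.FormsSLLib
theorem binary_aux {k : Type u} [Field k] [IsAlgClosed k] {d : ℕ} (a : Fin (d + 1) → k) (ha : a ≠ 0) [CharZero k] :
    ∃ (cst : k) (p : Fin d → Fin 2 → k), cst ≠ 0 ∧ (∀ i, p i ≠ 0) ∧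
      CoordGrp.formPoly (CoordGrp.binVec d a) = MvPolynomial.C cst * ∏ i, linForm (p i) := by
  refine exists_factorisation _ (isHomogeneous_formPoly _) fun h => ?_
  obtain ⟨i, hi⟩ := Function.ne_iff.mp ha
  refine hi ?_
  have h1 := (coeff_ne_zero_iff factorial_ne_zero (CoordGrp.binVec d a) (CoordGrp.binIdx d i)).not
  rw [h, coeff_zero, CoordGrp.binVec_binIdx] at h1
  simpa using h1

theorem binary_subspace {k : Type u} [Field k] [IsAlgClosed k] {d : ℕ} (p : Fin d → Fin 2 → k) (cst : k) (F : MvPolynomial (Fin 2) k)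
    (hF : F = MvPolynomial.C cst * ∏ i, linForm (p i)) (W : Submodule k (Fin 2 → k)) (hW : W ≠ ⊥) (hW' : W ≠ ⊤) :
    Module.finrank k W = 1 ∧ ∃ ℓ : MvPolynomial (Fin 2) k, ℓ.IsHomogeneous 1 ∧ ℓ ≠ 0 ∧
      ℓ ^ Nat.card {i : Fin d // p i ∈ W} ∣ F := by
  classical
  have h0 : Module.finrank k W ≠ 0 := fun h => hW (Submodule.finrank_eq_zero.mp h)
  have h2 : Module.finrank k W < 2 := by
    have := Submodule.finrank_lt hW'
    rwa [Module.finrank_fintype_fun_eq_card, Fintype.card_fin] at this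
  obtain ⟨q, hqW, hq⟩ := W.exists_mem_ne_zero_of_ne_bot hW
  have hspan : ∀ x ∈ W, ∃ c : k, c • q = x := fun x hx => by
    obtain ⟨c, hc⟩ := exists_smul_eq_of_finrank_eq_one (show Module.finrank k W = 1 by omega)
      (x := (⟨q, hqW⟩ : W)) (fun e => hq (congrArg Subtype.val e)) ⟨x, hx⟩
    exact ⟨c, congrArg Subtype.val hc⟩
  refine ⟨by omega, linForm q, IsHomogeneous.sum _ _ _ fun j _ => (isHomogeneous_X k j).C_mul _, fun h => ?_, ?_⟩
  · refine hq (funext fun j => ?_)
    rw [← coeff_linForm_single q j, h, coeff_zero]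
    rfl
  · rw [hF]
    refine Dvd.dvd.mul_left ?_ _
    rw [Nat.card_eq_fintype_card, Fintype.card_subtype, ← Finset.prod_const,
      ← Finset.prod_filter_mul_prod_filter_not Finset.univ (fun i => p i ∈ W)]
    refine Dvd.dvd.mul_right (Finset.prod_dvd_prod_of_dvd _ _ fun i hi => ?_) _
    obtain ⟨c, hc⟩ := hspan _ (Finset.mem_filter.mp hi).2
    exact ⟨MvPolynomial.C c, by rw [← hc, linForm_smul, mul_comm]⟩

theorem binary_weights {k : Type u} [Field k] [IsAlgClosed k] (F : MvPolynomial (Fin 2) k) {d : ℕ} (hF : F.IsHomogeneous d)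
    (ℓ : MvPolynomial (Fin 2) k) (hℓ : ℓ.IsHomogeneous 1) (hne : ℓ ≠ 0) (m : ℕ) (hdvd : ℓ ^ m ∣ F) :
    ∃ M : Matrix (Fin 2) (Fin 2) k, M.det = 1 ∧ ∀ α, coeff α (linSub M F) ≠ 0 → m ≤ α 1 ∧ α 0 + α 1 = d := by
  classical
  let q : Fin 2 → k := fun j => coeff (Finsupp.single j 1) ℓ
  have hl : ℓ = linForm q := exists_linForm ℓ hℓ
  have hq : q ≠ 0 := fun h => hne (by rw [hl, h]; simp [linForm])
  obtain ⟨v, hv, hqv⟩ : ∃ v : Fin 2 → k, v ≠ 0 ∧ q 0 * v 0 + q 1 * v 1 = 0 := by
    refine ⟨![-q 1, q 0], fun h => hq ?_, by simp; ring⟩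
    funext i
    fin_cases i
    · simpa using congrFun h 1
    · simpa using congrFun h 0
  obtain ⟨M, hM, c, -, hcol⟩ := exists_frame (n := 2) (m := 1) (by norm_num) ![v]
    (by rw [linearIndependent_unique_iff]; simpa using hv) (by norm_num)
  have hMe : M.mulVec (Pi.single 0 1) = c • v := by simpa using hcol 0
  have hq0 : Matrix.vecMul q M 0 = 0 := by
    have h2 : Matrix.vecMul q M 0 = dotProduct q (M.mulVec (Pi.single 0 1)) := by
      rw [Matrix.mulVec_single_one]
      rfl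
    rw [h2, hMe, dotProduct, Fin.sum_univ_two, Pi.smul_apply, Pi.smul_apply, smul_eq_mul, smul_eq_mul]
    linear_combination c * hqv
  obtain ⟨H, hH⟩ := hdvd
  refine ⟨M, hM, fun α hα => ?_⟩
  have hd := isHomogeneous_linSub M hF hα
  simp [Finsupp.weight_apply, Finsupp.sum_fintype, Fin.sum_univ_two] at hd
  refine ⟨?_, hd⟩
  rw [hH, map_mul, map_pow, hl, linSub_linForm,
    show linForm (Matrix.vecMul q M) = MvPolynomial.C (Matrix.vecMul q M 1) * X 1 by simp [linForm, Fin.sum_univ_two, hq0],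
    mul_pow, mul_assoc, ← map_pow MvPolynomial.C, coeff_C_mul, X_pow_eq_monomial, coeff_monomial_mul'] at hα
  by_contra hlt
  apply hα
  rw [if_neg (fun h => hlt (by simpa using h 1)), mul_zero]

/-- Let k be an algebraically closed field of characteristic zero and let SL_2 act by substitution on
binary forms of degree d, a form being the point a = (a_0, …, a_d) with F = Σ_i (d choose i) a_i
x^(d−i) y^i. For a ≠ 0: a is stable (closed orbit, finite stabiliser) if and only if every non-zero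
linear form ℓ and every m with ℓ^m dividing F satisfy 2m < d, i.e. F has no root on the projective
line of multiplicity d/2 or more. -/
theorem result (k : Type u) [Field k] [IsAlgClosed k] [CharZero k]
    (d : ℕ) (a : Fin (d + 1) → k) (ha : a ≠ 0) :
    @GLin.IsStableVec k _ (CoordGrp.SLn 2 k) _ _ (CoordGrp.FormIdx 2 d) (GLin.comodAlong ((CoordGrp.SLn.mkHom 2 k).comp (CoordGrp.Mat.toGLn 2 k)) (CoordGrp.formsCoact k 2 d))
      (GLin.isCoactAlg_comodAlong ((CoordGrp.SLn.mkHom 2 k).comp (CoordGrp.Mat.toGLn 2 k)) (CoordGrp.formsCoact k 2 d)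
        (CoordGrp.formsCoact_isCoactAlg k 2 d))
      (CoordGrp.binVec d a) ↔
      ∀ ℓ : MvPolynomial (Fin 2) k, ℓ.IsHomogeneous 1 → ℓ ≠ 0 →
        ∀ m : ℕ, ℓ ^ m ∣ CoordGrp.formPoly (CoordGrp.binVec d a) → 2 * m < d := by
  classical
  show GLin.IsStableVec k (CoordGrp.SLn 2 k) (CoordGrp.binVec d a) ↔ _
  constructor
  · intro hst ℓ hℓ hne m hdvd
    by_contra hlt
    obtain ⟨M, hM, hMα⟩ := binary_weights _ (isHomogeneous_formPoly (CoordGrp.binVec d a)) ℓ hℓ hne m hdvd
    refine not_isStableVec_of_weights factorial_ne_zero (CoordGrp.binVec d a) ![-1, 1] (by simp [Fin.sum_univ_two]) (fun h => ?_) M hM ?_ hst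
    · have := congrFun h 0; simp at this
    · intro α hα
      obtain ⟨h1, h2⟩ := hMα α hα
      simp only [wt, Fin.sum_univ_two, Matrix.cons_val]
      omega
  · intro h
    obtain ⟨cst, p, hcst, hp, hF⟩ := binary_aux a ha
    refine isStableVec_of_subspaces (n := 1) p hp cst hcst _ hF fun W hW hW' => ?_
    obtain ⟨hfr, ℓ, hℓ, hne, hdvd⟩ := binary_subspace p cst _ hF W hW hW'
    rw [hfr, mul_one, mul_comm]
    exact h ℓ hℓ hne _ hdvd

end Groth.Agent.S12546
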