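import Groth.Statements.S12548
import Groth.Agent.SmoothFormLib.Orbit
-- import your own Groth.Agent.* helpers here

set_option autoImplicit false
universe u
open TensorProduct LaurentPolynomial
open GIT

namespace Groth.Agent.S12548

open Groth.Agent.SmoothFormLib TensorProduct

/-- Let k be an algebraically closed field of characteristic zero, m ≥ 3, and let SL_(n+1) act by
substitution on forms of degree m in n+1 variables, the point a having the form F = Σ_e (m; e) a_e
x^e. If the hypersurface F = 0 is non-singular (at every non-zero vector some partial derivative of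
F is non-zero), then a is stable: its orbit is closed and its stabiliser is finite. -/
theorem result (k : Type u) [Field k] [IsAlgClosed k] [CharZero k]
    (n m : ℕ) (hm : 3 ≤ m) (a : CoordGrp.FormIdx (n + 1) m → k)
    (hsmooth : ∀ w : Fin (n + 1) → k, w ≠ 0 →
      ∃ i : Fin (n + 1), MvPolynomial.eval w (MvPolynomial.pderiv i (CoordGrp.formPoly a)) ≠ 0) :
    @GLin.IsStableVec k _ (CoordGrp.SLn (n + 1) k) _ _ (CoordGrp.FormIdx (n + 1) m) (GLin.comodAlong ((CoordGrp.SLn.mkHom (n + 1) k).comp (CoordGrp.Mat.toGLn (n + 1) k)) (CoordGrp.formsCoact k (n + 1) m))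
      (GLin.isCoactAlg_comodAlong ((CoordGrp.SLn.mkHom (n + 1) k).comp (CoordGrp.Mat.toGLn (n + 1) k)) (CoordGrp.formsCoact k (n + 1) m)
        (CoordGrp.formsCoact_isCoactAlg k (n + 1) m))
      a := by
  classical
  let φ : CoordGrp.Mat (n + 1) k →ₐc[k] CoordGrp.SLn (n + 1) k :=
    (CoordGrp.SLn.mkHom (n + 1) k).comp (CoordGrp.Mat.toGLn (n + 1) k)
  letI ci : HopfRep.Comod k (CoordGrp.SLn (n + 1) k) (CoordGrp.FormRing k (n + 1) m) :=
    GLin.comodAlong φ (CoordGrp.formsCoact k (n + 1) m)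
  haveI hci : GLin.IsCoactAlg k (CoordGrp.SLn (n + 1) k) (CoordGrp.FormRing k (n + 1) m) :=
    GLin.isCoactAlg_comodAlong φ (CoordGrp.formsCoact k (n + 1) m) (CoordGrp.formsCoact_isCoactAlg k (n + 1) m)
  show GLin.IsStablePt k (CoordGrp.SLn (n + 1) k) (GLin.vecPt k (CoordGrp.FormIdx (n + 1) m) a)
  refine isStablePt_of_finite _ ?_
  let o := GLin.orbitHom k (CoordGrp.SLn (n + 1) k) (GLin.vecPt k (CoordGrp.FormIdx (n + 1) m) a)
  have ho : ∀ i, o (MvPolynomial.X i) = φ (∑ l, a l • CoordGrp.formCoeff k (n + 1) m l i) := fun i => by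
    show Algebra.TensorProduct.lid k (CoordGrp.SLn (n + 1) k)
      ((Algebra.TensorProduct.map (GLin.vecPt k (CoordGrp.FormIdx (n + 1) m) a) (AlgHom.id k _))
        (TensorProduct.map LinearMap.id (φ : CoordGrp.Mat (n + 1) k →ₗ[k] CoordGrp.SLn (n + 1) k)
          (CoordGrp.formsCoactAlg k (n + 1) m (MvPolynomial.X i)))) = _
    rw [CoordGrp.formsCoactAlg_X, map_sum, map_sum, map_sum, map_sum]
    refine Finset.sum_congr rfl fun l _ => ?_
    simp [GLin.vecPt, map_smul]
  have hφX : ∀ i j, φ (CoordGrp.Mat.X i j) = CoordGrp.SLn.X i j := fun i j => by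
    show CoordGrp.SLn.mk (n + 1) k (CoordGrp.Mat.toGLn (n + 1) k (CoordGrp.Mat.X i j)) = _
    rw [CoordGrp.Mat.toGLn_X]
    rfl
  have hdetX : (Matrix.of fun i j => (CoordGrp.SLn.X i j : CoordGrp.SLn (n + 1) k)).det = 1 := by
    have h : CoordGrp.SLn.mk (n + 1) k (CoordGrp.GLn.mk (n + 1) k (CoordGrp.GLb.det (n + 1) k)) = 1 :=
      CoordGrp.SLn.det_eq_one
    rw [← h, CoordGrp.GLb.det, AlgHom.map_det, AlgHom.map_det]
    rfl
  have hint : ∀ i j, o.toRingHom.IsIntegralElem (φ (CoordGrp.Mat.X i j)) := by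
    intro i j
    refine isIntegralElem_of_valuation o.toRingHom _ fun K _ ψ V hV => ?_
    letI : Algebra k K := (ψ.comp (algebraMap k (CoordGrp.SLn (n + 1) k))).toAlgebra
    let ψ' : CoordGrp.SLn (n + 1) k →ₐ[k] K := ⟨ψ, fun _ => rfl⟩
    let ev : CoordGrp.Mat (n + 1) k →ₐ[k] K := ψ'.comp (φ : CoordGrp.Mat (n + 1) k →ₐ[k] CoordGrp.SLn (n + 1) k)
    have hVk : ∀ c : k, algebraMap k K c ∈ V := fun c => by
      have := hV (algebraMap k _ c)
      simpa [RingHom.algebraMap_toAlgebra] using this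
    refine entries_mem V hVk hm (CoordGrp.formPoly a) (isHomogeneous_formPoly a) hsmooth
      (Matrix.of fun i j => ev (CoordGrp.Mat.X i j)) ?_ ?_ i j
    · have h := congrArg ψ' hdetX
      rw [AlgHom.map_det, map_one] at h
      rw [← h]
      congr 1
      ext i j
      simp [ev, hφX]
    · intro α
      by_cases hα : α.degree = m
      · rw [coeff_linSub_formPoly ev a ⟨α, hα⟩]
        refine V.mul_mem _ _ (natCast_mem V _) ?_
        have h := hV (MvPolynomial.X ⟨α, hα⟩)
        rw [show o.toRingHom (MvPolynomial.X ⟨α, hα⟩) = o (MvPolynomial.X ⟨α, hα⟩) from rfl, ho] at h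
        exact h
      · rw [MvPolynomial.IsHomogeneous.coeff_eq_zero
          (isHomogeneous_linSub _ ((isHomogeneous_formPoly a).map _)) hα]
        exact V.zero_mem
  letI : Algebra (CoordGrp.FormRing k (n + 1) m) (CoordGrp.SLn (n + 1) k) := o.toRingHom.toAlgebra
  haveI : IsScalarTower k (CoordGrp.FormRing k (n + 1) m) (CoordGrp.SLn (n + 1) k) :=
    IsScalarTower.of_algebraMap_eq fun c => (o.commutes c).symm
  let S := (integralClosure (CoordGrp.FormRing k (n + 1) m) (CoordGrp.SLn (n + 1) k)).restrictScalars k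
  let Ψ : MvPolynomial (CoordGrp.GLPoly.Idx (n + 1)) k →ₐ[k] CoordGrp.SLn (n + 1) k :=
    (CoordGrp.SLn.mk (n + 1) k).comp (CoordGrp.GLn.mk (n + 1) k)
  have hΨ : Function.Surjective Ψ := fun z => by
    obtain ⟨z₁, rfl⟩ := Ideal.Quotient.mk_surjective z
    obtain ⟨z₂, rfl⟩ := Ideal.Quotient.mk_surjective z₁
    exact ⟨z₂, rfl⟩
  have hall : ∀ p, Ψ p ∈ S := by
    have htop : (⊤ : Subalgebra k (MvPolynomial (CoordGrp.GLPoly.Idx (n + 1)) k)) ≤ S.comap Ψ := by
      rw [← MvPolynomial.adjoin_range_X]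
      refine Algebra.adjoin_le ?_
      rintro _ ⟨(⟨i, j⟩ | ⟨⟩), rfl⟩
      · have h : φ (CoordGrp.Mat.X i j) ∈ S := hint i j
        rw [hφX] at h
        exact h
      · have h1 : CoordGrp.SLn.mk (n + 1) k CoordGrp.GLn.Dinv = 1 := by
          have := congrArg (CoordGrp.SLn.mk (n + 1) k) (CoordGrp.GLn.det_mul_Dinv (n := n + 1) (k := k))
          rwa [map_mul, CoordGrp.SLn.det_eq_one, one_mul, map_one] at this
        have h : CoordGrp.SLn.mk (n + 1) k CoordGrp.GLn.Dinv ∈ S := by
          rw [h1]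
          exact S.one_mem
        exact h
    exact fun p => htop (Algebra.mem_top (x := p))
  refine RingHom.IsIntegral.to_finite (fun z => ?_) ?_
  · obtain ⟨p, rfl⟩ := hΨ z
    exact hall p
  · have hft : (algebraMap k (CoordGrp.SLn (n + 1) k)).FiniteType := by
      rw [← Ψ.comp_algebraMap]
      exact RingHom.FiniteType.comp (RingHom.FiniteType.of_surjective _ hΨ)
        (RingHom.finiteType_algebraMap.mpr (inferInstance : Algebra.FiniteType k (MvPolynomial (CoordGrp.GLPoly.Idx (n + 1)) k)))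
    refine RingHom.FiniteType.of_comp_finiteType (f := algebraMap k (CoordGrp.FormRing k (n + 1) m)) ?_
    rw [show o.toRingHom.comp (algebraMap k _) = algebraMap k (CoordGrp.SLn (n + 1) k) from o.comp_algebraMap]
    exact hft

end Groth.Agent.S12548
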