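import Groth.Statements.S12549
import Mathlib
-- import your own Groth.Agent.* helpers here

set_option autoImplicit false
universe u
open GIT

namespace Groth.Agent.S12549

/-- Let g ≥ 1 and n ≥ 2g, and let e_0, …, e_n be natural numbers with e_0 = 0, e_n = n + g, e_0 ≤ … ≤
e_n, e_i ≤ i for i ≤ n − g and e_i ≤ i + g for all i. Then for all real r_0 ≥ r_1 ≥ … ≥ r_n with Σ
r_i = 0, not all zero, some chain 0 = c_0 < c_1 < … < c_μ = n has Σ_j (e_(c_(j+1)) − e_(c_j)) ·
(r_(c_(j+1)) + r_(c_j)) < 0. -/
theorem result (n g : ℕ) (hg : 1 ≤ g) (hn : 2 * g ≤ n)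
    (e : Fin (n + 1) → ℕ) (he0 : e 0 = 0) (hen : e (Fin.last n) = n + g) (hmono : Monotone e)
    (hle : ∀ i : Fin (n + 1), (i : ℕ) ≤ n - g → e i ≤ (i : ℕ)) (hle' : ∀ i : Fin (n + 1), e i ≤ (i : ℕ) + g)
    (r : Fin (n + 1) → ℝ) (hanti : Antitone r) (hsum : ∑ i, r i = 0) (hr : r ≠ 0) :
    ∃ (μ : ℕ) (c : Fin (μ + 1) → Fin (n + 1)), StrictMono c ∧ c 0 = 0 ∧ c (Fin.last μ) = Fin.last n ∧
      ∑ j : Fin μ, ((e (c j.succ) : ℝ) - (e (c j.castSucc) : ℝ)) * (r (c j.succ) + r (c j.castSucc)) < 0 := by
  classical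
  by_contra hcon
  simp only [not_exists, not_and, not_lt] at hcon
  set R : ℕ → ℝ := fun i => r ⟨min i n, by omega⟩ with hR
  set E : ℕ → ℕ := fun i => e ⟨min i n, by omega⟩ with hE
  have hRv : ∀ i : Fin (n+1), R i = r i := by
    intro i
    simp only [hR]
    congr 1
    ext
    simp; omega
  have hRa : Antitone R := by
    intro i j hij
    exact hanti (by simp only [Fin.mk_le_mk]; omega)
  have hR0 : ∑ i ∈ Finset.range (n+1), R i = 0 := by
    rw [Finset.sum_range]
    simpa only [hRv] using hsum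
  -- the envelope
  set m := n - g with hm
  set F : ℕ → ℝ := fun i => if i ≤ m then (i:ℝ) else (i:ℝ) + g with hF
  have hEF : ∀ i, i ≤ n → (E i : ℝ) ≤ F i := by
    intro i hi
    simp only [hE, hF]
    split_ifs with h
    · have := hle ⟨min i n, by omega⟩ (by simp; omega)
      simp only [Nat.min_eq_left hi] at this ⊢
      exact_mod_cast this
    · have := hle' ⟨min i n, by omega⟩
      simp only [Nat.min_eq_left hi] at this ⊢
      exact_mod_cast this
  have hE0 : E 0 = 0 := by
    simp only [hE]
    convert he0 using 2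
    ext; simp
  have hEn : E n = n + g := by
    simp only [hE]
    rw [← hen]; congr 1; ext; simp [Fin.last]
  have hval : ∀ (μ : ℕ) (c : ℕ → ℕ), (∀ j, j < μ → c j < c (j+1)) → c 0 = 0 → c μ = n →
      0 ≤ ∑ j ∈ Finset.range μ, (F (c (j+1)) - F (c j)) * (R (c (j+1)) + R (c j)) := by
    intro μ c hc hc0 hcμ
    have hmon : ∀ j, j ≤ μ → ∀ i, i ≤ j → c i ≤ c j := by
      intro j
      induction j with
      | zero => intro _ i hi; rw [Nat.le_zero.mp hi]
      | succ j ih =>
        intro hj i hi
        rcases Nat.lt_or_ge i (j+1) with h | h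
        · exact le_trans (ih (by omega) i (by omega)) (le_of_lt (hc j (by omega)))
        · rw [show i = j + 1 by omega]
    have hcn : ∀ j, j ≤ μ → c j ≤ n := fun j hj => hcμ ▸ hmon μ le_rfl j hj
    set cc : Fin (μ+1) → Fin (n+1) := fun j => ⟨c j, by have := hcn j (by omega); omega⟩ with hcc
    have h1 := hcon μ cc (Fin.strictMono_iff_lt_succ.mpr (fun j => by
        simp only [hcc, Fin.mk_lt_mk, Fin.val_castSucc, Fin.val_succ]; exact hc j j.isLt))
      (by ext; simp [hcc, hc0]) (by ext; simp [hcc, hcμ])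
    have hv : ∀ i, i ≤ μ → ∀ (hi : i < μ + 1), (e (cc ⟨i, hi⟩) = E (c i)) ∧ r (cc ⟨i, hi⟩) = R (c i) := by
      intro i hi _
      have hq : cc ⟨i, by omega⟩ = ⟨min (c i) n, by omega⟩ := by
        ext; simp [hcc, Nat.min_eq_left (hcn i hi)]
      exact ⟨congrArg e hq, congrArg r hq⟩
    have h2 : 0 ≤ ∑ j ∈ Finset.range μ, ((E (c (j+1)) : ℝ) - E (c j)) * (R (c (j+1)) + R (c j)) := by
      rw [Finset.sum_range]
      refine le_of_le_of_eq h1 (Finset.sum_congr rfl fun j _ => ?_)
      obtain ⟨a1, a2⟩ := hv (j+1) (by omega) (by omega)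
      obtain ⟨b1, b2⟩ := hv j (by omega) (by omega)
      rw [← a1, ← a2, ← b1, ← b2]
      rfl
    have key : ∀ j, j ≤ μ → 2 * (F (c j) - E (c j)) * R (c j) ≤
        ∑ i ∈ Finset.range j, ((F (c (i+1)) - E (c (i+1))) - (F (c i) - E (c i))) * (R (c (i+1)) + R (c i)) := by
      intro j
      induction j with
      | zero => intro _; simp [hc0, hE0, hF]
      | succ j ih =>
        intro hj
        rw [Finset.sum_range_succ]
        have a := ih (by omega)
        have d0 : 0 ≤ F (c j) - E (c j) := sub_nonneg.mpr (hEF _ (hcn j (by omega)))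
        have d1 : 0 ≤ F (c (j+1)) - E (c (j+1)) := sub_nonneg.mpr (hEF _ (hcn _ hj))
        have hr' : R (c (j+1)) ≤ R (c j) := hRa (le_of_lt (hc j (by omega)))
        nlinarith [mul_nonneg d0 (sub_nonneg.mpr hr'), mul_nonneg d1 (sub_nonneg.mpr hr')]
    have h3 := key μ le_rfl
    have hFn : F (c μ) - E (c μ) = 0 := by
      rw [hcμ, hEn]
      simp only [hF]
      rw [if_neg (by omega)]
      push_cast; ring
    rw [hFn] at h3
    simp only [mul_zero, zero_mul] at h3
    have : ∑ j ∈ Finset.range μ, (F (c (j+1)) - F (c j)) * (R (c (j+1)) + R (c j)) =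
        ∑ j ∈ Finset.range μ, ((E (c (j+1)) : ℝ) - E (c j)) * (R (c (j+1)) + R (c j)) +
        ∑ i ∈ Finset.range μ, ((F (c (i+1)) - E (c (i+1))) - (F (c i) - E (c i))) * (R (c (i+1)) + R (c i)) := by
      rw [← Finset.sum_add_distrib]
      exact Finset.sum_congr rfl fun i _ => by ring
    linarith
  -- the one step chain
  have hay : 0 ≤ R 0 + R n := by
    have h := hval 1 (fun j => if j = 0 then 0 else n) (by intro j hj; interval_cases j; simp; omega) (by simp) (by simp)
    have hmn : ¬ n ≤ m := by omega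
    simp [hF, hmn] at h
    have hpos : (0:ℝ) < (n:ℝ) + g := by
      have : (1:ℝ) ≤ g := by exact_mod_cast hg
      positivity
    by_contra hh
    nlinarith [mul_pos hpos (neg_pos.mpr (not_le.mp hh))]
  -- middle sums
  set U : ℕ → ℝ := fun t => ∑ j ∈ Finset.range (2*t), R (m + 1 - t + j) with hU
  have hUs : ∀ t, t + 1 ≤ m + 1 → U (t+1) = U t + (R (m - t) + R (m + 1 + t)) := by
    intro t ht
    simp only [hU]
    rw [show 2*(t+1) = (2*t+1)+1 by ring, Finset.sum_range_succ, Finset.sum_range_succ']
    have h1 : ∀ j, m + 1 - (t+1) + (j+1) = m + 1 - t + j := fun j => by omega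
    simp only [h1]
    rw [show m + 1 - (t+1) + 0 = m - t by omega, show m + 1 - t + 2*t = m + 1 + t by omega]
    ring
  have hu : ∀ t, t < g → 0 ≤ U t → 0 ≤ R (m - t) + R (m + 1 + t) := by
    intro t ht hUt
    set p := m - t with hp
    set c : ℕ → ℕ := fun j => if j ≤ p then j else j + 2*t with hc
    have hμ : p < n - 2*t := by omega
    have h := hval (n - 2*t) c (by intro j hj; simp only [hc]; split_ifs <;> omega) (by simp [hc])
      (by simp only [hc]; rw [if_neg (by omega)]; omega)
    have hterm : ∀ j ∈ Finset.range (n - 2*t), (F (c (j+1)) - F (c j)) * (R (c (j+1)) + R (c j)) =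
        (R (c (j+1)) + R (c j)) + (if j = p then (2*(t:ℝ) + g) * (R (m - t) + R (m+1+t)) else 0) := by
      intro j hj
      have hj' := Finset.mem_range.mp hj
      rcases lt_trichotomy j p with h | h | h
      · simp only [hc, if_pos (le_of_lt h), if_pos (show j + 1 ≤ p by omega), if_neg (ne_of_lt h), hF,
          if_pos (show j ≤ m by omega), if_pos (show j + 1 ≤ m by omega)]
        push_cast; ring
      · rw [h]
        simp only [hc, le_refl, if_true, if_neg (show ¬ (p + 1 ≤ p) by omega), hF,
          if_pos (show p ≤ m by omega), if_neg (show ¬ (p + 1 + 2*t ≤ m) by omega)]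
        rw [show p + 1 + 2*t = m + 1 + t by omega, hp]
        have hjt : ((m - t : ℕ) : ℝ) = (m:ℝ) - t := by rw [Nat.cast_sub (by omega)]
        push_cast [hjt]; ring
      · simp only [hc, if_neg (show ¬ j ≤ p by omega), if_neg (show ¬ j + 1 ≤ p by omega), if_neg (ne_of_gt h), hF,
          if_neg (show ¬ j + 2*t ≤ m by omega), if_neg (show ¬ j + 1 + 2*t ≤ m by omega)]
        push_cast; ring
    rw [Finset.sum_congr rfl hterm, Finset.sum_add_distrib, Finset.sum_ite_eq', if_pos (Finset.mem_range.mpr hμ)] at h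
    have hsum2 : ∑ j ∈ Finset.range (n - 2*t + 1), R (c j) = - U t := by
      have e1 : n - 2*t + 1 = (p + 1) + (n - 2*t - p) := by omega
      have e2 : n + 1 = (p + 1) + (2*t) + (n - 2*t - p) := by omega
      rw [e2, Finset.sum_range_add, Finset.sum_range_add] at hR0
      rw [e1, Finset.sum_range_add]
      have a1 : ∀ j ∈ Finset.range (p+1), R (c j) = R j := fun j hj => by
        have := Finset.mem_range.mp hj
        simp only [hc]; rw [if_pos (by omega)]
      have a2 : ∀ j, R (c (p + 1 + j)) = R (p + 1 + 2*t + j) := fun j => by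
        simp only [hc]; rw [if_neg (by omega)]; congr 1; omega
      rw [Finset.sum_congr rfl a1]
      simp only [a2, hU]
      rw [show m + 1 - t = p + 1 by omega]
      linarith
    have hpair : ∑ j ∈ Finset.range (n - 2*t), (R (c (j+1)) + R (c j)) = 2 * (-U t) - R 0 - R n := by
      rw [Finset.sum_add_distrib, ← hsum2]
      have q1 := Finset.sum_range_succ' (fun j => R (c j)) (n - 2*t)
      have q2 := Finset.sum_range_succ (fun j => R (c j)) (n - 2*t)
      have c0 : c 0 = 0 := by simp [hc]
      have cn : c (n - 2*t) = n := by simp only [hc]; rw [if_neg (by omega)]; omega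
      simp only [c0] at q1
      simp only [cn] at q2
      linarith
    rw [hpair] at h
    have hpos : (0:ℝ) < 2*(t:ℝ) + g := by
      have : (1:ℝ) ≤ g := by exact_mod_cast hg
      positivity
    by_contra hh
    nlinarith [mul_pos hpos (neg_pos.mpr (not_le.mp hh))]
  have hUn : ∀ t, t ≤ g → 0 ≤ U t := by
    intro t
    induction t with
    | zero => intro _; simp [hU]
    | succ t ih =>
      intro ht
      rw [hUs t (by omega)]
      have := hu t (by omega) (ih (by omega))
      have := ih (by omega)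
      linarith
  have hm0 : 0 ≤ R m := by
    have := hu 0 hg (by simp [hU])
    simp at this
    have := hRa (show m ≤ m + 1 by omega)
    linarith
  have ha : 0 < R 0 := by
    by_contra ha
    apply hr
    funext i
    have hle0 : ∀ j : Fin (n+1), r j ≤ 0 := fun j => by
      rw [← hRv j]; exact le_trans (hRa (Nat.zero_le _)) (not_lt.mp ha)
    exact (Finset.sum_eq_zero_iff_of_nonpos (fun j _ => hle0 j)).mp hsum i (Finset.mem_univ _)
  have hfin := hUn g le_rfl
  have e3 : n + 1 = (n - 2*g + 1) + 2*g := by omega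
  rw [e3, Finset.sum_range_add] at hR0
  simp only [hU, show m + 1 - g = n - 2*g + 1 by omega] at hfin
  have hfirst : R 0 ≤ ∑ i ∈ Finset.range (n - 2*g + 1), R i := by
    refine Finset.single_le_sum (f := R) (fun i hi => ?_) (by simp)
    have := Finset.mem_range.mp hi
    exact le_trans hm0 (hRa (by omega))
  linarith

end Groth.Agent.S12549
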