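import Groth.Statements.S1255
import Groth.Agent.RG.CoverPure
import Groth.Agent.RG.EtaleFibre
import Groth.Agent.RG.FlatBC
import Groth.Agent.RG.Devissage
import Groth.Agent.S1221
-- import your own Groth.Agent.* helpers here

set_option autoImplicit false
universe u
open FlatMor

namespace Groth.Agent.S1255

set_option backward.isDefEq.respectTransparency false
set_option backward.isDefEq.respectTransparency.types false
set_option linter.style.haveILetI false
set_option linter.unusedSectionVars false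
set_option maxHeartbeats 1000000

open TensorProduct Groth.Agent.ZClosLib

attribute [local instance] Algebra.TensorProduct.rightAlgebra


/-- Purity upstairs gives a specialization downstairs. -/
theorem exists_specialization_tensor {A' B' N' : Type u} [CommRing A'] [CommRing B'] [Algebra A' B'] [AddCommGroup N']
    [Module B' N'] [Module A' N'] [IsScalarTower A' B' N'] {p' : Ideal A'} [p'.IsPrime]
    (hpure : FlatCA.IsPureAlong A' B' N' p') {A₃ : Type u} [CommRing A₃] [Algebra A' A₃] {T : Ideal A₃} [T.IsPrime]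
    (hA₃ : FlatCA.IsEtaleNhd A' A₃ p' T)
    {B₃ C₃ : Type u} [CommRing B₃] [CommRing C₃] [Algebra A₃ B₃] [Algebra B₃ C₃] [Algebra A₃ C₃] [IsScalarTower A₃ B₃ C₃]
    [Module.Flat B₃ C₃] [Algebra.FiniteType A₃ B₃] [Algebra.FiniteType A₃ C₃] [Algebra B' C₃] [Algebra A' C₃]
    [IsScalarTower A' B' C₃] [IsScalarTower A' A₃ C₃] [Algebra.IsPushout A' B' A₃ C₃]
    (N₃ : Type u) [AddCommGroup N₃] [Module B₃ N₃] [Module A₃ N₃] [IsScalarTower A₃ B₃ N₃]
    (N₄ : Type u) [AddCommGroup N₄] [Module C₃ N₄] [Module B₃ N₄] [IsScalarTower B₃ C₃ N₄] [Module A₃ N₄]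
    [IsScalarTower A₃ C₃ N₄] [Module B' N₄] [IsScalarTower B' C₃ N₄]
    (k : N₃ →ₗ[B₃] N₄) (hk : IsBaseChange C₃ k) (g₄ : N' →ₗ[B'] N₄) (hg₄ : IsBaseChange C₃ g₄)
    {t₃ : Ideal A₃} [t₃.IsPrime] (ht₃le : t₃ ≤ T) (P₃ : Ideal B₃) [P₃.IsPrime] [P₃.LiesOver t₃]
    (hass₃ : FlatCA.fiberIdeal t₃ P₃ ∈ associatedPrimes (t₃.Fiber B₃) (FlatCA.fiberMod t₃ B₃ N₃))
    (r : Ideal C₃) [r.IsPrime] (hrP : r.comap (algebraMap B₃ C₃) = P₃) :
    ∃ P' : Ideal B₃, P'.IsPrime ∧ P₃ ≤ P' ∧ P'.LiesOver T := by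
  obtain ⟨Q₀, hQ₀, -, hQ₀P, hQ₀t, hQ₀a⟩ := RG.exists_assoc_above N₃ N₄ k hk t₃ P₃ hass₃ r hrP
  haveI := hQ₀
  obtain ⟨Q₀', hQ₀', hle, hQ₀'T⟩ := RG.assoc_specializes_of_pure hpure hA₃ g₄ hg₄ t₃ ht₃le Q₀ hQ₀t hQ₀a
  haveI := hQ₀'
  refine ⟨Q₀'.comap (algebraMap B₃ C₃), inferInstance, hQ₀P.ge.trans (Ideal.comap_mono hle), ⟨?_⟩⟩
  rw [Ideal.under_def, Ideal.comap_comap, ← IsScalarTower.algebraMap_eq A₃ B₃ C₃]
  exact hQ₀'T.over

/-- The chart, over a refinement of the étale neighbourhood. -/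
theorem not_impurity_generic {A B : Type u} [CommRing A] [CommRing B] [Algebra A B] [Algebra.FiniteType A B]
    {N : Type u} [AddCommGroup N] [Module B N] [Module.Finite B N] (p : Ideal A) [p.IsPrime]
    {A' : Type u} [CommRing A'] [Algebra A A'] {p' : Ideal A'} [p'.IsPrime]
    {B' : Type u} [CommRing B'] [Algebra B B'] [Algebra A' B'] [Algebra A B'] [IsScalarTower A B B'] [IsScalarTower A A' B']
    {N' : Type u} [AddCommGroup N'] [Module B' N'] [Module B N'] [IsScalarTower B B' N'] [Module A' N'] [IsScalarTower A' B' N']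
    (hpure : FlatCA.IsPureAlong A' B' N' p')
    {BA NA : Type u} [CommRing BA] [Algebra B BA] [Algebra A' BA] [Algebra A BA] [IsScalarTower A B BA]
    [IsScalarTower A A' BA] [Algebra.IsPushout A B A' BA] [Algebra.IsPushout A A' B BA] [Algebra.FiniteType A' BA]
    [Algebra BA B'] [IsScalarTower B BA B'] [IsScalarTower A' BA B'] [Algebra.Etale BA B']
    [AddCommGroup NA] [Module BA NA] [Module B NA] [IsScalarTower B BA NA] [Module A' NA] [IsScalarTower A' BA NA]
    (hcond : ∀ (t' : Ideal A') [t'.IsPrime], t' ≤ p' → ∀ (Q : Ideal BA) [Q.IsPrime], Q.LiesOver t' →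
      FlatCA.fiberIdeal t' Q ∈ associatedPrimes (t'.Fiber BA) (FlatCA.fiberMod t' BA NA) →
      ∃ Q' : Ideal B', Q'.IsPrime ∧ Q'.comap (algebraMap BA B') = Q)
    (A₃ : Type u) [CommRing A₃] [Algebra A' A₃] (T : Ideal A₃) [T.IsPrime] [hTp : T.LiesOver p']
    (hA₃ : FlatCA.IsEtaleNhd A' A₃ p' T)
    (B₃ : Type u) [CommRing B₃] [Algebra B B₃] [Algebra BA B₃] [Algebra A' B₃] [Algebra A₃ B₃]
    [IsScalarTower B BA B₃] [IsScalarTower A' BA B₃] [IsScalarTower A' A₃ B₃]
    [Algebra.IsPushout A' A₃ BA B₃] [Algebra.FiniteType A₃ B₃]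
    (N₃ : Type u) [AddCommGroup N₃] [Module B₃ N₃] [Module B N₃] [IsScalarTower B B₃ N₃] [Module BA N₃]
    [IsScalarTower BA B₃ N₃] [IsScalarTower B BA N₃] [Module A' N₃] [IsScalarTower A' BA N₃] [Module A₃ N₃]
    [IsScalarTower A₃ B₃ N₃] [IsScalarTower A' A₃ N₃] [IsScalarTower A' B₃ N₃]
    (f₃ : N →ₗ[B] N₃) (hf₃ : IsBaseChange B₃ f₃)
    {t₃ : Ideal A₃} [t₃.IsPrime] (ht₃le : t₃ ≤ T) (P₃ : Ideal B₃) [P₃.IsPrime] [P₃.LiesOver t₃]
    (hass₃ : FlatCA.fiberIdeal t₃ P₃ ∈ associatedPrimes (t₃.Fiber B₃) (FlatCA.fiberMod t₃ B₃ N₃))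
    (hno : ∀ (P' : Ideal B₃), P'.IsPrime → P₃ ≤ P' → ¬ P'.LiesOver T)
    (fA : N →ₗ[B] NA) (hfA : IsBaseChange BA fA) (f : N →ₗ[B] N') (hf : IsBaseChange B' f) : False := by
  haveI hpoB : Algebra.IsPushout A' A₃ BA B₃ := inferInstance
  let g : NA →ₗ[BA] N₃ := hfA.lift (f₃)
  have hg : IsBaseChange B₃ g := IsBaseChange.of_comp hfA (by rw [hfA.lift_comp]; exact hf₃)
  haveI : Algebra.IsPushout A' BA A₃ B₃ := hpoB.symm
  haveI : t₃.LiesOver (t₃.comap (algebraMap A' A₃)) := ⟨rfl⟩
  obtain ⟨hl, hassBA⟩ := PurityQF.assoc_contract (A := A') (C := A₃) g (RG.isBaseChange_restrict g hg)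
    (t₃.comap (algebraMap A' A₃)) t₃ P₃ hass₃
  obtain ⟨Q', hQ', hQ'P⟩ := hcond (t₃.comap (algebraMap A' A₃))
    ((Ideal.comap_mono ht₃le).trans hTp.over.ge) (P₃.comap (algebraMap BA B₃)) hl hassBA
  haveI := hQ'
  obtain ⟨r, hr, hrP⟩ := RG.exists_prime_tensor_left B₃ B' P₃ Q' hQ'P
  haveI := hr
  let C₃ := B₃ ⊗[BA] B'
  let N₄ := C₃ ⊗[B₃] N₃
  haveI : Algebra.Etale B₃ C₃ := inferInstance
  haveI : Algebra.FiniteType A₃ C₃ := Algebra.FiniteType.trans (inferInstance : Algebra.FiniteType A₃ B₃)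
    (inferInstance : Algebra.FiniteType B₃ C₃)
  haveI : IsScalarTower A' B' C₃ := IsScalarTower.of_algebraMap_eq (R := A') (S := B') (A := C₃) fun a => by
    rw [IsScalarTower.algebraMap_apply A' BA B', ← IsScalarTower.algebraMap_apply BA B' C₃,
      IsScalarTower.algebraMap_apply BA B₃ C₃, ← IsScalarTower.algebraMap_apply A' BA B₃]
    rfl
  haveI : IsScalarTower A' A₃ C₃ := IsScalarTower.of_algebraMap_eq (R := A') (S := A₃) (A := C₃) fun a => by
    rw [IsScalarTower.algebraMap_apply A₃ B₃ C₃, ← IsScalarTower.algebraMap_apply A' A₃ B₃]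
    rfl
  haveI : Algebra.IsPushout BA B₃ B' C₃ := inferInstance
  haveI hpoC : Algebra.IsPushout A' B' A₃ C₃ :=
    (Algebra.IsPushout.comp_iff A' BA A₃ B₃ (T := B') (T' := C₃)).2 (Algebra.IsPushout.symm inferInstance)
  letI : Module B' N₄ := Module.compHom N₄ (algebraMap B' C₃)
  haveI : IsScalarTower B' C₃ N₄ := IsScalarTower.of_algebraMap_smul fun _ _ => rfl
  haveI : IsScalarTower B C₃ N₄ := inferInstance
  haveI : IsScalarTower B B' C₃ := IsScalarTower.of_algebraMap_eq (R := B) (S := B') (A := C₃) fun b => by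
    rw [IsScalarTower.algebraMap_apply B BA B', ← IsScalarTower.algebraMap_apply BA B' C₃,
      IsScalarTower.algebraMap_apply BA B₃ C₃, ← IsScalarTower.algebraMap_apply B BA B₃]
    rfl
  haveI : IsScalarTower B B' N₄ := IsScalarTower.to₁₂₄ B B' C₃ N₄
  have hbc : IsBaseChange C₃ ((TensorProduct.mk B₃ C₃ N₃ 1).restrictScalars B ∘ₗ f₃) :=
    hf₃.comp (TensorProduct.isBaseChange B₃ N₃ C₃)
  let g₄ : N' →ₗ[B'] N₄ := hf.lift ((TensorProduct.mk B₃ C₃ N₃ 1).restrictScalars B ∘ₗ f₃)
  have hg₄ : IsBaseChange C₃ g₄ := IsBaseChange.of_comp hf (by rw [hf.lift_comp]; exact hbc)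
  obtain ⟨P', hP', hle, hP'T⟩ := exists_specialization_tensor hpure hA₃ N₃ N₄ (TensorProduct.mk B₃ C₃ N₃ 1)
    (TensorProduct.isBaseChange B₃ N₃ C₃) g₄ hg₄ ht₃le P₃ hass₃ r hrP
  exact hno P' hP' hle hP'T

/-- No impurity over a refinement of the étale neighbourhood. -/
theorem not_impurity_over {A B : Type u} [CommRing A] [CommRing B] [Algebra A B] [Algebra.FiniteType A B]
    {N : Type u} [AddCommGroup N] [Module B N] [Module.Finite B N] (p : Ideal A) [p.IsPrime]
    {A' : Type u} [CommRing A'] [Algebra A A'] {p' : Ideal A'} [p'.IsPrime]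
    {B' : Type u} [CommRing B'] [Algebra B B'] [Algebra A' B'] [Algebra A B'] [IsScalarTower A B B'] [IsScalarTower A A' B']
    {N' : Type u} [AddCommGroup N'] [Module B' N'] [Module B N'] [IsScalarTower B B' N'] [Module A' N'] [IsScalarTower A' B' N']
    (hpure : FlatCA.IsPureAlong A' B' N' p')
    {BA NA : Type u} [CommRing BA] [Algebra B BA] [Algebra A' BA] [Algebra A BA] [IsScalarTower A B BA]
    [IsScalarTower A A' BA] [Algebra.IsPushout A B A' BA] [Algebra.IsPushout A A' B BA] [Algebra.FiniteType A' BA]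
    [Algebra BA B'] [IsScalarTower B BA B'] [IsScalarTower A' BA B'] [Algebra.Etale BA B']
    [AddCommGroup NA] [Module BA NA] [Module B NA] [IsScalarTower B BA NA] [Module A' NA] [IsScalarTower A' BA NA]
    (hcond : ∀ (t' : Ideal A') [t'.IsPrime], t' ≤ p' → ∀ (Q : Ideal BA) [Q.IsPrime], Q.LiesOver t' →
      FlatCA.fiberIdeal t' Q ∈ associatedPrimes (t'.Fiber BA) (FlatCA.fiberMod t' BA NA) →
      ∃ Q' : Ideal B', Q'.IsPrime ∧ Q'.comap (algebraMap BA B') = Q)
    {A'' B'' N'' : Type u} [CommRing A''] [CommRing B''] [Algebra A A''] [Algebra B B''] [Algebra A'' B'']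
    [Algebra A B''] [IsScalarTower A B B''] [IsScalarTower A A'' B''] [AddCommGroup N''] [Module B'' N'']
    [Module B N''] [IsScalarTower B B'' N''] [Module A'' N''] [IsScalarTower A'' B'' N''] {f'' : N →ₗ[B] N''}
    {t' t : Ideal A''} [t'.IsPrime] [t.IsPrime] {P : Ideal B''} [P.IsPrime]
    (A₃ : Type u) [CommRing A₃] [Algebra A A₃] [Algebra A'' A₃] [Algebra A' A₃] [IsScalarTower A A'' A₃]
    [IsScalarTower A A' A₃] (T : Ideal A₃) [T.IsPrime] [hTt : T.LiesOver t] [hTp : T.LiesOver p']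
    (hA₃ : FlatCA.IsEtaleNhd A' A₃ p' T)
    (himp : FlatCA.IsImpurity A B N p A'' B'' N'' f'' t' t P)
    {t₃ : Ideal A₃} [t₃.IsPrime] [t₃.LiesOver t'] (ht₃le : t₃ ≤ T)
    (fA : N →ₗ[B] NA) (hfA : IsBaseChange BA fA) (f : N →ₗ[B] N') (hf : IsBaseChange B' f) : False := by
  let B₃ := B ⊗[A] A₃
  let N₃ := B₃ ⊗[B] N
  haveI : Algebra.IsPushout A B A₃ B₃ := inferInstance
  letI : Module A₃ N₃ := Module.compHom N₃ (algebraMap A₃ B₃)
  haveI : IsScalarTower A₃ B₃ N₃ := IsScalarTower.of_algebraMap_smul fun _ _ => rfl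
  obtain ⟨P₃, hP₃, himp₃⟩ := PurityBC.IsImpurity.propagate himp A₃ B₃ N₃ (TensorProduct.mk B B₃ N 1)
    (TensorProduct.isBaseChange B N B₃) t₃ T ht₃le
  haveI := hP₃
  obtain ⟨-, hf₃, -, -, hPt, hass₃, hno⟩ := himp₃
  haveI := hPt
  haveI : Algebra.FiniteType A₃ B₃ := PurityBC.finiteType_of_isPushout A B A₃ B₃
  haveI : Module.Finite B₃ N₃ := Module.Finite.equiv hf₃.equiv
  let gA : A' →ₐ[A] B₃ := (IsScalarTower.toAlgHom A A₃ B₃).comp (IsScalarTower.toAlgHom A A' A₃)
  let ψ : BA →ₐ[A] B₃ := Algebra.pushoutDesc (R := A) (S := B) (R' := A') BA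
    (IsScalarTower.toAlgHom A B B₃) gA fun x y => mul_comm _ _
  letI : Algebra BA B₃ := ψ.toRingHom.toAlgebra
  letI : Algebra A' B₃ := gA.toRingHom.toAlgebra
  haveI : IsScalarTower A' A₃ B₃ := IsScalarTower.of_algebraMap_eq fun _ => rfl
  haveI : IsScalarTower A' BA B₃ := IsScalarTower.of_algebraMap_eq fun x =>
    (Algebra.pushoutDesc_right BA (IsScalarTower.toAlgHom A B B₃) gA (fun x y => mul_comm _ _) x).symm
  haveI : IsScalarTower B BA B₃ := IsScalarTower.of_algebraMap_eq fun x =>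
    (Algebra.pushoutDesc_left BA (IsScalarTower.toAlgHom A B B₃) gA (fun x y => mul_comm _ _) x).symm
  haveI : Algebra.IsPushout A A₃ B B₃ := Algebra.IsPushout.symm inferInstance
  haveI hpoB : Algebra.IsPushout A' A₃ BA B₃ :=
    (Algebra.IsPushout.comp_iff A A' B BA (T := A₃) (T' := B₃)).1 inferInstance
  letI : Module BA N₃ := Module.compHom N₃ (algebraMap BA B₃)
  haveI : IsScalarTower BA B₃ N₃ := IsScalarTower.of_algebraMap_smul fun _ _ => rfl
  haveI : IsScalarTower B BA N₃ := IsScalarTower.to₁₂₄ B BA B₃ N₃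
  letI : Module A' N₃ := Module.compHom N₃ (algebraMap A' A₃)
  haveI : IsScalarTower A' A₃ N₃ := IsScalarTower.of_algebraMap_smul fun _ _ => rfl
  haveI : IsScalarTower A' B₃ N₃ := IsScalarTower.of_algebraMap_smul fun r m => by
    rw [IsScalarTower.algebraMap_apply A' A₃ B₃, algebraMap_smul]; rfl
  haveI : IsScalarTower A' BA N₃ := IsScalarTower.to₁₂₄ A' BA B₃ N₃
  exact not_impurity_generic p hpure hcond A₃ T hA₃ B₃ N₃ (TensorProduct.mk B B₃ N 1) hf₃ ht₃le P₃ hass₃
    (fun P' hP' h1 h2 => hno P' h1 h2) fA hfA f hf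

/-- Ring form, all schemes affine: let B be an A-algebra of finite type, N a finite B-module and p a
prime of A such that N is flat over A at every prime of B over p. Let (A, p) → (A', p') be an
elementary étale ring map and B' an étale B-algebra which is compatibly an A'-algebra of finite
type, with base change N' of N to B', such that N' is pure along the fibre over p' and every prime q
of B over p whose extension to the fibre ring over p is an associated prime of the fibre module of N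
is the contraction of a prime of B' lying over p'. Let B_{A'} and N_{A'} be the base changes of B
and N to A' (any models), with the induced map B_{A'} → B'. Then N is pure along the fibre over p if
and only if: for every prime t' ⊆ p' of A' and every prime Q of B_{A'} over t' whose extension to
the fibre ring over t' is an associated prime of the fibre module of N_{A'}, Q is the contraction of
a prime of B'. (The published statement asks in its covering hypothesis only that the image of Spec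
B' in Spec B contain the associated primes of the fibre module of N over p, without requiring the
covering primes of B' to lie over p'. That is not enough when Spec A' has a second point over p —
with Spec A' = Spec A ⊔ Spec A and Spec B' over the other copy the "only if" fails — so the
hypothesis is stated here in the stronger form: the covering primes of B' lie over p'.) -/
theorem result {A B : Type u} [CommRing A] [CommRing B] [Algebra A B] [Algebra.FiniteType A B]
    (N : Type u) [AddCommGroup N] [Module B N] [Module A N] [IsScalarTower A B N] [Module.Finite B N] (p : Ideal A) [p.IsPrime]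
    (hflat : ∀ (q : Ideal B) [q.IsPrime], q.LiesOver p → FlatCA.FlatAt A q N)
    (A' : Type u) [CommRing A'] [Algebra A A'] (p' : Ideal A') [p'.IsPrime] (het : FlatCA.IsEtaleNhd A A' p p')
    (B' : Type u) [CommRing B'] [Algebra B B'] [Algebra A' B'] [Algebra A B'] [IsScalarTower A B B'] [IsScalarTower A A' B']
    [Algebra.Etale B B'] [Algebra.FiniteType A' B']
    (N' : Type u) [AddCommGroup N'] [Module B' N'] [Module B N'] [IsScalarTower B B' N'] [Module A' N'] [IsScalarTower A' B' N']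
    (f : N →ₗ[B] N') (hf : IsBaseChange B' f)
    (hpure : FlatCA.IsPureAlong A' B' N' p')
    (hcov : ∀ (q : Ideal B) [q.IsPrime], q.LiesOver p →
      FlatCA.fiberIdeal p q ∈ associatedPrimes (p.Fiber B) (FlatCA.fiberMod p B N) →
      ∃ q' : Ideal B', q'.IsPrime ∧ q'.comap (algebraMap B B') = q ∧ q'.comap (algebraMap A' B') = p')
    (BA NA : Type u) [CommRing BA] [Algebra B BA] [Algebra A' BA] [Algebra A BA] [IsScalarTower A B BA] [IsScalarTower A A' BA]
    [Algebra.IsPushout A B A' BA] [Algebra BA B'] [IsScalarTower B BA B'] [IsScalarTower A' BA B']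
    [AddCommGroup NA] [Module BA NA] [Module B NA] [IsScalarTower B BA NA] [Module A' NA] [IsScalarTower A' BA NA]
    (fA : N →ₗ[B] NA) (hfA : IsBaseChange BA fA) :
    FlatCA.IsPureAlong A B N p ↔
      ∀ (t' : Ideal A') [t'.IsPrime], t' ≤ p' → ∀ (Q : Ideal BA) [Q.IsPrime], Q.LiesOver t' →
        FlatCA.fiberIdeal t' Q ∈ associatedPrimes (t'.Fiber BA) (FlatCA.fiberMod t' BA NA) →
        ∃ Q' : Ideal B', Q'.IsPrime ∧ Q'.comap (algebraMap BA B') = Q := by
  obtain ⟨hEt, hp', hκ⟩ := het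
  haveI := hEt
  haveI := hp'
  haveI : Algebra.IsPushout A A' B BA := Algebra.IsPushout.symm inferInstance
  haveI : Algebra.FiniteType A' BA := PurityBC.finiteType_of_isPushout A B A' BA
  haveI : Module.Finite BA NA := Module.Finite.equiv hfA.equiv
  haveI : Algebra.Etale B BA := Algebra.Etale.of_equiv (Algebra.IsPushout.equiv A B A' BA)
  haveI : Algebra.Etale BA B' := Algebra.Etale.of_restrictScalars B BA B'
  letI : Module A NA := Module.compHom NA (algebraMap A BA)
  haveI : IsScalarTower A BA NA := IsScalarTower.of_algebraMap_smul fun _ _ => rfl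
  haveI : IsScalarTower A A' NA := IsScalarTower.of_algebraMap_smul fun a z => by
    rw [← algebraMap_smul BA (algebraMap A A' a) z, ← IsScalarTower.algebraMap_apply A A' BA]
    rfl
  haveI : IsScalarTower A B NA := IsScalarTower.of_algebraMap_smul fun a z => by
    rw [← algebraMap_smul BA (algebraMap A B a) z, ← IsScalarTower.algebraMap_apply A B BA]
    rfl
  constructor
  · intro hpureN t' _ ht' Q _ hQ hass
    obtain ⟨Q₁, hQ₁, hle₁, hQ₁p⟩ := RG.assoc_specializes_of_pure hpureN (A' := A') (p' := p') ⟨hEt, hp', hκ⟩ fA hfA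
      t' ht' Q hQ hass
    haveI := hQ
    have hflatA : ∀ (q : Ideal BA) [q.IsPrime], q.LiesOver p' → FlatCA.FlatAt A' q NA := by
      intro q _ hqp
      haveI : (q.comap (algebraMap B BA)).LiesOver p := ⟨by
        rw [Ideal.under_def, Ideal.comap_comap, ← IsScalarTower.algebraMap_eq A B BA,
          IsScalarTower.algebraMap_eq A A' BA, ← Ideal.comap_comap]
        exact hp'.over.trans (congrArg (Ideal.comap (algebraMap A A')) hqp.over)⟩
      haveI : q.LiesOver (q.comap (algebraMap B BA)) := ⟨rfl⟩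
      exact RG.flatAt_congr q hfA.equiv (RG.flatAt_baseChange_base (A := A') (C := BA) N
        (q.comap (algebraMap B BA)) q (hflat _ inferInstance))
    obtain ⟨q₁, hq₁, hQq₁, hq₁p, hq₁a⟩ := S1221.result NA p' hflatA t' ht' Q hass ⟨Q₁, hQ₁, hle₁, hQ₁p⟩
    haveI := hq₁
    haveI := hq₁p
    obtain ⟨hl, hassB⟩ := PurityQF.assoc_contract (A := A) (C := A') (B := B) (B' := BA) fA
      (RG.isBaseChange_restrict fA hfA) p p' q₁ hq₁a
    haveI := hl
    obtain ⟨q', hq', hq'B, hq'A⟩ := hcov _ hl hassB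
    haveI := hq'
    haveI : q₁.LiesOver (q₁.comap (algebraMap B BA)) := ⟨rfl⟩
    haveI : (q'.comap (algebraMap BA B')).LiesOver (q₁.comap (algebraMap B BA)) := ⟨by
      rw [Ideal.under_def, Ideal.comap_comap (g := algebraMap BA B'), ← IsScalarTower.algebraMap_eq B BA B', hq'B]⟩
    haveI : (q'.comap (algebraMap BA B')).LiesOver p' := ⟨by
      rw [Ideal.under_def, Ideal.comap_comap, ← IsScalarTower.algebraMap_eq A' BA B', hq'A]⟩
    have heq := RG.eq_of_liesOver (R := A) (R' := A') (S := B) (S' := BA) p p' hκ (q₁.comap (algebraMap B BA)) q₁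
      (q'.comap (algebraMap BA B'))
    haveI : q'.LiesOver (q'.comap (algebraMap BA B')) := ⟨rfl⟩
    obtain ⟨Q', -, hQ', hQ'Q⟩ := Ideal.exists_ideal_le_liesOver_of_le (p := Q) (q := q'.comap (algebraMap BA B')) q'
      (heq ▸ hQq₁)
    exact ⟨Q', hQ', hQ'Q.over.symm⟩
  · intro hcond A'' B'' N'' _ _ _ _ _ _ _ _ _ _ _ _ _ _ f'' t' t _ _ P _ hnhd himp
    obtain ⟨hEt'', htp, hκ''⟩ := hnhd
    haveI := hEt''
    haveI := htp
    let A₃ := A'' ⊗[A] A'
    haveI : Algebra.IsPushout A A' A'' A₃ := Algebra.IsPushout.symm inferInstance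
    obtain ⟨T, hT, hTt, hTp⟩ := RG.exists_prime_over (R := A) (R' := A') (S := A'') (S' := A₃) p p' hκ t
    haveI := hT
    haveI := hTt
    haveI := hTp
    have hres : FlatCA.IsEtaleNhd A'' A₃ t T :=
      ⟨inferInstance, hTt, RG.residueField_bijective_baseChange (R := A) (R' := A') (S := A'') (S' := A₃) p p' hκ t T⟩
    have hA₃ : FlatCA.IsEtaleNhd A' A₃ p' T :=
      RG.isEtaleNhd_of_restrict ⟨hEt, hp', hκ⟩ (RG.isEtaleNhd_trans ⟨hEt'', htp, hκ''⟩ hres)
    obtain ⟨t₃, ht₃le, ht₃P, ht₃⟩ := Ideal.exists_ideal_le_liesOver_of_le (p := t') (q := t) T himp.2.2.1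
    haveI := ht₃P
    haveI := ht₃
    exact not_impurity_over p hpure hcond A₃ T hA₃ himp ht₃le fA hfA f hf

end Groth.Agent.S1255
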