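import Groth.Statements.S12550
import Mathlib
-- import your own Groth.Agent.* helpers here

set_option autoImplicit false
universe u
open GIT

namespace Groth.Agent.S12550

/-- Let V be a finite-dimensional vector space over a field K and x_0, …, x_m non-zero vectors, a
configuration of m + 1 points of the projective space P(V). If for every subspace L with 0 ≠ L ≠ V
the number of indices i with x_i ∈ L, multiplied by dim V, is less than dim L · (m + 1) (the
configuration is stable), then no two proper subspaces L', L'' with L' ∩ L'' = 0 contain between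
them all the x_i. -/
theorem result (K : Type u) [Field K]
    (V : Type u) [AddCommGroup V] [Module K V] [FiniteDimensional K V]
    (m : ℕ) (x : Fin (m + 1) → V) (hx : ∀ i, x i ≠ 0)
    (hst : ∀ L : Submodule K V, L ≠ ⊥ → L ≠ ⊤ →
      Set.ncard {i : Fin (m + 1) | x i ∈ L} * Module.finrank K V < Module.finrank K L * (m + 1)) :
    ¬ ∃ L' L'' : Submodule K V, L' ≠ ⊤ ∧ L'' ≠ ⊤ ∧ Disjoint L' L'' ∧ ∀ i, x i ∈ L' ∨ x i ∈ L'' := by
  classical
  rintro ⟨L, L', hL, hL', hdis, hcov⟩
  by_cases h0 : L = ⊥
  · subst h0
    exact (by
      by_cases h1 : L' = ⊥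
      · subst h1
        exact hx 0 (by simpa using hcov 0)
      · have := hst L' h1 hL'
        have hall : {i : Fin (m + 1) | x i ∈ L'} = Set.univ := Set.eq_univ_of_forall fun i =>
          (hcov i).resolve_left fun h => hx i (by simpa using h)
        rw [hall, Set.ncard_univ, Nat.card_fin] at this
        nlinarith [Submodule.finrank_le L'])
  by_cases h0' : L' = ⊥
  · subst h0'
    have := hst L h0 hL
    have hall : {i : Fin (m + 1) | x i ∈ L} = Set.univ := Set.eq_univ_of_forall fun i =>
      (hcov i).resolve_right fun h => hx i (by simpa using h)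
    rw [hall, Set.ncard_univ, Nat.card_fin] at this
    nlinarith [Submodule.finrank_le L]
  have h1 := hst L h0 hL
  have h2 := hst L' h0' hL'
  have hdim : Module.finrank K L + Module.finrank K L' ≤ Module.finrank K V := by
    rw [← Submodule.finrank_sup_add_finrank_inf_eq, hdis.eq_bot, finrank_bot, add_zero]
    exact Submodule.finrank_le _
  have hcard : m + 1 ≤ Set.ncard {i : Fin (m + 1) | x i ∈ L} + Set.ncard {i : Fin (m + 1) | x i ∈ L'} := by
    refine le_trans ?_ (Set.ncard_union_le _ _)
    rw [show {i : Fin (m + 1) | x i ∈ L} ∪ {i | x i ∈ L'} = Set.univ from Set.eq_univ_of_forall hcov,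
      Set.ncard_univ, Nat.card_fin]
  nlinarith

end Groth.Agent.S12550
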