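import Groth.Statements.S12551
import Groth.Agent.FormsSLLib.Additive
-- import your own Groth.Agent.* helpers here

set_option autoImplicit false
universe u
open TensorProduct LaurentPolynomial
open GIT

namespace Groth.Agent.S12551

open Groth.Agent.FormsSLLib Groth.Agent.SmoothFormLib
open scoped Groth.Agent.FormsSLLib

/-- Let k be an algebraically closed field of characteristic zero and let SL_3 act by substitution on
ternary quartic forms, the point a having the form F = Σ_e (4; e) a_e x^e. Then a fails to be stable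
(closed orbit and finite stabiliser) if and only if there is a matrix M of determinant 1 such that
the form F'(x) = F(Mx) = Σ b_ij x_0^(4−i−j) x_1^i x_2^j has b_00 = b_10 = b_01 = b_20 = b_11 = 0 and
in addition b_02 = 0 or b_30 = 0: in suitable coordinates the quartic curve has a triple point at
(1:0:0), or a tacnode there with tangent line x_2 = 0. -/
theorem result (k : Type u) [Field k] [IsAlgClosed k] [CharZero k]
    (a : CoordGrp.FormIdx 3 4 → k) :
    ¬ @GLin.IsStableVec k _ (CoordGrp.SLn 3 k) _ _ (CoordGrp.FormIdx 3 4) (GLin.comodAlong ((CoordGrp.SLn.mkHom 3 k).comp (CoordGrp.Mat.toGLn 3 k)) (CoordGrp.formsCoact k 3 4))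
      (GLin.isCoactAlg_comodAlong ((CoordGrp.SLn.mkHom 3 k).comp (CoordGrp.Mat.toGLn 3 k)) (CoordGrp.formsCoact k 3 4)
        (CoordGrp.formsCoact_isCoactAlg k 3 4))
      a ↔
      ∃ M : Matrix (Fin 3) (Fin 3) k, M.det = 1 ∧
        ∃ F' : MvPolynomial (Fin 3) k,
          F' = MvPolynomial.aeval (fun i : Fin 3 => ∑ j : Fin 3, MvPolynomial.C (M i j) * MvPolynomial.X j)
              (CoordGrp.formPoly a) ∧
          (∀ ij : ℕ × ℕ, ij ∈ ({(0, 0), (1, 0), (0, 1), (2, 0), (1, 1)} : Finset (ℕ × ℕ)) →
            F'.coeff (Finsupp.single 0 (4 - ij.1 - ij.2) + Finsupp.single 1 ij.1 + Finsupp.single 2 ij.2) = 0) ∧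
          (F'.coeff (Finsupp.single 0 2 + Finsupp.single 2 2) = 0 ∨
            F'.coeff (Finsupp.single 0 1 + Finsupp.single 1 3) = 0) := by
  classical
  show ¬ GLin.IsStableVec k (CoordGrp.SLn 3 k) a ↔ _
  let e : ℕ → ℕ → ℕ → (Fin 3 →₀ ℕ) := fun i j l => Finsupp.single 0 i + Finsupp.single 1 j + Finsupp.single 2 l
  have he : ∀ α : Fin 3 →₀ ℕ, α = e (α 0) (α 1) (α 2) := fun α => by
    ext i; fin_cases i <;> simp [e]
  constructor
  · intro hns
    by_contra hno
    apply hns
    refine isStableVec_of_additive a fun Ω _ _ _ G _ _ _ P y hP hy hsum hz => ?_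
    by_contra hne
    apply hno
    have h01 : y 1 ≤ y 0 := hy (by decide)
    have h12 : y 2 ≤ y 1 := hy (by decide)
    rw [Fin.sum_univ_three] at hsum
    have hn : ¬ (y 0 = 0 ∧ y 1 = 0 ∧ y 2 = 0) := fun h => hne fun i => by fin_cases i; exacts [h.1, h.2.1, h.2.2]
    have hw : ∀ i j l : ℕ, 0 < i • y 0 + j • y 1 + l • y 2 →
        MvPolynomial.coeff (e i j l) (linSub P (MvPolynomial.map (algebraMap k Ω) (CoordGrp.formPoly a))) = 0 :=
      fun i j l h => hz _ (by rw [Fin.sum_univ_three]; simpa [e] using h)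
    let C : Finset (Fin 3 →₀ ℕ) := if y 1 < 0 then {e 2 0 2} else {e 1 3 0}
    let S : Finset (Fin 3 →₀ ℕ) := {e 4 0 0, e 3 1 0, e 3 0 1, e 2 2 0, e 2 1 1} ∪ C
    have hS : ∀ α ∈ S, MvPolynomial.coeff α (linSub P (MvPolynomial.map (algebraMap k Ω) (CoordGrp.formPoly a))) = 0 := by
      intro α hα
      simp only [S, C, Finset.mem_union, Finset.mem_insert, Finset.mem_singleton] at hα
      rcases hα with (rfl | rfl | rfl | rfl | rfl) | hα
      · exact hw 4 0 0 (by grind)
      · exact hw 3 1 0 (by grind)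
      · exact hw 3 0 1 (by grind)
      · exact hw 2 2 0 (by grind)
      · exact hw 2 1 1 (by grind)
      · by_cases hy1 : y 1 < 0
        · rw [if_pos hy1, Finset.mem_singleton] at hα
          subst hα
          exact hw 2 0 2 (by grind)
        · rw [if_neg hy1, Finset.mem_singleton] at hα
          subst hα
          exact hw 1 3 0 (by grind)
    obtain ⟨M, hM, hMS⟩ := exists_matrix_of_extension (k := k) (n := 3) (by norm_num) (isHomogeneous_formPoly a) S P hP hS
    refine ⟨M, hM, _, rfl, fun ij hij => ?_, ?_⟩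
    · simp only [Finset.mem_insert, Finset.mem_singleton] at hij
      refine hMS _ (Finset.mem_union_left _ ?_)
      rcases hij with rfl | rfl | rfl | rfl | rfl <;> simp [e]
    · by_cases hy1 : y 1 < 0
      · left
        refine hMS _ (Finset.mem_union_right _ ?_)
        simp [C, hy1, e]
      · right
        refine hMS _ (Finset.mem_union_right _ ?_)
        simp [C, hy1, e]
  · rintro ⟨M, hM, F', rfl, h5, hor⟩
    have hdeg : ∀ α : Fin 3 →₀ ℕ, MvPolynomial.coeff α (linSub M (CoordGrp.formPoly a)) ≠ 0 → α 0 + α 1 + α 2 = 4 := by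
      intro α hα
      have h := (isHomogeneous_linSub M (isHomogeneous_formPoly a)) hα
      simpa [Finsupp.weight_apply, Finsupp.sum_fintype, Fin.sum_univ_three] using h
    have hex : ∀ α : Fin 3 →₀ ℕ, MvPolynomial.coeff α (linSub M (CoordGrp.formPoly a)) ≠ 0 →
        α 0 + α 1 + α 2 = 4 ∧ ¬ (α 0 = 4 ∨ α 0 = 3 ∨ (α 0 = 2 ∧ α 2 ≤ 1)) := by
      intro α hα
      refine ⟨hdeg α hα, fun hc => hα ?_⟩
      have hd := hdeg α hα
      have h := h5 (α 1, α 2) (by
        simp only [Finset.mem_insert, Finset.mem_singleton, Prod.mk.injEq]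
        omega)
      rw [he α]
      rw [show 4 - (α 1, α 2).1 - (α 1, α 2).2 = α 0 by show 4 - α 1 - α 2 = α 0; omega] at h
      exact h
    rcases hor with h | h
    · refine not_isStableVec_of_weights factorial_ne_zero a ![-2, 1, 1] (by simp [Fin.sum_univ_three]) (fun h0 => ?_) M hM ?_
      · have := congrFun h0 0; simp at this
      · intro α hα
        obtain ⟨hd, hne⟩ := hex α hα
        have : ¬ (α 0 = 2 ∧ α 1 = 0 ∧ α 2 = 2) := fun hc => hα (by
          rw [he α, hc.1, hc.2.1, hc.2.2]; simpa [e, linSub] using h)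
        simp only [wt, Fin.sum_univ_three, Matrix.cons_val]
        omega
    · refine not_isStableVec_of_weights factorial_ne_zero a ![-1, 0, 1] (by simp [Fin.sum_univ_three]) (fun h0 => ?_) M hM ?_
      · have := congrFun h0 0; simp at this
      · intro α hα
        obtain ⟨hd, hne⟩ := hex α hα
        have : ¬ (α 0 = 1 ∧ α 1 = 3 ∧ α 2 = 0) := fun hc => hα (by
          rw [he α, hc.1, hc.2.1, hc.2.2]; simpa [e, linSub] using h)
        simp only [wt, Fin.sum_univ_three, Matrix.cons_val]
        omega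

end Groth.Agent.S12551
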