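import Groth.Agent.MatroidPoly.Basic
import Groth.Statements.S12552
-- import your own Groth.Agent.* helpers here

set_option autoImplicit false
universe u
open GIT

namespace Groth.Agent.S12552

/-- Let V be a finite-dimensional vector space over a field K and x_0, …, x_m non-zero vectors, a
configuration of m + 1 points of P(V); a set S of dim V indices with (x_j)_(j ∈ S) linearly
independent is a determinant section non-zero at the configuration. Then the configuration is stable
(for every subspace L with 0 ≠ L ≠ V, the number of i with x_i ∈ L times dim V is less than dim L ·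
(m + 1)) if and only if there are integers N ≥ N_0 > 0 such that for each index i some non-empty
finite multiset of such sets S contains every index j ≠ i exactly N times and the index i exactly N
− N_0 times (a monomial in the determinant sections, non-zero at the configuration, of multidegree
(N, …, N − N_0, …, N) with the N − N_0 in place i). -/
theorem result (K : Type u) [Field K]
    (V : Type u) [AddCommGroup V] [Module K V] [FiniteDimensional K V]
    (m : ℕ) (x : Fin (m + 1) → V) (hx : ∀ i, x i ≠ 0) :
    (∀ L : Submodule K V, L ≠ ⊥ → L ≠ ⊤ →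
        Set.ncard {i : Fin (m + 1) | x i ∈ L} * Module.finrank K V < Module.finrank K L * (m + 1)) ↔
      ∃ N N₀ : ℕ, 0 < N₀ ∧ N₀ ≤ N ∧
        ∀ i : Fin (m + 1), ∃ P : Multiset (Finset (Fin (m + 1))), P ≠ 0 ∧
          (∀ S ∈ P, S.card = Module.finrank K V ∧ LinearIndependent K (fun j : S => x j)) ∧
          ∀ j : Fin (m + 1),
            Multiset.card (P.filter (fun S => j ∈ S)) = if j = i then N - N₀ else N := by
  classical
  set n := Module.finrank K V with hn
  have hn0 : 0 < n := Module.finrank_pos_iff_exists_ne_zero.2 ⟨x 0, hx 0⟩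
  have hLcard : ∀ L : Submodule K V, Set.ncard {i : Fin (m + 1) | x i ∈ L} =
      (Finset.univ.filter fun i => x i ∈ L).card := fun L => by
    rw [← Set.ncard_coe_finset, Finset.coe_filter]; congr 1; ext; simp
  have hspan : ∀ T : Finset (Fin (m + 1)), ∀ L : Submodule K V, (∀ i ∈ T, x i ∈ L) →
      MatroidPoly.rk (K := K) x T ≤ Module.finrank K L := fun T L h =>
    Submodule.finrank_mono (Submodule.span_le.2 (by rintro _ ⟨i, hi, rfl⟩; exact h i hi))
  constructor
  · intro hst
    have hfull : MatroidPoly.rk (K := K) x Finset.univ = n := by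
      by_contra hne
      let L := Submodule.span K (x '' ((Finset.univ : Finset (Fin (m + 1))) : Set (Fin (m + 1))))
      have hxL : ∀ i, x i ∈ L := fun i => Submodule.subset_span ⟨i, Finset.mem_univ i, rfl⟩
      have h1 := hst L (fun h => hx 0 ((Submodule.eq_bot_iff _).1 h _ (hxL 0))) fun h => hne (by
        change Module.finrank K L = n
        rw [h, finrank_top])
      rw [hLcard, Finset.filter_true_of_mem fun i _ => hxL i, Finset.card_univ, Fintype.card_fin] at h1
      have h2 : Module.finrank K L ≤ n := Submodule.finrank_le L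
      nlinarith
    -- the rational vector
    have hdec : ∀ i : Fin (m + 1), ∃ q : Finset (Fin (m + 1)) → ℚ, (∀ B, 0 ≤ q B) ∧
        (∀ B, q B ≠ 0 → B.card = n ∧ MatroidPoly.Ind (K := K) x B) ∧
        ∀ j, (if j = i then ((n : ℚ) + 1) - 1 else (n + 1)) = ∑ B, if j ∈ B then q B else 0 := by
      intro i
      have hn1 : (1 : ℚ) ≤ n := by exact_mod_cast hn0
      have hsum : ∀ S : Finset (Fin (m + 1)), (∑ j ∈ S, if j = i then ((n : ℚ) + 1) - 1 else (n + 1)) =
          (n + 1) * S.card - if i ∈ S then 1 else 0 := fun S => by
        have : ∀ j, (if j = i then ((n : ℚ) + 1) - 1 else (n + 1)) = (n + 1) - if j = i then 1 else 0 := fun j => by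
          split_ifs <;> ring
        rw [Finset.sum_congr rfl fun j _ => this j, Finset.sum_sub_distrib, Finset.sum_const, nsmul_eq_mul,
          Finset.sum_ite_eq', mul_comm]
      refine MatroidPoly.exists_decomp x hfull _ ((((n : ℚ) + 1) * (m + 1) - 1) / n) ?_ ?_ ?_ ?_
      · exact div_nonneg (by nlinarith [Nat.cast_nonneg (α := ℚ) m]) (by positivity)
      · intro j; split_ifs <;> linarith
      · intro S
        simp only [MatroidPoly.slack, hsum, sub_nonneg]
        rw [div_mul_eq_mul_div, le_div_iff₀ (by positivity)]
        by_cases hr : MatroidPoly.rk (K := K) x S = n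
        · rw [hr]
          refine mul_le_mul_of_nonneg_right ?_ (by positivity)
          have hS : S.card ≤ m + 1 := by simpa using Finset.card_le_univ S
          rcases Nat.lt_or_ge S.card (m + 1) with h | h
          · have : (S.card : ℚ) + 1 ≤ m + 1 := by exact_mod_cast h
            split_ifs <;> nlinarith
          · have : S = Finset.univ := Finset.eq_univ_of_card S (by rw [Fintype.card_fin]; omega)
            subst this
            rw [if_pos (Finset.mem_univ i), Finset.card_univ, Fintype.card_fin]
            push_cast; linarith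
        · by_cases hS : S = ∅
          · subst hS; simp [MatroidPoly.rk_empty]
          let L := Submodule.span K (x '' (S : Set (Fin (m + 1))))
          have hxL : ∀ j ∈ S, x j ∈ L := fun j hj => Submodule.subset_span ⟨j, hj, rfl⟩
          obtain ⟨j, hj⟩ := Finset.nonempty_iff_ne_empty.2 hS
          have h1 := hst L (fun h => hx j ((Submodule.eq_bot_iff _).1 h _ (hxL j hj))) fun h => hr (by
            change Module.finrank K L = n
            rw [h, finrank_top])
          rw [hLcard] at h1
          have h2 : S.card ≤ (Finset.univ.filter fun i => x i ∈ L).card :=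
            Finset.card_le_card fun j hj => Finset.mem_filter.2 ⟨Finset.mem_univ _, hxL j hj⟩
          have hrn : MatroidPoly.rk (K := K) x S ≤ n := Submodule.finrank_le L
          have h3 : S.card * n + 1 ≤ MatroidPoly.rk (K := K) x S * (m + 1) := by
            have : MatroidPoly.rk (K := K) x S = Module.finrank K L := rfl
            rw [this]
            have := Nat.mul_le_mul_right n h2
            omega
          have h3' : (S.card : ℚ) * n + 1 ≤ (MatroidPoly.rk (K := K) x S : ℚ) * (m + 1) := by exact_mod_cast h3
          have hrn' : (MatroidPoly.rk (K := K) x S : ℚ) ≤ n := by exact_mod_cast hrn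
          have h4 : (0 : ℚ) ≤ if i ∈ S then 1 else 0 := by split_ifs <;> norm_num
          have h5 : (0 : ℚ) ≤ (n : ℚ) * if i ∈ S then 1 else 0 := mul_nonneg (by positivity) h4
          nlinarith
      · simp only [MatroidPoly.slack, hsum, hfull]
        rw [if_pos (Finset.mem_univ i), Finset.card_univ, Fintype.card_fin, div_mul_cancel₀ _ (by positivity)]
        push_cast; ring
    choose q hq0 hqB hq using hdec
    let D : ℕ := ∏ p : Fin (m + 1) × Finset (Fin (m + 1)), (q p.1 p.2).den
    have hD : 0 < D := Finset.prod_pos fun p _ => Rat.den_pos _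
    have hnat : ∀ i B, ∃ a : ℕ, (a : ℚ) = D * q i B := fun i B => by
      obtain ⟨e, he⟩ : (q i B).den ∣ D :=
        Finset.dvd_prod_of_mem (fun p : Fin (m + 1) × Finset (Fin (m + 1)) => (q p.1 p.2).den) (Finset.mem_univ (i, B))
      refine ⟨e * (q i B).num.toNat, ?_⟩
      have h0 : (0 : ℤ) ≤ (q i B).num := Rat.num_nonneg.2 (hq0 i B)
      rw [he]
      push_cast
      rw [show (((q i B).num.toNat : ℕ) : ℚ) = ((q i B).num : ℚ) by exact_mod_cast Int.toNat_of_nonneg h0,
        ← Rat.den_mul_eq_num (q i B)]
      ring
    choose a ha using hnat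
    refine ⟨D * (n + 1), D, hD, Nat.le_mul_of_pos_right _ (Nat.succ_pos n), fun i => ?_⟩
    let P : Multiset (Finset (Fin (m + 1))) := ∑ B, a i B • ({B} : Multiset (Finset (Fin (m + 1))))
    have hcount : ∀ j, Multiset.card (P.filter (fun S => j ∈ S)) = ∑ B, if j ∈ B then a i B else 0 := by
      intro j
      rw [← Multiset.countP_eq_card_filter, ← Multiset.coe_countPAddMonoidHom, map_sum]
      refine Finset.sum_congr rfl fun B _ => ?_
      rw [map_nsmul, Multiset.coe_countPAddMonoidHom, Multiset.countP_eq_card_filter, Multiset.filter_singleton,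
        smul_eq_mul]
      split_ifs <;> simp
    have hval : ∀ j, Multiset.card (P.filter (fun S => j ∈ S)) = if j = i then D * (n + 1) - D else D * (n + 1) := by
      intro j
      have h1 : ((∑ B, if j ∈ B then a i B else 0 : ℕ) : ℚ) = D * if j = i then ((n : ℚ) + 1) - 1 else (n + 1) := by
        rw [hq i j, Finset.mul_sum]
        push_cast
        exact Finset.sum_congr rfl fun B _ => by split_ifs <;> simp [ha]
      rw [hcount]
      split_ifs at h1 ⊢
      · have : ((D * (n + 1) - D : ℕ) : ℚ) = D * (((n : ℚ) + 1) - 1) := by
          rw [Nat.cast_sub (Nat.le_mul_of_pos_right _ (Nat.succ_pos n))]; push_cast; ring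
        exact_mod_cast h1.trans this.symm
      · exact_mod_cast h1
    refine ⟨P, fun h0 => ?_, fun S hS => ?_, hval⟩
    · have h1 := hval
      simp only [h0, Multiset.filter_zero, Multiset.card_zero] at h1
      have := h1 i
      rw [if_pos rfl] at this
      have : D * 2 ≤ D * (n + 1) := Nat.mul_le_mul_left _ (by omega)
      omega
    · obtain ⟨B, -, hB⟩ := Multiset.mem_sum.1 hS
      rw [Multiset.mem_nsmul, Multiset.mem_singleton] at hB
      obtain ⟨ha0, rfl⟩ := hB
      have hne : q i S ≠ 0 := fun h => ha0 (by
        have := ha i S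
        rw [h, mul_zero] at this
        exact_mod_cast this)
      exact hqB i S hne
  · rintro ⟨N, N₀, hN₀, hN, hP⟩ L hL0 hLT
    rw [hLcard]
    set T := Finset.univ.filter fun i => x i ∈ L with hT
    obtain ⟨P, hP0, hPB, hPc⟩ := hP 0
    obtain ⟨S, hS⟩ := Multiset.exists_mem_of_ne_zero hP0
    have hrk : ∀ B ∈ ({S} : Finset (Finset (Fin (m + 1)))), (B ∩ T).card ≤ Module.finrank K L ∧ B.card = n := by
      intro B hB; rw [Finset.mem_singleton] at hB; subst hB
      exact ⟨(MatroidPoly.card_inter_le x (hPB B hS).2 T).trans (hspan T L fun i hi => (Finset.mem_filter.1 hi).2), (hPB B hS).1⟩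
    obtain ⟨i, hi⟩ : ∃ i, i ∉ T := by
      by_contra h
      push_neg at h
      obtain ⟨h1, h2⟩ := hrk S (Finset.mem_singleton_self S)
      rw [Finset.inter_eq_left.2 fun j _ => h j, h2] at h1
      exact hLT (Submodule.eq_top_of_finrank_eq (le_antisymm (Submodule.finrank_le L) h1))
    obtain ⟨P, -, hPB, hPc⟩ := hP i
    have hA : T.card * N ≤ Multiset.card P * Module.finrank K L := by
      have h := MatroidPoly.sum_card_filter P T
      rw [Finset.sum_congr rfl fun j hj => (hPc j).trans (if_neg fun e => hi (by subst e; exact hj)),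
        Finset.sum_const, smul_eq_mul] at h
      rw [h, ← smul_eq_mul, ← Multiset.card_map (fun S => (S ∩ T).card) P]
      refine Multiset.sum_le_card_nsmul _ _ fun a ha => ?_
      obtain ⟨B, hB, rfl⟩ := Multiset.mem_map.1 ha
      exact (MatroidPoly.card_inter_le x (hPB B hB).2 T).trans (hspan T L fun i hi => (Finset.mem_filter.1 hi).2)
    have hB : Multiset.card P * n < N * (m + 1) := by
      have h := MatroidPoly.sum_card_filter P Finset.univ
      rw [Finset.sum_congr rfl fun j _ => hPc j, Multiset.map_congr rfl fun B hB => by
        rw [Finset.inter_univ, (hPB B hB).1], Multiset.map_const', Multiset.sum_replicate, smul_eq_mul] at h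
      rw [← h]
      calc (∑ j : Fin (m + 1), if j = i then N - N₀ else N) < ∑ _j : Fin (m + 1), N :=
            Finset.sum_lt_sum (fun j _ => by split_ifs <;> omega) ⟨i, Finset.mem_univ i, by rw [if_pos rfl]; omega⟩
        _ = N * (m + 1) := by simp [mul_comm]
    have hl : 0 < Module.finrank K L := Nat.pos_of_ne_zero fun h => hL0 (Submodule.finrank_eq_zero.1 h)
    refine lt_of_mul_lt_mul_right' (a := N) ?_
    calc T.card * n * N = T.card * N * n := by ring
      _ ≤ Multiset.card P * Module.finrank K L * n := Nat.mul_le_mul_right _ hA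
      _ = Module.finrank K L * (Multiset.card P * n) := by ring
      _ < Module.finrank K L * (N * (m + 1)) := Nat.mul_lt_mul_of_pos_left hB hl
      _ = Module.finrank K L * (m + 1) * N := by ring

end Groth.Agent.S12552
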