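import Groth.Statements.S12553
import Groth.Agent.ComodLib.Mu
import Groth.Prelude.Def_HopfRep
-- import your own Groth.Agent.* helpers here

set_option autoImplicit false
universe u
open TensorProduct LaurentPolynomial
open GIT

namespace Groth.Agent.S12553

/-- Let k be a field and T = Spec A a diagonalizable affine group (A a commutative Hopf algebra spanned
by its group-like elements, e.g. a torus) acting linearly on affine ι-space. Then there are finitely
many characters χ_1, …, χ_N of T (group-like elements of A) such that every vector v ≠ 0 has a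
non-empty set I of indices for which, for every one-parameter subgroup λ of T with λ(χ_j) = t^(e_j),
the numerical function μ(v, λ) (the m for which t^m · (v moved by λ(t)) tends to a non-zero vector)
equals the maximum of −e_j over j ∈ I: μ is the maximum of finitely many linear functionals on
one-parameter subgroups. (The published proposition concerns a maximal torus of a reductive group
acting on a proper scheme with an ample linearised invertible sheaf; this row is the case of
projective space with the hyperplane bundle, for any diagonalizable group acting linearly, stated on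
the affine cone.) -/
theorem result (k : Type u) [Field k]
    (A : Type u) [CommRing A] [HopfAlgebra k A] (hdiag : HopfRep.IsDiagonalizable k A)
    (ι : Type u) [Fintype ι] [HopfRep.Comod k A (MvPolynomial ι k)] [GLin.IsCoactAlg k A (MvPolynomial ι k)]
    (hlin : GLin.IsLinear k A ι) :
    ∃ (N : ℕ) (χ : Fin N → A), (∀ j, IsGroupLikeElem k (χ j)) ∧
      ∀ v : ι → k, v ≠ 0 → ∃ I : Finset (Fin N), I.Nonempty ∧
        ∀ (lam : A →ₐc[k] k[T;T⁻¹]) (e : Fin N → ℤ), (∀ j, lam (χ j) = LaurentPolynomial.T (e j)) →
          ∀ m : ℤ, GLin.IsMu k A lam v m ↔ ((∀ j ∈ I, -e j ≤ m) ∧ ∃ j ∈ I, m = -e j) := by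
  classical
  choose m hm using hlin
  have hrep : ∀ i j, ∃ c : {a : A // IsGroupLikeElem k a} →₀ k, Finsupp.linearCombination k Subtype.val c = m i j :=
    fun i j => by
      have h : m i j ∈ Submodule.span k (Set.range (Subtype.val : {a : A // IsGroupLikeElem k a} → A)) := by
        rw [Subtype.range_coe_subtype, show Submodule.span k {a : A | IsGroupLikeElem k a} = ⊤ from hdiag]
        trivial
      exact (Finsupp.mem_span_range_iff_exists_finsupp.mp h).imp fun c hc => by
        rw [Finsupp.linearCombination_apply]; exact hc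
  choose cf hcf using hrep
  let S : Finset {a : A // IsGroupLikeElem k a} := Finset.univ.biUnion fun p : ι × ι => (cf p.1 p.2).support
  let e' := S.equivFin
  let χ : Fin S.card → A := fun j => ((e'.symm j).1 : A)
  have hli : LinearIndependent k χ := by
    have hbase : LinearIndependent k (Subtype.val : {a : A // IsGroupLikeElem k a} → A) := linearIndepOn_isGroupLikeElem
    exact hbase.comp (fun j => (e'.symm j).1) fun a b h => e'.symm.injective (Subtype.ext h)
  let C : Fin S.card → ι → ι → k := fun j a b => cf a b (e'.symm j).1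
  have hC : ∀ a b, m a b = ∑ j, C j a b • χ j := fun a b => by
    rw [← hcf a b, Finsupp.linearCombination_apply, Finsupp.sum_of_support_subset _
      (fun x hx => Finset.mem_biUnion.mpr ⟨(a, b), Finset.mem_univ _, hx⟩ : (cf a b).support ⊆ S) _ (by simp),
      ← Finset.sum_coe_sort]
    exact (Fintype.sum_equiv e'.symm _ _ fun j => rfl).symm
  refine ⟨S.card, χ, fun j => (e'.symm j).1.2, fun v hv => ?_⟩
  let av : Fin S.card → ι → k := fun j a => ∑ b, v b * C j a b
  have ho : ∀ a, GLin.orbitHom k A (GLin.vecPt k ι v) (MvPolynomial.X a) = ∑ j, av j a • χ j := fun a => by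
    rw [Groth.Agent.ComodLib.orbitCoord_eq hm]
    simp only [hC, Finset.smul_sum, smul_smul, av, Finset.sum_smul]
    exact Finset.sum_comm
  -- the projections are orthogonal idempotents
  have horth : ∀ j l a, ∑ b, av j b * C l a b = if j = l then av j a else 0 := by
    intro j l a
    have h := Groth.Agent.ComodLib.comul_orbitCoord hm v a
    simp only [ho, hC, map_sum, map_smul, TensorProduct.sum_tmul, TensorProduct.tmul_sum,
      TensorProduct.smul_tmul', TensorProduct.tmul_smul, smul_smul] at h
    have hg : ∀ j, Coalgebra.comul (R := k) (χ j) = χ j ⊗ₜ[k] χ j := fun j => ((e'.symm j).1.2).comul_eq_tmul_self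
    rw [Finset.sum_congr rfl (fun j _ => congrArg (av j a • ·) (hg j))] at h
    simp only [← TensorProduct.smul_tmul', Finset.smul_sum, smul_smul] at h
    have hbase : LinearIndependent k fun p : Fin S.card × Fin S.card => χ p.1 ⊗ₜ[k] χ p.2 := by
      simpa using hli.tmul_of_isDomain hli
    have h2 : ∑ p : Fin S.card × Fin S.card, ((if p.1 = p.2 then av p.1 a else 0) - ∑ b, av p.1 b * C p.2 a b) •
        (χ p.1 ⊗ₜ[k] χ p.2) = 0 := by
      simp only [sub_smul, Finset.sum_sub_distrib, Fintype.sum_prod_type, Finset.sum_smul, ite_smul, zero_smul,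
        Finset.sum_ite_eq, Finset.mem_univ, if_true]
      rw [sub_eq_zero]
      refine h.trans ?_
      rw [Finset.sum_comm]
      conv_rhs => rw [Finset.sum_comm]
      refine Finset.sum_congr rfl fun y _ => ?_
      rw [Finset.sum_comm]
      exact Finset.sum_congr rfl fun x _ => Finset.sum_congr rfl fun z _ => by rw [mul_comm]
    exact (sub_eq_zero.mp (Fintype.linearIndependent_iff.mp hbase _ h2 (j, l))).symm
  let I : Finset (Fin S.card) := Finset.univ.filter fun j => av j ≠ 0
  have hI : ∀ j, j ∈ I ↔ av j ≠ 0 := fun j => by simp [I]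
  have hIne : I.Nonempty := by
    rw [Finset.nonempty_iff_ne_empty]
    intro h0
    refine hv (funext fun a => ?_)
    rw [Pi.zero_apply, ← Groth.Agent.ComodLib.counit_orbitCoord (A := A) v a, ho, Finset.sum_eq_zero, map_zero]
    intro j _
    have : av j = 0 := by
      by_contra hj
      exact Finset.notMem_empty j (h0 ▸ (hI j).mpr hj)
    rw [this]; simp
  refine ⟨I, hIne, fun lam e he n => ?_⟩
  have hcoeff : ∀ a z, (Groth.Agent.ComodLib.lamCoord k A lam v a).coeff z =
      ∑ j ∈ I.filter (fun j => e j = z), av j a := by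
    intro a z
    show ((lam : A →ₐ[k] k[T;T⁻¹]) (GLin.orbitHom k A (GLin.vecPt k ι v) (MvPolynomial.X a))).coeff z = _
    rw [ho, map_sum]
    simp only [map_smul, show ∀ j, (lam : A →ₐ[k] k[T;T⁻¹]) (χ j) = T (e j) from he]
    simp only [AddMonoidAlgebra.coeff_sum, AddMonoidAlgebra.coeff_smul, Finsupp.finsetSum_apply, Finsupp.smul_apply,
      LaurentPolynomial.T_apply, smul_eq_mul, mul_ite, mul_one, mul_zero]
    rw [Finset.sum_filter]
    refine (Finset.sum_subset (Finset.subset_univ I) fun j _ hj => ?_).symm
    have : av j = 0 := by simpa [I] using hj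
    simp [this]
  have hne : ∀ z, (∃ j ∈ I, e j = z) → ∃ a, (Groth.Agent.ComodLib.lamCoord k A lam v a).coeff z ≠ 0 := by
    rintro z ⟨j, hj, hjz⟩
    by_contra! hall
    refine (hI j).mp hj (funext fun a => ?_)
    have h1 : ∑ b, (∑ l ∈ I.filter (fun l => e l = z), av l b) * C j a b = 0 :=
      Finset.sum_eq_zero fun b _ => by rw [← hcoeff, hall b, zero_mul]
    simp only [Finset.sum_mul] at h1
    rw [Finset.sum_comm, Finset.sum_congr rfl (fun l _ => horth l j a), Finset.sum_ite_eq',
      if_pos (Finset.mem_filter.mpr ⟨hj, hjz⟩)] at h1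
    exact h1
  rw [Groth.Agent.ComodLib.isMu_iff]
  constructor
  · rintro ⟨h1, a, ha⟩
    refine ⟨fun j hj => ?_, ?_⟩
    · by_contra hlt
      obtain ⟨b, hb⟩ := hne (e j) ⟨j, hj, rfl⟩
      exact hb (h1 b _ (by omega))
    · rw [hcoeff] at ha
      obtain ⟨j, hj, -⟩ := Finset.exists_ne_zero_of_sum_ne_zero ha
      exact ⟨j, (Finset.mem_filter.mp hj).1, by have := (Finset.mem_filter.mp hj).2; omega⟩
  · rintro ⟨h1, j, hj, rfl⟩
    refine ⟨fun a z hz => ?_, ?_⟩
    · rw [hcoeff, Finset.filter_false_of_mem, Finset.sum_empty]
      intro l hl h'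
      have := h1 l hl
      omega
    · rw [neg_neg]; exact hne _ ⟨j, hj, rfl⟩

end Groth.Agent.S12553
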