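import Groth.Statements.S12571
import Groth.Agent.FFLib.Diff.Basic

set_option autoImplicit false
open Groth.Agent
universe u v w
open FunFld

namespace Groth.Agent.S12571

/-- The different exponent `d(Q|P) = v_Q(ω) - e(Q|P) v_P(ω)` of a place `Q` of a finite separable
extension `K'` of a geometric function field of one variable `K/k` over a place `P` does not depend
on the nonzero differential `ω` of `K` used; here `ω = dx` and `ω = dx'`, read through Laurent
expansions at `P` and at `Q` (separable places). (The published statement allows any finite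
extension along which differentials of `K` pull back injectively; this row takes `K'` separable over
`K`.) -/
theorem result (k : Type u) (K K' : Type v) [Field k] [Field K] [Field K'] [Algebra k K] [Algebra K K'] [Algebra k K']
    [IsScalarTower k K K'] [FiniteDimensional K K'] [Algebra.IsSeparable K K']
    (hK : FunFld.IsFunctionField k K) (hg : FunFld.IsGeometric k K)
    (F F' : Type w) [Field F] [Algebra k F] [Field F'] [Algebra k F']
    (P : FunFld.Place k K) (Q : FunFld.Place k K') (e : ℕ) (he : FunFld.IsOverWith Q P e)
    (φ : K →ₐ[k] LaurentSeries F) (hφ : LocRes.IsExpansionAt P.1 φ)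
    (ψ : K' →ₐ[k] LaurentSeries F') (hψ : LocRes.IsExpansionAt Q.1 ψ)
    (x : K) (hx : LocRes.vDiff φ 1 x ≠ 0) (hx' : LocRes.vDiff ψ 1 (algebraMap K K' x) ≠ 0)
    (x' : K) (hx2 : LocRes.vDiff φ 1 x' ≠ 0) (hx2' : LocRes.vDiff ψ 1 (algebraMap K K' x') ≠ 0) :
    LocRes.diffExp φ ψ e x = LocRes.diffExp φ ψ e x' := by
  exact (FFLib.diffExp_indep (k' := k) he hφ hψ hK hg hx hx' hx2).symm

end Groth.Agent.S12571
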