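import Groth.Statements.S12574
import Groth.Agent.FFLib.Diff.Conductor

set_option autoImplicit false
open Groth.Agent
universe u v w
open FunFld

namespace Groth.Agent.S12574

/-- Let `Q` be a place of a finite separable extension `K'` of a geometric function field of one
variable `K/k`, over `P` with ramification index `e` and residue degree `1`, both with Laurent
expansions over `k` in local parameters, and let `R^*` be the dual, under the trace form of `K'/K`,
of the integral closure of `O_P` in `K'`. Then `min_{y ∈ R^*} v_Q(y) = -d(Q|P)`: in multiplicative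
notation every `y ∈ R^*` has `v_Q(y) ≤ exp d(Q|P)` and equality is attained. -/
theorem result (k : Type u) (K K' : Type v) [Field k] [Field K] [Field K'] [Algebra k K] [Algebra K K'] [Algebra k K']
    [IsScalarTower k K K'] [FiniteDimensional K K'] [Algebra.IsSeparable K K']
    (hK : FunFld.IsFunctionField k K) (hg : FunFld.IsGeometric k K)
    (F F' : Type w) [Field F] [Algebra k F] [Field F'] [Algebra k F']
    (P : FunFld.Place k K) (Q : FunFld.Place k K') (e : ℕ) (he : FunFld.IsOverWith Q P e)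
    (φ : K →ₐ[k] LaurentSeries F) (hφ : LocRes.IsExpansionAt P.1 φ)
    (ψ : K' →ₐ[k] LaurentSeries F') (hψ : LocRes.IsExpansionAt Q.1 ψ)
    (x : K) (hx : LocRes.vDiff φ 1 x ≠ 0) (hx' : LocRes.vDiff ψ 1 (algebraMap K K' x) ≠ 0)
    [P.1.HasExtension Q.1]
    (hf : Function.Surjective (algebraMap (IsLocalRing.ResidueField P.O) (IsLocalRing.ResidueField Q.O)))
    [Algebra P.O K'] [IsScalarTower P.O K K'] :
    (∀ y : K', (∀ z : K', IsIntegral P.O z → P.1 (Algebra.trace K K' (y * z)) ≤ 1) →
      Q.1 y ≤ WithZero.exp (LocRes.diffExp φ ψ e x)) ∧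
    ∃ y : K', (∀ z : K', IsIntegral P.O z → P.1 (Algebra.trace K K' (y * z)) ≤ 1) ∧
      Q.1 y = WithZero.exp (LocRes.diffExp φ ψ e x) := by
  have hf' := FFLib.isResTrivial_of_surjective (P := P) (Q := Q) hf
  have hg' : (algebraMap K K').comp P.O.subtype = algebraMap P.O K' :=
    RingHom.ext fun c => (IsScalarTower.algebraMap_apply P.O K K' c).symm
  have key : ∀ y : K', FFLib.IsDual P y ↔
      ∀ z : K', IsIntegral P.O z → P.1 (Algebra.trace K K' (y * z)) ≤ 1 := by
    intro y
    refine ⟨fun h z hz => h z fun R hR => ?_, fun h z hz => h z ?_⟩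
    · obtain ⟨p, hp, hpz⟩ := hz
      exact FFLib.val_le_one_of_monic hR hp (hg'.symm ▸ hpz)
    · obtain ⟨p, hp, hpz⟩ := FFLib.exists_monic_of_le_one hK.1 P hz
      exact ⟨p, hp, hg' ▸ hpz⟩
  refine ⟨fun y hy => FFLib.dual_le hφ hψ hK hg he hx hx' hf' ((key y).mpr hy), ?_⟩
  obtain ⟨y, hy, hyv⟩ := FFLib.exists_dual hφ hψ hK hg he hx hx' hf'
  exact ⟨y, (key y).mp hy, hyv⟩

end Groth.Agent.S12574
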