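import Groth.Statements.S12575
import Groth.Agent.FFLib.Diff.Conductor

set_option autoImplicit false
open Groth.Agent
universe u v w
open FunFld

namespace Groth.Agent.S12575

/-- Let `Q` be a place of a finite separable extension `K' = K(y)` of a geometric function field of one
variable `K/k`, over `P` with ramification index `e` and residue degree `1`, both with Laurent
expansions over `k` in local parameters, with `y` integral over `O_P` and `g` its minimal polynomial
over `K`. Then `v_Q(g'(y)) ≥ d(Q|P)`, and when equality holds `O_Q` is the localisation of `O_P[y]`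
at `Q`. -/
theorem result (k : Type u) (K K' : Type v) [Field k] [Field K] [Field K'] [Algebra k K] [Algebra K K'] [Algebra k K']
    [IsScalarTower k K K'] [FiniteDimensional K K'] [Algebra.IsSeparable K K']
    (hK : FunFld.IsFunctionField k K) (hg : FunFld.IsGeometric k K)
    (F F' : Type w) [Field F] [Algebra k F] [Field F'] [Algebra k F']
    (P : FunFld.Place k K) (Q : FunFld.Place k K') (e : ℕ) (he : FunFld.IsOverWith Q P e)
    (φ : K →ₐ[k] LaurentSeries F) (hφ : LocRes.IsExpansionAt P.1 φ)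
    (ψ : K' →ₐ[k] LaurentSeries F') (hψ : LocRes.IsExpansionAt Q.1 ψ)
    (x : K) (hx : LocRes.vDiff φ 1 x ≠ 0) (hx' : LocRes.vDiff ψ 1 (algebraMap K K' x) ≠ 0)
    [P.1.HasExtension Q.1]
    (hf : Function.Surjective (algebraMap (IsLocalRing.ResidueField P.O) (IsLocalRing.ResidueField Q.O)))
    [Algebra P.O K'] [IsScalarTower P.O K K']
    (y : K') (hy : IntermediateField.adjoin K ({y} : Set K') = ⊤) (hyi : IsIntegral P.O y) :
    LocRes.diffExp φ ψ e x ≤ Q.ord (Polynomial.aeval y (Polynomial.derivative (minpoly K y))) ∧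
    (Q.ord (Polynomial.aeval y (Polynomial.derivative (minpoly K y))) = LocRes.diffExp φ ψ e x →
      ∀ z : K', Q.1 z ≤ 1 → ∃ a ∈ Algebra.adjoin P.O ({y} : Set K'), ∃ b ∈ Algebra.adjoin P.O ({y} : Set K'),
        Q.1 b = 1 ∧ z * b = a) := by
  classical
  have hf' := FFLib.isResTrivial_of_surjective (P := P) (Q := Q) hf
  have hg' : (algebraMap K K').comp P.O.subtype = algebraMap P.O K' :=
    RingHom.ext fun c => (IsScalarTower.algebraMap_apply P.O K K' c).symm
  have hyR : ∀ R : FunFld.Place k K', FunFld.IsOver R P → R.1 y ≤ 1 := fun R hR => by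
    obtain ⟨p, hp, hpz⟩ := hyi
    exact FFLib.val_le_one_of_monic hR hp (hg'.symm ▸ hpz)
  have hgen : Algebra.adjoin K {y} = ⊤ := by
    have h := IntermediateField.adjoin_simple_toSubalgebra_of_isAlgebraic
      (Algebra.IsAlgebraic.isAlgebraic (R := K) y)
    rw [hy, IntermediateField.top_toSubalgebra] at h
    exact h.symm
  obtain ⟨h1, h2⟩ := FFLib.diffExp_le_deriv hφ hψ hK hg he hx hx' hf' hgen hyR
  refine ⟨h1, fun heq z hz => ?_⟩
  obtain ⟨h, hh, hmul⟩ := h2 heq
  let Qs := (FFLib.over_finite (K' := K') hK.1 P).toFinset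
  have hQs : ∀ R, R ∈ Qs ↔ FunFld.IsOver R P := fun R => Set.Finite.mem_toFinset _
  obtain ⟨u, hu⟩ := FFLib.exists_approx Qs (fun R => if R = Q then 1 else 0)
    (fun R => if R = Q then 1 else max 0 (-R.ord z))
  have huQ : Q.1 u = 1 := by
    have h' := hu Q ((hQs Q).mpr ⟨e, he⟩)
    simp only [↓reduceIte] at h'
    have h1 : Q.1 u = Q.1 1 := Valuation.map_eq_of_sub_lt _
      (h'.trans_lt (by rw [map_one, ← WithZero.exp_zero, WithZero.exp_lt_exp]; norm_num))
    rwa [map_one] at h1
  have huR : ∀ R : FunFld.Place k K', FunFld.IsOver R P → R.1 u ≤ 1 ∧ R.1 (z * u) ≤ 1 := fun R hR => by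
    have h' := hu R ((hQs R).mpr hR)
    by_cases hRQ : R = Q
    · subst hRQ; exact ⟨huQ.le, by rw [map_mul, huQ, mul_one]; exact hz⟩
    · simp only [if_neg hRQ, sub_zero] at h'
      refine ⟨h'.trans (by rw [← WithZero.exp_zero, WithZero.exp_le_exp]; omega), ?_⟩
      rcases eq_or_ne z 0 with hz0 | hz0
      · simp [hz0]
      rw [map_mul, FFLib.val_eq_exp R hz0]
      refine (mul_le_mul' le_rfl h').trans ?_
      rw [← WithZero.exp_add, ← WithZero.exp_zero, WithZero.exp_le_exp]; omega
  obtain ⟨p, hp⟩ := hmul (z * u) fun R hR => (huR R hR).2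
  obtain ⟨q, hq⟩ := hmul u fun R hR => (huR R hR).1
  rw [hg'] at hp hq
  refine ⟨z * u * h, ?_, u * h, ?_, by rw [map_mul, huQ, hh, one_mul], by ring⟩
  · rw [← hp, Algebra.adjoin_singleton_eq_range_aeval]; exact ⟨p, rfl⟩
  · rw [← hq, Algebra.adjoin_singleton_eq_range_aeval]; exact ⟨q, rfl⟩

end Groth.Agent.S12575
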