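import Groth.Statements.S12576
import Groth.Agent.FFLib.Diff.RH

set_option autoImplicit false
open Groth.Agent
universe u v w
open FunFld

namespace Groth.Agent.S12576

/-- For a geometric function field of one variable `K/k` and a finite separable extension `K'` with
constant field `k'`, `[k':k] (2g_{K'} - 2) = [K':K] (2g_K - 2) + [k':k] deg 𝒟_{K'/K}`, the degree of
the different being `∑_Q d(Q|P) deg_{k'} Q`; stated, cleared of denominators, through Laurent
expansions at every place of `K` over `k` and of `K'` over `k'` (all places separable) with the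
different exponents computed on `dx`. (The published statement allows any finite extension along
which differentials pull back injectively; this row takes `K'` separable over `K`.) -/
theorem result (k k' : Type u) (K K' : Type v) [Field k] [Field k'] [Field K] [Field K']
    [Algebra k k'] [Algebra k K] [Algebra K K'] [Algebra k' K'] [Algebra k K']
    [IsScalarTower k k' K'] [IsScalarTower k K K'] [FiniteDimensional k k'] [FiniteDimensional K K']
    [Algebra.IsSeparable K K']
    (hK : FunFld.IsFunctionField k K) (hg : FunFld.IsGeometric k K) (hK' : FunFld.IsFunctionField k' K')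
    (F : FunFld.Place k K → Type w) [∀ P, Field (F P)] [∀ P, Algebra k (F P)]
    (φ : ∀ P, K →ₐ[k] LaurentSeries (F P)) (hφ : ∀ P, LocRes.IsExpansionAt P.1 (φ P))
    (F' : FunFld.Place k' K' → Type w) [∀ Q, Field (F' Q)] [∀ Q, Algebra k' (F' Q)]
    (ψ : ∀ Q, K' →ₐ[k'] LaurentSeries (F' Q)) (hψ : ∀ Q, LocRes.IsExpansionAt Q.1 (ψ Q))
    (below : FunFld.Place k' K' → FunFld.Place k K) (e : FunFld.Place k' K' → ℕ)
    (he : ∀ Q (z : K), Q.1 (algebraMap K K' z) = (below Q).1 z ^ e Q)
    (x : K) (hx : ∀ P, LocRes.vDiff (φ P) 1 x ≠ 0) (hx' : ∀ Q, LocRes.vDiff (ψ Q) 1 (algebraMap K K' x) ≠ 0) :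
    (Function.support fun Q => LocRes.diffExp (φ (below Q)) (ψ Q) (e Q) x).Finite ∧
    (Module.finrank k k' : ℤ) * (2 * (FunFld.genus k' K' : ℤ) - 2) =
      (Module.finrank K K' : ℤ) * (2 * (FunFld.genus k K : ℤ) - 2) +
      (Module.finrank k k' : ℤ) * ∑ᶠ Q, LocRes.diffExp (φ (below Q)) (ψ Q) (e Q) x * (Q.deg : ℤ) := by
  exact FFLib.riemann_hurwitz hK hg hK' F φ hφ F' ψ hψ below e he x hx hx'

end Groth.Agent.S12576
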