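import Groth.Statements.S12577
import Groth.Agent.FFLib.Ram.Hilbert

set_option autoImplicit false
open Groth.Agent
universe u v w
open FunFld

namespace Groth.Agent.S12577

/-- For a place `Q` of a finite Galois extension `K'` of a geometric function field of one variable
`K/k`, lying over `P` with ramification index `e`, both places with Laurent expansions over `k` in
local parameters (separable places), the different exponent is `d(Q|P) = ∑_{i ≥ 1} (|G_i| - 1)`,
where `G_i` is the `i`-th ramification group (automorphisms moving every element of `O_Q` by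
something of valuation at least `i`); `d(Q|P)` is computed on `dx`. -/
theorem result (k : Type u) (K K' : Type v) [Field k] [Field K] [Field K'] [Algebra k K] [Algebra K K'] [Algebra k K']
    [IsScalarTower k K K'] [FiniteDimensional K K'] (hK : FunFld.IsFunctionField k K) (hg : FunFld.IsGeometric k K)
    [IsGalois K K']
    (F F' : Type w) [Field F] [Algebra k F] [Field F'] [Algebra k F']
    (P : FunFld.Place k K) (Q : FunFld.Place k K') (e : ℕ) (he : FunFld.IsOverWith Q P e)
    (φ : K →ₐ[k] LaurentSeries F) (hφ : LocRes.IsExpansionAt P.1 φ)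
    (ψ : K' →ₐ[k] LaurentSeries F') (hψ : LocRes.IsExpansionAt Q.1 ψ)
    (x : K) (hx : LocRes.vDiff φ 1 x ≠ 0) (hx' : LocRes.vDiff ψ 1 (algebraMap K K' x) ≠ 0) :
    (Function.support fun i : ℕ => (Nat.card {σ : K' ≃ₐ[K] K' //
        ∀ z : K', Q.1 z ≤ 1 → Q.1 (σ z - z) ≤ WithZero.exp (-(i : ℤ))} : ℤ) - 1).Finite ∧
    LocRes.diffExp φ ψ e x = ∑ᶠ i : ℕ, if 1 ≤ i then
      (Nat.card {σ : K' ≃ₐ[K] K' // ∀ z : K', Q.1 z ≤ 1 → Q.1 (σ z - z) ≤ WithZero.exp (-(i : ℤ))} : ℤ) - 1
      else 0 := by
  classical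
  obtain ⟨N, hN, hd⟩ := FFLib.hilbert_different hK hg he hφ hψ hx hx'
  have hc : ∀ i : ℕ, Nat.card {σ : K' ≃ₐ[K] K' // ∀ z : K', Q.1 z ≤ 1 → Q.1 (σ z - z) ≤ WithZero.exp (-(i : ℤ))} =
      Nat.card (FFLib.ramGroup K Q i) := fun i =>
    Nat.card_congr (Equiv.subtypeEquivRight fun σ => FFLib.mem_ramGroup_iff.symm)
  simp only [hc]
  refine ⟨(Set.finite_Iic N).subset fun i hi => ?_, ?_⟩
  · by_contra h
    refine hi ?_
    show (Nat.card (FFLib.ramGroup K Q i) : ℤ) - 1 = 0
    rw [hN i (by simpa using h)]; rfl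
  · rw [hd, finsum_eq_sum_of_support_subset _ (s := Finset.Icc 1 N) fun i hi => ?_]
    · exact Finset.sum_congr rfl fun i hi => (if_pos (Finset.mem_Icc.mp hi).1).symm
    · rw [Function.mem_support] at hi
      split_ifs at hi with h1
      · rw [Finset.coe_Icc, Set.mem_Icc]
        refine ⟨h1, not_lt.mp fun h => hi ?_⟩
        rw [hN i h]; rfl
      · exact absurd rfl hi

end Groth.Agent.S12577
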