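import Groth.Statements.S12578
import Groth.Agent.FFLib.Trace.Local
import Groth.Agent.FFLib.Res.Weil

set_option autoImplicit false
open Groth.Agent
universe u v w
open FunFld

namespace Groth.Agent.S12578

/-- For a geometric function field of one variable `K/k`, a finite separable extension `K'` with the
same constant field, a place `P` of `K` and `ω = y dx` with `y ∈ K'`, `x ∈ K`: `Res_P(tr_{K'/K}(y)
dx) = ∑_{Q | P} Res_Q(y dx)`; residues are read through Laurent expansions over `k` at `P` and at
every `Q` over `P` (so these places are separable). -/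
theorem result (k : Type u) (K K' : Type v) [Field k] [Field K] [Field K'] [Algebra k K] [Algebra K K'] [Algebra k K']
    [IsScalarTower k K K'] [FiniteDimensional K K'] [Algebra.IsSeparable K K']
    (hK : FunFld.IsFunctionField k K) (hg : FunFld.IsGeometric k K)
    (hK' : FunFld.IsFunctionField k K') (P : FunFld.Place k K)
    (F : Type w) [Field F] [Algebra k F] [FiniteDimensional k F]
    (φ : K →ₐ[k] LaurentSeries F) (hφ : LocRes.IsExpansionAt P.1 φ)
    (Qs : Finset (FunFld.Place k K')) (hQs : ∀ Q, Q ∈ Qs ↔ FunFld.IsOver Q P)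
    (F' : FunFld.Place k K' → Type w) [∀ Q, Field (F' Q)] [∀ Q, Algebra k (F' Q)] [∀ Q, FiniteDimensional k (F' Q)]
    (ψ : ∀ Q, K' →ₐ[k] LaurentSeries (F' Q)) (hψ : ∀ Q ∈ Qs, LocRes.IsExpansionAt Q.1 (ψ Q))
    (y : K') (x : K) :
    LocRes.locRes φ (Algebra.trace K K' y) x = ∑ Q ∈ Qs, LocRes.locRes (ψ Q) y (algebraMap K K' x) := by
  exact FFLib.trace_formula hK.1 P Qs hQs y x (FFLib.locResL φ x).toAddMonoidHom
    (fun c => FFLib.tres_expansion hφ c x) (fun Q => LocRes.locRes (ψ Q) y (algebraMap K K' x))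
    (fun Q hQ => FFLib.tres_expansion (hψ Q hQ) y _)

end Groth.Agent.S12578
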