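import Groth.Statements.S12584
import Groth.Agent.FFLib.Quad.FormsAS

set_option autoImplicit false
open Groth.Agent
universe u v w
open FunFld

namespace Groth.Agent.S12584

/-- For `char k ≠ 2` and `K` of degree `2` over `k(x)` with `y² = f(x)`, `f` squarefree of degree `≥ 1`,
the forms `x^i dx/y`, `0 ≤ i < g`, are a `k`-basis of the regular differential forms: each is
regular, and every regular `z dx` has `z = a(x)/y` with `deg a < g`; regularity read through Laurent
expansions over `k` at every place (all places separable). -/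
theorem result (k : Type u) (K : Type v) [Field k] [Field K] [Algebra k K] [Algebra (RatFunc k) K] [IsScalarTower k (RatFunc k) K]
    (hK : FunFld.IsFunctionField k K) (hdeg : Module.finrank (RatFunc k) K = 2) (h2 : ringChar k ≠ 2)
    (y : K) (f : Polynomial k) (hf : Squarefree f) (hd : 1 ≤ f.natDegree)
    (heq : y ^ 2 = algebraMap (RatFunc k) K (algebraMap (Polynomial k) (RatFunc k) f))
    (F : FunFld.Place k K → Type w) [∀ P, Field (F P)] [∀ P, Algebra k (F P)] [∀ P, FiniteDimensional k (F P)]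
    (φ : ∀ P, K →ₐ[k] LaurentSeries (F P)) (hφ : ∀ P, LocRes.IsExpansionAt P.1 (φ P)) :
    (∀ i : ℕ, i < FunFld.genus k K → ∀ P,
      LocRes.vDiff (φ P) (algebraMap (RatFunc k) K RatFunc.X ^ i / y) (algebraMap (RatFunc k) K RatFunc.X) ≤ 1) ∧
    ∀ z : K, (∀ P, LocRes.vDiff (φ P) z (algebraMap (RatFunc k) K RatFunc.X) ≤ 1) →
      ∃ a : Polynomial k, a.degree < (FunFld.genus k K : WithBot ℕ) ∧
        z = algebraMap (RatFunc k) K (algebraMap (Polynomial k) (RatFunc k) a) / y := by
  classical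
  obtain ⟨hy, Pinf, hX, hPd, hfin, hloc⟩ := FFLib.hyperelliptic_data hdeg h2 hf hd heq
  have h20 : (2 : k) ≠ 0 := Ring.two_ne_zero h2
  have hy0 : y ≠ 0 := fun e => hy ⟨0, by rw [map_zero, e]⟩
  haveI := FFLib.quad_separable hdeg h20
  have hF := FFLib.isFF_ratFunc k
  haveI : FiniteDimensional (RatFunc k) K := Module.finite_of_finrank_eq_succ hdeg
  have hgen := FFLib.quad_genus hdeg hy hloc (FFLib.isFunctionField_ratFunc k) hK
  rw [FFLib.genus_ratFunc, FFLib.Divisor.deg_single, hPd] at hgen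
  have key : ∀ a : Polynomial k, a.degree < (FunFld.genus k K : WithBot ℕ) → ∀ P,
      LocRes.vDiff (φ P) (algebraMap (RatFunc k) K (algebraMap (Polynomial k) (RatFunc k) a) * y⁻¹)
        (algebraMap (RatFunc k) K RatFunc.X) ≤ 1 := by
    intro a ha Q
    obtain ⟨P, e, -, he⟩ := FFLib.exists_over hF Q
    obtain ⟨he1, he2, -⟩ := FFLib.quad_over hF hdeg he
    rw [FFLib.vDiff_mul (hφ Q), map_mul, map_inv₀, he]
    by_cases hP : P.ord (RatFunc.X : RatFunc k) < 0
    · obtain ⟨hX1, -, hPo⟩ := FFLib.ratFunc_infinity P hP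
      rcases eq_or_ne a 0 with rfl | ha0
      · simp [zero_pow (show e ≠ 0 by omega)]
      have hy2 : 2 * Q.ord y = -((e : ℤ) * f.natDegree) := by
        have h := congrArg Q.ord heq
        rw [FFLib.ord_pow, FFLib.ord_over he, hPo f hf.ne_zero] at h
        push_cast at h; linarith
      have hx : Q.1 (algebraMap (RatFunc k) K RatFunc.X) ≤ WithZero.exp (e : ℤ) := by
        rw [he, FFLib.val_eq_exp P RatFunc.X_ne_zero, hX1, ← WithZero.exp_nsmul, WithZero.exp_le_exp]
        simp
      refine (mul_le_mul' le_rfl (FFLib.vDiff_le_succ (hφ Q) hx)).trans ?_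
      have h1 : a.natDegree < FunFld.genus k K := (Polynomial.natDegree_lt_iff_degree_lt ha0).mpr ha
      rw [FFLib.val_eq_exp P (by simpa using ha0), hPo a ha0, FFLib.val_eq_exp Q hy0, ← WithZero.exp_nsmul,
        ← WithZero.exp_neg, ← WithZero.exp_add, ← WithZero.exp_add]
      refine le_of_le_of_eq ?_ WithZero.exp_zero
      rw [WithZero.exp_le_exp, nsmul_eq_mul]
      interval_cases e <;> push_cast at hy2 ⊢ <;> omega
    · have hX1 : P.1 (RatFunc.X : RatFunc k) ≤ 1 := (FFLib.val_le_one_iff P RatFunc.X_ne_zero).mpr (not_lt.mp hP)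
      rw [mul_assoc]
      refine mul_le_one' (pow_le_one' (FFLib.ratPoly_le_one P hX1 a) e) ?_
      refine (mul_le_mul' le_rfl (FFLib.vDiff_sqrt_le hdeg h20 hf hy0 heq (Q := Q) ?_ (hφ Q))).trans_eq
        (inv_mul_cancel₀ (FFLib.val_ne_zero Q hy0))
      rw [he]; exact pow_le_one' hX1 e
  refine ⟨fun i hi P => ?_, fun z hz => ?_⟩
  · have := key (Polynomial.X ^ i) (by rw [Polynomial.degree_X_pow]; exact_mod_cast hi) P
    rwa [← div_eq_mul_inv, map_pow (algebraMap (Polynomial k) (RatFunc k)), RatFunc.algebraMap_X,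
      map_pow (algebraMap (RatFunc k) K)] at this
  · obtain ⟨a, ha, rfl⟩ := FFLib.regular_poly_basis hK hφ (inv_ne_zero hy0) key hz
    exact ⟨a, ha, (div_eq_mul_inv _ _).symm⟩

end Groth.Agent.S12584
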