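import Groth.Statements.S12588
import Groth.Agent.FFLib.Quad.Deriv
import Groth.Agent.FFLib.Quad.Rat
import Groth.Agent.FFLib.Local.Hasse

set_option autoImplicit false
open Groth.Agent
universe u v w
open FunFld

namespace Groth.Agent.S12588

/-- For `k` perfect of characteristic `2`, `K` separable of degree `2` over `k(x)` with `y² + y = f(x)`,
and a place `p` of `k(x)` where `f` has a pole whose order `2d - 1` is odd: a place `P` of `K` above
`p` with ramification index `e` (necessarily `e = 2`, `P` unique) has different exponent `d(P|p) =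
2d = 1 - ord_p(f)`; the exponent is computed on `dz` through Laurent expansions over `k` at `p` and
`P`. -/
theorem result (k : Type u) (K : Type v) [Field k] [Field K] [Algebra k K] [Algebra (RatFunc k) K] [IsScalarTower k (RatFunc k) K]
    (hK : FunFld.IsFunctionField k K) (hdeg : Module.finrank (RatFunc k) K = 2) [PerfectField k] (h2 : ringChar k = 2)
    [Algebra.IsSeparable (RatFunc k) K]
    (y : K) (hy : y ∉ Set.range (algebraMap (RatFunc k) K)) (f : RatFunc k)
    (heq : y ^ 2 + y = algebraMap (RatFunc k) K f)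
    (p : FunFld.Place k (RatFunc k)) (hp : 1 < p.1 f) (hodd : Odd (p.ord f))
    (P : FunFld.Place k K) (e : ℕ) (he : FunFld.IsOverWith P p e)
    (F F' : Type w) [Field F] [Algebra k F] [Field F'] [Algebra k F']
    (φ : RatFunc k →ₐ[k] LaurentSeries F) (hφ : LocRes.IsExpansionAt p.1 φ)
    (ψ : K →ₐ[k] LaurentSeries F') (hψ : LocRes.IsExpansionAt P.1 ψ)
    (z : RatFunc k) (hz : LocRes.vDiff φ 1 z ≠ 0) (hz' : LocRes.vDiff ψ 1 (algebraMap (RatFunc k) K z) ≠ 0) :
    LocRes.diffExp φ ψ e z = 1 - p.ord f := by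
  have hF := FFLib.isFunctionField_ratFunc k
  have hg := FFLib.isGeometric_of_perfect hF
  haveI : FiniteDimensional (RatFunc k) K := Module.finite_of_finrank_eq_succ hdeg
  have hk2 : (2 : k) = 0 := by
    have := CharP.cast_eq_zero k (ringChar k); rw [h2] at this; exact_mod_cast this
  have hF2 : (2 : F) = 0 := by rw [← map_ofNat (algebraMap k F) 2, hk2, map_zero]
  have hF2' : (2 : F') = 0 := by rw [← map_ofNat (algebraMap k F') 2, hk2, map_zero]
  have hf0 : f ≠ 0 := fun e0 => by rw [e0, map_zero] at hp; exact not_lt_zero hp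
  have hneg : p.ord f < 0 := (FFLib.one_lt_val_iff p hf0).mp hp
  obtain ⟨he1, he2, -⟩ := FFLib.quad_over hF.1 hdeg he
  have hy0 : y ≠ 0 := fun e0 => hy ⟨0, by rw [map_zero, e0]⟩
  have h1 := FFLib.ord_as heq (Q := P) (by rw [FFLib.ord_over he]; exact mul_neg_of_pos_of_neg (by omega) hneg)
  rw [FFLib.ord_over he] at h1
  obtain ⟨w, hw⟩ := hodd
  have he' : e = 2 := by
    interval_cases e
    · omega
    · rfl
  subst he'
  have hyo : P.ord y = p.ord f := by push_cast at h1; omega
  have hcast : ∀ (L : Type w) [Field L], (2 : L) = 0 → ((p.ord f : ℤ) : L) ≠ 0 := fun L _ hL => by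
    rw [hw]; push_cast; rw [hL, zero_mul, zero_add]; exact one_ne_zero
  have hφf := FFLib.vDiff_of_ord hφ hf0 (hcast F hF2)
  have hψy := FFLib.vDiff_of_ord hψ hy0 (hyo.symm ▸ hcast F' hF2')
  have hψf : LocRes.vDiff ψ 1 (algebraMap (RatFunc k) K f) = WithZero.exp (-(P.ord y - 1)) := by
    rw [FFLib.vDiff_as hF2' heq, hψy]
  rw [← FFLib.diffExp_indep (k := k) (K := RatFunc k) (k' := k) (K' := K) (F := F) (F' := F') (P := p) (Q := P) (e := 2) (fun z => he z) hφ hψ hF hg hz hz' (by rw [hφf]; exact WithZero.exp_ne_zero), LocRes.diffExp,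
    LocRes.ordDiff, LocRes.ordDiff, hφf, hψf, WithZero.log_exp, WithZero.log_exp, hyo]
  push_cast
  ring

end Groth.Agent.S12588
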