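import Groth.Statements.S12589
import Groth.Agent.FFLib.Ram.ConstExt

set_option autoImplicit false
open Groth.Agent
universe u v
open FunFld

namespace Groth.Agent.S12589

/-- If a place `P` of a geometric function field of one variable `K/k` is nonsingular with respect to
the finite extension `k'/k` (the integral closure of `O_P` in `K' = k' ⊗_k K` is `O_P[k']`) and `Q`
is a place of `K'` above `P`, then `F_Q = k' F_P`. -/
theorem result (k k' : Type u) (K K' : Type v) [Field k] [Field k'] [Field K] [Field K']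
    [Algebra k k'] [FiniteDimensional k k'] [Algebra k K] [Algebra K K'] [Algebra k' K'] [Algebra k K']
    [IsScalarTower k k' K'] [IsScalarTower k K K']
    (h : Function.Bijective (Algebra.TensorProduct.productMap
      (IsScalarTower.toAlgHom k k' K') (IsScalarTower.toAlgHom k K K')))
    (hK : FunFld.IsFunctionField k K) (hg : FunFld.IsGeometric k K)
    (P : FunFld.Place k K) [Algebra P.O K'] [IsScalarTower P.O K K']
    (hns : (integralClosure P.O K').toSubring = (Algebra.adjoin P.O (Set.range (algebraMap k' K'))).toSubring)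
    (Q : FunFld.Place k K') [P.1.HasExtension Q.1] (hk' : ∀ c : k', Q.1 (algebraMap k' K' c) ≤ 1) :
    Algebra.adjoin (IsLocalRing.ResidueField P.O)
      (Set.range fun c : k' => IsLocalRing.residue Q.O ⟨algebraMap k' K' c, hk' c⟩) = ⊤ := by
  classical
  obtain ⟨vK, hvK⟩ := FFLib.exists_const_basis (K := K) h (Module.finBasis k k')
  haveI : FiniteDimensional K K' := Module.Finite.of_basis vK
  refine eq_top_iff.mpr fun r _ => ?_
  obtain ⟨z, rfl⟩ := IsLocalRing.residue_surjective r
  have hQ : FunFld.IsOver Q P := by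
    obtain ⟨P', e, he1, he⟩ := FFLib.exists_over (K' := K') hK.1 Q
    have : P' = P := FFLib.place_eq_of_iff fun a => by
      have h1 : P.1 a ≤ 1 ↔ Q.1 (algebraMap K K' a) ≤ 1 :=
        (Valuation.HasExtension.val_map_le_one_iff (vR := P.1) Q.1 a).symm
      rw [h1, he, pow_le_one_iff (by omega)]
    exact this ▸ ⟨e, he⟩
  set Qs := (FFLib.over_finite (K' := K') hK.1 P).toFinset
  obtain ⟨w, hw⟩ := FFLib.exists_approx Qs (fun R => if R = Q then (z : K') else 0) (fun _ => 1)
  have hw1 : Q.1 (w - z) < 1 := by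
    have h' := hw Q ((Set.Finite.mem_toFinset _).mpr hQ)
    rw [if_pos rfl] at h'
    exact (FFLib.le_exp_neg_one_iff Q).mp h'
  have hwR : ∀ R : FunFld.Place k K', FunFld.IsOver R P → R.1 w ≤ 1 := fun R hR => by
    have h' := (FFLib.le_exp_neg_one_iff R).mp (hw R ((Set.Finite.mem_toFinset _).mpr hR))
    rw [← sub_add_cancel w (if R = Q then (z : K') else 0)]
    refine (R.1.map_add _ _).trans (max_le h'.le ?_)
    split_ifs with e
    · exact e ▸ z.2
    · simp
  obtain ⟨p, hp, hpz⟩ := FFLib.exists_monic_of_le_one hK.1 P hwR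
  have hg' : (algebraMap K K').comp P.O.subtype = algebraMap P.O K' :=
    RingHom.ext fun c => (IsScalarTower.algebraMap_apply P.O K K' c).symm
  have hmem : w ∈ Algebra.adjoin P.O (Set.range (algebraMap k' K')) := by
    have : w ∈ (integralClosure P.O K').toSubring := (mem_integralClosure_iff P.O K').mpr ⟨p, hp, hg' ▸ hpz⟩
    rw [hns] at this
    exact this
  have key : ∀ y, ∀ hy : y ∈ Algebra.adjoin P.O (Set.range (algebraMap k' K')), ∃ hy1 : Q.1 y ≤ 1,
      IsLocalRing.residue Q.O ⟨y, hy1⟩ ∈ Algebra.adjoin (IsLocalRing.ResidueField P.O)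
        (Set.range fun c : k' => IsLocalRing.residue Q.O ⟨algebraMap k' K' c, hk' c⟩) := by
    intro y hy
    induction hy using Algebra.adjoin_induction with
    | mem x hx => obtain ⟨c, rfl⟩ := hx; exact ⟨hk' c, Algebra.subset_adjoin ⟨c, rfl⟩⟩
    | algebraMap a =>
      obtain ⟨e, he⟩ := hQ
      have hy1 : Q.1 (algebraMap P.O K' a) ≤ 1 := by
        rw [IsScalarTower.algebraMap_apply P.O K K', he]; exact pow_le_one' a.2 e
      refine ⟨hy1, ?_⟩
      have : IsLocalRing.residue Q.O ⟨algebraMap P.O K' a, hy1⟩ =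
          algebraMap (IsLocalRing.ResidueField P.O) _ (IsLocalRing.residue P.O a) := by
        rw [IsLocalRing.ResidueField.algebraMap_residue]
        exact congrArg _ (Subtype.ext (IsScalarTower.algebraMap_apply P.O K K' a))
      rw [this]
      exact Subalgebra.algebraMap_mem _ _
    | add a a' _ _ ha ha' =>
      obtain ⟨h1, m1⟩ := ha; obtain ⟨h2, m2⟩ := ha'
      refine ⟨(Q.1.map_add _ _).trans (max_le h1 h2), ?_⟩
      have := Subalgebra.add_mem _ m1 m2
      rwa [← map_add] at this
    | mul a a' _ _ ha ha' =>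
      obtain ⟨h1, m1⟩ := ha; obtain ⟨h2, m2⟩ := ha'
      refine ⟨by rw [map_mul]; exact mul_le_one' h1 h2, ?_⟩
      have := Subalgebra.mul_mem _ m1 m2
      rwa [← map_mul] at this
  obtain ⟨hy1, hm⟩ := key w hmem
  have heq : IsLocalRing.residue Q.O ⟨w, hy1⟩ = IsLocalRing.residue Q.O z := by
    rw [← sub_eq_zero, ← map_sub, FFLib.residue_eq_zero]
    exact hw1
  rwa [heq] at hm

end Groth.Agent.S12589
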