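import Groth.Statements.S12594
import Groth.Agent.FFLib.Splitting

set_option autoImplicit false
universe u v
open FunFld

namespace Groth.Agent.S12594

open Groth.Agent

/-- For a geometric function field of one variable `K/k` there is a finite purely inseparable extension
`k'/k` such that `k' ⊗_k K` is nonsingular: every place of it is nonsingular with respect to every
finite extension `k''/k'` (the integral closure of its valuation ring in `k'' ⊗_{k'} (k' ⊗_k K)` is
generated by `k''`). -/
theorem result (k : Type u) (K : Type v) [Field k] [Field K] [Algebra k K]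
    (hK : FunFld.IsFunctionField k K) (hg : FunFld.IsGeometric k K) :
    ∃ (k' : Type u) (_ : Field k') (_ : Algebra k k'), FiniteDimensional k k' ∧ IsPurelyInseparable k k' ∧
      ∀ (K' : Type v) [Field K'] [Algebra K K'] [Algebra k' K'] [Algebra k K']
        [IsScalarTower k k' K'] [IsScalarTower k K K'],
        Function.Bijective (Algebra.TensorProduct.productMap
          (IsScalarTower.toAlgHom k k' K') (IsScalarTower.toAlgHom k K K')) →
        ∀ (Q : FunFld.Place k' K') (k'' : Type u) [Field k''] [Algebra k' k''] [FiniteDimensional k' k'']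
          (K'' : Type v) [Field K''] [Algebra K' K''] [Algebra k'' K''] [Algebra k' K'']
          [IsScalarTower k' k'' K''] [IsScalarTower k' K' K''],
          Function.Bijective (Algebra.TensorProduct.productMap
            (IsScalarTower.toAlgHom k' k'' K'') (IsScalarTower.toAlgHom k' K' K'')) →
          integralClosure (Q.O.toSubring.map (algebraMap K' K'')) K'' =
            Algebra.adjoin (Q.O.toSubring.map (algebraMap K' K'')) (Set.range (algebraMap k'' K'')) := by

  classical
  obtain ⟨F, hFfin, hFpi, hdes⟩ := FFLib.Descent.exists_descent_all (kb := AlgebraicClosure k) hK hg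
  haveI := hFfin
  refine ⟨F, inferInstance, inferInstance, hFfin, hFpi, ?_⟩
  intro K' _ _ _ _ _ _ h Q k'' _ _ _ K'' _ _ _ _ _ _ h2
  letI : Algebra k k'' := ((algebraMap F k'').comp (algebraMap k F)).toAlgebra
  haveI : IsScalarTower k F k'' := IsScalarTower.of_algebraMap_eq fun _ => rfl
  haveI : FiniteDimensional k k'' := Module.Finite.trans F k''
  letI : Algebra k K'' := ((algebraMap k'' K'').comp (algebraMap k k'')).toAlgebra
  haveI : IsScalarTower k k'' K'' := IsScalarTower.of_algebraMap_eq fun _ => rfl
  letI : Algebra K K'' := ((algebraMap K' K'').comp (algebraMap K K')).toAlgebra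
  haveI : IsScalarTower K K' K'' := IsScalarTower.of_algebraMap_eq fun _ => rfl
  haveI : IsScalarTower k K K'' := IsScalarTower.of_algebraMap_eq fun c => by
    show algebraMap k'' K'' (algebraMap F k'' (algebraMap k F c)) =
      algebraMap K' K'' (algebraMap K K' (algebraMap k K c))
    rw [← IsScalarTower.algebraMap_apply F k'' K'', IsScalarTower.algebraMap_apply F K' K'',
      ← IsScalarTower.algebraMap_apply k F K', ← IsScalarTower.algebraMap_apply k K K']
  let j : k'' →ₐ[F] AlgebraicClosure k := IsAlgClosed.lift
  letI : Algebra k'' (AlgebraicClosure k) := j.toRingHom.toAlgebra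
  haveI : IsScalarTower F k'' (AlgebraicClosure k) := IsScalarTower.of_algebraMap_eq fun c => (j.commutes c).symm
  haveI : IsScalarTower k k'' (AlgebraicClosure k) := IsScalarTower.of_algebraMap_eq fun c => by
    show _ = j (algebraMap F k'' (algebraMap k F c))
    rw [j.commutes, ← IsScalarTower.algebraMap_apply]
  have h' : Function.Bijective (Algebra.TensorProduct.productMap
      (IsScalarTower.toAlgHom k k'' K'') (IsScalarTower.toAlgHom k K K'')) := by
    set Φ := Algebra.TensorProduct.productMap (IsScalarTower.toAlgHom k k'' K'') (IsScalarTower.toAlgHom k K K'')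
    refine ⟨?_, fun z => ?_⟩
    · letI := (hg k'' inferInstance).toField
      exact Φ.toRingHom.injective
    · obtain ⟨w, rfl⟩ := h2.2 z
      induction w with
      | zero => exact ⟨0, by rw [map_zero, map_zero]⟩
      | tmul a b =>
        obtain ⟨u, rfl⟩ := h.2 b
        induction u with
        | zero => exact ⟨0, by simp⟩
        | tmul c x =>
          refine ⟨(a * algebraMap F k'' c) ⊗ₜ[k] x, ?_⟩
          simp only [Φ, Algebra.TensorProduct.productMap_apply_tmul, IsScalarTower.coe_toAlgHom', map_mul,
            ← IsScalarTower.algebraMap_apply F k'' K'', ← IsScalarTower.algebraMap_apply F K' K'',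
            ← IsScalarTower.algebraMap_apply K K' K'', mul_assoc]
        | add u v hu hv =>
          obtain ⟨p, hp⟩ := hu
          obtain ⟨q, hq⟩ := hv
          exact ⟨p + q, by rw [map_add, map_add, TensorProduct.tmul_add, map_add, hp, hq]⟩
      | add u v hu hv =>
        obtain ⟨p, hp⟩ := hu
        obtain ⟨q, hq⟩ := hv
        exact ⟨p + q, by rw [map_add, map_add, hp, hq]⟩
  exact FFLib.Descent.closure_eq_of_descent (k' := F) (AlgebraicClosure k) h h' hK.1
    (fun a ha => ⟨⟨a, ha⟩, rfl⟩) hdes Q

end Groth.Agent.S12594
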