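import Groth.Statements.S12595
import Groth.Agent.FFLib.SV.Orders

set_option autoImplicit false
open Groth.Agent
open FunFld

namespace Groth.Agent.S12595

/-- Over an algebraically closed constant field, let `φ` be a birational projective map of the function
field `K` (the ratios `φ i / φ 0` generate `K`), `τ` a `k`-endomorphism of `K` and `H` a total Hasse
derivative. Then the first `τ`-order of `φ` is positive — the column `φ` of `0`-th Hasse derivatives
lies in the `K`-span of the leading column `τ(φ)` — exactly when `τ` is the identity. -/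
theorem result
    (k K : Type*) [Field k] [IsAlgClosed k] [Field K] [Algebra k K]
    (hK : FunFld.IsFunctionField k K) {n : ℕ} (φ : Fin (n + 1) → K) (h0 : φ 0 ≠ 0)
    (hbir : IntermediateField.adjoin k (Set.range fun i => φ i / φ 0) = ⊤)
    (τ : K →ₐ[k] K) (s : K) (H : K →ₐ[k] PowerSeries K) (hH : LocRes.IsHasseFamily s H) :
    ¬ FunFld.IsJump K (FunFld.hcol τ H φ) 1 ↔ τ = AlgHom.id k K := by
  have hc : FunFld.IsJump K (FunFld.hcol τ H φ) 1 ↔ ¬ ∃ a : K, a • (fun i => τ (φ i)) = φ := by
    show FunFld.hcol τ H φ 1 ∉ _ ↔ _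
    rw [show Set.Iio 1 = ({0} : Set ℕ) by ext x; simp, Set.image_singleton,
      Submodule.mem_span_singleton, not_iff_not]
    have h1 : FunFld.hcol τ H φ 1 = φ := funext fun i => by
      show LocRes.hasseD H 0 (φ i) = φ i
      rw [LocRes.hasseD_apply, PowerSeries.coeff_zero_eq_constantCoeff, hH.2]
    rw [h1]
    rfl
  rw [hc, not_not]
  refine ⟨?_, fun h => ⟨1, by subst h; simp⟩⟩
  rintro ⟨a, ha⟩
  have ha0 : a ≠ 0 := by
    rintro rfl
    exact h0 (by simpa using (congrFun ha 0).symm)
  refine AlgHom.ext fun x => ?_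
  show τ x = x
  have hx : x ∈ IntermediateField.adjoin k (Set.range fun i => φ i / φ 0) := hbir ▸ IntermediateField.mem_top
  induction hx using IntermediateField.adjoin_induction with
  | mem z hz =>
    obtain ⟨i, rfl⟩ := hz
    have hi : a * τ (φ i) = φ i := congrFun ha i
    have h00 : a * τ (φ 0) = φ 0 := congrFun ha 0
    show τ (φ i / φ 0) = φ i / φ 0
    rw [map_div₀, ← mul_div_mul_left (τ (φ i)) (τ (φ 0)) ha0, hi, h00]
  | algebraMap c => exact τ.commutes c
  | add u v _ _ hu hv => rw [map_add, hu, hv]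
  | inv u _ hu => rw [map_inv₀, hu]
  | mul u v _ _ hu hv => rw [map_mul, hu, hv]

end Groth.Agent.S12595
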