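import Groth.Statements.S12596
import Groth.Agent.FFLib.SV.Orders

set_option autoImplicit false
open Groth.Agent
open FunFld

namespace Groth.Agent.S12596

/-- Over an algebraically closed constant field, replacing a projective map `φ` by `Aφ` for an
invertible matrix `A` over `k` does not change the `τ`-order sequence, and multiplies every
generalized Wronskian determinant `det [τ(φ) | D^(I₁) φ | ⋯ | D^(Iₙ) φ]` (Hasse derivatives taken
with `H`) by `det A`. -/
theorem result
    (k K : Type*) [Field k] [IsAlgClosed k] [Field K] [Algebra k K]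
    (hK : FunFld.IsFunctionField k K) {n : ℕ} (φ : Fin (n + 1) → K) (hφ : LinearIndependent k φ)
    (τ : K →ₐ[k] K) (s : K) (H : K →ₐ[k] PowerSeries K) (hH : LocRes.IsHasseFamily s H)
    (A : Matrix (Fin (n + 1)) (Fin (n + 1)) k) (hA : A.det ≠ 0)
    (φ' : Fin (n + 1) → K) (hφ' : ∀ i, φ' i = ∑ j, A i j • φ j) :
    (∀ J : Fin n → ℕ, FunFld.IsOrders K (FunFld.hcol τ H φ') J ↔ FunFld.IsOrders K (FunFld.hcol τ H φ) J) ∧
    ∀ I : Fin n → ℕ, (FunFld.wrMat τ H φ' I).det = algebraMap k K A.det * (FunFld.wrMat τ H φ I).det := by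
  let A' : Matrix (Fin (n + 1)) (Fin (n + 1)) K := A.map (algebraMap k K)
  have hdet : A'.det = algebraMap k K A.det := (RingHom.map_det (algebraMap k K) A).symm
  have hinj : Function.Injective A'.mulVecLin := Matrix.mulVec_injective_iff_isUnit.mpr
    ((Matrix.isUnit_iff_isUnit_det _).mpr (isUnit_iff_ne_zero.mpr (by
      rw [hdet]; exact (map_ne_zero _).mpr hA)))
  let g := LinearEquiv.ofInjectiveEndo A'.mulVecLin hinj
  have hg : FunFld.hcol τ H φ' = fun j => g (FunFld.hcol τ H φ j) := by
    funext j i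
    show _ = (A'.mulVec (FunFld.hcol τ H φ j)) i
    simp only [Matrix.mulVec, dotProduct, A', Matrix.map_apply]
    rcases j with _ | j
    · show τ (φ' i) = _
      rw [hφ', map_sum]
      exact Finset.sum_congr rfl fun l _ => by rw [map_smul, Algebra.smul_def]; rfl
    · show LocRes.hasseD H j (φ' i) = _
      rw [hφ', LocRes.hasseD_apply, map_sum, map_sum]
      refine Finset.sum_congr rfl fun l _ => ?_
      rw [map_smul, ← IsScalarTower.algebraMap_smul K (A i l) (H (φ l)), map_smul, smul_eq_mul]
      rfl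
  refine ⟨fun J => FFLib.isOrders_congr (fun j => ?_) J, fun I => ?_⟩
  · rw [hg]
    exact FFLib.isJump_map g _ _
  · rw [← hdet, ← Matrix.det_mul]
    congr 1
    ext i l
    rw [FFLib.wrMat_eq, FFLib.wrMat_eq]
    exact congrFun (congrFun hg (FFLib.jumpIdx I l)) i

end Groth.Agent.S12596
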