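import Groth.Statements.S12597
import Groth.Agent.FFLib.SV.Orders

set_option autoImplicit false
open Groth.Agent
open FunFld

namespace Groth.Agent.S12597

/-- Over an algebraically closed constant field, multiplying a projective map `φ = (φ₀, …, φₙ)` by a
nonzero function `y` does not change its `τ`-order sequence `J`, and multiplies the Wronskian `det
[τ(φ) | D^(j₁) φ | ⋯ | D^(jₙ) φ]` taken at that sequence by `τ(y) yⁿ`. -/
theorem result
    (k K : Type*) [Field k] [IsAlgClosed k] [Field K] [Algebra k K]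
    (hK : FunFld.IsFunctionField k K) {n : ℕ} (φ : Fin (n + 1) → K) (hφ : LinearIndependent k φ)
    (τ : K →ₐ[k] K) (s : K) (H : K →ₐ[k] PowerSeries K) (hH : LocRes.IsHasseFamily s H) (y : K) (hy : y ≠ 0) :
    (∀ J : Fin n → ℕ, FunFld.IsOrders K (FunFld.hcol τ H (y • φ)) J ↔ FunFld.IsOrders K (FunFld.hcol τ H φ) J) ∧
    ∀ J : Fin n → ℕ, FunFld.IsOrders K (FunFld.hcol τ H φ) J →
      (FunFld.wrMat τ H (y • φ) J).det = τ y * y ^ n * (FunFld.wrMat τ H φ J).det := by
  have htri := FFLib.smul_triangular (φ := φ) τ (y := y) hH.2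
  have hd : ∀ j : ℕ, (if j = 0 then τ y else y) ≠ 0 := fun j => by
    split
    · exact (map_ne_zero τ).mpr hy
    · exact hy
  refine ⟨fun J => FFLib.isOrders_congr (fun j => (FFLib.jumps_of_triangular _ hd htri).2 _) J,
    fun J hJ => ?_⟩
  rw [FFLib.wrMat_eq, FFLib.wrMat_eq,
    FFLib.det_triangular_cols hJ (FFLib.hcol_zero_ne hφ τ H) _ htri, Fin.prod_univ_succ]
  simp

end Groth.Agent.S12597
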