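import Groth.Statements.S12598
import Groth.Agent.FFLib.SV.Orders

set_option autoImplicit false
open Groth.Agent
open FunFld

namespace Groth.Agent.S12598

/-- Over an algebraically closed constant field, the `τ`-order sequence `J = (j₁, …, jₙ)` of a
projective map `φ` does not depend on the separating variable used for the Hasse derivatives, and
the Wronskians with respect to `t` and to `s` differ by the factor `(ds/dt)^(j₁ + ⋯ + jₙ)`, where
`ds/dt` is the first Hasse derivative of `s` with respect to `t`. -/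
theorem result
    (k K : Type*) [Field k] [IsAlgClosed k] [Field K] [Algebra k K]
    (hK : FunFld.IsFunctionField k K) {n : ℕ} (φ : Fin (n + 1) → K) (hφ : LinearIndependent k φ)
    (τ : K →ₐ[k] K) (s : K) (Hs : K →ₐ[k] PowerSeries K) (hHs : LocRes.IsHasseFamily s Hs)
    (t : K) (Ht : K →ₐ[k] PowerSeries K) (hHt : LocRes.IsHasseFamily t Ht) :
    (∀ J : Fin n → ℕ, FunFld.IsOrders K (FunFld.hcol τ Ht φ) J ↔ FunFld.IsOrders K (FunFld.hcol τ Hs φ) J) ∧
    ∀ J : Fin n → ℕ, FunFld.IsOrders K (FunFld.hcol τ Hs φ) J →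
      (FunFld.wrMat τ Ht φ J).det =
        LocRes.hasseD Ht 1 s ^ (∑ l, J l) * (FunFld.wrMat τ Hs φ J).det := by
  have htri := FFLib.change_triangular hK (φ := φ) τ hHs hHt
  have h0 := FFLib.hasseD_one_ne_zero hK hHs hHt
  refine ⟨fun J => FFLib.isOrders_congr
    (fun j => (FFLib.jumps_of_triangular _ (fun i => pow_ne_zero _ h0) htri).2 _) J, fun J hJ => ?_⟩
  rw [FFLib.wrMat_eq, FFLib.wrMat_eq,
    FFLib.det_triangular_cols hJ (FFLib.hcol_zero_ne hφ τ Hs) _ htri, Fin.prod_univ_succ,
    ← Finset.prod_pow_eq_pow_sum]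
  simp

end Groth.Agent.S12598
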