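import Groth.Statements.S12602
import Groth.Agent.S12595
import Groth.Agent.FFLib.SV.Orders

set_option autoImplicit false
open Groth.Agent
open FunFld

namespace Groth.Agent.S12602

/-- Over an algebraically closed constant field, for a birational projective map `φ = (φ₀, …, φₙ)`, `n ≥
1`, with orders `j₁ < ⋯ < jₙ`, and `τ ≠ 1`, the `τ`-orders of `φ` are `(0, j₁, …, j_{m-1}, j_{m+1},
…, jₙ)` for some `m`: the jump indices of `[τ(φ) | D^(0) φ | D^(1) φ | ⋯]` after the leading column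
are `0` and the `jₗ` with `l ≠ m`. -/
theorem result
    (k K : Type*) [Field k] [IsAlgClosed k] [Field K] [Algebra k K]
    (hK : FunFld.IsFunctionField k K) {n : ℕ} (hn : 0 < n) (φ : Fin (n + 1) → K) (hφ : LinearIndependent k φ)
    (h0 : φ 0 ≠ 0) (hbir : IntermediateField.adjoin k (Set.range fun i => φ i / φ 0) = ⊤)
    (τ : K →ₐ[k] K) (hτ : τ ≠ AlgHom.id k K) (s : K) (H : K →ₐ[k] PowerSeries K) (hH : LocRes.IsHasseFamily s H)
    (J : Fin n → ℕ) (hJ : FunFld.IsOrders K (FunFld.hcol (AlgHom.id k K) H φ) J) :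
    ∃ m : Fin n, ∀ j : ℕ,
      FunFld.IsJump K (FunFld.hcol τ H φ) (j + 1) ↔ (j = 0 ∨ ∃ l, l ≠ m ∧ J l = j) := by
  classical
  let D : ℕ → (Fin (n + 1) → K) := fun j i => LocRes.hasseD H j (φ i)
  let v : Fin (n + 1) → K := fun i => τ (φ i)
  let W : ℕ → Submodule K (Fin (n + 1) → K) := fun j => Submodule.span K (D '' Set.Iio j)
  have hD0 : D 0 = φ := funext fun i => by
    show LocRes.hasseD H 0 (φ i) = φ i
    rw [LocRes.hasseD_apply, PowerSeries.coeff_zero_eq_constantCoeff, hH.2]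
  have hW : ∀ {a b : ℕ}, a ≤ b → W a ≤ W b := fun hab =>
    Submodule.span_mono (Set.image_mono (Set.Iio_subset_Iio hab))
  have himg : ∀ (σ : K →ₐ[k] K) (j : ℕ),
      FunFld.IsJump K (FunFld.hcol σ H φ) (j + 1) ↔ D j ∉ (K ∙ fun i => σ (φ i)) ⊔ W j := by
    intro σ j
    show D j ∉ Submodule.span K (FunFld.hcol σ H φ '' Set.Iio (j + 1)) ↔ _
    rw [← Submodule.span_insert]
    have : FunFld.hcol σ H φ '' Set.Iio (j + 1) = insert (fun i => σ (φ i)) (D '' Set.Iio j) := by
      ext x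
      simp only [Set.mem_image, Set.mem_Iio, Set.mem_insert_iff]
      constructor
      · rintro ⟨a, ha, rfl⟩
        rcases a with _ | a
        · exact Or.inl rfl
        · exact Or.inr ⟨a, by omega, rfl⟩
      · rintro (rfl | ⟨a, ha, rfl⟩)
        · exact ⟨0, by omega, rfl⟩
        · exact ⟨a + 1, by omega, rfl⟩
    rw [this]
  have hone : FunFld.IsJump K (FunFld.hcol τ H φ) 1 := by
    by_contra h
    exact hτ ((S12595.result k K hK φ h0 hbir τ s H hH).mp h)
  have hid : ∀ j, 1 ≤ j → (FunFld.IsJump K (FunFld.hcol (AlgHom.id k K) H φ) (j + 1) ↔ D j ∉ W j) := by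
    intro j hj
    rw [himg, sup_eq_right.mpr]
    rw [Submodule.span_singleton_le_iff_mem]
    exact Submodule.subset_span ⟨0, Set.mem_Iio.mpr hj, hD0⟩
  have hex : ∃ N, v ∈ W N := by
    have hmem : v ∈ Submodule.span K (Set.range D) := by
      rw [show Set.range D = Set.range fun j => fun i => LocRes.hasseD H j (φ i) from rfl,
        FFLib.span_hasse_eq_top hK hφ hH]
      trivial
    have hu : Set.range D = ⋃ N, D '' Set.Iio N := by
      ext x
      simp only [Set.mem_range, Set.mem_iUnion, Set.mem_image, Set.mem_Iio]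
      exact ⟨fun ⟨a, ha⟩ => ⟨a + 1, a, Nat.lt_succ_self a, ha⟩, fun ⟨_, a, _, ha⟩ => ⟨a, ha⟩⟩
    rw [hu, Submodule.span_iUnion] at hmem
    exact (Submodule.mem_iSup_of_directed _ (Monotone.directed_le (f := W) fun a b => hW)).mp hmem
  have hv0 : v ≠ 0 := FFLib.hcol_zero_ne hφ τ H
  obtain ⟨p, hp⟩ : ∃ p, Nat.find hex = p + 1 := by
    refine ⟨Nat.find hex - 1, (Nat.sub_add_cancel (Nat.one_le_iff_ne_zero.mpr fun h => hv0 ?_)).symm⟩
    have := Nat.find_spec hex
    rw [h] at this
    simpa [W] using this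
  have hv : v ∈ W (p + 1) := hp ▸ Nat.find_spec hex
  have hvp : v ∉ W p := Nat.find_min hex (by omega)
  have hvb : ∃ b : K, b ≠ 0 ∧ v - b • D p ∈ W p := by
    have h := hv
    have hI : Set.Iio (p + 1) = insert p (Set.Iio p) := by ext x; simp
    simp only [W, hI, Set.image_insert_eq, Submodule.mem_span_insert] at h
    obtain ⟨b, w, hw, he⟩ := h
    refine ⟨b, ?_, ?_⟩
    · rintro rfl
      rw [zero_smul, zero_add] at he
      exact hvp (he ▸ hw)
    · rw [he, add_sub_cancel_left]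
      exact hw
  have hp1 : 1 ≤ p := by
    rcases Nat.eq_zero_or_pos p with rfl | h
    · exfalso
      obtain ⟨b, hb, hbw⟩ := hvb
      have hz : v = b • D 0 := sub_eq_zero.mp (by simpa [W] using hbw)
      refine (himg τ 0).mp hone (Submodule.mem_sup_left (Submodule.mem_span_singleton.mpr ⟨b⁻¹, ?_⟩))
      show b⁻¹ • v = D 0
      rw [hz, smul_smul, inv_mul_cancel₀ hb, one_smul]
    · exact h
  have hDp : D p ∉ W p := fun h => by
    obtain ⟨b, -, hbw⟩ := hvb
    exact hvp (by simpa using Submodule.add_mem _ hbw (Submodule.smul_mem _ b h))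
  obtain ⟨m, hm⟩ := (hJ.2 p).mpr ((hid p hp1).mpr hDp)
  refine ⟨m, fun j => ?_⟩
  rcases Nat.eq_zero_or_pos j with rfl | hj
  · simpa using hone
  rw [himg]
  constructor
  · intro h
    right
    obtain ⟨l, hl⟩ := (hJ.2 j).mpr ((hid j hj).mpr fun hh => h (Submodule.mem_sup_right hh))
    refine ⟨l, ?_, hl⟩
    rintro rfl
    have hjp : j = p := hl.symm.trans hm
    subst hjp
    obtain ⟨b, hb, hbw⟩ := hvb
    refine h ?_
    rw [← Submodule.smul_mem_iff _ hb, ← sub_sub_cancel v (b • D j)]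
    exact Submodule.sub_mem _ (Submodule.mem_sup_left (Submodule.mem_span_singleton_self _))
      (Submodule.mem_sup_right hbw)
  · rintro (rfl | ⟨l, hlm, hl⟩) h
    · omega
    have hDj : D j ∉ W j := (hid j hj).mp ((hJ.2 j).mp ⟨l, hl⟩)
    have hjp : j ≠ p := fun e => hlm (hJ.1.injective (hl.trans (e.trans hm.symm)))
    obtain ⟨a, ha, w, hw, he⟩ := Submodule.mem_sup.mp h
    obtain ⟨c, rfl⟩ := Submodule.mem_span_singleton.mp ha
    rcases eq_or_ne c 0 with rfl | hc
    · rw [zero_smul, zero_add] at he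
      exact hDj (he ▸ hw)
    rcases lt_or_gt_of_ne hjp with hlt | hgt
    · refine hvp (hW (show j + 1 ≤ p by omega) ?_)
      rw [← Submodule.smul_mem_iff _ hc, show c • v = D j - w from eq_sub_of_add_eq he]
      exact Submodule.sub_mem _ (Submodule.subset_span ⟨j, Nat.lt_succ_self j, rfl⟩) (hW (Nat.le_succ j) hw)
    · refine hDj (he ▸ Submodule.add_mem _ (Submodule.smul_mem _ _ ?_) hw)
      exact hW (show p + 1 ≤ j by omega) hv

end Groth.Agent.S12602
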