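import Groth.Statements.S12607
import Groth.Agent.FFLib.SV.OrdersAt

set_option autoImplicit false
open Groth.Agent
open FunFld

namespace Groth.Agent.S12607

/-- Over an algebraically closed constant field, let `φ = (φ₀, …, φₙ)` be an effective projective map
normalized at the place `P`, `t` a local parameter at `P` and `j'₁ < ⋯ < j'ₙ` the orders of `φ` at
`P`, `j'₀ = 0`. Then the span of `φ` has a basis `φ'₀, …, φ'ₙ` with `φ'ₗ = t^(j'ₗ) · (1 + higher
order terms)` at `P`; in particular `j` is one of the `j'ₗ` exactly when some function in the span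
of `φ` has order `j` at `P`. -/
theorem result
    (k K : Type*) [Field k] [IsAlgClosed k] [Field K] [Algebra k K]
    (hK : FunFld.IsFunctionField k K) (P : FunFld.Place k K) {n : ℕ} (φ : Fin (n + 1) → K) (hφ : LinearIndependent k φ)
    (heff : (1 : K) ∈ Submodule.span k (Set.range φ)) (hnorm : ∀ i, P.1 (φ i) ≤ 1)
    (t : K) (ht : P.1 t = WithZero.exp (-1))
    (Ht : K →ₐ[k] PowerSeries K) (hHt : LocRes.IsHasseFamily t Ht)
    (J' : Fin n → ℕ) (hJ' : FunFld.IsOrders (IsLocalRing.ResidueField P.O) (FunFld.hcolAt P Ht φ) J') :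
    (∃ φ' : Fin (n + 1) → K,
      Submodule.span k (Set.range φ') = Submodule.span k (Set.range φ) ∧
      P.1 (φ' 0) = 1 ∧ FunFld.evalP P (φ' 0) = 1 ∧
      ∀ l : Fin n, P.1 (φ' l.succ) = WithZero.exp (-(J' l : ℤ)) ∧
        FunFld.evalP P (φ' l.succ / t ^ J' l) = 1) ∧
    ∀ j : ℕ, (j = 0 ∨ j ∈ Set.range J') ↔
      ∃ f ∈ Submodule.span k (Set.range φ), P.1 f = WithZero.exp (-(j : ℤ)) := by
  obtain ⟨ψ, hψ, hψt⟩ := FFLib.exists_expansion' hK P ht
  have hJk := (FFLib.isOrdersAt_iff hψ hnorm hK hψt hHt J').mp hJ'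
  refine ⟨?_, fun j => FFLib.mem_orders_iff hψ hnorm hJk heff j⟩
  obtain ⟨φ', A, hli, hspan, -, -, h0, hle, hl⟩ := FFLib.exists_adapted hψ hnorm hJk hφ heff
  have hone : FunFld.evalP P (1 : K) = 1 := by
    rw [FunFld.evalP, dif_pos (map_one P.1).le]
    exact map_one (IsLocalRing.residue P.O)
  refine ⟨φ', hspan, by rw [h0, map_one], by rw [h0, hone], fun l => ⟨(hl l).1, ?_⟩⟩
  have ht0 : t ≠ 0 := fun e => by rw [e, map_zero] at ht; exact WithZero.exp_ne_zero ht.symm
  have hq : P.1 (φ' l.succ / t ^ J' l) = 1 := by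
    rw [map_div₀, map_pow, ht, (hl l).1, ← WithZero.exp_nsmul, nsmul_eq_mul, mul_neg, mul_one,
      div_self WithZero.exp_ne_zero]
  rw [FFLib.evalP_eq hK hψ hq.le]
  have htp : P.1 (t ^ J' l) ≤ 1 := by
    rw [map_pow]
    refine pow_le_one₀ zero_le' ?_
    rw [ht, ← WithZero.exp_zero, WithZero.exp_le_exp]
    norm_num
  have h2 := FFLib.ps_mul hψ htp hq.le
  rw [mul_div_cancel₀ _ (pow_ne_zero _ ht0)] at h2
  have h3 := (hl l).2
  have hps : FFLib.ps ψ (t ^ J' l) = PowerSeries.X ^ J' l := FFLib.ps_eq_of_coe (by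
    rw [map_pow, hψt, map_pow, PowerSeries.coe_X])
  rw [h2, hps, PowerSeries.coeff_X_pow_mul', if_pos le_rfl, Nat.sub_self] at h3
  rw [h3, map_one]

end Groth.Agent.S12607
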