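import Groth.Statements.S12608
import Groth.Agent.FFLib.SV.DetVal

set_option autoImplicit false
open Groth.Agent
open FunFld

namespace Groth.Agent.S12608

/-- Over an algebraically closed constant field, let `φ = (φ₀, …, φₙ)` be an effective projective map
normalized at the place `P`, `t` a local parameter at `P`, `j₁, …, jₙ` the orders of `φ` and `j'₁,
…, j'ₙ` the orders of `φ` at `P`. Then `jₗ ≤ j'ₗ` for all `l`, and the following are equivalent: all
`j'ₗ = jₗ`; the Wronskian `w_t(φ)` does not vanish at `P`; the Weierstrass divisor `W(φ)` has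
coefficient `0` at `P` (the divisor of `dt` in it read through a family of Laurent expansions). -/
theorem result
    (k K : Type*) [Field k] [IsAlgClosed k] [Field K] [Algebra k K]
    (hK : FunFld.IsFunctionField k K) (P : FunFld.Place k K) {n : ℕ} (φ : Fin (n + 1) → K) (hφ : LinearIndependent k φ)
    (heff : (1 : K) ∈ Submodule.span k (Set.range φ)) (hnorm : ∀ i, P.1 (φ i) ≤ 1)
    (t : K) (ht : P.1 t = WithZero.exp (-1))
    (Ht : K →ₐ[k] PowerSeries K) (hHt : LocRes.IsHasseFamily t Ht)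
    (J : Fin n → ℕ) (hJ : FunFld.IsOrders K (FunFld.hcol (AlgHom.id k K) Ht φ) J)
    (J' : Fin n → ℕ) (hJ' : FunFld.IsOrders (IsLocalRing.ResidueField P.O) (FunFld.hcolAt P Ht φ) J')
    (Φ : FunFld.Place k K → (K →ₐ[k] LaurentSeries k))
    (hΦ : ∀ P : FunFld.Place k K, LocRes.IsExpansionAt P.1 (Φ P)) :
    (∀ l, J l ≤ J' l) ∧
    ((∀ l, J' l = J l) ↔ FunFld.evalP P (FunFld.wrMat (AlgHom.id k K) Ht φ J).det ≠ 0) ∧
    ((∀ l, J' l = J l) ↔ FunFld.wDiv (AlgHom.id k K) Ht Φ t φ J P = 0) := by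
  obtain ⟨ψ, hψ, hψt⟩ := FFLib.exists_expansion' hK P ht
  have hJk := (FFLib.isOrdersAt_iff hψ hnorm hK hψt hHt J').mp hJ'
  have hfix : FunFld.IsFixedPt (AlgHom.id k K) P := fun z hz => hz
  have hent : ∀ (I : Fin n → ℕ) i l, P.1 (FunFld.wrMat (AlgHom.id k K) Ht φ I i l) ≤ 1 := by
    intro I i l
    induction l using Fin.cases with
    | zero => exact hnorm i
    | succ l => exact (FFLib.hasseD_spec hK hψ hψt hHt (hnorm i) _).1
  have hres : ∀ I : Fin n → ℕ, P.1 (FunFld.wrMat (AlgHom.id k K) Ht φ I).det ≤ 1 ∧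
      PowerSeries.coeff 0 (FFLib.ps ψ (FunFld.wrMat (AlgHom.id k K) Ht φ I).det) =
        (Matrix.of fun i l => FFLib.pcol ψ φ (FFLib.jumpIdx I l) i).det := by
    intro I
    let g : PowerSeries k →+* LaurentSeries k := HahnSeries.ofPowerSeries ℤ k
    let M : Matrix (Fin (n + 1)) (Fin (n + 1)) (PowerSeries k) :=
      Matrix.of fun i l => FFLib.ps ψ (FunFld.wrMat (AlgHom.id k K) Ht φ I i l)
    have hy : ψ (FunFld.wrMat (AlgHom.id k K) Ht φ I).det = g M.det := by
      rw [RingHom.map_det g M, AlgHom.map_det]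
      congr 1
      ext1 i l
      exact (FFLib.coe_ps hψ (hent I i l)).symm
    refine ⟨?_, ?_⟩
    · rw [← hψ.1, hy]
      exact (LaurentSeries.val_le_one_iff_eq_coe k _).mpr ⟨_, rfl⟩
    · rw [FFLib.ps_eq_of_coe hy, PowerSeries.coeff_zero_eq_constantCoeff, RingHom.map_det]
      congr 1
      ext i l
      simp only [M, RingHom.mapMatrix_apply, Matrix.map_apply, Matrix.of_apply]
      rw [← PowerSeries.coeff_zero_eq_constantCoeff_apply]
      induction l using Fin.cases with
      | zero => rfl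
      | succ l =>
        show PowerSeries.coeff 0 (FFLib.ps ψ (LocRes.hasseD Ht (I l) (φ i))) = PowerSeries.coeff (I l) (FFLib.ps ψ (φ i))
        rw [(FFLib.hasseD_spec hK hψ hψt hHt (hnorm i) _).2, FFLib.coeff_psHasse, zero_add,
          Nat.choose_self, Nat.cast_one, one_mul]
  have h0 : FFLib.pcol ψ φ 0 ≠ 0 := FFLib.ccol_zero_ne hψ heff
  have hliJ' : PowerSeries.coeff 0 (FFLib.ps ψ (FunFld.wrMat (AlgHom.id k K) Ht φ J').det) ≠ 0 := by
    rw [(hres J').2]
    exact (FFLib.det_cols_ne_zero_iff _).mpr (FFLib.linearIndependent_jumpIdx hJk h0)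
  have hle : ∀ l, J l ≤ J' l := FFLib.orders_le_of_det hφ _ hJ hJk.1 fun hd => hliJ' (by
    rw [hd]; simp [FFLib.coeff_ps])
  have hiff : (∀ l, J' l = J l) ↔ FunFld.evalP P (FunFld.wrMat (AlgHom.id k K) Ht φ J).det ≠ 0 := by
    rw [FFLib.evalP_eq hK hψ (hres J).1, ne_eq, map_eq_zero, ← ne_eq]
    constructor
    · intro h
      rwa [show J = J' from (funext h).symm]
    · intro h l
      refine le_antisymm ?_ (hle l)
      rw [(hres J).2] at h
      exact FFLib.isOrders_le hJk h0 hJ.1 ((FFLib.det_cols_ne_zero_iff _).mp h) l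
  refine ⟨hle, hiff, hiff.trans ?_⟩
  rw [FFLib.wDiv_apply_fixed hK hfix hψ ht hnorm heff J hΦ]
  have hd0 := FFLib.det_wrMat_ne_zero hφ (AlgHom.id k K) hJ
  rw [FFLib.evalP_eq hK hψ (hres J).1, ne_eq, map_eq_zero]
  have hiv := FFLib.val_eq_iff_coeff hψ (hres J).1 0
  rw [FFLib.val_eq_exp P hd0] at hiv
  simp only [Nat.not_lt_zero, false_implies, implies_true, true_and, Nat.cast_zero,
    WithZero.exp_inj, neg_inj] at hiv
  exact hiv.symm

end Groth.Agent.S12608
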