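import Groth.Statements.S12610
import Groth.Agent.S12595
import Groth.Agent.FFLib.SV.WDiv

set_option autoImplicit false
open Groth.Agent
open FunFld

namespace Groth.Agent.S12610

/-- Over an algebraically closed constant field, for a birational projective map `φ`, a `k`-endomorphism
`τ ≠ 1` and a place `P` fixed by `τ`, the place `P` is a Weierstrass point of `φ` with respect to
`τ`: the Weierstrass divisor `W(φ, τ) = [w_s(φ, τ)] + [τ(φ)] + n[φ] + j(φ, τ)[ds]` has positive
coefficient at `P` (the divisor of `ds` read through a family of Laurent expansions). -/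
theorem result
    (k K : Type*) [Field k] [IsAlgClosed k] [Field K] [Algebra k K]
    (hK : FunFld.IsFunctionField k K) {n : ℕ} (φ : Fin (n + 1) → K) (hφ : LinearIndependent k φ)
    (h0 : φ 0 ≠ 0) (hbir : IntermediateField.adjoin k (Set.range fun i => φ i / φ 0) = ⊤)
    (τ : K →ₐ[k] K) (hτ : τ ≠ AlgHom.id k K) (P : FunFld.Place k K) (hP : FunFld.IsFixedPt τ P)
    (s : K) (H : K →ₐ[k] PowerSeries K) (hH : LocRes.IsHasseFamily s H)
    (J : Fin n → ℕ) (hJ : FunFld.IsOrders K (FunFld.hcol τ H φ) J)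
    (Φ : FunFld.Place k K → (K →ₐ[k] LaurentSeries k))
    (hΦ : ∀ P : FunFld.Place k K, LocRes.IsExpansionAt P.1 (Φ P)) :
    0 < FunFld.wDiv τ H Φ s φ J P := by
  classical
  obtain ⟨y, t, Ht, hy, ht, hHt, -, heff, hint, hmap⟩ := FFLib.exists_normalized hK hφ P
  obtain ⟨ψ, hψ, hψt⟩ := FFLib.exists_expansion' hK P ht
  have hJy := (FFLib.orders_invariant hK τ hH hHt hy J).mpr hJ
  rw [← FFLib.wDiv_smul_change hK hφ τ hH hHt hy hΦ hJ,
    FFLib.wDiv_apply_fixed hK hP hψ ht hint heff J hΦ]
  have hd0 := FFLib.det_wrMat_ne_zero (FFLib.li_smul hφ hy) τ hJy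
  obtain ⟨l, hl⟩ : ∃ l, J l = 0 := by
    have h1 : FunFld.IsJump K (FunFld.hcol τ H φ) 1 := by
      by_contra h
      exact hτ ((S12595.result k K hK φ h0 hbir τ s H hH).mp h)
    exact (hJ.2 0).mpr h1
  have hent : ∀ i c, P.1 (FunFld.wrMat τ Ht (y • φ) J i c) ≤ 1 := fun i c => by
    induction c using Fin.cases with
    | zero => exact (FFLib.fixed_ps_zero hK hP hψ (hint i)).1
    | succ c => exact (FFLib.hasseD_spec hK hψ hψt hHt (hint i) _).1
  set M := FunFld.wrMat τ Ht (y • φ) J with hM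
  have hcol : ∀ i, P.1 (M i 0 - M i l.succ) < 1 := fun i => by
    have e : M i l.succ = (y • φ) i := by
      show LocRes.hasseD Ht (J l) ((y • φ) i) = _
      rw [hl, LocRes.hasseD_apply, PowerSeries.coeff_zero_eq_constantCoeff, hHt.2]
    rw [e, show M i 0 = τ ((y • φ) i) from rfl]
    obtain ⟨c, hc⟩ := FFLib.exists_value hK.1 (FFLib.deg_eq_one hK.1 P) (hint i)
    rw [show τ ((y • φ) i) - (y • φ) i =
      τ ((y • φ) i - algebraMap k K c) - ((y • φ) i - algebraMap k K c) by
        rw [map_sub, τ.commutes]; ring]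
    exact (P.1.map_sub _ _).trans_lt (max_lt (hP _ hc) hc)
  have hlt : P.1 M.det < 1 := by
    rw [← Matrix.det_updateCol_add_smul_self M (Fin.succ_ne_zero l).symm (-1 : K), Matrix.det_succ_column_zero]
    refine P.1.map_sum_lt one_ne_zero fun i _ => ?_
    rw [map_mul, map_mul]
    set M' := M.updateCol 0 fun m => M m 0 + (-1 : K) • M m l.succ with hM'
    have h1 : P.1 ((-1 : K) ^ (i : ℕ)) ≤ 1 := le_of_eq (by rw [map_pow, P.1.map_neg, map_one, one_pow])
    have h2 : P.1 (M'.submatrix i.succAbove Fin.succ).det ≤ 1 := by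
      rw [Matrix.det_apply']
      refine P.1.map_sum_le fun σ _ => ?_
      rw [map_mul, map_prod]
      refine mul_le_one' ?_ (Finset.prod_le_one' fun a _ => ?_)
      · rcases Int.units_eq_one_or (Equiv.Perm.sign σ) with h | h <;> simp [h]
      · simp only [Matrix.submatrix_apply, hM']
        rw [Matrix.updateCol_ne (Fin.succ_ne_zero _)]
        exact hent _ _
    have h3 : P.1 (M' i 0) < 1 := by
      rw [hM', Matrix.updateCol_self]
      simpa [sub_eq_add_neg] using hcol i
    exact lt_of_le_of_lt (mul_le_mul' (mul_le_mul' h1 le_rfl) h2) (by rw [one_mul, mul_one]; exact h3)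
  exact (FFLib.val_lt_one_iff P hd0).mp hlt

end Groth.Agent.S12610
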