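import Groth.Statements.S12611
import Groth.Agent.FFLib.SV.Classical

set_option autoImplicit false
open Groth.Agent
open FunFld

namespace Groth.Agent.S12611

/-- Over an algebraically closed constant field of characteristic `0` or greater than `deg φ`, a
birational projective map `φ = (φ₀, …, φₙ)` is classical: its orders are `(1, 2, …, n)`, and for a
`k`-endomorphism `τ ≠ 1` its `τ`-orders are `(0, 1, …, n-1)`. (The published statement has no
fixed-point hypothesis for `τ ≠ 1` and is false without one: on a smooth plane cubic in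
characteristic `0`, pulling back along multiplication by `-2` gives `τ`-orders `(0, 2)`. This row
assumes `τ` has a strong fixed point — a place whose maximal ideal `τ` maps into its square — which
is what the proof uses, through the equality criterion for Wronskian orders at such a point.) -/
theorem result
    (k K : Type*) [Field k] [IsAlgClosed k] [Field K] [Algebra k K]
    (hK : FunFld.IsFunctionField k K) {n : ℕ} (φ : Fin (n + 1) → K) (hφ : LinearIndependent k φ)
    (h0 : φ 0 ≠ 0) (hbir : IntermediateField.adjoin k (Set.range fun i => φ i / φ 0) = ⊤)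
    (hchar : ringChar k = 0 ∨ (FunFld.mapDiv k φ).deg < ringChar k)
    (τ : K →ₐ[k] K) (s : K) (H : K →ₐ[k] PowerSeries K) (hH : LocRes.IsHasseFamily s H) :
    (τ = AlgHom.id k K → FunFld.IsOrders K (FunFld.hcol τ H φ) (fun l : Fin n => (l : ℕ) + 1)) ∧
    (τ ≠ AlgHom.id k K → (∃ P : FunFld.Place k K, FunFld.IsStrongFixedPt τ P) →
      FunFld.IsOrders K (FunFld.hcol τ H φ) (fun l : Fin n => (l : ℕ))) := by
  classical
  set d := (FunFld.mapDiv k φ).deg
  have setup : ∀ P : FunFld.Place k K, ∀ (I : Fin n → ℕ), StrictMono I →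
      ∀ J : Fin n → ℕ, FunFld.IsOrders K (FunFld.hcol τ H φ) J →
      (∀ J' : Fin n → ℕ, StrictMono J' → (∀ l, 1 ≤ J' l) → (∀ l, (J' l : ℤ) ≤ d) →
        (FunFld.binomMat k J' I).det ≠ 0) →
      FunFld.IsFixedPt τ P → ((∀ l, 0 < I l) ∨ FunFld.IsStrongFixedPt τ P) → ∀ l, J l ≤ I l := by
    intro P I hI J hJ hbin hfix hcase
    obtain ⟨y, t, Ht, hy, ht, hHt, -, heff, hint, hmap⟩ := FFLib.exists_normalized hK hφ P
    obtain ⟨ψ, hψ, hψt⟩ := FFLib.exists_expansion' hK P ht
    have hli := FFLib.li_smul hφ hy
    have hspan : Submodule.span k (Set.range (FFLib.pcol ψ (y • φ))) = ⊤ :=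
      top_le_iff.mp ((FFLib.span_cols_eq_top (FFLib.linearIndependent_coeff hψ hli hint)).ge.trans
        (FFLib.span_range_pcol ψ (y • φ)))
    obtain ⟨J', hJ'⟩ := FFLib.exists_isOrders (R := k) (n := n) (Module.finrank_fin_fun k) hspan
      (FFLib.ccol_zero_ne hψ heff)
    have hd : (FunFld.mapDiv k (y • φ)).deg = d := by
      rw [FFLib.mapDiv_smul hK hφ.ne_zero hy, FFLib.Divisor.deg_sub, FFLib.deg_div hK.1, sub_zero]
    have hb := hbin J' hJ'.1 (fun l => FFLib.orderAt_pos hJ' l)
      (fun l => hd ▸ FFLib.orderAt_le_deg hK hli heff hint hmap hψ hJ' l)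
    have hval := ((FFLib.val_det_wrMat hK hfix hψ ht hint hψt hHt hJ' hli heff I).2 hcase).mpr hb
    exact FFLib.orders_le_of_det hli τ ((FFLib.orders_invariant hK τ hH hHt hy J).mpr hJ) hI fun h0' => by
      rw [h0', map_zero] at hval
      exact WithZero.exp_ne_zero hval.symm
  obtain ⟨J, hJ⟩ := FFLib.exists_orders hK hφ τ hH
  have hge : ∀ l : Fin n, (l : ℕ) ≤ J l := fun l => by
    obtain ⟨m, hm⟩ := l
    induction m with
    | zero => exact Nat.zero_le _
    | succ m ih =>
      exact Nat.succ_le_of_lt (lt_of_le_of_lt (ih (Nat.lt_of_succ_lt hm)) (hJ.1 (Fin.mk_lt_mk.mpr m.lt_succ_self)))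
  refine ⟨fun hτ => ?_, fun hτ ⟨P, hP⟩ => ?_⟩
  · obtain ⟨P⟩ := FFLib.exists_place hK.1
    have hle := setup P (fun l => (l : ℕ) + 1) (fun a b h => Nat.succ_lt_succ h) J hJ (fun J' hJ'm hJ'1 hJ'd => by
        let v : Fin (n + 1) → ℕ := Fin.cases 0 J'
        have hinj : Function.Injective fun i => (v i : k) := by
          intro a b hab
          have hle : ∀ c, (v c : ℤ) ≤ d ∨ v c = 0 := fun c => by
            induction c using Fin.cases with
            | zero => exact Or.inr rfl
            | succ c => exact Or.inl (hJ'd c)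
          have hv : v a = v b := by
            rcases Nat.eq_zero_or_pos n with rfl | hn
            · exact congrArg v (Subsingleton.elim (α := Fin 1) a b)
            have hd0 : (0 : ℤ) ≤ d := (Int.natCast_nonneg _).trans (hJ'd ⟨0, hn⟩)
            refine FFLib.natCast_injOn hchar ?_ ?_ hab
            · rcases hle a with h | h <;> omega
            · rcases hle b with h | h <;> omega
          induction a using Fin.cases with
          | zero =>
            induction b using Fin.cases with
            | zero => rfl
            | succ b => exact absurd hv.symm (Nat.one_le_iff_ne_zero.mp (hJ'1 b))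
          | succ a =>
            induction b using Fin.cases with
            | zero => exact absurd hv (Nat.one_le_iff_ne_zero.mp (hJ'1 a))
            | succ b => exact congrArg Fin.succ (hJ'm.injective hv)
        have h := FFLib.det_choose_ne_zero v hinj
        rw [Matrix.det_succ_row_zero, Fin.sum_univ_succ, Finset.sum_eq_zero (fun c _ => by simp [v]),
          add_zero] at h
        simp only [Matrix.of_apply, v, Fin.cases_zero, Fin.val_zero, pow_zero, one_mul, Nat.choose_self,
          Nat.cast_one, Fin.succAbove_zero] at h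
        convert h using 2
        ext r c
        rfl) (fun z hz => by rw [hτ]; exact hz) (Or.inl fun l => Nat.succ_pos _)
    have hJ1 : ∀ l, 1 ≤ J l := fun l => by
      by_contra hl
      have hj := (hJ.2 (J l)).mp ⟨l, rfl⟩
      rw [Nat.eq_zero_of_not_pos hl] at hj
      refine hj (Submodule.subset_span ⟨0, Set.mem_Iio.mpr Nat.one_pos, funext fun i => ?_⟩)
      show τ (φ i) = LocRes.hasseD H 0 (φ i)
      rw [hτ, LocRes.hasseD_apply, PowerSeries.coeff_zero_eq_constantCoeff, hH.2]
      rfl
    have hge1 : ∀ l : Fin n, (l : ℕ) + 1 ≤ J l := fun l => by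
      obtain ⟨m, hm⟩ := l
      induction m with
      | zero => exact hJ1 _
      | succ m ih =>
        exact Nat.succ_le_of_lt (lt_of_le_of_lt (ih (Nat.lt_of_succ_lt hm)) (hJ.1 (Fin.mk_lt_mk.mpr m.lt_succ_self)))
    rwa [show (fun l : Fin n => (l : ℕ) + 1) = J from funext fun l => le_antisymm (hge1 l) (hle l)]
  · have hle := setup P (fun l => (l : ℕ)) (fun a b h => h) J hJ (fun J' hJ'm _ hJ'd =>
        FFLib.det_choose_ne_zero J' fun a b hab =>
          hJ'm.injective (FFLib.natCast_injOn hchar (hJ'd a) (hJ'd b) hab))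
      (fun z hz => (hP z hz).trans_lt (by rw [← WithZero.exp_zero, WithZero.exp_lt_exp]; norm_num))
      (Or.inr hP)
    rwa [show (fun l : Fin n => (l : ℕ)) = J from funext fun l => le_antisymm (hge l) (hle l)]

end Groth.Agent.S12611
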