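import Groth.Statements.S12614
import Groth.Agent.FFLib.SV.WDiv

set_option autoImplicit false
open Groth.Agent
open FunFld

namespace Groth.Agent.S12614

/-- Over an algebraically closed constant field, the Weierstrass divisor `W_s(φ, τ) = [w_s(φ, τ)] +
[τ(φ)] + n[φ] + j(φ, τ)[ds]` does not depend on the separating variable `s` and does not change when
`φ` is replaced by an equivalent map `y · Aφ` (`A` invertible over `k`, `y ≠ 0`). Divisors of
differentials are read through a fixed family of Laurent expansions. -/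
theorem result
    (k K : Type*) [Field k] [IsAlgClosed k] [Field K] [Algebra k K]
    (hK : FunFld.IsFunctionField k K) {n : ℕ} (φ : Fin (n + 1) → K) (hφ : LinearIndependent k φ)
    (τ : K →ₐ[k] K) (s : K) (Hs : K →ₐ[k] PowerSeries K) (hHs : LocRes.IsHasseFamily s Hs)
    (t : K) (Ht : K →ₐ[k] PowerSeries K) (hHt : LocRes.IsHasseFamily t Ht)
    (J : Fin n → ℕ) (hJ : FunFld.IsOrders K (FunFld.hcol τ Hs φ) J)
    (A : Matrix (Fin (n + 1)) (Fin (n + 1)) k) (hA : A.det ≠ 0) (y : K) (hy : y ≠ 0)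
    (φ' : Fin (n + 1) → K) (hφ' : ∀ i, φ' i = y * ∑ j, A i j • φ j)
    (Φ : FunFld.Place k K → (K →ₐ[k] LaurentSeries k))
    (hΦ : ∀ P : FunFld.Place k K, LocRes.IsExpansionAt P.1 (Φ P)) :
    FunFld.wDiv τ Ht Φ t φ' J = FunFld.wDiv τ Hs Φ s φ J := by
  set ψ : Fin (n + 1) → K := fun i => ∑ j, A i j • φ j with hψ
  have hne : ∀ i, φ i ≠ 0 := hφ.ne_zero
  have hψli : LinearIndependent k ψ := by
    rw [Fintype.linearIndependent_iff]
    intro g hg i
    have h0 : ∑ j, (∑ l, g l * A l j) • φ j = 0 := by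
      rw [← hg]
      simp only [hψ, Finset.smul_sum, smul_smul, Finset.sum_smul]
      exact Finset.sum_comm
    have hv : Matrix.vecMul g A = 0 := funext (Fintype.linearIndependent_iff.mp hφ _ h0)
    exact congrFun (Matrix.eq_zero_of_vecMul_eq_zero hA hv) i
  have e : φ' = y • ψ := funext fun i => hφ' i
  have hmat : ∀ I : Fin n → ℕ, (FunFld.wrMat τ Hs ψ I).det =
      algebraMap k K A.det * (FunFld.wrMat τ Hs φ I).det := fun I => by
    rw [FFLib.wrMat_linear τ Hs (fun i => rfl : ∀ i, ψ i = ∑ l, A i l • φ l) I, Matrix.det_mul]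
    exact congrArg (· * _) (RingHom.map_det _ A).symm
  have hJψ : FunFld.IsOrders K (FunFld.hcol τ Hs ψ) J := by
    obtain ⟨J₁, hJ₁⟩ := FFLib.exists_orders hK hψli τ hHs
    have h1 : ∀ l, J₁ l ≤ J l := FFLib.orders_le_of_det hψli τ hJ₁ hJ.1 (by
      rw [hmat]
      exact mul_ne_zero ((map_ne_zero _).mpr hA) (FFLib.det_wrMat_ne_zero hφ τ hJ))
    have h2 : ∀ l, J l ≤ J₁ l := FFLib.orders_le_of_det hφ τ hJ hJ₁.1 fun h0 =>
      FFLib.det_wrMat_ne_zero hψli τ hJ₁ (by rw [hmat, h0, mul_zero])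
    rwa [show J = J₁ from funext fun l => le_antisymm (h2 l) (h1 l)]
  rw [e, FFLib.wDiv_smul_change hK hψli τ hHs hHt hy hΦ hJψ]
  ext P
  simp only [FunFld.wDiv, hmat]
  rw [FFLib.mapDiv_linear hK hne hψli.ne_zero hA (fun i => rfl),
    FFLib.mapDiv_linear hK (φ := τ ∘ φ) (φ' := τ ∘ ψ) (fun i => (map_ne_zero τ).mpr (hne i))
      (fun i => (map_ne_zero τ).mpr (hψli.ne_zero i)) hA (fun i => by
        simp only [Function.comp_apply, hψ, map_sum, map_smul])]
  simp only [Finsupp.add_apply, FFLib.div_apply hK.1]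
  rw [FFLib.ord_mul P ((map_ne_zero _).mpr hA) (FFLib.det_wrMat_ne_zero hφ τ hJ), FFLib.ord_algebraMap,
    zero_add]

end Groth.Agent.S12614
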