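import Groth.Statements.S12617
import Groth.Agent.FFLib.SV.OrdersAt

set_option autoImplicit false
open Groth.Agent
open FunFld

namespace Groth.Agent.S12617

/-- Over an algebraically closed constant field, if the effective projective map `φ = (φ₀, …, φₙ)`, `n ≥
1`, normalized at `P`, is nonsingular at `P`, then its first order at `P` is `1`. -/
theorem result
    (k K : Type*) [Field k] [IsAlgClosed k] [Field K] [Algebra k K]
    (hK : FunFld.IsFunctionField k K) (P : FunFld.Place k K) {n : ℕ} (hn : 0 < n) (φ : Fin (n + 1) → K)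
    (hφ : LinearIndependent k φ)
    (heff : (1 : K) ∈ Submodule.span k (Set.range φ)) (hnorm : ∀ i, P.1 (φ i) ≤ 1) (hns : FunFld.IsNonsingularAt φ P)
    (t : K) (ht : P.1 t = WithZero.exp (-1))
    (Ht : K →ₐ[k] PowerSeries K) (hHt : LocRes.IsHasseFamily t Ht)
    (J' : Fin n → ℕ) (hJ' : FunFld.IsOrders (IsLocalRing.ResidueField P.O) (FunFld.hcolAt P Ht φ) J') :
    J' ⟨0, hn⟩ = 1 := by
  obtain ⟨ψ, hψ, hψt⟩ := FFLib.exists_expansion' hK P ht
  have hJk := (FFLib.isOrdersAt_iff hψ hnorm hK hψt hHt J').mp hJ'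
  suffices h : FunFld.IsJump k (FFLib.ccol ψ φ) 1 by
    obtain ⟨l, hl⟩ := (hJk.2 1).mpr ((FFLib.isJump_pcol_succ ψ φ 1).mpr ⟨one_ne_zero, h⟩)
    have h1 := FFLib.orderAt_pos hJk ⟨0, hn⟩
    have h2 : J' ⟨0, hn⟩ ≤ J' l := hJk.1.monotone (Fin.mk_le_of_le_val (Nat.zero_le _))
    omega
  by_contra hnj
  have hmem : FFLib.ccol ψ φ 1 ∈ Submodule.span k (FFLib.ccol ψ φ '' Set.Iio 1) := not_not.mp hnj
  rw [show Set.Iio 1 = ({0} : Set ℕ) by ext x; simp, Set.image_singleton,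
    Submodule.mem_span_singleton] at hmem
  obtain ⟨a, ha⟩ := hmem
  obtain ⟨j, hj0, hmin, u, hu, w, hw, hw1, he⟩ :=
    hns t (by rw [ht, ← WithZero.exp_zero, WithZero.exp_le_exp]; norm_num)
  have hcj : PowerSeries.coeff 0 (FFLib.ps ψ (φ j)) ≠ 0 := by
    intro hc
    refine FFLib.ccol_zero_ne hψ heff (funext fun i => ?_)
    have h1 := (FFLib.val_le_iff_coeff hψ (hnorm j) 1).mpr fun i hi => by
      rwa [Nat.lt_one_iff.mp hi]
    exact (FFLib.val_le_iff_coeff hψ (hnorm i) 1).mp ((hmin i).trans h1) 0 one_pos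
  have key : ∀ x ∈ Algebra.adjoin k (Set.range fun i => φ i / φ j),
      P.1 x ≤ 1 ∧ PowerSeries.coeff 1 (FFLib.ps ψ x) = 0 := by
    intro x hx
    induction hx using Algebra.adjoin_induction with
    | mem z hz =>
      obtain ⟨i, rfl⟩ := hz
      have hr : P.1 (φ i / φ j) ≤ 1 := by
        rw [map_div₀, div_le_one₀ (zero_lt_iff.mpr (FFLib.val_ne_zero P hj0))]; exact hmin i
      refine ⟨hr, ?_⟩
      show PowerSeries.coeff 1 (FFLib.ps ψ (φ i / φ j)) = 0
      have h := FFLib.ps_mul hψ hr (hnorm j)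
      rw [div_mul_cancel₀ _ hj0] at h
      have hi0 := congrArg (PowerSeries.coeff 0) h
      have hi1 := congrArg (PowerSeries.coeff 1) h
      have ai : a * PowerSeries.coeff 0 (FFLib.ps ψ (φ i)) = PowerSeries.coeff 1 (FFLib.ps ψ (φ i)) :=
        congrFun ha i
      have aj : a * PowerSeries.coeff 0 (FFLib.ps ψ (φ j)) = PowerSeries.coeff 1 (FFLib.ps ψ (φ j)) :=
        congrFun ha j
      rw [PowerSeries.coeff_one_mul] at hi1
      simp only [PowerSeries.coeff_zero_eq_constantCoeff, map_mul] at hi0 hi1 ai aj hcj ⊢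
      refine (mul_eq_zero.mp ?_).resolve_right hcj
      linear_combination PowerSeries.constantCoeff (FFLib.ps ψ (φ i / φ j)) * aj - hi1 - ai + a * hi0
    | algebraMap c =>
      refine ⟨P.2.1 c, ?_⟩
      rw [FFLib.ps_algebraMap hψ, PowerSeries.coeff_C, if_neg one_ne_zero]
    | add x y _ _ hx hy =>
      refine ⟨(P.1.map_add x y).trans (max_le hx.1 hy.1), ?_⟩
      rw [FFLib.ps_add, map_add, hx.2, hy.2, add_zero]
    | mul x y _ _ hx hy =>
      refine ⟨by rw [map_mul]; exact mul_le_one' hx.1 hy.1, ?_⟩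
      rw [FFLib.ps_mul hψ hx.1 hy.1, PowerSeries.coeff_one_mul, hx.2, hy.2, zero_mul, zero_mul, add_zero]
  obtain ⟨hu1, hu2⟩ := key u hu
  have huv : P.1 u = WithZero.exp (-((1 : ℕ) : ℤ)) := by
    rw [← he, map_mul, hw1, mul_one, ht]; rfl
  exact ((FFLib.val_eq_iff_coeff hψ hu1 1).mp huv).2 hu2

end Groth.Agent.S12617
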