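import Groth.Statements.S12620
import Groth.Agent.LocResLib.Pow
-- import your own Groth.Agent.* helpers here

set_option autoImplicit false
universe u v w
open LocRes

namespace Groth.Agent.S12620

/-- Let `K` be a field with a valuation `w` into `ℤ ∪ {0}` and `φ : K → F((X))` a `k`-algebra expansion
at `w` in a local parameter (valuation-compatible, valuation ring onto the coefficient field `F`,
`w` normalised). Then for every nonzero `f` the residue of the logarithmic differential `f⁻¹ df`
read through `φ` — the `X⁻¹`-coefficient of `φ(f)⁻¹ · (φ f)′` — is the order of `f` at `w` (the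
integer `n` with `w f = exp (-n)`), viewed in `F`. (The published statement is for a complete field
with a perfect coefficient field and its intrinsic residue; read through an expansion neither
completeness nor perfectness plays a role.) -/
theorem result {k : Type u} {K : Type v} {F : Type w} [CommRing k] [Field K] [Field F]
    [Algebra k K] [Algebra k F]
    (w : Valuation K (WithZero (Multiplicative ℤ))) (φ : K →ₐ[k] LaurentSeries F)
    (hφ : LocRes.IsExpansionAt w φ) (f : K) (hf : f ≠ 0) :
    LocRes.resExp φ f⁻¹ f = ((-WithZero.log (w f) : ℤ) : F) := by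
  have hz : φ f ≠ 0 := (map_ne_zero φ).2 hf
  rw [LocRes.resExp, map_inv₀, ← zpow_neg_one, show (-1 : ℤ) = 0 - 1 by norm_num,
    Groth.Agent.LocResLib.res_zpow_mul_D _ hz 0, if_pos rfl, ← hφ.1 f,
    ← (φ f).single_order_mul_powerSeriesPart, map_mul, LaurentSeries.valuation_single_zpow]
  have hp : Valued.v (((φ f).powerSeriesPart : LaurentSeries F)) = (1 : WithZero (Multiplicative ℤ)) := by
    obtain ⟨U, hU⟩ : IsUnit (φ f).powerSeriesPart := PowerSeries.isUnit_iff_constantCoeff.2 (by
      rw [← PowerSeries.coeff_zero_eq_constantCoeff_apply, LaurentSeries.powerSeriesPart_coeff,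
        Nat.cast_zero, add_zero, isUnit_iff_ne_zero]
      exact mt HahnSeries.coeff_order_eq_zero.1 hz)
    have h1 := (LaurentSeries.val_le_one_iff_eq_coe F _).2 ⟨(U : PowerSeries F), rfl⟩
    have h2 := (LaurentSeries.val_le_one_iff_eq_coe F _).2 ⟨((U⁻¹ : (PowerSeries F)ˣ) : PowerSeries F), rfl⟩
    rw [← hU]
    refine le_antisymm h1 ?_
    calc (1 : WithZero (Multiplicative ℤ))
        = Valued.v ((U : PowerSeries F) : LaurentSeries F) *
            Valued.v (((U⁻¹ : (PowerSeries F)ˣ) : PowerSeries F) : LaurentSeries F) := by
          rw [← map_mul, ← PowerSeries.coe_mul, Units.mul_inv, PowerSeries.coe_one, map_one]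
      _ ≤ Valued.v ((U : PowerSeries F) : LaurentSeries F) := mul_le_of_le_one_right' h2
  rw [hp, mul_one, WithZero.log_exp, neg_neg, (φ f).single_order_mul_powerSeriesPart]

end Groth.Agent.S12620
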