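import Groth.Statements.S12627
import Groth.Agent.AVTors.TanEtale
import Groth.Agent.H23.EquidimFibres
-- import your own Groth.Agent.* helpers here

set_option autoImplicit false
universe u
open CategoryTheory CategoryTheory.Limits MonoidalCategory CartesianMonoidalCategory MonObj GrpObj AlgebraicGeometry
open AbVar

namespace Groth.Agent.S12627

set_option linter.style.haveILetI false
set_option backward.isDefEq.respectTransparency false
set_option backward.isDefEq.respectTransparency.types false
set_option maxHeartbeats 1000000

/-- Let `k` be an algebraically closed field and `E₁`, `E₂` elliptic curves over `k`, i.e. group schemes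
over `Spec k` whose underlying schemes are proper, smooth, integral and one-dimensional. If `φ, φ' :
E₁ → E₂` are homomorphisms with `φ` finite, surjective and étale (a separable isogeny) and `φ'` not
étale (the zero homomorphism or an inseparable isogeny), then their sum under the group law of `E₂`
— the composite of `(φ, φ')` with the multiplication of `E₂` — is finite, surjective and étale, i.e.
again a separable isogeny. (The published statement is for arbitrary morphisms `φ, φ'` and takes
`φ'` inseparable; this row takes homomorphisms, the case its proof treats — a morphism of elliptic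
curves is a homomorphism followed by a translation, which changes neither the hypotheses nor the
conclusion — and allows `φ'` to be the zero map, that case being immediate.) -/
theorem result (k : Type u) [Field k] [IsAlgClosed k]
    (E₁ E₂ : Over (Spec (CommRingCat.of k)))
    [GrpObj E₁] [IsProper E₁.hom] [Smooth E₁.hom] [IsIntegral E₁.left] (hE₁ : topologicalKrullDim E₁.left = 1)
    [GrpObj E₂] [IsProper E₂.hom] [Smooth E₂.hom] [IsIntegral E₂.left] (hE₂ : topologicalKrullDim E₂.left = 1)
    (φ φ' : E₁ ⟶ E₂) [IsMonHom φ] [IsMonHom φ'] [IsFinite φ.left] [Surjective φ.left] [Etale φ.left]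
    (hφ' : ¬ Etale φ'.left) :
    IsFinite (φ * φ').left ∧ Surjective (φ * φ').left ∧ Etale (φ * φ').left := by
  haveI : GeometricallyIntegral E₁.hom := Groth.Agent.H23.EquidimFibres.geometricallyIntegral_of_isAlgClosed
  haveI : GeometricallyIntegral E₂.hom := Groth.Agent.H23.EquidimFibres.geometricallyIntegral_of_isAlgClosed
  haveI : IsCommMonObj E₂ := isCommMonObj_of_isProper_of_geometricallyIntegral E₂
  haveI : IsLocallyNoetherian E₂.left := LocallyOfFiniteType.isLocallyNoetherian E₂.hom
  have hdim : topologicalKrullDim E₁.left = topologicalKrullDim E₂.left := hE₁.trans hE₂.symm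
  have key : ∀ (ψ : E₁ ⟶ E₂) [IsMonHom ψ], FormallyUnramified ψ.left →
      IsFinite ψ.left ∧ Surjective ψ.left ∧ Etale ψ.left := by
    intro ψ _ hu
    haveI : LocallyOfFiniteType ψ.left := Groth.Agent.AVTors.locallyOfFiniteType_left ψ
    haveI : IsProper ψ.left := by
      haveI : IsProper (ψ.left ≫ E₂.hom) := by rw [Over.w]; infer_instance
      exact IsProper.of_comp ψ.left E₂.hom
    haveI : LocallyQuasiFinite ψ.left := by
      rw [HasRingHomProperty.iff_appLE (P := @LocallyQuasiFinite)]
      intro U V e
      letI := (ψ.left.appLE U.1 V.1 e).hom.toAlgebra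
      haveI : Algebra.FormallyUnramified _ _ := ψ.left.formallyUnramified_appLE U.2 V.2 e
      haveI : Algebra.FiniteType _ _ := ψ.left.finiteType_appLE U.2 V.2 e
      exact (inferInstance : Algebra.QuasiFinite Γ(E₂.left, U.1) Γ(E₁.left, V.1))
    haveI hfin : IsFinite ψ.left := IsFinite.of_isProper_of_locallyQuasiFinite ψ.left
    haveI hsurj : Surjective ψ.left :=
      Groth.Agent.H23.Isogeny.surjective_of_isFinite E₁.hom E₂.hom ψ.left (Over.w ψ) hdim
    haveI : Flat ψ.left := Groth.Agent.GrpSchLib.flat_of_surjective_hom ψ
    haveI : LocallyOfFinitePresentation ψ.left := inferInstance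
    exact ⟨hfin, hsurj, Etale.of_formallyUnramified_of_flat _⟩
  haveI : IsMonHom (φ * φ') :=
    { one_hom := by
        rw [MonObj.comp_mul, IsMonHom.one_hom φ, IsMonHom.one_hom φ']
        have : η[E₂] = 1 := by rw [Hom.one_def, toUnit_unique (toUnit (𝟙_ _)) (𝟙 _), Category.id_comp]
        rw [this, _root_.one_mul]
      mul_hom := by
        have h1 : ∀ {E : Over (Spec (CommRingCat.of k))} [GrpObj E], μ[E] = fst E E * snd E E := fun {E} _ => by
          rw [Hom.mul_def, lift_fst_snd, Category.id_comp]
        rw [h1, h1]
        simp only [MonObj.comp_mul, MonObj.mul_comp, tensorHom_fst, tensorHom_snd]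
        exact mul_mul_mul_comm _ _ _ _ }
  refine key (φ * φ') ?_
  refine Groth.Agent.AVTors.formallyUnramified_of_tangent (φ * φ') fun t ht h => ?_
  haveI : LocallyOfFiniteType φ.left := Groth.Agent.AVTors.locallyOfFiniteType_left φ
  refine Groth.Agent.AVTors.eq_one_of_formallyUnramified φ t ht ?_
  have hkill : t ≫ φ' = 1 := by
    by_contra hne'
    refine hφ' (key φ' (Groth.Agent.AVTors.formallyUnramified_of_tangent φ' fun s hs hsφ => ?_)).2.2
    by_contra hs1
    exact hne' (Groth.Agent.AVTors.kills_tangents hE₁ φ' s hs hs1 hsφ t ht)
  rw [MonObj.comp_mul, hkill, _root_.mul_one] at h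
  exact h

end Groth.Agent.S12627
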