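import Groth.Statements.S1263
import Groth.Agent.RG.NearFT
-- import your own Groth.Agent.* helpers here

set_option autoImplicit false
universe u
open FlatMor

namespace Groth.Agent.S1263

set_option backward.isDefEq.respectTransparency false in
/-- Ring form, X = Spec S and S = Spec R affine: let S be a finite type R-algebra and q a prime of S
over p with S_q flat over R. Then there is an étale R-algebra R' with a prime p' over p having the
same residue field such that, writing A for the local ring of R' at p' and S_A for the base change
(any model): some g ∈ S_A outside every prime over both q and the maximal ideal of A has (S_A)_g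
flat and of finite presentation over A. -/
theorem result {R S : Type u} [CommRing R] [CommRing S] [Algebra R S] [Algebra.FiniteType R S]
    (p : Ideal R) [p.IsPrime] (q : Ideal S) [q.IsPrime] [q.LiesOver p] (hflat : Module.Flat R (Localization.AtPrime q)) :
    ∃ (R' : Type u) (_ : CommRing R') (_ : Algebra R R') (p' : Ideal R') (_ : p'.IsPrime), FlatCA.IsEtaleNhd R R' p p' ∧
      ∀ (SA : Type u) [CommRing SA] [Algebra R SA] [Algebra S SA] [Algebra (Localization.AtPrime p') SA]
        [IsScalarTower R S SA] [IsScalarTower R (Localization.AtPrime p') SA]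
        [Algebra.IsPushout R S (Localization.AtPrime p') SA],
        ∃ g : SA, (∀ (Q : Ideal SA) [Q.IsPrime], Q.LiesOver q → Q.LiesOver (IsLocalRing.maximalIdeal (Localization.AtPrime p')) → g ∉ Q) ∧
          Module.Flat (Localization.AtPrime p') (Localization.Away g) ∧
          Algebra.FinitePresentation (Localization.AtPrime p') (Localization.Away g) := by
  obtain ⟨n, φ, hφ⟩ := Algebra.FiniteType.iff_quotient_mvPolynomial''.1 ‹Algebra.FiniteType R S›
  letI : Algebra (MvPolynomial (Fin n) R) S := φ.toRingHom.toAlgebra
  haveI : IsScalarTower R (MvPolynomial (Fin n) R) S := IsScalarTower.of_algebraMap_eq' φ.comp_algebraMap.symm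
  have hflat' : FlatCA.FlatAt R q S := Module.Flat.of_linearEquiv
    ((IsLocalizedModule.iso q.primeCompl (Algebra.linearMap S (Localization.AtPrime q))).restrictScalars R)
  obtain ⟨R', _, _, p', _, hR', H⟩ := Groth.Agent.RG.near_presentation (P := MvPolynomial (Fin n) R) hφ S p q hflat'
  refine ⟨R', inferInstance, inferInstance, p', inferInstance, hR', ?_⟩
  intro SA _ _ _ _ _ _ _
  obtain ⟨PA, _, _, aPA, _, mPA, tPA, g, hP, hs, hg, hfp, hfl⟩ := H SA SA (Algebra.linearMap S SA)
    (IsBaseChange.of_equiv (TensorProduct.AlgebraTensorModule.rid S SA SA) fun s => by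
      rw [TensorProduct.AlgebraTensorModule.rid_tmul, Algebra.smul_def, mul_one]; rfl)
  haveI := hP
  have e := (IsLocalizedModule.iso (Submonoid.powers (algebraMap PA SA g))
    (Algebra.linearMap SA (Localization.Away (algebraMap PA SA g)))).symm.restrictScalars (Localization.AtPrime p')
  haveI := hfl
  refine ⟨algebraMap PA SA g, hg, Module.Flat.of_linearEquiv e, ?_⟩
  have hT : mPA = Algebra.toModule := by
    refine Module.ext' _ _ fun a x => ?_
    have h := tPA.smul_assoc a (1 : SA) x
    rw [one_smul] at h
    refine h.symm.trans ?_
    rw [smul_eq_mul, Algebra.smul_def, mul_one, Algebra.smul_def]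
  subst hT
  exact Groth.Agent.RG.finitePresentation_away hs g hfp

end Groth.Agent.S1263
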