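import Groth.Statements.S12631
import Groth.Agent.FFLib.Res.Regular

set_option autoImplicit false
open Groth.Agent
universe u v w
open FunFld

namespace Groth.Agent.S12631

/-- Let `K/k` be a geometric function field of one variable of genus one all of whose places carry a
Laurent expansion over `k` in a local parameter (so every place is separable), and `v ∈ K` with `dv
≠ 0`. Then there is a nonzero `u ∈ K` whose differential `u dv` has divisor zero — the order of
`φ_P(u) · (φ_P v)′` is `0` at every place `P` — and such a `u` is unique up to a factor from `k`.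
(The published statement concerns elliptic curves over algebraically closed fields; this row is the
form for any constant field under the stated separability of all places.) -/
theorem result (k : Type u) (K : Type v) [Field k] [Field K] [Algebra k K]
    (hK : FunFld.IsFunctionField k K) (hg : FunFld.IsGeometric k K) (h1 : FunFld.genus k K = 1)
    (F : FunFld.Place k K → Type w) [∀ P, Field (F P)] [∀ P, Algebra k (F P)] [∀ P, FiniteDimensional k (F P)]
    (φ : ∀ P, K →ₐ[k] LaurentSeries (F P)) (hφ : ∀ P, LocRes.IsExpansionAt P.1 (φ P))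
    (v : K) (hv : KaehlerDifferential.D k K v ≠ 0) :
    (∃ u : K, u ≠ 0 ∧ ∀ P, LocRes.vDiff (φ P) u v = 1) ∧
      ∀ u u' : K, u ≠ 0 → (∀ P, LocRes.vDiff (φ P) u v = 1) → (∀ P, LocRes.vDiff (φ P) u' v = 1) →
        ∃ c : k, u' = c • u := by
  obtain ⟨C, hC, hCd, hset⟩ := FFLib.exists_canonical_of_D_ne hK hg F φ hφ hv
  have hd : C.deg = 0 := by rw [FFLib.deg_canonical hK hC, h1]; norm_num
  have hl : FunFld.ell C = 1 := by rw [FFLib.ell_canonical hK hC, h1]
  obtain ⟨z, hz, hzC⟩ := FFLib.exists_div_of_deg_zero hK.1 hd (by omega)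
  have hval : ∀ P, P.1 z = WithZero.exp (C P) := fun P => by
    rw [FFLib.val_eq_exp P hz]
    congr 1
    have := DFunLike.congr_fun hzC P
    rw [Finsupp.add_apply, FFLib.div_apply hK.1, Finsupp.zero_apply] at this
    omega
  have hone : ∀ (P : FunFld.Place k K) (u : K), LocRes.vDiff (φ P) u v = 1 ↔ P.1 u = WithZero.exp (C P) := fun P u => by
    rw [FFLib.vDiff_eq hK hg F φ hφ hv, ← hCd, WithZero.exp_neg, mul_inv_eq_one₀ WithZero.exp_ne_zero]
  refine ⟨⟨z, hz, fun P => (hone P z).mpr (hval P)⟩, fun u u' hu h h' => ?_⟩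
  have hmem : ∀ {w : K}, (∀ P, LocRes.vDiff (φ P) w v = 1) → w ∈ FunFld.L C :=
    fun {w} hw P => ((hone P w).mp (hw P)).le
  have hne : (⟨u, hmem h⟩ : FunFld.L C) ≠ 0 := fun e => hu (congrArg Subtype.val e)
  obtain ⟨c, hc⟩ := (finrank_eq_one_iff_of_nonzero' _ hne).mp hl ⟨u', hmem h'⟩
  exact ⟨c, (congrArg Subtype.val hc).symm⟩

end Groth.Agent.S12631
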