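import Groth.Statements.S15334
import Groth.Agent.Lib.CurveEnd
import Groth.Agent.Lib.CurveStable

set_option autoImplicit false
set_option linter.style.haveILetI false
universe u
open CategoryTheory CategoryTheory.Limits AlgebraicGeometry
open VBCurve

namespace Groth.Agent.S15334

/-- Let X be a smooth proper integral curve (integral, smooth and proper of dimension one) over an
algebraically closed field k (of any characteristic), and E a finite locally free O_X-module of rank
r ≥ 1 which is slope-semistable and slope-stable (deg G · r ≤ deg E · r' for finite locally free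
submodules G of rank r' ≥ 1, strictly when r' < r; degree = χ − rank·χ(O_X)). Then E is simple:
every endomorphism of E acts on the underlying abelian sheaf as multiplication by some scalar c ∈ k. -/
theorem result (k : Type u) [Field k] [IsAlgClosed k] (X : Scheme.{u}) [X.Over (Spec (CommRingCat.of k))]
    [IsIntegral X] [IsProper (X ↘ Spec (CommRingCat.of k))] [Smooth (X ↘ Spec (CommRingCat.of k))]
    (hdim : topologicalKrullDim X = 1)
    (r : ℕ) (hr : 0 < r) (E : X.Modules) (hE : FlatMod.IsFinLocFreeOfRank r E)
    (hEss : ModFun.IsSlopeSemistable k X E r) (hEst : ModFun.IsSlopeStable k X E r)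
    (φ : E ⟶ E) :
    ∃ c : k, (SheafOfModules.toSheaf X.ringCatSheaf).map φ =
      Coh.smulAb E (Coh.toGlobal (X ↘ Spec (CommRingCat.of k)) c) := by
  have key : ∀ f : E ⟶ E, f ≠ 0 → IsIso f := fun f hf =>
    Groth.Agent.CurveBundle.isIso_of_slopes k hdim.le r E E hE hE rfl
      (fun K I a b i j hi hj ha har hb hbr hK hI => by
        linarith [hEst K a i hi ha har hK, hEst I b j hj hb hbr hI]) f hf
  letI := Groth.Agent.CurveEnd.kAlgebra (k := k) E
  haveI : Nontrivial (End E) := ⟨⟨1, 0, fun h =>
    Groth.Agent.CurveEnd.not_isZero E r hr hE ((IsZero.iff_id_eq_zero E).mpr h)⟩⟩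
  have hu : ∀ g : End E, g ≠ 0 → IsUnit g := fun g hg => by
    haveI := key g hg
    exact (isUnit_iff_isIso g).2 inferInstance
  let φ' : End E := φ
  obtain ⟨p, hp, hpf⟩ := Groth.Agent.CurveEnd.exists_aeval_eq_zero (k := k) E r hE φ'
  have hscal : ∀ n : ℕ, ∀ p : Polynomial k, p.natDegree = n → p ≠ 0 →
      Polynomial.aeval φ' p = 0 → ∃ c : k, φ' = algebraMap k (End E) c := by
    intro n
    induction n using Nat.strong_induction_on with
    | _ n ih =>
      intro p hn hp0 hpf
      by_cases hd : p.degree = 0
      · rw [Polynomial.eq_C_of_degree_eq_zero hd, Polynomial.aeval_C] at hpf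
        refine absurd ((algebraMap k (End E)).injective (hpf.trans (map_zero _).symm)) fun h0 => hp0 ?_
        rw [Polynomial.eq_C_of_degree_eq_zero hd, h0, map_zero]
      obtain ⟨c, hc⟩ := IsAlgClosed.exists_root p hd
      obtain ⟨q, rfl⟩ := Polynomial.dvd_iff_isRoot.2 hc
      by_cases hfc : φ' - algebraMap k (End E) c = 0
      · exact ⟨c, sub_eq_zero.1 hfc⟩
      rw [map_mul, map_sub, Polynomial.aeval_X, Polynomial.aeval_C] at hpf
      refine ih _ ?_ q rfl (right_ne_zero_of_mul hp0) ((hu _ hfc).mul_right_eq_zero.1 hpf)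
      rw [← hn, Polynomial.natDegree_mul (left_ne_zero_of_mul hp0) (right_ne_zero_of_mul hp0),
        Polynomial.natDegree_X_sub_C]
      omega
  obtain ⟨c, hc⟩ := hscal _ p rfl hp.ne_zero hpf
  exact ⟨c, (congrArg (SheafOfModules.toSheaf X.ringCatSheaf).map hc).trans
    (Groth.Agent.CurveEnd.toSheaf_smulMod E _)⟩

end Groth.Agent.S15334
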