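import Groth.Statements.S1265
import Groth.Agent.MorLib.ArtinFlattening

set_option autoImplicit false
universe u
open FlatMor

namespace Groth.Agent.S1265

open scoped TensorProduct in
theorem flat_iff {A B A' B' N N' : Type u} [CommRing A] [CommRing B] [Algebra A B] [CommRing A'] [CommRing B']
    [AddCommGroup N] [Module B N] [Module A N] [IsScalarTower A B N] [Algebra A A'] [Algebra B B']
    [Algebra A' B'] [Algebra A B'] [IsScalarTower A B B'] [IsScalarTower A A' B']
    [Algebra.IsPushout A B A' B'] [AddCommGroup N'] [Module B' N'] [Module B N'] [IsScalarTower B B' N']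
    [Module A' N'] [IsScalarTower A' B' N'] (f : N →ₗ[B] N') (hf : IsBaseChange B' f) :
    Module.Flat A' N' ↔ Module.Flat A' (A' ⊗[A] N) := by
  letI : Module A N' := Module.compHom N' (algebraMap A A')
  haveI : IsScalarTower A A' N' := IsScalarTower.of_algebraMap_smul fun _ _ => rfl
  let fA : N →ₗ[A] N' :=
    { toFun := f
      map_add' := f.map_add
      map_smul' := fun a n => by
        rw [RingHom.id_apply, ← algebraMap_smul B a n, f.map_smul, ← algebraMap_smul B' (algebraMap A B a),
          ← IsScalarTower.algebraMap_apply, IsScalarTower.algebraMap_apply A A' B', algebraMap_smul,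
          algebraMap_smul] }
  let ψ : A' ⊗[A] N →ₗ[A'] N' := LinearMap.liftBaseChange A' fA
  let hpo : IsBaseChange B (IsScalarTower.toAlgHom A A' B').toLinearMap := (‹Algebra.IsPushout A B A' B'›).out
  let e₁ : N ⊗[B] B' ≃ₗ[B] N ⊗[A] A' := hpo.tensorEquiv N
  let e : A' ⊗[A] N ≃+ N' :=
    ((TensorProduct.comm A A' N).toAddEquiv.trans e₁.symm.toAddEquiv).trans
      ((TensorProduct.comm B N B').toAddEquiv.trans hf.equiv.toAddEquiv)
  have he : ∀ z, e z = ψ z := fun z => by
    induction z using TensorProduct.induction_on with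
    | zero => simp
    | add a b ha hb => simp [ha, hb]
    | tmul a n =>
      have h1 : e₁.symm (n ⊗ₜ[A] a) = n ⊗ₜ[B] algebraMap A' B' a := by
        rw [LinearEquiv.symm_apply_eq]
        simp only [e₁, IsBaseChange.tensorEquiv, LinearEquiv.trans_apply]
        erw [LinearEquiv.lTensor_tmul]
        have : hpo.equiv.symm (algebraMap A' B' a) = (1 : B) ⊗ₜ[A] a := by
          rw [LinearEquiv.symm_apply_eq, IsBaseChange.equiv_tmul, one_smul]; rfl
        rw [this]
        simp
      have h2 : e (a ⊗ₜ[A] n) = hf.equiv (TensorProduct.comm B N B' (e₁.symm (n ⊗ₜ[A] a))) := rfl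
      rw [h2, h1]
      simp [ψ, fA, IsBaseChange.equiv_tmul]
  have hbij : Function.Bijective ψ := by
    rw [show (ψ : A' ⊗[A] N → N') = e from funext fun z => (he z).symm]
    exact e.bijective
  exact (Module.Flat.equiv_iff (LinearEquiv.ofBijective ψ hbij)).symm


/-- Ring form, stated for X = Spec B affine: let A be an Artinian ring, B an A-algebra and N a B-module.
Then there is an ideal I of A such that for every A-algebra A', with B' = B ⊗_A A' and N' the base
change of N (any models), N' is flat over A' if and only if IA' = 0. -/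
theorem result {A B : Type u} [CommRing A] [IsArtinianRing A] [CommRing B] [Algebra A B]
    (N : Type u) [AddCommGroup N] [Module B N] [Module A N] [IsScalarTower A B N] :
    ∃ I : Ideal A, ∀ (A' B' N' : Type u) [CommRing A'] [CommRing B'] [Algebra A A'] [Algebra B B'] [Algebra A' B'] [Algebra A B']
      [IsScalarTower A B B'] [IsScalarTower A A' B'] [Algebra.IsPushout A B A' B']
      [AddCommGroup N'] [Module B' N'] [Module B N'] [IsScalarTower B B' N'] [Module A' N'] [IsScalarTower A' B' N']
      (f : N →ₗ[B] N'), IsBaseChange B' f →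
      (Module.Flat A' N' ↔ I.map (algebraMap A A') = ⊥) := by
  obtain ⟨I, hI⟩ := Groth.Agent.MorLib.ArtinFlat.exists_flattening A N
  exact ⟨I, by intros; exact (flat_iff (A := A) (B := B) (N := N) ‹_› ‹_›).trans (hI _)⟩

end Groth.Agent.S1265
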