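import Groth.Statements.S12659
import Groth.Agent.H23.Chern.Funct
-- import your own Groth.Agent.* helpers here

set_option autoImplicit false
universe u
open CategoryTheory CategoryTheory.Limits AlgebraicGeometry
open Cyc
open Groth.Agent Groth.Agent.H23

namespace Groth.Agent.S12659

/-- Chern class caps commute with proper pushforward: for f : X → Y proper, E finite locally free of
rank r on Y and α a k-cycle on X, f_*(c_j(f^*E) ∩ α) = c_j(E) ∩ f_*α in CH_{k-j}(Y). The caps of
f^*E are taken through the base-changed bundle P' = X ×_Y P (a cartesian square) with O_{P'}(1) the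
pullback of O_P(1) and the induced dimension function on P'; f_* is the proper pushforward of
cycles. Setting: (X, δ) with Cyc.IsSetup stands for a scheme locally of finite type over the base
(S, δ) (X locally Noetherian with universally catenary local rings, δ a dimension function); (p : P
→ X, O_P(1), q) is the projective bundle of E given by its universal property (KRR.IsProjBundle), p
is proper and δP is the induced dimension function (Cyc.DeltaCompat); a tuple γ with Cyc.IsChernCap
represents (c_0(E) ∩ α, …, c_r(E) ∩ α) through the defining relation Σ_i (-1)^i c_1(O_P(1))^i ∩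
p^*(γ_{r-i}) ∼_rat 0 on P, and classes are compared up to rational equivalence of representing
cycles. -/
theorem result (X Y : Scheme.{u}) (δX : X → ℤ) (δY : Y → ℤ) (hX : Cyc.IsSetup X δX) (hY : Cyc.IsSetup Y δY) (f : X ⟶ Y) [IsProper f] (hf : Cyc.DeltaCompat f δX δY) (r : ℕ) (E : Y.Modules) (hPE : FlatMod.IsFinLocFreeOfRank r E) (P : Scheme.{u}) (π : P ⟶ Y) (O1 : P.Modules) (q : (Scheme.Modules.pullback π).obj E ⟶ O1) (hP : KRR.IsProjBundle π E O1 q) [IsProper π] (δP : P → ℤ) (hPs : Cyc.IsSetup P δP) (hπ : Cyc.DeltaCompat π δP δY) (P' : Scheme.{u}) (π' : P' ⟶ X) (f' : P' ⟶ P) (hsq : IsPullback f' π' π f) (δP' : P' → ℤ) (hPs' : Cyc.IsSetup P' δP') (hπ' : Cyc.DeltaCompat π' δP' δX) (k : ℤ) (α : AlgebraicCycle X ℤ) (hα : α ∈ Cyc.Zk X δX k) (γ : Fin (r + 1) → AlgebraicCycle X ℤ) (hγ : Cyc.IsChernCap π' δX δP' ((Scheme.Modules.pullback f').obj O1) r k α γ) (γ' : Fin (r + 1) → AlgebraicCycle Y ℤ) (hγ' : Cyc.IsChernCap π δY δP O1 r k (AlgebraicCycle.map f δX δY α) γ') (j : Fin (r + 1)) : Cyc.RatEquiv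 δY (k - ((j : ℕ) : ℤ)) (AlgebraicCycle.map f δX δY (γ j)) (γ' j) := by  classical
  haveI := hX.1
  haveI := hY.1
  haveI := hPs.1
  haveI := hPs'.1
  haveI : IsProper π' := MorphismProperty.of_isPullback (P := @IsProper) hsq inferInstance
  rcases r with _ | n
  · obtain rfl := Subsingleton.elim (α := Fin 1) j 0
    rw [hγ.1, hγ'.1, Cyc.RatEquiv, sub_self]
    exact (ProjBd.ratZero hY.2.2 _).zero_mem
  have hc := ProjBd.hasCoords_of_projBundle hP hPE
  refine Chern.unique hc hPs.2.2 hπ hY hPs (γ := fun i => AlgebraicCycle.map f δX δY (γ i))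
    (fun i x hx => ?hmem) hγ'.2.1
    (Chern.relSum_map hsq hc hX hPs' hπ hπ' hf hPs hγ) (Chern.relSum_mem hc hPs.2.2 hπ k _ γ' hγ') ?_ j
  case hmem =>
    rw [CycLib.map_apply']
    refine finsum_mem_eq_zero_of_forall_eq_zero fun z hz => ?_
    by_contra h
    obtain ⟨h1, h2⟩ := mul_ne_zero_iff.1 h
    have h3 : δX z = δY (f z) := by
      by_contra hne
      exact h2 (by rw [AlgebraicCycle.mapCoeff, if_neg (show ¬ δX z = δY (f.base z) from hne), Nat.cast_zero])
    exact hx (by rw [← show f z = x from hz, ← h3]; exact by_contra fun he => h1 (hγ.2.1 i z he))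
  show Cyc.RatEquiv δY k (AlgebraicCycle.map f δX δY (γ 0)) (γ' 0)
  rw [hγ.1, hγ'.1, Cyc.RatEquiv, sub_self]
  exact (ProjBd.ratZero hY.2.2 _).zero_mem


end Groth.Agent.S12659
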