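import Groth.Statements.S1266
import Groth.Agent.UnivInjHensel.Model
-- import your own Groth.Agent.* helpers here

set_option autoImplicit false
universe u
open FlatMor

namespace Groth.Agent.S1266

set_option backward.isDefEq.respectTransparency false
set_option linter.style.haveILetI false


open TensorProduct in
/-- Let B be a finitely presented A-algebra, T a multiplicative subset of B, and N a finitely presented
module over the localization T⁻¹B which is flat as an A-module. Let M be a flat A-module and u an
A-linear map from N to M such that u ⊗ κ(p) is injective for every prime p of A. Then u is
universally injective over A. -/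
theorem result {A B : Type u} [CommRing A] [CommRing B] [Algebra A B] [Algebra.FinitePresentation A B]
    (T : Submonoid B) (N : Type u) [AddCommGroup N] [Module (Localization T) N] [Module A N] [IsScalarTower A (Localization T) N]
    [Module.FinitePresentation (Localization T) N] [Module.Flat A N]
    (M : Type u) [AddCommGroup M] [Module A M] [Module.Flat A M] (u : N →ₗ[A] M)
    (h : ∀ (p : Ideal A) [p.IsPrime], Function.Injective (u.lTensor p.ResidueField)) :
    FlatCA.UnivInj A u := by
  letI : Module B N := Module.compHom N (algebraMap B (Localization T))
  haveI : IsScalarTower B (Localization T) N := IsScalarTower.of_algebraMap_smul fun _ _ => rfl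
  haveI : IsScalarTower A B N := IsScalarTower.of_algebraMap_smul fun a n => by
    show algebraMap B (Localization T) (algebraMap A B a) • n = a • n
    rw [← IsScalarTower.algebraMap_apply, algebraMap_smul]
  obtain ⟨N₁, _, _, f, _, _⟩ := UnivInjHensel.exists_finite_model T N
  exact UnivInjHensel.univInj_of_mod_ideals u fun I => UnivInjHensel.injective_lTensor_of_mem I u
    fun x hx => UnivInjHensel.mem_smul_top_of_fibres T N₁ N f u h I x hx

end Groth.Agent.S1266
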