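import Groth.Statements.S12663
import Groth.Agent.H23.Chern.WhitneyLine
-- import your own Groth.Agent.* helpers here

set_option autoImplicit false
universe u
open CategoryTheory CategoryTheory.Limits AlgebraicGeometry
open Cyc
open Groth.Agent Groth.Agent.H23

namespace Groth.Agent.S12663

/-- If E, F are finite locally free of ranks m + 1, m on X sitting in a short exact sequence 0 → O_X → E
→ F → 0, then c_{m+1}(E) = 0 and c_j(E) = c_j(F) for j = 0, …, m, as cap operations: for every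
k-cycle α, c_{m+1}(E) ∩ α ∼_rat 0 and c_j(E) ∩ α ∼_rat c_j(F) ∩ α. Setting: (X, δ) with Cyc.IsSetup
stands for a scheme locally of finite type over the base (S, δ) (X locally Noetherian with
universally catenary local rings, δ a dimension function); (p : P → X, O_P(1), q) is the projective
bundle of E given by its universal property (KRR.IsProjBundle), p is proper and δP is the induced
dimension function (Cyc.DeltaCompat); a tuple γ with Cyc.IsChernCap represents (c_0(E) ∩ α, …,
c_r(E) ∩ α) through the defining relation Σ_i (-1)^i c_1(O_P(1))^i ∩ p^*(γ_{r-i}) ∼_rat 0 on P, and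
classes are compared up to rational equivalence of representing cycles. -/
theorem result (X : Scheme.{u}) (δ : X → ℤ) (hX : Cyc.IsSetup X δ) (m : ℕ) (E : X.Modules) (hPE : FlatMod.IsFinLocFreeOfRank (m + 1) E) (P : Scheme.{u}) (p : P ⟶ X) (O1 : P.Modules) (q : (Scheme.Modules.pullback p).obj E ⟶ O1) (hP : KRR.IsProjBundle p E O1 q) [IsProper p] (δP : P → ℤ) (hPs : Cyc.IsSetup P δP) (hδ : Cyc.DeltaCompat p δP δ) (F : X.Modules) (hQE : FlatMod.IsFinLocFreeOfRank m F) (Q : Scheme.{u}) (p' : Q ⟶ X) (O1' : Q.Modules) (q' : (Scheme.Modules.pullback p').obj F ⟶ O1') (hQ : KRR.IsProjBundle p' F O1' q') [IsProper p'] (δQ : Q → ℤ) (hQs : Cyc.IsSetup Q δQ) (hδ' : Cyc.DeltaCompat p' δQ δ) (a : Coh.structureModule X ⟶ E) (b : E ⟶ F) (hab : a ≫ b = 0) (hex : (ShortComplex.mk a b hab).ShortExact) (k : ℤ) (α : AlgebraicCycle X ℤ) (hα : α ∈ Cyc.Zk X δ k) (γ : Fin (m + 2) → AlgebraicCycle X ℤ) (hγ : Cyc.IsChernCap p δ δP O1 (m + 1) k α γ) (γ' : Fin (m + 1) → AlgebraicCycle X ℤ) (hγ'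 : Cyc.IsChernCap p' δ δQ O1' m k α γ') : Cyc.RatEquivZero δ (k - ((m : ℤ) + 1)) (γ (Fin.last (m + 1))) ∧ ∀ j : Fin (m + 1), Cyc.RatEquiv δ (k - ((j : ℕ) : ℤ)) (γ (Fin.castSucc j)) (γ' j) := by  classical
  haveI := hX.1
  have hr : m + 1 = 1 + m := Nat.add_comm _ _
  have hγC := Chern.isC_of hX hPE hP hδ hγ
  have hγ'C := Chern.isC_of hX hQE hQ hδ' hγ'
  have hζ : ∀ j, ⇑((fun _ => 0 : Fin (m + 1) → AlgebraicCycle X ℤ) j) =
      Cyc.c1CapFun δ (Coh.structureModule X) ⇑(γ' j) C1Desc.oneSec := fun j => funext fun x => by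
    refine Eq.symm (finsum_eq_zero_of_forall_eq_zero fun ξ => ?_)
    rw [C1Desc.secDivFun_one hX.2.2, mul_zero]
  have key := Chern.whitney_line hX InvX.isInvertible_structureModule hex hr hPE hQE hα hγC hγ'C C1Desc.oneSec_ne_zero hζ
  refine ⟨?_, fun j => ?_⟩
  · have h := key (Fin.last (m + 1))
    rw [dif_neg (show ¬ ((Fin.last (m + 1) : Fin (m + 2)) : ℕ) < m + 1 by simp), zero_add,
      Finset.sum_eq_zero fun c _ => ite_self 0, Cyc.RatEquiv, sub_zero] at h
    simpa using h
  · have h := key (Fin.castSucc j)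
    rw [dif_pos (show ((Fin.castSucc j : Fin (m + 2)) : ℕ) < m + 1 by simpa using Fin.is_le j),
      Finset.sum_eq_zero fun c _ => ite_self 0, add_zero] at h
    exact h


end Groth.Agent.S12663
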