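import Groth.Statements.S12665
import Groth.Agent.H23.Chern.Whitney
-- import your own Groth.Agent.* helpers here

set_option autoImplicit false
universe u
open CategoryTheory CategoryTheory.Limits AlgebraicGeometry
open Cyc
open Groth.Agent Groth.Agent.H23

namespace Groth.Agent.S12665

/-- For a short exact sequence 0 → E₁ → E → E₂ → 0 of finite locally free modules of ranks r₁, r₁ + r₂,
r₂ on X, c(E) = c(E₁) c(E₂), that is c_j(E) ∩ α ∼_rat Σ_{a+b=j} c_a(E₁) ∩ (c_b(E₂) ∩ α) for every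
k-cycle α and every j; the inner caps are represented by a tuple for E₂ over α and, for each of its
components, a tuple for E₁ over it. Setting: (X, δ) with Cyc.IsSetup stands for a scheme locally of
finite type over the base (S, δ) (X locally Noetherian with universally catenary local rings, δ a
dimension function); (p : P → X, O_P(1), q) is the projective bundle of E given by its universal
property (KRR.IsProjBundle), p is proper and δP is the induced dimension function (Cyc.DeltaCompat);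
a tuple γ with Cyc.IsChernCap represents (c_0(E) ∩ α, …, c_r(E) ∩ α) through the defining relation
Σ_i (-1)^i c_1(O_P(1))^i ∩ p^*(γ_{r-i}) ∼_rat 0 on P, and classes are compared up to rational
equivalence of representing cycles. -/
theorem result (X : Scheme.{u}) (δ : X → ℤ) (hX : Cyc.IsSetup X δ) (r₁ r₂ : ℕ) (E₁ : X.Modules) (hP₁E : FlatMod.IsFinLocFreeOfRank r₁ E₁) (P₁ : Scheme.{u}) (p₁ : P₁ ⟶ X) (O₁ : P₁.Modules) (q₁ : (Scheme.Modules.pullback p₁).obj E₁ ⟶ O₁) (hP₁ : KRR.IsProjBundle p₁ E₁ O₁ q₁) [IsProper p₁] (δ₁ : P₁ → ℤ) (hP₁s : Cyc.IsSetup P₁ δ₁) (hδ₁ : Cyc.DeltaCompat p₁ δ₁ δ) (E : X.Modules) (hPE : FlatMod.IsFinLocFreeOfRank (r₁ + r₂) E) (P : Scheme.{u}) (p : P ⟶ X) (O1 : P.Modules) (q : (Scheme.Modules.pullback p).obj E ⟶ O1) (hP : KRR.IsProjBundle p E O1 q) [IsProper p] (δP : P → ℤ) (hPs : Cyc.IsSetup P δP) (hδ : Cyc.DeltaCompat p δP δ) (E₂ : X.Modules)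 (hP₂E : FlatMod.IsFinLocFreeOfRank r₂ E₂) (P₂ : Scheme.{u}) (p₂ : P₂ ⟶ X) (O₂ : P₂.Modules) (q₂ : (Scheme.Modules.pullback p₂).obj E₂ ⟶ O₂) (hP₂ : KRR.IsProjBundle p₂ E₂ O₂ q₂) [IsProper p₂] (δ₂ : P₂ → ℤ) (hP₂s : Cyc.IsSetup P₂ δ₂) (hδ₂ : Cyc.DeltaCompat p₂ δ₂ δ) (a : E₁ ⟶ E) (b : E ⟶ E₂) (hab : a ≫ b = 0) (hex : (ShortComplex.mk a b hab).ShortExact) (k : ℤ) (α : AlgebraicCycle X ℤ) (hα : α ∈ Cyc.Zk X δ k) (γ₂ : Fin (r₂ + 1) → AlgebraicCycle X ℤ) (hγ₂ : Cyc.IsChernCap p₂ δ δ₂ O₂ r₂ k α γ₂) (ε : Fin (r₂ + 1) → Fin (r₁ + 1) → AlgebraicCycle X ℤ) (hε : ∀ b : Fin (r₂ + 1), Cyc.IsChernCap p₁ δ δ₁ O₁ r₁ (k - ((b : ℕ) : ℤ)) (γ₂ b) (ε b)) (γ : Fin (r₁ + r₂ + 1) → AlgebraicCycle X ℤ) (hγ : Cyc.IsChernCap p δ δP O1 (r₁ + r₂) k α γ) (j : Fin (r₁ + r₂ + 1)) : Cyc.RatEquiv δ (k - ((j : ℕ) : ℤ)) (γ j) (∑ a : Fin (r₁ + 1), ∑ b : Fin (r₂ + 1), if (a : ℕ) + (b : ℕ) = (j : ℕ) then ε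 b a else 0) := by  classical
  exact Chern.whitney hX hex hP₁E hP₂E hPE hα (Chern.isC_of hX hP₂E hP₂ hδ₂ hγ₂)
    (fun b => Chern.isC_of hX hP₁E hP₁ hδ₁ (hε b)) (Chern.isC_of hX hPE hP hδ hγ) j


end Groth.Agent.S12665
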