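import Groth.Statements.S12666
import Groth.Agent.H23.Chern.Translate
-- import your own Groth.Agent.* helpers here

set_option autoImplicit false
universe u
open CategoryTheory CategoryTheory.Limits AlgebraicGeometry
open Cyc
open Groth.Agent Groth.Agent.H23

namespace Groth.Agent.S12666

/-- For E finite locally free of rank r and L invertible on X, c_i(E ⊗ L) = Σ_{j=0}^{i} C(r-i+j, j)
c_{i-j}(E) c_1(L)^j for i ≤ r, as cap operations on every k-cycle α: c_i(E ⊗ L) ∩ α ∼_rat Σ_j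
C(r-i+j, j) c_1(L)^j ∩ (c_{i-j}(E) ∩ α), where c_1(L)^j ∩ - is the j-fold iterated cap on
coefficient functions with any nonzero rational sections (Cyc.c1PowFun) and E ⊗ L is the tensor
product of O_X-modules (CohB1.tensorMod). Setting: (X, δ) with Cyc.IsSetup stands for a scheme
locally of finite type over the base (S, δ) (X locally Noetherian with universally catenary local
rings, δ a dimension function); (p : P → X, O_P(1), q) is the projective bundle of E given by its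
universal property (KRR.IsProjBundle), p is proper and δP is the induced dimension function
(Cyc.DeltaCompat); a tuple γ with Cyc.IsChernCap represents (c_0(E) ∩ α, …, c_r(E) ∩ α) through the
defining relation Σ_i (-1)^i c_1(O_P(1))^i ∩ p^*(γ_{r-i}) ∼_rat 0 on P, and classes are compared up
to rational equivalence of representing cycles. -/
theorem result (X : Scheme.{u}) (δ : X → ℤ) (hX : Cyc.IsSetup X δ) (r : ℕ) (E : X.Modules) (hPE : FlatMod.IsFinLocFreeOfRank r E) (P : Scheme.{u}) (p : P ⟶ X) (O1 : P.Modules) (q : (Scheme.Modules.pullback p).obj E ⟶ O1) (hP : KRR.IsProjBundle p E O1 q) [IsProper p] (δP : P → ℤ) (hPs : Cyc.IsSetup P δP) (hδ : Cyc.DeltaCompat p δP δ) (L : X.Modules) (hL : PicF.IsInvertible L) (hP'E : FlatMod.IsFinLocFreeOfRank r (CohB1.tensorMod E L)) (P' : Scheme.{u}) (p' : P' ⟶ X) (O1' : P'.Modules) (q' : (Scheme.Modules.pullback p').obj (CohB1.tensorMod E L) ⟶ O1') (hP' : KRR.IsProjBundle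 p' (CohB1.tensorMod E L) O1' q') [IsProper p'] (δP' : P' → ℤ) (hPs' : Cyc.IsSetup P' δP') (hδ' : Cyc.DeltaCompat p' δP' δ) (k : ℤ) (α : AlgebraicCycle X ℤ) (hα : α ∈ Cyc.Zk X δ k) (γ : Fin (r + 1) → AlgebraicCycle X ℤ) (hγ : Cyc.IsChernCap p δ δP O1 r k α γ) (γ' : Fin (r + 1) → AlgebraicCycle X ℤ) (hγ' : Cyc.IsChernCap p' δ δP' O1' r k α γ') (t : ℕ → (ξ : X) → Cyc.secFibre L ξ) (ht : ∀ m ξ, t m ξ ≠ 0) (i : Fin (r + 1)) (ζ : Fin (r + 1) → AlgebraicCycle X ℤ) (hζ : ∀ j : Fin (r + 1), (j : ℕ) ≤ (i : ℕ) → ⇑(ζ j) = Cyc.c1PowFun δ L t j ⇑(γ ⟨(i : ℕ) - (j : ℕ), Nat.lt_of_le_of_lt (Nat.sub_le _ _) i.isLt⟩)) : Cyc.RatEquiv δ (k - ((i : ℕ) : ℤ)) (γ' i) (∑ j : Fin (r + 1), if (j : ℕ) ≤ (i : ℕ) then ((Nat.choose (r - i + j) j : ℕ) : ℤ) • ζ j else 0) := by  classical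
  haveI := hX.1
  have hγC := Chern.isC_of hX hPE hP hδ hγ
  have hγ'C := Chern.isC_of hX hP'E hP' hδ' hγ'
  let c : ℕ → Chern.CR hX := Chern.cR hX hPE
  let l : Chern.CR hX := Chern.lR hX hL
  have hpow : ∀ j : Fin (r + 1), (j : ℕ) ≤ (i : ℕ) → ζ j ∈ Cyc.Zk X δ (k - ((i : ℕ) : ℤ)) ∧
      (l ^ (j : ℕ) * c ((i : ℕ) - (j : ℕ))).1 (Chern.emc δ k α) = Chern.emc δ (k - ((i : ℕ) : ℤ)) (ζ j) := by
    intro j hj
    let m : Fin (r + 1) := ⟨(i : ℕ) - (j : ℕ), Nat.lt_of_le_of_lt (Nat.sub_le _ _) i.isLt⟩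
    obtain ⟨hz, he⟩ := Chern.lR_pow_emc hX hL t ht j (hγC.mem hX hPE m) (hζ j hj)
    have hk : k - ((m : ℕ) : ℤ) - ((j : ℕ) : ℤ) = k - ((i : ℕ) : ℤ) := by
      show k - (((i : ℕ) - (j : ℕ) : ℕ) : ℤ) - _ = _
      omega
    refine ⟨hk ▸ hz, ?_⟩
    show (l ^ (j : ℕ)).1 ((c (m : ℕ)).1 (Chern.emc δ k α)) = _
    rw [Chern.cR_emc hX hPE hγC hα (m : ℕ) rfl, dif_pos (Fin.is_le m), ← hk]
    exact he
  have hT : Chern.cR hX hP'E i = ∑ j : Fin (r + 1), if (j : ℕ) ≤ (i : ℕ) then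
      ((Nat.choose (r - i + j) j : ℕ) : Chern.CR hX) * (l ^ (j : ℕ) * c ((i : ℕ) - (j : ℕ))) else 0 := by
    rw [Chern.cR_tensorLine hX hPE hL hP'E i, Fin.sum_univ_eq_sum_range (fun j => if j ≤ (i : ℕ) then
      ((Nat.choose (r - i + j) j : ℕ) : Chern.CR hX) * (l ^ j * c ((i : ℕ) - j)) else 0) (r + 1)]
    have hf : (Finset.range (r + 1)).filter (fun j => j ≤ (i : ℕ)) = Finset.range ((i : ℕ) + 1) := by
      ext j
      simp only [Finset.mem_filter, Finset.mem_range]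
      have := i.isLt
      omega
    rw [← Finset.sum_filter, ← Finset.sum_filter, hf, ← Finset.sum_range_reflect]
    refine Finset.sum_congr rfl fun j hj => ?_
    have hj' := Finset.mem_range.1 hj
    have := i.isLt
    rw [show r - ((i : ℕ) + 1 - 1 - j) = r - i + j by omega, show (i : ℕ) - ((i : ℕ) + 1 - 1 - j) = j by omega,
      show (i : ℕ) + 1 - 1 - j = (i : ℕ) - j by omega]
  have hmem : ∀ j : Fin (r + 1),
      (if (j : ℕ) ≤ (i : ℕ) then ((Nat.choose (r - i + j) j : ℕ) : ℤ) • ζ j else 0) ∈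
        Cyc.Zk X δ (k - ((i : ℕ) : ℤ)) := fun j => by
    split_ifs with h
    · exact (ChowOps.zk X δ _).zsmul_mem (hpow j h).1 _
    · exact (ChowOps.zk X δ _).zero_mem
  refine Chern.ratEquiv_of_emc hX (hγ'C.mem hX hP'E i) ((ChowOps.zk X δ _).sum_mem fun j _ => hmem j) ?_
  rw [Chern.emc_sum _ _ fun j _ => hmem j]
  have h := Chern.cR_emc hX hP'E hγ'C hα (i : ℕ) rfl
  rw [dif_pos (Fin.is_le i)] at h
  refine h.symm.trans ?_
  rw [hT, Chern.sum_apply]
  refine Finset.sum_congr rfl fun j _ => ?_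
  split_ifs with hj
  · rw [Chern.natCast_apply, (hpow j hj).2, Chern.emc_zsmul _ (hpow j hj).1, natCast_zsmul]
  · rw [Chern.emc_zero]
    rfl


end Groth.Agent.S12666
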