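import Groth.Statements.S12667
import Groth.Agent.H23.Chern.TopPull
-- import your own Groth.Agent.* helpers here

set_option autoImplicit false
universe u
open CategoryTheory CategoryTheory.Limits AlgebraicGeometry
open Cyc
open Groth.Agent Groth.Agent.H23

namespace Groth.Agent.S12667

/-- Let E be finite locally free of rank r on X with dim_δ(X) ≤ n, s ∈ Γ(X, E) a global section and Z =
Z(s) its zero scheme, the closed subscheme whose ideal is the image of s : E^∨ → O_X (pinned here
pointwise: Z is the locus where s vanishes in E(x), and at each point of Z the ideal of Z in O_{X,x}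
is generated by the coordinates of the germ of s in a basis of the free module E_x). Suppose further
that dim_δ(Z) ≤ n - r, and that whenever ξ is a generic point of Z with δ(ξ) = n - r, the ideal of Z
in the local ring O_{X,ξ} admits r generators forming a regular sequence. Under these hypotheses the
classes c_r(E) ∩ [X]_n and [Z]_{n-r} coincide in CH_{n-r}(X), where [X]_n and [Z]_{n-r} denote the
cycles attached to the closed subschemes (Cyc.subschemeFun). (The published statement is for a
section of f^*E along any f : X' → X locally of finite type; since f^*E is again finite locally free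
of rank r on X', the case f = id stated here for all X and E is the general one.) Setting: (X, δ)
with Cyc.IsSetup stands for a scheme locally of finite type over the base (S, δ) (X locally
Noetherian with universally catenary local rings, δ a dimension function); (p : P → X, O_P(1), q) is
the projective bundle of E given by its universal property (KRR.IsProjBundle), p is proper and δP is
the induced dimension function (Cyc.DeltaCompat); a tuple γ with Cyc.IsChernCap represents (c_0(E) ∩
α, …, c_r(E) ∩ α) through the defining relation Σ_i (-1)^i c_1(O_P(1))^i ∩ p^*(γ_{r-i}) ∼_rat 0 on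
P, and classes are compared up to rational equivalence of representing cycles. -/
theorem result (X : Scheme.{u}) (δ : X → ℤ) (hX : Cyc.IsSetup X δ) (r : ℕ) (E : X.Modules) (hPE : FlatMod.IsFinLocFreeOfRank r E) (P : Scheme.{u}) (p : P ⟶ X) (O1 : P.Modules) (q : (Scheme.Modules.pullback p).obj E ⟶ O1) (hP : KRR.IsProjBundle p E O1 q) [IsProper p] (δP : P → ℤ) (hPs : Cyc.IsSetup P δP) (hδ : Cyc.DeltaCompat p δP δ) (n : ℤ) (hn : ∀ x : X, δ x ≤ n) (s : E.presheaf.obj (Opposite.op ⊤)) (Z : Scheme.{u}) (i : Z ⟶ X) [IsClosedImmersion i] (hZ1 : Set.range ⇑i = {x : X | (E.presheaf.germ ⊤ x trivial) s ∈ IsLocalRing.maximalIdeal (X.presheaf.stalk x) • (⊤ : Submodule (X.presheaf.stalk x) (E.presheaf.stalk x))}) (hZ2 : ∀ z : Z, ∃ b : Module.Basis (Fin r) (X.presheaf.stalk (i z)) (E.presheaf.stalk (i z)), RingHom.ker (i.stalkMap z).hom = Ideal.span (Set.range fun l : Fin r => b.repr ((E.presheaf.germ ⊤ (i z) trivial) s) l)) (hZ3 : ∀ z : Z, δ (i z) ≤ n - (r : ℤ)) (hZ4 : ∀ z : Z, δ (i z) = n - (r : ℤ) → ∃ f : Fin r → X.presheaf.stalk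 (i z), RingTheory.Sequence.IsRegular (X.presheaf.stalk (i z)) (List.ofFn f) ∧ RingHom.ker (i.stalkMap z).hom = Ideal.span (Set.range f)) (α : AlgebraicCycle X ℤ) (hα : ⇑α = Cyc.subschemeFun δ n (𝟙 X)) (γ : Fin (r + 1) → AlgebraicCycle X ℤ) (hγ : Cyc.IsChernCap p δ δP O1 r n α γ) (ζ : AlgebraicCycle X ℤ) (hζ : ⇑ζ = Cyc.subschemeFun δ (n - (r : ℤ)) i) : Cyc.RatEquiv δ (n - (r : ℤ)) (γ (Fin.last r)) ζ := by  classical
  haveI := hX.1
  haveI := LocallyOfFiniteType.isLocallyNoetherian i
  have hγC := Chern.isC_of hX hPE hP hδ hγ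
  have hrange : ∀ x, Chern.secIdeal hPE s x ≠ ⊤ → x ∈ Set.range ⇑i := fun x hx => by
    rw [hZ1]
    exact (Chern.secIdeal_ne_top_iff hPE s x).1 hx
  have hker : ∀ z : Z, RingHom.ker (i.stalkMap z).hom = Chern.secIdeal hPE s (i z) := fun z => by
    obtain ⟨b, hb⟩ := hZ2 z
    rw [hb]
    exact (Chern.secIdeal_eq hPE s b).symm
  have hzf : ∀ x, Chern.zeroFun δ (n - r) hPE s x = Cyc.subschemeFun δ (n - r) i x := by
    intro x
    simp only [Chern.zeroFun, Cyc.subschemeFun]
    by_cases hx : δ x = n - r
    swap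
    · rw [if_neg hx, if_neg hx]
    rw [if_pos hx, if_pos hx]
    by_cases hz : x ∈ Set.range ⇑i
    · obtain ⟨z, rfl⟩ := hz
      rw [show {w : Z | i w = i z} = {z} from Set.ext fun w => i.isEmbedding.injective.eq_iff, finsum_mem_singleton,
        ← hker z]
      refine congrArg (fun m : ℕ∞ => ((m.toNat : ℕ) : ℤ)) ?_
      exact (FiniteFibreSum.length_self_of_surjective (i.stalkMap z).hom (i.stalkMap_surjective z) rfl)
    · rw [show {w : Z | i w = x} = ∅ from Set.eq_empty_of_forall_notMem fun w hw => hz ⟨w, hw⟩, finsum_mem_empty,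
        not_ne_iff.1 (fun e => hz (hrange x e)), Module.length_eq_zero]
      rfl
  have h := Chern.cR_top_zero hPE s hX hn (fun x hx => ?_) (fun x hx hne => ?_) hα
    (hζ.trans (funext fun x => (hzf x).symm))
  · have hαm : α ∈ Cyc.Zk X δ n := fun x hx => by
      rw [hα, FundCycle.subschemeFun_id, if_neg hx]
    have hζm : ζ ∈ Cyc.Zk X δ (n - r) := fun x hx => by
      rw [hζ, ← hzf x, Chern.zeroFun, if_neg hx]
    have h' := Chern.cR_emc hX hPE hγC hαm r (l := n - r) rfl
    rw [dif_pos le_rfl] at h'
    have hm : γ (Fin.last r) ∈ Cyc.Zk X δ (n - r) := by simpa using hγC.mem hX hPE (Fin.last r)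
    exact Chern.ratEquiv_of_emc hX hm hζm (h'.symm.trans h)
  · obtain ⟨z, rfl⟩ := hrange x hx
    exact hZ3 z
  · obtain ⟨z, rfl⟩ := hrange x hne
    obtain ⟨f, hf, hk⟩ := hZ4 z hx
    exact ⟨f, hf, (hker z).symm.trans hk⟩


end Groth.Agent.S12667
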