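import Groth.Statements.S12669
import Groth.Agent.H23.Chern.Translate
-- import your own Groth.Agent.* helpers here

set_option autoImplicit false
universe u
open CategoryTheory CategoryTheory.Limits AlgebraicGeometry
open Cyc
open Groth.Agent Groth.Agent.H23

namespace Groth.Agent.S12669

/-- For E, F finite locally free of ranks r, s on X, c_2(E ⊗ F) = r c_2(F) + s c_2(E) + C(r,2) c_1(F)^2
+ (rs - 1) c_1(F) c_1(E) + C(s,2) c_1(E)^2, as cap operations on every k-cycle α; products of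
classes are iterated caps represented by nested tuples (a tuple for F, resp. E, over the first
component of a tuple for F; a tuple for E over the first component of a tuple for E), c_2 of a
module of rank < 2 is 0, and E ⊗ F (CohB1.tensorMod, rank rs) enters through its own projective
bundle. Stated for r, s ≥ 1. Setting: (X, δ) with Cyc.IsSetup stands for a scheme locally of finite
type over the base (S, δ) (X locally Noetherian with universally catenary local rings, δ a dimension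
function); (p : P → X, O_P(1), q) is the projective bundle of E given by its universal property
(KRR.IsProjBundle), p is proper and δP is the induced dimension function (Cyc.DeltaCompat); a tuple
γ with Cyc.IsChernCap represents (c_0(E) ∩ α, …, c_r(E) ∩ α) through the defining relation Σ_i
(-1)^i c_1(O_P(1))^i ∩ p^*(γ_{r-i}) ∼_rat 0 on P, and classes are compared up to rational
equivalence of representing cycles. -/
theorem result (X : Scheme.{u}) (δ : X → ℤ) (hX : Cyc.IsSetup X δ) (r s : ℕ) (hr : 1 ≤ r) (hs : 1 ≤ s) (E : X.Modules) (hPE : FlatMod.IsFinLocFreeOfRank r E) (P : Scheme.{u}) (p : P ⟶ X) (O1 : P.Modules) (q : (Scheme.Modules.pullback p).obj E ⟶ O1) (hP : KRR.IsProjBundle p E O1 q) [IsProper p] (δP : P → ℤ) (hPs : Cyc.IsSetup P δP) (hδ : Cyc.DeltaCompat p δP δ) (F : X.Modules) (hQE : FlatMod.IsFinLocFreeOfRank s F) (Q : Scheme.{u}) (p' : Q ⟶ X) (O1' : Q.Modules) (q'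 : (Scheme.Modules.pullback p').obj F ⟶ O1') (hQ : KRR.IsProjBundle p' F O1' q') [IsProper p'] (δQ : Q → ℤ) (hQs : Cyc.IsSetup Q δQ) (hδ' : Cyc.DeltaCompat p' δQ δ) (hTE : FlatMod.IsFinLocFreeOfRank (r * s) (CohB1.tensorMod E F)) (T : Scheme.{u}) (p'' : T ⟶ X) (O1'' : T.Modules) (q'' : (Scheme.Modules.pullback p'').obj (CohB1.tensorMod E F) ⟶ O1'') (hT : KRR.IsProjBundle p'' (CohB1.tensorMod E F) O1'' q'') [IsProper p''] (δT : T → ℤ) (hTs : Cyc.IsSetup T δT) (hδ'' : Cyc.DeltaCompat p'' δT δ) (k : ℤ) (α : AlgebraicCycle X ℤ) (hα : α ∈ Cyc.Zk X δ k) (ε : Fin (r + 1) → AlgebraicCycle X ℤ) (hε : Cyc.IsChernCap p δ δP O1 r k α ε) (φ : Fin (s + 1) → AlgebraicCycle X ℤ) (hφ : Cyc.IsChernCap p' δ δQ O1' s k α φ) (τ : Fin (r * s + 1) → AlgebraicCycle X ℤ) (hτ : Cyc.IsChernCap p'' δ δT O1'' (r * s) k α τ) (φφ : Fin (s + 1) → AlgebraicCycle X ℤ) (hφφ : Cyc.IsChernCap p' δ δQ O1' s (k - 1)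 (φ ⟨1, Nat.lt_succ_of_le hs⟩) φφ) (εφ : Fin (r + 1) → AlgebraicCycle X ℤ) (hεφ : Cyc.IsChernCap p δ δP O1 r (k - 1) (φ ⟨1, Nat.lt_succ_of_le hs⟩) εφ) (εε : Fin (r + 1) → AlgebraicCycle X ℤ) (hεε : Cyc.IsChernCap p δ δP O1 r (k - 1) (ε ⟨1, Nat.lt_succ_of_le hr⟩) εε) : Cyc.RatEquiv δ (k - 2) (if h2 : 2 ≤ r * s then τ ⟨2, Nat.lt_succ_of_le h2⟩ else 0) (((r : ℕ) : ℤ) • (if h2 : 2 ≤ s then φ ⟨2, Nat.lt_succ_of_le h2⟩ else 0) + ((s : ℕ) : ℤ) • (if h2 : 2 ≤ r then ε ⟨2, Nat.lt_succ_of_le h2⟩ else 0) + ((Nat.choose r 2 : ℕ) : ℤ) • φφ ⟨1, Nat.lt_succ_of_le hs⟩ + (((r * s : ℕ) : ℤ) - 1) • εφ ⟨1, Nat.lt_succ_of_le hr⟩ + ((Nat.choose s 2 : ℕ) : ℤ) • εε ⟨1, Nat.lt_succ_of_le hr⟩) := by  classical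
  haveI := hX.1
  have hεC := Chern.isC_of hX hPE hP hδ hε
  have hφC := Chern.isC_of hX hQE hQ hδ' hφ
  have hτC := Chern.isC_of hX hTE hT hδ'' hτ
  have hφφC := Chern.isC_of hX hQE hQ hδ' hφφ
  have hεφC := Chern.isC_of hX hPE hP hδ hεφ
  have hεεC := Chern.isC_of hX hPE hP hδ hεε
  have two : ∀ {n : ℕ} {M : X.Modules} (hM : FlatMod.IsFinLocFreeOfRank n M) {γ : Fin (n + 1) → AlgebraicCycle X ℤ},
      Chern.IsC δ M n k α γ → ((if h2 : 2 ≤ n then γ ⟨2, Nat.lt_succ_of_le h2⟩ else 0) ∈ Cyc.Zk X δ (k - 2) ∧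
        (Chern.cR hX hM 2).1 (Chern.emc δ k α) =
          Chern.emc δ (k - 2) (if h2 : 2 ≤ n then γ ⟨2, Nat.lt_succ_of_le h2⟩ else 0)) := by
    intro n M hM γ hγ
    refine ⟨?_, Chern.cR_emc hX hM hγ hα 2 (by simp)⟩
    split_ifs with h
    · simpa using hγ.mem hX hM ⟨2, Nat.lt_succ_of_le h⟩
    · exact (ChowOps.zk X δ _).zero_mem
  have one : ∀ {n : ℕ} {M : X.Modules} (hM : FlatMod.IsFinLocFreeOfRank n M) (hn : 1 ≤ n) {l : ℤ}
      {a : AlgebraicCycle X ℤ} {γ : Fin (n + 1) → AlgebraicCycle X ℤ}, a ∈ Cyc.Zk X δ l →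
      Chern.IsC δ M n l a γ → (γ ⟨1, Nat.lt_succ_of_le hn⟩ ∈ Cyc.Zk X δ (l - 1) ∧
        (Chern.cR hX hM 1).1 (Chern.emc δ l a) = Chern.emc δ (l - 1) (γ ⟨1, Nat.lt_succ_of_le hn⟩)) := by
    intro n M hM hn l a γ ha hγ
    refine ⟨by simpa using hγ.mem hX hM ⟨1, Nat.lt_succ_of_le hn⟩, ?_⟩
    have h := Chern.cR_emc hX hM hγ ha 1 (l := l - 1) (by simp)
    rwa [dif_pos hn] at h
  obtain ⟨mT, eT⟩ := two hTE hτC
  obtain ⟨mF, eF⟩ := two hQE hφC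
  obtain ⟨mE, eE⟩ := two hPE hεC
  obtain ⟨m₁, e₁⟩ := one hQE hs hα hφC
  obtain ⟨m₂, e₂⟩ := one hPE hr hα hεC
  obtain ⟨mFF, eFF⟩ := one hQE hs m₁ hφφC
  obtain ⟨mEF, eEF⟩ := one hPE hr m₁ hεφC
  obtain ⟨mEE, eEE⟩ := one hPE hr m₂ hεεC
  rw [show k - 1 - 1 = k - 2 by ring] at mFF mEF mEE eFF eEF eEE
  have a₁ := (ChowOps.zk X δ _).zsmul_mem mF (r : ℤ)
  have a₂ := (ChowOps.zk X δ _).zsmul_mem mE (s : ℤ)
  have a₃ := (ChowOps.zk X δ _).zsmul_mem mFF ((Nat.choose r 2 : ℕ) : ℤ)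
  have a₄ := (ChowOps.zk X δ _).zsmul_mem mEF (((r * s : ℕ) : ℤ) - 1)
  have a₅ := (ChowOps.zk X δ _).zsmul_mem mEE ((Nat.choose s 2 : ℕ) : ℤ)
  have s₂ := (ChowOps.zk X δ _).add_mem a₁ a₂
  have s₃ := (ChowOps.zk X δ _).add_mem s₂ a₃
  have s₄ := (ChowOps.zk X δ _).add_mem s₃ a₄
  refine Chern.ratEquiv_of_emc hX mT ((ChowOps.zk X δ _).add_mem s₄ a₅) ?_
  rw [Chern.emc_add s₄ a₅, Chern.emc_add s₃ a₄, Chern.emc_add s₂ a₃, Chern.emc_add a₁ a₂, Chern.emc_zsmul _ mF,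
    Chern.emc_zsmul _ mE, Chern.emc_zsmul _ mFF, Chern.emc_zsmul _ mEF, Chern.emc_zsmul _ mEE, natCast_zsmul,
    natCast_zsmul, natCast_zsmul, natCast_zsmul]
  refine eT.symm.trans ?_
  rw [(Chern.c12_tensor hX hPE hQE hTE).2, show ((r * s : ℕ) : Chern.CR hX) - 1 =
      ((((r * s : ℕ) : ℤ) - 1 : ℤ) : Chern.CR hX) by push_cast; rfl,
    mul_comm (Chern.cR hX hQE 1) (Chern.cR hX hPE 1), sq, sq, Chern.add_apply, Chern.add_apply, Chern.add_apply,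
    Chern.add_apply, Chern.natCast_apply, Chern.natCast_apply, Chern.natCast_apply, Chern.natCast_apply,
    Chern.intCast_apply, Chern.mul_apply, Chern.mul_apply, Chern.mul_apply, eF, eE, e₁, e₂, eFF, eEF, eEE]


end Groth.Agent.S12669
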