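import Groth.Statements.S1267
import Groth.Agent.LocalCrit.Flatness

set_option autoImplicit false
universe u
open FlatMor

set_option backward.isDefEq.respectTransparency false
set_option backward.isDefEq.respectTransparency.types false
set_option linter.style.haveILetI false

namespace Groth.Agent.S1267

open TensorProduct

theorem injective_rTensor_baseChange {A R : Type u} [CommRing A] [CommRing R] [Algebra A R] {N N' : Type u}
    [AddCommGroup N] [Module R N] [Module A N] [IsScalarTower A R N]
    [AddCommGroup N'] [Module R N'] [Module A N'] [IsScalarTower A R N'] (g : N →ₗ[R] N')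
    (M : Type u) [AddCommGroup M] [Module A M] (h : Function.Injective ((g.restrictScalars A).rTensor M)) :
    Function.Injective (g.rTensor (R ⊗[A] M)) := by
  let e := AlgebraTensorModule.cancelBaseChange A R R N M
  let e' := AlgebraTensorModule.cancelBaseChange A R R N' M
  have hsq : ∀ z, e' (g.rTensor (R ⊗[A] M) z) = (g.restrictScalars A).rTensor M (e z) := fun z => by
    induction z using TensorProduct.induction_on with
    | zero => simp
    | tmul n y =>
      induction y using TensorProduct.induction_on with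
      | zero => simp
      | tmul c m => simp [e, e']
      | add a b ha hb => simp only [tmul_add, map_add, ha, hb]
    | add a b ha hb => simp only [map_add, ha, hb]
  intro x y hxy
  apply e.injective
  apply h
  rw [← hsq, ← hsq, hxy]

theorem rTensor_injective {A : Type u} [CommRing A] (I : Ideal A) {I₂ : Ideal A} (hI2I : I₂ ≤ I) (hII : I ^ 2 ≤ I₂)
    (U : Set (PrimeSpectrum A)) (hU : IsOpen U) (hUc : IsCompact U)
    (M : Type u) [AddCommGroup M] [Module A M] (hK : LocalCrit.KeepsInjective I M)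
    (hflat : ∀ p ∈ U, Module.Flat A (LocalizedModule p.asIdeal.primeCompl M))
    (hI₂ : ∀ x : A, x ∈ I₂ ↔ x ∈ I ∧ ∀ p ∈ U, ∃ s : A, s ∉ p.asIdeal ∧ s * x ∈ I ^ 2) :
    Function.Injective (((I.map (Ideal.Quotient.mk I₂)).subtype.restrictScalars A).rTensor M) := by
  classical
  let J : Ideal (A ⧸ I₂) := I.map (Ideal.Quotient.mk I₂)
  let π : I →ₗ[A] J :=
    { toFun := fun x => ⟨Ideal.Quotient.mk I₂ x, Ideal.mem_map_of_mem _ x.2⟩
      map_add' := fun x y => Subtype.ext (map_add _ _ _)
      map_smul' := fun a x => Subtype.ext (by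
        show Ideal.Quotient.mk I₂ (a * x) = a • Ideal.Quotient.mk I₂ x
        rw [Algebra.smul_def, map_mul]; rfl) }
  have hπ : Function.Surjective π := by
    rintro ⟨j, hj⟩
    obtain ⟨x, hx, rfl⟩ := (Ideal.mem_map_iff_of_surjective _ Ideal.Quotient.mk_surjective).1 hj
    exact ⟨⟨x, hx⟩, rfl⟩
  have hπI₂ : π ∘ₗ Submodule.inclusion hI2I = 0 :=
    LinearMap.ext fun x => Subtype.ext (Ideal.Quotient.eq_zero_iff_mem.2 x.2)
  change Function.Injective ((J.subtype.restrictScalars A).rTensor M)
  rw [← LinearMap.ker_eq_bot, eq_bot_iff]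
  intro x hx
  rw [LinearMap.mem_ker] at hx
  rw [Submodule.mem_bot]
  obtain ⟨y, rfl⟩ := LinearMap.rTensor_surjective M hπ x
  have hex : Function.Exact I₂.subtype (I₂.mkQ) := LinearMap.exact_subtype_mkQ I₂
  have h0 : (I₂.mkQ).rTensor M (I.subtype.rTensor M y) = 0 := by
    rw [← LinearMap.rTensor_comp_apply] at hx ⊢
    exact hx
  obtain ⟨z, hz⟩ := (rTensor_exact M hex I₂.mkQ_surjective _).1 h0
  set y' := y - (Submodule.inclusion hI2I).rTensor M z
  have hy' : I.subtype.rTensor M y' = 0 := by
    rw [map_sub, ← LinearMap.rTensor_comp_apply, Submodule.subtype_comp_inclusion, hz, sub_self]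
  have hπy : π.rTensor M y = π.rTensor M y' := by
    rw [map_sub, ← LinearMap.rTensor_comp_apply, hπI₂, LinearMap.rTensor_zero, LinearMap.zero_apply, sub_zero]
  have hloc : ∀ p ∈ U, ∃ s ∉ p.asIdeal, s • y' = 0 := fun p hp => by
    haveI := hflat p hp
    let g := LocalizedModule.mkLinearMap p.asIdeal.primeCompl M
    let G : M ⊗[A] I →ₗ[A] LocalizedModule p.asIdeal.primeCompl M ⊗[A] I := AlgebraTensorModule.rTensor A I g
    haveI : IsLocalizedModule p.asIdeal.primeCompl G := inferInstanceAs (IsLocalizedModule p.asIdeal.primeCompl (AlgebraTensorModule.rTensor A I g))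
    have hcomm : ∀ w : I ⊗[A] M, I.subtype.lTensor (LocalizedModule p.asIdeal.primeCompl M)
        (G (TensorProduct.comm A I M w)) = g.rTensor A (TensorProduct.comm A A M (I.subtype.rTensor M w)) :=
      fun w => by
        induction w using TensorProduct.induction_on with
        | zero => simp
        | tmul a m => simp [G]
        | add a b ha hb => simp only [map_add, ha, hb]
    have hG : G (TensorProduct.comm A I M y') = G 0 := by
      apply Module.Flat.lTensor_preserves_injective_linearMap I.subtype Subtype.val_injective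
      rw [hcomm, hy', map_zero, map_zero, map_zero, map_zero]
    obtain ⟨⟨s, hs⟩, hs'⟩ := IsLocalizedModule.exists_of_eq (S := p.asIdeal.primeCompl) hG
    refine ⟨s, hs, (TensorProduct.comm A I M).injective ?_⟩
    rw [map_smul, map_zero]
    simpa using hs'
  choose! s hs hsy using hloc
  obtain ⟨t, ht, hcov⟩ := hUc.elim_nhds_subcover (fun p => (PrimeSpectrum.basicOpen (s p) : Set (PrimeSpectrum A)))
    fun p hp => (PrimeSpectrum.basicOpen (s p)).isOpen.mem_nhds (hs p hp)
  let g : J →ₗ[A] (t → J) := LinearMap.pi fun k => LinearMap.lsmul A J (s k.1)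
  have hJtor : Module.IsTorsionBySet A J I := by
    rintro j ⟨a, ha⟩
    obtain ⟨b, rfl⟩ := hπ j
    refine Subtype.ext ?_
    show a • Ideal.Quotient.mk I₂ b.1 = 0
    rw [Algebra.smul_def]
    refine (map_mul _ _ _).symm.trans (Ideal.Quotient.eq_zero_iff_mem.2 (hII ?_))
    rw [pow_two]
    exact Ideal.mul_mem_mul ha b.2
  have hg : Function.Injective g := by
    rw [← LinearMap.ker_eq_bot, eq_bot_iff]
    intro j hj
    obtain ⟨b, rfl⟩ := hπ j
    rw [Submodule.mem_bot]
    refine Subtype.ext (Ideal.Quotient.eq_zero_iff_mem.2 ((hI₂ _).2 ⟨b.2, fun p hp => ?_⟩))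
    obtain ⟨k, hk, hpk⟩ := Set.mem_iUnion₂.1 (hcov hp)
    have h1 : s k • Ideal.Quotient.mk I₂ b.1 = 0 := congrArg Subtype.val (congrFun hj ⟨k, hk⟩)
    rw [Algebra.smul_def] at h1
    have h2 : s k * b.1 ∈ I₂ := Ideal.Quotient.eq_zero_iff_mem.1 ((map_mul _ _ _).trans h1)
    obtain ⟨s', hs', hs'b⟩ := ((hI₂ _).1 h2).2 p hp
    exact ⟨s' * s k, p.isPrime.mul_notMem hs' hpk, by rwa [mul_assoc]⟩
  refine hK g hJtor (fun f a => funext fun k => @hJtor (f k) a) hg ?_
  rw [map_zero, hπy]
  have hmap : ∀ k : t, s k.1 • π.rTensor M y' = 0 := fun k => by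
    rw [← map_smul, hsy k.1 (ht k.1 k.2), map_zero]
  generalize π.rTensor M y' = w at hmap ⊢
  apply (TensorProduct.piLeft (R := A) (N := M) (M := fun _ : t => J)).injective
  rw [map_zero]
  funext k
  rw [Pi.zero_apply, ← hmap k]
  clear * -
  induction w using TensorProduct.induction_on with
  | zero => simp
  | tmul a b => simp [g, TensorProduct.smul_tmul']
  | add a b ha hb => simp only [map_add, Pi.add_apply, ha, hb, smul_add]

/-- Let A be a local ring, I an ideal, U a quasi-compact open subset of Spec A and M an A-module such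
that M/IM is flat over A/I and M_p is flat over A for all p in U. Let I₂ be the kernel of I → Γ(U,
I/I²), that is the set of x ∈ I such that for every p ∈ U some s outside p has s·x ∈ I². Then M/I₂M
is flat over A/I₂. -/
theorem result {A : Type u} [CommRing A] [IsLocalRing A] (I : Ideal A)
    (U : Set (PrimeSpectrum A)) (hU : IsOpen U) (hUc : IsCompact U)
    (M : Type u) [AddCommGroup M] [Module A M]
    [Module.Flat (A ⧸ I) (M ⧸ (I • ⊤ : Submodule A M))]
    (hflat : ∀ p ∈ U, Module.Flat A (LocalizedModule p.asIdeal.primeCompl M))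
    (I₂ : Ideal A) (hI₂ : ∀ x : A, x ∈ I₂ ↔ x ∈ I ∧ ∀ p ∈ U, ∃ s : A, s ∉ p.asIdeal ∧ s * x ∈ I ^ 2) :
    Module.Flat (A ⧸ I₂) (M ⧸ (I₂ • ⊤ : Submodule A M)) := by
  have hI2I : I₂ ≤ I := fun x hx => ((hI₂ x).1 hx).1
  have hII : I ^ 2 ≤ I₂ := fun x hx => (hI₂ x).2 ⟨Ideal.pow_le_self two_ne_zero hx,
    fun p _ => ⟨1, fun h => p.isPrime.ne_top ((Ideal.eq_top_iff_one _).2 h), by rwa [one_mul]⟩⟩
  haveI : Module.Flat (A ⧸ I) ((A ⧸ I) ⊗[A] M) :=
    Module.Flat.of_linearEquiv ((TensorProduct.quotTensorEquivQuotSMul M I).extendScalarsOfSurjective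
      Ideal.Quotient.mk_surjective)
  have hK : LocalCrit.KeepsInjective I M := LocalCrit.keepsInjective_of_flat I M
  suffices h : Module.Flat (A ⧸ I₂) ((A ⧸ I₂) ⊗[A] M) from
    Module.Flat.of_linearEquiv ((TensorProduct.quotTensorEquivQuotSMul M I₂).extendScalarsOfSurjective
      Ideal.Quotient.mk_surjective).symm
  let J : Ideal (A ⧸ I₂) := I.map (Ideal.Quotient.mk I₂)
  refine LocalCrit.flat_of_isNilpotent J _ ⟨2, ?_⟩ ?_ ?_
  · rw [← Ideal.map_pow, Ideal.zero_eq_bot, Ideal.map_eq_bot_iff_le_ker, Ideal.mk_ker]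
    exact hII
  · have hinj : Function.Injective (((J.subtype).restrictScalars A).rTensor M) :=
      rTensor_injective I hI2I hII U hU hUc M hK hflat hI₂
    exact injective_rTensor_baseChange J.subtype M hinj
  · intro N N' _ _ _ _ g hN hN' hg
    letI := Module.compHom N (algebraMap A (A ⧸ I₂))
    letI := Module.compHom N' (algebraMap A (A ⧸ I₂))
    haveI : IsScalarTower A (A ⧸ I₂) N := IsScalarTower.of_algebraMap_smul fun _ _ => rfl
    haveI : IsScalarTower A (A ⧸ I₂) N' := IsScalarTower.of_algebraMap_smul fun _ _ => rfl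
    refine injective_rTensor_baseChange g M (hK (g.restrictScalars A) ?_ ?_ hg)
    · rintro x ⟨a, ha⟩
      exact @hN x ⟨Ideal.Quotient.mk I₂ a, Ideal.mem_map_of_mem _ ha⟩
    · rintro x ⟨a, ha⟩
      exact @hN' x ⟨Ideal.Quotient.mk I₂ a, Ideal.mem_map_of_mem _ ha⟩

end Groth.Agent.S1267
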