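import Groth.Statements.S12671
import Groth.Agent.H23.Chern.Chain
-- import your own Groth.Agent.* helpers here

set_option autoImplicit false
universe u
open CategoryTheory CategoryTheory.Limits AlgebraicGeometry
open Cyc
open Groth.Agent Groth.Agent.H23

namespace Groth.Agent.S12671

/-- Let E be a locally free O_X-module of rank r with a filtration 0 = E_0 ⊂ E_1 ⊂ … ⊂ E_r = E such that
E_i/E_{i-1} ≅ L_i is invertible for i = 1, …, r. Then c(E) = Π_i (1 + c_1(L_i)), that is c_p(E) ∩ α
∼_rat Σ_{I ⊆ {1,…,r}, |I| = p} (Π_{i ∈ I} c_1(L_i)) ∩ α for every k-cycle α, where the product over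
I is the iterated cap applied in increasing order of i on coefficient functions with any nonzero
rational sections (Cyc.c1CapFun); the filtration is given by short exact sequences 0 → E_{i-1} → E_i
→ L_i → 0 with E_0 = 0 and E_r ≅ E. Setting: (X, δ) with Cyc.IsSetup stands for a scheme locally of
finite type over the base (S, δ) (X locally Noetherian with universally catenary local rings, δ a
dimension function); (p : P → X, O_P(1), q) is the projective bundle of E given by its universal
property (KRR.IsProjBundle), p is proper and δP is the induced dimension function (Cyc.DeltaCompat);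
a tuple γ with Cyc.IsChernCap represents (c_0(E) ∩ α, …, c_r(E) ∩ α) through the defining relation
Σ_i (-1)^i c_1(O_P(1))^i ∩ p^*(γ_{r-i}) ∼_rat 0 on P, and classes are compared up to rational
equivalence of representing cycles. -/
theorem result (X : Scheme.{u}) (δ : X → ℤ) (hX : Cyc.IsSetup X δ) (r : ℕ) (E : X.Modules) (hPE : FlatMod.IsFinLocFreeOfRank r E) (P : Scheme.{u}) (p : P ⟶ X) (O1 : P.Modules) (q : (Scheme.Modules.pullback p).obj E ⟶ O1) (hP : KRR.IsProjBundle p E O1 q) [IsProper p] (δP : P → ℤ) (hPs : Cyc.IsSetup P δP) (hδ : Cyc.DeltaCompat p δP δ) (M : Fin (r + 1) → X.Modules) (h0 : IsZero (M 0)) (e : M (Fin.last r) ≅ E) (L : Fin r → X.Modules) (hL : ∀ i, PicF.IsInvertible (L i)) (a : ∀ i : Fin r, M (Fin.castSucc i) ⟶ M (Fin.succ i)) (b : ∀ i : Fin r, M (Fin.succ i) ⟶ L i) (hab : ∀ i, a i ≫ b i = 0) (hex : ∀ i, (ShortComplex.mk (a i) (b i) (hab i)).ShortExact) (k : ℤ) (α : AlgebraicCycle X ℤ) (hα : α ∈ Cyc.Zk X δ k) (γ : Fin (r + 1) → AlgebraicCycle X ℤ) (hγ :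 Cyc.IsChernCap p δ δP O1 r k α γ) (t : (i : Fin r) → (ξ : X) → Cyc.secFibre (L i) ξ) (ht : ∀ i ξ, t i ξ ≠ 0) (κ : Finset (Fin r) → AlgebraicCycle X ℤ) (hκ0 : κ ∅ = α) (hκ : ∀ (I : Finset (Fin r)) (i : Fin r), (∀ i' ∈ I, i' < i) → ⇑(κ (insert i I)) = Cyc.c1CapFun δ (L i) ⇑(κ I) (t i)) (n : Fin (r + 1)) : Cyc.RatEquiv δ (k - ((n : ℕ) : ℤ)) (γ n) (∑ I ∈ Finset.powersetCard n Finset.univ, κ I) := by  classical
  haveI := hX.1
  haveI := hPs.1
  let D := Chern.piecesOfChain M h0 e L hL a b hab hex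
  cases r with
  | zero =>
    obtain rfl : n = 0 := Fin.fin_one_eq_zero n
    rw [hγ.1, show ((0 : Fin 1) : ℕ) = 0 from rfl, Finset.powersetCard_zero, Finset.sum_singleton, hκ0]
    exact RatOn.ratEquiv (T := Set.univ) (RatOn.congr (RatOn.zero _) fun x => sub_self _)
  | succ m =>
    have hc := ProjBd.hasCoords_of_projBundle hP hPE
    have hG := Chern.isChernCap_esym (D := D) hX.2.2 t ht α hX hPs hδ hP rfl hPE hα
    have h := Chern.unique hc hPs.2.2 hδ hX hPs hγ.2.1 hG.2.1 (Chern.relSum_mem hc hPs.2.2 hδ k α γ hγ)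
      (Chern.relSum_mem hc hPs.2.2 hδ k α _ hG) (by
        rw [hγ.1]
        beta_reduce
        rw [Fin.val_zero, Chern.esym_zero]
        exact RatOn.ratEquiv (T := Set.univ) (RatOn.congr (RatOn.zero _) fun x => sub_self _)) n
    have hu : (Finset.univ.filter fun l : Fin (m + 1) => (l : ℕ) < m + 1) = Finset.univ :=
      Finset.filter_true_of_mem fun l _ => l.2
    beta_reduce at h
    rw [Chern.esym_eq_sum hX.2.2 (D := D) t ht α κ hκ0 hκ (m + 1) le_rfl, hu] at h
    exact h


end Groth.Agent.S12671
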