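import Groth.Statements.S12673
import Groth.Agent.H28.TowerProj
-- import your own Groth.Agent.* helpers here

set_option autoImplicit false
set_option backward.isDefEq.respectTransparency false
set_option backward.isDefEq.respectTransparency.types false
set_option linter.style.haveILetI false
universe u
open CategoryTheory CategoryTheory.Limits AlgebraicGeometry
open Cyc

namespace Groth.Agent.S12673

/-- For finitely many finite locally free O_X-modules E_1, …, E_m of constant ranks r_1, …, r_m there
are a scheme P and a morphism π : P → X that is locally projective, proper, flat and of relative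
dimension d, such that (1) for every Y → X locally of finite type the flat pullback π_Y^* : CH_k(Y)
→ CH_{k+d}(Y ×_X P) is injective, and (2) every pullback π^*E_i admits a chain of submodules 0 = M_0
⊂ M_1 ⊂ … ⊂ M_{r_i} ≅ π^*E_i in which each quotient M_j/M_{j-1} is an invertible O_P-module. Here
local projectivity is RelProj.IsLocallyProjective (every point of X has an open neighbourhood U over
which π^{-1}(U) is U-isomorphic to Proj of a quasi-coherent graded O_U-algebra generated in degree
one with degree-one part of finite type), the relative dimension is Cyc.HasRelDim, the base change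
is any cartesian square with the induced dimension functions, injectivity is stated on cycles up to
rational equivalence, and the chain in (2) is given by short exact sequences 0 → M_{j-1} → M_j → L_j
→ 0 with M_0 = 0, M_{r_i} ≅ π^*E_i and every L_j invertible. (The published statement asserts π
projective; this row asserts π locally projective over X, which is what the printed proof gives over
a base that is not quasi-compact: P is built as a finite tower of projective bundles of finite
locally free modules, and a composite of projective morphisms is projective over a quasi-compact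
quasi-separated base, in particular over every affine open of X. The published statement also adds
that under (1) the restriction map A^*(X) → A^*(P) of bivariant rings is injective; that clause is
not stated here.) Setting: (X, δ) with Cyc.IsSetup stands for a scheme locally of finite type over
the base (S, δ) (X locally Noetherian with universally catenary local rings, δ a dimension
function); (p : P → X, O_P(1), q) is the projective bundle of E given by its universal property
(KRR.IsProjBundle), p is proper and δP is the induced dimension function (Cyc.DeltaCompat); a tuple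
γ with Cyc.IsChernCap represents (c_0(E) ∩ α, …, c_r(E) ∩ α) through the defining relation Σ_i
(-1)^i c_1(O_P(1))^i ∩ p^*(γ_{r-i}) ∼_rat 0 on P, and classes are compared up to rational
equivalence of representing cycles. -/
theorem result (X : Scheme.{u}) (δ : X → ℤ) (hX : Cyc.IsSetup X δ) (m : ℕ) (E : Fin m → X.Modules) (rk : Fin m → ℕ) (hE : ∀ i, FlatMod.IsFinLocFreeOfRank (rk i) (E i)) : ∃ (P : Scheme.{u}) (π : P ⟶ X) (d : ℕ), RelProj.IsLocallyProjective π ∧ IsProper π ∧ Flat π ∧ Cyc.HasRelDim π d ∧ (∀ (Y : Scheme.{u}) (f : Y ⟶ X) [LocallyOfFiniteType f] (δY : Y → ℤ), Cyc.IsSetup Y δY → Cyc.DeltaCompat f δY δ → ∀ (PY : Scheme.{u}) (πY : PY ⟶ Y) (g : PY ⟶ P), IsPullback g πY π f → ∀ (δPY : PY → ℤ), Cyc.IsSetup PY δPY → Cyc.DeltaCompat πY δPY δY → ∀ (k : ℤ) (α : AlgebraicCycle Y ℤ), α ∈ Cyc.Zk Y δY k → ∀ β : AlgebraicCycle PY ℤ, ⇑β = Cyc.pullFun πY δPY δY d ⇑α → Cyc.RatEquivZero δPY (k + d) β → Cyc.RatEquivZero δY k α) ∧ (∀ i : Fin m, ∃ (M : Fin (rk i + 1) → P.Modules) (L : Fin (rk i) → P.Modules) (a : ∀ j : Fin (rk i), M (Fin.castSucc j) ⟶ M (Fin.succ j)) (b : ∀ j : Fin (rk i), M (Fin.succ j) ⟶ L j), IsZero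 (M 0) ∧ Nonempty (M (Fin.last (rk i)) ≅ (Scheme.Modules.pullback π).obj (E i)) ∧ (∀ j, PicF.IsInvertible (L j)) ∧ ∀ j, ∃ h : a j ≫ b j = 0, (ShortComplex.mk (a j) (b j) h).ShortExact) := by
  classical
  open Groth.Agent in
  open Groth.Agent.H23.Chern in
  obtain ⟨P, π, d, hT, hF⟩ := exists_split_fin m E rk hE
  refine ⟨P, π, d, H28.TowerProj.isLocallyProjective_tower hT, hT.proper, hT.flat, hT.hasRelDim hX,
    fun Y f _ δY hY _ PY πY g hsq δPY _ hδ k α hα β hβ h0 =>
      (hT.baseChange hsq).injective hY hδ hα β hβ h0, fun i => ?_⟩
  obtain ⟨M, L, h0, he, hs⟩ := H28.TowerProj.exists_chain (hF i)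
  choose hL a b w hw using fun j : Fin (rk i) => hs j.1 j.2
  exact ⟨fun j => M j.1, fun j => L j.1, a, b, h0, he, hL, fun j => ⟨w j, hw j⟩⟩

end Groth.Agent.S12673
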