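import Groth.Statements.S12675
import Groth.Agent.H23.Chern.Basic
import Groth.Agent.H23.C1Pull
import Groth.Agent.H23.SecIso
import Groth.Agent.SeesawX.Crit
import Groth.Agent.SeesawX.Basic
-- import your own Groth.Agent.* helpers here

set_option autoImplicit false
universe u
open CategoryTheory CategoryTheory.Limits AlgebraicGeometry
open Cyc
open Groth.Agent Groth.Agent.H23

namespace Groth.Agent.S12675

/-- Suppose X is integral of δ-dimension n and L is an O_X-module that is invertible; then L's first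
Chern class on X, taken in the sense of the projective-bundle characterisation (rank r = 1), agrees
with the Weil divisor class c_1(L) ∩ [X] of L (the divisor of a nonzero rational section,
Cyc.c1CapFun on the cycle [X]_n). The projective bundle of L is given abstractly by its universal
property, so the identification P(L) = X, O(1) = L is part of what is asserted. Setting: (X, δ) with
Cyc.IsSetup stands for a scheme locally of finite type over the base (S, δ) (X locally Noetherian
with universally catenary local rings, δ a dimension function); (p : P → X, O_P(1), q) is the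
projective bundle of E given by its universal property (KRR.IsProjBundle), p is proper and δP is the
induced dimension function (Cyc.DeltaCompat); a tuple γ with Cyc.IsChernCap represents (c_0(E) ∩ α,
…, c_r(E) ∩ α) through the defining relation Σ_i (-1)^i c_1(O_P(1))^i ∩ p^*(γ_{r-i}) ∼_rat 0 on P,
and classes are compared up to rational equivalence of representing cycles. -/
theorem result (X : Scheme.{u}) (δ : X → ℤ) (hX : Cyc.IsSetup X δ) [IsIntegral X] (n : ℤ) (hn : δ (genericPoint X) = n) (L : X.Modules) (hL : PicF.IsInvertible L) (hPE : FlatMod.IsFinLocFreeOfRank 1 L) (P : Scheme.{u}) (p : P ⟶ X) (O1 : P.Modules) (q : (Scheme.Modules.pullback p).obj L ⟶ O1) (hP : KRR.IsProjBundle p L O1 q) [IsProper p] (δP : P → ℤ) (hPs : Cyc.IsSetup P δP) (hδ : Cyc.DeltaCompat p δP δ) (α : AlgebraicCycle X ℤ) (hα : ⇑α = Cyc.subschemeFun δ n (𝟙 X)) (γ : Fin 2 → AlgebraicCycle X ℤ) (hγ : Cyc.IsChernCap p δ δP O1 1 n α γ) (s : (ξ : X) → Cyc.secFibre L ξ) (hs : ∀ ξ, s ξ ≠ 0) (β : AlgebraicCycle X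 ℤ) (hβ : ⇑β = Cyc.c1CapFun δ L ⇑α s) : Cyc.RatEquiv δ (n - 1) (γ 1) β := by  classical
  haveI := hX.1
  haveI := hPs.1
  have hd := hPs.2.2
  have hdX := hX.2.2
  have hc := ProjBd.hasCoords_of_projBundle (n := 0) hP hPE
  haveI := hc.flat
  haveI : Epi q := hP.epi
  haveI : IsIso q := SeesawX.isIso_of_epi_rank
    (SeesawX.isFinLocFreeOfRank_one (PicClLib.isInvertible_pullback p hL)) hP.invertible q
  let e := asIso q
  have hαk : α ∈ Cyc.Zk X δ n := fun x hx => by rw [hα, Cyc.subschemeFun, if_neg hx]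
  have hrel := Chern.relSum_mem hc hd hδ n α γ hγ
  rw [Chern.relSum, Fin.sum_univ_two] at hrel
  simp only [Fin.val_zero, pow_zero, one_smul, Fin.val_one, pow_one, neg_smul, ← sub_eq_add_neg] at hrel
  rw [show Fin.rev (0 : Fin 2) = 1 from rfl, show Fin.rev (1 : Fin 2) = 0 from rfl, hγ.1] at hrel
  have hcoe : ∀ a, hc.cl hd hδ 0 a = hc.pullCycle hd hδ a := fun a => hc.cl_eq hd hδ 0 a
  have h1 : hc.cl hd hδ 0 β - hc.cl hd hδ 1 α ∈ ProjBd.ratZero hd (n - 1) := by
    have h := C1Pull.ratEquiv_pull (p := p) hL (PicClLib.isInvertible_pullback p hL) (hc.hasShift hd hδ) hdX hd α hαk hs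
      (u := fun ξ => RatSec.mapSec e.symm ξ (hc.sec 0 ξ)) (RatSec.mapSec_ne_zero e.symm (hc.sec_ne_zero 0))
      (γ₁ := hc.cl hd hδ 0 β) (γ₂ := hc.cl hd hδ 1 α)
      (by rw [hcoe, ← hβ]; rfl)
      (by rw [hc.cl_eq, RatSec.c1CapFun_mapSec e.symm hc.invertible (PicClLib.isInvertible_pullback p hL) hd _
            (hc.sec_ne_zero 0)]; rfl)
    rw [show n + ((0 : ℕ) : ℤ) - 1 = n - 1 by simp] at h
    exact h
  have h2 : hc.cl hd hδ 0 (γ 1 - β) ∈ ProjBd.ratZero hd (n - 1) := by
    have := (ProjBd.ratZero hd (n - 1)).sub_mem hrel h1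
    rwa [sub_sub_sub_cancel_right, ← map_sub] at this
  have hmem : γ 1 - β ∈ Cyc.Zk X δ (n - 1) := fun x hx => by
    rw [Function.locallyFinsuppWithin.coe_sub, Pi.sub_apply, hβ,
      ProjBd.cap_mem_Zk hL hdX (k := n - 1) (by rwa [sub_add_cancel]) s hx]
    rw [hγ.2.1 1 x (by simpa using hx), sub_zero]
  have h3 := hc.independent hX hPs hδ (k := n - 1) (fun _ => γ 1 - β)
    (fun i => by fin_cases i; simpa using hmem) (fun _ _ => hc.sec 0) (fun _ _ => hc.sec_ne_zero 0)
    (fun _ m => ⇑(ProjBd.capIter hc.invertible hd (hc.pullCycle hd hδ (γ 1 - β)) (fun _ => hc.sec 0)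
      (fun _ => hc.sec_ne_zero 0) m)) (fun _ => rfl) (fun _ _ => rfl) (hc.cl hd hδ 0 (γ 1 - β))
    (fun x => by rw [Fin.sum_univ_one, hc.cl_eq]; rfl)
    (show hc.cl hd hδ 0 (γ 1 - β) ∈ ProjBd.ratZero hd (n - 1 + (0 : ℕ)) by rwa [Nat.cast_zero, add_zero]) 0
  simp only [Fin.val_zero, Nat.cast_zero, add_zero] at h3
  exact h3


end Groth.Agent.S12675
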