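import Groth.Statements.S12676
import Groth.Agent.H23.GraphFlat
import Groth.Agent.H23.ClEq
import Groth.Agent.H23.PushClass
import Groth.Agent.PnCoh.Chow.Proper
import Groth.Agent.CycLib.CurveDeg
-- import your own Groth.Agent.* helpers here

set_option autoImplicit false
universe u
open CategoryTheory CategoryTheory.Limits AlgebraicGeometry
attribute [local instance] HasDerivedCategory.standard
open IntMult
open Groth.Agent Groth.Agent.H23

namespace Groth.Agent.S12676

/-- Let f : X → Y be a morphism of nonsingular projective varieties over an algebraically closed field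
and define f^*α = pr_{X,*}(Γ_f · pr_Y^*α) on Chow groups, with Γ_f ⊂ X × Y the graph and · the
intersection product of the nonsingular projective variety X × Y. If f is flat, f^*α agrees with the
flat pullback of α (relative dimension dim X - dim Y). Here X, Y and X × Y are nonsingular varieties
over the algebraically closed field K (smooth, separated, quasi-compact, integral) embedded as
closed subschemes of projective spaces over K, with dimension functions the transcendence degree
(Cyc.IsSetup, Cyc.DeltaCompat to Spec K with value 0) and dimensions pinned at the generic points;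
the product on CH_*(X × Y) is any mul with ChowOps.IsChowMul (it agrees with the Tor-formula product
IntMult.interProd on properly meeting cycles, which determines it); [Γ_f] is the prime cycle of the
image of the generic point of X under the graph morphism, pr_Y^* and f^* are coefficientwise flat
pullbacks (Cyc.pullFun), pr_{X,*} is the proper pushforward of a representing cycle, and the two
sides are compared up to rational equivalence on X. (Parts (1)–(3) of the published statement — f^*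
is a ring map, functoriality, projection formula — are not stated here.) -/
theorem result (K : Type u) [Field K] [IsAlgClosed K] (X : Scheme.{u}) (fX : X ⟶ Spec (CommRingCat.of K)) [Smooth fX] [IsSeparated fX] [QuasiCompact fX] [IsIntegral X] (δX : X → ℤ) (hX : Cyc.IsSetup X δX) (hδX : Cyc.DeltaCompat fX δX (fun _ => 0)) (dX : ℕ) (hdX : δX (genericPoint X) = dX) (NX : ℕ) (ιX : X ⟶ CohB1.ProjSpace NX K) [IsClosedImmersion ιX] (hιX : ιX ≫ CohB1.ProjSpace.toSpec NX K = fX) (Y : Scheme.{u}) (fY : Y ⟶ Spec (CommRingCat.of K)) [Smooth fY] [IsSeparated fY] [QuasiCompact fY] [IsIntegral Y] (δY : Y → ℤ) (hY : Cyc.IsSetup Y δY) (hδY : Cyc.DeltaCompat fY δY (fun _ => 0)) (dY : ℕ) (hdY : δY (genericPoint Y) = dY) (NY : ℕ) (ιY : Y ⟶ CohB1.ProjSpace NY K) [IsClosedImmersion ιY] (hιY : ιY ≫ CohB1.ProjSpace.toSpec NY K = fY) (f : X ⟶ Y) (hf : f ≫ fY = fX) [Flat f] [IsIntegral (pullback fX fY)] (δW : ↥(pullback fX fY) → ℤ) (hW : Cyc.IsSetup (pullback fX fY) δW) (hδW : Cyc.DeltaCompat (pullback.fst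 fX fY ≫ fX) δW (fun _ => 0)) (hdW : δW (genericPoint ↥(pullback fX fY)) = (dX : ℤ) + (dY : ℤ)) (NW : ℕ) (ιW : (pullback fX fY) ⟶ CohB1.ProjSpace NW K) [IsClosedImmersion ιW] (hιW : ιW ≫ CohB1.ProjSpace.toSpec NW K = pullback.fst fX fY ≫ fX) (mul : (r s : ℤ) → ChowOps.CH (pullback fX fY) δW r → ChowOps.CH (pullback fX fY) δW s → ChowOps.CH (pullback fX fY) δW (r + s - ((dX : ℤ) + (dY : ℤ)))) (hmul : ChowOps.IsChowMul (pullback fX fY) δW ((dX : ℤ) + (dY : ℤ)) mul) (γ : AlgebraicCycle (pullback fX fY) ℤ) (hγ : ⇑γ = Set.indicator {(pullback.lift (𝟙 X) f (Eq.trans (Category.id_comp fX) hf.symm)) (genericPoint X)} 1) (hγk : γ ∈ Cyc.Zk (pullback fX fY) δW (dX : ℤ)) (k : ℤ) (α : AlgebraicCycle Y ℤ) (hα : α ∈ Cyc.Zk Y δY k) (αW : AlgebraicCycle (pullback fX fY) ℤ) (hαW : ⇑αW = Cyc.pullFun (pullback.snd fX fY) δW δY (dX : ℤ) ⇑α) (hαWk : αW ∈ Cyc.Zk (pullback fX fY) δW (k + dX)) (ζ : AlgebraicCycle (pullback fX fY) ℤ) (hζk : ζ ∈ Cyc.Zk (pullback fX fY) δW ((dX : ℤ) + (k + dX) - ((dX :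 ℤ) + (dY : ℤ)))) (hζ : ChowOps.cl ζ hζk = mul (dX : ℤ) (k + dX) (ChowOps.cl γ hγk) (ChowOps.cl αW hαWk)) (αX : AlgebraicCycle X ℤ) (hαX : ⇑αX = Cyc.pullFun f δX δY ((dX : ℤ) - (dY : ℤ)) ⇑α) : Cyc.RatEquiv δX (k + dX - dY) (AlgebraicCycle.map (pullback.fst fX fY) δW δX ζ) αX := by
  haveI : IsProper (CohB1.ProjSpace.toSpec NY K) := PnCoh.Chow.isProper_toSpec NY _
  haveI : IsProper fY := hιY ▸ inferInstanceAs (IsProper (ιY ≫ CohB1.ProjSpace.toSpec NY K))
  set γg : X ⟶ pullback fX fY := pullback.lift (𝟙 X) f (Eq.trans (Category.id_comp fX) hf.symm) with hγg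
  have h1 : γg ≫ pullback.fst fX fY = 𝟙 X := pullback.lift_fst _ _ _
  have h2 : γg ≫ pullback.snd fX fY = f := pullback.lift_snd _ _ _
  haveI : IsClosedImmersion (γg ≫ pullback.fst fX fY) := h1 ▸ inferInstance
  haveI : IsClosedImmersion γg := IsClosedImmersion.of_comp γg (pullback.fst fX fY)
  haveI : Flat (γg ≫ pullback.snd fX fY) := h2 ▸ inferInstance
  have hgW : γg ≫ pullback.fst fX fY ≫ fX = fX := by rw [← Category.assoc, h1, Category.id_comp]
  have hα' : ∀ y, δY y ≠ k → α y = 0 := hα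
  obtain ⟨hprop, heq⟩ := GraphFlat.interProd_graph γg (pullback.snd fX fY) fX fY (pullback.fst fX fY ≫ fX) hgW
    hX.2.2 hY.2.2 hW.2.2 hδX hδY hδW hdX hdY hdW (CycleClassK.lfPts_cycle α) hα' αX (by rw [hαX, h2])
  have hδ : δX = fun x => δW (γg x) := GraphFlat.delta_graph γg fX _ hgW hδX hδW
  have hXk : αX ∈ Cyc.Zk X δX (k + dX - dY) := fun x hx => by
    rw [hαX, Cyc.pullFun]
    split_ifs with h
    · by_cases h0 : α (f x) = 0
      · rw [h0, zero_mul]
      · exact absurd (show δX x = k + dX - dY by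
          have : δY (f x) = k := by_contra fun h' => h0 (hα' _ h')
          omega) hx
    · rfl
  have hlev : (dX : ℤ) + (k + dX) - ((dX : ℤ) + (dY : ℤ)) = k + dX - dY := by ring
  have hζ'k : AlgebraicCycle.map γg δX δW αX ∈
      Cyc.Zk (pullback fX fY) δW ((dX : ℤ) + (k + dX) - ((dX : ℤ) + (dY : ℤ))) :=
    hlev ▸ Bivar.cycMap_mem_Zk γg δX δW _ hXk
  have hcl : ChowOps.cl ζ hζk = ChowOps.cl (AlgebraicCycle.map γg δX δW αX) hζ'k := by
    rw [hζ]
    exact hmul _ _ γ αW hγk hαWk (by rw [hγ, hαW]; exact hprop) _ hζ'k (by rw [hγ, hαW]; exact heq)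
  have hδfst : Cyc.DeltaCompat (pullback.fst fX fY) δW δX := by
    have h := CycLib.deltaCompat_of_comp (pullback.fst fX fY) fX hδX (pullback.fst fX fY ≫ fX) rfl
    rwa [ChowDesc.deltaCompat_unique _ hδW (CycLib.deltaCompat_rd _)]
  have hpush := congrArg (PushClass.mapCH (pullback.fst fX fY) hW hX hδfst _) hcl
  rw [PushClass.mapCH_cl, PushClass.mapCH_cl] at hpush
  have hid : AlgebraicCycle.map (pullback.fst fX fY) δW δX (AlgebraicCycle.map γg δX δW αX) = αX := by
    rw [CycLib.map_map γg (pullback.fst fX fY) (hδ ▸ GysinLib.deltaCompat_closedImmersion γg δW) hδfst]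
    exact (by simp only [h1, AlgebraicCycle.map_id])
  rw [← hlev]
  haveI : IsLocallyNoetherian X := hX.1
  rw [← hid]
  exact ClEq.ratEquiv_of_cl_eq hX.2.2 hpush


end Groth.Agent.S12676
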