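import Groth.Statements.S12677
import Groth.Agent.H23.GraphSetup
-- import your own Groth.Agent.* helpers here

set_option autoImplicit false
set_option linter.style.haveILetI false
set_option backward.isDefEq.respectTransparency.types false
universe u
open CategoryTheory CategoryTheory.Limits AlgebraicGeometry
attribute [local instance] HasDerivedCategory.standard
open IntMult

open Groth.Agent.H23 Groth.Agent.H23.ChowMul

namespace Groth.Agent.S12677

/-- Let f : X → Y be a morphism of nonsingular projective varieties over an algebraically closed field,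
with f^*β = pr_{X,*}(Γ_f · pr_Y^*β) the pullback on Chow groups defined through the graph Γ_f ⊂ X ×
Y and the intersection product of X × Y. Then the projection formula f_*(α) · β = f_*(α · f^*β)
holds in CH_{a+b-dim Y}(Y) for α ∈ CH_a(X), β ∈ CH_b(Y). Here X, Y and X × Y are nonsingular
varieties over the algebraically closed field K (smooth, separated, quasi-compact, integral)
embedded as closed subschemes of projective spaces over K, with dimension functions the
transcendence degree (Cyc.IsSetup, Cyc.DeltaCompat to Spec K with value 0) and dimensions dX, dY, dX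
+ dY pinned at the generic points; the products on CH_*(X), CH_*(Y), CH_*(X × Y) are any mulX, mulY,
mul with ChowOps.IsChowMul; [Γ_f] is the prime cycle of the image of the generic point of X under
the graph morphism; pr_Y^* is the coefficientwise flat pullback, f_* and pr_{X,*} are proper
pushforwards of representing cycles (f is proper, carried as a hypothesis), and classes are compared
through representing cycles up to rational equivalence. (Parts (1), (2), (4) of the published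
statement are separate.) -/
theorem result (K : Type u) [Field K] [IsAlgClosed K] (X : Scheme.{u}) (fX : X ⟶ Spec (CommRingCat.of K)) [Smooth fX] [IsSeparated fX] [QuasiCompact fX] [IsIntegral X] (δX : X → ℤ) (hX : Cyc.IsSetup X δX) (hδX : Cyc.DeltaCompat fX δX (fun _ => 0)) (dX : ℕ) (hdX : δX (genericPoint X) = dX) (NX : ℕ) (ιX : X ⟶ CohB1.ProjSpace NX K) [IsClosedImmersion ιX] (hιX : ιX ≫ CohB1.ProjSpace.toSpec NX K = fX) (Y : Scheme.{u}) (fY : Y ⟶ Spec (CommRingCat.of K)) [Smooth fY] [IsSeparated fY] [QuasiCompact fY] [IsIntegral Y] (δY : Y → ℤ) (hY : Cyc.IsSetup Y δY) (hδY : Cyc.DeltaCompat fY δY (fun _ => 0)) (dY : ℕ) (hdY : δY (genericPoint Y) = dY) (NY : ℕ) (ιY : Y ⟶ CohB1.ProjSpace NY K) [IsClosedImmersion ιY] (hιY : ιY ≫ CohB1.ProjSpace.toSpec NY K = fY) (mulX : (r s : ℤ) → ChowOps.CH X δX r → ChowOps.CH X δX s → ChowOps.CH X δX (r + s - (dX : ℤ))) (hmulX : ChowOps.IsChowMul X δX (dX : ℤ) mulX) (mulY : (r s : ℤ) → ChowOps.CH Y δY r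 → ChowOps.CH Y δY s → ChowOps.CH Y δY (r + s - (dY : ℤ))) (hmulY : ChowOps.IsChowMul Y δY (dY : ℤ) mulY) (f : X ⟶ Y) (hf : f ≫ fY = fX) [IsIntegral (pullback fX fY)] (δW : ↥(pullback fX fY) → ℤ) (hW : Cyc.IsSetup (pullback fX fY) δW) (hδW : Cyc.DeltaCompat (pullback.fst fX fY ≫ fX) δW (fun _ => 0)) (hdW : δW (genericPoint ↥(pullback fX fY)) = (dX : ℤ) + (dY : ℤ)) (NW : ℕ) (ιW : (pullback fX fY) ⟶ CohB1.ProjSpace NW K) [IsClosedImmersion ιW] (hιW : ιW ≫ CohB1.ProjSpace.toSpec NW K = pullback.fst fX fY ≫ fX) (mul : (r s : ℤ) → ChowOps.CH (pullback fX fY) δW r → ChowOps.CH (pullback fX fY) δW s → ChowOps.CH (pullback fX fY) δW (r + s - ((dX : ℤ) + (dY : ℤ)))) (hmul : ChowOps.IsChowMul (pullback fX fY) δW ((dX : ℤ) + (dY : ℤ)) mul) (γ : AlgebraicCycle (pullback fX fY) ℤ) (hγ : ⇑γ = Set.indicator {(pullback.lift (𝟙 X) f (Eq.trans (Category.id_comp fX) hf.symm)) (genericPoint X)} 1) (hγk : γ ∈ Cyc.Zk (pullback fX fY) δW (dX : ℤ)) [IsProper f] (a b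 : ℤ) (α : AlgebraicCycle X ℤ) (hα : α ∈ Cyc.Zk X δX a) (β : AlgebraicCycle Y ℤ) (hβ : β ∈ Cyc.Zk Y δY b) (hfα : AlgebraicCycle.map f δX δY α ∈ Cyc.Zk Y δY a) (θ : AlgebraicCycle Y ℤ) (hθk : θ ∈ Cyc.Zk Y δY (a + b - (dY : ℤ))) (hθ : ChowOps.cl θ hθk = mulY a b (ChowOps.cl (AlgebraicCycle.map f δX δY α) hfα) (ChowOps.cl β hβ)) (βW : AlgebraicCycle (pullback fX fY) ℤ) (hβW : ⇑βW = Cyc.pullFun (pullback.snd fX fY) δW δY (dX : ℤ) ⇑β) (hβWk : βW ∈ Cyc.Zk (pullback fX fY) δW (b + dX)) (ζ : AlgebraicCycle (pullback fX fY) ℤ) (hζk : ζ ∈ Cyc.Zk (pullback fX fY) δW ((dX : ℤ) + (b + dX) - ((dX : ℤ) + (dY : ℤ)))) (hζ : ChowOps.cl ζ hζk = mul (dX : ℤ) (b + dX) (ChowOps.cl γ hγk) (ChowOps.cl βW hβWk)) (hβX : AlgebraicCycle.map (pullback.fst fX fY) δW δX ζ ∈ Cyc.Zk X δX ((dX : ℤ) + (b + dX) - ((dX : ℤ) + (dY : ℤ)))) (η : AlgebraicCycle X ℤ) (hηk : η ∈ Cyc.Zk X δX (a + ((dX : ℤ) + (b + dX) - ((dX : ℤ) + (dY : ℤ))) - (dX : ℤ))) (hη : ChowOps.cl η hηk = mulX a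 ((dX : ℤ) + (b + dX) - ((dX : ℤ) + (dY : ℤ))) (ChowOps.cl α hα) (ChowOps.cl (AlgebraicCycle.map (pullback.fst fX fY) δW δX ζ) hβX)) : Cyc.RatEquiv δY (a + b - dY) θ (AlgebraicCycle.map f δX δY η) := by
  haveI := hX.1
  haveI := hY.1
  haveI := hW.1
  haveI : IsProper fX := GraphSetup.isProper_of_embedding ιX hιX
  haveI : IsProper fY := GraphSetup.isProper_of_embedding ιY hιY
  haveI : Flat fX := AlgStLib.OnePt.flat_of_field fX
  haveI : Flat fY := AlgStLib.OnePt.flat_of_field fY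
  haveI hγc := GraphSetup.isClosedImmersion_graph fX fY hf
  set γg := pullback.lift (𝟙 X) f (Eq.trans (Category.id_comp fX) hf.symm)
  have MX := ChowMul.moving fX hX hδX hdX ιX hιX
  have MY := ChowMul.moving fY hY hδY hdY ιY hιY
  have MW := ChowMul.moving (pullback.fst fX fY ≫ fX) hW hδW hdW ιW hιW
  have hp := GraphSetup.compat_fst fX fY hδX hδW
  have hq := GraphSetup.compat_snd fX fY hδY hδW
  have hrp := GraphSetup.hasRelDim_fst fX fY hδY hdY
  have hrq := GraphSetup.hasRelDim_snd fX fY hδX hdX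
  have hδg : δX = fun x => δW (γg x) := GraphSetup.delta_graph fX fY hδX hδY hδW hf
  have hsh := FlatShift.hasShift_of_hasRelDim (pullback.fst fX fY) hrp hp
  set P := FlatClass.pullCycle hsh hW.2.2 α with hPdef
  have hPk : P ∈ Cyc.Zk (pullback fX fY) δW (a + dY) := FlatClass.pullCycle_mem hsh hW.2.2 hα rfl
  have hζp := ChowMul.of_mul MW hmul hζ
  obtain ⟨w, hwk, hw⟩ := ChowMul.exists_prod MW hPk hβWk
  obtain ⟨z, hzk, hz⟩ := ChowMul.exists_prod MW hγk hwk
  obtain ⟨ξ, hξk, hzξ⟩ := GraphChow.prod_closed γg MW hγ hγk hwk hz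
  have hu := GraphSetup.prod_graph fX fY hX hW hδX hδW hdX hdW hf hα hγ hγk (P := P) rfl hPk
  have hα2 : AlgebraicCycle.map γg δX δW α ∈
      Cyc.Zk (pullback fX fY) δW ((dX : ℤ) + (a + dY) - ((dX : ℤ) + dY)) := by
    rw [show (dX : ℤ) + (a + dY) - ((dX : ℤ) + dY) = a by ring]
    exact Bivar.cycMap_mem_Zk γg δX δW a hα
  obtain ⟨v, hvk, hv⟩ := ChowMul.exists_prod MW hα2 hβWk
  obtain ⟨x, hxk, hx⟩ := ChowMul.exists_prod MW hζk hPk
  have e1 := ChowMul.prod_assoc MW hγk hPk hβWk hu hv hw hz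
  have hz' : ChowMul.Prod δW ((dX : ℤ) + dY) dX (b + dX + (a + dY) - ((dX : ℤ) + dY)) γ w z := by
    rwa [show b + (dX : ℤ) + (a + dY) - ((dX : ℤ) + dY) = a + dY + (b + dX) - ((dX : ℤ) + dY) by ring]
  have e2 := ChowMul.prod_assoc MW hγk hβWk hPk hζp hx (ChowMul.prod_symm hw) hz'
  -- the target
  rw [show (dX : ℤ) + (a + dY) - ((dX : ℤ) + dY) = a by ring] at hv hα2
  have hθ' := GraphChow.prod_push (pullback.fst fX fY ≫ fX) fY (pullback.snd fX fY) pullback.condition.symm hδW hδY hq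
    hdW hdY (e := dX) (by ring) hrq MW MY hα2 hβ hβW hv
  have hqg : AlgebraicCycle.map (pullback.snd fX fY) δW δY (AlgebraicCycle.map γg δX δW α) =
      AlgebraicCycle.map f δX δY α := by
    rw [CycLib.map_map γg (pullback.snd fX fY) (hδg ▸ GysinLib.deltaCompat_closedImmersion γg δW) hq]
    simp only [γg, pullback.lift_snd]
  rw [hqg] at hθ'
  have eθ := ChowMul.unique MY (ChowMul.of_mul MY hmulY hθ) hθ'
  -- the source
  have hηp := GraphChow.prod_push (pullback.fst fX fY ≫ fX) fX (pullback.fst fX fY) rfl hδW hδX hp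
    hdW hdX (e := dY) (by ring) hrp MW MX hζk hα (P := P) rfl hx
  have eη := ChowMul.unique MX (ChowMul.prod_symm (ChowMul.of_mul MX hmulX hη)) hηp
  -- push forward
  have hid : AlgebraicCycle.map (pullback.fst fX fY) δW δX
      (AlgebraicCycle.map γg (fun x => δW (γg x)) δW ξ) = ξ := by
    rw [← hδg, CycLib.map_map γg (pullback.fst fX fY) (hδg ▸ GysinLib.deltaCompat_closedImmersion γg δW) hp]
    simp only [γg, pullback.lift_fst, AlgebraicCycle.map_id]
  have hsnd : AlgebraicCycle.map (pullback.snd fX fY) δW δY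
      (AlgebraicCycle.map γg (fun x => δW (γg x)) δW ξ) = AlgebraicCycle.map f δX δY ξ := by
    rw [← hδg, CycLib.map_map γg (pullback.snd fX fY) (hδg ▸ GysinLib.deltaCompat_closedImmersion γg δW) hq]
    simp only [γg, pullback.lift_snd]
  have hd := hW.2.2
  have k1 : (dX : ℤ) + (a + dY + (b + dX) - ((dX : ℤ) + dY)) - ((dX : ℤ) + dY) = a + b - dY := by ring
  have k2 : (dX : ℤ) + (b + dX + (a + dY) - ((dX : ℤ) + dY)) - ((dX : ℤ) + dY) = a + b - dY := by ring
  have k3 : (dX : ℤ) + (b + dX) - ((dX : ℤ) + dY) + a - dX = a + b - dY := by ring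
  rw [k1] at e1 hzξ
  rw [k2] at e2
  rw [k3] at eη
  have q1 := GraphChow.push_congr (pullback.snd fX fY) hW hY hq (ChowMul.trans hd e1 hzξ)
  rw [hsnd] at q1
  have p1 := GraphChow.push_congr (pullback.fst fX fY) hW hX hp (ChowMul.trans hd e2 hzξ)
  rw [hid] at p1
  have hδf : Cyc.DeltaCompat f δX δY := by
    have h := CycLib.deltaCompat_of_comp f fY hδY fX hf.symm
    rwa [ChowDesc.deltaCompat_unique _ hδX (CycLib.deltaCompat_rd _)]
  exact ChowMul.trans hY.2.2 eθ (ChowMul.trans hY.2.2 q1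
    (ChowMul.symm hY.2.2 (GraphChow.push_congr f hX hY hδf (ChowMul.trans hX.2.2 eη p1))))

end Groth.Agent.S12677
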