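import Groth.Statements.S12678
import Groth.Agent.H23.GraphSetup
-- import your own Groth.Agent.* helpers here

set_option autoImplicit false
set_option linter.style.haveILetI false
set_option backward.isDefEq.respectTransparency.types false
universe u
open CategoryTheory CategoryTheory.Limits AlgebraicGeometry
attribute [local instance] HasDerivedCategory.standard
open IntMult

open Groth.Agent.H23 Groth.Agent.H23.ChowMul

namespace Groth.Agent.S12678

/-- Let f : X → Y be a morphism of nonsingular projective varieties over an algebraically closed field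
and f^*α = pr_{X,*}(Γ_f · pr_Y^*α) the pullback on Chow groups defined through the graph Γ_f ⊂ X × Y
and the intersection product of X × Y. Then f^*(α · β) = f^*(α) · f^*(β) for α ∈ CH_a(Y), β ∈
CH_b(Y). Here X, Y and X × Y are nonsingular varieties over the algebraically closed field K
(smooth, separated, quasi-compact, integral) embedded as closed subschemes of projective spaces over
K, with dimension functions the transcendence degree (Cyc.IsSetup, Cyc.DeltaCompat to Spec K with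
value 0) and dimensions dX, dY, dX + dY pinned at the generic points; the products on CH_*(X),
CH_*(Y), CH_*(X × Y) are any mulX, mulY, mul with ChowOps.IsChowMul; [Γ_f] is the prime cycle of the
image of the generic point of X under the graph morphism; pr_Y^* is the coefficientwise flat
pullback and pr_{X,*} the proper pushforward of representing cycles, and classes are compared
through representing cycles up to rational equivalence. (The published part (1) says f^* is a ring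
map; the compatibility with the unit and additivity are not stated here; parts (2)–(4) are
separate.) -/
theorem result (K : Type u) [Field K] [IsAlgClosed K] (X : Scheme.{u}) (fX : X ⟶ Spec (CommRingCat.of K)) [Smooth fX] [IsSeparated fX] [QuasiCompact fX] [IsIntegral X] (δX : X → ℤ) (hX : Cyc.IsSetup X δX) (hδX : Cyc.DeltaCompat fX δX (fun _ => 0)) (dX : ℕ) (hdX : δX (genericPoint X) = dX) (NX : ℕ) (ιX : X ⟶ CohB1.ProjSpace NX K) [IsClosedImmersion ιX] (hιX : ιX ≫ CohB1.ProjSpace.toSpec NX K = fX) (Y : Scheme.{u}) (fY : Y ⟶ Spec (CommRingCat.of K)) [Smooth fY] [IsSeparated fY] [QuasiCompact fY] [IsIntegral Y] (δY : Y → ℤ) (hY : Cyc.IsSetup Y δY) (hδY : Cyc.DeltaCompat fY δY (fun _ => 0)) (dY : ℕ) (hdY : δY (genericPoint Y) = dY) (NY : ℕ) (ιY : Y ⟶ CohB1.ProjSpace NY K) [IsClosedImmersion ιY] (hιY : ιY ≫ CohB1.ProjSpace.toSpec NY K = fY) (mulX : (r s : ℤ) → ChowOps.CH X δX r → ChowOps.CH X δX s → ChowOps.CH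 X δX (r + s - (dX : ℤ))) (hmulX : ChowOps.IsChowMul X δX (dX : ℤ) mulX) (mulY : (r s : ℤ) → ChowOps.CH Y δY r → ChowOps.CH Y δY s → ChowOps.CH Y δY (r + s - (dY : ℤ))) (hmulY : ChowOps.IsChowMul Y δY (dY : ℤ) mulY) (f : X ⟶ Y) (hf : f ≫ fY = fX) [IsIntegral (pullback fX fY)] (δW : ↥(pullback fX fY) → ℤ) (hW : Cyc.IsSetup (pullback fX fY) δW) (hδW : Cyc.DeltaCompat (pullback.fst fX fY ≫ fX) δW (fun _ => 0)) (hdW : δW (genericPoint ↥(pullback fX fY)) = (dX : ℤ) + (dY : ℤ)) (NW : ℕ) (ιW : (pullback fX fY) ⟶ CohB1.ProjSpace NW K) [IsClosedImmersion ιW] (hιW : ιW ≫ CohB1.ProjSpace.toSpec NW K = pullback.fst fX fY ≫ fX) (mul : (r s : ℤ) → ChowOps.CH (pullback fX fY) δW r → ChowOps.CH (pullback fX fY) δW s → ChowOps.CH (pullback fX fY) δW (r + s - ((dX : ℤ) + (dY : ℤ)))) (hmul : ChowOps.IsChowMul (pullback fX fY) δW ((dX : ℤ) + (dY : ℤ)) mul) (γ : AlgebraicCycle (pullback fX fY) ℤ) (hγ : ⇑γ = Set.indicator {(pullback.lift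 (𝟙 X) f (Eq.trans (Category.id_comp fX) hf.symm)) (genericPoint X)} 1) (hγk : γ ∈ Cyc.Zk (pullback fX fY) δW (dX : ℤ)) (a b : ℤ) (α : AlgebraicCycle Y ℤ) (hα : α ∈ Cyc.Zk Y δY a) (β : AlgebraicCycle Y ℤ) (hβ : β ∈ Cyc.Zk Y δY b) (ρ : AlgebraicCycle Y ℤ) (hρk : ρ ∈ Cyc.Zk Y δY (a + b - (dY : ℤ))) (hρ : ChowOps.cl ρ hρk = mulY a b (ChowOps.cl α hα) (ChowOps.cl β hβ)) (αW : AlgebraicCycle (pullback fX fY) ℤ) (hαW : ⇑αW = Cyc.pullFun (pullback.snd fX fY) δW δY (dX : ℤ) ⇑α) (hαWk : αW ∈ Cyc.Zk (pullback fX fY) δW (a + dX)) (ζα : AlgebraicCycle (pullback fX fY) ℤ) (hζαk : ζα ∈ Cyc.Zk (pullback fX fY) δW ((dX : ℤ) + (a + dX) - ((dX : ℤ) + (dY : ℤ)))) (hζα : ChowOps.cl ζα hζαk = mul (dX : ℤ) (a + dX) (ChowOps.cl γ hγk) (ChowOps.cl αW hαWk)) (hαX : AlgebraicCycle.map (pullback.fst fX fY) δW δX ζα ∈ Cyc.Zk X δX ((dX : ℤ) + (a + dX) - ((dX : ℤ) + (dY : ℤ)))) (βW : AlgebraicCycle (pullback fX fY) ℤ) (hβW : ⇑βW = Cyc.pullFun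 (pullback.snd fX fY) δW δY (dX : ℤ) ⇑β) (hβWk : βW ∈ Cyc.Zk (pullback fX fY) δW (b + dX)) (ζβ : AlgebraicCycle (pullback fX fY) ℤ) (hζβk : ζβ ∈ Cyc.Zk (pullback fX fY) δW ((dX : ℤ) + (b + dX) - ((dX : ℤ) + (dY : ℤ)))) (hζβ : ChowOps.cl ζβ hζβk = mul (dX : ℤ) (b + dX) (ChowOps.cl γ hγk) (ChowOps.cl βW hβWk)) (hβX : AlgebraicCycle.map (pullback.fst fX fY) δW δX ζβ ∈ Cyc.Zk X δX ((dX : ℤ) + (b + dX) - ((dX : ℤ) + (dY : ℤ)))) (ρW : AlgebraicCycle (pullback fX fY) ℤ) (hρW : ⇑ρW = Cyc.pullFun (pullback.snd fX fY) δW δY (dX : ℤ) ⇑ρ) (hρWk : ρW ∈ Cyc.Zk (pullback fX fY) δW ((a + b - (dY : ℤ)) + dX)) (ζρ : AlgebraicCycle (pullback fX fY) ℤ) (hζρk : ζρ ∈ Cyc.Zk (pullback fX fY) δW ((dX : ℤ) + ((a + b - (dY : ℤ)) + dX) - ((dX : ℤ) + (dY : ℤ)))) (hζρ : ChowOps.cl ζρ hζρk = mul (dX : ℤ) ((a + b - (dY : ℤ)) + dX) (ChowOps.cl γ hγk) (ChowOps.cl ρW hρWk)) (hρX : AlgebraicCycle.map (pullback.fst fX fY) δW δX ζρ ∈ Cyc.Zk X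 δX ((dX : ℤ) + ((a + b - (dY : ℤ)) + dX) - ((dX : ℤ) + (dY : ℤ)))) (η : AlgebraicCycle X ℤ) (hηk : η ∈ Cyc.Zk X δX (((dX : ℤ) + (a + dX) - ((dX : ℤ) + (dY : ℤ))) + ((dX : ℤ) + (b + dX) - ((dX : ℤ) + (dY : ℤ))) - (dX : ℤ))) (hη : ChowOps.cl η hηk = mulX ((dX : ℤ) + (a + dX) - ((dX : ℤ) + (dY : ℤ))) ((dX : ℤ) + (b + dX) - ((dX : ℤ) + (dY : ℤ))) (ChowOps.cl (AlgebraicCycle.map (pullback.fst fX fY) δW δX ζα) hαX) (ChowOps.cl (AlgebraicCycle.map (pullback.fst fX fY) δW δX ζβ) hβX)) : Cyc.RatEquiv δX (a + b + dX - 2 * dY) (AlgebraicCycle.map (pullback.fst fX fY) δW δX ζρ) η := by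
  haveI := hX.1
  haveI := hY.1
  haveI := hW.1
  haveI : IsProper fY := GraphSetup.isProper_of_embedding ιY hιY
  haveI : Flat fX := AlgStLib.OnePt.flat_of_field fX
  haveI : Flat fY := AlgStLib.OnePt.flat_of_field fY
  haveI hγc := GraphSetup.isClosedImmersion_graph fX fY hf
  set γg := pullback.lift (𝟙 X) f (Eq.trans (Category.id_comp fX) hf.symm)
  have MX := ChowMul.moving fX hX hδX hdX ιX hιX
  have MY := ChowMul.moving fY hY hδY hdY ιY hιY
  have MW := ChowMul.moving (pullback.fst fX fY ≫ fX) hW hδW hdW ιW hιW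
  have hp := GraphSetup.compat_fst fX fY hδX hδW
  have hq := GraphSetup.compat_snd fX fY hδY hδW
  have hrp := GraphSetup.hasRelDim_fst fX fY hδY hdY
  have hrq := GraphSetup.hasRelDim_snd fX fY hδX hdX
  have hδg : δX = fun x => δW (γg x) := GraphSetup.delta_graph fX fY hδX hδY hδW hf
  have hd := hW.2.2
  set cα := (dX : ℤ) + (a + dX) - ((dX : ℤ) + dY) with hcα
  set cβ := (dX : ℤ) + (b + dX) - ((dX : ℤ) + dY) with hcβ
  have hpa := ChowMul.of_mul MW hmul hζα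
  have hpb := ChowMul.of_mul MW hmul hζβ
  have hpr := ChowMul.of_mul MW hmul hζρ
  -- the product pulled back to the product
  have hR := GraphChow.prod_pull (pullback.fst fX fY ≫ fX) fY (pullback.snd fX fY) pullback.condition.symm hδW hδY hq
    hdW hdY (e := dX) (by ring) hrq MW MY hαW hβW hρW (ChowMul.of_mul MY hmulY hρ)
  -- the first factor, pulled back from the source
  set wα := AlgebraicCycle.map (pullback.fst fX fY) δW δX ζα with hwα
  have hwαk : wα ∈ Cyc.Zk X δX cα := hαX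
  have hsh := FlatShift.hasShift_of_hasRelDim (pullback.fst fX fY) hrp hp
  set P := FlatClass.pullCycle hsh hW.2.2 wα
  have hPk : P ∈ Cyc.Zk (pullback fX fY) δW (cα + dY) := FlatClass.pullCycle_mem hsh hW.2.2 hwαk rfl
  obtain ⟨ξ, hξk, hzξ⟩ := GraphChow.prod_closed γg MW hγ hγk hαWk hpa
  have hid : AlgebraicCycle.map (pullback.fst fX fY) δW δX
      (AlgebraicCycle.map γg (fun x => δW (γg x)) δW ξ) = ξ := by
    rw [← hδg, CycLib.map_map γg (pullback.fst fX fY) (hδg ▸ GysinLib.deltaCompat_closedImmersion γg δW) hp]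
    simp only [γg, pullback.lift_fst, AlgebraicCycle.map_id]
  have hwξ : Cyc.RatEquiv δX cα wα ξ := by
    have h := GraphChow.push_congr (pullback.fst fX fY) hW hX hp hzξ
    rwa [hid] at h
  have hback : Cyc.RatEquiv δW cα (AlgebraicCycle.map γg δX δW wα) ζα := by
    refine ChowMul.trans hd (GraphChow.push_congr γg hX hW
      (hδg ▸ GysinLib.deltaCompat_closedImmersion γg δW) hwξ) (ChowMul.symm hd ?_)
    rwa [← hδg] at hzξ
  have hgr := GraphSetup.prod_graph fX fY hX hW hδX hδW hdX hdW hf hwαk hγ hγk (P := P) rfl hPk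
  have hP : ChowMul.Prod δW ((dX : ℤ) + dY) dX (cα + dY) γ P ζα := by
    refine ChowMul.congr MW hgr (ChowMul.refl _) (ChowMul.refl _) ?_
    rwa [show (dX : ℤ) + (cα + dY) - ((dX : ℤ) + dY) = cα by ring]
  -- products
  obtain ⟨y, hyk, hy⟩ := ChowMul.exists_prod MW hζβk hPk
  obtain ⟨y₂, hy₂k, hy₂⟩ := ChowMul.exists_prod MW hζαk hβWk
  obtain ⟨w₁, hw₁k, hw₁⟩ := ChowMul.exists_prod MW hPk hβWk
  obtain ⟨z₁, hz₁k, hz₁⟩ := ChowMul.exists_prod MW hγk hw₁k
  have hz₁' : ChowMul.Prod δW ((dX : ℤ) + dY) dX (b + dX + (cα + dY) - ((dX : ℤ) + dY)) γ w₁ z₁ := by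
    rwa [show b + (dX : ℤ) + (cα + dY) - ((dX : ℤ) + dY) = cα + dY + (b + dX) - ((dX : ℤ) + dY) by ring]
  have e1 := ChowMul.prod_assoc MW hγk hβWk hPk hpb hy (ChowMul.prod_symm hw₁) hz₁'
  have hy₂' : ChowMul.Prod δW ((dX : ℤ) + dY) ((dX : ℤ) + (cα + dY) - ((dX : ℤ) + dY)) (b + dX) ζα βW y₂ := by
    rwa [show (dX : ℤ) + (cα + dY) - ((dX : ℤ) + dY) = cα by ring]
  have e2 := ChowMul.prod_assoc MW hγk hPk hβWk hP hy₂' hw₁ hz₁
  have hρ' : ChowMul.Prod δW ((dX : ℤ) + dY) dX (a + dX + (b + dX) - ((dX : ℤ) + dY)) γ ρW ζρ := by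
    rwa [show a + (dX : ℤ) + (b + dX) - ((dX : ℤ) + dY) = a + b - dY + dX by ring]
  have e3 := ChowMul.prod_assoc MW hγk hαWk hβWk hpa hy₂ hR hρ'
  -- the product on the source
  have hη' := GraphChow.prod_push (pullback.fst fX fY ≫ fX) fX (pullback.fst fX fY) rfl hδW hδX hp
    hdW hdX (e := dY) (by ring) hrp MW MX hζβk hwαk (P := P) rfl hy
  have eη := ChowMul.unique MX (ChowMul.prod_symm (ChowMul.of_mul MX hmulX hη)) hη'
  have k : a + b + (dX : ℤ) - 2 * dY = cβ + cα - dX := by rw [hcα, hcβ]; ring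
  rw [k]
  have k1 : (dX : ℤ) + (b + dX + (cα + dY) - ((dX : ℤ) + dY)) - ((dX : ℤ) + dY) = cβ + cα - dX := by rw [hcβ]; ring
  have k2 : (dX : ℤ) + (cα + dY + (b + dX) - ((dX : ℤ) + dY)) - ((dX : ℤ) + dY) = cβ + cα - dX := by rw [hcβ]; ring
  have k3 : (dX : ℤ) + (a + dX + (b + dX) - ((dX : ℤ) + dY)) - ((dX : ℤ) + dY) = cβ + cα - dX := by
    rw [hcα, hcβ]; ring
  rw [k1] at e1
  rw [k2] at e2
  rw [k3] at e3
  have p1 := GraphChow.push_congr (pullback.fst fX fY) hW hX hp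
    (ChowMul.trans hd (ChowMul.symm hd e3) (ChowMul.trans hd e2 (ChowMul.symm hd e1)))
  exact ChowMul.trans hX.2.2 p1 (ChowMul.symm hX.2.2 eη)

end Groth.Agent.S12678
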