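import Groth.Statements.S1268
import Groth.Agent.RG.OpenModel
-- import your own Groth.Agent.* helpers here

set_option autoImplicit false
universe u
open FlatMor

namespace Groth.Agent.S1268

set_option backward.isDefEq.respectTransparency false
set_option backward.isDefEq.respectTransparency.types false
set_option linter.style.haveILetI false
set_option maxHeartbeats 2000000

open TensorProduct

attribute [local instance] Algebra.TensorProduct.rightAlgebra

open AlgebraicGeometry CategoryTheory TensorProduct in
/-- Ring form, X = Spec S and S = Spec R affine: let S be a finitely presented R-algebra, N a finitely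
presented S-module and q a prime of S over p with N_q flat over R. Then there is an étale R-algebra
R' with a prime p' over p having the same residue field such that, for the base changes S', N' of S,
N to R' (any models), there is an S'-algebra C with Spec C → Spec S' an open immersion (an affine
open U' of X ×_S S'), containing a point lying over both q and p' (there is exactly one such point
of X ×_S S'), such that C ⊗_{S'} N' (the sections of the pulled-back module over U') is a projective
R'-module. -/
theorem result {R S : Type u} [CommRing R] [CommRing S] [Algebra R S] [Algebra.FinitePresentation R S]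
    (N : Type u) [AddCommGroup N] [Module S N] [Module R N] [IsScalarTower R S N] [Module.FinitePresentation S N]
    (p : Ideal R) [p.IsPrime] (q : Ideal S) [q.IsPrime] [q.LiesOver p] (hflat : FlatCA.FlatAt R q N) :
    ∃ (R' : Type u) (_ : CommRing R') (_ : Algebra R R') (p' : Ideal R') (_ : p'.IsPrime), FlatCA.IsEtaleNhd R R' p p' ∧
      ∀ (S' N' : Type u) [CommRing S'] [Algebra R S'] [Algebra S S'] [Algebra R' S'] [IsScalarTower R S S'] [IsScalarTower R R' S']
        [Algebra.IsPushout R S R' S']
        [AddCommGroup N'] [Module S' N'] [Module S N'] [IsScalarTower S S' N']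
        (f : N →ₗ[S] N'), IsBaseChange S' f →
        ∃ (C : Type u) (_ : CommRing C) (_ : Algebra S' C) (_ : Algebra R' C) (_ : IsScalarTower R' S' C)
          (x' : Ideal C) (_ : x'.IsPrime),
          IsOpenImmersion (Spec.map (CommRingCat.ofHom (algebraMap S' C))) ∧
          (x'.comap (algebraMap S' C)).LiesOver q ∧ (x'.comap (algebraMap S' C)).LiesOver p' ∧
          Module.Projective R' (RestrictScalars R' C (C ⊗[S'] N')) := by
  obtain ⟨R', _, _, p', _, hR, H⟩ := RG.exists_free_open (R := R) (S := S) N p q hflat
  haveI := hR.1
  obtain ⟨hoA, hκA⟩ := RG.residue_bijective_atPrime p'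
  haveI := hoA
  haveI : Algebra.FormallyEtale R' (Localization.AtPrime p') := Algebra.FormallyEtale.of_isLocalization p'.primeCompl
  obtain ⟨h, x, _, hhx, hxq, hxA, hfree⟩ := H (Localization.AtPrime p') hκA
  obtain ⟨h', g, hg, ⟨y, hy, hy', hyq, hyp⟩, hproj⟩ :=
    RG.exists_projective_piece N R' p' (Localization.AtPrime p') q h x hhx hxq
  haveI := hy
  haveI := hyp
  haveI := hproj
  obtain ⟨hp1, hp2⟩ := RG.map_away_isPrime (A₁ := Localization.Away g) g p' hg
  haveI := hp1
  haveI : (p'.map (algebraMap R' (Localization.Away g))).LiesOver p' := ⟨hp2.symm⟩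
  have hnhd : FlatCA.IsEtaleNhd R' (Localization.Away g) p' (p'.map (algebraMap R' (Localization.Away g))) :=
    RG.isEtaleNhd_away g p' _
  refine ⟨Localization.Away g, inferInstance, inferInstance, p'.map (algebraMap R' (Localization.Away g)), hp1,
    RG.isEtaleNhd_trans hR hnhd, ?_⟩
  intro S' N' _ _ _ _ _ _ _ _ _ _ _ f hf
  obtain ⟨hpL, hκ⟩ := hnhd.2
  exact RG.projective_piece_model N R' (Localization.Away g) p' _ hκ h' q y hy' hyq S' N' f hf

end Groth.Agent.S1268
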