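import Groth.Statements.S12680
import Groth.Agent.QRel17.Ample

set_option backward.isDefEq.respectTransparency false
set_option backward.isDefEq.respectTransparency.types false
set_option linter.style.haveILetI false

set_option autoImplicit false
universe u
open CategoryTheory CategoryTheory.Limits AlgebraicGeometry TopologicalSpace Opposite
open scoped HomogeneousIdeal
noncomputable section
open EGA2

namespace Groth.Agent.S12680

/-- Let f : X → Y be a quasi-compact and separated morphism, L an invertible O_X-module with graded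
symmetric algebra 𝒮L = ⊕_{n≥0} L^{⊗n} (whose relative Proj PL, given with its charts, is identified
with X by its structure morphism), 𝒜 a quasi-coherent graded O_Y-algebra given with a graded
f-morphism u : 𝒜 → f_*𝒮L which is bijective on sections over every affine open of Y — so that 𝒜 is
the graded algebra ⊕_{n≥0} f_*(L^{⊗n}) and u is adjoint to the canonical σ : f^*𝒜 → ⊕ L^{⊗n} — P =
Proj(𝒜) → Y its relative homogeneous spectrum with its charts, and r = r_{L,σ} : G(σ) → P the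
induced morphism on its open of definition G(σ) ⊆ PL. If r is everywhere defined (G(σ) is all of PL)
and the underlying continuous map of r is a homeomorphism onto a subspace of P, then L is ample
relative to f. -/
theorem result {X Y P PL : Scheme.{u}} (f : X ⟶ Y) [QuasiCompact f] [IsSeparated f]
    (L : X.Modules) (hL : PicF.IsInvertible L) (hLq : Coh.IsQCoh L)
    (𝒮L : RelProj.QCGrAlg X) (jL : L ⟶ 𝒮L.toModule) (hjL : RelProj.IsGrSymAlg L 𝒮L jL)
    (pL : PL ⟶ X) (chartL : ∀ (U : X.Opens) (hU : IsAffineOpen U), (((pL ⁻¹ᵁ U : PL.Opens) : Scheme.{u}) ≅ Proj (𝒮L.deg U hU)))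
    (hPL : RelProj.IsRelProj 𝒮L pL chartL)
    (𝒜 : RelProj.QCGrAlg Y) (u : RelProj.QGrHom f 𝒜 𝒮L)
    (p : P ⟶ Y) (chart : ∀ (U : Y.Opens) (hU : IsAffineOpen U), (((p ⁻¹ᵁ U : P.Opens) : Scheme.{u}) ≅ Proj (𝒜.deg U hU)))
    (hP : RelProj.IsRelProj 𝒜 p chart)
    (r : ((RelProj.domQ u pL chartL : PL.Opens) : Scheme.{u}) ⟶ P)
    (hr : RelProj.IsProjQMapOn u p chart pL chartL (RelProj.domQ u pL chartL) r)
    (hu : ∀ (U : Y.Opens), IsAffineOpen U → Function.Bijective (u.app U).hom)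
    (htop : RelProj.domQ u pL chartL = ⊤) (hemb : Topology.IsEmbedding r.base) :
    RelAmple.IsRelAmple f L := by
  haveI := ProjQX.Family.isIso_pL hL hLq hjL hPL
  refine AmpleX.isRelAmple_of_sections hL fun x => ?_
  obtain ⟨U, hU, hxU, -⟩ := exists_isAffineOpen_mem_and_subset (X := Y) (x := f x) (U := ⊤) trivial
  refine ⟨U, hxU, f.isCompact_preimage hU.isCompact, fun x' hx' => ?_⟩
  obtain ⟨y₀, hy₀⟩ := pL.homeomorph.surjective x'
  have hydom : y₀ ∈ RelProj.domQ u pL chartL := htop ▸ trivial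
  let y : (RelProj.domQ u pL chartL : Scheme.{u}) := ⟨y₀, hydom⟩
  have hy : pL y.1 = x' := hy₀
  obtain ⟨A, hA, hxA, hAU, s, hs⟩ := QRel17.exists_affine_frame hL (show x' ∈ f ⁻¹ᵁ U from hx')
  obtain ⟨O, hO, hOA⟩ := hemb.isInducing.isOpen_iff.1
    (A.2.preimage ((RelProj.domQ u pL chartL).ι ≫ pL).continuous)
  have hOiff : ∀ w : (RelProj.domQ u pL chartL : Scheme.{u}), r w ∈ O ↔ pL w.1 ∈ A := fun w =>
    Set.ext_iff.1 hOA w
  have hyU : p (r y) ∈ U := by
    rw [← Scheme.Hom.comp_apply, ProjQX.comp_eq hP hPL hr]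
    show f (pL y.1) ∈ U
    rw [hy]; exact hx'
  obtain ⟨z, hz⟩ := (ProjQX.mem_opensRange_emb (chart := chart) hU (x := r y)).mpr hyU
  obtain ⟨m, g, hm, hg, hzg, hsub⟩ := Proj16.exists_basicOpen_subset
    (hO.preimage (RelProj.emb p chart U hU).continuous)
    (show z ∈ RelProj.emb p chart U hU ⁻¹' O by show _ ∈ O; rw [hz, hOiff, hy]; exact hxA)
  obtain ⟨a, ha⟩ := QRel17.exists_sect hL hLq hjL u hU hg
  obtain ⟨c, hc⟩ := S12143.mem_deg_eq hLq hjL hA s (QRel17.bijective_of_isFrame hs) (u.map_mem U hU A hA hAU hg)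
  have hle : AmpleX.locus a ≤ A := fun w hw => by
    obtain ⟨w₀, rfl⟩ := pL.homeomorph.surjective w
    have hwdom : w₀ ∈ RelProj.domQ u pL chartL := htop ▸ trivial
    obtain ⟨v, hv, hvw⟩ := (QRel17.mem_locus_iff hLq hjL u hU hP hPL hr ha hL hm hg ⟨w₀, hwdom⟩
      (AmpleX.locus_le a hw)).1 hw
    exact (hOiff ⟨w₀, hwdom⟩).1 (hvw ▸ hsub hv)
  refine ⟨m, hm, a, ?_, ?_⟩
  · rw [← hy]
    exact (QRel17.mem_locus_iff hLq hjL u hU hP hPL hr ha hL hm hg y (by rw [hy]; exact hx')).2 ⟨z, hzg, hz⟩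
  · rw [← inf_eq_left.2 hle, AmpleX.locus_inf a hAU (FrobSplit29.isFrame_powT hs m) (ha A hA hAU s hs c hc)]
    exact hA.basicOpen c

end Groth.Agent.S12680
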