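import Groth.Statements.S12683
import Groth.Agent.QRel17.Sigma

set_option backward.isDefEq.respectTransparency false
set_option backward.isDefEq.respectTransparency.types false
set_option linter.style.haveILetI false

set_option autoImplicit false
universe u
open CategoryTheory CategoryTheory.Limits AlgebraicGeometry TopologicalSpace Opposite
open scoped HomogeneousIdeal
noncomputable section
open Variety

namespace Groth.Agent.S12683

/-- Let X be a quasi-compact scheme, L an ample invertible O_X-module with graded symmetric algebra 𝒮L =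
⊕_{d≥0} L^{⊗d} (whose relative Proj PL, given with its charts, is identified with X by its structure
morphism), f : X → Y a quasi-compact morphism to an AFFINE scheme Y, 𝒜 a quasi-coherent graded
O_Y-algebra given with a graded f-morphism u : 𝒜 → f_*𝒮L which is bijective on global sections — so
that Γ(Y, 𝒜) is the graded ring Γ(X, 𝒮L) = ⊕_d Γ(X, L^{⊗d}) and P = Proj(𝒜) (given with its charts)
is its homogeneous spectrum — and r : G(σ) → P the canonical morphism on its open of definition G(σ)
⊆ PL. Then r is everywhere defined (G(σ) is all of PL) and is a quasi-compact, scheme-theoretically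
dominant open immersion. (The published statement forms the homogeneous spectrum of the graded ring
⊕_d Γ(X, L^{⊗d}) itself, over the spectrum of Γ(X, O_X); any affine Y under X gives the same graded
ring, the same homogeneous spectrum and the same morphism. It also assumes X quasi-separated, which
already follows from ampleness, since the opens X_s are affine with affine pairwise intersections;
only quasi-compactness is assumed here.) -/
theorem result {X Y P PL : Scheme.{u}} [CompactSpace X]
    (f : X ⟶ Y) [QuasiCompact f] (hY : IsAffineOpen (⊤ : Y.Opens))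
    (L : X.Modules) (hL : PicF.IsInvertible L) (hLq : Coh.IsQCoh L)
    (𝒮L : RelProj.QCGrAlg X) (jL : L ⟶ 𝒮L.toModule) (hjL : RelProj.IsGrSymAlg L 𝒮L jL)
    (pL : PL ⟶ X) (chartL : ∀ (U : X.Opens) (hU : IsAffineOpen U), (((pL ⁻¹ᵁ U : PL.Opens) : Scheme.{u}) ≅ Proj (𝒮L.deg U hU)))
    (hPL : RelProj.IsRelProj 𝒮L pL chartL)
    (hLa : CohB1.IsAmple L)
    (𝒜 : RelProj.QCGrAlg Y) (u : RelProj.QGrHom f 𝒜 𝒮L)
    (p : P ⟶ Y) (chart : ∀ (U : Y.Opens) (hU : IsAffineOpen U), (((p ⁻¹ᵁ U : P.Opens) : Scheme.{u}) ≅ Proj (𝒜.deg U hU)))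
    (hP : RelProj.IsRelProj 𝒜 p chart)
    (r : ((RelProj.domQ u pL chartL : PL.Opens) : Scheme.{u}) ⟶ P)
    (hr : RelProj.IsProjQMapOn u p chart pL chartL (RelProj.domQ u pL chartL) r)
    (hu : Function.Bijective (u.app ⊤).hom) :
    RelProj.domQ u pL chartL = ⊤ ∧ IsOpenImmersion r ∧ QuasiCompact r ∧ IsSchemeTheoreticallyDominant r := by
  have hu' : ∀ y : Y, ∃ (U : Y.Opens) (_ : IsAffineOpen U), y ∈ U ∧ Function.Bijective (u.app U).hom :=
    fun _ => ⟨⊤, hY, trivial, hu⟩
  haveI := ProjQX.Family.isIso_pL hL hLq hjL hPL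
  have hA : RelAmple.IsRelAmple f L := AmpleX.isRelAmple_of_ampleOn fun x =>
    ⟨⊤, X, 𝟙 X, inferInstance, trivial, by simp [Scheme.Hom.opensRange_of_isIso],
      AmpleX.isAmple_of_iso (Scheme.Modules.restrictFunctorId.app L).symm hLa⟩
  have htop := QRel17.domQ_eq_top_of_isRelAmple hL hLq hjL u hu' hPL hA
  haveI : IsIso (RelProj.domQ u pL chartL).ι :=
    isIso_of_isOpenImmersion_of_opensRange_eq_top _ ((Scheme.Opens.opensRange_ι _).trans htop)
  haveI : IsSeparated p := Proj16.isSeparated hP
  haveI : QuasiCompact (r ≫ p) := by rw [ProjQX.comp_eq hP hPL hr]; infer_instance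
  haveI : QuasiCompact r := QuasiCompact.of_comp r p
  exact ⟨htop, QRel17.isOpenImmersion_r hL hLq hjL u hu' hP hPL hr hA, inferInstance,
    QRel17.isSchemeTheoreticallyDominant_r hL hLq hjL u hu' hP hPL hr htop⟩

end Groth.Agent.S12683
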