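import Groth.Statements.S1269
import Groth.Agent.RG.OpenQuot
-- import your own Groth.Agent.* helpers here

set_option autoImplicit false
universe u
open FlatMor

namespace Groth.Agent.S1269

set_option backward.isDefEq.respectTransparency false
set_option backward.isDefEq.respectTransparency.types false
set_option linter.style.haveILetI false
set_option maxHeartbeats 2000000

open TensorProduct

attribute [local instance] Algebra.TensorProduct.rightAlgebra

open AlgebraicGeometry CategoryTheory TensorProduct IsLocalRing in
/-- The statement for a presented algebra. -/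
theorem aux {R S₀ S : Type u} [CommRing R] [CommRing S] [Algebra R S] [CommRing S₀] [Algebra R S₀] [Algebra.FinitePresentation R S₀] [Algebra S₀ S] [IsScalarTower R S₀ S]
    (hs : Function.Surjective (algebraMap S₀ S))
    (N : Type u) [AddCommGroup N] [Module S N] [Module R N] [IsScalarTower R S N] [Module.Finite S N]
    (p : Ideal R) [p.IsPrime] (q : Ideal S) [q.IsPrime] [q.LiesOver p] (hflat : FlatCA.FlatAt R q N) :
    ∃ (R' : Type u) (_ : CommRing R') (_ : Algebra R R') (p' : Ideal R') (_ : p'.IsPrime), FlatCA.IsEtaleNhd R R' p p' ∧
      ∀ (SA NA : Type u) [CommRing SA] [Algebra R SA] [Algebra S SA] [Algebra (Localization.AtPrime p') SA]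
        [IsScalarTower R S SA] [IsScalarTower R (Localization.AtPrime p') SA]
        [Algebra.IsPushout R S (Localization.AtPrime p') SA]
        [AddCommGroup NA] [Module SA NA] [Module S NA] [IsScalarTower S SA NA]
        (f : N →ₗ[S] NA), IsBaseChange SA f →
        ∃ (C : Type u) (_ : CommRing C) (_ : Algebra SA C) (_ : Algebra (Localization.AtPrime p') C)
          (_ : IsScalarTower (Localization.AtPrime p') SA C) (x' : Ideal C) (_ : x'.IsPrime),
          IsOpenImmersion (Spec.map (CommRingCat.ofHom (algebraMap SA C))) ∧
          (x'.comap (algebraMap SA C)).LiesOver q ∧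
          (x'.comap (algebraMap SA C)).LiesOver (IsLocalRing.maximalIdeal (Localization.AtPrime p')) ∧
          Module.Free (Localization.AtPrime p') (RestrictScalars (Localization.AtPrime p') C (C ⊗[SA] NA)) := by
  haveI : Module.Finite S₀ S := Module.Finite.of_surjective (Algebra.linearMap S₀ S) hs
  letI : Module S₀ N := Module.compHom N (algebraMap S₀ S)
  haveI : IsScalarTower S₀ S N := IsScalarTower.of_algebraMap_smul fun _ _ => rfl
  haveI : IsScalarTower R S₀ N := IsScalarTower.of_algebraMap_smul fun r n => by
    show algebraMap S₀ S (algebraMap R S₀ r) • n = r • n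
    rw [← IsScalarTower.algebraMap_apply, algebraMap_smul]
  haveI : Module.Finite S₀ N := Module.Finite.trans S N
  let q₀ := q.comap (algebraMap S₀ S)
  haveI : q₀.LiesOver p := ⟨by
    rw [Ideal.under_def, Ideal.comap_comap, ← IsScalarTower.algebraMap_eq R S₀ S, ← Ideal.under_def]
    exact Ideal.LiesOver.over⟩
  obtain ⟨R', _, _, p', _, hR, H⟩ := RG.exists_free_open (R := R) (S := S₀) N p q₀
    ((RG.flatAt_comap_iff hs q q₀ rfl).1 hflat)
  refine ⟨R', inferInstance, inferInstance, p', inferInstance, hR, ?_⟩
  intro SA NA _ _ _ _ _ _ _ _ _ _ _ f hf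
  haveI := hR.1
  obtain ⟨ho, hκ⟩ := RG.residue_bijective_atPrime p'
  haveI := ho
  haveI : Algebra.FormallyEtale R' (Localization.AtPrime p') := Algebra.FormallyEtale.of_isLocalization p'.primeCompl
  obtain ⟨h, x, _, hhx, hxq, hxA, hfree⟩ := H (Localization.AtPrime p') hκ
  exact RG.open_free_quot hs N q h x hhx hxq SA NA f hf

open AlgebraicGeometry CategoryTheory TensorProduct in
/-- Ring form, X = Spec S and S = Spec R affine: let S be a finite type R-algebra, N a finite S-module
and q a prime of S over p with N_q flat over R. Then there is an étale R-algebra R' with a prime p'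
over p having the same residue field such that, writing A for the local ring of R' at p' and S_A,
N_A for the base changes (any models), there is an S_A-algebra C with Spec C → Spec S_A an open
immersion (an affine open U'), containing a point lying over q and over the maximal ideal of A, such
that C ⊗_{S_A} N_A is a free A-module. -/
theorem result {R S : Type u} [CommRing R] [CommRing S] [Algebra R S] [Algebra.FiniteType R S]
    (N : Type u) [AddCommGroup N] [Module S N] [Module R N] [IsScalarTower R S N] [Module.Finite S N]
    (p : Ideal R) [p.IsPrime] (q : Ideal S) [q.IsPrime] [q.LiesOver p] (hflat : FlatCA.FlatAt R q N) :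
    ∃ (R' : Type u) (_ : CommRing R') (_ : Algebra R R') (p' : Ideal R') (_ : p'.IsPrime), FlatCA.IsEtaleNhd R R' p p' ∧
      ∀ (SA NA : Type u) [CommRing SA] [Algebra R SA] [Algebra S SA] [Algebra (Localization.AtPrime p') SA]
        [IsScalarTower R S SA] [IsScalarTower R (Localization.AtPrime p') SA]
        [Algebra.IsPushout R S (Localization.AtPrime p') SA]
        [AddCommGroup NA] [Module SA NA] [Module S NA] [IsScalarTower S SA NA]
        (f : N →ₗ[S] NA), IsBaseChange SA f →
        ∃ (C : Type u) (_ : CommRing C) (_ : Algebra SA C) (_ : Algebra (Localization.AtPrime p') C)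
          (_ : IsScalarTower (Localization.AtPrime p') SA C) (x' : Ideal C) (_ : x'.IsPrime),
          IsOpenImmersion (Spec.map (CommRingCat.ofHom (algebraMap SA C))) ∧
          (x'.comap (algebraMap SA C)).LiesOver q ∧
          (x'.comap (algebraMap SA C)).LiesOver (IsLocalRing.maximalIdeal (Localization.AtPrime p')) ∧
          Module.Free (Localization.AtPrime p') (RestrictScalars (Localization.AtPrime p') C (C ⊗[SA] NA)) := by
  obtain ⟨ι, _, φ, hφ⟩ := Algebra.FiniteType.iff_quotient_mvPolynomial'.1 (inferInstance : Algebra.FiniteType R S)
  letI : Algebra (MvPolynomial ι R) S := φ.toRingHom.toAlgebra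
  haveI : IsScalarTower R (MvPolynomial ι R) S := IsScalarTower.of_algebraMap_eq fun r => (φ.commutes r).symm
  exact aux (S₀ := MvPolynomial ι R) hφ N p q hflat

end Groth.Agent.S1269
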