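import Groth.Statements.S12691
import Groth.Agent.QRel17.Theta

set_option backward.isDefEq.respectTransparency false
set_option backward.isDefEq.respectTransparency.types false
set_option linter.style.haveILetI false

set_option autoImplicit false
universe u
open CategoryTheory CategoryTheory.Limits AlgebraicGeometry TopologicalSpace Opposite
open scoped HomogeneousIdeal
noncomputable section
open Mor

namespace Groth.Agent.S12691

/-- Let f : X → Y be a quasi-compact morphism, L an invertible O_X-module with graded symmetric algebra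
𝒮L = ⊕_{n≥0} L^{⊗n} (whose relative Proj PL, given with its charts, is identified with X by its
structure morphism), 𝒜 a quasi-coherent graded O_Y-algebra generated in degree one over O_Y (its
degree-zero part is the image of O_Y and degrees zero and one generate it), u : 𝒜 → f_*𝒮L a graded
f-morphism (adjoint to a homomorphism of graded algebras ψ : f^*𝒜 → ⊕ L^{⊗n}) whose degree-one part
f^*𝒜_1 → L is surjective — every point of X has an affine neighbourhood V over which the image of a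
single degree-one section of 𝒜 generates L — P = Proj(𝒜) → Y with its charts, and r = r_{L,ψ} : U(ψ)
→ P the induced morphism on its open of definition U(ψ) ⊆ PL. If r is an immersion, then L is very
ample relative to f (isomorphic to the inverse image of O(1) along a Y-immersion into the projective
bundle of a quasi-coherent O_Y-module). -/
theorem result {X Y P PL : Scheme.{u}} (f : X ⟶ Y) [QuasiCompact f]
    (L : X.Modules) (hL : PicF.IsInvertible L) (hLq : Coh.IsQCoh L)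
    (𝒮L : RelProj.QCGrAlg X) (jL : L ⟶ 𝒮L.toModule) (hjL : RelProj.IsGrSymAlg L 𝒮L jL)
    (pL : PL ⟶ X) (chartL : ∀ (U : X.Opens) (hU : IsAffineOpen U), (((pL ⁻¹ᵁ U : PL.Opens) : Scheme.{u}) ≅ Proj (𝒮L.deg U hU)))
    (hPL : RelProj.IsRelProj 𝒮L pL chartL)
    (𝒜 : RelProj.QCGrAlg Y) (h1 : 𝒜.IsGenDegOne)
    (h0 : ∀ (U : Y.Opens) (hU : IsAffineOpen U),
      ((𝒜.deg U hU 0 : AddSubgroup (𝒜.presheaf.obj (op U))) : Set (𝒜.presheaf.obj (op U))) = Set.range (𝒜.str.app (op U)).hom)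
    (u : RelProj.QGrHom f 𝒜 𝒮L)
    (hsurj : ∀ x : X, ∃ (U : Y.Opens) (hU : IsAffineOpen U) (e : 𝒜.presheaf.obj (op U)) (_ : e ∈ 𝒜.deg U hU 1)
        (V : X.Opens) (hV : IsAffineOpen V) (hVU : V ≤ f ⁻¹ᵁ U), x ∈ V ∧
          ((𝒮L.deg V hV 1 : AddSubgroup (𝒮L.presheaf.obj (op V))) : Set (𝒮L.presheaf.obj (op V))) ⊆
            (Ideal.span {(u.appLE U V hVU).hom e} : Set (𝒮L.presheaf.obj (op V))))
    (p : P ⟶ Y) (chart : ∀ (U : Y.Opens) (hU : IsAffineOpen U), (((p ⁻¹ᵁ U : P.Opens) : Scheme.{u}) ≅ Proj (𝒜.deg U hU)))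
    (hP : RelProj.IsRelProj 𝒜 p chart)
    (r : ((RelProj.domQ u pL chartL : PL.Opens) : Scheme.{u}) ⟶ P)
    (hr : RelProj.IsProjQMapOn u p chart pL chartL (RelProj.domQ u pL chartL) r)
    (himm : IsImmersion r) :
    RelProj.IsRelVeryAmple f L := by
  obtain ⟨e₁, he₁⟩ := RelVA16.exists_projOne 𝒜
  obtain ⟨θ, hθ⟩ := QRel17.exists_theta hL hLq hjL u he₁
  have hgenθ := QRel17.gen_of_surj hL hLq hjL u he₁ hθ hsurj
  have hM := QCoh.isQCoh_toModule 𝒜.toQCAlg
  obtain ⟨B⟩ := RelVA16.PB.exists_of_isQCoh hM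
  obtain ⟨φ, hφu, -⟩ := B.hj.1 𝒜.toQCAlg e₁
  have hjv : ∀ (U : Y.Opens) (e : Γ(𝒜.toModule, U)),
      (φ.hom.app (op U)).hom (SymAlgX.jv B.𝒮.toQCAlg B.j U e) = e₁.app U e :=
    fun U e => congrArg (fun χ : 𝒜.toModule ⟶ 𝒜.toModule => χ.app U e) hφu
  have hu1 : ∀ (U : Y.Opens) (hU : IsAffineOpen U) (x : Γ(𝒜.toModule, U)), (e₁.app U) x ∈ 𝒜.deg U hU 1 :=
    fun U hU x => by rw [he₁ U hU]; exact SetLike.coe_mem _
  have husurj : ∀ (U : Y.Opens) (hU : IsAffineOpen U) (s : 𝒜.presheaf.obj (op U)), s ∈ 𝒜.deg U hU 1 →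
      ∃ x : Γ(𝒜.toModule, U), (e₁.app U) x = s :=
    fun U hU s hs => ⟨s, (he₁ U hU s).trans (DirectSum.decompose_of_mem_same (𝒜.deg U hU) hs)⟩
  have hφ : RelProj.IsGradedHom φ := fun U hU d x hx => by
    refine RelVA16.map_mem_of_gen (𝒜 := B.𝒮.deg U hU) (ℬ := 𝒜.deg U hU) _ _ (SymAlgX.genAt_eq_top hM B.hj.1 hU) ?_ hx
    rintro z (⟨a, rfl⟩ | ⟨e, rfl⟩)
    · refine ⟨0, B.𝒮.str_mem U hU a, ?_⟩
      rw [show (φ.hom.app (op U)).hom ((B.𝒮.str.app (op U)).hom a) = (𝒜.str.app (op U)).hom a from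
        ConcreteCategory.congr_hom (NatTrans.congr_app φ.comm (op U)) a]
      exact 𝒜.str_mem U hU a
    · exact ⟨1, B.hj.2 U hU e, (hjv U e).symm ▸ hu1 U hU e⟩
  have hs : ∀ (U : Y.Opens) (hU : IsAffineOpen U), (𝒜.deg U hU)₊ ≤
      ((B.𝒮.deg U hU)₊).map (RelProj.gradedHomAt φ hφ U hU) := fun U hU => by
    show ((𝒜.deg U hU)₊).toIdeal ≤ _
    rw [RelTildeX.irrelevant_eq_span_deg_one h1 U hU, Ideal.span_le]
    intro s hs
    obtain ⟨x, hx⟩ := husurj U hU s hs
    rw [← hx, ← hjv U x]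
    exact Ideal.mem_map_of_mem _ (HomogeneousIdeal.mem_irrelevant_of_mem (B.𝒮.deg U hU) Nat.one_pos (B.hj.2 U hU x))
  let qv := RelProj.QGrHom.ofHom φ hφ
  have hdom : RelProj.domQ qv p chart = ⊤ := ProjQX.domQ_eq_top hP fun U hU => by
    refine top_le_iff.1 fun z _ => ?_
    by_contra hz
    refine z.not_irrelevant_le ((hs U hU).trans ?_)
    show Ideal.map _ _ ≤ z.asHomogeneousIdeal.toIdeal
    refine Ideal.map_le_iff_le_comap.2 fun a ha => ?_
    by_contra hh
    exact hz ((RelCone.mem_domOpen _ z).2 ⟨a, ha, hh⟩)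
  obtain ⟨ι, hι, -⟩ := Proj16.existsUnique_isRelProjMap φ hφ hs B.hP hP
  haveI : IsClosedImmersion ι := S8292.result 𝒜 B.𝒮 h1 _ hM e₁ hu1 husurj B.j B.hj φ hφ hφu hs B.p p B.chart chart
    B.hP hP ι hι
  have hΦ : RelProj.IsProjQMapOn qv B.p B.chart p chart (RelProj.domQ qv p chart)
      ((RelProj.domQ qv p chart).ι ≫ ι) := by
    intro U hU U' hU' hle d hd a ha hW
    rw [← Category.assoc, IsOpenImmersion.lift_fac]
    show (Proj.awayι (𝒜.deg U' hU') _ _ hd ≫ RelProj.emb p chart U' hU') ≫ ι = _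
    rw [Category.assoc, RelVA16.emb_ofHom hs B.hP hι U hU U' hU' hle, Proj.awayι_comp_map_assoc _ _ hd a ha]
  let u' : RelProj.QGrHom f B.𝒮 𝒮L :=
    { app := fun U => φ.hom.app (op U) ≫ u.app U
      naturality := fun {U V} i => by
        rw [Category.assoc, u.naturality i, ← Category.assoc, ← Category.assoc]
        exact congrArg (· ≫ u.app V) (φ.hom.naturality _).symm
      str_app := fun U => by
        rw [← Category.assoc, show B.𝒮.str.app (op U) ≫ φ.hom.app (op U) = 𝒜.str.app (op U) from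
          NatTrans.congr_app φ.comm (op U)]
        exact u.str_app U
      map_mem := fun U hU U' hU' hle {d x} hx => u.map_mem U hU U' hU' hle (hφ U hU d x hx) }
  have hu' : ∀ U : Y.Opens, u'.app U = φ.hom.app (op U) ≫ u.app U := fun U => rfl
  have hu : ∀ (U : Y.Opens) (x : Γ(𝒜.toModule, U)),
      (u'.app U).hom ((B.j.app U) x) = (jL.app (f ⁻¹ᵁ U)) ((θ.app U) x) := fun U x => by
    show (u.app U).hom ((φ.hom.app (op U)).hom (SymAlgX.jv B.𝒮.toQCAlg B.j U x)) = _
    rw [hjv]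
    exact (hθ U x).symm
  obtain ⟨r', hr', -⟩ := ProjQX.existsUnique_map (u := u') B.hP hPL
  obtain ⟨w, hw, hw'⟩ := ProjQX.exists_comp hφ hu' hPL hr hr' hΦ
  haveI : IsIso (RelProj.domQ qv p chart).ι :=
    isIso_of_isOpenImmersion_of_opensRange_eq_top _ ((Scheme.Opens.opensRange_ι _).trans hdom)
  haveI : IsImmersion (w ≫ (RelProj.domQ qv p chart).ι) := by rw [hw]; infer_instance
  haveI : IsImmersion w := IsImmersion.of_comp w (RelProj.domQ qv p chart).ι
  haveI : IsImmersion r' := by rw [← hw']; infer_instance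
  have htop := RelVA16.domQ_eq_top_of_gen (B := B) (θ := θ) (pL := pL) (chartL := chartL) hLq hjL hu hgenθ
  obtain ⟨r₀, hr₀⟩ := RelVA16.exists_isMapOf B θ hgenθ
  haveI : IsIso (RelProj.domQ u' pL chartL).ι :=
    isIso_of_isOpenImmersion_of_opensRange_eq_top _ ((Scheme.Opens.opensRange_ι _).trans htop)
  haveI := ProjQX.Family.isIso_pL hL hLq hjL hPL
  have heq := RelVA16.eq_of_isMapOf (B := B) (θ := θ) hLq hjL hPL hu hr' hr₀
  haveI : IsImmersion r₀ := by
    have h2 : r₀ = inv ((RelProj.domQ u' pL chartL).ι ≫ pL) ≫ r' := by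
      rw [IsIso.eq_inv_comp, Category.assoc, heq]
    rw [h2]; infer_instance
  obtain ⟨τ, -⟩ := RelVA16.IsMapOf.exists_iso (B := B) hr₀
  exact B.isRelVeryAmple L r₀ hr₀.comp τ.symm

end Groth.Agent.S12691
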