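import Groth.Statements.S12693
import Groth.Agent.KerEmbed.Imm

set_option autoImplicit false
universe u
open CategoryTheory CategoryTheory.Limits AlgebraicGeometry TopologicalSpace Opposite
open scoped HomogeneousIdeal
noncomputable section
open Variety

namespace Groth.Agent.S12693

/-- Let k be a field, X a scheme proper over k, L an ample invertible O_X-module, i : Z → X a closed
immersion and U the open complement of its image. Then there is an integer n₀ such that for every n
≥ n₀: the subspace V_n of those global sections of L^{⊗n} whose inverse image on Z vanishes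
generates the restriction of L^{⊗n} to U, and the canonical k-morphism U → P(V_n) is an immersion —
stated through a basis: for every k-linearly independent family s_0, …, s_r of V_n spanning V_n over
k (scalars acting through k → Γ(X, O_X)), every k-morphism φ from U to projective r-space over k
together with an isomorphism φ^*O(1) ≅ L^{⊗n}|_U carrying the inverse image of the coordinate T_j to
s_j|_U for each j is an immersion. -/
theorem result {k : Type u} [Field k] {X Z : Scheme.{u}}
    (f : X ⟶ Spec (CommRingCat.of k)) [IsProper f] (L : X.Modules) (hLa : CohB1.IsAmple L)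
    (i : Z ⟶ X) [IsClosedImmersion i] (U : X.Opens) (hU : (U : Set X) = (Set.range i.base)ᶜ) :
    ∃ n₀ : ℕ, ∀ n : ℕ, n₀ ≤ n →
      ProjUP.GeneratedBy ((CohB1.tensorPow L n).restrict U.ι)
        (fun v : {s : ProjUP.Γm (CohB1.tensorPow L n) // ProjUP.pullSec i (CohB1.tensorPow L n) s = 0} =>
          ((CohB1.tensorPow L n).restrictAppIso U.ι ⊤).inv (((CohB1.tensorPow L n).presheaf.map (homOfLE le_top).op) v.1)) ∧
      ∀ (r : ℕ) (s : Fin (r + 1) → ProjUP.Γm (CohB1.tensorPow L n)),
        (∀ j, ProjUP.pullSec i (CohB1.tensorPow L n) (s j) = 0) →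
        (∀ c : Fin (r + 1) → k, (∑ j, ProjUP.toGlobal f (c j) • s j) = 0 → c = 0) →
        (∀ v : ProjUP.Γm (CohB1.tensorPow L n), ProjUP.pullSec i (CohB1.tensorPow L n) v = 0 →
          ∃ c : Fin (r + 1) → k, v = ∑ j, ProjUP.toGlobal f (c j) • s j) →
        ∀ (φ : (U : Scheme.{u}) ⟶ CohB1.ProjSpace r k) (_ : φ ≫ CohB1.ProjSpace.toSpec r k = U.ι ≫ f)
          (τ : (Scheme.Modules.pullback φ).obj (Twist.twistProjSpace r k 1) ≅ (CohB1.tensorPow L n).restrict U.ι)
          (_ : ∀ j, τ.hom.app ⊤ (ProjUP.pullSec φ (Twist.twistProjSpace r k 1) (ProjUP.coord r k j)) =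
            ((CohB1.tensorPow L n).restrictAppIso U.ι ⊤).inv (((CohB1.tensorPow L n).presheaf.map (homOfLE le_top).op) (s j))),
          IsImmersion φ := by
  haveI : IsLocallyNoetherian X := LocallyOfFiniteType.isLocallyNoetherian f
  haveI : CompactSpace X := hLa.2.1
  haveI : IsNoetherian X := {}
  have hUc : IsCompact (U : Set X) := TopologicalSpace.NoetherianSpace.isCompact _
  obtain ⟨n₀, hn₀⟩ := KerEmbed.eventually_charts f i hLa U hU hUc
  refine ⟨n₀, fun n hn => ?_⟩
  obtain ⟨hgen, himm⟩ := KerEmbed.main f i U (InvX.isInvertible_tensorPow hLa.1 n) (hn₀ n hn)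
  exact ⟨hgen, fun r s _ _ hspan φ hφ τ hτ => himm r s hspan φ hφ τ hτ⟩

end Groth.Agent.S12693
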