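import Groth.Statements.S12708
import Mathlib.RingTheory.Length
import Mathlib.RingTheory.Ideal.Quotient.Operations
import Mathlib.RingTheory.SimpleModule.Basic
-- import your own Groth.Agent.* helpers here

set_option autoImplicit false
universe u v
open CategoryTheory
open ArtFun

namespace Groth.Agent.S12708

/-- For Λ Noetherian with a finite map to a field k, A a local Λ-algebra whose residue field is k
(through a surjective Λ-algebra map A → k) and M an A-module, the length of M over Λ equals the
degree of k over the image of Λ times the length of M over A. The degree is written as the length of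
k as a Λ-module, which is the same number; lengths are in ℕ∞. -/
theorem result {Λ : Type u} {k : Type u} [CommRing Λ] [Field k] [Algebra Λ k]
    [IsNoetherianRing Λ] [Module.Finite Λ k]
    (A : Type u) [CommRing A] [Algebra Λ A] [IsLocalRing A] [Algebra A k] [IsScalarTower Λ A k]
    (hres : Function.Surjective (algebraMap A k))
    (M : Type v) [AddCommGroup M] [Module A M] [Module Λ M] [IsScalarTower Λ A M] :
    Module.length Λ k * Module.length A M = Module.length Λ M := by
  have hsimple : ∀ {P : Type v} [AddCommGroup P] [Module A P] [Module Λ P] [IsScalarTower Λ A P],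
      IsSimpleModule A P → Module.length Λ P = Module.length Λ k := by
    intro P _ _ _ _ hP
    obtain ⟨I, hI, ⟨e⟩⟩ := isSimpleModule_iff_quot_maximal.1 hP
    have hker : RingHom.ker (algebraMap A k) = I :=
      (IsLocalRing.eq_maximalIdeal (RingHom.ker_isMaximal_of_surjective _ hres)).trans
        (IsLocalRing.eq_maximalIdeal hI).symm
    subst hker
    let e2 : (A ⧸ RingHom.ker (algebraMap A k)) ≃ₗ[Λ] k :=
      LinearEquiv.ofBijective (Ideal.Quotient.liftₐ (RingHom.ker (algebraMap A k))
        (IsScalarTower.toAlgHom Λ A k) fun a ha => ha).toLinearMap
        ⟨(injective_iff_map_eq_zero _).2 fun x hx => by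
          obtain ⟨a, rfl⟩ := Ideal.Quotient.mk_surjective x
          exact Ideal.Quotient.eq_zero_iff_mem.2 hx,
        fun c => (hres c).elim fun a ha => ⟨Ideal.Quotient.mk _ a, ha⟩⟩
    exact (e.restrictScalars Λ |>.trans e2).length_eq
  by_cases hfin : IsFiniteLength A M
  · revert ‹Module Λ M› ‹IsScalarTower Λ A M›
    induction hfin with
    | of_subsingleton =>
      intro _ _
      simp only [Module.length_eq_zero, mul_zero]
    | @of_simple_quotient M _ _ N hs hN ih =>
      intro _ _
      rw [Module.length_eq_add_of_exact (R := Λ) (N.subtype.restrictScalars Λ)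
          (N.mkQ.restrictScalars Λ) N.injective_subtype N.mkQ_surjective
          (LinearMap.exact_subtype_mkQ N),
        Module.length_eq_add_of_exact (R := A) N.subtype N.mkQ N.injective_subtype N.mkQ_surjective
          (LinearMap.exact_subtype_mkQ N),
        mul_add, ih, hsimple hs, Module.length_eq_one_iff.2 hs, mul_one]
  · have hA : Module.length A M = ⊤ := not_not.1 fun h => hfin (Module.length_ne_top_iff.1 h)
    have hle : Module.length A M ≤ Module.length Λ M := by
      rw [← WithBot.coe_le_coe, Module.coe_length, Module.coe_length]
      exact Order.krullDim_le_of_strictMono (Submodule.restrictScalars Λ)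
        (Submodule.restrictScalarsEmbedding Λ A M).strictMono
    rw [hA, top_le_iff] at hle
    rw [hA, hle, ENat.mul_top]
    exact (Module.length_pos (R := Λ) (M := k)).ne' 

end Groth.Agent.S12708
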