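import Groth.Statements.S1271
import Groth.Agent.ZClosLib.FittEtale
-- import your own Groth.Agent.* helpers here

set_option autoImplicit false
universe u
open FlatMor

set_option linter.style.haveILetI false
set_option maxHeartbeats 1000000

namespace Groth.Agent.S1271

/-- Let A → B be an étale ring map, a ∈ A a nonzerodivisor and J a finitely generated ideal of B with
V(J) ⊆ V(aB), i.e. a lies in the radical of J. Then for every prime q of B there exist a finitely
generated ideal I of A with V(I) ⊆ V(a), an element g of B outside q, and a finitely generated ideal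
J' of the localization B_g such that the extension of I to B_g equals the product of the extension
of J with J'. -/
theorem result {A B : Type u} [CommRing A] [CommRing B] [Algebra A B] [Algebra.Etale A B]
    (a : A) (ha : a ∈ nonZeroDivisors A) (J : Ideal B) (hJ : J.FG) (hJa : algebraMap A B a ∈ J.radical)
    (q : Ideal B) [q.IsPrime] :
    ∃ (I : Ideal A) (g : B) (J' : Ideal (Localization.Away g)), I.FG ∧ a ∈ I.radical ∧ g ∉ q ∧ J'.FG ∧
      I.map (algebraMap A (Localization.Away g)) = J.map (algebraMap B (Localization.Away g)) * J' := by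
  obtain ⟨g, hgq, hstd⟩ := Algebra.IsEtaleAt.exists_isStandardEtale (R := A) q
  obtain ⟨⟨P⟩⟩ := hstd
  let C := AdjoinRoot P.P.f
  let h : C := AdjoinRoot.mk P.P.f P.P.g
  haveI : Module.Free A C := .of_basis (AdjoinRoot.powerBasis' P.P.monic_f).basis
  haveI : Module.Finite A C := P.P.monic_f.finite_adjoinRoot
  let e : Localization.Away g ≃ₐ[A] Localization.Away h := P.equivRing.trans P.P.equivAwayAdjoinRoot
  haveI : Algebra.FormallyEtale A B := inferInstance
  haveI : Algebra.Etale A (Localization.Away g) := Algebra.Etale.comp A B (Localization.Away g)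
  haveI : Algebra.Etale A (Localization.Away h) := Algebra.Etale.of_equiv e
  obtain ⟨m, hm⟩ := hJa
  obtain ⟨s, hs⟩ := hJ
  let φ : B →+* Localization.Away h := (e : Localization.Away g →+* Localization.Away h).comp (algebraMap B (Localization.Away g))
  have hφA : ∀ x : A, φ (algebraMap A B x) = algebraMap A (Localization.Away h) x := fun x => by
    show e (algebraMap B (Localization.Away g) (algebraMap A B x)) = _
    rw [← IsScalarTower.algebraMap_apply A B (Localization.Away g), AlgEquiv.commutes]
  -- lifts of the generators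
  classical
  choose c hc using fun x : B => IsLocalization.surj (Submonoid.powers h) (φ x)
  let Jc : Ideal C := Ideal.span (((fun x => (c x).1) '' (s : Set B)) ∪ {algebraMap A C a ^ m})
  have hJc : Jc.FG := ⟨s.image (fun x => (c x).1) ∪ {algebraMap A C a ^ m}, by
    rw [Finset.coe_union, Finset.coe_image, Finset.coe_singleton]⟩
  have hmap : Jc.map (algebraMap C (Localization.Away h)) = J.map φ := by
    refine le_antisymm ?_ ?_
    · rw [Ideal.map_span, Ideal.span_le]
      rintro _ ⟨y, (⟨x, hx, rfl⟩ | rfl), rfl⟩
      · rw [← hc x]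
        exact Ideal.mul_mem_right _ _ (Ideal.mem_map_of_mem _ (hs ▸ Submodule.subset_span hx))
      · rw [map_pow, ← IsScalarTower.algebraMap_apply A C (Localization.Away h), ← hφA, ← map_pow]
        exact Ideal.mem_map_of_mem _ hm
    · rw [← hs, Ideal.map_span, Ideal.span_le]
      rintro _ ⟨x, hx, rfl⟩
      refine (Ideal.mul_unit_mem_iff_mem _ (IsLocalization.map_units (Localization.Away h) (c x).2)).1 ?_
      rw [hc x]
      exact Ideal.mem_map_of_mem _ (Ideal.subset_span (Or.inl ⟨x, hx, rfl⟩))
  obtain ⟨J', hJ', hfg⟩ := Groth.Agent.ZClosLib.FittEtale.exists_factor (A := A) h Jc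
  obtain ⟨hI, hJ'fg⟩ := hfg hJc
  refine ⟨FlatCA.fittingZero A (C ⧸ Jc), g, J'.map (e.symm : Localization.Away h →+* Localization.Away g), hI, ?_, hgq,
    hJ'fg.map _, ?_⟩
  · obtain ⟨n, x, hx⟩ := Module.Finite.exists_fin (R := A) (M := C ⧸ Jc)
    refine ⟨m * n, Ideal.subset_span ⟨n, x, Matrix.scalar (Fin n) (a ^ m), hx, fun i => ?_, ?_⟩⟩
    · simp only [Matrix.scalar_apply, Matrix.diagonal_apply, ite_smul, zero_smul, Finset.sum_ite_eq, Finset.mem_univ, if_true]
      obtain ⟨y, hy⟩ := Ideal.Quotient.mk_surjective (x i)
      rw [← hy, Algebra.smul_def, map_pow]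
      show Ideal.Quotient.mk Jc (algebraMap A C a) ^ m * Ideal.Quotient.mk Jc y = 0
      rw [← map_pow, ← map_mul, Ideal.Quotient.eq_zero_iff_mem]
      exact Jc.mul_mem_right _ (Ideal.subset_span (Or.inr rfl))
    · simp [pow_mul]
  · have key : ∀ K : Ideal B, K.map (algebraMap B (Localization.Away g)) =
        (K.map φ).map (e.symm : Localization.Away h →+* Localization.Away g) := fun K => by
      rw [Ideal.map_map]
      congr 1
      ext x
      exact (e.symm_apply_apply _).symm
    rw [key, ← hmap, ← Ideal.map_mul, ← hJ', Ideal.map_map]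
    congr 1
    ext x
    exact (e.symm.commutes x).symm

end Groth.Agent.S1271
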