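import Groth.Statements.S12712
import Groth.Agent.ArtFunLib.Basic
import Mathlib.Dynamics.Newton
import Mathlib.FieldTheory.PrimitiveElement

set_option autoImplicit false
universe u v
open CategoryTheory
open ArtFun ArtFun.Art

namespace Groth.Agent.S12712

open Groth.Agent.ArtFunLib

theorem isNilpotent_of_res {Λ : Type u} {k : Type u} [CommRing Λ] [Field k] [Algebra Λ k]
    (A : ArtFun.Art Λ k) (a : A) (h : A.res a = 0) : IsNilpotent a := by
  obtain ⟨n, hn⟩ := IsArtinianRing.isNilpotent_jacobson_bot (R := A)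
  refine ⟨n, ?_⟩
  have ha : a ∈ Ideal.jacobson (⊥ : Ideal A) := by
    rw [IsLocalRing.jacobson_eq_maximalIdeal ⊥ bot_ne_top, IsLocalRing.mem_maximalIdeal, mem_nonunits_iff,
      isUnit_iff_res_ne_zero, not_not]
    exact h
  have := Ideal.pow_mem_pow ha n
  rwa [hn] at this

open Polynomial in
/-- Simple roots of the residue field lift uniquely. -/
theorem existsUnique_root {Λ : Type u} {k : Type u} [CommRing Λ] [Field k] [Algebra Λ k]
    (A : ArtFun.Art Λ k) (g : Λ[X]) (θ : k) (h0 : aeval θ g = 0) (h1 : aeval θ (derivative g) ≠ 0) :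
    ∃! a : A, A.res a = θ ∧ aeval a g = 0 := by
  obtain ⟨a₀, ha₀⟩ := A.res_surjective θ
  have hn : IsNilpotent (aeval a₀ g) := isNilpotent_of_res A _ (by rw [← aeval_algHom_apply, ha₀, h0])
  have hu : IsUnit (aeval a₀ (derivative g)) :=
    (isUnit_iff_res_ne_zero A _).2 (by rwa [← aeval_algHom_apply, ha₀])
  obtain ⟨r, ⟨hr1, hr2⟩, hr3⟩ := existsUnique_nilpotent_sub_and_aeval_eq_zero hn hu
  refine ⟨r, ⟨?_, hr2⟩, fun b ⟨hb1, hb2⟩ => hr3 b ⟨isNilpotent_of_res A _ (by rw [map_sub, ha₀, hb1, sub_self]), hb2⟩⟩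
  have := (hr1.map A.res).eq_zero
  rw [map_sub, ha₀, sub_eq_zero] at this
  exact this.symm

open Polynomial in
/-- The residue map of a fibre product is onto when the residue field is separable. -/
theorem res_fib_surjective {Λ : Type u} {k : Type u} [CommRing Λ] [Field k] [Algebra Λ k]
    [IsNoetherianRing Λ] [Module.Finite Λ k] [Algebra.IsSeparable (↥(algebraMap Λ k).range) k]
    {A A₁ A₂ : ArtFun.Art Λ k} (f₁ : A₁ ⟶ A) (f₂ : A₂ ⟶ A) (c : k) :
    ∃ x : fibSub f₁ f₂, A₁.res x.1.1 = c := by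
  let F := (algebraMap Λ k).range
  have hF : IsField F := by
    haveI := isMaximal_ker_algebraMap (Λ := Λ) (k := k)
    exact (RingHom.quotientKerEquivRange (algebraMap Λ k)).symm.toMulEquiv.isField
      ((Ideal.Quotient.maximal_ideal_iff_isField_quotient _).1 inferInstance)
  letI : Field F := hF.toField
  haveI : Module.Finite F k := by
    letI : Algebra Λ F := (algebraMap Λ k).rangeRestrict.toAlgebra
    haveI : IsScalarTower Λ F k := IsScalarTower.of_algebraMap_eq fun _ => rfl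
    exact Module.Finite.of_restrictScalars_finite Λ F k
  obtain ⟨θ, hθ⟩ := Field.exists_primitive_element F k
  obtain ⟨g, hg, -, -⟩ := lifts_and_degree_eq_and_monic
    (f := (algebraMap Λ k).rangeRestrict) (p := minpoly F θ)
    ((Polynomial.lifts_iff_coeff_lifts _).2 fun n => (algebraMap Λ k).rangeRestrict_surjective _)
    (minpoly.monic (Algebra.IsIntegral.isIntegral θ))
  have key : ∀ q : Λ[X], aeval θ q = aeval θ (q.map (algebraMap Λ k).rangeRestrict) := fun q => by
    simp only [aeval_def, eval₂_map]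
    rfl
  have h0 : aeval θ g = 0 := by rw [key, hg, minpoly.aeval]
  have h1 : aeval θ (derivative g) ≠ 0 := by
    rw [key, ← derivative_map, hg]
    exact (Algebra.IsSeparable.isSeparable F θ).aeval_derivative_ne_zero (minpoly.aeval F θ)
  obtain ⟨a₁, ⟨ha₁, ha₁'⟩, -⟩ := existsUnique_root A₁ g θ h0 h1
  obtain ⟨a₂, ⟨ha₂, ha₂'⟩, -⟩ := existsUnique_root A₂ g θ h0 h1
  have e : f₁ a₁ = f₂ a₂ := (existsUnique_root A g θ h0 h1).unique
    ⟨(res_app f₁ a₁).trans ha₁, by rw [aeval_algHom_apply f₁.toAlgHom, ha₁', map_zero]⟩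
    ⟨(res_app f₂ a₂).trans ha₂, by rw [aeval_algHom_apply f₂.toAlgHom, ha₂', map_zero]⟩
  have hc : c ∈ Algebra.adjoin F {θ} := by
    rw [← IntermediateField.adjoin_simple_toSubalgebra_of_isAlgebraic (Algebra.IsAlgebraic.isAlgebraic θ), hθ]
    trivial
  rw [Algebra.adjoin_singleton_eq_range_aeval] at hc
  obtain ⟨p, rfl⟩ := hc
  obtain ⟨q, rfl⟩ := Polynomial.map_surjective _ (algebraMap Λ k).rangeRestrict_surjective p
  refine ⟨aeval ⟨(a₁, a₂), e⟩ q, ?_⟩
  have : A₁.res.comp ((AlgHom.fst Λ A₁ A₂).comp (fibSub f₁ f₂).val) (aeval ⟨(a₁, a₂), e⟩ q) = aeval θ q := by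
    rw [← aeval_algHom_apply]
    exact congrArg (fun t => aeval t q) ha₁
  exact this.trans (key q)


/-- If k is separable over the image of Λ → k, then for any two morphisms f₁ : A₁ → A and f₂ : A₂ → A in
the category of Artinian local Λ-algebras with residue field k the set-theoretic fibre product A₁
×_A A₂ is again an object of the category. -/
theorem result {Λ : Type u} {k : Type u} [CommRing Λ] [Field k] [Algebra Λ k]
    [IsNoetherianRing Λ] [Module.Finite Λ k]
    [Algebra.IsSeparable (↥(algebraMap Λ k).range) k]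
    {A A₁ A₂ : ArtFun.Art Λ k} (f₁ : A₁ ⟶ A) (f₂ : A₂ ⟶ A) :
    ∃ (B : ArtFun.Art Λ k) (p₁ : B ⟶ A₁) (p₂ : B ⟶ A₂), ArtFun.Art.IsFibreProd p₁ p₂ f₁ f₂ := by
  exact ⟨_, _, _, Groth.Agent.ArtFunLib.isFibreProd_fib f₁ f₂ (res_fib_surjective f₁ f₂)⟩

end Groth.Agent.S12712
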