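import Groth.Statements.S12713
import Groth.Agent.ArtFunLib.Cotangent

set_option autoImplicit false
universe u v
open CategoryTheory
open ArtFun ArtFun.Art

namespace Groth.Agent.S12713

/-- A small extension f : B → A in the category of Artinian local Λ-algebras with residue field k is not
an essential surjection (some morphism g : C → B is non-surjective although the composite C → A is
surjective) if and only if f has a section A → B in the category. -/
theorem result {Λ : Type u} {k : Type u} [CommRing Λ] [Field k] [Algebra Λ k]
    [IsNoetherianRing Λ] [Module.Finite Λ k]
    {A B : ArtFun.Art Λ k} (f : B ⟶ A) (hf : ArtFun.Art.IsSmallExt f) :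
    (∃ (C : ArtFun.Art Λ k) (g : C ⟶ B), Function.Surjective (g ≫ f) ∧ ¬ Function.Surjective g) ↔
      ∃ s : A ⟶ B, s ≫ f = 𝟙 A := by
  exact Groth.Agent.ArtFunLib.not_essential_iff_exists_section f hf

end Groth.Agent.S12713
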