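import Groth.Statements.S12714
import Groth.Prelude.Def_ArtFun5
import Mathlib.RingTheory.AdicCompletion.Functoriality
import Mathlib.RingTheory.Nakayama

set_option autoImplicit false
universe u v
open CategoryTheory
open ArtFun ArtFun.CRing

namespace Groth.Agent.S12714

/-- For a morphism f : R → S of complete local Noetherian Λ-algebras with residue field k (compatible
with the augmentations to k), the following are equivalent: (1) f is surjective; (2) m_R/m_R² →
m_S/m_S² is surjective, written as f(m_R)S + m_S² = m_S; (3) the map of cotangent spaces relative to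
Λ is surjective, written as m_Λ S + f(m_R)S + m_S² = m_S with m_Λ the kernel of Λ → k. -/
theorem result {Λ : Type u} {k : Type u} [CommRing Λ] [Field k] [Algebra Λ k]
    [IsNoetherianRing Λ] [Module.Finite Λ k]
    (R S : ArtFun.CRing Λ k) (f : R.carrier →ₐ[Λ] S.carrier) (hf : S.res.comp f = R.res) :
    List.TFAE [Function.Surjective f,
      Ideal.map f (IsLocalRing.maximalIdeal R.carrier) ⊔ IsLocalRing.maximalIdeal S.carrier ^ 2 =
        IsLocalRing.maximalIdeal S.carrier,
      Ideal.map (algebraMap Λ S.carrier) (RingHom.ker (algebraMap Λ k)) ⊔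
        Ideal.map f (IsLocalRing.maximalIdeal R.carrier) ⊔ IsLocalRing.maximalIdeal S.carrier ^ 2 =
        IsLocalRing.maximalIdeal S.carrier] := by
  set m := IsLocalRing.maximalIdeal R.carrier with hm
  set n := IsLocalRing.maximalIdeal S.carrier with hn
  have hle : Ideal.map f m ≤ n := by
    refine Ideal.map_le_iff_le_comap.2 fun a ha => ?_
    rw [Ideal.mem_comap, CRing.mem_maximalIdeal_iff]
    exact (DFunLike.congr_fun hf a).trans ((CRing.mem_maximalIdeal_iff R a).1 ha)
  have hres : ∀ s : S.carrier, ∃ r, f r - s ∈ n := by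
    intro s
    obtain ⟨r, hr⟩ := R.res_surjective (S.res s)
    refine ⟨r, (CRing.mem_maximalIdeal_iff S _).2 ?_⟩
    rw [map_sub, sub_eq_zero, ← hr]
    exact DFunLike.congr_fun hf r
  tfae_have 1 → 2 := by
    intro hs
    refine le_antisymm (sup_le hle (Ideal.pow_le_self two_ne_zero)) (le_sup_of_le_left ?_)
    intro x hx
    obtain ⟨a, rfl⟩ := hs x
    refine Ideal.mem_map_of_mem _ ((CRing.mem_maximalIdeal_iff R a).2 ?_)
    exact (DFunLike.congr_fun hf a).symm.trans ((CRing.mem_maximalIdeal_iff S _).1 hx)
  tfae_have 2 → 3 := by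
    intro h
    refine le_antisymm (sup_le (sup_le ?_ hle) (Ideal.pow_le_self two_ne_zero))
      (h.symm.le.trans (sup_le_sup_right le_sup_right _))
    refine Ideal.map_le_iff_le_comap.2 fun a ha => ?_
    rw [Ideal.mem_comap, CRing.mem_maximalIdeal_iff]
    exact (S.res.commutes a).trans ha
  tfae_have 3 → 1 := by
    intro h
    have h1 : Ideal.map (algebraMap Λ S.carrier) (RingHom.ker (algebraMap Λ k)) ≤ Ideal.map f m := by
      refine Ideal.map_le_iff_le_comap.2 fun a ha => ?_
      rw [Ideal.mem_comap, ← f.commutes]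
      exact Ideal.mem_map_of_mem _ ((CRing.mem_maximalIdeal_iff R _).2 ((R.res.commutes a).trans ha))
    have h2 : n ≤ Ideal.map f m := by
      refine Submodule.le_of_le_smul_of_le_jacobson_bot (I := n) (IsNoetherian.noetherian n)
        (by rw [IsLocalRing.jacobson_eq_maximalIdeal _ bot_ne_top]) ?_
      rw [smul_eq_mul, ← pow_two]
      exact h.symm.le.trans (sup_le_sup_right (sup_le h1 le_rfl) _)
    have he : Ideal.map (f : R.carrier →+* S.carrier) m = n := le_antisymm hle h2
    have := R.isAdicComplete
    have : IsHausdorff (Ideal.map (f : R.carrier →+* S.carrier) m) S.carrier := by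
      rw [he]; exact S.isAdicComplete.toIsHausdorff
    refine surjective_of_mk_map_comp_surjective (f := (f : R.carrier →+* S.carrier)) (I := m) ?_
    intro y
    obtain ⟨s, rfl⟩ := Ideal.Quotient.mk_surjective y
    obtain ⟨r, hr⟩ := hres s
    exact ⟨r, Ideal.Quotient.eq.2 (he.symm ▸ hr)⟩
  tfae_finish

end Groth.Agent.S12714
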