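import Groth.Statements.S12717
import Groth.Agent.ArtFunLib.Square
-- import your own Groth.Agent.* helpers here

set_option autoImplicit false
universe u v
open CategoryTheory
open ArtFun

namespace Groth.Agent.S12717

/-- For functors, a morphism η : F → G of functors on the category of Artinian local Λ-algebras with
residue field k is smooth (F(B) → F(A) ×_{G(A)} G(B) surjective for every surjection B → A) as soon
as this lifting condition holds for all small extensions B → A. -/
theorem result {Λ : Type u} {k : Type u} [CommRing Λ] [Field k] [Algebra Λ k]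
    [IsNoetherianRing Λ] [Module.Finite Λ k]
    {F G : ArtFun.Art Λ k ⥤ Type v} (η : F ⟶ G)
    (h : ∀ ⦃B A : ArtFun.Art Λ k⦄ (μ : B ⟶ A), ArtFun.Art.IsSmallExt μ →
      Function.Surjective (ArtFun.relCmp η μ)) :
    ArtFun.IsSmooth η := by
  intro B A μ hμ
  refine ArtFunLib.surjective_induction (fun A B μ => Function.Surjective (ArtFun.relCmp η μ))
    ?_ (fun _ _ p hp => h p hp) ?_ μ hμ
  · intro A B e he
    rintro ⟨⟨x, y⟩, hxy⟩
    obtain ⟨z, hz⟩ := (ArtFunLib.map_bijective_of_isIso F e).2 x
    refine ⟨z, Subtype.ext (Prod.ext hz ((ArtFunLib.map_bijective_of_isIso G e).1 ?_))⟩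
    change G.map e (η.app B z) = G.map e y
    exact (NatTrans.naturality_apply η e z).symm.trans ((congrArg (η.app A) hz).trans hxy)
  · intro A B C p q _ _ h1 h2
    rintro ⟨⟨x, y⟩, hxy⟩
    obtain ⟨w, hw⟩ := h2 ⟨(x, G.map p y), by rw [← ArtFunLib.map_comp']; exact hxy⟩
    have hw1 : F.map q w = x := congrArg (fun t => t.1.1) hw
    have hw2 : η.app B w = G.map p y := congrArg (fun t => t.1.2) hw
    obtain ⟨z, hz⟩ := h1 ⟨(w, y), hw2⟩
    have hz1 : F.map p z = w := congrArg (fun t => t.1.1) hz
    refine ⟨z, Subtype.ext (Prod.ext ?_ (congrArg (fun t => t.1.2) hz))⟩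
    change F.map (p ≫ q) z = x
    rw [ArtFunLib.map_comp', hz1, hw1]

end Groth.Agent.S12717
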