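import Groth.Statements.S12718
import Groth.Agent.ArtFunLib.VersalPS

set_option autoImplicit false
universe u v
open CategoryTheory
open ArtFun

namespace Groth.Agent.S12718

/-- Let R → S be a morphism of complete local Noetherian Λ-algebras with residue field k. The induced
morphism h_S → h_R of functors on Artinian local Λ-algebras with residue field k (composition with R
→ S) is smooth if and only if S is isomorphic as an R-algebra to a power series ring R[[X₁, …, Xₙ]]
for some n. Smoothness of h_S → h_R is written as versality of the corresponding family of h_R over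
S. -/
theorem result {Λ : Type u} {k : Type u} [CommRing Λ] [Field k] [Algebra Λ k]
    [IsNoetherianRing Λ] [Module.Finite Λ k]
    (R S : ArtFun.CRing Λ k) [Algebra R.carrier S.carrier] [IsScalarTower Λ R.carrier S.carrier]
    (hRS : S.res.comp (IsScalarTower.toAlgHom Λ R.carrier S.carrier) = R.res) :
    ArtFun.IsVersal ((ArtFun.Family.self R.carrier R.res).along
        (IsScalarTower.toAlgHom Λ R.carrier S.carrier) hRS) ↔
      ∃ n : ℕ, Nonempty (S.carrier ≃ₐ[R.carrier] MvPowerSeries (Fin n) R.carrier) := by
  constructor
  · exact Groth.Agent.ArtFunLib.VersalPS.exists_powerSeries_of_isVersal R S hRS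
  · rintro ⟨n, ⟨e⟩⟩
    exact Groth.Agent.ArtFunLib.VersalPS.isVersal_of_powerSeries R S hRS e

end Groth.Agent.S12718
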