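import Groth.Statements.S12724
import Groth.Agent.ArtFunLib.Square
-- import your own Groth.Agent.* helpers here

set_option autoImplicit false
universe u v
open CategoryTheory
open ArtFun

namespace Groth.Agent.S12724

/-- For functors, condition (S1) on a functor F on Artinian local Λ-algebras with residue field k
(surjectivity of F(A₁ ×_A A₂) → F(A₁) ×_{F(A)} F(A₂) for A₂ → A surjective) is equivalent to the
same condition restricted to small extensions A₂ → A. -/
theorem result {Λ : Type u} {k : Type u} [CommRing Λ] [Field k] [Algebra Λ k]
    [IsNoetherianRing Λ] [Module.Finite Λ k]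
    (F : ArtFun.Art Λ k ⥤ Type v) : ArtFun.S1 F ↔ ArtFun.Hbar F := by
  exact ⟨ArtFunLib.hbar_of_s1, ArtFunLib.s1_of_hbar⟩

end Groth.Agent.S12724
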