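import Groth.Statements.S12725
import Groth.Agent.ArtFunLib.Square
import Mathlib.LinearAlgebra.Dual.Lemmas

set_option autoImplicit false
universe u v
open CategoryTheory
open ArtFun

namespace Groth.Agent.S12725

/-- For functors, if F satisfies (S2) (bijectivity of F(A ×_k k[ε]) → F(A) ×_{F(k)} F(k[ε])), then for
every object E which is a square-zero extension k ⊕ V of k by a finite-dimensional vector space —
equivalently, m_E² = 0 and the augmentation E → k has a section in the category — and every fibre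
product square B = A ×_k E, the map F(B) → F(A) ×_{F(k)} F(E) is bijective. -/
theorem result {Λ : Type u} {k : Type u} [CommRing Λ] [Field k] [Algebra Λ k]
    [IsNoetherianRing Λ] [Module.Finite Λ k]
    {F : ArtFun.Art Λ k ⥤ Type v} (hF : ArtFun.Heps F)
    {E : ArtFun.Art Λ k} (hσ : Nonempty (ArtFun.Art.base Λ k ⟶ E))
    (hE : IsLocalRing.maximalIdeal E ^ 2 = ⊥)
    ⦃B A : ArtFun.Art Λ k⦄ (p' : B ⟶ A) (p'' : B ⟶ E)
    (h : ArtFun.Art.IsFibreProd p' p'' (ArtFun.Art.toBase A) (ArtFun.Art.toBase E)) :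
    Function.Bijective (ArtFun.cmp F h) := by
  classical
  suffices key : ∀ E : ArtFun.Art Λ k, Nonempty (ArtFun.Art.base Λ k ⟶ E) → IsLocalRing.maximalIdeal E ^ 2 = ⊥ →
      Groth.Agent.ArtFunLib.SqSurj F (ArtFun.Art.toBase E) ∧ Groth.Agent.ArtFunLib.SqInj F (ArtFun.Art.toBase E) by
    exact ⟨(key E hσ hE).2 p' p'' _ h, (key E hσ hE).1 p' p'' _ h⟩
  intro E
  induction E using Groth.Agent.ArtFunLib.art_induction with
  | hbase =>
    intro _ _
    haveI : IsIso (ArtFun.Art.toBase (ArtFun.Art.base Λ k)) :=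
      Groth.Agent.ArtFunLib.isIso_of_bijective _ Function.bijective_id
    exact ⟨Groth.Agent.ArtFunLib.sqSurj_of_isIso F _, Groth.Agent.ArtFunLib.sqInj_of_isIso F _⟩
  | @hiso A B e he ih =>
    intro hσ hsq
    obtain ⟨σ⟩ := hσ
    haveI := he
    have hb := Groth.Agent.ArtFunLib.bijective_of_isIso e
    have hA : IsLocalRing.maximalIdeal A ^ 2 = ⊥ := by
      rw [← IsLocalRing.map_maximalIdeal_of_surjective (e.toAlgHom : B →+* A) hb.2, ← Ideal.map_pow, hsq,
        Ideal.map_bot]
    obtain ⟨hs, hi⟩ := ih ⟨σ ≫ e⟩ hA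
    rw [← ArtFun.Art.eq_toBase (e ≫ ArtFun.Art.toBase A)]
    exact ⟨Groth.Agent.ArtFunLib.sqSurj_comp F _ _ (Groth.Agent.ArtFunLib.toBase_surjective A)
        (Groth.Agent.ArtFunLib.sqSurj_of_isIso F e) hs,
      Groth.Agent.ArtFunLib.sqInj_comp F _ _ (Groth.Agent.ArtFunLib.toBase_surjective A)
        (Groth.Agent.ArtFunLib.sqInj_of_isIso F e) hi⟩
  | @hsmall A B q hq ih =>
    intro hσ hsq
    obtain ⟨σ⟩ := hσ
    have hA : IsLocalRing.maximalIdeal A ^ 2 = ⊥ := by
      rw [← IsLocalRing.map_maximalIdeal_of_surjective (q.toAlgHom : B →+* A) hq.1, ← Ideal.map_pow, hsq,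
        Ideal.map_bot]
    obtain ⟨hs, hi⟩ := ih ⟨σ ≫ q⟩ hA
    rw [← ArtFun.Art.eq_toBase (q ≫ ArtFun.Art.toBase A)]
    -- a k-structure on B and a functional
    letI : Algebra k B := σ.toAlgHom.toRingHom.toAlgebra
    have hsm : ∀ (c : k) (x : B), c • x = σ c * x := fun c x => rfl
    have hσres : ∀ c : k, B.res (σ c) = c := fun c => ArtFun.Art.res_app σ c
    have hmem : ∀ x : B, x - σ (B.res x) ∈ IsLocalRing.maximalIdeal B := fun x => by
      rw [ArtFun.Art.mem_maximalIdeal_iff, map_sub, hσres, sub_self]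
    have hmul0 : ∀ x y : B, x ∈ IsLocalRing.maximalIdeal B → y ∈ IsLocalRing.maximalIdeal B → x * y = 0 :=
      fun x y hx hy => by
        rw [← Ideal.mem_bot, ← hsq, pow_two]
        exact Ideal.mul_mem_mul hx hy
    obtain ⟨t, ht⟩ := hq.2.2.1
    have htm : t ∈ IsLocalRing.maximalIdeal B :=
      Groth.Agent.ArtFunLib.ker_le_maximalIdeal q (by rw [ht]; exact Ideal.mem_span_singleton_self t)
    have ht0 : t ≠ 0 := fun h0 => hq.2.1 (ht.trans (by
      show Ideal.span {t} = ⊥
      rw [Ideal.span_singleton_eq_bot]; exact h0))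
    obtain ⟨lam, hlam⟩ := Module.Projective.exists_dual_eq_one k ht0
    let ρ : B → DualNumber k := fun x => (B.res x, lam (x - σ (B.res x)))
    have hfst : ∀ x, TrivSqZeroExt.fst (ρ x) = B.res x := fun x => rfl
    have hsnd : ∀ x, TrivSqZeroExt.snd (ρ x) = lam (x - σ (B.res x)) := fun x => rfl
    let ρr : B →+* DualNumber k :=
      { toFun := ρ
        map_one' := TrivSqZeroExt.ext (by rw [hfst, map_one]; rfl) (by
          rw [hsnd, map_one, show σ (1 : k) = (1 : B) from map_one σ.toAlgHom, sub_self, map_zero]; rfl)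
        map_mul' := fun x y => TrivSqZeroExt.ext (by rw [TrivSqZeroExt.fst_mul, hfst, hfst, hfst, map_mul]) (by
          rw [DualNumber.snd_mul, hsnd, hsnd, hsnd, hfst, hfst, map_mul]
          rw [show σ (B.res x * B.res y) = σ (B.res x) * σ (B.res y) from map_mul σ.toAlgHom _ _]
          have e : x * y - σ (B.res x) * σ (B.res y) =
              (B.res x) • (y - σ (B.res y)) + (B.res y) • (x - σ (B.res x)) := by
            rw [hsm, hsm]
            have := hmul0 _ _ (hmem x) (hmem y)
            linear_combination this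
          rw [e, map_add, map_smul, map_smul, smul_eq_mul, smul_eq_mul]
          ring)
        map_zero' := TrivSqZeroExt.ext (by rw [hfst, map_zero]; rfl) (by
          rw [hsnd, map_zero, show σ (0 : k) = (0 : B) from map_zero σ.toAlgHom, sub_self, map_zero]; rfl)
        map_add' := fun x y => TrivSqZeroExt.ext (by rw [TrivSqZeroExt.fst_add, hfst, hfst, hfst, map_add]) (by
          rw [TrivSqZeroExt.snd_add, hsnd, hsnd, hsnd, ← map_add]
          congr 1
          rw [map_add, show σ (B.res x + B.res y) = σ (B.res x) + σ (B.res y) from map_add σ.toAlgHom _ _]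
          abel) }
    let r : B ⟶ ArtFun.Art.dual Λ k :=
      ⟨{ ρr with
          commutes' := fun c => TrivSqZeroExt.ext (by
            show B.res (algebraMap Λ B c) = _
            rw [AlgHom.commutes]; rfl) (by
            show lam (algebraMap Λ B c - σ (B.res (algebraMap Λ B c))) = _
            rw [AlgHom.commutes, show σ (algebraMap Λ k c) = algebraMap Λ B c from σ.toAlgHom.commutes c,
              sub_self, map_zero]
            rfl) }, AlgHom.ext fun x => rfl⟩
    have hr1 : ∀ x, TrivSqZeroExt.fst (r x : DualNumber k) = B.res x := hfst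
    have hr2 : ∀ x, TrivSqZeroExt.snd (r x : DualNumber k) = lam (x - σ (B.res x)) := hsnd
    have hrt : ∀ c : k, lam (σ c * t) = c := fun c => by rw [← hsm, map_smul, hlam, smul_eq_mul, mul_one]
    have hqt : q t = 0 := RingHom.mem_ker.1 (by rw [ht]; exact Ideal.mem_span_singleton_self t)
    have hBsq : ArtFun.Art.IsFibreProd q r (ArtFun.Art.toBase A) (ArtFun.Art.toBase (ArtFun.Art.dual Λ k)) := by
      refine ⟨by rw [ArtFun.Art.eq_toBase (q ≫ _), ArtFun.Art.eq_toBase (r ≫ _)], fun x y e₁ e₂ => ?_,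
        fun a d e => ?_⟩
      · have h1 : x - y ∈ RingHom.ker q.toAlgHom := by
          rw [RingHom.mem_ker, map_sub, sub_eq_zero]; exact e₁
        rw [ht] at h1
        obtain ⟨c, hc⟩ := Ideal.mem_span_singleton'.1 h1
        have hres : B.res x = B.res y := (hr1 x).symm.trans ((congrArg TrivSqZeroExt.fst e₂).trans (hr1 y))
        have h2 := congrArg TrivSqZeroExt.snd e₂
        rw [hr2, hr2, hres, ← sub_eq_zero, ← map_sub, sub_sub_sub_cancel_right, ← hc] at h2
        have hct : c * t = σ (B.res c) * t := by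
          rw [← sub_eq_zero, ← sub_mul]; exact hmul0 _ _ (hmem c) htm
        rw [hct, hrt] at h2
        rw [← sub_eq_zero, ← hc, hct, h2, show σ (0 : k) = (0 : B) from map_zero σ.toAlgHom, zero_mul]
      · obtain ⟨x, hx⟩ := hq.1 a
        have hres : B.res x = TrivSqZeroExt.fst (d : DualNumber k) :=
          (ArtFun.Art.res_app q x).symm.trans ((congrArg A.res hx).trans e)
        let c : k := TrivSqZeroExt.snd (d : DualNumber k) - lam (x - σ (B.res x))
        have hres' : B.res (x + σ c * t) = B.res x := by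
          rw [map_add, map_mul, (ArtFun.Art.mem_maximalIdeal_iff B t).1 htm, mul_zero, add_zero]
        refine ⟨x + σ c * t, ?_, TrivSqZeroExt.ext ?_ ?_⟩
        · show q.toAlgHom (x + σ c * t) = a
          rw [map_add, map_mul, show q.toAlgHom t = 0 from hqt, mul_zero, add_zero]
          exact hx
        · rw [hr1, hres', hres]
        · rw [hr2, hres', add_sub_right_comm, map_add, hrt]
          exact add_sub_cancel _ _
    have hbij : ∀ ⦃B' A' : ArtFun.Art Λ k⦄ (s' : B' ⟶ A') (s'' : B' ⟶ B) (f' : A' ⟶ A)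
        (hsq' : ArtFun.Art.IsFibreProd s' s'' f' q), Function.Bijective (ArtFun.cmp F hsq') := by
      intro B' A' s' s'' f' hsq'
      have hC : ArtFun.Art.IsFibreProd s' (s'' ≫ r) (ArtFun.Art.toBase A') (ArtFun.Art.toBase (ArtFun.Art.dual Λ k)) := by
        refine ⟨by rw [ArtFun.Art.eq_toBase (s' ≫ _), ArtFun.Art.eq_toBase ((s'' ≫ r) ≫ _)],
          fun b₁ b₂ e₁ e₂ => hsq'.inj _ _ e₁ (hBsq.inj _ _ ?_ e₂), fun a d e => ?_⟩
        · rw [← hsq'.w_apply, ← hsq'.w_apply, e₁]
        · obtain ⟨x, hx1, hx2⟩ := hBsq.surj (f' a) d ((ArtFun.Art.res_app f' a).trans e)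
          obtain ⟨b, hb1, hb2⟩ := hsq'.surj a x hx1.symm
          exact ⟨b, hb1, (congrArg r hb2).trans hx2⟩
      refine ⟨fun z₁ z₂ e => Groth.Agent.ArtFunLib.cmp_ext (hF _ _ hC).1 (congrArg (fun t => t.1.1) e) ?_, ?_⟩
      · rw [Groth.Agent.ArtFunLib.map_comp', Groth.Agent.ArtFunLib.map_comp']
        exact congrArg (F.map r) (congrArg (fun t => t.1.2) e)
      · rintro ⟨⟨x', x''⟩, e⟩
        obtain ⟨z, hz1, hz2⟩ := Groth.Agent.ArtFunLib.exists_of_cmp_surjective (hF _ _ hC).2 x' (F.map r x'')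
          (by rw [← Groth.Agent.ArtFunLib.map_comp' F r, ArtFun.Art.eq_toBase (r ≫ _),
            ← ArtFun.Art.eq_toBase (f' ≫ ArtFun.Art.toBase A), ← ArtFun.Art.eq_toBase (q ≫ ArtFun.Art.toBase A),
            Groth.Agent.ArtFunLib.map_comp', Groth.Agent.ArtFunLib.map_comp']
              exact congrArg _ e)
        refine ⟨z, ArtFun.FibProd.ext hz1 (Groth.Agent.ArtFunLib.cmp_ext (hF _ _ hBsq).1 ?_ ?_)⟩
        · change F.map q (F.map s'' z) = F.map q x''
          rw [← Groth.Agent.ArtFunLib.map_comp', ← hsq'.w, Groth.Agent.ArtFunLib.map_comp', hz1]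
          exact e
        · change F.map r (F.map s'' z) = F.map r x''
          rw [← Groth.Agent.ArtFunLib.map_comp']
          exact hz2
    exact ⟨Groth.Agent.ArtFunLib.sqSurj_comp F _ _ (Groth.Agent.ArtFunLib.toBase_surjective A)
        (fun B' A' s' s'' f' h' => (hbij s' s'' f' h').2) hs,
      Groth.Agent.ArtFunLib.sqInj_comp F _ _ (Groth.Agent.ArtFunLib.toBase_surjective A)
        (fun B' A' s' s'' f' h' => (hbij s' s'' f' h').1) hi⟩

end Groth.Agent.S12725
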