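import Groth.Statements.S12729
import Groth.Agent.ArtFunLib.Hull.Build
import Groth.Prelude.Def_ArtFun3

set_option autoImplicit false
universe u v
open CategoryTheory
open ArtFun

namespace Groth.Agent.S12729

/-- For functors, let F satisfy (S1), let p : B → A be a surjection in the category of Artinian local
Λ-algebras with residue field k whose kernel I is annihilated by m_B, and let x ∈ F(A). Then the set
of ideals J ⊆ I for which x lifts to F(B/J) along B/J → A has a least element. -/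
theorem result {Λ : Type u} {k : Type u} [CommRing Λ] [Field k] [Algebra Λ k]
    [IsNoetherianRing Λ] [Module.Finite Λ k]
    {F : ArtFun.Art Λ k ⥤ Type v} (h1 : ArtFun.S1 F)
    {B A : ArtFun.Art Λ k} (p : B ⟶ A) (hp : ArtFun.Art.IsSemismallExt p) (x : F.obj A) :
    ∃ (J₀ : Ideal B) (hJ₀ : J₀ ≤ RingHom.ker p.toAlgHom) (hJ₀' : J₀ ≤ IsLocalRing.maximalIdeal B),
      (∃ y : F.obj (ArtFun.Art.quot B J₀ hJ₀'), F.map (ArtFun.Art.quotFactor hJ₀' p hJ₀) y = x) ∧
      ∀ (J : Ideal B) (hJ : J ≤ RingHom.ker p.toAlgHom) (hJ' : J ≤ IsLocalRing.maximalIdeal B),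
        (∃ y : F.obj (ArtFun.Art.quot B J hJ'), F.map (ArtFun.Art.quotFactor hJ' p hJ) y = x) → J₀ ≤ J := by
  open Groth.Agent.ArtFunLib Groth.Agent.ArtFunLib.Hull in
  have hker : RingHom.ker B.res = IsLocalRing.maximalIdeal B := by
    ext b; exact (ArtFun.Art.mem_maximalIdeal_iff B b).symm
  open Groth.Agent.ArtFunLib Groth.Agent.ArtFunLib.Hull in
  have hnear : ∀ J : Ideal B, J ≤ RingHom.ker p.toAlgHom → IsNear B.res J := fun J hJ => by
    refine ⟨hJ.trans (hker ▸ ker_le_maximalIdeal p), ?_⟩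
    obtain ⟨N, hN⟩ := (isArtinianRing_iff_isNilpotent_maximalIdeal B).1 inferInstance
    exact ⟨N, by rw [hker, hN, Ideal.zero_eq_bot]; exact bot_le⟩
  open Groth.Agent.ArtFunLib Groth.Agent.ArtFunLib.Hull in
  haveI : IsNoetherianRing B := inferInstance
  open Groth.Agent.ArtFunLib Groth.Agent.ArtFunLib.Hull in
  let e : qobj B.res B.res_surjective (RingHom.ker p.toAlgHom) (hnear _ le_rfl) ⟶ A :=
    Art.quotFactor (Groth.Agent.ArtFunLib.ker_le_maximalIdeal p) p le_rfl
  have he : Function.Bijective e := ⟨(injective_iff_map_eq_zero e.toAlgHom).2 fun z hz => by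
      obtain ⟨b, rfl⟩ := Ideal.Quotient.mk_surjective z
      exact Ideal.Quotient.eq_zero_iff_mem.2 hz,
    fun a => (hp.1 a).elim fun b hb => ⟨Ideal.Quotient.mk _ b, hb⟩⟩
  open Groth.Agent.ArtFunLib Groth.Agent.ArtFunLib.Hull in
  have hbij : Function.Bijective (F.map e) := by
    haveI := isIso_of_bijective e he
    exact map_bijective_of_isIso F e
  obtain ⟨x', hx'⟩ := hbij.2 x
  open Groth.Agent.ArtFunLib Groth.Agent.ArtFunLib.Hull in
  let L : Level B.res B.res_surjective F := ⟨_, hnear _ le_rfl, x'⟩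
  open Groth.Agent.ArtFunLib Groth.Agent.ArtFunLib.Hull in
  have hm : RingHom.ker B.res * RingHom.ker p.toAlgHom ≤ ⊥ := by rw [hker, hp.2]
  open Groth.Agent.ArtFunLib Groth.Agent.ArtFunLib.Hull in
  have hiff : ∀ (J : Ideal B) (hJ : J ≤ RingHom.ker p.toAlgHom) (hJ' : J ≤ IsLocalRing.maximalIdeal B),
      Lifts L J ↔ ∃ y : F.obj (Art.quot B J hJ'), F.map (Art.quotFactor hJ' p hJ) y = x := fun J hJ hJ' => by
    have hc : qTrans B.res B.res_surjective (hnear J hJ) (hnear _ le_rfl) hJ ≫ e = Art.quotFactor hJ' p hJ :=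
      qobj_hom_ext B.res B.res_surjective fun _ => rfl
    constructor
    · rintro ⟨hn, h, -, y, hy⟩
      exact ⟨y, (congrArg (fun φ => F.map φ y) hc.symm).trans
        ((map_comp' F _ e y).trans ((congrArg (F.map e) hy).trans hx'))⟩
    · rintro ⟨y, hy⟩
      exact ⟨hnear J hJ, hJ, hm.trans bot_le, y, hbij.1 (((map_comp' F _ e y).symm.trans
        ((congrArg (fun φ => F.map φ y) hc).trans hy)).trans hx'.symm)⟩
  open Groth.Agent.ArtFunLib Groth.Agent.ArtFunLib.Hull in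
  haveI : IsArtinianRing (B ⧸ (⊥ : Ideal B)) := inferInstance
  open Groth.Agent.ArtFunLib Groth.Agent.ArtFunLib.Hull in
  obtain ⟨J₀, hJ₀, hmin⟩ := exists_least (⊥ : Ideal B) (Lifts L) (fun I _ => bot_le) ⟨_, lifts_self L⟩
    (fun I J => lifts_inf h1 L)
  have h₀ : J₀ ≤ RingHom.ker p.toAlgHom := hJ₀.2.1
  have h₀' : J₀ ≤ IsLocalRing.maximalIdeal B := h₀.trans (Groth.Agent.ArtFunLib.ker_le_maximalIdeal p)
  exact ⟨J₀, h₀, h₀', (hiff J₀ h₀ h₀').1 hJ₀, fun J hJ hJ' hy => hmin J ((hiff J hJ hJ').2 hy)⟩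

end Groth.Agent.S12729
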