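import Groth.Statements.S12732
import Groth.Agent.ArtFunLib.Hull.Criteria

set_option autoImplicit false
universe u v
open CategoryTheory
open ArtFun

namespace Groth.Agent.S12732

/-- (3) ⇒ (1): suppose k admits no nonzero Λ-derivation into itself (that is, k is separable over the
image of Λ in k; this holds in the classical case). A functor F on Artinian local Λ-algebras with
residue field k with F(k) a point which satisfies (S1), (S2) and has finite-dimensional tangent
space admits a hull: a versal family over a complete local Noetherian ring with residue field k that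
is bijective on tangent spaces. -/
theorem result {Λ : Type u} {k : Type u} [CommRing Λ] [Field k] [Algebra Λ k]
    [IsNoetherianRing Λ] [Module.Finite Λ k]
    (hk : Subsingleton (Derivation Λ k k))
    (F : ArtFun.Art Λ k ⥤ Type v) [ArtFun.TangentStr F]
    (h0 : ArtFun.H0 F) (h1 : ArtFun.S1 F) (h2 : ArtFun.Heps F) (h3 : ArtFun.Hfin F) :
    ArtFun.HasHull F := by
  obtain ⟨R, ξ, -, hm⟩ := ArtFunLib.Hull.exists_versal h0 (ArtFunLib.hbar_of_s1 h1) h2 h3
  refine ⟨⟨R, ξ, hm fun x₀ σ₁ σ₂ _ => ?_⟩⟩
  have key : ∀ (σ : ArtFun.Art.base Λ k ⟶ ArtFun.Art.dual Λ k) (a : k),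
      TrivSqZeroExt.snd (σ a) = 0 := by
    intro σ a
    let s : k →ₐ[Λ] DualNumber k := σ.toAlgHom
    have hfst : ∀ b, TrivSqZeroExt.fst (s b) = b := fun b => DFunLike.congr_fun σ.res_comp b
    let D : Derivation Λ k k :=
      { toFun := fun b => TrivSqZeroExt.snd (s b)
        map_add' := fun b c => by simp
        map_smul' := fun l b => by simp
        map_one_eq_zero' := by
          change TrivSqZeroExt.snd (s 1) = 0
          rw [map_one]; rfl
        leibniz' := fun b c => by
          change TrivSqZeroExt.snd (s (b * c)) =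
            b • TrivSqZeroExt.snd (s c) + c • TrivSqZeroExt.snd (s b)
          rw [map_mul, TrivSqZeroExt.snd_mul, hfst, hfst, op_smul_eq_smul] }
    exact DFunLike.congr_fun (hk.elim D 0) a
  exact ArtFunLib.hom_apply_ext fun a => TrivSqZeroExt.ext
    ((ArtFun.Art.res_app σ₁ a).trans (ArtFun.Art.res_app σ₂ a).symm)
    ((key σ₁ a).trans (key σ₂ a).symm)

end Groth.Agent.S12732
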