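import Groth.Statements.S12736
import Groth.Agent.ArtFunLib.Smooth
-- import your own Groth.Agent.* helpers here

set_option autoImplicit false
universe u v
open CategoryTheory
open ArtFun

namespace Groth.Agent.S12736

/-- For functors, let φ : F → G be a morphism of functors on Artinian local Λ-algebras with residue
field k whose values at k are points and which satisfy (S2), with the natural vector space
structures on their tangent spaces. Then the differential dφ : F(k[ε]) → G(k[ε]) is k-linear. -/
theorem result {Λ : Type u} {k : Type u} [CommRing Λ] [Field k] [Algebra Λ k]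
    [IsNoetherianRing Λ] [Module.Finite Λ k]
    {F G : ArtFun.Art Λ k ⥤ Type v} [ArtFun.TangentStr F] [ArtFun.TangentStr G]
    (hF0 : ArtFun.H0 F) (hF2 : ArtFun.Heps F) (hG0 : ArtFun.H0 G) (hG2 : ArtFun.Heps G) (φ : F ⟶ G) :
    ∃ f : ArtFun.TangentSpace F →ₗ[k] ArtFun.TangentSpace G, ⇑f = ArtFun.TangentSpace.map φ := by
  refine ⟨{ toFun := ArtFun.TangentSpace.map φ, map_add' := fun x y => ?_, map_smul' := fun c x => ?_ }, rfl⟩
  · obtain ⟨z, hx, hy⟩ := ArtFunLib.exists_pair hF0 hF2 x.val y.val
    have hx' : x = ArtFun.TangentSpace.mk (F.map ArtFun.Art.pr₁ z) := hx.symm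
    have hy' : y = ArtFun.TangentSpace.mk (F.map ArtFun.Art.pr₂ z) := hy.symm
    subst hx' hy'
    rw [ArtFunLib.tangent_add_eq]
    calc ArtFun.TangentSpace.map φ (ArtFun.TangentSpace.mk (F.map ArtFun.Art.plus z))
        = ArtFun.TangentSpace.mk (G.map ArtFun.Art.plus (φ.app _ z)) :=
          NatTrans.naturality_apply φ _ z
      _ = _ := (ArtFunLib.tangent_add_eq _).symm
      _ = _ := by
          exact congrArg₂ (fun a b : ArtFun.TangentSpace G => a + b)
            (NatTrans.naturality_apply φ _ z).symm (NatTrans.naturality_apply φ _ z).symm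
  · calc ArtFun.TangentSpace.map φ (c • x)
        = ArtFun.TangentSpace.map φ (ArtFun.TangentSpace.mk (F.map (ArtFun.Art.scale c) x.val)) :=
          congrArg _ (ArtFunLib.tangent_smul_eq c x.val)
      _ = ArtFun.TangentSpace.mk (G.map (ArtFun.Art.scale c) (ArtFun.TangentSpace.map φ x).val) :=
          NatTrans.naturality_apply φ _ _
      _ = c • ArtFun.TangentSpace.map φ x := (ArtFunLib.tangent_smul_eq c _).symm

end Groth.Agent.S12736
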