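import Groth.Statements.S12737
import Groth.Agent.ArtFunLib.Completion

set_option autoImplicit false
universe u v
open CategoryTheory
open ArtFun

namespace Groth.Agent.S12737

/-- For Λ Noetherian with a finite map to the field k there is a complete local Noetherian Λ-algebra R
with residue field k whose functor h_R on Artinian local Λ-algebras with residue field k is smooth.
(The published lemma moreover pins the cotangent data of R — the first homology of the naive
cotangent complex of k over Λ equals m_R/m_R² and Ω_{R/Λ} ⊗ k = Ω_{k/Λ}; only the existence of a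
smooth R is stated here.) -/
theorem result {Λ : Type u} {k : Type u} [CommRing Λ] [Field k] [Algebra Λ k]
    [IsNoetherianRing Λ] [Module.Finite Λ k] :
    ∃ R : ArtFun.CRing Λ k, ArtFun.IsSmoothFunctor (ArtFun.hR R.carrier R.res) := by
  classical
  obtain ⟨b, hb⟩ := (Module.Finite.fg_top : (⊤ : Submodule Λ k).FG)
  have hres : Function.Surjective (MvPolynomial.aeval (fun y : ↥b => (y : k)) : MvPolynomial ↥b Λ →ₐ[Λ] k) := fun c => by
    have hc : c ∈ LinearMap.range (MvPolynomial.aeval (fun y : ↥b => (y : k)) : MvPolynomial ↥b Λ →ₐ[Λ] k).toLinearMap := by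
      refine (Submodule.span_le.2 fun y hy => ?_) (hb.ge (Submodule.mem_top (x := c)))
      exact ⟨MvPolynomial.X ⟨y, hy⟩, by simp⟩
    exact hc
  obtain ⟨B, ι, hι, hex, hu⟩ := Groth.Agent.ArtFunLib.Completion.exists_completion _ hres
  exact ⟨B, Groth.Agent.ArtFunLib.Completion.isSmoothFunctor_hR B ι (fun T g hg => hex T g (hg.trans hι)) hu⟩

end Groth.Agent.S12737
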