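import Groth.Statements.S12740
import Groth.Agent.ArtFunLib.Completion

set_option autoImplicit false
universe u v
open CategoryTheory
open ArtFun ArtFun.CRing

namespace Groth.Agent.S12740

/-- The category of complete local Noetherian Λ-algebras with residue field k (Λ Noetherian, Λ → k
finite; morphisms the Λ-algebra maps compatible with the augmentations) admits pushouts: for R → S₁
and R → S₂ there is an object P with morphisms from S₁ and S₂ agreeing on R, through which every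
compatible pair S₁ → T ← S₂ agreeing on R factors by a unique morphism P → T. -/
theorem result {Λ : Type u} {k : Type u} [CommRing Λ] [Field k] [Algebra Λ k]
    [IsNoetherianRing Λ] [Module.Finite Λ k]
    (R S₁ S₂ : ArtFun.CRing Λ k)
    (f₁ : R.carrier →ₐ[Λ] S₁.carrier) (hf₁ : S₁.res.comp f₁ = R.res)
    (f₂ : R.carrier →ₐ[Λ] S₂.carrier) (hf₂ : S₂.res.comp f₂ = R.res) :
    ∃ (P : ArtFun.CRing Λ k) (i₁ : S₁.carrier →ₐ[Λ] P.carrier) (i₂ : S₂.carrier →ₐ[Λ] P.carrier),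
      P.res.comp i₁ = S₁.res ∧ P.res.comp i₂ = S₂.res ∧ i₁.comp f₁ = i₂.comp f₂ ∧
      ∀ (T : ArtFun.CRing Λ k) (g₁ : S₁.carrier →ₐ[Λ] T.carrier) (g₂ : S₂.carrier →ₐ[Λ] T.carrier),
        T.res.comp g₁ = S₁.res → T.res.comp g₂ = S₂.res → g₁.comp f₁ = g₂.comp f₂ →
          ∃! h : P.carrier →ₐ[Λ] T.carrier, T.res.comp h = P.res ∧ h.comp i₁ = g₁ ∧ h.comp i₂ = g₂ := by
  obtain ⟨P, i₁, i₂, h₁, h₂, hu⟩ := Groth.Agent.ArtFunLib.Completion.exists_coproduct S₁ S₂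
  obtain ⟨Q, q, hq, hqs, hqk, hQ⟩ := Groth.Agent.ArtFunLib.Completion.exists_quotient P
    (Ideal.span (Set.range fun r => i₁ (f₁ r) - i₂ (f₂ r))) (Ideal.span_le.2 (by
      rintro _ ⟨r, rfl⟩
      rw [SetLike.mem_coe, ArtFun.CRing.mem_maximalIdeal_iff, map_sub, sub_eq_zero]
      exact ((congr($h₁ (f₁ r))).trans (congr($hf₁ r))).trans
        ((congr($h₂ (f₂ r))).trans (congr($hf₂ r))).symm))
  refine ⟨Q, q.comp i₁, q.comp i₂, by rw [← AlgHom.comp_assoc, hq, h₁], by rw [← AlgHom.comp_assoc, hq, h₂],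
    AlgHom.ext fun r => ?_, fun T g₁ g₂ e₁ e₂ e => ?_⟩
  · show q (i₁ (f₁ r)) = q (i₂ (f₂ r))
    rw [← sub_eq_zero, ← map_sub, ← RingHom.mem_ker, hqk]
    exact Ideal.subset_span ⟨r, rfl⟩
  obtain ⟨c, ⟨hc, hc₁, hc₂⟩, huc⟩ := hu T g₁ g₂ e₁ e₂
  obtain ⟨h, hh, hh'⟩ := hQ T c hc (Ideal.span_le.2 (by
    rintro _ ⟨r, rfl⟩
    rw [SetLike.mem_coe, RingHom.mem_ker, map_sub, sub_eq_zero]
    exact ((congr($hc₁ (f₁ r))).trans (congr($e r))).trans (congr($hc₂ (f₂ r))).symm))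
  refine ⟨h, ⟨hh, by rw [← AlgHom.comp_assoc, hh', hc₁], by rw [← AlgHom.comp_assoc, hh', hc₂]⟩,
    fun h' ⟨a, b, d⟩ => (AlgHom.cancel_right hqs).1 ?_⟩
  rw [hh', huc (h'.comp q) ⟨by rw [← AlgHom.comp_assoc, a, hq], by rw [AlgHom.comp_assoc, b], by rw [AlgHom.comp_assoc, d]⟩]

end Groth.Agent.S12740
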