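import Groth.Statements.S12744
import Groth.Agent.ArtFunLib.Smooth
-- import your own Groth.Agent.* helpers here

set_option autoImplicit false
universe u v
open CategoryTheory
open ArtFun

namespace Groth.Agent.S12744

/-- For functors, if η : F → G is a smooth morphism of functors on Artinian local Λ-algebras with
residue field k and F(k) → G(k) is surjective, then for every complete local Noetherian R with
residue field k the induced map on formal elements over R (compatible systems of elements over the
truncations R/m^(n+1)) is surjective. -/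
theorem result {Λ : Type u} {k : Type u} [CommRing Λ] [Field k] [Algebra Λ k]
    [IsNoetherianRing Λ] [Module.Finite Λ k]
    {F G : ArtFun.Art Λ k ⥤ Type v} (η : F ⟶ G) (hη : ArtFun.IsSmooth η)
    (h0 : Function.Surjective (η.app (ArtFun.Art.base Λ k))) (R : ArtFun.CRing Λ k) :
    Function.Surjective (fun u : ArtFun.FormalElt F R => u.map η) := by
  intro u
  have hs := ArtFunLib.surjective_app_of_isSmooth η hη h0
  have hl := (ArtFunLib.isSmooth_iff_liftsAt η).1 hη
  have hsurj : ∀ n, Function.Surjective (R.truncMap n) := fun n x => by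
    obtain ⟨a, rfl⟩ := Ideal.Quotient.mk_surjective x
    exact ⟨Ideal.Quotient.mk _ a, rfl⟩
  choose x₀ hx₀ using hs (R.trunc 0) (u.elt 0)
  let step : ∀ n (x : {x : F.obj (R.trunc n) // η.app _ x = u.elt n}),
      {z : F.obj (R.trunc (n + 1)) // η.app _ z = u.elt (n + 1) ∧ F.map (R.truncMap n) z = x.1} :=
    fun n x => ⟨(hl _ (hsurj n) x.1 (u.elt (n + 1)) (x.2.trans (u.compat n).symm)).choose,
      (hl _ (hsurj n) x.1 (u.elt (n + 1)) (x.2.trans (u.compat n).symm)).choose_spec.2,
      (hl _ (hsurj n) x.1 (u.elt (n + 1)) (x.2.trans (u.compat n).symm)).choose_spec.1⟩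
  let X : ∀ n, {x : F.obj (R.trunc n) // η.app _ x = u.elt n} :=
    fun n => Nat.rec ⟨x₀, hx₀⟩ (fun m x => ⟨(step m x).1, (step m x).2.1⟩) n
  exact ⟨⟨fun n => (X n).1, fun n => (step n (X n)).2.2⟩, ArtFun.FormalElt.ext' fun n => (X n).2⟩

end Groth.Agent.S12744
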