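import Groth.Statements.S12746
import Groth.Agent.ArtFunLib.Smooth
import Groth.Agent.ArtFunLib.FunPullback
-- import your own Groth.Agent.* helpers here

set_option autoImplicit false
universe u v
open CategoryTheory
open ArtFun

namespace Groth.Agent.S12746

/-- For functors, if F, G, H are functors on Artinian local Λ-algebras with residue field k satisfying
(RS) and f : H → F, g : G → F are morphisms, then the fibre product functor H ×_F G satisfies (RS). -/
theorem result {Λ : Type u} {k : Type u} [CommRing Λ] [Field k] [Algebra Λ k]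
    [IsNoetherianRing Λ] [Module.Finite Λ k]
    {F G H : ArtFun.Art Λ k ⥤ Type v} (f : H ⟶ F) (g : G ⟶ F)
    (hF : (∀ ⦃B A A' A'' : ArtFun.Art Λ k⦄ (p' : B ⟶ A') (p'' : B ⟶ A'') (f' : A' ⟶ A) (f'' : A'' ⟶ A)
        (h : ArtFun.Art.IsFibreProd p' p'' f' f''), Function.Surjective f'' → Function.Bijective (ArtFun.cmp F h))) (hG : (∀ ⦃B A A' A'' : ArtFun.Art Λ k⦄ (p' : B ⟶ A') (p'' : B ⟶ A'') (f' : A' ⟶ A) (f'' : A'' ⟶ A)
        (h : ArtFun.Art.IsFibreProd p' p'' f' f''), Function.Surjective f'' → Function.Bijective (ArtFun.cmp G h))) (hH : (∀ ⦃B A A' A'' : ArtFun.Art Λ k⦄ (p' : B ⟶ A') (p'' : B ⟶ A'') (f' : A' ⟶ A) (f'' : A'' ⟶ A)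
        (h : ArtFun.Art.IsFibreProd p' p'' f' f''), Function.Surjective f'' → Function.Bijective (ArtFun.cmp H h))) :
    (∀ ⦃B A A' A'' : ArtFun.Art Λ k⦄ (p' : B ⟶ A') (p'' : B ⟶ A'') (f' : A' ⟶ A) (f'' : A'' ⟶ A)
        (h : ArtFun.Art.IsFibreProd p' p'' f' f''), Function.Surjective f'' → Function.Bijective (ArtFun.cmp (CategoryTheory.Limits.pullback f g) h)) := by
  intro B A A' A'' p' p'' f' f'' h hf
  constructor
  · intro z₁ z₂ e
    have e' : (Limits.pullback f g).map p' z₁ = (Limits.pullback f g).map p' z₂ := congrArg (fun t => t.1.1) e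
    have e'' : (Limits.pullback f g).map p'' z₁ = (Limits.pullback f g).map p'' z₂ := congrArg (fun t => t.1.2) e
    refine ArtFunLib.pullback_ext f g ?_ ?_
    · refine ArtFunLib.cmp_ext (hH p' p'' f' f'' h hf).1 ?_ ?_
      · rw [← ArtFunLib.natural_app (Limits.pullback.fst f g),
          ← ArtFunLib.natural_app (Limits.pullback.fst f g), e']
      · rw [← ArtFunLib.natural_app (Limits.pullback.fst f g),
          ← ArtFunLib.natural_app (Limits.pullback.fst f g), e'']
    · refine ArtFunLib.cmp_ext (hG p' p'' f' f'' h hf).1 ?_ ?_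
      · rw [← ArtFunLib.natural_app (Limits.pullback.snd f g),
          ← ArtFunLib.natural_app (Limits.pullback.snd f g), e']
      · rw [← ArtFunLib.natural_app (Limits.pullback.snd f g),
          ← ArtFunLib.natural_app (Limits.pullback.snd f g), e'']
  · rintro ⟨⟨x', x''⟩, e⟩
    obtain ⟨a, ha', ha''⟩ := ArtFunLib.exists_of_cmp_surjective (hH p' p'' f' f'' h hf).2
      ((Limits.pullback.fst f g).app A' x') ((Limits.pullback.fst f g).app A'' x'')
      (by rw [← ArtFunLib.natural_app (Limits.pullback.fst f g), ← ArtFunLib.natural_app (Limits.pullback.fst f g), e])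
    obtain ⟨b, hb', hb''⟩ := ArtFunLib.exists_of_cmp_surjective (hG p' p'' f' f'' h hf).2
      ((Limits.pullback.snd f g).app A' x') ((Limits.pullback.snd f g).app A'' x'')
      (by rw [← ArtFunLib.natural_app (Limits.pullback.snd f g), ← ArtFunLib.natural_app (Limits.pullback.snd f g), e])
    have hab : f.app B a = g.app B b := by
      refine ArtFunLib.cmp_ext (hF p' p'' f' f'' h hf).1 ?_ ?_
      · rw [← ArtFunLib.natural_app f, ← ArtFunLib.natural_app g, ha', hb']
        exact ArtFunLib.pullback_condition_apply f g x'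
      · rw [← ArtFunLib.natural_app f, ← ArtFunLib.natural_app g, ha'', hb'']
        exact ArtFunLib.pullback_condition_apply f g x''
    obtain ⟨z, hz₁, hz₂⟩ := ArtFunLib.pullback_exists f g a b hab
    refine ⟨z, ArtFun.FibProd.ext ?_ ?_⟩
    · exact ArtFunLib.pullback_ext f g
        (by change (Limits.pullback.fst f g).app A' ((Limits.pullback f g).map p' z) = (Limits.pullback.fst f g).app A' x'
            rw [ArtFunLib.natural_app (Limits.pullback.fst f g), hz₁, ha'])
        (by change (Limits.pullback.snd f g).app A' ((Limits.pullback f g).map p' z) = (Limits.pullback.snd f g).app A' x'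
            rw [ArtFunLib.natural_app (Limits.pullback.snd f g), hz₂, hb'])
    · exact ArtFunLib.pullback_ext f g
        (by change (Limits.pullback.fst f g).app A'' ((Limits.pullback f g).map p'' z) = (Limits.pullback.fst f g).app A'' x''
            rw [ArtFunLib.natural_app (Limits.pullback.fst f g), hz₁, ha''])
        (by change (Limits.pullback.snd f g).app A'' ((Limits.pullback f g).map p'' z) = (Limits.pullback.snd f g).app A'' x''
            rw [ArtFunLib.natural_app (Limits.pullback.snd f g), hz₂, hb''])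

end Groth.Agent.S12746
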