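import Groth.Statements.S12747
import Groth.Agent.ArtFunLib.Smooth
import Groth.Agent.ArtFunLib.FunPullback
-- import your own Groth.Agent.* helpers here

set_option autoImplicit false
universe u v
open CategoryTheory
open ArtFun

namespace Groth.Agent.S12747

/-- For functors, let H₁ → G, H₂ → G and q : G → F be morphisms of functors on Artinian local Λ-algebras
with residue field k where F and G are deformation functors (value at k a point, condition (RS)) and
q is injective on tangent spaces. Then the induced morphism H₁ ×_G H₂ → H₁ ×_F H₂ is smooth. (The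
published statement also assumes that infinitesimal automorphisms of G map onto those of F; for
functors that condition is empty.) -/
theorem result {Λ : Type u} {k : Type u} [CommRing Λ] [Field k] [Algebra Λ k]
    [IsNoetherianRing Λ] [Module.Finite Λ k]
    {F G H₁ H₂ : ArtFun.Art Λ k ⥤ Type v} (p₁ : H₁ ⟶ G) (p₂ : H₂ ⟶ G) (q : G ⟶ F)
    (hF0 : ArtFun.H0 F) (hF : (∀ ⦃B A A' A'' : ArtFun.Art Λ k⦄ (p' : B ⟶ A') (p'' : B ⟶ A'') (f' : A' ⟶ A) (f'' : A'' ⟶ A)
        (h : ArtFun.Art.IsFibreProd p' p'' f' f''), Function.Surjective f'' → Function.Bijective (ArtFun.cmp F h)))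
    (hG0 : ArtFun.H0 G) (hG : (∀ ⦃B A A' A'' : ArtFun.Art Λ k⦄ (p' : B ⟶ A') (p'' : B ⟶ A'') (f' : A' ⟶ A) (f'' : A'' ⟶ A)
        (h : ArtFun.Art.IsFibreProd p' p'' f' f''), Function.Surjective f'' → Function.Bijective (ArtFun.cmp G h)))
    (hq : Function.Injective (ArtFun.TangentSpace.map q)) :
    ArtFun.IsSmooth (CategoryTheory.Limits.pullback.map p₁ p₂ (p₁ ≫ q) (p₂ ≫ q) (𝟙 H₁) (𝟙 H₂) q
      (CategoryTheory.Category.id_comp _).symm (CategoryTheory.Category.id_comp _).symm) := by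
  rw [ArtFunLib.isSmooth_iff_liftsAt]
  intro B A μ hμ x y e
  let a := (Limits.pullback.fst (p₁ ≫ q) (p₂ ≫ q)).app B y
  let b := (Limits.pullback.snd (p₁ ≫ q) (p₂ ≫ q)).app B y
  have hm1 : ∀ (C : ArtFun.Art Λ k) (z : (Limits.pullback p₁ p₂).obj C),
      (Limits.pullback.fst (p₁ ≫ q) (p₂ ≫ q)).app C ((Limits.pullback.map p₁ p₂ (p₁ ≫ q) (p₂ ≫ q)
        (𝟙 H₁) (𝟙 H₂) q (Category.id_comp _).symm (Category.id_comp _).symm).app C z) =
      (Limits.pullback.fst p₁ p₂).app C z := fun C z =>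
    ConcreteCategory.congr_hom (NatTrans.congr_app
      (show Limits.pullback.map p₁ p₂ (p₁ ≫ q) (p₂ ≫ q) (𝟙 H₁) (𝟙 H₂) q (Category.id_comp _).symm
          (Category.id_comp _).symm ≫ Limits.pullback.fst (p₁ ≫ q) (p₂ ≫ q) = Limits.pullback.fst p₁ p₂ by
        rw [Limits.pullback.map, Limits.pullback.lift_fst, Category.comp_id]) C) z
  have hm2 : ∀ (C : ArtFun.Art Λ k) (z : (Limits.pullback p₁ p₂).obj C),
      (Limits.pullback.snd (p₁ ≫ q) (p₂ ≫ q)).app C ((Limits.pullback.map p₁ p₂ (p₁ ≫ q) (p₂ ≫ q)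
        (𝟙 H₁) (𝟙 H₂) q (Category.id_comp _).symm (Category.id_comp _).symm).app C z) =
      (Limits.pullback.snd p₁ p₂).app C z := fun C z =>
    ConcreteCategory.congr_hom (NatTrans.congr_app
      (show Limits.pullback.map p₁ p₂ (p₁ ≫ q) (p₂ ≫ q) (𝟙 H₁) (𝟙 H₂) q (Category.id_comp _).symm
          (Category.id_comp _).symm ≫ Limits.pullback.snd (p₁ ≫ q) (p₂ ≫ q) = Limits.pullback.snd p₁ p₂ by
        rw [Limits.pullback.map, Limits.pullback.lift_snd, Category.comp_id]) C) z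
  have ha : H₁.map μ a = (Limits.pullback.fst p₁ p₂).app A x := by
    rw [← hm1]
    change H₁.map μ ((Limits.pullback.fst (p₁ ≫ q) (p₂ ≫ q)).app B y) = _
    rw [← ArtFunLib.natural_app (Limits.pullback.fst (p₁ ≫ q) (p₂ ≫ q))]
    exact congrArg _ e.symm
  have hb : H₂.map μ b = (Limits.pullback.snd p₁ p₂).app A x := by
    rw [← hm2]
    change H₂.map μ ((Limits.pullback.snd (p₁ ≫ q) (p₂ ≫ q)).app B y) = _
    rw [← ArtFunLib.natural_app (Limits.pullback.snd (p₁ ≫ q) (p₂ ≫ q))]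
    exact congrArg _ e.symm
  have hab : p₁.app B a = p₂.app B b := by
    refine ArtFunLib.sepAt_of_small (ArtFunLib.natural_app q) (fun A B μ hμ => ?_) μ hμ _ _ ?_ ?_
    · exact ArtFunLib.sepAt_small (ArtFunLib.natural_app q)
        (fun _ _ _ _ p' p'' f' f'' h hs => (hG p' p'' f' f'' h hs.1).2)
        (fun _ _ p' p'' h => hG p' p'' _ _ h (ArtFunLib.toBase_surjective _))
        (fun _ _ _ p' p'' f h hs => hF p' p'' _ _ h hs.1) hq μ hμ
    · rw [← ArtFunLib.natural_app p₁, ← ArtFunLib.natural_app p₂, ha, hb]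
      exact ArtFunLib.pullback_condition_apply p₁ p₂ x
    · exact ArtFunLib.pullback_condition_apply (p₁ ≫ q) (p₂ ≫ q) y
  obtain ⟨z, hz₁, hz₂⟩ := ArtFunLib.pullback_exists p₁ p₂ a b hab
  exact ⟨z, ArtFunLib.pullback_ext p₁ p₂
      (by rw [ArtFunLib.natural_app (Limits.pullback.fst p₁ p₂), hz₁, ha])
      (by rw [ArtFunLib.natural_app (Limits.pullback.snd p₁ p₂), hz₂, hb]),
    ArtFunLib.pullback_ext (p₁ ≫ q) (p₂ ≫ q) ((hm1 B z).trans hz₁) ((hm2 B z).trans hz₂)⟩

end Groth.Agent.S12747
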