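import Groth.Statements.S12748
import Groth.Agent.ArtFunLib.VersalPS

set_option autoImplicit false
universe u v
open CategoryTheory
open ArtFun ArtFun.CRing

namespace Groth.Agent.S12748

/-- Let R' → R be a morphism of complete local Noetherian Λ-algebras with residue field k with an
R'-algebra retraction ρ : R → R', so that R = R' ⊕ I for the ideal I = ker ρ; let x₁, …, x_r ∈ I map
to a basis of I/m_R I and let φ : R'[[X₁, …, X_r]] → R be an R'-algebra map sending X_i to x_i. If
for all large n the induced map R'[[X]]/m^n → R/m_R^n has a left inverse — a Λ-algebra map g_n : R →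
R'[[X]]/m^n with g_n ∘ φ equal to the quotient map — then φ is an isomorphism. -/
theorem result {Λ : Type u} {k : Type u} [CommRing Λ] [Field k] [Algebra Λ k]
    [IsNoetherianRing Λ] [Module.Finite Λ k]
    (R' R : ArtFun.CRing Λ k) [Algebra R'.carrier R.carrier] [IsScalarTower Λ R'.carrier R.carrier]
    (hc : R.res.comp (IsScalarTower.toAlgHom Λ R'.carrier R.carrier) = R'.res)
    (ρ : R.carrier →ₐ[R'.carrier] R'.carrier)
    (r : ℕ) (x : Fin r → R.carrier) (hxI : ∀ i, ρ (x i) = 0)
    (hspan : Ideal.span (Set.range x) ⊔ IsLocalRing.maximalIdeal R.carrier * RingHom.ker ρ = RingHom.ker ρ)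
    (hli : ∀ c : Fin r → R.carrier, (∑ i, c i * x i) ∈ IsLocalRing.maximalIdeal R.carrier * RingHom.ker ρ →
      ∀ i, c i ∈ IsLocalRing.maximalIdeal R.carrier)
    (φ : MvPowerSeries (Fin r) R'.carrier →ₐ[R'.carrier] R.carrier) (hφ : ∀ i, φ (MvPowerSeries.X i) = x i)
    (hinv : ∃ N : ℕ, ∀ n, N ≤ n →
      ∃ g : R.carrier →ₐ[Λ] (MvPowerSeries (Fin r) R'.carrier ⧸
          IsLocalRing.maximalIdeal (MvPowerSeries (Fin r) R'.carrier) ^ n),
        ∀ s, g (φ s) = Ideal.Quotient.mk _ s) :
    Function.Bijective φ := by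
  haveI := R.isAdicComplete
  haveI := R'.isAdicComplete
  let mR := IsLocalRing.maximalIdeal R.carrier
  let mP := IsLocalRing.maximalIdeal (MvPowerSeries (Fin r) R'.carrier)
  haveI hP : IsAdicComplete mP (MvPowerSeries (Fin r) R'.carrier) :=
    (Groth.Agent.ArtFunLib.VersalPS.psRing R' r).isAdicComplete
  have hresR : ∀ a, R.res (algebraMap R'.carrier R.carrier a) = R'.res a := fun a => congr($hc a)
  have hm' : ∀ a ∈ IsLocalRing.maximalIdeal R'.carrier, algebraMap R'.carrier R.carrier a ∈ mR := fun a ha => by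
    rw [ArtFun.CRing.mem_maximalIdeal_iff, hresR]
    exact (ArtFun.CRing.mem_maximalIdeal_iff R' a).1 ha
  have hρm : ∀ a ∈ mR, ρ a ∈ IsLocalRing.maximalIdeal R'.carrier := fun a ha hu => by
    refine (IsLocalRing.mem_maximalIdeal _).1 ha ?_
    by_contra hna
    have hker : a - algebraMap R'.carrier R.carrier (ρ a) ∈ RingHom.ker ρ := by
      rw [RingHom.mem_ker, map_sub, AlgHom.commutes]
      exact sub_self _
    have hkm : RingHom.ker ρ ≤ mR := fun y hy hyu => by
      have := hyu.map ρ
      rw [RingHom.mem_ker.1 hy] at this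
      exact not_isUnit_zero this
    have := Ideal.sub_mem _ ha (hkm hker)
    rw [sub_sub_cancel] at this
    exact (IsLocalRing.mem_maximalIdeal _).1 this (hu.map _)
  have hxm : ∀ i, x i ∈ mR := fun i hu => by
    have := hu.map ρ
    rw [hxI] at this
    exact not_isUnit_zero this
  have hφm : ∀ z ∈ mP, φ z ∈ mR := fun z hz => by
    obtain ⟨a, ha, c, rfl⟩ := Groth.Agent.ArtFunLib.VersalPS.exists_eq R' r z hz
    rw [map_add, AlgHom.commutes, map_sum]
    exact add_mem (hm' a ha) (Ideal.sum_mem _ fun i _ => by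
      rw [map_mul, hφ]; exact Ideal.mul_mem_left _ _ (hxm i))
  have hmap : mP.map φ.toRingHom = mR := by
    refine le_antisymm (Ideal.map_le_iff_le_comap.2 hφm) (Submodule.le_of_le_smul_of_le_jacobson_bot
      (IsNoetherian.noetherian _) (IsLocalRing.maximalIdeal_le_jacobson ⊥) fun z hz => ?_)
    rw [smul_eq_mul]
    have hk : RingHom.ker ρ ≤ mP.map φ.toRingHom ⊔ mR * mR := by
      rw [← hspan]
      refine sup_le (le_sup_of_le_left (Ideal.span_le.2 ?_)) (le_sup_of_le_right (Ideal.mul_mono_right fun y hy hyu => ?_))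
      · rintro _ ⟨i, rfl⟩
        exact hφ i ▸ Ideal.mem_map_of_mem φ.toRingHom (Groth.Agent.ArtFunLib.VersalPS.X_mem R' r i)
      · have := hyu.map ρ
        rw [RingHom.mem_ker.1 hy] at this
        exact not_isUnit_zero this
    rw [← sub_add_cancel z (algebraMap R'.carrier R.carrier (ρ z))]
    refine add_mem (hk ?_) (Submodule.mem_sup_left ?_)
    · rw [RingHom.mem_ker, map_sub, AlgHom.commutes]
      exact sub_self _
    · rw [← AlgHom.commutes φ]
      refine Ideal.mem_map_of_mem φ.toRingHom (Groth.Agent.CohenLib.mem_maximalIdeal_mvPowerSeries_iff.2 ?_)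
      simpa [MvPowerSeries.algebraMap_apply] using hρm z hz
  haveI : IsHausdorff (mP.map φ.toRingHom) R.carrier :=
    hmap.symm ▸ (inferInstance : IsHausdorff mR R.carrier)
  refine ⟨(injective_iff_map_eq_zero φ).2 fun z hz => IsHausdorff.haus (I := mP) inferInstance _ fun n => ?_,
    surjective_of_mk_map_comp_surjective (I := mP) (f := φ.toRingHom) fun z => ?_⟩
  · rw [SModEq.sub_mem, sub_zero, Ideal.smul_eq_mul, Ideal.mul_top]
    obtain ⟨N, hN⟩ := hinv
    obtain ⟨g, hg⟩ := hN (max N n) (le_max_left _ _)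
    have h := hg z
    rw [hz, map_zero] at h
    exact Ideal.pow_le_pow_right (le_max_right N n) (Ideal.Quotient.eq_zero_iff_mem.1 h.symm)
  · obtain ⟨b, rfl⟩ := Ideal.Quotient.mk_surjective z
    obtain ⟨a, ha⟩ := R'.res_surjective (R.res b)
    refine ⟨algebraMap R'.carrier _ a, Ideal.Quotient.eq.2 ?_⟩
    rw [hmap, show φ.toRingHom (algebraMap R'.carrier _ a) = algebraMap R'.carrier R.carrier a from φ.commutes a,
      ArtFun.CRing.mem_maximalIdeal_iff, map_sub, hresR, ha, sub_self]

end Groth.Agent.S12748
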