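import Groth.Statements.S12750
import Groth.Agent.ArtFunLib.Cotangent

set_option autoImplicit false
universe u v
open CategoryTheory
open ArtFun ArtFun.Art

namespace Groth.Agent.S12750

/-- (1) ⇔ (3): let f : B → A be a morphism in the category of Artinian local Λ-algebras with residue
field k, and let q_B : B → B', q_A : A → A' be the quotients by m_Λ B + m_B² and m_Λ A + m_A² (m_Λ
the kernel of Λ → k), realised as surjective morphisms with these kernels, with f' : B' → A' the
induced morphism. Then f is an essential surjection — surjective, and every morphism g into B whose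
composite with f is surjective is itself surjective — if and only if f' is. (The intermediate
equivalence with the map B/m_B² → A/m_A² is the special case Λ-structure trivialised and follows by
applying this one twice.) -/
theorem result {Λ : Type u} {k : Type u} [CommRing Λ] [Field k] [Algebra Λ k]
    [IsNoetherianRing Λ] [Module.Finite Λ k]
    {A B A' B' : ArtFun.Art Λ k} (f : B ⟶ A)
    (qB : B ⟶ B') (hqB : Function.Surjective qB)
    (hkB : RingHom.ker qB.toAlgHom = Ideal.map (algebraMap Λ B) (RingHom.ker (algebraMap Λ k)) ⊔ IsLocalRing.maximalIdeal B ^ 2)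
    (qA : A ⟶ A') (hqA : Function.Surjective qA)
    (hkA : RingHom.ker qA.toAlgHom = Ideal.map (algebraMap Λ A) (RingHom.ker (algebraMap Λ k)) ⊔ IsLocalRing.maximalIdeal A ^ 2)
    (f' : B' ⟶ A') (hf' : qB ≫ f' = f ≫ qA) :
    (Function.Surjective f ∧ ∀ (C : ArtFun.Art Λ k) (g : C ⟶ B), Function.Surjective (g ≫ f) → Function.Surjective g) ↔ (Function.Surjective f' ∧ ∀ (C : ArtFun.Art Λ k) (g : C ⟶ B'), Function.Surjective (g ≫ f') → Function.Surjective g) := by
  have key : ∀ {X Y : Art Λ k} (q : X ⟶ Y), RingHom.ker q.toAlgHom =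
      Ideal.map (algebraMap Λ X) (RingHom.ker (algebraMap Λ k)) ⊔ IsLocalRing.maximalIdeal X ^ 2 →
      ∀ {C : Art Λ k} (g : C ⟶ X), Function.Surjective (g ≫ q) → Function.Surjective g := by
    intro X Y q hq C g hg
    refine Groth.Agent.ArtFunLib.surjective_of_map_sup g (le_antisymm
      (sup_le (Groth.Agent.ArtFunLib.map_maximalIdeal_le g) (Ideal.pow_le_self two_ne_zero)) fun x hx => ?_)
    obtain ⟨c, hc⟩ := hg (q x)
    have h1 : x - g c ∈ RingHom.ker q.toAlgHom := by
      rw [RingHom.mem_ker, map_sub, sub_eq_zero]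
      exact hc.symm
    have hcm : c ∈ IsLocalRing.maximalIdeal C := by
      rw [mem_maximalIdeal_iff, ← Art.res_app (g ≫ q) c, hc, Art.res_app]
      exact (Art.mem_maximalIdeal_iff X x).1 hx
    rw [hq] at h1
    rw [← sub_add_cancel x (g c)]
    exact Ideal.add_mem _ (sup_le_sup_right (Groth.Agent.ArtFunLib.map_algebraMap_ker_le g) _ h1)
      (Ideal.mem_sup_left (Ideal.mem_map_of_mem _ hcm))
  constructor
  · rintro ⟨hf, he⟩
    refine ⟨Groth.Agent.ArtFunLib.surjective_of_comp (f := qB) (by rw [hf']; exact hqA.comp hf), fun C g hg => ?_⟩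
    have h : ∀ c : k, ∃ x : Groth.Agent.ArtFunLib.fibSub qB g, B.res x.1.1 = c := fun c => by
      obtain ⟨y, hy⟩ := C.res_surjective c
      obtain ⟨x, hx⟩ := hqB (g y)
      refine ⟨⟨(x, y), hx⟩, ?_⟩
      show B.res x = c
      rw [← Art.res_app qB, hx, Art.res_app, hy]
    have hsnd : Function.Surjective (Groth.Agent.ArtFunLib.fibSnd qB g h) := fun y => by
      obtain ⟨x, hx⟩ := hqB (g y)
      exact ⟨⟨(x, y), hx⟩, rfl⟩
    have w : Groth.Agent.ArtFunLib.fibFst qB g h ≫ qB = Groth.Agent.ArtFunLib.fibSnd qB g h ≫ g :=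
      Groth.Agent.ArtFunLib.hom_apply_ext fun x => x.2
    have h2 : Function.Surjective ((Groth.Agent.ArtFunLib.fibFst qB g h ≫ f) ≫ qA) := by
      rw [Category.assoc, ← hf', ← Category.assoc, w, Category.assoc]
      exact hg.comp hsnd
    have h3 : Function.Surjective (Groth.Agent.ArtFunLib.fibSnd qB g h ≫ g) := by
      rw [← w]
      exact hqB.comp (he _ _ (key qA hkA _ h2))
    exact Groth.Agent.ArtFunLib.surjective_of_comp h3
  · rintro ⟨hf, he⟩
    refine ⟨key qA hkA f (by rw [← hf']; exact hf.comp hqB), fun C g hg => key qB hkB g (he _ _ ?_)⟩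
    rw [Category.assoc, hf', ← Category.assoc]
    exact hqA.comp hg

end Groth.Agent.S12750
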