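import Groth.Statements.S12753
import Groth.Agent.ArtFunLib.Essential
import Mathlib.Tactic.LinearCombination

set_option autoImplicit false
universe u v
open CategoryTheory
open ArtFun ArtFun.Art

namespace Groth.Agent.S12753

/-- Suppose k is separable over the image of Λ → k. A morphism f : B → A in the category of Artinian
local Λ-algebras with residue field k is an essential surjection (surjective, and any morphism g
into B with g followed by f surjective is surjective) if and only if the map of cotangent spaces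
relative to Λ, m_B/(m_Λ B + m_B²) → m_A/(m_Λ A + m_A²), is an isomorphism; surjectivity and
injectivity are written out in terms of ideals, m_Λ being the kernel of Λ → k. -/
theorem result {Λ : Type u} {k : Type u} [CommRing Λ] [Field k] [Algebra Λ k]
    [IsNoetherianRing Λ] [Module.Finite Λ k]
    [Algebra.IsSeparable (↥(algebraMap Λ k).range) k]
    {A B : ArtFun.Art Λ k} (f : B ⟶ A) :
    (Function.Surjective f ∧ ∀ (C : ArtFun.Art Λ k) (g : C ⟶ B), Function.Surjective (g ≫ f) → Function.Surjective g) ↔
      (Ideal.map (algebraMap Λ A) (RingHom.ker (algebraMap Λ k)) ⊔ Ideal.map f.toAlgHom (IsLocalRing.maximalIdeal B) ⊔ IsLocalRing.maximalIdeal A ^ 2 =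
          IsLocalRing.maximalIdeal A ∧
        ∀ b ∈ IsLocalRing.maximalIdeal B, f b ∈ Ideal.map (algebraMap Λ A) (RingHom.ker (algebraMap Λ k)) ⊔ IsLocalRing.maximalIdeal A ^ 2 →
          b ∈ Ideal.map (algebraMap Λ B) (RingHom.ker (algebraMap Λ k)) ⊔ IsLocalRing.maximalIdeal B ^ 2) := by
  have hmA : ∀ g : B ⟶ A, Ideal.map (algebraMap Λ A) (RingHom.ker (algebraMap Λ k)) ≤
      Ideal.map g.toAlgHom (IsLocalRing.maximalIdeal B) := fun g => Groth.Agent.ArtFunLib.map_algebraMap_ker_le g
  have hJ : ∀ b ∈ Ideal.map (algebraMap Λ B) (RingHom.ker (algebraMap Λ k)) ⊔ IsLocalRing.maximalIdeal B ^ 2,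
      b ∈ IsLocalRing.maximalIdeal B := fun b hb => by
    refine (sup_le (Ideal.map_le_iff_le_comap.2 fun l hl => ?_) (Ideal.pow_le_self two_ne_zero) :
      Ideal.map (algebraMap Λ B) (RingHom.ker (algebraMap Λ k)) ⊔ IsLocalRing.maximalIdeal B ^ 2 ≤ IsLocalRing.maximalIdeal B) hb
    rw [Ideal.mem_comap, Art.mem_maximalIdeal_iff, AlgHom.commutes]
    exact hl
  constructor
  · rintro ⟨hf, he⟩
    have hfm := Groth.Agent.ArtFunLib.map_maximalIdeal_eq_of_surjective f hf
    refine ⟨?_, fun b hb hfb => ?_⟩
    · rw [sup_eq_right.2 (hmA f), hfm]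
      exact sup_of_le_left (Ideal.pow_le_self two_ne_zero)
    · by_contra hbn
      rw [← hfm, ← Ideal.map_pow, show algebraMap Λ A = f.toAlgHom.toRingHom.comp (algebraMap Λ B) from
        f.toAlgHom.comp_algebraMap.symm, ← Ideal.map_map] at hfb
      rw [show Ideal.map f.toAlgHom (IsLocalRing.maximalIdeal B ^ 2) =
        Ideal.map f.toAlgHom.toRingHom (IsLocalRing.maximalIdeal B ^ 2) from rfl, ← Ideal.map_sup,
        Ideal.mem_map_iff_of_surjective f.toAlgHom.toRingHom hf] at hfb
      obtain ⟨j, hj, hjb⟩ := hfb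
      have hk0 : f (b - j) = 0 := by
        show f.toAlgHom (b - j) = 0
        rw [map_sub, sub_eq_zero]
        exact hjb.symm
      let J := Ideal.map (algebraMap Λ B) (RingHom.ker (algebraMap Λ k)) ⊔ IsLocalRing.maximalIdeal B ^ 2
      let q : B →ₐ[Λ] B ⧸ J := Ideal.Quotient.mkₐ Λ J
      let π : B ⧸ J →ₐ[Λ] k := Ideal.Quotient.liftₐ J B.res fun a ha => (Art.mem_maximalIdeal_iff B a).1 (hJ a ha)
      have hπq : ∀ x, π (q x) = B.res x := fun x => rfl
      have hπ : Function.Surjective π := fun c => by
        obtain ⟨x, hx⟩ := B.res_surjective c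
        exact ⟨q x, hx⟩
      obtain ⟨s, hs⟩ := Groth.Agent.ArtFunLib.exists_section_of_sq_zero (B ⧸ J) π hπ
        (fun x y hx hy => by
          obtain ⟨x, rfl⟩ := Ideal.Quotient.mk_surjective x
          obtain ⟨y, rfl⟩ := Ideal.Quotient.mk_surjective y
          rw [← map_mul]
          refine Ideal.Quotient.eq_zero_iff_mem.2 (Ideal.mem_sup_right ?_)
          rw [sq]
          exact Ideal.mul_mem_mul ((Art.mem_maximalIdeal_iff B x).2 hx) ((Art.mem_maximalIdeal_iff B y).2 hy))
        (fun l hl => Ideal.Quotient.eq_zero_iff_mem.2 (Ideal.mem_sup_left (Ideal.mem_map_of_mem _ hl)))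
      letI : Algebra B k := B.res.toRingHom.toAlgebra
      letI : Algebra A k := A.res.toRingHom.toAlgebra
      haveI : IsScalarTower Λ B k := .of_algebraMap_eq fun l => (B.res.commutes l).symm
      letI : Algebra k (B ⧸ J) := s.toRingHom.toAlgebra
      have hq0 : q (b - j) ≠ 0 := fun h0 => hbn (by
        have := Ideal.add_mem J (Ideal.Quotient.eq_zero_iff_mem.1 h0) hj
        rwa [sub_add_cancel] at this)
      obtain ⟨φ, hφ⟩ : ∃ φ : Module.Dual k (B ⧸ J), φ (q (b - j)) ≠ 0 :=
        Module.Projective.exists_dual_ne_zero k hq0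
      let d : B → B ⧸ J := fun x => q x - s (B.res x)
      have hd : ∀ x y, d (x * y) = B.res x • d y + B.res y • d x := fun x y => by
        have h0 : d x * d y = 0 := by
          obtain ⟨r, hr⟩ := Ideal.Quotient.mk_surjective (d x)
          obtain ⟨t, ht⟩ := Ideal.Quotient.mk_surjective (d y)
          rw [← hr, ← ht, ← map_mul]
          refine Ideal.Quotient.eq_zero_iff_mem.2 (Ideal.mem_sup_right ?_)
          rw [sq]
          refine Ideal.mul_mem_mul ?_ ?_ <;> rw [Art.mem_maximalIdeal_iff, ← hπq]
          · rw [show q r = d x from hr]; simp only [d, map_sub, hπq, hs, sub_self]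
          · rw [show q t = d y from ht]; simp only [d, map_sub, hπq, hs, sub_self]
        simp only [Algebra.smul_def, RingHom.algebraMap_toAlgebra]
        simp only [d, map_mul] at h0 ⊢
        show q x * q y - s (B.res x) * s (B.res y) = s (B.res x) * (q y - s (B.res y)) + s (B.res y) * (q x - s (B.res x))
        linear_combination h0
      have hφs : ∀ (c : k) v, φ (c • v) = c * φ v := fun c v => by rw [map_smul, smul_eq_mul]
      let L : B →ₗ[Λ] k :=
        { toFun := fun x => φ (d x)
          map_add' := fun x y => by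
            rw [← map_add φ]; congr 1; simp only [d, map_add]; ring
          map_smul' := fun l x => by
            have e : d (algebraMap Λ B l) = 0 := by simp only [d, AlgHom.commutes, sub_self]
            show φ (d (l • x)) = l • φ (d x)
            rw [Algebra.smul_def l x, hd, e, smul_zero, add_zero, hφs, AlgHom.commutes, ← Algebra.smul_def] }
      let D : Derivation Λ B k := Derivation.mk' L fun x y => by
        show φ (d (x * y)) = B.res x * φ (d y) + B.res y * φ (d x)
        rw [hd, map_add, hφs, hφs]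
      obtain ⟨E, hE⟩ := (((Groth.Agent.ArtFunLib.isEssential_iff_derivation f).1 ⟨hf, he⟩).2) D
      have h1 := hE (b - j)
      rw [hk0, map_zero] at h1
      refine hφ ?_
      have h2 : φ (d (b - j)) = 0 := h1.symm
      rwa [show d (b - j) = q (b - j) by
        show q (b - j) - s (B.res (b - j)) = _
        rw [← Art.res_app f, hk0, map_zero, map_zero, sub_zero]] at h2
  · rintro ⟨h1, h2⟩
    rw [sup_eq_right.2 (hmA f)] at h1
    have hf := Groth.Agent.ArtFunLib.surjective_of_map_sup f h1
    refine ⟨hf, fun C g hg => Groth.Agent.ArtFunLib.surjective_of_map_sup g (le_antisymm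
      (sup_le (Groth.Agent.ArtFunLib.map_maximalIdeal_le g) (Ideal.pow_le_self two_ne_zero)) fun x hx => ?_)⟩
    obtain ⟨c, hc⟩ := hg (f x)
    have hcm : c ∈ IsLocalRing.maximalIdeal C := by
      rw [Art.mem_maximalIdeal_iff, ← Art.res_app (g ≫ f) c, hc, Art.res_app]
      exact (Art.mem_maximalIdeal_iff B x).1 hx
    have h3 := h2 (x - g c) (Ideal.sub_mem _ hx (Groth.Agent.ArtFunLib.map_maximalIdeal_le g (Ideal.mem_map_of_mem _ hcm))) (by
      show f.toAlgHom (x - g c) ∈ _
      rw [map_sub, show f.toAlgHom (g c) = f.toAlgHom x from hc, sub_self]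
      exact Ideal.zero_mem _)
    rw [← sub_add_cancel x (g c)]
    exact Ideal.add_mem _ (sup_le_sup_right (Groth.Agent.ArtFunLib.map_algebraMap_ker_le g) _ h3)
      (Ideal.mem_sup_left (Ideal.mem_map_of_mem _ hcm))

end Groth.Agent.S12753
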