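import Groth.Statements.S12754
import Mathlib.LinearAlgebra.Dimension.Free
import Mathlib.LinearAlgebra.FiniteDimensional.Basic

set_option autoImplicit false
universe u
open CategoryTheory
open ArtFun

namespace Groth.Agent.S12754

/-- A K-linear functor L from finite-dimensional K-vector spaces to K-vector spaces (K a field) is
isomorphic to the functor V ↦ L(K) ⊗_K V. (Existence of an isomorphism of functors, which is how the
published statement reads; the natural choice sends x ⊗ v to L(f_v)(x) with f_v : K → V, 1 ↦ v.) -/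
theorem result (K : Type u) [Field K]
    (L : FGModuleCat.{u} K ⥤ ModuleCat.{u} K) [L.Additive] [Functor.Linear K L] :
    Nonempty (L ≅ (ModuleCat.isFG.{u} K).ι ⋙ MonoidalCategory.tensorLeft (L.obj (FGModuleCat.of K K))) := by
  classical
  let sp : ∀ (V : FGModuleCat.{u} K) (v : V), FGModuleCat.of K K ⟶ V := fun V v =>
    FGModuleCat.ofHom (LinearMap.toSpanSingleton K V v)
  let M := L.obj (FGModuleCat.of K K)
  let ψ : ∀ V : FGModuleCat.{u} K, TensorProduct K M V →ₗ[K] L.obj V := fun V =>
    TensorProduct.lift (LinearMap.mk₂ K (fun (m : M) (v : V) => (L.map (sp V v)).hom m)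
      (fun m₁ m₂ v => map_add (L.map (sp V v)).hom m₁ m₂)
      (fun c m v => map_smul (L.map (sp V v)).hom c m)
      (fun m v₁ v₂ => by
        rw [show sp V (v₁ + v₂) = sp V v₁ + sp V v₂ from FGModuleCat.hom_ext
          (LinearMap.ext_ring (smul_add (1 : K) v₁ v₂)), Functor.map_add]
        rfl)
      (fun c m v => by
        rw [show sp V (c • v) = c • sp V v from FGModuleCat.hom_ext
          (LinearMap.ext_ring (smul_comm (1 : K) c v)), Functor.map_smul]
        rfl))
  have hψ : ∀ (V : FGModuleCat.{u} K) (m : M) (v : V), ψ V (TensorProduct.tmul K m v) = (L.map (sp V v)).hom m :=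
    fun V m v => rfl
  have hbij : ∀ V : FGModuleCat.{u} K, Function.Bijective (ψ V) := fun V => by
    let b := Module.finBasis K V
    let cd : ∀ i, V ⟶ FGModuleCat.of K K := fun i => FGModuleCat.ofHom (b.coord i)
    refine Function.bijective_iff_has_inverse.2
      ⟨fun x => ∑ i, TensorProduct.tmul K ((L.map (cd i)).hom x) (b i), fun t => ?_, fun x => ?_⟩
    · dsimp only
      induction t using TensorProduct.induction_on with
      | zero => simp
      | add x y hx hy =>
        simp only [map_add, TensorProduct.add_tmul, Finset.sum_add_distrib, hx, hy]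
      | tmul m v =>
        have e : ∀ i, (L.map (cd i)).hom ((L.map (sp V v)).hom m) = (b.repr v i) • m := fun i => by
          have e' : sp V v ≫ cd i = (b.repr v i) • 𝟙 (FGModuleCat.of K K) :=
            FGModuleCat.hom_ext (LinearMap.ext_ring (by
              show b.repr ((1 : K) • v) i = b.repr v i * 1
              rw [one_smul, mul_one]))
          rw [← LinearMap.comp_apply, ← ModuleCat.hom_comp, ← L.map_comp, e', Functor.map_smul, L.map_id]
          rfl
        simp only [hψ, e, TensorProduct.smul_tmul]
        rw [← TensorProduct.tmul_sum, b.sum_repr]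
    · have e' : ∑ i, cd i ≫ sp V (b i) = 𝟙 V := FGModuleCat.hom_ext (by
        refine b.ext fun j => ?_
        have h : ∀ i, ((cd i ≫ sp V (b i)).hom.hom : V →ₗ[K] V) (b j) = b.repr (b j) i • b i := fun i => rfl
        calc _ = ∑ i, ((cd i ≫ sp V (b i)).hom.hom : V →ₗ[K] V) (b j) :=
              map_sum (AddMonoidHom.mk' (fun g : V ⟶ V => (g.hom.hom : V →ₗ[K] V) (b j)) (fun _ _ => rfl)) _ _
          _ = b j := by simp only [h, b.sum_repr])
      simp only [map_sum, hψ]
      have : ((∑ i, L.map (cd i ≫ sp V (b i))).hom : L.obj V →ₗ[K] L.obj V) x = x := by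
        rw [← L.map_sum, e', L.map_id]
        rfl
      simpa only [ModuleCat.hom_sum, LinearMap.sum_apply, L.map_comp, ModuleCat.hom_comp, LinearMap.comp_apply] using this
  refine ⟨(NatIso.ofComponents (fun V => (LinearEquiv.ofBijective (ψ V) (hbij V)).toModuleIso) fun {V W} f => ?_).symm⟩
  refine ModuleCat.hom_ext (TensorProduct.ext' fun m v => ?_)
  show ψ W (TensorProduct.tmul K m (f.hom.hom v)) = (L.map f).hom (ψ V (TensorProduct.tmul K m v))
  rw [hψ, hψ, ← LinearMap.comp_apply, ← ModuleCat.hom_comp, ← L.map_comp,
    show sp V v ≫ f = sp W (f.hom.hom v) from FGModuleCat.hom_ext (LinearMap.ext_ring (map_smul f.hom.hom (1 : K) v))]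

end Groth.Agent.S12754
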