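import Groth.Statements.S12759
import Groth.Agent.ArtFunLib.Minimal2

set_option autoImplicit false
universe u v
open CategoryTheory
open ArtFun

namespace Groth.Agent.S12759

/-- For functors, any versal family (R, ξ) of a functor F on Artinian local Λ-algebras with residue
field k with F(k) a point is the pushforward of a minimal versal family (R', ξ') along a power
series extension: there are g : R' → R compatible with the augmentations and an isomorphism R ≅
R'[[X₁, …, Xₙ]] over Λ carrying g to the constants, and the formal element of ξ is that of ξ' pushed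
forward along g. -/
theorem result {Λ : Type u} {k : Type u} [CommRing Λ] [Field k] [Algebra Λ k]
    [IsNoetherianRing Λ] [Module.Finite Λ k]
    {F : ArtFun.Art Λ k ⥤ Type v} (h0 : ArtFun.H0 F) (V : ArtFun.VersalPair F) :
    ∃ (R' : ArtFun.CRing Λ k) (ξ' : ArtFun.Family R'.carrier R'.res F), ξ'.IsMinimalVersal ∧
      ∃ (g : R'.carrier →ₐ[Λ] V.ring.carrier) (hg : V.ring.res.comp g = R'.res)
        (n : ℕ) (e : V.ring.carrier ≃ₐ[Λ] MvPowerSeries (Fin n) R'.carrier),
        (∀ a : R'.carrier, e (g a) = algebraMap R'.carrier (MvPowerSeries (Fin n) R'.carrier) a) ∧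
        (ξ'.along g hg).toFormalElt = V.family.toFormalElt := by
  exact Groth.Agent.ArtFunLib.Minimal2.exists_decomposition h0 V.ring V.family V.versal

end Groth.Agent.S12759
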