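import Groth.Statements.S1276
import Groth.Agent.MorLib.UnramLocus

set_option autoImplicit false
universe u
open FlatMor

namespace Groth.Agent.S1276

attribute [local instance] Algebra.TensorProduct.rightAlgebra

open scoped TensorProduct in
theorem exists_fg_map_eq {B C : Type u} [CommRing B] [CommRing C] [IsNoetherianRing C] (φ : B →+* C)
    (I : Ideal B) : ∃ J : Ideal B, J.FG ∧ J ≤ I ∧ J.map φ = I.map φ := by
  classical
  have hne : {K : Ideal C | ∃ J : Ideal B, J.FG ∧ J ≤ I ∧ J.map φ = K}.Nonempty :=
    ⟨_, ⊥, Submodule.fg_bot, bot_le, rfl⟩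
  obtain ⟨K, ⟨J, hJfg, hJ, rfl⟩, hmax⟩ := set_has_maximal_iff_noetherian.mpr inferInstance _ hne
  refine ⟨J, hJfg, hJ, le_antisymm (Ideal.map_mono hJ) ?_⟩
  rw [Ideal.map_le_iff_le_comap]
  intro b hb
  by_contra hnb
  refine hmax _ ⟨J ⊔ Ideal.span {b}, Submodule.FG.sup hJfg (Submodule.fg_span_singleton b),
    sup_le hJ ((Ideal.span_singleton_le_iff_mem _).mpr hb), rfl⟩ ?_
  refine lt_of_le_of_ne (Ideal.map_mono le_sup_left) fun e => hnb ?_
  rw [Ideal.mem_comap, e]
  exact Ideal.mem_map_of_mem _ (Ideal.mem_sup_right (Ideal.mem_span_singleton_self b))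

open scoped TensorProduct in
theorem key {A B : Type u} [CommRing A] [CommRing B] [Algebra A B] [Algebra.FiniteType A B]
    (N : Type u) [AddCommGroup N] [Module B N] [Module.Finite B N] (p : Ideal A) [p.IsPrime] :
    ∃ J : Ideal B, J.FG ∧ J ≤ Module.annihilator B N ∧
      ∀ x : PrimeSpectrum (p.Fiber B), FlatCA.fiberIdeal p J ≤ x.asIdeal ↔
        x ∈ Module.support (p.Fiber B) ((p.Fiber B) ⊗[B] N) := by
  haveI : IsNoetherianRing (p.Fiber B) := Algebra.FiniteType.isNoetherianRing p.ResidueField _
  obtain ⟨J, hJfg, hJ, hmap⟩ := exists_fg_map_eq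
    (Algebra.TensorProduct.includeRight (R := A) (A := p.ResidueField) (B := B)).toRingHom
    (Module.annihilator B N)
  refine ⟨J, hJfg, hJ, fun x => ?_⟩
  rw [Groth.Agent.MorLib.UnrLocus.support_baseChange_iff N x, Module.support_eq_zeroLocus,
    PrimeSpectrum.mem_zeroLocus, SetLike.coe_subset_coe]
  unfold FlatCA.fiberIdeal
  rw [hmap]
  exact Ideal.map_le_iff_le_comap


/-- Let B be a finite type A-algebra, N a finite B-module and p a prime of A. Then there is a finitely
generated ideal J of B annihilating N (so N is a module on the finitely presented closed subscheme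
V(J) of Spec B) such that a point of the fibre Spec(κ(p) ⊗ B) lies in V(J) if and only if it lies in
the support of the fibre module of N. -/
theorem result {A B : Type u} [CommRing A] [CommRing B] [Algebra A B] [Algebra.FiniteType A B]
    (N : Type u) [AddCommGroup N] [Module B N] [Module A N] [IsScalarTower A B N] [Module.Finite B N] (p : Ideal A) [p.IsPrime] :
    ∃ J : Ideal B, J.FG ∧ J ≤ Module.annihilator B N ∧
      ∀ x : PrimeSpectrum (p.Fiber B), FlatCA.fiberIdeal p J ≤ x.asIdeal ↔ x ∈ Module.support (p.Fiber B) (FlatCA.fiberMod p B N) := by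
  exact key N p

end Groth.Agent.S1276
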