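import Groth.Statements.S12765
import Groth.Agent.AlgStLib.Small

set_option backward.isDefEq.respectTransparency false
set_option backward.isDefEq.respectTransparency.types false
-- import your own Groth.Agent.* helpers here

set_option autoImplicit false
open CategoryTheory AlgebraicGeometry
universe u
open AlgSt

namespace Groth.Agent.S12765

/-- (1) ⇔ (3): for `𝒳` fibred in groupoids over `(Sch/S)`, the diagonal `𝒳 ⟶ 𝒳 × 𝒳` is representable by
algebraic spaces if and only if for every scheme `U` over `S` every 1-morphism `(Sch/U) ⟶ 𝒳` is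
representable by algebraic spaces. -/
theorem result {S : Scheme.{u}} {𝒳 : AlgSt.Cat S} (h𝒳 : FibCat.IsFibGrpd 𝒳.p) :
    AlgSt.RepByAlgSp1 (FibCat.diag (FibCat.toSelf 𝒳)) ↔
      ∀ (U : Over S) (x : FibCat.overCat U ⥤ᵇ 𝒳), AlgSt.RepByAlgSp1 x := ⟨fun h => Groth.Agent.AlgStLib.repByAlgSp1_of_diag h𝒳 h, Groth.Agent.AlgStLib.repByAlgSp1_diag_toSelf_of_forall⟩
end Groth.Agent.S12765
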