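import Groth.Statements.S1277
import Groth.Agent.FlatAboveCP.Desc

set_option autoImplicit false
set_option linter.style.haveILetI false
set_option backward.isDefEq.respectTransparency false
set_option backward.isDefEq.respectTransparency.types false
universe u
open FlatMor

namespace Groth.Agent.S1277

open IsLocalRing in
/-- Let A be a local ring, A → B a local homomorphism of local rings, B → C a flat local homomorphism of
local rings, M a B-module and N = M ⊗_B C. For every local homomorphism of local rings A → A', with
base changes B' = B ⊗_A A', M', C' = C ⊗_A A', N' (any models): M' is flat over A' at every prime of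
B' containing 𝔪_{A'}B' + 𝔪_B B' if and only if N' is flat over A' at every prime of C' containing
𝔪_{A'}C' + 𝔪_C C'. -/
theorem result {A B C : Type u} [CommRing A] [IsLocalRing A] [CommRing B] [IsLocalRing B] [CommRing C] [IsLocalRing C]
    [Algebra A B] [IsLocalHom (algebraMap A B)] [Algebra B C] [IsLocalHom (algebraMap B C)] [Algebra A C] [IsScalarTower A B C] [Module.Flat B C]
    (M : Type u) [AddCommGroup M] [Module B M] (N : Type u) [AddCommGroup N] [Module C N] [Module B N] [IsScalarTower B C N]
    (g : M →ₗ[B] N) (hg : IsBaseChange C g)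
    (A' : Type u) [CommRing A'] [IsLocalRing A'] [Algebra A A'] [IsLocalHom (algebraMap A A')]
    (B' M' : Type u) [CommRing B'] [Algebra B B'] [Algebra A' B'] [Algebra A B'] [IsScalarTower A B B'] [IsScalarTower A A' B']
        [Algebra.IsPushout A B A' B']
        [AddCommGroup M'] [Module B' M'] [Module B M'] [IsScalarTower B B' M'] [Module A' M'] [IsScalarTower A' B' M']
        (fB : M →ₗ[B] M') (hfB : IsBaseChange B' fB)
    (C' N' : Type u) [CommRing C'] [Algebra C C'] [Algebra A' C'] [Algebra A C'] [IsScalarTower A C C'] [IsScalarTower A A' C']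
        [Algebra.IsPushout A C A' C']
        [AddCommGroup N'] [Module C' N'] [Module C N'] [IsScalarTower C C' N'] [Module A' N'] [IsScalarTower A' C' N']
        (fC : N →ₗ[C] N') (hfC : IsBaseChange C' fC) :
    FlatCA.FlatAboveClosedPoints B A' B' M' ↔ FlatCA.FlatAboveClosedPoints C A' C' N' := by
  obtain ⟨φ, hφB, hφA⟩ := FlatAboveCP.exists_desc (A := A) (A' := A') (B := B) (C := C) (B' := B') (C' := C')
  letI : Algebra B' C' := φ.toAlgebra
  letI : Algebra B C' := ((algebraMap C C').comp (algebraMap B C)).toAlgebra
  haveI : IsScalarTower B C C' := IsScalarTower.of_algebraMap_eq fun _ => rfl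
  haveI : IsScalarTower B B' C' := IsScalarTower.of_algebraMap_eq fun b => (hφB b).symm
  haveI : IsScalarTower A' B' C' := IsScalarTower.of_algebraMap_eq fun a => (hφA a).symm
  haveI : IsScalarTower A B' C' := IsScalarTower.of_algebraMap_eq fun a => by
    rw [IsScalarTower.algebraMap_apply A A' B', IsScalarTower.algebraMap_apply A A' C',
      ← IsScalarTower.algebraMap_apply A' B' C']
  haveI : Algebra.IsPushout B C B' C' := (Algebra.IsPushout.comp_iff A B A' B').1 inferInstance
  haveI : Algebra.IsPushout B B' C C' := Algebra.IsPushout.symm ‹_›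
  haveI : Module.Flat B' C' := Module.Flat.isBaseChange B B' C C' Algebra.IsPushout.out
  letI : Module B' N' := Module.compHom N' (algebraMap B' C')
  haveI : IsScalarTower B' C' N' := IsScalarTower.of_algebraMap_smul fun _ _ => rfl
  letI : Module B N' := Module.compHom N' (algebraMap B C')
  haveI : IsScalarTower B C' N' := IsScalarTower.of_algebraMap_smul fun _ _ => rfl
  haveI : IsScalarTower B C N' := IsScalarTower.of_algebraMap_smul fun b x => by
    rw [← algebraMap_smul C' (algebraMap B C b) x]; rfl
  haveI : IsScalarTower B B' N' := IsScalarTower.of_algebraMap_smul fun b x => by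
    show algebraMap B' C' (algebraMap B B' b) • x = algebraMap B C' b • x
    rw [← IsScalarTower.algebraMap_apply]
  let g' : M' →ₗ[B'] N' := hfB.lift ((fC.restrictScalars B) ∘ₗ g)
  have hg' : IsBaseChange C' g' := by
    refine IsBaseChange.of_comp hfB ?_
    have e : (g'.restrictScalars B) ∘ₗ fB = (fC.restrictScalars B) ∘ₗ g := hfB.lift_comp _
    rw [e]
    exact IsBaseChange.comp hg hfC
  refine FlatAboveCP.flatAt_iff_of_flat g' hg' _ _ (fun p _ hp => ?_) (fun q hq1 hq => ?_)
  · refine sup_le ?_ ?_ <;> rw [Ideal.map_le_iff_le_comap]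
    · intro a ha
      show algebraMap B' C' (algebraMap A' B' a) ∈ p
      rw [← IsScalarTower.algebraMap_apply]
      exact le_sup_left.trans hp (Ideal.mem_map_of_mem _ ha)
    · intro b hb
      show algebraMap B' C' (algebraMap B B' b) ∈ p
      rw [← IsScalarTower.algebraMap_apply, IsScalarTower.algebraMap_apply B C C']
      exact le_sup_right.trans hp (Ideal.mem_map_of_mem _ (map_nonunit _ b hb))
  · haveI := hq1
    obtain ⟨p, hp, hpC, hpq⟩ := FlatAboveCP.exists_prime_over (C := C) (C' := C') q (le_sup_right.trans hq)
    refine ⟨p, hp, sup_le ?_ hpC, hpq⟩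
    rw [Ideal.map_le_iff_le_comap]
    intro a ha
    show algebraMap A' C' a ∈ p
    rw [IsScalarTower.algebraMap_apply A' B' C', ← Ideal.mem_comap, hpq]
    exact le_sup_left.trans hq (Ideal.mem_map_of_mem _ ha)

end Groth.Agent.S1277
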