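import Groth.Statements.S12778
import Groth.Agent.AlgStLib.Yoneda

set_option backward.isDefEq.respectTransparency false
set_option backward.isDefEq.respectTransparency.types false
-- import your own Groth.Agent.* helpers here

set_option autoImplicit false
open CategoryTheory AlgebraicGeometry
universe u
open AlgSt

namespace Groth.Agent.S12778

/-- For presheaves of sets `F`, `G` on `(Sch/S)`, let `a : F ⟶ G` be a morphism representable by
algebraic spaces, and let `Q` be a property of morphisms of algebraic spaces. Then `a` has `Q`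
(every base change `h_U ×_G F ⟶ h_U` has `Q`) if and only if the associated 1-morphism of categories
fibred in sets, which is representable by algebraic spaces, has `Q`. (The published statement
assumes `Q` stable under base change and fppf local on the base; this row assumes only that `Q`
respects isomorphisms.) -/
theorem result {S : Scheme.{u}} (Q : MorphismProperty (AlgSp.Sp S)) [Q.RespectsIso]
    {F G : AlgSp.PSp S} (a : F ⟶ G) (ha : AlgSp.RepBySp a) :
    AlgSp.RepBySpWith Q a ↔ AlgSt.RepByAlgSpWith Q (Stk.ofPshMap a) := by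
  open Groth.Agent.AlgStLib in
  refine ⟨fun h => repByAlgSpWith_of_repBySpWith h, fun h U ξ F' fst snd sq => ?_⟩
  obtain ⟨hs, hA⟩ := ha ξ fst snd sq
  refine ⟨hs, hA, ?_⟩
  have e := Groth.Agent.AlgStLib.compare_isEquivOver (Stk.ofPshMap a) (BasedFunctor.id _) (Iso.refl _)
    Groth.Agent.FibBase.isEquivOver_id sq
  have hy : Groth.Agent.AlgStLib.RepOver Q (FibCat.fpFst (BasedFunctor.comp (AlgSt.ofOverCat U) (Stk.ofPshMap ξ))
      (Stk.ofPshMap a)) := h U _
  have hPF := hy.property (F := (⟨F', hs⟩ : AlgSp.Sp S)) _ e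
  rw [Groth.Agent.AlgStLib.spMapOfOver_congr (F := (⟨F', hs⟩ : AlgSp.Sp S))
    (Groth.Agent.AlgStLib.compareFst (Stk.ofPshMap a) (BasedFunctor.id _) (Iso.refl _) sq)] at hPF
  exact (Groth.Agent.AlgStLib.spMapOfOver_ofSpMap_toOverCat
    (ObjectProperty.homMk snd : (⟨F', hs⟩ : AlgSp.Sp S) ⟶ (AlgSp.yon S).obj U)) ▸ hPF
end Groth.Agent.S12778
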