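import Groth.Statements.S1278
import Groth.Agent.FlatAboveCP.Desc

set_option autoImplicit false
set_option linter.style.haveILetI false
set_option backward.isDefEq.respectTransparency false
set_option backward.isDefEq.respectTransparency.types false
universe u
open FlatMor

namespace Groth.Agent.S1278

open IsLocalRing in
/-- Let A be a local ring and B → C a finite local homomorphism of local A-algebras (A → B local), and N
a C-module, viewed also as a B-module. For every local homomorphism of local rings A → A', with base
changes B', C' of B, C and base changes M' (of N over B') and N' (of N over C'): M' is flat over A'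
at every prime of B' containing 𝔪_{A'}B' + 𝔪_B B' if and only if N' is flat over A' at every prime
of C' containing 𝔪_{A'}C' + 𝔪_C C'. -/
theorem result {A B C : Type u} [CommRing A] [IsLocalRing A] [CommRing B] [IsLocalRing B] [CommRing C] [IsLocalRing C]
    [Algebra A B] [IsLocalHom (algebraMap A B)] [Algebra B C] [IsLocalHom (algebraMap B C)] [Algebra A C] [IsScalarTower A B C] [Module.Finite B C]
    (N : Type u) [AddCommGroup N] [Module C N] [Module B N] [IsScalarTower B C N]
    (A' : Type u) [CommRing A'] [IsLocalRing A'] [Algebra A A'] [IsLocalHom (algebraMap A A')]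
    (B' M' : Type u) [CommRing B'] [Algebra B B'] [Algebra A' B'] [Algebra A B'] [IsScalarTower A B B'] [IsScalarTower A A' B']
        [Algebra.IsPushout A B A' B']
        [AddCommGroup M'] [Module B' M'] [Module B M'] [IsScalarTower B B' M'] [Module A' M'] [IsScalarTower A' B' M']
        (fB : N →ₗ[B] M') (hfB : IsBaseChange B' fB)
    (C' N' : Type u) [CommRing C'] [Algebra C C'] [Algebra A' C'] [Algebra A C'] [IsScalarTower A C C'] [IsScalarTower A A' C']
        [Algebra.IsPushout A C A' C']
        [AddCommGroup N'] [Module C' N'] [Module C N'] [IsScalarTower C C' N'] [Module A' N'] [IsScalarTower A' C' N']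
        (fC : N →ₗ[C] N') (hfC : IsBaseChange C' fC) :
    FlatCA.FlatAboveClosedPoints B A' B' M' ↔ FlatCA.FlatAboveClosedPoints C A' C' N' := by
  obtain ⟨φ, hφB, hφA⟩ := FlatAboveCP.exists_desc (A := A) (A' := A') (B := B) (C := C) (B' := B') (C' := C')
  letI : Algebra B' C' := φ.toAlgebra
  letI : Algebra B C' := ((algebraMap C C').comp (algebraMap B C)).toAlgebra
  haveI : IsScalarTower B C C' := IsScalarTower.of_algebraMap_eq fun _ => rfl
  haveI : IsScalarTower B B' C' := IsScalarTower.of_algebraMap_eq fun b => (hφB b).symm
  haveI : IsScalarTower A' B' C' := IsScalarTower.of_algebraMap_eq fun a => (hφA a).symm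
  haveI : IsScalarTower A B' C' := IsScalarTower.of_algebraMap_eq fun a => by
    rw [IsScalarTower.algebraMap_apply A A' B', IsScalarTower.algebraMap_apply A A' C',
      ← IsScalarTower.algebraMap_apply A' B' C']
  haveI : Algebra.IsPushout B C B' C' := (Algebra.IsPushout.comp_iff A B A' B').1 inferInstance
  haveI : Algebra.IsPushout B B' C C' := Algebra.IsPushout.symm ‹_›
  haveI : Module.Finite B' C' :=
    Module.Finite.of_surjective (Algebra.IsPushout.equiv B B' C C').toLinearMap
      (Algebra.IsPushout.equiv B B' C C').surjective
  letI : Module B' N' := Module.compHom N' (algebraMap B' C')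
  haveI : IsScalarTower B' C' N' := IsScalarTower.of_algebraMap_smul fun _ _ => rfl
  letI : Module B N' := Module.compHom N' (algebraMap B C')
  haveI : IsScalarTower B C' N' := IsScalarTower.of_algebraMap_smul fun _ _ => rfl
  haveI : IsScalarTower B C N' := IsScalarTower.of_algebraMap_smul fun b x => by
    rw [← algebraMap_smul C' (algebraMap B C b) x]; rfl
  haveI : IsScalarTower B B' N' := IsScalarTower.of_algebraMap_smul fun b x => by
    show algebraMap B' C' (algebraMap B B' b) • x = algebraMap B C' b • x
    rw [← IsScalarTower.algebraMap_apply]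
  haveI : IsScalarTower A' B' N' := IsScalarTower.of_algebraMap_smul fun a x => by
    show algebraMap B' C' (algebraMap A' B' a) • x = a • x
    rw [← IsScalarTower.algebraMap_apply, algebraMap_smul]
  let fN : N →ₗ[B] N' := fC.restrictScalars B
  have hN : IsBaseChange B' fN := by
    refine IsBaseChange.of_equiv ((Algebra.IsPushout.cancelBaseChange B B' C C' N).symm.trans
      (hfC.equiv.restrictScalars B')) fun x => ?_
    simp [fN, hfC.equiv_tmul]
  let e : M' ≃ₗ[B'] N' := hfB.equiv.symm.trans hN.equiv
  refine FlatAboveCP.flatAt_iff_of_integral e _ _ (fun p _ hp => ?_) (fun p hp1 hp => ?_)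
  · refine sup_le ?_ ?_ <;> rw [Ideal.map_le_iff_le_comap]
    · intro a ha
      show algebraMap B' C' (algebraMap A' B' a) ∈ p
      rw [← IsScalarTower.algebraMap_apply]
      exact le_sup_left.trans hp (Ideal.mem_map_of_mem _ ha)
    · intro b hb
      show algebraMap B' C' (algebraMap B B' b) ∈ p
      rw [← IsScalarTower.algebraMap_apply, IsScalarTower.algebraMap_apply B C C']
      exact le_sup_right.trans hp (Ideal.mem_map_of_mem _ (map_nonunit _ b hb))
  · haveI := hp1
    refine sup_le ?_ ?_ <;> rw [Ideal.map_le_iff_le_comap]
    · intro a ha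
      show algebraMap A' C' a ∈ p
      rw [IsScalarTower.algebraMap_apply A' B' C']
      exact (le_sup_left.trans hp) (Ideal.mem_map_of_mem _ ha)
    · have hle : maximalIdeal B ≤ (p.comap (algebraMap C C')).comap (algebraMap B C) := fun b hb => by
        show algebraMap C C' (algebraMap B C b) ∈ p
        rw [← IsScalarTower.algebraMap_apply, IsScalarTower.algebraMap_apply B B' C']
        exact (le_sup_right.trans hp) (Ideal.mem_map_of_mem _ hb)
      haveI : ((p.comap (algebraMap C C')).comap (algebraMap B C)).IsPrime := Ideal.IsPrime.comap _
      have he := (maximalIdeal.isMaximal B).eq_of_le (Ideal.IsPrime.ne_top inferInstance) hle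
      haveI : ((p.comap (algebraMap C C')).comap (algebraMap B C)).IsMaximal := he ▸ maximalIdeal.isMaximal B
      exact (eq_maximalIdeal (Ideal.isMaximal_of_isIntegral_of_isMaximal_comap (R := B) _ inferInstance)).ge

end Groth.Agent.S1278
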