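import Groth.Statements.S1279
import Groth.Agent.S9823
import Groth.Agent.BlowUpLib.Glue

set_option backward.isDefEq.respectTransparency false
set_option backward.isDefEq.respectTransparency.types false
set_option linter.style.haveILetI false
-- import your own Groth.Agent.* helpers here

set_option autoImplicit false
universe u
open AlgebraicGeometry CategoryTheory CategoryTheory.Limits Topology
open FlatMor

namespace Groth.Agent.S1279

open AlgebraicGeometry CategoryTheory Limits Topology in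
theorem mem_support_iff_forall {X : Scheme.{u}} (I : X.IdealSheafData) (W : X.affineOpens) {z : X} (hz : z ∈ W.1) :
    z ∈ I.support ↔ ∀ s ∈ I.ideal W, z ∉ X.basicOpen s := by
  rw [Scheme.IdealSheafData.mem_support_iff_of_mem (U := W) hz, Scheme.mem_zeroLocus_iff]
  rfl

theorem isCompact_of_isConstructible {X : Scheme.{u}} [CompactSpace X] [QuasiSeparatedSpace X] {s : Set X}
    (hs : IsConstructible s) : IsCompact s := by
  have : Nonempty X.affineOpens := ⟨⟨⊥, isAffineOpen_bot X⟩⟩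
  have hb : TopologicalSpace.IsTopologicalBasis
      (Set.range fun A : X.affineOpens => ((A.1 : X.Opens) : Set X)) := by
    have h := X.isBasis_affineOpens
    rw [TopologicalSpace.Opens.IsBasis] at h
    convert h using 1
    ext t
    simp
  refine IsConstructible.induction_of_isTopologicalBasis (P := fun s _ => IsCompact s) _ hb
    (fun A => A.2.isCompact) (fun A t ht => ?_) (fun s _ t _ hs ht => hs.union ht) s hs
  exact A.2.isCompact.diff (isOpen_biUnion fun B _ => B.1.2)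

/-- The open obtained by removing a closed constructible subset of a quasi-compact open is quasi-compact. -/
theorem isCompact_diff {X : Scheme.{u}} [QuasiSeparatedSpace X] (U : X.Opens) (hU : IsCompact (U : Set X))
    (T : Set U) (hT : IsConstructible T) : IsCompact (Subtype.val '' Tᶜ : Set X) := by
  haveI : CompactSpace U := isCompact_iff_compactSpace.1 hU
  haveI : CompactSpace U.toScheme := ‹CompactSpace U›
  haveI : QuasiSeparatedSpace U := QuasiSeparatedSpace.of_isOpenEmbedding U.isOpenEmbedding'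
  exact (isCompact_of_isConstructible (X := U.toScheme) hT.compl).image continuous_subtype_val

/-- Let X be a quasi-compact and quasi-separated scheme, U ⊆ X a quasi-compact open, and T₁, T₂ ⊆ U
disjoint subsets which are closed and constructible in U. Then there is a U-admissible blow-up b :
X' → X such that the closures in X' of the preimages of T₁ and T₂ are disjoint. (Part (1), about
strict transforms of closed subschemes, is not stated.) -/
theorem result {X : Scheme.{u}} [CompactSpace X] [QuasiSeparatedSpace X]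
    (U : X.Opens) (hU : IsCompact (U : Set X)) (T₁ T₂ : Set U)
    (h₁ : IsClosed T₁) (h₂ : IsClosed T₂) (c₁ : IsConstructible T₁) (c₂ : IsConstructible T₂) (hd : Disjoint T₁ T₂) :
    ∃ (𝓘 : X.IdealSheafData) (X' : Scheme.{u}) (b : X' ⟶ X), BlowUp.IsBlowUp b 𝓘 ∧ BlowUp.IsAdmissibleFor U 𝓘 ∧
      Disjoint (closure (b.base ⁻¹' (Subtype.val '' T₁))) (closure (b.base ⁻¹' (Subtype.val '' T₂))) := by
  obtain ⟨V₁, hV₁⟩ : ∃ V : X.Opens, (V : Set X) = Subtype.val '' T₁ᶜ :=
    ⟨⟨_, U.2.isOpenMap_subtype_val _ h₁.isOpen_compl⟩, rfl⟩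
  obtain ⟨V₂, hV₂⟩ : ∃ V : X.Opens, (V : Set X) = Subtype.val '' T₂ᶜ :=
    ⟨⟨_, U.2.isOpenMap_subtype_val _ h₂.isOpen_compl⟩, rfl⟩
  obtain ⟨I₁, hf₁, hs₁⟩ := (S9823.result X V₁).1 (by rw [hV₁]; exact isCompact_diff U hU T₁ c₁)
  obtain ⟨I₂, hf₂, hs₂⟩ := (S9823.result X V₂).1 (by rw [hV₂]; exact isCompact_diff U hU T₂ c₂)
  have hdisjU : ∀ x ∈ U, ¬ (x ∈ I₁.support ∧ x ∈ I₂.support) := by
    rintro x hx ⟨h1, h2⟩
    have h1' : (⟨x, hx⟩ : U) ∈ T₁ := by
      by_contra h
      exact (hs₁.le h1) (hV₁.ge ⟨⟨x, hx⟩, h, rfl⟩)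
    have h2' : (⟨x, hx⟩ : U) ∈ T₂ := by
      by_contra h
      exact (hs₂.le h2) (hV₂.ge ⟨⟨x, hx⟩, h, rfl⟩)
    exact Set.disjoint_left.1 hd h1' h2'
  obtain ⟨X', b, hb⟩ := BlowUpLib.exists_blowUp (C := I₁ ⊔ I₂)
  refine ⟨I₁ ⊔ I₂, X', b, hb, ⟨fun W => ?_, ?_⟩, ?_⟩
  · rw [Scheme.IdealSheafData.ideal_sup, Pi.sup_apply]
    exact Submodule.FG.sup (hf₁ W) (hf₂ W)
  · rw [Scheme.IdealSheafData.support_sup, Set.disjoint_left]
    exact fun x hx hxU => hdisjU x hxU hx
  rw [Set.disjoint_left]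
  intro y hy₁ hy₂
  obtain ⟨W, hyW, t, ht, hJ⟩ := hb.1 y
  have hsum : t ∈ (I₁.comap b).ideal W ⊔ (I₂.comap b).ideal W := by
    rw [← Pi.sup_apply, ← Scheme.IdealSheafData.ideal_sup, ← Scheme.IdealSheafData.comap_sup, hJ]
    exact Ideal.mem_span_singleton_self t
  obtain ⟨k₁, hk₁, k₂, hk₂, hk⟩ := Submodule.mem_sup.1 hsum
  have hle : ∀ k ∈ (I₁.comap b).ideal W ⊔ (I₂.comap b).ideal W, ∃ a, a * t = k := fun k hk' => by
    rw [← Pi.sup_apply, ← Scheme.IdealSheafData.ideal_sup, ← Scheme.IdealSheafData.comap_sup, hJ] at hk'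
    exact Ideal.mem_span_singleton'.1 hk'
  obtain ⟨a₁, ha₁⟩ := hle k₁ (Submodule.mem_sup_left hk₁)
  obtain ⟨a₂, ha₂⟩ := hle k₂ (Submodule.mem_sup_right hk₂)
  have hone : a₁ + a₂ = 1 := by
    have h0 : (a₁ + a₂ - 1) * t = 0 := by rw [sub_mul, add_mul, ha₁, ha₂, hk, one_mul, sub_self]
    exact sub_eq_zero.1 ((mem_nonZeroDivisors_iff_right.1 ht) _ h0)
  -- one of the residual generators is invertible at `y`
  have key : ∀ (I : X.IdealSheafData) (T : Set U), (∀ x : U, x ∈ T → (x : X) ∈ I.support) →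
      ∀ (a k : Γ(X', W.1)), a * t = k → k ∈ (I.comap b).ideal W → y ∈ X'.basicOpen a →
      y ∉ closure (⇑b.base ⁻¹' (Subtype.val '' T)) := by
    intro I T hT a k hak hkI hya hcl
    obtain ⟨z, hza, x, hxT, hxz⟩ := mem_closure_iff.1 hcl _ (X'.basicOpen a).2 hya
    have hzW : z ∈ W.1 := X'.basicOpen_le a hza
    have hzI : z ∈ (I.comap b).support := by
      rw [Scheme.IdealSheafData.support_comap]
      show b z ∈ (I.support : Set X)
      rw [show b z = (x : X) from hxz.symm]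
      exact hT x hxT
    have hzk := (mem_support_iff_forall _ W hzW).1 hzI k hkI
    rw [← hak, Scheme.basicOpen_mul] at hzk
    have hzJ : z ∈ ((I₁ ⊔ I₂).comap b).support := by
      rw [mem_support_iff_forall _ W hzW]
      intro r hr hzr
      rw [hJ] at hr
      obtain ⟨c, rfl⟩ := Ideal.mem_span_singleton'.1 hr
      rw [Scheme.basicOpen_mul] at hzr
      exact hzk ⟨hza, hzr.2⟩
    rw [Scheme.IdealSheafData.support_comap] at hzJ
    have h2 : b z ∈ ((I₁ ⊔ I₂).support : Set X) := hzJ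
    rw [Scheme.IdealSheafData.support_sup, show b z = (x : X) from hxz.symm] at h2
    exact hdisjU x x.2 h2
  have hmem : ∀ (V : X.Opens) (I : X.IdealSheafData) (T : Set U), (V : Set X) = Subtype.val '' Tᶜ →
      (I.support : Set X) = (V : Set X)ᶜ → ∀ x : U, x ∈ T → (x : X) ∈ I.support := by
    intro V I T hV hI x hx
    refine hI.ge fun hxV => ?_
    obtain ⟨x', hx', he⟩ := hV.le hxV
    exact hx' ((Subtype.ext he : x' = x) ▸ hx)
  have hcases : y ∈ X'.basicOpen a₁ ∨ y ∈ X'.basicOpen a₂ := by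
    rw [X'.mem_basicOpen a₁ y hyW, X'.mem_basicOpen a₂ y hyW]
    exact IsLocalRing.isUnit_or_isUnit_of_isUnit_add (by rw [← map_add, hone, map_one]; exact isUnit_one)
  rcases hcases with h | h
  · exact key I₁ T₁ (hmem V₁ I₁ T₁ hV₁ hs₁) a₁ k₁ ha₁ hk₁ h hy₁
  · exact key I₂ T₂ (hmem V₂ I₂ T₂ hV₂ hs₂) a₂ k₂ ha₂ hk₂ h hy₂

end Groth.Agent.S1279
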