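import Groth.Statements.S6405
import Groth.Agent.FibBase.Setoid

set_option autoImplicit false
set_option backward.isDefEq.respectTransparency false
set_option backward.isDefEq.respectTransparency.types false
open CategoryTheory
universe v u
open FibCat

namespace Groth.Agent.S6405

/-- (2) ⇒ (1): if `𝒳` is fibred in groupoids over `C` and the canonical functor `I_𝒳 ⟶ 𝒳` from its
inertia is an equivalence over `C`, then `𝒳` is fibred in setoids. (The published statement is an
equivalence; this row states only that the inertia condition implies that `𝒳` is fibred in setoids.) -/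
theorem result {C : Type u} [Category.{v} C] {𝒳 : BasedCategory.{v, max u v} C} (h𝒳 : FibCat.IsFibGrpd 𝒳.p)
    (h : FibCat.IsEquivOver (FibCat.inertiaToBase (FibCat.toSelf 𝒳))) : FibCat.IsFibSetoid 𝒳.p := by
  have := Groth.Agent.FibBase.full_of_isEquivOver h
  refine ⟨h𝒳, fun U a b => ⟨fun φ ψ => Subtype.ext ?_⟩⟩
  have hb := Groth.Agent.FibBase.fiber_isGroupoid h𝒳 U
  let α := Groth.Agent.FibBase.ofFiberIso ((asIso φ).symm ≪≫ asIso ψ)
  have hα : (FibCat.toSelf 𝒳).map α.hom = 𝟙 _ := by
    have := Groth.Agent.FibBase.map_eq_of_isHomLift_id (Groth.Agent.FibBase.ofFiberIso_lift ((asIso φ).symm ≪≫ asIso ψ))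
    simpa [α, FibCat.toSelf] using this
  obtain ⟨f, hf⟩ := (FibCat.inertiaToBase (FibCat.toSelf 𝒳)).toFunctor.map_surjective
    (X := (⟨b.1, α, hα⟩ : FibCat.InertiaObj (FibCat.toSelf 𝒳)))
    (Y := (⟨b.1, Iso.refl _, (FibCat.toSelf 𝒳).map_id _⟩ : FibCat.InertiaObj (FibCat.toSelf 𝒳))) (𝟙 b.1)
  have hf' : f.hom = 𝟙 b.1 := hf
  have hc : α.hom = 𝟙 b.1 := by simpa [hf'] using f.comm
  have : (inv φ ≫ ψ : b ⟶ b) = 𝟙 b := Subtype.ext hc
  exact congrArg Subtype.val (((IsIso.inv_comp_eq φ).1 this).trans (Category.comp_id φ)).symm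

end Groth.Agent.S6405
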