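import Groth.Statements.S12791
import Groth.Agent.AlgStLib.Faithful
import Groth.Agent.S6405

set_option backward.isDefEq.respectTransparency false
set_option backward.isDefEq.respectTransparency.types false
-- import your own Groth.Agent.* helpers here

set_option autoImplicit false
open CategoryTheory AlgebraicGeometry
universe u
open AlgSt

namespace Groth.Agent.S12791

/-- (2) ⇔ (3): for an algebraic stack `𝒳` over `S`, the canonical 1-morphism `I_𝒳 ⟶ 𝒳` from the inertia
is an equivalence over `(Sch/S)` if and only if `𝒳` is representable by an algebraic space. -/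
theorem result {S : Scheme.{u}} {𝒳 : AlgSt.Cat S}
    (h𝒳 : AlgSt.IsAlgStack Scheme.fppfPrecoverage 𝒳) :
    FibCat.IsEquivOver (FibCat.inertiaToBase (FibCat.toSelf 𝒳)) ↔ AlgSt.RepByAlgSp 𝒳 :=  by
  constructor
  · intro h
    exact Groth.Agent.AlgStLib.repByAlgSp_of_isFibSetoid h𝒳 (Groth.Agent.S6405.result h𝒳.isStack.1 h)
  · intro h
    have hf := (Groth.Agent.FibBase.isFibSetoid_iff.1 (Groth.Agent.AlgStLib.isFibSetoid_of_repByAlgSp h)).2
    have : (FibCat.toSelf 𝒳).toFunctor.Faithful := hf
    exact (Groth.Agent.AlgStLib.faithful_iff_isEquivOver_inertiaToBase h𝒳.isStack.1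
      Groth.Agent.AlgStLib.isFibGrpd_selfOver (FibCat.toSelf 𝒳)).1 this
end Groth.Agent.S12791
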