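import Groth.Statements.S12794
import Groth.Agent.StkLib.Sieves

set_option autoImplicit false
set_option backward.isDefEq.respectTransparency false
set_option backward.isDefEq.respectTransparency.types false
open CategoryTheory
universe w v u
open Stk

namespace Groth.Agent.S12794

open CategoryTheory.Functor Groth.Agent.FibBase Groth.Agent.StkLib

/-- Let `𝒳`, `𝒴` be stacks in groupoids over `C` for the topology `J` and `F : 𝒳 ⟶ 𝒴` a functor over `C`
whose underlying functor is fully faithful. Then `F` is an equivalence over `C` if and only if every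
object `y` of `𝒴` is locally in the essential image: there is a covering sieve `R` of the object
under `y` such that for every arrow `f` of `R` some object `x` of `𝒳` has a morphism `F x ⟶ y` lying
over `f` (equivalently, the pullback of `y` along `f` is isomorphic in its fibre to an object in the
image of `F`). (The published statement is for stacks over the site, not necessarily in groupoids,
and 1-morphisms of stacks; this row treats stacks in groupoids.) -/
theorem result {C : Type u} [Category.{v} C] (J : GrothendieckTopology C) {𝒳 𝒴 : BasedCategory.{v, max u v} C}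
    (h𝒳 : Stk.IsStack J 𝒳) (h𝒴 : Stk.IsStack J 𝒴) (F : 𝒳 ⥤ᵇ 𝒴) [F.toFunctor.Full] [F.toFunctor.Faithful] :
    FibCat.IsEquivOver F ↔
      ∀ y : 𝒴.obj, ∃ R ∈ J (𝒴.p.obj y), ∀ ⦃V : C⦄ (f : V ⟶ 𝒴.p.obj y), R f →
        ∃ (x : 𝒳.obj) (φ : F.obj x ⟶ y), 𝒴.p.IsHomLift f φ := by
  refine ⟨fun hF y => ?_, fun hloc => ?_⟩
  · obtain ⟨x, e, he⟩ := exists_iso_over_of_isEquivOver hF y rfl
    refine ⟨⊤, J.top_mem _, fun V f _ => ?_⟩
    obtain ⟨x', χ, hχ⟩ := exists_lift_of_eq h𝒳.1 ((F.w_obj x).symm.trans (IsHomLift.domain_eq 𝒴.p (𝟙 (𝒴.p.obj y)) e.hom)) f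
    exact ⟨x', F.map χ ≫ e.hom, IsHomLift.comp_lift_id_right' 𝒴.p f (F.map χ) (𝒴.p.obj y) e.hom⟩
  · refine isEquivOver_of_exists_iso F inferInstance inferInstance fun y => ?_
    obtain ⟨R, hR, hloc⟩ := hloc y
    obtain ⟨K, eK, heK⟩ := exists_ofObj h𝒴.1 y rfl
    obtain ⟨H, ⟨iH⟩⟩ := exists_lift_post F (BasedFunctor.comp (Stk.sieveIncl R) K) (fun a => by
      obtain ⟨x, φ, hφ⟩ := hloc a.obj.hom a.property
      obtain ⟨i, hi⟩ := exists_iso_at h𝒴.1 K a.obj eK.hom heK φ hφ
      exact ⟨x, i, hi⟩)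
    have : (Stk.resSieve R 𝒳).IsEquivalence := h𝒳.2 R hR
    let Ĥ := (Stk.resSieve R 𝒳).objPreimage H
    let j : BasedFunctor.comp (Stk.sieveIncl R) Ĥ ≅ H := (Stk.resSieve R 𝒳).objObjPreimageIso H
    obtain ⟨θ⟩ := exists_iso_of_resSieve ((isPrestack_of_isStack h𝒴).2 R hR) (BasedFunctor.comp Ĥ F) K
      (whiskerRightIso j F ≪≫ iH)
    have := isoApp_lift θ (a := Over.mk (𝟙 (𝒴.p.obj y))) (S := 𝒴.p.obj y) rfl
    exact ⟨Ĥ.obj (Over.mk (𝟙 _)), isoApp θ _ ≪≫ eK, IsHomLift.comp_lift_id_right' 𝒴.p (𝟙 (𝒴.p.obj y))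
      (isoApp θ (Over.mk (𝟙 (𝒴.p.obj y)))).hom (𝒴.p.obj y) eK.hom⟩

end Groth.Agent.S12794
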