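import Groth.Statements.S12795
import Groth.Agent.StkLib.Sieves

set_option autoImplicit false
set_option backward.isDefEq.respectTransparency false
set_option backward.isDefEq.respectTransparency.types false
open CategoryTheory
universe w v u
open Stk

namespace Groth.Agent.S12795

open CategoryTheory.Functor Groth.Agent.FibBase Groth.Agent.StkLib

/-- Let `𝒳` be a stack in groupoids over `C` for the topology `J` and `Q` a property of objects of `𝒳`
such that (1) for every morphism `y ⟶ x` of `𝒳` whose target satisfies `Q`, `y` is isomorphic, by an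
isomorphism lying over an identity, to an object satisfying `Q`, and (3) for every covering sieve
`R` on `U` and every object `x` over `U`: if every source of a morphism to `x` lying over an arrow
of `R` is isomorphic over an identity to an object satisfying `Q`, then so is `x`. Then the full
subcategory of `𝒳` on `Q`, with the restricted structure functor, is a stack in groupoids for `J`.
(The published statement has a further condition (2), fullness of the subcategory, which is built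
into the full subcategory here; and its word isomorphic is read as isomorphic by an isomorphism
lying over an identity; the published statement is for stacks that are not necessarily in groupoids,
this row treats stacks in groupoids.) -/
theorem result {C : Type u} [Category.{v} C] (J : GrothendieckTopology C) {𝒳 : BasedCategory.{v, max u v} C}
    (h𝒳 : Stk.IsStack J 𝒳) (Q : ObjectProperty 𝒳.obj)
    (h1 : ∀ ⦃y x : 𝒳.obj⦄ (φ : y ⟶ x), Q x → ∃ (y' : 𝒳.obj) (e : y ≅ y'), Q y' ∧ 𝒳.p.IsHomLift (𝟙 (𝒳.p.obj y)) e.hom)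
    (h3 : ∀ ⦃U : C⦄ (R : Sieve U), R ∈ J U → ∀ (x : 𝒳.obj), 𝒳.p.obj x = U →
      (∀ ⦃V : C⦄ (f : V ⟶ U), R f → ∀ (y : 𝒳.obj) (φ : y ⟶ x), 𝒳.p.IsHomLift f φ →
        ∃ (y' : 𝒳.obj) (e : y ≅ y'), Q y' ∧ 𝒳.p.IsHomLift (𝟙 V) e.hom) →
      ∃ (x' : 𝒳.obj) (e : x ≅ x'), Q x' ∧ 𝒳.p.IsHomLift (𝟙 U) e.hom) :
    Stk.IsStack J (BasedCategory.ofFunctor (Q.ι ⋙ 𝒳.p)) := by
  have hι : ∀ {a b : Q.FullSubcategory} (g : a ⟶ b), (Q.ι ⋙ 𝒳.p).map g = 𝒳.p.map g.hom := fun _ => rfl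
  let I : BasedCategory.ofFunctor (Q.ι ⋙ 𝒳.p) ⥤ᵇ 𝒳 := { toFunctor := Q.ι, w := rfl }
  haveI : I.toFunctor.Full := inferInstanceAs Q.ι.Full
  haveI : I.toFunctor.Faithful := inferInstanceAs Q.ι.Faithful
  haveI := h𝒳.1
  have hfib : FibCat.IsFibGrpd (Q.ι ⋙ 𝒳.p) := by
    refine { exists_lift := fun {x V} f => ?_, isStronglyCartesian := fun {y x} φ => ?_ }
    · obtain ⟨y, φ, hφ⟩ := h𝒳.1.exists_lift (show V ⟶ 𝒳.p.obj x.obj from f)
      obtain ⟨y', e, hy', he⟩ := h1 φ x.property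
      let ψ : (⟨y', hy'⟩ : Q.FullSubcategory) ⟶ x := ObjectProperty.homMk (e.inv ≫ φ)
      refine ⟨_, ψ, ?_⟩
      have := isHomLift_id_congr (IsHomLift.domain_eq 𝒳.p (show V ⟶ 𝒳.p.obj x.obj from f) φ) he
      have := IsHomLift.lift_id_inv 𝒳.p V e
      have h2 : 𝒳.p.IsHomLift (show V ⟶ 𝒳.p.obj x.obj from f) (e.inv ≫ φ) :=
        IsHomLift.comp_lift_id_left' 𝒳.p V e.inv (show V ⟶ 𝒳.p.obj x.obj from f) φ
      exact (I.isHomLift_iff (φ := ψ) (f := (show V ⟶ 𝒳.p.obj x.obj from f))).mp h2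
    · have h2 : 𝒳.p.IsStronglyCartesian ((BasedCategory.ofFunctor (Q.ι ⋙ 𝒳.p)).p.map φ) (I.map φ) :=
        h𝒳.1.isStronglyCartesian φ.hom
      exact isStronglyCartesian_of_map (F := I) h2
  refine ⟨hfib, fun U R hR => ?_⟩
  have hp𝒳 := (isPrestack_of_isStack h𝒳).2 R hR
  obtain ⟨_, _⟩ := isPrestackFor_of_fullyFaithful I hp𝒳
  haveI : (Stk.resSieve R 𝒳).IsEquivalence := h𝒳.2 R hR
  refine { essSurj := ⟨fun H => ?_⟩ }
  let K := (Stk.resSieve R 𝒳).objPreimage (BasedFunctor.comp H I)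
  let j : BasedFunctor.comp (Stk.sieveIncl R) K ≅ BasedFunctor.comp H I :=
    (Stk.resSieve R 𝒳).objObjPreimageIso (BasedFunctor.comp H I)
  have hK : 𝒳.p.obj (K.obj (Over.mk (𝟙 U))) = U := K.w_obj _
  obtain ⟨x', e, hx', he⟩ := h3 R hR _ hK (fun V f hf y φ hφ => by
    obtain ⟨i, hi⟩ := exists_iso_at h𝒳.1 K (Over.mk f) (𝟙 _) (IsHomLift.id hK) φ hφ
    haveI : 𝒳.p.IsHomLift (𝟙 V) i.hom := hi
    haveI : 𝒳.p.IsHomLift (𝟙 V) (isoApp j ⟨Over.mk f, hf⟩).hom :=
      isoApp_lift j (a := ⟨Over.mk f, hf⟩) (S := V) rfl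
    exact ⟨_, i ≪≫ isoApp j ⟨Over.mk f, hf⟩, (H.obj ⟨Over.mk f, hf⟩).property,
      inferInstanceAs (𝒳.p.IsHomLift (𝟙 V) (i.hom ≫ (isoApp j ⟨Over.mk f, hf⟩).hom))⟩)
  obtain ⟨Ĥ, ⟨iH⟩⟩ := exists_lift_post I K (fun a => by
    obtain ⟨y', e', hy', he'⟩ := h1 (K.map (toId a) ≫ e.hom) hx'
    haveI : 𝒳.p.IsHomLift (𝟙 a.left) e'.hom := isHomLift_id_congr (K.w_obj a) he'
    exact ⟨⟨y', hy'⟩, e'.symm, IsHomLift.lift_id_inv 𝒳.p a.left e'⟩)
  haveI := post_full (𝒜 := Stk.sieveCat R) I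
  haveI := post_faithful (𝒜 := Stk.sieveCat R) I
  exact ⟨Ĥ, ⟨(post (𝒜 := Stk.sieveCat R) I).preimageIso (whiskerLeftIso (Stk.sieveIncl R) iH ≪≫ j)⟩⟩

end Groth.Agent.S12795
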