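import Groth.Statements.S12798
import Groth.Agent.StkLib.Sieves

set_option autoImplicit false
set_option backward.isDefEq.respectTransparency false
set_option backward.isDefEq.respectTransparency.types false
open CategoryTheory
universe w v u
open Stk

namespace Groth.Agent.S12798

open CategoryTheory.Functor Groth.Agent.FibBase Groth.Agent.StkLib

/-- Let `𝒮₁`, `𝒮₂`, `𝒯₁` be stacks in groupoids over `C` for the topology `J`, and `F : 𝒮₂ ⟶ 𝒮₁`, `G :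
𝒯₁ ⟶ 𝒮₁` functors over `C` such that every object of `𝒮₁` is locally in the essential image of `F`.
If the first projection `𝒮₂ ×_{𝒮₁} 𝒯₁ ⟶ 𝒮₂` of the 2-fibre product over `C` is faithful, then `G` is
faithful. (The published statement is for any 2-cartesian square of stacks in groupoids; this row is
the case of the explicit 2-fibre product, to which the general case reduces because faithfulness is
invariant under equivalence.) -/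
theorem result {C : Type u} [Category.{v} C] (J : GrothendieckTopology C) {𝒮₁ 𝒮₂ 𝒯₁ : BasedCategory.{v, max u v} C}
    (h₁ : Stk.IsStack J 𝒮₁) (h₂ : Stk.IsStack J 𝒮₂) (h₃ : Stk.IsStack J 𝒯₁) (F : 𝒮₂ ⥤ᵇ 𝒮₁) (G : 𝒯₁ ⥤ᵇ 𝒮₁)
    (hF : ∀ y : 𝒮₁.obj, ∃ R ∈ J (𝒮₁.p.obj y), ∀ ⦃V : C⦄ (f : V ⟶ 𝒮₁.p.obj y), R f →
      ∃ (x : 𝒮₂.obj) (φ : F.obj x ⟶ y), 𝒮₁.p.IsHomLift f φ)
    (hG' : (FibCat.fpFst F G).toFunctor.Faithful) : G.toFunctor.Faithful := by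
  refine ⟨fun {t t'} a b hab => ?_⟩
  haveI := h₁.1
  haveI := h₂.1
  haveI := h₃.1
  have hpab : 𝒯₁.p.map b = 𝒯₁.p.map a := by
    have := congrArg (fun m => 𝒮₁.p.map m) hab
    rw [w_map, w_map] at this
    simpa [cancel_epi, cancel_mono] using this.symm
  have hsc := FibCat.IsFibGrpd.isStronglyCartesian (p := 𝒯₁.p) a
  haveI : 𝒯₁.p.IsHomLift (𝒯₁.p.map a) b := hpab ▸ IsHomLift.map 𝒯₁.p b
  let χ := IsCartesian.map 𝒯₁.p (𝒯₁.p.map a) a b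
  have hχa : χ ≫ a = b := IsCartesian.fac _ _ _ _
  have hGχ : G.map χ = 𝟙 (G.obj t) := by
    have : 𝒮₁.p.IsHomLift (𝒯₁.p.map a) (G.map a) := inferInstance
    have := isSC (p := 𝒮₁.p) (𝒯₁.p.map a) (G.map a)
    refine IsStronglyCartesian.ext 𝒮₁.p (𝒯₁.p.map a) (G.map a) (𝟙 (𝒯₁.p.obj t)) ?_
    rw [← G.toFunctor.map_comp, hχa, Category.id_comp, hab]
  suffices χ = 𝟙 t by rw [← hχa, this, Category.id_comp]
  obtain ⟨R, hR, hloc⟩ := hF (G.obj t)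
  have hR' : R ∈ J (𝒮₁.p.obj (G.obj t)) := hR
  refine hom_ext_of_prestackFor h₃.1 ((isPrestack_of_isStack h₃).2 R hR).2 χ (𝟙 t)
    (isHomLift_id_congr (S := 𝒯₁.p.obj t) (G.w_obj t).symm inferInstance) (IsHomLift.id (G.w_obj t).symm) fun V f hf => ?_
  obtain ⟨x, φ, hφ⟩ := hloc f hf
  obtain ⟨t₀, ψ, hψ⟩ := exists_lift_of_eq h₃.1 (G.w_obj t).symm f
  obtain ⟨e, he, -⟩ := exists_iso_of_lifts (hp := h₁.1) f (G.map ψ) φ
  have hx : 𝒮₁.p.IsHomLift (𝟙 (𝒮₂.p.obj x)) e.hom := isHomLift_id_congr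
    ((IsHomLift.domain_eq 𝒮₁.p f φ).symm.trans (F.w_obj x)) he
  let o : (FibCat.fp F G).obj := ⟨⟨x, t₀, e⟩, hx⟩
  have := isSC (p := 𝒯₁.p) f ψ
  haveI : 𝒯₁.p.IsHomLift (𝟙 (𝒮₁.p.obj (G.obj t))) χ := isHomLift_id_congr (S := 𝒯₁.p.obj t) (G.w_obj t).symm inferInstance
  haveI : 𝒯₁.p.IsHomLift f (ψ ≫ χ) := IsHomLift.comp_lift_id_right' 𝒯₁.p f ψ (𝒮₁.p.obj (G.obj t)) χ
  let χ₀ := IsCartesian.map 𝒯₁.p f ψ (ψ ≫ χ)
  have hG₀ : G.map χ₀ = 𝟙 (G.obj t₀) := by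
    have := isSC (p := 𝒮₁.p) f (G.map ψ)
    haveI : 𝒮₁.p.IsHomLift (𝟙 V) (𝟙 (G.obj t₀)) := IsHomLift.id ((G.w_obj t₀).trans (IsHomLift.domain_eq 𝒯₁.p f ψ))
    refine IsStronglyCartesian.ext 𝒮₁.p f (G.map ψ) (𝟙 V) ?_
    rw [← G.toFunctor.map_comp, IsCartesian.fac, G.toFunctor.map_comp, hGχ, Category.comp_id, Category.id_comp]
  let m : o ⟶ o := ObjectProperty.homMk ⟨𝟙 x, χ₀, by simp [hG₀, o]⟩
  have hm : m = 𝟙 o := hG'.map_injective (show 𝟙 x = _ from rfl)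
  have h0 : χ₀ = 𝟙 t₀ := congrArg (fun k : o ⟶ o => k.hom.snd) hm
  refine ⟨t₀, ψ, hψ, ?_⟩
  rw [← IsCartesian.fac 𝒯₁.p f ψ (ψ ≫ χ), Category.comp_id]
  show χ₀ ≫ ψ = ψ
  rw [h0, Category.id_comp]

end Groth.Agent.S12798
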