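import Groth.Statements.S12799
import Groth.Agent.StkLib.Sieves
import Groth.Agent.FibBase.Setoid

set_option autoImplicit false
set_option backward.isDefEq.respectTransparency false
set_option backward.isDefEq.respectTransparency.types false
open CategoryTheory
universe w v u
open Stk

namespace Groth.Agent.S12799

open CategoryTheory.Functor Groth.Agent.FibBase Groth.Agent.StkLib

/-- Let `𝒮₁`, `𝒮₂`, `𝒯₁` be stacks in groupoids over `C` for the topology `J`, `F : 𝒮₂ ⟶ 𝒮₁` a functor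
over `C` whose underlying functor is fully faithful and such that every object of `𝒮₁` is locally in
the essential image of `F`, and `G : 𝒯₁ ⟶ 𝒮₁` a functor over `C`. If the 2-fibre product `𝒮₂ ×_{𝒮₁}
𝒯₁` over `C` is fibred in setoids, then `𝒯₁` is fibred in setoids, hence a stack in setoids. (The
published statement is for any 2-cartesian square of stacks in groupoids; this row is the case of
the explicit 2-fibre product, to which the general case reduces because being fibred in setoids is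
invariant under equivalence over `C`.) -/
theorem result {C : Type u} [Category.{v} C] (J : GrothendieckTopology C) {𝒮₁ 𝒮₂ 𝒯₁ : BasedCategory.{v, max u v} C}
    (h₁ : Stk.IsStack J 𝒮₁) (h₂ : Stk.IsStack J 𝒮₂) (h₃ : Stk.IsStack J 𝒯₁) (F : 𝒮₂ ⥤ᵇ 𝒮₁) [F.toFunctor.Full] [F.toFunctor.Faithful]
    (hF : ∀ y : 𝒮₁.obj, ∃ R ∈ J (𝒮₁.p.obj y), ∀ ⦃V : C⦄ (f : V ⟶ 𝒮₁.p.obj y), R f →
      ∃ (x : 𝒮₂.obj) (φ : F.obj x ⟶ y), 𝒮₁.p.IsHomLift f φ)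
    (G : 𝒯₁ ⥤ᵇ 𝒮₁) (h : FibCat.IsFibSetoid (FibCat.fp F G).p) : FibCat.IsFibSetoid 𝒯₁.p := by
  refine isFibSetoid_iff.mpr ⟨h₃.1, ⟨fun {t t'} a b hab => ?_⟩⟩
  haveI := h₁.1
  haveI := h₃.1
  haveI := (isFibSetoid_iff.mp h).2
  have hsc := FibCat.IsFibGrpd.isStronglyCartesian (p := 𝒯₁.p) a
  haveI : 𝒯₁.p.IsHomLift (𝒯₁.p.map a) b := hab ▸ IsHomLift.map 𝒯₁.p b
  let χ := IsCartesian.map 𝒯₁.p (𝒯₁.p.map a) a b
  have hχa : χ ≫ a = b := IsCartesian.fac _ _ _ _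
  suffices χ = 𝟙 t by rw [← hχa, this, Category.id_comp]
  obtain ⟨R, hR, hloc⟩ := hF (G.obj t)
  refine hom_ext_of_prestackFor h₃.1 ((isPrestack_of_isStack h₃).2 R hR).2 χ (𝟙 t)
    (isHomLift_id_congr (S := 𝒯₁.p.obj t) (G.w_obj t).symm inferInstance) (IsHomLift.id (G.w_obj t).symm) fun V f hf => ?_
  obtain ⟨x, φ, hφ⟩ := hloc f hf
  obtain ⟨t₀, ψ, hψ⟩ := exists_lift_of_eq h₃.1 (G.w_obj t).symm f
  obtain ⟨e, he, -⟩ := exists_iso_of_lifts (hp := h₁.1) f (G.map ψ) φ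
  have hx : 𝒮₁.p.IsHomLift (𝟙 (𝒮₂.p.obj x)) e.hom := isHomLift_id_congr
    ((IsHomLift.domain_eq 𝒮₁.p f φ).symm.trans (F.w_obj x)) he
  let o : (FibCat.fp F G).obj := ⟨⟨x, t₀, e⟩, hx⟩
  have := isSC (p := 𝒯₁.p) f ψ
  haveI : 𝒯₁.p.IsHomLift (𝟙 (𝒮₁.p.obj (G.obj t))) χ := isHomLift_id_congr (S := 𝒯₁.p.obj t) (G.w_obj t).symm inferInstance
  haveI : 𝒯₁.p.IsHomLift f (ψ ≫ χ) := IsHomLift.comp_lift_id_right' 𝒯₁.p f ψ (𝒮₁.p.obj (G.obj t)) χ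
  let χ₀ := IsCartesian.map 𝒯₁.p f ψ (ψ ≫ χ)
  haveI : 𝒯₁.p.IsHomLift (𝟙 V) χ₀ := inferInstanceAs (𝒯₁.p.IsHomLift (𝟙 V) (IsCartesian.map 𝒯₁.p f ψ (ψ ≫ χ)))
  have hGl : 𝒮₁.p.IsHomLift (𝟙 V) (G.map χ₀) := inferInstance
  haveI : 𝒮₁.p.IsHomLift (𝟙 V) e.inv := IsHomLift.lift_id_inv 𝒮₁.p V e
  let a₀ : x ⟶ x := F.toFunctor.preimage (e.hom ≫ G.map χ₀ ≫ e.inv)
  have ha₀ : F.map a₀ = e.hom ≫ G.map χ₀ ≫ e.inv := F.toFunctor.map_preimage _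
  haveI hl : 𝒮₂.p.IsHomLift (𝟙 V) a₀ := by
    rw [← F.isHomLift_iff, ha₀]
    infer_instance
  let m : o ⟶ o := ObjectProperty.homMk ⟨a₀, χ₀, by simp [ha₀, o]⟩
  have hm : m = 𝟙 o := Functor.map_injective (FibCat.fp F G).p (by
    show 𝒮₂.p.map a₀ = 𝒮₂.p.map (𝟙 x)
    rw [IsHomLift.fac' 𝒮₂.p (𝟙 V) a₀]
    simp)
  have h0 : χ₀ = 𝟙 t₀ := congrArg (fun k : o ⟶ o => k.hom.snd) hm
  refine ⟨t₀, ψ, hψ, ?_⟩
  rw [← IsCartesian.fac 𝒯₁.p f ψ (ψ ≫ χ), Category.comp_id]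
  show χ₀ ≫ ψ = ψ
  rw [h0, Category.id_comp]

end Groth.Agent.S12799
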