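import Groth.Statements.S12806
import Groth.Agent.FibBase.Setoid
import Groth.Agent.FibBase.Fp

set_option autoImplicit false
set_option backward.isDefEq.respectTransparency false
set_option backward.isDefEq.respectTransparency.types false
open CategoryTheory
universe v u
open FibCat

namespace Groth.Agent.S12806

/-- Let `𝒮` be fibred in groupoids over `C`, `U` an object of `C` and `x, y : C/U ⟶ 𝒮` two functors over
`C` (objects over `U` in 2-Yoneda form), with `e` the 2-isomorphism identifying their composites
with the structure functor. Then the 2-fibre product over `C` of `(x, y) : C/U ⟶ 𝒮 ×_C 𝒮` with the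
diagonal `𝒮 ⟶ 𝒮 ×_C 𝒮` is fibred in setoids over `C/U` through its first projection. (The published
statement is for a fibred category with `x`, `y` the functors given by chosen pullbacks; this row is
the case of a category fibred in groupoids, where every functor over `C` out of `C/U` is of that
kind.) -/
theorem result {C : Type u} [Category.{v} C] {𝒮 : BasedCategory.{v, max u v} C} (h𝒮 : FibCat.IsFibGrpd 𝒮.p)
    (U : C) (x y : FibCat.overCat U ⥤ᵇ 𝒮)
    (e : BasedFunctor.comp x (FibCat.toSelf 𝒮) ≅ BasedFunctor.comp y (FibCat.toSelf 𝒮)) :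
    FibCat.IsFibSetoid (FibCat.fpFst (FibCat.fpLift x y e) (FibCat.diag (FibCat.toSelf 𝒮))).toFunctor := by
  rw [FibBase.isFibSetoid_iff]
  constructor
  · refine FibBase.isFibGrpd_of_comp (G := Over.forget U) (FibBase.isFibSet_overForget U) ?_
    exact FibBase.fp_isFibGrpd (F := FibCat.fpLift x y e) (G := FibCat.diag (FibCat.toSelf 𝒮))
      (FibBase.isFibSet_overForget U).1 h𝒮 (FibBase.fp_isFibGrpd h𝒮 h𝒮 FibBase.isFibGrpd_id)
  · refine ⟨fun {z z'} f g h => ?_⟩
    have h1 : f.hom.fst = g.hom.fst := h
    refine ObjectProperty.hom_ext _ (Limits.CategoricalPullback.hom_ext h1 ?_)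
    have w : z.obj.iso.hom ≫ (FibCat.diag (FibCat.toSelf 𝒮)).map f.hom.snd =
        z.obj.iso.hom ≫ (FibCat.diag (FibCat.toSelf 𝒮)).map g.hom.snd := by
      rw [← f.hom.w, ← g.hom.w, h1]
    exact congrArg (fun t => t.hom.fst) ((cancel_epi z.obj.iso.hom).1 w)

end Groth.Agent.S12806
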