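import Groth.Statements.S12807


set_option autoImplicit false
set_option backward.isDefEq.respectTransparency false
set_option backward.isDefEq.respectTransparency.types false
open CategoryTheory CategoryTheory.Limits
universe v₃ u₃ v₂ u₂ v u
open FibCat

namespace Groth.Agent.S12807

/-- Let `u : C ⥤ D` be a functor and `𝒮` a category over `D` whose structure functor is a fibred
category. Then the 2-fibre product `C ×_D 𝒮` of `u` and the structure functor (triples `(U, y, u U ≅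
p y)`), with its first projection, is a fibred category over `C`. (The published statement uses the
strict fibre product, pairs with `u U = p y`; for `𝒮` fibred over `D` it is equivalent over `C` to
the 2-fibre product used here.) -/
theorem result {C : Type u} [Category.{v} C] {D : Type u₂} [Category.{v₂} D] (u : C ⥤ D)
    (𝒮 : BasedCategory.{v₃, u₃} D) [𝒮.p.IsFibered] :
    (CategoricalPullback.π₁ u 𝒮.p).IsFibered := by
  refine Functor.IsFibered.of_exists_isStronglyCartesian fun a R f => ?_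
  obtain ⟨z, φ, hφ⟩ : ∃ (z : 𝒮.obj) (φ : z ⟶ a.snd), 𝒮.p.IsStronglyCartesian (u.map f ≫ a.iso.hom) φ := by
    obtain ⟨z, φ, hφ⟩ := IsPreFibered.exists_isCartesian 𝒮.p (rfl : 𝒮.p.obj a.snd = _) (u.map f ≫ a.iso.hom)
    exact ⟨z, φ, inferInstance⟩
  have hz : 𝒮.p.obj z = u.obj R := IsHomLift.domain_eq 𝒮.p (u.map f ≫ a.iso.hom) φ
  let b : CategoricalPullback u 𝒮.p := { fst := R, snd := z, iso := eqToIso hz.symm }
  let ψ : b ⟶ a :=
    { fst := f
      snd := φ
      w := by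
        have := IsHomLift.fac' 𝒮.p (u.map f ≫ a.iso.hom) φ
        simp [b, this] }
  refine ⟨b, ψ, ?_⟩
  haveI : (CategoricalPullback.π₁ u 𝒮.p).IsHomLift f ψ := IsHomLift.map (CategoricalPullback.π₁ u 𝒮.p) ψ
  refine ⟨fun {c} g t ht => ?_⟩
  have ht1 : t.fst = g ≫ f := by
    have := IsHomLift.fac' (CategoricalPullback.π₁ u 𝒮.p) (g ≫ f) t
    exact this.trans ((Category.id_comp _).trans (Category.comp_id _))
  haveI : 𝒮.p.IsHomLift (c.iso.inv ≫ u.map (g ≫ f) ≫ a.iso.hom) t.snd := by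
    have e : c.iso.inv ≫ u.map (g ≫ f) ≫ a.iso.hom = 𝒮.p.map t.snd := by
      rw [← ht1, t.w, Iso.inv_hom_id_assoc]
    rw [e]
    infer_instance
  let χ : c.snd ⟶ z := Functor.IsStronglyCartesian.map 𝒮.p (u.map f ≫ a.iso.hom) φ (g := c.iso.inv ≫ u.map g)
    (f' := c.iso.inv ≫ u.map (g ≫ f) ≫ a.iso.hom) (by simp) t.snd
  have hχ : 𝒮.p.map χ = (c.iso.inv ≫ u.map g) ≫ eqToHom hz.symm := by
    have := IsHomLift.fac' 𝒮.p (c.iso.inv ≫ u.map g) χ
    simpa using this
  let m : c ⟶ b := { fst := g, snd := χ, w := by simp [b, hχ] }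
  refine ⟨m, ⟨IsHomLift.map (CategoricalPullback.π₁ u 𝒮.p) m,
    CategoricalPullback.hom_ext ht1.symm (Functor.IsStronglyCartesian.fac 𝒮.p (u.map f ≫ a.iso.hom) φ
      (g := c.iso.inv ≫ u.map g) (f' := c.iso.inv ≫ u.map (g ≫ f) ≫ a.iso.hom) (by simp) t.snd)⟩, ?_⟩
  rintro n ⟨hn, hn'⟩
  have h1 : n.fst = g := (IsHomLift.fac' (CategoricalPullback.π₁ u 𝒮.p) g n).trans ((Category.id_comp _).trans (Category.comp_id _))
  refine CategoricalPullback.hom_ext h1 ?_
  haveI : 𝒮.p.IsHomLift (c.iso.inv ≫ u.map g) n.snd := by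
    refine IsHomLift.of_fac' 𝒮.p _ _ rfl hz ?_
    have w : u.map n.fst ≫ b.iso.hom = c.iso.hom ≫ 𝒮.p.map n.snd := n.w
    rw [h1] at w
    rw [← cancel_epi c.iso.hom, ← w]
    simp [b]
  exact Functor.IsStronglyCartesian.map_uniq 𝒮.p (u.map f ≫ a.iso.hom) φ (g := c.iso.inv ≫ u.map g)
    (f' := c.iso.inv ≫ u.map (g ≫ f) ≫ a.iso.hom) (by simp) t.snd n.snd (congrArg CategoricalPullback.Hom.snd hn')

end Groth.Agent.S12807
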