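import Groth.Statements.S12811
import Groth.Agent.StkLib.Fp
import Groth.Agent.FibBase.Setoid

set_option autoImplicit false
set_option backward.isDefEq.respectTransparency false
set_option backward.isDefEq.respectTransparency.types false
open CategoryTheory
universe v u
open Stk

namespace Groth.Agent.S12811

/-- For stacks in setoids `𝒳`, `𝒴`, `𝒮` over `C` for the topology `J` (stacks in groupoids that are
fibred in setoids) and functors `F : 𝒳 ⟶ 𝒮`, `G : 𝒴 ⟶ 𝒮` over `C`, the 2-fibre product `𝒳 ×_𝒮 𝒴`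
over `C` is again a stack in setoids for `J`. -/
theorem result {C : Type u} [Category.{v} C] (J : GrothendieckTopology C) {𝒳 𝒴 𝒮 : BasedCategory.{v, max u v} C}
    (F : 𝒳 ⥤ᵇ 𝒮) (G : 𝒴 ⥤ᵇ 𝒮) (h𝒳 : Stk.IsStack J 𝒳 ∧ FibCat.IsFibSetoid 𝒳.p) (h𝒴 : Stk.IsStack J 𝒴 ∧ FibCat.IsFibSetoid 𝒴.p)
    (h𝒮 : Stk.IsStack J 𝒮 ∧ FibCat.IsFibSetoid 𝒮.p) :
    Stk.IsStack J (FibCat.fp F G) ∧ FibCat.IsFibSetoid (FibCat.fp F G).p := by
  have h := Groth.Agent.StkLib.isStack_fp F G h𝒳.1 h𝒴.1 (Groth.Agent.StkLib.isPrestack_of_isStack h𝒮.1)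
  exact ⟨h, Groth.Agent.FibBase.isFibSetoid_iff.mpr ⟨h.1, Groth.Agent.StkLib.fp_faithful F G
    (Groth.Agent.FibBase.isFibSetoid_iff.mp h𝒳.2).2 (Groth.Agent.FibBase.isFibSetoid_iff.mp h𝒴.2).2⟩⟩

end Groth.Agent.S12811
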