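import Groth.Statements.S12815
import Groth.Agent.StkLib.Refine

set_option autoImplicit false
set_option backward.isDefEq.respectTransparency false
set_option backward.isDefEq.respectTransparency.types false
open CategoryTheory
universe v u
open Stk

namespace Groth.Agent.S12815

/-- Let `𝒳` be fibred in groupoids over `C` and let `S ≤ R` be sieves on an object `U` (a family
refining another with the same target). If the gluing functor for `S` is an equivalence (restriction
of functors `C/U ⟶ 𝒳` over `C` to `S`), and for every arrow `f : V ⟶ U` of `R` restriction of
functors `C/V ⟶ 𝒳` over `C` to the pulled-back sieve `f^*S` is fully faithful, then the gluing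
functor for `R` is an equivalence. (The published statement is for two families of maps with chosen
pullbacks and asks full faithfulness only over the members `U_i` of the coarser family and
faithfulness over the products `U_i ×_U U_{i'}`; this row asks full faithfulness over every arrow of
the sieve they generate, a stronger hypothesis, and needs no fibre products; the published statement
is for a fibred category, this row for a category fibred in groupoids, the setting in which the
sieve form of the descent condition is the stack condition.) -/
theorem result {C : Type u} [Category.{v} C] {𝒳 : BasedCategory.{v, max u v} C}
    (h𝒳 : FibCat.IsFibGrpd 𝒳.p) {U : C} {S R : Sieve U} (hSR : S ≤ R) (hS : Stk.IsStackFor S 𝒳)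
    (hR : ∀ ⦃V : C⦄ (f : V ⟶ U), R f → Stk.IsPrestackFor (S.pullback f) 𝒳) :
    Stk.IsStackFor R 𝒳 := by
  exact Groth.Agent.StkLib.isStackFor_of_le h𝒳 hSR hS hR

end Groth.Agent.S12815
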