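import Groth.Statements.S12816
import Groth.Agent.StkLib.Basic
import Groth.Agent.FibBase.FiberFunctor

set_option autoImplicit false
set_option backward.isDefEq.respectTransparency false
set_option backward.isDefEq.respectTransparency.types false
open CategoryTheory
universe v u
open Stk

namespace Groth.Agent.S12816

/-- Let `𝒳`, `𝒴` be fibred in groupoids over `C` and `F : 𝒳 ⟶ 𝒴` a functor over `C`. Then the underlying
functor of `F` is fully faithful if and only if, for every object `U` of `C`, postcomposition with
`F` is a fully faithful functor from the category of functors `C/U ⟶ 𝒳` over `C` to that of functors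
`C/U ⟶ 𝒴` over `C`; under the 2-Yoneda lemma the latter says that `F` induces bijections between
morphisms of pullbacks `x|_V ⟶ y|_V` and `F(x)|_V ⟶ F(y)|_V` for all objects `x, y` over `U` and all
`V ⟶ U`, that is, isomorphisms of the presheaves of morphisms. (The published statement is for
stacks over a site, not necessarily in groupoids; the stack property plays no role and is not
assumed here, and this row treats categories fibred in groupoids.) -/
theorem result {C : Type u} [Category.{v} C] {𝒳 𝒴 : BasedCategory.{v, max u v} C}
    (h𝒳 : FibCat.IsFibGrpd 𝒳.p) (h𝒴 : FibCat.IsFibGrpd 𝒴.p) (F : 𝒳 ⟶ 𝒴) :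
    (F.toFunctor.Full ∧ F.toFunctor.Faithful) ↔
      ∀ U : C, (Bicategory.postcomp (FibCat.overCat U) F).Full ∧ (Bicategory.postcomp (FibCat.overCat U) F).Faithful := by
  refine ⟨fun ⟨_, _⟩ U => ?_, fun h => ?_⟩
  · have hf : (Bicategory.postcomp (FibCat.overCat U) F).Faithful := Groth.Agent.StkLib.post_faithful (𝒜 := FibCat.overCat U) F
    exact ⟨Groth.Agent.StkLib.post_full (𝒜 := FibCat.overCat U) F, hf⟩
  · refine (Groth.Agent.FibBase.fullyFaithful_iff_fiber h𝒳 h𝒴 (G := F)).mpr fun U => ?_
    haveI := (h U).1
    haveI := (h U).2
    haveI := Groth.Agent.FibBase.evalAtId_isEquivalence h𝒳 U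
    haveI := Groth.Agent.FibBase.evalAtId_isEquivalence h𝒴 U
    refine Groth.Agent.StkLib.fullyFaithful_of_square (L := FibCat.evalAtId 𝒳 U) (M := FibCat.evalAtId 𝒴 U)
      (R := Bicategory.postcomp (FibCat.overCat U) F) (R' := FibCat.fiberFunctor F U) ?_ ⟨inferInstance, inferInstance⟩
    exact NatIso.ofComponents (fun G => Iso.refl _) (fun f => (Category.comp_id _).trans (Category.id_comp _).symm)

end Groth.Agent.S12816
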