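import Groth.Statements.S12817
import Groth.Agent.AlgStLib.Charts

set_option backward.isDefEq.respectTransparency false
set_option backward.isDefEq.respectTransparency.types false
-- import your own Groth.Agent.* helpers here

set_option autoImplicit false
universe u
open CategoryTheory AlgebraicGeometry
open AlgSt

namespace Groth.Agent.S12817

/-- For a category fibred in groupoids over the category of schemes over `S`, the relation on
field-valued points under which `Spec K ⟶ 𝒳` and `Spec L ⟶ 𝒳` are related when some `Spec M ⟶ 𝒳`
maps to both is an equivalence relation, so that the points of `𝒳` are its equivalence classes. (The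
published statement is for an algebraic stack; this row takes any category fibred in groupoids over
the base.) -/
theorem result {S : Scheme.{u}} (𝒳 : AlgSt.Cat S) (h𝒳 : FibCat.IsFibGrpd 𝒳.p) :
    _root_.Equivalence (@AlgSt.FPt.Rel S 𝒳) := Groth.Agent.AlgStLib.fpt_rel_equivalence h𝒳
end Groth.Agent.S12817
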