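import Groth.Statements.S12833
import Groth.Agent.AlgStLib.RatPoint

set_option backward.isDefEq.respectTransparency false
set_option backward.isDefEq.respectTransparency.types false
-- import your own Groth.Agent.* helpers here

set_option autoImplicit false
universe u
open CategoryTheory AlgebraicGeometry
open AlgSt

namespace Groth.Agent.S12833

/-- Let `f : 𝒳 ⟶ 𝒴` be a morphism of algebraic stacks over `S` whose diagonal is surjective on points
(for morphisms of algebraic stacks this is the same as universally injective; the published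
statement assumes the latter), `k` an algebraically closed field and `y : Spec k ⟶ 𝒴` whose point
lies in the image of `|𝒳| → |𝒴|`. Then `y` itself lifts: there is `x : Spec k ⟶ 𝒳` with `f ∘ x ≅ y`,
no field extension being needed. -/
theorem result {S : Scheme.{u}} {𝒳 𝒴 : AlgSt.Cat S}
    (h𝒳 : AlgSt.IsAlgStack Scheme.fppfPrecoverage 𝒳) (h𝒴 : AlgSt.IsAlgStack Scheme.fppfPrecoverage 𝒴) (f : 𝒳 ⥤ᵇ 𝒴) (hΔ : AlgSt.IsSurjective (FibCat.diag f))
    (k : Type u) [Field k] [IsAlgClosed k] (s : Spec (CommRingCat.of k) ⟶ S) (y : 𝒴.obj)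
    (hy : 𝒴.p.obj y = Over.mk s)
    (h : AlgSt.Points.mk ⟨k, s, y, hy⟩ ∈ Set.range (AlgSt.Points.map f)) :
    ∃ (x : 𝒳.obj) (φ : f.obj x ⟶ y), 𝒳.p.obj x = Over.mk s ∧ 𝒴.p.IsHomLift (𝟙 (Over.mk s)) φ := 
  Groth.Agent.AlgStLib.RatPt.exists_lift_of_surjective_diag h𝒳 h𝒴 f hΔ y hy h
end Groth.Agent.S12833
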