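import Groth.Statements.S12835
import Groth.Agent.AlgStLib.Spectral

set_option backward.isDefEq.respectTransparency false
set_option backward.isDefEq.respectTransparency.types false
-- import your own Groth.Agent.* helpers here

set_option autoImplicit false
universe u
open CategoryTheory AlgebraicGeometry
open AlgSt

namespace Groth.Agent.S12835

/-- Let `𝒳` be an algebraic stack over `S` whose diagonal is quasi-compact (for instance `𝒳`
quasi-separated). Then `|𝒳|` has an open covering by spectral spaces; in particular `|𝒳|` is sober.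
Here the diagonal is `𝒳 ⟶ 𝒳 ×_S 𝒳` over the base and `S` is taken quasi-separated, under which this
agrees with the absolute condition of the published statement. -/
theorem result {S : Scheme.{u}} [QuasiSeparatedSpace S]
    {𝒳 : AlgSt.Cat S} (h𝒳 : AlgSt.IsAlgStack Scheme.fppfPrecoverage 𝒳)
    (hΔ : AlgSt.RepByAlgSpWith AlgSp.IsQuasiCompactMor (FibCat.diag (FibCat.toSelf 𝒳))) :
    (∀ x : AlgSt.Points 𝒳, ∃ U : Set (AlgSt.Points 𝒳), IsOpen U ∧ x ∈ U ∧ SpectralSpace ↥U) ∧
      QuasiSober (AlgSt.Points 𝒳) ∧ T0Space (AlgSt.Points 𝒳) := Groth.Agent.AlgStLib.locally_spectral h𝒳 hΔ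
end Groth.Agent.S12835
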