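import Groth.Statements.S12846
import Groth.Agent.AlgStLib.SmoothLocally

set_option backward.isDefEq.respectTransparency false
set_option backward.isDefEq.respectTransparency.types false
-- import your own Groth.Agent.* helpers here

set_option autoImplicit false
open CategoryTheory AlgebraicGeometry
universe u
open AlgSt

namespace Groth.Agent.S12846

/-- (1) ⇔ (2): suppose `P`, a property of schemes, is local for the smooth topology (for every jointly
surjective family of smooth morphisms `V_i ⟶ U`, `U` has `P` if and only if every `V_i` has `P`) and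
`𝒳` an algebraic stack over `S`. Then every scheme `U` admitting a smooth `U ⟶ 𝒳` has `P` if and
only if some scheme `U` admitting a surjective smooth `U ⟶ 𝒳` has `P`. -/
theorem result {S : Scheme.{u}} {𝒳 : AlgSt.Cat S}
    (h𝒳 : AlgSt.IsAlgStack Scheme.fppfPrecoverage 𝒳) (P : Scheme.{u} → Prop)
    (hP : ∀ (U : Scheme.{u}) (R : Presieve U), R ∈ Scheme.precoverage @Smooth U →
      (P U ↔ ∀ ⦃V : Scheme.{u}⦄ (g : V ⟶ U), R g → P V)) :
    AlgSt.SmoothLocally P 𝒳 ↔
      ∃ (U : Over S) (x : FibCat.overCat U ⥤ᵇ 𝒳),
        AlgSt.RepByAlgSpWith (AlgSp.LocP @Smooth) x ∧ AlgSt.RepByAlgSpWith AlgSp.IsSurjectiveMor x ∧ P U.left :=   Groth.Agent.AlgStLib.smoothLocally_iff_exists hP h𝒳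
end Groth.Agent.S12846
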