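import Groth.Statements.S1285
import Groth.Agent.RG.OneStep

set_option autoImplicit false
universe u
open FlatMor

namespace Groth.Agent.S1285

set_option backward.isDefEq.respectTransparency false in
set_option maxHeartbeats 2000000 in
open TensorProduct in
attribute [local instance] Algebra.TensorProduct.rightAlgebra in
/-- Let (C, D, G) be a one-step dévissage of N/S/R over the prime p (see FlatCA.IsOneStepDevissage), and
suppose pD is prime (the generic point of the fibre of Spec D). Then there are r > 0 and a D-linear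
map α from D^r to G which becomes bijective after base change to the residue field of pD; moreover
for every such α the support of the fibre module over p of the cokernel of α has dimension strictly
less than that of the fibre module of N. -/
theorem result {R S : Type u} [CommRing R] [CommRing S] [Algebra R S] [Algebra.FiniteType R S]
    (N : Type u) [AddCommGroup N] [Module S N] [Module R N] [IsScalarTower R S N] [Module.Finite S N] (p : Ideal R) [p.IsPrime]
    (C D G : Type u) [CommRing C] [CommRing D] [Algebra S C] [Algebra R C] [IsScalarTower R S C]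
    [Algebra R D] [Algebra D C] [IsScalarTower R D C] [AddCommGroup G] [Module C G] [Module S G] [IsScalarTower S C G]
    [Module D G] [IsScalarTower D C G] [Module R G] [IsScalarTower R D G]
    (n : ℕ) (h : FlatCA.IsOneStepDevissage R S N p C D G n) [(p.map (algebraMap R D)).IsPrime] :
    (∃ (r : ℕ) (α : (Fin r → D) →ₗ[D] G), 0 < r ∧ Function.Bijective (α.baseChange (p.map (algebraMap R D)).ResidueField)) ∧
    ∀ (r : ℕ) (α : (Fin r → D) →ₗ[D] G), Function.Bijective (α.baseChange (p.map (algebraMap R D)).ResidueField) →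
      Module.supportDim (p.Fiber D) (FlatCA.fiberMod p D (G ⧸ LinearMap.range α)) < (n : WithBot ℕ∞) := by
  classical
  open Groth.Agent.RG in
  obtain ⟨⟨e⟩, hsurj, -, hfinDC, hfinG, hrel, hirr, hdim⟩ := h
  haveI := hfinDC; haveI := hfinG
  haveI : Module.Finite S C := Module.Finite.of_surjective (Algebra.linearMap S C) hsurj
  haveI : Module.Finite D G := Module.Finite.trans C G
  haveI : Algebra.Smooth R D := by
    haveI := hrel
    haveI : AlgebraicGeometry.Smooth (AlgebraicGeometry.Spec.map (CommRingCat.ofHom (algebraMap R D))) :=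
      AlgebraicGeometry.SmoothOfRelativeDimension.smooth n _
    exact RingHom.smooth_algebraMap.mp
      ((AlgebraicGeometry.HasRingHomProperty.Spec_iff (P := @AlgebraicGeometry.Smooth) (φ := CommRingCat.ofHom (algebraMap R D))).mp inferInstance)
  have hd : DomFib R D := domFib_of_smooth_geomIrred hirr
  haveI : IsDomain (p.Fiber D) := hd p.ResidueField
  haveI : Module.Finite (p.Fiber D) (FlatCA.fiberMod p D G) :=
    inferInstanceAs (Module.Finite (p.Fiber D) ((p.Fiber D) ⊗[D] G))
  have hA := ringKrullDim_fibre_le hrel p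
  have hG : Module.supportDim (p.Fiber D) (FlatCA.fiberMod p D G) = n := by
    have eN : FlatCA.fiberMod p S N ≃ₗ[p.Fiber S] FlatCA.fiberMod p S G :=
      LinearEquiv.baseChange S (p.Fiber S) N G e
    rw [← hdim, Module.supportDim_eq_of_equiv eN, supportDim_fibre_eq (R := R) (S := S) (C := C) G p, supportDim_fibre_eq (R := R) (S := D) (C := C) G p]
  set P : Ideal D := p.map (algebraMap R D) with hP
  have hnot : ∀ s : D, s ∉ P → algebraMap D (p.Fiber D) s ≠ 0 := by
    intro s hs h0
    have hQ : P.LiesOver p := by
      let Q₀ : Ideal D := (⊥ : Ideal (p.Fiber D)).comap (algebraMap D (p.Fiber D))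
      have hQ₀ : p ≤ Q₀.comap (algebraMap R D) ∧ Q₀.comap (algebraMap R D) ≤ p := by
        have h1 : Q₀.comap (algebraMap R D) = p := by
          rw [Ideal.comap_comap, ← IsScalarTower.algebraMap_eq,
            IsScalarTower.algebraMap_eq R p.ResidueField (p.Fiber D), ← Ideal.comap_comap,
            Ideal.eq_bot_of_prime ((⊥ : Ideal (p.Fiber D)).comap (algebraMap p.ResidueField _)), ← RingHom.ker_eq_comap_bot,
            Ideal.ker_algebraMap_residueField]
        exact ⟨h1.ge, h1.le⟩
      exact ⟨le_antisymm (fun a ha => Ideal.mem_map_of_mem _ ha)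
        ((Ideal.comap_mono (Ideal.map_le_iff_le_comap.2 hQ₀.1)).trans hQ₀.2)⟩
    obtain ⟨⟨Q₁, hQ₁⟩, hQ₁c⟩ := Groth.Agent.ZClosLib.NzdUnivInj.exists_prime_fiber p P
    refine hs (hQ₁c.le ?_)
    rw [Ideal.mem_comap]
    exact (show algebraMap D (p.Fiber D) s = _ from rfl) ▸ h0.symm ▸ Q₁.zero_mem
  have hkill : ∀ (r : ℕ) (α : (Fin r → D) →ₗ[D] G), Function.Bijective (α.baseChange P.ResidueField) →
      Module.supportDim (p.Fiber D) (FlatCA.fiberMod p D (G ⧸ LinearMap.range α)) < (n : WithBot ℕ∞) := by
    intro r α hfib
    obtain ⟨T, hT⟩ := (Module.Finite.fg_top : (⊤ : Submodule D G).FG)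
    choose s hs hsr using fun x : T => exists_smul_mem_range P α hfib x.1
    let a := ∏ x : T, s x
    have ha : a ∉ P := fun h => by
      obtain ⟨x, -, hx⟩ := (Ideal.IsPrime.prod_mem_iff).1 h
      exact hs x hx
    have hall : ∀ g : G, a • g ∈ LinearMap.range α := by
      intro g
      have hg : g ∈ Submodule.span D (T : Set G) := hT ▸ Submodule.mem_top
      induction hg using Submodule.span_induction with
      | mem x hx =>
        simp only [a]
        rw [← Finset.prod_erase_mul _ _ (Finset.mem_univ (⟨x, hx⟩ : T)), mul_smul]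
        exact Submodule.smul_mem _ _ (hsr ⟨x, hx⟩)
      | zero => rw [smul_zero]; exact zero_mem _
      | add x y _ _ hx hy => rw [smul_add]; exact add_mem hx hy
      | smul c x _ hx => rw [smul_comm]; exact Submodule.smul_mem _ _ hx
    haveI : Module.Finite (p.Fiber D) (FlatCA.fiberMod p D (G ⧸ LinearMap.range α)) :=
      inferInstanceAs (Module.Finite (p.Fiber D) ((p.Fiber D) ⊗[D] (G ⧸ LinearMap.range α)))
    refine supportDim_lt hA (hnot a ha) (Module.mem_annihilator.2 fun y => ?_)
    change (algebraMap D (p.Fiber D) a) • (show (p.Fiber D) ⊗[D] (G ⧸ LinearMap.range α) from y) = 0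
    induction (show (p.Fiber D) ⊗[D] (G ⧸ LinearMap.range α) from y) using TensorProduct.induction_on with
    | zero => exact smul_zero _
    | add x z hx hz => rw [smul_add, hx, hz, add_zero]
    | tmul c m =>
      obtain ⟨g, rfl⟩ := Submodule.mkQ_surjective _ m
      rw [algebraMap_smul, ← tmul_smul, Submodule.mkQ_apply, ← Submodule.Quotient.mk_smul,
        (Submodule.Quotient.mk_eq_zero _).2 (hall g), tmul_zero]
  refine ⟨?_, hkill⟩
  obtain ⟨r, α, hfib⟩ := exists_fibre_basis P G
  refine ⟨r, α, Nat.pos_of_ne_zero fun hr => ?_, hfib⟩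
  subst hr
  have hα : LinearMap.range α = ⊥ := LinearMap.range_eq_bot.2 (LinearMap.ext fun x => by
    rw [Subsingleton.elim x 0, map_zero, map_zero])
  let eq : FlatCA.fiberMod p D (G ⧸ LinearMap.range α) ≃ₗ[p.Fiber D] FlatCA.fiberMod p D G :=
    LinearEquiv.baseChange D (p.Fiber D) _ G (Submodule.quotEquivOfEqBot _ hα)
  have h := hkill 0 α hfib
  rw [Module.supportDim_eq_of_equiv eq, hG] at h
  exact lt_irrefl _ h

end Groth.Agent.S1285
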