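import Groth.Statements.S12856
import Groth.Agent.AlgStLib.Charts

set_option backward.isDefEq.respectTransparency false
set_option backward.isDefEq.respectTransparency.types false
-- import your own Groth.Agent.* helpers here

set_option autoImplicit false
open CategoryTheory AlgebraicGeometry
universe u
open AlgSt

namespace Groth.Agent.S12856

/-- (2) ⇔ (4): an algebraic stack `𝒳` over `S` admits a surjective smooth morphism from an affine scheme
if and only if it admits a surjective smooth morphism from a quasi-compact algebraic space. -/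
theorem result {S : Scheme.{u}} {𝒳 : AlgSt.Cat S}
    (h𝒳 : AlgSt.IsAlgStack Scheme.fppfPrecoverage 𝒳) :
    AlgSt.IsQuasiCompact 𝒳 ↔
      ∃ (U : AlgSp.Space S) (x : AlgSt.ofSp U.obj ⥤ᵇ 𝒳), AlgSp.IsQuasiCompactSp U.obj ∧
        AlgSt.RepByAlgSpWith (AlgSp.LocP @Smooth) x ∧ AlgSt.RepByAlgSpWith AlgSp.IsSurjectiveMor x := ⟨Groth.Agent.AlgStLib.exists_quasiCompact_space_chart, fun ⟨U, _, hU, hx, hx'⟩ => Groth.Agent.AlgStLib.exists_compactSpace_chart_of_space h𝒳.isStack.1 U hU hx hx'⟩
end Groth.Agent.S12856
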