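import Groth.Statements.S12859
import Groth.Agent.AlgStLib.OpenSub

set_option backward.isDefEq.respectTransparency false
set_option backward.isDefEq.respectTransparency.types false
-- import your own Groth.Agent.* helpers here

set_option autoImplicit false
open CategoryTheory AlgebraicGeometry
universe u
open AlgSt

namespace Groth.Agent.S12859

/-- Let `𝒳` be an algebraic stack over `S`. The rule sending an open substack `𝒰 ⊂ 𝒳` (a predicate on
objects closed under isomorphisms whose full subcategory is an algebraic stack with open-immersion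
inclusion) to `|𝒰| ⊂ |𝒳|` is a bijection from open substacks onto open subsets of `|𝒳|`, and `𝒰 ⊂
𝒰'` holds exactly when `|𝒰| ⊂ |𝒰'|`. -/
theorem result {S : Scheme.{u}} {𝒳 : AlgSt.Cat S}
    (h𝒳 : AlgSt.IsAlgStack Scheme.fppfPrecoverage 𝒳) :
    Set.BijOn (fun Q : 𝒳.obj → Prop => Set.range (AlgSt.Points.map (AlgSt.subIncl 𝒳 Q)))
        {Q | AlgSt.IsOpenSubstack 𝒳 Q Scheme.fppfPrecoverage} {T | IsOpen T} ∧
      ∀ (Q Q' : 𝒳.obj → Prop), AlgSt.IsOpenSubstack 𝒳 Q Scheme.fppfPrecoverage → AlgSt.IsOpenSubstack 𝒳 Q' Scheme.fppfPrecoverage →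
        ((∀ y, Q y → Q' y) ↔ Set.range (AlgSt.Points.map (AlgSt.subIncl 𝒳 Q)) ⊆ Set.range (AlgSt.Points.map (AlgSt.subIncl 𝒳 Q'))) := Groth.Agent.AlgStLib.bijOn_openSubstack h𝒳
end Groth.Agent.S12859
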