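import Groth.Statements.S12864
import Groth.Agent.S12863
import Groth.Agent.AlgStLib.SpaceCalc
import Groth.Agent.AlgStLib.OverSpace
import Groth.Agent.AlgStLib.Diag
import Groth.Agent.AlgStLib.Pts
import Groth.Agent.AlgSpDec.OpenGlue

set_option backward.isDefEq.respectTransparency false
set_option backward.isDefEq.respectTransparency.types false
-- import your own Groth.Agent.* helpers here

set_option autoImplicit false
open CategoryTheory AlgebraicGeometry
universe u w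
open CategoryTheory.Functor CategoryTheory.Limits Opposite AlgSp
open Groth.Agent.FibBase Groth.Agent.AlgSpLib Groth.Agent.AlgStLib
open AlgSt

namespace Groth.Agent.S12864

/-- Let `𝒳` be an algebraic stack over `S` and `𝒳_i ⊂ 𝒳` a family of open substacks with `𝒳 = ⋃ 𝒳_i`
(their points exhaust `|𝒳|`). If every `𝒳_i` is a scheme (equivalent over `(Sch/S)` to some
`(Sch/U)`), then `𝒳` is a scheme. -/
theorem result {S : Scheme.{u}} {𝒳 : AlgSt.Cat S}
    (h𝒳 : AlgSt.IsAlgStack Scheme.fppfPrecoverage 𝒳) {ι : Type w} (Q : ι → 𝒳.obj → Prop)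
    (hQ : ∀ i, AlgSt.IsOpenSubstack 𝒳 (Q i) Scheme.fppfPrecoverage)
    (hcov : ⋃ i, Set.range (AlgSt.Points.map (AlgSt.subIncl 𝒳 (Q i))) = Set.univ)
    (hsch : ∀ i, FibCat.IsRepresentable (AlgSt.fullSub 𝒳 (Q i))) : FibCat.IsRepresentable 𝒳 :=  by
  have hsp : ∀ i, AlgSt.RepByAlgSp (AlgSt.fullSub 𝒳 (Q i)) := fun i => by
    obtain ⟨U, G, hG⟩ := hsch i
    exact (repByAlgSp_iff_of_equiv G hG).2 (repByAlgSp_overCat U)
  obtain ⟨F, e, he⟩ := Groth.Agent.S12863.result h𝒳 Q hQ hcov hsp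
  have key : ∀ i, ∃ (U : Over S) (j : (yon S).obj U ⟶ F.obj), RepWith @IsOpenImmersion j ∧
      ∀ x, AlgSt.Points.map e x ∈ Set.range (AlgSt.Points.map (AlgSt.subIncl 𝒳 (Q i))) →
        spPt x ∈ Set.range (AlgSp.Points.map j) := by
    intro i
    let f := AlgSt.subIncl 𝒳 (Q i)
    have hgi : FibCat.IsFibGrpd (AlgSt.fullSub 𝒳 (Q i)).p := (hQ i).2.1.isStack.1
    obtain ⟨U, G, hG⟩ := hsch i
    let m := fpMap (F := f) (G := BasedFunctor.id 𝒳) (F' := f) (G' := e) (a := BasedFunctor.id _) (b := e)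
      (c := BasedFunctor.id _) (Iso.refl _) (Iso.refl _)
    let r := BasedFunctor.comp (fpSwap e f) (BasedFunctor.comp m (FibCat.fpFst f (BasedFunctor.id 𝒳)))
    have hr : FibCat.IsEquivOver r := isEquivOver_comp (fpSwap_isEquivOver e f)
      (isEquivOver_comp (fpMap_isEquivOver _ _ isEquivOver_id he) (fpFst_id_isEquivOver f))
    let g := BasedFunctor.comp (BasedFunctor.comp r G) (AlgSt.ofOverCat U)
    have hg : FibCat.IsEquivOver g := isEquivOver_comp (isEquivOver_comp hr hG) (isEquivOver_ofOverCat U)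
    obtain ⟨k, hk, -⟩ := isEquivOver_inv hg
    refine ⟨U, spHom (BasedFunctor.comp k (FibCat.fpFst e f)),
      property_spHom_fpFst stableBC_of (fun _ _ a h => repWith_of_repBySpWith a h) F.property
        (IsAlgSpace.yon_obj U) (hQ i).2.2 k hk, ?_⟩
    rintro x ⟨y, hy⟩
    obtain ⟨w, hw, -⟩ := exists_pts_fp hgi h𝒳.isStack.1 (Stk.isFibGrpd_ofPsh _) f e x y hy.symm
    obtain ⟨v, rfl⟩ := (pts_bijective_of_isEquivOver hk).2 w
    refine ⟨spPt v, ?_⟩
    rw [← spPt_map_ofSpMap, ← pts_map_congr (isoOfSpMap (BasedFunctor.comp k (FibCat.fpFst e f))), pts_map_comp, hw]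
  choose U j hj hrange using key
  obtain ⟨A, p, -, hp'⟩ := F.property.atlas
  have hcovF : ∀ x : AlgSp.Points F.obj, ∃ i, x ∈ Set.range (AlgSp.Points.map (j i)) := by
    intro x
    obtain ⟨y, rfl⟩ := spPt_bijective.2 x
    obtain ⟨i, hi⟩ := Set.mem_iUnion.1 (hcov.symm ▸ Set.mem_univ (AlgSt.Points.map e y))
    exact ⟨i, hrange i y hi⟩
  choose idx hidx using fun t : ↥A.left => hcovF (AlgSp.Points.ofPt p t)
  obtain ⟨Z, ⟨φ⟩, -⟩ := Groth.Agent.AlgSpDec.exists_iso_of_open_cover (fun t => U (idx t)) (fun t => j (idx t))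
    (fun t => hj (idx t)) (fun x => by
      obtain ⟨y, rfl⟩ := surjective_map_of_repWith hp' x
      obtain ⟨V, g, v, -, rfl⟩ := exists_ofPt_eq y
      obtain ⟨c, rfl⟩ := (yon S).map_surjective g
      rw [AlgSp.Points.map_ofPt, ofPt_comp]
      obtain ⟨z, hz⟩ := hidx (c.left v)
      refine ⟨c.left v, ?_⟩
      obtain ⟨V', g', v', -, rfl⟩ := exists_ofPt_eq z
      obtain ⟨c', rfl⟩ := (yon S).map_surjective g'
      rw [AlgSp.Points.map_ofPt, ofPt_comp] at hz
      exact ⟨c'.left v', hz⟩)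
  have : IsIso φ.hom := inferInstance
  obtain ⟨k, hk, -⟩ := isEquivOver_inv (isEquivOver_comp (isEquivOver_ofSpMap φ.hom) he)
  exact ⟨Z, BasedFunctor.comp k (AlgSt.toOverCat Z), isEquivOver_comp hk (isEquivOver_toOverCat Z)⟩
end Groth.Agent.S12864
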