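import Groth.Statements.S12876
import Groth.Agent.AlgStLib.MonoSquare

set_option backward.isDefEq.respectTransparency false
set_option backward.isDefEq.respectTransparency.types false
-- import your own Groth.Agent.* helpers here

set_option autoImplicit false
open CategoryTheory AlgebraicGeometry
universe u
open AlgSt

namespace Groth.Agent.S12876

/-- Let `i : 𝒳 ⟶ 𝒳'` and `g : 𝒳' ⟶ 𝒴` be 1-morphisms of algebraic stacks over `S` with `i` a
monomorphism. Then the square whose top is the diagonal `𝒳 ⟶ 𝒳 ×_𝒴 𝒳` of `g ∘ i`, whose left side is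
`i`, whose right side is the 1-morphism `𝒳 ×_𝒴 𝒳 ⟶ 𝒳' ×_𝒴 𝒳'` induced by `i` on both factors and
whose bottom is the diagonal of `g` (it commutes strictly, the 2-cell being the identity) is
2-cartesian: the induced 1-morphism from `𝒳` to the 2-fibre product is an equivalence over
`(Sch/S)`. -/
theorem result {S : Scheme.{u}} {𝒳 𝒳' 𝒴 : AlgSt.Cat S}
    (h𝒳 : AlgSt.IsAlgStack Scheme.fppfPrecoverage 𝒳) (h𝒳' : AlgSt.IsAlgStack Scheme.fppfPrecoverage 𝒳') (h𝒴 : AlgSt.IsAlgStack Scheme.fppfPrecoverage 𝒴)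
    (i : 𝒳 ⥤ᵇ 𝒳') (g : 𝒳' ⥤ᵇ 𝒴) (hi : AlgSt.IsMono i) :
    FibCat.IsTwoCartOver
      (F := (FibCat.fpLift (BasedFunctor.comp (FibCat.fpFst (BasedFunctor.comp i g) (BasedFunctor.comp i g)) i)
        (BasedFunctor.comp (FibCat.fpSnd (BasedFunctor.comp i g) (BasedFunctor.comp i g)) i) (FibCat.fpIso (BasedFunctor.comp i g) (BasedFunctor.comp i g))))
      (G := FibCat.diag g) (FibCat.diag (BasedFunctor.comp i g)) i (Iso.refl _) := by
  obtain ⟨_, _⟩ := Groth.Agent.AlgStLib.full_faithful_of_isMono h𝒳'.isStack.1 hi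
  exact Groth.Agent.AlgStLib.isTwoCartOver_diag_sq i g
end Groth.Agent.S12876
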