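import Groth.Statements.S12887
import Groth.Agent.H9Misc.RestrExt
import Groth.Agent.SiteBase.DerivedPrecomp
import Groth.Agent.ModTensor.ProjSheaf
import Groth.Agent.SiteBase.Rpush
import Groth.Agent.SpObjSS.Grothendieck

set_option autoImplicit false
universe u
open CategoryTheory CategoryTheory.Limits
open ModSite

namespace Groth.Agent.S12887

/-- On a small ringed site (C, J, O) with O commutative, let X be an object of C, M an O-module and q ≥
0. The formation of the local Ext sheaves ℰxt^q_O(M, -) (right derived functors of the internal Hom
ℋom_O(M, -)) commutes with localisation: the functor N ↦ ℰxt^q_O(M, N)|_X is isomorphic to N ↦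
ℰxt^q_{O|_X}(M|_X, N|_X). (Existence of an isomorphism of functors only. The internal Hom functors
of M and of M|_X and injective resolutions of modules on C and on C/X are the stated instance
hypotheses, all true.) -/
theorem result {C : Type u} [SmallCategory C] {J : GrothendieckTopology C}
    (O : Sheaf J CommRingCat.{u}) (X : C) (M : ModSite.Mod O)
    [ModSite.HasSheafHom M] [ModSite.HasSheafHom ((ModSite.restr O X).obj M)]
    [HasInjectiveResolutions (ModSite.Mod O)] [HasInjectiveResolutions (ModSite.Mod (O.over X))] (q : ℕ) :
    Nonempty (ModSite.extSh M q ⋙ ModSite.restr O X ≅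
      ModSite.restr O X ⋙ ModSite.extSh ((ModSite.restr O X).obj M) q) := by
  have := SpObjSS.enoughInjectives_of_hasInjectiveResolutions (C := ModSite.Mod O)
  have := SpObjSS.enoughInjectives_of_hasInjectiveResolutions (C := ModSite.Mod (O.over X))
  have : PreservesFiniteColimits (ModSite.restr O X) := SuppCore.preservesFiniteColimits_restr X
  have : PreservesFiniteLimits (ModSite.restr O X) := by
    have := (ModSite.extZeroAdj O X).rightAdjoint_preservesLimits.{0, 0}
    exact ⟨fun _ => inferInstance⟩
  have := ModTensor.additive_extZero O X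
  have : (ModSite.restr O X).Additive := (ModSite.extZeroAdj O X).right_adjoint_additive
  have : (ModSite.extZero O X).PreservesMonomorphisms := ⟨fun f _ => ModTensor.mono_extZero_map O X f⟩
  have : (ModSite.restr O X).PreservesInjectiveObjects :=
    ⟨fun {Q} hQ => (ModSite.extZeroAdj O X).map_injective Q hQ⟩
  let e : ModSite.sheafHom M ⋙ ModSite.restr O X ≅
      ModSite.restr O X ⋙ ModSite.sheafHom ((ModSite.restr O X).obj M) :=
    (((ModSite.extZeroAdj O X).comp (ModSite.sheafHomAdj M)).ofNatIsoLeft
      (ModTensor.extZeroTensorIso O X M).symm).rightAdjointUniq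
        ((ModSite.sheafHomAdj ((ModSite.restr O X).obj M)).comp (ModSite.extZeroAdj O X))
  exact ⟨(SiteBase.rightDerivedCompIso (ModSite.sheafHom M) (ModSite.restr O X) q).symm ≪≫
    SiteBase.rightDerivedCongr e q ≪≫
    SiteBase.rightDerivedPrecompIso (ModSite.restr O X) (ModSite.sheafHom ((ModSite.restr O X).obj M)) q⟩


end Groth.Agent.S12887
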