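import Groth.Statements.S12888
import Groth.Agent.SiteBase.SectRestr
import Groth.Agent.H9Misc.RestrExt
import Groth.Agent.SiteBase.DerivedPrecomp
import Groth.Agent.ModTensor.ProjSheaf
import Groth.Agent.SiteBase.Rpush
import Groth.Agent.SpObjSS.Grothendieck

set_option autoImplicit false
universe u
open CategoryTheory CategoryTheory.Limits
open ModSite

namespace Groth.Agent.S12888

/-- On a small ringed site (C, J, O) with O commutative and binary products in C, let U and X be
objects, Z the closed complement of the open generated by U, and Z/X the closed complement of the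
object U × X → X of the localised site C/X. The formation of the local cohomology sheaves ℋ^q_Z
(right derived functors of the sections-with-support functor Γ_Z on O-modules) commutes with
localisation: M ↦ ℋ^q_Z(M)|_X is isomorphic to M ↦ ℋ^q_{Z/X}(M|_X). (Existence of an isomorphism of
functors only. The direct image along the localisation at U × X → X and injective resolutions of
modules on C and on C/X are the stated instance hypotheses, all true.) -/
theorem result {C : Type u} [SmallCategory C] {J : GrothendieckTopology C}
    (O : Sheaf J CommRingCat.{u}) [HasBinaryProducts C] (U X : C)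
    [ModSite.HasPushOver (O.over X) (Over.mk (Limits.prod.snd : U ⨯ X ⟶ X))]
    [HasInjectiveResolutions (ModSite.Mod O)] [HasInjectiveResolutions (ModSite.Mod (O.over X))] (q : ℕ) :
    Nonempty (ModSite.HZsh O U q ⋙ ModSite.restr O X ≅
      ModSite.restr O X ⋙ ModSite.HZsh (O.over X) (Over.mk (Limits.prod.snd : U ⨯ X ⟶ X)) q) := by
  have := SpObjSS.enoughInjectives_of_hasInjectiveResolutions (C := ModSite.Mod O)
  have := SpObjSS.enoughInjectives_of_hasInjectiveResolutions (C := ModSite.Mod (O.over X))
  have : PreservesFiniteColimits (ModSite.restr O X) := SuppCore.preservesFiniteColimits_restr X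
  have : PreservesFiniteLimits (ModSite.restr O X) := by
    have := (ModSite.extZeroAdj O X).rightAdjoint_preservesLimits.{0, 0}
    exact ⟨fun _ => inferInstance⟩
  have := ModTensor.additive_extZero O X
  have : (ModSite.restr O X).Additive := (ModSite.extZeroAdj O X).right_adjoint_additive
  have : (ModSite.extZero O X).PreservesMonomorphisms := ⟨fun f _ => ModTensor.mono_extZero_map O X f⟩
  have : (ModSite.restr O X).PreservesInjectiveObjects :=
    ⟨fun {Q} hQ => (ModSite.extZeroAdj O X).map_injective Q hQ⟩
  obtain ⟨e⟩ := SuppCore.nonempty_sectOn_restr_iso (O := O) U X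
  exact ⟨(SiteBase.rightDerivedCompIso (ModSite.sectOn O U) (ModSite.restr O X) q).symm ≪≫
    SiteBase.rightDerivedCongr e q ≪≫
    SiteBase.rightDerivedPrecompIso (ModSite.restr O X) (ModSite.sectOn (O.over X) (Over.mk (Limits.prod.snd : U ⨯ X ⟶ X))) q⟩


end Groth.Agent.S12888
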