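import Groth.Statements.S12889
import Groth.Agent.H9Misc.SupportsSS

set_option autoImplicit false
universe u
open CategoryTheory CategoryTheory.Limits
open ModSite

namespace Groth.Agent.S12889

open CategoryTheory CategoryTheory.Limits Opposite Groth.Agent.SiteBase Groth.Agent.SpObjSS Groth.Agent.TriCat

/-- On a small ringed site (C, J, O) with O commutative, let U be an object with Z the closed complement
of the open it generates, and M an O-module. There is an E₂ spectral sequence of abelian groups with
E₂^{p,q} ≅ H^p(C, ℋ^q_Z(M)) for p, q ≥ 0 (and 0 otherwise), bounded, abutting with finite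
filtrations to H^n_Z(M) (n ≥ 0; 0 for n < 0); here ℋ^q_Z are the right derived functors of sections
with support on O-modules, H^p(C, -) is the cohomology of the site with values in the underlying
abelian sheaf, and H^n_Z(M) are the Ext groups out of ℤ/ℤ_U into the underlying abelian sheaf.
(Existence only: the E₂ identifications and the abutment are some isomorphisms. The direct image
along the localisation at U and injective resolutions of O-modules are the stated instance
hypotheses, both true.) -/
theorem result {C : Type u} [SmallCategory C] {J : GrothendieckTopology C}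
    (O : Sheaf J CommRingCat.{u}) (U : C) (M : ModSite.Mod O)
    [ModSite.HasPushOver O U] [HasInjectiveResolutions (ModSite.Mod O)] :
    ∃ (E : E₂CohomologicalSpectralSequence AddCommGrpCat.{u})
      (a : SpSeq.Abutment E (fun n : ℤ =>
        if 0 ≤ n then AddCommGrpCat.of (ModSite.HZ U M n.toNat) else AddCommGrpCat.of PUnit.{u + 1})),
      (∀ n : ℤ, a.IsFinite n) ∧ SpSeq.IsBounded E ∧
      ∀ p q : ℤ, Nonempty ((E.page 2 le_rfl).X (p, q) ≅
        (if 0 ≤ p ∧ 0 ≤ q then AddCommGrpCat.of (ModSite.HC O ((ModSite.HZsh O U q.toNat).obj M) p.toNat)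
          else AddCommGrpCat.of PUnit.{u + 1})) := by
  have := SpObjSS.enoughInjectives_of_hasInjectiveResolutions (C := ModSite.Mod O)
  have : HasExt.{u} (ModSite.Mod O) := hasExt_of_enoughInjectives _
  exact exists_grothendieck_spectralSequence' (ModSite.sectOn O U) (homFrom (ModSite.unit O))
    (fun Q hQ => have := SuppCore.injective_sectOn U Q; isRightAcyclic_of_injective _) M
    (fun n => AddCommGrpCat.of (ModSite.HZ U M n))
    (fun n => ⟨(rightDerivedCongr (SuppCore.homFromAdjIso (SuppCore.quotSectAdj U) (ModSite.unit O)) n).app M ≪≫
      rightDerivedHomFromIso _ n M ≪≫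
      AddEquiv.toAddCommGrpIso (SuppCore.nonempty_ext_quotUnit_addEquiv_HZ U M n).some⟩)
    (fun p q => AddCommGrpCat.of (ModSite.HC O ((ModSite.HZsh O U q).obj M) p))
    (fun p q => ⟨rightDerivedHomFromIso _ p _ ≪≫
      AddEquiv.toAddCommGrpIso (SiteBase.nonempty_ext_unit_addEquiv _ p).some⟩)
    _ (AddCommGrpCat.isZero_of_subsingleton _)


end Groth.Agent.S12889
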