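import Groth.Statements.S12890
import Groth.Agent.SiteBase.DerivedKernel
import Groth.Agent.SiteBase.InjUnitEpi
import Groth.Agent.SiteBase.DerivedPrecomp
import Groth.Agent.H9Misc.RestrExt
import Groth.Agent.ModTensor.ProjSheaf
import Groth.Agent.SpObjSS.Grothendieck
import Groth.Agent.SiteBase.Rpush
import Groth.Agent.SiteBase.HZshAcyclic

set_option autoImplicit false
universe u
open CategoryTheory CategoryTheory.Limits
open ModSite

namespace Groth.Agent.S12890

/-- On a small ringed site (C, J, O) with O commutative, let U be a subterminal object (every object has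
at most one morphism to U), Z its closed complement and j_{U*} the direct image of modules along the
localisation C/U → C. Then ℋ^1_Z is isomorphic to the cokernel of the unit M → j_{U*}(M|_U) (so that
0 → ℋ^0_Z(M) → M → j_{U*}(M|_U) → ℋ^1_Z(M) → 0 is exact), and for every q ≥ 1 the functor ℋ^{q+1}_Z
is isomorphic to M ↦ R^q j_{U*}(M|_U). (Existence of isomorphisms of functors only. The direct image
j_{U*} with its additivity and injective resolutions of modules on C and on C/U are the stated
instance hypotheses, all true.) -/
theorem result {C : Type u} [SmallCategory C] {J : GrothendieckTopology C}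
    (O : Sheaf J CommRingCat.{u}) (U : C)
    (hU : ∀ V : C, Subsingleton (V ⟶ U)) [ModSite.HasPushOver O U] [(ModSite.pushOver O U).Additive]
    [HasInjectiveResolutions (ModSite.Mod O)] [HasInjectiveResolutions (ModSite.Mod (O.over U))] :
    Nonempty (ModSite.HZsh O U 1 ≅ cokernel (ModSite.restrPushOverAdj O U).unit) ∧
      ∀ q : ℕ, 1 ≤ q →
        Nonempty (ModSite.HZsh O U (q + 1) ≅ ModSite.restr O U ⋙ (ModSite.pushOver O U).rightDerived q) := by
  have := SpObjSS.enoughInjectives_of_hasInjectiveResolutions (C := ModSite.Mod O)
  have := SpObjSS.enoughInjectives_of_hasInjectiveResolutions (C := ModSite.Mod (O.over U))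
  have : PreservesFiniteColimits (ModSite.restr O U) := SuppCore.preservesFiniteColimits_restr U
  have : PreservesFiniteLimits (ModSite.restr O U) := by
    have := (ModSite.extZeroAdj O U).rightAdjoint_preservesLimits.{0, 0}
    exact ⟨fun _ => inferInstance⟩
  have := ModTensor.additive_extZero O U
  have : (ModSite.restr O U).Additive := (ModSite.extZeroAdj O U).right_adjoint_additive
  have : (ModSite.extZero O U).PreservesMonomorphisms := ⟨fun f _ => ModTensor.mono_extZero_map O U f⟩
  have : (ModSite.restr O U).PreservesInjectiveObjects :=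
    ⟨fun {Q} hQ => (ModSite.extZeroAdj O U).map_injective Q hQ⟩
  have : PreservesFiniteLimits (ModSite.pushOver O U) := by
    have := (ModSite.restrPushOverAdj O U).rightAdjoint_preservesLimits.{0, 0}
    exact ⟨fun _ => inferInstance⟩
  have : PreservesFiniteLimits (ModSite.restr O U ⋙ ModSite.pushOver O U) := comp_preservesFiniteLimits _ _
  have hw : ∀ X, (ModSite.sectOnι O U).app X ≫ (ModSite.restrPushOverAdj O U).unit.app X = 0 :=
    fun X => kernel.condition _
  have hη : ∀ X, Injective X → Epi ((ModSite.restrPushOverAdj O U).unit.app X) :=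
    fun X _ => SuppCore.epi_unit_of_injective hU X
  refine ⟨SiteBase.nonempty_rightDerived_one_iso (ModSite.sectOnι O U) (ModSite.restrPushOverAdj O U).unit hw
    (fun X => kernelIsKernel _) hη, fun q hq => ?_⟩
  obtain ⟨k, rfl⟩ : ∃ k, q = k + 1 := ⟨q - 1, by omega⟩
  obtain ⟨e⟩ := SiteBase.nonempty_rightDerived_succ_iso (ModSite.sectOnι O U) (ModSite.restrPushOverAdj O U).unit hw
    (fun X => kernelIsKernel _) hη k
  exact ⟨e ≪≫ SiteBase.rightDerivedPrecompIso (ModSite.restr O U) (ModSite.pushOver O U) (k + 1)⟩


end Groth.Agent.S12890
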