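import Groth.Statements.S12891
import Groth.Agent.SiteBase.HZshAcyclic

set_option autoImplicit false
universe u
open CategoryTheory CategoryTheory.Limits
open ModSite

namespace Groth.Agent.S12891

/-- On a small ringed site (C, J, O) with O commutative, let U be an object with Z the closed complement
of the open it generates, and M an O-module whose underlying abelian sheaf is flasque (totally
acyclic: its cohomology with respect to every sheaf of sets vanishes in positive degrees). Then for
every q ≥ 1 the local cohomology sheaf ℋ^q_Z(M) (right derived functor of sections with support on
O-modules) is zero and the group H^q_Z(M) is trivial. (The direct image along the localisation at U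
and injective resolutions of O-modules are the stated instance hypotheses, both true.) -/
theorem result {C : Type u} [SmallCategory C] {J : GrothendieckTopology C}
    (O : Sheaf J CommRingCat.{u}) (U : C) (M : ModSite.Mod O)
    (hM : CohCx.IsTotallyAcyclic (ModSite.toAb M))
    [ModSite.HasPushOver O U] [HasInjectiveResolutions (ModSite.Mod O)] (q : ℕ) (hq : 1 ≤ q) :
    IsZero ((ModSite.HZsh O U q).obj M) ∧ Subsingleton (ModSite.HZ U M q) := by
  obtain ⟨i, rfl⟩ := Nat.exists_eq_add_of_le' hq
  exact ⟨Groth.Agent.SuppCore.isZero_HZsh U M hM i, Groth.Agent.SuppCore.subsingleton_HZ U M hM i⟩


end Groth.Agent.S12891
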