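import Groth.Statements.S12892
import Groth.Agent.SiteBase.SectScalars
import Groth.Agent.SiteBase.DerivedPrecompAcyclic
import Groth.Agent.SiteBase.DerivedComp
import Groth.Agent.SiteBase.Rpush
import Groth.Agent.SpObjSS.Grothendieck

set_option autoImplicit false
universe u
open CategoryTheory CategoryTheory.Limits
open ModSite

namespace Groth.Agent.S12892

/-- On a small site (C, J), let φ : O → O' be a morphism of commutative structure sheaves, U an object
with Z the closed complement of the open it generates, and q ≥ 0. The local cohomology sheaf
functors ℋ^q_Z (right derived functors of sections with support) commute with restriction of scalars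
along φ: the composite of ℋ^q_Z on O'-modules with restriction of scalars is isomorphic to
restriction of scalars followed by ℋ^q_Z on O-modules. (Existence of an isomorphism of functors
only. The direct images along the localisation at U and injective resolutions of O- and O'-modules
are the stated instance hypotheses, all true.) -/
theorem result {C : Type u} [SmallCategory C] {J : GrothendieckTopology C}
    {O O' : Sheaf J CommRingCat.{u}} (φ : O ⟶ O') (U : C)
    [ModSite.HasPushOver O U] [ModSite.HasPushOver O' U]
    [HasInjectiveResolutions (ModSite.Mod O)] [HasInjectiveResolutions (ModSite.Mod O')] (q : ℕ) :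
    Nonempty (ModSite.HZsh O' U q ⋙
        SheafOfModules.restrictScalars ((sheafCompose J (forget₂ CommRingCat.{u} RingCat.{u})).map φ) ≅
      SheafOfModules.restrictScalars ((sheafCompose J (forget₂ CommRingCat.{u} RingCat.{u})).map φ) ⋙
        ModSite.HZsh O U q) := by
  let α := (sheafCompose J (forget₂ CommRingCat.{u} RingCat.{u})).map φ
  have := SpObjSS.enoughInjectives_of_hasInjectiveResolutions (C := ModSite.Mod O)
  have := SpObjSS.enoughInjectives_of_hasInjectiveResolutions (C := ModSite.Mod O')
  have := SiteBase.preservesLimitsOfSize_restrictScalars α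
  have := SiteBase.preservesColimitsOfSize_restrictScalars α
  have : PreservesLimitsOfSize.{0, 0} (SheafOfModules.restrictScalars.{u} α) :=
    preservesLimitsOfSize_shrink.{0, u, 0, u} _
  have : PreservesColimitsOfSize.{0, 0} (SheafOfModules.restrictScalars.{u} α) :=
    preservesColimitsOfSize_shrink.{0, u, 0, u} _
  have : PreservesFiniteLimits (SheafOfModules.restrictScalars.{u} α) := ⟨fun _ => inferInstance⟩
  have : PreservesFiniteColimits (SheafOfModules.restrictScalars.{u} α) := ⟨fun _ => inferInstance⟩
  obtain ⟨e⟩ := SuppCore.nonempty_sectOn_rscal_iso φ U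
  obtain ⟨e'⟩ := SiteBase.nonempty_rightDerived_precomp_of_acyclic (SheafOfModules.restrictScalars.{u} α)
    (ModSite.sectOn O U) (fun Q hQ i => SuppCore.isZero_HZsh U ((SheafOfModules.restrictScalars.{u} α).obj Q)
      (@SiteBase.isTotallyAcyclic_toSheaf_injective _ _ _ (ModSite.ringSh O') Q hQ) i) q
  exact ⟨(SiteBase.rightDerivedCompIso (ModSite.sectOn O' U) (SheafOfModules.restrictScalars.{u} α) q).symm ≪≫
    SiteBase.rightDerivedCongr e q ≪≫ e'⟩


end Groth.Agent.S12892
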