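import Groth.Statements.S12894
import Groth.Agent.S3466
import Groth.Agent.S3475
-- import your own Groth.Agent.* helpers here

set_option autoImplicit false
universe u
open CategoryTheory CategoryTheory.Limits AlgebraicGeometry
open CohProp

namespace Groth.Agent.S12894

/-- Let k be a field and f : X → Spec k a quasi-compact and quasi-separated morphism. Then for every
sheaf of sets F on the small étale site of X the pair (F, f) is cohomologically proper in dimension
≤ 0: for every morphism of schemes g : Y' → Spec k and every cartesian square exhibiting X' as X ×_k
Y', with projections h : X' → X and f' : X' → Y', the base-change map g^* f_* F → f'_* h^* F is an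
isomorphism. -/
theorem result (k : Type u) [Field k] (X : Scheme.{u})
    (f : X ⟶ Spec (CommRingCat.of k)) [QuasiCompact f] [QuasiSeparated f] (F : EtDesc.Sh X) :
    CohProp.IsCohPropSet (𝟙 (Spec (CommRingCat.of k))) f F := by
  intro S' Y' X' p g q' h f' _ sq
  haveI : DiscreteTopology (Spec (CommRingCat.of k) : Scheme.{u}) := inferInstance
  exact Groth.Agent.S3466.result f g f' h sq (Groth.Agent.S3475.result g) F

end Groth.Agent.S12894
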