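import Groth.Statements.S12895
import Groth.Agent.H9Misc.SupportsSS

set_option autoImplicit false
universe u
open CategoryTheory CategoryTheory.Limits
open ModSite

namespace Groth.Agent.S12895

open CategoryTheory CategoryTheory.Limits Opposite Groth.Agent.SiteBase Groth.Agent.SpObjSS Groth.Agent.TriCat

/-- The local-to-global Ext sequence: on a small ringed site (C, J, O) with O commutative, for O-modules
M and N there is an E₂ spectral sequence of abelian groups with E₂^{p,q} ≅ H^p(C, ℰxt^q_O(M, N)) for
p, q ≥ 0 (and 0 otherwise), bounded, abutting with finite filtrations to Ext^n_O(M, N) (n ≥ 0; 0 for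
n < 0); here ℰxt^q_O(M, -) are the right derived functors of the internal Hom ℋom_O(M, -), H^p(C, -)
is the cohomology of the site with values in the underlying abelian sheaf, and Ext^n_O is computed
in the category of O-modules. (Existence only: the E₂ identifications and the abutment are some
isomorphisms. The internal Hom of M, injective resolutions of O-modules and smallness of the Ext
groups of O-modules are the stated instance hypotheses, all true.) -/
theorem result {C : Type u} [SmallCategory C] {J : GrothendieckTopology C}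
    (O : Sheaf J CommRingCat.{u}) (M N : ModSite.Mod O)
    [ModSite.HasSheafHom M] [HasInjectiveResolutions (ModSite.Mod O)] [HasExt.{u} (ModSite.Mod O)] :
    ∃ (E : E₂CohomologicalSpectralSequence AddCommGrpCat.{u})
      (a : SpSeq.Abutment E (fun n : ℤ =>
        if 0 ≤ n then AddCommGrpCat.of (Abelian.Ext.{u} M N n.toNat) else AddCommGrpCat.of PUnit.{u + 1})),
      (∀ n : ℤ, a.IsFinite n) ∧ SpSeq.IsBounded E ∧
      ∀ p q : ℤ, Nonempty ((E.page 2 le_rfl).X (p, q) ≅
        (if 0 ≤ p ∧ 0 ≤ q then AddCommGrpCat.of (ModSite.HC O ((ModSite.extSh M q.toNat).obj N) p.toNat)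
          else AddCommGrpCat.of PUnit.{u + 1})) := by
  have := SpObjSS.enoughInjectives_of_hasInjectiveResolutions (C := ModSite.Mod O)
  let P := ModSite.unit O
  refine exists_grothendieck_spectralSequence' (ModSite.sheafHom M) (homFrom P) (fun Q hQ i hi => ?_) N
    (fun n => AddCommGrpCat.of (Abelian.Ext.{u} M N n))
    (fun n => ⟨(rightDerivedCongr (SuppCore.homFromAdjIso (ModSite.sheafHomAdj M) P ≪≫
        preadditiveCoyoneda.mapIso ((SuppCore.unitTensIso O).app M).symm.op) n).app N ≪≫
      rightDerivedHomFromIso _ n N⟩)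
    (fun p q => AddCommGrpCat.of (ModSite.HC O ((ModSite.extSh M q).obj N) p))
    (fun p q => ⟨rightDerivedHomFromIso P p _ ≪≫
      AddEquiv.toAddCommGrpIso (SiteBase.nonempty_ext_unit_addEquiv _ p).some⟩)
    _ (AddCommGrpCat.isZero_of_subsingleton _)
  obtain ⟨j, rfl⟩ := Nat.exists_eq_succ_of_ne_zero hi.ne'
  refine IsZero.of_iso ?_ (rightDerivedHomFromIso P (j + 1) _ ≪≫
      AddEquiv.toAddCommGrpIso (Y := AddCommGrpCat.of (ModSite.HC O ((ModSite.sheafHom M).obj Q) (j + 1)))
        (SiteBase.nonempty_ext_unit_addEquiv (R := ModSite.ringSh O) ((ModSite.sheafHom M).obj Q) (j + 1)).some)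
  have := SuppCore.subsingleton_HC_of_totallyAcyclic (ModTensor.isTotallyAcyclic_sheafHom_injective M Q) j
  exact AddCommGrpCat.isZero_of_subsingleton _


end Groth.Agent.S12895
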