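import Groth.Statements.S12898
import Groth.Agent.H9Misc.DRingAdjoint

set_option autoImplicit false
universe u
open CategoryTheory CategoryTheory.Limits
attribute [local instance] HasDerivedCategory.standard
open DRing

namespace Groth.Agent.S12898

/-- Let φ : R → A be a map of commutative rings. The derived base change functor D(R) → D(A), E ↦ E
⊗^L_R A (the total left derived functor of extension of scalars, whose existence is the stated
instance hypothesis, true), is left adjoint to the restriction functor D(A) → D(R). (Existence of an
adjunction only.) -/
theorem result {R A : Type u} [CommRing R] [CommRing A] (φ : R →+* A)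
    [DRing.HasLBaseChange φ] :
    Nonempty (DRing.LBaseChange φ ⊣ DRing.restrictD φ) := by
  exact Groth.Agent.H9Misc.DRingAdjoint.nonempty_adj φ

end Groth.Agent.S12898
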