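import Groth.Statements.S1290
import Groth.Agent.RG.WeakAssFinite
-- import your own Groth.Agent.* helpers here

set_option autoImplicit false
universe u
open FlatMor

namespace Groth.Agent.S1290

set_option backward.isDefEq.respectTransparency false in
/-- Ring form, X = Spec S, S = Spec R affine: let R be a ring with finitely many weakly associated
primes, S a finite type R-algebra and N a finite S-module. Then the set U of primes q of S with N_q
flat over R is open in Spec S, and every q in U has a basic open neighbourhood D(g) on which N is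
flat over R and finitely presented relative to R (finitely presented over a polynomial ring over R
surjecting onto S_g). -/
theorem result {R S : Type u} [CommRing R] [CommRing S] [Algebra R S] [Algebra.FiniteType R S]
    (hR : (FlatCA.weakAss R R).Finite)
    (N : Type u) [AddCommGroup N] [Module S N] [Module R N] [IsScalarTower R S N] [Module.Finite S N] :
    IsOpen {q : PrimeSpectrum S | FlatCA.FlatAt R q.asIdeal N} ∧
    ∀ (q : Ideal S) [q.IsPrime], FlatCA.FlatAt R q N → ∃ g : S, g ∉ q ∧
      Module.Flat R (LocalizedModule (Submonoid.powers g) N) ∧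
      FlatCA.RelFinitePresentation R (Localization.Away g) (LocalizedModule (Submonoid.powers g) N) := by
  obtain ⟨n, φ, hφ⟩ := Algebra.FiniteType.iff_quotient_mvPolynomial''.1 ‹Algebra.FiniteType R S›
  letI : Algebra (MvPolynomial (Fin n) R) S := φ.toRingHom.toAlgebra
  haveI : IsScalarTower R (MvPolynomial (Fin n) R) S := IsScalarTower.of_algebraMap_eq' φ.comp_algebraMap.symm
  haveI : Module.Finite (MvPolynomial (Fin n) R) S := Module.Finite.of_surjective (Algebra.linearMap _ S) hφ
  letI : Module (MvPolynomial (Fin n) R) N := Module.compHom N (algebraMap (MvPolynomial (Fin n) R) S)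
  haveI : IsScalarTower (MvPolynomial (Fin n) R) S N := IsScalarTower.of_algebraMap_smul fun _ _ => rfl
  haveI : IsScalarTower R (MvPolynomial (Fin n) R) N := IsScalarTower.of_algebraMap_smul fun r x => by
    show algebraMap (MvPolynomial (Fin n) R) S (algebraMap R _ r) • x = r • x
    rw [← IsScalarTower.algebraMap_apply, algebraMap_smul]
  haveI : Module.Finite (MvPolynomial (Fin n) R) N := Module.Finite.trans S N
  have hc : ∀ (q : Ideal S) [q.IsPrime], FlatCA.FlatAt R q N ↔
      FlatCA.FlatAt R (q.comap (algebraMap (MvPolynomial (Fin n) R) S)) N :=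
    fun q _ => Groth.Agent.RG.flatAt_comap_iff hφ q _ rfl
  refine ⟨?_, fun q _ hq => ?_⟩
  · convert (Groth.Agent.RG.isOpen_flatAt_of_weakAss_finite (S := MvPolynomial (Fin n) R) hR N).preimage
      (PrimeSpectrum.continuous_comap (algebraMap (MvPolynomial (Fin n) R) S)) using 1
    ext q
    exact hc q.asIdeal
  · obtain ⟨g, hg, hfp, hfl⟩ := Groth.Agent.RG.exists_nhd_of_weakAss_finite hR N _ ((hc q).1 hq)
    refine ⟨algebraMap _ S g, hg, ?_, Groth.Agent.RG.relFP_away hφ N g hfp⟩
    refine (Groth.Agent.RG.flat_localized_restrict_iff (Submonoid.powers g) _ ?_ ?_).2 hfl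
    · rintro _ ⟨k, rfl⟩
      exact ⟨k, (map_pow _ _ _).symm⟩
    · rintro _ ⟨k, rfl⟩
      exact ⟨g ^ k, ⟨k, rfl⟩, by rw [map_pow]⟩

end Groth.Agent.S1290
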