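import Groth.Statements.S12901
import Groth.Agent.S11778
import Groth.Agent.PicLift.Algebraization
import Groth.Agent.FComplLib.AffSysCompl
import Groth.Agent.FComplLib.IdealComap
import Groth.Prelude.Def_FSch6
set_option autoImplicit false
universe u
open CategoryTheory AlgebraicGeometry
open FSch

namespace Groth.Agent.S12901
set_option backward.isDefEq.respectTransparency false
set_option backward.isDefEq.respectTransparency.types false
set_option maxHeartbeats 1000000
open Groth.Agent CategoryTheory.Limits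


/-- Let A be a complete Noetherian local ring with maximal ideal m, and 𝔛 a formal scheme proper and
flat over A, presented as an adic system X_0 → X_1 → ⋯ over the thickenings Spec(A/m^{n+1}) (the
structure morphism is adic with proper level 0, and every level X_n → Spec(A/m^{n+1}) is flat). If
X_0 is projective (it carries an ample invertible sheaf) and H^2(X_0, O_{X_0}) = 0, then 𝔛 is the
m-adic completion of a projective A-scheme: there are a proper A-scheme X carrying an ample
invertible sheaf and an isomorphism of systems, over the base, between 𝔛 and the completion of X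
along the pulled-back ideal. -/
theorem result (A : Type u) [CommRing A] [IsLocalRing A]
    [IsNoetherianRing A] [IsAdicComplete (IsLocalRing.maximalIdeal A) A]
    (𝔛 : FSch.Sys.{u}) (f : 𝔛 ⟶ FSch.completionAlong (Spec (CommRingCat.of A)) (FSch.idealSpec A (IsLocalRing.maximalIdeal A)))
    (hf : FSch.IsProperHom f) (hflat : ∀ n : ℕ, Flat ((f : FSch.Hom _ _).app n))
    (hproj : ∃ L₀ : (𝔛.X 0).Modules, CohB1.IsAmple L₀)
    (hH2 : Subsingleton (Coh.HH (𝔛.X 0) (Coh.structureModule (𝔛.X 0)) 2)) :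
    ∃ (X : Scheme.{u}) (g : X ⟶ (Spec (CommRingCat.of A))) (L : X.Modules), IsProper g ∧ CohB1.IsAmple L ∧
      ∃ (h : FSch.PowCompat g ((FSch.idealSpec A (IsLocalRing.maximalIdeal A)).comap g) (FSch.idealSpec A (IsLocalRing.maximalIdeal A)))
        (e : 𝔛 ≅ FSch.completionAlong X ((FSch.idealSpec A (IsLocalRing.maximalIdeal A)).comap g)),
        e.hom ≫ FSch.completionMap g ((FSch.idealSpec A (IsLocalRing.maximalIdeal A)).comap g) (FSch.idealSpec A (IsLocalRing.maximalIdeal A)) h = f := by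
  let m := IsLocalRing.maximalIdeal A
  let 𝓙 := FSch.idealSpec A m
  let S := Spec (CommRingCat.of A)
  haveI : ∀ n, IsClosedImmersion (CohB1.specQuot m n) := fun n => AmpleVan.AdicSys.closed_specQuot m n
  haveI : ∀ n, IsClosedImmersion (FSch.completionToX S 𝓙 n) := fun n =>
    inferInstanceAs (IsClosedImmersion (𝓙 ^ (n + 1)).subschemeι)
  have hk : ∀ n, (FSch.completionToX S 𝓙 n).ker = (CohB1.specQuot m n).ker := fun n =>
    (Scheme.IdealSheafData.ker_subschemeι _).trans ((FComplLib.spfData A m).ker n).symm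
  let σ : ∀ n, (FSch.completionAlong S 𝓙).X n ⟶ Spec (CommRingCat.of (A ⧸ m ^ (n + 1))) := fun n =>
    IsClosedImmersion.lift (CohB1.specQuot m n) (FSch.completionToX S 𝓙 n) (hk n).ge
  haveI hσ : ∀ n, IsIso (σ n) := fun n => IsClosedImmersion.isIso_lift _ _ (hk n).symm
  have hσf : ∀ n, σ n ≫ CohB1.specQuot m n = FSch.completionToX S 𝓙 n := fun n => IsClosedImmersion.lift_fac _ _ _
  have sqσ : ∀ n, IsPullback ((FSch.completionAlong S 𝓙).ι n) (σ n) (σ (n + 1)) (CohB1.specQuotTrans m n) := fun n => by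
    refine IsPullback.of_vert_isIso ⟨?_⟩
    rw [← cancel_mono (CohB1.specQuot m (n + 1)), Category.assoc, Category.assoc, hσf,
      CohB1.specQuotTrans_specQuot, hσf]
    exact Scheme.IdealSheafData.inclusion_subschemeι _
  let p : ∀ n, 𝔛.X n ⟶ Spec (CommRingCat.of (A ⧸ m ^ (n + 1))) := fun n => (f : FSch.Hom _ _).app n ≫ σ n
  have hcart : ∀ n, IsPullback (𝔛.ι n) (p n) (p (n + 1)) (CohB1.specQuotTrans m n) := fun n =>
    (hf.1 n).paste_vert (sqσ n)
  haveI hp : IsProper (p 0) := by
    haveI : IsProper ((f : FSch.Hom _ _).app 0) := hf.2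
    show IsProper (_ ≫ σ 0)
    infer_instance
  haveI hpf : ∀ n, Flat (p n) := fun n => by
    haveI := hflat n
    show Flat (_ ≫ σ n)
    infer_instance
  haveI : (𝔛.X 0).IsSeparated := ⟨by
    rw [show terminal.from (𝔛.X 0) = p 0 ≫ terminal.from _ from terminal.hom_ext _ _]
    infer_instance⟩
  obtain ⟨L₀, hL₀⟩ := hproj
  obtain ⟨L, hL, ⟨θ⟩, hLs⟩ := S11778.result A 𝔛.X p 𝔛.ι hcart hpf hH2 L₀ hL₀.1
  obtain ⟨Y, g, M, e, hg, hM, hMa, he, hec, -⟩ := PicLift.exists_algebraization
    (⟨𝔛.X, p, 𝔛.ι, hcart⟩ : AmpleVan.AdicSys A m) hp L hL hLs (AmpleX.isAmple_of_iso θ.symm hL₀)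
  haveI : ∀ n, IsClosedImmersion (e n) := fun n => MorphismProperty.of_isPullback (he n).flip inferInstance
  haveI : ∀ n, IsClosedImmersion (FSch.completionToX Y (𝓙.comap g) n) := fun n =>
    inferInstanceAs (IsClosedImmersion ((𝓙.comap g) ^ (n + 1)).subschemeι)
  have hke : ∀ n, (e n).ker = (FSch.completionToX Y (𝓙.comap g) n).ker := fun n => by
    rw [FComplLib.ker_of_isPullback (he n)]
    refine (congrArg (fun K => Scheme.IdealSheafData.comap K g) ((FComplLib.spfData A m).ker n)).trans ?_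
    rw [FComplLib.comap_pow]
    exact (Scheme.IdealSheafData.ker_subschemeι _).symm
  let ε : ∀ n, 𝔛.X n ⟶ (FSch.completionAlong Y (𝓙.comap g)).X n := fun n =>
    IsClosedImmersion.lift (FSch.completionToX Y (𝓙.comap g) n) (e n) (hke n).ge
  haveI : ∀ n, IsIso (ε n) := fun n => IsClosedImmersion.isIso_lift _ _ (hke n).symm
  have hεf : ∀ n, ε n ≫ FSch.completionToX Y (𝓙.comap g) n = e n := fun n => IsClosedImmersion.lift_fac _ _ _
  have hεc : ∀ n, ε n ≫ (FSch.completionAlong Y (𝓙.comap g)).ι n = 𝔛.ι n ≫ ε (n + 1) := fun n => by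
    rw [← cancel_mono (FSch.completionToX Y (𝓙.comap g) (n + 1)), Category.assoc, Category.assoc, hεf]
    refine Eq.trans ?_ (hec n)
    rw [← hεf n]
    exact congrArg (ε n ≫ ·) (Scheme.IdealSheafData.inclusion_subschemeι _)
  have hc : FSch.PowCompat g (𝓙.comap g) 𝓙 := fun n => FComplLib.powCompat g 𝓙 (n + 1)
  let E : 𝔛 ≅ FSch.completionAlong Y (𝓙.comap g) :=
    { hom := ⟨ε, hεc⟩
      inv := ⟨fun n => inv (ε n), fun n => by
        rw [IsIso.inv_comp_eq, ← Category.assoc, IsIso.eq_comp_inv]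
        exact (hεc n).symm⟩
      hom_inv_id := FSch.Hom.ext (funext fun n => IsIso.hom_inv_id (ε n))
      inv_hom_id := FSch.Hom.ext (funext fun n => IsIso.inv_hom_id (ε n)) }
  refine ⟨Y, g, M, hg, hMa, hc, E, FSch.Hom.ext (funext fun n => ?_)⟩
  rw [← cancel_mono (FSch.completionToX S 𝓙 n)]
  show (ε n ≫ _) ≫ FSch.completionToX S 𝓙 n = _
  refine (Category.assoc _ _ _).trans ((congrArg (ε n ≫ ·) (FSch.completionMap_sq g (𝓙.comap g) 𝓙 hc n).symm).trans ?_)
  rw [← Category.assoc, hεf, (he n).w]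
  show ((f : FSch.Hom _ _).app n ≫ σ n) ≫ _ = _
  rw [Category.assoc, hσf]

end Groth.Agent.S12901
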