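import Groth.Statements.S12903
import Groth.Agent.QCoh.DevissageSum
import Groth.Agent.QCoh.Localize
import Groth.Agent.QCoh.Sections

set_option autoImplicit false
universe u
open CategoryTheory CategoryTheory.Limits AlgebraicGeometry Opposite
open Coherent

namespace Groth.Agent.S12903
namespace Aux
open CategoryTheory CategoryTheory.Limits AlgebraicGeometry Opposite TopologicalSpace
open Groth.Agent
set_option backward.isDefEq.respectTransparency false
set_option backward.isDefEq.respectTransparency.types false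

theorem mem_range_iff {U X : Scheme.{u}} (j : U ⟶ X) [IsOpenImmersion j]
    {F : X.Modules} (hF : Coh.IsQCoh F) {V : X.Opens} (hV : IsAffineOpen V)
    (I : Ideal Γ(X, V)) (hI : I.FG)
    (hZ : ∀ x : X, x ∈ V → (x ∉ Set.range j.base ↔ ∀ f ∈ I, x ∉ X.basicOpen f)) (s : Γ(F, V)) :
    s ∈ Set.range (((CxOX.gammaZι j).app F).app V) ↔ ∃ n : ℕ, ∀ a ∈ I ^ n, a • s = 0 := by
  let η := (Scheme.Modules.restrictAdjunction j).unit.app F
  have hη : η.app V = F.presheaf.map (homOfLE (j.image_preimage_le V)).op :=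
    Scheme.Modules.restrictAdjunction_unit_app_app _ _ _
  have himg : j ''ᵁ (j ⁻¹ᵁ V) = j.opensRange ⊓ V := Scheme.Hom.image_preimage_eq_opensRange_inf j V
  have h1 : s ∈ Set.range (((CxOX.gammaZι j).app F).app V) ↔ η.app V s = 0 := by
    constructor
    · rintro ⟨t, rfl⟩
      exact congr(($(kernel.condition η)).app V t)
    · intro h
      exact QCoh.exists_kernel_lift η V s h
  rw [h1, hη]
  constructor
  · intro h
    let ann : Ideal Γ(X, V) := LinearMap.ker (LinearMap.toSpanSingleton Γ(X, V) Γ(F, V) s)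
    obtain ⟨n, hn⟩ := Ideal.exists_pow_le_of_le_radical_of_fg (I := I) (J := ann) (fun f hf => by
      have hle : X.basicOpen f ≤ j ''ᵁ (j ⁻¹ᵁ V) := fun y hy => by
        rw [himg]
        exact ⟨of_not_not fun hn => (hZ y (X.basicOpen_le f hy)).1 hn f hf hy, X.basicOpen_le f hy⟩
      have h0 : F.presheaf.map (homOfLE (X.basicOpen_le f)).op s = 0 :=
        ((QCoh.map_map (homOfLE hle) (homOfLE (j.image_preimage_le V)) s).symm).trans
          ((congrArg (F.presheaf.map (homOfLE hle).op) h).trans (map_zero _))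
      obtain ⟨n, hn⟩ := QCoh.exists_pow_smul_eq_zero hF hV f s h0
      exact ⟨n, hn⟩) hI
    exact ⟨n, fun a ha => hn ha⟩
  · rintro ⟨n, hn⟩
    refine QCoh.eq_zero_of_locally (M := F) (j ''ᵁ (j ⁻¹ᵁ V)) _ fun y hy => ?_
    rw [himg] at hy
    obtain ⟨f, hf, hyf⟩ : ∃ f ∈ I, y ∈ X.basicOpen f := by
      by_contra hc
      push Not at hc
      exact (hZ y hy.2).2 hc hy.1
    refine ⟨X.basicOpen f ⊓ j ''ᵁ (j ⁻¹ᵁ V), homOfLE inf_le_right, ⟨hyf, by rw [himg]; exact hy⟩, ?_⟩
    have hW : X.basicOpen f ⊓ j ''ᵁ (j ⁻¹ᵁ V) ≤ V := inf_le_left.trans (X.basicOpen_le f)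
    refine (QCoh.map_map _ _ s).trans ?_
    have h0 : F.presheaf.map (homOfLE hW).op (f ^ n • s) = 0 := by
      rw [hn _ (Ideal.pow_mem_pow hf n), map_zero]
    rw [Scheme.Modules.map_smul] at h0
    have hu : IsUnit (X.presheaf.map (homOfLE hW).op (f ^ n)) := by
      rw [map_pow]
      refine (IsUnit.pow n ?_)
      have h2 := (RingedSpace.isUnit_res_basicOpen X.toRingedSpace f).map
        (X.presheaf.map (homOfLE (inf_le_left : X.basicOpen f ⊓ j ''ᵁ (j ⁻¹ᵁ V) ≤ X.basicOpen f)).op).hom
      convert h2 using 1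
      show _ = X.presheaf.map _ (X.presheaf.map (homOfLE (X.basicOpen_le f)).op f)
      rw [← CommRingCat.comp_apply, ← Functor.map_comp]
      rfl
    exact hu.smul_eq_zero.1 h0

end Aux


/-- Let X be a scheme, j : U → X a quasi-compact open immersion with closed complement Z, F a
quasi-coherent O_X-module, V an affine open of X and I a finitely generated ideal of Γ(V, O_X)
cutting out Z ∩ V (a point of V lies outside U if and only if it lies in no basic open X_f with f ∈
I). Then a section s of F over V belongs to the subsheaf Γ_Z(F) of sections supported in Z (the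
kernel of F → j_*(F|_U)) if and only if I^n s = 0 for some n. -/
theorem result {U X : Scheme.{u}} (j : U ⟶ X) [IsOpenImmersion j] [QuasiCompact j]
    (F : X.Modules) (hF : Coh.IsQCoh F) (V : X.Opens) (hV : IsAffineOpen V)
    (I : Ideal (X.ringCatSheaf.obj.obj (op V))) (hI : I.FG)
    (hZ : ∀ x : X, x ∈ V → (x ∉ Set.range j.base ↔ ∀ f ∈ I, x ∉ X.basicOpen (f : Γ(X, V))))
    (s : F.val.obj (op V)) :
    s ∈ Set.range ((((CxOX.gammaZι j).app F).val.app (op V)).hom) ↔ ∃ n : ℕ, ∀ a ∈ I ^ n, a • s = 0 := by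

    exact Aux.mem_range_iff j hF hV (show Ideal Γ(X, V) from I) hI hZ (show Γ(F, V) from s)

end Groth.Agent.S12903
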