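import Groth.Statements.S12905
import Groth.Agent.Lib.ProjRegularPn
import Groth.Agent.Lib.CurveTensor

set_option autoImplicit false
set_option backward.isDefEq.respectTransparency false
set_option backward.isDefEq.respectTransparency.types false
set_option linter.style.haveILetI false
set_option linter.unusedSectionVars false
set_option maxHeartbeats 400000
universe u
open CategoryTheory CategoryTheory.Limits AlgebraicGeometry
open Variety

namespace Groth.Agent.S12905


open Groth.Agent.PnCoh.Finite in
theorem regular_of_mono (k : Type u) [Field k] (n : ℕ)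
    (F' F : (CohB1.ProjSpace n k).Modules) (hF' : Coh.IsCoh F') (hF : Coh.IsCoh F) (φ : F' ⟶ F) [Mono φ]
    (hsupp : topologicalKrullDim (CohB1.support (cokernel φ)) ≤ 0) (m : ℤ)
    (h : Curv2.IsMRegular k n F' m) : Curv2.IsMRegular k n F m := by
  intro i hi hin
  have hS : (ShortComplex.mk φ (cokernel.π φ) (cokernel.condition φ)).ShortExact :=
    ShortComplex.ShortExact.mk' (ShortComplex.exact_of_g_is_cokernel _ (cokernelIsCokernel φ)) inferInstance inferInstance
  have hT := shortExact_twistBy (𝒜 := CohB1.polyGrading n k) (ProjRegular.coords k n) ProjRegular.coords_mem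
    ProjRegular.coords_cover (m - (i : ℤ)) hS
  refine QCoh.subsingleton_HH_X₂ hT i (h i hi hin) ?_
  haveI : IsNoetherian (CohB1.ProjSpace n k) := Proj16.isNoetherian_proj _
  have hc : Coh.IsCoh (cokernel φ) := QCoh.isCoh_cokernel hF'.1 hF φ
  have hQ := ProjRegular.isCoh_twistBy hc (m - (i : ℤ))
  refine (Euler.good_of_support hQ fun x hx => ?_).1 i hi
  refine Euler.closure_eq_self_of_dim_le_zero (QCoh.isClosed_support_of_isFT hc.1 hc.2) hsupp ?_
  by_contra h0
  haveI hs : Subsingleton ((cokernel φ).presheaf.stalk x) := not_not.1 h0
  refine hx ?_
  have hT : Subsingleton (TensorProduct ((CohB1.ProjSpace n k).presheaf.stalk x)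
      ((cokernel φ).presheaf.stalk x) ((Twist.twistProjSpace n k (m - (i : ℤ))).presheaf.stalk x)) :=
    subsingleton_of_forall_eq 0 fun t => by
      induction t using TensorProduct.induction_on with
      | zero => rfl
      | tmul a b => rw [Subsingleton.elim a 0, TensorProduct.zero_tmul]
      | add a b ha hb => rw [ha, hb, add_zero]
  exact @Equiv.subsingleton _ _ (KFlatLib.stalkTensorIso x (cokernel φ)
    (Twist.twistProjSpace n k (m - (i : ℤ)))).symm.toLinearEquiv.toEquiv hT

/-- Let k be a field and φ : F' → F a monomorphism of coherent modules on P^n_k whose cokernel has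
support of Krull dimension at most zero (a finite set of closed points, possibly empty). If F' is
m-regular then F is m-regular. (The published statement is the case of an ideal sheaf contained in
the ideal sheaf of a curve with quotient supported at finitely many points, phrased as an inequality
of regularities; the argument gives the form stated here.) -/
theorem result (k : Type u) [Field k] (n : ℕ)
    (F' F : (CohB1.ProjSpace n k).Modules) (hF' : Coh.IsCoh F') (hF : Coh.IsCoh F) (φ : F' ⟶ F) [Mono φ]
    (hsupp : topologicalKrullDim (CohB1.support (cokernel φ)) ≤ 0) (m : ℤ)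
    (h : Curv2.IsMRegular k n F' m) : Curv2.IsMRegular k n F m := by
  exact regular_of_mono k n F' F hF' hF φ hsupp m h

end Groth.Agent.S12905
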