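import Groth.Statements.S12907
import Groth.Agent.McCoy.HilbertBurch

set_option autoImplicit false
universe u
open CAlgX

namespace Groth.Agent.S12907
open scoped Matrix


/-- Let R be a Noetherian ring and I a nonzero ideal admitting a free resolution 0 → R^m → R^n → I → 0:
an injective matrix Ψ with n rows and m columns, and a linear map π : R^n → R with image I whose
kernel is the image of Ψ. Then n = m + 1; there is a non-zero-divisor a with I = a · I_m(Ψ), where
I_m(Ψ) is the ideal generated by the m × m minors of Ψ; and the I_m(Ψ)-depth of R is at least 2.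
(The published statement also asserts that this depth is exactly 2; only the lower bound is stated
here. The hypothesis that I is nonzero is implicit in the published statement.) -/
theorem result {R : Type u} [CommRing R] [IsNoetherianRing R] (m n : ℕ)
    (Ψ : Matrix (Fin n) (Fin m) R) (π : (Fin n → R) →ₗ[R] R)
    (hΨ : LinearMap.ker Ψ.mulVecLin = ⊥) (hex : LinearMap.ker π = LinearMap.range Ψ.mulVecLin)
    (hI : LinearMap.range π ≠ ⊥) :
    n = m + 1 ∧
      (∃ a : R, a ∈ nonZeroDivisors R ∧ LinearMap.range π = Ideal.span {a} * CAlgX.minorIdeal Ψ m) ∧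
      2 ≤ LocCoh.idealDepth (CAlgX.minorIdeal Ψ m) R := by
  classical
  have hinj : Function.Injective Ψ.mulVecLin := LinearMap.ker_eq_bot.1 hΨ
  have hann := (McCoy.injective_iff Ψ).1 hinj
  have hntr : Nontrivial R := by
    by_contra h
    rw [not_nontrivial_iff_subsingleton] at h
    exact hI (Subsingleton.elim _ _)
  obtain ⟨x, hxI, hx⟩ := McCoy.exists_nonZeroDivisor hann
  have hker : ∀ w, π (Ψ.mulVecLin w) = 0 := fun w => by
    rw [← LinearMap.mem_ker, hex]; exact ⟨w, rfl⟩
  have hpre : ∀ v, π v = 0 → ∃ w, Ψ.mulVecLin w = v := fun v hv => by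
    rw [← LinearMap.mem_ker, hex] at hv; exact hv
  -- the number of rows
  have hn : n = m + 1 := by
    rcases lt_trichotomy n (m + 1) with hlt | heq | hgt
    · exfalso
      rcases Nat.lt_or_ge n m with hnm | hnm
      · apply McCoy.minorIdeal_ne_bot Ψ hann
        rw [McCoy.minorIdeal_max_eq_span, Ideal.span_eq_bot]
        rintro _ ⟨f, rfl⟩
        obtain ⟨a, b, hab, hne⟩ := Fintype.exists_ne_map_eq_of_card_lt f (by simpa using hnm)
        exact Matrix.det_zero_of_row_eq hab (funext fun k => by simp [hne])
      · obtain rfl : n = m := by omega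
        apply hI
        rw [LinearMap.range_eq_bot]
        refine LinearMap.ext fun v => ?_
        rw [LinearMap.zero_apply, ← Ideal.mem_bot, ← hann, McCoy.mem_annihilator_minorIdeal]
        intro f g
        let B := Ψ.submatrix f id
        obtain ⟨c, hc⟩ := Ideal.mem_span_singleton'.1 (McCoy.det_submatrix_perm Ψ f g)
        rw [← hc, mul_left_comm]
        by_cases hf : Function.Injective f
        · let e := Equiv.ofBijective f (Finite.injective_iff_bijective.1 hf)
          have h1 : Ψ.det * π v = 0 := by
            have h2 : Ψ.mulVecLin (Ψ.adjugate *ᵥ v) = Ψ.det • v := by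
              rw [Matrix.mulVecLin_apply, Matrix.mulVec_mulVec, Matrix.mul_adjugate,
                Matrix.smul_mulVec, Matrix.one_mulVec]
            rw [← smul_eq_mul, ← map_smul, ← h2]
            exact hker _
          rw [show (Ψ.submatrix f id).det = (Equiv.Perm.sign e : ℤ) * Ψ.det from
            Matrix.det_permute e Ψ]
          linear_combination (c * (Equiv.Perm.sign e : ℤ)) * h1
        · simp only [Function.Injective, not_forall] at hf
          obtain ⟨a, b, hab, hne⟩ := hf
          have h0 : (Ψ.submatrix f id).det = 0 :=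
            Matrix.det_zero_of_row_eq hne (funext fun k => by simp [hab])
          rw [h0, mul_zero, mul_zero]
    · exact heq
    · exfalso
      have hnil : CAlgX.minorIdeal Ψ m ≤ nilradical R := by
        rw [McCoy.minorIdeal_max_eq_span, Ideal.span_le]
        rintro _ ⟨f, rfl⟩
        obtain ⟨i, hi⟩ : ∃ i, i ∉ Set.range f := by
          by_contra! h
          have h' : Function.Surjective f := h
          have := Fintype.card_le_of_surjective f h'
          simp at this; omega
        obtain ⟨j, hj, hij⟩ : ∃ j, j ∉ Set.range f ∧ j ≠ i := by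
          by_contra! h
          have h' : (Finset.univ : Finset (Fin n)) ⊆ insert i (Finset.univ.image f) := by
            intro j _
            by_cases hj : j ∈ Set.range f
            · exact Finset.mem_insert_of_mem (by simpa using hj)
            · rw [h j hj]; exact Finset.mem_insert_self _ _
          have h2 := Finset.card_le_card h'
          have h3 := Finset.card_insert_le i (Finset.univ.image f)
          have h4 := Finset.card_image_le (s := (Finset.univ : Finset (Fin m))) (f := f)
          simp at h2 h4
          omega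
        -- vectors in the kernel vanishing on the chosen rows are killed by the minor
        have hkill : ∀ v, π v = 0 → (∀ l, v (f l) = 0) → (Ψ.submatrix f id).det • v = 0 := by
          intro v hv hvf
          obtain ⟨w, rfl⟩ := hpre v hv
          rw [← map_smul, McCoy.det_smul_eq_zero Ψ f w hvf, map_zero]
        have hfi : ∀ l, f l ≠ i := fun l h => hi ⟨l, h⟩
        have hfj : ∀ l, f l ≠ j := fun l h => hj ⟨l, h⟩
        have h1 : (Ψ.submatrix f id).det * π (Pi.single i 1) = 0 := by
          have := hkill (π (Pi.single j 1) • Pi.single i 1 - π (Pi.single i 1) • Pi.single j 1)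
            (by simp [mul_comm]) (fun l => by simp [hfi l, hfj l])
          have h2 := congrFun this j
          simpa [hij] using h2
        refine ⟨2, ?_⟩
        have := hkill ((Ψ.submatrix f id).det • Pi.single i 1) (by simpa using h1)
          (fun l => by simp [hfi l])
        simpa [sq] using congrFun this i
      obtain ⟨k, hk⟩ := hnil hxI
      exact zero_notMem_nonZeroDivisors (hk ▸ pow_mem hx k)
  subst hn
  -- depth at least two
  have hpair : McCoy.HasRegularPair (CAlgX.minorIdeal Ψ m) := by
    by_cases htop : CAlgX.minorIdeal Ψ m = ⊤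
    · exact Or.inl htop
    let q := Ideal.Quotient.mk (Ideal.span {x})
    have hinj' : Function.Injective (Ψ.map q).mulVecLin := by
      rw [injective_iff_map_eq_zero]
      intro w hw
      choose w₀ hw₀ using fun i => Ideal.Quotient.mk_surjective (w i)
      obtain rfl : w = fun i => q (w₀ i) := funext fun i => (hw₀ i).symm
      rw [Matrix.mulVecLin_apply, McCoy.map_mulVec_eq] at hw
      choose v hv using fun i => Ideal.mem_span_singleton.1
        (Ideal.Quotient.eq_zero_iff_mem.1 (congrFun hw i))
      have hv' : Ψ *ᵥ w₀ = x • v := funext hv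
      have h1 : π v = 0 := (mul_left_mem_nonZeroDivisors_eq_zero_iff hx).1 (by
        rw [← smul_eq_mul, ← map_smul, ← hv']; exact hker w₀)
      obtain ⟨z, rfl⟩ := hpre v h1
      have h2 : w₀ = x • z := hinj (by rw [map_smul]; exact hv')
      funext i
      rw [Pi.zero_apply]
      exact Ideal.Quotient.eq_zero_iff_mem.2 (Ideal.mem_span_singleton.2 ⟨z i, by rw [h2]; rfl⟩)
    obtain ⟨y', hy'I, hy'⟩ := McCoy.exists_nonZeroDivisor ((McCoy.injective_iff _).1 hinj')
    have hmap : CAlgX.minorIdeal (Ψ.map q) m ≤ (CAlgX.minorIdeal Ψ m).map q := by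
      refine Ideal.span_le.2 ?_
      rintro _ ⟨⟨f, g⟩, rfl⟩
      have := Ideal.mem_map_of_mem q (McCoy.det_mem_minorIdeal Ψ f g)
      rw [RingHom.map_det] at this
      exact this
    obtain ⟨y, hyI, rfl⟩ := (Ideal.mem_map_iff_of_surjective q Ideal.Quotient.mk_surjective).1
      (hmap hy'I)
    refine Or.inr ⟨x, hxI, y, hyI, hx, fun a ha => ?_⟩
    rw [← Ideal.mem_span_singleton] at ha ⊢
    rw [← Ideal.Quotient.eq_zero_iff_mem] at ha ⊢
    rw [map_mul] at ha
    exact (mul_left_mem_nonZeroDivisors_eq_zero_iff hy').1 ha
  refine ⟨rfl, ?_, McCoy.two_le_idealDepth hpair⟩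
  let p : Fin (m + 1) → R := fun i => π (Pi.single i 1)
  have hrel : ∀ i j, McCoy.delta Ψ j * p i = McCoy.delta Ψ i * p j := by
    intro i j
    let v : Fin (m + 1) → R :=
      McCoy.delta Ψ j • Pi.single i 1 - McCoy.delta Ψ i • Pi.single j 1
    obtain ⟨N, w, hw⟩ := McCoy.exists_pow_smul_mem_range Ψ v (by
      simp [v, mul_sub, ite_mul, Finset.sum_sub_distrib, Pi.single_apply]; ring) hxI
    have h1 : x ^ N * π v = 0 := by rw [← smul_eq_mul, ← map_smul, ← hw]; exact hker w
    have h2 := (mul_left_mem_nonZeroDivisors_eq_zero_iff (pow_mem hx N)).1 h1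
    simpa [v, sub_eq_zero] using h2
  have hxI' := hxI
  rw [McCoy.minorIdeal_eq_span_delta, Ideal.mem_span_range_iff_exists_fun] at hxI'
  obtain ⟨c, hc⟩ := hxI'
  let A := ∑ j, c j * p j
  have hA : ∀ i, A * McCoy.delta Ψ i = x * p i := by
    intro i
    rw [← hc, Finset.sum_mul, Finset.sum_mul]
    exact Finset.sum_congr rfl fun j _ => by linear_combination -(c j) * hrel i j
  obtain ⟨a, ha⟩ : x ∣ A := by
    have hmem : ∀ y ∈ CAlgX.minorIdeal Ψ m, x ∣ A * y := by
      intro y hy
      rw [McCoy.minorIdeal_eq_span_delta] at hy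
      induction hy using Submodule.span_induction with
      | mem y hy => obtain ⟨i, rfl⟩ := hy; exact ⟨p i, hA i⟩
      | zero => simp
      | add y z _ _ hy hz => rw [mul_add]; exact dvd_add hy hz
      | smul r y _ hy => rw [smul_eq_mul, mul_left_comm]; exact Dvd.dvd.mul_left hy r
    rcases hpair with htop | ⟨x', hx'I, y, hyI, hx', hy⟩
    · simpa using hmem 1 (htop ▸ Submodule.mem_top)
    · -- `A * Δ = x * p` descends along a regular pair
      have h1 := hmem x' hx'I
      have h2 := hmem y hyI
      obtain ⟨u, hu⟩ := h1
      obtain ⟨w, hw⟩ := h2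
      obtain ⟨d, hd⟩ := hy u ⟨w, (mul_cancel_left_mem_nonZeroDivisors hx).1
        (by linear_combination x' * hw - y * hu)⟩
      exact ⟨d, (mul_cancel_left_mem_nonZeroDivisors hx').1
        (by rw [mul_comm x' A, hu, hd]; ring)⟩
  have hp : ∀ i, p i = a * McCoy.delta Ψ i := fun i =>
    (mul_cancel_left_mem_nonZeroDivisors hx).1 (by rw [← hA i, ha, mul_assoc])
  refine ⟨a, ?_, ?_⟩
  · rw [mem_nonZeroDivisors_iff_right]
    intro z hz
    have hzx : z * x = 0 := by
      rw [← hc, Finset.mul_sum]
      refine Finset.sum_eq_zero fun i _ => ?_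
      obtain ⟨w, hw⟩ := hpre (z • Pi.single i 1) (by
        rw [map_smul, smul_eq_mul, show π (Pi.single i 1) = a * McCoy.delta Ψ i from hp i,
          ← mul_assoc, hz, zero_mul])
      have h1 := McCoy.sum_delta_mulVec Ψ w
      rw [Matrix.mulVecLin_apply] at hw
      rw [hw] at h1
      simp [Pi.single_apply] at h1
      linear_combination (c i) * h1
    exact (mem_nonZeroDivisors_iff_right.1 hx) z hzx
  · have hπ : π = Fintype.linearCombination R p := by
      refine LinearMap.pi_ext' fun i => LinearMap.ext_ring ?_
      simp [p, Fintype.linearCombination_apply_single]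
    rw [McCoy.minorIdeal_eq_span_delta, Ideal.span_mul_span', Set.singleton_mul, hπ,
      Fintype.range_linearCombination, ← Set.range_comp,
      show p = (a * ·) ∘ McCoy.delta Ψ from funext hp]


end Groth.Agent.S12907
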