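import Groth.Statements.S12910
import Groth.Agent.Lib.RegComplex

set_option autoImplicit false
set_option backward.isDefEq.respectTransparency false
set_option backward.isDefEq.respectTransparency.types false
set_option linter.style.haveILetI false
set_option linter.unusedSectionVars false
set_option maxHeartbeats 400000
universe u
open CategoryTheory CategoryTheory.Limits AlgebraicGeometry
open Variety

namespace Groth.Agent.S12910

open Groth.Agent.RegEpi Groth.Agent.ProjRegular Groth.Agent.PnCoh.Finite

theorem main (k : Type u) [Field k] (n : ℕ) (E : ChainComplex (Proj (CohB1.polyGrading n k)).Modules ℕ)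
    (t : ℕ) (hbdd : ∀ s : ℕ, t < s → IsZero (E.X s))
    (hcoh : ∀ s : ℕ, Coh.IsCoh (E.X s)) (d : ℤ)
    (hreg : ∀ s : ℕ, Curv2.IsMRegular k n (E.X s) (d + s))
    (hsupp : ∀ i : ℕ, 0 < i → topologicalKrullDim (CohB1.support (E.homology i)) ≤ 1) :
    Curv2.IsMRegular k n (cokernel (E.d 1 0)) d ∧
      Curv2.IsMRegular k n (Abelian.image (E.d 1 0)) (d + 1) := by
  have hreg' : ∀ (s i : ℕ), 1 ≤ i →
      Subsingleton (Coh.HH (Proj (CohB1.polyGrading n k)) ((twF (d + s - i)).obj (E.X s)) i) := by
    intro s i hi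
    rcases le_or_gt i n with h | h
    · exact hreg s i hi h
    · exact RegComplex.subsingleton_high (hcoh s) _ i h
  have hI := fun q hq => RegComplex.subsingleton_image E t hbdd hcoh d hreg' hsupp t 0 (by omega) q hq
  refine ⟨fun q hq _ => ?_, fun q hq _ => ?_⟩
  · refine RegComplex.subsingleton_cokernel (E.d 1 0) d q ?_ ?_
    · have h := hreg' 0 q hq
      rwa [show d + ((0 : ℕ) : ℤ) - (q : ℤ) = d - q by simp] at h
    · have h := hI (q + 1) (by omega)
      rwa [show d + ((0 : ℕ) : ℤ) + 1 - ((q + 1 : ℕ) : ℤ) = d - q by push_cast; ring] at h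
  · have h := hI q hq
    rwa [show d + ((0 : ℕ) : ℤ) + 1 - (q : ℤ) = d + 1 - q by simp] at h

/-- Let k be a field, d an integer, and E a bounded chain complex ⋯ → E_2 → E_1 → E_0 of coherent
modules on P^n_k (E_s = 0 for s large) such that E_s is (d + s)-regular for every s and, for every i
> 0, the homology sheaf H_i(E) has support of Krull dimension at most 1. Then the cokernel of E_1 →
E_0 is d-regular and the image of E_1 → E_0 is (d + 1)-regular. -/
theorem result (k : Type u) [Field k] (n : ℕ)
    (E : ChainComplex ((CohB1.ProjSpace n k).Modules) ℕ) (t : ℕ) (hbdd : ∀ s : ℕ, t < s → IsZero (E.X s))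
    (hcoh : ∀ s : ℕ, Coh.IsCoh (E.X s)) (d : ℤ)
    (hreg : ∀ s : ℕ, Curv2.IsMRegular k n (E.X s) (d + s))
    (hsupp : ∀ i : ℕ, 0 < i → topologicalKrullDim (CohB1.support (E.homology i)) ≤ 1) :
    Curv2.IsMRegular k n (cokernel (E.d 1 0)) d ∧
      Curv2.IsMRegular k n (Abelian.image (E.d 1 0)) (d + 1) := by
  exact main k n E t hbdd hcoh d hreg hsupp

end Groth.Agent.S12910
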