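import Groth.Statements.S12912
import Groth.Agent.CurveVA.SectionBound
import Groth.Agent.PnCoh.TwistH0
import Groth.Agent.CurveVA.Converse
-- import your own Groth.Agent.* helpers here

set_option autoImplicit false
universe u
open CategoryTheory CategoryTheory.Limits AlgebraicGeometry
open Curves

namespace Groth.Agent.S12912

/-- Let k be an algebraically closed field and X a curve over k (integral, proper over k, of dimension
one) with a closed immersion i : X → P^r_k over k whose image lies in no hyperplane: every nonzero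
global section of O(1) on P^r_k pulls back to a nonzero global section of i^* O(1). Then deg i^*
O(1) ≥ r. -/
theorem result (k : Type u) [Field k] [IsAlgClosed k] (r : ℕ)
    (X : Scheme.{u}) [X.Over (Spec (CommRingCat.of k))] [IsIntegral X] [IsProper (X ↘ (Spec (CommRingCat.of k)))]
    (hdim : topologicalKrullDim X = 1)
    (i : X ⟶ CohB1.ProjSpace r k) [IsClosedImmersion i]
    (hi : i ≫ CohB1.ProjSpace.toSpec r k = (X ↘ (Spec (CommRingCat.of k))))
    (hplane : ∀ s : LinSer.Sect (CohB1.ProjSpace r k) (Twist.twistProjSpace r k 1), s ≠ 0 →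
      OmegaSh.pullSect i (Twist.twistProjSpace r k 1) ⊤ s ≠ 0) :
    (r : ℤ) ≤ Curv2.deg k X ((Scheme.Modules.pullback i).obj (Twist.twistProjSpace r k 1)) 1 := by
  haveI := Groth.Agent.CurveCohLib.isNoetherian_of_proper (k := k) (X := X)
  let P := CohB1.ProjSpace r k
  let O1 := Twist.twistProjSpace r k 1
  let L := (Scheme.Modules.pullback i).obj O1
  have hL : PicF.IsInvertible L := Groth.Agent.PicClLib.isInvertible_pullback i (Groth.Agent.PnCoh.Finite.isInvertible_twist (fun j : ULift.{u} (Fin (r + 1)) => MvPolynomial.X j.down)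
      (fun j => Groth.Agent.ProjPt.X_mem j.down) (by
        refine top_le_iff.1 ((Groth.Agent.AmpleEmbed.iSup_basicOpen_X r k).ge.trans (iSup_le fun j => ?_))
        exact le_iSup_of_le (ULift.up j) le_rfl) 1)
  have hLc := Groth.Agent.CurveDeg.isCoh_of_isInvertible hL
  haveI := Groth.Agent.CurveCohLib.finite_HH (k := k) hLc 0
  -- the linear forms give independent sections
  let e := Sheaf.H.equiv₀ (Coh.toAb L) Limits.isTerminalTop
  let σ : Fin (r + 1) → LinSer.Sect P O1 := fun a =>
    Twist.globalOf (CohB1.polyGrading r k) (⟨MvPolynomial.X a, MvPolynomial.isHomogeneous_X k a⟩ : (CohB1.polyGrading r k) 1)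
  let v : Fin (r + 1) → Coh.HH X L 0 := fun a => e.symm (OmegaSh.pullSect i O1 ⊤ (σ a))
  have hind : LinearIndependent k v := by
    rw [Fintype.linearIndependent_iff]
    intro c hc
    have h1 : OmegaSh.pullSect i O1 ⊤ (∑ a, Coh.toGlobal (CohB1.ProjSpace.toSpec r k) (c a) • σ a) = 0 := by
      refine (map_sum (OmegaSh.pullSect i O1 ⊤).hom _ _).trans (Eq.trans ?_ ((congrArg e hc).trans (map_zero e)))
      rw [map_sum]
      refine Finset.sum_congr rfl fun a _ => ?_
      refine (Scheme.Modules.Hom.app_smul ((Scheme.Modules.pullbackPushforwardAdjunction i).unit.app O1) _ _).trans ?_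
      refine Eq.trans ?_ ((Groth.Agent.CurveCohLib.h0Equiv_smul L (c a) (v a)).trans
        (congrArg (fun r : Γ(X, ⊤) => r • (show Γ(L, ⊤) from e (v a)))
          (show Coh.resTop X (Opposite.op ⊤) _ = _ from ConcreteCategory.congr_hom (X.presheaf.map_id (Opposite.op ⊤)) _))).symm
      show (i.app ⊤ (Coh.toGlobal (CohB1.ProjSpace.toSpec r k) (c a)) : Γ(X, ⊤)) • (OmegaSh.pullSect i O1 ⊤ (σ a) : Γ(L, ⊤)) = _
      congr 1
      · show i.appTop ((CohB1.ProjSpace.toSpec r k).appTop _) = (X ↘ Spec (CommRingCat.of k)).appTop _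
        rw [← hi]; rfl
      · exact (e.apply_symm_apply _).symm
    have h2 : (∑ a, Coh.toGlobal (CohB1.ProjSpace.toSpec r k) (c a) • σ a) = 0 :=
      not_not.1 fun h => hplane _ h h1
    let F : Fin (r + 1) → MvPolynomial.homogeneousSubmodule (Fin (r + 1)) k 1 := fun a =>
      ⟨MvPolynomial.X a, MvPolynomial.isHomogeneous_X k a⟩
    have hG : ∀ s : Finset (Fin (r + 1)), (Groth.Agent.PnCoh.globalOfEquiv (∑ a ∈ s, c a • F a) : LinSer.Sect P O1) =
        ∑ a ∈ s, Coh.toGlobal (CohB1.ProjSpace.toSpec r k) (c a) • σ a := by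
      intro s
      induction s using Finset.induction with
      | empty =>
        rw [Finset.sum_empty, Finset.sum_empty]
        have h := Groth.Agent.PnCoh.globalOf_add (ι := Fin (r + 1)) (R := k) (d := 1) 0 0
        rw [add_zero] at h
        exact left_eq_add.1 h
      | insert a s ha ih =>
        rw [Finset.sum_insert ha, Finset.sum_insert ha, Groth.Agent.PnCoh.globalOf_add, ih]
        refine congrArg₂ (HAdd.hAdd (α := LinSer.Sect P O1) (β := LinSer.Sect P O1)) ((Groth.Agent.PnCoh.globalOf_smul (c a) (F a)).trans ?_) rfl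
        show (Coh.resTop P (Opposite.op ⊤) (Coh.toGlobal (CohB1.ProjSpace.toSpec r k) (c a))) • σ a = _
        exact congrArg (fun r : Γ(P, ⊤) => r • (show Γ(O1, ⊤) from σ a)) (ConcreteCategory.congr_hom (P.presheaf.map_id (Opposite.op ⊤)) _)
    have h3 : (∑ a, c a • F a) = 0 := by
      apply (Groth.Agent.PnCoh.globalOfEquiv (ι := Fin (r + 1)) (R := k) (d := 1)).injective
      refine ((hG Finset.univ).trans h2).trans ?_
      have h := Groth.Agent.PnCoh.globalOf_add (ι := Fin (r + 1)) (R := k) (d := 1) 0 0
      rw [add_zero] at h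
      exact (left_eq_add.1 h).symm
    intro a
    classical
    have h4 := congrArg (fun p : MvPolynomial.homogeneousSubmodule (Fin (r + 1)) k 1 =>
      MvPolynomial.coeff (Finsupp.single a 1) (p : MvPolynomial (Fin (r + 1)) k)) h3
    simpa [F, MvPolynomial.coeff_sum, MvPolynomial.coeff_X', Finsupp.single_eq_single_iff] using h4
  have h5 : r + 1 ≤ Module.finrank k (Coh.HH X L 0) := by
    simpa using hind.fintype_card_le_finrank
  have h0 : Module.finrank k (Coh.HH X L 0) ≠ 0 := by omega
  have hnn := Groth.Agent.CurveVA.euler_le_of_section k hdim hL (𝟙 L) hLc h0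
  have hd : Curv2.deg k X L 1 = Curv2.euler k X L - Curv2.euler k X (Coh.structureModule X) := by
    unfold Curv2.deg; simp
  have := Groth.Agent.CurveVA.finrank_h0_le_deg_add_one k hdim hL (by omega)
  show (r : ℤ) ≤ Curv2.deg k X L 1
  omega

end Groth.Agent.S12912
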