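import Groth.Statements.S12913
import Groth.Agent.CurveHom22.DegDual
import Groth.Agent.Lib.RegEpiGen
import Groth.Agent.Lib.CurvePoint
import Groth.Agent.CurveCohLib.GlobGen
import Groth.Agent.CurveCohLib.RegularCurve
-- import your own Groth.Agent.* helpers here

set_option autoImplicit false
set_option linter.style.haveILetI false
set_option linter.unusedSectionVars false
set_option backward.isDefEq.respectTransparency false
set_option backward.isDefEq.respectTransparency.types false
set_option synthInstance.maxHeartbeats 100000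
set_option maxHeartbeats 1600000
universe u
open CategoryTheory CategoryTheory.Limits AlgebraicGeometry
open Curves

namespace Groth.Agent.S12913

section
open Groth.Agent.CurveBundle Groth.Agent.CurveSlope Groth.Agent.CurveStable Groth.Agent.CurvePoint
open TopologicalSpace Opposite

variable (k : Type u) [Field k] [IsAlgClosed k] {X : Scheme.{u}} [X.Over (Spec (CommRingCat.of k))]
  [IsIntegral X] [IsProper (X ↘ Spec (CommRingCat.of k))] [Smooth (X ↘ Spec (CommRingCat.of k))]
  (hdim : topologicalKrullDim X = 1)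

include k in
/-- A map to the structure sheaf which is not surjective vanishes at some point. -/
theorem exists_vanish {I : X.Modules} (hI : Coh.IsCoh I) (j : I ⟶ Coh.structureModule X) [Mono j] (hj : ¬ Epi j)
    (hdimX : topologicalKrullDim X = 1) :
    ∃ (p : X) (hp : IsClosed ({p} : Set X)), j ≫ ClSub.toSubscheme (ptIdeal p hp) = 0 := by
  haveI := CurveCohLib.isNoetherian_of_proper (k := k) (X := X)
  have hT : Coh.IsCoh (cokernel j) := QCoh.isCoh_cokernel hI.1 QCoh.isCoh_structureModule' j
  have hne : (CohB1.support (cokernel j)).Nonempty := by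
    by_contra h
    rw [Set.not_nonempty_iff_eq_empty] at h
    refine hj (Preadditive.epi_of_isZero_cokernel j (KFlatLib.isZero_of_stalk _ fun x => ?_))
    haveI : Subsingleton ((DerSch.stalkFunctor X x).obj (cokernel j)) := by
      by_contra hx
      exact Set.eq_empty_iff_forall_notMem.1 h x hx
    exact ModuleCat.isZero_of_subsingleton _
  obtain ⟨p, hp, hpc⟩ := (QCoh.isClosed_support_of_isFT hT.1 hT.2).exists_closed_singleton hne
  refine ⟨p, hpc, ?_⟩
  refine Scheme.Modules.hom_ext _ _ fun W => ?_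
  ext s
  refine TopCat.Presheaf.section_ext ⟨(ClSub.quotMod (ptIdeal p hpc)).presheaf, (ClSub.quotMod (ptIdeal p hpc)).isSheaf⟩
    W _ _ fun y hy => ?_
  by_cases hyp : y = p
  · subst hyp
    refine (DerSch.stalkFunctor_map_germ y (j ≫ ClSub.toSubscheme (ptIdeal y hpc)) W hy s).symm.trans ?_
    rw [Functor.map_comp]
    show ((DerSch.stalkFunctor X y).map (ClSub.toSubscheme (ptIdeal y hpc))) (((DerSch.stalkFunctor X y).map j)
      (I.presheaf.germ W y hy s)) = _
    obtain ⟨a, ha⟩ := CurveCohLib.GlobGen.exists_smul_one y (((DerSch.stalkFunctor X y).map j) (I.presheaf.germ W y hy s))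
    rw [ha, map_smul]
    refine Eq.trans ?_ (map_zero _).symm
    refine smul_quot_eq_zero y hpc ?_ _
    by_contra hu
    have hu' : IsUnit a := not_not.1 fun h => hu ((IsLocalRing.mem_maximalIdeal _).2 h)
    apply hp
    haveI : Epi ((DerSch.stalkFunctor X y).map j) := by
      refine (ModuleCat.epi_iff_surjective _).2 fun w => ?_
      obtain ⟨b, rfl⟩ := CurveCohLib.GlobGen.exists_smul_one y w
      refine ⟨(b * ↑hu'.unit⁻¹) • I.presheaf.germ W y hy s, ?_⟩
      rw [map_smul, ha, smul_smul, mul_assoc, IsUnit.val_inv_mul, mul_one]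
    have hz : IsZero ((DerSch.stalkFunctor X y).obj (cokernel j)) :=
      IsZero.of_iso (isZero_cokernel_of_epi ((DerSch.stalkFunctor X y).map j))
        (PreservesCokernel.iso (DerSch.stalkFunctor X y) j)
    exact ModuleCat.subsingleton_of_isZero hz
  · haveI : Subsingleton ((ClSub.quotMod (ptIdeal p hpc)).presheaf.stalk y) := subsingleton_stalk_of_ne p hpc hyp
    exact Subsingleton.elim _ _

include k hdim in
/-- A bundle inside a free one without sections has a functional with image a negative line. -/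
theorem exists_negative : ∀ (r : ℕ), 0 < r → ∀ (N : X.Modules), FlatMod.IsFinLocFree N → rk N = r →
    ∀ (m : ℕ) (ι : N ⟶ FlatMod.freeMod X m), Mono ι → (∀ φ : Coh.structureModule X ⟶ N, φ = 0) →
    ∃ lam : FlatMod.freeMod X m ⟶ Coh.structureModule X, ι ≫ lam ≠ 0 ∧ ¬ Epi (ι ≫ lam) := by
  classical
  haveI := CurveCohLib.isNoetherian_of_proper (k := k) (X := X)
  intro r
  induction r using Nat.strong_induction_on with
  | _ r ih =>
  intro hr N hN hrk m ι hι h0
  haveI := hι
  let π : Fin m → (FlatMod.freeMod X m ⟶ Coh.structureModule X) :=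
    fun i => Sigma.desc fun i' => if i' = i then 𝟙 _ else 0
  obtain ⟨i, hi⟩ : ∃ i, ι ≫ π i ≠ 0 := by
    by_contra hcon
    push Not at hcon
    have hz : ι = 0 := by
      rw [← Category.comp_id ι, ← show ∑ i, π i ≫ Sigma.ι (fun _ : Fin m => Coh.structureModule X) i = 𝟙 _ from ?_,
        Preadditive.comp_sum]
      · exact Finset.sum_eq_zero fun i _ => by rw [← Category.assoc, hcon, zero_comp]
      · refine Sigma.hom_ext _ _ fun l => ?_
        rw [Preadditive.comp_sum, Category.comp_id, Finset.sum_eq_single l]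
        · simp [π]
        · intro i _ hi
          simp [π, Ne.symm hi]
        · simp
    have := rk_eq_zero_of_isZero ((IsZero.iff_id_eq_zero N).2 ((cancel_mono ι).1 (by rw [hz]; simp)))
    omega
  by_cases hepi : Epi (ι ≫ π i)
  swap
  · exact ⟨π i, hi, hepi⟩
  let lam1 := π i
  haveI : Epi (ι ≫ lam1) := hepi
  have hO1 := InvEnd.isFinLocFreeOfRank_one (CurveDeg.isInvertible_structureModule (X := X))
  obtain ⟨I, e, j, hj, he, hfac, hK, -, hrk', -, -, -⟩ :=
    exists_decomp k hdim.le hN (isFinLocFree_of_rank hO1) (ι ≫ lam1)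
  haveI := hj
  haveI := he
  haveI : Epi j := epi_of_epi_fac hfac
  haveI : IsIso j := isIso_of_mono_of_epi j
  have hrI : rk I = 1 := (rk_congr (asIso j)).trans (rk_eq hO1)
  rcases Nat.eq_zero_or_pos (rk (kernel (ι ≫ lam1))) with hK0 | hKpos
  · exfalso
    haveI : Mono (ι ≫ lam1) := Preadditive.mono_of_kernel_zero ((isZero_of_rk_zero hK hK0).eq_of_src _ _)
    haveI : IsIso (ι ≫ lam1) := isIso_of_mono_of_epi _
    have h := h0 (inv (ι ≫ lam1))
    have hid : (𝟙 (Coh.structureModule X)) = 0 := by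
      rw [← IsIso.inv_hom_id (ι ≫ lam1), h, zero_comp]
    have := rk_eq_zero_of_isZero ((IsZero.iff_id_eq_zero _).2 hid)
    rw [rk_eq hO1] at this
    omega
  have hKι : Mono (kernel.ι (ι ≫ lam1) ≫ ι) := mono_comp _ _
  obtain ⟨mu, hmu0, hmu⟩ := ih (rk (kernel (ι ≫ lam1))) (by omega) hKpos _ hK rfl m _ hKι
    (fun φ => (cancel_mono (kernel.ι (ι ≫ lam1))).1 ((h0 (φ ≫ kernel.ι (ι ≫ lam1))).trans zero_comp.symm))
  rw [Category.assoc] at hmu0 hmu
  obtain ⟨I', e', j', hj', he', hfac', -, hI', -, -, -, -⟩ :=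
    exists_decomp k hdim.le hK (isFinLocFree_of_rank hO1) (kernel.ι (ι ≫ lam1) ≫ ι ≫ mu)
  haveI := hj'
  haveI := he'
  have hj'e : ¬ Epi j' := fun h => hmu (by rw [← hfac']; exact epi_comp _ _)
  obtain ⟨p, hp, hvan⟩ := exists_vanish k (coh_of_free k hI') j' hj'e hdim
  let q := ClSub.toSubscheme (ptIdeal p hp)
  have hKq : kernel.ι (ι ≫ lam1) ≫ ι ≫ mu ≫ q = 0 := by
    have h := congrArg (e' ≫ ·) hvan
    simp only [comp_zero] at h
    rw [← Category.assoc, hfac', Category.assoc, Category.assoc] at h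
    exact h
  have hS := shortExact_kernel_of_epi (ι ≫ lam1)
  obtain ⟨t, ht⟩ : ∃ t : Coh.structureModule X ⟶ ClSub.quotMod (ptIdeal p hp), (ι ≫ lam1) ≫ t = ι ≫ mu ≫ q :=
    ⟨hS.exact.desc (ι ≫ mu ≫ q) hKq, hS.exact.g_desc _ _⟩
  have hQ1 : Module.finrank k (Coh.structureModule X ⟶ ClSub.quotMod (ptIdeal p hp)) = 1 := by
    rw [(LinearEquiv.ofBijective _ (RegEpi.evalOneLin_bijective k (ClSub.quotMod (ptIdeal p hp)))).finrank_eq]
    have h1 := euler_quot p hp k
    rw [CurveCohLib.euler_eq_finrank_zero (isCoh_quot p hp k) (closed_support p hp)] at h1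
    exact_mod_cast h1
  have hq0 : q ≠ 0 := fun h => by
    haveI : Epi q := epi_toSubscheme _
    have hz : IsZero (ClSub.quotMod (ptIdeal p hp)) := by
      rw [IsZero.iff_id_eq_zero, ← cancel_epi q, h]
      simp
    exact not_subsingleton_stalk p hp (ModuleCat.subsingleton_of_isZero ((DerSch.stalkFunctor X p).map_isZero hz))
  obtain ⟨c, hc⟩ := exists_smul_eq_of_finrank_eq_one hQ1 hq0 t
  refine ⟨mu - c • lam1, fun h => hmu0 ?_, fun h => ?_⟩
  · have h' := congrArg (kernel.ι (ι ≫ lam1) ≫ ·) h
    simp only [comp_zero, Preadditive.comp_sub, Linear.comp_smul, kernel.condition, smul_zero, sub_zero] at h'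
    exact h'
  · haveI := h
    have hzero : (ι ≫ (mu - c • lam1)) ≫ q = 0 := by
      rw [Preadditive.comp_sub, Preadditive.sub_comp, Linear.comp_smul, Linear.smul_comp,
        ← Linear.comp_smul, hc, ht, Category.assoc, sub_self]
    exact hq0 ((cancel_epi (ι ≫ (mu - c • lam1))).1 (hzero.trans comp_zero.symm))

include k hdim in
/-- The filtration. -/
theorem exists_filt : ∀ (r : ℕ) (N : X.Modules), FlatMod.IsFinLocFree N → rk N = r →
    ∀ (m : ℕ) (ι : N ⟶ FlatMod.freeMod X m), Mono ι → (∀ φ : Coh.structureModule X ⟶ N, φ = 0) →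
    ∃ (M : Fin (r + 1) → X.Modules) (f : (j : Fin r) → (M j.succ ⟶ M j.castSucc)),
      Nonempty (M 0 ≅ N) ∧ IsZero (M (Fin.last r)) ∧
        ∀ j : Fin r, Mono (f j) ∧ PicF.IsInvertible (cokernel (f j)) ∧ Curv2.deg k X (cokernel (f j)) 1 < 0 := by
  haveI := CurveCohLib.isNoetherian_of_proper (k := k) (X := X)
  intro r
  induction r with
  | zero =>
    intro N hN hrk m ι hι h0
    exact ⟨fun _ => N, fun j => Fin.elim0 j, ⟨Iso.refl N⟩, isZero_of_rk_zero hN hrk, fun j => Fin.elim0 j⟩
  | succ r ih =>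
    intro N hN hrk m ι hι h0
    haveI := hι
    obtain ⟨lam, hne, hnepi⟩ := exists_negative k hdim (r + 1) r.succ_pos N hN hrk m ι hι h0
    have hO1 := InvEnd.isFinLocFreeOfRank_one (CurveDeg.isInvertible_structureModule (X := X))
    obtain ⟨I, e, j, hj, he, hfac, hK, hI, hrk', -, hpos, hle⟩ :=
      exists_decomp k hdim.le hN (isFinLocFree_of_rank hO1) (ι ≫ lam)
    haveI := hj
    haveI := he
    rw [rk_eq hO1] at hle
    have hI1 : rk I = 1 := le_antisymm hle (hpos hne)
    have hje : ¬ IsIso j := fun h => hnepi (by rw [← hfac]; haveI := h; exact epi_comp _ _)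
    have hd : dg k I < 0 := by
      have h := dg_lt_of_rk_eq k hdim.le j (coh_of_free k hI) (coh_of_free k (isFinLocFree_of_rank hO1))
        (by rw [hI1, rk_eq hO1]) hje
      have h' : dg k (Coh.structureModule X) = 0 := by rw [dg, rk_eq hO1]; simp
      omega
    let g := kernel.ι (ι ≫ lam)
    obtain ⟨M, f, ⟨e0⟩, hlast, hf⟩ := ih (kernel (ι ≫ lam)) hK (by omega) m (g ≫ ι) (mono_comp _ _)
      (fun φ => (cancel_mono g).1 ((h0 (φ ≫ g)).trans zero_comp.symm))
    obtain ⟨c⟩ : Nonempty (cokernel (e0.hom ≫ g) ≅ I) := by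
      have hS : (ShortComplex.mk g e (by rw [← cancel_mono j, Category.assoc, hfac, kernel.condition, zero_comp])).Exact := by
        refine ShortComplex.exact_of_f_is_kernel _ (KernelFork.IsLimit.ofι' _ _ fun {A} u hu => ?_)
        exact ⟨kernel.lift (ι ≫ lam) u (by rw [← hfac, reassoc_of% hu, zero_comp]), kernel.lift_ι _ _ _⟩
      haveI : Epi (ShortComplex.mk g e (by rw [← cancel_mono j, Category.assoc, hfac, kernel.condition, zero_comp])).g := he
      exact ⟨cokernelEpiComp e0.hom g ≪≫ IsColimit.coconePointUniqueUpToIso (colimit.isColimit _) hS.gIsCokernel⟩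
    refine ⟨Fin.cons N M, fun j => Fin.cases (motive := fun j => (Fin.cons N M : Fin (r + 2) → X.Modules) j.succ ⟶
      (Fin.cons N M : Fin (r + 2) → X.Modules) j.castSucc) (e0.hom ≫ g) (fun i => f i) j, ⟨Iso.refl N⟩, hlast,
      fun j => ?_⟩
    refine Fin.cases ?_ (fun i => hf i) j
    have hIinv := CurveHom22.isInvertible_of_rk_one k hI hI1
    show Mono (e0.hom ≫ g) ∧ PicF.IsInvertible (cokernel (e0.hom ≫ g)) ∧ Curv2.deg k X (cokernel (e0.hom ≫ g)) 1 < 0
    refine ⟨mono_comp _ _, H23.PicMul.isInvertible_of_iso c.symm hIinv, ?_⟩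
    rw [deg_eq_dg k (InvEnd.isFinLocFreeOfRank_one (H23.PicMul.isInvertible_of_iso c.symm hIinv)), dg_congr k c]
    exact hd

end

/-- Let k be an algebraically closed field, C a curve over k (integral, proper over k, of dimension one,
all local rings regular), and N a locally free O_C-module of rank r which admits a monomorphism into
O_C^m for some m and has no nonzero global section. Then there is a filtration N = N_0 ⊃ N_1 ⊃ ⋯ ⊃
N_r = 0 whose successive quotients are invertible sheaves of strictly negative degree; it is given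
here as modules M_0, …, M_r with M_0 ≅ N, M_r = 0 and monomorphisms M_{j+1} → M_j whose cokernels
are invertible of negative degree. -/
theorem result (k : Type u) [Field k] [IsAlgClosed k]
    (C : Scheme.{u}) [C.Over (Spec (CommRingCat.of k))] [IsIntegral C] [IsProper (C ↘ (Spec (CommRingCat.of k)))]
    (hdim : topologicalKrullDim C = 1) (hreg : ∀ x : C, IsRegularLocalRing (C.presheaf.stalk x))
    (N : C.Modules) (r : ℕ) (hN : FlatMod.IsFinLocFreeOfRank r N) (m : ℕ) (ι : N ⟶ FlatMod.freeMod C m) [Mono ι]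
    (h0 : ∀ s : LinSer.Sect C N, s = 0) :
    ∃ (M : Fin (r + 1) → C.Modules) (f : (j : Fin r) → (M j.succ ⟶ M j.castSucc)),
      Nonempty (M 0 ≅ N) ∧ IsZero (M (Fin.last r)) ∧
        ∀ j : Fin r, Mono (f j) ∧ PicF.IsInvertible (cokernel (f j)) ∧ Curv2.deg k C (cokernel (f j)) 1 < 0 := by
  haveI := CurveCohLib.RegularCurve.smooth_of_regular k fun x _ => hreg x
  have hNf := CurveStable.isFinLocFree_of_rank hN
  refine exists_filt k hdim r N hNf (CurveBundle.rk_eq hN) m ι inferInstance fun φ => ?_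
  exact AmpleX.eq_zero_of_one_eq_zero _ (h0 _)

end Groth.Agent.S12913
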