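import Groth.Statements.S12914
import Groth.Agent.PlanePoints.Descent

set_option autoImplicit false
universe u
open CAlgX

namespace Groth.Agent.S12914

/-- Let k be a field, Z a finite set of nonzero vectors in k^3, regarded as points of the projective
plane, and I the homogeneous vanishing ideal of Z in k[x_0, x_1, x_2]: a polynomial belongs to I
exactly when every one of its homogeneous components vanishes at every vector of Z. If Z lies on a
curve of degree d, that is I contains a nonzero homogeneous form of degree d, then I is generated by
at most d + 1 elements. -/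
theorem result (k : Type u) [Field k]
    (Z : Finset (Fin 3 → k)) (hZ : ∀ p ∈ Z, p ≠ 0) (I : Ideal (MvPolynomial (Fin 3) k))
    (hI : ∀ f : MvPolynomial (Fin 3) k, f ∈ I ↔
      ∀ p ∈ Z, ∀ j : ℕ, MvPolynomial.eval p (MvPolynomial.homogeneousComponent j f) = 0)
    (d : ℕ) (hf : ∃ f ∈ I, MvPolynomial.IsHomogeneous f d ∧ f ≠ 0) :
    Submodule.spanFinrank I ≤ d + 1 := by
  obtain ⟨f, hfI, hf, hf0⟩ := hf
  exact PlanePoints.spanFinrank_le Z hZ I hI d f hfI hf hf0


end Groth.Agent.S12914
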