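import Groth.Statements.S12915
import Mathlib
import Groth.Agent.ComodLib.GradedAug

set_option autoImplicit false
universe u
open CAlgX

namespace Groth.Agent.S12915

/-- Let k be a field, S = k[x_0, …, x_r], and f a nonzero homogeneous polynomial of degree m. For every
t ≥ m the image in S/(f) of the homogeneous polynomials of degree t is a k-vector space of dimension
C(t + r, r) - C(t + r - m, r). (The published clause states that the hypersurface f = 0 in P^r has
degree m; its proof computes exactly this Hilbert function, whose polynomial has leading term m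
t^(r-1)/(r-1)!, and that computation is what is stated here.) -/
theorem result (k : Type u) [Field k] (r m : ℕ)
    (f : MvPolynomial (Fin (r + 1)) k) (hf : f.IsHomogeneous m) (hf0 : f ≠ 0) (t : ℕ) (ht : m ≤ t) :
    Module.finrank k
        (Submodule.map ((Ideal.Quotient.mkₐ k (Ideal.span {f})).toLinearMap)
          (MvPolynomial.homogeneousSubmodule (Fin (r + 1)) k t)) =
      Nat.choose (t + r) r - Nat.choose (t + r - m) r := by
  classical
  let H : ℕ → Submodule k (MvPolynomial (Fin (r + 1)) k) := fun n => MvPolynomial.homogeneousSubmodule (Fin (r + 1)) k n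
  have hdim : ∀ n, Module.Finite k (H n) ∧ Module.finrank k (H n) = Nat.choose (n + r) r := fun n => by
    obtain ⟨h1, h2⟩ := Groth.Agent.ComodLib.GradedAug.finrank_homogeneous (k := k) (r + 1) n
    refine ⟨h1, h2.trans ?_⟩
    rw [show r + 1 + n - 1 = n + r by omega]
    exact Nat.choose_symm_add
  haveI := (hdim t).1
  haveI := (hdim (t - m)).1
  let π := (Ideal.Quotient.mkₐ k (Ideal.span {f})).toLinearMap
  let q : H t →ₗ[k] MvPolynomial (Fin (r + 1)) k ⧸ Ideal.span {f} := π ∘ₗ (H t).subtype
  let j : H (t - m) →ₗ[k] H t := LinearMap.codRestrict (H t) (LinearMap.mul k _ f ∘ₗ (H (t - m)).subtype) fun p => by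
    have := hf.mul p.2
    rwa [Nat.add_sub_cancel' ht] at this
  have hj : Function.Injective j := fun p p' e => Subtype.ext (mul_left_cancel₀ hf0 (congrArg Subtype.val e))
  have hker : LinearMap.ker q = LinearMap.range j := by
    ext p
    constructor
    · intro hp
      have h1 : (p : MvPolynomial (Fin (r + 1)) k) ∈ Ideal.span {f} := Ideal.Quotient.eq_zero_iff_mem.1 hp
      obtain ⟨s, hs⟩ := Ideal.mem_span_singleton.1 h1
      refine ⟨⟨MvPolynomial.homogeneousComponent (t - m) s, MvPolynomial.homogeneousComponent_mem (t - m) s⟩, Subtype.ext ?_⟩
      show f * MvPolynomial.homogeneousComponent (t - m) s = p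
      have hsum := MvPolynomial.sum_homogeneousComponent s
      have h2 : MvPolynomial.homogeneousComponent t (f * s) = f * MvPolynomial.homogeneousComponent (t - m) s := by
        conv_lhs => rw [← hsum, Finset.mul_sum, map_sum]
        have : ∀ i, MvPolynomial.homogeneousComponent t (f * MvPolynomial.homogeneousComponent i s) =
            if i = t - m then f * MvPolynomial.homogeneousComponent i s else 0 := by
          intro i
          rw [MvPolynomial.homogeneousComponent_of_mem ((MvPolynomial.mem_homogeneousSubmodule _ _).2 (hf.mul (MvPolynomial.homogeneousComponent_isHomogeneous i s)))]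
          by_cases h : i = t - m
          · rw [if_pos (by omega), if_pos h]
          · rw [if_neg (by omega), if_neg h]
        simp only [this, Finset.sum_ite_eq']
        split_ifs with h
        · rfl
        · rw [MvPolynomial.homogeneousComponent_eq_zero _ _ (by simp at h; omega), mul_zero]
      rw [← h2, ← hs, MvPolynomial.homogeneousComponent_of_mem p.2, if_pos rfl]
    · rintro ⟨s, rfl⟩
      exact Ideal.Quotient.eq_zero_iff_mem.2 (Ideal.mul_mem_right _ _ (Ideal.mem_span_singleton_self f))
  have h := LinearMap.finrank_range_add_finrank_ker q
  rw [hker, LinearMap.finrank_range_of_inj hj, LinearMap.range_comp, Submodule.range_subtype, (hdim _).2, (hdim _).2] at h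
  rw [show t - m + r = t + r - m by omega] at h
  show Module.finrank k (Submodule.map π (H t)) = _
  omega


end Groth.Agent.S12915
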