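import Groth.Statements.S12916
import Mathlib

set_option autoImplicit false
universe u
open CAlgX

namespace Groth.Agent.S12916
open MvPolynomial in
theorem isFiniteLength_of_ass_maximal {R : Type*} [CommRing R] [IsNoetherianRing R] {N : Type*}
    [AddCommGroup N] [Module R N] [Module.Finite R N]
    (h : ∀ p ∈ associatedPrimes R N, p.IsMaximal) : IsFiniteLength R N := by
  let I := Module.annihilator R N
  have hmax : ∀ p : Ideal R, p.IsPrime → I ≤ p → p.IsMaximal := by
    intro p hp hIp
    obtain ⟨q, hq, hqp⟩ := Ideal.exists_minimalPrimes_le hIp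
    have hqm := h q (Module.associatedPrimes.minimalPrimes_annihilator_subset_associatedPrimes R N hq)
    obtain rfl := hqm.eq_of_le hp.ne_top hqp
    exact hqm
  have hdim : Ring.KrullDimLE 0 (R ⧸ I) := by
    refine Ring.KrullDimLE.mk₀ fun P hP => ?_
    have h1 := hmax (P.comap (Ideal.Quotient.mk I)) inferInstance
      (fun x hx => by rw [Ideal.mem_comap, Ideal.Quotient.eq_zero_iff_mem.2 hx]; exact P.zero_mem)
    rw [← Ideal.map_comap_of_surjective _ Ideal.Quotient.mk_surjective P]
    exact Ideal.IsMaximal.map_of_surjective_of_ker_le Ideal.Quotient.mk_surjective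
      (fun x hx => by
        rw [Ideal.mk_ker] at hx
        rw [Ideal.mem_comap, Ideal.Quotient.eq_zero_iff_mem.2 hx]; exact P.zero_mem)
  have : IsArtinianRing (R ⧸ I) :=
    isArtinianRing_iff_isNoetherianRing_krullDimLE_zero.2 ⟨inferInstance, hdim⟩
  let := Module.IsTorsionBySet.module
    (show Module.IsTorsionBySet R N I from fun n a => Module.mem_annihilator.1 a.2 n)
  have : IsScalarTower R (R ⧸ I) N := Module.IsTorsionBySet.isScalarTower _
  have : Module.Finite (R ⧸ I) N := Module.Finite.of_restrictScalars_finite R _ _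
  have : IsArtinian R N :=
    isArtinian_of_surjective_algebraMap (M := N) (Ideal.Quotient.mk_surjective : Function.Surjective (algebraMap R (R ⧸ I)))
  exact isFiniteLength_iff_isNoetherian_isArtinian.2 ⟨inferInstance, this⟩


/-- Let k be an infinite field, S = k[x_0, …, x_r], M a finitely generated S-module and d a natural
number. Then some nonzero homogeneous polynomial f of degree d is quasi-regular on M: the submodule
(0 :_M f) of elements of M annihilated by f has finite length. (The published statement assumes M
graded; this row assumes only that M is finitely generated.) -/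
theorem result (k : Type u) [Field k] [Infinite k] (r d : ℕ)
    (M : Type u) [AddCommGroup M] [Module (MvPolynomial (Fin (r + 1)) k) M] [Module.Finite (MvPolynomial (Fin (r + 1)) k) M] :
    ∃ f : MvPolynomial (Fin (r + 1)) k, f.IsHomogeneous d ∧ f ≠ 0 ∧
      IsFiniteLength (MvPolynomial (Fin (r + 1)) k) ↥(Submodule.torsionBy (MvPolynomial (Fin (r + 1)) k) M f) := by
  classical
  let S := MvPolynomial (Fin (r + 1)) k
  -- finitely many non-maximal associated primes
  have hfin : {p : Ideal S | p ∈ associatedPrimes S M ∧ ¬ p.IsMaximal}.Finite :=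
    (associatedPrimes.finite S M).subset fun p hp => hp.1
  let L : (Fin (r + 1) → k) →ₗ[k] S := Fintype.linearCombination k (fun i => MvPolynomial.X i)
  let W : Ideal S → Submodule k (Fin (r + 1) → k) := fun p => (p.restrictScalars k).comap L
  have hW : ∀ p, p.IsPrime → ¬ p.IsMaximal → W p ≠ ⊤ := by
    intro p hp hnm htop
    apply hnm
    have hX : ∀ i, (MvPolynomial.X i : S) ∈ p := fun i => by
      have h1 : (Pi.single i (1 : k)) ∈ W p := htop ▸ Submodule.mem_top
      simpa [W, L, Fintype.linearCombination_apply_single] using h1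
    have hle : RingHom.ker (MvPolynomial.constantCoeff : S →+* k) ≤ p := by
      intro f hf
      have h2 : Ideal.Quotient.mk p =
          ((Ideal.Quotient.mk p).comp MvPolynomial.C).comp MvPolynomial.constantCoeff := by
        refine MvPolynomial.ringHom_ext (fun a => by simp) fun i => ?_
        simp [Ideal.Quotient.eq_zero_iff_mem.2 (hX i)]
      rw [← Ideal.Quotient.eq_zero_iff_mem, h2]
      simp [RingHom.mem_ker.1 hf]
    have hmax : (RingHom.ker (MvPolynomial.constantCoeff : S →+* k)).IsMaximal :=
      RingHom.ker_isMaximal_of_surjective _ fun a => ⟨MvPolynomial.C a, by simp⟩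
    rw [← hmax.eq_of_le hp.ne_top hle]
    exact hmax
  let s : Finset (Submodule k (Fin (r + 1) → k)) := insert ⊥ (hfin.toFinset.image W)
  have hs : (⊤ : Submodule k (Fin (r + 1) → k)) ∉ s := by
    intro h
    rcases Finset.mem_insert.1 h with h | h
    · exact bot_ne_top h.symm
    · obtain ⟨p, hp, hpe⟩ := Finset.mem_image.1 h
      rw [Set.Finite.mem_toFinset] at hp
      exact hW p (IsAssociatedPrime.isPrime hp.1) hp.2 hpe
  obtain ⟨v, hv⟩ := (Set.ne_univ_iff_exists_notMem _).1 (Subspace.biUnion_ne_univ_of_top_notMem hs)
  simp only [Set.mem_iUnion, SetLike.mem_coe, exists_prop, not_exists, not_and] at hv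
  have hlin : (L v).IsHomogeneous 1 := by
    simp only [L, Fintype.linearCombination_apply]
    exact MvPolynomial.IsHomogeneous.sum _ _ _ fun i _ =>
      (MvPolynomial.homogeneousSubmodule (Fin (r + 1)) k 1).smul_mem _ (MvPolynomial.isHomogeneous_X k i)
  have hv0 : L v ≠ 0 := by
    intro h0
    have hv' : v ∉ (⊥ : Submodule k (Fin (r + 1) → k)) := hv ⊥ (Finset.mem_insert_self _ _)
    apply hv'
    rw [Submodule.mem_bot]
    funext i
    have := congrArg (MvPolynomial.aeval (Pi.single i (1 : k) : Fin (r + 1) → k)) h0
    simpa [L, Fintype.linearCombination_apply, Pi.single_apply] using this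
  refine ⟨(L v) ^ d, by simpa using hlin.pow d, pow_ne_zero _ hv0, ?_⟩
  have : IsNoetherian S M := inferInstance
  refine isFiniteLength_of_ass_maximal fun p hp => ?_
  by_contra hnm
  have hpM : p ∈ associatedPrimes S M :=
    associatedPrimes.subset_of_injective (Submodule.injective_subtype _) hp
  have hfp : (L v) ^ d ∈ p := by
    obtain ⟨hpp, x, hx⟩ := isAssociatedPrime_iff.1 hp
    rw [hx, Submodule.mem_colon_singleton, Submodule.mem_bot]
    exact Subtype.ext ((Submodule.mem_torsionBy_iff _ _).1 x.2)
  have : p.IsPrime := IsAssociatedPrime.isPrime hp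
  exact hv (W p) (Finset.mem_insert_of_mem (Finset.mem_image_of_mem W (hfin.mem_toFinset.2 ⟨hpM, hnm⟩)))
    (this.mem_of_pow_mem d hfp)


end Groth.Agent.S12916
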