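import Groth.Statements.S12917
import Groth.Agent.LC.PdRegular
import Groth.Agent.LC.Depth
import Groth.Agent.PlanePoints.Descent

set_option autoImplicit false
universe u
open CAlgX

namespace Groth.Agent.S12917
open MvPolynomial
variable {k : Type u} [Field k]

abbrev S3 (k : Type u) [Field k] := MvPolynomial (Fin 3) k

/-- The degree `N` component of a vector in the shifted free module. -/
noncomputable def vcomp {n : ℕ} (e : Fin n → ℕ) (N : ℕ) (v : Fin n → S3 k) : Fin n → S3 k :=
  fun i => if e i ≤ N then homogeneousComponent (N - e i) (v i) else 0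

lemma vcomp_add {n : ℕ} (e : Fin n → ℕ) (N : ℕ) (v w : Fin n → S3 k) :
    vcomp e N (v + w) = vcomp e N v + vcomp e N w := by
  ext1 i
  simp only [vcomp, Pi.add_apply]
  split_ifs <;> simp

lemma vcomp_sum {n : ℕ} (e : Fin n → ℕ) (N : ℕ) {ι : Type*} (s : Finset ι) (v : ι → Fin n → S3 k) :
    vcomp e N (∑ c ∈ s, v c) = ∑ c ∈ s, vcomp e N (v c) := by
  classical
  induction s using Finset.induction_on with
  | empty => ext1 i; simp [vcomp]
  | insert c s hc ih => rw [Finset.sum_insert hc, vcomp_add, ih, Finset.sum_insert hc]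

lemma exists_vcomp_sum {n : ℕ} (e : Fin n → ℕ) (v : Fin n → S3 k) :
    ∃ B : ℕ, v = ∑ N ∈ Finset.range B, vcomp e N v := by
  classical
  let D := Finset.univ.sup fun i => e i + (v i).totalDegree
  refine ⟨D + 1, funext fun i => ?_⟩
  rw [Finset.sum_apply]
  conv_lhs => rw [← sum_homogeneousComponent (v i)]
  symm
  have hD : e i + (v i).totalDegree ≤ D :=
    Finset.le_sup (f := fun i => e i + (v i).totalDegree) (Finset.mem_univ i)
  calc ∑ N ∈ Finset.range (D + 1), vcomp e N v i
      = ∑ N ∈ (Finset.range ((v i).totalDegree + 1)).image (e i + ·), vcomp e N v i := by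
        refine (Finset.sum_subset (fun N hN => ?_) fun N _ hN => ?_).symm
        · obtain ⟨j, hj, rfl⟩ := Finset.mem_image.mp hN
          have := Finset.mem_range.mp hj
          exact Finset.mem_range.mpr (by omega)
        · simp only [vcomp]
          split_ifs with h
          · refine homogeneousComponent_eq_zero _ _ ?_
            by_contra hle
            exact hN (Finset.mem_image.mpr ⟨N - e i, Finset.mem_range.mpr (by omega), by omega⟩)
          · rfl
    _ = ∑ j ∈ Finset.range ((v i).totalDegree + 1), homogeneousComponent j (v i) := by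
        rw [Finset.sum_image fun a _ b _ h => Nat.add_left_cancel h]
        refine Finset.sum_congr rfl fun j _ => ?_
        simp [vcomp]

lemma vcomp_vcomp {n : ℕ} (e : Fin n → ℕ) (N : ℕ) (v : Fin n → S3 k) :
    vcomp e N (vcomp e N v) = vcomp e N v := by
  ext1 i
  simp only [vcomp]
  split_ifs with h
  · exact homogeneousComponent_eq_self (homogeneousComponent_isHomogeneous (φ := v i) (n := N - e i))
  · rfl

lemma vcomp_smul {n : ℕ} (e : Fin n → ℕ) (N M : ℕ) (a : S3 k) (v : Fin n → S3 k) (hv : vcomp e M v = v) :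
    vcomp e N (a • v) = if M ≤ N then homogeneousComponent (N - M) a • v else 0 := by
  ext1 i
  have hi := congrFun hv i
  simp only [vcomp, Pi.smul_apply, smul_eq_mul] at hi ⊢
  by_cases hvi : v i = 0
  · split_ifs <;> simp [hvi]
  by_cases he : e i ≤ M
  · rw [if_pos he] at hi
    have hh : (v i).IsHomogeneous (M - e i) := by
      have := homogeneousComponent_isHomogeneous (φ := v i) (n := M - e i)
      rwa [hi] at this
    rw [PlanePoints.component_mul hh]
    by_cases hle : M ≤ N
    · rw [if_pos (he.trans hle), if_pos (show M - e i ≤ N - e i by omega), if_pos hle,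
        show N - e i - (M - e i) = N - M by omega]
      rfl
    · rw [if_neg hle, Pi.zero_apply]
      split_ifs <;> first | rfl | omega
  · rw [if_neg he] at hi
    exact absurd hi.symm hvi

lemma homogeneousComponent_map_pi {n : ℕ} (e : Fin n → ℕ) (g : Fin n → S3 k)
    (hg : ∀ i, (g i).IsHomogeneous (e i)) (N : ℕ) (v : Fin n → S3 k) :
    ∑ i, vcomp e N v i * g i = homogeneousComponent N (∑ i, v i * g i) := by
  rw [map_sum]
  refine Finset.sum_congr rfl fun i _ => ?_
  rw [PlanePoints.component_mul (hg i)]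
  simp only [vcomp]
  split_ifs <;> simp

/-- The irrelevant ideal. -/
noncomputable abbrev irr (k : Type u) [Field k] : Ideal (S3 k) := RingHom.ker (constantCoeff : S3 k →+* k)

instance irr_max : (irr k).IsMaximal :=
  RingHom.ker_isMaximal_of_surjective _ fun c => ⟨C c, constantCoeff_C _ c⟩

lemma X_mem_irr (i : Fin 3) : (X i : S3 k) ∈ irr k := constantCoeff_X _ i

lemma height_irr_le : (irr k).height ≤ 3 := by
  have h : irr k = Ideal.span (Set.range (X : Fin 3 → S3 k)) := by
    apply le_antisymm
    · intro f hf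
      have h2 : f ∈ idealOfVars (Fin 3) k := by
        rw [← pow_one (idealOfVars (Fin 3) k), mem_pow_idealOfVars_iff']
        intro m hm
        rw [Nat.lt_one_iff, Finsupp.degree_eq_zero_iff] at hm
        subst hm
        rw [← constantCoeff_eq]
        exact hf
      exact h2
    · rw [Ideal.span_le]; rintro _ ⟨i, rfl⟩; exact X_mem_irr i
  refine ((irr k).height_le_spanFinrank (Ideal.IsPrime.ne_top inferInstance)).trans ?_
  rw [h]
  have h3 : (Ideal.span (Set.range (X : Fin 3 → S3 k))).spanFinrank ≤ 3 :=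
    (Submodule.spanFinrank_span_le_ncard_of_finite (Set.finite_range _)).trans
      (by rw [← Set.image_univ]; exact (Set.ncard_image_le Set.finite_univ).trans (by simp))
  exact_mod_cast h3

/-- The depth input: no `m`-torsion. -/
lemma pd_le_two {A : Type u} [CommRing A] [IsRegularLocalRing A] (hdim : ringKrullDim A ≤ 3)
    (M : Type u) [AddCommGroup M] [Module A M] [Module.Finite A M]
    (htor : ∀ (x : M) (n : ℕ), (∀ a ∈ IsLocalRing.maximalIdeal A ^ n, a • x = 0) → x = 0) :
    RegLoc6.PdLE A 2 M := by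
  obtain ⟨d, hd⟩ : ∃ d : ℕ, ringKrullDim A = d := by
    obtain ⟨v, hv⟩ := WithBot.ne_bot_iff_exists.mp (ringKrullDim_ne_bot (R := A))
    obtain ⟨d, rfl⟩ := ENat.ne_top_iff_exists.mp (fun h : v = ⊤ => by
      rw [← hv, h] at hdim
      exact absurd (WithBot.coe_le_coe.mp hdim) (by simp))
    exact ⟨d, hv.symm⟩
  have hd3 : d ≤ 3 := by rw [hd] at hdim; exact_mod_cast hdim
  have h1 : ((1 : ℕ) : ℕ∞) ≤ LocCoh.idealDepth (IsLocalRing.maximalIdeal A) M := by
    refine (LC.le_idealDepth_iff_H (IsLocalRing.maximalIdeal A) M 1).2 fun i hi => ?_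
    obtain rfl : i = 0 := by omega
    refine (LC.subsingleton_H0_iff _ (ModuleCat.of A M)).2 ((Submodule.eq_bot_iff _).2 ?_)
    rintro x ⟨n, hn⟩
    exact htor x n hn
  refine LC.pdLE_of_le_depth A d hd M 2 ?_
  have h2 : (d : ℕ∞) ≤ (1 : ℕ) + (2 : ℕ) := by exact_mod_cast (by omega : d ≤ 1 + 2)
  exact h2.trans (add_le_add h1 le_rfl)

/-- The algebraic core: the syzygies of homogeneous generators are free. -/
lemma exists_free_syzygy {n : ℕ} (e : Fin n → ℕ) (g : Fin n → S3 k) (hg : ∀ i, (g i).IsHomogeneous (e i))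
    (hsat : ∀ f : S3 k, (∀ i, ∃ (t : S3 k) (N : ℕ), t ∉ irr k ∧ t * (X i ^ N * f) ∈ Ideal.span (Set.range g)) →
      ∃ t ∉ irr k, t * f ∈ Ideal.span (Set.range g)) :
    ∃ (t : ℕ) (c : Fin t → Fin n → S3 k), LinearIndependent (S3 k) c ∧
      Submodule.span (S3 k) (Set.range c) = LinearMap.ker (Fintype.linearCombination (S3 k) g) := by
  classical
  let π := Fintype.linearCombination (S3 k) g
  have hπ : ∀ v, π v = ∑ i, v i * g i := fun v => by simp [π, Fintype.linearCombination_apply]
  let K := LinearMap.ker π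
  have hcompK : ∀ N v, v ∈ K → vcomp e N v ∈ K := by
    intro N v hv
    rw [LinearMap.mem_ker, hπ, homogeneousComponent_map_pi e g hg, ← hπ, LinearMap.mem_ker.mp hv, map_zero]
  obtain ⟨T, hT⟩ := (inferInstance : IsNoetherian (S3 k) (Fin n → S3 k)).noetherian K
  let good : Finset (Fin n → S3 k) → Prop := fun H =>
    (∀ h ∈ H, h ∈ K ∧ ∃ M, vcomp e M h = h) ∧ K ≤ Submodule.span (S3 k) (H : Set (Fin n → S3 k))
  choose B hB using fun v : Fin n → S3 k => exists_vcomp_sum e v
  have hgood0 : good (T.biUnion fun v => (Finset.range (B v)).image fun N => vcomp e N v) := by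
    refine ⟨fun h hh => ?_, ?_⟩
    · obtain ⟨v, hv, hh⟩ := Finset.mem_biUnion.mp hh
      obtain ⟨N, -, rfl⟩ := Finset.mem_image.mp hh
      exact ⟨hcompK N v (hT ▸ Submodule.subset_span hv), N, vcomp_vcomp e N v⟩
    · rw [← hT, Submodule.span_le]
      intro v hv
      rw [SetLike.mem_coe, hB v]
      exact sum_mem fun N hN => Submodule.subset_span
        (Finset.mem_biUnion.mpr ⟨v, hv, Finset.mem_image_of_mem _ hN⟩)
  obtain ⟨H, hH, hmin⟩ := exists_minimal_of_wellFoundedLT good ⟨_, hgood0⟩
  let c : Fin H.card → Fin n → S3 k := fun j => (H.equivFin.symm j : Fin n → S3 k)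
  have hrange : Set.range c = (H : Set (Fin n → S3 k)) := by
    ext v
    constructor
    · rintro ⟨j, rfl⟩; exact (H.equivFin.symm j).2
    · intro hv; exact ⟨H.equivFin ⟨v, hv⟩, by simp [c]⟩
  have hspan : Submodule.span (S3 k) (Set.range c) = K := by
    rw [hrange]
    exact le_antisymm (Submodule.span_le.mpr fun h hh => (hH.1 h hh).1) hH.2
  -- every relation has all coefficients in the irrelevant ideal
  have hrel : ∀ a : Fin H.card → S3 k, ∑ j, a j • c j = 0 → ∀ j, a j ∈ irr k := by
    intro a ha j0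
    by_contra hj0
    let c0 := c j0
    obtain ⟨M0, hM0⟩ := (hH.1 c0 (H.equivFin.symm j0).2).2
    have hmemerase : ∀ j ≠ j0, c j ∈ H.erase c0 := fun j hj => Finset.mem_erase.mpr
      ⟨fun h => hj (H.equivFin.symm.injective (Subtype.ext h)), (H.equivFin.symm j).2⟩
    have h1 : vcomp e M0 (∑ j, a j • c j) = 0 := by rw [ha]; ext1 i; simp [vcomp]
    rw [vcomp_sum, ← Finset.add_sum_erase _ _ (Finset.mem_univ j0), vcomp_smul e M0 M0 _ _ hM0,
      if_pos le_rfl, Nat.sub_self, homogeneousComponent_zero, add_eq_zero_iff_eq_neg] at h1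
    have hmem : c j0 ∈ Submodule.span (S3 k) ((H.erase c0 : Finset _) : Set (Fin n → S3 k)) := by
      have hu : coeff 0 (a j0) ≠ 0 := fun h => hj0 (by rw [RingHom.mem_ker, constantCoeff_eq]; exact h)
      have h2 : c j0 = (C (coeff 0 (a j0))⁻¹ : S3 k) • ((C (coeff 0 (a j0)) : S3 k) • c j0) := by
        rw [smul_smul, ← C_mul, inv_mul_cancel₀ hu, C_1, one_smul]
      rw [h2, h1]
      refine Submodule.smul_mem _ _ (neg_mem (sum_mem fun j hj => ?_))
      obtain ⟨Mj, hMj⟩ := (hH.1 (c j) (H.equivFin.symm j).2).2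
      rw [vcomp_smul e M0 Mj _ _ hMj]
      split_ifs
      · exact Submodule.smul_mem _ _ (Submodule.subset_span (hmemerase j (Finset.ne_of_mem_erase hj)))
      · exact zero_mem _
    have hg' : good (H.erase c0) := by
      refine ⟨fun h hh => hH.1 h (Finset.mem_of_mem_erase hh), hH.2.trans (Submodule.span_le.mpr fun h hh => ?_)⟩
      by_cases he : h = c0
      · rw [he]; exact hmem
      · exact Submodule.subset_span (Finset.mem_erase.mpr ⟨he, hh⟩)
    exact (Finset.mem_erase.mp ((hmin hg' (Finset.erase_subset _ _)) (H.equivFin.symm j0).2)).1 rfl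
  refine ⟨H.card, c, ?_, hspan⟩
  -- localise at the irrelevant ideal
  let A := Localization.AtPrime (irr k)
  haveI : IsRegularLocalRing A := IsRegularRing.isRegularLocalRing_localization (irr k)
  have hdimA : ringKrullDim A ≤ 3 := by
    rw [IsLocalization.AtPrime.ringKrullDim_eq_height (irr k) A]
    exact WithBot.coe_le_coe.mpr (height_irr_le (k := k))
  let ι : S3 k →+* A := algebraMap _ A
  have hιinj : Function.Injective ι :=
    IsLocalization.injective A (Ideal.primeCompl_le_nonZeroDivisors (irr k))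
  let gA : Fin n → A := fun i => ι (g i)
  let πA := Fintype.linearCombination A gA
  let J : Ideal A := LinearMap.range πA
  have hJ : J = (Ideal.span (Set.range g)).map ι := by
    rw [Ideal.map_span, ← Set.range_comp]
    exact Fintype.range_linearCombination A gA
  have htor : ∀ (x : A ⧸ J) (N : ℕ), (∀ a ∈ IsLocalRing.maximalIdeal A ^ N, a • x = 0) → x = 0 := by
    intro x N hx
    obtain ⟨y, rfl⟩ := Ideal.Quotient.mk_surjective x
    obtain ⟨f, s, rfl⟩ := IsLocalization.exists_mk'_eq (irr k).primeCompl y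
    have key : ∀ i, ∃ (t : S3 k) (M : ℕ), t ∉ irr k ∧ t * (X i ^ M * f) ∈ Ideal.span (Set.range g) := by
      intro i
      have hX : ι (X i) ^ N ∈ IsLocalRing.maximalIdeal A ^ N := Ideal.pow_mem_pow
        (by rw [← Localization.AtPrime.map_eq_maximalIdeal]; exact Ideal.mem_map_of_mem _ (X_mem_irr i)) N
      have h := hx _ hX
      rw [← Ideal.Quotient.mk_eq_mk, ← Submodule.Quotient.mk_smul, Submodule.Quotient.mk_eq_zero,
        smul_eq_mul] at h
      have h2 : ι (X i ^ N * f) ∈ J := by
        have := J.mul_mem_right (ι s) h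
        rwa [mul_assoc, IsLocalization.mk'_spec, ← map_pow, ← map_mul] at this
      rw [hJ, IsLocalization.algebraMap_mem_map_algebraMap_iff (irr k).primeCompl] at h2
      obtain ⟨t, ht, htm⟩ := h2
      exact ⟨t, N, ht, htm⟩
    obtain ⟨t, ht, htf⟩ := hsat f key
    rw [← Ideal.Quotient.mk_eq_mk, Submodule.Quotient.mk_eq_zero, hJ,
      IsLocalization.mk'_mem_map_algebraMap_iff]
    exact ⟨t, ht, htf⟩
  have hpd : RegLoc6.PdLE A 2 (A ⧸ J) := pd_le_two hdimA (A ⧸ J) htor
  have hpd1 : RegLoc6.PdLE A 1 (LinearMap.ker (Submodule.mkQ J)) :=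
    (RegLoc6.pdLE_succ_iff (Submodule.mkQ J) (Submodule.mkQ_surjective _)).1 hpd
  let π1 : (Fin n → A) →ₗ[A] LinearMap.ker (Submodule.mkQ J) :=
    LinearMap.codRestrict _ πA fun v => by rw [Submodule.ker_mkQ]; exact ⟨v, rfl⟩
  have hπ1 : Function.Surjective π1 := fun z => by
    obtain ⟨v, hv⟩ := (Submodule.ker_mkQ J).le z.2
    exact ⟨v, Subtype.ext hv⟩
  have hpd0 : RegLoc6.PdLE A 0 (LinearMap.ker π1) := (RegLoc6.pdLE_succ_iff π1 hπ1).1 hpd1
  haveI : Module.Projective A (LinearMap.ker π1) := RegLoc6.pdLE_zero_iff.1 hpd0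
  let cA : Fin H.card → Fin n → A := fun j i => ι (c j i)
  have hcK : ∀ j, ∑ i, c j i * g i = 0 := fun j => by
    rw [← hπ]; exact hspan.le (Submodule.subset_span ⟨j, rfl⟩)
  have hmem1 : ∀ w, Fintype.linearCombination A cA w ∈ LinearMap.ker π1 := by
    intro w
    rw [Fintype.linearCombination_apply]
    refine sum_mem fun j _ => Submodule.smul_mem _ _ (Subtype.ext ?_)
    simp only [π1, LinearMap.codRestrict_apply, πA, Fintype.linearCombination_apply, cA, gA, smul_eq_mul,
      Submodule.coe_zero, ← map_mul, ← map_sum, hcK j, map_zero]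
  let φ : (Fin H.card → A) →ₗ[A] LinearMap.ker π1 := LinearMap.codRestrict _ (Fintype.linearCombination A cA) hmem1
  have hφ : Function.Surjective φ := by
    rintro ⟨v, hv⟩
    obtain ⟨s, hs⟩ := IsLocalization.exist_integer_multiples_of_finite (irr k).primeCompl v
    choose u hu using hs
    have hv0 : ∑ i, v i * gA i = 0 := by
      have h := congrArg Subtype.val (LinearMap.mem_ker.mp hv)
      simpa [π1, πA, Fintype.linearCombination_apply] using h
    have hu0 : π u = 0 := hιinj (by
      rw [hπ, map_zero, map_sum]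
      have h : ∀ i, ι (u i * g i) = ι s * (v i * gA i) := fun i => by
        rw [map_mul, hu i, Algebra.smul_def]; simp only [gA]; ring
      simp only [h, ← Finset.mul_sum, hv0, mul_zero])
    obtain ⟨w, hw⟩ := (Submodule.mem_span_range_iff_exists_fun (S3 k)).mp (hspan.symm.le (LinearMap.mem_ker.mpr hu0))
    refine ⟨fun j => IsLocalization.mk' A (w j) s, Subtype.ext (funext fun i => ?_)⟩
    change (Fintype.linearCombination A cA _) i = v i
    rw [Fintype.linearCombination_apply, Finset.sum_apply]
    refine (IsLocalization.map_units A s).mul_left_cancel ?_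
    have h2 : ι (u i) = ι s * v i := by rw [hu i, Algebra.smul_def]
    rw [Finset.mul_sum, ← h2, ← hw, Finset.sum_apply, map_sum]
    refine Finset.sum_congr rfl fun j _ => ?_
    simp only [Pi.smul_apply, smul_eq_mul, map_mul, cA]
    rw [← mul_assoc, IsLocalization.mk'_spec']
  obtain ⟨sec, hsec⟩ := Module.projective_lifting_property φ LinearMap.id hφ
  let r : (Fin H.card → A) →ₗ[A] (Fin H.card → A) := LinearMap.id - sec ∘ₗ φ
  let N := LinearMap.ker φ
  have hr : ∀ v, r v ∈ N := fun v => by
    rw [LinearMap.mem_ker]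
    have := LinearMap.congr_fun hsec (φ v)
    simp only [LinearMap.comp_apply, LinearMap.id_apply] at this
    simp [r, this]
  have hNm : ∀ v ∈ N, ∀ j, v j ∈ IsLocalRing.maximalIdeal A := by
    intro v hv j
    obtain ⟨s, hs⟩ := IsLocalization.exist_integer_multiples_of_finite (irr k).primeCompl v
    choose u hu using hs
    have hv0 : ∀ i, ∑ j, v j * cA j i = 0 := fun i => by
      have h : Fintype.linearCombination A cA v i = 0 :=
        congrFun (congrArg Subtype.val (LinearMap.mem_ker.mp hv)) i
      simpa [Fintype.linearCombination_apply, Finset.sum_apply] using h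
    have hz : ∑ j, u j • c j = 0 := funext fun i => hιinj (by
      rw [Finset.sum_apply, Pi.zero_apply, map_zero, map_sum]
      have h : ∀ j, ι ((u j • c j) i) = ι s * (v j * cA j i) := fun j => by
        rw [Pi.smul_apply, smul_eq_mul, map_mul, hu j, Algebra.smul_def]; simp only [cA]; ring
      simp only [h, ← Finset.mul_sum, hv0 i, mul_zero])
    have h1 : ι s * v j ∈ IsLocalRing.maximalIdeal A := by
      have h2 : ι (u j) = ι s * v j := by rw [hu j, Algebra.smul_def]
      rw [← h2, ← Localization.AtPrime.map_eq_maximalIdeal]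
      exact Ideal.mem_map_of_mem _ (hrel u hz j)
    exact (IsLocalRing.maximalIdeal.isMaximal A).isPrime.mem_or_mem h1 |>.resolve_left
      fun hm => (IsLocalRing.mem_maximalIdeal _).mp hm (IsLocalization.map_units A s)
  have hN0 : N = ⊥ := by
    refine Submodule.eq_bot_of_le_smul_of_le_jacobson_bot (IsLocalRing.maximalIdeal A) N
      (IsNoetherian.noetherian N) (fun v hv => ?_) (IsLocalRing.maximalIdeal_le_jacobson _)
    have hrv : r v = v := by simp [r, LinearMap.mem_ker.mp hv]
    have hsum : v = ∑ j, v j • (Pi.single j (1 : A) : Fin H.card → A) := by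
      ext i; simp [Finset.sum_apply, Pi.single_apply]
    rw [← hrv, hsum, map_sum]
    exact sum_mem fun j _ => by
      rw [map_smul]; exact Submodule.smul_mem_smul (hNm v hv j) (hr _)
  rw [Fintype.linearIndependent_iff]
  intro a ha j
  have hv : (fun j => ι (a j)) ∈ N := by
    rw [LinearMap.mem_ker]
    refine Subtype.ext (funext fun i => ?_)
    change Fintype.linearCombination A cA _ i = 0
    have h := congrArg ι (congrFun ha i)
    simpa [Fintype.linearCombination_apply, Finset.sum_apply, cA] using h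
  rw [hN0, Submodule.mem_bot] at hv
  exact hιinj ((congrFun hv j).trans (map_zero ι).symm)


/-- Let k be a field, Z a finite set of nonzero vectors in k^3, regarded as points of the projective
plane, and I the homogeneous vanishing ideal of Z in S = k[x_0, x_1, x_2]: a polynomial belongs to I
exactly when each of its homogeneous components vanishes at every vector of Z. Then I has a free
resolution of length one: for some t there are a (t+1) × t matrix Ψ over S, injective as a map S^t →
S^{t+1}, and an S-linear map π : S^{t+1} → S with ker π = im Ψ and im π = I. (The published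
statement speaks of the minimal free resolution of I having length 1; stated here as the existence
of such a resolution.) -/
theorem result (k : Type u) [Field k]
    (Z : Finset (Fin 3 → k)) (hZ : ∀ p ∈ Z, p ≠ 0) (I : Ideal (MvPolynomial (Fin 3) k))
    (hI : ∀ f : MvPolynomial (Fin 3) k, f ∈ I ↔
      ∀ p ∈ Z, ∀ j : ℕ, MvPolynomial.eval p (MvPolynomial.homogeneousComponent j f) = 0) :
    ∃ (t : ℕ) (Ψ : Matrix (Fin (t + 1)) (Fin t) (MvPolynomial (Fin 3) k)) (π : (Fin (t + 1) → MvPolynomial (Fin 3) k) →ₗ[MvPolynomial (Fin 3) k] MvPolynomial (Fin 3) k),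
      LinearMap.ker Ψ.mulVecLin = ⊥ ∧ LinearMap.ker π = LinearMap.range Ψ.mulVecLin ∧ LinearMap.range π = I := by
  classical
  have hIhom : ∀ (f : MvPolynomial (Fin 3) k) (m : ℕ), f.IsHomogeneous m → (f ∈ I ↔ ∀ p ∈ Z, eval p f = 0) :=
    fun f m hf => (hI f).trans (PlanePoints.inI_iff_of_homogeneous hf)
  -- homogeneous generators
  obtain ⟨T, hT⟩ := (inferInstance : IsNoetherian (MvPolynomial (Fin 3) k) (MvPolynomial (Fin 3) k)).noetherian I
  let H₀ : Finset (MvPolynomial (Fin 3) k) :=
    T.biUnion fun t => (Finset.range (t.totalDegree + 1)).image fun n => homogeneousComponent n t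
  have hH : ∀ h ∈ H₀, h ∈ I ∧ ∃ e, h.IsHomogeneous e := by
    intro h hh
    obtain ⟨t, ht, hh⟩ := Finset.mem_biUnion.1 hh
    obtain ⟨n, -, rfl⟩ := Finset.mem_image.1 hh
    exact ⟨(hI _).2 (PlanePoints.inI_component ((hI t).1 (hT ▸ Ideal.subset_span ht)) n),
      n, homogeneousComponent_isHomogeneous (φ := t) (n := n)⟩
  let g : Fin H₀.card → MvPolynomial (Fin 3) k := fun i => (H₀.equivFin.symm i : MvPolynomial (Fin 3) k)
  have hgI : Ideal.span (Set.range g) = I := by
    have hr : Set.range g = (H₀ : Set (MvPolynomial (Fin 3) k)) := by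
      ext v
      exact ⟨fun ⟨j, hj⟩ => hj ▸ (H₀.equivFin.symm j).2, fun hv => ⟨H₀.equivFin ⟨v, hv⟩, by simp [g]⟩⟩
    rw [hr]
    refine le_antisymm (Ideal.span_le.2 fun h hh => (hH h hh).1) ?_
    rw [← hT]
    refine Ideal.span_le.2 fun t ht => ?_
    rw [← sum_homogeneousComponent t]
    exact Ideal.sum_mem _ fun n hn => Ideal.subset_span
      (Finset.mem_biUnion.2 ⟨t, ht, Finset.mem_image_of_mem _ hn⟩)
  choose e he using fun i => (hH (g i) (H₀.equivFin.symm i).2).2
  have hsat : ∀ f : MvPolynomial (Fin 3) k, (∀ i, ∃ (t : MvPolynomial (Fin 3) k) (N : ℕ), t ∉ irr k ∧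
      t * (X i ^ N * f) ∈ Ideal.span (Set.range g)) → ∃ t ∉ irr k, t * f ∈ Ideal.span (Set.range g) := by
    intro f hf
    choose t N ht hmem using hf
    refine ⟨∏ i, t i, fun h => ?_, ?_⟩
    · obtain ⟨i, -, hi⟩ := Ideal.IsPrime.prod_mem_iff.mp h
      exact ht i hi
    rw [hgI] at hmem ⊢
    rw [hI]
    intro p hp j
    obtain ⟨i, hi⟩ := Function.ne_iff.mp (hZ p hp)
    have h1 : (∏ i, t i) * (X i ^ N i * f) ∈ I := by
      rw [← Finset.prod_erase_mul _ _ (Finset.mem_univ i), mul_assoc]
      exact Ideal.mul_mem_left _ _ (hmem i)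
    have h2 := (hI _).1 h1 p hp (j + N i)
    rw [show (∏ i, t i) * (X i ^ N i * f) = (∏ i, t i) * f * X i ^ N i by ring,
      PlanePoints.component_mul (isHomogeneous_X_pow i (N i)),
      if_pos (Nat.le_add_left _ _), Nat.add_sub_cancel, map_mul, map_pow, eval_X] at h2
    exact (mul_eq_zero.mp h2).resolve_right (pow_ne_zero _ hi)
  obtain ⟨t, c, hli, hspan⟩ := exists_free_syzygy e g he hsat
  have hrange : LinearMap.range (Fintype.linearCombination (MvPolynomial (Fin 3) k) g) = I := by
    rw [Fintype.range_linearCombination]; exact hgI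
  -- `I` is nonzero
  have hI0 : I ≠ ⊥ := by
    have hL : ∀ p ∈ Z, ∃ L : MvPolynomial (Fin 3) k, L.IsHomogeneous 1 ∧ L ≠ 0 ∧ eval p L = 0 := by
      intro p hp
      obtain ⟨a, ha⟩ := Function.ne_iff.mp (hZ p hp)
      obtain ⟨b, hb⟩ : ∃ b : Fin 3, b ≠ a := exists_ne a
      refine ⟨C (p a) * X b - C (p b) * X a, ?_, ?_, ?_⟩
      · exact ((isHomogeneous_X k b).C_mul _).sub ((isHomogeneous_X k a).C_mul _)
      · intro h
        have h2 := congrArg (coeff (Finsupp.single b 1)) h
        rw [coeff_sub, coeff_C_mul, coeff_C_mul, coeff_X', coeff_X', if_pos rfl, if_neg, coeff_zero] at h2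
        · simp at h2; exact ha h2
        · exact fun h3 => hb ((Finsupp.single_left_inj one_ne_zero).mp h3).symm
      · rw [map_sub, map_mul, map_mul, eval_C, eval_C, eval_X, eval_X]; ring
    choose L hL1 hL2 hL3 using hL
    let F : MvPolynomial (Fin 3) k := X 0 * ∏ p : Z, L p.1 p.2
    have hFh : F.IsHomogeneous (1 + ∑ _p : Z, 1) :=
      (isHomogeneous_X k 0).mul (IsHomogeneous.prod _ _ _ fun p _ => hL1 p.1 p.2)
    intro hbot
    have hF : F ∈ I := (hIhom F _ hFh).2 fun p hp => by
      simp only [F, map_mul, map_prod]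
      rw [Finset.prod_eq_zero (Finset.mem_univ (⟨p, hp⟩ : Z)) (hL3 p hp), mul_zero]
    rw [hbot, Ideal.mem_bot] at hF
    exact mul_ne_zero (X_ne_zero 0) (Finset.prod_ne_zero_iff.mpr fun p _ => hL2 p.1 p.2) hF
  -- ranks
  have hn : H₀.card = t + 1 := by
    have hK : Module.finrank (MvPolynomial (Fin 3) k) (LinearMap.ker (Fintype.linearCombination (MvPolynomial (Fin 3) k) g)) = t := by
      rw [← hspan, finrank_span_eq_card hli, Fintype.card_fin]
    have h1 := Submodule.finrank_quotient_add_finrank (LinearMap.ker (Fintype.linearCombination (MvPolynomial (Fin 3) k) g))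
    rw [(Fintype.linearCombination (MvPolynomial (Fin 3) k) g).quotKerEquivRange.finrank_eq, hK,
      Module.finrank_fin_fun, hrange] at h1
    have h2 : Module.finrank (MvPolynomial (Fin 3) k) I = 1 := by
      refine le_antisymm ((Submodule.finrank_le I).trans (Module.finrank_self _).le) ?_
      haveI : Nontrivial I := Submodule.nontrivial_iff_ne_bot.mpr hI0
      exact Module.finrank_pos
    omega
  refine ⟨t, Matrix.of fun i j => c j (Fin.cast hn.symm i),
    (Fintype.linearCombination (MvPolynomial (Fin 3) k) g) ∘ₗ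
      LinearMap.funLeft (MvPolynomial (Fin 3) k) (MvPolynomial (Fin 3) k) (Fin.cast hn), ?_, ?_, ?_⟩
  · rw [LinearMap.ker_eq_bot']
    intro v hv
    refine funext fun j => Fintype.linearIndependent_iff.mp hli v (funext fun i => ?_) j
    have := congrFun hv (Fin.cast hn i)
    simpa [Matrix.mulVec, dotProduct, Finset.sum_apply, mul_comm] using this
  · ext v
    rw [LinearMap.mem_ker, LinearMap.comp_apply, ← LinearMap.mem_ker, ← hspan,
      Submodule.mem_span_range_iff_exists_fun]
    constructor
    · rintro ⟨w, hw⟩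
      refine ⟨w, funext fun i => ?_⟩
      have := congrFun hw (Fin.cast hn.symm i)
      simpa [Matrix.mulVec, dotProduct, Finset.sum_apply, mul_comm, LinearMap.funLeft_apply] using this
    · rintro ⟨w, hw⟩
      refine ⟨w, funext fun i => ?_⟩
      have := congrFun hw (Fin.cast hn i)
      simpa [Matrix.mulVec, dotProduct, Finset.sum_apply, mul_comm, LinearMap.funLeft_apply] using this
  · rw [LinearMap.range_comp_of_range_eq_top _ (LinearMap.range_eq_top.mpr
      (LinearMap.funLeft_surjective_of_injective _ _ _ (Fin.cast_injective hn))), hrange]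


end Groth.Agent.S12917
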