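import Groth.Statements.S12918
import Groth.Agent.ComodLib.Tame
-- import your own Groth.Agent.* helpers here

set_option autoImplicit false
universe u v w
open HopfRep

namespace Groth.Agent.S12918

/-- Let `k` be a commutative ring, `A` a commutative Hopf algebra over `k`, flat as a `k`-module and `B`
a commutative `k`-algebra with a coaction `ρ : B → B ⊗ A` that is an algebra map (an action of the
affine group scheme `Spec A` on `Spec B`). Then the action admits a total integral — a comodule map
`α : A → B`, for the regular coaction on `A`, with `α 1 = 1` — if and only if `ρ` has a left inverse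
`B ⊗ A → B` which is a comodule map for the coaction `id ⊗ Δ` on `B ⊗ A`. -/
theorem result
    (k : Type u) [CommRing k] (A : Type v) [CommRing A] [HopfAlgebra k A] [Module.Flat k A]
    (B : Type w) [CommRing B] [Algebra k B] [HopfRep.Comod k A B] [GLin.IsCoactAlg k A B] :
    (∃ α : A →ₗ[k] B, Hoch.IsComodHom A α ∧ α 1 = 1) ↔
      ∃ lam : Hoch.Ind k A B →ₗ[k] B, Hoch.IsComodHom A lam ∧ lam ∘ₗ Hoch.toInd k A B = LinearMap.id := by
  refine ⟨fun ⟨α, hα, h1⟩ => ⟨Groth.Agent.ComodLib.retraction α, Groth.Agent.ComodLib.isComodHom_retraction hα,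
    Groth.Agent.ComodLib.retraction_toInd h1⟩, fun ⟨lam, hlam, hret⟩ => ?_⟩
  let j : A →ₗ[k] Hoch.Ind k A B :=
    (Hoch.Ind.equiv k A B).toLinearMap ∘ₗ TensorProduct.mk k B A 1
  have hj : Hoch.IsComodHom A j := by
    refine LinearMap.ext fun a => ?_
    refine (Hoch.Ind.coact_equiv_tmul k A B 1 a).trans ?_
    show _ = j.rTensor A (Coalgebra.comul (R := k) a)
    induction Coalgebra.comul (R := k) a using TensorProduct.induction_on with
    | zero => simp only [TensorProduct.tmul_zero, map_zero]; rfl
    | tmul c d => rfl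
    | add c d hc hd => simp only [TensorProduct.tmul_add, map_add]; rw [hc, hd]; rfl
  refine ⟨lam ∘ₗ j, LinearMap.ext fun a => ?_, ?_⟩
  · have h1 := LinearMap.congr_fun hlam (j a)
    have h2 := LinearMap.congr_fun hj a
    simp only [LinearMap.comp_apply] at h1 h2 ⊢
    rw [h1, h2, ← LinearMap.comp_apply, ← LinearMap.rTensor_comp]
  · have h := LinearMap.congr_fun hret 1
    refine Eq.trans ?_ h
    show lam (j 1) = lam (Hoch.Ind.equiv k A B (HopfRep.Comod.coact (k := k) (A := A) (1 : B)))
    rw [GLin.IsCoactAlg.coact_one (k := k), Algebra.TensorProduct.one_def]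
    rfl

end Groth.Agent.S12918
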