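import Groth.Statements.S12924
import Groth.Agent.ComodLib.Tame
import Mathlib
-- import your own Groth.Agent.* helpers here

set_option autoImplicit false
universe u
open CategoryTheory AlgebraicGeometry
open HopfRep

namespace Groth.Agent.S12924

open TensorProduct

set_option linter.style.haveILetI false
set_option maxHeartbeats 4000000
set_option synthInstance.maxHeartbeats 400000

theorem fac_of_range {Q : Type u} [CommRing Q] {Z : Scheme.{u}} {U : Z.Opens} (hU : IsAffineOpen U)
    (g : Spec (CommRingCat.of Q) ⟶ Z) (hg : ∀ x, g x ∈ U) :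
    ∃ h : Γ(Z, U) ⟶ CommRingCat.of Q, Spec.map h ≫ hU.fromSpec = g := by
  have hr : Set.range g ⊆ Set.range hU.fromSpec := by
    rw [IsAffineOpen.range_fromSpec]
    rintro _ ⟨x, rfl⟩
    exact hg x
  exact ⟨Spec.preimage (IsOpenImmersion.lift hU.fromSpec g hr), by rw [Spec.map_preimage, IsOpenImmersion.lift_fac]⟩

theorem eq_of_fac {Q : CommRingCat.{u}} {Z : Scheme.{u}} {U : Z.Opens} (hU : IsAffineOpen U) {h h' : Γ(Z, U) ⟶ Q}
    (e : Spec.map h ≫ hU.fromSpec = Spec.map h' ≫ hU.fromSpec) : h = h' :=
  Spec.map_injective ((cancel_mono hU.fromSpec).mp e)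

section Retraction

variable {C B : Type u} [CommRing C] [CommRing B] [Algebra C B] (r : B →ₗ[C] C)
  (hr : ∀ c, r (algebraMap C B c) = c)
include hr

theorem surjective_comap_of_retraction (p : PrimeSpectrum C) :
    ∃ q : PrimeSpectrum B, PrimeSpectrum.comap (algebraMap C B) q = p := by
  refine (PrimeSpectrum.mem_range_comap_iff (algebraMap C B) (p := p)).mpr (le_antisymm (fun x hx => ?_) Ideal.le_comap_map)
  have key : ∀ y ∈ (p.asIdeal • ⊤ : Submodule C B), r y ∈ p.asIdeal := by
    intro y hy
    refine Submodule.smul_induction_on hy (fun a ha n _ => ?_) fun a b ha hb => ?_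
    · rw [map_smul, smul_eq_mul]; exact p.asIdeal.mul_mem_right _ ha
    · rw [map_add]; exact p.asIdeal.add_mem ha hb
  rw [← hr x]
  exact key _ (by rw [Ideal.smul_top_eq_map]; exact hx)

theorem hom_ext_of_retraction {Z : Scheme.{u}} (χ χ' : Spec (CommRingCat.of C) ⟶ Z)
    (h : Spec.map (CommRingCat.ofHom (algebraMap C B)) ≫ χ = Spec.map (CommRingCat.ofHom (algebraMap C B)) ≫ χ') :
    χ = χ' := by
  have hbase : ∀ p, χ p = χ' p := fun p => by
    obtain ⟨q, hq⟩ : ∃ q : Spec (CommRingCat.of B), Spec.map (CommRingCat.ofHom (algebraMap C B)) q = p :=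
      surjective_comap_of_retraction r hr p
    have h2 : (Spec.map (CommRingCat.ofHom (algebraMap C B)) ≫ χ) q =
        (Spec.map (CommRingCat.ofHom (algebraMap C B)) ≫ χ') q := by rw [h]
    rw [Scheme.Hom.comp_apply, Scheme.Hom.comp_apply,
      hq] at h2
    exact h2
  have hloc : ∀ p : PrimeSpectrum C, ∃ (c : C) (U : Z.Opens), IsAffineOpen U ∧ c ∉ p.asIdeal ∧
      ∀ x : PrimeSpectrum C, c ∉ x.asIdeal → χ x ∈ U := fun p => by
    obtain ⟨U, hU, hpU, -⟩ := exists_isAffineOpen_mem_and_subset (U := ⊤) (x := χ p) trivial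
    obtain ⟨_, ⟨c, rfl⟩, hpc, hcU⟩ := PrimeSpectrum.isTopologicalBasis_basic_opens.exists_subset_of_mem_open
      (u := ({x : PrimeSpectrum C | χ x ∈ U} : Set (PrimeSpectrum C))) hpU (U.2.preimage χ.continuous)
    exact ⟨c, U, hU, hpc, fun x hx => hcU hx⟩
  choose c U hU hpc hcU using hloc
  refine Scheme.Cover.hom_ext (Scheme.affineOpenCoverOfSpanRangeEqTop (R := CommRingCat.of C) c ?_).openCover _ _ fun p => ?_
  · by_contra hne
    obtain ⟨m, hm, hle⟩ := Ideal.exists_le_maximal _ hne
    exact hpc ⟨m, hm.isPrime⟩ (hle (Ideal.subset_span ⟨_, rfl⟩))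
  show Spec.map (CommRingCat.ofHom (algebraMap C (Localization.Away (c p)))) ≫ χ =
    Spec.map (CommRingCat.ofHom (algebraMap C (Localization.Away (c p)))) ≫ χ'
  set L := Localization.Away (c p)
  set a := Spec.map (CommRingCat.ofHom (algebraMap C L))
  have hx : ∀ x, χ (a x) ∈ U p := fun x => hcU p _ (by
    show c p ∉ Ideal.comap (algebraMap C L) (PrimeSpectrum.asIdeal x)
    intro hc
    exact (PrimeSpectrum.isPrime x).ne_top (Ideal.eq_top_of_isUnit_mem _ hc (IsLocalization.Away.algebraMap_isUnit (c p))))
  obtain ⟨g, hg⟩ := fac_of_range (hU p) (a ≫ χ) fun x => by rw [Scheme.Hom.comp_apply]; exact hx x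
  obtain ⟨g', hg'⟩ := fac_of_range (hU p) (a ≫ χ') fun x => by rw [Scheme.Hom.comp_apply, ← hbase]; exact hx x
  let f : L →+* L ⊗[C] B := Algebra.TensorProduct.includeLeftRingHom
  have hsq : CommRingCat.ofHom (algebraMap C L) ≫ CommRingCat.ofHom f =
      CommRingCat.ofHom (algebraMap C B) ≫ CommRingCat.ofHom (Algebra.TensorProduct.includeRight : B →ₐ[C] L ⊗[C] B).toRingHom := by
    ext x
    exact ((Algebra.TensorProduct.includeLeft : L →ₐ[C] L ⊗[C] B).commutes x).trans
      ((Algebra.TensorProduct.includeRight : B →ₐ[C] L ⊗[C] B).commutes x).symm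
  have e : g ≫ CommRingCat.ofHom f = g' ≫ CommRingCat.ofHom f := by
    refine eq_of_fac (hU p) ?_
    rw [Spec.map_comp, Spec.map_comp, Category.assoc, Category.assoc, hg, hg', ← Category.assoc, ← Category.assoc,
      ← Spec.map_comp, hsq, Spec.map_comp, Category.assoc, Category.assoc, h]
  have hinj : Function.Injective f := by
    intro x y hxy
    have := congrArg (fun z => TensorProduct.rid C L (r.lTensor L z)) hxy
    have h1 : r (1 : B) = 1 := by rw [← map_one (algebraMap C B), hr]
    simpa [f, h1] using this
  rw [← hg, ← hg', show g = g' from CommRingCat.hom_ext (RingHom.ext fun x => hinj (ConcreteCategory.congr_hom e x))]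

end Retraction

/-- The base change of a retraction. -/
noncomputable def retrBC {C B : Type u} [CommRing C] [CommRing B] [Algebra C B] (r : B →ₗ[C] C)
    (L : Type u) [CommRing L] [Algebra C L] : L ⊗[C] B →ₗ[L] L :=
  (TensorProduct.AlgebraTensorModule.rid C L L).toLinearMap ∘ₗ r.baseChange L

theorem retrBC_algebraMap {C B : Type u} [CommRing C] [CommRing B] [Algebra C B] (r : B →ₗ[C] C)
    (hr : ∀ c, r (algebraMap C B c) = c) (L : Type u) [CommRing L] [Algebra C L] (c : L) :
    retrBC r L (algebraMap L (L ⊗[C] B) c) = c := by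
  rw [Algebra.TensorProduct.algebraMap_apply]
  have h1 : r (1 : B) = 1 := by rw [← map_one (algebraMap C B), hr]
  simp [retrBC, h1]

/-- Let `k` be a commutative ring, `A` a commutative Hopf algebra over `k`, flat as a `k`-module, `B` a
commutative `k`-algebra with a coaction `ρ : B → B ⊗ A` that is an algebra map and admits a total
integral (a comodule map `α : A → B` with `α 1 = 1`), and `C = B^A`. Then `Spec B → Spec C` is a
categorical quotient of the action in the category of schemes: for every scheme `Z` and every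
morphism `ψ : Spec B → Z` which is invariant, i.e. has the same composite with `Spec (B ⊗ A) → Spec
B` induced by `ρ` and by `b ↦ b ⊗ 1`, there is exactly one morphism `Spec C → Z` through which `ψ`
factors. (The published statement assumes only that taking invariants is exact on `(B, A)`-modules;
a total integral, assumed here, gives that exactness.) -/
theorem result
    (k : Type u) [CommRing k] (A : Type u) [CommRing A] [HopfAlgebra k A] [Module.Flat k A]
    (B : Type u) [CommRing B] [Algebra k B] [HopfRep.Comod k A B] [GLin.IsCoactAlg k A B]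
    (htame : ∃ α : A →ₗ[k] B, Hoch.IsComodHom A α ∧ α 1 = 1)
    (Z : Scheme.{u}) (ψ : Spec (CommRingCat.of B) ⟶ Z)
    (hψ : Spec.map (CommRingCat.ofHom (GLin.coactAlgHom k A B).toRingHom) ≫ ψ =
      Spec.map (CommRingCat.ofHom
        (Algebra.TensorProduct.includeLeftRingHom : B →+* TensorProduct k B A)) ≫ ψ) :
    ∃! χ : Spec (CommRingCat.of (GLin.invariants k A B)) ⟶ Z,
      Spec.map (CommRingCat.ofHom (algebraMap (GLin.invariants k A B) B)) ≫ χ = ψ := by
  obtain ⟨α, hα, h1⟩ := htame
  set C := GLin.invariants k A B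
  let r : B →ₗ[C] C := Groth.Agent.ComodLib.reynoldsInv hα
  have hr : ∀ c, r (algebraMap C B c) = c := Groth.Agent.ComodLib.reynoldsInv_algebraMap hα h1
  let co : B →ₐ[C] TensorProduct k B A :=
    { (GLin.coactAlgHom k A B).toRingHom with
      commutes' := fun c => c.2.trans rfl }
  let inc : B →ₐ[C] TensorProduct k B A := IsScalarTower.toAlgHom C B (TensorProduct k B A)
  have hψ' : Spec.map (CommRingCat.ofHom co.toRingHom) ≫ ψ = Spec.map (CommRingCat.ofHom inc.toRingHom) ≫ ψ := hψ
  have hex : Function.Exact (Algebra.linearMap C B) (co.toLinearMap - inc.toLinearMap) := by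
    intro b
    rw [LinearMap.sub_apply, sub_eq_zero]
    constructor
    · intro hb
      exact ⟨⟨b, hb⟩, rfl⟩
    · rintro ⟨c, rfl⟩
      exact (co.commutes c).trans (inc.commutes c).symm
  -- invariant functions on each piece
  have hpiece : ∀ p : PrimeSpectrum C, ∃ (e : C) (U : Z.Opens), IsAffineOpen U ∧ e ∉ p.asIdeal ∧
      ∀ q : PrimeSpectrum B, algebraMap C B e ∉ q.asIdeal → ψ q ∈ U := by
    intro p
    let W : Z.Opens → Set (PrimeSpectrum B) := fun U => {x | ψ x ∈ U}
    have hWo : ∀ U, IsOpen (W U) := fun U => U.2.preimage ψ.continuous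
    let J : Z.affineOpens → Ideal B := fun U => Ideal.comap co
      (Ideal.map inc (PrimeSpectrum.vanishingIdeal ((W U.1)ᶜ)))
    have htop : (⨆ U, J U) = ⊤ := by
      by_contra hne
      obtain ⟨m, hm, hle⟩ := Ideal.exists_le_maximal _ hne
      let q : PrimeSpectrum B := ⟨m, hm.isPrime⟩
      obtain ⟨U, hU, hqU, -⟩ := exists_isAffineOpen_mem_and_subset (U := ⊤) (x := ψ q) trivial
      obtain ⟨_, ⟨f, rfl⟩, hqf, hfW⟩ := PrimeSpectrum.isTopologicalBasis_basic_opens.exists_subset_of_mem_open
        (u := W U) hqU (hWo U)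
      have hrad : co f ∈ (Ideal.map inc (PrimeSpectrum.vanishingIdeal ((W U)ᶜ))).radical := by
        rw [← PrimeSpectrum.vanishingIdeal_zeroLocus_eq_radical, PrimeSpectrum.mem_vanishingIdeal]
        intro t ht
        by_contra hft
        have h2 := congrArg (fun m : Spec (CommRingCat.of (TensorProduct k B A)) ⟶ Z =>
          m (show Spec (CommRingCat.of (TensorProduct k B A)) from t)) hψ'
        simp only [Scheme.Hom.comp_apply] at h2
        have h3 : PrimeSpectrum.comap co.toRingHom t ∈ W U := hfW hft
        have h4 : ψ (Spec.map (CommRingCat.ofHom inc.toRingHom) t) ∈ U := h2 ▸ h3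
        have h5 : PrimeSpectrum.comap inc.toRingHom t ∈ closure ((W U)ᶜ) := by
          rw [← PrimeSpectrum.zeroLocus_vanishingIdeal_eq_closure, PrimeSpectrum.mem_zeroLocus]
          exact fun i hi => (PrimeSpectrum.mem_zeroLocus _ _).mp ht (Ideal.mem_map_of_mem inc hi)
        rw [(hWo U).isClosed_compl.closure_eq] at h5
        exact h5 h4
      obtain ⟨N, hN⟩ := hrad
      have hfN : f ^ N ∈ J ⟨U, hU⟩ := by
        show f ^ N ∈ Ideal.comap co _
        rw [Ideal.mem_comap, map_pow]
        exact hN
      exact hqf (hm.isPrime.mem_of_pow_mem N (hle (le_iSup J ⟨U, hU⟩ hfN)))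
    have h1m : (1 : B) ∈ ⨆ U, J U := htop ▸ trivial
    by_contra hcon
    simp only [not_exists, not_and] at hcon
    have key : ∀ b ∈ ⨆ U, J U, r b ∈ p.asIdeal := by
      intro b hb
      induction hb using Submodule.iSup_induction' with
      | mem U b hb =>
        by_contra hep
        refine hcon (r b) U.1 U.2 hep fun q hq => ?_
        by_contra hqU
        apply hq
        have hbI : (r b : B) ∈ PrimeSpectrum.vanishingIdeal ((W U.1)ᶜ) := by
          show TameAct.reynolds k A B B α b ∈ _
          rw [Groth.Agent.ComodLib.reynolds_eq]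
          have hb' : HopfRep.Comod.coact (k := k) (A := A) b ∈
              Ideal.map inc (PrimeSpectrum.vanishingIdeal ((W U.1)ᶜ)) := hb
          revert hb'
          generalize HopfRep.Comod.coact (k := k) (A := A) b = z
          intro hz
          refine Submodule.span_induction ?_ ?_ ?_ ?_ hz
          · rintro _ ⟨i, hi, rfl⟩
            show Groth.Agent.ComodLib.reynoldsAux α ((i : B) ⊗ₜ[k] (1 : A)) ∈ _
            rw [Groth.Agent.ComodLib.reynoldsAux_tmul]
            exact Ideal.mul_mem_left _ _ hi
          · simp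
          · intro x y _ _ hx hy; rw [map_add]; exact Ideal.add_mem _ hx hy
          · intro w x hxm _
            have hgen : ∀ w : TensorProduct k B A, ∀ x ∈ Ideal.map inc (PrimeSpectrum.vanishingIdeal ((W U.1)ᶜ)),
                Groth.Agent.ComodLib.reynoldsAux α (w * x) ∈ PrimeSpectrum.vanishingIdeal ((W U.1)ᶜ) := by
              intro w x hx
              induction hx using Submodule.span_induction generalizing w with
              | mem z hz =>
                obtain ⟨i, hi, rfl⟩ := hz
                rw [show inc i = (i : B) ⊗ₜ[k] (1 : A) from rfl]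
                induction w using TensorProduct.induction_on with
                | zero => simp
                | tmul c a =>
                  rw [Algebra.TensorProduct.tmul_mul_tmul, mul_one, Groth.Agent.ComodLib.reynoldsAux_tmul]
                  exact Ideal.mul_mem_left _ _ (Ideal.mul_mem_left _ _ hi)
                | add u v hu hv => rw [add_mul, map_add]; exact Ideal.add_mem _ hu hv
              | zero => simp
              | add u v _ _ hu hv => rw [mul_add, map_add]; exact Ideal.add_mem _ (hu w) (hv w)
              | smul c u _ hu => rw [smul_eq_mul, ← mul_assoc]; exact hu (w * c)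
            exact hgen w x hxm
        exact (PrimeSpectrum.mem_vanishingIdeal _ _).mp hbI q hqU
      | zero => simp
      | add x y _ _ hx hy => rw [map_add]; exact Ideal.add_mem _ hx hy
    exact p.2.ne_top ((Ideal.eq_top_iff_one _).mpr (by
      have := key 1 h1m
      rwa [show r 1 = 1 by rw [← map_one (algebraMap C B), hr]] at this))
  choose e U hU hep heU using hpiece
  have hspan : Ideal.span (Set.range e) = ⊤ := by
    by_contra hne
    obtain ⟨m, hm, hle⟩ := Ideal.exists_le_maximal _ hne
    exact hep ⟨m, hm.isPrime⟩ (hle (Ideal.subset_span ⟨_, rfl⟩))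
  let P := Spec.map (CommRingCat.ofHom (algebraMap C B))
  let aL : ∀ (L : Type u) [CommRing L] [Algebra C L], Spec (CommRingCat.of L) ⟶ Spec (CommRingCat.of C) :=
    fun L _ _ => Spec.map (CommRingCat.ofHom (algebraMap C L))
  let bL : ∀ (L : Type u) [CommRing L] [Algebra C L], Spec (CommRingCat.of (TensorProduct C L B)) ⟶ Spec (CommRingCat.of B) :=
    fun L _ _ => Spec.map (CommRingCat.ofHom (Algebra.TensorProduct.includeRight : B →ₐ[C] TensorProduct C L B).toRingHom)
  let fL : ∀ (L : Type u) [CommRing L] [Algebra C L], Spec (CommRingCat.of (TensorProduct C L B)) ⟶ Spec (CommRingCat.of L) :=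
    fun L _ _ => Spec.map (CommRingCat.ofHom (algebraMap L (TensorProduct C L B)))
  have hloc : ∀ p, ∃ χ : Spec (CommRingCat.of (Localization.Away (e p))) ⟶ Z,
      fL (Localization.Away (e p)) ≫ χ = bL (Localization.Away (e p)) ≫ ψ := by
    intro p
    let L := Localization.Away (e p)
    obtain ⟨h, hh⟩ := fac_of_range (hU p) (bL L ≫ ψ) fun x => by
      rw [Scheme.Hom.comp_apply]
      refine heU p _ fun hc => ?_
      have hc' : (1 : L) ⊗ₜ[C] algebraMap C B (e p) ∈ PrimeSpectrum.asIdeal x := hc
      rw [Algebra.algebraMap_eq_smul_one, TensorProduct.tmul_smul,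
        ← Algebra.TensorProduct.one_def, ← Algebra.algebraMap_eq_smul_one] at hc'
      exact (PrimeSpectrum.isPrime x).ne_top (Ideal.eq_top_of_isUnit_mem _ hc' (by
        rw [IsScalarTower.algebraMap_apply C L]
        exact (IsLocalization.Away.algebraMap_isUnit (e p)).map _))
    haveI : Module.Flat C L := IsLocalization.flat L (Submonoid.powers (e p))
    let coL := Algebra.TensorProduct.map (AlgHom.id C L) co
    let incL := Algebra.TensorProduct.map (AlgHom.id C L) inc
    have hcomp : h ≫ CommRingCat.ofHom coL.toRingHom = h ≫ CommRingCat.ofHom incL.toRingHom := by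
      refine eq_of_fac (hU p) ?_
      rw [Spec.map_comp, Spec.map_comp, Category.assoc, Category.assoc, hh]
      simp only [bL]
      rw [← Category.assoc, ← Category.assoc, ← Spec.map_comp, ← Spec.map_comp]
      let iR := CommRingCat.ofHom (Algebra.TensorProduct.includeRight : TensorProduct k B A →ₐ[C] TensorProduct C L (TensorProduct k B A)).toRingHom
      have e1 : CommRingCat.ofHom (Algebra.TensorProduct.includeRight : B →ₐ[C] TensorProduct C L B).toRingHom ≫
          CommRingCat.ofHom coL.toRingHom = CommRingCat.ofHom co.toRingHom ≫ iR := by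
        refine CommRingCat.hom_ext (RingHom.ext fun x => ?_)
        show coL ((1 : L) ⊗ₜ[C] x) = (1 : L) ⊗ₜ[C] co x
        simp only [coL, Algebra.TensorProduct.map_tmul, AlgHom.id_apply]
      have e2 : CommRingCat.ofHom (Algebra.TensorProduct.includeRight : B →ₐ[C] TensorProduct C L B).toRingHom ≫
          CommRingCat.ofHom incL.toRingHom = CommRingCat.ofHom inc.toRingHom ≫ iR := by
        refine CommRingCat.hom_ext (RingHom.ext fun x => ?_)
        show incL ((1 : L) ⊗ₜ[C] x) = (1 : L) ⊗ₜ[C] inc x
        simp only [incL, Algebra.TensorProduct.map_tmul, AlgHom.id_apply]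
      rw [e1, e2, Spec.map_comp, Spec.map_comp, Category.assoc, Category.assoc, hψ']
    have hexL := Module.Flat.lTensor_exact L hex
    let rL := retrBC r L
    have hmem : ∀ z : Γ(Z, U p), h.hom z = algebraMap L _ (rL (h.hom z)) := by
      intro z
      have hz : (co.toLinearMap - inc.toLinearMap).lTensor L (h.hom z) = 0 := by
        have h3 : coL (h.hom z) = incL (h.hom z) := ConcreteCategory.congr_hom hcomp z
        rw [LinearMap.lTensor_sub, LinearMap.sub_apply, sub_eq_zero]
        exact h3
      obtain ⟨w, hw⟩ := (hexL _).mp hz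
      have hw' : algebraMap L _ (TensorProduct.rid C L w) = h.hom z := by
        rw [← hw]
        clear hw
        induction w using TensorProduct.induction_on with
        | zero => simp
        | tmul l c =>
          rw [LinearMap.lTensor_tmul, TensorProduct.rid_tmul, Algebra.TensorProduct.algebraMap_apply,
            Algebra.linearMap_apply, Algebra.algebraMap_eq_smul_one c, TensorProduct.tmul_smul]
          rfl
        | add u v hu hv => simp only [map_add, hu, hv]
      rw [← hw']
      simp only [rL, retrBC_algebraMap r hr L]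
    let g : Γ(Z, U p) →+* L :=
      { toFun := fun z => rL (h.hom z)
        map_one' := by rw [map_one, ← map_one (algebraMap L (TensorProduct C L B)), retrBC_algebraMap r hr L]
        map_mul' := fun x y => by
          rw [map_mul]; conv_lhs => rw [hmem x, hmem y, ← map_mul]
          rw [retrBC_algebraMap r hr L]
        map_zero' := by rw [map_zero, map_zero]
        map_add' := fun x y => by rw [map_add, map_add] }
    refine ⟨Spec.map (CommRingCat.ofHom g) ≫ (hU p).fromSpec, ?_⟩
    simp only [fL]
    rw [← Category.assoc, ← Spec.map_comp, ← hh,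
      show CommRingCat.ofHom g ≫ CommRingCat.ofHom (algebraMap L (TensorProduct C L B)) = h from
        CommRingCat.hom_ext (RingHom.ext fun z => (hmem z).symm)]
  choose χ hχ using hloc
  let 𝒰 := (Scheme.affineOpenCoverOfSpanRangeEqTop (R := CommRingCat.of C) e hspan).openCover
  have hcompat : ∀ i j : PrimeSpectrum C, Limits.pullback.fst (aL (Localization.Away (e i))) (aL (Localization.Away (e j))) ≫ χ i =
      Limits.pullback.snd (aL (Localization.Away (e i))) (aL (Localization.Away (e j))) ≫ χ j := by
    intro i j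
    let Li := Localization.Away (e i)
    let Lj := Localization.Away (e j)
    rw [← cancel_epi (pullbackSpecIso C Li Lj).inv]
    show (pullbackSpecIso C Li Lj).inv ≫ Limits.pullback.fst (aL Li) (aL Lj) ≫ χ i =
      (pullbackSpecIso C Li Lj).inv ≫ Limits.pullback.snd (aL Li) (aL Lj) ≫ χ j
    rw [pullbackSpecIso_inv_fst_assoc, pullbackSpecIso_inv_snd_assoc]
    refine hom_ext_of_retraction (retrBC r (TensorProduct C Li Lj)) (retrBC_algebraMap r hr _) _ _ ?_
    let il := (Algebra.TensorProduct.includeLeft : Li →ₐ[C] TensorProduct C Li Lj)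
    let ir := (Algebra.TensorProduct.includeRight : Lj →ₐ[C] TensorProduct C Li Lj)
    have sq : ∀ (L : Type u) [CommRing L] [Algebra C L] (f : L →ₐ[C] TensorProduct C Li Lj),
        Spec.map (CommRingCat.ofHom (algebraMap (TensorProduct C Li Lj) (TensorProduct C (TensorProduct C Li Lj) B))) ≫
          Spec.map (CommRingCat.ofHom f.toRingHom) =
        Spec.map (CommRingCat.ofHom (Algebra.TensorProduct.map f (AlgHom.id C B)).toRingHom) ≫ fL L := by
      intro L _ _ f
      simp only [fL, ← Spec.map_comp]
      congr 1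
    have sqb : ∀ (L : Type u) [CommRing L] [Algebra C L] (f : L →ₐ[C] TensorProduct C Li Lj),
        Spec.map (CommRingCat.ofHom (Algebra.TensorProduct.map f (AlgHom.id C B)).toRingHom) ≫ bL L =
          bL (TensorProduct C Li Lj) := by
      intro L _ _ f
      simp only [bL, ← Spec.map_comp]
      congr 1
      ext x
      simp
    refine Eq.trans (b := bL (TensorProduct C Li Lj) ≫ ψ) ?_ (Eq.symm ?_)
    · refine (reassoc_of% (sq Li il)) (χ i) |>.trans ?_
      rw [hχ i, ← Category.assoc, sqb]
    · refine (reassoc_of% (sq Lj ir)) (χ j) |>.trans ?_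
      rw [hχ j, ← Category.assoc, sqb]
  let glue : Spec (CommRingCat.of C) ⟶ Z := 𝒰.glueMorphisms χ hcompat
  have hι : ∀ p : PrimeSpectrum C, aL (Localization.Away (e p)) ≫ glue = χ p := fun p => 𝒰.ι_glueMorphisms χ hcompat p
  refine ⟨glue, ?_, fun χ' hχ' => ?_⟩
  · show P ≫ glue = ψ
    have hspanB : Ideal.span (Set.range fun p => algebraMap C B (e p)) = ⊤ := by
      rw [Set.range_comp' (algebraMap C B) e, ← Ideal.map_span, hspan, Ideal.map_top]
    refine Scheme.Cover.hom_ext (Scheme.affineOpenCoverOfSpanRangeEqTop (R := CommRingCat.of B) _ hspanB).openCover _ _ fun (p : PrimeSpectrum C) => ?_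
    let L := Localization.Away (e p)
    show Spec.map (CommRingCat.ofHom (algebraMap B (Localization.Away (algebraMap C B (e p))))) ≫ P ≫ glue =
      Spec.map (CommRingCat.ofHom (algebraMap B (Localization.Away (algebraMap C B (e p))))) ≫ ψ
    let LB := Localization.Away (algebraMap C B (e p))
    let φ : L →ₐ[C] LB := IsLocalization.Away.liftAlgHom (e p) (f := IsScalarTower.toAlgHom C C LB |>.comp (AlgHom.id C C))
      (by
        simp only [AlgHom.comp_apply, AlgHom.id_apply, IsScalarTower.coe_toAlgHom']
        rw [IsScalarTower.algebraMap_apply C B LB]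
        exact IsLocalization.Away.algebraMap_isUnit _)
    let θ : TensorProduct C L B →ₐ[C] LB :=
      Algebra.TensorProduct.lift φ (IsScalarTower.toAlgHom C B LB) fun _ _ => Commute.all _ _
    have t1 : Spec.map (CommRingCat.ofHom (algebraMap B LB)) = Spec.map (CommRingCat.ofHom θ.toRingHom) ≫ bL L := by
      simp only [bL, ← Spec.map_comp]
      congr 1
      ext x
      show algebraMap B LB x = θ ((1 : L) ⊗ₜ[C] x)
      rw [Algebra.TensorProduct.lift_tmul, map_one, one_mul]
      rfl
    have t2 : bL L ≫ P = fL L ≫ aL L := by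
      simp only [bL, fL, aL, P, ← Spec.map_comp]
      congr 1
      ext x
      exact ((Algebra.TensorProduct.includeRight : B →ₐ[C] TensorProduct C L B).commutes x).trans
        (IsScalarTower.algebraMap_apply C L (TensorProduct C L B) x)
    rw [t1, Category.assoc, Category.assoc, reassoc_of% t2, hι p, hχ p]
  · refine Scheme.Cover.hom_ext 𝒰 _ _ fun (p : PrimeSpectrum C) => ?_
    show aL (Localization.Away (e p)) ≫ χ' = aL (Localization.Away (e p)) ≫ glue
    rw [hι p]
    refine hom_ext_of_retraction (retrBC r (Localization.Away (e p))) (retrBC_algebraMap r hr _) _ _ ?_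
    show fL _ ≫ aL _ ≫ χ' = fL _ ≫ χ p
    rw [hχ p, ← hχ']
    simp only [bL, fL, aL, P, ← Category.assoc, ← Spec.map_comp]
    congr 2
    ext x
    exact (IsScalarTower.algebraMap_apply C (Localization.Away (e p)) (TensorProduct C (Localization.Away (e p)) B) x).symm.trans
      ((Algebra.TensorProduct.includeRight : B →ₐ[C] TensorProduct C (Localization.Away (e p)) B).commutes x).symm

end Groth.Agent.S12924
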