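import Groth.Statements.S12926
import Groth.Agent.ComodLib.Integral
-- import your own Groth.Agent.* helpers here

set_option autoImplicit false
universe u v
open HopfRep

namespace Groth.Agent.S12926

/-- Let `k` be a commutative ring and `A` a commutative bialgebra over `k`, flat as a `k`-module. If the
submodule `k · 1` of the regular comodule `A` has a complement `H` which is a subcomodule — the case
used when `A` is cosemisimple, i.e. every subcomodule of every comodule is a direct summand as a
comodule — then the trivial action of `Spec A` on `Spec k` is tame: there is a comodule map `α : A →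
k`, for the regular coaction on `A` and the trivial coaction `r ↦ r ⊗ 1` on `k`, with `α 1 = 1`. -/
theorem result
    (k : Type u) [CommRing k] (A : Type v) [CommRing A] [Bialgebra k A] [Module.Flat k A]
    (H : Submodule k A) (hH : HopfRep.IsSubcomod (k := k) (A := A) H)
    (hc : IsCompl (Submodule.span k {(1 : A)}) H) :
    ∃ α : A →ₗ[k] k, @Hoch.IsComodHom k _ A _ _ _ A _ _ _ k _ _ (HopfRep.Comod.trivial k A k) α ∧ α 1 = 1 := by
  obtain ⟨α, hα, h1⟩ := Groth.Agent.ComodLib.exists_integral_of_isCompl H hH hc
  exact ⟨α, (Groth.Agent.ComodLib.isIntegral_iff_isComodHom α).mp hα, h1⟩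

end Groth.Agent.S12926
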