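import Groth.Statements.S12928
import Groth.Agent.ComodLib.HomFixed
import Mathlib.LinearAlgebra.TensorProduct.Tower
-- import your own Groth.Agent.* helpers here

set_option autoImplicit false
universe u
open HopfRep

namespace Groth.Agent.S12928

open TensorProduct

theorem isHopfMod_tensor {k : Type u} [CommRing k] {A : Type u} [CommRing A] [HopfAlgebra k A]
    {B : Type u} [CommRing B] [Algebra k B] [cB : HopfRep.Comod k A B] [GLin.IsCoactAlg k A B]
    {W : Type u} [AddCommGroup W] [Module k W] (d : HopfRep.Comod k A W) :
    @TameAct.IsHopfMod k _ A _ _ B _ _ (B ⊗[k] W) _ _ _ _ cB (ComodTens.Comod.tensor cB d) := by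
  letI cM : HopfRep.Comod k A (B ⊗[k] W) := ComodTens.Comod.tensor cB d
  have hsmul : ∀ (b b' : B) (w : W ⊗[k] A),
      TensorProduct.map LinearMap.id (LinearMap.mul' k A)
        (AlgebraTensorModule.tensorTensorTensorComm k k k k B A (W) A
          ((HopfRep.Comod.coact (k := k) (A := A) b * HopfRep.Comod.coact (k := k) (A := A) b') ⊗ₜ[k] w)) =
      TameAct.hmSMul k A B (B ⊗[k] W) (HopfRep.Comod.coact (k := k) (A := A) b)
        (TensorProduct.map LinearMap.id (LinearMap.mul' k A)
          (AlgebraTensorModule.tensorTensorTensorComm k k k k B A (W) A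
            (HopfRep.Comod.coact (k := k) (A := A) b' ⊗ₜ[k] w))) := fun b b' w => by
    induction w using TensorProduct.induction_on with
    | zero => simp
    | add p q hp hq => simp only [map_add, tmul_add, hp, hq]
    | tmul ψ a =>
      induction HopfRep.Comod.coact (k := k) (A := A) b using TensorProduct.induction_on with
      | zero => simp
      | add p q hp hq => simp only [map_add, add_mul, add_tmul, LinearMap.add_apply, hp, hq]
      | tmul b₀ b₁ =>
        induction HopfRep.Comod.coact (k := k) (A := A) b' using TensorProduct.induction_on with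
        | zero => simp
        | add p q hp hq => simp only [map_add, mul_add, add_tmul, hp, hq]
        | tmul c₀ c₁ => simp [Algebra.TensorProduct.tmul_mul_tmul, TensorProduct.smul_tmul', mul_assoc]
  refine ⟨fun b x => ?_⟩
  induction x using TensorProduct.induction_on with
  | zero => simp
  | add p q hp hq => simp only [map_add, smul_add, hp, hq]
  | tmul b' φ =>
    show (ComodTens.Comod.tensor cB d).coact (b • (b' ⊗ₜ[k] φ)) = _
    rw [TensorProduct.smul_tmul', smul_eq_mul, ComodTens.tensor_coact_tmul,
      GLin.IsCoactAlg.coact_mul (k := k) (A := A)]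
    exact hsmul b b' _

/-- Let `k` be a commutative ring, `A` a commutative Hopf algebra over `k` which is finite locally free
(finite projective, in particular flat) as a `k`-module, `B` a commutative `k`-algebra with a
coaction of `A` that is an algebra map, and `C = B^A` the ring of invariants; assume `C` Noetherian
and `B` finite and flat over `C`. If taking invariants is exact on `(B, A)`-modules — for
`B`-modules `M`, `N` with compatible `A`-coactions (in the universe of `k`, `A`, `B`) every
surjective `B`-linear comodule map `M → N` maps `M^A` onto `N^A` — then the action is tame: there is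
a comodule map `α : A → B` with `α 1 = 1`. Together with the converse (a total integral makes
invariants exact) this says that tameness of the action is the exactness of invariants. (The
published statement does not assume `B` finite over `C`; its proof uses that finiteness, which is
assumed here.) -/
theorem result
    (k : Type u) [CommRing k] (A : Type u) [CommRing A] [HopfAlgebra k A] [Module.Flat k A]
    [Module.Finite k A] [Module.Projective k A]
    (B : Type u) [CommRing B] [Algebra k B] [HopfRep.Comod k A B] [GLin.IsCoactAlg k A B]
    [IsNoetherianRing (GLin.invariants k A B)] [Module.Finite (GLin.invariants k A B) B] [Module.Flat (GLin.invariants k A B) B]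
    (hexact : ∀ (M N : Type u) [AddCommGroup M] [Module k M] [Module B M] [IsScalarTower k B M]
      [HopfRep.Comod k A M] [TameAct.IsHopfMod k A B M]
      [AddCommGroup N] [Module k N] [Module B N] [IsScalarTower k B N]
      [HopfRep.Comod k A N] [TameAct.IsHopfMod k A B N] (f : M →ₗ[B] N),
      Hoch.IsComodHom A (f.restrictScalars k) → Function.Surjective f →
      ∀ n ∈ HopfRep.fixedPts k A N, ∃ m ∈ HopfRep.fixedPts k A M, f m = n) :
    ∃ α : A →ₗ[k] B, Hoch.IsComodHom A α ∧ α 1 = 1 := by
  have : Module.FinitePresentation k A := Module.finitePresentation_of_projective k A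
  obtain ⟨d, hd⟩ := ComodLib.exists_isDual (HopfRep.Comod.regular k A)
  letI cM : HopfRep.Comod k A (B ⊗[k] Module.Dual k A) := ComodTens.Comod.tensor ‹HopfRep.Comod k A B› d
  haveI : TameAct.IsHopfMod k A B (B ⊗[k] Module.Dual k A) := isHopfMod_tensor d
  haveI : TameAct.IsHopfMod k A B B := ⟨fun b x => by
    rw [smul_eq_mul, GLin.IsCoactAlg.coact_mul (k := k) (A := A)]
    induction HopfRep.Comod.coact (k := k) (A := A) b using TensorProduct.induction_on with
    | zero => simp
    | add p q hp hq => simp only [map_add, add_mul, LinearMap.add_apply, hp, hq]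
    | tmul b₀ b₁ =>
      induction HopfRep.Comod.coact (k := k) (A := A) x using TensorProduct.induction_on with
      | zero => simp
      | add p q hp hq => simp only [map_add, mul_add, hp, hq]
      | tmul c₀ c₁ => simp [Algebra.TensorProduct.tmul_mul_tmul]⟩
  let f : (B ⊗[k] Module.Dual k A) →ₗ[B] B :=
    (AlgebraTensorModule.rid k B B).toLinearMap ∘ₗ AlgebraTensorModule.lTensor B B (Module.Dual.eval k A 1)
  have hf : ∀ x, f x = ComodLib.asHom k B A x 1 := fun x => by
    induction x using TensorProduct.induction_on with
    | zero => simp
    | add p q hp hq => simp only [map_add, LinearMap.add_apply, hp, hq]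
    | tmul b φ => simp [f]
  have hfA : ∀ w : (B ⊗[k] Module.Dual k A) ⊗[k] A,
      (f.restrictScalars k).rTensor A w = ComodLib.asHomA k A B A w 1 := fun w => by
    induction w using TensorProduct.induction_on with
    | zero => simp
    | add p q hp hq => simp only [map_add, LinearMap.add_apply, hp, hq]
    | tmul x a => rw [LinearMap.rTensor_tmul, LinearMap.restrictScalars_apply, hf, ComodLib.asHomA_tmul_left]
  have hhom : Hoch.IsComodHom A (f.restrictScalars k) := by
    refine LinearMap.ext fun x => ?_
    rw [LinearMap.comp_apply, LinearMap.comp_apply, hfA,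
      ComodLib.asHomA_coact _ _ d hd, ComodLib.twistR, LinearMap.comp_apply, LinearMap.comp_apply,
      LinearMap.restrictScalars_apply, hf]
    rw [show (HopfRep.Comod.regular k A).coact (1 : A) = (1 : A) ⊗ₜ[k] (1 : A) from by
      show Coalgebra.comul (R := k) (1 : A) = _
      rw [Bialgebra.comul_one, Algebra.TensorProduct.one_def]]
    rw [TensorProduct.map_tmul, LinearMap.comp_apply, HopfAlgebra.antipode_one]
    induction HopfRep.Comod.coact (k := k) (A := A) (ComodLib.asHom k B A x 1) using TensorProduct.induction_on with
    | zero => simp
    | add p q hp hq => simp only [map_add, add_tmul, ← hp, ← hq]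
    | tmul b₀ b₁ => simp
  have hsurj : Function.Surjective f := fun b =>
    ⟨b ⊗ₜ Coalgebra.counit (R := k) (A := A), by rw [hf, ComodLib.asHom_tmul]; simp⟩
  obtain ⟨m, hm, hm1⟩ := hexact (B ⊗[k] Module.Dual k A) B f hhom hsurj 1
    (show HopfRep.Comod.coact (k := k) (A := A) (1 : B) = _ from by
      rw [GLin.IsCoactAlg.coact_one (k := k) (A := A), Algebra.TensorProduct.one_def])
  refine ⟨ComodLib.asHom k B A m, ?_, (hf m).symm.trans hm1⟩
  exact (ComodLib.mem_fixedPts_tensor_iff _ _ d hd
    (ComodLib.asHom_bijective_of_projective (k := k) (B := B ⊗[k] A) (M := A)).1 m).mp hm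

end Groth.Agent.S12928
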