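import Groth.Statements.S12929
import Groth.Agent.ComodLib.Basic

set_option autoImplicit false
universe u v w w'
open HopfRep

namespace Groth.Agent.S12929

open Groth.Agent.ComodLib TensorProduct

/-- Let `k` be a commutative ring, `A` a commutative Hopf algebra over `k`, `M` a right `A`-comodule and
`N` a `k`-module; give `N ⊗ A` the coaction `id ⊗ Δ`. Then for every `k`-linear map `h : M → N` the
composite `(h ⊗ id_A) ∘ ρ_M : M → N ⊗ A` is a comodule map, and every comodule map `f : M → N ⊗ A`
is of this form for exactly one `h` (which is `(id_N ⊗ ε) ∘ f`): comodule maps `M → N ⊗ A`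
correspond bijectively to linear maps `M → N`. -/
theorem result
    (k : Type u) [CommRing k] (A : Type v) [CommRing A] [HopfAlgebra k A]
    (M : Type w) [AddCommGroup M] [Module k M] [HopfRep.Comod k A M]
    (N : Type w') [AddCommGroup N] [Module k N] :
    (∀ h : M →ₗ[k] N, Hoch.IsComodHom A
        ((Hoch.Ind.equiv k A N).toLinearMap ∘ₗ h.rTensor A ∘ₗ HopfRep.Comod.coact (k := k) (A := A))) ∧
      ∀ f : M →ₗ[k] Hoch.Ind k A N, Hoch.IsComodHom A f →
        ∃! h : M →ₗ[k] N,
          f = (Hoch.Ind.equiv k A N).toLinearMap ∘ₗ h.rTensor A ∘ₗ HopfRep.Comod.coact (k := k) (A := A) := by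
  let cN : N ⊗[k] A →ₗ[k] N := slice (Coalgebra.counit (R := k) (A := A))
  have hret : ∀ x : N ⊗[k] A, cN.rTensor A (Hoch.Ind.coactAux k A N x) = x := by
    intro x
    induction x using TensorProduct.induction_on with
    | zero => simp
    | tmul n a =>
      rw [Hoch.Ind.coactAux_tmul]
      have : ∀ y : A ⊗[k] A, cN.rTensor A ((TensorProduct.assoc k N A A).symm (n ⊗ₜ[k] y)) =
          n ⊗ₜ[k] TensorProduct.lid k A ((Coalgebra.counit (R := k) (A := A)).rTensor A y) := by
        intro y
        induction y using TensorProduct.induction_on with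
        | zero => simp
        | tmul b c =>
          simp only [TensorProduct.assoc_symm_tmul, LinearMap.rTensor_tmul, TensorProduct.lid_tmul,
            TensorProduct.tmul_smul, TensorProduct.smul_tmul', cN, slice_tmul]
        | add p q hp hq => simp only [map_add, TensorProduct.tmul_add, hp, hq]
      rw [this, Coalgebra.rTensor_counit_comul, TensorProduct.lid_tmul, one_smul]
    | add p q hp hq => simp only [map_add, hp, hq]
  refine ⟨fun h => ?_, fun f hf => ⟨Hoch.Ind.counit k A N ∘ₗ f, ?_, fun h hh => ?_⟩⟩
  · have nat : ∀ z : M ⊗[k] (A ⊗[k] A), (TensorProduct.assoc k N A A).symm (h.rTensor (A ⊗[k] A) z) =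
        (h.rTensor A).rTensor A ((TensorProduct.assoc k M A A).symm z) := by
      intro z
      induction z using TensorProduct.induction_on with
      | zero => simp
      | tmul m y =>
        rw [LinearMap.rTensor_tmul]
        induction y using TensorProduct.induction_on with
        | zero => simp
        | tmul b c => simp
        | add p q hp hq => simp only [map_add, TensorProduct.tmul_add, hp, hq]
      | add p q hp hq => simp only [map_add, hp, hq]
    ext m
    have hm := LinearMap.congr_fun (HopfRep.Comod.coassoc (k := k) (A := A) (V := M)) m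
    simp only [LinearMap.comp_apply, LinearEquiv.coe_coe] at hm
    have hz : (TensorProduct.assoc k M A A).symm ((Coalgebra.comul (R := k) (A := A)).lTensor M
        (HopfRep.Comod.coact (k := k) (A := A) m)) =
        (HopfRep.Comod.coact (k := k) (A := A)).rTensor A (HopfRep.Comod.coact (k := k) (A := A) m) := by
      rw [← hm, LinearEquiv.symm_apply_apply]
    show (TensorProduct.assoc k N A A).symm ((Coalgebra.comul (R := k) (A := A)).lTensor N
        (h.rTensor A (HopfRep.Comod.coact (k := k) (A := A) m))) =
      (h.rTensor A ∘ₗ HopfRep.Comod.coact (k := k) (A := A)).rTensor A (HopfRep.Comod.coact (k := k) (A := A) m)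
    rw [← LinearMap.comp_apply (LinearMap.lTensor N _), LinearMap.lTensor_comp_rTensor,
      ← LinearMap.rTensor_comp_lTensor, LinearMap.comp_apply, nat, hz, LinearMap.rTensor_comp]
    rfl
  · ext m
    have hm := LinearMap.congr_fun hf m
    show f m = (Hoch.Ind.counit k A N ∘ₗ f).rTensor A (HopfRep.Comod.coact (k := k) (A := A) m)
    rw [LinearMap.rTensor_comp, LinearMap.comp_apply]
    simp only [LinearMap.comp_apply] at hm
    rw [← hm]
    exact (hret (f m)).symm
  · ext m
    rw [LinearMap.comp_apply, hh]
    show h m = slice (Coalgebra.counit (R := k)) (h.rTensor A (HopfRep.Comod.coact (k := k) (A := A) m))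
    rw [slice_rTensor, ← actF_apply, actF_counit]

end Groth.Agent.S12929
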