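import Groth.Statements.S1293
import Groth.Agent.RG.ModMaxInj

set_option autoImplicit false
set_option linter.style.haveILetI false
universe u
open FlatMor

namespace Groth.Agent.S1293

open TensorProduct in
/-- Let B be a finitely presented A-algebra, T ⊆ B a multiplicative subset and N a finitely presented
T⁻¹B-module which admits a pure spreadout (FlatCA.HasPureSpreadout). Then (1) every x ∈ N has a
content ideal, i.e. a smallest ideal I of A with x ∈ IN; and (2) every A-linear map u from N to a
flat A-module M such that u ⊗ A/𝔪 is injective for every maximal ideal 𝔪 of A is universally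
injective over A. -/
theorem result {A B : Type u} [CommRing A] [CommRing B] [Algebra A B] [Algebra.FinitePresentation A B]
    (T : Submonoid B) (N : Type u) [AddCommGroup N] [Module (Localization T) N] [Module A N] [IsScalarTower A (Localization T) N]
    [Module.FinitePresentation (Localization T) N] (h : FlatCA.HasPureSpreadout A B T N) :
    (∀ x : N, ∃ I : Ideal A, x ∈ I • (⊤ : Submodule A N) ∧ ∀ J : Ideal A, x ∈ J • (⊤ : Submodule A N) → I ≤ J) ∧
    ∀ (M : Type u) [AddCommGroup M] [Module A M] [Module.Flat A M] (u : N →ₗ[A] M),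
      (∀ (m : Ideal A) [m.IsMaximal], Function.Injective (u.lTensor (A ⧸ m))) → FlatCA.UnivInj A u := by
  classical
  obtain ⟨C, _, _, _, _, _, _, _, _, _, _, N', _, _, _, _, g, -, -, hg, hproj, huinj⟩ := h
  -- multiplication by elements of `Localization T` on `N`
  let μ : Localization T → (N →ₗ[A] N) := fun r =>
    { toFun := fun x => r • x
      map_add' := fun x y => smul_add r x y
      map_smul' := fun a x => (smul_comm a r x).symm }
  have hμ : ∀ r s : Localization T, μ r ∘ₗ μ s = μ (r * s) := fun r s =>
    LinearMap.ext fun x => (mul_smul r s x).symm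
  have hμ1 : μ 1 = LinearMap.id := LinearMap.ext fun x => one_smul _ x
  have hsc : ∀ (c : C) (y : N'), g (c • y) = algebraMap C (Localization T) c • g y := fun c y => by
    rw [map_smul, algebraMap_smul]
  have hmk : ∀ r : Localization T, ∃ (t : T) (b : C),
      algebraMap B (Localization T) t * r = algebraMap C (Localization T) b := fun r => by
    obtain ⟨⟨b, t⟩, hbt⟩ := IsLocalization.surj T r
    exact ⟨t, algebraMap B C b, by rw [mul_comm, hbt, ← IsScalarTower.algebraMap_apply]⟩
  have htu : ∀ t : T, ∃ w : Localization T, w * algebraMap B (Localization T) t = 1 ∧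
      algebraMap B (Localization T) t * w = 1 := fun t => by
    obtain ⟨u, hu⟩ := IsLocalization.map_units (Localization T) t
    exact ⟨↑u⁻¹, by rw [← hu, Units.inv_mul], by rw [← hu, Units.mul_inv]⟩
  have hT : ∀ (t : T) (y : N'), algebraMap B (Localization T) t • g y = g (algebraMap B C t • y) := fun t y => by
    rw [hsc, ← IsScalarTower.algebraMap_apply]
  have hx : ∀ x : N, ∃ (t : T) (y : N'), μ (algebraMap B (Localization T) t) x = g y := by
    intro x
    induction x using hg.inductionOn with
    | zero => exact ⟨1, 0, by rw [map_zero, map_zero]⟩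
    | tmul y => exact ⟨1, algebraMap B C (1 : T).1 • y, hT 1 y⟩
    | smul r n hn =>
      obtain ⟨t, y, hy⟩ := hn
      obtain ⟨t', b, hb⟩ := hmk r
      refine ⟨t' * t, b • y, ?_⟩
      rw [hsc, ← hb, ← hy]
      show (algebraMap B (Localization T) (↑(t' * t))) • r • n = _ • algebraMap B (Localization T) t • n
      rw [smul_smul, smul_smul, Submonoid.coe_mul, map_mul]
      ring_nf
    | add n₁ n₂ h₁ h₂ =>
      obtain ⟨t₁, y₁, hy₁⟩ := h₁
      obtain ⟨t₂, y₂, hy₂⟩ := h₂
      refine ⟨t₁ * t₂, algebraMap B C t₂ • y₁ + algebraMap B C t₁ • y₂, ?_⟩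
      rw [map_add g, ← hT, ← hT, ← hy₁, ← hy₂]
      show algebraMap B (Localization T) (↑(t₁ * t₂)) • (n₁ + n₂) =
        _ • algebraMap B (Localization T) t₁ • n₁ + _ • algebraMap B (Localization T) t₂ • n₂
      rw [smul_add, smul_smul, smul_smul, Submonoid.coe_mul, map_mul]
      ring_nf
  have hstab : ∀ (r : Localization T) (J : Ideal A) (x : N),
      x ∈ J • (⊤ : Submodule A N) → μ r x ∈ J • (⊤ : Submodule A N) := fun r J x hx => by
    have := Submodule.mem_map_of_mem (f := μ r) hx
    rw [Submodule.map_smul''] at this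
    exact Submodule.smul_mono le_rfl le_top this
  have hgJ : ∀ (J : Ideal A) (y : N'), g y ∈ J • (⊤ : Submodule A N) → y ∈ J • (⊤ : Submodule A N') :=
    fun J y hy => RG.mem_smul_top_of_lTensor_injective J (g.restrictScalars A) (huinj (A ⧸ J)) hy
  refine ⟨fun x => ?_, fun M _ _ _ u hu => ?_⟩
  · obtain ⟨t, y, hy⟩ := hx x
    obtain ⟨w, hw, hw'⟩ := htu t
    obtain ⟨s, hs⟩ := Module.projective_def'.mp hproj
    refine ⟨Ideal.span (Set.range (s y)), ?_, fun J hJ => ?_⟩
    · have h1 : y ∈ Ideal.span (Set.range (s y)) • (⊤ : Submodule A N') := by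
        have h2 := LinearMap.congr_fun hs y
        rw [LinearMap.id_apply, LinearMap.comp_apply, Finsupp.linearCombination_apply, Finsupp.sum] at h2
        have h3 : ∑ a ∈ (s y).support, (s y) a • id a ∈ Ideal.span (Set.range (s y)) • (⊤ : Submodule A N') :=
          Submodule.sum_mem _ fun i _ => Submodule.smul_mem_smul (Ideal.subset_span ⟨i, rfl⟩) trivial
        rwa [h2] at h3
      have h2 : g y ∈ Ideal.span (Set.range (s y)) • (⊤ : Submodule A N) := by
        have := Submodule.mem_map_of_mem (f := g.restrictScalars A) h1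
        rw [Submodule.map_smul''] at this
        exact Submodule.smul_mono le_rfl le_top this
      have h3 := hstab w _ _ h2
      rwa [← hy, ← LinearMap.comp_apply, hμ, hw, hμ1] at h3
    · have h1 : y ∈ J • (⊤ : Submodule A N') := hgJ J y (hy ▸ hstab _ _ _ hJ)
      have h2 := Submodule.mem_map_of_mem (f := s) h1
      rw [Submodule.map_smul''] at h2
      rw [Ideal.span_le]
      rintro _ ⟨i, rfl⟩
      refine Submodule.smul_induction_on (p := fun f => f i ∈ J) h2 (fun a ha f _ => ?_) (fun f f' hf hf' => ?_)
      · rw [Finsupp.smul_apply, smul_eq_mul]; exact J.mul_mem_right _ ha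
      · rw [Finsupp.add_apply]; exact add_mem hf hf'
  · intro X _ _
    rw [injective_iff_map_eq_zero]
    intro z hz
    -- clear a denominator
    have hz' : ∃ (t : T) (z' : X ⊗[A] N'),
        (μ (algebraMap B (Localization T) t)).lTensor X z = (g.restrictScalars A).lTensor X z' := by
      clear hz
      induction z using TensorProduct.induction_on with
      | zero => exact ⟨1, 0, by rw [map_zero, map_zero]⟩
      | tmul a n =>
        obtain ⟨t, y, hy⟩ := hx n
        exact ⟨t, a ⊗ₜ y, by rw [LinearMap.lTensor_tmul, LinearMap.lTensor_tmul, hy]; rfl⟩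
      | add z₁ z₂ h₁ h₂ =>
        obtain ⟨t₁, y₁, hy₁⟩ := h₁
        obtain ⟨t₂, y₂, hy₂⟩ := h₂
        let ν : T → (N' →ₗ[A] N') := fun t =>
          { toFun := fun y => algebraMap B C t • y
            map_add' := fun x y => smul_add _ x y
            map_smul' := fun a x => (smul_comm a _ x).symm }
        have hν : ∀ t : T, μ (algebraMap B (Localization T) t) ∘ₗ g.restrictScalars A =
            g.restrictScalars A ∘ₗ ν t := fun t => LinearMap.ext fun y => hT t y
        refine ⟨t₁ * t₂, (ν t₂).lTensor X y₁ + (ν t₁).lTensor X y₂, ?_⟩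
        rw [map_add, map_add, ← LinearMap.comp_apply (f := LinearMap.lTensor X (g.restrictScalars A)),
          ← LinearMap.comp_apply (f := LinearMap.lTensor X (g.restrictScalars A)), ← LinearMap.lTensor_comp,
          ← LinearMap.lTensor_comp, ← hν, ← hν, LinearMap.lTensor_comp, LinearMap.lTensor_comp,
          LinearMap.comp_apply, LinearMap.comp_apply, ← hy₁, ← hy₂, ← LinearMap.comp_apply, ← LinearMap.comp_apply,
          ← LinearMap.lTensor_comp, ← LinearMap.lTensor_comp, hμ, hμ, Submonoid.coe_mul, map_mul,
          mul_comm (algebraMap B (Localization T) (t₂ : B))]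
    obtain ⟨t, z', hz'⟩ := hz'
    obtain ⟨w, hw, hw'⟩ := htu t
    let v : N' →ₗ[A] M := u ∘ₗ μ w ∘ₗ g.restrictScalars A
    have hv : FlatCA.UnivInj A v := RG.univInj_of_projective_of_mod_maximal v fun m hm y hy => by
      have h1 := RG.mem_smul_top_of_lTensor_injective m u (hu m) hy
      have h2 := hstab (algebraMap B (Localization T) t) m _ h1
      rw [← LinearMap.comp_apply, ← LinearMap.comp_assoc, hμ, hw', hμ1] at h2
      exact hgJ m y h2
    have hv0 : z' = 0 := hv X (by
      rw [map_zero, LinearMap.lTensor_comp, LinearMap.comp_apply, LinearMap.lTensor_comp, LinearMap.comp_apply,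
        ← hz', ← LinearMap.comp_apply (f := LinearMap.lTensor X (μ w)), ← LinearMap.lTensor_comp, hμ, hw, hμ1,
        LinearMap.lTensor_id, LinearMap.id_apply, hz])
    rw [hv0, map_zero] at hz'
    have h4 := congrArg ((μ w).lTensor X) hz'
    rwa [map_zero, ← LinearMap.comp_apply, ← LinearMap.lTensor_comp, hμ, hw, hμ1, LinearMap.lTensor_id,
      LinearMap.id_apply] at h4

end Groth.Agent.S1293
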