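import Groth.Statements.S12931
import Mathlib
-- import your own Groth.Agent.* helpers here

set_option autoImplicit false
universe u v w
open HopfRep

namespace Groth.Agent.S12931

/-- Let `R` be a commutative ring, `Γ` a finite set and `T` a commutative `R`-algebra which is
connected: nonzero, with no idempotents other than `0` and `1`. Then `γ ↦ (evaluation at γ : (Γ → R)
→ R → T)` is a bijection from `Γ` onto the `R`-algebra maps `(Γ → R) → T`: every such map sends
exactly one of the indicator functions to `1` and the others to `0`. (Only the bijection of sets is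
stated; when `Γ` is a group, the compatibility with the group structures on both sides is not.) -/
theorem result
    (R : Type u) [CommRing R] (Γ : Type v) [Finite Γ]
    (T : Type w) [CommRing T] [Algebra R T] [Nontrivial T]
    (hT : ∀ e : T, IsIdempotentElem e → e = 0 ∨ e = 1) :
    Function.Bijective (fun γ : Γ => (Algebra.ofId R T).comp (Pi.evalAlgHom R (fun _ : Γ => R) γ)) := by
  classical
  have : Fintype Γ := Fintype.ofFinite Γ
  let f : Γ → ((Γ → R) →ₐ[R] T) := fun γ => (Algebra.ofId R T).comp (Pi.evalAlgHom R (fun _ : Γ => R) γ)
  refine ⟨fun γ δ h => ?_, fun φ => ?_⟩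
  · by_contra hne
    have := DFunLike.congr_fun h (Pi.single γ 1)
    simp [Ne.symm hne] at this
  · have hsum : ∑ γ : Γ, φ (Pi.single γ 1) = 1 := by
      rw [← map_sum, Finset.univ_sum_single (fun _ : Γ => (1 : R))]
      exact map_one φ
    obtain ⟨γ, hγ⟩ : ∃ γ, φ (Pi.single γ 1) ≠ 0 := by
      by_contra! hc
      exact zero_ne_one ((Finset.sum_eq_zero fun γ _ => hc γ).symm.trans hsum)
    have hγ1 : φ (Pi.single γ 1) = 1 := (hT _ (by
      rw [IsIdempotentElem, ← map_mul, ← Pi.single_mul, one_mul])).resolve_left hγ
    refine ⟨γ, AlgHom.ext fun x => ?_⟩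
    calc algebraMap R T (x γ) = φ (algebraMap R (Γ → R) (x γ) * Pi.single γ 1) := by
          rw [map_mul, hγ1, mul_one, AlgHom.commutes]
      _ = φ (x * Pi.single γ 1) := congrArg φ (funext fun i => by
          by_cases h : i = γ
          · subst h; simp
          · simp [h])
      _ = φ x := by rw [map_mul, hγ1, mul_one]

end Groth.Agent.S12931
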