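import Groth.Statements.S12932
import Mathlib
-- import your own Groth.Agent.* helpers here

set_option autoImplicit false
universe u v
open scoped BigOperators
open InvTh

namespace Groth.Agent.S12932

/-- Let `B` be a commutative ring with an action of a finite group `Γ` by ring automorphisms, and call a
prime ideal `P` of `B` tame when the order of its inertia group `{γ | γ • x - x ∈ P for all x}` is
not divisible by the characteristic of `B/P` (its ramification group is trivial). Then every prime
of `B` is tame if and only if the trace `b ↦ Σ_γ γ • b`, which takes values in the invariant ring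
`B^Γ` and is `B^Γ`-linear, is onto `B^Γ` — equivalently, some element of `B` has trace `1`. -/
theorem result
    (B : Type u) [CommRing B] (Γ : Type v) [Group Γ] [Fintype Γ] [MulSemiringAction Γ B] :
    (∃ b : B, ∑ γ : Γ, γ • b = 1) ↔
      ∀ P : Ideal B, P.IsPrime → ((Nat.card (P.inertia Γ) : ℕ) : B ⧸ P) ≠ 0 := by
  classical
  let π : ∀ P : Ideal B, B →+* B ⧸ P := fun P => Ideal.Quotient.mk P
  let χ : ∀ P : Ideal B, Γ → (B →* B ⧸ P) := fun P γ =>
    (π P).toMonoidHom.comp (MulSemiringAction.toRingHom Γ B γ).toMonoidHom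
  have hχ : ∀ P γ b, χ P γ b = π P (γ • b) := fun _ _ _ => rfl
  have hsum : ∀ (P : Ideal B) (b : B), π P (∑ γ : Γ, γ • b) =
      ((Nat.card (P.inertia Γ) : ℕ) : B ⧸ P) * ∑ f ∈ Finset.univ.image (χ P), f b := by
    intro P b
    rw [map_sum, Finset.mul_sum]
    simp only [← hχ]
    rw [Finset.sum_comp (fun f : B →* B ⧸ P => f b) (χ P)]
    refine Finset.sum_congr rfl fun f hf => ?_
    obtain ⟨δ, -, rfl⟩ := Finset.mem_image.mp hf
    have hcard : (Finset.univ.filter fun γ => χ P γ = χ P δ).card = Nat.card (P.inertia Γ) := by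
      rw [← Fintype.card_subtype, ← Nat.card_eq_fintype_card]
      refine Nat.card_congr (Equiv.subtypeEquiv (Equiv.mulRight δ⁻¹) fun γ => ⟨fun h x => ?_, fun h => ?_⟩)
      · have := DFunLike.congr_fun h (δ⁻¹ • x)
        simp only [hχ, smul_inv_smul] at this
        refine (Ideal.Quotient.mk_eq_mk_iff_sub_mem _ _).mp ?_
        rw [Equiv.coe_mulRight, mul_smul]
        exact this
      · refine MonoidHom.ext fun x => (Ideal.Quotient.mk_eq_mk_iff_sub_mem _ _).mpr ?_
        have := h (δ • x)
        rwa [Equiv.coe_mulRight, mul_smul, inv_smul_smul] at this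
    rw [hcard, nsmul_eq_mul]
  constructor
  · rintro ⟨b, hb⟩ P hP h0
    have := hsum P b
    rw [hb, map_one, h0, zero_mul] at this
    exact one_ne_zero this
  · intro h
    let B₀ : Subring B := FixedPoints.subring B Γ
    have : Algebra.IsInvariant B₀ B Γ := ⟨fun b hb => ⟨⟨b, hb⟩, rfl⟩⟩
    have : Algebra.IsIntegral B₀ B := Algebra.IsInvariant.isIntegral B₀ B Γ
    let T : B →ₗ[B₀] B₀ :=
      { toFun := fun b => ⟨∑ γ : Γ, γ • b, fun g => by
          rw [Finset.smul_sum]
          exact Fintype.sum_equiv (Equiv.mulLeft g) _ _ fun γ => smul_smul g γ b⟩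
        map_add' := fun a b => Subtype.ext (by simp [smul_add, Finset.sum_add_distrib])
        map_smul' := fun c b => Subtype.ext (by
          show ∑ γ : Γ, γ • ((c : B) * b) = (c : B) * ∑ γ : Γ, γ • b
          rw [Finset.mul_sum]
          exact Finset.sum_congr rfl fun γ _ => by rw [smul_mul', c.2 γ]) }
    by_contra hc
    have hne : LinearMap.range T ≠ ⊤ := fun htop => by
      obtain ⟨b, hb⟩ := (LinearMap.range_eq_top.mp htop) 1
      exact hc ⟨b, congrArg Subtype.val hb⟩
    obtain ⟨m, hm, hle⟩ := Ideal.exists_le_maximal _ hne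
    obtain ⟨P, hP, hPm⟩ := Ideal.exists_ideal_over_maximal_of_isIntegral (S := B) m (by
      rw [(RingHom.injective_iff_ker_eq_bot _).mp Subtype.val_injective]; exact bot_le)
    have := hP.isPrime
    have hzero : ∀ b, π P (∑ γ : Γ, γ • b) = 0 := fun b =>
      Ideal.Quotient.eq_zero_iff_mem.mpr (show (T b : B₀) ∈ P.comap (algebraMap B₀ B) from hPm ▸ hle ⟨b, rfl⟩)
    have hlin : ∑ f ∈ Finset.univ.image (χ P), (1 : B ⧸ P) • (f : B → B ⧸ P) = 0 := funext fun b => by
      simp only [Finset.sum_apply, Pi.smul_apply, one_smul, Pi.zero_apply]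
      have := hsum P b
      rw [hzero] at this
      exact (mul_eq_zero.mp this.symm).resolve_left (h P hP.isPrime)
    exact one_ne_zero (linearIndependent_iff'.mp (linearIndependent_monoidHom B (B ⧸ P)) _ _ hlin _
      (Finset.mem_image_of_mem _ (Finset.mem_univ (1 : Γ))))

end Groth.Agent.S12932
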