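import Groth.Statements.S12933
import Mathlib
-- import your own Groth.Agent.* helpers here

set_option autoImplicit false
universe u v w w'
open TensorProduct
open InvTh

namespace Groth.Agent.S12933

/-- Let `R` be a commutative ring, `B` a commutative `R`-algebra with an action of a finite group `Γ` by
`R`-algebra automorphisms, and `R'` a flat commutative `R`-algebra; let `Γ` act on `R' ⊗_R B`
through the factor `B`. Then an element of `R' ⊗_R B` is fixed by every element of `Γ` if and only
if it lies in the `R'`-submodule spanned by the tensors `1 ⊗ b` with `b ∈ B^Γ`: taking invariants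
commutes with flat base change (the map `R' ⊗_R B^Γ → R' ⊗_R B` being moreover injective by
flatness). -/
theorem result
    (R : Type u) [CommRing R] (B : Type v) [CommRing B] [Algebra R B]
    (Γ : Type w) [Group Γ] [Finite Γ] [MulSemiringAction Γ B] [SMulCommClass Γ R B]
    (R' : Type w') [CommRing R'] [Algebra R R'] [Module.Flat R R']
    (x : R' ⊗[R] B) :
    (∀ γ : Γ, Algebra.TensorProduct.map (AlgHom.id R R') (MulSemiringAction.toAlgHom R B γ) x = x) ↔
      x ∈ Submodule.span R' ((fun b : B => (1 : R') ⊗ₜ[R] b) '' {b : B | ∀ γ : Γ, γ • b = b}) := by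
  classical
  have : Fintype Γ := Fintype.ofFinite Γ
  let a : Γ → (B →ₗ[R] B) := fun γ => (MulSemiringAction.toAlgHom R B γ).toLinearMap - LinearMap.id
  let f : B →ₗ[R] (Γ → B) := LinearMap.pi a
  have hker : ∀ b : B, b ∈ LinearMap.ker f ↔ ∀ γ : Γ, γ • b = b := fun b => by
    simp [f, a, funext_iff, sub_eq_zero]
  constructor
  · intro h
    have hex : Function.Exact ((LinearMap.ker f).subtype.lTensor R') (f.lTensor R') :=
      Module.Flat.lTensor_exact R' (LinearMap.exact_subtype_ker_map f)
    have h0 : f.lTensor R' x = 0 := by
      apply (TensorProduct.piRight R R R' (fun _ : Γ => B)).injective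
      rw [map_zero]
      refine funext fun γ => ?_
      have key : ∀ z : R' ⊗[R] B, TensorProduct.piRight R R R' (fun _ : Γ => B) (f.lTensor R' z) γ =
          Algebra.TensorProduct.map (AlgHom.id R R') (MulSemiringAction.toAlgHom R B γ) z - z := fun z => by
        induction z using TensorProduct.induction_on with
        | zero => simp
        | tmul r b => simp [f, a, TensorProduct.tmul_sub]
        | add p q hp hq => simp only [map_add, Pi.add_apply, hp, hq]; abel
      rw [key, h γ, sub_self]; rfl
    obtain ⟨y, rfl⟩ := (hex x).mp h0
    clear h h0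
    induction y using TensorProduct.induction_on with
    | zero => simp
    | tmul r b =>
      have : (LinearMap.ker f).subtype.lTensor R' (r ⊗ₜ[R] b) = r • ((1 : R') ⊗ₜ[R] (b : B)) := by
        simp [TensorProduct.smul_tmul']
      rw [this]
      exact Submodule.smul_mem _ _ (Submodule.subset_span ⟨b, (hker b).mp b.2, rfl⟩)
    | add p q hp hq => rw [map_add]; exact Submodule.add_mem _ hp hq
  · intro hx γ
    induction hx using Submodule.span_induction with
    | mem z hz => obtain ⟨b, hb, rfl⟩ := hz; simp [hb γ]
    | zero => simp
    | add p q _ _ hp hq => rw [map_add, hp, hq]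
    | smul r z _ hz =>
      rw [show r • z = (r ⊗ₜ[R] (1 : B)) * z from ?_, map_mul, hz]
      · simp
      · exact (Algebra.smul_def r z).trans (by rw [Algebra.TensorProduct.algebraMap_apply]; simp)

end Groth.Agent.S12933
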