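import Groth.Statements.S12934
import Mathlib
-- import your own Groth.Agent.* helpers here

set_option autoImplicit false
universe u v
open InvTh

namespace Groth.Agent.S12934

/-- Let `B` be a local commutative ring with maximal ideal `m` and residue field `k`, and `Γ` a finite
group acting faithfully on `B` by ring automorphisms, such that every element of `Γ` acts trivially
modulo `m` (the whole group is inertia) and maps each principal ideal of `B` into itself (every
ideal is stable). Let `S ⊆ Γ` be the set of `γ` with `γ b ∈ b + b m` for all `b`. Then: if `k` has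
characteristic `0`, `S = {1}`; if `k` has characteristic `p > 0`, `S` is (the underlying set of) a
Sylow `p`-subgroup; every commutator of `Γ` lies in `S`, so `Γ/S` is abelian; and whenever the class
of `γ` in `Γ/S` has order `n` (`γ^n ∈ S`, no smaller positive power in `S`), `k` contains a
primitive `n`-th root of unity. (The published statement also bounds the number of generators of
`Γ/S` by the number of generators of the monoid of principal ideals; that clause is not included.) -/
theorem result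
    (B : Type u) [CommRing B] [IsLocalRing B]
    (Γ : Type v) [Group Γ] [Finite Γ] [MulSemiringAction Γ B] [FaithfulSMul Γ B]
    (hin : ∀ (γ : Γ) (b : B), γ • b - b ∈ IsLocalRing.maximalIdeal B)
    (hst : ∀ (γ : Γ) (b : B), ∃ u : B, γ • b = b * u)
    (S : Set Γ)
    (hS : ∀ γ : Γ, γ ∈ S ↔ ∀ b : B, ∃ x ∈ IsLocalRing.maximalIdeal B, γ • b = b + b * x) :
    (ringChar (IsLocalRing.ResidueField B) = 0 → S = {1}) ∧
      (∀ (p : ℕ) [Fact p.Prime], ringChar (IsLocalRing.ResidueField B) = p →
        ∃ Q : Sylow p Γ, (Q : Set Γ) = S) ∧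
      (∀ γ δ : Γ, γ * δ * γ⁻¹ * δ⁻¹ ∈ S) ∧
      (∀ (γ : Γ) (n : ℕ), 0 < n → γ ^ n ∈ S → (∀ i : ℕ, 0 < i → i < n → γ ^ i ∉ S) →
        ∃ ζ : IsLocalRing.ResidueField B, IsPrimitiveRoot ζ n) := by
  classical
  have : Fintype Γ := Fintype.ofFinite Γ
  let m := IsLocalRing.maximalIdeal B
  let κ := IsLocalRing.ResidueField B
  let res : B →+* κ := IsLocalRing.residue B
  have hres : ∀ a b : B, res a = res b ↔ a - b ∈ m := fun a b => Ideal.Quotient.mk_eq_mk_iff_sub_mem a b
  choose u hu using hst
  have uniq : ∀ b : B, b ≠ 0 → ∀ v w : B, b * v = b * w → res v = res w := by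
    intro b hb v w h
    rw [hres]
    by_contra hn
    have hunit : IsUnit (v - w) := by simpa [m] using hn
    exact hb (hunit.mul_left_eq_zero.mp (by rw [mul_sub, h, sub_self]))
  have hfix : ∀ (γ : Γ) (b : B), res (γ • b) = res b := fun γ b => (hres _ _).mpr (hin γ b)
  let χ : Γ →* ({b : B // b ≠ 0} → κ) :=
    { toFun := fun γ b => res (u γ b.1)
      map_one' := funext fun b => (uniq b.1 b.2 _ 1 (by rw [← hu, one_smul, mul_one])).trans (map_one res)
      map_mul' := fun γ δ => funext fun b => by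
        show res (u (γ * δ) b.1) = res (u γ b.1) * res (u δ b.1)
        rw [← hfix γ (u δ b.1), ← map_mul]
        refine uniq b.1 b.2 _ _ ?_
        rw [← hu, mul_smul, hu δ, smul_mul', hu γ]
        ring }
  have hSker : ∀ γ, γ ∈ S ↔ γ ∈ χ.ker := by
    intro γ
    rw [hS, MonoidHom.mem_ker]
    constructor
    · intro h
      refine funext fun b => ?_
      obtain ⟨x, hx, hxb⟩ := h b.1
      refine ((uniq b.1 b.2 (u γ b.1) (1 + x) ?_).trans ((hres _ 1).mpr (by rw [add_sub_cancel_left]; exact hx))).trans (map_one res)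
      rw [← hu, hxb]; ring
    · intro h b
      by_cases hb : b = 0
      · exact ⟨0, m.zero_mem, by simp [hb]⟩
      · refine ⟨u γ b - 1, (hres _ _).mp ((congrFun h ⟨b, hb⟩).trans (map_one res).symm), ?_⟩
        rw [hu]; ring
  have hSset : S = (χ.ker : Set Γ) := Set.ext hSker
  have hord : ∀ γ ∈ S, ∀ n : ℕ, γ ^ n = 1 → (n : κ) ≠ 0 → γ = 1 := by
    intro γ hγ n hn hn0
    refine FaithfulSMul.eq_of_smul_eq_smul (α := B) fun b => ?_
    rw [one_smul, ← sub_eq_zero]
    set d := γ • b - b with hd
    obtain ⟨x, hx, hxb⟩ := (hS γ).mp hγ d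
    have hk : ∀ i : ℕ, ∃ y ∈ m, γ ^ i • d = d * (1 + y) := by
      intro i
      induction i with
      | zero => exact ⟨0, m.zero_mem, by simp⟩
      | succ i ih =>
        obtain ⟨y, hy, hyd⟩ := ih
        refine ⟨(1 + x) * (γ • (1 + y)) - 1, (hres _ 1).mp ?_, ?_⟩
        · rw [map_mul, hfix, map_add, map_add, show res x = 0 from Ideal.Quotient.eq_zero_iff_mem.mpr hx,
            show res y = 0 from Ideal.Quotient.eq_zero_iff_mem.mpr hy]
          simp
        · rw [pow_succ', mul_smul, hyd, smul_mul', hxb]; ring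
    choose y hy hyd using hk
    have htel : ∑ i ∈ Finset.range n, γ ^ i • d = 0 := by
      simp only [hd, smul_sub, ← mul_smul, ← pow_succ]
      rw [Finset.sum_range_sub (fun i => γ ^ i • b), hn, pow_zero, sub_self]
    simp only [hyd, ← Finset.mul_sum, Finset.sum_add_distrib, Finset.sum_const, Finset.card_range, nsmul_eq_mul,
      mul_one] at htel
    have hunit : IsUnit ((n : B) + ∑ i ∈ Finset.range n, y i) := by
      by_contra hc
      apply hn0
      have h1 : res ((n : B) + ∑ i ∈ Finset.range n, y i) = 0 :=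
        Ideal.Quotient.eq_zero_iff_mem.mpr ((IsLocalRing.mem_maximalIdeal _).mpr hc)
      have h2 : res (∑ i ∈ Finset.range n, y i) = 0 :=
        Ideal.Quotient.eq_zero_iff_mem.mpr (m.sum_mem fun i _ => hy i)
      rw [map_add, h2, add_zero, map_natCast] at h1
      exact h1
    exact hunit.mul_left_eq_zero.mp htel
  refine ⟨fun hc => ?_, fun p _ hc => ?_, fun γ δ => ?_, fun γ n hn hγn hlow => ?_⟩
  · have : CharZero κ := (CharP.ringChar_zero_iff_CharZero κ).mp hc
    refine Set.Subset.antisymm (fun γ hγ => ?_) (by rintro _ rfl; exact (hSker 1).mpr χ.ker.one_mem)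
    exact hord γ hγ (orderOf γ) (pow_orderOf_eq_one γ) (Nat.cast_ne_zero.mpr (orderOf_pos γ).ne')
  · have : CharP κ p := ringChar.of_eq hc
    have hp : IsPGroup p χ.ker := by
      intro g
      obtain ⟨k, r, hr, hkr⟩ := Nat.exists_eq_pow_mul_and_not_dvd (orderOf_pos (g : Γ)).ne' p (Fact.out : p.Prime).ne_one
      refine ⟨k, Subtype.ext ?_⟩
      refine hord _ ((hSker _).mpr (χ.ker.pow_mem g.2 (p ^ k))) r ?_ ?_
      · show ((g : Γ) ^ p ^ k) ^ r = 1
        rw [← pow_mul, ← hkr, pow_orderOf_eq_one]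
      · exact fun h => hr ((CharP.cast_eq_zero_iff κ p r).mp h)
    have hidx : ¬ p ∣ χ.ker.index := by
      intro hdvd
      rw [χ.ker.index_eq_card] at hdvd
      obtain ⟨q, hq⟩ := exists_prime_orderOf_dvd_card' p hdvd
      obtain ⟨g, rfl⟩ := QuotientGroup.mk_surjective q
      have h1 : χ g ^ p = 1 := by
        rw [← map_pow, ← MonoidHom.mem_ker, ← QuotientGroup.eq_one_iff, QuotientGroup.mk_pow, ← hq,
          pow_orderOf_eq_one]
      have h2 : g ∈ χ.ker := MonoidHom.mem_ker.mpr (funext fun b =>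
        sub_eq_zero.mp (eq_zero_of_pow_eq_zero (n := p) (by
          rw [sub_pow_char, Pi.one_apply, one_pow, sub_eq_zero]; exact congrFun h1 b)))
      rw [(QuotientGroup.eq_one_iff g).mpr h2, orderOf_one] at hq
      exact (Fact.out : p.Prime).ne_one hq.symm
    exact ⟨hp.toSylow hidx, hSset.symm⟩
  · rw [hSker, MonoidHom.mem_ker, map_mul, map_mul, map_mul, mul_comm (χ γ) (χ δ), mul_assoc (χ δ), ← map_mul χ γ,
      mul_inv_cancel, map_one, mul_one, ← map_mul, mul_inv_cancel, map_one]
  · have hord' : orderOf (χ γ) = n := by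
      rw [orderOf_eq_iff hn]
      refine ⟨by rw [← map_pow]; exact (hSker _).mp hγn, fun i hi hi0 h => hlow i hi0 hi ?_⟩
      rw [hSker, MonoidHom.mem_ker, map_pow, h]
    let G : Subgroup κˣ := rootsOfUnity n κ
    have : NeZero n := ⟨hn.ne'⟩
    have hmem : ∀ b, (χ γ b) ^ n = 1 := fun b => by
      rw [← Pi.pow_apply, ← hord', pow_orderOf_eq_one]; rfl
    obtain ⟨ζ, hζ⟩ := IsCyclic.exists_generator (α := rootsOfUnity n κ)
    have hz : orderOf ζ = n := by
      refine Nat.dvd_antisymm (orderOf_dvd_of_pow_eq_one (Subtype.ext ((mem_rootsOfUnity n _).mp ζ.2))) ?_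
      refine hord'.symm.dvd.trans ?_
      refine orderOf_dvd_of_pow_eq_one (funext fun b => ?_)
      obtain ⟨z, hz⟩ := hζ (rootsOfUnity.mkOfPowEq (χ γ b) (hmem b))
      have : (rootsOfUnity.mkOfPowEq (χ γ b) (hmem b)) ^ orderOf ζ = 1 := by
        rw [← hz]
        show (ζ ^ z) ^ orderOf ζ = 1
        rw [← zpow_natCast, ← zpow_mul, mul_comm, zpow_mul, zpow_natCast, pow_orderOf_eq_one, one_zpow]
      exact congrArg (fun w : rootsOfUnity n κ => ((w : κˣ) : κ)) this
    refine ⟨((ζ : κˣ) : κ), ?_⟩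
    have := IsPrimitiveRoot.orderOf ((ζ : κˣ) : κ)
    rwa [orderOf_units, Subgroup.orderOf_coe, hz] at this

end Groth.Agent.S12934
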