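import Groth.Statements.S12935
import Groth.Agent.InvLib.Finite
-- import your own Groth.Agent.* helpers here

set_option autoImplicit false
universe u v
open InvTh

namespace Groth.Agent.S12935

/-- Let `B` be a commutative ring with an action of a finite group `Γ` by ring automorphisms, `Ω` a
normal subgroup of `Γ`, `B^Ω` the subring of `Ω`-invariants (stable under `Γ`, with the induced
action of `Γ/Ω`), and `P` a prime ideal of `B`. Then (decomposition groups) an element `γ` maps `P ∩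
B^Ω` onto itself if and only if `γω` maps `P` onto itself for some `ω ∈ Ω`; and (inertia groups) `γ`
fixes `B^Ω` modulo `P ∩ B^Ω` if and only if `γω` fixes `B` modulo `P` for some `ω ∈ Ω`. In other
words the decomposition and inertia groups of `P ∩ B^Ω` under `Γ/Ω` are the images of those of `P`.
(The published statement also asserts the same for the ramification groups, the Sylow subgroups of
the inertia groups at the residue characteristic; that clause is not included here.) -/
theorem result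
    (B : Type u) [CommRing B] (Γ : Type v) [Group Γ] [Finite Γ] [MulSemiringAction Γ B]
    (Ω : Subgroup Γ) [Ω.Normal] (P : Ideal B) [P.IsPrime] (γ : Γ) :
    ((∀ x : B, (∀ ω ∈ Ω, ω • x = x) → (x ∈ P ↔ γ • x ∈ P)) ↔
        ∃ ω ∈ Ω, ∀ x : B, x ∈ P ↔ (γ * ω) • x ∈ P) ∧
      ((∀ x : B, (∀ ω ∈ Ω, ω • x = x) → γ • x - x ∈ P) ↔
        ∃ ω ∈ Ω, ∀ x : B, (γ * ω) • x - x ∈ P) := by
  classical
  have : Fintype Ω := Fintype.ofFinite Ω
  let π := Ideal.Quotient.mk P
  have hfixg : ∀ x : B, (∀ ω ∈ Ω, ω • x = x) → ∀ ω ∈ Ω, (γ * ω) • x = γ • x := fun x hx ω hω => by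
    rw [mul_smul, hx ω hω]
  refine ⟨⟨fun h => ?_, ?_⟩, ⟨fun h => ?_, ?_⟩⟩
  · let Q : Ω → Ideal B := fun ω => P.comap (MulSemiringAction.toRingHom Γ B (γ * ω))
    have hP : (P : Set B) ⊆ ⋃ ω ∈ (Finset.univ : Finset Ω), (Q ω : Set B) := by
      intro x hx
      have hN : Groth.Agent.InvLib.norm Ω x ∈ P :=
        Ideal.prod_mem P (Finset.mem_univ (1 : Ω)) (by simpa using hx)
      have := (h _ (Groth.Agent.InvLib.smul_norm Ω x)).mp hN
      rw [Groth.Agent.InvLib.norm, Finset.smul_prod'] at this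
      obtain ⟨ω, -, hω⟩ := (Ideal.IsPrime.prod_mem_iff).mp this
      refine Set.mem_iUnion₂.mpr ⟨ω, Finset.mem_univ _, ?_⟩
      show (γ * (ω : Γ)) • x ∈ P
      rwa [mul_smul]
    obtain ⟨ω, -, hω⟩ := (Ideal.subset_union_prime 1 1
      (fun ω _ _ _ => Ideal.IsPrime.comap _)).mp hP
    refine ⟨ω, ω.2, fun x => ⟨fun hx => hω hx, fun hx => ?_⟩⟩
    have hit : ∀ (m : ℕ) (y : B), y ∈ P → (γ * (ω : Γ)) ^ m • y ∈ P := by
      intro m
      induction m with
      | zero => simp
      | succ m ih =>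
        intro y hy
        rw [pow_succ', mul_smul]
        exact hω (ih y hy)
    obtain ⟨m, hm, hm1⟩ := (isOfFinOrder_iff_pow_eq_one.mp (isOfFinOrder_of_finite (γ * (ω : Γ))))
    obtain ⟨m, rfl⟩ := Nat.exists_eq_succ_of_ne_zero hm.ne'
    have := hit m _ hx
    rwa [smul_smul, ← pow_succ, hm1, one_smul] at this
  · rintro ⟨ω, hω, h⟩ x hx
    rw [← hfixg x hx ω hω]
    exact h x
  · obtain ⟨ω, hω, h'⟩ := Groth.Agent.InvLib.exists_smul_eq_of_eqOn_fixed Ω
      (π.comp (MulSemiringAction.toRingHom Γ B γ)) π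
      fun x hx => (Ideal.Quotient.mk_eq_mk_iff_sub_mem _ _).mpr (h x hx)
    refine ⟨ω, hω, fun x => (Ideal.Quotient.mk_eq_mk_iff_sub_mem _ _).mp ?_⟩
    rw [mul_smul]
    exact h' x
  · rintro ⟨ω, hω, h⟩ x hx
    rw [← hfixg x hx ω hω]
    exact h x

end Groth.Agent.S12935
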