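import Groth.Statements.S12936
import Groth.Agent.InvLib.Finite
-- import your own Groth.Agent.* helpers here

set_option autoImplicit false
universe u v
open InvTh

namespace Groth.Agent.S12936

/-- Let `B` be a commutative ring with an action of a finite group `Γ` by ring automorphisms and `P` a
maximal ideal of `B`, with decomposition group `D_P = {γ | γP = P}` and decomposition ring `D =
B^{D_P}`. Then `D = B^Γ + (P ∩ D)`: every element of `B` fixed by `D_P` is congruent modulo `P` to a
`Γ`-invariant element. Hence the residue field of `D` at `P ∩ D` is that of `B^Γ` at `P ∩ B^Γ`; for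
an arbitrary prime `P` the same equality of residue fields follows by localising at `P ∩ B^Γ`. (The
published statement prints this residue field as `k(P)`; the proof establishes the equality with the
residue field of `B^Γ` stated here.) -/
theorem result
    (B : Type u) [CommRing B] (Γ : Type v) [Group Γ] [Finite Γ] [MulSemiringAction Γ B]
    (P : Ideal B) [P.IsMaximal] (x : B)
    (hx : ∀ γ : Γ, (∀ y : B, y ∈ P ↔ γ • y ∈ P) → γ • x = x) :
    ∃ c : B, (∀ γ : Γ, γ • c = c) ∧ x - c ∈ P := by
  let H : Subgroup Γ :=
    { carrier := {g | ∀ y : B, y ∈ P ↔ g • y ∈ P}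
      one_mem' := fun y => by rw [one_smul]
      mul_mem' := fun {a b} ha hb y => by rw [mul_smul]; exact (hb y).trans (ha _)
      inv_mem' := fun {a} ha y => by rw [ha (a⁻¹ • y), smul_inv_smul] }
  exact Groth.Agent.InvLib.exists_fixed_sub_mem P H (fun h hh => hh) (fun g hg _ => hg) x hx
    fun g hg => by rw [hx g hg, sub_self]; exact P.zero_mem

end Groth.Agent.S12936
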