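import Groth.Statements.S12937
import Groth.Agent.InvLib.Finite
-- import your own Groth.Agent.* helpers here

set_option autoImplicit false
universe u v
open InvTh

namespace Groth.Agent.S12937

/-- Let `B` be a commutative ring with an action of a finite group `Γ` by ring automorphisms, `P` a
maximal ideal of `B`, `T = {γ | γ x - x ∈ P for all x}` its inertia group, `B^T` the inertia ring
and `B^Γ` the ring of invariants, so that `k(P ∩ B^Γ) ⊆ k(P ∩ B^T) ⊆ k(P) = B/P`. Then `k(P ∩ B^T)`
is the largest separable extension of `k(P ∩ B^Γ)` inside `k(P)`: an element `x` of `B` is congruent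
modulo `P` to a `T`-invariant element if and only if `x mod P` is a root of some polynomial with
`Γ`-invariant coefficients whose reduction modulo `P` is separable. (The published statement is for
every prime ideal `P`, as an equality of residue fields; this row takes `P` maximal, the case to
which the published proof reduces by localising at `P ∩ B^Γ`.) -/
theorem result
    (B : Type u) [CommRing B] (Γ : Type v) [Group Γ] [Finite Γ] [MulSemiringAction Γ B]
    (P : Ideal B) [P.IsMaximal] (x : B) :
    (∃ y : B, (∀ γ : Γ, γ ∈ P.inertia Γ → γ • y = y) ∧ x - y ∈ P) ↔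
      ∃ g : Polynomial B, (∀ (i : ℕ) (γ : Γ), γ • g.coeff i = g.coeff i) ∧
        (g.map (Ideal.Quotient.mk P)).Separable ∧ Polynomial.aeval x g ∈ P := by
  classical
  let I : Subgroup Γ := P.inertia Γ
  have : Fintype I := Fintype.ofFinite I
  have : Fintype Γ := Fintype.ofFinite Γ
  let π := Ideal.Quotient.mk P
  let : Field (B ⧸ P) := Ideal.Quotient.field P
  have hI : ∀ g : Γ, g ∈ I ↔ ∀ b : B, g • b - b ∈ P := fun g => Iff.rfl
  have hID : ∀ h ∈ I, ∀ y : B, y ∈ P ↔ h • y ∈ P := by
    intro h hh y
    have := (hI h).mp hh y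
    exact ⟨fun hy => by simpa using P.add_mem this hy, fun hy => by simpa using P.sub_mem hy this⟩
  constructor
  · rintro ⟨y, hy, hxy⟩
    let D : Finset Γ := Finset.univ.filter fun g => ∀ b : B, b ∈ P ↔ g • b ∈ P
    have hD : ∀ g, g ∈ D ↔ ∀ b : B, b ∈ P ↔ g • b ∈ P := fun g => by simp [D]
    let O : Finset (B ⧸ P) := D.image fun g => π (g • y)
    have hrep : ∀ r ∈ O, ∃ g ∈ D, π (g • y) = r := fun r hr => Finset.mem_image.mp hr
    choose rep hrepD hrep using hrep
    let G : Polynomial B := ∏ r ∈ O.attach, (Polynomial.X - Polynomial.C (rep r.1 r.2 • y))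
    let gb : Polynomial (B ⧸ P) := ∏ r ∈ O, (Polynomial.X - Polynomial.C r)
    have hG : G.map π = gb := by
      rw [Polynomial.map_prod]
      refine Eq.trans (Finset.prod_congr rfl fun r _ => ?_)
        (Finset.prod_attach O fun r => Polynomial.X - Polynomial.C r)
      rw [Polynomial.map_sub, Polynomial.map_X, Polynomial.map_C, hrep]
    have hGI : ∀ i, ∀ h ∈ I, h • G.coeff i = G.coeff i := by
      intro i h hh
      have : G.map (MulSemiringAction.toRingHom Γ B h) = G := by
        rw [Polynomial.map_prod]
        refine Finset.prod_congr rfl fun r _ => ?_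
        rw [Polynomial.map_sub, Polynomial.map_X, Polynomial.map_C]
        have hconj : (rep r.1 r.2)⁻¹ * h * rep r.1 r.2 ∈ I := by
          refine (hI _).mpr fun b => ?_
          rw [(hD _).mp (hrepD r.1 r.2), smul_sub, ← mul_smul, mul_assoc, mul_inv_cancel_left, mul_smul]
          exact (hI h).mp hh _
        show Polynomial.X - Polynomial.C (h • rep r.1 r.2 • y) = _
        conv_rhs => rw [← hy _ hconj]
        simp only [smul_smul, mul_assoc, mul_inv_cancel_left]
      conv_rhs => rw [← this]
      rw [Polynomial.coeff_map]; rfl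
    have hGD : ∀ i, ∀ g : Γ, (∀ b : B, b ∈ P ↔ g • b ∈ P) → g • G.coeff i - G.coeff i ∈ P := by
      intro i g hg
      let σ : B ⧸ P →+* B ⧸ P :=
        Ideal.quotientMap P (MulSemiringAction.toRingHom Γ B g) fun b hb => (hg b).mp hb
      have hσ : ∀ b, σ (π b) = π (g • b) := fun b => rfl
      have hmaps : Set.MapsTo σ (O : Set (B ⧸ P)) O := by
        intro r hr
        obtain ⟨d, hd, rfl⟩ := Finset.mem_image.mp hr
        rw [hσ, smul_smul]
        exact Finset.mem_image.mpr ⟨g * d, (hD _).mpr fun b => by
          rw [mul_smul]; exact ((hD d).mp hd b).trans (hg _), rfl⟩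
      have hinj : Function.Injective σ := σ.injective
      have himg : O.image σ = O :=
        Finset.eq_of_subset_of_card_le (Finset.image_subset_iff.mpr hmaps)
          (by rw [Finset.card_image_of_injective _ hinj])
      have hfix : gb.map σ = gb := by
        rw [Polynomial.map_prod]
        conv_rhs => simp only [gb]; rw [← himg, Finset.prod_image hinj.injOn]
        simp
      rw [← Ideal.Quotient.mk_eq_mk_iff_sub_mem, ← hσ, ← Polynomial.coeff_map π, hG]
      conv_rhs => rw [← hfix]
      rw [Polynomial.coeff_map]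
    have hlift : ∀ i, ∃ c : B, (∀ g : Γ, g • c = c) ∧ G.coeff i - c ∈ P := fun i =>
      Groth.Agent.InvLib.exists_fixed_sub_mem P I hID (fun g hg hb => by
        obtain ⟨h, hh, he⟩ := Groth.Agent.InvLib.exists_smul_eq_of_eqOn_fixed I
          (π.comp (MulSemiringAction.toRingHom Γ B g)) π
          fun b hb' => (Ideal.Quotient.mk_eq_mk_iff_sub_mem _ _).mpr (hb b hb')
        have : g * h ∈ I := (hI _).mpr fun b => (Ideal.Quotient.mk_eq_mk_iff_sub_mem _ _).mp (by
          rw [mul_smul]; exact he b)
        simpa using I.mul_mem this (I.inv_mem hh)) _ (hGI i) (hGD i)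
    choose c hc hc' using hlift
    let g : Polynomial B := ∑ i ∈ G.support, Polynomial.monomial i (c i)
    have hg : g.map π = gb := by
      rw [← hG]
      refine Polynomial.ext fun i => ?_
      simp only [Polynomial.coeff_map, g, Polynomial.finsetSum_coeff, Polynomial.coeff_monomial, Finset.sum_ite_eq']
      split_ifs with h
      · exact ((Ideal.Quotient.mk_eq_mk_iff_sub_mem _ _).mpr (hc' i)).symm
      · rw [Polynomial.notMem_support_iff.mp h]
    refine ⟨g, fun i γ => ?_, ?_, ?_⟩
    · simp only [g, Polynomial.finsetSum_coeff, Polynomial.coeff_monomial, Finset.sum_ite_eq']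
      split_ifs
      · exact hc i γ
      · exact smul_zero γ
    · rw [hg]
      exact Polynomial.separable_prod_X_sub_C_iff'.mpr (fun a _ b _ h => h)
    · rw [← Ideal.Quotient.eq_zero_iff_mem]
      show π (g.eval x) = 0
      rw [← Polynomial.eval_map_apply, hg, Polynomial.eval_prod]
      refine Finset.prod_eq_zero (i := π y) (Finset.mem_image.mpr ⟨1, (hD 1).mpr (by simp), by simp⟩) ?_
      simp [(Ideal.Quotient.mk_eq_mk_iff_sub_mem x y).mpr hxy, π]
  · rintro ⟨g, hg, hsep, hroot⟩
    let S : Subring B :=
      { carrier := {b | ∀ h ∈ I, h • b = b}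
        mul_mem' := fun {a b} ha hb h hh => by rw [smul_mul', ha h hh, hb h hh]
        one_mem' := fun h _ => smul_one h
        add_mem' := fun {a b} ha hb h hh => by rw [smul_add, ha h hh, hb h hh]
        zero_mem' := fun h _ => smul_zero h
        neg_mem' := fun {a} ha h hh => by rw [smul_neg, ha h hh] }
    let K : Subfield (B ⧸ P) :=
      { S.map π with
        inv_mem' := by
          rintro _ ⟨u, hu, rfl⟩
          by_cases hu0 : π u = 0
          · rw [hu0, inv_zero]; exact (S.map π).zero_mem
          · obtain ⟨v, hv, huv⟩ := Groth.Agent.InvLib.exists_inv_mod I P u hu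
              fun h => hu0 (Ideal.Quotient.eq_zero_iff_mem.mpr h)
            refine ⟨v, hv, (eq_inv_of_mul_eq_one_right ?_)⟩
            rw [← map_mul, ← map_one π]
            exact (Ideal.Quotient.mk_eq_mk_iff_sub_mem _ _).mpr huv }
    have hK : ∀ b ∈ S, π b ∈ K := fun b hb => ⟨b, hb, rfl⟩
    let lift : ∀ q : Polynomial B, (∀ i, q.coeff i ∈ S) →
        ∃ q' : Polynomial K, q'.map (algebraMap K (B ⧸ P)) = q.map π := fun q hq =>
      (Polynomial.mem_lifts _).mp ((Polynomial.lifts_iff_coeff_lifts _).mpr fun i =>
        ⟨⟨π (q.coeff i), hK _ (hq i)⟩, (Polynomial.coeff_map π i).symm⟩)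
    let f : Polynomial B := ∏ h : I, (Polynomial.X - Polynomial.C ((h : Γ) • x))
    obtain ⟨f', hf'⟩ := lift f fun i => Groth.Agent.InvLib.coeff_prod_X_sub I x i
    obtain ⟨g', hg'⟩ := lift g fun i h _ => hg i h
    let n := Fintype.card I
    have hf : f.map π = (Polynomial.X - Polynomial.C (π x)) ^ n := by
      rw [Polynomial.map_prod]
      refine (Finset.prod_congr rfl fun h _ => ?_).trans (Finset.prod_const _)
      rw [Polynomial.map_sub, Polynomial.map_X, Polynomial.map_C,
        (Ideal.Quotient.mk_eq_mk_iff_sub_mem _ _).mpr ((hI _).mp h.2 x)]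
    have hgx : Polynomial.aeval (π x) g' = 0 := by
      rw [Polynomial.aeval_def, ← Polynomial.eval_map, hg', Polynomial.eval_map_apply]
      exact Ideal.Quotient.eq_zero_iff_mem.mpr hroot
    have hfx : Polynomial.aeval (π x) f' = 0 := by
      rw [Polynomial.aeval_def, ← Polynomial.eval_map, hf', hf]
      simp [n, zero_pow (Fintype.card_ne_zero (α := I))]
    have hint : IsIntegral K (π x) := by
      refine IsAlgebraic.isIntegral ⟨f', fun h0 => ?_, hfx⟩
      rw [h0, Polynomial.map_zero, hf] at hf'
      exact (pow_ne_zero n (Polynomial.X_sub_C_ne_zero (π x))) hf'.symm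
    let m := minpoly K (π x)
    have hms : (m.map (algebraMap K (B ⧸ P))).Separable :=
      Polynomial.Separable.of_dvd (hg'.symm ▸ hsep) (Polynomial.map_dvd _ (minpoly.dvd K _ hgx))
    have hmdvd : m.map (algebraMap K (B ⧸ P)) ∣ (Polynomial.X - Polynomial.C (π x)) ^ n := by
      rw [← hf, ← hf']
      exact Polynomial.map_dvd _ (minpoly.dvd K _ hfx)
    obtain ⟨j, hj, hassoc⟩ := (dvd_prime_pow (Polynomial.prime_X_sub_C (π x)) n).mp hmdvd
    have hdeg := Polynomial.natDegree_eq_of_degree_eq (Polynomial.degree_eq_degree_of_associated hassoc)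
    rw [Polynomial.natDegree_map, Polynomial.natDegree_pow, Polynomial.natDegree_X_sub_C, mul_one] at hdeg
    have hjle : j ≤ 1 := by
      by_contra h
      have hsq := hms.squarefree (Polynomial.X - Polynomial.C (π x))
        ((dvd_of_eq (sq _).symm).trans ((pow_dvd_pow _ (by omega)).trans hassoc.symm.dvd))
      exact Polynomial.not_isUnit_X_sub_C _ hsq
    have hpos : 0 < m.natDegree := minpoly.natDegree_pos hint
    obtain ⟨⟨_, y, hy, rfl⟩, hyx⟩ := minpoly.natDegree_eq_one_iff.mp (by omega : m.natDegree = 1)
    exact ⟨y, hy, (Ideal.Quotient.mk_eq_mk_iff_sub_mem _ _).mp hyx.symm⟩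

end Groth.Agent.S12937
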