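import Groth.Statements.S1294
import Groth.Agent.PureSpread.Main
-- import your own Groth.Agent.* helpers here

set_option autoImplicit false
universe u
open FlatMor

namespace Groth.Agent.S1294

set_option backward.isDefEq.respectTransparency false
set_option backward.isDefEq.respectTransparency.types false
set_option linter.style.haveILetI false
set_option maxHeartbeats 1000000

open TensorProduct


/-- The spreadout over a local base with the model. -/
theorem spread_of_local {A B : Type u} [CommRing A] [CommRing B] [Algebra A B] [Algebra.FinitePresentation A B]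
    (T : Submonoid B) {N : Type u} [AddCommGroup N] [Module B N] [Module A N] [IsScalarTower A B N]
    (p : Ideal A) [p.IsPrime] (t : B) (ht : t ∈ T)
    {M : Type u} [AddCommGroup M] [Module B M] [Module A M] [IsScalarTower A B M] [Module.FinitePresentation B M]
    (f : M →ₗ[B] N) [IsLocalizedModule T f]
    (hkill : ∀ s ∈ T, ∀ z : M ⊗[A] p.ResidueField, s • z = 0 → t • z = 0)
    {A₀ N₀ : Type u} [CommRing A₀] [Algebra A₀ A] [AddCommGroup N₀] [Module A₀ N₀]
    (e : (A ⊗[A₀] N₀) ≃ₗ[A] Localization.Away t ⊗[B] M)
    {R : Type u} [CommRing R] [IsLocalRing R] [Algebra A R]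
    (hm : ∀ a : A, algebraMap A R a ∈ IsLocalRing.maximalIdeal R ↔ a ∈ p)
    (hz : ∀ a ∈ p.comap (algebraMap A₀ A), algebraMap A R (algebraMap A₀ A a) = 0)
    (B₁ N₁ : Type u) [CommRing B₁] [Algebra B B₁] [Algebra R B₁] [Algebra A B₁]
    [IsScalarTower A B B₁] [IsScalarTower A R B₁] [Algebra.IsPushout A B R B₁]
    [AddCommGroup N₁] [Module (Localization (T.map (algebraMap B B₁))) N₁] [Module R N₁]
    [IsScalarTower R (Localization (T.map (algebraMap B B₁))) N₁]
    [Module B N₁] [IsScalarTower B (Localization (T.map (algebraMap B B₁))) N₁]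
    [Module A N₁] [IsScalarTower A R N₁] [IsScalarTower A B N₁]
    (h : N →ₗ[B] N₁) (hh : IsBaseChange R (h.restrictScalars A)) :
    FlatCA.HasPureSpreadout R B₁ (T.map (algebraMap B B₁)) N₁ := by
  let B' := Localization.Away t
  let X := B' ⊗[B] M
  let p₀ : Ideal A₀ := p.comap (algebraMap A₀ A)
  letI : Algebra A₀ R := ((algebraMap A R).comp (algebraMap A₀ A)).toAlgebra
  haveI : IsScalarTower A₀ A R := IsScalarTower.of_algebraMap_eq fun _ => rfl
  have hu : ∀ a ∉ p₀, IsUnit (algebraMap A₀ R a) := fun a ha =>
    IsLocalRing.notMem_maximalIdeal.1 fun hmem => ha ((hm _).1 hmem)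
  letI : Algebra p₀.ResidueField R :=
    (Ideal.ResidueField.lift p₀ (algebraMap A₀ R) (fun a ha => hz a ha) (fun a ha => hu a ha)).toAlgebra
  haveI : IsScalarTower A₀ p₀.ResidueField R := IsScalarTower.of_algebraMap_eq fun a =>
    (Ideal.ResidueField.lift_algebraMap p₀ (algebraMap A₀ R) _ _ a).symm
  haveI : IsLocalizedModule (Submonoid.powers t) (TensorProduct.mk B B' M 1) :=
    (isLocalizedModule_iff_isBaseChange (Submonoid.powers t) B' _).2 (TensorProduct.isBaseChange B M B')
  have hunit : ∀ x : Submonoid.powers t, IsUnit (algebraMap B (Module.End B N) x) := fun x => by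
    obtain ⟨k, hk⟩ := x.2
    exact IsLocalizedModule.map_units f (⟨x, by rw [← show t ^ k = (x : B) from hk]; exact pow_mem ht k⟩ : T)
  let f' : X →ₗ[B] N := IsLocalizedModule.lift (Submonoid.powers t) (TensorProduct.mk B B' M 1) f hunit
  have hf' : ∀ m : M, f' ((1 : B') ⊗ₜ[B] m) = f m := fun m =>
    IsLocalizedModule.lift_apply (Submonoid.powers t) (TensorProduct.mk B B' M 1) f hunit m
  refine PureSpread.hasPureSpreadout_of_model T t ht f f' hf' (PureSpread.free_baseChange (k₀ := p₀.ResidueField) e) ?_
    N₁ h hh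
  -- injectivity on the closed fibre
  let k := R ⧸ IsLocalRing.maximalIdeal R
  have hker : ∀ a : A, algebraMap A k a = 0 ↔ a ∈ p := fun a => by
    rw [IsScalarTower.algebraMap_apply A R k, Ideal.Quotient.algebraMap_eq, Ideal.Quotient.eq_zero_iff_mem]
    exact hm a
  letI : Field k := Ideal.Quotient.field _
  letI : Algebra p.ResidueField k := (Ideal.ResidueField.lift p (algebraMap A k) (fun a ha => (hker a).2 ha)
    (fun a ha => isUnit_iff_ne_zero.2 fun h0 => ha ((hker a).1 h0))).toAlgebra
  haveI : IsScalarTower A p.ResidueField k := IsScalarTower.of_algebraMap_eq fun a =>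
    (Ideal.ResidueField.lift_algebraMap p (algebraMap A k) _ _ a).symm
  exact UnivInjHensel.injective_lTensor_of_field (k := k) (f'.restrictScalars A)
    (PureSpread.injective_lTensor_of_killing T t (TensorProduct.mk B B' M 1) f f' hf' p.ResidueField hkill)

open IsLocalRing in
/-- Let B be a finitely presented A-algebra, T ⊆ B a multiplicative subset and N a finitely presented
T⁻¹B-module. Then for every prime p of A there is a finitely generated ideal I of A_p contained in
its maximal ideal such that, writing A₁ = A_p/I, B₁ = B ⊗_A A₁, T₁ for the image of T in B₁ and N₁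
for the base change of N (a T₁⁻¹B₁-module; any models), the base-changed data admits a pure
spreadout over A₁. -/
theorem result {A B : Type u} [CommRing A] [CommRing B] [Algebra A B] [Algebra.FinitePresentation A B]
    (T : Submonoid B) (N : Type u) [AddCommGroup N] [Module (Localization T) N] [Module B N] [Module A N]
    [IsScalarTower B (Localization T) N] [IsScalarTower A (Localization T) N] [IsScalarTower A B N]
    [Module.FinitePresentation (Localization T) N] (p : Ideal A) [p.IsPrime] :
    ∃ I : Ideal (Localization.AtPrime p), I.FG ∧ I ≤ maximalIdeal (Localization.AtPrime p) ∧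
      ∀ (B₁ N₁ : Type u) [CommRing B₁] [Algebra B B₁] [Algebra (Localization.AtPrime p ⧸ I) B₁] [Algebra A B₁]
        [IsScalarTower A B B₁] [IsScalarTower A (Localization.AtPrime p ⧸ I) B₁]
        [Algebra.IsPushout A B (Localization.AtPrime p ⧸ I) B₁]
        [AddCommGroup N₁] [Module (Localization (T.map (algebraMap B B₁))) N₁] [Module (Localization.AtPrime p ⧸ I) N₁]
        [IsScalarTower (Localization.AtPrime p ⧸ I) (Localization (T.map (algebraMap B B₁))) N₁]
        [Module B N₁] [IsScalarTower B (Localization (T.map (algebraMap B B₁))) N₁]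
        [Module A N₁] [IsScalarTower A (Localization.AtPrime p ⧸ I) N₁] [IsScalarTower A B N₁]
        (h : N →ₗ[B] N₁), IsBaseChange (Localization.AtPrime p ⧸ I) (h.restrictScalars A) →
        FlatCA.HasPureSpreadout (Localization.AtPrime p ⧸ I) B₁ (T.map (algebraMap B B₁)) N₁ := by
  obtain ⟨M, _, _, f, _, _⟩ := PureSpread.exists_fp_model T N
  letI : Module A M := Module.compHom M (algebraMap A B)
  haveI : IsScalarTower A B M := IsScalarTower.of_algebraMap_smul fun _ _ => rfl
  obtain ⟨t, ht, hkill⟩ := PureSpread.exists_killing_fibre T M p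
  let B' := Localization.Away t
  haveI : Algebra.FinitePresentation B B' := IsLocalization.Away.finitePresentation t
  haveI : Algebra.FinitePresentation A B' := Algebra.FinitePresentation.trans A B B'
  let X := B' ⊗[B] M
  obtain ⟨A₀, _, _, _, N₀, _, _, ⟨e⟩⟩ := PureSpread.exists_noetherian_model (A := A) (B := B') X
  let R := Localization.AtPrime p
  let ι₀ : A₀ →+* R := (algebraMap A R).comp (algebraMap A₀ A)
  let p₀ : Ideal A₀ := p.comap (algebraMap A₀ A)
  refine ⟨p₀.map ι₀, Ideal.FG.map (IsNoetherian.noetherian p₀) ι₀, ?_, ?_⟩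
  · rw [Ideal.map_le_iff_le_comap]
    intro a ha
    exact (IsLocalization.AtPrime.to_map_mem_maximal_iff R p _).2 ha
  intro B₁ N₁ _ _ _ _ _ _ _ _ _ _ _ _ _ _ _ _ h hh
  let R₁ := R ⧸ p₀.map ι₀
  have hle : p₀.map ι₀ ≤ maximalIdeal R := by
    rw [Ideal.map_le_iff_le_comap]
    intro a ha
    exact (IsLocalization.AtPrime.to_map_mem_maximal_iff R p _).2 ha
  haveI : Nontrivial R₁ := Ideal.Quotient.nontrivial_iff.2 (ne_top_of_le_ne_top (maximalIdeal.isMaximal R).ne_top hle)
  haveI : IsLocalRing R₁ := IsLocalRing.of_surjective' _ Ideal.Quotient.mk_surjective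
  have hloc : IsLocalHom (Ideal.Quotient.mk (p₀.map ι₀)) := .of_surjective _ Ideal.Quotient.mk_surjective
  refine spread_of_local T p t ht f hkill e (R := R₁) (fun a => ?_) (fun a ha => ?_) B₁ N₁ h hh
  · rw [IsScalarTower.algebraMap_apply A R R₁, Ideal.Quotient.algebraMap_eq, IsLocalRing.mem_maximalIdeal,
      mem_nonunits_iff, isUnit_map_iff, ← mem_nonunits_iff, ← IsLocalRing.mem_maximalIdeal]
    exact IsLocalization.AtPrime.to_map_mem_maximal_iff R p a
  · rw [IsScalarTower.algebraMap_apply A R R₁, Ideal.Quotient.algebraMap_eq, Ideal.Quotient.eq_zero_iff_mem]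
    exact Ideal.mem_map_of_mem ι₀ ha

end Groth.Agent.S1294
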