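import Groth.Statements.S12940
import Groth.Agent.AlgStLib.RepDiag

set_option backward.isDefEq.respectTransparency false
set_option backward.isDefEq.respectTransparency.types false
-- import your own Groth.Agent.* helpers here

set_option autoImplicit false
universe u
open CategoryTheory AlgebraicGeometry
open AlgSt

namespace Groth.Agent.S12940

/-- If a morphism f of algebraic stacks is representable by algebraic spaces, then its diagonal is
representable by schemes: every base change of the diagonal to a scheme is (equivalent over the base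
to the slice category of) a scheme. -/
theorem result
    (S : Scheme.{u}) (𝒳 : AlgSt.Cat S) (𝒴 : AlgSt.Cat S)
    (h𝒳 : AlgSt.IsAlgStack Scheme.fppfPrecoverage 𝒳)
    (h𝒴 : AlgSt.IsAlgStack Scheme.fppfPrecoverage 𝒴)
    (f : 𝒳 ⥤ᵇ 𝒴)
    (hf : AlgSt.RepByAlgSp1 f) :
    FibCat.IsRepresentable1 (FibCat.diag f) := by
  intro U y
  obtain ⟨F, e, he, hP⟩ := Groth.Agent.AlgStLib.repByAlgSpWith_diag_of_repByAlgSp1
    (Groth.Agent.AlgStLib.stableBC_of (P := AlgSp.Representable (S := S))) hf
    (fun a hF _ _ _ _ => Groth.Agent.AlgSpLib.representable_diagonal hF a) U y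
  obtain ⟨V, snd, fst, sq⟩ := hP (𝟙 _)
  have := sq.isIso_fst_of_isIso
  exact Groth.Agent.FibBase.rep_of_equiv' _ (Groth.Agent.FibBase.isEquivOver_comp
    (Groth.Agent.FibBase.isEquivOver_comp (Groth.Agent.AlgStLib.isEquivOver_ofOverCat V) (Groth.Agent.AlgStLib.isEquivOver_ofSpMap fst)) he)
    ⟨V, BasedFunctor.id _, Groth.Agent.FibBase.isEquivOver_id⟩
end Groth.Agent.S12940
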