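import Groth.Statements.S12941
import Groth.Agent.AlgStLib.RepDiag

set_option backward.isDefEq.respectTransparency false
set_option backward.isDefEq.respectTransparency.types false
-- import your own Groth.Agent.* helpers here

set_option autoImplicit false
universe u
open CategoryTheory AlgebraicGeometry
open AlgSt

namespace Groth.Agent.S12941

/-- If a morphism f of algebraic stacks is representable by algebraic spaces, then its diagonal is a
monomorphism (representable by algebraic spaces, and a monomorphism of sheaves after every base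
change to a scheme). -/
theorem result
    (S : Scheme.{u}) (𝒳 : AlgSt.Cat S) (𝒴 : AlgSt.Cat S)
    (h𝒳 : AlgSt.IsAlgStack Scheme.fppfPrecoverage 𝒳)
    (h𝒴 : AlgSt.IsAlgStack Scheme.fppfPrecoverage 𝒴)
    (f : 𝒳 ⥤ᵇ 𝒴)
    (hf : AlgSt.RepByAlgSp1 f) :
    AlgSt.IsMono (FibCat.diag f) := Groth.Agent.AlgStLib.repByAlgSpWith_diag_of_repByAlgSp1 (Groth.Agent.AlgStLib.stableBC_of (P := MorphismProperty.monomorphisms (AlgSp.Sp S))) hf
    fun a _ _ _ _ _ => (inferInstance : Mono (CategoryTheory.Limits.pullback.diagonal a))
end Groth.Agent.S12941
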