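import Groth.Statements.S12943
import Groth.Agent.AlgStLib.Imm
import Groth.Agent.S10280

set_option backward.isDefEq.respectTransparency false
set_option backward.isDefEq.respectTransparency.types false
-- import your own Groth.Agent.* helpers here

set_option autoImplicit false
universe u
open CategoryTheory AlgebraicGeometry
open AlgSt

namespace Groth.Agent.S12943

/-- For a morphism f of algebraic stacks that is representable by algebraic spaces, the following are
equivalent: f is separated (every base change to a scheme is a separated morphism of algebraic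
spaces); the diagonal of f is a closed immersion; the diagonal of f is proper; the diagonal of f is
universally closed. -/
theorem result
    (S : Scheme.{u}) (𝒳 : AlgSt.Cat S) (𝒴 : AlgSt.Cat S)
    (h𝒳 : AlgSt.IsAlgStack Scheme.fppfPrecoverage 𝒳)
    (h𝒴 : AlgSt.IsAlgStack Scheme.fppfPrecoverage 𝒴)
    (f : 𝒳 ⥤ᵇ 𝒴)
    (hf : AlgSt.RepByAlgSp1 f) :
    [AlgSt.RepByAlgSpWith AlgSp.IsSeparatedMor f, AlgSt.IsClosedImm (FibCat.diag f),
      AlgSt.IsSeparatedMor f, AlgSt.RepByAlgSpWith AlgSp.IsUnivClosedMor (FibCat.diag f)].TFAE := by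
  have hu : Groth.Agent.AlgStLib.StableBC (AlgSp.IsUnivClosedMor (S := S)) :=
    fun _ _ _ _ _ _ _ _ _ _ _ _ sq h => Groth.Agent.AlgSpPts.univSp_of_isPullback sq h
  have key : ∀ {F : AlgSp.Sp S} {U : Over S} (a : F ⟶ (AlgSp.yon S).obj U), AlgSp.IsAlgSpace F →
      (AlgSp.IsSeparatedMor a ↔ AlgSp.IsUnivClosedMor (CategoryTheory.Limits.pullback.diagonal a)) ∧
        (AlgSp.IsSeparatedMor a ↔ AlgSp.IsProperMor (CategoryTheory.Limits.pullback.diagonal a)) :=
    fun {F U} a hF => Groth.Agent.S10280.result (X := ⟨F, hF⟩)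
      (Y := ⟨(AlgSp.yon S).obj U, AlgSp.IsAlgSpace.yon_obj U⟩) (ObjectProperty.homMk a)
  tfae_have 2 ↔ 1 := Groth.Agent.AlgStLib.repByAlgSpWith_diag_iff Groth.Agent.AlgStLib.stableBC_of
    Groth.Agent.AlgStLib.stableBC_isSeparatedMor
    (fun _ _ a ha => Groth.Agent.AlgStLib.repWith_of_repBySpWith a ha) hf fun a hF => Iff.rfl
  tfae_have 3 ↔ 1 := Groth.Agent.AlgStLib.repByAlgSpWith_diag_iff Groth.Agent.AlgStLib.stableBC_isProperMor
    Groth.Agent.AlgStLib.stableBC_isSeparatedMor
    (fun hF hG a ha => Groth.Agent.AlgStLib.property_of_repBySpWith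
      Groth.Agent.AlgStLib.isLocalOnBase_isProperMor hF hG ha) hf fun a hF => (key a hF).2.symm
  tfae_have 4 ↔ 1 := Groth.Agent.AlgStLib.repByAlgSpWith_diag_iff hu
    Groth.Agent.AlgStLib.stableBC_isSeparatedMor
    (fun hF hG a ha => Groth.Agent.AlgStLib.property_of_repBySpWith (Groth.Agent.AlgStLib.isLocalOnBase_fppf_of_fpqc
      Groth.Agent.AlgSpLib.isLocalOnBase_fpqc_isUnivClosedMor) hF hG ha) hf fun a hF => (key a hF).1.symm
  tfae_finish
end Groth.Agent.S12943
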