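import Groth.Statements.S12945
import Groth.Agent.AlgStLib.Imm
import Groth.Agent.S9912

set_option backward.isDefEq.respectTransparency false
set_option backward.isDefEq.respectTransparency.types false
-- import your own Groth.Agent.* helpers here

set_option autoImplicit false
universe u
open CategoryTheory AlgebraicGeometry
open AlgSt

namespace Groth.Agent.S12945

/-- For a morphism f of algebraic stacks that is representable by algebraic spaces, f is quasi-separated
in the sense of stacks (diagonal quasi-compact and quasi-separated) if and only if every base change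
of f to a scheme is a quasi-separated morphism of algebraic spaces. (For such f the diagonal is
separated, so the two notions of quasi-separated agree.) -/
theorem result
    (S : Scheme.{u}) (𝒳 : AlgSt.Cat S) (𝒴 : AlgSt.Cat S)
    (h𝒳 : AlgSt.IsAlgStack Scheme.fppfPrecoverage 𝒳)
    (h𝒴 : AlgSt.IsAlgStack Scheme.fppfPrecoverage 𝒴)
    (f : 𝒳 ⥤ᵇ 𝒴)
    (hf : AlgSt.RepByAlgSp1 f) :
    AlgSt.IsQuasiSeparatedMor f ↔ AlgSt.RepByAlgSpWith AlgSp.IsQuasiSeparatedMor f := by
  open Groth.Agent.AlgStLib Groth.Agent.AlgSpPts AlgSp in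
  refine repByAlgSpWith_diag_iff stableBC_qcqs stableBC_isQuasiSeparatedMor
    (fun hF hG a ha => property_of_repBySpWith isLocalOnBase_qcqs hF hG ha) hf fun a hF => ?_
  refine ⟨fun h => ?_, fun h => ⟨Groth.Agent.AlgSpPts.isQuasiCompactMor_of_repWith h, ?_⟩⟩
  · exact (Groth.Agent.S9912.result (X := ⟨_, hF⟩) (Y := ⟨_, Groth.Agent.AlgSpLib.isAlgSpace_pullback hF hF
      (AlgSp.IsAlgSpace.yon_obj _) a a⟩) (ObjectProperty.homMk (CategoryTheory.Limits.pullback.diagonal a))
      (Groth.Agent.AlgSpLib.representable_diagonal hF a)).2 h.1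
  · exact Groth.Agent.AlgSpLib.repWith_of_isIso @QuasiCompact _
end Groth.Agent.S12945
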