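import Groth.Statements.S12946
import Groth.Agent.AlgStLib.RepDiag

set_option backward.isDefEq.respectTransparency false
set_option backward.isDefEq.respectTransparency.types false
-- import your own Groth.Agent.* helpers here

set_option autoImplicit false
universe u
open CategoryTheory AlgebraicGeometry
open AlgSt

namespace Groth.Agent.S12946

/-- A DM morphism of algebraic stacks is quasi-DM (an unramified morphism of algebraic spaces being
locally quasi-finite). -/
theorem result
    (S : Scheme.{u}) (𝒳 : AlgSt.Cat S) (𝒴 : AlgSt.Cat S)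
    (h𝒳 : AlgSt.IsAlgStack Scheme.fppfPrecoverage 𝒳)
    (h𝒴 : AlgSt.IsAlgStack Scheme.fppfPrecoverage 𝒴)
    (f : 𝒳 ⥤ᵇ 𝒴) :
    AlgSt.IsDMMor f → AlgSt.IsQuasiDMMor f := fun h => Groth.Agent.AlgStLib.repByAlgSpWith_mono Groth.Agent.AlgStLib.unr_le_lqf h
end Groth.Agent.S12946
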