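import Groth.Statements.S12947
import Groth.Agent.AlgStLib.RepDiag

set_option backward.isDefEq.respectTransparency false
set_option backward.isDefEq.respectTransparency.types false
-- import your own Groth.Agent.* helpers here

set_option autoImplicit false
universe u
open CategoryTheory AlgebraicGeometry
open AlgSt

namespace Groth.Agent.S12947

/-- A morphism of algebraic stacks that is representable by algebraic spaces is DM (its diagonal, a
monomorphism locally of finite type, is unramified). -/
theorem result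
    (S : Scheme.{u}) (𝒳 : AlgSt.Cat S) (𝒴 : AlgSt.Cat S)
    (h𝒳 : AlgSt.IsAlgStack Scheme.fppfPrecoverage 𝒳)
    (h𝒴 : AlgSt.IsAlgStack Scheme.fppfPrecoverage 𝒴)
    (f : 𝒳 ⥤ᵇ 𝒴)
    (hf : AlgSt.RepByAlgSp1 f) :
    AlgSt.IsDMMor f := by
  refine Groth.Agent.AlgStLib.repByAlgSpWith_diag_of_repByAlgSp1 Groth.Agent.AlgStLib.stableBC_locP hf fun a hF _ _ _ _ => ?_
  obtain ⟨-, hl, -, -, hm⟩ := Groth.Agent.AlgSpPts.diagonal_package hF (AlgSp.IsAlgSpace.yon_obj _) a
  refine Groth.Agent.AlgSpLib.locP_of_repWith ((Groth.Agent.AlgSpLib.repWith_inf_iff _).2 ⟨hl, ?_⟩)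
  exact Groth.Agent.AlgSpLib.repWith_mono (fun X Y g (h : Mono g) => (inferInstance : FormallyUnramified g)) _ hm
end Groth.Agent.S12947
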