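import Groth.Statements.S1296
import Groth.Agent.RG.ImpurityColim
-- import your own Groth.Agent.* helpers here

set_option autoImplicit false
universe u
open FlatMor

set_option linter.style.haveILetI false

namespace Groth.Agent.S1296

open TensorProduct

attribute [local instance] Algebra.TensorProduct.rightAlgebra

/-- Ring form, X = Spec B affine, T = Spec A' with A' the colimit of a directed system of A-algebras
A'_i: let B be a finite type A-algebra, N a finite B-module, p a prime of A, and suppose given an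
impurity of N above p with base change ring A' and points t' ⊆ t. Then for some index i there is an
impurity of N above p whose base change ring is A'_i (up to an A-isomorphism) and whose point t
corresponds to the contraction of t to A'_i. -/
theorem result {A B : Type u} [CommRing A] [CommRing B] [Algebra A B] [Algebra.FiniteType A B]
    (N : Type u) [AddCommGroup N] [Module B N] [Module.Finite B N] (p : Ideal A) [p.IsPrime]
    {ι : Type u} [Preorder ι] (G : ι → Type u) [∀ i, CommRing (G i)] [∀ i, Algebra A (G i)]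
    (g : ∀ i j, i ≤ j → G i →ₐ[A] G j)
    (A' : Type u) [CommRing A'] [Algebra A A'] [∀ i, Algebra (G i) A'] [∀ i, IsScalarTower A (G i) A']
    (hcolim : FlatCA.IsDirectedColimitRing G (fun i j h => (g i j h).toRingHom) A')
    (B' N' : Type u) [CommRing B'] [Algebra B B'] [Algebra A' B'] [Algebra A B'] [IsScalarTower A B B'] [IsScalarTower A A' B']
    [AddCommGroup N'] [Module B' N'] [Module B N'] [IsScalarTower B B' N'] [Module A' N'] [IsScalarTower A' B' N']
    (f : N →ₗ[B] N') (t' t : Ideal A') [t'.IsPrime] [t.IsPrime] (P : Ideal B') [P.IsPrime]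
    (himp : FlatCA.IsImpurity A B N p A' B' N' f t' t P) :
    ∃ i : ι, FlatCA.HasImpurity A B N p (fun A'' _ _ t'' => ∃ e : A'' ≃ₐ[A] G i, t''.map e = t.comap (algebraMap (G i) A')) := by
  classical
  obtain ⟨hdir, hne, -, -, hcomp, hsurj, -⟩ := hcolim
  haveI := hdir; haveI := hne
  obtain ⟨g₀, hg₀t, hg₀⟩ := ZClosLib.ImpurityFP.exists_sup_eq_top himp
  haveI := himp.1
  haveI := himp.2.2.2.1
  haveI := himp.2.2.2.2.1
  obtain ⟨π, hπ, z, hz, hπz⟩ := Submodule.mem_sup.1 hg₀
  obtain ⟨F, hF⟩ := ZClosLib.ImpurityFP.exists_finset_lift (A := A) (B := B) t hz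
  have hlift : ∀ K : Finset A', ∃ i, ∀ x ∈ K, ∃ c : G i, algebraMap (G i) A' c = x := by
    intro K
    induction K using Finset.induction_on with
    | empty => exact ⟨Classical.arbitrary ι, fun x hx => absurd hx (Finset.notMem_empty x)⟩
    | @insert x K _ hK =>
      obtain ⟨i, hi⟩ := hK
      obtain ⟨j, c, hc⟩ := hsurj x
      obtain ⟨k, hik, hjk⟩ := exists_ge_ge (α := ι) i j
      refine ⟨k, fun y hy => ?_⟩
      rcases Finset.mem_insert.1 hy with rfl | hy
      · exact ⟨g j k hjk c, by rw [← hc, ← hcomp j k hjk]; rfl⟩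
      · obtain ⟨d, hd⟩ := hi y hy
        exact ⟨g i k hik d, by rw [← hd, ← hcomp i k hik]; rfl⟩
  obtain ⟨i, hi⟩ := hlift (insert g₀ F)
  obtain ⟨gi, hgi⟩ := hi g₀ (Finset.mem_insert_self _ _)
  let φ : G i →ₐ[A] A' := IsScalarTower.toAlgHom A (G i) A'
  let ψ : G i ⊗[A] B →ₐ[A] B' := Algebra.TensorProduct.lift ((IsScalarTower.toAlgHom A A' B').comp φ)
    (IsScalarTower.toAlgHom A B B') fun _ _ => .all _ _
  have hψl : ∀ c : G i, ψ (c ⊗ₜ 1) = algebraMap A' B' (φ c) := fun c => by simp [ψ]
  have hψr : ∀ b : B, ψ ((1 : G i) ⊗ₜ b) = algebraMap B B' b := fun b => by simp [ψ]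
  obtain ⟨z₀, hz₀, hψz⟩ := hF (G i) (G i ⊗[A] B) φ.toRingHom ψ.toRingHom hψl hψr
    fun x hx => hi x (Finset.mem_insert_of_mem hx)
  letI : Algebra (G i) B' := ((IsScalarTower.toAlgHom A A' B').comp φ).toRingHom.toAlgebra
  haveI : IsScalarTower (G i) A' B' := IsScalarTower.of_algebraMap_eq fun _ => rfl
  haveI : IsScalarTower A (G i) B' := IsScalarTower.of_algebraMap_eq fun x =>
    (((IsScalarTower.toAlgHom A A' B').comp φ).commutes x).symm
  letI : Algebra (G i ⊗[A] B) B' := ψ.toRingHom.toAlgebra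
  haveI : IsScalarTower (G i) (G i ⊗[A] B) B' := IsScalarTower.of_algebraMap_eq fun x => (hψl x).symm
  haveI : IsScalarTower B (G i ⊗[A] B) B' := IsScalarTower.of_algebraMap_eq fun x => (hψr x).symm
  haveI : IsScalarTower A (G i ⊗[A] B) B' := IsScalarTower.of_algebraMap_eq fun x => (ψ.commutes x).symm
  haveI : Algebra.IsPushout A B (G i) (G i ⊗[A] B) := Algebra.IsPushout.symm inferInstance
  refine ⟨i, RG.hasImpurity_stage' p f himp.2.1 t' t himp.2.2.1 P himp.2.2.2.2.2.1 (G i) (G i ⊗[A] B) gi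
    (hgi ▸ hg₀t) z₀ hz₀ ?_⟩
  show ψ (algebraMap (G i) (G i ⊗[A] B) gi - z₀) ∈ P
  rw [map_sub, show ψ z₀ = z from hψz, show ψ (algebraMap (G i) (G i ⊗[A] B) gi) = algebraMap A' B' g₀ from
    (hψl gi).trans (congrArg _ hgi), ← hπz, add_sub_cancel_right]
  exact hπ

end Groth.Agent.S1296
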