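import Groth.Statements.S12961
import Groth.Agent.AlgStLib.DiagLFT

set_option backward.isDefEq.respectTransparency false
set_option backward.isDefEq.respectTransparency.types false
-- import your own Groth.Agent.* helpers here

set_option autoImplicit false
universe u
open CategoryTheory AlgebraicGeometry
open AlgSt

namespace Groth.Agent.S12961

/-- Let f : 𝒳 → 𝒴 be a morphism of algebraic stacks and W → 𝒴 a surjective, flat, locally finitely
presented morphism whose source is an algebraic space. Whenever the projection W ×_𝒴 𝒳 → W is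
quasi-DM, f is quasi-DM too (quasi-DM: the diagonal is representable by algebraic spaces and locally
quasi-finite (and locally of finite type)). -/
theorem result
    (S : Scheme.{u}) (𝒳 : AlgSt.Cat S) (𝒴 : AlgSt.Cat S)
    (h𝒳 : AlgSt.IsAlgStack Scheme.fppfPrecoverage 𝒳)
    (h𝒴 : AlgSt.IsAlgStack Scheme.fppfPrecoverage 𝒴)
    (f : 𝒳 ⥤ᵇ 𝒴)
    (W : AlgSp.Space S) (w : AlgSt.ofSp W.obj ⥤ᵇ 𝒴)
    (hw₁ : AlgSt.RepByAlgSpWith (AlgSp.LocP @Flat) w)
    (hw₂ : AlgSt.RepByAlgSpWith (AlgSp.LocP @LocallyOfFinitePresentation) w)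
    (hw₃ : AlgSt.RepByAlgSpWith AlgSp.IsSurjectiveMor w) :
    AlgSt.IsQuasiDMMor (FibCat.fpFst w f) → AlgSt.IsQuasiDMMor f := fun h => Groth.Agent.AlgStLib.repByAlgSpWith_diag_of_locEssSurj Groth.Agent.AlgStLib.stableBC_locP Groth.Agent.AlgStLib.isLocalOnBase_lqf (Groth.Agent.AlgStLib.repByAlgSp1_diag h𝒳.diag h𝒴.diag f)
  (Groth.Agent.AlgStLib.locEssSurj_of_repByAlgSp hw₁ hw₂ hw₃) h
end Groth.Agent.S12961
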