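import Groth.Statements.S12973
import Groth.Agent.AlgStLib.SepDiag

set_option backward.isDefEq.respectTransparency false
set_option backward.isDefEq.respectTransparency.types false
-- import your own Groth.Agent.* helpers here

set_option autoImplicit false
universe u
open CategoryTheory AlgebraicGeometry
open AlgSt

namespace Groth.Agent.S12973

/-- For a morphism f : 𝒳 → 𝒴 of algebraic stacks the following are equivalent: the relative inertia
𝓘_{𝒳/𝒴} → 𝒳 is quasi-separated; the diagonal of f is quasi-separated; the neutral section 𝒳 →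
𝓘_{𝒳/𝒴} is quasi-compact. All three morphisms are representable by algebraic spaces and the
properties are the ones of such morphisms. -/
theorem result
    (S : Scheme.{u}) (𝒳 : AlgSt.Cat S) (𝒴 : AlgSt.Cat S)
    (h𝒳 : AlgSt.IsAlgStack Scheme.fppfPrecoverage 𝒳)
    (h𝒴 : AlgSt.IsAlgStack Scheme.fppfPrecoverage 𝒴)
    (f : 𝒳 ⥤ᵇ 𝒴) :
    [AlgSt.RepByAlgSpWith AlgSp.IsQuasiSeparatedMor (FibCat.inertiaToBase f),
      AlgSt.RepByAlgSpWith AlgSp.IsQuasiSeparatedMor (FibCat.diag f),
      AlgSt.RepByAlgSpWith AlgSp.IsQuasiCompactMor (FibCat.inertiaNeutral f)].TFAE := Groth.Agent.AlgStLib.quasiSeparated_tfae f (Groth.Agent.AlgStLib.repByAlgSp1_diag h𝒳.diag h𝒴.diag f)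
end Groth.Agent.S12973
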