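import Groth.Statements.S12982
import Groth.Agent.AlgStLib.QuasiCompactImm

set_option backward.isDefEq.respectTransparency false
set_option backward.isDefEq.respectTransparency.types false
-- import your own Groth.Agent.* helpers here

set_option autoImplicit false
universe u
open CategoryTheory AlgebraicGeometry
open AlgSt

namespace Groth.Agent.S12982

/-- The base change of a quasi-compact morphism of algebraic stacks along any morphism of algebraic
stacks is quasi-compact (quasi-compact: base change to any quasi-compact algebraic stack is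
quasi-compact). -/
theorem result
    (S : Scheme.{u}) (𝒳 : AlgSt.Cat S) (𝒴 : AlgSt.Cat S) (𝒴' : AlgSt.Cat S)
    (h𝒳 : AlgSt.IsAlgStack Scheme.fppfPrecoverage 𝒳)
    (h𝒴 : AlgSt.IsAlgStack Scheme.fppfPrecoverage 𝒴)
    (h𝒴' : AlgSt.IsAlgStack Scheme.fppfPrecoverage 𝒴')
    (f : 𝒳 ⥤ᵇ 𝒴) (g : 𝒴' ⥤ᵇ 𝒴) :
    AlgSt.IsQuasiCompactMor Scheme.fppfPrecoverage f → AlgSt.IsQuasiCompactMor Scheme.fppfPrecoverage (FibCat.fpFst g f) := fun h =>
  Groth.Agent.AlgStLib.isQuasiCompactMor_fpFst g h
end Groth.Agent.S12982
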