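import Groth.Statements.S12983
import Groth.Agent.AlgStLib.QuasiCompactImm

set_option backward.isDefEq.respectTransparency false
set_option backward.isDefEq.respectTransparency.types false
-- import your own Groth.Agent.* helpers here

set_option autoImplicit false
universe u
open CategoryTheory AlgebraicGeometry
open AlgSt

namespace Groth.Agent.S12983

/-- The composition of two quasi-compact morphisms of algebraic stacks is quasi-compact. -/
theorem result
    (S : Scheme.{u}) (𝒳 : AlgSt.Cat S) (𝒴 : AlgSt.Cat S) (𝒵 : AlgSt.Cat S)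
    (h𝒳 : AlgSt.IsAlgStack Scheme.fppfPrecoverage 𝒳)
    (h𝒴 : AlgSt.IsAlgStack Scheme.fppfPrecoverage 𝒴)
    (h𝒵 : AlgSt.IsAlgStack Scheme.fppfPrecoverage 𝒵)
    (f : 𝒳 ⥤ᵇ 𝒴) (g : 𝒴 ⥤ᵇ 𝒵) :
    AlgSt.IsQuasiCompactMor Scheme.fppfPrecoverage f → AlgSt.IsQuasiCompactMor Scheme.fppfPrecoverage g → AlgSt.IsQuasiCompactMor Scheme.fppfPrecoverage (BasedFunctor.comp f g) := fun hf hg =>
  Groth.Agent.AlgStLib.isQuasiCompactMor_comp h𝒴 h𝒵.isStack h𝒵.diag hf hg
end Groth.Agent.S12983
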