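import Groth.Statements.S12986
import Groth.Agent.AlgStLib.QuasiCompactImm

set_option backward.isDefEq.respectTransparency false
set_option backward.isDefEq.respectTransparency.types false
-- import your own Groth.Agent.* helpers here

set_option autoImplicit false
universe u
open CategoryTheory AlgebraicGeometry
open AlgSt

namespace Groth.Agent.S12986

/-- If the composite of f : 𝒳 → 𝒴 and g : 𝒴 → 𝒵 (morphisms of algebraic stacks) is quasi-compact and g
is quasi-separated, then f is quasi-compact. -/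
theorem result
    (S : Scheme.{u}) (𝒳 : AlgSt.Cat S) (𝒴 : AlgSt.Cat S) (𝒵 : AlgSt.Cat S)
    (h𝒳 : AlgSt.IsAlgStack Scheme.fppfPrecoverage 𝒳)
    (h𝒴 : AlgSt.IsAlgStack Scheme.fppfPrecoverage 𝒴)
    (h𝒵 : AlgSt.IsAlgStack Scheme.fppfPrecoverage 𝒵)
    (f : 𝒳 ⥤ᵇ 𝒴) (g : 𝒴 ⥤ᵇ 𝒵) :
    AlgSt.IsQuasiCompactMor Scheme.fppfPrecoverage (BasedFunctor.comp f g) → AlgSt.IsQuasiSeparatedMor g → AlgSt.IsQuasiCompactMor Scheme.fppfPrecoverage f := fun h hg =>
  Groth.Agent.AlgStLib.isQuasiCompactMor_of_comp h𝒳 h𝒴 h𝒵.isStack h𝒵.diag h hg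
end Groth.Agent.S12986
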