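import Groth.Statements.S12988
import Groth.Agent.AlgStLib.QuasiCompactImm

set_option backward.isDefEq.respectTransparency false
set_option backward.isDefEq.respectTransparency.types false
-- import your own Groth.Agent.* helpers here

set_option autoImplicit false
universe u
open CategoryTheory AlgebraicGeometry
open AlgSt

namespace Groth.Agent.S12988

/-- Over a quasi-separated base scheme, a 2-fibre product of algebraic stacks that are quasi-compact and
quasi-separated over the base scheme is quasi-compact and quasi-separated over the base scheme. (The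
published statement is about stacks quasi-compact and quasi-separated over the integers and puts no
condition on the base scheme; this row assumes the base scheme quasi-separated and uses
quasi-separatedness over it. Without quasi-separatedness of the base the quasi-compactness
conclusion fails: for the base glued from two copies of infinite-dimensional affine space along the
complement of the origin, the two copies are quasi-compact and quasi-separated over the base while
their fibre product over the base is that complement, which is not quasi-compact.) -/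
theorem result
    (S : Scheme.{u}) [QuasiSeparatedSpace S] (𝒳 : AlgSt.Cat S) (𝒴 : AlgSt.Cat S) (𝒵 : AlgSt.Cat S)
    (h𝒳 : AlgSt.IsAlgStack Scheme.fppfPrecoverage 𝒳)
    (h𝒴 : AlgSt.IsAlgStack Scheme.fppfPrecoverage 𝒴)
    (h𝒵 : AlgSt.IsAlgStack Scheme.fppfPrecoverage 𝒵)
    (a : 𝒳 ⥤ᵇ 𝒴) (b : 𝒵 ⥤ᵇ 𝒴) :
    AlgSt.IsQuasiCompact 𝒳 → AlgSt.IsQuasiSeparatedOver 𝒳 →
      AlgSt.IsQuasiCompact 𝒴 → AlgSt.IsQuasiSeparatedOver 𝒴 →
      AlgSt.IsQuasiCompact 𝒵 → AlgSt.IsQuasiSeparatedOver 𝒵 →
      AlgSt.IsQuasiCompact (FibCat.fp a b) ∧ AlgSt.IsQuasiSeparatedOver (FibCat.fp a b) := fun hX sX _ sY hZ sZ =>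
  Groth.Agent.AlgStLib.qcqs_fp h𝒳 h𝒴 h𝒵 a b hX sX sY hZ sZ
end Groth.Agent.S12988
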