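import Groth.Statements.S12990
import Groth.Agent.AlgStLib.LocQ

set_option backward.isDefEq.respectTransparency false
set_option backward.isDefEq.respectTransparency.types false
-- import your own Groth.Agent.* helpers here

set_option autoImplicit false
universe u
open CategoryTheory AlgebraicGeometry
open AlgSt

namespace Groth.Agent.S12990

/-- Suppose P, a property of morphisms between algebraic spaces, is local on source and target for the
smooth topology, and let f : 𝒳 → 𝒴 be a morphism of algebraic stacks. Then some 2-commutative square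
with smooth scheme charts x : U → 𝒳 (surjective), y : V → 𝒴 and h : U → V having P exists if and
only if in every 2-commutative square with smooth scheme charts x : U → 𝒳, y : V → 𝒴 for which the
induced U → 𝒳 ×_𝒴 V is smooth, the morphism h : U → V has P. (The published statement uses charts
from algebraic spaces; this row uses charts from schemes.) -/
theorem result
    (S : Scheme.{u}) (P : MorphismProperty (AlgSp.Sp S)) (hP : AlgSp.IsSmoothLocalST P)
    (𝒳 : AlgSt.Cat S) (𝒴 : AlgSt.Cat S)
    (h𝒳 : AlgSt.IsAlgStack Scheme.fppfPrecoverage 𝒳)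
    (h𝒴 : AlgSt.IsAlgStack Scheme.fppfPrecoverage 𝒴)
    (f : 𝒳 ⥤ᵇ 𝒴) :
    AlgSt.LocQ P f ↔
      ∀ (U V : Over S) (x : FibCat.overCat U ⥤ᵇ 𝒳) (y : FibCat.overCat V ⥤ᵇ 𝒴) (h : U ⟶ V)
        (α : BasedFunctor.comp x f ≅ BasedFunctor.comp (AlgSt.overMap h) y),
        AlgSt.RepByAlgSpWith (AlgSp.LocP @Smooth) x → AlgSt.RepByAlgSpWith (AlgSp.LocP @Smooth) y →
        AlgSt.RepByAlgSpWith (AlgSp.LocP @Smooth) (FibCat.fpLift x (AlgSt.overMap h) α) → P ((AlgSp.yon S).map h) :=   Groth.Agent.AlgStLib.locQ_iff_forall_square hP h𝒳 h𝒴 f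
end Groth.Agent.S12990
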