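import Groth.Statements.S12991
import Groth.Agent.AlgStLib.LocQ

set_option backward.isDefEq.respectTransparency false
set_option backward.isDefEq.respectTransparency.types false
-- import your own Groth.Agent.* helpers here

set_option autoImplicit false
universe u
open CategoryTheory AlgebraicGeometry
open AlgSt

namespace Groth.Agent.S12991

/-- Let P be smooth local on the source-and-target and f : 𝒳 → 𝒴 a morphism of algebraic stacks. Then f
has P read on one square of smooth scheme charts (x surjective) if and only if there is a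
2-commutative square with algebraic spaces U, V, a smooth surjective U → 𝒳, a smooth V → 𝒴 and U → V
having P. -/
theorem result
    (S : Scheme.{u}) (P : MorphismProperty (AlgSp.Sp S)) (hP : AlgSp.IsSmoothLocalST P)
    (𝒳 : AlgSt.Cat S) (𝒴 : AlgSt.Cat S)
    (h𝒳 : AlgSt.IsAlgStack Scheme.fppfPrecoverage 𝒳)
    (h𝒴 : AlgSt.IsAlgStack Scheme.fppfPrecoverage 𝒴)
    (f : 𝒳 ⥤ᵇ 𝒴) :
    AlgSt.LocQ P f ↔
      ∃ (U V : AlgSp.Space S) (x : AlgSt.ofSp U.obj ⥤ᵇ 𝒳) (y : AlgSt.ofSp V.obj ⥤ᵇ 𝒴) (h : U ⟶ V)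
        (_ : BasedFunctor.comp x f ≅ BasedFunctor.comp (AlgSt.ofSpMap h.hom) y),
        AlgSt.RepByAlgSpWith (AlgSp.LocP @Smooth) x ∧ AlgSt.RepByAlgSpWith AlgSp.IsSurjectiveMor x ∧
        AlgSt.RepByAlgSpWith (AlgSp.LocP @Smooth) y ∧ P h.hom :=   Groth.Agent.AlgStLib.locQ_iff_some hP h𝒳 h𝒴 f
end Groth.Agent.S12991
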