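import Groth.Statements.S12992
import Groth.Agent.AlgStLib.LocQ

set_option backward.isDefEq.respectTransparency false
set_option backward.isDefEq.respectTransparency.types false
-- import your own Groth.Agent.* helpers here

set_option autoImplicit false
universe u
open CategoryTheory AlgebraicGeometry
open AlgSt

open Groth.Agent.AlgStLib Groth.Agent.FibBase

namespace Groth.Agent.S12992

/-- Let P be smooth local on the source-and-target and a : F → G a morphism of algebraic spaces. Then
the associated functor of categories over the base has P read on smooth scheme charts if and only if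
a has P. -/
theorem result
    (S : Scheme.{u}) (P : MorphismProperty (AlgSp.Sp S)) (hP : AlgSp.IsSmoothLocalST P)
    (F G : AlgSp.Space S) (a : F ⟶ G) :
    AlgSt.LocQ P (AlgSt.ofSpMap a.hom) ↔ P a.hom := by
  have hF := isAlgStack_ofSp F
  have hG := isAlgStack_ofSp G
  refine ⟨fun h => ?_, fun h => ?_⟩
  · let c : AlgSt.ofSp F.obj ⥤ᵇ FibCat.fp (AlgSt.ofSpMap a.hom) (BasedFunctor.id _) :=
      FibCat.fpLift (BasedFunctor.id _) (AlgSt.ofSpMap a.hom) (Iso.refl _)
    have hc : FibCat.IsEquivOver c := isEquivOver_of_comp_right (fpFst_id_isEquivOver _)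
      (isEquivOver_of_iso (Iso.refl (BasedFunctor.id _)) isEquivOver_id)
    have key := locQS_of_locQ hP hF.isStack.1 hG.isStack.1 h F G (BasedFunctor.id _) c
      (repByAlgSpWith_smooth_of_isEquivOver isEquivOver_id) (repByAlgSpWith_smooth_of_isEquivOver hc)
    exact (spHom_ofSpMap a.hom) ▸ key
  · exact (locQ_iff_some hP hF hG _).2 ⟨F, G, BasedFunctor.id _, BasedFunctor.id _, a, Iso.refl _,
      repByAlgSpWith_smooth_of_isEquivOver isEquivOver_id, repByAlgSpWith_surj_of_isEquivOver isEquivOver_id,
      repByAlgSpWith_smooth_of_isEquivOver isEquivOver_id, h⟩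
end Groth.Agent.S12992
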