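import Groth.Statements.S13000
import Groth.Agent.AlgStLib.LocQInst

set_option backward.isDefEq.respectTransparency false
set_option backward.isDefEq.respectTransparency.types false
-- import your own Groth.Agent.* helpers here

set_option autoImplicit false
universe u
open CategoryTheory AlgebraicGeometry
open AlgSt

open Groth.Agent.AlgStLib Groth.Agent.AlgSpLib

namespace Groth.Agent.S13000

/-- Let f : 𝒳 → 𝒴 be a morphism of algebraic stacks and W → 𝒴 a surjective, flat, locally finitely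
presented morphism whose source is an algebraic space. Whenever the projection to W from W ×_𝒴 𝒳 is
locally of finite type, so is f. -/
theorem result
    (S : Scheme.{u}) (𝒳 : AlgSt.Cat S) (𝒴 : AlgSt.Cat S)
    (h𝒳 : AlgSt.IsAlgStack Scheme.fppfPrecoverage 𝒳)
    (h𝒴 : AlgSt.IsAlgStack Scheme.fppfPrecoverage 𝒴)
    (f : 𝒳 ⥤ᵇ 𝒴)
    (W : AlgSp.Space S) (w : AlgSt.ofSp W.obj ⥤ᵇ 𝒴)
    (hw₁ : AlgSt.RepByAlgSpWith (AlgSp.LocP @Flat) w)
    (hw₂ : AlgSt.RepByAlgSpWith (AlgSp.LocP @LocallyOfFinitePresentation) w)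
    (hw₃ : AlgSt.RepByAlgSpWith AlgSp.IsSurjectiveMor w) :
    AlgSt.LocQ (AlgSp.LocP @LocallyOfFiniteType) (FibCat.fpFst w f) → AlgSt.LocQ (AlgSp.LocP @LocallyOfFiniteType) f := fun h => by
  have hW := isAlgStack_ofSp W
  refine locQ_of_fppf_baseChange isSmoothLocalST_lft (isLocalOnBase_fppf_locP _) h𝒳 h𝒴 hW ?_ ?_ ?_ h
  · exact (locQ_iff_repByAlgSpWith isSmoothLocalST_flat stableBC_locP (isLocalOnBase_fppf_locP _) hW h𝒴
      (repByAlgSp1_of_repByAlgSpWith hw₁)).2 hw₁
  · exact (locQ_iff_repByAlgSpWith isSmoothLocalST_lfp stableBC_locP (isLocalOnBase_fppf_locP _) hW h𝒴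
      (repByAlgSp1_of_repByAlgSpWith hw₂)).2 hw₂
  · exact isSurjective_of_repByAlgSpWith hW.isStack.1 h𝒴.isStack.1 hW.atlas hw₃
end Groth.Agent.S13000
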