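import Groth.Statements.S13001
import Groth.Agent.AlgStLib.LftPrecomp

set_option backward.isDefEq.respectTransparency false
set_option backward.isDefEq.respectTransparency.types false
-- import your own Groth.Agent.* helpers here

set_option autoImplicit false
universe u
open CategoryTheory AlgebraicGeometry
open AlgSt Groth.Agent.AlgStLib Groth.Agent.AlgSpLib

namespace Groth.Agent.S13001

/-- Let 𝒳 → 𝒴 → 𝒵 be morphisms of algebraic stacks with 𝒳 → 𝒵 locally of finite type and with 𝒳 → 𝒴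
flat, surjective, locally of finite presentation and representable by algebraic spaces. In this
situation 𝒴 → 𝒵 is also locally of finite type. -/
theorem result
    (S : Scheme.{u}) (𝒳 : AlgSt.Cat S) (𝒴 : AlgSt.Cat S) (𝒵 : AlgSt.Cat S)
    (h𝒳 : AlgSt.IsAlgStack Scheme.fppfPrecoverage 𝒳)
    (h𝒴 : AlgSt.IsAlgStack Scheme.fppfPrecoverage 𝒴)
    (h𝒵 : AlgSt.IsAlgStack Scheme.fppfPrecoverage 𝒵)
    (f : 𝒳 ⥤ᵇ 𝒴) (g : 𝒴 ⥤ᵇ 𝒵)
    (hf₁ : AlgSt.RepByAlgSpWith (AlgSp.LocP @Flat) f)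
    (hf₂ : AlgSt.RepByAlgSpWith (AlgSp.LocP @LocallyOfFinitePresentation) f)
    (hf₃ : AlgSt.RepByAlgSpWith AlgSp.IsSurjectiveMor f) :
    AlgSt.LocQ (AlgSp.LocP @LocallyOfFiniteType) (BasedFunctor.comp f g) → AlgSt.LocQ (AlgSp.LocP @LocallyOfFiniteType) g :=  fun h =>
  have hr := repByAlgSp1_of_repByAlgSpWith hf₁
  locQ_lft_of_precomp_fppf h𝒳 h𝒴 h𝒵
    ((locQ_iff_repByAlgSpWith isSmoothLocalST_flat stableBC_locP (isLocalOnBase_fppf_locP @Flat) h𝒳 h𝒴 hr).2 hf₁)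
    ((locQ_iff_repByAlgSpWith isSmoothLocalST_lfp stableBC_locP
      (isLocalOnBase_fppf_locP @LocallyOfFinitePresentation) h𝒳 h𝒴 hr).2 hf₂)
    (isSurjective_of_repByAlgSpWith h𝒳.isStack.1 h𝒴.isStack.1 h𝒳.atlas hf₃) h
end Groth.Agent.S13001
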