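import Groth.Statements.S13002
import Groth.Agent.AlgStLib.LocQInst

set_option backward.isDefEq.respectTransparency false
set_option backward.isDefEq.respectTransparency.types false
-- import your own Groth.Agent.* helpers here

set_option autoImplicit false
universe u
open CategoryTheory AlgebraicGeometry
open AlgSt

namespace Groth.Agent.S13002

/-- If f : 𝒳 → 𝒴 and g : 𝒴 → 𝒵 are morphisms of algebraic stacks whose composite is locally of finite
type, then f itself is locally of finite type. -/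
theorem result
    (S : Scheme.{u}) (𝒳 : AlgSt.Cat S) (𝒴 : AlgSt.Cat S) (𝒵 : AlgSt.Cat S)
    (h𝒳 : AlgSt.IsAlgStack Scheme.fppfPrecoverage 𝒳)
    (h𝒴 : AlgSt.IsAlgStack Scheme.fppfPrecoverage 𝒴)
    (h𝒵 : AlgSt.IsAlgStack Scheme.fppfPrecoverage 𝒵)
    (f : 𝒳 ⥤ᵇ 𝒴) (g : 𝒴 ⥤ᵇ 𝒵) :
    AlgSt.LocQ (AlgSp.LocP @LocallyOfFiniteType) (BasedFunctor.comp f g) → AlgSt.LocQ (AlgSp.LocP @LocallyOfFiniteType) f := fun h =>
  Groth.Agent.AlgStLib.locQ_lft_of_comp h𝒳 h𝒴 h𝒵 h
end Groth.Agent.S13002
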