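import Groth.Statements.S13005
import Groth.Agent.AlgStLib.LocQInst

set_option backward.isDefEq.respectTransparency false
set_option backward.isDefEq.respectTransparency.types false
-- import your own Groth.Agent.* helpers here

set_option autoImplicit false
universe u
open CategoryTheory AlgebraicGeometry
open AlgSt

namespace Groth.Agent.S13005

/-- Take morphisms of algebraic stacks f : 𝒳 → 𝒴 and g : 𝒴 → 𝒵. Suppose g is locally of finite type
while the composite 𝒳 → 𝒵 is locally of finite presentation; it follows that f is also locally of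
finite presentation. -/
theorem result
    (S : Scheme.{u}) (𝒳 : AlgSt.Cat S) (𝒴 : AlgSt.Cat S) (𝒵 : AlgSt.Cat S)
    (h𝒳 : AlgSt.IsAlgStack Scheme.fppfPrecoverage 𝒳)
    (h𝒴 : AlgSt.IsAlgStack Scheme.fppfPrecoverage 𝒴)
    (h𝒵 : AlgSt.IsAlgStack Scheme.fppfPrecoverage 𝒵)
    (f : 𝒳 ⥤ᵇ 𝒴) (g : 𝒴 ⥤ᵇ 𝒵) :
    AlgSt.LocQ (AlgSp.LocP @LocallyOfFinitePresentation) (BasedFunctor.comp f g) → AlgSt.LocQ (AlgSp.LocP @LocallyOfFiniteType) g →
      AlgSt.LocQ (AlgSp.LocP @LocallyOfFinitePresentation) f := fun h hg =>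
  Groth.Agent.AlgStLib.locQ_lfp_of_comp h𝒳 h𝒴 h𝒵 h hg
end Groth.Agent.S13005
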