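import Groth.Statements.S13006
import Groth.Agent.AlgStLib.LocQInst

set_option backward.isDefEq.respectTransparency false
set_option backward.isDefEq.respectTransparency.types false
-- import your own Groth.Agent.* helpers here

set_option autoImplicit false
universe u
open CategoryTheory AlgebraicGeometry
open AlgSt

namespace Groth.Agent.S13006

/-- If a morphism f of algebraic stacks is locally of finite type then its diagonal is locally of finite
presentation. (The second assertion adds the quasi-compactness clauses on both sides.) -/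
theorem result
    (S : Scheme.{u}) (𝒳 : AlgSt.Cat S) (𝒴 : AlgSt.Cat S)
    (h𝒳 : AlgSt.IsAlgStack Scheme.fppfPrecoverage 𝒳)
    (h𝒴 : AlgSt.IsAlgStack Scheme.fppfPrecoverage 𝒴)
    (f : 𝒳 ⥤ᵇ 𝒴) :
    AlgSt.LocQ (AlgSp.LocP @LocallyOfFiniteType) f → AlgSt.LocQ (AlgSp.LocP @LocallyOfFinitePresentation) (FibCat.diag f) := by
  open Groth.Agent.AlgStLib Groth.Agent.AlgSpLib Groth.Agent.FibBase in
  exact fun hf => locQ_lfp_of_comp h𝒳 (isAlgStack_fp h𝒳 h𝒳 h𝒴.isStack h𝒴.diag f f) h𝒳
    (f := FibCat.diag f) (g := FibCat.fpFst f f)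
    (show AlgSt.LocQ (AlgSp.LocP @LocallyOfFinitePresentation) (BasedFunctor.id 𝒳) from
      (locQ_iff_repByAlgSpWith isSmoothLocalST_lfp stableBC_locP (isLocalOnBase_fppf_of_fpqc isLocalOnBase_fpqc_locP) h𝒳 h𝒳
        (repByAlgSp1_of_repByAlgSpWith (repByAlgSpWith_smooth_of_isEquivOver isEquivOver_id))).2
      (repByAlgSpWith_lfp_of_smooth (repByAlgSpWith_smooth_of_isEquivOver isEquivOver_id)))
    (locQ_fpFst isSmoothLocalST_lft stableBC_locP h𝒳 h𝒴 h𝒳 f hf)
end Groth.Agent.S13006
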