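import Groth.Statements.S13007
import Groth.Agent.AlgStLib.LocQInst
import Groth.Agent.AlgSpLib.LocalSourceInst
import Groth.Agent.SrcDescent.SchemeFppf
-- import your own Groth.Agent.* helpers here

set_option autoImplicit false
set_option backward.isDefEq.respectTransparency false
set_option backward.isDefEq.respectTransparency.types false
universe u
open CategoryTheory AlgebraicGeometry
open AlgSt

namespace Groth.Agent.S13007

/-- Let 𝒳 → 𝒴 → 𝒵 be morphisms of algebraic stacks with 𝒳 → 𝒵 locally of finite presentation and 𝒳 → 𝒴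
flat, surjective and locally of finite presentation. In that case 𝒴 → 𝒵 is locally of finite
presentation as well. -/
theorem result
    (S : Scheme.{u}) (𝒳 : AlgSt.Cat S) (𝒴 : AlgSt.Cat S) (𝒵 : AlgSt.Cat S)
    (h𝒳 : AlgSt.IsAlgStack Scheme.fppfPrecoverage 𝒳)
    (h𝒴 : AlgSt.IsAlgStack Scheme.fppfPrecoverage 𝒴)
    (h𝒵 : AlgSt.IsAlgStack Scheme.fppfPrecoverage 𝒵)
    (f : 𝒳 ⥤ᵇ 𝒴) (g : 𝒴 ⥤ᵇ 𝒵)
    (hf₁ : AlgSt.LocQ (AlgSp.LocP @Flat) f) (hf₂ : AlgSt.LocQ (AlgSp.LocP @LocallyOfFinitePresentation) f) (hf₃ : AlgSt.IsSurjective f) :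
    AlgSt.LocQ (AlgSp.LocP @LocallyOfFinitePresentation) (BasedFunctor.comp f g) → AlgSt.LocQ (AlgSp.LocP @LocallyOfFinitePresentation) g := fun h => by
  obtain ⟨U, V, W, z, d, c, hz, hd, hc, hy⟩ := Groth.Agent.AlgStLib.exists_charts_comp h𝒳 h𝒴 h𝒵 f g
  obtain ⟨c', e, hs, -⟩ := Groth.Agent.AlgStLib.exists_chart_comp h𝒳.isStack.1 h𝒴.isStack.1 h𝒵.isStack.1 d c
  refine Groth.Agent.AlgStLib.locQ_of_chart Groth.Agent.AlgSpLib.isSmoothLocalST_lfp h𝒴 h𝒵 hz.1 hz.2 hd.1 hd.2 ?_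
  have := (Groth.Agent.AlgStLib.locQ_iff_locQS Groth.Agent.AlgSpLib.isSmoothLocalST_lfp h𝒳 h𝒵 _).1 h U W z c' hz.1 (hs hc.1 hd.1)
  rw [e] at this
  refine (Groth.Agent.AlgSpLib.isLocalOnSource_fppf (S := S) @LocallyOfFinitePresentation
    (fun _ : PUnit.{u+1} => U.obj) (fun _ => _) V.property (fun _ => U.property) ⟨fun _ => ?_, fun y => ?_⟩ _ W.property).2 fun _ => this
  · exact ⟨(Groth.Agent.AlgStLib.locQ_iff_locQS Groth.Agent.AlgSpLib.isSmoothLocalST_flat h𝒳 h𝒴 f).1 hf₁ U V _ c hy.1 hc.1,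
      (Groth.Agent.AlgStLib.locQ_iff_locQS Groth.Agent.AlgSpLib.isSmoothLocalST_lfp h𝒳 h𝒴 f).1 hf₂ U V _ c hy.1 hc.1⟩
  · exact ⟨⟨⟩, Groth.Agent.AlgStLib.surj_chart h𝒳 h𝒴 hf₃ hc.2 y⟩

end Groth.Agent.S13007
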