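import Groth.Statements.S13009
import Groth.Agent.AlgStLib.QuasiCompactImm

set_option backward.isDefEq.respectTransparency false
set_option backward.isDefEq.respectTransparency.types false
-- import your own Groth.Agent.* helpers here

set_option autoImplicit false
universe u
open CategoryTheory AlgebraicGeometry
open AlgSt

namespace Groth.Agent.S13009

/-- Let f : 𝒳 → 𝒴 be a morphism of algebraic stacks and 𝒵 → 𝒴 a morphism of algebraic stacks that is
flat, surjective and locally of finite presentation. Whenever the projection 𝒵 ×_𝒴 𝒳 → 𝒵 is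
quasi-compact, f is quasi-compact too. -/
theorem result
    (S : Scheme.{u}) (𝒳 : AlgSt.Cat S) (𝒴 : AlgSt.Cat S)
    (h𝒳 : AlgSt.IsAlgStack Scheme.fppfPrecoverage 𝒳)
    (h𝒴 : AlgSt.IsAlgStack Scheme.fppfPrecoverage 𝒴)
    (f : 𝒳 ⥤ᵇ 𝒴)
    (𝒵 : AlgSt.Cat S) (h𝒵 : AlgSt.IsAlgStack Scheme.fppfPrecoverage 𝒵) (z : 𝒵 ⥤ᵇ 𝒴)
    (hz₁ : AlgSt.LocQ (AlgSp.LocP @Flat) z) (hz₂ : AlgSt.LocQ (AlgSp.LocP @LocallyOfFinitePresentation) z)
    (hz₃ : AlgSt.IsSurjective z) :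
    AlgSt.IsQuasiCompactMor Scheme.fppfPrecoverage (FibCat.fpFst z f) → AlgSt.IsQuasiCompactMor Scheme.fppfPrecoverage f := fun h =>
  Groth.Agent.AlgStLib.isQuasiCompactMor_of_fppf_baseChange h𝒳 h𝒴 h𝒵 hz₁ hz₂ hz₃ h
end Groth.Agent.S13009
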