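import Groth.Statements.S13018
import Groth.Agent.AlgStLib.QuasiCompactImm

set_option backward.isDefEq.respectTransparency false
set_option backward.isDefEq.respectTransparency.types false
-- import your own Groth.Agent.* helpers here

set_option autoImplicit false
universe u
open CategoryTheory AlgebraicGeometry
open AlgSt

open Groth.Agent.AlgStLib Groth.Agent.AlgSpLib Groth.Agent.FibBase

namespace Groth.Agent.S13018

/-- If j : 𝒳 → 𝒴 is an immersion of algebraic stacks and 𝒴 is Noetherian (quasi-compact, quasi-separated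
and locally Noetherian) then so is 𝒳. (The published statement uses quasi-separatedness over the
integers; this row uses quasi-separatedness over the base scheme in hypothesis and conclusion.) -/
theorem result
    (S : Scheme.{u}) (𝒳 : AlgSt.Cat S) (𝒴 : AlgSt.Cat S)
    (h𝒳 : AlgSt.IsAlgStack Scheme.fppfPrecoverage 𝒳)
    (h𝒴 : AlgSt.IsAlgStack Scheme.fppfPrecoverage 𝒴)
    (j : 𝒳 ⥤ᵇ 𝒴) (hj : AlgSt.IsImm j) :
    AlgSt.IsQuasiCompact 𝒴 → AlgSt.IsQuasiSeparatedOver 𝒴 → AlgSt.SmoothLocally (fun T ↦ IsLocallyNoetherian T) 𝒴 →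
      AlgSt.IsQuasiCompact 𝒳 ∧ AlgSt.IsQuasiSeparatedOver 𝒳 ∧ AlgSt.SmoothLocally (fun T ↦ IsLocallyNoetherian T) 𝒳 := fun hq hs hN => by
  have ⟨hN', hjq⟩ := isImm_noetherian h𝒳 h𝒴 hj hN
  refine ⟨isQuasiCompact_of_equiv (fpSnd_id_isEquivOver j) (hjq _ h𝒴 hq (BasedFunctor.id 𝒴)), ?_, hN'⟩
  have hjs : AlgSt.IsQuasiSeparatedMor j :=
    repByAlgSpWith_mono (fun _ _ a h => ⟨h.2.1.2, repWith_mono (P := @IsClosedImmersion) (Q := @QuasiCompact)
      (fun _ _ g (_ : IsClosedImmersion g) => inferInstanceAs (QuasiCompact g)) _ h.1⟩)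
      (isSeparatedMor_and_isDMMor_of_isMono (isMono_of_isImm hj)).1
  exact repByAlgSpWith_congr (eq_toSelf (BasedFunctor.comp j (FibCat.toSelf 𝒴))).symm
    (repByAlgSpWith_diag_comp stableBC_qcqs stableComp_qcqs isLocalOnBase_qcqs h𝒳.isStack.1 h𝒴.isStack.1 hjs hs)
end Groth.Agent.S13018
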