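import Groth.Statements.S13021
import Groth.Agent.AlgStLib.Noetherian

set_option backward.isDefEq.respectTransparency false
set_option backward.isDefEq.respectTransparency.types false
-- import your own Groth.Agent.* helpers here

set_option autoImplicit false
universe u
open CategoryTheory AlgebraicGeometry
open AlgSt

namespace Groth.Agent.S13021

/-- The space of points of a locally Noetherian algebraic stack is quasi-sober: every irreducible closed
subset has a generic point. -/
theorem result
    (S : Scheme.{u}) (𝒳 : AlgSt.Cat S)
    (h𝒳 : AlgSt.IsAlgStack Scheme.fppfPrecoverage 𝒳) :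
    AlgSt.SmoothLocally (fun T ↦ IsLocallyNoetherian T) 𝒳 → QuasiSober (AlgSt.Points 𝒳) := fun hN =>
  Groth.Agent.AlgStLib.quasiSober_points h𝒳 hN
end Groth.Agent.S13021
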