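import Groth.Statements.S13022
import Groth.Agent.AlgStLib.RedSubstack
import Groth.Agent.AlgStLib.OnePointSt

set_option backward.isDefEq.respectTransparency false
set_option backward.isDefEq.respectTransparency.types false
-- import your own Groth.Agent.* helpers here

set_option autoImplicit false
universe u
open CategoryTheory AlgebraicGeometry
open Groth.Agent Groth.Agent.AlgStLib Groth.Agent.FibBase Groth.Agent.AlgSpLib AlgSp
open AlgSt

namespace Groth.Agent.S13022

/-- Let f_j : 𝒳_j → 𝒳 be a family of flat, locally finitely presented morphisms of algebraic stacks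
which is jointly surjective on points. Then, given any scheme U and any object x of 𝒳 lying over U,
one can find an fppf covering {U_i → U}, indices j(i) and objects x_i of 𝒳_{j(i)} over U_i with
f_{j(i)}(x_i) ≅ x|_{U_i}. -/
theorem result
    (S : Scheme.{u}) (𝒳 : AlgSt.Cat S)
    (h𝒳 : AlgSt.IsAlgStack Scheme.fppfPrecoverage 𝒳)
    (J : Type u) (𝒳' : J → AlgSt.Cat S) (h𝒳' : ∀ j, AlgSt.IsAlgStack Scheme.fppfPrecoverage (𝒳' j))
    (f : ∀ j, 𝒳' j ⥤ᵇ 𝒳)
    (hf₁ : ∀ j, AlgSt.LocQ (AlgSp.LocP @Flat) (f j)) (hf₂ : ∀ j, AlgSt.LocQ (AlgSp.LocP @LocallyOfFinitePresentation) (f j))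
    (hf₃ : ∀ p : AlgSt.Points 𝒳, ∃ j, p ∈ Set.range (AlgSt.Points.map (f j)))
    (U : Over S) (x : FibCat.overCat U ⥤ᵇ 𝒳) :
    ∃ (ι : Type u) (V : ι → Over S) (g : ∀ i, V i ⟶ U) (c : ι → J),
      (Presieve.ofArrows (fun i ↦ (V i).left) fun i ↦ (g i).left) ∈ Scheme.fppfPrecoverage U.left ∧
      ∀ i, ∃ x' : FibCat.overCat (V i) ⥤ᵇ 𝒳' (c i),
        Nonempty (BasedFunctor.comp x' (f (c i)) ≅ BasedFunctor.comp (AlgSt.overMap (g i)) x) :=  by
  have hk : ∀ (T : Over S), AlgSt.IsAlgStack Scheme.fppfPrecoverage (FibCat.overCat T : AlgSt.Cat S) :=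
    fun T => isAlgStack_overCat T
  choose T u hu hu' using fun j => (h𝒳' j).atlas
  let h := fun j => BasedFunctor.comp (u j) (f j)
  have hrep : ∀ j, AlgSt.RepByAlgSp1 (h j) := fun j =>
    repByAlgSp1_of_diag h𝒳.isStack.1 h𝒳.diag _ (h j)
  have hQ : ∀ (R : MorphismProperty Scheme.{u}) [AlgSpLib.IsEtLocal R] [R.IsStableUnderComposition]
      [R.IsStableUnderBaseChange] [IsZariskiLocalAtTarget R] (hR : AlgSp.IsSmoothLocalST (S := S) (AlgSp.LocP R))
      (hloc : AlgSp.IsLocalOnBase (AlgSp.IsFppfCover (S := S)) (AlgSp.LocP R)) (hsm : @Smooth ≤ R) (j : J)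
      (hf : AlgSt.LocQ (AlgSp.LocP R) (f j)), AlgSt.RepByAlgSpWith (AlgSp.LocP R) (h j) := by
    intro R _ _ _ _ hR hloc hsm j hf
    refine (locQ_iff_repByAlgSpWith hR stableBC_locP hloc (hk _) h𝒳 (hrep j)).1
      (locQ_comp hR stableComp_locP (hk _) (h𝒳' j) h𝒳 ?_ hf)
    exact (locQ_iff_repByAlgSpWith hR stableBC_locP hloc (hk _) (h𝒳' j)
      (repByAlgSp1_of_diag (h𝒳' j).isStack.1 (h𝒳' j).diag _ (u j))).2
      (repByAlgSpWith_mono (fun _ _ _ ha => AlgSpLib.locP_mono (P := @Smooth) hsm ha) (hu j))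
  have hfl := fun j => hQ @Flat AlgSpLib.isSmoothLocalST_flat (isLocalOnBase_fppf_locP @Flat)
    (fun _ _ g (_ : Smooth g) => inferInstanceAs (Flat g)) j (hf₁ j)
  have hfp := fun j => hQ @LocallyOfFinitePresentation AlgSpLib.isSmoothLocalST_lfp
    (isLocalOnBase_fppf_locP @LocallyOfFinitePresentation)
    (fun _ _ g (_ : Smooth g) => inferInstanceAs (LocallyOfFinitePresentation g)) j (hf₂ j)
  choose F e he hFf using fun j => hfl j U x
  have hFp := fun j => (RepOver.property_of_stableBC stableBC_locP (hfp j U x) (e j) (he j)).2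
  choose V p hp hp' using fun j => (F j).property.atlas
  let a := fun j => AlgSt.spMapOfOver (BasedFunctor.comp (e j) (FibCat.fpFst x (h j)))
  choose w hw using fun j => (AlgSp.yon S).map_surjective (p j ≫ a j)
  refine ⟨J, V, w, id, ?_, fun j => ?_⟩
  · refine (Scheme.ofArrows_mem_precoverage_iff _).2 ⟨fun t => ?_, fun j => ?_⟩
    · obtain ⟨j, q, hq⟩ := hf₃ (AlgSt.Points.map x (ptAt U t))
      obtain ⟨s, rfl⟩ := ofChart_surjective (h𝒳' j).isStack.1 (hu' j) q
      rw [ofChart_eq_map, ← pts_map_comp] at hq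
      obtain ⟨z, hz, -⟩ := exists_pts_fp (isFibGrpd_overCat (T j)) h𝒳.isStack.1 (isFibGrpd_overCat U) (h j) x
        (ptAt U t) (ptAt (T j) s) hq.symm
      obtain ⟨z', rfl⟩ := (pts_bijective_of_isEquivOver (he j)).2 z
      obtain ⟨v, rfl⟩ := surjective_overOfMap (hp' j) z'
      rw [← pts_map_comp, ← pts_map_comp] at hz
      refine ⟨j, v, ?_⟩
      have h2 := congrArg (toSch U) hz
      rw [pts_map_congr (whiskerLeftIso (overOfMap (p j)) (isoSpMapOfOver
        (BasedFunctor.comp (e j) (FibCat.fpFst x (h j))))), toSch_ptAt, pts_map_comp, pts_map_comp,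
        toSch_map_toOverCat, spPt_map_ofSpMap, spPt_map_overOfMap, ← AlgSp.Points.map_comp, ← hw] at h2
      rw [← h2]
      rw [Points.map_yon_map_eq]
      show (w j).left v = (Points.schemeHomeo U).symm (Points.schemeHomeo U ((w j).left
        ((Points.schemeHomeo (V j)).symm (Points.schemeHomeo (V j) v))))
      simp
    · have hV := AlgSp.IsAlgSpace.yon_obj (S := S) (V j)
      have hU := AlgSp.IsAlgSpace.yon_obj (S := S) U
      have hp0 := AlgSpLib.locP_of_repWith (P := @Etale) (hp j)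
      exact ⟨locP_yon_map (P := @Flat) (hw j ▸ AlgSpLib.locP_comp hV (F j).property hU
          (AlgSpLib.locP_mono (Q := @Flat) (fun _ _ g (_ : Etale g) => inferInstanceAs (Flat g)) hp0) (hFf j)),
        locP_yon_map (P := @LocallyOfFinitePresentation) (hw j ▸ AlgSpLib.locP_comp hV (F j).property hU
          (AlgSpLib.locP_mono (Q := @LocallyOfFinitePresentation)
            (fun _ _ g (_ : Etale g) => inferInstanceAs (LocallyOfFinitePresentation g)) hp0) (hFp j))⟩
  · let E := BasedFunctor.comp (overOfMap (p j)) (e j)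
    obtain ⟨j'⟩ : Nonempty (BasedFunctor.comp E (FibCat.fpFst x (h j)) ≅ AlgSt.overMap (w j)) :=
      RedSub.overOfMap_comp_iso (p j) (BasedFunctor.comp (e j) (FibCat.fpFst x (h j))) (w j) (hw j)
    refine ⟨BasedFunctor.comp (BasedFunctor.comp E (FibCat.fpSnd x (h j))) (u j), ⟨?_⟩⟩
    exact (whiskerLeftIso E (FibCat.fpIso x (h j))).symm ≪≫ whiskerRightIso j' x
end Groth.Agent.S13022
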