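import Groth.Statements.S13035
import Groth.Agent.AlgStLib.LocQCalc
import Groth.Agent.AlgStLib.QuasiCompact
import Groth.Agent.AlgStLib.LocEss
import Groth.Agent.AlgSpLib.SmoothLocalInst
import Groth.Agent.AlgSpLib.EtLocalInst

set_option backward.isDefEq.respectTransparency false
set_option backward.isDefEq.respectTransparency.types false
-- import your own Groth.Agent.* helpers here

set_option autoImplicit false
universe u
open CategoryTheory AlgebraicGeometry
open AlgSt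

namespace Groth.Agent.S13035

/-- The spectrum of a local ring maps flatly. -/
theorem flat_fromSpecStalk (U : Scheme.{u}) (t : U) : Flat (U.fromSpecStalk t) := by
  obtain ⟨W, hW, htW, -⟩ := exists_isAffineOpen_mem_and_subset (U := (⊤ : U.Opens)) (x := t) trivial
  rw [← hW.fromSpecStalk_eq_fromSpecStalk htW]
  show Flat (Spec.map (U.presheaf.germ W t htW) ≫ hW.fromSpec)
  letI := (U.presheaf.germ W t htW).hom.toAlgebra
  have := hW.isLocalization_stalk ⟨t, htW⟩
  have : Module.Flat Γ(U, W) (U.presheaf.stalk t) :=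
    IsLocalization.flat (U.presheaf.stalk t) (hW.primeIdealOf ⟨t, htW⟩).asIdeal.primeCompl
  have : Flat (Spec.map (U.presheaf.germ W t htW)) :=
    (HasRingHomProperty.Spec_iff (P := @Flat)).2 this
  infer_instance

/-- Flat maps lift a valuation ring along a point over the closed point. -/
theorem exists_dominating {A : Type u} [CommRing A] [IsDomain A] [ValuationRing A] {U : Scheme.{u}}
    (g : U ⟶ Spec (CommRingCat.of A)) [Flat g] (t : U) (ht : g t = IsLocalRing.closedPoint A) :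
    ∃ (A' : Type u) (_ : CommRing A') (_ : IsDomain A') (_ : ValuationRing A') (φ : A →+* A'),
      Function.Injective φ ∧ IsLocalHom φ ∧
      ∃ m : Spec (CommRingCat.of A') ⟶ U, m ≫ g = Spec.map (CommRingCat.ofHom φ) := by
  let O := U.presheaf.stalk t
  let ψ : CommRingCat.of A ⟶ O := Spec.preimage (U.fromSpecStalk t ≫ g)
  have hψ : Spec.map ψ = U.fromSpecStalk t ≫ g := Spec.map_preimage _
  have hψl : IsLocalHom ψ.hom := by
    refine (IsLocalRing.isLocalHom_iff_comap_closedPoint ψ.hom).2 ?_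
    show (Spec.map ψ) (IsLocalRing.closedPoint O) = IsLocalRing.closedPoint A
    rw [hψ, Scheme.Hom.comp_apply, Scheme.fromSpecStalk_closedPoint]
    exact ht
  have hψf : ψ.hom.Flat := by
    have : Flat (U.fromSpecStalk t ≫ g) := MorphismProperty.comp_mem _ _ _ (flat_fromSpecStalk U t) inferInstance
    rw [← hψ] at this
    exact (HasRingHomProperty.Spec_iff (P := @Flat)).1 this
  algebraize [ψ.hom]
  have : IsLocalHom (algebraMap A O) := hψl
  have : Module.FaithfullyFlat A O := Module.FaithfullyFlat.of_flat_of_isLocalHom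
  obtain ⟨P, hP⟩ := PrimeSpectrum.comap_surjective_of_faithfullyFlat (A := A) (B := O)
    (⟨⊥, Ideal.isPrime_bot⟩ : PrimeSpectrum A)
  obtain ⟨V, hV, hVl⟩ := IsLocalRing.exists_factor_valuationRing (algebraMap O P.asIdeal.ResidueField)
  let σ : O ⟶ CommRingCat.of V := CommRingCat.ofHom ((algebraMap O P.asIdeal.ResidueField).codRestrict _ hV)
  refine ⟨V, inferInstance, inferInstance, inferInstance, (ψ ≫ σ).hom, ?_, ?_, Spec.map σ ≫ U.fromSpecStalk t, ?_⟩
  · rw [injective_iff_map_eq_zero]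
    intro x hx
    have h1 : algebraMap O P.asIdeal.ResidueField (algebraMap A O x) = 0 := congrArg Subtype.val hx
    rw [Ideal.algebraMap_residueField_eq_zero] at h1
    have h2 : x ∈ (PrimeSpectrum.comap (algebraMap A O) P).asIdeal := h1
    rw [hP] at h2
    simpa using h2
  · exact @RingHom.isLocalHom_comp _ _ _ _ _ _ σ.hom ψ.hom hVl hψl
  · rw [Category.assoc, ← hψ, ← Spec.map_comp]
    rfl

/-- The two composites through a double fibre product. -/
theorem nonempty_triangleIso {S : Scheme.{u}} {𝒳 𝒴 : AlgSt.Cat S} {U T T' : Over S} (f : 𝒳 ⥤ᵇ 𝒴)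
    (a : FibCat.overCat T ⥤ᵇ 𝒴)
    (c : FibCat.overCat U ⥤ᵇ FibCat.fp (FibCat.fpFst a f) (BasedFunctor.id (FibCat.overCat T : AlgSt.Cat S)))
    (g : U ⟶ T) (eg : AlgSt.overMap g ≅ BasedFunctor.comp c (FibCat.fpSnd (FibCat.fpFst a f) (BasedFunctor.id _)))
    (m : T' ⟶ U) (j : T' ⟶ T) (h : m ≫ g = j) :
    Nonempty (BasedFunctor.comp (BasedFunctor.comp (AlgSt.overMap m) (BasedFunctor.comp c
      (BasedFunctor.comp (FibCat.fpFst (FibCat.fpFst a f) (BasedFunctor.id _)) (FibCat.fpSnd a f)))) f ≅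
      BasedFunctor.comp (AlgSt.overMap j) a) := by
  let p := FibCat.fpFst (FibCat.fpFst a f) (BasedFunctor.id (FibCat.overCat T : AlgSt.Cat S))
  let i₁ := FibBase.whiskerLeftIso (AlgSt.overMap m)
    (FibBase.whiskerLeftIso c (FibBase.whiskerLeftIso p (FibCat.fpIso a f).symm))
  let i₂ := FibBase.whiskerLeftIso (AlgSt.overMap m) (FibBase.whiskerLeftIso c
    (FibBase.whiskerRightIso (FibCat.fpIso (FibCat.fpFst a f) (BasedFunctor.id (FibCat.overCat T : AlgSt.Cat S))) a))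
  let i₃ := FibBase.whiskerLeftIso (AlgSt.overMap m) (FibBase.whiskerRightIso eg.symm a)
  let i₄ := FibBase.whiskerRightIso (AlgStLib.overMapCompIso m g) a
  let i₅ : BasedFunctor.comp (AlgSt.overMap (m ≫ g)) a ≅ BasedFunctor.comp (AlgSt.overMap j) a :=
    eqToIso (by rw [h])
  exact ⟨i₁ ≪≫ i₂ ≪≫ i₃ ≪≫ i₄ ≪≫ i₅⟩


/-- Let f : 𝒳 → 𝒴 be a flat morphism of algebraic stacks and Spec A → 𝒴 a morphism with A a valuation
ring whose closed point maps into the image of |𝒳| → |𝒴|. Then there are an extension of valuation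
rings A → A' (an injective local homomorphism of valuation rings) and a morphism Spec A' → 𝒳 making
the square with Spec A' → Spec A → 𝒴 2-commute. -/
theorem result
    (S : Scheme.{u}) (𝒳 : AlgSt.Cat S) (𝒴 : AlgSt.Cat S)
    (h𝒳 : AlgSt.IsAlgStack Scheme.fppfPrecoverage 𝒳)
    (h𝒴 : AlgSt.IsAlgStack Scheme.fppfPrecoverage 𝒴)
    (f : 𝒳 ⥤ᵇ 𝒴)
    (hf : AlgSt.LocQ (AlgSp.LocP @Flat) f)
    (A : Type u) [CommRing A] [IsDomain A] [ValuationRing A] (sA : Spec (CommRingCat.of A) ⟶ S)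
    (a : FibCat.overCat (Over.mk sA) ⥤ᵇ 𝒴)
    (ha : AlgSt.Points.ofChart a (IsLocalRing.closedPoint A) ∈ Set.range (AlgSt.Points.map f)) :
    ∃ (A' : Type u) (_ : CommRing A') (_ : IsDomain A') (_ : ValuationRing A') (φ : A →+* A'),
      Function.Injective φ ∧ IsLocalHom φ ∧
      ∃ x : FibCat.overCat (Over.mk (Spec.map (CommRingCat.ofHom φ) ≫ sA)) ⥤ᵇ 𝒳,
        Nonempty (BasedFunctor.comp x f ≅
          BasedFunctor.comp (AlgSt.overMap (Over.homMk (Spec.map (CommRingCat.ofHom φ)) rfl :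
            Over.mk (Spec.map (CommRingCat.ofHom φ) ≫ sA) ⟶ Over.mk sA)) a) :=  by
  have hg𝒳 := h𝒳.isStack.1
  have hg𝒴 := h𝒴.isStack.1
  let T : Over S := Over.mk sA
  have hT := AlgStLib.isAlgStack_overCat T
  have hfp := AlgStLib.isAlgStack_fp hT h𝒳 h𝒴.isStack h𝒴.diag a f
  have hflat : AlgSt.LocQ (AlgSp.LocP @Flat) (FibCat.fpFst a f) :=
    AlgStLib.locQ_fpFst AlgSpLib.isSmoothLocalST_flat AlgStLib.stableBC_locP h𝒳 h𝒴 hT a hf
  let y₀ : FibCat.overCat T ⥤ᵇ FibCat.overCat T := BasedFunctor.id _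
  obtain ⟨U, c, hc, hc'⟩ := AlgStLib.exists_atlas_fp hfp hT hT (FibCat.fpFst a f) y₀
  obtain ⟨g, ⟨eg⟩⟩ := FibBase.exists_mapB (BasedFunctor.comp c (FibCat.fpSnd (FibCat.fpFst a f) y₀))
  have hy₀ : AlgSt.RepByAlgSpWith (AlgSp.LocP @Smooth) y₀ :=
    AlgStLib.repByAlgSpWith_smooth_of_isEquivOver FibBase.isEquivOver_id
  have hgl : AlgSp.LocP @Flat ((AlgSp.yon S).map g) :=
    ((AlgStLib.locQ_iff_locQS AlgSpLib.isSmoothLocalST_flat hfp hT _).1 hflat).scheme c hy₀ hc eg.symm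
  haveI : Flat g.left := (AlgSp.repWith_yon_map_iff _ _).1
    (AlgSpLib.repWith_of_locP (AlgSp.IsAlgSpace.yon_obj T) (AlgSp.representable_yon_map g) hgl)
  -- a chart point over the closed point
  obtain ⟨ξ, hξ⟩ := ha
  obtain ⟨η, hη, -⟩ := AlgStLib.exists_pts_fp hg𝒳 hg𝒴 hT.isStack.1 f a
    (AlgStLib.ptAt T (IsLocalRing.closedPoint A)) ξ ((AlgStLib.ofChart_eq_map a _).symm.trans hξ.symm)
  obtain ⟨θ, hθ, hθ'⟩ := AlgStLib.exists_pts_fp hT.isStack.1 hT.isStack.1 hfp.isStack.1 y₀ (FibCat.fpFst a f)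
    η (AlgStLib.ptAt T (IsLocalRing.closedPoint A)) (hη.trans (AlgStLib.pts_map_id _).symm)
  obtain ⟨t, rfl⟩ := AlgStLib.ofChart_surjective
    (AlgStLib.isAlgStack_fp hfp hT hT.isStack hT.diag (FibCat.fpFst a f) y₀).isStack.1 hc' θ
  have ht : g.left t = IsLocalRing.closedPoint A := by
    rw [AlgStLib.ofChart_eq_map, ← AlgStLib.pts_map_comp, ← AlgStLib.pts_map_congr eg] at hθ'
    have h := congrArg (AlgStLib.toSch T) hθ'
    rw [AlgStLib.toSch_ptAt] at h
    refine Eq.trans ?_ h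
    refine Eq.trans ?_ (AlgStLib.toSch_map_overMap g (AlgStLib.ptAt U t)).symm
    rw [AlgStLib.toSch_ptAt]
  -- algebra
  obtain ⟨A', _, _, _, φ, hφ, hloc, mU, hmU⟩ := exists_dominating g.left t ht
  refine ⟨A', inferInstance, inferInstance, inferInstance, φ, hφ, hloc, ?_⟩
  let m : Over.mk (Spec.map (CommRingCat.ofHom φ) ≫ sA) ⟶ U := Over.homMk mU (by
    show mU ≫ U.hom = _ ≫ sA
    rw [← Over.w g, ← Category.assoc, hmU]
    rfl)
  let j : Over.mk (Spec.map (CommRingCat.ofHom φ) ≫ sA) ⟶ T := Over.homMk (Spec.map (CommRingCat.ofHom φ)) rfl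
  have hcomm : m ≫ g = j := by ext1; exact hmU
  exact ⟨BasedFunctor.comp (AlgSt.overMap m) (BasedFunctor.comp c
      (BasedFunctor.comp (FibCat.fpFst (FibCat.fpFst a f) y₀) (FibCat.fpSnd a f))),
    nonempty_triangleIso f a c g eg m j hcomm⟩
end Groth.Agent.S13035
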