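import Groth.Statements.S13036
import Groth.Agent.AlgStLib.QuasiCompact
import Groth.Agent.AlgStLib.LocEss
import Groth.Agent.FDescent.QuasiFlat

set_option backward.isDefEq.respectTransparency false
set_option backward.isDefEq.respectTransparency.types false
-- import your own Groth.Agent.* helpers here

set_option autoImplicit false
set_option maxHeartbeats 1000000
universe u
open CategoryTheory AlgebraicGeometry
open AlgSt

namespace Groth.Agent.S13036

/-- The two composites of a commutative square of test schemes through a fibre product. -/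
theorem nonempty_squareIso {S : Scheme.{u}} {𝒳 𝒴 : AlgSt.Cat S} {U W T T' : Over S} (f : 𝒳 ⥤ᵇ 𝒴)
    (q : FibCat.overCat W ⥤ᵇ 𝒴) (c : FibCat.overCat U ⥤ᵇ FibCat.fp q f) (g : U ⟶ W)
    (eg : AlgSt.overMap g ≅ BasedFunctor.comp c (FibCat.fpFst q f)) (m : T ⟶ U) (j : T ⟶ T') (n : T' ⟶ W)
    (h : m ≫ g = j ≫ n) :
    Nonempty (BasedFunctor.comp (BasedFunctor.comp (AlgSt.overMap m) (BasedFunctor.comp c (FibCat.fpSnd q f))) f ≅
      BasedFunctor.comp (AlgSt.overMap j) (BasedFunctor.comp (AlgSt.overMap n) q)) := by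
  let i₁ := FibBase.whiskerLeftIso (AlgSt.overMap m) (FibBase.whiskerLeftIso c (FibCat.fpIso q f).symm)
  let i₂ := FibBase.whiskerLeftIso (AlgSt.overMap m) (FibBase.whiskerRightIso eg.symm q)
  let i₃ := FibBase.whiskerRightIso (AlgStLib.overMapCompIso m g) q
  let i₄ : BasedFunctor.comp (AlgSt.overMap (m ≫ g)) q ≅ BasedFunctor.comp (AlgSt.overMap (j ≫ n)) q :=
    eqToIso (by rw [h])
  let i₅ := FibBase.whiskerRightIso (AlgStLib.overMapCompIso j n) q
  exact ⟨i₁ ≪≫ i₂ ≪≫ i₃ ≪≫ i₄ ≪≫ i₅.symm⟩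


/-- The comparison from a fraction field to the standard one. -/
theorem exists_hom_fractionRing (A : Type*) (K : Type*) [CommRing A] [IsDomain A] [Field K] [Algebra A K] [IsFractionRing A K] :
    ∃ e : K →+* FractionRing A, e.comp (algebraMap A K) = algebraMap A (FractionRing A) :=
  ⟨(IsLocalization.algEquiv (nonZeroDivisors A) K (FractionRing A)).toRingEquiv.toRingHom,
    RingHom.ext fun a => (IsLocalization.algEquiv (nonZeroDivisors A) K (FractionRing A)).commutes a⟩


/-- Let f : 𝒳 → 𝒴 be a quasi-compact morphism of algebraic stacks and y a point of |𝒴| in the closure of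
the image of |f|. Then there are a valuation ring A with fraction field K and a 2-commutative square
Spec K → 𝒳, Spec A → 𝒴 (over Spec K → Spec A and f) such that the closed point of Spec A maps to y. -/
theorem result
    (S : Scheme.{u}) (𝒳 : AlgSt.Cat S) (𝒴 : AlgSt.Cat S)
    (h𝒳 : AlgSt.IsAlgStack Scheme.fppfPrecoverage 𝒳)
    (h𝒴 : AlgSt.IsAlgStack Scheme.fppfPrecoverage 𝒴)
    (f : 𝒳 ⥤ᵇ 𝒴)
    (hf : AlgSt.IsQuasiCompactMor Scheme.fppfPrecoverage f)
    (y : AlgSt.Points 𝒴) (hy : y ∈ closure (Set.range (AlgSt.Points.map f))) :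
    ∃ (A : Type u) (_ : CommRing A) (_ : IsDomain A) (_ : ValuationRing A) (sA : Spec (CommRingCat.of A) ⟶ S)
      (a : FibCat.overCat (Over.mk sA) ⥤ᵇ 𝒴)
      (x : FibCat.overCat (Over.mk (Spec.map (CommRingCat.ofHom (algebraMap A (FractionRing A))) ≫ sA)) ⥤ᵇ 𝒳),
      Nonempty (BasedFunctor.comp x f ≅
        BasedFunctor.comp (AlgSt.overMap (Over.homMk (Spec.map (CommRingCat.ofHom (algebraMap A (FractionRing A)))) rfl :
          Over.mk (Spec.map (CommRingCat.ofHom (algebraMap A (FractionRing A))) ≫ sA) ⟶ Over.mk sA)) a) ∧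
      AlgSt.Points.ofChart a (IsLocalRing.closedPoint A) = y :=  by
  have hg𝒳 := h𝒳.isStack.1
  have hg𝒴 := h𝒴.isStack.1
  obtain ⟨V, p, hp, hp'⟩ := id h𝒴.atlas
  obtain ⟨v₀, rfl⟩ := AlgStLib.ofChart_surjective hg𝒴 hp' y
  obtain ⟨W₀, hW₀, hv₀, -⟩ := exists_isAffineOpen_mem_and_subset (U := (⊤ : V.left.Opens)) (x := v₀) trivial
  let W : Over S := Over.mk (W₀.ι ≫ V.hom)
  let k : W ⟶ V := Over.homMk W₀.ι rfl
  let q := BasedFunctor.comp (AlgSt.overMap k) p
  have hsm : AlgSt.RepByAlgSpWith (AlgSp.LocP @Smooth) q :=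
    AlgStLib.repByAlgSpWith_locP_comp (AlgStLib.isFibGrpd_overCat _) (AlgStLib.isFibGrpd_overCat _)
      (AlgStLib.repByAlgSpWith_overMap AlgStLib.stableBC_locP
        (AlgSpLib.locP_of_repWith ((AlgSp.repWith_yon_map_iff _ _).2 (inferInstanceAs (Smooth W₀.ι))))) hp
  obtain ⟨w₀, rfl⟩ : v₀ ∈ Set.range W₀.ι := by rw [Scheme.Opens.range_ι]; exact hv₀
  haveI : IsAffine W.left := hW₀
  haveI : CompactSpace ↥W.left := inferInstance
  have hyq : AlgSt.Points.ofChart q w₀ = AlgSt.Points.ofChart p (W₀.ι w₀) := AlgStLib.ofChart_overMap k p w₀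
  obtain ⟨U, c, hU, hc, hc'⟩ := hf _ (AlgStLib.isAlgStack_overCat W) (AlgStLib.isQuasiCompact_overCat W) q
  haveI := hU
  obtain ⟨g, ⟨eg⟩⟩ := FibBase.exists_mapB (BasedFunctor.comp c (FibCat.fpFst q f))
  have hgW : ∀ w : W.left, AlgSt.Points.ofChart q w ∈ Set.range (AlgSt.Points.map f) → w ∈ Set.range g.left := by
    rintro w ⟨ξ, hξ⟩
    obtain ⟨η, hη, -⟩ := AlgStLib.exists_pts_fp hg𝒳 hg𝒴 (AlgStLib.isFibGrpd_overCat W) f q
      (AlgStLib.ptAt W w) ξ ((AlgStLib.ofChart_eq_map q w).symm.trans hξ.symm)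
    obtain ⟨t, rfl⟩ := AlgStLib.ofChart_surjective (AlgStLib.isAlgStack_fp (AlgStLib.isAlgStack_overCat W) h𝒳
      h𝒴.isStack h𝒴.diag q f).isStack.1 hc' η
    refine ⟨t, ?_⟩
    rw [AlgStLib.ofChart_eq_map, ← AlgStLib.pts_map_comp, ← AlgStLib.pts_map_congr eg] at hη
    have h := congrArg (AlgStLib.toSch W) hη
    rw [AlgStLib.toSch_ptAt] at h
    refine Eq.trans ?_ h
    refine Eq.trans ?_ (AlgStLib.toSch_map_overMap g (AlgStLib.ptAt U t)).symm
    rw [AlgStLib.toSch_ptAt]
  have hcl : w₀ ∈ closure (Set.range g.left) := by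
    have ho := AlgStLib.isOpenMap_ofChart hg𝒴 (AlgStLib.repByAlgSpWith_flat_of_smooth hsm)
      (AlgStLib.repByAlgSpWith_lfp_of_smooth hsm)
    have h1 : w₀ ∈ AlgSt.Points.ofChart q ⁻¹' closure (Set.range (AlgSt.Points.map f)) := by
      rw [Set.mem_preimage, hyq]
      exact hy
    exact closure_mono hgW (ho.preimage_closure_subset_closure_preimage h1)
  have : QuasiCompact g.left := QuasiCompact.of_comp g.left (CategoryTheory.Limits.terminal.from W.left)
  obtain ⟨t, ht⟩ := FDescent.exists_specializes_of_mem_closure_range (f := g.left) hcl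
  -- a valuation ring of the residue field dominating the local ring
  let σ : W.left.presheaf.stalk w₀ ⟶ U.left.residueField t :=
    W.left.presheaf.stalkSpecializes ht ≫ g.left.stalkMap t ≫ U.left.residue t
  obtain ⟨A, hA, hAloc⟩ := IsLocalRing.exists_factor_valuationRing σ.hom
  let σA : W.left.presheaf.stalk w₀ ⟶ CommRingCat.of A := CommRingCat.ofHom (σ.hom.codRestrict _ hA)
  have hsq : U.left.fromSpecResidueField t ≫ g.left =
      Spec.map (CommRingCat.ofHom (algebraMap A (U.left.residueField t))) ≫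
        Spec.map σA ≫ W.left.fromSpecStalk w₀ := by
    rw [Scheme.fromSpecResidueField, Category.assoc, ← Scheme.SpecMap_stalkMap_fromSpecStalk,
      ← Scheme.SpecMap_stalkSpecializes_fromSpecStalk ht]
    simp_rw [← Spec.map_comp_assoc]
    rfl
  obtain ⟨e', he⟩ := exists_hom_fractionRing A (U.left.residueField t)
  let mA : Spec (CommRingCat.of A) ⟶ W.left := Spec.map σA ≫ W.left.fromSpecStalk w₀
  let mU : Spec (CommRingCat.of (FractionRing A)) ⟶ U.left :=
    Spec.map (CommRingCat.ofHom e') ≫ U.left.fromSpecResidueField t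
  have hmU : mU ≫ g.left = Spec.map (CommRingCat.ofHom (algebraMap A (FractionRing A))) ≫ mA := by
    rw [Category.assoc, hsq, ← Category.assoc, ← Spec.map_comp, ← CommRingCat.ofHom_comp, he]
  let mA' : Over.mk (mA ≫ W.hom) ⟶ W := Over.homMk mA
  let mU' : Over.mk (Spec.map (CommRingCat.ofHom (algebraMap A (FractionRing A))) ≫ mA ≫ W.hom) ⟶ U :=
    Over.homMk mU (by
      show mU ≫ U.hom = _ ≫ mA ≫ W.hom
      rw [← Over.w g, ← Category.assoc, hmU, Category.assoc])
  let j : Over.mk (Spec.map (CommRingCat.ofHom (algebraMap A (FractionRing A))) ≫ mA ≫ W.hom) ⟶ Over.mk (mA ≫ W.hom) :=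
    Over.homMk (Spec.map (CommRingCat.ofHom (algebraMap A (FractionRing A)))) rfl
  have hcomm : mU' ≫ g = j ≫ mA' := by ext1; exact hmU
  refine ⟨A, inferInstance, inferInstance, inferInstance, mA ≫ W.hom, BasedFunctor.comp (AlgSt.overMap mA') q,
    BasedFunctor.comp (AlgSt.overMap mU') (BasedFunctor.comp c (FibCat.fpSnd q f)), ?_, ?_⟩
  · exact nonempty_squareIso f q c g eg mU' j mA' hcomm
  · rw [← hyq]
    refine (AlgStLib.ofChart_overMap mA' q _).trans (congrArg _ ?_)
    show W.left.fromSpecStalk w₀ (Spec.map σA (IsLocalRing.closedPoint A)) = w₀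
    have : Spec.map σA (IsLocalRing.closedPoint A) = IsLocalRing.closedPoint (W.left.presheaf.stalk w₀) :=
      IsLocalRing.comap_closedPoint (S := A) (σ.hom.codRestrict A.toSubring hA)
    rw [this, W.left.fromSpecStalk_closedPoint]
end Groth.Agent.S13036
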