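import Groth.Statements.S13037
import Groth.Agent.AlgStLib.SmoothLocusSub

set_option backward.isDefEq.respectTransparency false
set_option backward.isDefEq.respectTransparency.types false
-- import your own Groth.Agent.* helpers here

set_option autoImplicit false
universe u
open CategoryTheory AlgebraicGeometry
open AlgSt

namespace Groth.Agent.S13037

/-- For a morphism f : 𝒳 → 𝒴 of algebraic stacks there is a largest open substack of 𝒳 on which f is
smooth: a strictly full open substack 𝒰 with 𝒰 → 𝒳 → 𝒴 smooth, containing every open substack with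
that property. (The compatibilities of its formation with smooth precomposition and flat base change
are not part of this statement.) -/
theorem result
    (S : Scheme.{u}) (𝒳 : AlgSt.Cat S) (𝒴 : AlgSt.Cat S)
    (h𝒳 : AlgSt.IsAlgStack Scheme.fppfPrecoverage 𝒳)
    (h𝒴 : AlgSt.IsAlgStack Scheme.fppfPrecoverage 𝒴)
    (f : 𝒳 ⥤ᵇ 𝒴) :
    ∃ Q : 𝒳.obj → Prop, AlgSt.IsOpenSubstack 𝒳 Q Scheme.fppfPrecoverage ∧
      AlgSt.LocQ (AlgSp.LocP @Smooth) (BasedFunctor.comp (AlgSt.subIncl 𝒳 Q) f) ∧
      ∀ Q' : 𝒳.obj → Prop, AlgSt.IsOpenSubstack 𝒳 Q' Scheme.fppfPrecoverage →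
        AlgSt.LocQ (AlgSp.LocP @Smooth) (BasedFunctor.comp (AlgSt.subIncl 𝒳 Q') f) → ∀ a, Q' a → Q a :=  Groth.Agent.AlgStLib.exists_largest_smooth h𝒳 h𝒴 f
end Groth.Agent.S13037
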