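import Groth.Statements.S13038
import Groth.Agent.AlgStLib.LocQCalc

set_option backward.isDefEq.respectTransparency false
set_option backward.isDefEq.respectTransparency.types false
-- import your own Groth.Agent.* helpers here

set_option autoImplicit false
universe u
open CategoryTheory AlgebraicGeometry
open AlgSt

namespace Groth.Agent.S13038

/-- Suppose P, a property of morphisms between algebraic spaces, is local on source and target for the
smooth topology and is preserved by composition of algebraic spaces. Then the induced property of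
morphisms of algebraic stacks, read on one square of smooth charts, is stable under composition. -/
theorem result
    (S : Scheme.{u}) (P : MorphismProperty (AlgSp.Sp S)) (hP : AlgSp.IsSmoothLocalST P)
    (hPc : ∀ ⦃X₁ Y₁ Z₁ : AlgSp.Sp S⦄, AlgSp.IsAlgSpace X₁ → AlgSp.IsAlgSpace Y₁ → AlgSp.IsAlgSpace Z₁ →
      ∀ (a : X₁ ⟶ Y₁) (b : Y₁ ⟶ Z₁), P a → P b → P (a ≫ b))
    (𝒳 : AlgSt.Cat S) (𝒴 : AlgSt.Cat S) (𝒵 : AlgSt.Cat S)
    (h𝒳 : AlgSt.IsAlgStack Scheme.fppfPrecoverage 𝒳)
    (h𝒴 : AlgSt.IsAlgStack Scheme.fppfPrecoverage 𝒴)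
    (h𝒵 : AlgSt.IsAlgStack Scheme.fppfPrecoverage 𝒵)
    (f : 𝒳 ⥤ᵇ 𝒴) (g : 𝒴 ⥤ᵇ 𝒵) :
    AlgSt.LocQ P f → AlgSt.LocQ P g → AlgSt.LocQ P (BasedFunctor.comp f g) := fun hf hg =>
  Groth.Agent.AlgStLib.locQ_comp hP hPc h𝒳 h𝒴 h𝒵 hf hg
end Groth.Agent.S13038
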