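import Groth.Statements.S13039
import Groth.Agent.AlgStLib.LocQCalc

set_option backward.isDefEq.respectTransparency false
set_option backward.isDefEq.respectTransparency.types false
-- import your own Groth.Agent.* helpers here

set_option autoImplicit false
universe u
open CategoryTheory AlgebraicGeometry
open AlgSt

namespace Groth.Agent.S13039

/-- Suppose P, a property of morphisms between algebraic spaces, is local on source and target for the
smooth topology and is preserved by base change of algebraic spaces. Then the induced property of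
morphisms of algebraic stacks, read on one square of smooth charts, is stable under base change: it
passes from f : 𝒳 → 𝒴 to the projection 𝒴' ×_𝒴 𝒳 → 𝒴'. -/
theorem result
    (S : Scheme.{u}) (P : MorphismProperty (AlgSp.Sp S)) (hP : AlgSp.IsSmoothLocalST P)
    (hPb : ∀ ⦃X₁ Y₁ X₂ Y₂ : AlgSp.Sp S⦄, AlgSp.IsAlgSpace X₁ → AlgSp.IsAlgSpace Y₁ → AlgSp.IsAlgSpace X₂ →
      AlgSp.IsAlgSpace Y₂ → ∀ (a : X₁ ⟶ Y₁) (b : Y₂ ⟶ Y₁) (a' : X₂ ⟶ Y₂) (b' : X₂ ⟶ X₁),
      IsPullback b' a' a b → P a → P a')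
    (𝒳 : AlgSt.Cat S) (𝒴 : AlgSt.Cat S) (𝒴' : AlgSt.Cat S)
    (h𝒳 : AlgSt.IsAlgStack Scheme.fppfPrecoverage 𝒳)
    (h𝒴 : AlgSt.IsAlgStack Scheme.fppfPrecoverage 𝒴)
    (h𝒴' : AlgSt.IsAlgStack Scheme.fppfPrecoverage 𝒴')
    (f : 𝒳 ⥤ᵇ 𝒴) (g : 𝒴' ⥤ᵇ 𝒴) :
    AlgSt.LocQ P f → AlgSt.LocQ P (FibCat.fpFst g f) := fun hf =>
  Groth.Agent.AlgStLib.locQ_fpFst hP hPb h𝒳 h𝒴 h𝒴' g hf
end Groth.Agent.S13039
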