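import Groth.Statements.S13041
import Mathlib

set_option autoImplicit false
universe u
open MaxMod

namespace Groth.Agent.S13041

/-- Let R be a domain with fraction field K, let A → B be a homomorphism of commutative R-algebras that
are flat over R, with B module-finite over A, such that the induced map K ⊗_R A → K ⊗_R B is
bijective. If the A-linear map Hom_A(B, A) → A evaluating at 1 is surjective, then A → B is
bijective. (The published statement concerns a finite morphism of flat schemes over a discrete
valuation ring, with locally free relative dualizing sheaves, that is an isomorphism over a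
schematically dense open and whose trace map on dualizing sheaves is surjective; this row is the
statement about rings to which the printed proof reduces it and which that proof establishes, and
the argument uses only that R is a domain.) -/
theorem result
    (R K A B : Type u) [CommRing R] [IsDomain R] [Field K] [Algebra R K] [IsFractionRing R K]
    [CommRing A] [CommRing B] [Algebra R A] [Algebra R B] [Algebra A B] [IsScalarTower R A B]
    [Module.Flat R A] [Module.Flat R B] [Module.Finite A B]
    (hK : Function.Bijective
      (Algebra.TensorProduct.map (AlgHom.id R K) (IsScalarTower.toAlgHom R A B)))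
    (htr : Function.Surjective (fun u : B →ₗ[A] A => u 1)) :
    Function.Bijective (algebraMap A B) := by
  open scoped TensorProduct in
  have hRK : Function.Injective (algebraMap R K) := IsFractionRing.injective R K
  have hinjA : Function.Injective (fun a : A => (1 : K) ⊗ₜ[R] a) :=
    Algebra.TensorProduct.includeRight_injective hRK
  have hinjB : Function.Injective (fun b : B => (1 : K) ⊗ₜ[R] b) :=
    Algebra.TensorProduct.includeRight_injective hRK
  obtain ⟨u, hu⟩ := htr 1
  simp only at hu
  have hua : ∀ a : A, u (algebraMap A B a) = a := fun a => by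
    rw [Algebra.algebraMap_eq_smul_one, map_smul, hu, smul_eq_mul, mul_one]
  refine ⟨Function.LeftInverse.injective (g := u) hua, fun b => ⟨u b, ?_⟩⟩
  obtain ⟨z, hz⟩ := hK.2 ((1 : K) ⊗ₜ[R] b)
  obtain ⟨r, hr, a, ha⟩ : ∃ r : R, r ≠ 0 ∧ ∃ a : A, r • z = (1 : K) ⊗ₜ[R] a := by
    clear hz
    induction z using TensorProduct.induction_on with
    | zero => exact ⟨1, one_ne_zero, 0, by simp⟩
    | tmul c a =>
      obtain ⟨⟨n, d⟩, hnd⟩ := IsLocalization.surj (nonZeroDivisors R) c
      refine ⟨d, nonZeroDivisors.coe_ne_zero d, n • a, ?_⟩
      rw [TensorProduct.smul_tmul', TensorProduct.tmul_smul, TensorProduct.smul_tmul', Algebra.smul_def,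
        Algebra.smul_def, mul_one, mul_comm, hnd]
    | add x y hx hy =>
      obtain ⟨r, hr, a, ha⟩ := hx
      obtain ⟨s, hs, b, hb⟩ := hy
      refine ⟨r * s, mul_ne_zero hr hs, s • a + r • b, ?_⟩
      rw [smul_add, TensorProduct.tmul_add, TensorProduct.tmul_smul, TensorProduct.tmul_smul, ← ha, ← hb,
        smul_smul, smul_smul, mul_comm s r]
  have hrb : r • b = algebraMap A B a := by
    refine hinjB ?_
    show (1 : K) ⊗ₜ[R] (r • b) = (1 : K) ⊗ₜ[R] _
    have h2 := congrArg (Algebra.TensorProduct.map (AlgHom.id R K) (IsScalarTower.toAlgHom R A B)) ha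
    rw [map_smul, hz] at h2
    rw [TensorProduct.tmul_smul, h2]
    simp
  have h0 : (1 : K) ⊗ₜ[R] (r • (algebraMap A B (u b) - b)) = (1 : K) ⊗ₜ[R] (0 : B) := by
    congr 1
    have h3 : u (r • b) = r • u b := u.map_smul_of_tower r b
    rw [hrb, hua] at h3
    rw [smul_sub, hrb, h3, show algebraMap A B (r • u b) = r • algebraMap A B (u b) from (IsScalarTower.toAlgHom R A B).toLinearMap.map_smul r (u b)]
    exact sub_self _
  rw [TensorProduct.tmul_smul, TensorProduct.tmul_zero] at h0
  have h4 : (1 : K) ⊗ₜ[R] (algebraMap A B (u b) - b) = (1 : K) ⊗ₜ[R] (0 : B) := by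
    rw [TensorProduct.tmul_zero]
    rw [← algebraMap_smul K r, smul_eq_zero] at h0
    exact h0.resolve_left (fun h => hr (hRK (by rw [h, map_zero])))
  exact sub_eq_zero.mp (hinjB h4)

end Groth.Agent.S13041
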