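import Groth.Statements.S13042
import Mathlib

set_option autoImplicit false
universe u
open MaxMod

namespace Groth.Agent.S13042

open MvPolynomial in
/-- Let p be a prime, R a local ring of characteristic p, λ an element of the maximal ideal of R and f ∈
R. Then there is an isomorphism of R-algebras R[W₁, W₂]/(W₁^p − f, W₂^p − f) ≅ R[x, W]/(x^p, W^p −
f) with W₁ ↦ x + W + λ·x·W and W₂ ↦ W; that is, Spec R[W]/(W^p − f) with the action w ↦ x + w + λxw
is a torsor under the group scheme Spec R[x]/(x^p) with law x₁ ∘ x₂ = x₁ + x₂ + λx₁x₂. (The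
published statement is over a complete discrete valuation ring of characteristic p with λ a nonzero
nonunit, and also asserts that for f in the fraction field with negative valuation v(f) > −p·v(λ)
the torsor W^p = f extends to a torsor over R, using the coordinate 1/W; that second case fails: for
p = 2, λ = π a uniformizer and f = 1/π, every model is Spec R[π^a t] with t² = π, and none of these
is a torsor since the coaction sends t to t − π(1 + t)x. Only the case f ∈ R is stated, and the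
argument there uses only that R is local of characteristic p.) -/
theorem result
    (p : ℕ) [Fact p.Prime] (R : Type u) [CommRing R] [IsLocalRing R] [CharP R p]
    (lam f : R) (hlam : lam ∈ IsLocalRing.maximalIdeal R) :
    ∃ e : (MvPolynomial (Fin 2) R ⧸ Ideal.span {(X 0 ^ p - C f : MvPolynomial (Fin 2) R), X 1 ^ p - C f}) ≃ₐ[R]
        (MvPolynomial (Fin 2) R ⧸ Ideal.span {(X 0 ^ p : MvPolynomial (Fin 2) R), X 1 ^ p - C f}),
      e (Ideal.Quotient.mk _ (X 0)) = Ideal.Quotient.mk _ (X 0 + X 1 + C lam * X 0 * X 1) ∧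
      e (Ideal.Quotient.mk _ (X 1)) = Ideal.Quotient.mk _ (X 1) := by
  classical
  let S := MvPolynomial (Fin 2) R
  let I : Ideal S := Ideal.span {(X 0 ^ p - C f : S), X 1 ^ p - C f}
  let J : Ideal S := Ideal.span {(X 0 ^ p : S), X 1 ^ p - C f}
  have : Fact p.Prime := inferInstance
  have hp : p ≠ 0 := (Fact.out : p.Prime).ne_zero
  -- target identities
  have t0 : (Ideal.Quotient.mk J (X 0)) ^ p = 0 := by
    rw [← map_pow, Ideal.Quotient.eq_zero_iff_mem]; exact Ideal.subset_span (Set.mem_insert _ _)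
  have t1 : (Ideal.Quotient.mk J (X 1)) ^ p = Ideal.Quotient.mk J (C f) := by
    rw [← map_pow, Ideal.Quotient.eq]; exact Ideal.subset_span (Set.mem_insert_of_mem _ rfl)
  have s0 : (Ideal.Quotient.mk I (X 0)) ^ p = Ideal.Quotient.mk I (C f) := by
    rw [← map_pow, Ideal.Quotient.eq]; exact Ideal.subset_span (Set.mem_insert _ _)
  have s1 : (Ideal.Quotient.mk I (X 1)) ^ p = Ideal.Quotient.mk I (C f) := by
    rw [← map_pow, Ideal.Quotient.eq]; exact Ideal.subset_span (Set.mem_insert_of_mem _ rfl)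
  have hchar : ∀ (K : Ideal S) (a b : S ⧸ K), (a + b) ^ p = a ^ p + b ^ p := by
    intro K a b
    have hp0 : (p : S ⧸ K) = 0 := by
      rw [← map_natCast (algebraMap R (S ⧸ K)), CharP.cast_eq_zero R p, map_zero]
    obtain ⟨r, hr⟩ := exists_add_pow_prime_eq (Fact.out : p.Prime) a b
    rw [hr, hp0]
    simp
  obtain ⟨u, hu⟩ : IsUnit (1 + lam ^ p * f) := by
    by_contra hu
    have hm : lam ^ p * f ∈ IsLocalRing.maximalIdeal R := Ideal.mul_mem_right _ _ (Ideal.pow_mem_of_mem _ hlam p (Nat.pos_of_ne_zero hp))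
    have : (1 + lam ^ p * f) ∈ IsLocalRing.maximalIdeal R := hu
    exact (IsLocalRing.maximalIdeal.isMaximal R).ne_top ((Ideal.eq_top_iff_one _).mpr (by simpa using Ideal.sub_mem _ this hm))
  let q : S →ₐ[R] S ⧸ J := MvPolynomial.aeval ![Ideal.Quotient.mk J (X 0 + X 1 + C lam * X 0 * X 1), Ideal.Quotient.mk J (X 1)]
  let w : S ⧸ I := (Ideal.Quotient.mk I (C ((↑u⁻¹ : Rˣ) : R))) * (1 + Ideal.Quotient.mk I (C lam) * Ideal.Quotient.mk I (X 1)) ^ (p - 1)
  have hw : (1 + Ideal.Quotient.mk I (C lam) * Ideal.Quotient.mk I (X 1)) * w = 1 := by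
    simp only [w]
    rw [mul_left_comm, ← pow_succ', Nat.sub_add_cancel (Nat.pos_of_ne_zero hp), hchar, one_pow, mul_pow, s1,
      ← map_pow, ← map_mul, ← map_one (Ideal.Quotient.mk I), ← map_add, ← map_mul, ← map_pow, ← C_1, ← map_mul,
      ← map_add, ← map_mul, ← hu, Units.inv_mul]
  let q' : S →ₐ[R] S ⧸ I := MvPolynomial.aeval ![(Ideal.Quotient.mk I (X 0) - Ideal.Quotient.mk I (X 1)) * w, Ideal.Quotient.mk I (X 1)]
  have hq : ∀ a ∈ I, q a = 0 := by
    intro a ha
    refine (Ideal.span_le.mpr ?_ : I ≤ RingHom.ker q) ha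
    have hC : q (C f) = Ideal.Quotient.mk J (C f) := q.commutes f
    have h1 : q (X 1) = Ideal.Quotient.mk J (X 1) := MvPolynomial.aeval_X _ _
    have h0 : q (X 0) = Ideal.Quotient.mk J (X 0) + Ideal.Quotient.mk J (X 1) +
        Ideal.Quotient.mk J (C lam) * Ideal.Quotient.mk J (X 0) * Ideal.Quotient.mk J (X 1) := by
      rw [show q (X 0) = Ideal.Quotient.mk J (X 0 + X 1 + C lam * X 0 * X 1) from MvPolynomial.aeval_X _ _]
      simp only [map_add, map_mul]
    rintro b (rfl | rfl) <;> rw [SetLike.mem_coe, RingHom.mem_ker, map_sub, map_pow, hC]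
    · rw [h0, hchar, hchar, mul_pow, mul_pow, t0, t1]
      ring
    · rw [h1, t1, sub_self]
  have hq' : ∀ a ∈ J, q' a = 0 := by
    intro a ha
    refine (Ideal.span_le.mpr ?_ : J ≤ RingHom.ker q') ha
    have hC : q' (C f) = Ideal.Quotient.mk I (C f) := q'.commutes f
    have h1 : q' (X 1) = Ideal.Quotient.mk I (X 1) := MvPolynomial.aeval_X _ _
    have h0 : q' (X 0) = (Ideal.Quotient.mk I (X 0) - Ideal.Quotient.mk I (X 1)) * w := MvPolynomial.aeval_X _ _
    rintro b (rfl | rfl)
    · rw [SetLike.mem_coe, RingHom.mem_ker, map_pow, h0, mul_pow]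
      have h2 := hchar I (Ideal.Quotient.mk I (X 0) - Ideal.Quotient.mk I (X 1)) (Ideal.Quotient.mk I (X 1))
      rw [sub_add_cancel, s0, s1] at h2
      linear_combination (-(w ^ p)) * h2
    · rw [SetLike.mem_coe, RingHom.mem_ker, map_sub, map_pow, hC, h1, s1, sub_self]
  let e1 : (S ⧸ I) →ₐ[R] S ⧸ J := Ideal.Quotient.liftₐ I q hq
  let e2 : (S ⧸ J) →ₐ[R] S ⧸ I := Ideal.Quotient.liftₐ J q' hq'
  have a0 : e1 (Ideal.Quotient.mk I (X 0)) = Ideal.Quotient.mk J (X 0 + X 1 + C lam * X 0 * X 1) := MvPolynomial.aeval_X _ _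
  have a1 : e1 (Ideal.Quotient.mk I (X 1)) = Ideal.Quotient.mk J (X 1) := MvPolynomial.aeval_X _ _
  have b0 : e2 (Ideal.Quotient.mk J (X 0)) = (Ideal.Quotient.mk I (X 0) - Ideal.Quotient.mk I (X 1)) * w := MvPolynomial.aeval_X _ _
  have b1 : e2 (Ideal.Quotient.mk J (X 1)) = Ideal.Quotient.mk I (X 1) := MvPolynomial.aeval_X _ _
  have cC : e1 (Ideal.Quotient.mk I (C lam)) = Ideal.Quotient.mk J (C lam) := e1.commutes lam
  have dC : e2 (Ideal.Quotient.mk J (C lam)) = Ideal.Quotient.mk I (C lam) := e2.commutes lam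
  have hinv : e2.comp e1 = AlgHom.id R _ := by
    refine Ideal.Quotient.algHom_ext R (MvPolynomial.algHom_ext fun i => ?_)
    fin_cases i
    · show e2 (e1 (Ideal.Quotient.mk I (X 0))) = Ideal.Quotient.mk I (X 0)
      rw [a0]
      simp only [map_add, map_mul, b0, b1, dC]
      linear_combination (Ideal.Quotient.mk I (X 0) - Ideal.Quotient.mk I (X 1)) * hw
    · show e2 (e1 (Ideal.Quotient.mk I (X 1))) = Ideal.Quotient.mk I (X 1)
      rw [a1, b1]
  have hinv' : e1.comp e2 = AlgHom.id R _ := by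
    refine Ideal.Quotient.algHom_ext R (MvPolynomial.algHom_ext fun i => ?_)
    fin_cases i
    · show e1 (e2 (Ideal.Quotient.mk J (X 0))) = Ideal.Quotient.mk J (X 0)
      have h3 := congrArg e1 hw
      simp only [map_mul, map_add, map_one, cC, a1] at h3
      rw [b0, map_mul, map_sub, a0, a1]
      simp only [map_add, map_mul]
      linear_combination (Ideal.Quotient.mk J (X 0)) * h3
    · show e1 (e2 (Ideal.Quotient.mk J (X 1))) = Ideal.Quotient.mk J (X 1)
      rw [b1, a1]
  exact ⟨AlgEquiv.ofAlgHom e1 e2 hinv' hinv, a0, a1⟩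

end Groth.Agent.S13042
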