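import Groth.Agent.S5161
import Mathlib
import Groth.Statements.S13043
-- import your own Groth.Agent.* helpers here

set_option autoImplicit false
universe u
open CoPerf

namespace Groth.Agent.S13043

open AlgebraicGeometry TopologicalSpace

variable {S : Scheme.{u}}

/-- A point without proper generizations lies in every dense open. -/
lemma mem_of_maximal [IsNoetherian S] (U : S.Opens) (hU : Dense (U : Set S)) (y : S)
    (hy : ∀ z : S, z ⤳ y → z = y) : y ∈ U := by
  by_contra hyU
  have hZ : irreducibleComponent y ∈ irreducibleComponents S := irreducibleComponent_mem_irreducibleComponents y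
  have hg : IsGenericPoint y (irreducibleComponent y) := by
    have h1 := (isIrreducible_irreducibleComponent (x := y)).isGenericPoint_genericPoint
      isClosed_irreducibleComponent
    have h2 := hy _ (h1.specializes mem_irreducibleComponent)
    rw [h2] at h1; exact h1
  obtain ⟨O, hO, hne, hOZ⟩ :=
    NoetherianSpace.exists_isOpen_nonempty_subset_irreducibleComponent (irreducibleComponent y) hZ
  obtain ⟨r, hrO, hrU⟩ := hU.inter_open_nonempty O hO hne
  exact hyU ((hg.specializes (hOZ hrO)).mem_open U.isOpen hrU)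

/-- A minimal point outside an affine inclusion is maximal outside any dense open inside it. -/
lemma exists_maximal_notMem [IsNoetherian S] [S.IsSeparated] (U : S.Opens) (hU : Dense (U : Set S))
    (V : S.Opens) (hUV : U ≤ V) (hV : IsAffineHom V.ι) (x : S) (hx : x ∉ V) :
    ∃ z : S, z ⤳ x ∧ z ∉ V ∧ z ∉ U ∧ ∀ y : S, y ⤳ z → y ∉ U → y = z := by
  obtain ⟨_, ⟨W, hW, rfl⟩, hxW, -⟩ :=
    S.isBasis_affineOpens.exists_subset_of_mem_open (Set.mem_univ x) isOpen_univ
  replace hW : IsAffineOpen W := hW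
  obtain ⟨a, rfl⟩ : x ∈ Set.range hW.fromSpec := by rw [hW.range_fromSpec]; exact hxW
  set V' := hW.fromSpec ⁻¹ᵁ V with hV'def
  have hV' : IsAffineOpen V' := by
    rw [← hW.fromSpec.isAffineOpen_iff_of_isOpenImmersion, hW.fromSpec.image_preimage_eq_opensRange_inf,
      hW.opensRange_fromSpec, inf_comm, ← V.opensRange_ι, ← V.ι.image_preimage_eq_opensRange_inf,
      Scheme.Hom.isAffineOpen_iff_of_isOpenImmersion]
    exact hV.isAffine_preimage W hW
  obtain ⟨I, hI⟩ := (PrimeSpectrum.isClosed_iff_zeroLocus_ideal _).1 V'.isOpen.isClosed_compl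
  have hmem : ∀ q : PrimeSpectrum Γ(S, W), hW.fromSpec q ∉ V ↔ I ≤ q.asIdeal := fun q => by
    show q ∈ (V' : Set (Spec Γ(S, W)))ᶜ ↔ _
    rw [hI]
    exact PrimeSpectrum.mem_zeroLocus _ _
  have haI : I ≤ a.asIdeal := (hmem a).1 hx
  haveI := a.2
  obtain ⟨p, hp, hpa⟩ := Ideal.exists_minimalPrimes_le haI
  let P : PrimeSpectrum Γ(S, W) := ⟨p, hp.1.1⟩
  haveI := hp.1.1
  have hspec : ∀ q r : PrimeSpectrum Γ(S, W), hW.fromSpec q ⤳ hW.fromSpec r ↔ q.asIdeal ≤ r.asIdeal := fun q r => by
    exact (hW.fromSpec.isOpenEmbedding.isInducing.specializes_iff (x := q) (y := r)).trans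
      (PrimeSpectrum.le_iff_specializes q r).symm
  have hgen : ∀ (q : PrimeSpectrum Γ(S, W)) (y : S), y ⤳ hW.fromSpec q → ∃ r, hW.fromSpec r = y := fun q y hy => by
    have h1 : hW.fromSpec q ∈ Set.range hW.fromSpec := Set.mem_range_self q
    rw [hW.range_fromSpec] at h1
    have h2 : y ∈ (W : Set S) := hy.mem_open W.isOpen h1
    rwa [← hW.range_fromSpec] at h2
  have hPV : hW.fromSpec P ∉ V := (hmem P).2 hp.1.2
  haveI : IsNoetherianRing Γ(S, W) := IsLocallyNoetherian.component_noetherian ⟨W, hW⟩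
  have hht : p.height ≤ 1 := S5161.result Γ(S, W) V' hV' P hPV fun q hqp hq =>
    PrimeSpectrum.ext (le_antisymm hqp (hp.2 ⟨q.2, (hmem q).1 hq⟩ hqp))
  refine ⟨hW.fromSpec P, (hspec P a).2 hpa, hPV, fun h => hPV (hUV h), fun y hy hyU => ?_⟩
  obtain ⟨q, rfl⟩ := hgen P y hy
  by_contra hne
  haveI := q.2
  have hqp : q.asIdeal < p := lt_of_le_of_ne ((hspec q P).1 hy) fun e => hne (congrArg _ (PrimeSpectrum.ext e))
  refine hyU (mem_of_maximal U hU _ fun z hz => ?_)
  obtain ⟨r, rfl⟩ := hgen q z hz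
  by_contra hne'
  haveI := r.2
  have hrq : r.asIdeal < q.asIdeal :=
    lt_of_le_of_ne ((hspec r q).1 hz) fun e => hne' (congrArg _ (PrimeSpectrum.ext e))
  have h1 := Ideal.height_add_one_le_of_lt_of_isPrime hrq
  have h2 := Ideal.height_add_one_le_of_lt_of_isPrime hqp
  have h3 : (1 : ℕ∞) + 1 ≤ 1 :=
    (add_le_add (le_trans le_add_self h1) le_rfl).trans (h2.trans hht)
  exact absurd h3 (by decide)

/-- Affine inclusions are stable under intersection. -/
lemma isAffineHom_inf [S.IsSeparated] {V₁ V₂ : S.Opens} (h₁ : IsAffineHom V₁.ι) (h₂ : IsAffineHom V₂.ι) :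
    IsAffineHom (V₁ ⊓ V₂).ι := by
  have key : ∀ (V : S.Opens), IsAffineHom V.ι → ∀ W : S.Opens, IsAffineOpen W → IsAffineOpen (V ⊓ W) :=
    fun V hV W hW => by
      rw [← V.opensRange_ι, ← V.ι.image_preimage_eq_opensRange_inf, Scheme.Hom.isAffineOpen_iff_of_isOpenImmersion]
      exact hV.isAffine_preimage W hW
  refine ⟨fun W hW => ?_⟩
  rw [← Scheme.Hom.isAffineOpen_iff_of_isOpenImmersion (V₁ ⊓ V₂).ι,
    (V₁ ⊓ V₂).ι.image_preimage_eq_opensRange_inf, Scheme.Opens.opensRange_ι, inf_assoc]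
  exact key V₁ h₁ _ (key V₂ h₂ W hW)

open AlgebraicGeometry in
/-- For a Noetherian scheme S that is separated, and a dense open subset U ⊆ S that is not empty, only
finitely many open subsets V ⊇ U have an affine inclusion morphism V → S, and among them there is
one contained in all the others (a least element for inclusion). -/
theorem result
    (S : Scheme.{u}) [IsNoetherian S] [S.IsSeparated] (U : S.Opens)
    (hne : (U : Set S).Nonempty) (hU : Dense (U : Set S)) :
    Set.Finite {V : S.Opens | U ≤ V ∧ IsAffineHom V.ι} ∧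
      ∃ V₀ : S.Opens, (U ≤ V₀ ∧ IsAffineHom V₀.ι) ∧
        ∀ V : S.Opens, U ≤ V → IsAffineHom V.ι → V₀ ≤ V := by
  classical
  let M : Set S := {z : S | z ∉ U ∧ ∀ y : S, y ⤳ z → y ∉ U → y = z}
  have hM : M.Finite := by
    let T := {z : S // z ∉ U}
    have hcl : Topology.IsClosedEmbedding (Subtype.val : T → S) :=
      U.isOpen.isClosed_compl.isClosedEmbedding_subtypeVal
    haveI : QuasiSober T := hcl.quasiSober
    haveI : NoetherianSpace T := hcl.isEmbedding.isInducing.noetherianSpace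
    let gp : irreducibleComponents T → S := fun Z => Subtype.val Z.2.1.genericPoint
    haveI : Finite (irreducibleComponents T) := NoetherianSpace.finite_irreducibleComponents.to_subtype
    refine (Set.finite_range gp).subset fun z hz => ?_
    let t : T := ⟨z, hz.1⟩
    refine ⟨⟨_, irreducibleComponent_mem_irreducibleComponents t⟩, ?_⟩
    have h1 := (isIrreducible_irreducibleComponent (x := t)).isGenericPoint_genericPoint
      isClosed_irreducibleComponent
    exact hz.2 _ ((h1.specializes mem_irreducibleComponent).map continuous_subtype_val)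
      (irreducibleComponent_mem_irreducibleComponents t).1.genericPoint.2
  have key : ∀ V₁ : S.Opens, U ≤ V₁ → IsAffineHom V₁.ι → ∀ V₂ : S.Opens,
      {z ∈ M | z ∉ V₁} ⊆ {z ∈ M | z ∉ V₂} → V₂ ≤ V₁ := by
    intro V₁ h1 h1' V₂ hsub x hx
    by_contra hx1
    obtain ⟨z, hzx, hz1, hzU, hzmax⟩ := exists_maximal_notMem U hU V₁ h1 h1' x hx1
    exact (hsub ⟨⟨hzU, hzmax⟩, hz1⟩).2 (hzx.mem_open V₂.isOpen hx)
  have hfin : Set.Finite {V : S.Opens | U ≤ V ∧ IsAffineHom V.ι} := by
    refine Set.Finite.of_finite_image (f := fun V : S.Opens => {z ∈ M | z ∉ V})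
      (hM.finite_subsets.subset ?_) fun V₁ h1 V₂ h2 e => le_antisymm (key V₂ h2.1 h2.2 V₁ e.symm.subset) (key V₁ h1.1 h1.2 V₂ e.subset)
    rintro _ ⟨V, -, rfl⟩
    exact fun z hz => hz.1
  refine ⟨hfin, hfin.toFinset.inf id, ?_, fun V h1 h2 => Finset.inf_le (hfin.mem_toFinset.2 ⟨h1, h2⟩)⟩
  refine Finset.inf_induction (p := fun V : S.Opens => U ≤ V ∧ IsAffineHom V.ι) ⟨le_top, ⟨fun W hW => hW.preimage_of_isOpenImmersion _ (by simp)⟩⟩
    (fun a ha b hb => ⟨le_inf ha.1 hb.1, isAffineHom_inf ha.2 hb.2⟩) fun V hV => hfin.mem_toFinset.1 hV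

end Groth.Agent.S13043
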