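import Groth.Statements.S13044
import Mathlib

set_option autoImplicit false
universe u
open MaxMod

namespace Groth.Agent.S13044

open CategoryTheory Limits AlgebraicGeometry in
/-- Let R be a discrete valuation ring with fraction field K, let Y be a flat separated R-scheme and let
Γ → Y ×_R Y be a closed subscheme, with projections p₁, p₂ : Γ → Y, such that Γ is flat over R
(equivalently, Γ is the schematic closure of its generic fibre) and p₁, p₂ are flat. If for every
scheme T over Spec K the relation on the T-valued points of Y defined by the T-valued points of Γ is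
an equivalence relation, then for every scheme T over Spec R that relation is an equivalence
relation: Γ is a flat equivalence relation on Y. -/
theorem result
    (R K : Type u) [CommRing R] [IsDomain R] [IsDiscreteValuationRing R]
    [Field K] [Algebra R K] [IsFractionRing R K]
    (Y Γ : Scheme.{u}) (f : Y ⟶ Spec (CommRingCat.of R)) [IsSeparated f] [Flat f]
    (p₁ p₂ : Γ ⟶ Y) (h : p₁ ≫ f = p₂ ≫ f)
    (hΓ : IsClosedImmersion (pullback.lift p₁ p₂ h))
    [Flat (p₁ ≫ f)] [Flat p₁] [Flat p₂]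
    (hK : ∀ (T : Scheme.{u}) (t : T ⟶ Spec (CommRingCat.of R)),
      (∃ s : T ⟶ Spec (CommRingCat.of K), t = s ≫ Spec.map (CommRingCat.ofHom (algebraMap R K))) →
      _root_.Equivalence fun a b : {a : T ⟶ Y // a ≫ f = t} =>
        ∃ c : T ⟶ Γ, c ≫ p₁ = a.1 ∧ c ≫ p₂ = b.1) :
    ∀ (T : Scheme.{u}) (t : T ⟶ Spec (CommRingCat.of R)),
      _root_.Equivalence fun a b : {a : T ⟶ Y // a ≫ f = t} =>
        ∃ c : T ⟶ Γ, c ≫ p₁ = a.1 ∧ c ≫ p₂ = b.1 := by
  have hdom : IsSchemeTheoreticallyDominant (Spec.map (CommRingCat.ofHom (algebraMap R K))) := by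
    have : IsReduced (Spec (CommRingCat.of R)) := inferInstance
    have : IsDominant (Spec.map (CommRingCat.ofHom (algebraMap R K))) :=
      ⟨(PrimeSpectrum.denseRange_comap_iff_ker_le_nilRadical _).2 (by
        show RingHom.ker (algebraMap R K) ≤ _
        rw [(RingHom.injective_iff_ker_eq_bot _).1 (IsFractionRing.injective R K)]
        exact bot_le)⟩
    exact IsSchemeTheoreticallyDominant.of_isDominant _
  let j := pullback.lift p₁ p₂ h
  have key : ∀ (B : Scheme.{u}) (t : B ⟶ Spec (CommRingCat.of R)) (_ : Flat t)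
      (a b : B ⟶ Y) (ha : a ≫ f = t) (hb : b ≫ f = t),
      (∀ (T : Scheme.{u}) (w : T ⟶ B),
        (∃ s : T ⟶ Spec (CommRingCat.of K), w ≫ t = s ≫ Spec.map (CommRingCat.ofHom (algebraMap R K))) →
        ∃ c : T ⟶ Γ, c ≫ p₁ = w ≫ a ∧ c ≫ p₂ = w ≫ b) →
      ∃ c : B ⟶ Γ, c ≫ p₁ = a ∧ c ≫ p₂ = b := by
    intro B t _ a b ha hb hgen
    let w := pullback.fst t (Spec.map (CommRingCat.ofHom (algebraMap R K)))
    obtain ⟨c, hc₁, hc₂⟩ := hgen _ w ⟨_, pullback.condition⟩
    let g := pullback.lift a b (ha.trans hb.symm)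
    have j1 : j ≫ pullback.fst f f = p₁ := pullback.lift_fst _ _ _
    have j2 : j ≫ pullback.snd f f = p₂ := pullback.lift_snd _ _ _
    have g1 : g ≫ pullback.fst f f = a := pullback.lift_fst _ _ _
    have g2 : g ≫ pullback.snd f f = b := pullback.lift_snd _ _ _
    have hg : c ≫ j = w ≫ g := by
      apply pullback.hom_ext
      · rw [Category.assoc, j1, hc₁, Category.assoc, g1]
      · rw [Category.assoc, j2, hc₂, Category.assoc, g2]
    have hle : (pullback.snd j g).ker ≤ ⊥ := by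
      rw [← w.ker_eq_bot]
      conv_rhs => rw [← pullback.lift_snd c w hg]
      exact Scheme.Hom.le_ker_comp _ _
    have := IsClosedImmersion.isIso_iff_ker_eq_bot.mpr (le_bot_iff.mp hle)
    refine ⟨inv (pullback.snd j g) ≫ pullback.fst j g, ?_, ?_⟩
    · rw [← j1, Category.assoc, pullback.condition_assoc, IsIso.inv_hom_id_assoc, g1]
    · rw [← j2, Category.assoc, pullback.condition_assoc, IsIso.inv_hom_id_assoc, g2]
  obtain ⟨r, hr₁, hr₂⟩ := key Y f inferInstance (𝟙 Y) (𝟙 Y) (Category.id_comp f) (Category.id_comp f)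
    (fun T w hw => by
      obtain ⟨c, h1, h2⟩ := (hK T (w ≫ f) hw).refl ⟨w, rfl⟩
      exact ⟨c, by simpa using h1, by simpa using h2⟩)
  obtain ⟨s, hs₁, hs₂⟩ := key Γ (p₁ ≫ f) inferInstance p₂ p₁ h.symm rfl
    (fun T w hw => (hK T (w ≫ p₁ ≫ f) hw).symm (x := ⟨w ≫ p₁, Category.assoc _ _ _⟩)
      (y := ⟨w ≫ p₂, by rw [Category.assoc, ← h]⟩) ⟨w, rfl, rfl⟩)
  let e₁ := pullback.fst p₂ p₁
  let e₂ := pullback.snd p₂ p₁
  have he : e₂ ≫ p₂ ≫ f = e₁ ≫ p₁ ≫ f := by
    rw [← h]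
    exact ((congrArg (e₁ ≫ ·) h).trans (pullback.condition_assoc (f := p₂) (g := p₁) f)).symm
  obtain ⟨m, hm₁, hm₂⟩ := key _ (e₁ ≫ p₁ ≫ f) inferInstance (e₁ ≫ p₁) (e₂ ≫ p₂)
    (Category.assoc _ _ _) ((Category.assoc _ _ _).trans he)
    (fun T w hw => (hK T (w ≫ e₁ ≫ p₁ ≫ f) hw).trans
      (x := ⟨w ≫ e₁ ≫ p₁, by simp only [Category.assoc]⟩)
      (y := ⟨w ≫ e₁ ≫ p₂, by simp only [Category.assoc, h]⟩)
      (z := ⟨w ≫ e₂ ≫ p₂, by simp only [Category.assoc]; rw [he]⟩)
      ⟨w ≫ e₁, Category.assoc _ _ _, Category.assoc _ _ _⟩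
      ⟨w ≫ e₂, by simp only [Category.assoc, e₁, e₂, pullback.condition], Category.assoc _ _ _⟩)
  intro T t
  refine ⟨fun a => ⟨a.1 ≫ r, ?_, ?_⟩, ?_, ?_⟩
  · rw [Category.assoc, hr₁, Category.comp_id]
  · rw [Category.assoc, hr₂, Category.comp_id]
  · rintro a b ⟨c, h1, h2⟩
    exact ⟨c ≫ s, by rw [Category.assoc, hs₁, h2], by rw [Category.assoc, hs₂, h1]⟩
  · rintro a b d ⟨c, h1, h2⟩ ⟨c', h1', h2'⟩
    refine ⟨pullback.lift c c' (h2.trans h1'.symm) ≫ m, ?_, ?_⟩
    · rw [Category.assoc, hm₁, pullback.lift_fst_assoc, h1]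
    · rw [Category.assoc, hm₂, pullback.lift_snd_assoc, h2']

end Groth.Agent.S13044
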