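import Groth.Statements.S13047
import Groth.Agent.H26.PerfSq

set_option autoImplicit false
universe u
open FrobAlg

namespace Groth.Agent.S13047

open Polynomial in
/-- Let p be an odd prime, R a commutative ring of characteristic p and u, v ∈ R with uv = 0, such that
for every N ≥ 1 an element of R lying in (v^n) + (u^N) for all n lies in (u^N) (v-adic separatedness
of R/(u^N)). Let B = R[α]/(uα, α² − v²), an R-algebra of characteristic p, with Frobenius twists
B^{p^i/R} = R ⊗_{F^i,R} B and preperfection B^{p^∞/R} = lim_i B^{p^i/R} along the relative Frobenius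
maps. Then the structure map R → B^{p^∞/R} is bijective: the preperfection of B is R. (The published
statement is for R = F_p[[u, v]]/(uv), where B arises as the preperfection of R[x, y, 1/(x − y)]/(xy
− u), so that the second preperfection of that algebra is R although the first is not perfect; the
printed computation uses only the hypotheses listed here, which that R satisfies.) -/
theorem result
    (p : ℕ) [Fact p.Prime] (hp : p ≠ 2) (R : Type u) [CommRing R] [CharP R p]
    (u v : R) (huv : u * v = 0)
    (hsep : ∀ N : ℕ, 1 ≤ N → ∀ g : R,
      (∀ n : ℕ, g ∈ Ideal.span {v ^ n} ⊔ Ideal.span {u ^ N}) → g ∈ Ideal.span {u ^ N})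
    [CharP (R[X] ⧸ Ideal.span {(C u * X : R[X]), X ^ 2 - C (v ^ 2)}) p] :
    Function.Bijective
      (algebraMap R ↥(W4c1imperftorsors.prePerf p R
        (R[X] ⧸ Ideal.span {(C u * X : R[X]), X ^ 2 - C (v ^ 2)}))) := by
  exact Groth.Agent.H26.PerfSq.main u v hp huv hsep

end Groth.Agent.S13047
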