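import Groth.Statements.S13048
import Mathlib.Algebra.CharP.Algebra
import Mathlib.RingTheory.Jacobson.Ring
import Mathlib.RingTheory.Filtration
import Mathlib.RingTheory.Nullstellensatz
import Mathlib.FieldTheory.Perfect
import Mathlib.RingTheory.Noetherian.Orzech
-- import your own Groth.Agent.* helpers here

set_option autoImplicit false
universe u
open FrobAlg

namespace Groth.Agent.S13048

/-- Let k be an algebraically closed field of characteristic p > 0 and let A be a reduced finitely
generated commutative k-algebra with connected spectrum (A ≠ 0 and 0, 1 are its only idempotents).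
If x ∈ A is a p^n-th power in A for every n ≥ 0, then x lies in the image of k; that is, ⋂_n A^{p^n}
= k. (The published statement is: for an artinian local ring R of characteristic p and a flat
R-algebra A of finite type, the maps A^ét → O(π₀(A)) → A^{p^∞/R} from the largest étale subalgebra
to the preperfection are isomorphisms. This row is the case R = k algebraically closed and A reduced
with connected spectrum, where A^ét = k and the preperfection is ⋂_n A^{p^n}; the printed proof
reduces to this case and its last step proves it.) -/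
theorem result
    (p : ℕ) [Fact p.Prime] (k : Type u) [Field k] [IsAlgClosed k] [CharP k p]
    (A : Type u) [CommRing A] [Algebra k A] [Algebra.FiniteType k A] [IsReduced A] [Nontrivial A]
    (hconn : ∀ e : A, IsIdempotentElem e → e = 0 ∨ e = 1)
    (x : A) (hx : ∀ n : ℕ, ∃ a : A, a ^ p ^ n = x) :
    x ∈ (algebraMap k A).range := by
  haveI : IsNoetherianRing A := Algebra.FiniteType.isNoetherianRing k A
  haveI : CharP A p := charP_of_injective_algebraMap (algebraMap k A).injective p
  -- near a maximal ideal `x` is the constant given by its value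
  have hloc : ∀ m : Ideal A, m.IsMaximal → ∃ c : k, ∃ s ∉ m, s * (x - algebraMap k A c) = 0 := by
    intro m hm
    letI : Field (A ⧸ m) := Ideal.Quotient.field m
    haveI : Module.Finite k (A ⧸ m) := finite_of_finite_type_of_isJacobsonRing k (A ⧸ m)
    obtain ⟨c, hc⟩ := (IsAlgClosed.algebraMap_bijective_of_isIntegral (k := k) (K := A ⧸ m)).2
      (Ideal.Quotient.mk m x)
    refine ⟨c, ?_⟩
    have hxc : x - algebraMap k A c ∈ m := by
      rw [← Ideal.Quotient.eq_zero_iff_mem, map_sub, sub_eq_zero, ← hc]; rfl
    have hmem : ∀ n : ℕ, x - algebraMap k A c ∈ m ^ n := by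
      intro n
      obtain ⟨a, ha⟩ := hx n
      obtain ⟨d, hd⟩ : ∃ d : k, d ^ p ^ n = c := ⟨(iterateFrobeniusEquiv k p n).symm c,
        (iterateFrobeniusEquiv k p n).apply_symm_apply c⟩
      have e : x - algebraMap k A c = (a - algebraMap k A d) ^ p ^ n := by
        rw [sub_pow_char_pow, ha, ← map_pow, hd]
      rw [e] at hxc ⊢
      refine Ideal.pow_le_pow_right ?_ (Ideal.pow_mem_pow (hm.isPrime.mem_of_pow_mem _ hxc) (p ^ n))
      exact (Nat.lt_pow_self (Fact.out : p.Prime).one_lt).le
    obtain ⟨⟨r, hr⟩, hr'⟩ := (Ideal.mem_iInf_smul_pow_eq_bot_iff (I := m) (M := A) (x - algebraMap k A c)).1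
      (Submodule.mem_iInf _ |>.2 fun n => by rw [smul_eq_mul, Ideal.mul_top]; exact hmem n)
    refine ⟨1 - r, fun h => hm.ne_top ((Ideal.eq_top_iff_one m).2 (by simpa using add_mem h hr)), ?_⟩
    rw [smul_eq_mul] at hr'
    rw [sub_mul, one_mul, hr', sub_self]
  obtain ⟨m₀, hm₀⟩ := Ideal.exists_maximal A
  obtain ⟨c₀, s₀, hs₀, hs₀'⟩ := hloc m₀ hm₀
  set y := x - algebraMap k A c₀ with hy
  let J : Ideal A := (Submodule.span A {y}).annihilator
  have hJ : ∀ s, s ∈ J ↔ s * y = 0 := fun s => by
    rw [Submodule.mem_annihilator_span_singleton, smul_eq_mul]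
  have htop : J ⊔ Ideal.span {y} = ⊤ := by
    by_contra hne
    obtain ⟨m, hm, hle⟩ := Ideal.exists_le_maximal _ hne
    obtain ⟨c, s, hs, hs'⟩ := hloc m hm
    have hym : y ∈ m := hle (Ideal.mem_sup_right (Ideal.mem_span_singleton_self y))
    by_cases hcc : c = c₀
    · subst hcc
      exact hs (hle (Ideal.mem_sup_left ((hJ s).2 hs')))
    · have h1 : x - algebraMap k A c ∈ m :=
        (hm.isPrime.mem_or_mem (show s * (x - algebraMap k A c) ∈ m by rw [hs']; exact zero_mem _)).resolve_left hs
      have h2 : algebraMap k A (c - c₀) ∈ m := by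
        have := sub_mem hym h1
        simpa [hy, map_sub] using this
      exact hm.ne_top (Ideal.eq_top_of_isUnit_mem _ h2 ((sub_ne_zero.2 hcc).isUnit.map _))
  obtain ⟨e, he, r, hr, her⟩ := Submodule.mem_sup.1 ((Ideal.eq_top_iff_one _).1 htop)
  obtain ⟨r, rfl⟩ := Ideal.mem_span_singleton'.1 hr
  have hey := (hJ e).1 he
  have hid : IsIdempotentElem e := by
    change e * e = e
    linear_combination e * her - r * hey
  rcases hconn e hid with h0 | h1
  · exfalso
    rw [h0, zero_add] at her
    refine hs₀ ?_
    rw [show s₀ = r * (s₀ * y) by linear_combination -s₀ * her, hs₀', mul_zero]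
    exact zero_mem _
  · refine ⟨c₀, ?_⟩
    rw [h1, one_mul, hy, sub_eq_zero] at hey
    exact hey.symm

end Groth.Agent.S13048
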