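import Groth.Statements.S13049
import Mathlib.RingTheory.Perfection
-- import your own Groth.Agent.* helpers here

set_option autoImplicit false
universe u
open FrobAlg

namespace Groth.Agent.S13049

/-- Let p be a prime and A a commutative ring of characteristic p whose nilradical N satisfies x^(p^e) =
0 for all x ∈ N and some fixed e (for instance A Noetherian). Then the map between the inverse-limit
perfections along the absolute Frobenius, lim (⋯ → A → A) → lim (⋯ → A/N → A/N), induced by the
projection A → A/N, is bijective. (The published argument takes A of finite type over a field, where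
the nilradical is finitely generated; this row assumes only that the nilradical is killed by one
fixed iterate of Frobenius, which is all that argument uses.) -/
theorem result
    (p : ℕ) [Fact p.Prime] (A : Type u) [CommRing A] [CharP A p]
    [CharP (A ⧸ nilradical A) p] (e : ℕ) (he : ∀ x ∈ nilradical A, x ^ p ^ e = 0) :
    Function.Bijective (Perfection.map p (Ideal.Quotient.mk (nilradical A))) := by
  constructor
  · rw [injective_iff_map_eq_zero]
    intro x hx
    refine Perfection.ext fun n => ?_
    have h1 : Ideal.Quotient.mk (nilradical A) (Perfection.coeff A p (n + e) x) = 0 := by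
      have := congrArg (Perfection.coeff (A ⧸ nilradical A) p (n + e)) hx
      simpa using this
    have h2 : ∀ k, Perfection.coeff A p (n + k) x ^ p ^ k = Perfection.coeff A p n x := by
      intro k
      induction k with
      | zero => simp
      | succ k ih => rw [pow_succ', pow_mul, ← Nat.add_assoc, Perfection.coeff_pow_p', ih]
    rw [map_zero, ← h2 e]
    exact he _ (Ideal.Quotient.eq_zero_iff_mem.1 h1)
  · intro y
    choose a ha using fun n => Ideal.Quotient.mk_surjective (Perfection.coeff (A ⧸ nilradical A) p n y)
    have huv : ∀ u v : A, Ideal.Quotient.mk (nilradical A) u = Ideal.Quotient.mk (nilradical A) v →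
        u ^ p ^ e = v ^ p ^ e := fun u v h => by
      rw [← sub_eq_zero, ← sub_pow_char_pow, he _ (Ideal.Quotient.eq.1 h)]
    refine ⟨⟨fun n => a (n + e) ^ p ^ e, fun n => ?_⟩, Perfection.ext fun n => ?_⟩
    · rw [← pow_mul, mul_comm, pow_mul]
      refine huv _ _ ?_
      rw [map_pow, ha, ha, Nat.add_right_comm, Perfection.coeff_pow_p']
    · rw [Perfection.coeff_map, Perfection.coeff_mk, map_pow, ha]
      have : ∀ k, Perfection.coeff (A ⧸ nilradical A) p (n + k) y ^ p ^ k = Perfection.coeff (A ⧸ nilradical A) p n y := by
        intro k
        induction k with
        | zero => simp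
        | succ k ih => rw [pow_succ', pow_mul, ← Nat.add_assoc, Perfection.coeff_pow_p', ih]
      exact this e

end Groth.Agent.S13049
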