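import Groth.Statements.S13052
import Groth.Agent.ZetaLib.ZetaProduct

set_option autoImplicit false
open Groth.Agent.ZetaLib
universe u
open CategoryTheory AlgebraicGeometry
open Zeta

namespace Groth.Agent.S13052

/-- If X is a scheme of finite type over a finite field k, Y ↪ X a closed subscheme and U = X ∖ Y its
open complement, then Z(X, t) = Z(Y, t) · Z(U, t). Here Y is any scheme with a closed immersion into
X whose image is the complement of U (its scheme structure plays no role), and Y, U are k-schemes
through X. -/
theorem result {k : Type u} [Field k] [Finite k]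
    {X Y : Scheme.{u}} (f : X ⟶ Spec (CommRingCat.of k)) [LocallyOfFiniteType f] [QuasiCompact f]
    (U : X.Opens) (i : Y ⟶ X) [IsClosedImmersion i] (hY : Set.range i.base = (U : Set X)ᶜ) :
    Zeta.zetaFun f = Zeta.zetaFun (i ≫ f) * Zeta.zetaFun (U.ι ≫ f) := by
  let Z : Bool → Scheme.{u} := fun b => cond b U.toScheme Y
  let g : ∀ b, Z b ⟶ X := fun b => match b with
    | true => U.ι
    | false => i
  have : ∀ b, IsPreimmersion (g b) := fun b => by cases b <;> dsimp only [g, Z] <;> infer_instance
  have : ∀ b, LocallyOfFiniteType (g b) := fun b => by cases b <;> dsimp only [g, Z] <;> infer_instance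
  rw [mul_comm, zetaFun_eq_prod f Z g (hpart := ?_)]
  · rw [Fintype.prod_bool]
  · intro x _
    by_cases hx : x ∈ U
    · exact ⟨true, ⟨⟨x, hx⟩, rfl⟩, fun b hb => by
        rcases b with - | -
        · exact absurd hx (hY.le hb)
        · rfl⟩
    · exact ⟨false, hY.ge hx, fun b hb => by
        rcases b with - | -
        · rfl
        · obtain ⟨y, hy⟩ := hb
          exact absurd (hy ▸ y.2) hx⟩

end Groth.Agent.S13052
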