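import Groth.Statements.S13059
import Groth.Agent.WeilLib.PairScale

set_option autoImplicit false
open Groth.Agent.WeilLib
universe u
open Zeta

namespace Groth.Agent.S13059

/-- Let B : V × W → K be a perfect pairing of finite-dimensional vector spaces over a field K, c ∈ K
nonzero, and f, g endomorphisms of V, W with B(f v, g w) = c · B(v, w) for all v, w. Then det(Id − t
g) = (−1)^r c^r t^r det(f)^{−1} det(Id − c^{−1} t^{−1} f) with r the common dimension; stated
cleared of denominators as det(f) · det(Id − t g) = (−1)^r c^r · det(t Id − c^{−1} f) in K[t],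
det(Id − t g) being the reverse of the characteristic polynomial of g. -/
theorem result (K : Type u) [Field K] (V W : Type u)
    [AddCommGroup V] [Module K V] [FiniteDimensional K V] [AddCommGroup W] [Module K W]
    [FiniteDimensional K W] (B : V →ₗ[K] W →ₗ[K] K) [B.IsPerfPair] (f : V →ₗ[K] V) (g : W →ₗ[K] W)
    (c : K) (hc : c ≠ 0) (hfg : ∀ (v : V) (w : W), B (f v) (g w) = c * B v w) :
    LinearMap.det f • (LinearMap.charpoly g).reverse =
      ((-1) ^ Module.finrank K W * c ^ Module.finrank K W) • (c⁻¹ • f).charpoly := by
  exact det_smul_reverse_charpoly B f g c hc hfg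

end Groth.Agent.S13059
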