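import Groth.Statements.S13060
import Mathlib

set_option autoImplicit false
universe u v w x
open TensorProduct
open Zeta

namespace Groth.Agent.S13060

/-- Let k be a field, V and W vector spaces over k and G a group acting on V by k-linear automorphisms;
for the induced action on V ⊗_k W (trivial on W) one has (V ⊗_k W)^G = V^G ⊗_k W, i.e. the
invariants of V ⊗ W are the image of V^G ⊗ W → V ⊗ W. -/
theorem result {k : Type u} [Field k] {G : Type v} [Group G]
    {V : Type w} {W : Type x} [AddCommGroup V] [Module k V] [AddCommGroup W] [Module k W]
    (ρ : Representation k G V) :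
    (ρ.tprod (Representation.trivial k G W)).invariants =
      LinearMap.range (TensorProduct.map ρ.invariants.subtype (LinearMap.id : W →ₗ[k] W)) := by
  classical
  let b := Module.Basis.ofVectorSpace k W
  let e := TensorProduct.equivFinsuppOfBasisRight (M := V) b
  have he : ∀ (g : G) (x : TensorProduct k V W) (i), e ((ρ.tprod (Representation.trivial k G W)) g x) i = ρ g (e x i) := by
    intro g x i
    induction x with
    | zero => simp
    | tmul v w => simp [e, Representation.tprod]
    | add x y hx hy => simp only [map_add, Finsupp.add_apply, hx, hy]
  ext x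
  constructor
  · intro hx
    have hi : ∀ i, e x i ∈ ρ.invariants := fun i g => by
      rw [← he g x i, hx g]
    rw [← e.symm_apply_apply x, TensorProduct.equivFinsuppOfBasisRight_symm_apply]
    exact Submodule.sum_mem _ fun i _ => ⟨(⟨e x i, hi i⟩ : ρ.invariants) ⊗ₜ b i, by simp⟩
  · rintro ⟨y, rfl⟩ g
    induction y with
    | zero => simp
    | tmul v w =>
      show ((ρ.tprod (Representation.trivial k G W)) g) ((v : V) ⊗ₜ w) = (v : V) ⊗ₜ w
      simp [Representation.tprod, v.2 g]
    | add x y hx hy => rw [map_add, map_add, hx, hy]

end Groth.Agent.S13060
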