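import Groth.Statements.S13061
import Mathlib

set_option autoImplicit false
universe u v w
open Zeta

namespace Groth.Agent.S13061

/-- Let A be a commutative algebra over a field k, G a finite group acting on A by k-algebra
automorphisms and I ⊆ A an ideal preserved by G. If p^n is the largest power of p = char(k) dividing
|G| (with p^n = 1 when char(k) = 0), then for every G-invariant b ∈ A/I the power b^{p^n} lies in
the image of A^G → (A/I)^G. (The published statement takes A finitely generated over k, which the
proof does not use.) -/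
theorem result {k : Type u} [Field k]
    {A : Type v} [CommRing A] [Algebra k A] {G : Type w} [Group G] [Finite G]
    [MulSemiringAction G A] [SMulCommClass G k A] (I : Ideal A)
    (hI : ∀ (g : G) (a : A), a ∈ I → g • a ∈ I) (u : A) (hu : ∀ g : G, g • u - u ∈ I) :
    ∃ a : A, (∀ g : G, g • a = a) ∧
      Ideal.Quotient.mk I a =
        Ideal.Quotient.mk I u ^ (ringChar k ^ (Nat.card G).factorization (ringChar k)) := by
  classical
  obtain ⟨P, hP, hidx⟩ : ∃ P : Subgroup G,
      Nat.card P = ringChar k ^ (Nat.card G).factorization (ringChar k) ∧ (P.index : k) ≠ 0 := by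
    rcases CharP.char_is_prime_or_zero k (ringChar k) with hp | h0
    · haveI := Fact.mk hp
      obtain ⟨S⟩ := (inferInstance : Nonempty (Sylow (ringChar k) G))
      refine ⟨S, S.card_eq_multiplicity, fun h => ?_⟩
      exact S.not_dvd_index ((ringChar.spec k _).mp h)
    · haveI : CharP k 0 := h0 ▸ ringChar.charP k
      haveI := CharP.charP_to_charZero k
      refine ⟨⊥, by simp [h0], by simp [Nat.card_pos.ne']⟩
  haveI : Fintype P := Fintype.ofFinite P
  haveI : Fintype (G ⧸ P) := Fintype.ofFinite _
  haveI : Fintype G := Fintype.ofFinite G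
  let q := Ideal.Quotient.mk I
  have hq : ∀ g : G, q (g • u) = q u := fun g => Ideal.Quotient.eq.mpr (hu g)
  let a₁ := ∏ h : P, (h : G) • u
  have ha₁ : ∀ h : P, (h : G) • a₁ = a₁ := fun h => by
    rw [Finset.smul_prod']
    exact Fintype.prod_equiv (Equiv.mulLeft h) _ _ fun h' => by rw [smul_smul]; rfl
  have hqa₁ : ∀ g : G, q (g • a₁) = q u ^ Nat.card P := fun g => by
    rw [Finset.smul_prod', map_prod, Nat.card_eq_fintype_card, ← Finset.card_univ, ← Finset.prod_const]
    exact Finset.prod_congr rfl fun h _ => by rw [smul_smul, hq]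
  let F : G ⧸ P → A := fun x => x.liftOn' (fun g => g • a₁) (fun g g' hgg' => by
    rw [QuotientGroup.leftRel_apply] at hgg'
    calc g • a₁ = g • ((g⁻¹ * g') • a₁) := by rw [ha₁ ⟨_, hgg'⟩]
      _ = g' • a₁ := by rw [smul_smul, mul_inv_cancel_left])
  have hF : ∀ (g : G) (x : G ⧸ P), g • F x = F (g • x) := fun g x => by
    induction x using QuotientGroup.induction_on with
    | H g' => exact smul_smul g g' a₁
  refine ⟨(P.index : k)⁻¹ • ∑ x, F x, fun g => ?_, ?_⟩
  · rw [smul_comm, Finset.smul_sum]
    simp only [hF]
    congr 1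
    exact Equiv.sum_comp (MulAction.toPerm g) F
  · rw [← hP]
    have hx : ∀ x : G ⧸ P, q (F x) = q u ^ Nat.card P := fun x => by
      induction x using QuotientGroup.induction_on with
      | H g => exact hqa₁ g
    show q _ = q u ^ Nat.card P
    rw [← Ideal.Quotient.mkₐ_eq_mk k, map_smul, map_sum, Ideal.Quotient.mkₐ_eq_mk k, Finset.sum_congr rfl fun x _ => hx x,
      Finset.sum_const, Finset.card_univ, ← Nat.card_eq_fintype_card, ← Subgroup.index_eq_card,
      ← Nat.cast_smul_eq_nsmul k, smul_smul, inv_mul_cancel₀ hidx, one_smul]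

end Groth.Agent.S13061
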