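import Groth.Statements.S13065
import Mathlib

set_option autoImplicit false
universe u
open Zeta

namespace Groth.Agent.S13065

/-- Let k be a finite field with q elements and characteristic p, n ≥ 2, and f ∈ k[x_0, …, x_n]
homogeneous of degree n + 1, defining the hypersurface Z ⊂ P^n_k. Then #Z(F_q) ≢ 1 (mod p) if and
only if the coefficient of (x_0 ⋯ x_n)^{q−1} in f^{q−1} is nonzero. Stated through the affine count:
#Z(F_q) ≡ 1 (mod p) exactly when p divides the number of zeros of f in k^{n+1} (as (q − 1) #Z(F_q) +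
1 is that number). -/
theorem result {k : Type u} [Field k] [Finite k] (p : ℕ)
    [CharP k p] (n : ℕ) (hn : 2 ≤ n) (f : MvPolynomial (Fin (n + 1)) k)
    (hf : f.IsHomogeneous (n + 1)) :
    p ∣ Nat.card {a : Fin (n + 1) → k // MvPolynomial.eval a f = 0} ↔
      MvPolynomial.coeff (Finsupp.equivFunOnFinite.symm fun _ : Fin (n + 1) => Nat.card k - 1)
        (f ^ (Nat.card k - 1)) = 0 := by
  classical
  haveI := Fintype.ofFinite k
  rw [Nat.card_eq_fintype_card (α := k)]
  set q := Fintype.card k with hq
  have hq1 : 1 < q := Fintype.one_lt_card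
  let D : Fin (n + 1) →₀ ℕ := Finsupp.equivFunOnFinite.symm fun _ => q - 1
  have hsum : ∑ x : k, x ^ (q - 1) = -1 := by
    rw [Fintype.sum_congr (fun x : k => x ^ (q - 1)) (fun x => 1 - if x = 0 then 1 else 0) fun x => ?_]
    · rw [Finset.sum_sub_distrib, Finset.sum_ite_eq', if_pos (Finset.mem_univ _), Finset.sum_const, Finset.card_univ,
        nsmul_one, FiniteField.cast_card_eq_zero, zero_sub]
    · split_ifs with h
      · rw [h, zero_pow (by omega), sub_self]
      · rw [FiniteField.pow_card_sub_one_eq_one x h, sub_zero]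
  have hF : ∑ a : Fin (n + 1) → k, MvPolynomial.eval a (f ^ (q - 1)) =
      MvPolynomial.coeff D (f ^ (q - 1)) * (-1) ^ (n + 1) := by
    have hG : (f ^ (q - 1)).IsHomogeneous ((n + 1) * (q - 1)) := hf.pow _
    generalize f ^ (q - 1) = G at hG
    simp only [MvPolynomial.eval_eq']
    rw [Finset.sum_comm]
    simp only [← Finset.mul_sum]
    rw [Finset.sum_eq_single D]
    · rw [← Fintype.prod_sum (fun i (x : k) => x ^ D i)]
      congr 1
      rw [Finset.prod_congr rfl fun i _ => show ∑ x : k, x ^ D i = -1 by simpa [D] using hsum]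
      simp
    · intro d hd hne
      obtain ⟨i, hi⟩ : ∃ i, d i < q - 1 := by
        by_contra! h
        refine hne (Finsupp.ext fun i => ((Finset.sum_eq_sum_iff_of_le fun j _ => h j).mp ?_ i (Finset.mem_univ i)).symm)
        rw [Finset.sum_const, Finset.card_univ, Fintype.card_fin, smul_eq_mul, ← Finsupp.degree_eq_sum,
          Finsupp.degree_eq_weight_one]
        exact (hG (MvPolynomial.mem_support_iff.mp hd)).symm
      rw [← Fintype.prod_sum (fun j (x : k) => x ^ d j),
        Finset.prod_eq_zero (Finset.mem_univ i) (FiniteField.sum_pow_lt_card_sub_one k (d i) hi), mul_zero]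
    · intro h
      rw [MvPolynomial.notMem_support_iff.mp h, zero_mul]
  rw [← CharP.cast_eq_zero_iff k p, Nat.card_eq_fintype_card, Fintype.card_subtype]
  have hcount : ((Finset.univ.filter fun a : Fin (n + 1) → k => MvPolynomial.eval a f = 0).card : k) =
      -(MvPolynomial.coeff D (f ^ (q - 1)) * (-1) ^ (n + 1)) := by
    rw [← hF, ← Finset.sum_boole]
    rw [Fintype.sum_congr (fun a : Fin (n + 1) → k => if MvPolynomial.eval a f = 0 then (1 : k) else 0)
      (fun a => 1 - MvPolynomial.eval a (f ^ (q - 1))) fun a => ?_]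
    · rw [Finset.sum_sub_distrib, Finset.sum_const, Finset.card_univ, Fintype.card_fun, Fintype.card_fin, nsmul_one,
        Nat.cast_pow, FiniteField.cast_card_eq_zero, zero_pow (Nat.succ_ne_zero n), zero_sub]
    · rw [map_pow]
      split_ifs with h
      · rw [h, zero_pow (by omega), sub_zero]
      · rw [FiniteField.pow_card_sub_one_eq_one _ h, sub_self]
  rw [hcount, neg_eq_zero, mul_eq_zero, or_iff_left (pow_ne_zero _ (neg_ne_zero.mpr one_ne_zero))]

end Groth.Agent.S13065
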