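import Groth.Statements.S13066
import Mathlib

set_option autoImplicit false
universe u
open Zeta

namespace Groth.Agent.S13066

/-- Let k be a finite field with q elements and characteristic p, n ≥ 2, and f ∈ k[x_0, …, x_n]
homogeneous of degree n + 1. Then the coefficient of (x_0 ⋯ x_n)^{q−1} in f^{q−1} is nonzero if and
only if the coefficient of (x_0 ⋯ x_n)^{p−1} in f^{p−1} is nonzero. -/
theorem result {k : Type u} [Field k] [Finite k]
    (p : ℕ) [CharP k p] (n : ℕ) (hn : 2 ≤ n) (f : MvPolynomial (Fin (n + 1)) k)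
    (hf : f.IsHomogeneous (n + 1)) :
    MvPolynomial.coeff (Finsupp.equivFunOnFinite.symm fun _ : Fin (n + 1) => Nat.card k - 1)
        (f ^ (Nat.card k - 1)) ≠ 0 ↔
      MvPolynomial.coeff (Finsupp.equivFunOnFinite.symm fun _ : Fin (n + 1) => p - 1)
        (f ^ (p - 1)) ≠ 0 := by
  classical
  haveI := Fintype.ofFinite k
  obtain ⟨r, hp, hcard⟩ := FiniteField.card k p
  haveI := Fact.mk hp
  let D : ℕ → Fin (n + 1) →₀ ℕ := fun m => Finsupp.equivFunOnFinite.symm fun _ => m
  let c : ℕ → k := fun s => MvPolynomial.coeff (D (p ^ s - 1)) (f ^ (p ^ s - 1))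
  have hsum : ∀ m (e : Fin (n + 1) →₀ ℕ), Finsupp.degree e = (n + 1) * m → (∀ i, e i ≤ m) → e = D m := by
    intro m e he hle
    ext i
    refine (Finset.sum_eq_sum_iff_of_le fun j _ => hle j).mp ?_ i (Finset.mem_univ i)
    rw [← Finsupp.degree_eq_sum, he, Finset.sum_const, Finset.card_univ, Fintype.card_fin, smul_eq_mul]
  have hstep : ∀ s, c (s + 1) = c 1 * c s ^ p := by
    intro s
    have hps : 1 ≤ p ^ s := Nat.one_le_pow _ _ hp.pos
    have hexp : p ^ (s + 1) - 1 = (p - 1) + (p ^ s - 1) * p := by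
      rw [Nat.sub_mul, one_mul, ← pow_succ]
      have h1 : p ≤ p ^ (s + 1) := Nat.le_self_pow (Nat.succ_ne_zero s) p
      have := hp.pos
      omega
    have hG : (f ^ (p ^ s - 1)).IsHomogeneous ((n + 1) * (p ^ s - 1)) := hf.pow _
    generalize hGdef : f ^ (p ^ s - 1) = G at hG
    show MvPolynomial.coeff (D (p ^ (s + 1) - 1)) (f ^ (p ^ (s + 1) - 1)) =
      MvPolynomial.coeff (D (p ^ 1 - 1)) (f ^ (p ^ 1 - 1)) * MvPolynomial.coeff (D (p ^ s - 1)) (f ^ (p ^ s - 1)) ^ p
    rw [hGdef, pow_one]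
    conv_lhs => rw [hexp, pow_add, pow_mul, hGdef, G.as_sum, sum_pow_char, Finset.mul_sum, MvPolynomial.coeff_sum]
    have hle : ∀ e : Fin (n + 1) →₀ ℕ, p • e ≤ D (p ^ (s + 1) - 1) → ∀ i, e i ≤ p ^ s - 1 := by
      intro e he i
      have h1 : p * e i ≤ p ^ (s + 1) - 1 := by simpa [D] using he i
      rw [pow_succ'] at h1
      have h2 : p * e i < p * p ^ s := by have := Nat.mul_pos hp.pos (show 0 < p ^ s by omega); omega
      have := Nat.lt_of_mul_lt_mul_left h2
      omega
    rw [Finset.sum_eq_single (D (p ^ s - 1))]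
    · rw [MvPolynomial.monomial_pow, MvPolynomial.coeff_mul_monomial', if_pos]
      · congr 2
        ext i
        simp only [D, Finsupp.coe_tsub, Finsupp.coe_smul, Pi.sub_apply, Pi.smul_apply, smul_eq_mul,
          Finsupp.equivFunOnFinite_symm_apply_apply]
        rw [mul_comm p]
        omega
      · intro i
        simp only [D, Finsupp.coe_smul, Pi.smul_apply, smul_eq_mul, Finsupp.equivFunOnFinite_symm_apply_apply]
        rw [mul_comm p]
        omega
    · intro e he hne
      rw [MvPolynomial.monomial_pow, MvPolynomial.coeff_mul_monomial', if_neg]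
      intro hle'
      rw [← hexp] at hle'
      refine hne (hsum _ e ?_ (hle e hle'))
      rw [Finsupp.degree_eq_weight_one]
      exact hG (MvPolynomial.mem_support_iff.mp he)
    · intro h
      rw [MvPolynomial.notMem_support_iff.mp h, MvPolynomial.monomial_zero, zero_pow hp.ne_zero, mul_zero,
        MvPolynomial.coeff_zero]
  have hiff : ∀ s, c (s + 1) ≠ 0 ↔ c 1 ≠ 0 := by
    intro s
    induction s with
    | zero => simp
    | succ s ih =>
      rw [hstep (s + 1), mul_ne_zero_iff, pow_ne_zero_iff hp.ne_zero, ih, and_self]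
  have h := hiff ((r : ℕ) - 1)
  rw [Nat.sub_add_cancel (show 1 ≤ (r : ℕ) from r.2)] at h
  simp only [c, D, pow_one] at h
  rw [Nat.card_eq_fintype_card, hcard]
  exact h

end Groth.Agent.S13066
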