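import Groth.Statements.S13067
import Groth.Agent.ZetaLib.FixScheme

set_option autoImplicit false
open Groth.Agent.ZetaLib
universe u
open CategoryTheory AlgebraicGeometry Limits
open Zeta

namespace Groth.Agent.S13067

/-- Let X be smooth over a finite field k = F_q, k̄ an algebraic closure, and F = Frob_{X,q} × id the
k̄-endomorphism of X̄ = X ×_k k̄ induced by the q-Frobenius of X. Then the intersection Γ_F ∩ Δ of
the graph of F with the diagonal in X̄ ×_{k̄} X̄ is a reduced (finite) scheme. The published
statement is for the graph of F^r, r ≥ 1; that case is this one applied to X ×_k F_{q^r}, whose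
q^r-Frobenius induces F^r on X̄. The q-Frobenius F_X is pinned as the endomorphism that is the
identity on points and raises sections to the q-th power, and F by F ≫ pr_1 = pr_1 ≫ F_X and F ≫
pr_2 = pr_2. -/
theorem result {k : Type u} [Field k] [Finite k]
    {X : Scheme.{u}} (f : X ⟶ Spec (CommRingCat.of k)) [Smooth f] (FX : X ⟶ X)
    (hFb : FX.base = 𝟙 _) (hle : ∀ U : X.Opens, U ≤ FX ⁻¹ᵁ U)
    (hFapp : ∀ (U : X.Opens) (s : Γ(X, U)), (FX.appLE U U (hle U)).hom s = s ^ Nat.card k)
    (F : FinFr.ext (AlgebraicClosure k) f ⟶ FinFr.ext (AlgebraicClosure k) f)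
    (hF1 : F ≫ FinFr.extπ (AlgebraicClosure k) f = FinFr.extπ (AlgebraicClosure k) f ≫ FX)
    (hF2 : F ≫ FinFr.extStr (AlgebraicClosure k) f = FinFr.extStr (AlgebraicClosure k) f) :
    IsReduced (FinFr.fixScheme (FinFr.extStr (AlgebraicClosure k) f) F hF2) := by
  exact isReduced_fixScheme_frob f FX hFb hle hFapp F hF1 hF2

end Groth.Agent.S13067
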