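import Groth.Statements.S13069
import Groth.Agent.CurveZeta.Pic

set_option autoImplicit false
set_option backward.isDefEq.respectTransparency false
set_option backward.isDefEq.respectTransparency.types false
universe u
open CategoryTheory AlgebraicGeometry
open Zeta

namespace Groth.Agent.S13069

/-- If X is a smooth, geometrically connected, projective curve over F_q (here: smooth proper
geometrically irreducible of dimension one over a finite field k), then all the sets Pic^m(X) of
isomorphism classes of line bundles of degree m, m ∈ ℤ, have the same finite nonzero number of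
elements. -/
theorem result (k : Type u) [Field k] [Finite k]
    (X : Scheme.{u}) [X.Over (Spec (CommRingCat.of k))]
    (hX : Curve.IsSmoothProperCurve k X (X ↘ Spec (CommRingCat.of k)))
    [GeometricallyIrreducible (X ↘ Spec (CommRingCat.of k))] (m : ℤ) :
    Finite {c : PicF.Cl X // ∃ L : X.Modules, PicF.cl L = c ∧ PicF.IsInvertible L ∧
        Curv2.deg k X L 1 = m} ∧
      Nonempty {c : PicF.Cl X // ∃ L : X.Modules, PicF.cl L = c ∧ PicF.IsInvertible L ∧
        Curv2.deg k X L 1 = m} ∧
      Nat.card {c : PicF.Cl X // ∃ L : X.Modules, PicF.cl L = c ∧ PicF.IsInvertible L ∧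
          Curv2.deg k X L 1 = m} =
        Nat.card {c : PicF.Cl X // ∃ L : X.Modules, PicF.cl L = c ∧ PicF.IsInvertible L ∧
          Curv2.deg k X L 1 = 0} := by
  obtain ⟨hp, hs, hi, hdim⟩ := hX
  letI := Groth.Agent.CurveZeta.ffAlg k X
  have hK := Groth.Agent.CurveZeta.isFunctionField k X hdim
  haveI := Groth.Agent.FFLib.finite_pic0 (k := k) hK.1
  obtain ⟨e⟩ := Groth.Agent.CurveZeta.nonempty_equiv_pic0 k (X := X) hdim m
  obtain ⟨e₀⟩ := Groth.Agent.CurveZeta.nonempty_equiv_pic0 k (X := X) hdim 0
  exact ⟨Finite.of_equiv _ e.symm, e.nonempty, (Nat.card_congr e).trans (Nat.card_congr e₀).symm⟩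

end Groth.Agent.S13069
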