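import Groth.Statements.S13071
import Groth.Agent.SGA1Q.GeomTrans

set_option autoImplicit false
universe u
open CategoryTheory AlgebraicGeometry Limits
open Zeta

namespace Groth.Agent.S13071

open Groth.Agent

/-- For a variety X over a perfect field k with algebraic closure k̄, the fibres of the projection π :
X_{k̄} → X are exactly the orbits of G(k̄/k) acting on X_{k̄} (σ acting as id × Spec σ). Stated for
any scheme of finite type over k; each τ_σ is pinned by τ_σ ≫ pr_1 = pr_1 and τ_σ ≫ pr_2 = pr_2 ≫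
Spec σ. -/
theorem result {k : Type u} [Field k] [PerfectField k]
    {X : Scheme.{u}} (f : X ⟶ Spec (CommRingCat.of k)) [LocallyOfFiniteType f] [QuasiCompact f]
    (τ : (AlgebraicClosure k ≃ₐ[k] AlgebraicClosure k) →
      (pullback f (Spec.map (CommRingCat.ofHom (algebraMap k (AlgebraicClosure k)))) ⟶
        pullback f (Spec.map (CommRingCat.ofHom (algebraMap k (AlgebraicClosure k))))))
    (hτ1 : ∀ σ, τ σ ≫ pullback.fst f _ = pullback.fst f _)
    (hτ2 : ∀ σ, τ σ ≫ pullback.snd f (Spec.map (CommRingCat.ofHom (algebraMap k (AlgebraicClosure k)))) =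
        pullback.snd f _ ≫ Spec.map (CommRingCat.ofHom (σ : AlgebraicClosure k →+* AlgebraicClosure k)))
    (x y : ↑(pullback f (Spec.map (CommRingCat.ofHom (algebraMap k (AlgebraicClosure k)))))) :
    (pullback.fst f (Spec.map (CommRingCat.ofHom (algebraMap k (AlgebraicClosure k))))).base x =
        (pullback.fst f (Spec.map (CommRingCat.ofHom (algebraMap k (AlgebraicClosure k))))).base y ↔
      ∃ σ, (τ σ).base x = y := by

  constructor
  swap
  · rintro ⟨σ, rfl⟩
    exact (congr(($(hτ1 σ)).base x)).symm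
  intro hxy
  obtain ⟨z, hz₁, hz₂⟩ := Scheme.Pullback.exists_preimage_pullback x y hxy
  let bk := Spec.map (CommRingCat.ofHom (algebraMap k (AlgebraicClosure k)))
  let P := pullback (pullback.fst f bk) (pullback.fst f bk)
  let Ω := AlgebraicClosure (P.residueField z)
  obtain ⟨t, ht⟩ : ∃ t : Spec (CommRingCat.of Ω) ⟶ P, t (IsLocalRing.closedPoint Ω) = z :=
    ⟨Spec.map (CommRingCat.ofHom (algebraMap (P.residueField z) Ω)) ≫ P.fromSpecResidueField z,
      Scheme.fromSpecResidueField_apply z _⟩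
  set t₁ := t ≫ pullback.fst (pullback.fst f bk) (pullback.fst f bk) with ht₁
  set t₂ := t ≫ pullback.snd (pullback.fst f bk) (pullback.fst f bk) with ht₂
  have hfst : t₁ ≫ pullback.fst f bk = t₂ ≫ pullback.fst f bk := by
    rw [ht₁, ht₂, Category.assoc, Category.assoc, pullback.condition]
  obtain ⟨a₁, ha₁⟩ := Spec.map_surjective (t₁ ≫ pullback.snd f bk)
  obtain ⟨a₂, ha₂⟩ := Spec.map_surjective (t₂ ≫ pullback.snd f bk)
  have hk : CommRingCat.ofHom (algebraMap k (AlgebraicClosure k)) ≫ a₂ =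
      CommRingCat.ofHom (algebraMap k (AlgebraicClosure k)) ≫ a₁ := by
    apply Spec.map_injective
    rw [Spec.map_comp, Spec.map_comp, ha₁, ha₂]
    have c₁ : (t₁ ≫ pullback.snd f bk) ≫ bk = (t₁ ≫ pullback.fst f bk) ≫ f := by
      simp only [Category.assoc, pullback.condition]
    have c₂ : (t₂ ≫ pullback.snd f bk) ≫ bk = (t₂ ≫ pullback.fst f bk) ≫ f := by
      simp only [Category.assoc, pullback.condition]
    exact c₂.trans ((congrArg (· ≫ f) hfst.symm).trans c₁.symm)
  letI : Algebra k Ω := (CommRingCat.ofHom (algebraMap k (AlgebraicClosure k)) ≫ a₁).hom.toAlgebra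
  let i₁ : AlgebraicClosure k →ₐ[k] Ω := ⟨a₁.hom, fun _ => rfl⟩
  let i₂ : AlgebraicClosure k →ₐ[k] Ω := ⟨a₂.hom, fun c => congr(($hk).hom c)⟩
  obtain ⟨σ, hσ⟩ := SGA1Q.exists_algEquiv_of_normal i₁ i₂
  refine ⟨σ, ?_⟩
  have e : t₁ ≫ τ σ = t₂ := by
    apply pullback.hom_ext
    · rw [Category.assoc, hτ1 σ, hfst]
    · rw [Category.assoc, hτ2 σ, ← Category.assoc, ← ha₁, ← ha₂, ← Spec.map_comp]
      congr 1
      ext c
      exact hσ c
  have e' := congr(($e).base (IsLocalRing.closedPoint Ω))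
  subst hz₁ hz₂
  rw [← ht]
  exact e'

end Groth.Agent.S13071
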