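import Groth.Statements.S13072
import Groth.Agent.SGA1Q.GeomTrans
import Groth.Agent.WeilLib.PointCount
import Mathlib.AlgebraicGeometry.AlgClosed.Basic
import Mathlib.AlgebraicGeometry.Morphisms.Integral

set_option autoImplicit false
universe u
open CategoryTheory AlgebraicGeometry Limits
open Zeta

namespace Groth.Agent.S13072

open Groth.Agent

/-- Case r = 1, to which the general case reduces by passing to X ×_k F_{q^r}. Let X be a variety over k
= F_q, k̄ an algebraic closure and F = Frob_{X,q} × id the induced endomorphism of X_{k̄}. A closed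
subset W ⊆ X_{k̄} is of the form Y_{k̄} for a closed Y ⊆ X (i.e. W = π⁻¹(Y), π the projection) if
and only if F(W) ⊆ W. Stated for schemes of finite type over k; F_X is pinned as the endomorphism
that is the identity on points and the q-th power on sections, F by F ≫ pr_1 = pr_1 ≫ F_X and F ≫
pr_2 = pr_2. -/
theorem result {k : Type u} [Field k] [Finite k]
    {X : Scheme.{u}} (f : X ⟶ Spec (CommRingCat.of k)) [LocallyOfFiniteType f] [QuasiCompact f]
    (FX : X ⟶ X) (hFb : FX.base = 𝟙 _) (hle : ∀ U : X.Opens, U ≤ FX ⁻¹ᵁ U)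
    (hFapp : ∀ (U : X.Opens) (s : Γ(X, U)), (FX.appLE U U (hle U)).hom s = s ^ Nat.card k)
    (F : FinFr.ext (AlgebraicClosure k) f ⟶ FinFr.ext (AlgebraicClosure k) f)
    (hF1 : F ≫ FinFr.extπ (AlgebraicClosure k) f = FinFr.extπ (AlgebraicClosure k) f ≫ FX)
    (hF2 : F ≫ FinFr.extStr (AlgebraicClosure k) f = FinFr.extStr (AlgebraicClosure k) f)
    (W : Set ↑(FinFr.ext (AlgebraicClosure k) f)) (hW : IsClosed W) :
    (∃ Y : Set X, IsClosed Y ∧ (FinFr.extπ (AlgebraicClosure k) f).base ⁻¹' Y = W) ↔
      F.base '' W ⊆ W := by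

  classical
  constructor
  · rintro ⟨Y, -, rfl⟩ _ ⟨y, hy, rfl⟩
    show (FinFr.extπ (AlgebraicClosure k) f).base (F.base y) ∈ Y
    have e := congr(($hF1).base y)
    have e2 : (F ≫ FinFr.extπ (AlgebraicClosure k) f).base y =
        (FinFr.extπ (AlgebraicClosure k) f).base y := by
      rw [hF1]
      show FX.base ((FinFr.extπ (AlgebraicClosure k) f).base y) = _
      rw [hFb]
      rfl
    exact e2 ▸ hy
  intro hW'
  let K := AlgebraicClosure k
  let π := FinFr.extπ K f
  let sn := FinFr.extStr K f
  haveI : Surjective (FinFr.specι k K) := ⟨fun y => ⟨IsLocalRing.closedPoint K, Subsingleton.elim _ _⟩⟩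
  haveI : IsIntegralHom (FinFr.specι k K) := IsIntegralHom.SpecMap_iff.2 fun a =>
    Algebra.IsIntegral.isIntegral (R := k) a
  haveI : JacobsonSpace ↥(FinFr.ext K f) := LocallyOfFiniteType.jacobsonSpace sn
  have hπsurj : Function.Surjective π.base := π.surjective
  have hpow : WeilLib.IsPowMap FX (Nat.card k) := ⟨fun x => by rw [hFb]; rfl, fun U h s => hFapp U s⟩
  -- closed points in a common fibre are related by iterates of `F`
  have horb : ∀ y y', IsClosed ({y} : Set ↥(FinFr.ext K f)) → IsClosed ({y'} : Set ↥(FinFr.ext K f)) →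
      π.base y = π.base y' → ∃ m : ℕ, F.base^[m] y = y' := by
    intro y y' hy hy' hyy
    have hemb : ∀ y, ∀ hy : IsClosed ({y} : Set ↥(FinFr.ext K f)), ∀ x, π.base y = x →
        ∃ i : X.residueField x ⟶ CommRingCat.of K,
          CommRingCat.ofHom (VarDim.resHom f x) ≫ i = CommRingCat.ofHom (algebraMap k K) ∧
          pointOfClosedPoint sn y hy ≫ π = Spec.map i ≫ X.fromSpecResidueField x := by
      intro y hy x hx
      obtain ⟨⟨x', i⟩, hi⟩ := (Scheme.SpecToEquivOfField K X).symm.surjective
        (pointOfClosedPoint sn y hy ≫ π)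
      have hi' : Spec.map i ≫ X.fromSpecResidueField x' = pointOfClosedPoint sn y hy ≫ π := hi
      have hx' : x' = x := by
        have e1 := congr(($hi').base (IsLocalRing.closedPoint K))
        refine ((Scheme.fromSpecResidueField_apply x' _).symm.trans e1).trans ?_
        show π.base (pointOfClosedPoint sn y hy _) = x
        rw [pointOfClosedPoint_apply, hx]
      subst hx'
      refine ⟨i, Spec.map_injective ?_, hi'.symm⟩
      rw [Spec.map_comp, ← WeilLib.fromSpecResidueField_comp, ← Category.assoc, hi']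
      show (pointOfClosedPoint sn y hy ≫ π) ≫ f = FinFr.specι k K
      rw [Category.assoc]
      show pointOfClosedPoint sn y hy ≫ pullback.fst f (FinFr.specι k K) ≫ f = _
      rw [pullback.condition]
      exact pointOfClosedPoint_comp_assoc sn y hy _
    obtain ⟨i, hik, hi⟩ := hemb y hy _ rfl
    obtain ⟨j, hjk, hj⟩ := hemb y' hy' _ hyy.symm
    have hstep : ∀ φ : X.residueField (π.base y) ⟶ CommRingCat.of K,
        (Spec.map φ ≫ X.fromSpecResidueField (π.base y)) ≫ FX =
          Spec.map (((X.residueFieldCongr (hpow.base _).symm).hom ≫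
            FX.residueFieldMap (π.base y)) ≫ φ) ≫ X.fromSpecResidueField (π.base y) := by
      intro φ
      rw [Category.assoc, ← Scheme.Hom.SpecMap_residueFieldMap_fromSpecResidueField,
        ← Scheme.residueFieldCongr_fromSpecResidueField (hpow.base (π.base y)).symm,
        ← Spec.map_comp_assoc, ← Spec.map_comp_assoc]
      simp only [Category.assoc]
    have hiter : ∀ m : ℕ, ∃ (p : Spec (CommRingCat.of K) ⟶ FinFr.ext K f)
        (φ : X.residueField (π.base y) ⟶ CommRingCat.of K),
        p ≫ sn = 𝟙 _ ∧ p ≫ π = Spec.map φ ≫ X.fromSpecResidueField _ ∧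
          (∀ a, φ.hom a = i.hom a ^ Nat.card k ^ m) ∧
            p.base (IsLocalRing.closedPoint K) = F.base^[m] y := by
      intro m
      induction m with
      | zero => exact ⟨_, i, pointOfClosedPoint_comp sn y hy, hi,
          fun a => by rw [pow_zero, pow_one], pointOfClosedPoint_apply sn y hy _⟩
      | succ m ih =>
        obtain ⟨p, φ, h1, h2, h3, h4⟩ := ih
        refine ⟨p ≫ F, ((X.residueFieldCongr (hpow.base (π.base y)).symm).hom ≫
          FX.residueFieldMap (π.base y)) ≫ φ, ?_, ?_, fun a => ?_, ?_⟩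
        · show (p ≫ F) ≫ FinFr.extStr K f = 𝟙 _
          rw [Category.assoc, hF2]
          exact h1
        · show (p ≫ F) ≫ FinFr.extπ K f = _
          rw [Category.assoc, hF1, ← Category.assoc]
          exact (congrArg (· ≫ FX) h2).trans (hstep φ)
        · show φ.hom (WeilLib.fixEnd FX (π.base y) (hpow.base _) a) = _
          rw [WeilLib.fixEnd_of_isPowMap hpow, h3, map_pow, ← pow_mul, ← pow_succ']
        · rw [Function.iterate_succ_apply', ← h4]
          rfl
    letI := (VarDim.resHom f (π.base y)).toAlgebra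
    haveI : Module.Finite k (X.residueField (π.base y)) := by
      have hx : IsClosed ({π.base y} : Set X) := by simpa using π.isClosedMap _ hy
      have : IsFinite (X.fromSpecResidueField (π.base y) ≫ f) := by
        rw [isClosed_singleton_iff_isClosedImmersion] at hx
        rw [isFinite_iff_locallyOfFiniteType_of_jacobsonSpace]
        infer_instance
      rw [WeilLib.fromSpecResidueField_comp, IsFinite.SpecMap_iff] at this
      exact this
    haveI : Finite (X.residueField (π.base y)) := Module.finite_of_finite k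
    let ia : X.residueField (π.base y) →ₐ[k] K := ⟨i.hom, fun c => congr(($hik).hom c)⟩
    let ja : X.residueField (π.base y) →ₐ[k] K := ⟨j.hom, fun c => congr(($hjk).hom c)⟩
    obtain ⟨σ, hσ⟩ := SGA1Q.exists_algEquiv_of_normal ia ja
    have := Fintype.ofFinite k
    obtain ⟨m, hm⟩ := (FiniteField.bijective_frobeniusAlgHom_pow k (X.residueField (π.base y))).2
      σ.toAlgHom
    obtain ⟨p, φ, h1, h2, h3, h4⟩ := hiter m
    refine ⟨m, ?_⟩
    rw [← h4, ← pointOfClosedPoint_apply sn y' hy' (IsLocalRing.closedPoint K)]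
    refine congrArg (fun q : Spec (CommRingCat.of K) ⟶ FinFr.ext K f =>
      q.base (IsLocalRing.closedPoint K)) ?_
    apply pullback.hom_ext
    · rw [hj]
      refine h2.trans ?_
      congr 2
      ext a
      rw [h3]
      refine Eq.trans ?_ (hσ a)
      show _ = i.hom (σ a)
      rw [← show (FiniteField.frobeniusAlgHom k (X.residueField (π.base y)) ^ (m : ℕ)) a = σ a from
        DFunLike.congr_fun hm a]
      rw [AlgHom.coe_pow, FiniteField.coe_frobeniusAlgHom, pow_iterate, map_pow,
        Nat.card_eq_fintype_card]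
    · exact h1.trans (pointOfClosedPoint_comp sn y' hy').symm
  refine ⟨π.base '' W, π.isClosedMap _ hW, ?_⟩
  refine Set.Subset.antisymm ?_ (Set.subset_preimage_image _ _)
  have hcl : IsClosed (π.base ⁻¹' (π.base '' W)) := (π.isClosedMap _ hW).preimage π.continuous
  show π.base ⁻¹' (π.base '' W) ⊆ W
  rw [← JacobsonSpace.closure_inter_closedPoints_eq_closure hcl.isLocallyClosed |>.trans
    hcl.closure_eq]
  refine closure_minimal ?_ hW
  rintro y ⟨⟨w, hw, hwy⟩, hy⟩
  obtain ⟨w₀, hw₀, hw₀cl⟩ := nonempty_inter_closedPoints (Z := closure {w})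
    ⟨w, subset_closure rfl⟩ isClosed_closure.isLocallyClosed
  have hw₀W : w₀ ∈ W := hW.closure_subset_iff.2 (Set.singleton_subset_iff.2 hw) hw₀
  have hsp : π.base w₀ = π.base y := by
    have h1 : π.base w₀ ∈ closure {π.base w} := by
      rw [← Set.image_singleton]
      exact image_closure_subset_closure_image π.continuous ⟨w₀, hw₀, rfl⟩
    rw [hwy] at h1
    have hcly : IsClosed ({π.base y} : Set X) := by simpa using π.isClosedMap _ hy
    rw [hcly.closure_eq] at h1
    exact h1
  obtain ⟨m, rfl⟩ := horb w₀ y hw₀cl hy hsp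
  clear hsp hy hwy
  induction m with
  | zero => exact hw₀W
  | succ m ih => rw [Function.iterate_succ_apply']; exact hW' ⟨_, ih, rfl⟩

end Groth.Agent.S13072
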