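import Groth.Statements.S13075
import Mathlib

set_option autoImplicit false
open Zeta

namespace Groth.Agent.S13075

/-- For the formal power series exp(t) = ∑_{m ≥ 0} t^m / m! and log(1 + t) = ∑_{m ≥ 1} (−1)^{m+1} t^m /
m over ℚ, log(exp(u)) = u and exp(log(1 + u)) = 1 + u for every u ∈ tℚ⟦t⟧; stated for u = t (the
general case is obtained by substitution): substituting exp(t) − 1 into log(1 + ·) gives t, and
substituting log(1 + t) into exp gives 1 + t. -/
theorem result :
    PowerSeries.subst (PowerSeries.exp ℚ - 1)
        (PowerSeries.mk fun m : ℕ => if m = 0 then (0 : ℚ) else (-1) ^ (m + 1) / (m : ℚ)) =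
      PowerSeries.X ∧
    PowerSeries.subst (PowerSeries.mk fun m : ℕ => if m = 0 then (0 : ℚ) else (-1) ^ (m + 1) / (m : ℚ))
        (PowerSeries.exp ℚ) = 1 + PowerSeries.X := by
  have hlog : (PowerSeries.mk fun m : ℕ => if m = 0 then (0 : ℚ) else (-1) ^ (m + 1) / (m : ℚ)) = PowerSeries.log ℚ := by
    ext n; simp [PowerSeries.coeff_log]
  rw [hlog]
  have hd : (1 + PowerSeries.X : PowerSeries ℚ) * PowerSeries.derivative ℚ (PowerSeries.log ℚ) = 1 := by
    rw [PowerSeries.deriv_log]
    ext n
    rw [add_mul, one_mul, map_add]
    cases n with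
    | zero => simp
    | succ n =>
      rw [PowerSeries.coeff_succ_X_mul, PowerSeries.coeff_mk, PowerSeries.coeff_mk, PowerSeries.coeff_one,
        if_neg (Nat.succ_ne_zero n)]
      simp [pow_succ]
  have he : PowerSeries.constantCoeff (PowerSeries.exp ℚ - 1) = 0 := by simp [PowerSeries.constantCoeff_exp]
  constructor
  · have hs := PowerSeries.HasSubst.exp_sub_one (A := ℚ)
    apply PowerSeries.derivative.ext
    · have h2 := congrArg (PowerSeries.subst (PowerSeries.exp ℚ - 1)) hd
      rw [PowerSeries.subst_mul hs, PowerSeries.subst_add hs, PowerSeries.subst_X hs,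
        ← PowerSeries.coe_substAlgHom hs, map_one, PowerSeries.coe_substAlgHom, add_sub_cancel] at h2
      rw [PowerSeries.derivative_subst hs, map_sub, PowerSeries.derivative_exp, Derivation.map_one_eq_zero, sub_zero,
        PowerSeries.derivative_X, mul_comm]
      exact h2
    · rw [PowerSeries.constantCoeff_X]
      exact PowerSeries.constantCoeff_subst_eq_zero he _ PowerSeries.constantCoeff_log
  · have hs : PowerSeries.HasSubst (PowerSeries.log ℚ) := PowerSeries.HasSubst.log
    let g := PowerSeries.subst (PowerSeries.log ℚ) (PowerSeries.exp ℚ)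
    show g = 1 + PowerSeries.X
    have hg : PowerSeries.derivative ℚ g = g * PowerSeries.derivative ℚ (PowerSeries.log ℚ) := by
      show PowerSeries.derivative ℚ (PowerSeries.subst _ _) = _
      rw [PowerSeries.derivative_subst hs, PowerSeries.derivative_exp]
    have hg0 : PowerSeries.constantCoeff g = 1 := by
      show PowerSeries.constantCoeff (PowerSeries.subst _ _) = 1
      rw [show PowerSeries.exp ℚ = (PowerSeries.exp ℚ - 1) + 1 by ring, PowerSeries.subst_add hs,
        ← PowerSeries.coe_substAlgHom hs, map_one, PowerSeries.coe_substAlgHom, map_add, map_one]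
      have h0 : PowerSeries.constantCoeff (PowerSeries.subst (PowerSeries.log ℚ) (PowerSeries.exp ℚ - 1)) = 0 :=
        PowerSeries.constantCoeff_subst_eq_zero PowerSeries.constantCoeff_log _ he
      rw [h0, zero_add]
    let L := PowerSeries.derivative ℚ (PowerSeries.log ℚ)
    have hL : PowerSeries.derivative ℚ (g * L) = 0 := by
      have h := congrArg (PowerSeries.derivative ℚ) hd
      rw [Derivation.leibniz, Derivation.map_one_eq_zero, map_add, Derivation.map_one_eq_zero, PowerSeries.derivative_X,
        zero_add, smul_eq_mul, smul_eq_mul, mul_one] at h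
      have hu : IsUnit (1 + PowerSeries.X : PowerSeries ℚ) := IsUnit.of_mul_eq_one _ hd
      apply hu.mul_left_cancel
      rw [mul_zero, Derivation.leibniz, hg, smul_eq_mul, smul_eq_mul]
      linear_combination g * h + g * L * hd
    have hc : g * L = 1 := by
      apply PowerSeries.derivative.ext
      · rw [hL, Derivation.map_one_eq_zero]
      · rw [map_mul, hg0, one_mul, map_one]
        show PowerSeries.constantCoeff (PowerSeries.derivative ℚ (PowerSeries.log ℚ)) = 1
        rw [PowerSeries.deriv_log, ← PowerSeries.coeff_zero_eq_constantCoeff_apply]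
        simp
    calc g = (g * L) * (1 + PowerSeries.X) := by rw [mul_assoc, mul_comm L, hd, mul_one]
      _ = _ := by rw [hc, one_mul]

end Groth.Agent.S13075
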