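import Groth.Statements.S13076
import Groth.Agent.CastSev.Basic

set_option autoImplicit false
universe u
open CategoryTheory AlgebraicGeometry Limits
open Zeta

set_option backward.isDefEq.respectTransparency false
set_option backward.isDefEq.respectTransparency.types false

namespace Groth.Agent.S13076

open Groth.Agent Groth.Agent.H23
attribute [local instance] PicMul.clMonoid

/-- Take smooth proper curves C₁ and C₂ over an algebraically closed field k, S = C₁ × C₂, ℓ₁ = C₁ × pt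
and ℓ₂ = pt × C₂. Then (D²) ≤ 2 (D · ℓ₁)(D · ℓ₂) for every divisor D on S. Stated for an invertible
module L with an inverse M: (L · L) is the intersection number of M, M with O_S (alternating sum of
Euler characteristics, cohomology up to degree 2), and (L · ℓ₁), (L · ℓ₂) are the degrees of the
restrictions of L along the sections i₁ : C₁ → S, i₂ : C₂ → S through k-rational points y of C₂ and
x of C₁, pinned by their composites with the two projections. -/
theorem result (k : Type u) [Field k]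
    [IsAlgClosed k] (C₁ C₂ : Scheme.{u}) [C₁.Over (Spec (CommRingCat.of k))]
    [C₂.Over (Spec (CommRingCat.of k))]
    (h₁ : Curve.IsSmoothProperCurve k C₁ (C₁ ↘ Spec (CommRingCat.of k)))
    (h₂ : Curve.IsSmoothProperCurve k C₂ (C₂ ↘ Spec (CommRingCat.of k)))
    (x : Spec (CommRingCat.of k) ⟶ C₁) (hx : x ≫ (C₁ ↘ Spec (CommRingCat.of k)) = 𝟙 _)
    (y : Spec (CommRingCat.of k) ⟶ C₂) (hy : y ≫ (C₂ ↘ Spec (CommRingCat.of k)) = 𝟙 _)
    (i₁ : C₁ ⟶ pullback (C₁ ↘ Spec (CommRingCat.of k)) (C₂ ↘ Spec (CommRingCat.of k)))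
    (hi₁ : i₁ ≫ pullback.fst _ _ = 𝟙 C₁ ∧ i₁ ≫ pullback.snd _ _ = (C₁ ↘ Spec (CommRingCat.of k)) ≫ y)
    (i₂ : C₂ ⟶ pullback (C₁ ↘ Spec (CommRingCat.of k)) (C₂ ↘ Spec (CommRingCat.of k)))
    (hi₂ : i₂ ≫ pullback.snd _ _ = 𝟙 C₂ ∧ i₂ ≫ pullback.fst _ _ = (C₂ ↘ Spec (CommRingCat.of k)) ≫ x)
    (L M : (pullback (C₁ ↘ Spec (CommRingCat.of k)) (C₂ ↘ Spec (CommRingCat.of k))).Modules)
    (hL : PicF.IsInvertible L)
    (hM : Nonempty (CohB1.tensorMod L M ≅ Coh.structureModule _)) :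
    letI : (pullback (C₁ ↘ Spec (CommRingCat.of k)) (C₂ ↘ Spec (CommRingCat.of k))).Over
        (Spec (CommRingCat.of k)) := ⟨pullback.fst _ _ ≫ (C₁ ↘ Spec (CommRingCat.of k))⟩
    FGA.intNum k (pullback (C₁ ↘ Spec (CommRingCat.of k)) (C₂ ↘ Spec (CommRingCat.of k))) 2 ![M, M]
        (Coh.structureModule _) ≤
      2 * Curv2.deg k C₁ ((Scheme.Modules.pullback i₁).obj L) 1 *
        Curv2.deg k C₂ ((Scheme.Modules.pullback i₂).obj L) 1 := by
  letI : (pullback (C₁ ↘ Spec (CommRingCat.of k)) (C₂ ↘ Spec (CommRingCat.of k))).Over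
      (Spec (CommRingCat.of k)) := ⟨pullback.fst _ _ ≫ (C₁ ↘ Spec (CommRingCat.of k))⟩
  obtain ⟨hP, hS, hI, hdim, A₁, A₂, hA₁, hA₂, h11, h22, h12, hdeg⟩ :=
    CastSev.exists_fibre_classes k h₁ h₂ x hx y hy i₁ hi₁ i₂ hi₂
  haveI := hP
  haveI := hS
  haveI := hI
  obtain ⟨hMi, hc⟩ := CurveOnSurf.isInvertible_of_inverse (L := M) (I := L) hL
    ⟨(PicMul.comm M L).some ≪≫ hM.some⟩
  have hMM : SurfPairing.pair k (PicF.cl M) (PicF.cl M) = SurfPairing.pair k (PicF.cl L) (PicF.cl L) := by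
    have h := (mul_comm _ _).trans hc
    rw [SurfPairing.pair_inv k hdim.le hMi hL hMi h, SurfPairing.pair_comm,
      SurfPairing.pair_inv k hdim.le hL hL hMi h, neg_neg]
  rw [SurfPairing.intNum_eq_pair k hdim.le hMi hMi, hMM, (hdeg hL).1, (hdeg hL).2]
  have h := CastSev.defect_nonneg k hdim hA₁ hA₂ h11 h22 h12 hL
  linarith

end Groth.Agent.S13076
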