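import Groth.Statements.S13079
import Groth.Agent.SGA1Q.BaseChange
import Groth.Agent.SGA1Q.Orbits

set_option autoImplicit false
universe u
open CategoryTheory AlgebraicGeometry Limits
open Zeta

namespace Groth.Agent.S13079

open Groth.Agent

/-- Suppose the finite groups G and H act by algebraic k-automorphisms on schemes X and Y of finite type
over k, both admitting quotients X → X/G and Y → Y/H (equivalently, covered by invariant affine
opens). Then X × Y has the same property for the product action of G × H and (X × Y)/(G × H) ≅ X/G ×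
Y/H: the morphism X ×_k Y → X/G ×_k Y/H with components the two quotient maps is a quotient for the
product action. The product action θ and that morphism π are pinned by their composites with the
projections. -/
theorem result {k : Type u} [Field k] {G H : Type u} [Group G] [Finite G] [Group H]
    [Finite H] {X Y XG YH : Scheme.{u}} (fX : X ⟶ Spec (CommRingCat.of k))
    (fY : Y ⟶ Spec (CommRingCat.of k)) [LocallyOfFiniteType fX] [QuasiCompact fX]
    [LocallyOfFiniteType fY] [QuasiCompact fY] (gX : XG ⟶ Spec (CommRingCat.of k))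
    (gY : YH ⟶ Spec (CommRingCat.of k)) (ρ : G →* Aut X) (σ : H →* Aut Y)
    (hρ : ∀ g, (ρ g).hom ≫ fX = fX) (hσ : ∀ h, (σ h).hom ≫ fY = fY)
    (p : X ⟶ XG) (hp : p ≫ gX = fX) (q : Y ⟶ YH) (hq : q ≫ gY = fY)
    (hP : SGA1.IsQuot ρ p) (hQ : SGA1.IsQuot σ q)
    (θ : G × H →* Aut (pullback fX fY))
    (hθ1 : ∀ gh : G × H, (θ gh).hom ≫ pullback.fst fX fY = pullback.fst fX fY ≫ (ρ gh.1).hom)
    (hθ2 : ∀ gh : G × H, (θ gh).hom ≫ pullback.snd fX fY = pullback.snd fX fY ≫ (σ gh.2).hom)
    (π : pullback fX fY ⟶ pullback gX gY) (hπ1 : π ≫ pullback.fst gX gY = pullback.fst fX fY ≫ p)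
    (hπ2 : π ≫ pullback.snd gX gY = pullback.snd fX fY ≫ q) :
    SGA1.IsQuot θ π := by

  haveI : Flat fY := inferInstance
  haveI : Flat gX := inferInstance
  -- the intermediate scheme XG ×_k Y and the two partial actions
  let π₁ : pullback fX fY ⟶ pullback gX fY :=
    pullback.lift (pullback.fst fX fY ≫ p) (pullback.snd fX fY)
      (by rw [Category.assoc, hp, pullback.condition])
  let π₂ : pullback gX fY ⟶ pullback gX gY :=
    pullback.lift (pullback.fst gX fY) (pullback.snd gX fY ≫ q)
      (by rw [Category.assoc, hq, pullback.condition])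
  have hsq₁ : IsPullback (pullback.fst fX fY) π₁ p (pullback.fst gX fY) := by
    refine IsPullback.of_bot ?_ (pullback.lift_fst _ _ _).symm (IsPullback.of_hasPullback gX fY)
    rw [pullback.lift_snd, hp]
    exact IsPullback.of_hasPullback fX fY
  have hsq₂ : IsPullback (pullback.snd gX fY) π₂ q (pullback.snd gX gY) := by
    refine IsPullback.of_bot ?_ (pullback.lift_snd _ _ _).symm (IsPullback.of_hasPullback gX gY).flip
    rw [pullback.lift_fst, hq]
    exact (IsPullback.of_hasPullback gX fY).flip
  let θG : G →* Aut (pullback fX fY) := θ.comp (MonoidHom.inl G H)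
  let σ₁ : H →* Aut (pullback gX fY) :=
    { toFun := fun h =>
        { hom := pullback.lift (pullback.fst gX fY) (pullback.snd gX fY ≫ (σ h).hom)
            (by rw [Category.assoc, hσ h, pullback.condition])
          inv := pullback.lift (pullback.fst gX fY) (pullback.snd gX fY ≫ (σ h⁻¹).hom)
            (by rw [Category.assoc, hσ h⁻¹, pullback.condition])
          hom_inv_id := by
            apply pullback.hom_ext
            · simp only [pullback.lift_fst, pullback.lift_snd, pullback.lift_fst_assoc, pullback.lift_snd_assoc, Category.assoc, Category.id_comp]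
            · simp only [pullback.lift_fst, pullback.lift_snd, pullback.lift_fst_assoc, pullback.lift_snd_assoc, Category.assoc, Category.id_comp, ← SGA1Q.hom_mul σ, SGA1Q.hom_one σ, inv_mul_cancel, mul_inv_cancel, Category.comp_id]
          inv_hom_id := by
            apply pullback.hom_ext
            · simp only [pullback.lift_fst, pullback.lift_snd, pullback.lift_fst_assoc, pullback.lift_snd_assoc, Category.assoc, Category.id_comp]
            · simp only [pullback.lift_fst, pullback.lift_snd, pullback.lift_fst_assoc, pullback.lift_snd_assoc, Category.assoc, Category.id_comp, ← SGA1Q.hom_mul σ, SGA1Q.hom_one σ, inv_mul_cancel, mul_inv_cancel, Category.comp_id] }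
      map_one' := by
        ext1
        show pullback.lift _ _ _ = 𝟙 _
        apply pullback.hom_ext <;>
          simp only [pullback.lift_fst, pullback.lift_snd, pullback.lift_fst_assoc, pullback.lift_snd_assoc, Category.assoc, Category.id_comp, SGA1Q.hom_one σ, Category.comp_id]
      map_mul' := fun a b => by
        ext1
        show pullback.lift _ _ _ = pullback.lift _ _ _ ≫ pullback.lift _ _ _
        apply pullback.hom_ext <;>
          simp only [pullback.lift_fst, pullback.lift_snd, pullback.lift_fst_assoc, pullback.lift_snd_assoc, Category.assoc, SGA1Q.hom_mul σ] }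
  haveI : Flat (pullback.fst gX fY) := inferInstance
  haveI : Flat (pullback.snd gX gY) := inferInstance
  have hG1 : ∀ g : G, (θG g).hom ≫ π₁ = π₁ := fun g => by
    apply pullback.hom_ext
    · rw [Category.assoc, pullback.lift_fst]
      show (θ (g, 1)).hom ≫ _ = _
      rw [reassoc_of% (hθ1 (g, 1)), hP.inv]
    · rw [Category.assoc, pullback.lift_snd]
      exact (hθ2 (g, 1)).trans (by rw [SGA1Q.hom_one σ, Category.comp_id])
  have h1 : SGA1.IsQuot θG π₁ := SGA1Q.isQuot_baseChange hP (pullback.fst gX fY)
    (pullback.fst fX fY) π₁ hsq₁ θG (fun g => hθ1 (g, 1)) hG1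
  have hH2 : ∀ h : H, (σ₁ h).hom ≫ π₂ = π₂ := fun h => by
    apply pullback.hom_ext
    · simp only [σ₁, π₂, MonoidHom.coe_mk, OneHom.coe_mk, pullback.lift_fst, pullback.lift_snd, pullback.lift_fst_assoc, pullback.lift_snd_assoc, Category.assoc]
    · simp only [σ₁, π₂, MonoidHom.coe_mk, OneHom.coe_mk, pullback.lift_fst, pullback.lift_snd, pullback.lift_fst_assoc, pullback.lift_snd_assoc, Category.assoc, hQ.inv h]
  have h2 : SGA1.IsQuot σ₁ π₂ := SGA1Q.isQuot_baseChange hQ (pullback.snd gX gY)
    (pullback.snd gX fY) π₂ hsq₂ σ₁ (fun h => pullback.lift_snd _ _ _) hH2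
  have hθH : ∀ gh : G × H, (θ gh).hom ≫ π₁ = π₁ ≫ (σ₁ gh.2).hom := fun gh => by
    apply pullback.hom_ext
    · simp only [σ₁, π₁, MonoidHom.coe_mk, OneHom.coe_mk, pullback.lift_fst, pullback.lift_snd, pullback.lift_fst_assoc, pullback.lift_snd_assoc, Category.assoc, reassoc_of% (hθ1 gh), hP.inv]
    · simp only [σ₁, π₁, MonoidHom.coe_mk, OneHom.coe_mk, pullback.lift_fst, pullback.lift_snd, pullback.lift_fst_assoc, pullback.lift_snd_assoc, Category.assoc, hθ2 gh]
  have hπ : π = π₁ ≫ π₂ := by
    apply pullback.hom_ext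
    · simp only [π₁, π₂, pullback.lift_fst, pullback.lift_snd, pullback.lift_fst_assoc, pullback.lift_snd_assoc, Category.assoc, hπ1]
    · simp only [π₁, π₂, pullback.lift_fst, pullback.lift_snd, pullback.lift_fst_assoc, pullback.lift_snd_assoc, Category.assoc, hπ2]
  subst hπ
  haveI := h1.affine
  haveI := h2.affine
  have hinv : ∀ gh : G × H, (θ gh).hom ≫ π₁ ≫ π₂ = π₁ ≫ π₂ := fun gh => by
    rw [reassoc_of% (hθH gh), hH2]
  refine ⟨inferInstance, hinv, fun U => ?_, fun U s => ⟨?_, fun hs => ?_⟩⟩
  · rw [Scheme.Hom.comp_app]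
    exact (h1.injective _).comp (h2.injective U)
  · rintro ⟨t, rfl⟩ g
    exact SGA1Q.appLE_app_of_inv hinv U g t
  · obtain ⟨t, rfl⟩ := (h1.range_iff (π₂ ⁻¹ᵁ U) s).2 fun g => hs (g, 1)
    obtain ⟨u, rfl⟩ := (h2.range_iff U t).2 fun h => by
      apply h1.injective
      refine Eq.trans ?_ (hs (1, h))
      have e : (σ₁ h).hom.appLE _ _ (SGA1.preimage_le_of_inv σ₁ π₂ hH2 h U) ≫ π₁.app (π₂ ⁻¹ᵁ U) =
          π₁.app (π₂ ⁻¹ᵁ U) ≫ (θ (1, h)).hom.appLE _ _
            (SGA1.preimage_le_of_inv θ (π₁ ≫ π₂) hinv (1, h) U) := by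
        rw [Scheme.Hom.app_eq_appLE, Scheme.Hom.appLE_comp_appLE]
        exact (Scheme.Hom.appLE_comp_appLE _ _ _ _ _ _ _).trans
          (SGA1Q.appLE_congr_hom (hθH (1, h)) _ _) |>.symm
      exact congr(($e).hom t)
    exact ⟨u, by rw [Scheme.Hom.comp_app]; rfl⟩

end Groth.Agent.S13079
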