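import Groth.Statements.S13080
import Groth.Agent.SGA1Q.Orbits

set_option autoImplicit false
universe u
open CategoryTheory AlgebraicGeometry Limits
open Zeta

namespace Groth.Agent.S13080

open Groth.Agent

/-- Let G be a finite group acting by algebraic automorphisms over k on a scheme X of finite type over k
admitting a quotient p : X → X/G, H ⊆ G a subgroup and Y ⊆ X an open subset preserved by H such that
X is the disjoint union of the translates Y g over the cosets of G mod H. Then the natural morphism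
Y/H → X/G is an isomorphism: Y → X/G is a quotient of Y by H. The action of H on Y is pinned by
compatibility with the inclusion Y → X; the coset condition is stated as: the translates of Y cover
X, and g(Y) is disjoint from Y for g ∉ H. -/
theorem result {k : Type u} [Field k] {G : Type u} [Group G]
    [Finite G] {X XG : Scheme.{u}} (fX : X ⟶ Spec (CommRingCat.of k)) [LocallyOfFiniteType fX]
    [QuasiCompact fX] (ρ : G →* Aut X) (hρ : ∀ g, (ρ g).hom ≫ fX = fX) (p : X ⟶ XG)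
    (hP : SGA1.IsQuot ρ p) (H : Subgroup G) (Y : X.Opens)
    (hcov : ∀ x : X, ∃ g : G, x ∈ (ρ g).hom.base '' (Y : Set X))
    (hdisj : ∀ g : G, g ∉ H → Disjoint ((ρ g).hom.base '' (Y : Set X)) (Y : Set X))
    (ρY : H →* Aut (Y : Scheme.{u})) (hρY : ∀ h : H, (ρY h).hom ≫ Y.ι = Y.ι ≫ (ρ (h : G)).hom) :
    SGA1.IsQuot ρY (Y.ι ≫ p) := by

  haveI := hP.affine
  have hYst : ∀ (h : H) (y : X), y ∈ Y → (ρ (h : G)).hom y ∈ Y := fun h y hy => by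
    let w : (Y : Scheme.{u}) := (⟨y, hy⟩ : Y)
    have e : ((ρY h).hom ≫ Y.ι) w = (Y.ι ≫ (ρ (h : G)).hom) w := by rw [hρY h]
    show (Y.ι ≫ (ρ (h : G)).hom) w ∈ Y
    rw [← e]
    exact ((ρY h).hom w).2
  have hopen : IsOpen ((Y : Set X)ᶜ) := by
    rw [isOpen_iff_mem_nhds]
    intro x hx
    obtain ⟨g, y, hy, rfl⟩ := hcov x
    have hg : g ∉ H := fun hg => hx (hYst ⟨g, hg⟩ y hy)
    refine Filter.mem_of_superset (IsOpen.mem_nhds (s := (ρ g).hom.base '' (Y : Set X)) ?_ ⟨y, hy, rfl⟩)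
      (fun z hz => Set.disjoint_left.1 (hdisj g hg) hz)
    exact (Scheme.Hom.isOpenEmbedding (ρ g).hom).isOpenMap _ Y.2
  haveI : IsClosedImmersion Y.ι := IsClosedImmersion.of_isPreimmersion Y.ι
    (by rw [Scheme.Opens.range_ι]; exact isOpen_compl_iff.1 hopen)
  have hinv : ∀ h : H, (ρY h).hom ≫ Y.ι ≫ p = Y.ι ≫ p := fun h => by
    rw [reassoc_of% (hρY h), hP.inv]
  -- translates of the open piece
  have hW : ∀ U : XG.Opens, (Y.ι ≫ p) ⁻¹ᵁ U ≤ Y.ι ⁻¹ᵁ (Y ⊓ p ⁻¹ᵁ U) := fun U w hw => ⟨w.2, hw⟩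
  have hWeq : ∀ U : XG.Opens, (Y.ι ≫ p) ⁻¹ᵁ U = Y.ι ⁻¹ᵁ (Y ⊓ p ⁻¹ᵁ U) := fun U =>
    le_antisymm (hW U) fun w hw => hw.2
  have hbij : ∀ U : XG.Opens, Function.Bijective
      (Y.ι.appLE (Y ⊓ p ⁻¹ᵁ U) ((Y.ι ≫ p) ⁻¹ᵁ U) (hW U)).hom := fun U => by
    have key : ∀ (W : (Y : Scheme.{u}).Opens) (e : W = Y.ι ⁻¹ᵁ (Y ⊓ p ⁻¹ᵁ U)),
        Function.Bijective (Y.ι.appLE (Y ⊓ p ⁻¹ᵁ U) W e.le).hom := by
      rintro W rfl
      rw [← Scheme.Hom.app_eq_appLE]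
      haveI := Y.ι.isIso_app (Y ⊓ p ⁻¹ᵁ U) (by rw [Scheme.Opens.opensRange_ι]; exact inf_le_left)
      exact ConcreteCategory.bijective_of_isIso _
    exact key _ (hWeq U)
  have hcover : ∀ U : XG.Opens, p ⁻¹ᵁ U ≤ ⨆ g : G, (ρ g).hom ⁻¹ᵁ (Y ⊓ p ⁻¹ᵁ U) := fun U x hx => by
    obtain ⟨g, y, hy, rfl⟩ := hcov x
    refine TopologicalSpace.Opens.mem_iSup.2 ⟨g⁻¹, ?_⟩
    have e : (ρ g⁻¹).hom ((ρ g).hom y) = y := by
      rw [← Scheme.Hom.comp_apply, ← SGA1Q.hom_mul, inv_mul_cancel, SGA1Q.hom_one]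
      rfl
    show (ρ g⁻¹).hom ((ρ g).hom y) ∈ (Y ⊓ p ⁻¹ᵁ U : X.Opens)
    rw [e]
    refine ⟨hy, ?_⟩
    show p y ∈ U
    rw [← show p ((ρ g).hom y) = p y from congr(($(hP.inv g)).base y)]
    exact hx
  have hVle : ∀ (U : XG.Opens) (g : G), (ρ g).hom ⁻¹ᵁ (Y ⊓ p ⁻¹ᵁ U) ≤ p ⁻¹ᵁ U := fun U g x hx => by
    show p x ∈ U
    rw [← show p ((ρ g).hom x) = p x from congr(($(hP.inv g)).base x)]
    exact hx.2
  refine ⟨inferInstance, hinv, fun U a b hab => ?_, fun U s => ⟨?_, fun hs => ?_⟩⟩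
  · refine hP.injective U ?_
    have h1 : (p.appLE U (Y ⊓ p ⁻¹ᵁ U) inf_le_right).hom a =
        (p.appLE U (Y ⊓ p ⁻¹ᵁ U) inf_le_right).hom b := by
      apply (hbij U).1
      have e : p.appLE U (Y ⊓ p ⁻¹ᵁ U) inf_le_right ≫
          Y.ι.appLE (Y ⊓ p ⁻¹ᵁ U) ((Y.ι ≫ p) ⁻¹ᵁ U) (hW U) = (Y.ι ≫ p).app U := by
        rw [Scheme.Hom.appLE_comp_appLE, ← Scheme.Hom.app_eq_appLE]
      exact (congr(($e).hom a)).trans (hab.trans (congr(($e).hom b)).symm)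
    refine X.sheaf.eq_of_locally_eq' _ (p ⁻¹ᵁ U) (fun g => homOfLE (hVle U g)) (hcover U) _ _ fun g => ?_
    have e : p.app U ≫ X.presheaf.map (homOfLE (hVle U g)).op =
        p.appLE U (Y ⊓ p ⁻¹ᵁ U) inf_le_right ≫ (ρ g).hom.appLE _ _ le_rfl := by
      rw [Scheme.Hom.appLE_comp_appLE, SGA1Q.appLE_congr_hom (hP.inv g), Scheme.Hom.app_eq_appLE,
        Scheme.Hom.appLE_map]
    refine (congr(($e).hom a)).trans (Eq.trans ?_ (congr(($e).hom b)).symm)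
    exact congrArg ((ρ g).hom.appLE _ _ le_rfl).hom h1
  · rintro ⟨t, rfl⟩ g
    exact SGA1Q.appLE_app_of_inv hinv U g t
  · obtain ⟨s₀, rfl⟩ := (hbij U).2 s
    have hOst : ∀ h : H, Y ⊓ p ⁻¹ᵁ U ≤ (ρ (h : G)).hom ⁻¹ᵁ (Y ⊓ p ⁻¹ᵁ U) := fun h x hx =>
      ⟨hYst h x hx.1, SGA1.preimage_le_of_inv ρ p hP.inv _ U hx.2⟩
    have hs₀ : ∀ h : H, ((ρ (h : G)).hom.appLE _ _ (hOst h)).hom s₀ = s₀ := fun h => by
      apply (hbij U).1
      refine Eq.trans ?_ (hs h)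
      have e : (ρ (h : G)).hom.appLE _ _ (hOst h) ≫ Y.ι.appLE (Y ⊓ p ⁻¹ᵁ U) _ (hW U) =
          Y.ι.appLE (Y ⊓ p ⁻¹ᵁ U) _ (hW U) ≫
            (ρY h).hom.appLE _ _ (SGA1.preimage_le_of_inv ρY _ hinv h U) := by
        rw [Scheme.Hom.appLE_comp_appLE, Scheme.Hom.appLE_comp_appLE,
          SGA1Q.appLE_congr_hom (hρY h)]
      exact congr(($e).hom s₀)
    obtain ⟨t₀, ht₀, -⟩ := X.sheaf.existsUnique_gluing'
      (fun g : G => (ρ g).hom ⁻¹ᵁ (Y ⊓ p ⁻¹ᵁ U)) (p ⁻¹ᵁ U) (fun g => homOfLE (hVle U g))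
      (hcover U) (fun g => ((ρ g).hom.appLE _ _ le_rfl).hom s₀) fun g g' => by
      by_cases hgg : g' * g⁻¹ ∈ H
      · have e : (ρ g').hom = (ρ g).hom ≫ (ρ ((⟨g' * g⁻¹, hgg⟩ : H) : G)).hom := by
          rw [← SGA1Q.hom_mul, inv_mul_cancel_right]
        have e1 : (ρ ((⟨g' * g⁻¹, hgg⟩ : H) : G)).hom.appLE _ _ (hOst ⟨g' * g⁻¹, hgg⟩) ≫
            (ρ g).hom.appLE _ _ le_rfl ≫ X.presheaf.map (homOfLE (inf_le_left
              (a := (ρ g).hom ⁻¹ᵁ (Y ⊓ p ⁻¹ᵁ U)) (b := (ρ g').hom ⁻¹ᵁ (Y ⊓ p ⁻¹ᵁ U)))).op =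
            (ρ g').hom.appLE _ _ le_rfl ≫ X.presheaf.map (homOfLE inf_le_right).op := by
          rw [Scheme.Hom.appLE_map, Scheme.Hom.appLE_map, Scheme.Hom.appLE_comp_appLE,
            SGA1Q.appLE_congr_hom e.symm]
        refine Eq.trans ?_ (congr(($e1).hom s₀))
        exact congrArg _ (congrArg ((ρ g).hom.appLE _ _ le_rfl).hom (hs₀ ⟨_, hgg⟩).symm)
      · refine X.sheaf.eq_of_locally_eq' (fun i : PEmpty.{u + 1} => (⊥ : X.Opens)) _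
          (fun i => homOfLE bot_le) (fun x hx => ?_) _ _ (fun i => i.elim)
        exfalso
        refine Set.disjoint_left.1 (hdisj _ hgg) ⟨(ρ g).hom x, hx.1.1, ?_⟩ hx.2.1
        rw [← Scheme.Hom.comp_apply, ← SGA1Q.hom_mul, inv_mul_cancel_right]
    have hinvt : t₀ ∈ Set.range (p.app U).hom := by
      refine (hP.range_iff U t₀).2 ?_
      intro k
      refine X.sheaf.eq_of_locally_eq' _ (p ⁻¹ᵁ U) (fun g => homOfLE (hVle U g)) (hcover U) _ _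
        fun g => ?_
      have hcomp : (ρ k).hom ≫ (ρ (g * k⁻¹)).hom = (ρ g).hom := by
        rw [← SGA1Q.hom_mul, inv_mul_cancel_right]
      have hle : (ρ g).hom ⁻¹ᵁ (Y ⊓ p ⁻¹ᵁ U) ≤
          (ρ k).hom ⁻¹ᵁ ((ρ (g * k⁻¹)).hom ⁻¹ᵁ (Y ⊓ p ⁻¹ᵁ U)) := by
        rw [← Scheme.Hom.comp_preimage, hcomp]
      have e : (ρ k).hom.appLE _ _ (SGA1.preimage_le_of_inv ρ p hP.inv k U) ≫
          X.presheaf.map (homOfLE (hVle U g)).op =
          X.presheaf.map (homOfLE (hVle U (g * k⁻¹))).op ≫ (ρ k).hom.appLE _ _ hle := by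
        rw [Scheme.Hom.appLE_map, Scheme.Hom.map_appLE]
      refine (congr(($e).hom t₀)).trans ?_
      refine (congrArg ((ρ k).hom.appLE _ _ hle).hom (ht₀ (g * k⁻¹))).trans ?_
      refine Eq.trans ?_ (ht₀ g).symm
      have e2 : (ρ (g * k⁻¹)).hom.appLE (Y ⊓ p ⁻¹ᵁ U) _ le_rfl ≫ (ρ k).hom.appLE _ _ hle =
          (ρ g).hom.appLE _ _ le_rfl := by
        rw [Scheme.Hom.appLE_comp_appLE, SGA1Q.appLE_congr_hom hcomp]
      exact congr(($e2).hom s₀)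
    obtain ⟨t, rfl⟩ := hinvt
    refine ⟨t, ?_⟩
    have hle1 : (Y.ι ≫ p) ⁻¹ᵁ U ≤ Y.ι ⁻¹ᵁ ((ρ 1).hom ⁻¹ᵁ (Y ⊓ p ⁻¹ᵁ U)) := by
      rw [SGA1Q.hom_one]
      exact hW U
    have e : (Y.ι ≫ p).app U = p.app U ≫ X.presheaf.map (homOfLE (hVle U 1)).op ≫
        Y.ι.appLE _ _ hle1 := by
      rw [Scheme.Hom.map_appLE, Scheme.Hom.app_eq_appLE, Scheme.Hom.app_eq_appLE,
        Scheme.Hom.appLE_comp_appLE]
    refine (congr(($e).hom t)).trans ?_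
    refine (congrArg (Y.ι.appLE _ _ hle1).hom (ht₀ 1)).trans ?_
    have e2 : (ρ 1).hom.appLE (Y ⊓ p ⁻¹ᵁ U) _ le_rfl ≫ Y.ι.appLE _ _ hle1 =
        Y.ι.appLE _ _ (hW U) := by
      rw [Scheme.Hom.appLE_comp_appLE, SGA1Q.appLE_congr_hom (by rw [SGA1Q.hom_one, Category.comp_id])]
    exact congr(($e2).hom s₀)

end Groth.Agent.S13080
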