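import Groth.Statements.S13081
import Groth.Agent.SGA1Q.Properties
import Groth.Agent.SGA1Q.Orbits

set_option autoImplicit false
universe u
open CategoryTheory AlgebraicGeometry Limits
open Zeta

namespace Groth.Agent.S13081

open Groth.Agent

/-- Let G be a finite group acting by algebraic automorphisms over k on a scheme X of finite type over k
admitting a quotient X → X/G, and H a normal subgroup of G. Then X/H carries an induced action of
G/H and its quotient by this action is X/G: the induced morphism r : X/H → X/G is a quotient of X/H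
by G/H. The induced action ρ̄ is pinned by p_H ≫ ρ̄(ḡ) = ρ(g) ≫ p_H and r by p_H ≫ r = p. -/
theorem result {k : Type u} [Field k] {G : Type u} [Group G]
    [Finite G] {X XG XH : Scheme.{u}} (fX : X ⟶ Spec (CommRingCat.of k)) [LocallyOfFiniteType fX]
    [QuasiCompact fX] (ρ : G →* Aut X) (hρ : ∀ g, (ρ g).hom ≫ fX = fX) (p : X ⟶ XG)
    (hP : SGA1.IsQuot ρ p) (H : Subgroup G) [H.Normal] (pH : X ⟶ XH)
    (hPH : SGA1.IsQuot (ρ.comp H.subtype) pH) (ρbar : G ⧸ H →* Aut XH)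
    (hρbar : ∀ g : G, pH ≫ (ρbar (QuotientGroup.mk g)).hom = (ρ g).hom ≫ pH)
    (r : XH ⟶ XG) (hr : pH ≫ r = p) :
    SGA1.IsQuot ρbar r := by

  haveI := SGA1Q.epi_of_surjective_of_injective pH (SGA1Q.surjective hPH) hPH.injective
  haveI := hP.affine
  have hinv : ∀ g : G ⧸ H, (ρbar g).hom ≫ r = r := fun g => by
    obtain ⟨g, rfl⟩ := QuotientGroup.mk_surjective g
    rw [← cancel_epi pH, reassoc_of% (hρbar g), hr, hP.inv g]
  have happ : ∀ U : XG.Opens, r.app U ≫ pH.app (r ⁻¹ᵁ U) = p.appLE U (pH ⁻¹ᵁ (r ⁻¹ᵁ U))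
      (by rw [← Scheme.Hom.comp_preimage, hr]) := fun U => by
    rw [Scheme.Hom.app_eq_appLE, Scheme.Hom.app_eq_appLE, Scheme.Hom.appLE_comp_appLE,
      SGA1Q.appLE_congr_hom hr]
  have heq : ∀ U : XG.Opens, pH ⁻¹ᵁ (r ⁻¹ᵁ U) = p ⁻¹ᵁ U := fun U => by
    rw [← Scheme.Hom.comp_preimage, hr]
  refine ⟨(SGA1Q.isAffineHom_iff_of_isQuot hPH hr).1 inferInstance, hinv, fun U a b hab => ?_,
    fun U s => ⟨?_, fun hs => ?_⟩⟩
  · have h2 := congrArg (pH.app (r ⁻¹ᵁ U)).hom hab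
    have e := happ U
    have ea := congr(($e).hom a)
    have eb := congr(($e).hom b)
    refine hP.injective U ?_
    have h3 : (p.appLE U (pH ⁻¹ᵁ (r ⁻¹ᵁ U)) (heq U).le).hom a =
        (p.appLE U (pH ⁻¹ᵁ (r ⁻¹ᵁ U)) (heq U).le).hom b := ea.symm.trans (h2.trans eb)
    have key : ∀ (O : X.Opens) (h : O = p ⁻¹ᵁ U),
        (p.appLE U O h.le).hom a = (p.appLE U O h.le).hom b →
          (p.app U).hom a = (p.app U).hom b := by
      rintro O rfl h
      rw [Scheme.Hom.app_eq_appLE]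
      exact h
    exact key _ (heq U) h3
  · rintro ⟨t, rfl⟩ g
    exact SGA1Q.appLE_app_of_inv hinv U g t
  · have hG : (pH.app (r ⁻¹ᵁ U)).hom s ∈
        Set.range (p.appLE U (pH ⁻¹ᵁ (r ⁻¹ᵁ U)) (heq U).le).hom := by
      rw [SGA1Q.range_appLE_iff hP U _ (heq U)]
      intro g e
      have h1 : (ρbar (QuotientGroup.mk g)).hom.appLE (r ⁻¹ᵁ U) (r ⁻¹ᵁ U)
            (SGA1.preimage_le_of_inv ρbar r hinv _ U) ≫ pH.app (r ⁻¹ᵁ U) =
          pH.app (r ⁻¹ᵁ U) ≫ (ρ g).hom.appLE (pH ⁻¹ᵁ (r ⁻¹ᵁ U)) (pH ⁻¹ᵁ (r ⁻¹ᵁ U)) e := by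
        rw [Scheme.Hom.app_eq_appLE, Scheme.Hom.appLE_comp_appLE, Scheme.Hom.appLE_comp_appLE,
          SGA1Q.appLE_congr_hom (hρbar g)]
      refine (congr(($h1).hom s)).symm.trans ?_
      exact congrArg (pH.app (r ⁻¹ᵁ U)).hom (hs (QuotientGroup.mk g))
    obtain ⟨t, ht⟩ := hG
    exact ⟨t, hPH.injective _ ((congr(($(happ U)).hom t)).trans ht)⟩

end Groth.Agent.S13081
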