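import Groth.Statements.S13082
import Groth.Agent.SGA1Q.GeomTrans
import Groth.Agent.SGA1Q.Residue
import Groth.Agent.SGA1Q.Orbits
import Groth.Agent.H23.QCCrit

set_option autoImplicit false
universe u
open CategoryTheory AlgebraicGeometry Limits
open Zeta

namespace Groth.Agent.S13082

open Groth.Agent

/-- Let X be a scheme of finite type over k with an action of a finite group G by algebraic
automorphisms over k admitting a quotient π : X → X/G, and W a locally closed subscheme of X on
which G induces an action. Then the canonical morphism W/G → π(W) is radicial and surjective: the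
induced morphism φ : W/G → X/G is universally injective with set-theoretic image π(W). The action on
W is pinned along the immersion j : W → X, φ by p_W ≫ φ = j ≫ π for a quotient p_W : W → W/G. -/
theorem result {k : Type u} [Field k] {G : Type u}
    [Group G] [Finite G] {X XG W WG : Scheme.{u}} (fX : X ⟶ Spec (CommRingCat.of k))
    [LocallyOfFiniteType fX] [QuasiCompact fX] (ρ : G →* Aut X) (hρ : ∀ g, (ρ g).hom ≫ fX = fX)
    (p : X ⟶ XG) (hP : SGA1.IsQuot ρ p) (j : W ⟶ X) [IsImmersion j] (ρW : G →* Aut W)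
    (hρW : ∀ g, (ρW g).hom ≫ j = j ≫ (ρ g).hom) (pW : W ⟶ WG) (hPW : SGA1.IsQuot ρW pW)
    (φ : WG ⟶ XG) (hφ : pW ≫ φ = j ≫ p) :
    UniversallyInjective φ ∧ Set.range φ.base = p.base '' Set.range j.base := by

  have hpW : Function.Surjective pW.base := SGA1Q.surjective hPW
  obtain ⟨gX, hgX, -⟩ := SGA1Q.desc_existsUnique_isQuot hPW (j ≫ fX)
    (fun g => by rw [reassoc_of% (hρW g), hρ g])
  haveI : LocallyOfFiniteType (pW ≫ gX) := hgX ▸ inferInstance
  haveI : LocallyOfFiniteType pW := locallyOfFiniteType_of_comp pW gX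
  haveI : Surjective pW := ⟨hpW⟩
  refine ⟨(UniversallyInjective.iff_diagonal φ).2 ⟨fun z => ?_⟩, ?_⟩
  · let Ω := AlgebraicClosure ((pullback φ φ).residueField z)
    obtain ⟨τ, hτz⟩ : ∃ τ : Spec (CommRingCat.of Ω) ⟶ pullback φ φ,
        τ (IsLocalRing.closedPoint Ω) = z :=
      ⟨Spec.map (CommRingCat.ofHom (algebraMap ((pullback φ φ).residueField z) Ω)) ≫
        (pullback φ φ).fromSpecResidueField z, Scheme.fromSpecResidueField_apply z _⟩
    obtain ⟨w₁, hw₁⟩ := H23.QCCrit.exists_geomPoint_lift pW Ω (τ ≫ pullback.fst φ φ)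
    obtain ⟨w₂, hw₂⟩ := H23.QCCrit.exists_geomPoint_lift pW Ω (τ ≫ pullback.snd φ φ)
    have h0 : (w₁ ≫ j) ≫ p = (w₂ ≫ j) ≫ p := by
      rw [Category.assoc, Category.assoc, ← hφ, ← Category.assoc, ← Category.assoc, hw₁, hw₂,
        Category.assoc, Category.assoc, pullback.condition]
    obtain ⟨g, hg⟩ := SGA1Q.geomTransitive p ρ hP.inv (fun a b h => (SGA1Q.orbit_iff hP a b).1 h)
      (fun a => (SGA1Q.normal_and_stabilizer_surjective hP a).1) (fun a σ hσ => by
        obtain ⟨g, e, he⟩ := (SGA1Q.normal_and_stabilizer_surjective hP a).2 σ hσ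
        refine ⟨g, ?_⟩
        rw [he, Spec.map_comp, Category.assoc,
          ← Scheme.Hom.SpecMap_residueFieldMap_fromSpecResidueField]
        congr 1
        rw [← Iso.symm_hom]
        exact (Scheme.residueFieldCongr_fromSpecResidueField e.symm).symm)
      Ω (w₁ ≫ j) (w₂ ≫ j) h0
    have hgW : w₁ ≫ (ρW g).hom = w₂ := by
      rw [← cancel_mono j, Category.assoc, hρW g, ← Category.assoc, hg]
    have e12 : τ ≫ pullback.fst φ φ = τ ≫ pullback.snd φ φ := by
      rw [← hw₁, ← hw₂, ← hgW, Category.assoc, hPW.inv g]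
    have hdiag : τ = (τ ≫ pullback.fst φ φ) ≫ pullback.diagonal φ := by
      apply pullback.hom_ext
      · rw [Category.assoc, pullback.diagonal_fst, Category.comp_id]
      · rw [Category.assoc, pullback.diagonal_snd, Category.comp_id, e12]
    refine ⟨(τ ≫ pullback.fst φ φ) (IsLocalRing.closedPoint Ω), ?_⟩
    rw [← Scheme.Hom.comp_apply, ← hdiag, hτz]
  · ext y
    constructor
    · rintro ⟨w, rfl⟩
      obtain ⟨v, rfl⟩ := hpW w
      exact ⟨j v, ⟨v, rfl⟩, (congr(($hφ).base v)).symm⟩
    · rintro ⟨_, ⟨v, rfl⟩, rfl⟩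
      exact ⟨pW v, congr(($hφ).base v)⟩

end Groth.Agent.S13082
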