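import Groth.Statements.S13083
import Groth.Agent.S13071
import Groth.Agent.WeilLib.PointCount
import Mathlib.AlgebraicGeometry.AlgClosed.Basic
import Mathlib.AlgebraicGeometry.Morphisms.Integral

set_option autoImplicit false
universe u
open CategoryTheory AlgebraicGeometry Limits
open Zeta

namespace Groth.Agent.S13083

open Groth.Agent

/-- Let X be a variety over a perfect field k, k̄ an algebraic closure and π : X_{k̄} → X the
projection. Sending a closed point x to the sum of the points of π⁻¹(x) induces a bijection between
effective 0-cycles of degree n on X and effective 0-cycles of degree n on X_{k̄} fixed by G(k̄/k).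
Stated for schemes of finite type over k, with 0-cycles as finitely supported ℕ-valued functions on
closed points, the degree on X weighted by the residue degrees [κ(x) : k], the map being c ↦ c ∘ π,
and the Galois automorphisms τ_σ = id × Spec σ pinned by their projections. -/
theorem result {k : Type u} [Field k]
    [PerfectField k] {X : Scheme.{u}} (f : X ⟶ Spec (CommRingCat.of k)) [LocallyOfFiniteType f]
    [QuasiCompact f]
    (τ : (AlgebraicClosure k ≃ₐ[k] AlgebraicClosure k) →
      (pullback f (Spec.map (CommRingCat.ofHom (algebraMap k (AlgebraicClosure k)))) ⟶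
        pullback f (Spec.map (CommRingCat.ofHom (algebraMap k (AlgebraicClosure k))))))
    (hτ1 : ∀ σ, τ σ ≫ pullback.fst f _ = pullback.fst f _)
    (hτ2 : ∀ σ, τ σ ≫ pullback.snd f (Spec.map (CommRingCat.ofHom (algebraMap k (AlgebraicClosure k)))) =
        pullback.snd f _ ≫ Spec.map (CommRingCat.ofHom (σ : AlgebraicClosure k →+* AlgebraicClosure k)))
    (n : ℕ) :
    Set.BijOn
      (fun c : X → ℕ => c ∘ (pullback.fst f (Spec.map (CommRingCat.ofHom
        (algebraMap k (AlgebraicClosure k))))).base)
      {c : X → ℕ | (Function.support c).Finite ∧ (∀ x, c x ≠ 0 → IsClosed ({x} : Set X)) ∧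
        ∑ᶠ x, c x * EGA4loc.residueDegree f x = n}
      {d : ↑(pullback f (Spec.map (CommRingCat.ofHom (algebraMap k (AlgebraicClosure k))))) → ℕ |
        (Function.support d).Finite ∧ (∀ y, d y ≠ 0 → IsClosed ({y} : Set _)) ∧
        ∑ᶠ y, d y = n ∧ ∀ σ y, d ((τ σ).base y) = d y} := by

  classical
  let K := AlgebraicClosure k
  let bk := Spec.map (CommRingCat.ofHom (algebraMap k (AlgebraicClosure k)))
  haveI : Surjective bk := ⟨fun y => ⟨IsLocalRing.closedPoint K, Subsingleton.elim _ _⟩⟩
  haveI : IsIntegralHom bk := IsIntegralHom.SpecMap_iff.2 fun a =>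
    Algebra.IsIntegral.isIntegral (R := k) a
  let π := pullback.fst f bk
  let sn := pullback.snd f bk
  have hπsurj : Function.Surjective π.base := π.surjective
  have hiso : ∀ σ, IsIso (τ σ) := fun σ => by
    have h : ∀ σ : K ≃ₐ[k] K, τ σ ≫ τ σ.symm = 𝟙 _ := fun σ => by
      apply pullback.hom_ext
      · rw [Category.assoc, hτ1, hτ1, Category.id_comp]
      · rw [Category.assoc, hτ2, ← Category.assoc, hτ2, Category.assoc, ← Spec.map_comp,
          Category.id_comp]
        conv_rhs => rw [← Category.comp_id (pullback.snd f bk), ← Spec.map_id]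
        congr 2
        ext a
        exact σ.apply_symm_apply a
    exact ⟨τ σ.symm, h σ, by simpa using h σ.symm⟩
  haveI : JacobsonSpace ↥(pullback f bk) := LocallyOfFiniteType.jacobsonSpace sn
  have horbit : ∀ y y', π y = π y' → ∃ σ, (τ σ).base y = y' := fun y y' h =>
    (S13071.result f τ hτ1 hτ2 y y').1 h
  have hcl : ∀ y, IsClosed ({y} : Set ↥(pullback f bk)) ↔ IsClosed ({π y} : Set X) := fun y => by
    constructor
    · intro h
      simpa using π.isClosedMap _ h
    · intro h
      obtain ⟨y₀, hy₀, hy₀cl⟩ := nonempty_inter_closedPoints (Z := π ⁻¹' {π y}) ⟨y, rfl⟩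
        (h.preimage π.continuous).isLocallyClosed
      obtain ⟨σ, rfl⟩ := horbit y₀ y hy₀
      haveI := hiso σ
      simpa using (τ σ).homeomorph.isClosedMap _ hy₀cl
  have hfib : ∀ x : X, IsClosed ({x} : Set X) → Finite {y // π y = x} ∧
      Nat.card {y // π y = x} = EGA4loc.residueDegree f x := by
    intro x hx
    letI := (VarDim.resHom f x).toAlgebra
    haveI : Module.Finite k (X.residueField x) := by
      have : IsFinite (X.fromSpecResidueField x ≫ f) := by
        rw [isClosed_singleton_iff_isClosedImmersion] at hx
        rw [isFinite_iff_locallyOfFiniteType_of_jacobsonSpace]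
        infer_instance
      rw [WeilLib.fromSpecResidueField_comp, IsFinite.SpecMap_iff] at this
      exact this
    have hcond : ∀ φ : X.residueField x →ₐ[k] K,
        (Spec.map (CommRingCat.ofHom φ.toRingHom) ≫ X.fromSpecResidueField x) ≫ f = 𝟙 _ ≫ bk := by
      intro φ
      rw [Category.assoc, WeilLib.fromSpecResidueField_comp, Category.id_comp, ← Spec.map_comp]
      congr 1
      ext c
      exact φ.commutes c
    let P := fun φ : X.residueField x →ₐ[k] K =>
      pullback.lift (f := f) (g := bk) _ _ (hcond φ)
    have hPπ : ∀ φ, π (P φ (IsLocalRing.closedPoint K)) = x := fun φ => by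
      show (P φ ≫ π) (IsLocalRing.closedPoint K) = x
      rw [pullback.lift_fst]
      exact Scheme.fromSpecResidueField_apply x _
    have hbij : Function.Bijective (fun φ => (⟨P φ (IsLocalRing.closedPoint K), hPπ φ⟩ :
        {y // π y = x})) := by
      constructor
      · intro φ φ' h
        have e : P φ = P φ' := ext_of_apply_closedPoint_eq sn (pullback.lift_snd _ _ _)
          (pullback.lift_snd _ _ _) (congrArg Subtype.val h)
        have e2 := congrArg (fun m => m ≫ π) e
        simp only [P, π, pullback.lift_fst] at e2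
        exact AlgHom.ext fun a => congr(($(Spec.map_injective ((cancel_mono _).1 e2))).hom a)
      · rintro ⟨y, hy⟩
        have hycl : IsClosed ({y} : Set ↥(pullback f bk)) := (hcl y).2 (hy.symm ▸ hx)
        let p := pointOfClosedPoint sn y hycl
        obtain ⟨⟨x', i⟩, hi⟩ := (Scheme.SpecToEquivOfField K X).symm.surjective (p ≫ π)
        have hx' : x' = x := by
          have e1 : (Spec.map i ≫ X.fromSpecResidueField x') (IsLocalRing.closedPoint K) =
              (p ≫ π) (IsLocalRing.closedPoint K) := congr(($hi).base (IsLocalRing.closedPoint K))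
          refine ((Scheme.fromSpecResidueField_apply x' _).symm.trans e1).trans ?_
          show π (pointOfClosedPoint sn y hycl _) = x
          rw [pointOfClosedPoint_apply, hy]
        subst hx'
        have hc : CommRingCat.ofHom (VarDim.resHom f x') ≫ i =
            CommRingCat.ofHom (algebraMap k K) := by
          apply Spec.map_injective
          rw [Spec.map_comp, ← WeilLib.fromSpecResidueField_comp, ← Category.assoc]
          refine (congrArg (· ≫ f) hi).trans ?_
          show (p ≫ π) ≫ f = bk
          rw [Category.assoc, pullback.condition, pointOfClosedPoint_comp_assoc]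
        refine ⟨⟨i.hom, fun c => congr(($hc).hom c)⟩, Subtype.ext ?_⟩
        refine Eq.trans ?_ (pointOfClosedPoint_apply sn y hycl (IsLocalRing.closedPoint K))
        refine congrArg (fun m : Spec (CommRingCat.of K) ⟶ pullback f bk =>
          m (IsLocalRing.closedPoint K)) (?_ : P _ = p)
        apply pullback.hom_ext
        · rw [pullback.lift_fst]
          exact hi
        · rw [pullback.lift_snd]
          exact (pointOfClosedPoint_comp sn y hycl).symm
    refine ⟨Finite.of_surjective _ hbij.2, ?_⟩
    rw [← Nat.card_eq_of_bijective _ hbij, WeilLib.residueDegree_eq_finrank f x,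
      Nat.card_eq_fintype_card, AlgHom.card]
  have hsum : ∀ c : X → ℕ, (Function.support c).Finite → (∀ x, c x ≠ 0 → IsClosed ({x} : Set X)) →
      (Function.support (c ∘ π.base)).Finite ∧
        ∑ᶠ y, (c ∘ π.base) y = ∑ᶠ x, c x * EGA4loc.residueDegree f x := by
    intro c hc hcl'
    have hfin : (π.base ⁻¹' Function.support c).Finite :=
      Set.Finite.preimage' hc fun x hx => Set.finite_coe_iff.1 (hfib x (hcl' x hx)).1
    refine ⟨hfin, ?_⟩
    rw [finsum_eq_sum_of_support_subset (c ∘ π.base) (s := hfin.toFinset) (by simp [Function.support]),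
      finsum_eq_sum_of_support_subset _ (s := hc.toFinset)
        (fun x hx => by simpa using left_ne_zero_of_mul hx),
      ← Finset.sum_fiberwise_of_maps_to (g := π.base) (t := hc.toFinset)
        (fun y hy => by simpa using hy)]
    refine Finset.sum_congr rfl fun x hx => ?_
    have hx' : c x ≠ 0 := by simpa using hx
    refine (Finset.sum_congr rfl (g := fun _ => c x) fun y hy =>
      congrArg c (Finset.mem_filter.1 hy).2).trans ?_
    rw [
      Finset.sum_const, smul_eq_mul, mul_comm]
    congr 1
    obtain ⟨hF, hN⟩ := hfib x (hcl' x hx')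
    rw [← hN, ← Nat.card_eq_finsetCard]
    refine Nat.card_congr (Equiv.subtypeEquivRight fun y => ?_)
    simp only [Finset.mem_filter, Set.Finite.mem_toFinset, Set.mem_preimage, Function.mem_support]
    exact ⟨fun h => h.2, fun h => ⟨h ▸ hx', h⟩⟩
  refine ⟨fun c ⟨hc1, hc2, hc3⟩ => ⟨(hsum c hc1 hc2).1, fun y hy => (hcl y).2 (hc2 _ hy),
    (hsum c hc1 hc2).2.trans hc3, fun σ y => congrArg c (congr(($(hτ1 σ)).base y))⟩,
    fun c _ c' _ h => hπsurj.injective_comp_right h, ?_⟩
  rintro d ⟨hd1, hd2, hd3, hd4⟩
  let c : X → ℕ := fun x => d (Function.surjInv hπsurj x)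
  have hcd : c ∘ π.base = d := funext fun y => by
    obtain ⟨σ, hσ⟩ := horbit (Function.surjInv hπsurj (π.base y)) y (Function.surjInv_eq hπsurj _)
    exact (hd4 σ _).symm.trans (congrArg d hσ)
  have hc1 : (Function.support c).Finite := (hd1.image π.base).subset fun x hx =>
    ⟨_, hx, Function.surjInv_eq hπsurj x⟩
  have hc2 : ∀ x, c x ≠ 0 → IsClosed ({x} : Set X) := fun x hx => by
    have := (hcl _).1 (hd2 _ hx)
    rwa [Function.surjInv_eq hπsurj x] at this
  exact ⟨c, ⟨hc1, hc2, (hsum c hc1 hc2).2.symm.trans (hcd ▸ hd3)⟩, hcd⟩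

end Groth.Agent.S13083
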