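import Groth.Statements.S13084
import Groth.Agent.ZetaLib.EulerProduct

set_option autoImplicit false
open Groth.Agent.ZetaLib
universe u
open CategoryTheory AlgebraicGeometry
open Zeta

namespace Groth.Agent.S13084

/-- If Y is a scheme of finite type over F_p (here: over any finite field) of dimension r, then the
Dirichlet series L_Y(s) = Σ_{n ≥ 1} a_n n^{−s}, where a_n is the number of effective 0-cycles on Y
of norm n, is convergent for Re(s) > r and has no zeros in this half-plane. The dimension is only
assumed ≤ r. -/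
theorem result {k : Type u} [Field k] [Finite k]
    {Y : Scheme.{u}} (f : Y ⟶ Spec (CommRingCat.of k)) [LocallyOfFiniteType f] [QuasiCompact f] (r : ℕ)
    (hr : topologicalKrullDim Y ≤ r) :
    LSeries.abscissaOfAbsConv (Zeta.arithCoeff Y) ≤ (r : ℝ) ∧
      ∀ s : ℂ, (r : ℝ) < s.re → LSeries (Zeta.arithCoeff Y) s ≠ 0 := by
  let ι : Spec (CommRingCat.of k) ⟶ Spec (CommRingCat.of (ULift.{u} ℤ)) :=
    Spec.map (CommRingCat.ofHom ((Int.castRingHom k).comp ULift.ringEquiv.toRingHom))
  have hι : LocallyOfFiniteType ι := by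
    rw [HasRingHomProperty.Spec_iff (P := @LocallyOfFiniteType)]
    exact finiteType_of_finite _
  exact ⟨abscissa_le (f ≫ ι) r hr, fun s hs => (lseries_arithCoeff (f ≫ ι) r hr hs).2⟩

end Groth.Agent.S13084
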