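import Groth.Statements.S13096
import Mathlib.RingTheory.FinitePresentation
import Mathlib.RingTheory.Polynomial.Basic
import Mathlib.RingTheory.Adjoin.FG

set_option autoImplicit false
universe u v
open CAlg

namespace Groth.Agent.S13096
open MvPolynomial

/-- A surjective ring endomorphism of a Noetherian ring is injective. -/
theorem injective_endo {Q : Type*} [CommRing Q] [IsNoetherianRing Q] (f : Q →+* Q) (hf : Function.Surjective f) :
    Function.Injective f := by
  have hstep : ∀ n x, (f ^ (n + 1)) x = f ((f ^ n) x) := fun n x => by rw [pow_succ']; rfl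
  let K : ℕ →o Ideal Q := ⟨fun n => RingHom.ker (f ^ n : Q →+* Q), monotone_nat_of_le_succ fun n x hx => by
    rw [RingHom.mem_ker, hstep, RingHom.mem_ker.1 hx, map_zero]⟩
  obtain ⟨N, hN⟩ := monotone_stabilizes_iff_noetherian.2 inferInstance K
  have hs : ∀ n, Function.Surjective (⇑(f ^ n) : Q → Q) := fun n => by
    induction n with
    | zero => exact fun x => ⟨x, rfl⟩
    | succ n ih => intro x; obtain ⟨y, rfl⟩ := hf x; obtain ⟨z, rfl⟩ := ih y; exact ⟨z, hstep n z⟩
  rw [injective_iff_map_eq_zero]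
  intro x hx
  obtain ⟨y, rfl⟩ := hs N x
  have : y ∈ K (N + 1) := by rw [← hstep] at hx; exact hx
  rw [← hN (N + 1) N.le_succ] at this
  exact this

/-- Let R be a commutative ring and R' a commutative R-algebra of finite presentation. Then every
surjective R-algebra endomorphism α : R' → R' is bijective (an automorphism). -/
theorem result (R : Type u) [CommRing R]
    (R' : Type v) [CommRing R'] [Algebra R R'] [Algebra.FinitePresentation R R']
    (α : R' →ₐ[R] R') (hα : Function.Surjective α) : Function.Bijective α := by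
  classical
  obtain ⟨n, π, hπ, hfg⟩ := (inferInstance : Algebra.FinitePresentation R R').out
  obtain ⟨m, f, hf⟩ := Submodule.fg_iff_exists_fin_generating_family.1 hfg
  replace hf : Ideal.span (Set.range f) = RingHom.ker π.toRingHom := hf
  choose g hg using fun i => hπ (α (π (X i)))
  let β : MvPolynomial (Fin n) R →ₐ[R] MvPolynomial (Fin n) R := aeval g
  have hβ : ∀ q, π (β q) = α (π q) := by
    intro q
    have : π.comp β = α.comp π := algHom_ext fun i => by simp [β, hg]
    exact AlgHom.congr_fun this q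
  choose y hy using fun i => hα (π (X i))
  choose h hh using fun i => hπ (y i)
  refine ⟨(injective_iff_map_eq_zero α).2 fun x hx => ?_, hα⟩
  obtain ⟨q, rfl⟩ := hπ x
  have cert : ∀ z, π z = 0 → ∃ c : Fin m → MvPolynomial (Fin n) R, ∑ j, c j * f j = z := fun z hz => by
    have : z ∈ Ideal.span (Set.range f) := by rw [hf]; exact hz
    exact (Submodule.mem_span_range_iff_exists_fun _).1 this
  choose c₁ hc₁ using fun j => cert (β (f j)) (by
    rw [hβ, show π (f j) = 0 from (hf.le (Ideal.subset_span ⟨j, rfl⟩) :), map_zero])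
  choose c₂ hc₂ using fun i => cert (X i - β (h i)) (by rw [map_sub, hβ, hh, hy, sub_self])
  obtain ⟨c₃, hc₃⟩ := cert (β q) (by rw [hβ, hx])
  let P : Finset (MvPolynomial (Fin n) R) := Finset.univ.image f ∪ Finset.univ.image g ∪ Finset.univ.image h ∪ {q} ∪
    Finset.univ.image (Function.uncurry c₁) ∪ Finset.univ.image (Function.uncurry c₂) ∪ Finset.univ.image c₃
  let A₀ : Subalgebra ℤ R := Algebra.adjoin ℤ ((P.biUnion fun z => z.coeffs : Finset R) : Set R)
  haveI : IsNoetherianRing A₀ := isNoetherianRing_of_fg (Subalgebra.fg_adjoin_finset _)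
  let φ : MvPolynomial (Fin n) A₀ →+* MvPolynomial (Fin n) R := map (algebraMap A₀ R)
  have hφ : Function.Injective φ := map_injective _ Subtype.val_injective
  have lift : ∀ z ∈ P, ∃ z₀, φ z₀ = z := fun z hz => mem_range_map_iff_coeffs_subset.2 (by
    intro a ha
    exact ⟨⟨a, Algebra.subset_adjoin (Finset.mem_biUnion.2 ⟨z, hz, ha⟩)⟩, rfl⟩)
  choose f₀ hf₀ using fun j => lift (f j) (by simp [P])
  choose g₀ hg₀ using fun i => lift (g i) (by simp [P])
  choose h₀ hh₀ using fun i => lift (h i) (by simp [P])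
  obtain ⟨q₀, hq₀⟩ := lift q (by simp [P])
  choose d₁ hd₁ using fun j k => lift (c₁ j k) (by simp only [P, Finset.mem_union, Finset.mem_image]; simp)
  choose d₂ hd₂ using fun j k => lift (c₂ j k) (by simp only [P, Finset.mem_union, Finset.mem_image]; simp)
  choose d₃ hd₃ using fun k => lift (c₃ k) (by simp only [P, Finset.mem_union, Finset.mem_image]; simp)
  let I₀ : Ideal (MvPolynomial (Fin n) A₀) := Ideal.span (Set.range f₀)
  let β₀ : MvPolynomial (Fin n) A₀ →ₐ[A₀] MvPolynomial (Fin n) A₀ := aeval g₀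
  have hβ₀ : ∀ z, φ (β₀ z) = β (φ z) := by
    intro z
    have : φ.comp β₀.toRingHom = β.toRingHom.comp φ :=
      MvPolynomial.ringHom_ext (fun a => by simp [φ, β₀, β]) (fun i => by simp [φ, β₀, β]; exact hg₀ i)
    exact RingHom.congr_fun this z
  have hmem : ∀ (z : MvPolynomial (Fin n) A₀) (d : Fin m → MvPolynomial (Fin n) A₀), φ z = φ (∑ j, d j * f₀ j) → z ∈ I₀ := by
    intro z d hzd
    rw [hφ hzd]
    exact sum_mem fun j _ => I₀.mul_mem_left _ (Ideal.subset_span ⟨j, rfl⟩)
  have hI₀ : I₀ ≤ I₀.comap β₀.toRingHom := Ideal.span_le.2 (by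
    rintro _ ⟨j, rfl⟩
    refine hmem _ (d₁ j) ?_
    show φ (β₀ (f₀ j)) = _
    rw [hβ₀, hf₀, ← hc₁]
    simp [hd₁, hf₀])
  let α₀ : (MvPolynomial (Fin n) A₀ ⧸ I₀) →+* (MvPolynomial (Fin n) A₀ ⧸ I₀) := Ideal.quotientMap I₀ β₀.toRingHom hI₀
  have hsur : Function.Surjective α₀ := by
    intro z
    obtain ⟨z, rfl⟩ := Ideal.Quotient.mk_surjective z
    induction z using MvPolynomial.induction_on with
    | C a => exact ⟨Ideal.Quotient.mk _ (C a), by simp [α₀, β₀]⟩
    | add u v hu hv =>
      obtain ⟨u', hu'⟩ := hu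
      obtain ⟨v', hv'⟩ := hv
      exact ⟨u' + v', by rw [map_add, map_add, hu', hv']⟩
    | mul_X u i hu =>
      obtain ⟨u', hu'⟩ := hu
      refine ⟨u' * Ideal.Quotient.mk _ (h₀ i), ?_⟩
      rw [map_mul, map_mul, hu']
      congr 1
      show α₀ _ = _
      simp only [α₀, Ideal.quotientMap_mk]
      rw [eq_comm, Ideal.Quotient.eq]
      refine hmem _ (d₂ i) ?_
      rw [map_sub]
      show φ (X i) - φ (β₀ (h₀ i)) = _
      rw [hβ₀, hh₀]
      simp [hd₂, hf₀, hc₂, φ]
  haveI : IsNoetherianRing (MvPolynomial (Fin n) A₀) := MvPolynomial.isNoetherianRing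
  haveI : IsNoetherianRing (MvPolynomial (Fin n) A₀ ⧸ I₀) := isNoetherianRing_of_surjective _ _ (Ideal.Quotient.mk I₀) Ideal.Quotient.mk_surjective
  have hzero : Ideal.Quotient.mk I₀ q₀ = 0 := injective_endo α₀ hsur (by
    simp only [α₀, Ideal.quotientMap_mk, map_zero]
    rw [Ideal.Quotient.eq_zero_iff_mem]
    refine hmem _ d₃ ?_
    show φ (β₀ q₀) = _
    rw [hβ₀, hq₀, ← hc₃]
    simp [hd₃, hf₀])
  have : φ q₀ ∈ RingHom.ker π.toRingHom := by
    rw [← hf]
    have := Ideal.mem_map_of_mem φ (Ideal.Quotient.eq_zero_iff_mem.1 hzero)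
    rw [Ideal.map_span, ← Set.range_comp] at this
    rwa [show φ ∘ f₀ = f from funext hf₀] at this
  rw [hq₀] at this
  exact this

end Groth.Agent.S13096
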