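import Groth.Statements.S13097
import Groth.Agent.MorLib.UnivHomeo

set_option autoImplicit false
universe u
open FlatMor

namespace Groth.Agent.S13097

open CategoryTheory AlgebraicGeometry in
/-- Let f : X → S be a quasi-compact, separated morphism of schemes with a section e : S → X (e followed
by f is the identity of S), and U ⊆ S an open subscheme such that f⁻¹(U) is schematically dense in X
(for every open V of X, restriction of functions from V to V ∩ f⁻¹(U) is injective) and such that
the restriction f⁻¹(U) → U of f is a homeomorphism of underlying spaces. Then f is universally a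
homeomorphism (every base change of f is a homeomorphism), and f is finite as soon as it is locally
of finite type. (The published statement also lists surjectivity of f, which a section forces, and
offers as an alternative to the section the hypothesis that f be flat, still with f⁻¹(U) → U only a
homeomorphism; that flat alternative fails: the spectrum of a separable quadratic field extension
over the spectrum of the ground field, with U the whole base, is flat, surjective, quasi-compact,
separated and a homeomorphism over U, yet not universally injective. Only the case of a section,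
whose published proof is complete, is stated here.) -/
theorem result {X S : Scheme.{u}} (f : X ⟶ S)
    [QuasiCompact f] [IsSeparated f] (U : S.Opens)
    (hdense : CInt.IsSchematicallyDense (f ⁻¹ᵁ U)) (hU : IsHomeomorph (f ∣_ U).base)
    (e : S ⟶ X) (he : e ≫ f = 𝟙 S) :
    FlatMor.IsUnivHomeo f ∧ (LocallyOfFiniteType f → IsFinite f) := by
  haveI : IsClosedImmersion (e ≫ f) := by rw [he]; infer_instance
  haveI : IsClosedImmersion e := IsClosedImmersion.of_comp e f
  have hsub : ((f ⁻¹ᵁ U : X.Opens) : Set X) ⊆ Set.range e := by
    intro x hx
    refine ⟨f x, ?_⟩
    have hfe : f (e (f x)) = f x := by rw [← Scheme.Hom.comp_apply, he]; rfl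
    have hxe : e (f x) ∈ f ⁻¹ᵁ U := by
      show f (e (f x)) ∈ U
      rw [hfe]; exact hx
    refine congrArg Subtype.val (hU.injective (a₁ := (⟨e (f x), hxe⟩ : (f ⁻¹ᵁ U : Scheme.{u})))
      (a₂ := ⟨x, hx⟩) (Subtype.ext ?_))
    simpa using hfe
  haveI : Surjective e := by
    refine ⟨Set.range_eq_univ.mp ?_⟩
    refine Set.eq_univ_of_forall fun x => ?_
    by_contra hx
    let W : X.Opens := ⟨(Set.range e)ᶜ, e.isClosedEmbedding.isClosed_range.isOpen_compl⟩
    have hW : W ⊓ f ⁻¹ᵁ U = ⊥ := by
      ext y
      exact ⟨fun hy => hy.1 (hsub hy.2), False.elim⟩
    have h01 : (1 : Γ(X, W)) = 0 := hdense W <| by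
      haveI : Subsingleton Γ(X, W ⊓ f ⁻¹ᵁ U) := by
        rw [hW]
        exact CommRingCat.subsingleton_of_isTerminal X.sheaf.isTerminalOfEmpty
      exact Subsingleton.elim _ _
    have := congrArg (X.presheaf.germ W x hx) h01
    rw [map_one, map_zero] at this
    exact one_ne_zero this
  haveI : UniversallyClosed (e ≫ f) := by rw [he]; infer_instance
  haveI : UniversallyClosed f := UniversallyClosed.of_comp_surjective e f
  have hui : UniversallyInjective (e ≫ f) := by rw [he]; infer_instance
  haveI := Groth.Agent.MorLib.universallyInjective_of_comp_surjective e f hui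
  haveI : Surjective (e ≫ f) := by rw [he]; infer_instance
  haveI : Surjective f := Surjective.of_comp e f
  refine ⟨Groth.Agent.MorLib.isUnivHomeo_of_universallyClosed f, fun hft => ?_⟩
  haveI := Groth.Agent.MorLib.isIntegralHom_of_isUnivHomeo
    (Groth.Agent.MorLib.isUnivHomeo_of_universallyClosed f)
  exact (IsFinite.iff_isIntegralHom_and_locallyOfFiniteType f).mpr ⟨inferInstance, hft⟩

end Groth.Agent.S13097
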