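import Groth.Statements.S13098
import Mathlib

set_option autoImplicit false
universe u v
open Lie3Mod

namespace Groth.Agent.S13098

/-- Let R be a commutative ring, M an R-module with a basis x = bs 0, y = bs 1, z = bs 2 indexed by Fin
3, and B an R-bilinear alternating map on M (B m m = 0) with B x y = a x + b y + c z, B x z = d x +
e y + f z and B y z = g x + h y + i z. Then B satisfies the Jacobi identity for all triples if and
only if the three Jacobi polynomials vanish: ah + di − fg − bg = 0, ie + bd − fh − ae = 0 and hc +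
dc − af − bi = 0. (This is the statement that Lie brackets on a based free module of rank 3 are the
points of the closed subscheme of affine 9-space defined by these three equations.) -/
theorem result (R : Type u) [CommRing R] (M : Type v) [AddCommGroup M] [Module R M]
    (bs : Module.Basis (Fin 3) R M) (B : M →ₗ[R] M →ₗ[R] M) (halt : ∀ m : M, B m m = 0)
    (a b c d e f g h i : R)
    (hxy : B (bs 0) (bs 1) = a • bs 0 + b • bs 1 + c • bs 2)
    (hxz : B (bs 0) (bs 2) = d • bs 0 + e • bs 1 + f • bs 2)
    (hyz : B (bs 1) (bs 2) = g • bs 0 + h • bs 1 + i • bs 2) :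
    (∀ u v w : M, B u (B v w) + B v (B w u) + B w (B u v) = 0) ↔
      (a * h + d * i - f * g - b * g = 0 ∧ i * e + b * d - f * h - a * e = 0 ∧
        h * c + d * c - a * f - b * i = 0) := by
  have hyx : B (bs 1) (bs 0) = -(a • bs 0 + b • bs 1 + c • bs 2) := by
    rw [← hxy, eq_neg_iff_add_eq_zero, add_comm]
    simpa [map_add, halt] using halt (bs 1 + bs 0)
  have hzx : B (bs 2) (bs 0) = -(d • bs 0 + e • bs 1 + f • bs 2) := by
    rw [← hxz, eq_neg_iff_add_eq_zero, add_comm]
    simpa [map_add, halt] using halt (bs 2 + bs 0)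
  have hzy : B (bs 2) (bs 1) = -(g • bs 0 + h • bs 1 + i • bs 2) := by
    rw [← hyz, eq_neg_iff_add_eq_zero, add_comm]
    simpa [map_add, halt] using halt (bs 2 + bs 1)
  have key : ∀ u v w : M, B u (B v w) + B v (B w u) + B w (B u v) =
      (bs.repr u 0 * (bs.repr v 1 * bs.repr w 2 - bs.repr v 2 * bs.repr w 1)
        - bs.repr u 1 * (bs.repr v 0 * bs.repr w 2 - bs.repr v 2 * bs.repr w 0)
        + bs.repr u 2 * (bs.repr v 0 * bs.repr w 1 - bs.repr v 1 * bs.repr w 0)) •
      ((a * h + d * i - f * g - b * g) • bs 0 + (i * e + b * d - f * h - a * e) • bs 1 +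
        (h * c + d * c - a * f - b * i) • bs 2) := by
    intro u v w
    have hu := (bs.sum_repr u).symm
    have hv := (bs.sum_repr v).symm
    have hw := (bs.sum_repr w).symm
    rw [Fin.sum_univ_three] at hu hv hw
    generalize bs.repr u 0 = u0, bs.repr u 1 = u1, bs.repr u 2 = u2,
      bs.repr v 0 = v0, bs.repr v 1 = v1, bs.repr v 2 = v2,
      bs.repr w 0 = w0, bs.repr w 1 = w1, bs.repr w 2 = w2 at *
    subst hu hv hw
    simp only [map_add, map_smul, map_neg, LinearMap.add_apply, LinearMap.smul_apply,
      LinearMap.neg_apply, hxy, hxz, hyz, hyx, hzx, hzy, halt, map_zero, smul_zero, add_zero, zero_add]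
    module
  constructor
  · intro hJ
    have h0 := key (bs 0) (bs 1) (bs 2)
    rw [hJ] at h0
    simp only [Module.Basis.repr_self] at h0
    have h1 := congrArg bs.repr h0.symm
    have e0 := congrArg (fun l => l 0) h1
    have e1 := congrArg (fun l => l 1) h1
    have e2 := congrArg (fun l => l 2) h1
    simp [Finsupp.single_apply] at e0 e1 e2
    exact ⟨e0, e1, e2⟩
  · rintro ⟨h0, h1, h2⟩ u v w
    rw [key, h0, h1, h2]
    simp

end Groth.Agent.S13098
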