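import Groth.Statements.S13099
import Mathlib.Algebra.MvPolynomial.Coeff
import Mathlib.RingTheory.MvPolynomial.Ideal
import Mathlib.Data.Nat.Choose.Lucas
import Mathlib.Algebra.CharP.Invertible
import Mathlib.RingTheory.FiniteType
import Mathlib.Algebra.Polynomial.Derivative
import Mathlib.RingTheory.Nilpotent.Basic
import Mathlib.RingTheory.IsAdjoinRoot
import Mathlib.RingTheory.OrzechProperty
-- import your own Groth.Agent.* helpers here

set_option autoImplicit false
universe u
open GrpSch

namespace Groth.Agent.S13099

open Polynomial in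
theorem coeff_aeval_add {A : Type u} [CommRing A] (q : A[X]) (d : Fin 2 →₀ ℕ) :
    MvPolynomial.coeff d (Polynomial.aeval (MvPolynomial.X 0 + MvPolynomial.X 1 : MvPolynomial (Fin 2) A) q) =
      q.coeff (d 0 + d 1) * ((d 0 + d 1).choose (d 0) : A) := by
  induction q using Polynomial.induction_on' with
  | add a b ha hb => simp [ha, hb, add_mul]
  | monomial n a =>
    rw [Polynomial.aeval_monomial, MvPolynomial.algebraMap_eq, MvPolynomial.coeff_C_mul, MvPolynomial.coeff_add_pow,
      Polynomial.coeff_monomial]
    simp only [Finset.mem_antidiagonal]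
    by_cases h : d 0 + d 1 = n
    · subst h; simp
    · simp [h, Ne.symm h]

open Polynomial in
theorem coeff_aeval_X {A : Type u} [CommRing A] (q : A[X]) (i : Fin 2) (d : Fin 2 →₀ ℕ) :
    MvPolynomial.coeff d (Polynomial.aeval (MvPolynomial.X i : MvPolynomial (Fin 2) A) q) =
      if d = Finsupp.single i (d i) then q.coeff (d i) else 0 := by
  induction q using Polynomial.induction_on' with
  | add a b ha hb => simp only [map_add, MvPolynomial.coeff_add, ha, hb, Polynomial.coeff_add]; split_ifs <;> simp
  | monomial n a =>
    rw [Polynomial.aeval_monomial, MvPolynomial.algebraMap_eq, MvPolynomial.coeff_C_mul, MvPolynomial.coeff_X_pow,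
      Polynomial.coeff_monomial]
    by_cases h : Finsupp.single i n = d
    · subst h; simp
    · rw [if_neg h]
      split_ifs with h1 h2
      · exact absurd (by rw [h1, h2]) h
      · simp
      · simp

open Polynomial in
/-- Let p be a prime and A a commutative ring of characteristic p, and consider the infinitesimal group
scheme Spec A[X]/(X^{p²}) with the additive group law. In coordinates: (1) a polynomial q ∈ A[X] of
degree less than p² satisfies q(Y + Z) − q(Y) − q(Z) ∈ (Y^{p²}, Z^{p²}) in A[Y, Z] (that is, X ↦ q
respects the comultiplication) if and only if q = a₁ X + a_p X^p for some a₁, a_p ∈ A; (2) an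
A-algebra endomorphism of A[X]/(X^{p²}) that sends the class of X to the class of a₁ X + a_p X^p is
bijective if and only if a₁ is a unit of A. (The printed statement is that the automorphism group
scheme of this group scheme is the semidirect product of the additive group by the multiplicative
group, v acting on u by v^{p−1}u; this row records the two computations it consists of, in
coordinates.) -/
theorem result (p : ℕ) [Fact p.Prime] (A : Type u) [CommRing A] [CharP A p] :
    (∀ q : A[X], q.natDegree < p ^ 2 →
      (Polynomial.aeval (MvPolynomial.X 0 + MvPolynomial.X 1 : MvPolynomial (Fin 2) A) q -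
            Polynomial.aeval (MvPolynomial.X 0 : MvPolynomial (Fin 2) A) q -
            Polynomial.aeval (MvPolynomial.X 1 : MvPolynomial (Fin 2) A) q ∈
          Ideal.span ({MvPolynomial.X 0 ^ p ^ 2, MvPolynomial.X 1 ^ p ^ 2} : Set (MvPolynomial (Fin 2) A)) ↔
        ∃ a₁ ap : A, q = Polynomial.C a₁ * X + Polynomial.C ap * X ^ p)) ∧
    (∀ (a₁ ap : A) (φ : (A[X] ⧸ Ideal.span ({X ^ p ^ 2} : Set A[X])) →ₐ[A] (A[X] ⧸ Ideal.span ({X ^ p ^ 2} : Set A[X]))),
      φ (Ideal.Quotient.mk (Ideal.span ({X ^ p ^ 2} : Set A[X])) X) =
          Ideal.Quotient.mk (Ideal.span ({X ^ p ^ 2} : Set A[X])) (Polynomial.C a₁ * X + Polynomial.C ap * X ^ p) →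
        (Function.Bijective φ ↔ IsUnit a₁)) := by
  have hp : p.Prime := Fact.out
  haveI : Nontrivial A := CharP.nontrivial_of_char_ne_one (R := A) hp.ne_one
  refine ⟨fun q hq => ⟨fun h => ?_, ?_⟩, fun a₁ ap φ hφ => ⟨fun hbij => ?_, fun hu => ?_⟩⟩
  · have e : ({MvPolynomial.X 0 ^ p ^ 2, MvPolynomial.X 1 ^ p ^ 2} : Set (MvPolynomial (Fin 2) A)) =
        (fun s => MvPolynomial.monomial s (1 : A)) '' {Finsupp.single 0 (p ^ 2), Finsupp.single 1 (p ^ 2)} := by
      simp [Set.image_pair, MvPolynomial.X_pow_eq_monomial]
    rw [e, MvPolynomial.mem_ideal_span_monomial_image] at h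
    have key : ∀ d : Fin 2 →₀ ℕ, d 0 < p ^ 2 → d 1 < p ^ 2 →
        q.coeff (d 0 + d 1) * ((d 0 + d 1).choose (d 0) : A) -
          (if d = Finsupp.single 0 (d 0) then q.coeff (d 0) else 0) -
          (if d = Finsupp.single 1 (d 1) then q.coeff (d 1) else 0) = 0 := by
      intro d h0 h1
      by_contra hne
      obtain ⟨s, hs, hsd⟩ := h d (by
        rw [MvPolynomial.mem_support_iff, MvPolynomial.coeff_sub, MvPolynomial.coeff_sub, coeff_aeval_add,
          coeff_aeval_X, coeff_aeval_X]
        exact hne)
      rcases hs with rfl | rfl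
      · have := hsd 0
        simp at this
        omega
      · have := hsd 1
        simp at this
        omega
    have hz : ∀ n, n ≠ 1 → n ≠ p → q.coeff n = 0 := by
      intro n hn1 hnp
      rcases lt_or_ge n (p ^ 2) with hn | hn
      swap
      · exact Polynomial.coeff_eq_zero_of_natDegree_lt (lt_of_lt_of_le hq hn)
      rcases Nat.eq_zero_or_pos n with rfl | hnpos
      · have := key 0 (by simp [hp.pos]) (by simp [hp.pos])
        simpa using this
      have hex : ∃ i ∈ Finset.Icc 1 (n - 1), ¬ n.choose i ≡ 0 [MOD p] := by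
        by_contra hc
        push Not at hc
        have he := Choose.eq_pow_multiplicity_of_choose_modEq_zero_nat (p := p) hnpos hc
        have hlt : multiplicity p n < 2 := (Nat.pow_lt_pow_iff_right hp.one_lt).mp (he ▸ hn)
        interval_cases hm : multiplicity p n
        · simp at he; exact hn1 he
        · simp at he; exact hnp he
      obtain ⟨i, hi, hni⟩ := hex
      rw [Finset.mem_Icc] at hi
      have := key (Finsupp.single 0 i + Finsupp.single 1 (n - i)) (by simp; omega) (by simp; omega)
      rw [if_neg (by
          intro hh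
          have := DFunLike.congr_fun hh 1
          simp at this
          omega), if_neg (by
          intro hh
          have := DFunLike.congr_fun hh 0
          simp at this
          omega)] at this
      simp only [sub_zero, Finsupp.coe_add, Pi.add_apply, Finsupp.single_eq_same, ne_eq,
        Fin.reduceEq, not_false_eq_true, Finsupp.single_eq_of_ne, add_zero, zero_add] at this
      rw [Nat.add_sub_cancel' (by omega : i ≤ n)] at this
      have hu : IsUnit ((n.choose i : A)) :=
        (CharP.isUnit_natCast_iff hp).mpr fun hd => hni (Nat.modEq_zero_iff_dvd.mpr hd)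
      exact hu.mul_left_eq_zero.mp this
    refine ⟨q.coeff 1, q.coeff p, Polynomial.ext fun n => ?_⟩
    rw [Polynomial.coeff_add, Polynomial.coeff_C_mul, Polynomial.coeff_C_mul, Polynomial.coeff_X, Polynomial.coeff_X_pow]
    by_cases h1 : n = 1
    · subst h1
      simp [(Nat.ne_of_lt hp.one_lt)]
    by_cases h2 : n = p
    · subst h2
      simp [Ne.symm h1]
    · simp [Ne.symm h1, h2, hz n h1 h2]
  · rintro ⟨a₁, ap, rfl⟩
    simp only [map_add, map_mul, Polynomial.aeval_C, Polynomial.aeval_X, map_pow, add_pow_char]
    convert Submodule.zero_mem _ using 1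
    ring
  · obtain ⟨z, hz⟩ := hbij.2 (Ideal.Quotient.mk _ X)
    obtain ⟨q, rfl⟩ := Ideal.Quotient.mk_surjective z
    have e : φ (Ideal.Quotient.mk _ q) = Ideal.Quotient.mk _ (q.comp (Polynomial.C a₁ * X + Polynomial.C ap * X ^ p)) := by
      have : φ.comp (Ideal.Quotient.mkₐ A _) =
          (Ideal.Quotient.mkₐ A _).comp (Polynomial.aeval (Polynomial.C a₁ * X + Polynomial.C ap * X ^ p)) := by
        refine Polynomial.algHom_ext ?_
        simpa using hφ
      exact DFunLike.congr_fun this q
    rw [e, Ideal.Quotient.mk_eq_mk_iff_sub_mem, Ideal.mem_span_singleton] at hz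
    have h1 := Polynomial.X_pow_dvd_iff.mp hz 1 (by nlinarith [hp.two_le])
    rw [Polynomial.coeff_sub, Polynomial.coeff_X_one] at h1
    have h2 : (q.comp (Polynomial.C a₁ * X + Polynomial.C ap * X ^ p)).coeff 1 = q.coeff 1 * a₁ := by
      have h3 : ∀ r : A[X], r.coeff 1 = r.derivative.eval 0 := fun r => by
        rw [← Polynomial.coeff_zero_eq_eval_zero, Polynomial.coeff_derivative]; simp
      rw [h3, Polynomial.derivative_comp, Polynomial.eval_mul, Polynomial.eval_comp]
      simp [h3, Polynomial.derivative_X_pow, CharP.cast_eq_zero A p, hp.ne_zero]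
      ring
    exact IsUnit.of_mul_eq_one (q.coeff 1) (by linear_combination h1 - h2)
  · let J := Ideal.span ({X ^ p ^ 2} : Set A[X])
    let x : A[X] ⧸ J := Ideal.Quotient.mk J X
    have hJ : J = Ideal.span ({X ^ p ^ 2} : Set A[X]) := rfl
    have hx : x = Ideal.Quotient.mk J X := rfl
    have hnil : IsNilpotent x := ⟨p ^ 2, by
      rw [hx, ← map_pow, Ideal.Quotient.eq_zero_iff_mem, hJ]
      exact Ideal.subset_span rfl⟩
    let w : A[X] ⧸ J := algebraMap A _ a₁ + algebraMap A _ ap * x ^ (p - 1)
    have hw : IsUnit w := IsNilpotent.isUnit_add_left_of_commute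
      (by
        have : IsNilpotent (x ^ (p - 1)) := hnil.pow_of_pos (by have := hp.two_le; omega)
        exact (Commute.all _ _).isNilpotent_mul_left this)
      (hu.map (algebraMap A (A[X] ⧸ J))) (Commute.all _ _)
    obtain ⟨v, hv⟩ := hw.exists_left_inv
    have hy : φ x = x * w := by
      rw [hx, hφ]
      have hpp : X ^ p = X * (X : A[X]) ^ (p - 1) := by rw [← pow_succ', Nat.sub_add_cancel hp.pos]
      rw [hpp, map_add, map_mul, map_mul, map_mul, map_pow]
      show algebraMap A (A[X] ⧸ J) a₁ * _ + algebraMap A (A[X] ⧸ J) ap * _ = _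
      ring
    have key : ∀ m i : ℕ, i + m = p ^ 2 → ∀ z, x ^ i * z ∈ φ.range := by
      intro m
      induction m with
      | zero =>
        intro i hi z
        have : x ^ i = 0 := by
          rw [hx, ← map_pow, Ideal.Quotient.eq_zero_iff_mem, hJ]
          exact Ideal.subset_span (by rw [show i = p ^ 2 by omega]; rfl)
        rw [this, zero_mul]; exact zero_mem _
      | succ m ih =>
        intro i hi z
        have hd : ∀ z : A[X] ⧸ J, ∃ c z', z = algebraMap A _ c + x * z' := fun z => by
          obtain ⟨r, rfl⟩ := Ideal.Quotient.mk_surjective z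
          refine ⟨r.coeff 0, Ideal.Quotient.mk J r.divX, ?_⟩
          conv_lhs => rw [← Polynomial.X_mul_divX_add r]
          rw [map_add, map_mul, add_comm]
          rfl
        obtain ⟨c, z', rfl⟩ := hd z
        obtain ⟨d, z'', hz''⟩ := hd (v ^ i)
        have hxi : x ^ i = φ (x ^ i) * (algebraMap A _ d + x * z'') := by
          rw [← hz'', map_pow, hy, mul_pow, mul_assoc, ← mul_pow, mul_comm w, hv, one_pow, mul_one]
        have : x ^ i * (algebraMap A _ c + x * z') =
            φ (x ^ i * algebraMap A _ (c * d)) + x ^ (i + 1) * (w ^ i * algebraMap A _ c * z'' + z') := by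
          rw [map_mul φ, AlgHom.commutes, map_mul (algebraMap A (A[X] ⧸ J)), mul_add]
          conv_lhs => arg 1; rw [hxi]
          rw [map_pow, hy, mul_pow]
          ring
        rw [this]
        exact add_mem (φ.mem_range_self _) (ih (i + 1) (by omega) _)
    have hsurj : Function.Surjective φ.toLinearMap := fun z => by
      simpa using key (p ^ 2) 0 (by omega) z
    haveI : Module.Finite A (A[X] ⧸ J) := (Polynomial.monic_X_pow (p ^ 2)).finite_quotient
    exact OrzechProperty.bijective_of_surjective_endomorphism φ.toLinearMap hsurj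

end Groth.Agent.S13099
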