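import Groth.Statements.S13100
import Mathlib.Algebra.BigOperators.Fin
import Mathlib.Tactic.FieldSimp
import Mathlib.Tactic.Ring

set_option autoImplicit false
universe u
open GrpSch

namespace Groth.Agent.S13100

/-- Coefficients of a square root of a power series, given the constant one. -/
noncomputable def sqrtCoeff {k : Type u} [Field k] (a : ℕ → k) (c : k) : ℕ → k
  | 0 => c
  | (n+1) => (a (n+1) - ∑ i : Fin n, sqrtCoeff a c (i.1+1) * sqrtCoeff a c (n - i.1)) / (2 * c)
termination_by n => n
decreasing_by all_goals omega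

theorem powerSeries_isSquare {k : Type u} [Field k] [IsAlgClosed k] (h2 : (2 : k) ≠ 0)
    (P : PowerSeries k) (hP : PowerSeries.constantCoeff P ≠ 0) : IsSquare P := by
  obtain ⟨c, hc⟩ := IsAlgClosed.exists_pow_nat_eq (PowerSeries.constantCoeff P) (n := 2) (by norm_num)
  have hc0 : c ≠ 0 := by rintro rfl; simp at hc; exact hP hc.symm
  set a : ℕ → k := fun n => PowerSeries.coeff n P
  refine ⟨PowerSeries.mk (sqrtCoeff a c), ?_⟩
  ext n
  rw [PowerSeries.coeff_mul]
  rcases n with _ | n
  · rw [PowerSeries.coeff_zero_eq_constantCoeff]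
    simp [sqrtCoeff, ← pow_two, hc]
  · rw [Finset.Nat.sum_antidiagonal_eq_sum_range_succ
      (fun i j => PowerSeries.coeff i (PowerSeries.mk (sqrtCoeff a c)) * PowerSeries.coeff j (PowerSeries.mk (sqrtCoeff a c))),
      Finset.sum_range_succ, Finset.sum_range_succ', Nat.sub_self]
    simp only [PowerSeries.coeff_mk, Nat.sub_zero, Nat.add_sub_add_right]
    have key : sqrtCoeff a c (n+1) = (a (n+1) - ∑ i ∈ Finset.range n, sqrtCoeff a c (i+1) * sqrtCoeff a c (n - i)) / (2 * c) := by
      rw [sqrtCoeff, Fin.sum_univ_eq_sum_range (fun i => sqrtCoeff a c (i+1) * sqrtCoeff a c (n - i))]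
    rw [show sqrtCoeff a c 0 = c from by rw [sqrtCoeff], key]
    field_simp
    ring

/-- Let k be an algebraically closed field of characteristic different from 2 and K = k((t)) the field
of Laurent series over k. Then a non-zero Laurent series f is a square in K if and only if its order
in t is even; consequently the group Kˣ/Kˣ² of non-zero elements modulo squares has exactly two
elements, represented by 1 and t. -/
theorem result (k : Type u) [Field k] [IsAlgClosed k] (h2 : (2 : k) ≠ 0)
    (f : LaurentSeries k) (hf : f ≠ 0) : IsSquare f ↔ Even f.order := by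
  constructor
  · rintro ⟨g, rfl⟩
    have hg : g ≠ 0 := fun h => hf (by rw [h, mul_zero])
    rw [HahnSeries.order_mul hg hg]
    exact ⟨_, rfl⟩
  · rintro ⟨m, hm⟩
    obtain ⟨Q, hQ⟩ := powerSeries_isSquare h2 f.powerSeriesPart (by
      rw [← PowerSeries.coeff_zero_eq_constantCoeff, LaurentSeries.powerSeriesPart_coeff]
      simpa using HahnSeries.coeff_order_eq_zero.not.mpr hf)
    refine ⟨HahnSeries.single m 1 * HahnSeries.ofPowerSeries ℤ k Q, ?_⟩
    conv_lhs => rw [← LaurentSeries.single_order_mul_powerSeriesPart f, hQ, map_mul, hm]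
    rw [mul_mul_mul_comm, HahnSeries.single_mul_single, mul_one]

end Groth.Agent.S13100
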