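import Groth.Statements.S13101
import Groth.Agent.GrpHelp.Lie3

set_option autoImplicit false
universe u v
open GrpSch

namespace Groth.Agent.S13101

/-- Let A be a commutative ring in which 2 is a unit, and L a Lie algebra over A, free as a module with
basis x = bs 0, y = bs 1, z = bs 2 and brackets [x,y] = y, [x,z] = y + z, [y,z] = 0. Then for every
Lie algebra automorphism φ of L over A there are b, c, h ∈ A and a unit i of A with φ(x) = x + b y +
c z, φ(y) = i y and φ(z) = h y + i z. Only the form of an automorphism is stated, not that every map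
of this form is one. (The published statement identifies the automorphism group scheme with a
semidirect product of two additive groups by the product of the multiplicative and additive group,
for algebras over a field of Laurent series of characteristic not 2, and deduces the vanishing of
its first cohomology; this row records the determination of the automorphisms, over any base ring
with 2 invertible; the cohomological consequence is not restated.) -/
theorem result (A : Type u) [CommRing A] (h2 : IsUnit (2 : A))
    (L : Type v) [LieRing L] [LieAlgebra A L] (bs : Module.Basis (Fin 3) A L)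
    (hxy : ⁅bs 0, bs 1⁆ = bs 1) (hxz : ⁅bs 0, bs 2⁆ = bs 1 + bs 2) (hyz : ⁅bs 1, bs 2⁆ = 0)
    (φ : L ≃ₗ⁅A⁆ L) :
    ∃ b c h i : A, IsUnit i ∧ φ (bs 0) = bs 0 + b • bs 1 + c • bs 2 ∧ φ (bs 1) = i • bs 1 ∧
      φ (bs 2) = h • bs 1 + i • bs 2 := by
  have R : ∀ x, x = bs.repr x 0 • bs 0 + bs.repr x 1 • bs 1 + bs.repr x 2 • bs 2 :=
    Groth.Agent.GrpHelp.expand3 bs
  have B := Groth.Agent.GrpHelp.lie_semidirect bs hxy hxz hyz
  have hm := fun x y => φ.map_lie (bs x) (bs y)
  set a := bs.repr (φ (bs 0)) 0 with a_def
  set e := bs.repr (φ (bs 1)) 1 with e_def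
  set f := bs.repr (φ (bs 1)) 2 with f_def
  set h := bs.repr (φ (bs 2)) 1 with h_def
  set i := bs.repr (φ (bs 2)) 2 with i_def
  have m1 := hm 0 1
  have m2 := hm 0 2
  rw [hxy, B] at m1
  rw [hxz, map_add, B] at m2
  have g1 : bs.repr (φ (bs 1)) 0 = 0 := by
    rw [m1]; simp [Finsupp.single_apply]
  have g2 : bs.repr (φ (bs 2)) 0 = 0 := by
    have := congrArg (fun z => bs.repr z 0) m2
    simpa [Finsupp.single_apply, g1] using this
  have r1 := congrArg (fun z => bs.repr z 1) m1
  have r2 := congrArg (fun z => bs.repr z 2) m1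
  have r3 := congrArg (fun z => bs.repr z 1) m2
  have r4 := congrArg (fun z => bs.repr z 2) m2
  simp [Finsupp.single_apply, g1, g2, ← a_def, ← e_def, ← f_def, ← h_def, ← i_def] at r1 r2 r3 r4
  have hD := Groth.Agent.GrpHelp.det_eq bs φ g1 g2
  rw [← e_def, ← f_def, ← h_def, ← i_def] at hD
  have s : (a - 1) ^ 2 = 0 := hD.mul_left_eq_zero.mp (by
    linear_combination (-(a - 1) * i) * r1 + (a * i + (a - 1) * h) * r2)
  have sf : f = i * (a - 1) := by linear_combination r4
  have hea : e * (a - 1) = 0 := h2.mul_right_eq_zero.mp (by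
    linear_combination -r1 + (a - 1) * r3 - a * r4 + h * s)
  have hia : i * (a - 1) = 0 := by
    linear_combination (2 - a) * hea - (2 - a) * (a - 1) * r3 + ((a - 1) * i - (2 - a) * h) * s
  have hf : f = 0 := by rw [sf, hia]
  have he : IsUnit e := by
    rw [hf, zero_mul, sub_zero] at hD
    exact isUnit_of_mul_isUnit_left hD
  have ha : a = 1 := sub_eq_zero.mp (he.mul_right_eq_zero.mp hea)
  have hei : e = i := by rw [ha] at r3; linear_combination r3
  refine ⟨bs.repr (φ (bs 0)) 1, bs.repr (φ (bs 0)) 2, h, i, hei ▸ he, ?_, ?_, ?_⟩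
  · conv_lhs => rw [R (φ (bs 0)), ← a_def, ha, one_smul]
  · conv_lhs => rw [R (φ (bs 1)), g1, ← e_def, ← f_def, hf, hei]
    simp
  · conv_lhs => rw [R (φ (bs 2)), g2, ← h_def, ← i_def]
    simp

end Groth.Agent.S13101
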