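import Groth.Statements.S13102
import Groth.Agent.GrpHelp.Lie3

set_option autoImplicit false
universe u v w
open GrpSch

namespace Groth.Agent.S13102

/-- Let K be a field, α ∈ K, A a commutative K-algebra and L a Lie algebra over A which is free as an
A-module with basis x = bs 0, y = bs 1, z = bs 2 and brackets [x,y] = y, [x,z] = α z, [y,z] = 0. If
α² ≠ 1 then every Lie algebra automorphism φ of L over A satisfies φ(x) = x + b y + c z, φ(y) = e y,
φ(z) = i z for some b, c ∈ A and units e, i of A. If α = 1 then every such φ satisfies φ(x) = x + b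
y + c z, φ(y) = e y + f z, φ(z) = h y + i z with e i − f h a unit of A. (The printed statement
identifies the automorphism group schemes with the corresponding semidirect products, treats also α
= −1 in characteristic not 2, and computes first cohomology over a field of Laurent series; those
clauses are not restated here.) -/
theorem result (K : Type u) [Field K] (α : K) (A : Type v) [CommRing A] [Algebra K A]
    (L : Type w) [LieRing L] [LieAlgebra A L] (bs : Module.Basis (Fin 3) A L)
    (hxy : ⁅bs 0, bs 1⁆ = bs 1) (hxz : ⁅bs 0, bs 2⁆ = algebraMap K A α • bs 2) (hyz : ⁅bs 1, bs 2⁆ = 0)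
    (φ : L ≃ₗ⁅A⁆ L) :
    (α ^ 2 ≠ 1 → ∃ b c e i : A, IsUnit e ∧ IsUnit i ∧ φ (bs 0) = bs 0 + b • bs 1 + c • bs 2 ∧
        φ (bs 1) = e • bs 1 ∧ φ (bs 2) = i • bs 2) ∧
    (α = 1 → ∃ b c e f h i : A, IsUnit (e * i - f * h) ∧ φ (bs 0) = bs 0 + b • bs 1 + c • bs 2 ∧
        φ (bs 1) = e • bs 1 + f • bs 2 ∧ φ (bs 2) = h • bs 1 + i • bs 2) := by
  have R : ∀ x, x = bs.repr x 0 • bs 0 + bs.repr x 1 • bs 1 + bs.repr x 2 • bs 2 :=
    Groth.Agent.GrpHelp.expand3 bs
  have B := Groth.Agent.GrpHelp.lie_semidirect bs hxy hxz hyz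
  have hm := fun x y => φ.map_lie (bs x) (bs y)
  have m1 := hm 0 1
  have m2 := hm 0 2
  have m12 := hm 1 2
  rw [hxy, B] at m1
  rw [hxz, map_smul, B] at m2
  set c := algebraMap K A α with c_def
  have g1 : bs.repr (φ (bs 1)) 0 = 0 := by
    rw [m1]; simp [Finsupp.single_apply]
  have g2 : bs.repr (φ (bs 2)) 0 = 0 := by
    rcases eq_or_ne α 0 with h0 | h0
    · have hz : c = 0 := by rw [c_def, h0, map_zero]
      have hcen : ∀ x, ⁅x, bs 2⁆ = 0 := fun x => by
        rw [B]; simp [Finsupp.single_apply, hz]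
      have := φ.map_lie (φ.symm (bs 1)) (bs 2)
      rw [hcen, map_zero, LieEquiv.apply_symm_apply, B] at this
      have h1 := congrArg (fun z => bs.repr z 1) this
      simpa [Finsupp.single_apply, hz] using h1
    · have := congrArg (fun z => bs.repr z 0) m2
      have hu : IsUnit c := (Ne.isUnit h0).map (algebraMap K A)
      exact hu.mul_right_eq_zero.mp (by simpa [Finsupp.single_apply] using this)
  have r1 := congrArg (fun z => bs.repr z 1) m1
  have r2 := congrArg (fun z => bs.repr z 2) m1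
  have r3 := congrArg (fun z => bs.repr z 1) m2
  have r4 := congrArg (fun z => bs.repr z 2) m2
  simp [Finsupp.single_apply, g1, g2] at r1 r2 r3 r4
  have hD := Groth.Agent.GrpHelp.det_eq bs φ g1 g2
  set a := bs.repr (φ (bs 0)) 0 with a_def
  set e := bs.repr (φ (bs 1)) 1 with e_def
  set f := bs.repr (φ (bs 1)) 2 with f_def
  set h := bs.repr (φ (bs 2)) 1 with h_def
  set i := bs.repr (φ (bs 2)) 2 with i_def
  have e0 : a = 1 → φ (bs 0) = bs 0 + bs.repr (φ (bs 0)) 1 • bs 1 + bs.repr (φ (bs 0)) 2 • bs 2 := by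
    intro ha
    conv_lhs => rw [R (φ (bs 0)), ← a_def, ha, one_smul]
  refine ⟨fun hα => ?_, fun hα => ?_⟩
  · have hc : IsUnit (c ^ 2 - 1) := by
      have := (sub_ne_zero.mpr hα).isUnit.map (algebraMap K A)
      simpa [c_def] using this
    have hfh : f * h = 0 := hc.mul_left_eq_zero.mp (by
      linear_combination (f * c) * r3 - h * r2 + 0)
    rw [hfh, sub_zero] at hD
    obtain ⟨he, hi⟩ := IsUnit.mul_iff.mp hD
    have ha : a = 1 := sub_eq_zero.mp (he.mul_left_eq_zero.mp (by linear_combination -r1))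
    have hc1 : IsUnit (c - 1) := isUnit_of_mul_isUnit_left (y := c + 1) (by convert hc using 1; ring)
    rw [ha] at r2 r3
    have hf : f = 0 := hc1.mul_left_eq_zero.mp (by linear_combination -r2)
    have hh : h = 0 := hc1.mul_left_eq_zero.mp (by linear_combination r3)
    refine ⟨_, _, e, i, he, hi, e0 ha, ?_, ?_⟩
    · conv_lhs => rw [R (φ (bs 1)), g1, ← e_def, ← f_def, hf]
      simp
    · conv_lhs => rw [R (φ (bs 2)), g2, ← h_def, ← i_def, hh]
      simp
  · have hc : c = 1 := by rw [c_def, hα, map_one]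
    rw [hc] at r2 r3 r4
    have ha : a = 1 := sub_eq_zero.mp (hD.mul_left_eq_zero.mp (by
      linear_combination (-i) * r1 + h * r2))
    refine ⟨_, _, e, f, h, i, hD, e0 ha, ?_, ?_⟩
    · conv_lhs => rw [R (φ (bs 1)), g1, ← e_def, ← f_def]
      simp
    · conv_lhs => rw [R (φ (bs 2)), g2, ← h_def, ← i_def]
      simp

end Groth.Agent.S13102
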