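import Groth.Statements.S13104
import Mathlib.Tactic.LinearCombination
import Mathlib.AlgebraicGeometry.Morphisms.Flat
import Mathlib.RingTheory.Nilpotent.Basic


set_option autoImplicit false
universe u
open GrpSch

namespace Groth.Agent.S13104

theorem localRingHom_injective_of {R S : Type*} [CommRing R] [CommRing S] (f : R →+* S) (J : Ideal S) [J.IsPrime]
    (h : ∀ a t, t ∉ J → t * f a = 0 → ∃ r, f r ∉ J ∧ r * a = 0) :
    Function.Injective (Localization.localRingHom (J.comap f) J f rfl) := by
  rw [injective_iff_map_eq_zero]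
  intro z hz
  obtain ⟨a, s, rfl⟩ := IsLocalization.exists_mk'_eq (J.comap f).primeCompl z
  rw [Localization.localRingHom_mk', IsLocalization.mk'_eq_zero_iff] at hz
  obtain ⟨⟨t, ht⟩, hta⟩ := hz
  obtain ⟨r, hr, hra⟩ := h a t ht hta
  rw [IsLocalization.mk'_eq_zero_iff]
  exact ⟨⟨r, hr⟩, hra⟩

open CategoryTheory AlgebraicGeometry in
theorem stalkMap_injective_of {R S : CommRingCat.{u}} (f : R ⟶ S)
    (h : ∀ (J : Ideal S) [J.IsPrime], ∀ a t, t ∉ J → t * f.hom a = 0 → ∃ r, f.hom r ∉ J ∧ r * a = 0)
    (p : PrimeSpectrum S) : Function.Injective ((Spec.map f).stalkMap p) := by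
  rw [← Scheme.localRingHom_comp_stalkIso]
  exact ((Spec.stalkIso _ p).commRingCatIsoToRingEquiv.symm.injective.comp
    (localRingHom_injective_of f.hom p.asIdeal (h p.asIdeal))).comp
    (Spec.stalkIso _ _).commRingCatIsoToRingEquiv.injective

open CategoryTheory AlgebraicGeometry in
/-- Let B be a commutative ring, B[ε] the ring of dual numbers (ε² = 0) and B[α, β]/(α², β²) the double
dual numbers, realised as dual numbers over the dual numbers with α the inner and β the outer
generator, and let ψ : B[ε] → B[α, β]/(α², β²) be the B-algebra homomorphism with ψ(ε) = αβ. Then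
for every scheme G the map u ↦ Spec(ψ) ≫ u from morphisms Spec B[ε] → G to morphisms Spec
B[α,β]/(α²,β²) → G is injective. (The printed statement is its consequence for a group scheme G: the
map Lie(G)(B) → G(B[α,β]/(α²,β²)), x ↦ exp(αβ x), is injective; the injectivity on all B[ε]-points
stated here is what the printed argument establishes.) -/
theorem result (B : Type u) [CommRing B]
    (ψ : DualNumber B →+* DualNumber (DualNumber B))
    (hψB : ∀ b : B, ψ (algebraMap B (DualNumber B) b) = algebraMap B (DualNumber (DualNumber B)) b)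
    (hψ : ψ DualNumber.eps = algebraMap (DualNumber B) (DualNumber (DualNumber B)) DualNumber.eps * DualNumber.eps)
    (G : Scheme.{u}) :
    Function.Injective (fun u : Spec (CommRingCat.of (DualNumber B)) ⟶ G =>
      Spec.map (CommRingCat.ofHom (R := DualNumber B) (S := DualNumber (DualNumber B)) ψ) ≫ u) := by
  have hψx : ∀ x : DualNumber B, ψ x = TrivSqZeroExt.inl (TrivSqZeroExt.inl x.fst) +
      TrivSqZeroExt.inr (TrivSqZeroExt.inr x.snd) := by
    intro x
    conv_lhs =>
      rw [show x = algebraMap B (DualNumber B) x.fst + algebraMap B (DualNumber B) x.snd * DualNumber.eps by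
        ext <;> simp [TrivSqZeroExt.algebraMap_eq_inl]]
    rw [map_add, map_mul, hψB, hψB, hψ]
    simp only [TrivSqZeroExt.algebraMap_eq_inl', DualNumber.eps, Algebra.algebraMap_self, RingHom.id_apply]
    ext <;> simp only [TrivSqZeroExt.fst_add, TrivSqZeroExt.snd_add, TrivSqZeroExt.fst_mul, TrivSqZeroExt.snd_mul,
      TrivSqZeroExt.fst_inl, TrivSqZeroExt.snd_inl, TrivSqZeroExt.fst_inr, TrivSqZeroExt.snd_inr,
      TrivSqZeroExt.fst_smul, TrivSqZeroExt.snd_smul, MulOpposite.unop_op, op_smul_eq_smul, smul_eq_mul,
      TrivSqZeroExt.fst_zero, TrivSqZeroExt.snd_zero, TrivSqZeroExt.fst_one, TrivSqZeroExt.snd_one] <;> ring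
  have hnil : ∀ t : DualNumber (DualNumber B), IsNilpotent (t - TrivSqZeroExt.inl (TrivSqZeroExt.inl t.fst.fst)) := by
    intro t
    refine ⟨2 + 2, ?_⟩
    rw [pow_add]
    ext <;> simp [pow_two]
  have hsurj : Function.Surjective (PrimeSpectrum.comap (R := DualNumber B) (S := DualNumber (DualNumber B)) ψ) := by
    intro p
    let π : DualNumber (DualNumber B) →+* DualNumber B :=
      (algebraMap B (DualNumber B)).comp
        ((TrivSqZeroExt.fstHom B B B).toRingHom.comp (TrivSqZeroExt.fstHom B (DualNumber B) (DualNumber B)).toRingHom)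
    refine ⟨PrimeSpectrum.comap π p, ?_⟩
    apply PrimeSpectrum.ext
    ext x
    show π (ψ x) ∈ p.asIdeal ↔ x ∈ p.asIdeal
    have hx : π (ψ x) = x - TrivSqZeroExt.inr x.snd := by
      rw [hψx]
      ext <;> simp [π, TrivSqZeroExt.algebraMap_eq_inl]
    rw [hx]
    refine Submodule.sub_mem_iff_left _ (p.isPrime.mem_of_pow_mem 2 ?_)
    rw [pow_two, TrivSqZeroExt.inr_mul_inr]
    exact zero_mem _
  intro u v huv
  haveI : Epi (Spec.map (CommRingCat.ofHom (R := DualNumber B) (S := DualNumber (DualNumber B)) ψ)) := by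
    apply CategoryTheory.Functor.epi_of_epi_map (Scheme.forgetToLocallyRingedSpace)
    apply CategoryTheory.Functor.epi_of_epi_map (LocallyRingedSpace.forgetToSheafedSpace)
    apply SheafedSpace.epi_of_base_surjective_of_stalk_mono _ hsurj
    intro q
    apply ConcreteCategory.mono_of_injective
    show Function.Injective
      ((Spec.map (CommRingCat.ofHom (R := DualNumber B) (S := DualNumber (DualNumber B)) ψ)).stalkMap q)
    have hinj : ∀ (J : Ideal (DualNumber (DualNumber B))) [J.IsPrime],
        ∀ a t, t ∉ J → t * ψ a = 0 → ∃ r, ψ r ∉ J ∧ r * a = 0 := by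
      intro J _ a t ht hta
      refine ⟨algebraMap B (DualNumber B) (t.fst.fst * t.fst.fst), ?_, ?_⟩
      · show ψ _ ∉ J
        rw [hψB]
        intro h
        have h0 : TrivSqZeroExt.inl (TrivSqZeroExt.inl t.fst.fst) ∈ J := by
          refine (‹J.IsPrime›.mem_or_mem (x := TrivSqZeroExt.inl (TrivSqZeroExt.inl t.fst.fst))
            (y := TrivSqZeroExt.inl (TrivSqZeroExt.inl t.fst.fst)) ?_).elim id id
          convert h using 1
          rw [TrivSqZeroExt.inl_mul_inl, TrivSqZeroExt.inl_mul_inl, TrivSqZeroExt.algebraMap_eq_inl']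
          rfl
        obtain ⟨n, hn⟩ := hnil t
        have h1 := ‹J.IsPrime›.mem_of_pow_mem n (hn ▸ zero_mem J)
        exact ht (by simpa using add_mem h1 h0)
      · show _ * a = 0
        simp only [hψx] at hta
        have h00 := congrArg (fun z : DualNumber (DualNumber B) => z.fst.fst) hta
        have h11 := congrArg (fun z : DualNumber (DualNumber B) => z.snd.snd) hta
        simp at h00 h11
        ext
        · simp [TrivSqZeroExt.algebraMap_eq_inl]
          linear_combination t.fst.fst * h00
        · simp [TrivSqZeroExt.algebraMap_eq_inl]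
          linear_combination t.fst.fst * h11 - t.snd.snd * h00
    exact stalkMap_injective_of (CommRingCat.ofHom (R := DualNumber B) (S := DualNumber (DualNumber B)) ψ) hinj q
  exact (cancel_epi _).mp huv

end Groth.Agent.S13104
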