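import Groth.Statements.S13106
import Mathlib.AlgebraicGeometry.IdealSheaf.Functorial
import Mathlib.AlgebraicGeometry.Morphisms.ClosedImmersion

set_option autoImplicit false
universe u
open GrpSch

namespace Groth.Agent.S13106

open CategoryTheory AlgebraicGeometry CategoryTheory.Limits in
/-- The morphism to the fibre product of two morphisms over a base. -/
noncomputable abbrev lift' {Y Z T : AlgebraicGeometry.Scheme.{u}} {z : Z ⟶ T} (v₁ v₂ : Y ⟶ Z) (hz : v₁ ≫ z = v₂ ≫ z) :
    Y ⟶ pullback z z := pullback.lift v₁ v₂ hz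

open CategoryTheory AlgebraicGeometry in
theorem restrict_eq_zero {Y : AlgebraicGeometry.Scheme.{u}} (U V : Y.Opens) (s : Γ(Y, V))
    (h0 : (U.ι.app V).hom s = 0) :
    (Y.presheaf.map (homOfLE (inf_le_left : V ⊓ U ≤ V)).op) s = 0 := by
  rw [Scheme.Opens.ι_app] at h0
  have e : V ⊓ U ≤ U.ι ''ᵁ U.ι ⁻¹ᵁ V := by simp [Scheme.Hom.image_preimage_eq_opensRange_inf, inf_comm]
  have := congrArg (Y.presheaf.map (homOfLE e).op).hom h0
  erw [← CommRingCat.comp_apply, ← Functor.map_comp] at this
  exact this.trans (map_zero _)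

open CategoryTheory AlgebraicGeometry in
/-- Let f : X → Y be a morphism of schemes and U ⊆ Y a schematically dense open subscheme (for every
open V of Y, restriction of functions from V to V ∩ U is injective) such that the restriction f⁻¹(U)
→ U of f is an isomorphism. Then two morphisms from Y to a scheme separated over a base T that agree
after composing with f and have the same composite to T are equal: if Z → T is separated and v₁, v₂
: Y → Z satisfy v₁ ≫ (Z → T) = v₂ ≫ (Z → T) and f ≫ v₁ = f ≫ v₂, then v₁ = v₂. (The published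
statement is the case of a morphism between two prolongations over A[[t]] of a finite group scheme
over A((t)), where U is the generic fibre, schematically dense by flatness; uniqueness of
prolongation maps follows.) -/
theorem result {X Y Z T : Scheme.{u}} (f : X ⟶ Y)
    (U : Y.Opens) (hU : CInt.IsSchematicallyDense U) [IsIso (f ∣_ U)]
    (z : Z ⟶ T) [IsSeparated z] (v₁ v₂ : Y ⟶ Z) (hz : v₁ ≫ z = v₂ ≫ z) (h : f ≫ v₁ = f ≫ v₂) :
    v₁ = v₂ := by
  have hU' : U.ι ≫ v₁ = U.ι ≫ v₂ := by
    rw [← cancel_epi (f ∣_ U), morphismRestrict_ι_assoc, morphismRestrict_ι_assoc, h]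
  let E := Limits.pullback (lift' v₁ v₂ hz) (Limits.pullback.diagonal z)
  let e : E ⟶ Y := Limits.pullback.fst _ _
  let j : (U : Scheme.{u}) ⟶ E := Limits.pullback.lift U.ι (U.ι ≫ v₁) (by
    apply Limits.pullback.hom_ext <;> simp only [lift', Category.assoc, Limits.pullback.lift_fst, Limits.pullback.lift_snd, Limits.pullback.diagonal_fst, Limits.pullback.diagonal_snd, Category.comp_id, hU'])
  have hj : j ≫ e = U.ι := Limits.pullback.lift_fst _ _ _
  have hker : e.ker = ⊥ := by
    apply Scheme.IdealSheafData.ext
    funext V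
    rw [Scheme.Hom.ker_apply, Scheme.IdealSheafData.ideal_bot, Pi.bot_apply, eq_bot_iff]
    intro s hs
    rw [Ideal.mem_bot]
    apply hU V.1
    rw [RingHom.mem_ker] at hs
    have h0 : (U.ι.app V.1).hom s = 0 := by
      have := Scheme.Hom.congr_app hj.symm V.1
      rw [this]
      have h1 : ((j ≫ e).app V.1).hom s = 0 := by
        show (j.app (e ⁻¹ᵁ V.1)).hom ((e.app V.1).hom s) = 0
        rw [hs]; exact map_zero _
      show (CommRingCat.Hom.hom ((U : Scheme.{u}).presheaf.map _)) (((j ≫ e).app V.1).hom s) = 0
      rw [h1]; exact map_zero _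
    rw [map_zero]
    exact restrict_eq_zero U V.1 s h0
  have : IsIso e := IsClosedImmersion.isIso_of_ker_eq e (𝟙 Y) e (Category.comp_id e)
    (by rw [hker, Scheme.Hom.ker_eq_bot_of_isIso])
  have c : e ≫ v₁ = e ≫ v₂ := by
    have c1 := congrArg (fun q => q ≫ Limits.pullback.fst z z) (Limits.pullback.condition (f := lift' v₁ v₂ hz) (g := Limits.pullback.diagonal z))
    have c2 := congrArg (fun q => q ≫ Limits.pullback.snd z z) (Limits.pullback.condition (f := lift' v₁ v₂ hz) (g := Limits.pullback.diagonal z))
    simp only [lift', Category.assoc, Limits.pullback.lift_fst, Limits.pullback.lift_snd, Limits.pullback.diagonal_fst, Limits.pullback.diagonal_snd, Category.comp_id] at c1 c2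
    exact c1.trans c2.symm
  exact (cancel_epi e).mp c

end Groth.Agent.S13106
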