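import Groth.Statements.S13107
import Groth.Agent.GrpHelp.Lie3

set_option autoImplicit false
universe u v w
open GrpSch

namespace Groth.Agent.S13107

/-- Let k be a field, K = k((t)) the field of Laurent series over k, F a Lie algebra over K with a basis
x' = bF 0, y' = bF 1, z' = bF 2 and brackets [x',y'] = z', [x',z'] = t y', [y',z'] = 0, and L a Lie
algebra over K with a basis x = bL 0, y = bL 1, z = bL 2 and brackets [x,y] = y, [x,z] = −z, [y,z] =
0. Then there is no K-linear isomorphism of Lie algebras between L and F: F is a non-trivial form of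
L over K. (The published result is the classification of three-dimensional Lie algebras over k((t))
for k algebraically closed of characteristic not 2, with F its only non-split entry; this row states
the non-isomorphism of F and L over k((t)) for every field k.) -/
theorem result (k : Type u) [Field k]
    (F : Type v) [LieRing F] [LieAlgebra (LaurentSeries k) F] (bF : Module.Basis (Fin 3) (LaurentSeries k) F)
    (hF01 : ⁅bF 0, bF 1⁆ = bF 2) (hF02 : ⁅bF 0, bF 2⁆ = (HahnSeries.single 1 (1 : k) : LaurentSeries k) • bF 1)
    (hF12 : ⁅bF 1, bF 2⁆ = 0)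
    (L : Type w) [LieRing L] [LieAlgebra (LaurentSeries k) L] (bL : Module.Basis (Fin 3) (LaurentSeries k) L)
    (hL01 : ⁅bL 0, bL 1⁆ = bL 1) (hL02 : ⁅bL 0, bL 2⁆ = -bL 2) (hL12 : ⁅bL 1, bL 2⁆ = 0) :
    IsEmpty (L ≃ₗ⁅LaurentSeries k⁆ F) := by
  refine ⟨fun φ => ?_⟩
  have hm := fun x y => φ.map_lie (bL x) (bL y)
  have B := Groth.Agent.GrpHelp.lie_semidirect bF hF01 hF02 hF12
  have m1 := hm 0 1
  rw [hL01, B] at m1
  have g1 : bF.repr (φ (bL 1)) 0 = 0 := by
    rw [m1]; simp [Finsupp.single_apply]
  have r1 := congrArg (fun z => bF.repr z 1) m1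
  have r2 := congrArg (fun z => bF.repr z 2) m1
  simp [Finsupp.single_apply, g1] at r1 r2
  set a := bF.repr (φ (bL 0)) 0
  set e := bF.repr (φ (bL 1)) 1
  set f := bF.repr (φ (bL 1)) 2
  set t : LaurentSeries k := HahnSeries.single 1 1
  have he : e ≠ 0 := by
    intro he
    have hf : f = 0 := by rw [r2, he, mul_zero]
    have h0 : φ (bL 1) = 0 := by
      rw [Groth.Agent.GrpHelp.expand3 bF (φ (bL 1)), g1]
      simp [e, f] at he hf
      simp [he, hf]
    have := congrArg φ.symm h0
    simp at this
    exact bL.ne_zero 1 this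
  have h1 : a * a * t = 1 := mul_right_cancel₀ he (by linear_combination -r1 - (a * t) * r2)
  have ha : a ≠ 0 := by rintro h; simp [h] at h1
  have ht : t ≠ 0 := HahnSeries.single_ne_zero one_ne_zero
  have := congrArg HahnSeries.order h1
  rw [HahnSeries.order_mul (mul_ne_zero ha ha) ht, HahnSeries.order_mul ha ha, HahnSeries.order_one,
    HahnSeries.order_single one_ne_zero] at this
  omega

end Groth.Agent.S13107
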