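import Groth.Statements.S13108
import Groth.Agent.GrpHelp.Lie3

set_option autoImplicit false
universe u v w
open GrpSch

namespace Groth.Agent.S13108

/-- Let k be a field and t, t' ∈ k both non-zero; let L be a Lie algebra over k with a basis x = b 0, y
= b 1, z = b 2 and brackets [x,y] = y, [x,z] = t z, [y,z] = 0, and L' a Lie algebra over k with a
basis x' = b' 0, y' = b' 1, z' = b' 2 and brackets [x',y'] = y', [x',z'] = t' z', [y',z'] = 0. Then
L and L' are isomorphic Lie algebras over k if and only if t' = t or t' = t⁻¹. -/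
theorem result (k : Type u) [Field k] (t t' : k) (ht : t ≠ 0) (ht' : t' ≠ 0)
    (L : Type v) [LieRing L] [LieAlgebra k L] (b : Module.Basis (Fin 3) k L)
    (h01 : ⁅b 0, b 1⁆ = b 1) (h02 : ⁅b 0, b 2⁆ = t • b 2) (h12 : ⁅b 1, b 2⁆ = 0)
    (L' : Type w) [LieRing L'] [LieAlgebra k L'] (b' : Module.Basis (Fin 3) k L')
    (h01' : ⁅b' 0, b' 1⁆ = b' 1) (h02' : ⁅b' 0, b' 2⁆ = t' • b' 2) (h12' : ⁅b' 1, b' 2⁆ = 0) :
    Nonempty (L ≃ₗ⁅k⁆ L') ↔ (t' = t ∨ t' = t⁻¹) := by
  constructor
  · rintro ⟨φ⟩
    have B := Groth.Agent.GrpHelp.lie_semidirect b' h01' h02' h12'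
    have hm := fun x y => φ.map_lie (b x) (b y)
    have m1 := hm 0 1
    have m2 := hm 0 2
    rw [h01, B] at m1
    rw [h02, map_smul, B] at m2
    have g1 : b'.repr (φ (b 1)) 0 = 0 := by
      rw [m1]; simp [Finsupp.single_apply]
    have g2 : b'.repr (φ (b 2)) 0 = 0 := by
      have := congrArg (fun z => b'.repr z 0) m2
      simpa [Finsupp.single_apply, ht] using this
    have r1 := congrArg (fun z => b'.repr z 1) m1
    have r2 := congrArg (fun z => b'.repr z 2) m1
    have r3 := congrArg (fun z => b'.repr z 1) m2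
    have r4 := congrArg (fun z => b'.repr z 2) m2
    simp [Finsupp.single_apply, g1, g2] at r1 r2 r3 r4
    set a := b'.repr (φ (b 0)) 0
    set e := b'.repr (φ (b 1)) 1
    set f := b'.repr (φ (b 1)) 2
    set h := b'.repr (φ (b 2)) 1
    set i := b'.repr (φ (b 2)) 2
    have li : e * i - f * h ≠ 0 := by
      intro hD
      have hinj : ∀ p q : k, p • φ (b 1) + q • φ (b 2) = 0 → p = 0 ∧ q = 0 := by
        intro p q hpq
        have h0 : p • b 1 + q • b 2 = 0 := φ.injective (by
          show φ.toLieHom _ = φ.toLieHom 0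
          rw [map_add, map_smul, map_smul, map_zero]
          exact hpq)
        have hp := congrArg (fun z => b.repr z 1) h0
        have hq := congrArg (fun z => b.repr z 2) h0
        simp [Finsupp.single_apply] at hp hq
        exact ⟨hp, hq⟩
      have ext : ∀ z : L', b'.repr z 0 = 0 → b'.repr z 1 = 0 → b'.repr z 2 = 0 → z = 0 :=
        fun z h0 h1 h2 => by rw [Groth.Agent.GrpHelp.expand3 b' z, h0, h1, h2]; simp
      have hA := hinj i (-f) (ext _ (by simp [g1, g2]) (by
        simp only [map_add, map_smul, Finsupp.add_apply, Finsupp.smul_apply, smul_eq_mul]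
        linear_combination hD) (by
        simp only [map_add, map_smul, Finsupp.add_apply, Finsupp.smul_apply, smul_eq_mul]
        ring))
      have hB := hinj h (-e) (ext _ (by simp [g1, g2]) (by
        simp only [map_add, map_smul, Finsupp.add_apply, Finsupp.smul_apply, smul_eq_mul]
        ring) (by
        simp only [map_add, map_smul, Finsupp.add_apply, Finsupp.smul_apply, smul_eq_mul]
        linear_combination -hD))
      have he : e = 0 := neg_eq_zero.mp hB.2
      have hf : f = 0 := neg_eq_zero.mp hA.2
      exact one_ne_zero (hinj 1 0 (by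
        rw [one_smul, zero_smul, add_zero]
        exact ext _ g1 he hf)).1
    by_cases he : e = 0
    · have hf : f ≠ 0 := fun hf => li (by rw [he, hf]; ring)
      have hh : h ≠ 0 := fun hh => li (by rw [he, hh]; ring)
      have h1 : a = t := (r3.resolve_right hh).symm
      have h2 : a * t' = 1 := mul_right_cancel₀ hf (by linear_combination -r2)
      right
      rw [← h1]
      exact eq_inv_of_mul_eq_one_right h2
    · have h1 : a = 1 := mul_right_cancel₀ he (by linear_combination -r1)
      left
      by_cases hi : i = 0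
      · have hf : f ≠ 0 := fun hf => li (by rw [hi, hf]; ring)
        have hh : h ≠ 0 := fun hh => li (by rw [hi, hh]; ring)
        rw [h1] at r2 r3
        have e1 : t = 1 := r3.resolve_right hh
        have e2 : t' = 1 := mul_right_cancel₀ hf (by linear_combination -r2)
        rw [e1, e2]
      · rw [h1] at r4
        exact mul_right_cancel₀ hi (by linear_combination -r4)
  · have k10 : ⁅b 1, b 0⁆ = -b 1 := by rw [← lie_skew, h01]
    have k20 : ⁅b 2, b 0⁆ = -(t • b 2) := by rw [← lie_skew, h02]
    have k21 : ⁅b 2, b 1⁆ = 0 := by rw [← lie_skew, h12, neg_zero]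
    have k10' : ⁅b' 1, b' 0⁆ = -b' 1 := by rw [← lie_skew, h01']
    have k20' : ⁅b' 2, b' 0⁆ = -(t' • b' 2) := by rw [← lie_skew, h02']
    have k21' : ⁅b' 2, b' 1⁆ = 0 := by rw [← lie_skew, h12', neg_zero]
    rintro (h | h)
    · subst h
      refine Groth.Agent.GrpHelp.lieEquiv_of_basis b (b.equiv b' (Equiv.refl _)) fun i j => ?_
      fin_cases i <;> fin_cases j <;>
        simp [h01, h02, h12, h01', h02', h12', k10, k20, k21, k10', k20', k21']
    · let u : Fin 3 → kˣ := ![Units.mk0 t ht, 1, 1]
      let c := (b'.reindex (Equiv.swap 1 2)).unitsSMul u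
      have c0 : c 0 = t • b' 0 := by
        rw [Module.Basis.unitsSMul_apply, Module.Basis.reindex_apply, Equiv.symm_swap, Equiv.swap_apply_of_ne_of_ne (by decide) (by decide)]; rfl
      have c1 : c 1 = b' 2 := by
        rw [Module.Basis.unitsSMul_apply, Module.Basis.reindex_apply, Equiv.symm_swap, Equiv.swap_apply_left]; simp [u]
      have c2 : c 2 = b' 1 := by
        rw [Module.Basis.unitsSMul_apply, Module.Basis.reindex_apply, Equiv.symm_swap, Equiv.swap_apply_right]; simp [u]
      refine Groth.Agent.GrpHelp.lieEquiv_of_basis b (b.equiv c (Equiv.refl _)) fun i j => ?_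
      fin_cases i <;> fin_cases j <;>
        simp [h01, h02, h12, h01', h02', h12', k10, k20, k21, k10', k20', k21', c0, c1, c2,
          smul_smul, h, ht]

end Groth.Agent.S13108
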