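import Groth.Statements.S13112
import Groth.Agent.HTopAwn.Lift
-- import your own Groth.Agent.* helpers here

set_option autoImplicit false
universe u
open HTop

namespace Groth.Agent.S13112

open CategoryTheory AlgebraicGeometry in
/-- Let k be a field, T a seminormal scheme of finite type over k, and f : X → Y a proper universally
injective k-morphism of schemes locally of finite type over k. If a morphism of schemes g : T → Y
lifts through f at every point of T, i.e. for every t the composite Spec κ(t) → T → Y factors
through f, then g itself factors through f. -/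
theorem result
    {k : Type u} [Field k] {T X Y : Scheme.{u}}
    (sT : T ⟶ Spec (CommRingCat.of k)) (sX : X ⟶ Spec (CommRingCat.of k)) (sY : Y ⟶ Spec (CommRingCat.of k))
    [LocallyOfFiniteType sT] [QuasiCompact sT] [LocallyOfFiniteType sX] [LocallyOfFiniteType sY]
    (hT : HTop.IsSeminormal T)
    (f : X ⟶ Y) (hf : f ≫ sY = sX) [IsProper f] [UniversallyInjective f]
    (g : T ⟶ Y)
    (hlift : ∀ t : T, ∃ l : Spec (T.residueField t) ⟶ X, l ≫ f = T.fromSpecResidueField t ≫ g) :
    ∃ h : T ⟶ X, h ≫ f = g := Groth.Agent.HTopAwn.exists_lift_of_pointwise hT f g hlift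

end Groth.Agent.S13112
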