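import Groth.Statements.S13115
import Mathlib.LinearAlgebra.Dual.Lemmas
import Mathlib.LinearAlgebra.PiTensorProduct.Basis
import Mathlib.Algebra.MvPolynomial.Funext
import Mathlib.LinearAlgebra.Dimension.Free


set_option autoImplicit false
universe u
open scoped TensorProduct
open HilbChow

namespace Groth.Agent.S13115

/-- Let k be an infinite field, V a k-vector space and m a natural number. Then every symmetric tensor
in the m-fold tensor power of V — one fixed by every permutation of the factors — is a k-linear
combination of pure powers v ⊗ ⋯ ⊗ v with v in V. (The published statement concerns the ring of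
functions of an affine scheme over an infinite field, where it gives the uniqueness of the algebra
map defining the Hilbert-to-Chow morphism for zero-cycles; this row states it for any vector space.) -/
theorem result
    (k V : Type u) [Field k] [Infinite k] [AddCommGroup V] [Module k V] (m : ℕ)
    (x : ⨂[k] _ : Fin m, V)
    (hx : ∀ σ : Equiv.Perm (Fin m), PiTensorProduct.reindex k (fun _ : Fin m => V) σ x = x) :
    x ∈ Submodule.span k (Set.range fun v : V => PiTensorProduct.tprod k (fun _ : Fin m => v)) := by
  classical
  refine (Subspace.forall_mem_dualAnnihilator_apply_eq_zero_iff _ x).1 fun L hL => ?_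
  have hLv : ∀ v : V, L (PiTensorProduct.tprod k fun _ : Fin m => v) = 0 := fun v =>
    (Submodule.mem_dualAnnihilator L).1 hL _ (Submodule.subset_span ⟨v, rfl⟩)
  let b := Module.Free.chooseBasis k V
  let B := Basis.piTensorProduct (R := k) (fun _ : Fin m => b)
  let S : Finset (Module.Free.ChooseBasisIndex k V) :=
    (B.repr x).support.biUnion fun p => Finset.univ.image p
  let F : Finset (Fin m → Module.Free.ChooseBasisIndex k V) := Fintype.piFinset fun _ => S
  let κ : (Fin m → Module.Free.ChooseBasisIndex k V) → (Module.Free.ChooseBasisIndex k V →₀ ℕ) :=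
    fun f => ∑ i, Finsupp.single (f i) 1
  have hxF : ∑ f ∈ F, B.repr x f • B f = x := by
    conv_rhs => rw [← B.linearCombination_repr x]
    rw [Finsupp.linearCombination_apply, Finsupp.sum]
    refine (Finset.sum_subset (fun f hf => ?_) fun f _ hf => ?_).symm
    · exact Fintype.mem_piFinset.2 fun i => Finset.mem_biUnion.2 ⟨f, hf, Finset.mem_image_of_mem _ (Finset.mem_univ i)⟩
    · rw [Finsupp.notMem_support_iff.1 hf, zero_smul]
  have hperm : ∀ (σ : Equiv.Perm (Fin m)) (f : Fin m → Module.Free.ChooseBasisIndex k V),
      B.repr x (f ∘ σ.symm) = B.repr x f := by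
    intro σ f
    have h1 : ((Finsupp.lapply (f ∘ σ.symm)).comp B.repr.toLinearMap).comp
        (PiTensorProduct.reindex k (fun _ : Fin m => V) σ).toLinearMap =
        (Finsupp.lapply f).comp B.repr.toLinearMap := by
      refine B.ext fun g => ?_
      simp only [LinearMap.comp_apply, LinearEquiv.coe_coe, Finsupp.lapply_apply]
      rw [show B g = PiTensorProduct.tprod k fun i => b (g i) from Basis.piTensorProduct_apply _ _,
        PiTensorProduct.reindex_tprod,
        show (PiTensorProduct.tprod k fun i => b (g (σ.symm i))) = B (g ∘ σ.symm) from (Basis.piTensorProduct_apply _ _).symm,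
        show (PiTensorProduct.tprod k fun i => b (g i)) = B g from (Basis.piTensorProduct_apply _ _).symm,
        B.repr_self, B.repr_self, Finsupp.single_apply, Finsupp.single_apply]
      refine if_congr ⟨fun h => funext fun i => ?_, fun h => by rw [h]⟩ rfl rfl
      simpa using congrFun h (σ i)
    have h2 := LinearMap.congr_fun h1 x
    simp only [LinearMap.comp_apply, LinearEquiv.coe_coe, Finsupp.lapply_apply, hx σ] at h2
    exact h2
  have hzero : ∀ d, ∑ f ∈ F.filter (fun f => κ f = d), L (B f) = 0 := by
    have hP : (∑ f ∈ F, MvPolynomial.monomial (κ f) (L (B f))) = 0 := by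
      refine MvPolynomial.funext fun a => ?_
      rw [map_sum, map_zero, ← hLv (∑ s ∈ S, a s • b s),
        (PiTensorProduct.tprod k).map_sum_finset (fun _ s => a s • b s) (fun _ => S), map_sum]
      refine Finset.sum_congr rfl fun f _ => ?_
      rw [(PiTensorProduct.tprod k).map_smul_univ, map_smul, smul_eq_mul, MvPolynomial.eval_monomial,
        show (PiTensorProduct.tprod k fun i => b (f i)) = B f from (Basis.piTensorProduct_apply _ _).symm,
        mul_comm]
      congr 1
      simp only [κ]
      rw [← Finsupp.prod_finsetSum_index (fun _ => pow_zero _) (fun _ => pow_add _)]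
      exact Finset.prod_congr rfl fun i _ => (Finsupp.prod_single_index (h := fun n e => a n ^ e) (pow_zero _)).trans (pow_one _)
    intro d
    have h := congrArg (MvPolynomial.coeff d) hP
    rw [MvPolynomial.coeff_sum, MvPolynomial.coeff_zero] at h
    simp only [MvPolynomial.coeff_monomial] at h
    rwa [Finset.sum_filter]
  rw [← hxF, map_sum, ← Finset.sum_fiberwise_of_maps_to (t := F.image κ) (g := κ) (fun f hf => Finset.mem_image_of_mem _ hf)]
  refine Finset.sum_eq_zero fun d _ => ?_
  by_cases hd : (F.filter fun f => κ f = d).Nonempty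
  · obtain ⟨g, hg⟩ := hd
    have hgd := (Finset.mem_filter.1 hg).2
    rw [Finset.sum_congr rfl (g := fun f => B.repr x g * L (B f)) (fun f hf => ?_), ← Finset.mul_sum, hzero d, mul_zero]
    rw [map_smul, smul_eq_mul]
    congr 1
    have hcard : ∀ s, Nonempty ({i // f i = s} ≃ {i // g i = s}) := fun s => by
      refine ⟨Fintype.equivOfCardEq ?_⟩
      have h1 := congrArg (fun q : Module.Free.ChooseBasisIndex k V →₀ ℕ => q s)
        ((Finset.mem_filter.1 hf).2.trans hgd.symm)
      simp only [κ, Finsupp.finsetSum_apply, Finsupp.single_apply] at h1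
      rw [Fintype.card_subtype, Fintype.card_subtype, Finset.card_filter, Finset.card_filter]
      exact h1
    let σ : Equiv.Perm (Fin m) := Equiv.ofFiberEquiv fun s => (hcard s).some
    have hgσ : g = f ∘ σ.symm := funext fun i => by
      obtain ⟨j, rfl⟩ := σ.surjective i
      show g (σ j) = f (σ.symm (σ j))
      rw [σ.symm_apply_apply]
      exact ((hcard (f j)).some ⟨j, rfl⟩).2
    rw [hgσ, hperm]
  · rw [Finset.not_nonempty_iff_eq_empty.1 hd, Finset.sum_empty]

end Groth.Agent.S13115
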