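import Groth.Statements.S13118
import Groth.Agent.DetNorm16.Pair
import Groth.Agent.ExtCoker.Basic
-- import your own Groth.Agent.* helpers here

set_option autoImplicit false
set_option backward.isDefEq.respectTransparency false
set_option backward.isDefEq.respectTransparency.types false
universe u
open scoped TensorProduct
open HilbChow

namespace Groth.Agent.S13118
open Groth.Agent

/-- Let A → B be a ring homomorphism making B a finite locally free A-module of constant rank n, and let
M₁, M₂ be locally free B-modules of rank 1. Then, as A-modules, ∧ⁿ_A B ⊗_A ∧ⁿ_A(M₁ ⊗_B M₂) ≅ ∧ⁿ_A M₁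
⊗_A ∧ⁿ_A M₂. (The published statement gives a specific, canonical isomorphism and covers any finite
family M₁, …, M_r, with the (r−1)-st tensor power of ∧ⁿ_A B; this row asserts only that an
isomorphism exists, for two modules, the case from which the general one follows by induction.)
Locally free of rank r is expressed as finitely generated projective with all localisations at
primes of rank r. -/
theorem result
    (A B : Type u) [CommRing A] [CommRing B] [Algebra A B] [Module.Finite A B] [Module.Projective A B]
    (n : ℕ) (hn : ∀ q : PrimeSpectrum A, Module.finrank (Localization.AtPrime q.asIdeal) (LocalizedModule q.asIdeal.primeCompl B) = n)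
    (M₁ M₂ : Type u) [AddCommGroup M₁] [Module B M₁] [Module A M₁] [IsScalarTower A B M₁]
    [AddCommGroup M₂] [Module B M₂] [Module A M₂] [IsScalarTower A B M₂]
    [Module.Finite B M₁] [Module.Projective B M₁] [Module.Finite B M₂] [Module.Projective B M₂]
    (h₁ : ∀ q : PrimeSpectrum B, Module.finrank (Localization.AtPrime q.asIdeal) (LocalizedModule q.asIdeal.primeCompl M₁) = 1)
    (h₂ : ∀ q : PrimeSpectrum B, Module.finrank (Localization.AtPrime q.asIdeal) (LocalizedModule q.asIdeal.primeCompl M₂) = 1) :
    Nonempty ((⋀[A]^n B) ⊗[A] (⋀[A]^n (M₁ ⊗[B] M₂)) ≃ₗ[A] (⋀[A]^n M₁) ⊗[A] (⋀[A]^n M₂)) := by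
  exact DetNorm16.exists_det_iso n hn
    (fun q => (ExtCoker.exists_chart n q (hn q)).imp fun x hx => hx.choose_spec.2)
    (fun q => DetNorm16.exists_cyclic_near q.asIdeal M₁ h₁) (fun q => DetNorm16.exists_cyclic_near q.asIdeal M₂ h₂)

end Groth.Agent.S13118
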