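import Groth.Statements.S1312
import Mathlib

set_option autoImplicit false
universe u
open FlatMor

namespace Groth.Agent.S1312

open AlgebraicGeometry CategoryTheory Limits in
/-- Let Y ⟶ Y' be a thickening, let X be the base change to Y of a scheme X' over Y', and assume both X
⟶ Y and X' ⟶ Y' are locally of finite type. Then X ⟶ Y is locally quasi-finite if and only if X' ⟶
Y' is. -/
theorem result {X X' Y Y' : Scheme.{u}} (iX : X ⟶ X') (iY : Y ⟶ Y') (f : X ⟶ Y) (f' : X' ⟶ Y')
    (hY : MoreMor.IsThickening iY) (hc : IsPullback iX f f' iY) [LocallyOfFiniteType f] [LocallyOfFiniteType f'] :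
    LocallyQuasiFinite f ↔ LocallyQuasiFinite f' := by
  haveI := hY.1
  haveI := hY.2
  haveI : IsClosedImmersion iX := MorphismProperty.of_isPullback hc.flip ‹IsClosedImmersion iY›
  haveI : Surjective iX := MorphismProperty.of_isPullback hc.flip ‹Surjective iY›
  have hh : IsHomeomorph iX :=
    isHomeomorph_iff_isEmbedding_surjective.2 ⟨iX.isClosedEmbedding.isEmbedding, iX.surjective⟩
  have hw : ∀ x, f' (iX x) = iY (f x) := fun x => by
    rw [← Scheme.Hom.comp_apply, hc.w, Scheme.Hom.comp_apply]
  rw [locallyQuasiFinite_iff_isDiscrete_preimage_singleton,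
    locallyQuasiFinite_iff_isDiscrete_preimage_singleton]
  constructor
  · intro h y'
    obtain ⟨y, rfl⟩ := iY.surjective y'
    have : f' ⁻¹' {iY y} = iX '' (f ⁻¹' {y}) := by
      ext x'
      constructor
      · intro hx'
        obtain ⟨x, rfl⟩ := iX.surjective x'
        exact ⟨x, iY.isClosedEmbedding.injective ((hw x).symm.trans hx'), rfl⟩
      · rintro ⟨x, hx, rfl⟩
        exact (hw x).trans (congrArg iY hx)
    rw [this]
    exact (h y).image_of_isOpenMap hh.isOpenMap hh.injective
  · intro h y
    have : f ⁻¹' {y} = iX ⁻¹' (f' ⁻¹' {iY y}) := by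
      ext x
      exact ⟨fun hx => (hw x).trans (congrArg iY hx),
        fun hx => iY.isClosedEmbedding.injective ((hw x).symm.trans hx)⟩
    rw [this]
    exact (h (iY y)).preimage iX.continuous.continuousOn hh.injective

end Groth.Agent.S1312
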