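import Groth.Statements.S13120
import Groth.Agent.KumLib.CharTwo
-- import your own Groth.Agent.* helpers here

set_option autoImplicit false
universe u
open KumFam

namespace Groth.Agent.S13120

open MvPolynomial in
/-- Let R be a commutative ring of characteristic 2 and l0, l2, l4, s0, s2, s4, τ ∈ R with τ a unit.
Inside R[u, v] (u = X 0, v = X 1) let A = R[u², u³, v², v³] be the coordinate ring of the product of
two cuspidal curves, and let D be the R-derivation of R[u, v] with D(u) = v²(l0 u⁴ + τ u³ + l2 u² +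
l4) and D(v) = u²(s0 v⁴ + τ v³ + s2 v² + s4); D is u²v² times the rational vector field (l0 u² + τ u
+ l2 + l4 u⁻²) ∂_u + (s0 v² + τ v + s2 + s4 v⁻²) ∂_v, which maps A into itself, and u²v² is a
non-zero-divisor, so the kernel of that vector field on A is the set of a ∈ A with D(a) = 0. Then
for a ∈ A: D(a) = 0 if and only if a ∈ R[u², v², g], where g = (s0 v⁴ + s2 v² + s4) u³ + (l0 u⁴ + l2
u² + l4) v³ + τ u³ v³. (The published statement identifies this kernel with the ring of invariants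
of the corresponding action of the group scheme of square roots of unity; this row states the kernel
computation that is actually carried out.) -/
theorem result (R : Type u) [CommRing R] [CharP R 2]
    (l0 l2 l4 s0 s2 s4 τ : R) (hτ : IsUnit τ) (a : MvPolynomial (Fin 2) R)
    (ha : a ∈ Algebra.adjoin R
      ({X 0 ^ 2, X 0 ^ 3, X 1 ^ 2, X 1 ^ 3} : Set (MvPolynomial (Fin 2) R))) :
    MvPolynomial.mkDerivation R
        (![X 1 ^ 2 * (C l0 * X 0 ^ 4 + C τ * X 0 ^ 3 + C l2 * X 0 ^ 2 + C l4),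
          X 0 ^ 2 * (C s0 * X 1 ^ 4 + C τ * X 1 ^ 3 + C s2 * X 1 ^ 2 + C s4)] :
          Fin 2 → MvPolynomial (Fin 2) R) a = 0 ↔
      a ∈ Algebra.adjoin R
        ({X 0 ^ 2, X 1 ^ 2,
          (C s0 * X 1 ^ 4 + C s2 * X 1 ^ 2 + C s4) * X 0 ^ 3 +
            (C l0 * X 0 ^ 4 + C l2 * X 0 ^ 2 + C l4) * X 1 ^ 3 +
            C τ * X 0 ^ 3 * X 1 ^ 3} : Set (MvPolynomial (Fin 2) R)) := by
  classical
  have h0 : Groth.Agent.KumLib.sq (X 0 : MvPolynomial (Fin 2) R) = X 0 ^ 2 := expand_X 2 0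
  have h1 : Groth.Agent.KumLib.sq (X 1 : MvPolynomial (Fin 2) R) = X 1 ^ 2 := expand_X 2 1
  have hC : ∀ r : R, Groth.Agent.KumLib.sq (C r : MvPolynomial (Fin 2) R) = C r := fun r => expand_C 2 r
  have htwo : (2 : MvPolynomial (Fin 2) R) = 0 := CharTwo.two_eq_zero
  have hind : ∀ a b c d : MvPolynomial (Fin 2) R, Groth.Agent.KumLib.sq a + Groth.Agent.KumLib.sq b * X 0 ^ 3 +
      Groth.Agent.KumLib.sq c * X 1 ^ 3 + Groth.Agent.KumLib.sq d * (X 0 ^ 3 * X 1 ^ 3) = 0 →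
      a = 0 ∧ b = 0 ∧ c = 0 ∧ d = 0 := by
    intro a b c d h
    obtain ⟨h1, h2, h3, h4⟩ := Groth.Agent.KumLib.independent a (b * X 0) (c * X 1) (d * (X 0 * X 1)) (by
      simp only [map_mul, h0, h1]; linear_combination h)
    have hcan : ∀ (i : Fin 2) (f : MvPolynomial (Fin 2) R), f * X i = 0 → f = 0 := fun i f hf => by
      refine MvPolynomial.ext _ _ fun n => ?_
      simpa using (coeff_mul_X n i f).symm.trans (congrArg (coeff (n + Finsupp.single i 1)) hf)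
    exact ⟨h1, hcan 0 _ h2, hcan 1 _ h3, hcan 0 _ (hcan 1 _ (by rw [mul_assoc]; exact h4))⟩
  have hM : ∀ f : MvPolynomial (Fin 2) R, X 0 ^ 2 * X 1 ^ 2 * f = 0 → f = 0 := fun f hf => by
    refine MvPolynomial.ext _ _ fun n => ?_
    rw [show (X 0 ^ 2 * X 1 ^ 2 : MvPolynomial (Fin 2) R) = monomial (Finsupp.single 0 2 + Finsupp.single 1 2) 1 by
      simp [X_pow_eq_monomial, monomial_mul]] at hf
    simpa using (coeff_monomial_mul n (Finsupp.single 0 2 + Finsupp.single 1 2) (1 : R) f).symm.trans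
      (congrArg (coeff (Finsupp.single 0 2 + Finsupp.single 1 2 + n)) hf)
  set D := MvPolynomial.mkDerivation R
        (![X 1 ^ 2 * (C l0 * X 0 ^ 4 + C τ * X 0 ^ 3 + C l2 * X 0 ^ 2 + C l4),
          X 0 ^ 2 * (C s0 * X 1 ^ 4 + C τ * X 1 ^ 3 + C s2 * X 1 ^ 2 + C s4)] :
          Fin 2 → MvPolynomial (Fin 2) R) with hDdef
  have hu : D (X 0 ^ 3) = X 0 ^ 2 * X 1 ^ 2 * (C τ * X 0 ^ 3 + Groth.Agent.KumLib.sq (C l0 * X 0 ^ 2 + C l2 * X 0 + C l4)) := by
    rw [Derivation.leibniz_pow, hDdef, mkDerivation_X]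
    simp only [map_add, map_mul, map_pow, h0, hC, smul_eq_mul, nsmul_eq_mul, Matrix.cons_val_zero]
    linear_combination (X 0 ^ 2 * X 1 ^ 2 * (C l0 * X 0 ^ 4 + C τ * X 0 ^ 3 + C l2 * X 0 ^ 2 + C l4)) * htwo
  have hv : D (X 1 ^ 3) = X 0 ^ 2 * X 1 ^ 2 * (C τ * X 1 ^ 3 + Groth.Agent.KumLib.sq (C s0 * X 1 ^ 2 + C s2 * X 1 + C s4)) := by
    rw [Derivation.leibniz_pow, hDdef, mkDerivation_X]
    simp only [map_add, map_mul, map_pow, h1, hC, smul_eq_mul, nsmul_eq_mul, Matrix.cons_val_one, Matrix.cons_val_zero]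
    linear_combination (X 0 ^ 2 * X 1 ^ 2 * (C s0 * X 1 ^ 4 + C τ * X 1 ^ 3 + C s2 * X 1 ^ 2 + C s4)) * htwo
  obtain ⟨A, B, Cc, Dd, rfl⟩ : ∃ A B Cc Dd : MvPolynomial (Fin 2) R, a = Groth.Agent.KumLib.sq A +
      Groth.Agent.KumLib.sq B * X 0 ^ 3 + Groth.Agent.KumLib.sq Cc * X 1 ^ 3 +
      Groth.Agent.KumLib.sq Dd * (X 0 ^ 3 * X 1 ^ 3) := by
    induction ha using Algebra.adjoin_induction with
    | mem x hx =>
      rcases hx with rfl | rfl | rfl | rfl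
      · exact ⟨X 0, 0, 0, 0, by simp [h0]⟩
      · exact ⟨0, 1, 0, 0, by simp⟩
      · exact ⟨X 1, 0, 0, 0, by simp [h1]⟩
      · exact ⟨0, 0, 1, 0, by simp⟩
    | algebraMap r => exact ⟨C r, 0, 0, 0, by simp [hC]⟩
    | add p q _ _ hp hq =>
      obtain ⟨a, b, c, d, rfl⟩ := hp
      obtain ⟨a', b', c', d', rfl⟩ := hq
      exact ⟨a + a', b + b', c + c', d + d', by simp only [map_add]; ring⟩
    | mul p q _ _ hp hq =>
      obtain ⟨a, b, c, d, rfl⟩ := hp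
      obtain ⟨a', b', c', d', rfl⟩ := hq
      exact ⟨a * a' + X 0 ^ 3 * (b * b') + X 1 ^ 3 * (c * c') + X 0 ^ 3 * X 1 ^ 3 * (d * d'),
        a * b' + b * a' + X 1 ^ 3 * (c * d' + d * c'), a * c' + c * a' + X 0 ^ 3 * (b * d' + d * b'),
        a * d' + d * a' + b * c' + c * b', by simp only [map_add, map_mul, map_pow, h0, h1]; ring⟩
  rw [Groth.Agent.KumLib.derivation_kernel D (X 0 ^ 3) (X 1 ^ 3) (C l0 * X 0 ^ 2 + C l2 * X 0 + C l4) (C s0 * X 1 ^ 2 + C s2 * X 1 + C s4) (X 0 ^ 2 * X 1 ^ 2) τ hτ hind hM hu hv]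
  rw [Groth.Agent.KumLib.gens, ← Algebra.adjoin_range_eq_range_aeval]
  have hgen : Groth.Agent.KumLib.gen (X 0 ^ 3) (X 1 ^ 3) (C l0 * X 0 ^ 2 + C l2 * X 0 + C l4) (C s0 * X 1 ^ 2 + C s2 * X 1 + C s4) τ =
      (C s0 * X 1 ^ 4 + C s2 * X 1 ^ 2 + C s4) * X 0 ^ 3 +
        (C l0 * X 0 ^ 4 + C l2 * X 0 ^ 2 + C l4) * X 1 ^ 3 + C τ * X 0 ^ 3 * X 1 ^ 3 := by
    simp only [Groth.Agent.KumLib.gen, map_add, map_mul, map_pow, h0, h1, hC]; ring
  rw [hgen, Matrix.range_cons, Matrix.range_cons, Matrix.range_cons, Matrix.range_empty, Set.union_empty,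
    Set.singleton_union, Set.singleton_union]

end Groth.Agent.S13120
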