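import Groth.Statements.S13121
import Groth.Agent.KumLib.CharTwo
-- import your own Groth.Agent.* helpers here

set_option autoImplicit false
universe u
open KumFam

namespace Groth.Agent.S13121

open MvPolynomial in
/-- Let R be a commutative ring of characteristic 2 and l0, l2, l4, s0, s2, s4, τ ∈ R with τ a unit. In
R[u, v] (u = X 0, v = X 1) put g = (s0 v⁴ + s2 v² + s4) u³ + (l0 u⁴ + l2 u² + l4) v³ + τ u³ v³. Then
the kernel of the R-algebra homomorphism R[a, b, c] → R[u, v] (a = X 0, b = X 1, c = X 2) with a ↦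
u², b ↦ v², c ↦ g is the ideal generated by c² + s0² a³ b⁴ + s2² a³ b² + s4² a³ + l0² a⁴ b³ + l2² a²
b³ + l4² b³ + τ² a³ b³; its image is the subalgebra R[u², v², g], which is therefore presented by
this one equation. -/
theorem result (R : Type u) [CommRing R] [CharP R 2]
    (l0 l2 l4 s0 s2 s4 τ : R) (hτ : IsUnit τ) :
    RingHom.ker (MvPolynomial.aeval (R := R) (S₁ := MvPolynomial (Fin 2) R)
        ![X 0 ^ 2, X 1 ^ 2,
          (C s0 * X 1 ^ 4 + C s2 * X 1 ^ 2 + C s4) * X 0 ^ 3 +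
            (C l0 * X 0 ^ 4 + C l2 * X 0 ^ 2 + C l4) * X 1 ^ 3 +
            C τ * X 0 ^ 3 * X 1 ^ 3]) =
      Ideal.span {(X 2 ^ 2 + C (s0 ^ 2) * X 0 ^ 3 * X 1 ^ 4 + C (s2 ^ 2) * X 0 ^ 3 * X 1 ^ 2 +
        C (s4 ^ 2) * X 0 ^ 3 + C (l0 ^ 2) * X 0 ^ 4 * X 1 ^ 3 + C (l2 ^ 2) * X 0 ^ 2 * X 1 ^ 3 +
        C (l4 ^ 2) * X 1 ^ 3 + C (τ ^ 2) * X 0 ^ 3 * X 1 ^ 3 : MvPolynomial (Fin 3) R)} := by
  classical
  have h0 : Groth.Agent.KumLib.sq (X 0 : MvPolynomial (Fin 2) R) = X 0 ^ 2 := expand_X 2 0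
  have h1 : Groth.Agent.KumLib.sq (X 1 : MvPolynomial (Fin 2) R) = X 1 ^ 2 := expand_X 2 1
  have hC : ∀ r : R, Groth.Agent.KumLib.sq (C r : MvPolynomial (Fin 2) R) = C r := fun r => expand_C 2 r
  have htwo : (2 : MvPolynomial (Fin 2) R) = 0 := CharTwo.two_eq_zero
  have hind : ∀ a b c d : MvPolynomial (Fin 2) R, Groth.Agent.KumLib.sq a + Groth.Agent.KumLib.sq b * X 0 ^ 3 +
      Groth.Agent.KumLib.sq c * X 1 ^ 3 + Groth.Agent.KumLib.sq d * (X 0 ^ 3 * X 1 ^ 3) = 0 →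
      a = 0 ∧ b = 0 ∧ c = 0 ∧ d = 0 := by
    intro a b c d h
    obtain ⟨h1, h2, h3, h4⟩ := Groth.Agent.KumLib.independent a (b * X 0) (c * X 1) (d * (X 0 * X 1)) (by
      simp only [map_mul, h0, h1]; linear_combination h)
    have hcan : ∀ (i : Fin 2) (f : MvPolynomial (Fin 2) R), f * X i = 0 → f = 0 := fun i f hf => by
      refine MvPolynomial.ext _ _ fun n => ?_
      simpa using (coeff_mul_X n i f).symm.trans (congrArg (coeff (n + Finsupp.single i 1)) hf)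
    exact ⟨h1, hcan 0 _ h2, hcan 1 _ h3, hcan 0 _ (hcan 1 _ (by rw [mul_assoc]; exact h4))⟩
  have hz : ((C s0 * X 1 ^ 4 + C s2 * X 1 ^ 2 + C s4) * X 0 ^ 3 +
        (C l0 * X 0 ^ 4 + C l2 * X 0 ^ 2 + C l4) * X 1 ^ 3 + C τ * X 0 ^ 3 * X 1 ^ 3 : MvPolynomial (Fin 2) R) = Groth.Agent.KumLib.gen (X 0 ^ 3) (X 1 ^ 3) (C l0 * X 0 ^ 2 + C l2 * X 0 + C l4) (C s0 * X 1 ^ 2 + C s2 * X 1 + C s4) τ := by
    simp only [Groth.Agent.KumLib.gen, map_add, map_mul, map_pow, h0, h1, hC]; ring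
  have hC2 : (2 : MvPolynomial (Fin 3) R) = 0 := CharTwo.two_eq_zero
  refine (congrArg (fun z => RingHom.ker (MvPolynomial.aeval (R := R) ![X 0 ^ 2, X 1 ^ 2, z])) hz).trans ?_
  refine (Groth.Agent.KumLib.kernel_eq _ (C (s0 ^ 2) * X 0 ^ 3 * X 1 ^ 4 + C (s2 ^ 2) * X 0 ^ 3 * X 1 ^ 2 + C (s4 ^ 2) * X 0 ^ 3 + C (l0 ^ 2) * X 0 ^ 4 * X 1 ^ 3 + C (l2 ^ 2) * X 0 ^ 2 * X 1 ^ 3 + C (l4 ^ 2) * X 1 ^ 3 + C (τ ^ 2) * X 0 ^ 3 * X 1 ^ 3) ?_ fun A B h => ?_).trans ?_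
  · simp only [Groth.Agent.KumLib.gen, map_add, map_mul, map_pow, h0, h1, hC]
    grind
  · obtain ⟨-, h2, h3, h4⟩ := hind A (B * (C s0 * X 1 ^ 2 + C s2 * X 1 + C s4)) (B * (C l0 * X 0 ^ 2 + C l2 * X 0 + C l4)) (B * C τ) (by
      simp only [Groth.Agent.KumLib.gen, map_mul, hC] at h ⊢
      linear_combination h)
    have hB : B = 0 := by
      obtain ⟨t, ht⟩ := hτ.exists_right_inv
      calc B = B * C τ * C t := by rw [mul_assoc, ← map_mul, ht, map_one, mul_one]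
        _ = 0 := by rw [h4, zero_mul]
    subst hB
    rw [map_zero, zero_mul, add_zero] at h
    exact ⟨(MvPolynomial.expand_eq_zero two_pos).mp h, rfl⟩
  · refine congrArg (fun g => Ideal.span {g}) ?_
    simp only [map_add, map_mul, map_pow, rename_C, rename_X, Fin.castSucc_zero, Fin.castSucc_one]
    grind

end Groth.Agent.S13121
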