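import Groth.Statements.S13122
import Groth.Agent.KumLib.CharTwo
-- import your own Groth.Agent.* helpers here

set_option autoImplicit false
universe u
open KumFam

namespace Groth.Agent.S13122

open MvPolynomial in
/-- Let R be a commutative ring of characteristic 2 and l0, l2, l4, s0, s2, s4, τ ∈ R with τ a unit. On
R[x, y] (x = X 0, y = X 1; the coordinates u⁻¹, v⁻¹ of the smooth chart of the product of two
cuspidal curves) let D be the R-derivation with D(x) = l4 x⁴ + l2 x² + τ x + l0 and D(y) = s4 y⁴ +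
s2 y² + τ y + s0, and put h = (s4 y⁴ + s2 y² + s0) x + (l4 x⁴ + l2 x² + l0) y + τ x y. Then: (1) for
p ∈ R[x, y], D(p) = 0 if and only if p lies in the image of the R-algebra homomorphism R[a, b, c] →
R[x, y] (a = X 0, b = X 1, c = X 2) with a ↦ x², b ↦ y², c ↦ h; (2) the kernel of that homomorphism
is the ideal generated by c² + τ² a b + (s4² b⁴ + s2² b² + s0²) a + (l4² a⁴ + l2² a² + l0²) b. (The
published statement asserts that the ring of invariants of the action of the group scheme of square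
roots of unity given by this vector field is R[a, b, c] modulo this equation, by the same
computation as on the other chart; this row pins the generator h and states the kernel computation.) -/
theorem result (R : Type u) [CommRing R]
    [CharP R 2] (l0 l2 l4 s0 s2 s4 τ : R) (hτ : IsUnit τ) :
    (∀ p : MvPolynomial (Fin 2) R,
      MvPolynomial.mkDerivation R
          (![C l4 * X 0 ^ 4 + C l2 * X 0 ^ 2 + C τ * X 0 + C l0,
            C s4 * X 1 ^ 4 + C s2 * X 1 ^ 2 + C τ * X 1 + C s0] :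
            Fin 2 → MvPolynomial (Fin 2) R) p = 0 ↔
        p ∈ (MvPolynomial.aeval (R := R) (S₁ := MvPolynomial (Fin 2) R)
          ![X 0 ^ 2, X 1 ^ 2,
            (C s4 * X 1 ^ 4 + C s2 * X 1 ^ 2 + C s0) * X 0 +
              (C l4 * X 0 ^ 4 + C l2 * X 0 ^ 2 + C l0) * X 1 + C τ * X 0 * X 1]).range) ∧
    RingHom.ker (MvPolynomial.aeval (R := R) (S₁ := MvPolynomial (Fin 2) R)
        ![X 0 ^ 2, X 1 ^ 2,
          (C s4 * X 1 ^ 4 + C s2 * X 1 ^ 2 + C s0) * X 0 +
            (C l4 * X 0 ^ 4 + C l2 * X 0 ^ 2 + C l0) * X 1 + C τ * X 0 * X 1]) =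
      Ideal.span {(X 2 ^ 2 + C (τ ^ 2) * X 0 * X 1 +
        (C (s4 ^ 2) * X 1 ^ 4 + C (s2 ^ 2) * X 1 ^ 2 + C (s0 ^ 2)) * X 0 +
        (C (l4 ^ 2) * X 0 ^ 4 + C (l2 ^ 2) * X 0 ^ 2 + C (l0 ^ 2)) * X 1 : MvPolynomial (Fin 3) R)} := by
  classical
  have h0 : Groth.Agent.KumLib.sq (X 0 : MvPolynomial (Fin 2) R) = X 0 ^ 2 := expand_X 2 0
  have h1 : Groth.Agent.KumLib.sq (X 1 : MvPolynomial (Fin 2) R) = X 1 ^ 2 := expand_X 2 1
  have hC : ∀ r : R, Groth.Agent.KumLib.sq (C r : MvPolynomial (Fin 2) R) = C r := fun r => expand_C 2 r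
  have htwo : (2 : MvPolynomial (Fin 2) R) = 0 := CharTwo.two_eq_zero
  have hind : ∀ a b c d : MvPolynomial (Fin 2) R, Groth.Agent.KumLib.sq a + Groth.Agent.KumLib.sq b * X 0 +
      Groth.Agent.KumLib.sq c * X 1 + Groth.Agent.KumLib.sq d * (X 0 * X 1) = 0 →
      a = 0 ∧ b = 0 ∧ c = 0 ∧ d = 0 := Groth.Agent.KumLib.independent
  refine ⟨fun p => ?_, ?_⟩
  · obtain ⟨a, b, c, d, rfl⟩ := Groth.Agent.KumLib.spanning p
    rw [Groth.Agent.KumLib.derivation_kernel _ (X 0) (X 1) (C l4 * X 0 ^ 2 + C l2 * X 0 + C l0) (C s4 * X 1 ^ 2 + C s2 * X 1 + C s0) 1 τ hτ hind (fun f hf => by rwa [one_mul] at hf)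
      (by rw [mkDerivation_X]; simp only [map_add, map_mul, map_pow, h0, hC, Matrix.cons_val_zero]; ring)
      (by rw [mkDerivation_X]; simp only [map_add, map_mul, map_pow, h1, hC, Matrix.cons_val_one, Matrix.cons_val_zero]; ring)]
    refine iff_of_eq (congrArg (fun z => _ ∈ (MvPolynomial.aeval (R := R) ![X 0 ^ 2, X 1 ^ 2, z]).range) ?_)
    simp only [Groth.Agent.KumLib.gen, map_add, map_mul, map_pow, h0, h1, hC]; ring
  have hz : ((C s4 * X 1 ^ 4 + C s2 * X 1 ^ 2 + C s0) * X 0 +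
        (C l4 * X 0 ^ 4 + C l2 * X 0 ^ 2 + C l0) * X 1 + C τ * X 0 * X 1 : MvPolynomial (Fin 2) R) = Groth.Agent.KumLib.gen (X 0) (X 1) (C l4 * X 0 ^ 2 + C l2 * X 0 + C l0) (C s4 * X 1 ^ 2 + C s2 * X 1 + C s0) τ := by
    simp only [Groth.Agent.KumLib.gen, map_add, map_mul, map_pow, h0, h1, hC]; ring
  have hC2 : (2 : MvPolynomial (Fin 3) R) = 0 := CharTwo.two_eq_zero
  refine (congrArg (fun z => RingHom.ker (MvPolynomial.aeval (R := R) ![X 0 ^ 2, X 1 ^ 2, z])) hz).trans ?_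
  refine (Groth.Agent.KumLib.kernel_eq _ (C (τ ^ 2) * X 0 * X 1 + (C (s4 ^ 2) * X 1 ^ 4 + C (s2 ^ 2) * X 1 ^ 2 + C (s0 ^ 2)) * X 0 + (C (l4 ^ 2) * X 0 ^ 4 + C (l2 ^ 2) * X 0 ^ 2 + C (l0 ^ 2)) * X 1) ?_ fun A B h => ?_).trans ?_
  · simp only [Groth.Agent.KumLib.gen, map_add, map_mul, map_pow, h0, h1, hC]
    grind
  · obtain ⟨-, h2, h3, h4⟩ := hind A (B * (C s4 * X 1 ^ 2 + C s2 * X 1 + C s0)) (B * (C l4 * X 0 ^ 2 + C l2 * X 0 + C l0)) (B * C τ) (by
      simp only [Groth.Agent.KumLib.gen, map_mul, hC] at h ⊢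
      linear_combination h)
    have hB : B = 0 := by
      obtain ⟨t, ht⟩ := hτ.exists_right_inv
      calc B = B * C τ * C t := by rw [mul_assoc, ← map_mul, ht, map_one, mul_one]
        _ = 0 := by rw [h4, zero_mul]
    subst hB
    rw [map_zero, zero_mul, add_zero] at h
    exact ⟨(MvPolynomial.expand_eq_zero two_pos).mp h, rfl⟩
  · refine congrArg (fun g => Ideal.span {g}) ?_
    simp only [map_add, map_mul, map_pow, rename_C, rename_X, Fin.castSucc_zero, Fin.castSucc_one]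
    grind

end Groth.Agent.S13122
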