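import Groth.Statements.S13124
import Mathlib
-- import your own Groth.Agent.* helpers here

set_option autoImplicit false
universe u v w
open KumFam

namespace Groth.Agent.S13124

set_option maxHeartbeats 2000000

theorem isIntegralElem_push {S₀ R₀ L₀ K₀ : Type*} [CommRing S₀] [CommRing R₀] [CommRing L₀] [CommRing K₀]
    (i : S₀ →+* R₀) (j : R₀ →+* K₀) (l : S₀ →+* L₀) (φ : L₀ →+* K₀) (h : j.comp i = φ.comp l) {x : L₀}
    (hx : l.IsIntegralElem x) : j.IsIntegralElem (φ x) := by
  obtain ⟨P, hP, hroot⟩ := hx
  refine ⟨P.map i, hP.map _, ?_⟩
  rw [Polynomial.eval₂_map, h, ← Polynomial.hom_eval₂, hroot, map_zero]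

/-- Let k be a commutative ring, A a commutative k-bialgebra that is flat over k, and R a commutative
k-algebra which is an integrally closed domain, with a coaction R → R ⊗ A that is an algebra
homomorphism. Then the ring of invariants (the elements f with coaction f ⊗ 1) is an integrally
closed domain. (The published statement is for a finite group scheme acting on a normal scheme whose
quotient is, locally, the spectrum of the ring of invariants; this row is the affine integral case
and allows any commutative bialgebra flat over k, flatness being automatic over a field.) -/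
theorem result (k : Type u) [CommRing k]
    (A : Type v) [CommRing A] [Bialgebra k A] [Module.Flat k A]
    (R : Type w) [CommRing R] [Algebra k R] [IsDomain R] [IsIntegrallyClosed R]
    [HopfRep.Comod k A R] [GLin.IsCoactAlg k A R] :
    IsIntegrallyClosed (GLin.invariants k A R) := by
  classical
  let K := FractionRing R
  let S := GLin.invariants k A R
  refine (isIntegrallyClosed_iff (FractionRing S)).mpr fun {x} hx => ?_
  obtain ⟨a, b, hb, rfl⟩ := IsFractionRing.div_surjective (A := S) x
  have hb0 : (b : R) ≠ 0 := fun h => nonZeroDivisors.ne_zero hb (Subtype.ext h)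
  have hinj : Function.Injective ((algebraMap R K).comp S.val.toRingHom) :=
    (IsFractionRing.injective R K).comp Subtype.val_injective
  obtain ⟨φ, hφ⟩ : ∃ φ : FractionRing S →+* K, ∀ s, φ (algebraMap S (FractionRing S) s) =
      ((algebraMap R K).comp S.val.toRingHom) s :=
    ⟨IsFractionRing.lift hinj, fun s => IsFractionRing.lift_algebraMap hinj s⟩
  have hint : IsIntegral R (φ (algebraMap S _ a / algebraMap S _ b)) := by
    exact isIntegralElem_push S.val.toRingHom (algebraMap R K) (algebraMap S (FractionRing S)) φ
      (RingHom.ext fun s => (hφ s).symm) hx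
  obtain ⟨r, hr⟩ := IsIntegrallyClosed.algebraMap_eq_of_integral hint
  have hr' : r * (b : R) = a := by
    apply IsFractionRing.injective R K
    rw [map_mul, hr, map_div₀, hφ, hφ]
    exact div_mul_cancel₀ _ fun h => hb0 (IsFractionRing.injective R K (h.trans (map_zero _).symm))
  have hmem : r ∈ S := by
    have ha : HopfRep.Comod.coact (k := k) (A := A) (a : R) = (a : R) ⊗ₜ[k] (1 : A) := a.2
    have hb' : HopfRep.Comod.coact (k := k) (A := A) (b : R) = (b : R) ⊗ₜ[k] (1 : A) := b.2
    show HopfRep.Comod.coact (k := k) (A := A) r = r ⊗ₜ[k] (1 : A)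
    rw [← hr', GLin.IsCoactAlg.coact_mul, hb'] at ha
    have hmul : Function.Injective ((LinearMap.mulRight k (b : R)).rTensor A) :=
      Module.Flat.rTensor_preserves_injective_linearMap _ fun u v h => mul_right_cancel₀ hb0 h
    apply hmul
    have key : ∀ z : TensorProduct k R A, (LinearMap.mulRight k (b : R)).rTensor A z = z * ((b : R) ⊗ₜ[k] (1 : A)) := fun z => by
      induction z using TensorProduct.induction_on with
      | zero => simp
      | tmul u v => simp
      | add p q hp hq => rw [map_add, hp, hq, add_mul]
    rw [key, key, ha]
    simp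
  refine ⟨⟨r, hmem⟩, ?_⟩
  rw [eq_div_iff (fun h => nonZeroDivisors.ne_zero hb (IsFractionRing.injective S _ (h.trans (map_zero _).symm))), ← map_mul]
  exact congrArg _ (Subtype.ext hr')

end Groth.Agent.S13124
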