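import Groth.Statements.S13125
import Mathlib.RingTheory.GradedAlgebra.Homogeneous.Ideal
-- import your own Groth.Agent.* helpers here

set_option autoImplicit false
universe u v
open KumFam

namespace Groth.Agent.S13125

/-- Let A be a commutative ring graded by an additive monoid ι (an abelian group in the published
statement) through additive subgroups 𝒜 i, and I an ideal of A. Then I is a homogeneous ideal if and
only if A/I carries a structure of ι-graded ring ℬ for which the quotient map sends 𝒜 i into ℬ i for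
all i. -/
theorem result (ι : Type u) [DecidableEq ι] [AddMonoid ι]
    (A : Type v) [CommRing A] (𝒜 : ι → AddSubgroup A) [GradedRing 𝒜] (I : Ideal A) :
    I.IsHomogeneous 𝒜 ↔
      ∃ ℬ : ι → AddSubgroup (A ⧸ I), Nonempty (GradedRing ℬ) ∧
        ∀ i : ι, (𝒜 i).map (Ideal.Quotient.mk I : A →+ A ⧸ I) ≤ ℬ i := by
  classical
  let q : A →+ A ⧸ I := (Ideal.Quotient.mk I : A →+ A ⧸ I)
  constructor
  · intro hI
    let ℬ : ι → AddSubgroup (A ⧸ I) := fun i => (𝒜 i).map q
    let comp : A →+ DirectSum ι (fun i => ℬ i) :=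
      (DirectSum.map fun i => q.addSubgroupMap (𝒜 i)).comp (DirectSum.decomposeAddEquiv 𝒜).toAddMonoidHom
    have hcomp : ∀ (a : A) (i : ι), ((comp a) i : A ⧸ I) = q (DirectSum.decompose 𝒜 a i) := fun a i => rfl
    have hker : ∀ a ∈ I, comp a = 0 := fun a ha => DFinsupp.ext fun i => Subtype.ext
      ((hcomp a i).trans (Ideal.Quotient.eq_zero_iff_mem.mpr (hI i ha)))
    let dec : A ⧸ I →+ DirectSum ι (fun i => ℬ i) := QuotientAddGroup.lift I.toAddSubgroup comp hker
    have hgm : SetLike.GradedMonoid ℬ :=
      { one_mem := ⟨1, SetLike.one_mem_graded 𝒜, map_one (Ideal.Quotient.mk I)⟩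
        mul_mem := fun i j x y hx hy => by
          obtain ⟨a, ha, rfl⟩ := hx
          obtain ⟨b, hb, rfl⟩ := hy
          exact ⟨a * b, SetLike.mul_mem_graded ha hb, map_mul (Ideal.Quotient.mk I) a b⟩ }
    have hof : ∀ (i : ι) (a : A) (ha : a ∈ 𝒜 i),
        dec (q a) = DirectSum.of (fun i => ℬ i) i ⟨q a, a, ha, rfl⟩ := by
      intro i a ha
      show comp a = _
      simp only [comp, AddMonoidHom.comp_apply]
      show DirectSum.map _ (DirectSum.decompose 𝒜 a) = _
      rw [DirectSum.decompose_of_mem 𝒜 ha]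
      exact DirectSum.map_of _ i _
    refine ⟨ℬ, ⟨{ hgm with decompose' := dec, left_inv := fun x => ?_, right_inv := fun x => ?_ }⟩, fun i => le_rfl⟩
    · obtain ⟨a, rfl⟩ := Ideal.Quotient.mk_surjective x
      induction a using DirectSum.Decomposition.inductionOn 𝒜 with
      | zero => simp
      | @homogeneous i a =>
        show DirectSum.coeAddMonoidHom ℬ (dec (q a)) = _
        rw [hof i a a.2, DirectSum.coeAddMonoidHom_of]
        rfl
      | add a b ha hb => simp only [map_add] at ha hb ⊢; rw [ha, hb]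
    · induction x using DirectSum.induction_on with
      | zero => simp
      | of i x =>
        obtain ⟨_, a, ha, rfl⟩ := x
        rw [DirectSum.coeAddMonoidHom_of]
        exact hof i a ha
      | add a b ha hb => simp only [map_add, ha, hb]
  · rintro ⟨ℬ, ⟨hℬ⟩, hle⟩ i a ha
    let ψ : DirectSum ι (fun i => 𝒜 i) →+ DirectSum ι (fun i => ℬ i) :=
      DirectSum.map fun j => (q.comp (𝒜 j).subtype).codRestrict (ℬ j) fun x => hle j ⟨x, x.2, rfl⟩
    have hψ : ∀ y, DirectSum.coeAddMonoidHom ℬ (ψ y) = q (DirectSum.coeAddMonoidHom 𝒜 y) := fun y => by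
      induction y using DirectSum.induction_on with
      | zero => simp
      | of j y => simp only [ψ, DirectSum.map_of, DirectSum.coeAddMonoidHom_of]; rfl
      | add a b ha hb => simp only [map_add, ha, hb]
    have h0 : ψ (DirectSum.decompose 𝒜 a) = 0 := by
      apply hℬ.right_inv.injective
      rw [map_zero, hψ]
      refine (congrArg q ((DirectSum.decompose 𝒜).symm_apply_apply a)).trans (Ideal.Quotient.eq_zero_iff_mem.mpr ha)
    exact Ideal.Quotient.eq_zero_iff_mem.mp (congrArg (fun z : DirectSum ι (fun i => ℬ i) => (z i : A ⧸ I)) h0)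

end Groth.Agent.S13125
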