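import Groth.Statements.S13126
import Mathlib
-- import your own Groth.Agent.* helpers here

set_option autoImplicit false
universe u
open KumFam

namespace Groth.Agent.S13126

open Polynomial in
/-- Let R be a commutative ring, n a natural number which is a unit in R, and ζ ∈ R with ζ^n = 1 and 1 −
ζ^i a unit for 0 < i < n (a primitive n-th root of unity in the fibrewise sense: the powers ζ^0, …,
ζ^(n−1) are roots of X^n − 1 with pairwise unit differences; over an integral domain in which n is a
unit this is the same as ζ having multiplicative order n). Then the R-algebra homomorphism R[X] →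
(Fin n → R) sending a polynomial to its values at ζ^0, …, ζ^(n−1) is surjective and its kernel is
the ideal generated by X^n − 1; hence R[X]/(X^n − 1) ≅ R^n as R-algebras, i.e. the scheme of n-th
roots of unity over Spec R is the disjoint union of n copies of Spec R. (The published statement
asks that R contain a primitive n-th root of unity without defining the term; its Chinese-remainder
argument uses that the ideals (X − ζ^i), i < n, are pairwise comaximal, which is the unit-difference
condition taken as the hypothesis here, whereas under the reading 'ζ has multiplicative order n'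
alone the surjectivity fails over a product of two fields. The published statement also asserts that
the isomorphism respects the group-scheme structures of the n-th roots of unity and of the constant
group ℤ/n; this row does not state that.) -/
theorem result (R : Type u) [CommRing R]
    (n : ℕ) (hn : IsUnit (n : R)) (ζ : R) (hζ : ζ ^ n = 1)
    (hprim : ∀ i : ℕ, 0 < i → i < n → IsUnit (1 - ζ ^ i)) :
    Function.Surjective (AlgHom.pi (fun i : Fin n => Polynomial.aeval (R := R) (ζ ^ (i : ℕ)))) ∧
      RingHom.ker (AlgHom.pi (fun i : Fin n => Polynomial.aeval (R := R) (ζ ^ (i : ℕ)))) =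
        Ideal.span {(X ^ n - 1 : R[X])} := by
  classical
  have hpow : ∀ a b : Fin n, a ≠ b → IsUnit (ζ ^ (a : ℕ) - ζ ^ (b : ℕ)) := by
    have hu : IsUnit ζ := by
      rcases Nat.eq_zero_or_pos n with h | h
      · subst h
        have : Subsingleton R := by
          refine subsingleton_of_zero_eq_one ?_
          rw [Nat.cast_zero] at hn
          exact isUnit_zero_iff.mp hn
        exact isUnit_of_subsingleton ζ
      · exact IsUnit.of_pow_eq_one hζ h.ne'
    intro a b hab
    rcases lt_or_gt_of_ne (Fin.val_ne_of_ne hab) with h | h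
    · rw [show ζ ^ (a : ℕ) - ζ ^ (b : ℕ) = ζ ^ (a : ℕ) * (1 - ζ ^ ((b : ℕ) - a)) by
        rw [mul_sub, mul_one, ← pow_add, Nat.add_sub_cancel' h.le]]
      exact (hu.pow _).mul (hprim _ (by omega) (by omega))
    · rw [show ζ ^ (a : ℕ) - ζ ^ (b : ℕ) = -(ζ ^ (b : ℕ) * (1 - ζ ^ ((a : ℕ) - b))) by
        rw [mul_sub, mul_one, ← pow_add, Nat.add_sub_cancel' h.le, neg_sub]]
      exact ((hu.pow _).mul (hprim _ (by omega) (by omega))).neg
  let I : Fin n → Ideal R[X] := fun i => Ideal.span {X - C (ζ ^ (i : ℕ))}
  have hco : Pairwise fun a b => IsCoprime (I a) (I b) := fun a b hab =>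
    (Ideal.isCoprime_span_singleton_iff _ _).mpr (Polynomial.isCoprime_X_sub_C_of_isUnit_sub (hpow a b hab))
  have hker : ∀ i : Fin n, RingHom.ker (Polynomial.aeval (R := R) (ζ ^ (i : ℕ))) = I i := fun i => by
    rw [show (RingHom.ker (Polynomial.aeval (R := R) (ζ ^ (i : ℕ)))) = RingHom.ker (Polynomial.evalRingHom (ζ ^ (i : ℕ))) by
      ext f; simp [RingHom.mem_ker]]
    exact Polynomial.ker_evalRingHom _
  constructor
  · intro v
    obtain ⟨x, hx⟩ := Ideal.quotientInfToPiQuotient_surj hco (fun i => Ideal.Quotient.mk _ (C (v i)))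
    obtain ⟨f, rfl⟩ := Ideal.Quotient.mk_surjective x
    refine ⟨f, funext fun i => ?_⟩
    have h1 : Ideal.Quotient.mk (I i) f = Ideal.Quotient.mk (I i) (C (v i)) := congrFun hx i
    rw [Ideal.Quotient.mk_eq_mk_iff_sub_mem, ← hker i, RingHom.mem_ker, map_sub, sub_eq_zero] at h1
    simpa using h1
  · have h0 : RingHom.ker (AlgHom.pi (fun i : Fin n => Polynomial.aeval (R := R) (ζ ^ (i : ℕ)))) = ⨅ i, I i := by
      ext f
      simp only [Ideal.mem_iInf, ← hker, RingHom.mem_ker, funext_iff]
      rfl
    rw [h0, Ideal.iInf_span_singleton (fun a b hab => Polynomial.isCoprime_X_sub_C_of_isUnit_sub (hpow a b hab))]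
    set G := ∏ i : Fin n, (X - C (ζ ^ (i : ℕ)))
    have hG : G.Monic := monic_prod_of_monic _ _ fun i _ => monic_X_sub_C _
    rcases Nat.eq_zero_or_pos n with hn0 | hn0
    · subst hn0
      have : Subsingleton R := subsingleton_of_zero_eq_one (by rw [Nat.cast_zero] at hn; exact isUnit_zero_iff.mp hn)
      exact Subsingleton.elim _ _
    rcases subsingleton_or_nontrivial R with hR | hR
    · exact Subsingleton.elim _ _
    congr 1
    refine congrArg _ ?_
    have hdvd : G ∣ X ^ n - 1 := by
      refine Fintype.prod_dvd_of_coprime (fun a b hab => Polynomial.isCoprime_X_sub_C_of_isUnit_sub (hpow a b hab)) fun i => ?_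
      rw [Polynomial.dvd_iff_isRoot, Polynomial.IsRoot, eval_sub, eval_pow, eval_X, eval_one, ← pow_mul, mul_comm,
        pow_mul, hζ, one_pow, sub_self]
    have hmon : (X ^ n - 1 : R[X]).Monic := by
      rw [← C_1]; exact monic_X_pow_sub_C 1 hn0.ne'
    refine (Polynomial.eq_of_monic_of_dvd_of_natDegree_le hG hmon hdvd ?_).symm
    rw [natDegree_prod_of_monic _ _ fun i _ => monic_X_sub_C _]
    rw [← C_1, natDegree_X_pow_sub_C]
    simp [← map_pow]

end Groth.Agent.S13126
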