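import Groth.Statements.S13127
import Groth.Agent.ComodLib.PSAut
-- import your own Groth.Agent.* helpers here

set_option autoImplicit false
universe u
open KumFam

namespace Groth.Agent.S13127

open MvPowerSeries in
/-- Let R be a commutative ring of characteristic 2 and l0, l2, l4, s0, s2, s4, τ, lam, sig ∈ R with l4,
s4, lam, sig units, and let κ₁, κ₂ ∈ R satisfy s4² κ₁³ = sig² and l4² κ₂³ = lam² (cube roots of
sig²/s4² and lam²/l4²). In the power series ring R[[a, b, c]] (a = X 0, b = X 1, c = X 2) put F = c²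
+ s0² a³ b⁴ + s2² a³ b² + s4² a³ + l0² a⁴ b³ + l2² a² b³ + l4² b³ + τ² a³ b³ and F₀ = c² + sig² a³ +
lam² b³. Then some R-algebra automorphism of R[[a, b, c]] maps F to F₀; consequently R[[a, b,
c]]/(F) ≅ R[[a, b, c]]/(F₀). (In the published statement lam, sig are the representatives in the
ground field of the residues of l4, s4 at a rational point, so that F₀ is the equation of the
special fibre made constant; this row takes them to be arbitrary units.) -/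
theorem result (R : Type u) [CommRing R] [CharP R 2]
    (l0 l2 l4 s0 s2 s4 τ lam sig κ₁ κ₂ : R) (hl4 : IsUnit l4) (hs4 : IsUnit s4) (hlam : IsUnit lam)
    (hsig : IsUnit sig) (h₁ : s4 ^ 2 * κ₁ ^ 3 = sig ^ 2) (h₂ : l4 ^ 2 * κ₂ ^ 3 = lam ^ 2) :
    ∃ φ : MvPowerSeries (Fin 3) R ≃ₐ[R] MvPowerSeries (Fin 3) R,
      φ ((X 2 ^ 2 + C (s0 ^ 2) * X 0 ^ 3 * X 1 ^ 4 + C (s2 ^ 2) * X 0 ^ 3 * X 1 ^ 2 +
          C (s4 ^ 2) * X 0 ^ 3 + C (l0 ^ 2) * X 0 ^ 4 * X 1 ^ 3 + C (l2 ^ 2) * X 0 ^ 2 * X 1 ^ 3 +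
          C (l4 ^ 2) * X 1 ^ 3 + C (τ ^ 2) * X 0 ^ 3 * X 1 ^ 3 : MvPowerSeries (Fin 3) R)) =
        (X 2 ^ 2 + C (sig ^ 2) * X 0 ^ 3 + C (lam ^ 2) * X 1 ^ 3 : MvPowerSeries (Fin 3) R) := by
  have h2 : (2 : R) = 0 := CharP.cast_eq_zero R 2
  have h3 : IsUnit (3 : R) := by
    rw [show (3 : R) = 1 by linear_combination h2]
    exact isUnit_one
  have hk1 : IsUnit κ₁ := by
    have h : IsUnit (s4 ^ 2 * κ₁ ^ 3) := h₁ ▸ hsig.pow 2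
    exact (isUnit_pow_iff (by norm_num)).mp (IsUnit.mul_iff.mp h).2
  have hk2 : IsUnit κ₂ := by
    have h : IsUnit (l4 ^ 2 * κ₂ ^ 3) := h₂ ▸ hlam.pow 2
    exact (isUnit_pow_iff (by norm_num)).mp (IsUnit.mul_iff.mp h).2
  obtain ⟨s', hs'⟩ := hs4.exists_right_inv
  obtain ⟨l', hl'⟩ := hl4.exists_right_inv
  obtain ⟨k1, hk1'⟩ := hk1.exists_right_inv
  obtain ⟨k2, hk2'⟩ := hk2.exists_right_inv
  have hy : ∀ i : Fin 3, (X i : MvPowerSeries (Fin 3) R) ∈ Groth.Agent.PSLib.vars 3 R := fun i =>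
    Ideal.subset_span ⟨i, rfl⟩
  obtain ⟨c, hc, hc3⟩ := Groth.Agent.ComodLib.PSAut.exists_cubeRoot h3
    (X 1 * (C ((s' * s2) ^ 2) * X 1 + C ((s' * τ) ^ 2) * X 1 ^ 2 + C ((s' * s0) ^ 2) * X 1 ^ 3) :
      MvPowerSeries (Fin 3) R) (Ideal.mul_mem_right _ _ (hy 1))
  obtain ⟨d, hd, hd3⟩ := Groth.Agent.ComodLib.PSAut.exists_cubeRoot h3
    (X 0 * (C ((l' * l2) ^ 2) * X 0 + C ((l' * l0) ^ 2) * X 0 ^ 3) : MvPowerSeries (Fin 3) R)
    (Ideal.mul_mem_right _ _ (hy 0))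
  have hu1 : IsUnit (C k1 * c : MvPowerSeries (Fin 3) R) :=
    ((IsUnit.of_mul_eq_one κ₁ (by rw [mul_comm]; exact hk1')).map C).mul hc
  have hu2 : IsUnit (C k2 * d : MvPowerSeries (Fin 3) R) :=
    ((IsUnit.of_mul_eq_one κ₂ (by rw [mul_comm]; exact hk2')).map C).mul hd
  let y : Fin 3 → MvPowerSeries (Fin 3) R := ![X 0 * (C k1 * c), X 1 * (C k2 * d), X 2]
  obtain ⟨e, he⟩ := Groth.Agent.ComodLib.PSAut.exists_algEquiv y
    (fun i => by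
      fin_cases i
      · exact Ideal.mul_mem_right _ _ (hy 0)
      · exact Ideal.mul_mem_right _ _ (hy 1)
      · exact hy 2)
    (fun j => by
      fin_cases j
      · exact Groth.Agent.ComodLib.PSAut.mul_unit_mem_span (i := 0) hu1 rfl
      · exact Groth.Agent.ComodLib.PSAut.mul_unit_mem_span (i := 1) hu2 rfl
      · exact Ideal.subset_span ⟨2, rfl⟩)
  refine ⟨e.symm, ?_⟩
  rw [AlgEquiv.symm_apply_eq]
  have hC : ∀ r : R, e (C r) = C r := fun r => e.commutes r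
  simp only [map_add, map_mul, map_pow, hC, he]
  show _ = (X 2 : MvPowerSeries (Fin 3) R) ^ 2 + C sig ^ 2 * (X 0 * (C k1 * c)) ^ 3 +
    C lam ^ 2 * (X 1 * (C k2 * d)) ^ 3
  have hC0 : ∀ {a b : R}, a = b → (C a : MvPowerSeries (Fin 3) R) = C b := fun h => congrArg C h
  have e1 : (C s4 : MvPowerSeries (Fin 3) R) ^ 2 = C sig ^ 2 * C k1 ^ 3 := by
    simpa only [map_mul, map_pow] using
      hC0 (show s4 ^ 2 = sig ^ 2 * k1 ^ 3 by linear_combination k1 ^ 3 * h₁ - s4 ^ 2 * (κ₁ ^ 2 * k1 ^ 2 + κ₁ * k1 + 1) * hk1')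
  have e2 : (C l4 : MvPowerSeries (Fin 3) R) ^ 2 = C lam ^ 2 * C k2 ^ 3 := by
    simpa only [map_mul, map_pow] using
      hC0 (show l4 ^ 2 = lam ^ 2 * k2 ^ 3 by linear_combination k2 ^ 3 * h₂ - l4 ^ 2 * (κ₂ ^ 2 * k2 ^ 2 + κ₂ * k2 + 1) * hk2')
  have e3 : (C s4 : MvPowerSeries (Fin 3) R) * C s' = 1 := by simpa only [map_mul, map_one] using hC0 hs'
  have e4 : (C l4 : MvPowerSeries (Fin 3) R) * C l' = 1 := by simpa only [map_mul, map_one] using hC0 hl'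
  simp only [map_mul, map_pow] at hc3 hd3
  linear_combination -(X 0 ^ 3 * C sig ^ 2 * C k1 ^ 3) * hc3 - (X 1 ^ 3 * C lam ^ 2 * C k2 ^ 3) * hd3 +
    (X 0 ^ 3 * (1 + X 1 * (C s' ^ 2 * C s2 ^ 2 * X 1 + C s' ^ 2 * C τ ^ 2 * X 1 ^ 2 + C s' ^ 2 * C s0 ^ 2 * X 1 ^ 3))) * e1 +
    (X 1 ^ 3 * (1 + X 0 * (C l' ^ 2 * C l2 ^ 2 * X 0 + C l' ^ 2 * C l0 ^ 2 * X 0 ^ 3))) * e2 -
    (X 0 ^ 3 * X 1 * (C s2 ^ 2 * X 1 + C τ ^ 2 * X 1 ^ 2 + C s0 ^ 2 * X 1 ^ 3) * (C s4 * C s' + 1)) * e3 -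
    (X 1 ^ 3 * X 0 * (C l2 ^ 2 * X 0 + C l0 ^ 2 * X 0 ^ 3) * (C l4 * C l' + 1)) * e4

end Groth.Agent.S13127
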