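import Groth.Statements.S13128
import Groth.Agent.ComodLib.PSAut
-- import your own Groth.Agent.* helpers here

set_option autoImplicit false
universe u
open KumFam

namespace Groth.Agent.S13128

open MvPowerSeries in
/-- Let R be a commutative ring of characteristic 2, l0, l2, l4, s0, s2, s4, τ ∈ R with τ a unit, and α,
β ∈ R with l4² α⁴ + l2² α² + τ² α + l0² = 0 and s4² β⁴ + s2² β² + τ² β + s0² = 0. In characteristic
2 these relations give τ² α = (l4 α² + l2 α + l0)² and τ² β = (s4 β² + s2 β + s0)², so α = α′² and β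
= β′² with α′ = (l4 α² + l2 α + l0)/τ and β′ = (s4 β² + s2 β + s0)/τ. In R[[a, b, c]] (a = X 0, b =
X 1, c = X 2) put h = c² + τ² a b + (s4² b⁴ + s2² b²) a + (l4² a⁴ + l2² a²) b + l4² β a⁴ + l2² β a²
+ s4² α b⁴ + s2² α b²; this is the chart equation c² + τ² a b + (s4² b⁴ + s2² b² + s0²) a + (l4² a⁴
+ l2² a² + l0²) b after the substitution a ↦ a + α, b ↦ b + β, c ↦ c + τ α′ β′, which moves the
point (α, β, τ α′ β′) of that surface, where all partial derivatives vanish, to the origin. Then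
some R-algebra automorphism of R[[a, b, c]] maps h to c² + a b; consequently R[[a, b, c]]/(h) ≅
R[[a, b, c]]/(c² + a b), the completed local ring of an ordinary double point, constant over R. (The
published statement translates only a and b, so that its h carries the additional constant term τ² α
β; with that term h is a unit of R[[a, b, c]] whenever τ α β is a unit, for instance c² + a b + 1
over the field with two elements with l0 = s0 = τ = α = β = 1 and l2 = l4 = s2 = s4 = 0, and no ring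
automorphism carries a unit to c² + a b. The published proof begins by shifting c by a polynomial in
a, b whose constant term is τ α′ β′, a substitution of the polynomial ring which removes the term τ²
α β, and the rest of its argument takes place in R[[a, b, c]]; this row states the result for the
fully translated equation, which is what that argument proves.) -/
theorem result (R : Type u) [CommRing R] [CharP R 2]
    (l0 l2 l4 s0 s2 s4 τ α β : R) (hτ : IsUnit τ)
    (hα : l4 ^ 2 * α ^ 4 + l2 ^ 2 * α ^ 2 + τ ^ 2 * α + l0 ^ 2 = 0)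
    (hβ : s4 ^ 2 * β ^ 4 + s2 ^ 2 * β ^ 2 + τ ^ 2 * β + s0 ^ 2 = 0) :
    ∃ φ : MvPowerSeries (Fin 3) R ≃ₐ[R] MvPowerSeries (Fin 3) R,
      φ ((X 2 ^ 2 + C (τ ^ 2) * X 0 * X 1 + (C (s4 ^ 2) * X 1 ^ 4 + C (s2 ^ 2) * X 1 ^ 2) * X 0 +
          (C (l4 ^ 2) * X 0 ^ 4 + C (l2 ^ 2) * X 0 ^ 2) * X 1 + C (l4 ^ 2 * β) * X 0 ^ 4 +
          C (l2 ^ 2 * β) * X 0 ^ 2 + C (s4 ^ 2 * α) * X 1 ^ 4 + C (s2 ^ 2 * α) * X 1 ^ 2 :
          MvPowerSeries (Fin 3) R)) =
        (X 2 ^ 2 + X 0 * X 1 : MvPowerSeries (Fin 3) R) := by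
  have h2 : (2 : R) = 0 := CharP.cast_eq_zero R 2
  obtain ⟨t, ht⟩ := hτ.exists_right_inv
  set γ := t * (s4 * β ^ 2 + s2 * β + s0) with hγdef
  set δ := t * (l4 * α ^ 2 + l2 * α + l0) with hδdef
  have hγ : γ ^ 2 = β := by
    linear_combination t ^ 2 * hβ - β * (τ * t + 1) * ht +
      (t ^ 2 * (s4 * β ^ 2 * s2 * β + s4 * β ^ 2 * s0 + s2 * β * s0) - β) * h2
  have hδ : δ ^ 2 = α := by
    linear_combination t ^ 2 * hα - α * (τ * t + 1) * ht +
      (t ^ 2 * (l4 * α ^ 2 * l2 * α + l4 * α ^ 2 * l0 + l2 * α * l0) - α) * h2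
  have hy : ∀ i : Fin 3, (X i : MvPowerSeries (Fin 3) R) ∈ Groth.Agent.PSLib.vars 3 R := fun i =>
    Ideal.subset_span ⟨i, rfl⟩
  let u : MvPowerSeries (Fin 3) R := C (τ ^ 2) + C (s4 ^ 2) * X 1 ^ 3 + C (s2 ^ 2) * X 1 +
    C (l4 ^ 2) * X 0 ^ 3 + C (l2 ^ 2) * X 0
  let w : MvPowerSeries (Fin 3) R := C (l4 * γ) * X 0 ^ 2 + C (l2 * γ) * X 0 +
    C (s4 * δ) * X 1 ^ 2 + C (s2 * δ) * X 1
  have hu : IsUnit u := by
    rw [MvPowerSeries.isUnit_iff_constantCoeff]
    simpa [u] using hτ.pow 2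
  let y : Fin 3 → MvPowerSeries (Fin 3) R := ![X 0 * u, X 1, X 2 + w]
  have hwmem : ∀ I : Ideal (MvPowerSeries (Fin 3) R), X 0 ∈ I → X 1 ∈ I → w ∈ I := fun I h0 h1 =>
    add_mem (add_mem (add_mem (I.mul_mem_left _ (I.pow_mem_of_mem h0 2 two_pos)) (I.mul_mem_left _ h0))
      (I.mul_mem_left _ (I.pow_mem_of_mem h1 2 two_pos))) (I.mul_mem_left _ h1)
  have hX0 : (X 0 : MvPowerSeries (Fin 3) R) ∈ Ideal.span (Set.range y) :=
    Groth.Agent.ComodLib.PSAut.mul_unit_mem_span (i := 0) hu rfl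
  have hX1 : (X 1 : MvPowerSeries (Fin 3) R) ∈ Ideal.span (Set.range y) := Ideal.subset_span ⟨1, rfl⟩
  obtain ⟨e, he⟩ := Groth.Agent.ComodLib.PSAut.exists_algEquiv y
    (fun i => by
      fin_cases i
      · exact Ideal.mul_mem_right _ _ (hy 0)
      · exact hy 1
      · exact add_mem (hy 2) (hwmem _ (hy 0) (hy 1)))
    (fun j => by
      fin_cases j
      · exact hX0
      · exact hX1
      · have h : X 2 + w ∈ Ideal.span (Set.range y) := Ideal.subset_span ⟨2, rfl⟩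
        exact (Ideal.add_mem_iff_left _ (hwmem _ hX0 hX1)).mp h)
  refine ⟨e.symm, ?_⟩
  rw [AlgEquiv.symm_apply_eq]
  simp only [map_add, map_mul, map_pow, he]
  show _ = (X 2 + w) ^ 2 + (X 0 * u) * X 1
  have hC : ∀ {a b : R}, a = b → (C a : MvPowerSeries (Fin 3) R) = C b := fun h => congrArg C h
  have e1 : (C γ : MvPowerSeries (Fin 3) R) ^ 2 = C β := by simpa only [map_pow] using hC hγ
  have e2 : (C δ : MvPowerSeries (Fin 3) R) ^ 2 = C α := by simpa only [map_pow] using hC hδ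
  have e0 : (2 : MvPowerSeries (Fin 3) R) = 0 := by simpa only [map_ofNat, map_zero] using hC h2
  simp only [u, w, map_mul, map_pow]
  linear_combination -(C l4 ^ 2 * X 0 ^ 4 + C l2 ^ 2 * X 0 ^ 2) * e1 - (C s4 ^ 2 * X 1 ^ 4 + C s2 ^ 2 * X 1 ^ 2) * e2 -
    (X 2 * (C l4 * C γ * X 0 ^ 2 + C l2 * C γ * X 0 + C s4 * C δ * X 1 ^ 2 + C s2 * C δ * X 1) +
      C l4 * C γ * X 0 ^ 2 * (C l2 * C γ * X 0) + C l4 * C γ * X 0 ^ 2 * (C s4 * C δ * X 1 ^ 2) +
      C l4 * C γ * X 0 ^ 2 * (C s2 * C δ * X 1) + C l2 * C γ * X 0 * (C s4 * C δ * X 1 ^ 2) +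
      C l2 * C γ * X 0 * (C s2 * C δ * X 1) + C s4 * C δ * X 1 ^ 2 * (C s2 * C δ * X 1)) * e0

end Groth.Agent.S13128
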