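import Groth.Statements.S13129
import Groth.Agent.SurfRows.R1Resolution
import Groth.Agent.GrpSchLib.SmoothReduced

set_option autoImplicit false
set_option backward.isDefEq.respectTransparency false
set_option backward.isDefEq.respectTransparency.types false
set_option linter.style.haveILetI false
set_option linter.unusedSectionVars false
set_option maxHeartbeats 800000
universe u
open CategoryTheory CategoryTheory.Limits AlgebraicGeometry
open KumFam

namespace Groth.Agent.S13129

open CategoryTheory CategoryTheory.Limits Groth.Agent Groth.Agent.H23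
attribute [local instance] PicMul.clMonoid

/-- Let k be an algebraically closed field, Y a proper normal surface over k (irreducible of dimension 2
with integrally closed local domains), X a proper smooth surface over k, and π : X → Y a k-morphism
which restricts to an isomorphism over Y minus a closed point y and whose fibre over y is
one-dimensional (a resolution of the singularity (Y, y)). Then R¹π_* O_X = 0 (first higher direct
image of the underlying abelian sheaf) if and only if χ(X, O_X) = χ(Y, O_Y). -/
theorem result (k : Type u) [Field k] [IsAlgClosed k]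
    (X Y : Scheme.{u}) [X.Over (Spec (CommRingCat.of k))] [Y.Over (Spec (CommRingCat.of k))]
    [IsProper (X ↘ Spec (CommRingCat.of k))] [IsProper (Y ↘ Spec (CommRingCat.of k))]
    [IrreducibleSpace X] [IrreducibleSpace Y] (hdX : topologicalKrullDim X = 2)
    (hdY : topologicalKrullDim Y = 2) [Smooth (X ↘ Spec (CommRingCat.of k))]
    (hYn : Pi1.IsNormalScheme Y) (π : X ⟶ Y) [π.IsOver (Spec (CommRingCat.of k))]
    (y : Y) (hy : IsClosed ({y} : Set Y))
    (hiso : IsIso (π ∣_ (⟨({y} : Set Y)ᶜ, hy.isOpen_compl⟩ : Y.Opens)))
    (hfib : topologicalKrullDim ((fun x : X => π.base x) ⁻¹' ({y} : Set Y)) = 1) :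
    IsZero ((Coh.RpushAb π 1).obj (Coh.toAb (Coh.structureModule X))) ↔
      Curv2.euler k X (Coh.structureModule X) = Curv2.euler k Y (Coh.structureModule Y) := by
  haveI := hiso
  haveI : IsReduced X := GrpSchLib.isReduced_of_smooth_field (X ↘ Spec (CommRingCat.of k))
  haveI : IsIntegral X := isIntegral_of_irreducibleSpace_of_isReduced X
  haveI : ∀ y : Y, _root_.IsReduced (Y.presheaf.stalk y) := fun y => by haveI := (hYn y).1; infer_instance
  haveI : IsReduced Y := isReduced_of_isReduced_stalk Y
  haveI : IsIntegral Y := isIntegral_of_irreducibleSpace_of_isReduced Y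
  have hπ : π ≫ (Y ↘ Spec (CommRingCat.of k)) = X ↘ Spec (CommRingCat.of k) := comp_over π _
  haveI : IsProper (π ≫ (Y ↘ Spec (CommRingCat.of k))) := by rw [hπ]; infer_instance
  haveI : IsProper π := IsProper.of_comp π (Y ↘ Spec (CommRingCat.of k))
  refine SurfRows.R1_zero_iff_euler k hdY hYn π hπ ⟨({y} : Set Y)ᶜ, hy.isOpen_compl⟩ ?_
  refine Set.nonempty_compl.2 fun h => ?_
  haveI : Subsingleton Y := ⟨fun a b => by
    have ha : a ∈ ({y} : Set Y) := h ▸ Set.mem_univ a
    have hb : b ∈ ({y} : Set Y) := h ▸ Set.mem_univ b
    exact ha.trans hb.symm⟩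
  have h1 : topologicalKrullDim Y ≤ 0 := topologicalKrullDim_zero_of_discreteTopology _
  rw [hdY] at h1
  exact absurd h1 (by decide)

end Groth.Agent.S13129
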