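import Groth.Statements.S13131
import Mathlib.AlgebraicGeometry.Limits
import Mathlib.Topology.LocallyConstant.Basic
-- import your own Groth.Agent.* helpers here

set_option autoImplicit false
universe u
open CategoryTheory CategoryTheory.Limits AlgebraicGeometry
open KumFam

namespace Groth.Agent.S13131

/-- Let S be a scheme, M a set and p : T → S a scheme over S. The S-morphisms T → ∐_{m ∈ M} S (the
constant S-scheme on M, with its structure map the codiagonal) are in bijection with the locally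
constant maps T → M, a morphism f corresponding to the function sending t to the index of the copy
of S containing f(t). (In the published statement M is a group and ∐_M S the constant group scheme;
the group structures play no role in this description of T-points.) -/
theorem result (S : Scheme.{u}) (M : Type u)
    (T : Scheme.{u}) (p : T ⟶ S) :
    ∃ e : {f : T ⟶ ∐ (fun _ : M => S) // f ≫ Sigma.desc (fun _ : M => 𝟙 S) = p} ≃
        LocallyConstant T M,
      ∀ (f : {f : T ⟶ ∐ (fun _ : M => S) // f ≫ Sigma.desc (fun _ : M => 𝟙 S) = p}) (t : T),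
        e f t = ((sigmaMk (fun _ : M => S)).symm (f.1.base t)).1 := by
  classical
  let idx : (T ⟶ ∐ (fun _ : M => S)) → T → M :=
    fun f t => ((sigmaMk (fun _ : M => S)).symm (f.1.base t)).1
  have hrange : ∀ (f : T ⟶ ∐ (fun _ : M => S)) (t : T) (m : M), idx f t = m →
      f.base t ∈ Set.range (Sigma.ι (fun _ : M => S) m).base := by
    rintro f t m rfl
    refine ⟨((sigmaMk (fun _ : M => S)).symm (f.1.base t)).2, ?_⟩
    rw [← sigmaMk_mk]
    exact (sigmaMk (fun _ : M => S)).apply_symm_apply _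
  have hidx : ∀ (m : M) (s : S),
      ((sigmaMk (fun _ : M => S)).symm ((Sigma.ι (fun _ : M => S) m).base s)).1 = m := fun m s => by
    rw [← sigmaMk_mk, Homeomorph.symm_apply_apply]
  have hlc : ∀ f : T ⟶ ∐ (fun _ : M => S), IsLocallyConstant (idx f) := fun f =>
    IsLocallyConstant.iff_isOpen_fiber.mpr fun m => by
      have : idx f ⁻¹' {m} = f.base ⁻¹' Set.range (Sigma.ι (fun _ : M => S) m).base := by
        ext t
        refine ⟨fun h => hrange f t m h, fun ⟨s, hs⟩ => ?_⟩
        show ((sigmaMk (fun _ : M => S)).symm (f.base t)).1 = m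
        rw [← hs, hidx]
      rw [this]
      exact (Sigma.ι (fun _ : M => S) m).isOpenEmbedding.isOpen_range.preimage f.continuous
  let Φ : {f : T ⟶ ∐ (fun _ : M => S) // f ≫ Sigma.desc (fun _ : M => 𝟙 S) = p} → LocallyConstant T M :=
    fun f => ⟨idx f.1, hlc f.1⟩
  suffices hb : Function.Bijective Φ from ⟨Equiv.ofBijective Φ hb, fun f t => rfl⟩
  let U : LocallyConstant T M → M → T.Opens := fun φ m => ⟨φ ⁻¹' {m}, φ.isLocallyConstant.isOpen_fiber m⟩
  have hU : ∀ φ, iSup (U φ) = ⊤ := fun φ => by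
    ext t
    simpa only [TopologicalSpace.Opens.coe_iSup, Set.mem_iUnion, TopologicalSpace.Opens.coe_top, Set.mem_univ, iff_true] using
      (⟨φ t, rfl⟩ : ∃ m, t ∈ (U φ m : Set T))
  constructor
  · rintro ⟨f, hf⟩ ⟨g, hg⟩ h
    refine Subtype.ext (Scheme.Cover.hom_ext (T.openCoverOfIsOpenCover (U (Φ ⟨f, hf⟩)) (.mk (hU _))) _ _ fun m => ?_)
    have lift : ∀ x : T ⟶ ∐ (fun _ : M => S), x ≫ Sigma.desc (fun _ : M => 𝟙 S) = p →
        (∀ t ∈ U (Φ ⟨f, hf⟩) m, idx x t = m) →
        (U (Φ ⟨f, hf⟩) m).ι ≫ x = ((U (Φ ⟨f, hf⟩) m).ι ≫ p) ≫ Sigma.ι (fun _ : M => S) m := by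
      intro x hx hxm
      have hsub : Set.range ((U (Φ ⟨f, hf⟩) m).ι ≫ x).base ⊆ Set.range (Sigma.ι (fun _ : M => S) m).base := by
        rintro _ ⟨t, rfl⟩
        exact hrange x _ m (hxm _ t.2)
      have e := IsOpenImmersion.lift_fac (Sigma.ι (fun _ : M => S) m) _ hsub
      have : IsOpenImmersion.lift (Sigma.ι (fun _ : M => S) m) _ hsub = (U (Φ ⟨f, hf⟩) m).ι ≫ p := by
        have e2 := congrArg (· ≫ Sigma.desc (fun _ : M => 𝟙 S)) e
        erw [Category.assoc, Category.assoc, Sigma.ι_desc, Category.comp_id] at e2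
        exact e2.trans (congrArg ((U (Φ ⟨f, hf⟩) m).ι ≫ ·) hx)
      rw [this] at e
      exact e.symm
    exact (lift f hf fun t ht => ht).trans (lift g hg fun t ht => (DFunLike.congr_fun h t).symm.trans ht).symm
  · intro φ
    let 𝒰 := T.openCoverOfIsOpenCover (U φ) (.mk (hU φ))
    let loc : ∀ m : M, (U φ m).toScheme ⟶ ∐ (fun _ : M => S) := fun m => ((U φ m).ι ≫ p) ≫ Sigma.ι (fun _ : M => S) m
    have hglue : ∀ m n, pullback.fst (𝒰.f m) (𝒰.f n) ≫ loc m = pullback.snd (𝒰.f m) (𝒰.f n) ≫ loc n := by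
      intro m n
      rcases eq_or_ne m n with rfl | hmn
      · simp only [loc, ← Category.assoc]
        exact congrArg (fun q => (q ≫ p) ≫ Sigma.ι (fun _ : M => S) m) (pullback.condition (f := 𝒰.f m) (g := 𝒰.f m))
      · haveI : IsEmpty ↥(pullback (𝒰.f m) (𝒰.f n)) := ⟨fun z => hmn (by
          have h1 := congrArg (fun q : pullback (𝒰.f m) (𝒰.f n) ⟶ T => q.base z) (pullback.condition (f := 𝒰.f m) (g := 𝒰.f n))
          exact (((pullback.fst (𝒰.f m) (𝒰.f n)).base z).2).symm.trans
            ((congrArg φ h1).trans (((pullback.snd (𝒰.f m) (𝒰.f n)).base z).2)))⟩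
        exact (isInitialOfIsEmpty).hom_ext _ _
    refine ⟨⟨𝒰.glueMorphisms loc hglue, 𝒰.hom_ext _ _ fun m => ?_⟩, LocallyConstant.ext fun t => ?_⟩
    · erw [← Category.assoc, 𝒰.ι_glueMorphisms]
      show (((U φ m).ι ≫ p) ≫ Sigma.ι (fun _ : M => S) m) ≫ _ = (U φ m).ι ≫ p
      erw [Category.assoc, Sigma.ι_desc, Category.comp_id]
    · have e := congrArg (fun q => q.base (⟨t, rfl⟩ : U φ (φ t))) (𝒰.ι_glueMorphisms loc hglue (φ t))
      show ((sigmaMk (fun _ : M => S)).symm ((𝒰.glueMorphisms loc hglue).base t)).1 = φ t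
      rw [show (𝒰.glueMorphisms loc hglue).base t = (Sigma.ι (fun _ : M => S) (φ t)).base (p.base t) from e]
      exact hidx _ _

end Groth.Agent.S13131
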