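import Groth.Statements.S13132
import Groth.Agent.ArtFlat.Sequence

set_option autoImplicit false
universe u v
open CAlg

namespace Groth.Agent.S13132
open Groth.Agent.ArtFlat

/-- Let A' be an Artinian local ring, I a proper ideal of A' and S' a flat A'-algebra. An element f' of
S' is a non-zero-divisor exactly when its image in S'/IS' is one; and when f' is a non-zero-divisor,
the quotient S'/(f') is flat over A'. (The published statement is for local Artinian algebras with a
fixed residue field over a ring of Witt vectors and a surjection between two of them; the argument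
uses only that A' is Artinian local and I is a proper ideal, which is the form taken here.) -/
theorem result
    {A' : Type u} [CommRing A'] [IsArtinianRing A'] [IsLocalRing A'] (I : Ideal A') (hI : I ≠ ⊤)
    {S' : Type v} [CommRing S'] [Algebra A' S'] [Module.Flat A' S'] (f' : S') :
    (f' ∈ nonZeroDivisors S' ↔
      Ideal.Quotient.mk (I.map (algebraMap A' S')) f' ∈ nonZeroDivisors (S' ⧸ I.map (algebraMap A' S'))) ∧
    (f' ∈ nonZeroDivisors S' → Module.Flat A' (S' ⧸ Ideal.span {f'})) := by
  have hnzd : ∀ (J : Ideal A'), Ideal.Quotient.mk (J.map (algebraMap A' S')) f' ∈ nonZeroDivisors (S' ⧸ J.map (algebraMap A' S')) ↔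
      Chain [f'] J := fun J => by
    rw [mem_nonZeroDivisors_iff_left]
    refine ⟨fun h k hk x hx => ?_, fun h y hy => ?_⟩
    · obtain rfl : k = 0 := by simp at hk; omega
      simp at hx ⊢
      rw [← Ideal.Quotient.eq_zero_iff_mem] at hx ⊢
      exact h _ (by rwa [← map_mul])
    · obtain ⟨x, rfl⟩ := Ideal.Quotient.mk_surjective y
      rw [← map_mul, Ideal.Quotient.eq_zero_iff_mem] at hy
      rw [Ideal.Quotient.eq_zero_iff_mem]
      simpa using h 0 (by simp) x (by simpa using hy)
  have hbot : f' ∈ nonZeroDivisors S' ↔ Chain [f'] (⊥ : Ideal A') := by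
    rw [mem_nonZeroDivisors_iff_left]
    refine ⟨fun h k hk x hx => ?_, fun h y hy => ?_⟩
    · obtain rfl : k = 0 := by simp at hk; omega
      simp at hx ⊢
      exact h _ hx
    · simpa using h 0 (by simp) y (by simpa using hy)
  refine ⟨by rw [hbot, hnzd I]; exact chain_iff _ ⊥ I bot_ne_top hI, fun h => ?_⟩
  have := flat_of_chain [f'] (⊥ : Ideal A') bot_ne_top (hbot.1 h) 1 le_rfl
  rwa [List.take_of_length_le (by simp), Ideal.ofList_singleton] at this

end Groth.Agent.S13132
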