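import Groth.Statements.S13133
import Groth.Agent.ArtFlat.Sequence

set_option autoImplicit false
universe u v
open CAlg

namespace Groth.Agent.S13133
open Groth.Agent.ArtFlat RingTheory.Sequence

/-- Let A' be an Artinian local ring, I a proper ideal of A', S' a flat A'-algebra and f'_1, …, f'_n
elements of S' with n ≥ 1. A family f'_1, …, f'_n in S' is a regular sequence exactly when its
reduction modulo I·S' is a regular sequence of S'/IS'. (Regular sequences are defined in the
published text over Noetherian rings; this row does not assume S' Noetherian, which the argument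
does not use. The published statement is for a surjection of local Artinian algebras with a fixed
residue field over a ring of Witt vectors; only the Artinian local base and the proper ideal are
used, which is the form taken here.) -/
theorem result
    {A' : Type u} [CommRing A'] [IsArtinianRing A'] [IsLocalRing A'] (I : Ideal A') (hI : I ≠ ⊤)
    {S' : Type v} [CommRing S'] [Algebra A' S'] [Module.Flat A' S'] {n : ℕ} (hn : 1 ≤ n)
    (f' : Fin n → S') :
    RingTheory.Sequence.IsRegular S' (List.ofFn f') ↔
      RingTheory.Sequence.IsRegular (S' ⧸ I.map (algebraMap A' S'))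
        (List.ofFn fun i => Ideal.Quotient.mk (I.map (algebraMap A' S')) (f' i)) := by
  have hlist : (List.ofFn fun i => Ideal.Quotient.mk (I.map (algebraMap A' S')) (f' i)) =
      (List.ofFn f').map (algebraMap S' (S' ⧸ I.map (algebraMap A' S'))) := List.map_ofFn.symm
  have hweak : IsWeaklyRegular S' (List.ofFn f') ↔ IsWeaklyRegular (S' ⧸ I.map (algebraMap A' S'))
      (List.ofFn fun i => Ideal.Quotient.mk (I.map (algebraMap A' S')) (f' i)) := by
    rw [hlist, isWeaklyRegular_quotient_iff, isWeaklyRegular_iff_chain_bot (A := A')]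
    exact chain_iff _ ⊥ I bot_ne_top hI
  have htop : (⊤ : Ideal S') ≠ Ideal.ofList (List.ofFn f') • ⊤ ↔
      (⊤ : Ideal (S' ⧸ I.map (algebraMap A' S'))) ≠
        Ideal.ofList (List.ofFn fun i => Ideal.Quotient.mk (I.map (algebraMap A' S')) (f' i)) • ⊤ := by
    simp only [smul_eq_mul, Ideal.mul_top, hlist, ← Ideal.map_ofList, Ideal.Quotient.algebraMap_eq]
    refine not_congr ⟨fun h => by rw [← h, Ideal.map_top], fun h => ?_⟩
    have h1 : Ideal.ofList (List.ofFn f') ⊔ I.map (algebraMap A' S') = ⊤ := by
      have := congrArg (Ideal.comap (Ideal.Quotient.mk (I.map (algebraMap A' S')))) h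
      rwa [Ideal.comap_top, Ideal.comap_map_of_surjective _ Ideal.Quotient.mk_surjective, ← RingHom.ker_eq_comap_bot,
        Ideal.mk_ker, eq_comm] at this
    refine (Ideal.radical_eq_top.1 (top_le_iff.1 (h1 ▸ sup_le Ideal.le_radical ?_))).symm
    exact (le_radical_bot I hI).trans (Ideal.radical_mono bot_le)
  exact ⟨fun h => ⟨hweak.1 h.toIsWeaklyRegular, htop.1 h.top_ne_smul⟩,
    fun h => ⟨hweak.2 h.toIsWeaklyRegular, htop.2 h.top_ne_smul⟩⟩

end Groth.Agent.S13133
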