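import Groth.Statements.S13134
import Groth.Agent.ArtFlat.Regular
import Mathlib.RingTheory.Polynomial.Basic
import Mathlib.RingTheory.Flat.Stability

set_option autoImplicit false
universe u v
open CAlg

namespace Groth.Agent.S13134
open MvPolynomial

/-- A submodule with flat quotient meets `I M` in `I` times itself. -/
theorem inter_smul_eq {A : Type u} [CommRing A] {P : Type u} [AddCommGroup P] [Module A P] [Module.Flat A P]
    {B : Type v} [AddCommGroup B] [Module A B] [Module.Flat A B] (q : P →ₗ[A] B) (hq : Function.Surjective q) (I : Ideal A)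
    (z : P) (hz : q z = 0) (hzI : z ∈ (I • ⊤ : Submodule A P)) : z ∈ I • LinearMap.ker q := by
  have h := Groth.Agent.ArtFlat.balance_rTensor_injective_of_lTensor_injective (I.mkQ) I.mkQ_surjective q hq
    (Module.Flat.lTensor_preserves_injective_linearMap _ (Submodule.injective_subtype _))
  have h0 : (⟨z, hz⟩ : LinearMap.ker q) ⊗ₜ[A] (1 : A ⧸ I) = 0 := h (by
    rw [LinearMap.rTensor_tmul, map_zero]
    exact (Groth.Agent.ArtFlat.tmul_one_eq_zero_iff I z).2 hzI)
  have := Submodule.mem_map_of_mem (f := (LinearMap.ker q).subtype) ((Groth.Agent.ArtFlat.tmul_one_eq_zero_iff I _).1 h0)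
  rw [Submodule.map_smul'', Submodule.map_top, Submodule.range_subtype] at this
  exact this

/-- Let A' be an Artinian local ring, I a proper ideal, A = A'/I and f_1, …, f_m ∈ A[x_1, …, x_n]. Every
flat A'-algebra B' equipped with a surjection π onto A[x]/(f_1, …, f_m) with kernel I·B', compatible
with A' → A, is a quotient of A'[x_1, …, x_n] by the ideal generated by some lifts f'_1, …, f'_m of
the f_i, compatibly with π and with reduction of polynomials modulo I. (The published statement is
for a surjection of local Artinian algebras with a fixed residue field over a ring of Witt vectors;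
only the Artinian local base and the proper ideal are used, which is the form taken here.) -/
theorem result
    {A' : Type u} [CommRing A'] [IsArtinianRing A'] [IsLocalRing A'] (I : Ideal A') (hI : I ≠ ⊤)
    {n m : ℕ} (f : Fin m → MvPolynomial (Fin n) (A' ⧸ I))
    {B' : Type v} [CommRing B'] [Algebra A' B'] [Module.Flat A' B']
    (π : B' →+* MvPolynomial (Fin n) (A' ⧸ I) ⧸ Ideal.span (Set.range f))
    (hπ : Function.Surjective π) (hker : RingHom.ker π = I.map (algebraMap A' B'))
    (hcomp : π.comp (algebraMap A' B') =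
      ((Ideal.Quotient.mk (Ideal.span (Set.range f))).comp MvPolynomial.C).comp (Ideal.Quotient.mk I)) :
    ∃ (f' : Fin m → MvPolynomial (Fin n) A') (ψ : MvPolynomial (Fin n) A' →ₐ[A'] B'),
      (∀ i, MvPolynomial.map (Ideal.Quotient.mk I) (f' i) = f i) ∧
      Function.Surjective ψ ∧ RingHom.ker ψ.toRingHom = Ideal.span (Set.range f') ∧
      ∀ q, π (ψ q) = Ideal.Quotient.mk (Ideal.span (Set.range f)) (MvPolynomial.map (Ideal.Quotient.mk I) q) := by
  classical
  obtain ⟨N, hN⟩ : ∃ N : ℕ, I ^ N = ⊥ := by
    obtain ⟨N, hN⟩ := IsArtinianRing.isNilpotent_jacobson_bot (R := A')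
    rw [IsLocalRing.jacobson_eq_maximalIdeal ⊥ bot_ne_top] at hN
    exact ⟨N, le_bot_iff.1 ((Ideal.pow_right_mono (IsLocalRing.le_maximalIdeal hI) N).trans hN.le)⟩
  let φ : MvPolynomial (Fin n) A' →+* MvPolynomial (Fin n) (A' ⧸ I) := MvPolynomial.map (Ideal.Quotient.mk I)
  have hφ : Function.Surjective φ := MvPolynomial.map_surjective _ Ideal.Quotient.mk_surjective
  have hkerφ : RingHom.ker φ = I.map (algebraMap A' (MvPolynomial (Fin n) A')) := by
    rw [MvPolynomial.ker_map, Ideal.mk_ker]; rfl
  choose b hb using fun i => hπ (Ideal.Quotient.mk (Ideal.span (Set.range f)) (X i))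
  let ψ : MvPolynomial (Fin n) A' →ₐ[A'] B' := aeval b
  have hπψ : ∀ q, π (ψ q) = Ideal.Quotient.mk (Ideal.span (Set.range f)) (φ q) := by
    have : π.comp ψ.toRingHom = (Ideal.Quotient.mk (Ideal.span (Set.range f))).comp φ :=
      MvPolynomial.ringHom_ext (fun a => by simpa [ψ, φ] using RingHom.congr_fun hcomp a) (fun i => by simp [ψ, φ, hb])
    exact fun q => RingHom.congr_fun this q
  have hkerI : ∀ y, π y = 0 ↔ y ∈ (I • ⊤ : Submodule A' B') := fun y => by
    rw [Ideal.smul_top_eq_map, Submodule.restrictScalars_mem, ← hker, RingHom.mem_ker]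
  have hsurj : Function.Surjective ψ := by
    have key : ∀ k, (⊤ : Submodule A' B') ≤ LinearMap.range ψ.toLinearMap ⊔ I ^ k • ⊤ := by
      intro k
      induction k with
      | zero => rw [pow_zero, Ideal.one_eq_top, Submodule.top_smul]; exact le_sup_right
      | succ k ih =>
        intro y _
        obtain ⟨z, hz⟩ := hπ.comp Function.surjective_id (π y)
        obtain ⟨t, ht⟩ := Ideal.Quotient.mk_surjective (π y)
        obtain ⟨q, rfl⟩ := hφ t
        have h1 : y - ψ q ∈ (I • ⊤ : Submodule A' B') := (hkerI _).1 (by rw [map_sub, hπψ, ht, sub_self])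
        have h2 := Submodule.smul_mono le_rfl ih h1
        rw [Submodule.smul_sup, ← Submodule.mul_smul, ← pow_succ'] at h2
        obtain ⟨a, ha, c, hc, hac⟩ := Submodule.mem_sup.1 h2
        exact Submodule.mem_sup.2 ⟨ψ q + a, add_mem ⟨q, rfl⟩ (Submodule.smul_le_right ha), c, hc, by rw [add_assoc, hac]; abel⟩
    intro y
    have := key N (Submodule.mem_top (x := y))
    rwa [hN, Submodule.bot_smul, sup_bot_eq] at this
  have hlift : ∀ i, ∃ t, φ t = f i ∧ ψ t = 0 := by
    intro i
    obtain ⟨t, ht⟩ := hφ (f i)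
    have h1 : ψ t ∈ (I • ⊤ : Submodule A' B') :=
      (hkerI _).1 (by rw [hπψ, ht, Ideal.Quotient.eq_zero_iff_mem]; exact Ideal.subset_span ⟨i, rfl⟩)
    have h2 : ψ t ∈ Submodule.map ψ.toLinearMap (I • ⊤ : Submodule A' (MvPolynomial (Fin n) A')) := by
      rwa [Submodule.map_smul'', Submodule.map_top, LinearMap.range_eq_top.2 hsurj]
    obtain ⟨c, hc, hce⟩ := h2
    refine ⟨t - c, ?_, ?_⟩
    · rw [Ideal.smul_top_eq_map, SetLike.mem_coe, Submodule.restrictScalars_mem, ← hkerφ, RingHom.mem_ker] at hc
      rw [map_sub, hc, sub_zero, ht]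
    · rw [map_sub, ← hce]
      exact sub_self _
  choose f' hf' hψf' using hlift
  refine ⟨f', ψ, hf', hsurj, ?_, hπψ⟩
  let F : Submodule A' (MvPolynomial (Fin n) A') := (Ideal.span (Set.range f')).restrictScalars A'
  have hle : F ≤ LinearMap.ker ψ.toLinearMap := fun z hz => by
    have : Ideal.span (Set.range f') ≤ RingHom.ker ψ.toRingHom := Ideal.span_le.2 (by rintro _ ⟨i, rfl⟩; exact hψf' i)
    exact this hz
  have key : ∀ k, LinearMap.ker ψ.toLinearMap ≤ F ⊔ I ^ k • LinearMap.ker ψ.toLinearMap := by
    intro k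
    induction k with
    | zero => simp
    | succ k ih =>
      intro z hz
      have h1 : φ z ∈ Ideal.span (Set.range f) := Ideal.Quotient.eq_zero_iff_mem.1 (by
        rw [← hπψ, show ψ z = 0 from hz, map_zero])
      rw [show Set.range f = φ '' Set.range f' by rw [← Set.range_comp]; exact congrArg Set.range (funext fun i => (hf' i).symm),
        ← Ideal.map_span, ← Ideal.mem_comap, Ideal.comap_map_of_surjective _ hφ, ← RingHom.ker_eq_comap_bot, hkerφ] at h1
      obtain ⟨a, ha, c, hc, rfl⟩ := Submodule.mem_sup.1 h1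
      have hc0 : ψ.toLinearMap c = 0 := by
        have h3 : ψ.toLinearMap (a + c) = 0 := hz
        rwa [map_add, show ψ.toLinearMap a = 0 from hle ha, zero_add] at h3
      have h2 := inter_smul_eq ψ.toLinearMap hsurj I c hc0 (by rwa [Ideal.smul_top_eq_map, Submodule.restrictScalars_mem])
      have h4 := Submodule.smul_mono le_rfl ih h2
      rw [Submodule.smul_sup, ← Submodule.mul_smul, ← pow_succ'] at h4
      obtain ⟨u, hu, w, hw, rfl⟩ := Submodule.mem_sup.1 h4
      exact Submodule.mem_sup.2 ⟨a + u, add_mem ha (Submodule.smul_le_right hu), w, hw, add_assoc _ _ _⟩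
  refine le_antisymm (fun z hz => ?_) fun z hz => hle hz
  have := key N hz
  rwa [hN, Submodule.bot_smul, sup_bot_eq] at this

end Groth.Agent.S13134
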