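import Groth.Statements.S13135
import Groth.Agent.ArtFlat.Sequence
import Mathlib.RingTheory.Polynomial.Basic
import Mathlib.RingTheory.Flat.Stability

set_option autoImplicit false
universe u
open CAlg

namespace Groth.Agent.S13135
open Groth.Agent.ArtFlat MvPolynomial

/-- Let A' be an Artinian local ring, I a proper ideal, A = A'/I and f_1, …, f_m a regular sequence in
A[x_1, …, x_n]. For every choice of lifts f'_1, …, f'_m in A'[x_1, …, x_n] the quotient A'[x]/(f'_1,
…, f'_m) is flat over A' (so it is a flat lifting of A[x]/(f_1, …, f_m)). (The published statement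
is for a surjection of local Artinian algebras with a fixed residue field over a ring of Witt
vectors; only the Artinian local base and the proper ideal are used, which is the form taken here.) -/
theorem result
    {A' : Type u} [CommRing A'] [IsArtinianRing A'] [IsLocalRing A'] (I : Ideal A') (hI : I ≠ ⊤)
    {n m : ℕ} (f : Fin m → MvPolynomial (Fin n) (A' ⧸ I))
    (hreg : RingTheory.Sequence.IsRegular (MvPolynomial (Fin n) (A' ⧸ I)) (List.ofFn f))
    (f' : Fin m → MvPolynomial (Fin n) A') (hf' : ∀ i, MvPolynomial.map (Ideal.Quotient.mk I) (f' i) = f i) :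
    Module.Flat A' (MvPolynomial (Fin n) A' ⧸ Ideal.span (Set.range f')) := by
  let φ : MvPolynomial (Fin n) A' →+* MvPolynomial (Fin n) (A' ⧸ I) := MvPolynomial.map (Ideal.Quotient.mk I)
  have hφ : Function.Surjective φ := MvPolynomial.map_surjective _ Ideal.Quotient.mk_surjective
  have hker : RingHom.ker φ = I.map (algebraMap A' (MvPolynomial (Fin n) A')) := by
    rw [MvPolynomial.ker_map, Ideal.mk_ker]; rfl
  have hlist : List.ofFn f = (List.ofFn f').map φ := by
    rw [List.map_ofFn]; exact congrArg List.ofFn (funext fun i => (hf' i).symm)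
  have hchain : Chain (List.ofFn f') I := by
    intro k hk x hx
    have hk' : k < (List.ofFn f).length := by rw [hlist, List.length_map]; exact hk
    have hreg := (isSMulRegular_quotient_iff_mem_of_smul_mem _ _).1
      (((RingTheory.Sequence.isWeaklyRegular_iff _ _).1 hreg.toIsWeaklyRegular) k hk')
    have hcomap : (Ideal.ofList ((List.ofFn f).take k)).comap φ =
        Ideal.ofList ((List.ofFn f').take k) ⊔ I.map (algebraMap A' (MvPolynomial (Fin n) A')) := by
      rw [hlist, ← List.map_take, ← Ideal.map_ofList, Ideal.comap_map_of_surjective _ hφ, ← RingHom.ker_eq_comap_bot, hker]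
    simp only [smul_eq_mul, Ideal.mul_top] at hreg
    rw [← hcomap, Ideal.mem_comap] at hx ⊢
    refine hreg _ ?_
    have e : (List.ofFn f)[k] = φ (List.ofFn f')[k] := by simp only [hlist, List.getElem_map]
    rw [map_mul, ← e] at hx
    exact hx
  have := flat_of_chain (List.ofFn f') I hI hchain _ le_rfl
  rw [List.take_of_length_le le_rfl] at this
  have e : Ideal.ofList (List.ofFn f') = Ideal.span (Set.range f') := by
    show Ideal.span {r | r ∈ List.ofFn f'} = _
    congr 1
    ext r
    simp [List.mem_ofFn]
  rwa [e] at this

end Groth.Agent.S13135
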