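import Groth.Statements.S13137
import Groth.Agent.FrobW2.Basic
-- import your own Groth.Agent.* helpers here

set_option autoImplicit false
universe u v
open FrobAlg

namespace Groth.Agent.S13137

/-- For a perfect field k of characteristic p, a flat W₂(k)-algebra B and an ideal J of B, the quotient
B/J is flat over W₂(k) if and only if (p) ∩ J = pJ in B. (With B a flat lifting of A = B/pB this
says: B/J is a flat lifting of A modulo the image of J exactly when (p) ∩ J = pJ.) -/
theorem result
    (p : ℕ) [Fact p.Prime] (k : Type u) [Field k] [CharP k p] [PerfectRing k p]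
    (B : Type v) [CommRing B] [Algebra (FrobAlg.W2 p k) B] [Module.Flat (FrobAlg.W2 p k) B]
    (J : Ideal B) :
    Module.Flat (FrobAlg.W2 p k) (B ⧸ J) ↔
      Ideal.span {(p : B)} ⊓ J = Ideal.span {(p : B)} * J := by
  have hs : ∀ b : B, (p : FrobAlg.W2 p k) • b = (p : B) * b := fun b => by
    rw [Algebra.smul_def, map_natCast]
  have hsq : ∀ q : B ⧸ J, (p : FrobAlg.W2 p k) • q = (p : B ⧸ J) * q := fun q => by
    rw [Algebra.smul_def, map_natCast]
  have hB := (FrobW2.flat_iff (k := k) p B).1 inferInstance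
  rw [FrobW2.flat_iff p (B ⧸ J)]
  constructor
  · intro h
    refine le_antisymm ?_ (le_inf Ideal.mul_le_left Ideal.mul_le_right)
    rintro x ⟨hx1, hx2⟩
    obtain ⟨b, rfl⟩ := Ideal.mem_span_singleton'.1 hx1
    obtain ⟨q, hq⟩ := h (Ideal.Quotient.mk J b) (by
      rw [hsq, ← map_natCast (Ideal.Quotient.mk J), ← map_mul, Ideal.Quotient.eq_zero_iff_mem, mul_comm]
      exact hx2)
    obtain ⟨c, rfl⟩ := Ideal.Quotient.mk_surjective q
    rw [hsq, ← map_natCast (Ideal.Quotient.mk J), ← map_mul, Ideal.Quotient.eq] at hq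
    rw [show b * (p : B) = (p : B) * (b - (p : B) * c) from by
      rw [mul_sub, ← mul_assoc, ← hs, ← map_natCast (algebraMap (FrobAlg.W2 p k) B), Algebra.smul_def,
        ← map_mul, FrobW2.p_mul_p, map_zero, zero_mul, sub_zero, mul_comm]]
    exact Ideal.mul_mem_mul (Ideal.mem_span_singleton_self _) hq
  · intro h q hq
    obtain ⟨b, rfl⟩ := Ideal.Quotient.mk_surjective q
    rw [hsq, ← map_natCast (Ideal.Quotient.mk J), ← map_mul, Ideal.Quotient.eq_zero_iff_mem] at hq
    have hmem : (p : B) * b ∈ Ideal.span {(p : B)} * J := by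
      rw [← h]; exact ⟨Ideal.mul_mem_right _ _ (Ideal.mem_span_singleton_self _), hq⟩
    obtain ⟨j, hj, hje⟩ := Ideal.mem_span_singleton_mul.1 hmem
    obtain ⟨c, hc⟩ := hB (b - j) (by rw [hs, mul_sub, hje, sub_self])
    refine ⟨Ideal.Quotient.mk J c, ?_⟩
    rw [hsq, ← map_natCast (Ideal.Quotient.mk J), ← map_mul, Ideal.Quotient.eq, ← hs, ← hc, sub_sub_cancel]
    exact hj

end Groth.Agent.S13137
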