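import Groth.Statements.S13141
import Mathlib.RepresentationTheory.Invariants
import Mathlib.LinearAlgebra.TensorProduct.Tower
-- import your own Groth.Agent.* helpers here

set_option autoImplicit false
universe u v w w'
open scoped TensorProduct
open GrpAlg

namespace Groth.Agent.S13141

/-- Let G be a finite group, R a commutative ring with |G| invertible in R, M a projective R-module with
an R-linear G-action and S an R-algebra. The natural map M^G ⊗_R S → M ⊗_R S is injective and its
image is the submodule of G-invariants of M ⊗_R S (G acting on the first factor); that is, M^G ⊗_R S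
→ (M ⊗_R S)^G is bijective. -/
theorem result
    (R : Type u) [CommRing R] (G : Type v) [Group G] [Finite G] (hG : IsUnit ((Nat.card G : ℕ) : R))
    (M : Type w) [AddCommGroup M] [Module R M] [Module.Projective R M] (ρ : Representation R G M)
    (S : Type w') [CommRing S] [Algebra R S] :
    Function.Injective (TensorProduct.map ρ.invariants.subtype (LinearMap.id : S →ₗ[R] S)) ∧
    LinearMap.range (TensorProduct.map ρ.invariants.subtype (LinearMap.id : S →ₗ[R] S)) =
      ⨅ g : G, LinearMap.eqLocus (LinearMap.rTensor S (ρ g)) LinearMap.id := by
  classical
  haveI := Fintype.ofFinite G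
  haveI : Invertible ((Fintype.card G : ℕ) : R) := by
    rw [Fintype.card_eq_nat_card]; exact hG.invertible
  haveI : Invertible ((Nat.card G : ℕ) : R) := hG.invertible
  let P : M →ₗ[R] ρ.invariants :=
    (Representation.averageMap ρ).codRestrict _ fun v => Representation.averageMap_invariant ρ v
  have hP : ∀ v : ρ.invariants, P v.1 = v := fun v =>
    Subtype.ext (Representation.averageMap_id ρ v.1 v.2)
  refine ⟨?_, le_antisymm ?_ ?_⟩
  · refine Function.LeftInverse.injective (g := TensorProduct.map P (LinearMap.id : S →ₗ[R] S)) fun x => ?_
    induction x using TensorProduct.induction_on with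
    | zero => simp
    | add a b ha hb => simp only [map_add, ha, hb]
    | tmul a s => simp [hP]
  · rintro _ ⟨x, rfl⟩
    refine (Submodule.mem_iInf _).mpr fun g => ?_
    show LinearMap.rTensor S (ρ g) _ = _
    induction x using TensorProduct.induction_on with
    | zero => simp
    | add a b ha hb => simp only [map_add] at ha hb ⊢; rw [ha, hb]
    | tmul a s =>
      simp only [TensorProduct.map_tmul, LinearMap.id_coe, id_eq, LinearMap.rTensor_tmul, Submodule.coe_subtype]
      rw [a.2 g]
  · intro x hx
    rw [Submodule.mem_iInf] at hx
    refine ⟨TensorProduct.map P (LinearMap.id : S →ₗ[R] S) x, ?_⟩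
    have h1 : ∀ y, TensorProduct.map ρ.invariants.subtype (LinearMap.id : S →ₗ[R] S)
        (TensorProduct.map P (LinearMap.id : S →ₗ[R] S) y) =
        (⅟((Fintype.card G : ℕ) : R)) • ∑ g : G, LinearMap.rTensor S (ρ g) y := by
      intro y
      induction y using TensorProduct.induction_on with
      | zero => simp
      | add a b ha hb => simp only [map_add, ha, hb, Finset.sum_add_distrib, smul_add]
      | tmul a s =>
        simp only [TensorProduct.map_tmul, LinearMap.id_coe, id_eq, LinearMap.rTensor_tmul, Submodule.coe_subtype]
        rw [← TensorProduct.sum_tmul, TensorProduct.smul_tmul']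
        congr 1
        simp [P, Representation.averageMap, GroupAlgebra.average, Representation.asAlgebraHom_single]
    rw [h1]
    have h2 : ∀ g : G, LinearMap.rTensor S (ρ g) x = x := fun g => hx g
    simp only [h2]
    rw [Finset.sum_const, Finset.card_univ, ← Nat.cast_smul_eq_nsmul R, smul_smul, invOf_mul_self, one_smul]

end Groth.Agent.S13141
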