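import Groth.Statements.S13142
import Mathlib.RingTheory.Flat.Basic
import Mathlib.RingTheory.MvPolynomial.Basic
-- import your own Groth.Agent.* helpers here

set_option autoImplicit false
universe u v
open GrpAlg

namespace Groth.Agent.S13142

/-- Let G be a finite group and R a commutative ring with |G| invertible in R, acting on R[x_1, …, x_n]
by R-algebra automorphisms. The invariant subring R[x_1, …, x_n]^G is a flat R-module (so the
quotient of affine n-space over R by G is flat over R). -/
theorem result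
    (R : Type u) [CommRing R] (G : Type v) [Group G] [Finite G] (hG : IsUnit ((Nat.card G : ℕ) : R))
    (n : ℕ) (ρ : G →* (MvPolynomial (Fin n) R ≃ₐ[R] MvPolynomial (Fin n) R)) :
    Module.Flat R ↥(⨅ g : G, LinearMap.eqLocus (ρ g).toLinearMap (LinearMap.id : MvPolynomial (Fin n) R →ₗ[R] MvPolynomial (Fin n) R)) := by
  classical
  haveI := Fintype.ofFinite G
  obtain ⟨u, hu⟩ := hG
  let P₀ : MvPolynomial (Fin n) R →ₗ[R] MvPolynomial (Fin n) R := ((u⁻¹ : Rˣ) : R) • ∑ g : G, (ρ g).toLinearMap
  have hmem : ∀ x, P₀ x ∈ ⨅ g : G, LinearMap.eqLocus (ρ g).toLinearMap (LinearMap.id : MvPolynomial (Fin n) R →ₗ[R] MvPolynomial (Fin n) R) := by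
    intro x
    refine (Submodule.mem_iInf _).mpr fun h => ?_
    show ρ h (P₀ x) = P₀ x
    simp only [P₀, LinearMap.smul_apply, LinearMap.coe_sum, Finset.sum_apply, AlgEquiv.toLinearMap_apply, map_smul, map_sum]
    congr 1
    refine Fintype.sum_bijective (fun g => h * g) (Group.mulLeft_bijective h) _ _ fun g => ?_
    rw [map_mul]; rfl
  refine Module.Flat.of_retract (Submodule.subtype _) (P₀.codRestrict _ hmem) (LinearMap.ext fun v => Subtype.ext ?_)
  show P₀ v.1 = v.1
  have hv : ∀ g : G, (ρ g).toLinearMap v.1 = v.1 := fun g => (Submodule.mem_iInf _).mp v.2 g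
  simp only [P₀, LinearMap.smul_apply, LinearMap.coe_sum, Finset.sum_apply, hv]
  rw [Finset.sum_const, Finset.card_univ, ← Nat.cast_smul_eq_nsmul R, smul_smul, Fintype.card_eq_nat_card, ← hu,
    Units.inv_mul, one_smul]

end Groth.Agent.S13142
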