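import Groth.Statements.S13144
import Groth.Agent.FrobW2.Lift
-- import your own Groth.Agent.* helpers here

set_option autoImplicit false
universe u
open FrobAlg

namespace Groth.Agent.S13144

/-- Let k be a perfect field of characteristic p, A → B a homomorphism of Noetherian k-algebras with an
A-linear retraction B → A, and A' → B' a homomorphism over W₂(k) between flat liftings of A and B
which reduces to A → B. If the Frobenius of B lifts to B' (a σ₂-semilinear ring endomorphism
reducing to the p-th power map), then the Frobenius of A lifts to A'. (The published statement is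
for an affine morphism whose map on structure sheaves splits linearly; the affine case with an
A-linear splitting is taken here.) -/
theorem result
    (p : ℕ) [Fact p.Prime] (k : Type u) [Field k] [CharP k p] [PerfectRing k p]
    (A B : Type u) [CommRing A] [CommRing B] [Algebra k A] [Algebra k B]
    [IsNoetherianRing A] [IsNoetherianRing B] [Algebra A B] [IsScalarTower k A B]
    (r : B →ₗ[A] A) (hr : ∀ a : A, r (algebraMap A B a) = a)
    (A' B' : Type u) [CommRing A'] [CommRing B']
    (ιA : FrobAlg.W2 p k →+* A') (πA : A' →+* A) (hA : FrobAlg.IsLift p k A A' ιA πA)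
    (ιB : FrobAlg.W2 p k →+* B') (πB : B' →+* B) (hB : FrobAlg.IsLift p k B B' ιB πB)
    (φ' : A' →+* B') (hφι : φ'.comp ιA = ιB) (hφπ : πB.comp φ' = (algebraMap A B).comp πA)
    (ΦB : B' →+* B') (hΦB : FrobAlg.IsFrobLift p k B B' ιB πB ΦB) :
    ∃ ΦA : A' →+* A', FrobAlg.IsFrobLift p k A A' ιA πA ΦA := by
  obtain ⟨e, he⟩ := FrobW2.exists_ringEquiv_of_retraction r ιB πB hr hB hA φ' hφπ
  haveI : Nontrivial A → CharP A p := fun _ =>
    (CharP.charP_iff_prime_eq_zero Fact.out).2 (FrobW2.cast_eq_zero_of_algebra p k)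
  rcases subsingleton_or_nontrivial A with hsub | hnt
  · refine ⟨RingHom.id A', ⟨hA, ?_, fun b => Subsingleton.elim _ _⟩⟩
    have hsub' : Subsingleton A' := by
      refine subsingleton_of_zero_eq_one ?_
      obtain ⟨c, hc⟩ := FrobW2.IsLift.exists_eq_p_mul hA (b := (1 : A')) (Subsingleton.elim _ _)
      calc (0 : A') = (p : A') * ((p : A') * c) * c := by
              rw [← mul_assoc, FrobW2.cast_sq_eq_zero p ιA, zero_mul, zero_mul]
        _ = 1 := by rw [← hc, mul_one, ← hc]
    exact RingHom.ext fun w => Subsingleton.elim _ _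
  haveI := this hnt
  let Θ : A' →+* B' × A := (ΦB.comp φ').prod ((frobenius A p).comp πA)
  have hΘ : ∀ x, Θ x ∈ FrobW2.pullRing (A := A) πB := fun x => by
    rw [FrobW2.mem_pullRing]
    change πB (ΦB (φ' x)) = algebraMap A B (πA x ^ p)
    rw [hΦB.red, show πB (φ' x) = algebraMap A B (πA x) from RingHom.congr_fun hφπ x, map_pow]
  let ΦA : A' →+* A' := e.symm.toRingHom.comp ((Ideal.Quotient.mk _).comp (Θ.codRestrict _ hΘ))
  refine ⟨ΦA, ⟨hA, RingHom.ext fun w => e.injective ?_, fun b => ?_⟩⟩
  · simp only [ΦA, RingHom.comp_apply, RingEquiv.toRingHom_eq_coe, RingEquiv.coe_toRingHom,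
      RingEquiv.apply_symm_apply]
    rw [he]
    refine congrArg _ (Subtype.ext (Prod.ext ?_ ?_))
    · change ΦB (φ' (ιA w)) = φ' (ιA (FrobAlg.sigma p k w))
      rw [← RingHom.comp_apply φ', ← RingHom.comp_apply φ', hφι, ← RingHom.comp_apply ΦB, hΦB.semi]
      rfl
    · change πA (ιA w) ^ p = πA (ιA (FrobAlg.sigma p k w))
      rw [← RingHom.comp_apply πA, ← RingHom.comp_apply πA, hA.comm]
      simp [← map_pow]
  · have h := he (ΦA b)
    have h2 : e (ΦA b) = Ideal.Quotient.mk _ (Θ.codRestrict _ hΘ b) := by simp [ΦA]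
    rw [h2] at h
    have h3 := (Ideal.Quotient.eq.1 h).1
    have h4 : πA b ^ p - πA (ΦA b) = 0 := h3
    exact (sub_eq_zero.1 h4).symm

end Groth.Agent.S13144
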