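import Groth.Statements.S13145
import Groth.Agent.FrobW2.FfDescent
-- import your own Groth.Agent.* helpers here

set_option autoImplicit false
universe u
open FrobAlg

namespace Groth.Agent.S13145

/-- For liftings over W₂(k) — let k be a perfect field of characteristic p, A a k-algebra essentially of
finite type and A → B étale and faithfully flat. If B lifts flatly to W₂(k) then so does A. (The
published statement allows an étale surjective cover of Spec A by a scheme; an affine cover is taken
here, to which the published argument reduces.) -/
theorem result
    (p : ℕ) [Fact p.Prime] (k : Type u) [Field k] [CharP k p] [PerfectRing k p]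
    (A B : Type u) [CommRing A] [CommRing B] [Algebra k A] [Algebra.EssFiniteType k A]
    [Algebra A B] [Algebra.Etale A B] [Module.FaithfullyFlat A B] [Algebra k B] [IsScalarTower k A B]
    (hB : FrobAlg.IsW2Liftable p k B) : FrobAlg.IsW2Liftable p k A := by
  exact FrobW2.isW2Liftable_descent (B := B) hB

end Groth.Agent.S13145
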