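import Groth.Statements.S13147
import Groth.Agent.FrobW2.Lift
import Groth.Agent.FrobW2.Shift
-- import your own Groth.Agent.* helpers here

set_option autoImplicit false
universe u
open FrobAlg

namespace Groth.Agent.S13147

/-- Let k be a perfect field of characteristic p and (A, φ) a k-algebra with a Frobenius splitting (φ
additive, φ(a^p b) = a φ(b), φ(1) = 1). The quotient of W₂(A) by the ideal generated by the Witt
vectors (0, a) with φ(a) = 0 — the ring of twisted Witt vectors of (A, φ) — is a flat lifting of A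
over W₂(k): flat over W₂(k), with reduction map onto A induced by (a₀, a₁) ↦ a₀ whose kernel is
generated by the maximal ideal of W₂(k). (The published statement also asserts that a morphism of
algebras with Frobenius splittings compatible with the splittings induces a ring map between these
quotients; that part is not stated here.) -/
theorem result
    (p : ℕ) [Fact p.Prime] (k : Type u) [Field k] [CharP k p] [PerfectRing k p]
    (A : Type u) [CommRing A] [Algebra k A] (φ : A →+ A)
    (hφ : ∀ a b : A, φ (a ^ p * b) = a * φ b) (hφ1 : φ 1 = 1) :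
    FrobAlg.IsLift p k A (FrobAlg.W2 p A ⧸ FrobAlg.splitIdeal p A φ)
      ((Ideal.Quotient.mk (FrobAlg.splitIdeal p A φ)).comp (WittGrp.truncMap p 2 (algebraMap k A)))
      (FrobAlg.splitRes p A φ) := by
  have hpA : (p : A) = 0 := FrobW2.cast_eq_zero_of_algebra p k
  let s : A →+ FrobAlg.W2 p A := (WittGrp.shift p (Nat.le_succ 1)).comp
    { toFun := fun a => TruncatedWittVector.mk p fun _ => a
      map_zero' := TruncatedWittVector.ext fun i => by simp
      map_add' := fun a b => TruncatedWittVector.ext fun i => by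
        obtain rfl : i = 0 := Subsingleton.elim _ _
        rw [TruncatedWittVector.coeff_mk, FrobW2.coeff_zero_add, TruncatedWittVector.coeff_mk,
          TruncatedWittVector.coeff_mk] }
  have hs0 : ∀ a, (s a).coeff 0 = 0 := fun a => FrobW2.shift_coeff_zero _
  have hs1 : ∀ a, (s a).coeff 1 = a := fun a =>
    (FrobW2.shift_coeff_succ _ (0 : Fin 1)).trans (TruncatedWittVector.coeff_mk _ _)
  have hsx : ∀ x : FrobAlg.W2 p A, x.coeff 0 = 0 → s (x.coeff 1) = x := fun x hx =>
    FrobW2.ext2 p (by rw [hs0, hx]) (hs1 _)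
  have hsmul : ∀ (y : FrobAlg.W2 p A) (a : A), y * s a = s (y.coeff 0 ^ p * a) := by
    intro y a
    refine (FrobW2.shift_mul hpA y _).trans (congrArg _ (TruncatedWittVector.ext fun i => ?_))
    obtain rfl : i = 0 := Subsingleton.elim _ _
    rw [FrobW2.coeff_zero_mul, WittGrp.coeff_frob]
    change _ = TruncatedWittVector.coeff 0 (TruncatedWittVector.mk p fun _ => y.coeff 0 ^ p * a)
    rw [TruncatedWittVector.coeff_mk]
    exact congrArg₂ (· ^ p * ·) (FrobW2.coeff_truncateLE_zero Nat.one_pos y)
      (TruncatedWittVector.coeff_mk _ _)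
  have hp1 : (p : FrobAlg.W2 p A) = s 1 := by
    refine (FrobW2.natCast_p_eq_shift_one hpA).trans (congrArg _ (TruncatedWittVector.ext fun i => ?_))
    obtain rfl : i = 0 := Subsingleton.elim _ _
    obtain ⟨X, hX⟩ : ∃ X, X = (1 : WittVector p A) := ⟨_, rfl⟩
    rw [← map_one (WittVector.truncate (p := p) (R := A) 1), WittVector.coeff_truncate]
    change _ = TruncatedWittVector.coeff 0 (TruncatedWittVector.mk p fun _ => (1 : A))
    rw [TruncatedWittVector.coeff_mk]
    exact WittVector.one_coeff_zero p A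
  have hmem : ∀ x, x ∈ FrobAlg.splitIdeal p A φ ↔ ∃ a, φ a = 0 ∧ s a = x := by
    intro x
    constructor
    · intro hx
      induction hx using Submodule.span_induction with
      | mem y hy =>
        exact ⟨y.coeff 1, hy.2, hsx y ((FrobAlg.res_apply p A y).symm.trans hy.1)⟩
      | zero => exact ⟨0, map_zero _, map_zero _⟩
      | add a b _ _ ha hb =>
        obtain ⟨a, ha, rfl⟩ := ha; obtain ⟨b, hb, rfl⟩ := hb
        exact ⟨a + b, by rw [map_add, ha, hb, add_zero], map_add _ _ _⟩
      | smul c a _ ha =>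
        obtain ⟨a, ha, rfl⟩ := ha
        exact ⟨_, by rw [hφ, ha, mul_zero], (hsmul c a).symm⟩
    · rintro ⟨a, ha, rfl⟩
      exact Ideal.subset_span ⟨(FrobAlg.res_apply p A _).trans (hs0 a), by rw [hs1]; exact ha⟩
  refine FrobW2.isLift_mk ?_ ?_ ?_ ?_
  · intro a
    exact ⟨Ideal.Quotient.mk _ (TruncatedWittVector.mk p fun _ => a), by
      change FrobAlg.res p A _ = a
      rw [FrobAlg.res_apply, TruncatedWittVector.coeff_mk]⟩
  · intro q hq
    obtain ⟨x, rfl⟩ := Ideal.Quotient.mk_surjective q
    have hx : x.coeff 0 = 0 := (FrobAlg.res_apply p A x).symm.trans hq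
    let y : FrobAlg.W2 p A := TruncatedWittVector.mk p fun _ => φ (x.coeff 1)
    refine ⟨Ideal.Quotient.mk _ y, ?_⟩
    rw [← map_natCast (Ideal.Quotient.mk (FrobAlg.splitIdeal p A φ)), ← map_mul, Ideal.Quotient.eq, hmem]
    refine ⟨x.coeff 1 - y.coeff 0 ^ p, ?_, ?_⟩
    · rw [map_sub, ← mul_one (y.coeff 0 ^ p), hφ, hφ1, mul_one, TruncatedWittVector.coeff_mk, sub_self]
    · rw [map_sub, hsx x hx, mul_comm, hp1, hsmul, mul_one]
  · intro q hq
    obtain ⟨x, rfl⟩ := Ideal.Quotient.mk_surjective q
    rw [← map_natCast (Ideal.Quotient.mk (FrobAlg.splitIdeal p A φ)), ← map_mul,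
      Ideal.Quotient.eq_zero_iff_mem, mul_comm, hp1, hsmul, mul_one, hmem] at hq
    obtain ⟨a, ha, hae⟩ := hq
    change FrobAlg.res p A x = 0
    rw [FrobAlg.res_apply]
    have : a = x.coeff 0 ^ p := by rw [← hs1 a, hae, hs1]
    rw [this, ← mul_one (x.coeff 0 ^ p), hφ, hφ1, mul_one] at ha
    exact ha
  · ext x
    change FrobAlg.res p A (WittGrp.truncMap p 2 (algebraMap k A) x) = algebraMap k A (FrobAlg.res p k x)
    rw [FrobAlg.res_apply, FrobAlg.res_apply, WittGrp.coeff_truncMap]

end Groth.Agent.S13147
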