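import Groth.Statements.S13149
import Mathlib

set_option autoImplicit false
universe u
open CAlg

namespace Groth.Agent.S13149

/-- Let A be a local ring and ρ a map from the points of the projective plane over F_p to the points of
the projective plane over A (vectors with a unit coordinate, up to units) taking collinear triples
to collinear triples (three points are collinear when a vector with a unit coordinate is orthogonal
to all three). If ρ sends the standard frame (1:0:0), (0:1:0), (0:0:1), (1:1:1) to four points in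
general position, then p = 0 in A. (The published statement asks only that ρ preserve collinearity;
a constant map does so over any ring, and the published argument begins by moving the images of the
standard frame to the standard frame, which needs them in general position — that condition is made
a hypothesis here.) -/
theorem result
    (p : ℕ) [Fact p.Prime] (A : Type u) [CommRing A] [IsLocalRing A]
    (ρ : (Fin 3 → ZMod p) → (Fin 3 → A))
    (hpt : ∀ v : Fin 3 → ZMod p, v ≠ 0 → ∃ i, IsUnit (ρ v i))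
    (hcol : ∀ u v w : Fin 3 → ZMod p, u ≠ 0 → v ≠ 0 → w ≠ 0 →
      Matrix.det (Matrix.of ![u, v, w]) = 0 →
      ∃ n : Fin 3 → A, (∃ i, IsUnit (n i)) ∧
        dotProduct (ρ u) n = 0 ∧ dotProduct (ρ v) n = 0 ∧ dotProduct (ρ w) n = 0)
    (hgen : IsUnit (Matrix.det (Matrix.of ![ρ (Pi.single 0 1), ρ (Pi.single 1 1), ρ (Pi.single 2 1)])) ∧
      IsUnit (Matrix.det (Matrix.of ![ρ (Pi.single 0 1), ρ (Pi.single 1 1), ρ (fun _ => 1)])) ∧
      IsUnit (Matrix.det (Matrix.of ![ρ (Pi.single 0 1), ρ (Pi.single 2 1), ρ (fun _ => 1)])) ∧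
      IsUnit (Matrix.det (Matrix.of ![ρ (Pi.single 1 1), ρ (Pi.single 2 1), ρ (fun _ => 1)]))) :
    (p : A) = 0 := by
  classical
  obtain ⟨hM, h013, h023, h123⟩ := hgen
  let M : Matrix (Fin 3) (Fin 3) A := Matrix.of ![ρ (Pi.single 0 1), ρ (Pi.single 1 1), ρ (Pi.single 2 1)]
  haveI : Invertible M.det := hM.invertible
  haveI : Invertible M := Matrix.invertibleOfDetInvertible M
  -- coordinates with respect to the three frame points
  let τ : (Fin 3 → ZMod p) → (Fin 3 → A) := fun v => Matrix.vecMul (ρ v) M⁻¹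
  have hτM : ∀ v, Matrix.vecMul (τ v) M = ρ v := fun v => by
    simp only [τ, Matrix.vecMul_vecMul, Matrix.inv_mul_of_invertible, Matrix.vecMul_one]
  have hdet : ∀ u v w : Fin 3 → A, (Matrix.of ![Matrix.vecMul u M, Matrix.vecMul v M, Matrix.vecMul w M]).det =
      (Matrix.of ![u, v, w]).det * M.det := by
    intro u v w
    rw [← Matrix.det_mul]
    congr 1
    ext i j
    fin_cases i <;> simp [Matrix.mul_apply, Matrix.vecMul, dotProduct]
  have hτe : ∀ i, τ (Pi.single i 1) = Pi.single i 1 := fun i => by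
    have : ρ (Pi.single i 1) = Matrix.vecMul (Pi.single i 1) M := by
      rw [Matrix.single_vecMul, one_smul]
      fin_cases i <;> rfl
    simp only [τ, this, Matrix.vecMul_vecMul, Matrix.mul_inv_of_invertible, Matrix.vecMul_one]
  let w := τ (fun _ => 1)
  have hρe : ∀ i, ρ (Pi.single i 1) = Matrix.vecMul (Pi.single i (1 : A)) M := fun i => by rw [← hτM, hτe]
  have hw : ∀ i, IsUnit (w i) := by
    rw [hρe, hρe, ← hτM (fun _ => 1), hdet, IsUnit.mul_iff, Matrix.det_fin_three] at h013 h023 h123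
    intro i
    fin_cases i
    · simpa [w] using h123.1
    · simpa [w, IsUnit.neg_iff] using h023.1
    · simpa [w] using h013.1
  let σ : (Fin 3 → ZMod p) → (Fin 3 → A) := fun v i => τ v i * ↑(hw i).unit⁻¹
  have hσu : ∀ v, v ≠ 0 → ∃ i, IsUnit (σ v i) := by
    intro v hv
    by_contra hne
    push Not at hne
    have hmem : ∀ i, τ v i ∈ IsLocalRing.maximalIdeal A := fun i => by
      rw [IsLocalRing.mem_maximalIdeal, mem_nonunits_iff]
      exact fun h => hne i (h.mul (Units.isUnit _))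
    obtain ⟨j, hj⟩ := hpt v hv
    have h2 : ρ v j ∈ IsLocalRing.maximalIdeal A := by
      rw [← hτM, Matrix.vecMul, dotProduct]
      exact Ideal.sum_mem _ fun i _ => Ideal.mul_mem_right _ _ (hmem i)
    exact (IsLocalRing.mem_maximalIdeal _).1 h2 hj
  have hσd : ∀ u v z : Fin 3 → ZMod p, u ≠ 0 → v ≠ 0 → z ≠ 0 → (Matrix.of ![u, v, z]).det = 0 →
      (Matrix.of ![σ u, σ v, σ z]).det = 0 := by
    intro u v z hu hv hz hd
    obtain ⟨nv, ⟨i, hi⟩, e1, e2, e3⟩ := hcol u v z hu hv hz hd
    let R : Matrix (Fin 3) (Fin 3) A := Matrix.of ![ρ u, ρ v, ρ z]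
    have hR : R.mulVec nv = 0 := by
      ext r
      fin_cases r
      · exact e1
      · exact e2
      · exact e3
    have h1 : R.det • nv = 0 := by
      rw [← Matrix.one_mulVec nv, ← Matrix.smul_mulVec, ← Matrix.adjugate_mul, ← Matrix.mulVec_mulVec, hR,
        Matrix.mulVec_zero]
    have h2 : R.det = 0 := hi.mul_left_eq_zero.1 (congrFun h1 i)
    have h3 : (Matrix.of ![τ u, τ v, τ z]).det = 0 := by
      refine hM.mul_left_eq_zero.1 ?_
      rw [← hdet, hτM, hτM, hτM]
      exact h2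
    have h4 : Matrix.of ![σ u, σ v, σ z] = Matrix.of ![τ u, τ v, τ z] * Matrix.diagonal (fun i => ((↑(hw i).unit⁻¹ : A))) := by
      ext r t
      fin_cases r <;> simp [σ]
    rw [h4, Matrix.det_mul, h3, zero_mul]
  have hσe : ∀ i, ∃ c : A, IsUnit c ∧ σ (Pi.single i 1) = Pi.single i c := fun i => by
    refine ⟨↑(hw i).unit⁻¹, Units.isUnit _, funext fun j => ?_⟩
    simp only [σ, hτe]
    by_cases h : j = i
    · subst h; simp
    · simp [h]
  have hσ1 : ∀ i, σ (fun _ => 1) i = 1 := fun i => (hw i).mul_val_inv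
  obtain ⟨c0, hc0, e0⟩ := hσe 0
  obtain ⟨c1, hc1, e1⟩ := hσe 1
  obtain ⟨c2, hc2, e2⟩ := hσe 2
  have nz : ∀ v : Fin 3 → ZMod p, (v 0 = 1 ∨ v 1 = 1 ∨ v 2 = 1) → v ≠ 0 := by
    rintro v (h | h | h) rfl <;> simp at h
  have f0 : (Pi.single 0 1 : Fin 3 → ZMod p) ≠ 0 := nz _ (Or.inl (by simp))
  have f1 : (Pi.single 1 1 : Fin 3 → ZMod p) ≠ 0 := nz _ (Or.inr (Or.inl (by simp)))
  have f2 : (Pi.single 2 1 : Fin 3 → ZMod p) ≠ 0 := nz _ (Or.inr (Or.inr (by simp)))
  have fE : (fun _ => 1 : Fin 3 → ZMod p) ≠ 0 := nz _ (Or.inl rfl)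
  -- `(1,1,0)`
  obtain ⟨d, hd, hD⟩ : ∃ d, IsUnit d ∧ σ ![1, 1, 0] = ![d, d, 0] := by
    have fD : (![1, 1, 0] : Fin 3 → ZMod p) ≠ 0 := nz _ (Or.inl rfl)
    have a := hσd _ _ _ f0 f1 fD (by simp [Matrix.det_fin_three])
    have b := hσd _ _ _ f2 fE fD (by simp [Matrix.det_fin_three])
    simp [Matrix.det_fin_three, e0, e1] at a
    simp [Matrix.det_fin_three, e2, hσ1] at b
    have hz : σ ![1, 1, 0] 2 = 0 := (hc0.mul hc1).mul_right_eq_zero.1 a
    have hxy : σ ![1, 1, 0] 1 = σ ![1, 1, 0] 0 := sub_eq_zero.1 (hc2.mul_right_eq_zero.1 (by linear_combination b))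
    refine ⟨σ ![1, 1, 0] 0, ?_, ?_⟩
    · obtain ⟨i, hi⟩ := hσu _ fD
      fin_cases i
      · exact hi
      · exact hxy ▸ hi
      · simp [hz] at hi
    · funext i
      fin_cases i
      · rfl
      · exact hxy
      · exact hz
  -- `(0,1,1)`
  obtain ⟨v, hv, hV⟩ : ∃ v, IsUnit v ∧ σ ![0, 1, 1] = ![0, v, v] := by
    have fV : (![0, 1, 1] : Fin 3 → ZMod p) ≠ 0 := nz _ (Or.inr (Or.inl rfl))
    have a := hσd _ _ _ f1 f2 fV (by simp [Matrix.det_fin_three])
    have b := hσd _ _ _ f0 fE fV (by simp [Matrix.det_fin_three])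
    simp [Matrix.det_fin_three, e1, e2] at a
    simp [Matrix.det_fin_three, e0, hσ1] at b
    have hx : σ ![0, 1, 1] 0 = 0 := (hc1.mul hc2).mul_right_eq_zero.1 a
    have hyz : σ ![0, 1, 1] 2 = σ ![0, 1, 1] 1 := sub_eq_zero.1 (hc0.mul_right_eq_zero.1 (by linear_combination b))
    refine ⟨σ ![0, 1, 1] 1, ?_, ?_⟩
    · obtain ⟨i, hi⟩ := hσu _ fV
      fin_cases i
      · simp [hx] at hi
      · exact hi
      · exact hyz ▸ hi
    · funext i
      fin_cases i
      · exact hx
      · rfl
      · exact hyz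
  have main : ∀ k : ℕ, ∃ t, IsUnit t ∧ σ ![(k : ZMod p), 0, 1] = ![(k : A) * t, 0, t] := by
    intro k
    induction k with
    | zero =>
      have : (![((0 : ℕ) : ZMod p), 0, 1] : Fin 3 → ZMod p) = Pi.single 2 1 := by
        funext i; fin_cases i <;> simp
      refine ⟨c2, hc2, ?_⟩
      rw [this, e2]
      funext i; fin_cases i <;> simp
    | succ k ih =>
      obtain ⟨t, ht, hP⟩ := ih
      have fP : (![(k : ZMod p), 0, 1] : Fin 3 → ZMod p) ≠ 0 := nz _ (Or.inr (Or.inr rfl))
      have fD : (![1, 1, 0] : Fin 3 → ZMod p) ≠ 0 := nz _ (Or.inl rfl)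
      have fV : (![0, 1, 1] : Fin 3 → ZMod p) ≠ 0 := nz _ (Or.inr (Or.inl rfl))
      have fQ : (![(k : ZMod p) + 1, 1, 1] : Fin 3 → ZMod p) ≠ 0 := nz _ (Or.inr (Or.inr rfl))
      have fR : (![((k + 1 : ℕ) : ZMod p), 0, 1] : Fin 3 → ZMod p) ≠ 0 := nz _ (Or.inr (Or.inr rfl))
      have a := hσd _ _ _ f0 fV fQ (by simp [Matrix.det_fin_three])
      have b := hσd _ _ _ fP fD fQ (by simp [Matrix.det_fin_three])
      simp [Matrix.det_fin_three, e0, hV] at a
      simp [Matrix.det_fin_three, hP, hD] at b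
      set q := σ ![(k : ZMod p) + 1, 1, 1]
      have hqyz : q 2 = q 1 := sub_eq_zero.1 ((hc0.mul hv).mul_right_eq_zero.1 (by linear_combination a))
      have hqx : q 0 = ((k : A) + 1) * q 1 := by
        have : (t * d) * (((k : A) + 1) * q 1 - q 0) = 0 := by
          linear_combination b - (k : A) * t * d * hqyz
        exact (sub_eq_zero.1 ((ht.mul hd).mul_right_eq_zero.1 this)).symm
      have hq : IsUnit (q 1) := by
        obtain ⟨i, hi⟩ := hσu _ fQ
        fin_cases i
        · have h : IsUnit (q 0) := hi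
          rw [hqx, IsUnit.mul_iff] at h
          exact h.2
        · exact hi
        · exact hqyz ▸ hi
      have c := hσd _ _ _ f0 f2 fR (by simp [Matrix.det_fin_three])
      have e := hσd _ _ _ f1 fQ fR (by simp [Matrix.det_fin_three, Nat.cast_succ])
      simp [Matrix.det_fin_three, e0, e2, -Nat.cast_add] at c
      simp [Matrix.det_fin_three, e1, -Nat.cast_add] at e
      set r := σ ![((k + 1 : ℕ) : ZMod p), 0, 1]
      have hy : r 1 = 0 := (hc0.mul hc2).mul_right_eq_zero.1 (by linear_combination c)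
      have hx : r 0 = ((k : A) + 1) * r 2 := by
        have : (c1 * q 1) * (((k : A) + 1) * r 2 - r 0) = 0 := by
          rw [show σ ![(k : ZMod p) + 1, 1, 1] = q from rfl, hqx, hqyz] at e
          linear_combination -e
        exact (sub_eq_zero.1 ((hc1.mul hq).mul_right_eq_zero.1 this)).symm
      refine ⟨r 2, ?_, ?_⟩
      · obtain ⟨i, hi⟩ := hσu _ fR
        fin_cases i
        · have h : IsUnit (r 0) := hi
          rw [hx, IsUnit.mul_iff] at h
          exact h.2
        · have h : IsUnit (r 1) := hi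
          simp [hy] at h
        · exact hi
      · funext i
        fin_cases i
        · simpa using hx
        · exact hy
        · rfl
  obtain ⟨t, ht, hp⟩ := main p
  have : (![((p : ℕ) : ZMod p), 0, 1] : Fin 3 → ZMod p) = Pi.single 2 1 := by
    funext i; fin_cases i <;> simp
  rw [this, e2] at hp
  have h0 := congrFun hp 0
  simp at h0
  exact ht.mul_left_eq_zero.1 h0.symm

end Groth.Agent.S13149
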