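import Groth.Statements.S13151
import Mathlib.RingTheory.Polynomial.ScaleRoots

set_option autoImplicit false
universe u
open CAlg

namespace Groth.Agent.S13151

/-- Let A → B be an injective ring homomorphism of integral domains which is integral, with A integrally
closed, and let π be an element of A. Then the contraction to A of the ideal πB is πA, i.e. an
element of A which is a multiple of π in B is already a multiple of π in A; in particular if B/πB is
an integral domain then A/πA is an integral domain. (The published statement is for an integral
dominant morphism of integral schemes flat over a discrete valuation ring, with normal target and π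
a uniformizer; flatness and the valuation ring play no role, so π is an arbitrary element here.) -/
theorem result {A B : Type u} [CommRing A] [CommRing B]
    [IsDomain A] [IsDomain B] [IsIntegrallyClosed A] [Algebra A B] [Algebra.IsIntegral A B]
    (hinj : Function.Injective (algebraMap A B)) (π : A) :
    (Ideal.span {algebraMap A B π}).comap (algebraMap A B) = Ideal.span {π} ∧
      (IsDomain (B ⧸ Ideal.span {algebraMap A B π}) → IsDomain (A ⧸ Ideal.span {π})) := by
  have key : (Ideal.span {algebraMap A B π}).comap (algebraMap A B) = Ideal.span {π} := by
    refine le_antisymm (fun x hx => ?_) ?_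
    · rw [Ideal.mem_comap, Ideal.mem_span_singleton'] at hx
      obtain ⟨b, hb⟩ := hx
      by_cases hπ : π = 0
      · subst hπ
        have : algebraMap A B x = 0 := by rw [← hb, map_zero, mul_zero]
        rw [(injective_iff_map_eq_zero _).1 hinj x this]; exact zero_mem _
      obtain ⟨P, hP, hPb⟩ := Algebra.IsIntegral.isIntegral (R := A) b
      have h1 : Polynomial.eval₂ (algebraMap A B) (algebraMap A B x) (P.scaleRoots π) = 0 := by
        rw [← hb, mul_comm, Polynomial.scaleRoots_eval₂_mul, hPb, mul_zero]
      rw [Polynomial.eval₂_at_apply] at h1
      have h2 : (P.scaleRoots π).eval x = 0 := (injective_iff_map_eq_zero _).1 hinj _ h1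
      have hπK : algebraMap A (FractionRing A) π ≠ 0 := by
        simpa using hπ
      have h3 : IsIntegral A (algebraMap A (FractionRing A) x / algebraMap A (FractionRing A) π) := by
        refine ⟨P, hP, ?_⟩
        have := congrArg (algebraMap A (FractionRing A)) h2
        rw [map_zero, ← Polynomial.eval₂_at_apply,
          show algebraMap A (FractionRing A) x = algebraMap A (FractionRing A) π *
            (algebraMap A (FractionRing A) x / algebraMap A (FractionRing A) π) by field_simp,
          Polynomial.scaleRoots_eval₂_mul] at this
        exact (mul_eq_zero.1 this).resolve_left (pow_ne_zero _ hπK)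
      obtain ⟨y, hy⟩ := IsIntegrallyClosed.isIntegral_iff.1 h3
      rw [Ideal.mem_span_singleton']
      refine ⟨y, IsFractionRing.injective A (FractionRing A) ?_⟩
      rw [map_mul, hy, div_mul_cancel₀ _ hπK]
    · rw [Ideal.span_le, Set.singleton_subset_iff]
      exact Ideal.mem_span_singleton_self _
  refine ⟨key, fun h => ?_⟩
  have : (Ideal.span {algebraMap A B π}).IsPrime := (Ideal.Quotient.isDomain_iff_prime _).1 h
  rw [Ideal.Quotient.isDomain_iff_prime, ← key]
  exact Ideal.comap_isPrime _ _

end Groth.Agent.S13151
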