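import Groth.Statements.S13154
import Mathlib

set_option autoImplicit false
universe u
open scoped TensorProduct
open CAlg

namespace Groth.Agent.S13154

/-- Let R be a discrete valuation ring with fraction field K, A a faithfully flat R-algebra (an affine
faithfully flat base change S' → S = Spec R) and B₁, B₂ flat R-algebras (two affine S-schemes X₁ =
Spec B₁, X₂ = Spec B₂, flat over S). Suppose given a K-algebra homomorphism φ_K : K ⊗ B₂ → K ⊗ B₁ (a
morphism of the generic fibres X₁,K → X₂,K) and an A-algebra homomorphism φ_A : A ⊗ B₂ → A ⊗ B₁ (a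
morphism X₁ ×_S S' → X₂ ×_S S' over S') which coincide after base change to K ⊗ A, in the sense that
for every b ∈ B₂ the images of φ_K(1 ⊗ b) and φ_A(1 ⊗ b) in (K ⊗ A) ⊗ B₁ agree. Then there is
exactly one R-algebra homomorphism φ : B₂ → B₁ (a morphism X₁ → X₂) whose base changes to K and to A
are φ_K and φ_A. (The published statement assumes only X₂ flat over S; flatness of X₁ is also
needed: with B₂ = R[t], B₁ = R[e]/(e², πe) for a uniformizer π and A = R[x], the maps t ↦ 0 over K
and t ↦ e x over A agree over K ⊗ A = K[x] but come from no map over R.) -/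
theorem result (R : Type u) [CommRing R] [IsDomain R]
    [IsDiscreteValuationRing R] (K : Type u) [Field K] [Algebra R K] [IsFractionRing R K]
    (A : Type u) [CommRing A] [Algebra R A] [Module.FaithfullyFlat R A]
    (B₁ B₂ : Type u) [CommRing B₁] [CommRing B₂] [Algebra R B₁] [Algebra R B₂]
    [Module.Flat R B₁] [Module.Flat R B₂]
    (φK : K ⊗[R] B₂ →ₐ[K] K ⊗[R] B₁) (φA : A ⊗[R] B₂ →ₐ[A] A ⊗[R] B₁)
    (hcomp : ∀ b : B₂,
      Algebra.TensorProduct.map (Algebra.TensorProduct.includeLeft : K →ₐ[R] K ⊗[R] A) (AlgHom.id R B₁)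
          (φK (1 ⊗ₜ b)) =
        Algebra.TensorProduct.map (Algebra.TensorProduct.includeRight : A →ₐ[R] K ⊗[R] A) (AlgHom.id R B₁)
          (φA (1 ⊗ₜ b))) :
    ∃! φ : B₂ →ₐ[R] B₁, (∀ b : B₂, φK (1 ⊗ₜ b) = 1 ⊗ₜ φ b) ∧ (∀ b : B₂, φA (1 ⊗ₜ b) = 1 ⊗ₜ φ b) := by
  classical
  have hinjK : ∀ (B : Type u) [CommRing B] [Algebra R B] [Module.Flat R B],
      Function.Injective (fun b : B => (1 : K) ⊗ₜ[R] b) := fun B _ _ _ => Module.Flat.tensorProduct_mk_injective R B K
  have hinjA : Function.Injective (fun b : B₁ => (1 : A) ⊗ₜ[R] b) :=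
    Module.FaithfullyFlat.tensorProduct_mk_injective (B := A) B₁
  have hAKA : Function.Injective (Algebra.TensorProduct.map
      (Algebra.TensorProduct.includeRight : A →ₐ[R] K ⊗[R] A) (AlgHom.id R B₁)) :=
    Module.Flat.rTensor_preserves_injective_linearMap (M := B₁)
      (Algebra.TensorProduct.includeRight : A →ₐ[R] K ⊗[R] A).toLinearMap
      (Algebra.TensorProduct.includeRight_injective (IsFractionRing.injective R K))
  have key : ∀ b : B₂, ∃ y : B₁, φK (1 ⊗ₜ b) = 1 ⊗ₜ y ∧ φA (1 ⊗ₜ b) = 1 ⊗ₜ y := by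
    intro b
    have hloc : IsLocalizedModule (nonZeroDivisors R) (TensorProduct.mk R K B₁ 1) :=
      (isLocalizedModule_iff_isBaseChange (nonZeroDivisors R) K _).2 (TensorProduct.isBaseChange R B₁ K)
    obtain ⟨⟨y, s⟩, hy⟩ := IsLocalizedModule.surj (nonZeroDivisors R) (TensorProduct.mk R K B₁ 1) (φK (1 ⊗ₜ b))
    simp only [Submonoid.smul_def, TensorProduct.mk_apply] at hy
    have h1 : (s : R) • φA (1 ⊗ₜ b) = 1 ⊗ₜ y := by
      apply hAKA
      rw [map_smul, ← hcomp, ← map_smul, hy, Algebra.TensorProduct.map_tmul, Algebra.TensorProduct.map_tmul,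
        map_one, map_one]
    have h2 : (Submodule.Quotient.mk y : B₁ ⧸ LinearMap.range ((s : R) • LinearMap.id : B₁ →ₗ[R] B₁)) = 0 := by
      apply Module.FaithfullyFlat.tensorProduct_mk_injective (A := R) (B := A)
      rw [map_zero, TensorProduct.mk_apply]
      have h3 : (LinearMap.range ((s : R) • LinearMap.id : B₁ →ₗ[R] B₁)).mkQ.lTensor A (1 ⊗ₜ y) = 0 := by
        rw [← h1, map_smul]
        induction φA (1 ⊗ₜ b) using TensorProduct.induction_on with
        | zero => simp
        | tmul a z =>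
          rw [LinearMap.lTensor_tmul, ← TensorProduct.tmul_smul, ← map_smul,
            show (LinearMap.range ((s : R) • LinearMap.id : B₁ →ₗ[R] B₁)).mkQ ((s : R) • z) = 0 from
              (Submodule.Quotient.mk_eq_zero _).2 ⟨z, rfl⟩, TensorProduct.tmul_zero]
        | add p q hp hq => rw [map_add, smul_add, hp, hq, add_zero]
      exact h3
    obtain ⟨z, hz⟩ := (Submodule.Quotient.mk_eq_zero _).1 h2
    change (s : R) • z = y at hz
    have hK : φK (1 ⊗ₜ b) = 1 ⊗ₜ z := by
      refine IsLocalizedModule.smul_injective (TensorProduct.mk R K B₁ 1) s ?_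
      simp only [Submonoid.smul_def]
      rw [hy, ← TensorProduct.tmul_smul, hz]
    refine ⟨z, hK, hAKA ?_⟩
    rw [← hcomp, hK, Algebra.TensorProduct.map_tmul, Algebra.TensorProduct.map_tmul, map_one, map_one]
  choose f hfK hfA using key
  have hext : ∀ {x y : B₁}, (1 : K) ⊗ₜ[R] x = 1 ⊗ₜ y → x = y := fun h => hinjK B₁ h
  let Ψ : B₂ →ₐ[R] K ⊗[R] B₁ := (φK.restrictScalars R).comp Algebra.TensorProduct.includeRight
  have hΨ : ∀ b, Ψ b = 1 ⊗ₜ f b := hfK
  refine ⟨{ toFun := f
            map_one' := hext (by rw [← hΨ, map_one, Algebra.TensorProduct.one_def])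
            map_mul' := fun x y => hext (by rw [← hΨ, map_mul, hΨ, hΨ, Algebra.TensorProduct.tmul_mul_tmul, one_mul])
            map_zero' := hext (by rw [← hΨ, map_zero, TensorProduct.tmul_zero])
            map_add' := fun x y => hext (by rw [← hΨ, map_add, hΨ, hΨ, TensorProduct.tmul_add])
            commutes' := fun r => hext (by
              rw [← hΨ, AlgHom.commutes, Algebra.algebraMap_eq_smul_one, Algebra.TensorProduct.one_def,
                ← TensorProduct.tmul_smul, ← Algebra.algebraMap_eq_smul_one]) }, ⟨hfK, hfA⟩, fun ψ hψ => ?_⟩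
  exact AlgHom.ext fun b => hext ((hψ.1 b).symm.trans (hfK b))

end Groth.Agent.S13154
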