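import Groth.Statements.S13155
import Mathlib.RingTheory.IntegralClosure.IsIntegralClosure.Basic
import Mathlib.RingTheory.IntegralClosure.IntegrallyClosed
import Mathlib.RingTheory.UniqueFactorizationDomain.Multiplicity

set_option autoImplicit false
universe u
open CAlg

namespace Groth.Agent.S13155
open Polynomial

/-- Let R be a discrete valuation ring of characteristic zero with uniformizer π, and A a Noetherian
integrally closed domain which is an R-algebra with injective structure map and in which πA is a
prime ideal (X = Spec A is normal, flat over R, with integral special fibre). Let m ≥ 1 and let f ∈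
A be invertible in A[1/π] (so Z^m = f defines a μ_m-torsor over the generic fibre), such that S =
A[1/π][Z]/(Z^m − f) is an integral domain and, writing B for the integral closure of A in S (the
normalization of X in that cover), πB is a prime ideal of B (the normalization has integral special
fibre). Then f is, up to a unit of A, an m-th power of a power of π: f = π^{mq}·u with q ≥ 0 and u ∈
A^×, so that the cover extends to the μ_m-torsor Z^m = u over all of X. (The published statement is
the existence and uniqueness of the extending μ_m-torsor over a normal faithfully flat R-scheme with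
integral fibres, R containing a primitive m-th root of unity; this row is the affine computation
that carries the proof.) -/
theorem result (R : Type u) [CommRing R]
    [IsDomain R] [IsDiscreteValuationRing R] [CharZero R] (ϖ : R) (hϖ : Irreducible ϖ)
    (A : Type u) [CommRing A] [IsDomain A] [IsNoetherianRing A] [IsIntegrallyClosed A] [Algebra R A]
    (hinj : Function.Injective (algebraMap R A)) (hprime : (Ideal.span {algebraMap R A ϖ}).IsPrime)
    (m : ℕ) (hm : 0 < m) (f : A) (hf : IsUnit (algebraMap A (Localization.Away (algebraMap R A ϖ)) f))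
    [IsDomain (AdjoinRoot (Polynomial.X ^ m - Polynomial.C (algebraMap A (Localization.Away (algebraMap R A ϖ)) f)))]
    (hsp : (Ideal.span {algebraMap A (integralClosure A
        (AdjoinRoot (Polynomial.X ^ m - Polynomial.C (algebraMap A (Localization.Away (algebraMap R A ϖ)) f))))
          (algebraMap R A ϖ)}).IsPrime) :
    ∃ (q : ℕ) (u : Aˣ), f = algebraMap R A ϖ ^ (m * q) * (u : A) := by
  classical
  let t := algebraMap R A ϖ
  let L := Localization.Away t
  let S := AdjoinRoot (Polynomial.X ^ m - Polynomial.C (algebraMap A L f))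
  have ht0 : t ≠ 0 := fun h => hϖ.ne_zero (hinj (by rw [map_zero]; exact h))
  have htp : Prime t := (Ideal.span_singleton_prime ht0).1 hprime
  obtain ⟨g, hg⟩ := hf.exists_right_inv
  obtain ⟨⟨g', ⟨_, N, rfl⟩⟩, hgg⟩ := IsLocalization.surj (Submonoid.powers t) g
  have hfg : f * g' = t ^ N := by
    refine IsLocalization.injective L (powers_le_nonZeroDivisors_of_noZeroDivisors ht0) ?_
    rw [map_mul, ← hgg, ← mul_assoc, hg, one_mul]
  have hf0 : f ≠ 0 := by rintro rfl; exact pow_ne_zero N ht0 (by rw [← hfg, zero_mul])
  obtain ⟨a, v, hv, rfl⟩ := WfDvdMonoid.max_power_factor hf0 htp.irreducible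
  have hvu : IsUnit v := by
    have : ∀ N g, v * g = t ^ N → IsUnit v := by
      intro N
      induction N with
      | zero => exact fun g h => IsUnit.of_mul_eq_one g (by simpa using h)
      | succ N ih =>
        intro g h
        rcases htp.dvd_or_dvd (⟨t ^ N, by rw [h, pow_succ']⟩ : t ∣ v * g) with h' | ⟨g', rfl⟩
        · exact absurd h' hv
        · exact ih g' (mul_left_cancel₀ ht0 (by rw [← pow_succ', ← h]; ring))
    exact this N (t ^ a * g') (by rw [← hfg]; ring)
  by_cases hr : a % m = 0
  · refine ⟨a / m, hvu.unit, ?_⟩
    rw [Nat.mul_div_cancel' (Nat.dvd_of_mod_eq_zero hr)]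
    rfl
  exfalso
  let ti : S := algebraMap L S (IsLocalization.Away.invSelf t)
  have hti : algebraMap A S t * ti = 1 := by
    rw [IsScalarTower.algebraMap_apply A L S, ← map_mul, IsLocalization.Away.mul_invSelf, map_one]
  have hroot : AdjoinRoot.root (Polynomial.X ^ m - Polynomial.C (algebraMap A L (t ^ a * v))) ^ m = algebraMap A S (t ^ a * v) := by
    have h := AdjoinRoot.eval₂_root (Polynomial.X ^ m - Polynomial.C (algebraMap A L (t ^ a * v)))
    rw [eval₂_sub, eval₂_X_pow, eval₂_C, sub_eq_zero] at h
    rw [h, IsScalarTower.algebraMap_apply A L S]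
    rfl
  let ζ : S := AdjoinRoot.root (Polynomial.X ^ m - Polynomial.C (algebraMap A L (t ^ a * v))) * ti ^ (a / m)
  have hζ : ζ ^ m = algebraMap A S (t ^ (a % m) * v) := by
    have key : ∀ (S' : Type u) [CommRing S'] (T V Ti R : S'), R ^ m = T ^ a * V → T * Ti = 1 →
        (R * Ti ^ (a / m)) ^ m = T ^ (a % m) * V := by
      intro S' _ T V Ti R hR hT
      rw [mul_pow, hR, ← pow_mul, show T ^ a = T ^ (m * (a / m)) * T ^ (a % m) by
        rw [← pow_add, Nat.div_add_mod]]
      rw [show T ^ (m * (a / m)) * T ^ (a % m) * V * Ti ^ (a / m * m) = (T * Ti) ^ (a / m * m) * (T ^ (a % m) * V) by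
        rw [mul_pow, mul_comm m (a / m)]; ring]
      rw [hT, one_pow, one_mul]
    have e : ∀ k, algebraMap A S (t ^ k * v) = algebraMap A S t ^ k * algebraMap A S v := fun k =>
      (map_mul _ _ _).trans (congrArg (· * _) (map_pow _ _ _))
    exact (key S _ _ ti _ (hroot.trans (e a)) hti).trans (e (a % m)).symm
  let ζB : integralClosure A S := ⟨ζ, IsIntegral.of_pow hm (hζ ▸ isIntegral_algebraMap)⟩
  let tB : integralClosure A S := algebraMap A (integralClosure A S) t
  have hζB : ζB ^ m = tB ^ (a % m) * algebraMap A (integralClosure A S) v :=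
    Subtype.ext (by simpa [ζB, tB] using hζ.trans (map_mul ..))
  have hmem : ζB ∈ Ideal.span {tB} := hsp.mem_of_pow_mem m (by
    rw [hζB]
    exact Ideal.mul_mem_right _ _ (Ideal.pow_mem_of_mem _ (Ideal.mem_span_singleton_self _) _ (Nat.pos_of_ne_zero hr)))
  obtain ⟨b, hb⟩ := Ideal.mem_span_singleton'.1 hmem
  have hlt := Nat.mod_lt a hm
  have huS : algebraMap A (integralClosure A S) v = tB ^ (m - a % m) * b ^ m := by
    have h1 : tB ^ (a % m) * algebraMap A (integralClosure A S) v = tB ^ (a % m) * (tB ^ (m - a % m) * b ^ m) := by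
      rw [← hζB, ← hb, mul_pow, ← mul_assoc, ← pow_add, Nat.add_sub_cancel' hlt.le, mul_comm (b ^ m)]
    apply Subtype.ext
    have h2 := congrArg Subtype.val h1
    refine ((IsUnit.of_mul_eq_one ti hti).pow (a % m)).mul_left_cancel ?_
    simpa [tB] using h2
  have htu : IsUnit tB := by
    have h1 : IsUnit (tB ^ (m - a % m)) := isUnit_of_mul_isUnit_left (huS ▸ hvu.map (algebraMap A (integralClosure A S)))
    exact (isUnit_pow_iff (by omega)).1 h1
  exact hsp.ne_top (Ideal.span_singleton_eq_top.2 htu)

end Groth.Agent.S13155
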