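import Groth.Statements.S13156
import Mathlib.Tactic.LinearCombination
import Mathlib.Tactic.Ring
import Mathlib.Algebra.MvPolynomial.Eval
import Mathlib.Algebra.Polynomial.Derivative
import Mathlib.Data.Fin.VecNotation
import Mathlib.Algebra.Polynomial.Degree.Lemmas
import Mathlib.Data.Nat.Factorial.Basic

set_option autoImplicit false
universe u
open scoped Polynomial
open CAlg

namespace Groth.Agent.S13156
open Polynomial

/-- The differential equation and the functional equation for a polynomial in one more variable. -/
theorem one_variable {A : Type u} [CommRing A] (p : ℕ) (hu : ∀ i, 0 < i → i < p → IsUnit (i : A)) (μ : A) (F : A[X])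
    (hF : F.natDegree < p) :
    let G : A[X][X] := (C X + X + C (C μ * X) * X)
    (C F * F.map C - C (C (F.coeff 0 ^ 2)) = (F.map C).comp G - C (C (F.coeff 0))) ↔
      F * C (F.coeff 1) = derivative F * (1 + C μ * X) := by
  intro G
  have hGd : derivative G = C (1 + C μ * X) := by simp [G]
  have hG0 : G.eval 0 = X := by simp [G]
  have hdF : derivative (F.map C) = (derivative F).map C := derivative_map F C
  constructor
  · intro h
    have h' := congrArg (fun q => (derivative q).eval 0) h
    simp only [derivative_sub, derivative_C, sub_zero, derivative_C_mul, derivative_comp, eval_mul, eval_C, hdF, eval_comp,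
      hGd, hG0] at h'
    rw [← coeff_zero_eq_eval_zero, coeff_map, eval_map, eval₂_C_X, coeff_derivative] at h'
    simp only [map_add, map_one, map_mul, Nat.cast_zero, zero_add, mul_one] at h'
    linear_combination h'
  · intro h
    have hmid : ∀ i, (derivative F * (C μ * X)).coeff i = μ * (F.coeff i * i) := by
      intro i
      cases i with
      | zero => simp
      | succ i =>
        rw [← mul_assoc, coeff_mul_X, coeff_mul_C, coeff_derivative]
        push_cast
        ring
    have hrec : ∀ i, F.coeff (i + 1) * (i + 1) + μ * (F.coeff i * i) = F.coeff i * F.coeff 1 := by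
      intro i
      have := congrArg (fun q => q.coeff i) h
      rw [mul_add, mul_one] at this
      simp only [coeff_mul_C, coeff_add, coeff_derivative, hmid] at this
      rw [this]
    have h01 : F.coeff 0 * F.coeff 1 = F.coeff 1 := by simpa using (hrec 0).symm
    have h0i : ∀ i, F.coeff 0 * F.coeff (i + 1) = F.coeff (i + 1) := by
      intro i
      induction i with
      | zero => exact h01
      | succ i ih =>
        rcases lt_or_ge (i + 1 + 1) p with hip | hip
        · refine (hu (i + 1 + 1) (by omega) hip).mul_left_injective ?_
          show F.coeff 0 * F.coeff (i + 1 + 1) * ((i + 1 + 1 : ℕ) : A) = F.coeff (i + 1 + 1) * ((i + 1 + 1 : ℕ) : A)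
          have := hrec (i + 1)
          push_cast at this ⊢
          linear_combination (F.coeff 0 - 1) * this + (F.coeff 1 - μ * (i + 1)) * ih
        · simp [coeff_eq_zero_of_natDegree_lt (lt_of_lt_of_le hF hip)]
    have hC : (C (F.coeff 0 ^ 2) - C (F.coeff 0)) * C (F.coeff 1) = (0 : A[X]) := by
      rw [sub_mul, ← map_mul, ← map_mul, ← map_sub,
        show F.coeff 0 ^ 2 * F.coeff 1 - F.coeff 0 * F.coeff 1 = 0 by linear_combination F.coeff 0 * h01, map_zero]
    let H : A[X][X] := C F * F.map C - C (C (F.coeff 0 ^ 2)) - ((F.map C).comp G - C (C (F.coeff 0)))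
    suffices H = 0 from sub_eq_zero.1 this
    have hFB : F.map C * C (C (F.coeff 1)) = derivative (F.map C) * (1 + C (C μ) * X) := by
      have := congrArg (Polynomial.map (C : A →+* A[X])) h
      simpa [Polynomial.map_mul, hdF] using this
    have hFG : (F.map C).comp G * C (C (F.coeff 1)) = (derivative (F.map C)).comp G * (1 + C (C μ) * G) := by
      have := congrArg (fun q => q.comp G) hFB
      simpa using this
    have hgrow : (1 + C (C μ) * X) * C (1 + C μ * X) = (1 + C (C μ) * G : A[X][X]) := by
      simp [G]; ring
    have hODE : derivative H * (1 + C (C μ) * X) = H * C (C (F.coeff 1)) := by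
      have hz := congrArg (C : A[X] →+* A[X][X]) hC
      simp only [map_mul, map_sub, map_zero] at hz
      simp only [H, derivative_sub, derivative_C, sub_zero, derivative_C_mul, derivative_comp, hGd]
      linear_combination (-C F) * hFB + hFG + (-(derivative (F.map C)).comp G) * hgrow + hz
    have hH0 : H.coeff 0 = 0 := by
      rw [coeff_zero_eq_eval_zero]
      simp only [H, eval_sub, eval_mul, eval_C, eval_comp, hG0]
      rw [← coeff_zero_eq_eval_zero, coeff_map, eval_map, eval₂_C_X]
      ext i
      cases i with
      | zero => simp [pow_two]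
      | succ i =>
        simp only [coeff_sub, coeff_mul_C, coeff_C_succ, sub_zero, coeff_zero]
        rw [mul_comm, h0i]; ring
    have hdeg : ∀ k, p ≤ k → H.coeff k = 0 := by
      intro k hk
      refine coeff_eq_zero_of_natDegree_lt (lt_of_le_of_lt ?_ (lt_of_lt_of_le hF hk))
      have hG1 : G.natDegree ≤ 1 := by
        refine natDegree_add_le_of_degree_le ?_ ((natDegree_C_mul_le _ _).trans natDegree_X_le)
        exact natDegree_add_le_of_degree_le (by simp) natDegree_X_le
      refine (natDegree_sub_le_of_le (natDegree_sub_le_of_le (natDegree_C_mul_le _ _) (natDegree_C _).le)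
        (natDegree_sub_le_of_le (natDegree_comp_le.trans (Nat.mul_le_mul le_rfl hG1)) (natDegree_C _).le)).trans ?_
      simp [natDegree_map_le]
    refine Polynomial.ext fun k => ?_
    rw [coeff_zero]
    induction k with
    | zero => exact hH0
    | succ k ih =>
      rcases lt_or_ge (k + 1) p with hk | hk
      · have := congrArg (fun q => q.coeff k) hODE
        simp only [mul_add, mul_one, coeff_add, coeff_derivative, coeff_mul_C, ih, zero_mul] at this
        have h2 : (derivative H * (C (C μ) * X)).coeff k = 0 := by
          cases k with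
          | zero => simp
          | succ j =>
            rw [← mul_assoc, coeff_mul_X, coeff_mul_C, coeff_derivative, ih]
            simp
        rw [h2, add_zero] at this
        have hk' : IsUnit (((k : ℕ) : A[X]) + 1) := by
          have := (hu (k + 1) (by omega) hk).map (C : A →+* A[X])
          simpa using this
        exact hk'.mul_left_eq_zero.1 (by rw [mul_add, mul_one]; exact this)
      · exact hdeg _ hk

/-- Let p be a prime number, A a commutative ring in which (p−1)! is invertible, μ an element of A, and
F ∈ A[X] a polynomial of degree at most p − 1 with coefficients a_0, a_1, …. Then the identity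
F(S)·F(T) − a_0² = F(S + T + μST) − a_0 holds in the polynomial ring A[S, T] if and only if a_1·F(S)
= F′(S)·(1 + μS) holds in A[S], F′ the formal derivative. (The published statement is over the
quotient of a discrete valuation ring of residue characteristic p by a nonzero element of its
maximal ideal; only the invertibility of 1, …, p − 1 is used, so an arbitrary such ring A is allowed
here.) -/
theorem result (A : Type u) [CommRing A] (p : ℕ) [Fact p.Prime]
    (hu : IsUnit ((Nat.factorial (p - 1) : ℕ) : A)) (μ : A) (F : A[X]) (hF : F.natDegree < p) :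
    (Polynomial.aeval (MvPolynomial.X 0 : MvPolynomial (Fin 2) A) F *
          Polynomial.aeval (MvPolynomial.X 1 : MvPolynomial (Fin 2) A) F - MvPolynomial.C (F.coeff 0 ^ 2) =
        Polynomial.aeval (MvPolynomial.X 0 + MvPolynomial.X 1 +
            MvPolynomial.C μ * MvPolynomial.X 0 * MvPolynomial.X 1 : MvPolynomial (Fin 2) A) F -
          MvPolynomial.C (F.coeff 0)) ↔
      F * Polynomial.C (F.coeff 1) = Polynomial.derivative F * (1 + Polynomial.C μ * Polynomial.X) := by
  have hu' : ∀ i, 0 < i → i < p → IsUnit (i : A) := fun i hi hip =>
    isUnit_of_dvd_unit (Nat.cast_dvd_cast (Nat.dvd_factorial hi (by omega))) hu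
  refine Iff.trans ?_ (one_variable p hu' μ F hF)
  let Φ : MvPolynomial (Fin 2) A →ₐ[A] A[X][X] := MvPolynomial.aeval ![Polynomial.C Polynomial.X, Polynomial.X]
  let Ψ : A[X][X] →+* MvPolynomial (Fin 2) A :=
    Polynomial.eval₂RingHom (Polynomial.aeval (MvPolynomial.X 0 : MvPolynomial (Fin 2) A)).toRingHom (MvPolynomial.X 1)
  have hinv : Ψ.comp Φ.toRingHom = RingHom.id _ := MvPolynomial.ringHom_ext (fun c => by simp [Φ, Ψ]) fun i => by
    fin_cases i <;> simp [Φ, Ψ]
  have hΦinj : Function.Injective Φ := Function.LeftInverse.injective (g := Ψ) fun q => RingHom.congr_fun hinv q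
  rw [← hΦinj.eq_iff]
  simp only [map_sub, map_mul, ← Polynomial.aeval_algHom_apply, map_add]
  simp only [Φ, MvPolynomial.aeval_C, MvPolynomial.aeval_X, Matrix.cons_val_zero, Matrix.cons_val_one, Polynomial.comp,
    Polynomial.aeval_def, Polynomial.eval₂_map, Polynomial.algebraMap_eq]
  have hx : (algebraMap A A[X][X]) = Polynomial.C.comp Polynomial.C := rfl
  have hCX : ∀ q : A[X], q.eval₂ (algebraMap A A[X][X]) (Polynomial.C Polynomial.X) = Polynomial.C q := by
    intro q
    rw [hx, ← Polynomial.hom_eval₂, Polynomial.eval₂_C_X]
  have hTX : ∀ q : A[X], q.eval₂ (algebraMap A A[X][X]) Polynomial.X = q.map Polynomial.C := fun q => by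
    rw [hx, ← Polynomial.eval₂_map, Polynomial.eval₂_C_X]
  rw [hCX, hTX, hx]
  simp [mul_assoc]

end Groth.Agent.S13156
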