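import Groth.Statements.S13157
import Mathlib.Algebra.Polynomial.Derivative
import Mathlib.Data.Nat.Factorial.Basic
import Mathlib.Algebra.BigOperators.Intervals
import Mathlib.Tactic.LinearCombination

set_option autoImplicit false
universe u
open scoped Polynomial
open CAlg

namespace Groth.Agent.S13157
open Polynomial

theorem coeff_iff {A : Type u} [CommRing A] (μ : A) (F : A[X]) :
    F * C (F.coeff 1) = derivative F * (1 + C μ * X) ↔
      ∀ r : ℕ, ((r : A) + 1) * F.coeff (r + 1) = (F.coeff 1 - (r : A) * μ) * F.coeff r := by
  rw [Polynomial.ext_iff]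
  refine forall_congr' fun r => ?_
  rcases r with _ | r
  · rw [coeff_mul_C, mul_add, mul_one, coeff_add, ← mul_assoc, coeff_mul_X_zero, coeff_derivative]
    constructor <;> intro h <;> (push_cast at h ⊢; linear_combination -h)
  · rw [coeff_mul_C, mul_add, mul_one, coeff_add, ← mul_assoc, coeff_mul_X, coeff_mul_C,
      coeff_derivative, coeff_derivative]
    constructor <;> intro h <;> (push_cast at h ⊢; linear_combination -h)

/-- (i) ⇔ (ii): let p be a prime number, A a commutative ring in which (p−1)! is invertible, μ ∈ A, and
F ∈ A[X] a polynomial of degree at most p − 1 with constant term a_0 = 1 and coefficients a_1, a_2,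
…. Then the relations a_{r−1}·a_1 = (r − 1)μ·a_{r−1} + r·a_r for 1 ≤ r ≤ p (with a_p = 0), written
here as the single identity a_1·F = F′·(1 + μX), hold if and only if r!·a_r = ∏_{k=0}^{r−1} (a_1 −
kμ) for every 1 ≤ r ≤ p − 1 and ∏_{k=0}^{p−1} (a_1 − kμ) = 0. (The published statement lists the
relations only for 1 ≤ r ≤ p − 1, while its proof uses and derives the relation for r = p as well,
which is needed for the vanishing of the last product; it is included here. The published setting is
the quotient of a discrete valuation ring of residue characteristic p by a nonzero non-unit; only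
the invertibility of 1, …, p − 1 is used.) -/
theorem result (A : Type u) [CommRing A] (p : ℕ) [Fact p.Prime]
    (hu : IsUnit ((Nat.factorial (p - 1) : ℕ) : A)) (μ : A) (F : A[X]) (hF : F.natDegree < p)
    (h0 : F.coeff 0 = 1) :
    F * Polynomial.C (F.coeff 1) = Polynomial.derivative F * (1 + Polynomial.C μ * Polynomial.X) ↔
      ((∀ r : ℕ, 1 ≤ r → r < p →
          (r.factorial : A) * F.coeff r = ∏ k ∈ Finset.range r, (F.coeff 1 - (k : A) * μ)) ∧
        ∏ k ∈ Finset.range p, (F.coeff 1 - (k : A) * μ) = 0) := by
  have hp := (Fact.out : p.Prime)
  have hunit : ∀ r, r < p → IsUnit ((r.factorial : ℕ) : A) := fun r hr =>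
    isUnit_of_dvd_unit (Nat.cast_dvd_cast (Nat.factorial_dvd_factorial (by omega))) hu
  rw [coeff_iff]
  constructor
  · intro h
    have key : ∀ r, (r.factorial : A) * F.coeff r = ∏ k ∈ Finset.range r, (F.coeff 1 - (k : A) * μ) := by
      intro r
      induction r with
      | zero => simp [h0]
      | succ r ih =>
        rw [Finset.prod_range_succ, ← ih, Nat.factorial_succ]
        push_cast
        linear_combination (r.factorial : A) * h r
    refine ⟨fun r _ _ => key r, ?_⟩
    rw [← key, Polynomial.coeff_eq_zero_of_natDegree_lt hF, mul_zero]
  · rintro ⟨h1, h2⟩ r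
    have key : ∀ s, s < p → (s.factorial : A) * F.coeff s =
        ∏ k ∈ Finset.range s, (F.coeff 1 - (k : A) * μ) := by
      intro s hs
      rcases Nat.eq_zero_or_pos s with rfl | hpos
      · simp [h0]
      · exact h1 s hpos hs
    rcases lt_trichotomy (r + 1) p with h | h | h
    · refine (hunit r (by omega)).mul_left_cancel ?_
      have e := key (r + 1) h
      rw [Finset.prod_range_succ, ← key r (by omega), Nat.factorial_succ] at e
      push_cast at e
      linear_combination e
    · refine (hunit r (by omega)).mul_left_cancel ?_
      rw [← h, Finset.prod_range_succ, ← key r (by omega)] at h2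
      rw [Polynomial.coeff_eq_zero_of_natDegree_lt (show F.natDegree < r + 1 by omega)]
      linear_combination -h2
    · rw [Polynomial.coeff_eq_zero_of_natDegree_lt (show F.natDegree < r by omega),
        Polynomial.coeff_eq_zero_of_natDegree_lt (show F.natDegree < r + 1 by omega), mul_zero,
        mul_zero]

end Groth.Agent.S13157
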