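import Groth.Statements.S13158
import Mathlib.RingTheory.IntegralClosure.IntegrallyClosed
import Mathlib.RingTheory.Flat.FaithfullyFlat.Algebra
import Mathlib.RingTheory.DiscreteValuationRing.Basic
import Mathlib.Data.Nat.Choose.Dvd

set_option autoImplicit false
universe u
open CAlg

namespace Groth.Agent.S13158
open Polynomial

/-- Descending one `p`-th power: integrally closed case. -/
theorem dvd_of_pow_dvd {A : Type*} [CommRing A] [IsDomain A] [IsIntegrallyClosed A] (p : ℕ) (hp : p.Prime)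
    (μ : A) (hμ : μ ≠ 0) (hdvd : μ ^ (p - 1) ∣ (p : A)) (z : A) (h : μ ^ p ∣ z ^ p - 1) : μ ∣ z - 1 := by
  obtain ⟨r, hr⟩ := hdvd
  obtain ⟨c, hc⟩ := h
  have hq : ∀ i ∈ Finset.Ico 1 p, ∃ e : A, μ ^ p * e = (p.choose i : A) * μ ^ i := by
    intro i hi
    rw [Finset.mem_Ico] at hi
    obtain ⟨q, hq⟩ := hp.dvd_choose_self (by omega) hi.2
    refine ⟨(q : A) * r * μ ^ (i - 1), ?_⟩
    rw [hq, Nat.cast_mul, hr]
    obtain ⟨j, rfl⟩ := Nat.exists_eq_add_of_le' hi.1
    obtain ⟨m, rfl⟩ := Nat.exists_eq_add_of_le' hp.pos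
    simp only [Nat.add_sub_cancel, pow_succ]
    ring
  choose! e he using hq
  let K := FractionRing A
  let φ := algebraMap A K
  have hφμ : φ μ ≠ 0 := fun h => hμ ((injective_iff_map_eq_zero _).1 (IsFractionRing.injective A K) _ h)
  let Q : A[X] := (∑ i ∈ Finset.Ico 1 p, C (e i) * X ^ i) - C c
  have hmon : (X ^ p + Q).Monic := by
    refine monic_X_pow_add (Polynomial.mem_degreeLT.1 (sub_mem (sum_mem fun i hi => ?_) ?_))
    · exact Polynomial.mem_degreeLT.2 ((degree_C_mul_X_pow_le i (e i)).trans_lt (Nat.cast_lt.2 (Finset.mem_Ico.1 hi).2))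
    · exact Polynomial.mem_degreeLT.2 (degree_C_le.trans_lt (Nat.cast_lt.2 hp.pos))
  have hexp : (z - 1) ^ p + ∑ i ∈ Finset.Ico 1 p, (p.choose i : A) * (z - 1) ^ i = z ^ p - 1 := by
    have h1 := add_pow (z - 1) 1 p
    rw [sub_add_cancel, Finset.sum_range_succ, Finset.range_eq_Ico, Finset.sum_eq_sum_Ico_succ_bot hp.pos] at h1
    simp only [one_pow, mul_one, pow_zero, Nat.choose_zero_right, Nat.cast_one, Nat.choose_self, one_mul] at h1
    rw [Finset.sum_congr rfl fun i _ => mul_comm ((p.choose i : A)) ((z - 1) ^ i), h1]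
    ring
  have hint : IsIntegral A (φ (z - 1) / φ μ) := by
    refine ⟨X ^ p + Q, hmon, ?_⟩
    have : (φ μ) ^ p * eval₂ φ (φ (z - 1) / φ μ) (X ^ p + Q) = 0 := by
      simp only [Q, eval₂_add, eval₂_sub, eval₂_finsetSum, eval₂_mul, eval₂_C, eval₂_pow, eval₂_X,
        mul_add, mul_sub, Finset.mul_sum]
      have h2 : ∀ i ∈ Finset.Ico 1 p, φ μ ^ p * (φ (e i) * (φ (z - 1) / φ μ) ^ i) = φ ((p.choose i : A) * (z - 1) ^ i) := by
        intro i hi
        rw [← mul_assoc, ← map_pow, ← map_mul, he i hi, map_mul, map_mul, map_pow, map_pow, mul_assoc, ← mul_pow, mul_div_cancel₀ _ hφμ]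
      rw [Finset.mul_sum, Finset.sum_congr rfl h2, ← mul_pow, mul_div_cancel₀ _ hφμ, ← map_pow, ← map_sum, ← map_pow, ← map_mul, ← hc,
        ← hexp, map_add]
      ring
    exact (mul_eq_zero.1 this).resolve_left (pow_ne_zero _ hφμ)
  obtain ⟨y, hy⟩ := IsIntegrallyClosed.algebraMap_eq_of_integral hint
  refine ⟨y, IsFractionRing.injective A K ?_⟩
  rw [map_mul, hy, mul_div_cancel₀ _ hφμ]

/-- Ascending one `p`-th power. -/
theorem pow_dvd_of_dvd {A : Type*} [CommRing A] (p : ℕ) (hp : p.Prime)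
    (μ : A) (hdvd : μ ^ (p - 1) ∣ (p : A)) (z : A) (h : μ ∣ z - 1) : μ ^ p ∣ z ^ p - 1 := by
  have hr := add_pow_prime_eq hp (z - 1) 1
  rw [sub_add_cancel, one_pow, mul_one] at hr
  rw [hr, add_right_comm, add_sub_cancel_right]
  refine dvd_add (pow_dvd_pow_of_dvd h p) (Dvd.dvd.mul_right ?_ _)
  rw [show μ ^ p = μ ^ (p - 1) * μ by rw [← pow_succ, Nat.sub_add_cancel hp.pos]]
  exact mul_dvd_mul hdvd h

/-- Let R be a discrete valuation ring of characteristic zero whose maximal ideal contains the prime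
number p, let n ≥ 1, and let λ be a nonzero element of R such that λ^(p^(n−1)(p−1)) divides p (the
condition v(p) ≥ p^(n−1)(p−1)·v(λ) under which the polynomial ((1 + λT)^(p^n) − 1)/λ^(p^n) has
coefficients in R). Let A be an integrally closed integral domain which is a faithfully flat
R-algebra. Then for every unit x of A, λ^(p^n) divides x^(p^n) − 1 in A if and only if λ divides x −
1 in A. -/
theorem result (R : Type u) [CommRing R]
    [IsDomain R] [IsDiscreteValuationRing R] [CharZero R] (p n : ℕ) [Fact p.Prime] (hn : 1 ≤ n)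
    (hp : (p : R) ∈ IsLocalRing.maximalIdeal R) (lam : R) (hlam : lam ≠ 0)
    (hstar : lam ^ (p ^ (n - 1) * (p - 1)) ∣ (p : R))
    (A : Type u) [CommRing A] [IsDomain A] [IsIntegrallyClosed A] [Algebra R A] [Module.FaithfullyFlat R A]
    (x : Aˣ) :
    (algebraMap R A lam ^ p ^ n ∣ (x : A) ^ p ^ n - 1) ↔ (algebraMap R A lam ∣ (x : A) - 1) := by
  have hpp := (Fact.out : p.Prime)
  let μ := algebraMap R A lam
  have hμ : μ ≠ 0 := fun h => hlam ((injective_iff_map_eq_zero _).1 (FaithfulSMul.algebraMap_injective R A) _ h)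
  have hdvd : ∀ k, k ≤ n - 1 → (μ ^ p ^ k) ^ (p - 1) ∣ (p : A) := by
    intro k hk
    rw [← pow_mul]
    refine (pow_dvd_pow _ (Nat.mul_le_mul_right (p - 1) (Nat.pow_le_pow_right hpp.pos hk))).trans ?_
    have := map_dvd (algebraMap R A) hstar
    rwa [map_pow, map_natCast] at this
  have key : ∀ k, k ≤ n → (μ ^ p ^ k ∣ (x : A) ^ p ^ k - 1 ↔ μ ∣ (x : A) - 1) := by
    intro k
    induction k with
    | zero => simp
    | succ k ih =>
      intro hk
      rw [← ih (by omega), pow_succ, pow_mul, pow_mul]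
      exact ⟨dvd_of_pow_dvd p hpp _ (pow_ne_zero _ hμ) (hdvd k (by omega)) _,
        pow_dvd_of_dvd p hpp _ (hdvd k (by omega)) _⟩
  exact key n le_rfl

end Groth.Agent.S13158
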