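import Groth.Statements.S13160
import Mathlib.RingTheory.WittVector.Frobenius
import Mathlib.RingTheory.IntegralClosure.IntegrallyClosed
import Mathlib.RingTheory.DiscreteValuationRing.Basic
import Mathlib.RingTheory.Polynomial.RationalRoot
import Mathlib.Algebra.MvPolynomial.Eval
import Mathlib.Algebra.DualNumber

set_option autoImplicit false
universe u
open CAlg

namespace Groth.Agent.S13160
open MvPolynomial

/-- Scaling the `j`-th components by `t ^ p ^ j` commutes with addition. -/
theorem scale_add {U : Type*} [CommRing U] {p : ℕ} [Fact p.Prime] [Invertible (p : U)] (t : U)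
    (x y : WittVector p U) :
    WittVector.mk p (fun j => t ^ p ^ j * x.coeff j) + WittVector.mk p (fun j => t ^ p ^ j * y.coeff j) =
      WittVector.mk p (fun j => t ^ p ^ j * (x + y).coeff j) := by
  have key : ∀ (z : WittVector p U) (n : ℕ), WittVector.ghostMap (WittVector.mk p (fun j => t ^ p ^ j * z.coeff j)) n =
      t ^ p ^ n * WittVector.ghostMap z n := by
    intro z n
    rw [WittVector.ghostMap_apply, WittVector.ghostMap_apply, WittVector.ghostComponent_apply, WittVector.ghostComponent_apply,
      aeval_wittPolynomial, aeval_wittPolynomial, Finset.mul_sum]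
    refine Finset.sum_congr rfl fun i hi => ?_
    simp only [WittVector.coeff_mk]
    rw [mul_pow, ← pow_mul, ← pow_add, Nat.add_sub_cancel' (Nat.lt_succ_iff.1 (Finset.mem_range.1 hi))]
    ring
  refine (WittVector.ghostMap.bijective_of_invertible p U).1 (funext fun n => ?_)
  rw [map_add, Pi.add_apply, key, key, key, map_add, Pi.add_apply, mul_add]

variable (p : ℕ) [hp : Fact p.Prime]

/-- The scaling identity, in terms of the addition polynomial. -/
theorem aeval_scale {U : Type*} [CommRing U] [Invertible (p : U)] (t : U) (y : Fin 2 × ℕ → U) (n : ℕ) :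
    aeval (fun v => t ^ p ^ v.2 * y v) (WittVector.wittAdd p n) = t ^ p ^ n * aeval y (WittVector.wittAdd p n) := by
  have h := congrArg (fun z => WittVector.coeff z n)
    (scale_add t (WittVector.mk p fun j => y (0, j)) (WittVector.mk p fun j => y (1, j)))
  simp only [WittVector.coeff_mk, WittVector.add_coeff, WittVector.peval] at h
  have e1 : Function.uncurry (![fun j => t ^ p ^ j * y (0, j), fun j => t ^ p ^ j * y (1, j)] : Fin 2 → ℕ → U) =
      fun v => t ^ p ^ v.2 * y v := by
    funext ⟨i, j⟩; fin_cases i <;> rfl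
  have e2 : Function.uncurry (![fun j => y (0, j), fun j => y (1, j)] : Fin 2 → ℕ → U) = y := by
    funext ⟨i, j⟩; fin_cases i <;> rfl
  rw [e1, e2] at h
  exact h

/-- The addition polynomials are homogeneous for the weight `p ^ j` on the `j`-th variables. -/
theorem wittAdd_weight (n : ℕ) (e : (Fin 2 × ℕ) →₀ ℕ) (he : coeff e (WittVector.wittAdd p n) ≠ 0) :
    (e.sum fun v a => a * p ^ v.2) = p ^ n := by
  classical
  let P := MvPolynomial (Fin 2 × ℕ) ℚ
  haveI : Invertible (p : Polynomial P) := ((isUnit_iff_ne_zero.2 (Nat.cast_ne_zero.2 hp.out.ne_zero : (p : ℚ) ≠ 0)).map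
    (algebraMap ℚ (Polynomial P))).invertible.copy _ (map_natCast _ p).symm
  let f : MvPolynomial (Fin 2 × ℕ) ℤ →ₐ[ℤ] Polynomial P := aeval fun v => Polynomial.X ^ p ^ v.2 * Polynomial.C (X v)
  let g : MvPolynomial (Fin 2 × ℕ) ℤ →ₐ[ℤ] Polynomial P := aeval fun v => Polynomial.C (X v : P)
  have h' : f (WittVector.wittAdd p n) = Polynomial.X ^ p ^ n * g (WittVector.wittAdd p n) :=
    aeval_scale p (Polynomial.X : Polynomial P) (fun v => Polynomial.C (X v)) n
  by_contra hne
  let w : ((Fin 2 × ℕ) →₀ ℕ) → ℕ := fun d => d.sum fun v a => a * p ^ v.2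
  have hg : g (WittVector.wittAdd p n) = Polynomial.C (map (Int.castRingHom ℚ) (WittVector.wittAdd p n)) := by
    have : g.toRingHom = (Polynomial.C).comp (map (Int.castRingHom ℚ)) :=
      MvPolynomial.ringHom_ext (fun c => by simp) (fun v => by simp [g])
    exact RingHom.congr_fun this _
  have hf : f (WittVector.wittAdd p n) = ∑ d ∈ (WittVector.wittAdd p n).support,
      Polynomial.monomial (w d) (monomial d ((coeff d (WittVector.wittAdd p n) : ℤ) : ℚ)) := by
    conv_lhs => rw [(WittVector.wittAdd p n).as_sum]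
    rw [map_sum]
    refine Finset.sum_congr rfl fun d _ => ?_
    rw [aeval_monomial, Finsupp.prod, ← Polynomial.C_mul_X_pow_eq_monomial]
    simp only [mul_pow, ← pow_mul, Finset.prod_mul_distrib, Finset.prod_pow_eq_pow_sum, ← map_pow, ← map_prod]
    rw [show monomial d ((coeff d (WittVector.wittAdd p n) : ℤ) : ℚ) = C ((coeff d (WittVector.wittAdd p n) : ℤ) : ℚ) * ∏ v ∈ d.support, X v ^ d v by
      rw [monomial_eq]; rfl, map_mul, map_intCast, map_intCast]
    simp only [w, Finsupp.sum, mul_comm (d _)]
    rw [eq_intCast]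
    ring
  rw [hf, hg] at h'
  have h2 := congrArg (fun q => coeff e (Polynomial.coeff q (w e))) h'
  simp only [Polynomial.finsetSum_coeff, Polynomial.coeff_monomial, coeff_sum, apply_ite (coeff e), coeff_monomial, coeff_zero] at h2
  rw [Finset.sum_eq_single e (fun d _ hde => by simp [hde]) (fun h => absurd (mem_support_iff.2 he) h), if_pos rfl, if_pos rfl,
    mul_comm, Polynomial.coeff_C_mul_X_pow, if_neg hne] at h2
  exact he (by simpa using h2)

/-- A monomial of weight `p ^ n` is either a single variable of level `n` or has degree at least `p`. -/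
theorem degree_or_single (n : ℕ) (e : (Fin 2 × ℕ) →₀ ℕ) (he : (e.sum fun v a => a * p ^ v.2) = p ^ n) :
    (∃ i, e = Finsupp.single (i, n) 1) ∨ p ≤ e.sum fun _ a => a := by
  classical
  have h2 := hp.out.two_le
  have hle : ∀ v ∈ e.support, e v * p ^ v.2 ≤ p ^ n := fun v hv =>
    (Finset.single_le_sum (f := fun v => e v * p ^ v.2) (fun _ _ => Nat.zero_le _) hv).trans he.le
  have hj : ∀ v ∈ e.support, v.2 ≤ n := fun v hv => (Nat.pow_le_pow_iff_right h2).1
    ((Nat.le_mul_of_pos_left _ (Nat.pos_of_ne_zero (Finsupp.mem_support_iff.1 hv))).trans (hle v hv))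
  by_cases h : ∃ v ∈ e.support, v.2 = n
  · obtain ⟨⟨i, j⟩, hv, rfl⟩ := h
    left
    refine ⟨i, ?_⟩
    have hpos : 0 < p ^ j := pow_pos hp.out.pos j
    have h1 : e (i, j) = 1 := by
      have := hle _ hv
      have h0 := Finsupp.mem_support_iff.1 hv
      have h1 : e (i, j) * p ^ j ≤ 1 * p ^ j := by rw [one_mul]; exact this
      have := Nat.le_of_mul_le_mul_right h1 hpos
      omega
    ext v
    rw [Finsupp.single_apply]
    split_ifs with hvv
    · rw [← hvv, h1]
    · by_contra hne
      have h3 : ∑ u ∈ ({(i, j), v} : Finset _), e u * p ^ u.2 ≤ p ^ j :=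
        (Finset.sum_le_sum_of_subset (by
          intro u hu
          simp only [Finset.mem_insert, Finset.mem_singleton] at hu
          rcases hu with rfl | rfl
          · exact hv
          · exact Finsupp.mem_support_iff.2 hne)).trans he.le
      rw [Finset.sum_pair hvv, h1, one_mul] at h3
      have : 0 < e v * p ^ v.2 := Nat.mul_pos (Nat.pos_of_ne_zero hne) (pow_pos hp.out.pos _)
      dsimp at h3
      omega
  · right
    push Not at h
    cases n with
    | zero =>
      have : e.support = ∅ := Finset.eq_empty_of_forall_notMem fun v hv => h v hv (Nat.le_zero.1 (hj v hv))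
      simp [Finsupp.sum, this] at he
    | succ n =>
      have : p ^ (n + 1) ≤ (e.sum fun _ a => a) * p ^ n := by
        rw [← he, Finsupp.sum, Finsupp.sum, Finset.sum_mul]
        exact Finset.sum_le_sum fun v hv => Nat.mul_le_mul_left _ (Nat.pow_le_pow_right hp.out.pos
          (Nat.le_of_lt_succ (lt_of_le_of_ne (hj v hv) (h v hv))))
      rw [pow_succ'] at this
      exact Nat.le_of_mul_le_mul_right this (pow_pos hp.out.pos n)

/-- Addition is componentwise on vectors whose components have vanishing `p`-fold products. -/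
theorem coeff_add_of_nil {S : Type*} [CommRing S] (n : ℕ) (a b : WittVector p S)
    (hz : ∀ e : (Fin 2 × ℕ) →₀ ℕ, p ≤ (e.sum fun _ k => k) →
      (e.prod fun v k => ![a.coeff, b.coeff] v.1 v.2 ^ k) = 0) :
    (a + b).coeff n = ((coeff (Finsupp.single ((0 : Fin 2), n) 1) (WittVector.wittAdd p n) : ℤ) : S) * a.coeff n +
      ((coeff (Finsupp.single ((1 : Fin 2), n) 1) (WittVector.wittAdd p n) : ℤ) : S) * b.coeff n := by
  classical
  rw [WittVector.add_coeff, WittVector.peval]
  conv_lhs => rw [(WittVector.wittAdd p n).as_sum, map_sum]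
  rw [Finset.sum_subset (Finset.subset_union_left (s₂ := {Finsupp.single (0, n) 1, Finsupp.single (1, n) 1}))
    (fun d _ hd => by rw [notMem_support_iff.1 hd, monomial_zero, map_zero]),
    ← Finset.sum_subset (Finset.subset_union_right (s₁ := (WittVector.wittAdd p n).support))]
  · rw [Finset.sum_pair (by simp [Finsupp.single_eq_single_iff])]
    simp [aeval_monomial, Finsupp.prod_single_index]
  · intro d hd hd'
    by_cases hc : coeff d (WittVector.wittAdd p n) = 0
    · rw [hc, monomial_zero, map_zero]
    rcases degree_or_single p n d (wittAdd_weight p n d hc) with ⟨i, rfl⟩ | hdeg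
    · exact absurd (by fin_cases i <;> simp) hd'
    · rw [aeval_monomial]
      exact mul_eq_zero_of_right _ (hz d hdeg)

/-- The linear coefficients of the addition polynomial are `1`. -/
theorem linear_coeff (n : ℕ) (i : Fin 2) : coeff (Finsupp.single (i, n) 1) (WittVector.wittAdd p n) = 1 := by
  classical
  let ε : DualNumber ℤ := DualNumber.eps
  let a : WittVector p (DualNumber ℤ) := WittVector.mk p fun j => if j = n then ε else 0
  have hz : ∀ (x y : WittVector p (DualNumber ℤ)), (∀ j, x.coeff j = 0 ∨ x.coeff j = ε) → (∀ j, y.coeff j = 0 ∨ y.coeff j = ε) →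
      ∀ e : (Fin 2 × ℕ) →₀ ℕ, p ≤ (e.sum fun _ k => k) → (e.prod fun v k => ![x.coeff, y.coeff] v.1 v.2 ^ k) = 0 := by
    intro x y hx hy e he
    have hd : ∀ v : Fin 2 × ℕ, ε ∣ ![x.coeff, y.coeff] v.1 v.2 := by
      rintro ⟨k, j⟩
      fin_cases k
      · rcases hx j with h | h <;> simp [h]
      · rcases hy j with h | h <;> simp [h]
    have : ε ^ (e.sum fun _ k => k) ∣ e.prod fun v k => ![x.coeff, y.coeff] v.1 v.2 ^ k := by
      rw [Finsupp.sum, Finsupp.prod, ← Finset.prod_pow_eq_pow_sum]
      exact Finset.prod_dvd_prod_of_dvd _ _ fun v _ => pow_dvd_pow_of_dvd (hd v) _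
    have hε : ε ^ (e.sum fun _ k => k) = 0 :=
      pow_eq_zero_of_le (hp.out.two_le.trans he) (by rw [sq, DualNumber.eps_mul_eps])
    rw [hε] at this
    exact zero_dvd_iff.1 this
  have ha : ∀ j, a.coeff j = 0 ∨ a.coeff j = ε := fun j => by
    simp only [a, WittVector.coeff_mk]; split_ifs <;> simp
  have h0 : ∀ j, (0 : WittVector p (DualNumber ℤ)).coeff j = 0 ∨ (0 : WittVector p (DualNumber ℤ)).coeff j = ε :=
    fun j => Or.inl (WittVector.zero_coeff p _ j)
  fin_cases i
  · have h := coeff_add_of_nil p n a 0 (hz a 0 ha h0)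
    rw [add_zero, WittVector.zero_coeff, mul_zero, add_zero] at h
    simp [a, ε, WittVector.coeff_mk] at h
    have := congrArg TrivSqZeroExt.snd h
    simp at this
    exact this.symm
  · have h := coeff_add_of_nil p n 0 a (hz 0 a h0 ha)
    rw [zero_add, WittVector.zero_coeff, mul_zero, zero_add] at h
    simp [a, ε, WittVector.coeff_mk] at h
    have := congrArg TrivSqZeroExt.snd h
    simp at this
    exact this.symm

/-- Let R be a discrete valuation ring, p a prime number and λ an element of R dividing p (so that R/λR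
is an 𝔽_p-algebra), and let a and b be p-typical Witt vectors with coefficients in R/λR which are
killed by the Frobenius endomorphism. Then the Witt sum a + b has components a_n + b_n for every n.
(The published statement allows an arbitrary λ ∈ R and is stated for Witt vectors with finitely many
nonzero components; this row assumes that λ divides p, so that p = 0 in R/λR, and allows all Witt
vectors.) -/
theorem result (R : Type u) [CommRing R] [IsDomain R]
    [IsDiscreteValuationRing R] (p : ℕ) [Fact p.Prime] (lam : R) (hlam : lam ∣ (p : R))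
    (a b : WittVector p (R ⧸ Ideal.span {lam})) (ha : WittVector.frobenius a = 0)
    (hb : WittVector.frobenius b = 0) (n : ℕ) : (a + b).coeff n = a.coeff n + b.coeff n := by
  classical
  rcases subsingleton_or_nontrivial (R ⧸ Ideal.span {lam}) with hs | hs
  · exact Subsingleton.elim _ _
  have hp0 : ((p : ℕ) : R ⧸ Ideal.span {lam}) = 0 := by
    rw [← map_natCast (Ideal.Quotient.mk _), Ideal.Quotient.eq_zero_iff_mem, Ideal.mem_span_singleton]
    exact hlam
  haveI : CharP (R ⧸ Ideal.span {lam}) p := (CharP.charP_iff_prime_eq_zero (Fact.out : p.Prime)).2 hp0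
  have hz : ∀ (x : WittVector p (R ⧸ Ideal.span {lam})), WittVector.frobenius x = 0 → ∀ j, x.coeff j ^ p = 0 := by
    intro x hx j
    rw [← WittVector.coeff_frobenius_charP, hx, WittVector.zero_coeff]
  rw [coeff_add_of_nil p n a b, linear_coeff, linear_coeff, Int.cast_one, one_mul, one_mul]
  intro e he
  have hall : ∀ v : Fin 2 × ℕ, ∃ r : R, Ideal.Quotient.mk _ r = ![a.coeff, b.coeff] v.1 v.2 ∧ lam ∣ r ^ p := by
    intro v
    obtain ⟨r, hr⟩ := Ideal.Quotient.mk_surjective (![a.coeff, b.coeff] v.1 v.2)
    refine ⟨r, hr, Ideal.mem_span_singleton.1 (Ideal.Quotient.eq_zero_iff_mem.1 ?_)⟩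
    rw [map_pow, hr]
    obtain ⟨k, j⟩ := v
    fin_cases k
    · exact hz a ha j
    · exact hz b hb j
  choose r hr hd using hall
  have h1 : lam ^ p ∣ (e.prod fun v k => r v ^ k) ^ p := by
    refine (pow_dvd_pow lam he).trans ?_
    rw [Finsupp.prod, Finsupp.sum, ← Finset.prod_pow, ← Finset.prod_pow_eq_pow_sum]
    exact Finset.prod_dvd_prod_of_dvd _ _ fun v _ => by
      rw [← pow_mul, mul_comm, pow_mul]
      exact pow_dvd_pow_of_dvd (hd v) _
  have h2 : lam ∣ e.prod fun v k => r v ^ k :=
    (_root_.IsIntegrallyClosed.pow_dvd_pow_iff (Fact.out : p.Prime).ne_zero).1 h1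
  have h3 := Ideal.Quotient.eq_zero_iff_mem.2 (Ideal.mem_span_singleton.2 h2)
  rw [map_finsuppProd] at h3
  simpa [map_pow, hr] using h3

end Groth.Agent.S13160
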