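import Groth.Statements.S13161
import Mathlib.RingTheory.DiscreteValuationRing.Basic
import Mathlib.RingTheory.Localization.Integer
import Mathlib.RingTheory.Flat.Basic
import Mathlib.RingTheory.Finiteness.Basic

set_option autoImplicit false
universe u
open scoped TensorProduct
open CAlg

namespace Groth.Agent.S13161
open TensorProduct

/-- Let R be a discrete valuation ring with fraction field K, A an R-algebra which is semireflexive as
an R-module (the map to its double dual is injective: every nonzero a ∈ A has an R-linear form f : A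
→ R with f(a) ≠ 0), and B an A-algebra which is finitely generated as an A-module and flat over R.
Suppose B ⊗ K is semireflexive as a module over A ⊗ K, which for such B amounts to: every nonzero b
∈ B has an A-linear map g : B → A ⊗_R K with g(b) ≠ 0. Then B is semireflexive as an R-module: every
nonzero b ∈ B has an R-linear form h : B → R with h(b) ≠ 0. (The published statement phrases the
hypothesis on B_K as an A_K-module; for B flat over R and finite over A this is the elementwise
condition used here.) -/
theorem result (R : Type u) [CommRing R] [IsDomain R]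
    [IsDiscreteValuationRing R] (K : Type u) [Field K] [Algebra R K] [IsFractionRing R K]
    (A B : Type u) [CommRing A] [CommRing B] [Algebra R A] [Algebra R B] [Algebra A B] [IsScalarTower R A B]
    [Module.Finite A B] [Module.Flat R B]
    (hA : ∀ a : A, a ≠ 0 → ∃ f : A →ₗ[R] R, f a ≠ 0)
    (hBK : ∀ b : B, b ≠ 0 → ∃ g : B →ₗ[A] A ⊗[R] K, g b ≠ 0) :
    ∀ b : B, b ≠ 0 → ∃ h : B →ₗ[R] R, h b ≠ 0 := by
  classical
  intro b hb
  obtain ⟨g, hg⟩ := hBK b hb
  let ι : A →ₗ[R] A ⊗[R] K := (TensorProduct.mk R A K).flip 1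
  have hι : Function.Injective ι := by
    rw [injective_iff_map_eq_zero]
    intro a ha
    by_contra h0
    obtain ⟨f, hf⟩ := hA a h0
    have := congrArg (TensorProduct.lid R K ∘ₗ f.rTensor K : A ⊗[R] K →ₗ[R] K) ha
    simp [ι] at this
    exact hf ((injective_iff_map_eq_zero _).1 (IsFractionRing.injective R K) _ (by simpa [Algebra.smul_def] using this))
  -- clearing denominators
  have hclear : ∀ t : A ⊗[R] K, ∃ d : R, d ≠ 0 ∧ d • t ∈ LinearMap.range ι := by
    intro t
    induction t with
    | zero => exact ⟨1, one_ne_zero, by simp⟩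
    | tmul a z =>
      obtain ⟨⟨r, s⟩, hrs⟩ := IsLocalization.surj (nonZeroDivisors R) z
      refine ⟨s, nonZeroDivisors.coe_ne_zero s, r • a, ?_⟩
      show (r • a) ⊗ₜ[R] (1 : K) = (s : R) • (a ⊗ₜ[R] z)
      rw [TensorProduct.smul_tmul, TensorProduct.smul_tmul', TensorProduct.smul_tmul]
      congr 1
      rw [Algebra.smul_def, mul_one, Algebra.smul_def, mul_comm]
      exact hrs.symm
    | add u v hu hv =>
      obtain ⟨d, hd, hdu⟩ := hu
      obtain ⟨e, he, hev⟩ := hv
      refine ⟨d * e, mul_ne_zero hd he, ?_⟩
      rw [smul_add]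
      exact add_mem (by rw [mul_comm, mul_smul]; exact Submodule.smul_mem _ e hdu) (by rw [mul_smul]; exact Submodule.smul_mem _ d hev)
  obtain ⟨r, s, hs⟩ := Submodule.fg_iff_exists_fin_generating_family.1 (Module.Finite.fg_top (R := A) (M := B))
  choose d hd hds using fun i => hclear (g (s i))
  let D := ∏ i, d i
  have hD : D ≠ 0 := Finset.prod_ne_zero_iff.2 fun i _ => hd i
  have hrange : ∀ z : B, D • g z ∈ LinearMap.range ι := by
    intro z
    obtain ⟨c, rfl⟩ := (Submodule.mem_span_range_iff_exists_fun A).1 (hs.ge (Submodule.mem_top (x := z)))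
    rw [map_sum, Finset.smul_sum]
    refine sum_mem fun i _ => ?_
    obtain ⟨a, ha⟩ := hds i
    rw [map_smul, smul_comm, show D = (∏ j ∈ Finset.univ.erase i, d j) * d i from (Finset.prod_erase_mul _ _ (Finset.mem_univ i)).symm,
      mul_smul, ← ha, ← map_smul]
    refine ⟨c i * ((∏ j ∈ Finset.univ.erase i, d j) • a), ?_⟩
    show (c i * _) ⊗ₜ[R] (1 : K) = c i • (((∏ j ∈ Finset.univ.erase i, d j) • a) ⊗ₜ[R] (1 : K))
    rw [TensorProduct.smul_tmul', smul_eq_mul]
  let e := LinearEquiv.ofInjective ι hι
  let h : B →ₗ[R] A := e.symm.toLinearMap.comp ((D • (g.restrictScalars R)).codRestrict (LinearMap.range ι) hrange)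
  have hh : h b ≠ 0 := by
    intro h0
    have h1 : D • g b = 0 := congrArg Subtype.val (e.symm.map_eq_zero_iff.1 h0)
    have hu : IsUnit (algebraMap R K D) := isUnit_iff_ne_zero.2 fun e => hD ((injective_iff_map_eq_zero _).1 (IsFractionRing.injective R K) _ e)
    refine hg ?_
    have hsm : ∀ t : A ⊗[R] K, D • t = (LinearMap.mulLeft R (algebraMap R K D)).lTensor A t := by
      intro t
      induction t with
      | zero => simp
      | tmul a z => rw [LinearMap.lTensor_tmul, LinearMap.mulLeft_apply, ← Algebra.smul_def, TensorProduct.tmul_smul]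
      | add u v hu hv => rw [smul_add, map_add, hu, hv]
    rw [hsm] at h1
    have hinv : (LinearMap.mulLeft R (hu.unit⁻¹ : Kˣ).1) ∘ₗ LinearMap.mulLeft R (algebraMap R K D) = LinearMap.id := by
      ext z
      simp [← mul_assoc]
      rw [inv_mul_cancel₀ hu.ne_zero, one_mul]
    have := congrArg ((LinearMap.mulLeft R (hu.unit⁻¹ : Kˣ).1).lTensor A) h1
    rw [map_zero, ← LinearMap.comp_apply, ← LinearMap.lTensor_comp, hinv, LinearMap.lTensor_id] at this
    exact this
  obtain ⟨f, hf⟩ := hA _ hh
  exact ⟨f.comp h, hf⟩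

end Groth.Agent.S13161
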