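import Groth.Statements.S13163
import Groth.Agent.ZeroCycLib.Small
-- import your own Groth.Agent.* helpers here

set_option autoImplicit false
universe u
open ZeroCyc

namespace Groth.Agent.S13163

open Polynomial in
/-- Let P_d(T) = ∏_{0 ≤ i < j ≤ d} (T^i − T^j) − 1 ∈ ℤ[T]. Every residue field of ℤ[T]/(P_d), i.e. every
field receiving a ring homomorphism from it, has at least d + 1 elements. -/
theorem result (d : ℕ) (k : Type u) [Field k]
    (φ : (ℤ[X] ⧸ Ideal.span {(∏ j ∈ Finset.range (d + 1), ∏ i ∈ Finset.range j,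
        ((X : ℤ[X]) ^ i - X ^ j)) - 1}) →+* k) :
    ((d + 1 : ℕ) : Cardinal) ≤ Cardinal.mk k := by
  set t : k := φ (Ideal.Quotient.mk _ Polynomial.X) with ht
  have h1 : (∏ j ∈ Finset.range (d + 1), ∏ i ∈ Finset.range j, (t ^ i - t ^ j)) = 1 := by
    have h := congrArg φ (Ideal.Quotient.eq.mpr (Ideal.subset_span (Set.mem_singleton
      ((∏ j ∈ Finset.range (d + 1), ∏ i ∈ Finset.range j,
        ((Polynomial.X : Polynomial ℤ) ^ i - Polynomial.X ^ j)) - 1))))
    simpa only [map_prod, map_sub, map_pow, map_one] using h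
  have key : ∀ i j : ℕ, i < j → j ≤ d → t ^ i ≠ t ^ j := fun i j hij hjd h => by
    apply zero_ne_one (α := k)
    rw [← h1]
    symm
    exact Finset.prod_eq_zero (Finset.mem_range.mpr (by omega : j < d + 1))
      (Finset.prod_eq_zero (Finset.mem_range.mpr hij) (sub_eq_zero.mpr h))
  have hinj : Function.Injective (fun i : ULift.{u} (Fin (d + 1)) => t ^ (i.down : ℕ)) := by
    rintro ⟨i⟩ ⟨j⟩ h
    rcases lt_trichotomy (i : ℕ) j with hl | hl | hl
    · exact absurd h (key _ _ hl (by omega))
    · rw [Fin.ext hl]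
    · exact absurd h.symm (key _ _ hl (by omega))
  simpa using Cardinal.mk_le_of_injective hinj

end Groth.Agent.S13163
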