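import Groth.Statements.S13164
import Groth.Agent.ZeroCycLib.Small
-- import your own Groth.Agent.* helpers here

set_option autoImplicit false
universe u
open ZeroCyc

namespace Groth.Agent.S13164

/-- Let B be a graded R-algebra generated by homogeneous elements f_1, …, f_s of positive degrees d_1,
…, d_s and let l be the least common multiple of the d_i. Then B_{n+l} = B_n B_l for every n ≥ (s −
1)(l − 1). -/
theorem result {R A : Type u} [CommRing R] [CommRing A] [Algebra R A] (𝒜 : ℕ → Submodule R A) [GradedAlgebra 𝒜]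
    {s : ℕ} (f : Fin s → A) (deg : Fin s → ℕ) (hdeg : ∀ i, 0 < deg i) (hf : ∀ i, f i ∈ 𝒜 (deg i))
    (hgen : Algebra.adjoin R (Set.range f) = ⊤) (n : ℕ)
    (hn : (s - 1) * (Finset.univ.lcm deg - 1) ≤ n) :
    𝒜 (n + Finset.univ.lcm deg) = 𝒜 n * 𝒜 (Finset.univ.lcm deg) := by
  exact Groth.Agent.ZeroCycLib.le_mul_lcm 𝒜 f deg hdeg hf hgen n hn

end Groth.Agent.S13164
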