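import Groth.Statements.S13166
import Groth.Agent.ZeroCycLib.Small
-- import your own Groth.Agent.* helpers here

set_option autoImplicit false
universe u
open ZeroCyc

namespace Groth.Agent.S13166

/-- Let k be a field, B a k-algebra generated as an algebra by a k-subspace V, k'/k a field extension
and x_1, …, x_d pairwise distinct k'-points of B ⊗_k k' (equivalently, distinct k-algebra
homomorphisms B → k'). If k has at least d(d − 1)/2 elements, then there is b ∈ V whose values at
x_1, …, x_d are pairwise distinct. -/
theorem result {k : Type u} [Field k] {B : Type u} [CommRing B] [Algebra k B] (V : Submodule k B)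
    (hV : Algebra.adjoin k (V : Set B) = ⊤) {k' : Type u} [Field k'] [Algebra k k']
    {d : ℕ} (x : Fin d → (B →ₐ[k] k')) (hx : Function.Injective x)
    (hk : ((d.choose 2 : ℕ) : Cardinal) ≤ Cardinal.mk k) :
    ∃ b ∈ V, Function.Injective fun i => x i b := by
  classical
  let W : Finset (Fin d) → Submodule k V := fun S =>
    { carrier := {v | ∀ i ∈ S, ∀ j ∈ S, x i v = x j v}
      add_mem' := fun {a b} ha hb i hi j hj => by simp [ha i hi j hj, hb i hi j hj]
      zero_mem' := fun i _ j _ => by simp
      smul_mem' := fun c {a} ha i hi j hj => by simp [ha i hi j hj] }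
  obtain ⟨v, hv⟩ := Groth.Agent.ZeroCycLib.exists_forall_notMem_of_card_le
    (Finset.powersetCard 2 (Finset.univ : Finset (Fin d))) W
    (fun S hS htop => by
      obtain ⟨-, hcard⟩ := Finset.mem_powersetCard.mp hS
      obtain ⟨i, j, hne, rfl⟩ := Finset.card_eq_two.mp hcard
      refine hne (hx (AlgHom.ext_of_adjoin_eq_top hV fun b hb => ?_))
      have : (⟨b, hb⟩ : V) ∈ W {i, j} := by rw [htop]; trivial
      exact this i (by simp) j (by simp))
    (by simpa using hk)
  refine ⟨v, v.2, fun i j h => by_contra fun hne => hv {i, j} ?_ ?_⟩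
  · exact Finset.mem_powersetCard.mpr ⟨Finset.subset_univ _, Finset.card_pair hne⟩
  · intro a ha b hb
    simp only [Finset.mem_insert, Finset.mem_singleton] at ha hb
    simp only at h
    rcases ha with rfl | rfl <;> rcases hb with rfl | rfl <;> simp [h]

end Groth.Agent.S13166
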