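import Groth.Statements.S13167
import Mathlib.RingTheory.LocalRing.ResidueField.Ideal
-- import your own Groth.Agent.* helpers here

set_option autoImplicit false
universe u
open AlgebraicGeometry
open ZeroCyc

namespace Groth.Agent.S13167

/-- Let B be a graded R-algebra generated by its degree-one part B_1, with B_1 a finitely generated
R-module, and let x_1, …, x_d be points of X = Proj B lying over one and the same prime p of R. If
the residue field of p has at least d elements, then some f ∈ B_1 ⊆ Γ(X, O_X(1)) has all the x_i in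
D_+(f). (Without the hypothesis on the residue field such an f exists in some B_n with n ≥ 1; that
first assertion is a known property of ample sheaves and is not restated here.) -/
theorem result {R A : Type u} [CommRing R] [CommRing A] [Algebra R A] (𝒜 : ℕ → Submodule R A) [GradedAlgebra 𝒜]
    (hgen : Algebra.adjoin R (𝒜 1 : Set A) = ⊤) (hfg : (𝒜 1).FG)
    (p : Ideal R) [p.IsPrime] {d : ℕ} (x : Fin d → Proj 𝒜)
    (hx : ∀ i, ((x i).asHomogeneousIdeal.toIdeal).comap (algebraMap R A) = p)
    (hcard : (d : Cardinal) ≤ Cardinal.mk p.ResidueField) :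
    ∃ g ∈ 𝒜 1, ∀ i, x i ∈ Proj.basicOpen 𝒜 g := by
  classical
  have hne : ∀ i, ∃ h ∈ 𝒜 1, h ∉ (x i).asHomogeneousIdeal := by
    intro i
    by_contra! h
    apply (x i).not_irrelevant_le
    intro b hb
    rw [HomogeneousIdeal.mem_irrelevant_iff, GradedRing.proj_apply] at hb
    have key : ∀ c ∈ Algebra.adjoin R (𝒜 1 : Set A), ∃ r : R, c - algebraMap R A r ∈ (x i).asHomogeneousIdeal.toIdeal := by
      intro c hc
      induction hc using Algebra.adjoin_induction with
      | mem c hc => exact ⟨0, by simpa using h c hc⟩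
      | algebraMap r => exact ⟨r, by simp⟩
      | add c d _ _ hc hd =>
        obtain ⟨r, hr⟩ := hc
        obtain ⟨t, ht⟩ := hd
        refine ⟨r + t, ?_⟩
        have := add_mem hr ht
        rw [map_add]
        convert this using 1
        ring
      | mul c d _ _ hc hd =>
        obtain ⟨r, hr⟩ := hc
        obtain ⟨t, ht⟩ := hd
        refine ⟨r * t, ?_⟩
        have := add_mem (Ideal.mul_mem_right d _ hr) (Ideal.mul_mem_left _ (algebraMap R A r) ht)
        rw [map_mul]
        convert this using 1
        ring
    obtain ⟨r, hr⟩ := key b (by rw [hgen]; trivial)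
    have h0 := (x i).asHomogeneousIdeal.isHomogeneous 0 hr
    have hr0 : algebraMap R A r ∈ 𝒜 0 := SetLike.algebraMap_mem_graded 𝒜 r
    rw [DirectSum.decompose_sub, DirectSum.sub_apply, AddSubgroupClass.coe_sub, hb,
      DirectSum.decompose_of_mem_same 𝒜 hr0, zero_sub, neg_mem_iff] at h0
    have := add_mem hr h0
    rwa [sub_add_cancel] at this
  have hp : ∀ i (c : R), algebraMap R A c ∈ (x i).asHomogeneousIdeal.toIdeal → c ∈ p := fun i c hc => hx i ▸ hc
  suffices h : ∀ T : Finset (Fin d), ∃ g ∈ 𝒜 1, ∀ i ∈ T, g ∉ (x i).asHomogeneousIdeal.toIdeal by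
    obtain ⟨g, hg, hgT⟩ := h Finset.univ
    exact ⟨g, hg, fun i => hgT i (Finset.mem_univ i)⟩
  intro T
  induction T using Finset.induction_on with
  | empty => exact ⟨0, zero_mem _, by simp⟩
  | insert i T hiT ih =>
    obtain ⟨g, hg, hgT⟩ := ih
    obtain ⟨h, hh, hhi⟩ := hne i
    by_cases hgi : g ∈ (x i).asHomogeneousIdeal.toIdeal
    swap
    · exact ⟨g, hg, Finset.forall_mem_insert _ _ _ |>.mpr ⟨hgi, hgT⟩⟩
    by_cases hhT : ∀ j ∈ T, h ∉ (x j).asHomogeneousIdeal.toIdeal
    · exact ⟨h, hh, Finset.forall_mem_insert _ _ _ |>.mpr ⟨hhi, hhT⟩⟩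
    push Not at hhT
    obtain ⟨j0, hj0, hhj0⟩ := hhT
    have hsurj : ∀ l : p.ResidueField, ∃ a b : R, b ∉ p ∧
        algebraMap R p.ResidueField b * l = algebraMap R p.ResidueField a := by
      intro l
      obtain ⟨a, b, hb, rfl⟩ := IsFractionRing.div_surjective (A := R ⧸ p) l
      obtain ⟨a, rfl⟩ := Ideal.Quotient.mk_surjective a
      obtain ⟨b, rfl⟩ := Ideal.Quotient.mk_surjective b
      have hb' : Ideal.Quotient.mk p b ≠ 0 := nonZeroDivisors.ne_zero hb
      refine ⟨a, b, fun h => hb' (Ideal.Quotient.eq_zero_iff_mem.mpr h), ?_⟩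
      rw [IsScalarTower.algebraMap_apply R (R ⧸ p) p.ResidueField, IsScalarTower.algebraMap_apply R (R ⧸ p) p.ResidueField a,
        Ideal.Quotient.algebraMap_eq]
      exact mul_div_cancel₀ _ (IsFractionRing.to_map_ne_zero_of_mem_nonZeroDivisors hb)
    choose a b hb hab using hsurj
    let v : p.ResidueField → A := fun l => algebraMap R A (b l) * g + algebraMap R A (a l) * h
    have hv : ∀ l, v l ∈ 𝒜 1 := fun l => by
      simp only [v, ← Algebra.smul_def]
      exact add_mem (Submodule.smul_mem _ _ hg) (Submodule.smul_mem _ _ hh)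
    by_contra! hbad
    choose J hJ hJv using fun l => hbad (v l) (hv l)
    have hJ0 : ∀ l, J l ∈ (insert i T).erase j0 := fun l => by
      refine Finset.mem_erase.mpr ⟨fun he => ?_, hJ l⟩
      have h1 := he ▸ hJv l
      have h2 : algebraMap R A (b l) * g ∈ (x j0).asHomogeneousIdeal.toIdeal :=
        (Ideal.add_mem_iff_left _ (Ideal.mul_mem_left _ _ hhj0)).mp h1
      rcases (x j0).isPrime.mem_or_mem h2 with h3 | h3
      · exact hb l (hp j0 _ h3)
      · exact hgT j0 hj0 h3
    have hinj : Function.Injective fun l => (⟨J l, hJ0 l⟩ : {j // j ∈ (insert i T).erase j0}) := by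
      intro l m hlm
      have he : J l = J m := congrArg Subtype.val hlm
      set P := (x (J l)).asHomogeneousIdeal.toIdeal
      have h1 : v l ∈ P := hJv l
      have h2 : v m ∈ P := by have := hJv m; rwa [← he] at this
      have hd : b m * a l - b l * a m ∈ p := by
        by_contra hd
        have e1 : algebraMap R A (b m * a l - b l * a m) * h ∈ P := by
          have := P.sub_mem (P.mul_mem_left (algebraMap R A (b m)) h1) (P.mul_mem_left (algebraMap R A (b l)) h2)
          convert this using 1
          simp only [v, map_sub, map_mul]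
          ring
        have e2 : algebraMap R A (b m * a l - b l * a m) * g ∈ P := by
          have := P.sub_mem (P.mul_mem_left (algebraMap R A (a l)) h2) (P.mul_mem_left (algebraMap R A (a m)) h1)
          convert this using 1
          simp only [v, map_sub, map_mul]
          ring
        have hh' := ((x (J l)).isPrime.mem_or_mem e1).resolve_left fun h => hd (hp _ _ h)
        have hg' := ((x (J l)).isPrime.mem_or_mem e2).resolve_left fun h => hd (hp _ _ h)
        rcases Finset.mem_insert.mp (hJ l) with hi | hi
        · exact hhi (hi ▸ hh')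
        · exact hgT _ hi hg'
      have hne' : ∀ r, r ∉ p → algebraMap R p.ResidueField r ≠ 0 := fun r hr h =>
        hr (Ideal.algebraMap_residueField_eq_zero.mp h)
      have h0 := Ideal.algebraMap_residueField_eq_zero.mpr hd
      rw [map_sub, map_mul, map_mul, ← hab l, ← hab m] at h0
      refine mul_left_cancel₀ (mul_ne_zero (hne' _ (hb m)) (hne' _ (hb l))) ?_
      linear_combination h0
    have h1 := (Cardinal.mk_le_of_injective (Function.Injective.comp (Equiv.ulift.symm.injective) hinj) : _ ≤ Cardinal.mk (ULift.{u} _))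
    rw [Cardinal.mk_fintype (ULift.{u} _), Fintype.card_ulift, Fintype.card_coe] at h1
    have h2 := hcard.trans h1
    rw [Nat.cast_le, Finset.card_erase_of_mem (Finset.mem_insert_of_mem hj0)] at h2
    have h3 : (insert i T).card ≤ d := (Finset.card_le_univ _).trans (by simp)
    have h4 : 0 < (insert i T).card := Finset.card_pos.mpr ⟨i, Finset.mem_insert_self _ _⟩
    omega

end Groth.Agent.S13167
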