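import Groth.Statements.S13175
import Groth.Agent.PolLib.Extend
import Mathlib.LinearAlgebra.TensorProduct.Prod
-- import your own Groth.Agent.* helpers here

set_option autoImplicit false
universe u v w
open scoped TensorProduct
open ZeroCyc

namespace Groth.Agent.S13175

/-- Let B and C be A-algebras and F : B → C a polynomial law. If the maps F over the polynomial rings
A[t_1, …, t_n], n ≥ 0, are multiplicative (send 1 to 1 and products to products), then F is a
multiplicative law: F sends 1 to 1 and products to products over every A-algebra. -/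
theorem result {A : Type u} [CommRing A] {B : Type v} [CommRing B] [Algebra A B] {C : Type w} [CommRing C] [Algebra A C]
    (F : B →ₚₗ[A] C)
    (h1 : ∀ n : ℕ, F.toFun' (MvPolynomial (Fin n) A) 1 = 1)
    (hmul : ∀ (n : ℕ) (x y : MvPolynomial (Fin n) A ⊗[A] B),
      F.toFun' (MvPolynomial (Fin n) A) (x * y) = F.toFun' (MvPolynomial (Fin n) A) x * F.toFun' (MvPolynomial (Fin n) A) y) :
    ∀ (S : Type u) [CommRing S] [Algebra A S], F.toFun' S 1 = 1 ∧
      ∀ x y : S ⊗[A] B, F.toFun' S (x * y) = F.toFun' S x * F.toFun' S y := by
  intro S _ _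
  have hψ : ∀ {S' : Type u} [CommRing S'] [Algebra A S'] {D : Type v} [CommRing D] [Algebra A D]
      (φ : S' →ₐ[A] S) (z : S' ⊗[A] D),
      φ.toLinearMap.rTensor D z = Algebra.TensorProduct.map φ (AlgHom.id A D) z := by
    intro S' _ _ D _ _ φ z
    induction z using TensorProduct.induction_on with
    | zero => simp
    | tmul a b => rfl
    | add a b ha hb => simp [ha, hb]
  have hψC : ∀ {S' : Type u} [CommRing S'] [Algebra A S'] (φ : S' →ₐ[A] S) (z : S' ⊗[A] C),
      φ.toLinearMap.rTensor C z = Algebra.TensorProduct.map φ (AlgHom.id A C) z := by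
    intro S' _ _ φ z
    induction z using TensorProduct.induction_on with
    | zero => simp
    | tmul a b => rfl
    | add a b ha hb => simp [ha, hb]
  have hev : ∀ {n : ℕ} (ψ : MvPolynomial (Fin n) A →ₐ[A] S) (p : MvPolynomial (Fin n) A ⊗[A] B),
      F.toFun' S (Algebra.TensorProduct.map ψ (AlgHom.id A B) p) =
        Algebra.TensorProduct.map ψ (AlgHom.id A C) (F.toFun' _ p) := by
    intro n ψ p
    rw [← hψ ψ p, ← hψC ψ]
    exact (congrFun (F.isCompat' ψ) p).symm
  refine ⟨?_, fun x y => ?_⟩
  · have e := hev (MvPolynomial.aeval (Fin.elim0 : Fin 0 → S)) 1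
    rw [map_one, h1, map_one] at e
    exact e
  · obtain ⟨n, ψ, p, hp⟩ :=
      PolynomialLaw.exists_lift ((TensorProduct.prodRight A A S B B).symm (x, y))
    have hx : ∀ (f : B × B →ₗ[A] B) (z : MvPolynomial (Fin n) A ⊗[A] (B × B)),
        Algebra.TensorProduct.map ψ (AlgHom.id A B) (f.lTensor _ z) =
          f.lTensor S (ψ.toLinearMap.rTensor _ z) := by
      intro f z
      induction z using TensorProduct.induction_on with
      | zero => simp
      | tmul a b => simp
      | add a b ha hb => simp [ha, hb]
    have hpr : ∀ z : S ⊗[A] (B × B),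
        TensorProduct.prodRight A A S B B z =
          ((LinearMap.fst A B B).lTensor S z, (LinearMap.snd A B B).lTensor S z) := by
      intro z
      induction z using TensorProduct.induction_on with
      | zero => ext <;> simp
      | tmul a b => simp
      | add a b ha hb => simp [ha, hb]
    have he := congrArg (TensorProduct.prodRight A A S B B) hp
    rw [LinearEquiv.apply_symm_apply, hpr, ← hx, ← hx, Prod.ext_iff] at he
    obtain ⟨he1, he2⟩ := he
    simp only at he1 he2
    rw [← he1, ← he2, ← map_mul, hev, hev, hev, hmul, map_mul]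

end Groth.Agent.S13175
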