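import Groth.Statements.S4419
import Groth.Agent.ProjCl17.Basic
import Groth.Agent.RelVA16.Eventual
-- import your own Groth.Agent.* helpers here

set_option autoImplicit false
universe u
open CategoryTheory CategoryTheory.Limits AlgebraicGeometry
open EGA2

set_option backward.isDefEq.respectTransparency false
set_option backward.isDefEq.respectTransparency.types false
open AlgebraicGeometry CategoryTheory CategoryTheory.Limits
open Groth.Agent

namespace Groth.Agent.S4419

/-- Let Y be a scheme which is either quasi-compact and separated or has a Noetherian underlying space,
and f : X → Y a morphism which is quasi-projective and proper. Then f is projective. -/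
theorem result {X Y : Scheme.{u}}
    (hY : (CompactSpace Y ∧ Y.IsSeparated) ∨ TopologicalSpace.NoetherianSpace Y) (f : X ⟶ Y)
    (hq : RelProj.IsQuasiProjective f) [IsProper f] : RelProj.IsProjective f := by
  obtain ⟨h1, h2, L, hL⟩ := hq
  haveI : CompactSpace Y := by
    rcases hY with ⟨hc, -⟩ | hN
    · exact hc
    · infer_instance
  have hi := AmpleX.isInvertible_of_isRelAmple hL
  obtain ⟨n₀, hn⟩ := RelVA16.eventually_isRelVeryAmple f hi InvX.isInvertible_structureModule hL
  exact RelVA16.isProjective_of_isProper_of_va hY (hn n₀ le_rfl)

end Groth.Agent.S4419
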