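import Groth.Statements.S13179
import Groth.Agent.H23.QuotNorm
import Groth.Agent.S4418
import Groth.Agent.S4419
import Groth.Agent.S2908

set_option autoImplicit false
set_option linter.style.haveILetI false
set_option backward.isDefEq.respectTransparency false
set_option backward.isDefEq.respectTransparency.types false
universe u
open CategoryTheory CategoryTheory.Limits AlgebraicGeometry
open ZeroCyc

namespace Groth.Agent.S13179

/-- Let S be a Noetherian scheme, X → S projective and G a finite group acting on X by S-automorphisms.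
Then a quotient q : X → X/G by G exists (affine, G-invariant, O_{X/G} = invariant sections) with X/G
→ S projective. -/
theorem result {X S : Scheme.{u}} (f : X ⟶ S) [IsNoetherian S]
    {G : Type u} [Group G] [Finite G] (ρ : G →* Aut X) (hρ : ∀ σ : G, (ρ σ).hom ≫ f = f)
    (hf : RelProj.IsProjective f) :
    ∃ (Y : Scheme.{u}) (q : X ⟶ Y) (h : Y ⟶ S), q ≫ h = f ∧ SGA1.IsQuot ρ q ∧ RelProj.IsProjective h := by
  obtain ⟨hq', hproper⟩ := Groth.Agent.S4418.result f hf
  obtain ⟨Y, q, h, hqh, hQ, hYq⟩ := Groth.Agent.H23.QuotNorm.exists_quotient f ρ hρ hq'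
  obtain ⟨hft, hqc, L, hL⟩ := hYq
  haveI := hft
  haveI := hqc
  haveI : IsSeparated h := Groth.Agent.AmpleX.isSeparated_of_ampleOn fun x => Groth.Agent.AmpleX.ampleOn_of_isRelAmple hL (h x)
  haveI : Surjective q := ⟨(Groth.Agent.S2908.result ρ q hQ).1⟩
  haveI : IsProper (q ≫ h) := hqh ▸ hproper
  haveI : UniversallyClosed h := UniversallyClosed.of_comp_surjective q h
  haveI : IsProper h := {}
  exact ⟨Y, q, h, hqh, hQ, Groth.Agent.S4419.result (Or.inr inferInstance) h ⟨hft, hqc, L, hL⟩⟩

end Groth.Agent.S13179
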