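import Groth.Statements.S13183
import Groth.Agent.H23.ProjVeryAmple
-- import your own Groth.Agent.* helpers here

set_option autoImplicit false
universe u
open CategoryTheory CategoryTheory.Limits AlgebraicGeometry
open ZeroCyc

namespace Groth.Agent.S13183

/-- Let B be a graded R-algebra of finite type, generated by elements of degrees between 1 and d, such
that X = Proj B is covered by the opens D_+(g), g ∈ B_1. For n ≥ d, n ≥ 1, there is a closed
immersion i of X into a projective space over R, over Spec R, with O_X(n) ≅ i^*O(1); in particular
O_X(n) is very ample relative to Spec R. (The published statement assumes neither finite generation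
nor that the generators have positive degree, and its target is P(B_n) with i the canonical morphism
given by B_n; a closed immersion into a projective space of finite type over R needs X proper over
R, so B is taken of finite type with generators of positive degree; existence of the isomorphism
only.) -/
theorem result {R A : Type u} [CommRing R] [CommRing A] [Algebra R A] (𝒜 : ℕ → Submodule R A) [GradedAlgebra 𝒜]
    (d : ℕ) (hgen : Algebra.adjoin R (⋃ i ∈ Finset.Icc 1 d, (𝒜 i : Set A)) = ⊤)
    (hcov : (⨆ g : 𝒜 1, Proj.basicOpen 𝒜 (g : A)) = ⊤) [Algebra.FiniteType R A] (n : ℕ) (hn : d ≤ n) (hn1 : 0 < n) :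
    ∃ (N : ℕ) (i : Proj 𝒜 ⟶ CohB1.ProjSpaceOver N (Spec (CommRingCat.of R))), IsClosedImmersion i ∧
      i ≫ pullback.snd (CohB1.ProjSpace.toSpec N (ULift.{u} ℤ)) (specULiftZIsTerminal.from (Spec (CommRingCat.of R))) =
        Proj.toSpecZero 𝒜 ≫ Spec.map (CommRingCat.ofHom (algebraMap R (𝒜 0))) ∧
      Nonempty (Twist.twist 𝒜 (n : ℤ) ≅
        (Scheme.Modules.pullback i).obj (Twist.twistOver N (Spec (CommRingCat.of R)) 1)) := by
  
  exact Groth.Agent.H23.ProjVeryAmple.exists_closedImmersion_deg_one d hgen hcov hn hn1

end Groth.Agent.S13183
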