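import Groth.Statements.S13184
import Mathlib.FieldTheory.SeparableClosure
import Mathlib.FieldTheory.Perfect
import Mathlib.Algebra.Polynomial.Lifts
-- import your own Groth.Agent.* helpers here

set_option autoImplicit false
universe u
open ZeroCyc

namespace Groth.Agent.S13184

/-- Let k ⊆ K be a finite extension of fields of characteristic p > 0, viewed inside an algebraically
closed field Ω, and for e ≥ 0 let k^{p^{-e}} ⊆ Ω be the field of elements whose p^e-th power lies in
k. Then the compositum k^{p^{-e}}K is separable over k^{p^{-e}} if and only if x^{p^e} is separable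
over k for every x ∈ K; hence the exponent of K/k (the least n ≥ 1 with K^n separable over k, a
power of p) is the least p^e for which k^{p^{-e}} ⊆ k^{p^{-e}}K is separable. -/
theorem result {k : Type u} [Field k] (p : ℕ) [Fact p.Prime] [CharP k p]
    {K : Type u} [Field K] [Algebra k K] [FiniteDimensional k K]
    {Ω : Type u} [Field Ω] [Algebra k Ω] [Algebra K Ω] [IsScalarTower k K Ω] [IsAlgClosed Ω] (e : ℕ) :
    (∀ x : Ω, x ∈ IntermediateField.adjoin k {y : Ω | y ^ (p ^ e) ∈ Set.range (algebraMap k Ω)} ⊔
        IntermediateField.adjoin k (Set.range (algebraMap K Ω)) →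
      IsSeparable (IntermediateField.adjoin k {y : Ω | y ^ (p ^ e) ∈ Set.range (algebraMap k Ω)}) x) ↔
    ∀ x : K, x ^ (p ^ e) ∈ separableClosure k K := by
  haveI hchar : CharP Ω p := charP_of_injective_algebraMap (algebraMap k Ω).injective p
  haveI : ExpChar Ω p := .prime (Fact.out)
  let φ := iterateFrobeniusEquiv Ω p e
  have hφ : ∀ x, φ x = x ^ p ^ e := fun x => iterateFrobeniusEquiv_def Ω p e x
  let Sx : Set Ω := {y : Ω | y ^ (p ^ e) ∈ Set.range (algebraMap k Ω)}
  let L := IntermediateField.adjoin k Sx
  have hL : ∀ c : L, φ (c : Ω) ∈ Set.range (algebraMap k Ω) := by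
    rintro ⟨c, hc⟩
    let F : Subfield Ω := (algebraMap k Ω).fieldRange.comap φ.toRingHom
    have : L.toSubfield ≤ F := by
      rw [IntermediateField.adjoin_toSubfield, Subfield.closure_le]
      rintro y (⟨r, rfl⟩ | hy)
      · exact ⟨r ^ p ^ e, by rw [map_pow]; exact (hφ _).symm⟩
      · obtain ⟨r, hr⟩ := hy
        exact ⟨r, hr.trans (hφ _).symm⟩
    exact this hc
  have key : ∀ x : K, IsSeparable L (algebraMap K Ω x) ↔ x ^ p ^ e ∈ separableClosure k K := by
    intro x
    rw [mem_separableClosure_iff]
    constructor
    · intro h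
      let P := ((minpoly L (algebraMap K Ω x)).map (algebraMap L Ω)).map φ.toRingHom
      obtain ⟨Q, hQ⟩ : ∃ Q : Polynomial k, Q.map (algebraMap k Ω) = P := by
        rw [← Polynomial.mem_lifts, Polynomial.lifts_iff_coeff_lifts]
        intro n
        simp only [P, Polynomial.coeff_map]
        exact hL _
      have hsep : Q.Separable := by
        rw [← Polynomial.separable_map (algebraMap k Ω), hQ]
        exact (Polynomial.Separable.map (Polynomial.Separable.map h))
      have h0 : Polynomial.aeval (x ^ p ^ e) Q = 0 := by
        apply (algebraMap K Ω).injective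
        rw [map_zero, ← Polynomial.aeval_algebraMap_apply, Polynomial.aeval_def, ← Polynomial.eval_map, hQ,
          map_pow, ← hφ]
        show Polynomial.eval (φ.toRingHom _) _ = 0
        simp only [P]
        rw [Polynomial.eval_map, Polynomial.eval₂_at_apply, Polynomial.eval_map, ← Polynomial.aeval_def,
          minpoly.aeval, map_zero]
      exact hsep.of_dvd (minpoly.dvd k _ h0)
    · intro h
      let P := ((minpoly k (x ^ p ^ e)).map (algebraMap k Ω)).map φ.symm.toRingHom
      obtain ⟨Q, hQ⟩ : ∃ Q : Polynomial L, Q.map (algebraMap L Ω) = P := by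
        rw [← Polynomial.mem_lifts, Polynomial.lifts_iff_coeff_lifts]
        intro n
        simp only [P, Polynomial.coeff_map]
        refine ⟨⟨φ.symm (algebraMap k Ω ((minpoly k (x ^ p ^ e)).coeff n)), IntermediateField.subset_adjoin k Sx ?_⟩, rfl⟩
        show (φ.symm (algebraMap k Ω _)) ^ p ^ e ∈ Set.range (algebraMap k Ω)
        rw [← hφ, φ.apply_symm_apply]
        exact ⟨_, rfl⟩
      have hsep : Q.Separable := by
        rw [← Polynomial.separable_map (algebraMap L Ω), hQ]
        exact (Polynomial.Separable.map (Polynomial.Separable.map h))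
      have h0 : Polynomial.aeval (algebraMap K Ω x) Q = 0 := by
        rw [Polynomial.aeval_def, ← Polynomial.eval_map, hQ]
        have hy : algebraMap K Ω x = φ.symm.toRingHom (algebraMap K Ω (x ^ p ^ e)) := by
          rw [map_pow, ← hφ]
          exact (φ.symm_apply_apply _).symm
        simp only [P]
        rw [hy, Polynomial.eval_map, Polynomial.eval₂_at_apply, Polynomial.eval_map, ← Polynomial.aeval_def,
          Polynomial.aeval_algebraMap_apply, minpoly.aeval, map_zero, map_zero]
      exact hsep.of_dvd (minpoly.dvd L _ h0)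
  constructor
  · intro h x
    exact (key x).mp (h _ ((le_sup_right : _ ≤ IntermediateField.adjoin k Sx ⊔ _)
      (IntermediateField.subset_adjoin k _ ⟨x, rfl⟩)))
  · intro h y hy
    have hle : IntermediateField.adjoin L (Set.range (algebraMap K Ω)) ≤ separableClosure L Ω :=
      IntermediateField.adjoin_le_iff.mpr (by rintro _ ⟨x, rfl⟩; exact mem_separableClosure_iff.mpr ((key x).mpr (h x)))
    rw [← IntermediateField.adjoin_union, ← IntermediateField.adjoin_adjoin_left] at hy
    exact mem_separableClosure_iff.mp (hle hy)

end Groth.Agent.S13184
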