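import Groth.Statements.S13186
import Groth.Agent.GalDescX.GL
import Mathlib.LinearAlgebra.Matrix.Determinant.Basic

set_option autoImplicit false
universe u
open GalCoh

namespace Groth.Agent.S13186

/-- Let L/K be a finite Galois extension of fields, n a natural number, and B a map from the Galois
group of L over K to the invertible n × n matrices over L such that B(σ) · σ(B(τ)) = B(στ) for all
σ, τ (σ acting on matrices entrywise, στ applying τ first) and det B(σ) = 1 for every σ. Then there
is an invertible matrix A over L of determinant 1 with B(σ) = A⁻¹ · σ(A) for every σ; that is, every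
1-cocycle of the Galois group with values in SL_n(L) is the coboundary of an element of SL_n(L), so
H¹ of the Galois group with values in SL_n(L) is a point. (The published statement says that every
torsor under the special linear group over K is trivial; this row is the finite-Galois-level cocycle
form that its proof establishes.) -/
theorem result (K L : Type u) [Field K] [Field L]
    [Algebra K L] [FiniteDimensional K L] [IsGalois K L] (n : ℕ)
    (B : (L ≃ₐ[K] L) → GL (Fin n) L)
    (hB : ∀ σ τ : L ≃ₐ[K] L,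
      (B σ : Matrix (Fin n) (Fin n) L) * (B τ : Matrix (Fin n) (Fin n) L).map σ =
        (B (σ * τ) : Matrix (Fin n) (Fin n) L))
    (hdet : ∀ σ : L ≃ₐ[K] L, Matrix.det (B σ : Matrix (Fin n) (Fin n) L) = 1) :
    ∃ A : GL (Fin n) L, Matrix.det (A : Matrix (Fin n) (Fin n) L) = 1 ∧ ∀ σ : L ≃ₐ[K] L,
      (B σ : Matrix (Fin n) (Fin n) L) =
        ((A⁻¹ : GL (Fin n) L) : Matrix (Fin n) (Fin n) L) * (A : Matrix (Fin n) (Fin n) L).map σ := by
  obtain ⟨P, hP⟩ := GalDescX.exists_gl_of_cocycle n B hB
  have hmap : ∀ (σ : L ≃ₐ[K] L) (M : Matrix (Fin n) (Fin n) L), (M.map σ).det = σ M.det :=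
    fun σ M => ((σ : L →+* L).map_det M).symm
  cases n with
  | zero => exact ⟨1, Matrix.det_one, fun σ => Subsingleton.elim _ _⟩
  | succ n =>
  have hd : ∀ σ : L ≃ₐ[K] L, σ (P : Matrix (Fin (n + 1)) (Fin (n + 1)) L).det =
      (P : Matrix (Fin (n + 1)) (Fin (n + 1)) L).det := fun σ => by
    have := congrArg Matrix.det (hP σ)
    rwa [Matrix.det_mul, hdet, one_mul, hmap] at this
  let D : Matrix (Fin (n + 1)) (Fin (n + 1)) L :=
    Matrix.diagonal (Function.update 1 0 (P : Matrix (Fin (n + 1)) (Fin (n + 1)) L).det)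
  have hDdet : D.det = (P : Matrix (Fin (n + 1)) (Fin (n + 1)) L).det := by
    rw [Matrix.det_diagonal, Finset.prod_eq_single 0 (fun b _ hb => by simp [hb]) (by simp)]
    simp
  have hDu : IsUnit D := by
    rw [Matrix.isUnit_iff_isUnit_det, hDdet]
    exact (Matrix.isUnit_iff_isUnit_det _).1 P.isUnit
  have hDσ : ∀ σ : L ≃ₐ[K] L, D.map σ = D := fun σ => by
    rw [Matrix.diagonal_map (map_zero σ)]
    congr 1
    funext i
    by_cases hi : i = 0
    · subst hi; simp [hd]
    · simp [hi]
  refine ⟨hDu.unit * P⁻¹, ?_, fun σ => ?_⟩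
  · rw [Units.val_mul, Matrix.det_mul, IsUnit.unit_spec, hDdet, ← Matrix.det_mul, Units.mul_inv,
      Matrix.det_one]
  · have hmm : ∀ M N : Matrix (Fin (n + 1)) (Fin (n + 1)) L, (M * N).map σ = M.map σ * N.map σ :=
      fun M N => Matrix.map_mul (f := (σ : L →+* L))
    have h1 : ((P⁻¹ : GL (Fin (n + 1)) L) : Matrix (Fin (n + 1)) (Fin (n + 1)) L).map σ =
        ((P⁻¹ : GL (Fin (n + 1)) L) : Matrix (Fin (n + 1)) (Fin (n + 1)) L) *
          (B σ : Matrix (Fin (n + 1)) (Fin (n + 1)) L) := by
      have h2 : (P : Matrix (Fin (n + 1)) (Fin (n + 1)) L).map σ *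
          ((P⁻¹ : GL (Fin (n + 1)) L) : Matrix (Fin (n + 1)) (Fin (n + 1)) L).map σ = 1 := by
        rw [← hmm, Units.mul_inv, Matrix.map_one _ (map_zero σ) (map_one σ)]
      calc _ = ((P⁻¹ : GL (Fin (n + 1)) L) : Matrix (Fin (n + 1)) (Fin (n + 1)) L) *
            ((B σ : Matrix (Fin (n + 1)) (Fin (n + 1)) L) *
              (P : Matrix (Fin (n + 1)) (Fin (n + 1)) L).map σ) *
            ((P⁻¹ : GL (Fin (n + 1)) L) : Matrix (Fin (n + 1)) (Fin (n + 1)) L).map σ := by
            rw [hP σ, Units.inv_mul, one_mul]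
        _ = _ := by rw [mul_assoc, mul_assoc _ _ (Matrix.map _ _), h2, mul_one]
    rw [mul_inv_rev, inv_inv, Units.val_mul, Units.val_mul, hmm, IsUnit.unit_spec, hDσ, h1]
    simp only [mul_assoc]
    rw [← mul_assoc (↑hDu.unit⁻¹ : Matrix (Fin (n + 1)) (Fin (n + 1)) L) D, hDu.val_inv_mul, one_mul,
      ← mul_assoc, Units.mul_inv, one_mul]

end Groth.Agent.S13186
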