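import Groth.Statements.S13188
import Mathlib.Algebra.MvPolynomial.Rename
import Mathlib.RingTheory.MvPolynomial.Homogeneous

set_option autoImplicit false
universe u v w
open Brauer

namespace Groth.Agent.S13188

/-- Let K be a field with property C_2 for systems of forms and D a finite-dimensional central division
algebra over K with dim_K D = d². Let N : D → K be multiplicative, a reduced norm of D over K, and
given in the coordinates of a K-basis b of D by a homogeneous polynomial F of degree d, i.e. N(Σ x_i
b_i) = F(x) for every coordinate vector x (the reduced norm of a central simple algebra of dimension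
d² is such a polynomial map of degree d; these data record it). Then N : D → K is surjective. -/
theorem result (K : Type u) [Field K] (hK : Curves.IsCi K 2)
    (D : Type v) [DivisionRing D] [Algebra K D] [Algebra.IsCentral K D] [FiniteDimensional K D]
    (d : ℕ) (hd : Module.finrank K D = d ^ 2)
    (N : D →* K) (hN : CSAGal.IsRedNorm K D N)
    {ι : Type w} [Fintype ι] (b : Module.Basis ι K D)
    (F : MvPolynomial ι K) (hF : F.IsHomogeneous d)
    (hNF : ∀ x : ι → K, N (∑ i, x i • b i) = MvPolynomial.eval x F) :
    Function.Surjective N := by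
  classical
  have hd0 : 0 < d := by
    rcases Nat.eq_zero_or_pos d with rfl | h
    · have := Module.finrank_pos (R := K) (M := D); simp [hd] at this
    · exact h
  have hscale : ∀ (c : K) (x : ι → K),
      MvPolynomial.eval (fun i => c * x i) F = c ^ d * MvPolynomial.eval x F := fun c x => by
    rw [MvPolynomial.eval_eq, MvPolynomial.eval_eq, Finset.mul_sum]
    refine Finset.sum_congr rfl fun m hm => ?_
    have hmd : ∑ i ∈ m.support, m i = d := by
      have h1 := hF (MvPolynomial.mem_support_iff.1 hm)
      rwa [Finsupp.weight_apply, Finsupp.sum, Finset.sum_congr rfl (fun i _ => by simp :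
        ∀ i ∈ m.support, m i • (1 : ι → ℕ) i = m i)] at h1
    simp only [mul_pow, Finset.prod_mul_distrib, Finset.prod_pow_eq_pow_sum, hmd]
    ring
  have h0 : MvPolynomial.eval (fun _ => (0 : K)) F = 0 := by
    have := hscale 0 (fun _ => 0)
    simpa [zero_pow hd0.ne'] using this
  intro a
  rcases eq_or_ne a 0 with rfl | ha
  · exact ⟨∑ i, (0 : K) • b i, (hNF (fun _ => 0)).trans h0⟩
  obtain ⟨e⟩ : Nonempty (Option ι ≃ Fin (d ^ 2 + 1)) := ⟨Fintype.equivFinOfCardEq (by
    rw [Fintype.card_option, ← hd, Module.finrank_eq_card_basis b])⟩
  let G : MvPolynomial (Option ι) K :=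
    MvPolynomial.rename some F - MvPolynomial.C a * MvPolynomial.X none ^ d
  have hG : G.IsHomogeneous d := by
    refine hF.rename_isHomogeneous.sub ?_
    exact MvPolynomial.IsHomogeneous.C_mul (by simpa using (MvPolynomial.isHomogeneous_X K (none : Option ι)).pow d) a
  obtain ⟨z, hz, hz0⟩ := hK 1 (d ^ 2 + 1) (fun _ => MvPolynomial.rename e G) (fun _ => d)
    (fun _ => hG.rename_isHomogeneous) (fun _ => hd0) (by simp)
  have hz1 := hz0 0
  rw [MvPolynomial.eval_rename, map_sub, map_mul, map_pow, MvPolynomial.eval_rename,
    MvPolynomial.eval_C, MvPolynomial.eval_X, sub_eq_zero] at hz1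
  let x : ι → K := fun i => z (e (some i))
  let y : K := z (e none)
  change MvPolynomial.eval x F = a * y ^ d at hz1
  have hy : y ≠ 0 := by
    intro hy
    rw [hy, zero_pow hd0.ne', mul_zero, ← hNF] at hz1
    have hx : ∑ i, x i • b i = 0 := by
      by_contra hne
      have := N.map_mul (∑ i, x i • b i) (∑ i, x i • b i)⁻¹
      rw [mul_inv_cancel₀ hne, map_one, hz1, zero_mul] at this
      exact one_ne_zero this
    refine hz (funext fun k => ?_)
    obtain ⟨o, rfl⟩ := e.surjective k
    cases o with
    | none => exact hy
    | some i => exact (Fintype.linearIndependent_iff.1 b.linearIndependent x hx) i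
  refine ⟨∑ i, (y⁻¹ * x i) • b i, ?_⟩
  rw [hNF, hscale, hz1, inv_pow]
  field_simp

end Groth.Agent.S13188
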