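import Groth.Statements.S13189
import Mathlib
import Mathlib.Combinatorics.Nullstellensatz
import Mathlib.FieldTheory.Finite.Basic

set_option autoImplicit false
universe u
open CAlg

namespace Groth.Agent.S13189

/-- For a finite field K of cardinality q and n ≥ 0, a polynomial p in n variables over K vanishes at
every point of K^n if and only if p belongs to the ideal generated by the X_i^q − X_i, i = 1, …, n;
in other words that ideal is the kernel of the evaluation homomorphism from K[X_1, …, X_n] to the
ring of K-valued functions on K^n. -/
theorem result (K : Type u) [Field K] [Fintype K]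
    (n : ℕ) (p : MvPolynomial (Fin n) K) :
    (∀ a : Fin n → K, MvPolynomial.eval a p = 0) ↔
      p ∈ Ideal.span (Set.range fun i : Fin n =>
        (MvPolynomial.X i ^ Fintype.card K - MvPolynomial.X i : MvPolynomial (Fin n) K)) := by
  classical
  have hprod : ∀ i : Fin n, ∏ r : K, (MvPolynomial.X i - MvPolynomial.C r : MvPolynomial (Fin n) K) =
      MvPolynomial.X i ^ Fintype.card K - MvPolynomial.X i := fun i => by
    have hq : 1 < Fintype.card K := Fintype.one_lt_card
    have h1 : (Polynomial.X ^ Fintype.card K - Polynomial.X : Polynomial K) =
        ∏ r : K, (Polynomial.X - Polynomial.C r) := by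
      rw [← Polynomial.prod_multiset_X_sub_C_of_monic_of_roots_card_eq
        (p := (Polynomial.X ^ Fintype.card K - Polynomial.X : Polynomial K))
        (Polynomial.monic_X_pow_sub (by rw [Polynomial.degree_X]; exact_mod_cast hq))
        (by rw [FiniteField.roots_X_pow_card_sub_X, FiniteField.X_pow_card_sub_X_natDegree_eq K hq]; rfl),
        FiniteField.roots_X_pow_card_sub_X]
      rfl
    have h2 := congrArg (Polynomial.aeval (MvPolynomial.X i : MvPolynomial (Fin n) K)) h1
    simpa [map_prod, MvPolynomial.algebraMap_eq] using h2.symm
  constructor
  · intro h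
    obtain ⟨c, -, hc⟩ := MvPolynomial.combinatorial_nullstellensatz_exists_linearCombination
      (fun _ : Fin n => (Finset.univ : Finset K)) (fun _ => Finset.univ_nonempty) p (fun x _ => h x)
    rw [hc, Finsupp.linearCombination_apply]
    exact Submodule.sum_mem _ fun i _ => Submodule.smul_mem _ _ (Submodule.subset_span ⟨i, (hprod i).symm⟩)
  · intro hp a
    have : Ideal.span (Set.range fun i : Fin n =>
        (MvPolynomial.X i ^ Fintype.card K - MvPolynomial.X i : MvPolynomial (Fin n) K)) ≤
        RingHom.ker (MvPolynomial.eval a) := by
      rw [Ideal.span_le]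
      rintro _ ⟨i, rfl⟩
      simp [FiniteField.pow_card]
    exact this hp

end Groth.Agent.S13189
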