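import Groth.Statements.S13191
-- import your own Groth.Agent.* helpers here

set_option autoImplicit false
universe u v w x
open GalCoh

namespace Groth.Agent.S13191

/-- Let a group G act by automorphisms on a group A, and let E and E' each be a G-equivariant right
A-torsor (a set with a simply transitive right action of A, written m ↦ m·a, and a left action of G
with g(m·a) = (gm)·(ga)). Let m ∈ E and m' ∈ E' be points with attached maps a, a' : G → A (g·m =
m·a(g) and g·m' = m'·a'(g) for all g). Then there is a bijection E ≃ E' commuting with the actions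
of G and of A if and only if a and a' are cohomologous. (The published statement is for a Galois
group acting on discrete modules; this row takes an arbitrary group acting on a group.) -/
theorem result {G : Type u} {A : Type v} {E : Type w} {E' : Type x}
    [Group G] [Group A] [MulDistribMulAction G A]
    [MulAction G E] [MulAction Aᵐᵒᵖ E]
    (hfree : ∀ m₁ m₂ : E, ∃! a : A, m₂ = MulOpposite.op a • m₁)
    (hcompat : ∀ (g : G) (a : A) (m : E), g • (MulOpposite.op a • m) = MulOpposite.op (g • a) • g • m)
    [MulAction G E'] [MulAction Aᵐᵒᵖ E']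
    (hfree' : ∀ m₁ m₂ : E', ∃! a : A, m₂ = MulOpposite.op a • m₁)
    (hcompat' : ∀ (g : G) (a : A) (m : E'), g • (MulOpposite.op a • m) = MulOpposite.op (g • a) • g • m)
    (m : E) (a : G → A) (ha : ∀ g : G, g • m = MulOpposite.op (a g) • m)
    (m' : E') (a' : G → A) (ha' : ∀ g : G, g • m' = MulOpposite.op (a' g) • m') :
    (∃ f : E ≃ E', (∀ (g : G) (e : E), f (g • e) = g • f e) ∧
        ∀ (b : A) (e : E), f (MulOpposite.op b • e) = MulOpposite.op b • f e) ↔
      GpH1.Cohomologous a a' := by
  classical
  constructor
  · rintro ⟨f, hf, hfb⟩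
    obtain ⟨c, hc, -⟩ := hfree' m' (f m)
    refine ⟨c, fun σ => ?_⟩
    have h1 : f (σ • m) = MulOpposite.op (c * a σ) • m' := by
      rw [ha, hfb, hc, smul_smul, ← MulOpposite.op_mul]
    have h2 : f (σ • m) = MulOpposite.op (a' σ * σ • c) • m' := by
      rw [hf, hc, hcompat', ha', smul_smul, ← MulOpposite.op_mul]
    have := (hfree' m' _).unique h1 h2
    rw [mul_assoc, ← this, inv_mul_cancel_left]
  · rintro ⟨c, hc⟩
    choose d hd hdu using fun e : E => hfree m e
    have hdop : ∀ b : A, d (MulOpposite.op b • m) = b := fun b => (hdu _ b rfl).symm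
    choose d' hd' hdu' using fun e : E' => hfree' m' e
    have hdop' : ∀ b : A, d' (MulOpposite.op b • m') = b := fun b => (hdu' _ b rfl).symm
    refine ⟨⟨fun e => MulOpposite.op (c * d e) • m', fun e => MulOpposite.op (c⁻¹ * d' e) • m,
      fun e => ?_, fun e => ?_⟩, ?_, ?_⟩
    · dsimp only
      rw [hdop', inv_mul_cancel_left, ← hd]
    · dsimp only
      rw [hdop, mul_inv_cancel_left, ← hd']
    · intro g e
      have h1 : d (g • e) = a g * g • d e := by
        have : g • e = MulOpposite.op (a g * g • d e) • m := by
          conv_lhs => rw [hd e, hcompat, ha, smul_smul, ← MulOpposite.op_mul]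
        rw [this, hdop]
      show MulOpposite.op (c * d (g • e)) • m' = g • (MulOpposite.op (c * d e) • m')
      rw [hcompat', ha', smul_smul, ← MulOpposite.op_mul, h1, hc g, smul_mul']
      group
    · intro b e
      have h1 : d (MulOpposite.op b • e) = d e * b := by
        have : MulOpposite.op b • e = MulOpposite.op (d e * b) • m := by
          conv_lhs => rw [hd e, smul_smul, ← MulOpposite.op_mul]
        rw [this, hdop]
      show MulOpposite.op (c * d (MulOpposite.op b • e)) • m' =
        MulOpposite.op b • (MulOpposite.op (c * d e) • m')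
      rw [h1, smul_smul, ← MulOpposite.op_mul, mul_assoc]

end Groth.Agent.S13191
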