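import Groth.Statements.S13196
import Groth.Agent.GalCohX.Hilbert90

set_option autoImplicit false
universe u
open GalCoh

namespace Groth.Agent.S13196

/-- Let K be a field and L a separable closure of K. Every map a from the automorphism group of L over K
to L which is locally constant for the Krull topology and satisfies a(στ) = a(σ) + σ(a(τ)) for all
σ, τ is of the form a(σ) = σ(y) − y for a single y in L. (The published statement asserts vanishing
in every positive degree; this row is the degree-one statement for the absolute Galois group with
continuous cochains.) -/
theorem result (K L : Type u) [Field K] [Field L] [Algebra K L]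
    [IsSepClosure K L] (a : (L ≃ₐ[K] L) → L)
    (ha : ∀ σ τ : L ≃ₐ[K] L, a (σ * τ) = a σ + σ (a τ)) (hlc : IsLocallyConstant a) :
    ∃ y : L, ∀ σ : L ≃ₐ[K] L, a σ = σ y - y := by
  haveI : IsGalois K L := inferInstance
  exact GalCohX.exists_add_coboundary a ha hlc

end Groth.Agent.S13196
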