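import Groth.Statements.S13200
import Mathlib
import Groth.Agent.IsoNatLib.SmoothCrit
import Groth.Agent.FormCat.Descent
import Groth.Agent.FlatLoc6.GeomComp
import Groth.Agent.S4754
import Groth.Agent.S2811
import Groth.Agent.S0600
-- import your own Groth.Agent.* helpers here

set_option autoImplicit false
universe u
open Hensel

namespace Groth.Agent.S13200

/-- Let R be an excellent local ring which is strictly henselian (henselian with separably closed
residue field), and let R^ denote its completion at the maximal ideal. An element Δ of R is a prime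
element of R exactly when its image in R^ is a prime element of R^. -/
theorem result
    (R : Type u) [CommRing R] [HenselianLocalRing R] [IsSepClosed (IsLocalRing.ResidueField R)]
    (hR : EGA4.IsExcellent R) (Δ : R) :
    Prime Δ ↔ Prime (algebraMap R (AdicCompletion (IsLocalRing.maximalIdeal R) R) Δ) := by
  haveI : IsNoetherianRing R := hR.1
  haveI := FlatLoc6.isLocalRing_cpl R
  haveI := FlatLoc6.faithfullyFlat_cpl R
  have hinj : Function.Injective (algebraMap R (EGA4.Cpl R)) := FaithfulSMul.algebraMap_injective _ _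
  have hmap : (Ideal.span {Δ}).map (algebraMap R (EGA4.Cpl R)) = Ideal.span {algebraMap R (EGA4.Cpl R) Δ} := by
    rw [Ideal.map_span, Set.image_singleton]
  constructor
  · intro hΔ
    haveI hI : (Ideal.span {Δ}).IsPrime := (Ideal.span_singleton_prime hΔ.ne_zero).2 hΔ
    haveI : HenselianLocalRing (R ⧸ Ideal.span {Δ}) := IsoNatLib.henselianLocalRing_quotient _ hI.ne_top
    have hn : EGA4.HasGeomNormalFormalFibres R :=
      (FlatLoc6.isNormalHom_of_isRegularHom R (EGA4.Cpl R) (S0600.result R hR.2.2.1 _)).2
    haveI : IsDomain (EGA4.Cpl (R ⧸ Ideal.span {Δ})) := S2811.result _ (S4754.result R hn _)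
    obtain ⟨e⟩ := FormalFib6.exists_cplQuotEquiv R (R ⧸ Ideal.span {Δ}) Ideal.Quotient.mk_surjective
    let ε : (EGA4.Cpl R ⧸ (Ideal.span {Δ}).map (algebraMap R (EGA4.Cpl R))) ≃+* EGA4.Cpl (R ⧸ Ideal.span {Δ}) :=
      ((Algebra.TensorProduct.quotIdealMapEquivTensorQuot (EGA4.Cpl R) (Ideal.span {Δ})).toRingEquiv.trans
        (Algebra.TensorProduct.comm R (EGA4.Cpl R) (R ⧸ Ideal.span {Δ})).toRingEquiv).trans e.toRingEquiv
    haveI := ε.toMulEquiv.isDomain (EGA4.Cpl (R ⧸ Ideal.span {Δ}))
    have hp := (Ideal.Quotient.isDomain_iff_prime _).1 this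
    rw [hmap] at hp
    exact (Ideal.span_singleton_prime fun h0 => hΔ.ne_zero (hinj (h0.trans (map_zero _).symm))).1 hp
  · intro hΔ
    haveI hp : ((Ideal.span {Δ}).map (algebraMap R (EGA4.Cpl R))).IsPrime := by
      rw [hmap]
      exact (Ideal.span_singleton_prime hΔ.ne_zero).2 hΔ
    have h2 : (Ideal.span {Δ}).IsPrime := by
      rw [← Ideal.comap_map_eq_self_of_faithfullyFlat (B := EGA4.Cpl R) (Ideal.span {Δ})]
      exact Ideal.IsPrime.comap _
    exact (Ideal.span_singleton_prime fun h0 => hΔ.ne_zero (by rw [h0, map_zero])).1 h2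

end Groth.Agent.S13200
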