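import Groth.Statements.S17730
import Mathlib
import Groth.Agent.S2750
import Groth.Agent.Unib7.QuotientStrict
import Groth.Agent.Unib7.Smooth
-- import your own Groth.Agent.* helpers here

set_option autoImplicit false
universe u
open Hensel

namespace Groth.Agent.S17730

open IsLocalRing in
/-- Let R be a Noetherian local ring which is strictly henselian (henselian with separably closed
residue field), Δ a prime element of R, R' a smooth R-algebra, q a prime ideal of R' containing the
image of the maximal ideal of R, and T a strict henselization of the localization R'_q. Then the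
image of Δ in T is a prime element of T. (This is the published statement, that a prime element of
the étale local ring of the base at a geometric point remains prime in the étale local ring of a
smooth scheme over it at a geometric point above, written for the base the spectrum of R; the
published hypothesis that the base be smooth-factorial, meaning that all its smooth schemes are
locally factorial, is not used by the argument and is omitted; R is taken Noetherian, which the
published statement does not state and the argument requires.) -/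
theorem result
    (R R' T : Type u) [CommRing R] [IsNoetherianRing R] [HenselianLocalRing R]
    [IsSepClosed (ResidueField R)]
    [CommRing R'] [Algebra R R'] [Algebra.Smooth R R']
    (q : Ideal R') [q.IsPrime] (hq : (maximalIdeal R).map (algebraMap R R') ≤ q)
    [CommRing T] [IsLocalRing T] [Algebra (Localization.AtPrime q) T]
    [IsLocalHom (algebraMap (Localization.AtPrime q) T)]
    [Hensel.IsStrictHenselization (Localization.AtPrime q) T]
    (Δ : R) (hΔ : Prime Δ) :
    Prime (algebraMap (Localization.AtPrime q) T
      (algebraMap R' (Localization.AtPrime q) (algebraMap R R' Δ))) := by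
  classical
  let I : Ideal R := Ideal.span {Δ}
  haveI hIp : I.IsPrime := (Ideal.span_singleton_prime hΔ.ne_zero).2 hΔ
  haveI : HenselianLocalRing (R ⧸ I) := IsoNatLib.henselianLocalRing_quotient I hIp.ne_top
  haveI : IsLocalHom (Ideal.Quotient.mk I) := Ideal.Quotient.mk_surjective.isLocalHom
  haveI : IsSepClosed (ResidueField (R ⧸ I)) := Hensel.isSepClosed_of_ringEquiv
    (RingEquiv.ofBijective (ResidueField.map (Ideal.Quotient.mk I)) ⟨RingHom.injective _, fun x => by
      obtain ⟨y, rfl⟩ := residue_surjective x
      obtain ⟨z, rfl⟩ := Ideal.Quotient.mk_surjective y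
      exact ⟨residue _ z, rfl⟩⟩)
  let IS : Ideal R' := I.map (algebraMap R R')
  haveI : Algebra.Smooth (R ⧸ I) (R' ⧸ IS) :=
    Algebra.Smooth.of_equiv (Algebra.TensorProduct.quotIdealMapEquivQuotTensor R' I).symm
  have hqR : q.comap (algebraMap R R') = maximalIdeal R :=
    le_antisymm (le_maximalIdeal_of_isPrime _) (Ideal.map_le_iff_le_comap.1 hq)
  have hISq : IS ≤ q := (Ideal.map_mono (le_maximalIdeal hIp.ne_top)).trans hq
  let q' : Ideal (R' ⧸ IS) := q.map (Ideal.Quotient.mk IS)
  haveI : q'.IsPrime := Ideal.map_isPrime_of_surjective Ideal.Quotient.mk_surjective (by rwa [Ideal.mk_ker])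
  have hq' : q'.comap (Ideal.Quotient.mk IS) = q := Ideal.comap_map_mk hISq
  have hq'R : q'.comap (algebraMap (R ⧸ I) (R' ⧸ IS)) = maximalIdeal (R ⧸ I) := by
    refine le_antisymm (le_maximalIdeal_of_isPrime _) fun x hx => ?_
    obtain ⟨r, rfl⟩ := Ideal.Quotient.mk_surjective x
    have hr : r ∈ maximalIdeal R := fun hu => hx (hu.map _)
    exact Ideal.mem_map_of_mem _ (hqR.ge hr)
  obtain ⟨hdom, hgu⟩ := Unib7.isGeomUnibranch_of_smooth (maximalIdeal (R ⧸ I))
    (UnibEtale.isGeomUnibranch_of_ringEquiv
      (IsLocalization.atUnits (R ⧸ I) (maximalIdeal (R ⧸ I)).primeCompl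
        (S := Localization.AtPrime (maximalIdeal (R ⧸ I)))
        fun x hx => (notMem_maximalIdeal).1 hx).toRingEquiv
      (Unib7.isGeomUnibranch_of_strictlyHenselian (R ⧸ I))) q' hq'R
  let π : Localization.AtPrime q →+* Localization.AtPrime q' :=
    Localization.localRingHom q q' (Ideal.Quotient.mk IS) hq'.symm
  have hπm : ∀ a s, π (IsLocalization.mk' _ a s) = _ :=
    fun a s => Localization.localRingHom_mk' q q' (Ideal.Quotient.mk IS) hq'.symm a s
  have hπ : Function.Surjective π := fun z => by
    obtain ⟨a, s, rfl⟩ := IsLocalization.exists_mk'_eq q'.primeCompl z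
    obtain ⟨a, rfl⟩ := Ideal.Quotient.mk_surjective a
    obtain ⟨s', hs'⟩ := Ideal.Quotient.mk_surjective s.1
    have hm : s' ∈ q.primeCompl := fun hm => s.2 (by rw [← hs']; exact Ideal.mem_map_of_mem _ hm)
    exact ⟨IsLocalization.mk' _ a (⟨s', hm⟩ : q.primeCompl), by
      rw [hπm]
      exact IsLocalization.mk'_eq_of_eq (by rw [mul_comm])
        |>.trans (congrArg (IsLocalization.mk' _ _) (Subtype.ext hs'))⟩
  set d : Localization.AtPrime q := algebraMap R' (Localization.AtPrime q) (algebraMap R R' Δ) with hd
  have hkerπ : RingHom.ker π = Ideal.span {d} := by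
    refine le_antisymm (fun z hz => ?_) ((Ideal.span_singleton_le_iff_mem _).2 (RingHom.mem_ker.2 ?_))
    · obtain ⟨a, s, rfl⟩ := IsLocalization.exists_mk'_eq q.primeCompl z
      rw [RingHom.mem_ker, hπm, IsLocalization.mk'_eq_zero_iff] at hz
      obtain ⟨⟨c, hc⟩, hca⟩ := hz
      obtain ⟨c, rfl⟩ := Ideal.Quotient.mk_surjective c
      rw [← map_mul, Ideal.Quotient.eq_zero_iff_mem] at hca
      have hI : IS.map (algebraMap R' (Localization.AtPrime q)) = Ideal.span {d} := by
        simp [IS, I, d, Ideal.map_span]
      have hc' : c ∈ q.primeCompl := fun hm => hc (Ideal.mem_map_of_mem _ hm)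
      rw [← hI, IsLocalization.mk'_mem_iff]
      exact (Ideal.unit_mul_mem_iff_mem _ (IsLocalization.map_units _ ⟨c, hc'⟩)).1
        (map_mul (algebraMap R' (Localization.AtPrime q)) c a ▸ Ideal.mem_map_of_mem _ hca)
    · rw [hd, Localization.localRingHom_to_map]
      rw [Ideal.Quotient.eq_zero_iff_mem.2 (Ideal.mem_map_of_mem _ (Ideal.mem_span_singleton_self Δ)), map_zero]
  let J : Ideal T := (RingHom.ker π).map (algebraMap (Localization.AtPrime q) T)
  have hJ : J = Ideal.span {algebraMap (Localization.AtPrime q) T d} := by
    simp [J, hkerπ, Ideal.map_span]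
  have hJm : J ≤ maximalIdeal T := Ideal.map_le_iff_le_comap.2 fun a ha =>
    map_nonunit (algebraMap (Localization.AtPrime q) T) a
      (le_maximalIdeal (RingHom.ker_ne_top π) ha)
  haveI : Nontrivial (T ⧸ J) := Ideal.Quotient.nontrivial_iff.2
    (fun e => (maximalIdeal.isMaximal T).ne_top (top_le_iff.1 (e ▸ hJm)))
  haveI : IsLocalRing (T ⧸ J) := IsLocalRing.of_surjective' _ Ideal.Quotient.mk_surjective
  let φ : Localization.AtPrime q' →+* T ⧸ J := RingHom.liftOfSurjective π hπ
    ⟨(Ideal.Quotient.mk J).comp (algebraMap (Localization.AtPrime q) T), fun a ha =>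
      Ideal.Quotient.eq_zero_iff_mem.2 (Ideal.mem_map_of_mem _ ha)⟩
  letI : Algebra (Localization.AtPrime q') (T ⧸ J) := φ.toAlgebra
  have hc : (algebraMap (Localization.AtPrime q') (T ⧸ J)).comp π =
      (Ideal.Quotient.mk J).comp (algebraMap (Localization.AtPrime q) T) :=
    RingHom.ext fun a => by
      show φ (π a) = _
      exact RingHom.liftOfRightInverse_comp_apply π (Function.surjInv hπ) (Function.rightInverse_surjInv hπ) _ a
  haveI : IsLocalHom (algebraMap (Localization.AtPrime q') (T ⧸ J)) := ⟨fun x hx => by
    obtain ⟨a, rfl⟩ := hπ x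
    rw [← RingHom.comp_apply, hc] at hx
    haveI : IsLocalHom (Ideal.Quotient.mk J) := Ideal.Quotient.mk_surjective.isLocalHom
    exact (isUnit_of_map_unit (algebraMap (Localization.AtPrime q) T) a
      (isUnit_of_map_unit (Ideal.Quotient.mk J) _ hx)).map π⟩
  haveI := Unib7.isStrictHenselization_of_surjective π hπ (Ideal.Quotient.mk J) Ideal.Quotient.mk_surjective hc
    (le_of_eq Ideal.mk_ker)
  haveI : IsDomain (T ⧸ J) := (S2750.result (Localization.AtPrime q') (T ⧸ J)).1
    ⟨inferInstance, hgu⟩
  have hp : J.IsPrime := (Ideal.Quotient.isDomain_iff_prime J).1 inferInstance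
  rw [hJ] at hp
  refine (Ideal.span_singleton_prime ?_).1 hp
  haveI := Hensel.faithfullyFlat_of_isStrictHenselization (Localization.AtPrime q) T
  intro h0
  have hd0 : d = 0 := FaithfulSMul.algebraMap_injective (Localization.AtPrime q) T (h0.trans (map_zero _).symm)
  haveI : Module.Flat R (Localization.AtPrime q) := Module.Flat.trans R R' _
  haveI : IsLocalHom (algebraMap R (Localization.AtPrime q)) := ⟨fun r hr => by
    by_contra hn
    rw [IsScalarTower.algebraMap_apply R R' (Localization.AtPrime q),
      IsLocalization.AtPrime.isUnit_to_map_iff _ q] at hr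
    exact hr (hqR.ge (show r ∈ maximalIdeal R from hn))⟩
  haveI : Module.FaithfullyFlat R (Localization.AtPrime q) := Module.FaithfullyFlat.of_flat_of_isLocalHom
  refine hΔ.ne_zero (FaithfulSMul.algebraMap_injective R (Localization.AtPrime q) ?_)
  rw [map_zero, IsScalarTower.algebraMap_apply R R' (Localization.AtPrime q)]
  exact hd0

end Groth.Agent.S17730
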