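import Groth.Statements.S9460
import Groth.Agent.Hensel.TensorHenz
-- import your own Groth.Agent.* helpers here

set_option autoImplicit false
universe u
open Hensel

namespace Groth.Agent.S9460

open TensorProduct in
/-- Let R → S be a ring map, q a prime of S over p, and R^{sh}, S^{sh} strict henselizations of R_p and
S_q, S^{sh} carrying a compatible R^{sh}-algebra structure (a map R^{sh} → S^{sh} over R; these
correspond to the embeddings of separable closures in the published statement). Let φ : R^{sh} ⊗_R S
→ S^{sh} be the induced map and Q the preimage under φ of the maximal ideal (a prime over the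
maximal ideal of R^{sh} and over q). Then S^{sh} is a strict henselization of (R^{sh} ⊗_R S)_Q:
every strict henselization E of that local ring admits a ring isomorphism E ≅ S^{sh} compatible with
the two maps from R^{sh} ⊗_R S. -/
theorem result (R : Type u) [CommRing R]
    (S : Type u) [CommRing S] [Algebra R S] (p : Ideal R) [p.IsPrime] (q : Ideal S) [q.IsPrime]
    [q.LiesOver p]
    (Rh : Type u) [CommRing Rh] [IsLocalRing Rh] [Algebra (Localization.AtPrime p) Rh]
    [IsLocalHom (algebraMap (Localization.AtPrime p) Rh)]
    [Hensel.IsStrictHenselization (Localization.AtPrime p) Rh] [Algebra R Rh]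
    [IsScalarTower R (Localization.AtPrime p) Rh]
    (Sh : Type u) [CommRing Sh] [IsLocalRing Sh] [Algebra (Localization.AtPrime q) Sh]
    [IsLocalHom (algebraMap (Localization.AtPrime q) Sh)]
    [Hensel.IsStrictHenselization (Localization.AtPrime q) Sh] [Algebra S Sh]
    [IsScalarTower S (Localization.AtPrime q) Sh] [Algebra R Sh] [IsScalarTower R S Sh]
    [Algebra Rh Sh] [IsScalarTower R Rh Sh]
    (E : Type u) [CommRing E] [IsLocalRing E]
    [Algebra (Localization.AtPrime (Ideal.comap (Algebra.TensorProduct.lift (IsScalarTower.toAlgHom R Rh Sh) (IsScalarTower.toAlgHom R S Sh)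
          (fun _ _ => Commute.all _ _)) (IsLocalRing.maximalIdeal Sh))) E]
    [IsLocalHom (algebraMap (Localization.AtPrime
      (Ideal.comap (Algebra.TensorProduct.lift (IsScalarTower.toAlgHom R Rh Sh) (IsScalarTower.toAlgHom R S Sh)
          (fun _ _ => Commute.all _ _)) (IsLocalRing.maximalIdeal Sh))) E)]
    [Hensel.IsStrictHenselization (Localization.AtPrime
      (Ideal.comap (Algebra.TensorProduct.lift (IsScalarTower.toAlgHom R Rh Sh) (IsScalarTower.toAlgHom R S Sh)
          (fun _ _ => Commute.all _ _)) (IsLocalRing.maximalIdeal Sh))) E] :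
    ∃ e : E ≃+* Sh, ∀ d : Rh ⊗[R] S,
      e (algebraMap (Localization.AtPrime
        (Ideal.comap (Algebra.TensorProduct.lift (IsScalarTower.toAlgHom R Rh Sh) (IsScalarTower.toAlgHom R S Sh)
          (fun _ _ => Commute.all _ _)) (IsLocalRing.maximalIdeal Sh))) E
        (algebraMap (Rh ⊗[R] S) _ d)) = (Algebra.TensorProduct.lift (IsScalarTower.toAlgHom R Rh Sh) (IsScalarTower.toAlgHom R S Sh)
          (fun _ _ => Commute.all _ _)) d := by
  exact Groth.Agent.Hensel.strict_tensor R S p q Rh Sh E

end Groth.Agent.S9460
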