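import Groth.Statements.S13202
import Mathlib
import Groth.Agent.Hensel.Henselization
import Groth.Agent.S0540
import Groth.Agent.S9460
import Groth.Agent.S17730
-- import your own Groth.Agent.* helpers here

set_option autoImplicit false
universe u
open Hensel
open scoped TensorProduct

namespace Groth.Agent.S13202

/-- Let R be a Noetherian regular ring (every localization at a prime ideal is a regular local ring) and
Δ ∈ R. The element Δ is étale-universally prime — meaning that for every prime ideal p of R
containing Δ and every strict henselization T of R_p, the image of Δ in T is a prime element —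
exactly when for every smooth R-algebra R', every prime ideal q of R' and every strict henselization
T of R'_q, the image of Δ in T is either invertible or a prime element. (Smooth R-algebras and their
strict henselizations are taken in the universe of R.) -/
theorem result
    (R : Type u) [CommRing R] [IsNoetherianRing R]
    (hreg : ∀ (p : Ideal R) [p.IsPrime], IsRegularLocalRing (Localization.AtPrime p)) (Δ : R) :
    (∀ (p : Ideal R) [p.IsPrime], Δ ∈ p →
        ∀ (T : Type u) [CommRing T] [IsLocalRing T] [Algebra (Localization.AtPrime p) T]
          [IsLocalHom (algebraMap (Localization.AtPrime p) T)]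
          [Hensel.IsStrictHenselization (Localization.AtPrime p) T],
          Prime (algebraMap (Localization.AtPrime p) T (algebraMap R (Localization.AtPrime p) Δ))) ↔
    (∀ (R' : Type u) [CommRing R'] [Algebra R R'] [Algebra.Smooth R R'] (q : Ideal R') [q.IsPrime]
        (T : Type u) [CommRing T] [IsLocalRing T] [Algebra (Localization.AtPrime q) T]
          [IsLocalHom (algebraMap (Localization.AtPrime q) T)]
          [Hensel.IsStrictHenselization (Localization.AtPrime q) T],
        IsUnit (algebraMap (Localization.AtPrime q) T (algebraMap R' (Localization.AtPrime q) (algebraMap R R' Δ))) ∨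
          Prime (algebraMap (Localization.AtPrime q) T (algebraMap R' (Localization.AtPrime q) (algebraMap R R' Δ)))) := by
  classical
  constructor
  · intro h R' _ _ _ q _ T _ _ _ _ _
    by_cases hΔ : algebraMap R R' Δ ∈ q
    swap
    · exact Or.inl ((IsLocalization.map_units (Localization.AtPrime q) (⟨_, hΔ⟩ : q.primeCompl)).map _)
    right
    let p : Ideal R := q.comap (algebraMap R R')
    haveI : q.LiesOver p := ⟨rfl⟩
    haveI : IsRegularLocalRing (Localization.AtPrime p) := hreg p
    let Rh := Hensel.StrictHenz (Localization.AtPrime p)
    letI : Algebra R Rh := ((algebraMap (Localization.AtPrime p) Rh).comp (algebraMap R _)).toAlgebra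
    haveI : IsScalarTower R (Localization.AtPrime p) Rh := IsScalarTower.of_algebraMap_eq fun _ => rfl
    letI : Algebra R' T := ((algebraMap (Localization.AtPrime q) T).comp (algebraMap R' _)).toAlgebra
    haveI : IsScalarTower R' (Localization.AtPrime q) T := IsScalarTower.of_algebraMap_eq fun _ => rfl
    letI : Algebra R T := ((algebraMap R' T).comp (algebraMap R R')).toAlgebra
    haveI : IsScalarTower R R' T := IsScalarTower.of_algebraMap_eq fun _ => rfl
    haveI hT := ‹Hensel.IsStrictHenselization (Localization.AtPrime q) T›
    haveI := hT.henselian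
    have hcomap : (IsLocalRing.maximalIdeal T).comap (algebraMap R T) = p := by
      show (IsLocalRing.maximalIdeal T).comap ((algebraMap R' T).comp (algebraMap R R')) = _
      rw [← Ideal.comap_comap, Hensel.comap_algebraMap_atPrime R' q T]
    haveI : IsSepClosed (IsLocalRing.ResidueField T) := hT.isSepClosure.sep_closed
    have hRh : Hensel.IsStrictHenselization (Localization.AtPrime p) Rh := inferInstance
    haveI := hRh.henselian
    haveI : IsSepClosed (IsLocalRing.ResidueField Rh) := hRh.isSepClosure.sep_closed
    haveI := hRh.isSepClosure.separable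
    obtain ⟨F, hF, hFloc⟩ := Hensel.exists_localization_lift (algebraMap R T) hcomap
    letI : Algebra (IsLocalRing.ResidueField (Localization.AtPrime p)) (IsLocalRing.ResidueField T) :=
      (IsLocalRing.ResidueField.map F).toAlgebra
    let τ : IsLocalRing.ResidueField Rh →ₐ[IsLocalRing.ResidueField (Localization.AtPrime p)]
        IsLocalRing.ResidueField T := IsSepClosed.lift
    obtain ⟨g, hg, hgl, -⟩ := Hensel.strict_lift (Rh := Rh) (algebraMap R T) hcomap τ.toRingHom fun r => by
      refine (τ.commutes (IsLocalRing.residue _ (algebraMap R (Localization.AtPrime p) r))).trans ?_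
      exact congrArg (IsLocalRing.residue T) (RingHom.congr_fun hF r)
    letI : Algebra Rh T := g.toAlgebra
    haveI : IsScalarTower R Rh T := IsScalarTower.of_algebraMap_eq fun r => (RingHom.congr_fun hg r).symm
    haveI : IsNoetherianRing Rh := (S0540.result (Localization.AtPrime p) Rh).1 inferInstance
    let φ := Algebra.TensorProduct.lift (IsScalarTower.toAlgHom R Rh T) (IsScalarTower.toAlgHom R R' T)
      (fun _ _ => Commute.all _ _)
    let Q : Ideal (Rh ⊗[R] R') := (IsLocalRing.maximalIdeal T).comap φ
    haveI : Q.IsPrime := Ideal.IsPrime.comap _
    let E := Hensel.StrictHenz (Localization.AtPrime Q)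
    obtain ⟨e, he⟩ := S9460.result R R' p q Rh T E
    have hQ : (IsLocalRing.maximalIdeal Rh).map (algebraMap Rh (Rh ⊗[R] R')) ≤ Q := by
      refine Ideal.map_le_iff_le_comap.2 fun x hx => ?_
      show φ (x ⊗ₜ[R] 1) ∈ IsLocalRing.maximalIdeal T
      rw [Algebra.TensorProduct.lift_tmul, map_one, mul_one]
      exact map_nonunit g x hx
    have hP := S17730.result Rh (Rh ⊗[R] R') E Q hQ
      (algebraMap (Localization.AtPrime p) Rh (algebraMap R (Localization.AtPrime p) Δ)) (h p hΔ Rh)
    have := (MulEquiv.prime_iff e.toMulEquiv).2 hP
    convert this using 1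
    refine Eq.trans ?_ (he _).symm
    show _ = φ ((algebraMap R Rh Δ) ⊗ₜ[R] 1)
    rw [Algebra.TensorProduct.lift_tmul, map_one, mul_one]
    exact (RingHom.congr_fun hg Δ).symm
  · intro h p _ hΔ T _ _ _ _ _
    rcases h R p T with hu | hp
    · exact absurd (isUnit_of_map_unit (algebraMap (Localization.AtPrime p) T) _ hu) (by
        rw [IsLocalization.AtPrime.isUnit_to_map_iff _ p]
        exact fun hn => hn hΔ)
    · exact hp

end Groth.Agent.S13202
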