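import Groth.Statements.S13204
import Groth.Agent.S4433
import Mathlib.RingTheory.Polynomial.GaussLemma

set_option autoImplicit false
universe u
open Neron

namespace Groth.Agent.S13204

theorem exists_dvr_dominating (A : Type u) [CommRing A] [IsDomain A] [IsNoetherianRing A] [IsLocalRing A]
    (hA : ¬ IsField A) :
    ∃ (V : Type u) (_ : CommRing V) (_ : IsDomain V) (_ : IsDiscreteValuationRing V) (f : A →+* V),
      (∀ a ∈ IsLocalRing.maximalIdeal A, f a ∈ IsLocalRing.maximalIdeal V) ∧ Function.Injective f := by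
  obtain ⟨V, hV, hmem, hval⟩ := Groth.Agent.S4433.result A hA (FractionRing A) (FractionRing A)
    (IntermediateField.fg_def.mpr ⟨∅, Set.finite_empty, Subsingleton.elim _ _⟩)
  exact ⟨V, inferInstance, inferInstance, hV, (algebraMap A (FractionRing A)).codRestrict V.toSubring hmem,
    fun a ha => (V.valuation_lt_one_iff _).mpr (hval a ha),
    fun a b h => IsFractionRing.injective A (FractionRing A) (congrArg Subtype.val h)⟩

/-- Let R be a strictly henselian Noetherian local unique factorization domain and Δ₁, Δ₂ two non-units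
of R with no common prime factor. Then there are a discrete valuation ring A and an injective local
homomorphism f : R → A — so that Spec A → Spec R sends the closed point to the closed point and the
generic point to the generic point, which lies in every dense open subset — such that f(Δ₁) is a
non-zero non-unit and f(Δ₁) = u · f(Δ₂) for some unit u of A congruent to 1 modulo the maximal
ideal. (The published statement asks for the images of Δ₁ and Δ₂ in A to be equal, with the generic
point of Spec A sent into a given dense open subset of Spec R; that cannot hold in general — for R =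
ℂ[[a,b]], Δ₁ = a, Δ₂ = b and the dense open D(a − b), any local map to a discrete valuation ring
identifying a and b sends the generic point into V(a − b) — so this row asks instead for f(Δ₁) = u ·
f(Δ₂) with u a unit congruent to 1 modulo the maximal ideal.) -/
theorem result
    (R : Type u) [CommRing R] [IsDomain R] [IsNoetherianRing R] [UniqueFactorizationMonoid R]
    [HenselianLocalRing R] [IsSepClosed (IsLocalRing.ResidueField R)]
    (Δ₁ Δ₂ : R) (h₁ : ¬ IsUnit Δ₁) (h₂ : ¬ IsUnit Δ₂) (hcop : IsRelPrime Δ₁ Δ₂) :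
    ∃ (A : Type u) (_ : CommRing A) (_ : IsDomain A) (_ : IsDiscreteValuationRing A) (f : R →+* A),
      IsLocalHom f ∧ Function.Injective f ∧ ¬ IsUnit (f Δ₁) ∧
        ∃ u : Aˣ, (u : A) - 1 ∈ IsLocalRing.maximalIdeal A ∧ f Δ₁ = (u : A) * f Δ₂ := by
  classical
  have hΔ₂ : Δ₂ ≠ 0 := by
    rintro rfl
    exact h₁ (isRelPrime_zero_right.mp hcop)
  let K := FractionRing R
  let t : K := algebraMap R K Δ₁ / algebraMap R K Δ₂
  let ev : Polynomial R →+* K := (Polynomial.aeval t).toRingHom
  let χ : Polynomial R →+* IsLocalRing.ResidueField R :=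
    (Polynomial.eval₂RingHom (IsLocalRing.residue R) 1)
  have hlin : (Polynomial.C Δ₂ * Polynomial.X + Polynomial.C (-Δ₁)).IsPrimitive := by
    intro r hr
    refine hcop ?_ ?_
    · have := (Polynomial.C_dvd_iff_dvd_coeff _ _).mp hr 0
      simpa using this
    · have := (Polynomial.C_dvd_iff_dvd_coeff _ _).mp hr 1
      simpa using this
  have hker : RingHom.ker ev ≤ RingHom.ker χ := by
    intro P hP
    have hroot : (P.map (algebraMap R K)).IsRoot t := by
      rw [Polynomial.IsRoot, Polynomial.eval_map, ← Polynomial.aeval_def]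
      exact hP
    have hΔ₂K : algebraMap R K Δ₂ ≠ 0 := (map_ne_zero_iff _ (IsFractionRing.injective R K)).mpr hΔ₂
    have hdvd : (Polynomial.C Δ₂ * Polynomial.X + Polynomial.C (-Δ₁)).map (algebraMap R K) ∣ P.map (algebraMap R K) := by
      have h : (Polynomial.C Δ₂ * Polynomial.X + Polynomial.C (-Δ₁)).map (algebraMap R K) =
          Polynomial.C (algebraMap R K Δ₂) * (Polynomial.X - Polynomial.C t) := by
        rw [mul_sub, ← Polynomial.C_mul, show algebraMap R K Δ₂ * t = algebraMap R K Δ₁ from mul_div_cancel₀ _ hΔ₂K]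
        simp [sub_eq_add_neg]
      rw [h]
      exact (IsUnit.mul_left_dvd (Polynomial.isUnit_C.mpr hΔ₂K.isUnit)).mpr (Polynomial.dvd_iff_isRoot.mpr hroot)
    obtain ⟨Q, rfl⟩ := Polynomial.IsPrimitive.dvd_of_fraction_map_dvd_fraction_map hlin hdvd
    have h1 : IsLocalRing.residue R Δ₁ = 0 := (IsLocalRing.residue_eq_zero_iff _).mpr h₁
    have h2 : IsLocalRing.residue R Δ₂ = 0 := (IsLocalRing.residue_eq_zero_iff _).mpr h₂
    simp [RingHom.mem_ker, χ, h1, h2]
  let R' := Polynomial R ⧸ RingHom.ker ev
  haveI : (RingHom.ker ev).IsPrime := RingHom.ker_isPrime ev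
  haveI : IsNoetherianRing R' := inferInstanceAs (IsNoetherianRing (Polynomial R ⧸ RingHom.ker ev))
  let χ' : R' →+* IsLocalRing.ResidueField R := Ideal.Quotient.lift _ χ fun a ha => hker ha
  haveI : (RingHom.ker χ').IsPrime := RingHom.ker_isPrime χ'
  let A0 := Localization.AtPrime (RingHom.ker χ')
  let ι : R →+* R' := (Ideal.Quotient.mk _).comp Polynomial.C
  have hιinj : Function.Injective ι := fun a b h => by
    refine IsFractionRing.injective R K ?_
    have := Ideal.Quotient.eq.mp h
    rw [RingHom.mem_ker, map_sub] at this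
    simpa [ev, sub_eq_zero] using this
  have hιm : ∀ a, ¬ IsUnit a → ι a ∈ RingHom.ker χ' := fun a ha => by
    have : IsLocalRing.residue R a = 0 := (IsLocalRing.residue_eq_zero_iff _).mpr ha
    show χ (Polynomial.C a) = 0
    simp [χ, this]
  haveI : IsDomain A0 := IsLocalization.isDomain_localization (Ideal.primeCompl_le_nonZeroDivisors _)
  haveI : IsNoetherianRing A0 := IsLocalization.isNoetherianRing (RingHom.ker χ').primeCompl _ inferInstance
  have hA0inj : Function.Injective (algebraMap R' A0) :=
    IsLocalization.injective A0 (Ideal.primeCompl_le_nonZeroDivisors (RingHom.ker χ'))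
  have hA0 : ¬ IsField A0 := fun hF => by
    have h1 : algebraMap R' A0 (ι Δ₂) ∈ IsLocalRing.maximalIdeal A0 :=
      (IsLocalization.AtPrime.to_map_mem_maximal_iff A0 (RingHom.ker χ') _).mpr (hιm _ h₂)
    rw [IsLocalRing.isField_iff_maximalIdeal_eq.mp hF, Ideal.mem_bot] at h1
    exact hΔ₂ (hιinj (hA0inj (by rw [h1, map_zero, map_zero])))
  obtain ⟨V, _, _, hV, f0, hf0m, hf0inj⟩ := exists_dvr_dominating A0 hA0
  let T : R' := Ideal.Quotient.mk _ Polynomial.X
  have hrel : ι Δ₁ = T * ι Δ₂ := by
    rw [show ι Δ₁ = Ideal.Quotient.mk _ (Polynomial.C Δ₁) from rfl, show ι Δ₂ = Ideal.Quotient.mk _ (Polynomial.C Δ₂) from rfl,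
      ← map_mul, Ideal.Quotient.eq, RingHom.mem_ker, map_sub, map_mul]
    have hΔ₂K : algebraMap R K Δ₂ ≠ 0 := (map_ne_zero_iff _ (IsFractionRing.injective R K)).mpr hΔ₂
    simp [ev, t, div_mul_cancel₀ _ hΔ₂K]
  have hT : f0 (algebraMap R' A0 T) - 1 ∈ IsLocalRing.maximalIdeal V := by
    rw [← map_one f0, ← map_sub, ← map_one (algebraMap R' A0), ← map_sub]
    refine hf0m _ ((IsLocalization.AtPrime.to_map_mem_maximal_iff A0 (RingHom.ker χ') _).mpr ?_)
    rw [RingHom.mem_ker, map_sub, map_one, show χ' T = χ Polynomial.X from rfl]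
    simp [χ]
  have hu : IsUnit (f0 (algebraMap R' A0 T)) := by
    by_contra h
    apply (IsLocalRing.maximalIdeal.isMaximal V).ne_top
    rw [Ideal.eq_top_iff_one]
    have h' : f0 (algebraMap R' A0 T) ∈ IsLocalRing.maximalIdeal V := h
    simpa using (IsLocalRing.maximalIdeal V).sub_mem h' hT
  refine ⟨V, inferInstance, inferInstance, hV, f0.comp ((algebraMap R' A0).comp ι), ⟨fun a ha => ?_⟩,
    hf0inj.comp (hA0inj.comp hιinj), ?_, hu.unit, hT, ?_⟩
  · by_contra h
    exact hf0m _ ((IsLocalization.AtPrime.to_map_mem_maximal_iff A0 (RingHom.ker χ') _).mpr (hιm a h)) ha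
  · exact hf0m _ ((IsLocalization.AtPrime.to_map_mem_maximal_iff A0 (RingHom.ker χ') _).mpr (hιm Δ₁ h₁))
  · show f0 (algebraMap R' A0 (ι Δ₁)) = f0 (algebraMap R' A0 T) * f0 (algebraMap R' A0 (ι Δ₂))
    rw [hrel, map_mul, map_mul]

end Groth.Agent.S13204
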