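import Groth.Statements.S13205
import Groth.Agent.Abh24.Regular
-- import your own Groth.Agent.* helpers here

set_option autoImplicit false
set_option backward.isDefEq.respectTransparency false
set_option backward.isDefEq.respectTransparency.types false
set_option linter.style.haveILetI false
universe u
open IsLocalRing
open SGA1

namespace Groth.Agent.S13205

/-- Let A be a strictly henselian regular local ring, f_1, …, f_r elements of the maximal ideal of A
whose images in m_A/m_A² are linearly independent (so that V(f_1 ⋯ f_r) is a strict normal crossings
divisor with complement U = D(f_1 ⋯ f_r)), and S' = Spec B → Spec A a finite locally free morphism,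
tamely ramified along the f_i and étale over U, with S' connected and regular (B an integral domain
with regular local rings). Then S' is a Kummer covering: for some integers n_i ≥ 1 prime to the
residue characteristic, B is isomorphic as an A-algebra to A[T_1, …, T_r]/(T_i^{n_i} − f_i). -/
theorem result
    (A : Type u) [CommRing A] [IsRegularLocalRing A] [IsDomain A] [HenselianLocalRing A]
    [IsSepClosed (ResidueField A)] (r : ℕ) (f : Fin r → A)
    (hm : ∀ i, f i ∈ maximalIdeal A)
    (hf : LinearIndependent (ResidueField A) (fun i => (maximalIdeal A).toCotangent ⟨f i, hm i⟩))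
    [∀ i, (Ideal.span {f i}).IsPrime]
    (B : Type u) [CommRing B] [IsDomain B] [Algebra A B] [Module.Finite A B] [Module.Free A B]
    (hreg : ∀ (q : Ideal B) [q.IsPrime], IsRegularLocalRing (Localization.AtPrime q))
    [Algebra.Etale (Localization.Away (∏ i, f i)) (TensorProduct A (Localization.Away (∏ i, f i)) B)]
    (htame : SGA1.IsTameAlong f (algebraMap A B)) :
    ∃ n : Fin r → ℕ, (∀ i, 1 ≤ n i) ∧ (∀ i, IsUnit ((n i : ℕ) : ResidueField A)) ∧
      Nonempty (B ≃ₐ[A] SGA1.kummerAlg A f n) := by
  exact Groth.Agent.Abh24.exists_equiv_kummer A f hm hf B hreg htame

end Groth.Agent.S13205
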