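import Groth.Statements.S13206
import Mathlib.AlgebraicGeometry.IdealSheaf.Functorial
import Mathlib.AlgebraicGeometry.Morphisms.ClosedImmersion

set_option autoImplicit false
universe u
open CategoryTheory AlgebraicGeometry
open AlgGrp

namespace Groth.Agent.S13206

/-- Let X → S be a separated morphism of schemes and let a finite group G act on X through
S-automorphisms. Then the functor of G-fixed points is represented by a closed subscheme of X: there
are a scheme Z and a closed immersion i : Z → X with i ∘ g = i for all g ∈ G such that every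
morphism x : T → X with g ∘ x = x for all g ∈ G factors uniquely through i. (The published statement
is for an algebraic space X over S, also treats the locally separated case and notes compatibility
with base change; this row is the separated case for schemes.) -/
theorem result
    {X S : Scheme.{u}} (p : X ⟶ S) [IsSeparated p]
    (G : Type u) [Group G] [Finite G] (ρ : G →* Aut X) (hρ : ∀ g : G, (ρ g).hom ≫ p = p) :
    ∃ (Z : Scheme.{u}) (i : Z ⟶ X), IsClosedImmersion i ∧ (∀ g : G, i ≫ (ρ g).hom = i) ∧
      ∀ (T : Scheme.{u}) (x : T ⟶ X), (∀ g : G, x ≫ (ρ g).hom = x) → ∃! z : T ⟶ Z, z ≫ i = x := by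
  let Δ := Limits.pullback.diagonal p
  let γ : G → (X ⟶ Limits.pullback p p) := fun g =>
    Limits.pullback.lift (𝟙 X) (ρ g).hom (by rw [Category.id_comp, hρ])
  let e : ∀ g, Limits.pullback (γ g) Δ ⟶ X := fun g => Limits.pullback.fst _ _
  have fac : ∀ (T : Scheme.{u}) (x : T ⟶ X) (g : G), x ≫ (ρ g).hom = x ↔ (e g).ker ≤ x.ker := by
    intro T x g
    constructor
    · intro hx
      have hl : Limits.pullback.lift (f := γ g) (g := Δ) x x
          (by apply Limits.pullback.hom_ext <;> simp only [γ, Δ, Category.assoc, Limits.pullback.lift_fst, Limits.pullback.lift_snd, Limits.pullback.diagonal_fst, Limits.pullback.diagonal_snd, Category.comp_id, hx]) ≫ e g = x := Limits.pullback.lift_fst _ _ _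
      rw [← hl]
      exact Scheme.Hom.le_ker_comp _ _
    · intro hle
      rw [← IsClosedImmersion.lift_fac (e g) x hle, Category.assoc]
      congr 1
      have c1 := congrArg (· ≫ Limits.pullback.fst p p) (Limits.pullback.condition (f := γ g) (g := Δ))
      have c2 := congrArg (· ≫ Limits.pullback.snd p p) (Limits.pullback.condition (f := γ g) (g := Δ))
      simp only [γ, Δ, Category.assoc, Limits.pullback.lift_fst, Limits.pullback.lift_snd, Limits.pullback.diagonal_fst, Limits.pullback.diagonal_snd, Category.comp_id] at c1 c2
      exact c2.trans c1.symm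
  refine ⟨(⨆ g, (e g).ker).subscheme, (⨆ g, (e g).ker).subschemeι, inferInstance, fun g => ?_, fun T x hx => ?_⟩
  · rw [fac, Scheme.IdealSheafData.ker_subschemeι]
    exact le_iSup (fun g => (e g).ker) g
  · have hle : (⨆ g, (e g).ker).subschemeι.ker ≤ x.ker := by
      rw [Scheme.IdealSheafData.ker_subschemeι]
      exact iSup_le fun g => (fac T x g).mp (hx g)
    refine ⟨IsClosedImmersion.lift _ x hle, IsClosedImmersion.lift_fac _ _ _, fun z hz => ?_⟩
    rw [← cancel_mono (⨆ g, (e g).ker).subschemeι, hz, IsClosedImmersion.lift_fac]

end Groth.Agent.S13206
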