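import Groth.Statements.S13207
import Mathlib.AlgebraicGeometry.Morphisms.Smooth
import Mathlib.AlgebraicGeometry.Limits

set_option autoImplicit false
universe u
open CategoryTheory CategoryTheory.Limits AlgebraicGeometry
open Neron

namespace Groth.Agent.S13207

/-- Let (S_i)_{i ∈ I} be a family of schemes, (N_i → S_i)_{i ∈ I} morphisms of schemes, S = ∐ S_i and N
= ∐ N_i with the induced morphism N → S, and U ⊆ S a schematically dense open subscheme with
preimages U_i ⊆ S_i. Then N → S is smooth with the Néron mapping property with respect to U — for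
every smooth S-scheme Y, restriction to U is a bijection from S-morphisms Y → N onto U-morphisms Y
×_S U → N ×_S U — if and only if every N_i → S_i is smooth with the Néron mapping property with
respect to U_i. (The published statement is for algebraic spaces N_i tested against smooth algebraic
spaces, and has the same form for separated models; this row is the not-necessarily-separated case
for schemes tested against smooth schemes.) -/
theorem result
    {I : Type u} (B N : I → Scheme.{u}) (f : ∀ i, N i ⟶ B i)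
    (U : (∐ B).Opens) (hU : CInt.IsSchematicallyDense U) :
    (Smooth (Limits.Sigma.map f) ∧ ∀ Y : Over (∐ B), Smooth Y.hom →
        Function.Bijective (fun g : Y ⟶ Over.mk (Limits.Sigma.map f) => (Over.pullback U.ι).map g)) ↔
    ∀ i, Smooth (f i) ∧ ∀ Y : Over (B i), Smooth Y.hom →
        Function.Bijective (fun g : Y ⟶ Over.mk (f i) => (Over.pullback ((Limits.Sigma.ι B i) ⁻¹ᵁ U).ι).map g) := by
  have crit : ∀ {S N' : Scheme.{u}} (U : S.Opens) (p : N' ⟶ S) (Y : Over S),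
      Function.Bijective (fun g : Y ⟶ Over.mk p => (Over.pullback U.ι).map g) ↔
      ∀ h : (Y.hom ⁻¹ᵁ U).toScheme ⟶ N', h ≫ p = (Y.hom ⁻¹ᵁ U).ι ≫ Y.hom →
        ∃! g : Y.left ⟶ N', g ≫ p = Y.hom ∧ (Y.hom ⁻¹ᵁ U).ι ≫ g = h := by
    intro S N' U p Y
    let e := pullbackRestrictIsoRestrict Y.hom U
    have hmap : ∀ g : Y ⟶ Over.mk p, ((Over.pullback U.ι).map g).left ≫ pullback.fst p U.ι =
        pullback.fst Y.hom U.ι ≫ g.left := fun g => pullback.lift_fst _ _ _
    have hsnd : ∀ m : (Over.pullback U.ι).obj Y ⟶ (Over.pullback U.ι).obj (Over.mk p),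
        m.left ≫ pullback.snd p U.ι = pullback.snd Y.hom U.ι := fun m => Over.w m
    rw [Function.bijective_iff_existsUnique]
    constructor
    · intro H h hh
      let l : pullback Y.hom U.ι ⟶ pullback p U.ι := pullback.lift (e.hom ≫ h) (pullback.snd _ _) (by
        rw [Category.assoc, hh, pullbackRestrictIsoRestrict_hom_ι_assoc, pullback.condition])
      let m : (Over.pullback U.ι).obj Y ⟶ (Over.pullback U.ι).obj (Over.mk p) :=
        Over.homMk l (pullback.lift_snd _ _ _)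
      have hm : m.left ≫ pullback.fst p U.ι = e.hom ≫ h := pullback.lift_fst _ _ _
      obtain ⟨g, hg, huniq⟩ := H m
      refine ⟨g.left, ⟨Over.w g, ?_⟩, ?_⟩
      · have h1 := hmap g
        rw [show (Over.pullback U.ι).map g = m from hg, hm, ← pullbackRestrictIsoRestrict_hom_ι,
          Category.assoc] at h1
        exact ((cancel_epi e.hom).1 h1).symm
      · rintro g' ⟨hg1, hg2⟩
        refine congrArg CommaMorphism.left (huniq (Over.homMk g' hg1) ?_)
        refine Over.OverMorphism.ext (pullback.hom_ext ?_ ((hsnd _).trans (hsnd _).symm))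
        refine (hmap _).trans (Eq.trans ?_ hm.symm)
        show pullback.fst Y.hom U.ι ≫ g' = e.hom ≫ h
        rw [← hg2, pullbackRestrictIsoRestrict_hom_ι_assoc]
    · intro H m
      have hw : (e.inv ≫ m.left ≫ pullback.fst p U.ι) ≫ p = (Y.hom ⁻¹ᵁ U).ι ≫ Y.hom := by
        rw [Category.assoc, Category.assoc, pullback.condition, reassoc_of% (hsnd m), ← pullback.condition,
          pullbackRestrictIsoRestrict_inv_fst_assoc]
      obtain ⟨g, ⟨hg1, hg2⟩, huniq⟩ := H _ hw
      refine ⟨Over.homMk g hg1, ?_, ?_⟩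
      · refine Over.OverMorphism.ext (pullback.hom_ext ?_ ((hsnd _).trans (hsnd _).symm))
        refine (hmap _).trans ?_
        show pullback.fst Y.hom U.ι ≫ g = m.left ≫ pullback.fst p U.ι
        rw [← cancel_epi e.inv, pullbackRestrictIsoRestrict_inv_fst_assoc, hg2]
      · intro g' hg'
        refine Over.OverMorphism.ext (huniq g'.left ⟨Over.w g', ?_⟩)
        rw [← show (Over.pullback U.ι).map g' = m from hg', hmap, pullbackRestrictIsoRestrict_inv_fst_assoc]
  have hpb : ∀ j, IsPullback (Sigma.ι N j) (f j) (Limits.Sigma.map f) (Sigma.ι B j) := fun j => by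
    refine (IsOpenImmersion.isPullback (f j) (Sigma.ι N j) (Sigma.ι B j) (Limits.Sigma.map f) (by simp) ?_).flip
    ext z
    obtain ⟨(k : I), (w : N k), (rfl : Sigma.ι N k w = z)⟩ := (sigmaOpenCover N).exists_eq z
    have hk : (Limits.Sigma.map f) (Sigma.ι N k w) = Sigma.ι B k (f k w) := by
      rw [← Scheme.Hom.comp_apply, Limits.Sigma.ι_map, Scheme.Hom.comp_apply]
    constructor
    · rintro ⟨x, hx⟩
      obtain ⟨rfl⟩ := (sigmaι_eq_iff B _ _ _ _).mp (hx.trans hk)
      exact ⟨w, rfl⟩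
    · rintro ⟨x, hx⟩
      obtain ⟨rfl⟩ := (sigmaι_eq_iff N _ _ _ _).mp hx
      exact ⟨_, hk.symm⟩
  constructor
  · rintro ⟨hsm, hb⟩ i
    refine ⟨MorphismProperty.of_isPullback (hpb i) hsm, fun Y hY => (crit _ (f i) Y).2 fun h hh => ?_⟩
    haveI := hY
    have hY' : Smooth (Over.mk (Y.hom ≫ Sigma.ι B i)).hom := inferInstanceAs (Smooth (Y.hom ≫ Sigma.ι B i))
    have hh' : (h ≫ Sigma.ι N i) ≫ Limits.Sigma.map f =
        (Y.hom ⁻¹ᵁ (Sigma.ι B i ⁻¹ᵁ U)).ι ≫ Y.hom ≫ Sigma.ι B i := by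
      rw [Category.assoc, Sigma.ι_map, reassoc_of% hh]
    obtain ⟨g, ⟨hg1, hg2⟩, huniq⟩ := (crit U _ _).1 (hb _ hY') (h ≫ Sigma.ι N i) hh'
    change Y.left ⟶ ∐ N at g
    have hl1 : (hpb i).lift g Y.hom hg1 ≫ Sigma.ι N i = g := (hpb i).lift_fst _ _ _
    refine ⟨(hpb i).lift g Y.hom hg1, ⟨(hpb i).lift_snd _ _ _, ?_⟩, ?_⟩
    · rw [← cancel_mono (Sigma.ι N i), Category.assoc, hl1]
      exact hg2
    · rintro g' ⟨h1, h2⟩
      rw [← cancel_mono (Sigma.ι N i), hl1]
      refine huniq _ ⟨?_, ?_⟩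
      · show (g' ≫ Sigma.ι N i) ≫ Limits.Sigma.map f = Y.hom ≫ Sigma.ι B i
        rw [Category.assoc, Sigma.ι_map, reassoc_of% h1]
      · show (Y.hom ⁻¹ᵁ (Sigma.ι B i ⁻¹ᵁ U)).ι ≫ g' ≫ Sigma.ι N i = h ≫ Sigma.ι N i
        exact (Category.assoc _ _ _).symm.trans (congrArg (· ≫ Sigma.ι N i) h2)
  · intro H
    haveI hloc : IsZariskiLocalAtTarget @Smooth.{u} := HasRingHomProperty.instIsZariskiLocalAtTarget _
    haveI hiso : MorphismProperty.RespectsIso @Smooth.{u} := MorphismProperty.IsStableUnderBaseChange.respectsIso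
    refine ⟨IsZariskiLocalAtTarget.of_openCover (P := @Smooth.{u}) (sigmaOpenCover B) fun j => ((MorphismProperty.arrow_mk_iso_iff @Smooth.{u} (Arrow.isoMk (hpb j).isoPullback (Iso.refl _) ((hpb j).isoPullback_hom_snd.trans (Category.comp_id _).symm))).1 (H j).1), fun Y hY => (crit U _ Y).2 fun h hh => ?_⟩
    haveI := hY
    let P : I → Scheme.{u} := fun i => pullback Y.hom (Sigma.ι B i)
    let W : ∀ i, (P i).Opens := fun i => pullback.snd Y.hom (Sigma.ι B i) ⁻¹ᵁ (Sigma.ι B i ⁻¹ᵁ U)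
    have hW : ∀ i, W i ≤ pullback.fst Y.hom (Sigma.ι B i) ⁻¹ᵁ (Y.hom ⁻¹ᵁ U) := fun i => by
      show W i ≤ (pullback.fst Y.hom (Sigma.ι B i) ≫ Y.hom) ⁻¹ᵁ U
      rw [pullback.condition]
      exact le_rfl
    let r : ∀ i, (W i).toScheme ⟶ (Y.hom ⁻¹ᵁ U).toScheme := fun i =>
      (pullback.fst Y.hom (Sigma.ι B i)).resLE _ (W i) (hW i)
    have hr : ∀ i, r i ≫ (Y.hom ⁻¹ᵁ U).ι = (W i).ι ≫ pullback.fst Y.hom (Sigma.ι B i) := fun i =>
      Scheme.Hom.resLE_comp_ι _ _
    have hcond : ∀ i, (r i ≫ h) ≫ Limits.Sigma.map f =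
        ((W i).ι ≫ pullback.snd Y.hom (Sigma.ι B i)) ≫ Sigma.ι B i := fun i => by
      rw [Category.assoc, show h ≫ Limits.Sigma.map f = _ from hh, reassoc_of% (hr i), Category.assoc,
        pullback.condition]
    let hi : ∀ i, (W i).toScheme ⟶ N i := fun i => (hpb i).lift _ _ (hcond i)
    have hi1 : ∀ i, hi i ≫ f i = (W i).ι ≫ pullback.snd Y.hom (Sigma.ι B i) := fun i => (hpb i).lift_snd _ _ _
    have hi2 : ∀ i, hi i ≫ Sigma.ι N i = r i ≫ h := fun i => (hpb i).lift_fst _ _ _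
    have hsolve : ∀ i, ∃! g : P i ⟶ N i, g ≫ f i = pullback.snd Y.hom (Sigma.ι B i) ∧ (W i).ι ≫ g = hi i := fun i => by
      have hsm : Smooth (Over.mk (pullback.snd Y.hom (Sigma.ι B i))).hom :=
        inferInstanceAs (Smooth (pullback.snd Y.hom (Sigma.ι B i)))
      exact (crit _ (f i) _).1 ((H i).2 _ hsm) (hi i) (hi1 i)
    choose gi hgi hguniq using hsolve
    let 𝒰 : Y.left.OpenCover := (sigmaOpenCover B).pullback₁ Y.hom
    have hcompat : ∀ i j, pullback.fst (pullback.fst Y.hom (Sigma.ι B i)) (pullback.fst Y.hom (Sigma.ι B j)) ≫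
        gi i ≫ Sigma.ι N i = pullback.snd _ _ ≫ gi j ≫ Sigma.ι N j := by
      intro i j
      by_cases hij : i = j
      · subst hij
        rw [fst_eq_snd_of_mono_eq]
      · let q : pullback (pullback.fst Y.hom (Sigma.ι B i)) (pullback.fst Y.hom (Sigma.ι B j)) ⟶
            pullback (Sigma.ι B i) (Sigma.ι B j) :=
          pullback.lift (pullback.fst _ _ ≫ pullback.snd _ _) (pullback.snd _ _ ≫ pullback.snd _ _) (by
            rw [Category.assoc, ← pullback.condition, pullback.condition_assoc, pullback.condition, Category.assoc])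
        haveI : IsEmpty ↑(pullback (Sigma.ι B i) (Sigma.ι B j)) :=
          isEmpty_pullback_sigmaι_of_ne B hij
        haveI := Function.isEmpty q.base
        exact isInitialOfIsEmpty.hom_ext _ _
    let G : Y.left ⟶ ∐ N := 𝒰.glueMorphisms (fun i => gi i ≫ Sigma.ι N i) hcompat
    have hG : ∀ i : I, pullback.fst Y.hom (Sigma.ι B i) ≫ G = gi i ≫ Sigma.ι N i := fun i =>
      Scheme.Cover.ι_glueMorphisms 𝒰 _ _ i
    refine ⟨G, ⟨?_, ?_⟩, ?_⟩
    · refine Scheme.Cover.hom_ext 𝒰 _ _ fun (i : I) => ?_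
      show pullback.fst Y.hom (Sigma.ι B i) ≫ G ≫ Limits.Sigma.map f = pullback.fst Y.hom (Sigma.ι B i) ≫ Y.hom
      rw [reassoc_of% (hG i)]
      show (gi i ≫ Sigma.ι N i) ≫ Limits.Sigma.map f = pullback.fst Y.hom (Sigma.ι B i) ≫ Y.hom
      rw [Category.assoc, Sigma.ι_map, reassoc_of% (hgi i).1, pullback.condition]
    · refine Scheme.hom_ext_of_forall _ _ fun w => ?_
      obtain ⟨(i : I), (z : P i), (hz : pullback.fst Y.hom (Sigma.ι B i) z = (Y.hom ⁻¹ᵁ U).ι w)⟩ := 𝒰.exists_eq ((Y.hom ⁻¹ᵁ U).ι w)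
      have hzW : z ∈ W i := by
        show z ∈ (pullback.snd Y.hom (Sigma.ι B i) ≫ Sigma.ι B i) ⁻¹ᵁ U
        rw [← pullback.condition]
        show Y.hom (pullback.fst Y.hom (Sigma.ι B i) z) ∈ U
        rw [hz]
        exact w.2
      have hoi : IsOpenImmersion (r i) := by
        haveI : IsOpenImmersion (r i ≫ (Y.hom ⁻¹ᵁ U).ι) := by rw [hr i]; infer_instance
        exact IsOpenImmersion.of_comp _ (Y.hom ⁻¹ᵁ U).ι
      refine ⟨(r i).opensRange, ⟨⟨z, hzW⟩, (Y.hom ⁻¹ᵁ U).ι.isOpenEmbedding.injective ?_⟩, ?_⟩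
      · exact (Scheme.Hom.comp_apply (r i) (Y.hom ⁻¹ᵁ U).ι ⟨z, hzW⟩).symm.trans
          ((congrArg (fun φ : (W i).toScheme ⟶ Y.left => φ ⟨z, hzW⟩) (hr i)).trans hz)
      · rw [← cancel_epi (r i).isoOpensRange.hom, Scheme.Hom.isoOpensRange_hom_ι_assoc,
          Scheme.Hom.isoOpensRange_hom_ι_assoc, reassoc_of% (hr i), ← hi2 i, ← (hgi i).2, Category.assoc]
        rw [hG i]
    · rintro g' ⟨h1, h2⟩
      refine Scheme.Cover.hom_ext 𝒰 _ _ fun (i : I) => ?_
      have hw : (pullback.fst Y.hom (Sigma.ι B i) ≫ g') ≫ Limits.Sigma.map f =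
          pullback.snd Y.hom (Sigma.ι B i) ≫ Sigma.ι B i := by
        rw [Category.assoc, show g' ≫ Limits.Sigma.map f = Y.hom from h1, pullback.condition]
      have hl : (hpb i).lift _ _ hw ≫ Sigma.ι N i = pullback.fst Y.hom (Sigma.ι B i) ≫ g' := (hpb i).lift_fst _ _ _
      show pullback.fst Y.hom (Sigma.ι B i) ≫ g' = pullback.fst Y.hom (Sigma.ι B i) ≫ G
      rw [hG i]
      rw [← hl, hguniq i _ ⟨(hpb i).lift_snd _ _ _, by
        rw [← cancel_mono (Sigma.ι N i), Category.assoc, hl, hi2 i, ← h2, reassoc_of% (hr i)]⟩]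

end Groth.Agent.S13207
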