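import Groth.Statements.S13209
import Groth.Agent.AlgSpDec.LqfSplitZ

set_option autoImplicit false
universe u
open CategoryTheory CategoryTheory.Limits AlgebraicGeometry
open Neron

namespace Groth.Agent.S13209

/-- Let S be a scheme, U ⊆ S a schematically dense open subscheme and N → S a smooth S-scheme with the
Néron mapping property for schemes with respect to U: for every smooth S-scheme Y, composition with
the projection Y ×_S U → Y is a bijection from S-morphisms Y → N onto S-morphisms Y ×_S U → N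
(equivalently, onto U-morphisms Y ×_S U → N ×_S U). Then N also has the Néron mapping property with
respect to smooth algebraic spaces: for every algebraic space F over S (an fppf sheaf of sets on
S-schemes with representable diagonal and an étale surjective chart from a scheme) whose structure
map to h_S is smooth, composition with the first projection F × h_U → F is a bijection from
morphisms of sheaves F → h_N onto morphisms F × h_U → h_N. -/
theorem result
    {S : Scheme.{u}} (U : S.Opens) (hU : CInt.IsSchematicallyDense U) (N : Over S) [Smooth N.hom]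
    (hN : ∀ Y : Over S, Smooth Y.hom →
      Function.Bijective (fun g : Y ⟶ N => (Over.mapPullbackAdj U.ι).counit.app Y ≫ g))
    (F : AlgSp.Sp S) (hF : AlgSp.IsAlgSpace F)
    (sF : F ⟶ (AlgSp.yon S).obj (Over.mk (𝟙 S))) (hsm : AlgSp.LocP @Smooth sF) :
    Function.Bijective (fun φ : F ⟶ (AlgSp.yon S).obj N =>
      (Limits.prod.fst : F ⨯ (AlgSp.yon S).obj (Over.mk U.ι) ⟶ F) ≫ φ) := by
  classical
  obtain ⟨V, p, hpe, hps⟩ := hF.atlas
  haveI := Groth.Agent.AlgSpLib.isLocallySurjective_of_etale_surjective hpe hps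
  haveI := Groth.Agent.AlgSpLib.epi_of_etale_surjective hpe hps
  -- charts are smooth
  have smooth_chart : ∀ (T : Over S) (a : (AlgSp.yon S).obj T ⟶ F), AlgSp.RepWith @Etale a → Smooth T.hom := by
    intro T a ha
    obtain ⟨h, hh⟩ := (AlgSp.yon S).map_surjective (a ≫ sF)
    have := hsm a (𝟙 _) h ha (AlgSp.repWith_id _ _) (by rw [Category.comp_id, hh])
    rwa [show h.left = T.hom from (Category.comp_id h.left).symm.trans (Over.w h)] at this
  let R := hpe.rep.pullback p
  let s : R ⟶ V := hpe.rep.snd p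
  obtain ⟨t, ht⟩ := (AlgSp.yon S).map_surjective (hpe.rep.fst p)
  have sq : IsPullback ((AlgSp.yon S).map t) ((AlgSp.yon S).map s) p p := by
    rw [ht]; exact hpe.rep.isPullback p
  have hs : Etale s.left := hpe.property_snd p
  have hV : Smooth V.hom := smooth_chart V p hpe
  have hR : Smooth R.hom := by
    refine smooth_chart R ((AlgSp.yon S).map s ≫ p) ?_
    exact MorphismProperty.comp_mem _ _ _ ((AlgSp.repWith_yon_map_iff _ _).2 hs) hpe
  -- the restriction to `U` of a chart, mapping to the product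
  let B : Over U.toScheme := Over.mk (𝟙 _)
  let WU : Over S ⥤ Over S := Over.pullback U.ι ⋙ Over.map U.ι
  let cU : ∀ T : Over S, WU.obj T ⟶ T := fun T => (Over.mapPullbackAdj U.ι).counit.app T
  let toU : ∀ T : Over S, WU.obj T ⟶ Over.mk U.ι := fun T =>
    Over.homMk (pullback.snd T.hom U.ι) rfl
  let q : ∀ {T : Over S}, ((AlgSp.yon S).obj T ⟶ F) →
      ((AlgSp.yon S).obj (WU.obj T) ⟶ F ⨯ (AlgSp.yon S).obj (Over.mk U.ι)) := fun {T} a =>
    prod.lift ((AlgSp.yon S).map (cU T) ≫ a) ((AlgSp.yon S).map (toU T))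
  have hcnat : ∀ {T T' : Over S} (f : T ⟶ T'), WU.map f ≫ cU T' = cU T ≫ f := fun f =>
    (Over.mapPullbackAdj U.ι).counit.naturality f
  have htnat : ∀ {T T' : Over S} (f : T ⟶ T'), WU.map f ≫ toU T' = toU T := fun f => by
    apply Over.OverMorphism.ext
    exact pullback.lift_snd _ _ _
  have hqnat : ∀ {T T' : Over S} (f : T ⟶ T') (a : (AlgSp.yon S).obj T' ⟶ F),
      (AlgSp.yon S).map (WU.map f) ≫ q a = q ((AlgSp.yon S).map f ≫ a) := by
    intro T T' f a
    refine Limits.prod.hom_ext ?_ ?_
    · simp only [q, Category.assoc, prod.lift_fst, ← Functor.map_comp_assoc, hcnat]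
    · simp only [q, Category.assoc, prod.lift_snd, ← Functor.map_comp, htnat]
  constructor
  · intro φ₁ φ₂ hφ
    obtain ⟨g₁, hg₁⟩ := (AlgSp.yon S).map_surjective (p ≫ φ₁)
    obtain ⟨g₂, hg₂⟩ := (AlgSp.yon S).map_surjective (p ≫ φ₂)
    have h := congrArg (q p ≫ ·) hφ
    simp only [q, prod.lift_fst_assoc, Category.assoc, ← hg₁, ← hg₂, ← Functor.map_comp] at h
    have hg : g₁ = g₂ := (hN V hV).1 ((AlgSp.yon S).map_injective h)
    rw [← cancel_epi p, ← hg₁, ← hg₂, hg]
  · intro ψ
    have hψ : ∀ {T : Over S} (a : (AlgSp.yon S).obj T ⟶ F), Smooth T.hom →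
        ∃ g : T ⟶ N, (AlgSp.yon S).map (cU T ≫ g) = q a ≫ ψ := by
      intro T a hT
      obtain ⟨k, hk⟩ := (AlgSp.yon S).map_surjective (q a ≫ ψ)
      obtain ⟨g, hg⟩ := (hN T hT).2 k
      exact ⟨g, by rw [← hk]; exact congrArg _ hg⟩
    obtain ⟨g, hg⟩ := hψ p hV
    have hnat : ∀ f : R ⟶ V, (AlgSp.yon S).map (cU R ≫ f ≫ g) = q ((AlgSp.yon S).map f ≫ p) ≫ ψ := by
      intro f
      rw [← Category.assoc, ← hcnat, Category.assoc, Functor.map_comp, hg, ← hqnat, Category.assoc]
    have hts : t ≫ g = s ≫ g := (hN R hR).1 ((AlgSp.yon S).map_injective (by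
      rw [hnat, hnat, sq.w]))
    obtain ⟨φ, hφ⟩ := Groth.Agent.AlgSpDec.exists_desc_of_kernelPair sq ((AlgSp.yon S).map g) (by
      rw [← Functor.map_comp, ← Functor.map_comp, hts])
    refine ⟨φ, ?_⟩
    haveI : Sheaf.IsLocallySurjective (q p) := by
      refine Groth.Agent.AlgSpLib.isLocallySurjective_of_lifts _ fun T ξ => ?_
      obtain ⟨T', k, v, hk, hv⟩ := Groth.Agent.AlgSpDec.exists_fppf_lift_of_locallySurjective p (ξ ≫ Limits.prod.fst)
      obtain ⟨v, rfl⟩ := (AlgSp.yon S).map_surjective v
      obtain ⟨w, hw⟩ := (AlgSp.yon S).map_surjective ((AlgSp.yon S).map k ≫ ξ ≫ Limits.prod.snd)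
      let l : T' ⟶ WU.obj V := Over.homMk (pullback.lift v.left w.left (by
        exact (Over.w v).trans (Over.w w).symm)) (by
        show pullback.lift _ _ _ ≫ pullback.snd V.hom U.ι ≫ U.ι = _
        rw [pullback.lift_snd_assoc]
        exact Over.w w)
      have hl1 : l ≫ cU V = v := by
        apply Over.OverMorphism.ext
        show pullback.lift _ _ _ ≫ _ = v.left
        simp [cU, Over.mapPullbackAdj_counit_app]
        exact pullback.lift_fst _ _ _
      have hl2 : l ≫ toU V = w := Over.OverMorphism.ext (pullback.lift_snd _ _ _)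
      refine ⟨T', k, (AlgSp.yon S).map l, hk, Limits.prod.hom_ext ?_ ?_⟩
      · simp only [q, Category.assoc, prod.lift_fst, ← Functor.map_comp_assoc, hl1]
        exact hv
      · simp only [q, Category.assoc, prod.lift_snd, ← Functor.map_comp, hl2]
        exact hw
    haveI : Epi (q p) := Sheaf.epi_of_isLocallySurjective _
    rw [← cancel_epi (q p)]
    refine Eq.trans ?_ hg
    simp only [q, prod.lift_fst_assoc, Category.assoc, hφ]
    rw [Functor.map_comp]

end Groth.Agent.S13209
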