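import Groth.Statements.S13210
import Groth.Agent.AlgSpLib.Rep
-- import your own Groth.Agent.* helpers here

set_option autoImplicit false
set_option linter.style.haveILetI false
set_option backward.isDefEq.respectTransparency.types false
set_option maxHeartbeats 1000000
universe u
open CategoryTheory CategoryTheory.Limits AlgebraicGeometry
open AlgGrp

namespace Groth.Agent.S13210

/-- Let S be a scheme, F an algebraic space over S which is separated over S, and G a finite group
acting on F by S-automorphisms. If i : Z → F exhibits the fppf sheaf Z as the sub-sheaf of G-fixed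
points of F (i is G-invariant and every G-invariant morphism W → F factors uniquely through i), then
Z is an algebraic space and i is a closed immersion (representable by closed immersions). (The
published statement also treats a locally separated F, whose fixed points form a subspace, and
compatibility with base change; this row states only the separated case.) -/
theorem result
    {S : Scheme.{u}} (F : AlgSp.Sp S) (hF : AlgSp.IsAlgSpace F) (hsep : AlgSp.IsSeparatedSp F)
    (G : Type u) [Group G] [Finite G] (ρ : G →* Aut F)
    (Z : AlgSp.Sp S) (i : Z ⟶ F) (hi : ∀ g : G, i ≫ (ρ g).hom = i)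
    (huniv : ∀ (W : AlgSp.Sp S) (x : W ⟶ F), (∀ g : G, x ≫ (ρ g).hom = x) → ∃! z : W ⟶ Z, z ≫ i = x) :
    AlgSp.IsAlgSpace Z ∧ AlgSp.RepWith @IsClosedImmersion i := by
  classical
  haveI := Fintype.ofFinite G
  have key : ∀ s : Finset G, ∃ (W : AlgSp.Sp S) (w : W ⟶ F), Mono w ∧ AlgSp.RepWith @IsClosedImmersion w ∧
      (∀ g ∈ s, w ≫ (ρ g).hom = w) ∧
      ∀ (V : AlgSp.Sp S) (x : V ⟶ F), (∀ g ∈ s, x ≫ (ρ g).hom = x) → ∃ z : V ⟶ W, z ≫ w = x := by
    intro s
    induction s using Finset.induction with
    | empty =>
      exact ⟨F, 𝟙 F, inferInstance, MorphismProperty.id_mem _ _, by simp, fun V x _ => ⟨x, by simp⟩⟩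
    | @insert g s _ ih =>
      obtain ⟨W, w, hm, hr, hw, hu⟩ := ih
      let q : W ⟶ F ⨯ F := prod.lift w (w ≫ (ρ g).hom)
      let c : pullback q (Limits.diag F) ⟶ W := pullback.fst q (Limits.diag F)
      have hc : AlgSp.RepWith @IsClosedImmersion c :=
        MorphismProperty.of_isPullback (IsPullback.of_hasPullback q (Limits.diag F)).flip hsep
      haveI : Mono c := inferInstanceAs (Mono (pullback.fst q (Limits.diag F)))
      refine ⟨_, c ≫ w, inferInstance, MorphismProperty.comp_mem _ _ _ hc hr, fun g' hg' => ?_, fun V x hx => ?_⟩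
      · rcases Finset.mem_insert.1 hg' with rfl | hg'
        · have h := pullback.condition (f := q) (g := Limits.diag F)
          have h1 := congrArg (· ≫ prod.fst) h
          have h2 := congrArg (· ≫ prod.snd) h
          simp only [q, Category.assoc, prod.lift_fst, prod.lift_snd, Category.comp_id] at h1 h2
          rw [Category.assoc]
          exact h2.trans h1.symm
        · rw [Category.assoc, hw g' hg']
      · obtain ⟨z, hz⟩ := hu V x fun g' hg' => hx g' (Finset.mem_insert_of_mem hg')
        refine ⟨pullback.lift z x ?_, by rw [pullback.lift_fst_assoc, hz]⟩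
        simp only [q, prod.comp_lift, Limits.diag, Category.comp_id]
        rw [← Category.assoc, hz, hx g (Finset.mem_insert_self g s)]
  obtain ⟨W, w, hm, hr, hw, hu⟩ := key Finset.univ
  obtain ⟨a, ha⟩ := hu Z i fun g _ => hi g
  obtain ⟨b, hb, -⟩ := huniv W w fun g => hw g (Finset.mem_univ g)
  let e : Z ≅ W := ⟨a, b, (huniv Z i hi).unique (by rw [Category.assoc, hb, ha]) (Category.id_comp _),
    (cancel_mono w).1 (by rw [Category.assoc, ha, hb, Category.id_comp])⟩
  have hi' : AlgSp.RepWith @IsClosedImmersion i :=
    ha ▸ MorphismProperty.comp_mem _ _ _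
      (haveI : IsIso a := e.isIso_hom; AlgSpLib.repWith_of_isIso @IsClosedImmersion a) hr
  exact ⟨AlgSpLib.isAlgSpace_of_representable i hi'.1 hF, hi'⟩

end Groth.Agent.S13210
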