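import Groth.Statements.S1330
import Mathlib
import Groth.Agent.FlatMisc.NearGeneric

set_option autoImplicit false
universe u
open FlatMor

namespace Groth.Agent.S1330

open AlgebraicGeometry CategoryTheory Limits in
/-- Let f be of finite type with irreducible target. If the generic fibre is not reduced, then over some
nonempty open of the target no fibre is reduced. -/
theorem result {X Y : Scheme.{u}} (f : X ⟶ Y) [IrreducibleSpace ↑Y] [LocallyOfFiniteType f] [QuasiCompact f]
    (h : ¬ IsReduced (f.fiber (genericPoint ↑Y))) :
    ∃ V : Y.Opens, (V : Set ↑Y).Nonempty ∧ ∀ y ∈ V, ¬ IsReduced (f.fiber y) := by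
  exact Groth.Agent.FlatMisc.NearGeneric.exists_open_not_reduced h

end Groth.Agent.S1330
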