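import Groth.Statements.S1333
import Mathlib
import Groth.Agent.FlatMisc.DimConstr

set_option autoImplicit false
universe u
open FlatMor

namespace Groth.Agent.S1333

open AlgebraicGeometry CategoryTheory Limits in
/-- For a morphism of finite presentation (locally of finite presentation, quasi-compact,
quasi-separated), each level set of the function sending a point of the target to the dimension of
its fibre is locally constructible. -/
theorem result {X Y : Scheme.{u}} (f : X ⟶ Y) [LocallyOfFinitePresentation f] [QuasiCompact f] [QuasiSeparated f]
    (n : WithBot ℕ∞) :
    Topology.IsLocallyConstructible {y : ↑Y | topologicalKrullDim ↑(f.fiber y) = n} := by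
  exact Groth.Agent.FlatMisc.DimConstr.isLocallyConstructible_dim_eq f n

end Groth.Agent.S1333
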