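import Groth.Statements.S13337
import Groth.Agent.H26.FMod.Equiv

set_option autoImplicit false
open CategoryTheory CategoryTheory.Limits
universe u
open FCompl

namespace Groth.Agent.S13337

open AlgebraicGeometry in
/-- On a locally Noetherian formal scheme presented as an adic system of locally Noetherian thickenings
with common underlying space, for two systems of coherent modules on the levels with compatible
transition isomorphisms, the map sending a morphism of systems to the induced morphism between the
attached O_𝔛-modules (limits of direct images) is bijective: Hom_{O_𝔛}(𝔉, 𝔊) is the limit of the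
Hom_{O_{X_n}}(F_n, G_n). -/
theorem result (𝔛 : FSch.Sys.{u}) (h𝔛 : 𝔛.IsLocNoethFormal) (𝔐 𝔑 : FSch.ModSys 𝔛)
    (h𝔐 : 𝔐.IsCoh) (h𝔑 : 𝔑.IsCoh) :
    Function.Bijective (fun φ : 𝔐 ⟶ 𝔑 => FSch.ModSys.realModMap h𝔛.1 φ) := by
  exact Groth.Agent.H26.FMod.bijective_realModMap h𝔛 𝔐 𝔑 h𝔐

end Groth.Agent.S13337
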