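import Groth.Statements.S13341

set_option autoImplicit false
open CategoryTheory
universe u
open FCompl

namespace Groth.Agent.S13341

open AlgebraicGeometry in
/-- Formal schemes are presented as locally Noetherian adic systems of thickenings and the fibre product
is taken levelwise (it presents the fibre product of formal schemes since one factor is adic over
the base). Let 𝔖 be a locally Noetherian formal system, 𝔛 and 𝔜 locally Noetherian formal systems
over 𝔖 such that 𝔛 or 𝔜 is of finite type over 𝔖, and 𝔜 separated over 𝔖 at level 0. Then for every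
𝔖-morphism f : 𝔛 → 𝔜 the graph morphism 𝔛 → 𝔛 ×_𝔖 𝔜 is a closed immersion: adic, with level 0 a
closed immersion. -/
theorem result {𝔛 𝔜 𝔖 : FSch.Sys.{u}} (h𝔖 : 𝔖.IsLocNoethFormal) (h𝔛 : 𝔛.IsLocNoethFormal)
    (h𝔜 : 𝔜.IsLocNoethFormal) (p : 𝔛 ⟶ 𝔖) (q : 𝔜 ⟶ 𝔖) (hpq : FSch.IsFiniteTypeHom p ∨ FSch.IsFiniteTypeHom q)
    (hq : IsSeparated ((q : FSch.Hom 𝔜 𝔖).app 0)) (f : 𝔛 ⟶ 𝔜) (w : f ≫ q = p) :
    FSch.IsClosedImmHom (FSch.graph f p q w) := by
  refine ⟨fun n => ?_, ?_⟩
  · haveI : IsClosedImmersion (𝔜.ι n) := (h𝔜.1 n).1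
    refine IsPullback.of_isLimit' ⟨((FSch.graph f p q w : FSch.Hom _ _).comm n).symm⟩
      (CategoryTheory.Limits.PullbackCone.IsLimit.mk _ (fun s => s.snd ≫ CategoryTheory.Limits.pullback.fst _ _) (fun s => ?_) (fun s => ?_) (fun s m h1 h2 => ?_))
    · have h := congrArg (fun φ => φ ≫ CategoryTheory.Limits.pullback.fst _ _) s.condition
      simp only [FSch.graph, FSch.pullbackSys, CategoryTheory.Limits.pullback.map, Category.assoc, CategoryTheory.Limits.pullback.lift_fst, Category.comp_id] at h
      rw [Category.assoc]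
      exact h.symm
    · have h := congrArg (fun φ => φ ≫ CategoryTheory.Limits.pullback.fst _ _) s.condition
      have h' := congrArg (fun φ => φ ≫ CategoryTheory.Limits.pullback.snd _ _) s.condition
      simp only [FSch.graph, FSch.pullbackSys, CategoryTheory.Limits.pullback.map, Category.assoc, CategoryTheory.Limits.pullback.lift_fst, CategoryTheory.Limits.pullback.lift_snd, Category.comp_id] at h h'
      refine CategoryTheory.Limits.pullback.hom_ext ?_ ?_
      · refine (Category.assoc _ _ _).trans ((congrArg (fun t => (s.snd ≫ CategoryTheory.Limits.pullback.fst _ _) ≫ t) (CategoryTheory.Limits.pullback.lift_fst _ _ _)).trans ?_)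
        exact Category.comp_id _
      · refine (Category.assoc _ _ _).trans ((congrArg (fun t => (s.snd ≫ CategoryTheory.Limits.pullback.fst _ _) ≫ t) (CategoryTheory.Limits.pullback.lift_snd _ _ _)).trans ?_)
        rw [← cancel_mono (𝔜.ι n)]
        simp only [Category.assoc]
        rw [(f : FSch.Hom 𝔛 𝔜).comm n, ← h', h, Category.assoc, Category.assoc]
        rfl
    · rw [← h2, Category.assoc]
      exact ((congrArg (fun t => m ≫ t) (CategoryTheory.Limits.pullback.lift_fst _ _ _)).trans (Category.comp_id m)).symm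
  · haveI := hq
    have hsep : IsSeparated (CategoryTheory.Limits.pullback.fst ((p : FSch.Hom 𝔛 𝔖).app 0) ((q : FSch.Hom 𝔜 𝔖).app 0)) :=
      MorphismProperty.pullback_fst _ _ hq
    haveI : IsClosedImmersion ((FSch.graph f p q w : FSch.Hom _ _).app 0 ≫
        CategoryTheory.Limits.pullback.fst ((p : FSch.Hom 𝔛 𝔖).app 0) ((q : FSch.Hom 𝔜 𝔖).app 0)) := by
      rw [show (FSch.graph f p q w : FSch.Hom _ _).app 0 ≫
        CategoryTheory.Limits.pullback.fst ((p : FSch.Hom 𝔛 𝔖).app 0) ((q : FSch.Hom 𝔜 𝔖).app 0) = 𝟙 _ from CategoryTheory.Limits.pullback.lift_fst _ _ _]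
      infer_instance
    exact MorphismProperty.of_postcomp (W := @IsClosedImmersion) (W' := @IsSeparated)
      ((FSch.graph f p q w : FSch.Hom _ _).app 0)
      (CategoryTheory.Limits.pullback.fst ((p : FSch.Hom 𝔛 𝔖).app 0) ((q : FSch.Hom 𝔜 𝔖).app 0)) hsep ‹_›

end Groth.Agent.S13341
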