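import Groth.Statements.S13346
import Groth.Agent.H26.FMod.Level

set_option autoImplicit false
open CategoryTheory CategoryTheory.Limits
universe u
open FCompl

namespace Groth.Agent.S13346

open AlgebraicGeometry in
/-- On a locally Noetherian formal scheme, presented as an adic system of locally Noetherian thickenings
with common underlying space and structure sheaf lim O_{X_n}, a morphism θ : 𝔉 → 𝔊 of coherent
O_𝔛-modules is surjective if and only if the induced morphism u_0^* 𝔉 → u_0^* 𝔊 of O_{X_0}-modules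
on the smallest level is surjective. -/
theorem result (𝔛 : FSch.Sys.{u}) (h𝔛 : 𝔛.IsLocNoethFormal)
    (𝔉 𝔊 : FSch.ModF 𝔛 h𝔛.1) (h𝔉 : FSch.IsCohF 𝔛 h𝔛.1 𝔉) (h𝔊 : FSch.IsCohF 𝔛 h𝔛.1 𝔊) (θ : 𝔉 ⟶ 𝔊) :
    Epi θ ↔ Epi ((FSch.levelMor 𝔛 h𝔛.1 0).pull.map θ) := by
  exact Groth.Agent.H26.FMod.epi_iff_level0 h𝔛 h𝔉 h𝔊 θ

end Groth.Agent.S13346
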