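import Groth.Statements.S13348
import Groth.Agent.H26.AffCompl.Compl

set_option autoImplicit false
universe u
open FCompl

namespace Groth.Agent.S13348

open AlgebraicGeometry in
open CategoryTheory in
/-- Let R be a base ring of class (N) or (V) for the ideal I, A an R-algebra topologically of finite
type, and M, N finite A-modules. Present the formal spectrum Spf A as the completion of Spec A along
IA, with structure sheaf the limit of the structure sheaves of the closed subschemes V((IA)^(n+1)),
and let M^Δ be the O_Spf A-module obtained as the limit of the direct images of the modules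
associated to M/(IA)^(n+1)M (the pullbacks of the sheaf associated to M). Then u ↦ u^Δ is a
bijection from Hom_A(M, N) onto the set of O_Spf A-module homomorphisms M^Δ → N^Δ. -/
theorem result
    (R : Type u) [CommRing R] (I : Ideal R) (hR : AdicRing.IsBase R I)
    (A : Type u) [CommRing A] [Algebra R A] (hA : AdicRing.TopFiniteType R I A)
    (h : (FSch.completionAlong (Spec (CommRingCat.of A)) (FSch.idealSpec A (I.map (algebraMap R A)))).IsFormal)
    (M N : ModuleCat.{u} A) [Module.Finite A M] [Module.Finite A N] :
    Function.Bijective (fun u : M ⟶ N =>
      FSch.ModSys.realModMap h (FSch.complModMap (FSch.idealSpec A (I.map (algebraMap R A))) ((tilde.functor (CommRingCat.of A)).map u))) := by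
  haveI := Groth.Agent.H26.AffCompl.isAdicComplete_map hR hA N
  exact Groth.Agent.H26.AffCompl.bijective' h (Groth.Agent.FComplLib.complData A (I.map (algebraMap R A)))
    (Groth.Agent.FComplLib.sys_complData A (I.map (algebraMap R A)) M) (Groth.Agent.FComplLib.sys_complData A (I.map (algebraMap R A)) N) _
    (fun u => Groth.Agent.H26.AffCompl.isOver'_compl _ u)

end Groth.Agent.S13348
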