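import Groth.Statements.S13350
import Groth.Agent.H26.AffCompl.Compl

set_option autoImplicit false
universe u
open FCompl

namespace Groth.Agent.S13350

open AlgebraicGeometry in
open CategoryTheory in
/-- Let R be a base ring of class (N) or (V) for the ideal I, A an R-algebra topologically of finite
presentation (hence a coherent ring), and u : M' → M, v : M → M'' homomorphisms of finitely
presented A-modules. Present Spf A as the completion of Spec A along IA, with structure sheaf the
limit of the structure sheaves of the closed subschemes V((IA)^(n+1)), and let M^Δ be the limit of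
the direct images of the modules associated to M/(IA)^(n+1)M. If u^Δ and v^Δ compose to zero and 0 →
M'^Δ → M^Δ → M''^Δ → 0 is a short exact sequence of O_Spf A-modules, then u and v compose to zero
and 0 → M' → M → M'' → 0 is short exact. -/
theorem result
    (R : Type u) [CommRing R] (I : Ideal R) (hR : AdicRing.IsBase R I)
    (A : Type u) [CommRing A] [Algebra R A] (hA : AdicRing.TopFinitePresentation R I A)
    (h : (FSch.completionAlong (Spec (CommRingCat.of A)) (FSch.idealSpec A (I.map (algebraMap R A)))).IsFormal)
    (M₁ M₂ M₃ : ModuleCat.{u} A) [Module.FinitePresentation A M₁] [Module.FinitePresentation A M₂]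
    [Module.FinitePresentation A M₃] (u : M₁ ⟶ M₂) (v : M₂ ⟶ M₃)
    (hΔ : ∃ w : FSch.ModSys.realModMap h (FSch.complModMap (FSch.idealSpec A (I.map (algebraMap R A))) ((tilde.functor (CommRingCat.of A)).map u)) ≫
        FSch.ModSys.realModMap h (FSch.complModMap (FSch.idealSpec A (I.map (algebraMap R A))) ((tilde.functor (CommRingCat.of A)).map v)) = 0,
      (ShortComplex.mk _ _ w).ShortExact) :
    ∃ w : u ≫ v = 0, (ShortComplex.mk u v w).ShortExact := by
  obtain ⟨n, φ, hφ, -⟩ := hA
  have hA' : AdicRing.TopFiniteType R I A := ⟨n, φ, hφ⟩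
  haveI := Groth.Agent.H26.AffCompl.isAdicComplete_map hR hA' M₁
  haveI := Groth.Agent.H26.AffCompl.isAdicComplete_map hR hA' M₂
  haveI := Groth.Agent.H26.AffCompl.isAdicComplete_map hR hA' M₃
  exact Groth.Agent.H26.AffCompl.reflect' h (Groth.Agent.FComplLib.complData A (I.map (algebraMap R A)))
    (Groth.Agent.Frg7.le_jacobson hR hA') (Groth.Agent.FComplLib.sys_complData A (I.map (algebraMap R A)) M₁)
    (Groth.Agent.FComplLib.sys_complData A (I.map (algebraMap R A)) M₂) (Groth.Agent.FComplLib.sys_complData A (I.map (algebraMap R A)) M₃) _ _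
    (Groth.Agent.H26.AffCompl.isOver'_compl _ u) (Groth.Agent.H26.AffCompl.isOver'_compl _ v) hΔ

end Groth.Agent.S13350
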