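import Groth.Statements.S13352
import Groth.Agent.Frg7.RigPoint2
-- import your own Groth.Agent.* helpers here

set_option autoImplicit false
universe u
open scoped TensorProduct
open AdicRing

namespace Groth.Agent.S13352

theorem admissible_of_finite_algebra {R : Type u} [CommRing R] {I : Ideal R} (hR : AdicRing.IsBase R I)
    {A : Type u} [CommRing A] [Algebra R A] (hA : AdicRing.TopFiniteType R I A)
    (C : Type u) [CommRing C] [Algebra R C] [Algebra A C] [IsScalarTower R A C] [Module.Finite A C]
    (htor : AdicRing.NoPowTorsion I C) : AdicRing.Admissible R I C := by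
  have hI := Frg7.IsBase.fg hR
  haveI : IsAdicComplete (I.map (algebraMap R C)) C :=
    (IsAdicComplete.map_algebraMap_iff _ C).mpr (Frg7.isAdicComplete hR hA C)
  haveI : Algebra.FiniteType R (C ⧸ I.map (algebraMap R C)) := by
    have hle : I.map (algebraMap R A) ≤ (I.map (algebraMap R C)).comap (algebraMap A C) := by
      rw [IsScalarTower.algebraMap_eq R A C, ← Ideal.map_map]
      exact Ideal.le_comap_map
    let g := Ideal.quotientMap (I.map (algebraMap R C)) (algebraMap A C) hle
    have hg : g.Finite := RingHom.Finite.of_comp_finite (f := Ideal.Quotient.mk (I.map (algebraMap R A))) <| by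
      rw [show g.comp (Ideal.Quotient.mk _) = (Ideal.Quotient.mk _).comp (algebraMap A C) from RingHom.ext fun _ => rfl]
      exact (RingHom.Finite.of_surjective _ Ideal.Quotient.mk_surjective).comp (RingHom.finite_algebraMap.mpr inferInstance)
    haveI : Algebra.FiniteType R (A ⧸ I.map (algebraMap R A)) := by
      have h1 := Frg7.finiteType_trunc hI hA 1
      rwa [pow_one] at h1
    rw [← RingHom.finiteType_algebraMap,
      show algebraMap R (C ⧸ I.map (algebraMap R C)) = g.comp (algebraMap R _) from
        RingHom.ext fun r => congrArg (Ideal.Quotient.mk _) (IsScalarTower.algebraMap_apply R A C r)]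
    exact (RingHom.FiniteType.of_finite hg).comp (RingHom.finiteType_algebraMap.mpr inferInstance)
  obtain ⟨m, ψ, hψ⟩ := Frg7.topFiniteType_of_finiteType hR (A := C)
  refine ⟨⟨m, ψ, hψ, (Frg7.nice_rPow hR m).1.fg (RingHom.ker ψ.toRingHom) fun x k hx => htor (ψ x) k fun a ha => ?_⟩, htor⟩
  rw [← map_smul]
  exact hx a ha

/-- Let R be a complete valuation ring of height one with t a nonzero element generating an ideal of
definition and K its field of fractions, A an admissible R-algebra, and f_1, ..., f_n elements of A
⊗_R K that are integral over A. Then A' = A[f_1, ..., f_n], a subalgebra of A ⊗_R K, is an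
admissible R-algebra which is finite over A. (The published hypothesis is that each f_i has supremum
seminorm at most 1 on the affinoid algebra A ⊗_R K; integrality of the f_i over A is what is derived
from it and used, and is the hypothesis taken here.) -/
theorem result
    (R : Type u) [CommRing R] [IsDomain R] [ValuationRing R] [Ring.KrullDimLE 1 R]
    (t : R) (ht : t ≠ 0) [IsAdicComplete (Ideal.span {t}) R]
    (A : Type u) [CommRing A] [Algebra R A] (hA : AdicRing.Admissible R (Ideal.span {t}) A)
    (n : ℕ) (f : Fin n → A ⊗[R] FractionRing R) (hf : ∀ i, IsIntegral A (f i)) :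
    AdicRing.Admissible R (Ideal.span {t}) ↥(Algebra.adjoin A (Set.range f)) ∧
      Module.Finite A ↥(Algebra.adjoin A (Set.range f)) := by
  have hR := Frg7.isBase (R := R) ht
  have hI := Frg7.IsBase.fg hR
  obtain ⟨⟨nA, φ, hφ, -⟩, -⟩ := hA
  have hA' : AdicRing.TopFiniteType R (Ideal.span {t}) A := ⟨nA, φ, hφ⟩
  set C := Algebra.adjoin A (Set.range f) with hC
  haveI : Module.Finite A C := Module.Finite.iff_fg.mpr
    (fg_adjoin_of_finite (Set.finite_range f) (by rintro _ ⟨i, rfl⟩; exact hf i))
  refine ⟨?_, inferInstance⟩
  have htor : AdicRing.NoPowTorsion (Ideal.span {t}) C := by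
    intro x k hx
    have h := congrArg (Subalgebra.val C) (hx (t ^ k) (Ideal.pow_mem_pow (Ideal.mem_span_singleton_self t) k))
    replace h : algebraMap R (A ⊗[R] FractionRing R) t ^ k * (Subalgebra.val C x) = 0 := by
      rw [← map_pow]
      exact (Algebra.smul_def (t ^ k) (Subalgebra.val C x)).symm.trans h
    have hu : IsUnit (algebraMap R (A ⊗[R] FractionRing R) t) := by
      rw [← (Algebra.TensorProduct.includeRight : FractionRing R →ₐ[R] A ⊗[R] FractionRing R).commutes]
      exact ((IsFractionRing.injective R (FractionRing R)).ne_iff' (map_zero _) |>.mpr ht).isUnit.map _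
    exact Subtype.ext ((hu.pow k).mul_right_eq_zero.mp h)
  exact admissible_of_finite_algebra hR hA' C htor

end Groth.Agent.S13352
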