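import Groth.Statements.S13353
import Mathlib
-- import your own Groth.Agent.* helpers here

set_option autoImplicit false
universe u
open scoped TensorProduct
open AdicRing

namespace Groth.Agent.S13353

/-- Let R be a complete valuation ring of height one with t a nonzero element generating an ideal of
definition and K its field of fractions, A an admissible R-algebra, f_1, ..., f_n elements of A ⊗_R
K integral over A, c a nonzero element of R and g_1, ..., g_n elements of A with g_i = c f_i in A
⊗_R K; put 𝔞 = (c, g_1, ..., g_n) and A' = A[f_1, ..., f_n] ⊂ A ⊗_R K. If D is an admissible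
R-algebra and φ : A → D an R-algebra homomorphism such that the ideal 𝔞D is generated by the image
of c, or by the image of some g_i, then 𝔞D is generated by c and φ extends to exactly one R-algebra
homomorphism A' → D. (This is the universal property through which Spf A' → Spf A is identified with
the formal blowing-up of 𝔞 on Spf A; the published hypothesis on the f_i is a supremum-seminorm
bound, from which their integrality over A is derived.) -/
theorem result
    (R : Type u) [CommRing R] [IsDomain R] [ValuationRing R] [Ring.KrullDimLE 1 R]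
    (t : R) (ht : t ≠ 0) [IsAdicComplete (Ideal.span {t}) R]
    (A : Type u) [CommRing A] [Algebra R A] (hA : AdicRing.Admissible R (Ideal.span {t}) A)
    (n : ℕ) (f : Fin n → A ⊗[R] FractionRing R) (hf : ∀ i, IsIntegral A (f i))
    (c : R) (hc : c ≠ 0) (g : Fin n → A)
    (hg : ∀ i, algebraMap A (A ⊗[R] FractionRing R) (g i) = c • f i)
    (D : Type u) [CommRing D] [Algebra R D] (hD : AdicRing.Admissible R (Ideal.span {t}) D)
    (φ : A →ₐ[R] D)
    (hgen : (Ideal.span (insert (algebraMap R A c) (Set.range g))).map φ =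
          Ideal.span {algebraMap R D c} ∨
      ∃ i, (Ideal.span (insert (algebraMap R A c) (Set.range g))).map φ = Ideal.span {φ (g i)}) :
    (Ideal.span (insert (algebraMap R A c) (Set.range g))).map φ = Ideal.span {algebraMap R D c} ∧
      ∃! ψ : ↥(Algebra.adjoin A (Set.range f)) →ₐ[R] D,
        ψ.comp (IsScalarTower.toAlgHom R A ↥(Algebra.adjoin A (Set.range f))) = φ := by
  classical
  have hTF : ∀ r : R, r ≠ 0 → ∀ x : D, r • x = 0 → x = 0 := by
    intro r hr x hx
    obtain ⟨N, hN⟩ : t ∈ (Ideal.span {r}).radical := by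
      rw [Ideal.radical_eq_sInf, Ideal.mem_sInf]
      rintro P ⟨hP, hPp⟩
      have hP0 : P ≠ ⊥ := fun h => hr (by
        have h1 := hP (Ideal.mem_span_singleton_self r)
        rw [h] at h1
        exact Ideal.mem_bot.mp h1)
      haveI : P.IsMaximal := Ring.krullDimLE_one_iff_of_noZeroDivisors.mp inferInstance P hP0 hPp
      rw [IsLocalRing.eq_maximalIdeal ‹P.IsMaximal›, IsLocalRing.mem_maximalIdeal, mem_nonunits_iff]
      intro hu
      haveI := (inferInstance : IsAdicComplete (Ideal.span {t}) R).toIsHausdorff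
      rw [Ideal.span_singleton_eq_top.mpr hu] at this
      exact one_ne_zero (IsHausdorff.haus this (1 : R) fun n => by
        rw [Ideal.top_pow, Ideal.smul_top_eq_map]; simp [SModEq.def, Ideal.map_top, eq_iff_true_of_subsingleton])
    refine hD.2 x (N + 1) fun a ha => ?_
    obtain ⟨b, hb⟩ := Ideal.mem_span_singleton'.mp hN
    rw [Ideal.span_singleton_pow, Ideal.mem_span_singleton'] at ha
    obtain ⟨z, rfl⟩ := ha
    rw [show z * t ^ (N + 1) = (z * t * b) * r by rw [pow_succ, ← hb]; ring, mul_smul, hx, smul_zero]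
  let L := Localization (Algebra.algebraMapSubmonoid D (nonZeroDivisors R))
  let j : D →ₐ[R] L := IsScalarTower.toAlgHom R D L
  have hj : Function.Injective j := IsLocalization.injective (M := Algebra.algebraMapSubmonoid D (nonZeroDivisors R)) L fun x hx => by
    obtain ⟨r, hr, rfl⟩ := Submonoid.mem_map.mp hx
    exact mem_nonZeroDivisors_iff_right.mpr fun y hy =>
      hTF r (nonZeroDivisors.ne_zero hr) y (by rw [Algebra.smul_def, mul_comm, hy])
  have hu : ∀ r : nonZeroDivisors R, IsUnit (Algebra.ofId R L r.1) := fun r => by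
    show IsUnit (algebraMap R L r)
    rw [IsScalarTower.algebraMap_apply R D L]
    exact IsLocalization.map_units L (⟨algebraMap R D r.1, Submonoid.mem_map.mpr ⟨r.1, r.2, rfl⟩⟩ : Algebra.algebraMapSubmonoid D (nonZeroDivisors R))
  let κ : FractionRing R →ₐ[R] L := IsLocalization.liftAlgHom (f := Algebra.ofId R L) hu
  let Φ : A ⊗[R] FractionRing R →ₐ[R] L := Algebra.TensorProduct.lift (j.comp φ) κ fun _ _ => Commute.all _ _
  have hΦA : ∀ a, Φ (algebraMap A (A ⊗[R] FractionRing R) a) = j (φ a) := fun a => by
    simp [Φ, Algebra.TensorProduct.algebraMap_apply]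
  have hcu : IsUnit (algebraMap R L c) := hu ⟨c, mem_nonZeroDivisors_of_ne_zero hc⟩
  have hcf : ∀ i, algebraMap R L c * Φ (f i) = j (φ (g i)) := fun i => by
    rw [← hΦA, hg, map_smul, Algebra.smul_def]
  have hspan : (Ideal.span (insert (algebraMap R A c) (Set.range g))).map φ = Ideal.span {algebraMap R D c} := by
    rcases hgen with h | ⟨i, hi⟩
    · exact h
    have hc' : algebraMap R D c ∈ Ideal.span {φ (g i)} := by
      rw [← hi, ← φ.commutes]
      exact Ideal.mem_map_of_mem _ (Ideal.subset_span (Set.mem_insert _ _))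
    obtain ⟨d, hd⟩ := Ideal.mem_span_singleton'.mp hc'
    have hdy : j d * Φ (f i) = 1 := hcu.mul_left_cancel (by
      rw [mul_one, mul_left_comm, hcf, ← map_mul, hd, j.commutes])
    obtain ⟨e, he⟩ : ∃ e, j e = Φ (f i) := by
      obtain ⟨P, hP, hP0⟩ := hf i
      have h0 := congrArg Φ hP0
      rw [map_zero, Polynomial.eval₂_eq_sum_range, map_sum] at h0
      rw [Finset.sum_range_succ, hP.coeff_natDegree, map_one, one_mul, map_pow] at h0
      rcases Nat.eq_zero_or_pos P.natDegree with hm | hm
      · rw [hm] at h0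
        simp at h0
        exact ⟨0, by rw [map_zero, ← mul_one (Φ (f i)), h0, mul_zero]⟩
      · refine ⟨-∑ k ∈ Finset.range P.natDegree, φ (P.coeff k) * d ^ (P.natDegree - 1 - k), ?_⟩
        have h1 : Φ (f i) = Φ (f i) ^ P.natDegree * j d ^ (P.natDegree - 1) := by
          conv_rhs => rw [← Nat.sub_add_cancel hm, pow_succ, add_tsub_cancel_right]
          rw [mul_right_comm, ← mul_pow, mul_comm _ (j d), hdy, one_pow, one_mul]
        rw [h1, eq_neg_of_add_eq_zero_right h0, map_neg, map_sum, neg_mul, Finset.sum_mul]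
        congr 1
        refine Finset.sum_congr rfl fun k hk => ?_
        have hk' : k ≤ P.natDegree - 1 := by have := Finset.mem_range.mp hk; omega
        conv_rhs => rw [← Nat.sub_add_cancel hk', pow_add, map_mul, map_pow, hΦA]
        rw [map_mul, map_pow, mul_assoc, mul_comm (j d ^ _) (j d ^ k), ← mul_assoc (Φ (f i) ^ k),
          ← mul_pow, mul_comm _ (j d), hdy, one_pow, one_mul]
    have hgi : φ (g i) = algebraMap R D c * e := hj (by rw [← hcf, map_mul, j.commutes, he])
    rw [hi]
    refine le_antisymm ?_ ((Ideal.span_singleton_le_iff_mem _).mpr hc')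
    rw [Ideal.span_singleton_le_iff_mem, hgi]
    exact Ideal.mul_mem_right _ _ (Ideal.mem_span_singleton_self _)
  refine ⟨hspan, ?_⟩
  have hrange : ∀ x : Algebra.adjoin A (Set.range f), Φ x ∈ j.range := fun ⟨x, hx⟩ => by
    induction hx using Algebra.adjoin_induction with
    | mem x hx =>
      obtain ⟨i, rfl⟩ := hx
      obtain ⟨e, he⟩ := Ideal.mem_span_singleton'.mp (hspan.le (Ideal.mem_map_of_mem _
        (Ideal.subset_span (Set.mem_insert_of_mem _ ⟨i, rfl⟩))) : φ (g i) ∈ _)
      exact ⟨e, hcu.mul_left_cancel (by rw [hcf, ← he, map_mul, j.commutes, mul_comm]; rfl)⟩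
    | algebraMap a => exact ⟨φ a, (hΦA a).symm⟩
    | add x y _ _ hx hy => rw [map_add]; exact add_mem hx hy
    | mul x y _ _ hx hy => rw [map_mul]; exact mul_mem hx hy
  let Θ : Algebra.adjoin A (Set.range f) →ₐ[R] j.range :=
    (Φ.comp ((Algebra.adjoin A (Set.range f)).val.restrictScalars R)).codRestrict j.range hrange
  let ψ := ((AlgEquiv.ofInjective j hj).symm : j.range →ₐ[R] D).comp Θ
  have hψ : ∀ x, j (ψ x) = Φ x := fun x =>
    congrArg Subtype.val ((AlgEquiv.ofInjective j hj).apply_symm_apply (Θ x))
  refine ⟨ψ, AlgHom.ext fun a => hj ((hψ _).trans (hΦA a)), fun ψ' hψ' => AlgHom.ext fun ⟨x, hx⟩ => hj ?_⟩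
  rw [hψ]
  show j (ψ' ⟨x, hx⟩) = Φ x
  induction hx using Algebra.adjoin_induction with
  | mem x hx =>
    obtain ⟨i, rfl⟩ := hx
    refine hcu.mul_left_cancel ?_
    rw [hcf, ← Algebra.smul_def, ← map_smul, ← map_smul, ← DFunLike.congr_fun hψ' (g i)]
    show j (ψ' (c • (⟨f i, _⟩ : Algebra.adjoin A (Set.range f)))) = j (ψ' _)
    congr 2
    apply Subtype.ext
    exact (hg i).symm
  | algebraMap a => exact (congrArg j (DFunLike.congr_fun hψ' a)).trans (hΦA a).symm
  | add x y hx hy h1 h2 => rw [map_add, ← h1, ← h2, ← map_add, ← map_add]; rfl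
  | mul x y hx hy h1 h2 => rw [map_mul, ← h1, ← h2, ← map_mul, ← map_mul]; rfl

end Groth.Agent.S13353
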