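import Groth.Statements.S13354
import Groth.Agent.Frg7.RigPoint2
-- import your own Groth.Agent.* helpers here

set_option autoImplicit false
universe u
open AdicRing

namespace Groth.Agent.S13354

/-- Let R be a complete valuation ring of height one with t a nonzero element generating an ideal of
definition, B an admissible R-algebra which is a local integral domain of Krull dimension one (the
algebra of a rig-point), and b_1, ..., b_n elements of B, not all zero. Then there is a B-subalgebra
B' of the field of fractions of B which is finite over B, is again a local ring of Krull dimension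
one, and in which the ideal generated by b_1, ..., b_n is generated by one of the b_i alone (hence
is invertible). (This is the algebraic step by which a rig-point is lifted along the formal
blowing-up of a finitely generated open ideal; the resulting bijection between rig-points of the
blowing-up and of the base is not stated here.) -/
theorem result
    (R : Type u) [CommRing R] [IsDomain R] [ValuationRing R] [Ring.KrullDimLE 1 R]
    (t : R) (ht : t ≠ 0) [IsAdicComplete (Ideal.span {t}) R]
    (B : Type u) [CommRing B] [Algebra R B] [IsDomain B] [IsLocalRing B]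
    (hB : AdicRing.Admissible R (Ideal.span {t}) B) (hdim : ringKrullDim B = 1)
    (n : ℕ) (b : Fin n → B) (hb : ∃ i, b i ≠ 0) :
    ∃ B' : Subalgebra B (FractionRing B), Module.Finite B ↥B' ∧ IsLocalRing ↥B' ∧ ringKrullDim ↥B' = 1 ∧
      ∃ i, Ideal.span (Set.range (fun j => algebraMap B ↥B' (b j))) =
        Ideal.span {algebraMap B ↥B' (b i)} := by
  classical
  have h := Frg7.algebraMap_ne_zero_of_admissible ht hB
  obtain ⟨⟨nB, φ, hφ, -⟩, -⟩ := hB
  haveI := Frg7.finite_of_dim_le_one ht ⟨nB, φ, hφ⟩ h hdim.le
  let L := FractionRing B
  haveI := Frg7.valuationRing_integralClosure ht h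
  let β : Fin n → integralClosure B L := fun j => algebraMap B _ (b j)
  obtain ⟨d, hd, hdiv⟩ := Frg7.exists_mem_forall_dvd (Finset.univ.image β)
    ((Finset.univ_nonempty_iff.mpr ⟨hb.choose⟩).image _)
  obtain ⟨i, -, rfl⟩ := Finset.mem_image.mp hd
  have hd' : ∀ j, ∃ x : integralClosure B L, β j = β i * x := fun j => hdiv _ (Finset.mem_image_of_mem _ (Finset.mem_univ j))
  choose x hx using hd'
  let B' : Subalgebra B L := Algebra.adjoin B (Set.range fun j => (x j : L))
  haveI : Module.Finite B B' := Module.Finite.iff_fg.mpr
    (fg_adjoin_of_finite (Set.finite_range _) (by rintro _ ⟨j, rfl⟩; exact (x j).2))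
  haveI : Module.Finite R B' := Module.Finite.trans B B'
  have htB' : algebraMap R B' t ≠ 0 := fun e => h (IsFractionRing.injective B L (by
    rw [map_zero, ← IsScalarTower.algebraMap_apply]
    exact congrArg Subtype.val e))
  refine ⟨B', inferInstance, Frg7.isLocalRing_of_finite ht, Frg7.ringKrullDim_of_finite ht htB', i,
    le_antisymm (Ideal.span_le.mpr ?_) (Ideal.span_le.mpr ?_)⟩
  · rintro _ ⟨j, rfl⟩
    exact Ideal.mem_span_singleton'.mpr ⟨⟨x j, Algebra.subset_adjoin ⟨j, rfl⟩⟩, Subtype.ext (by
      rw [mul_comm]
      exact (congrArg Subtype.val (hx j)).symm)⟩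
  · exact Set.singleton_subset_iff.mpr (Ideal.subset_span ⟨i, rfl⟩)

end Groth.Agent.S13354
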