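import Groth.Statements.S13356
import Groth.Agent.GaChar.Basic

set_option autoImplicit false
open Groth.Agent
universe u
open GaDual

namespace Groth.Agent.S13356

/-- Over a commutative algebra A over the rationals, the polynomials f with f(0) = 1 and f(X+Y) =
f(X)f(Y) (the characters of the additive group into the multiplicative group over A) are exactly the
polynomials exp(aX) with a in A nilpotent. -/
theorem result (A : Type u) [CommRing A] [Algebra ℚ A] (f : Polynomial A) :
    (f.eval 0 = 1 ∧
      Polynomial.aeval (MvPolynomial.X 0 + MvPolynomial.X 1 : MvPolynomial (Fin 2) A) f =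
        Polynomial.aeval (MvPolynomial.X 0 : MvPolynomial (Fin 2) A) f *
          Polynomial.aeval (MvPolynomial.X 1 : MvPolynomial (Fin 2) A) f) ↔
      ∃ a : A, IsNilpotent a ∧ (f : PowerSeries A) = PowerSeries.rescale a (PowerSeries.exp A) := by
  rw [← GaChar.isChar_coe_iff]
  constructor
  · rintro ⟨h0, h⟩
    obtain ⟨a, ha⟩ := (GaChar.rat_iff (f : PowerSeries A)).mp
      ⟨by rw [← PowerSeries.coeff_zero_eq_constantCoeff_apply, Polynomial.coeff_coe, Polynomial.coeff_zero_eq_eval_zero, h0], h⟩
    refine ⟨a, ⟨f.natDegree + 1, ?_⟩, ha⟩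
    have h1 := congrArg (PowerSeries.coeff (f.natDegree + 1)) ha
    rw [Polynomial.coeff_coe, Polynomial.coeff_eq_zero_of_natDegree_lt (Nat.lt_succ_self _), GaChar.coeff_rescale_exp] at h1
    exact ((IsUnit.mk0 _ (one_div_ne_zero (Nat.cast_ne_zero.mpr (Nat.factorial_ne_zero _)))).map
      (algebraMap ℚ A)).mul_right_eq_zero.mp h1.symm
  · rintro ⟨a, -, ha⟩
    obtain ⟨h0, h⟩ := (GaChar.rat_iff (f : PowerSeries A)).mpr ⟨a, ha⟩
    refine ⟨?_, h⟩
    rw [← Polynomial.coeff_zero_eq_eval_zero, ← Polynomial.coeff_coe, PowerSeries.coeff_zero_eq_constantCoeff_apply, h0]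

end Groth.Agent.S13356
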