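import Groth.Statements.S13359
-- import your own Groth.Agent.* helpers here

set_option autoImplicit false
universe u
open UltraProd

namespace Groth.Agent.S13359

/-- If (R_i) is a nonempty family of integrally closed domains, then the localization of the product
ring ∏ R_i at any prime ideal is an integrally closed domain. -/
theorem result {ι : Type u} [Nonempty ι] (R : ι → Type u)
    [∀ i, CommRing (R i)] [∀ i, IsDomain (R i)] [∀ i, IsIntegrallyClosed (R i)]
    (P : Ideal (∀ i, R i)) [P.IsPrime] :
    IsDomain (Localization.AtPrime P) ∧ IsIntegrallyClosed (Localization.AtPrime P) := by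
  classical
  let A := ∀ i, R i
  let L := Localization.AtPrime P
  have h01 : Nontrivial L := inferInstance
  have hNZD : NoZeroDivisors L := ⟨fun {u v} huv => by
    obtain ⟨a, s, rfl⟩ := IsLocalization.exists_mk'_eq P.primeCompl u
    obtain ⟨b, s', rfl⟩ := IsLocalization.exists_mk'_eq P.primeCompl v
    rw [← IsLocalization.mk'_mul, IsLocalization.mk'_eq_zero_iff] at huv
    obtain ⟨t, ht⟩ := huv
    let e : A := fun i => if (t : A) i * a i = 0 then 1 else 0
    rcases em (e ∈ P) with he | he
    · right
      have he' : 1 - e ∉ P := fun h => Ideal.IsPrime.ne_top inferInstance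
        ((Ideal.eq_top_iff_one P).2 (by simpa using add_mem h he))
      rw [IsLocalization.mk'_eq_zero_iff]
      refine ⟨⟨(1 - e) * (t : A), Ideal.IsPrime.mul_notMem inferInstance he' t.2⟩, funext fun i => ?_⟩
      have h := congrFun ht i
      simp only [Pi.mul_apply, Pi.zero_apply] at h
      show (1 - (if (t : A) i * a i = 0 then (1 : R i) else 0)) * (t : A) i * b i = 0
      split_ifs with hi
      · simp
      · rcases mul_eq_zero.1 (show ((t : A) i * a i) * b i = 0 by rw [mul_assoc]; exact h) with h' | h'
        · exact absurd h' hi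
        · simp [h']
    · left
      rw [IsLocalization.mk'_eq_zero_iff]
      refine ⟨⟨e * (t : A), Ideal.IsPrime.mul_notMem inferInstance he t.2⟩, funext fun i => ?_⟩
      show (if (t : A) i * a i = 0 then (1 : R i) else 0) * (t : A) i * a i = 0
      split_ifs with hi
      · simpa using hi
      · simp⟩
  haveI hdom : IsDomain L := NoZeroDivisors.to_isDomain L
  refine ⟨hdom, (isIntegrallyClosed_iff (FractionRing L)).2 fun {x} hx => ?_⟩
  obtain ⟨s, hs⟩ := IsIntegral.exists_multiple_integral_of_isLocalization P.primeCompl (Rₘ := L) x hx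
  obtain ⟨p, hpm, hp⟩ := hs
  obtain ⟨u, w, hw, hxy⟩ := IsFractionRing.div_surjective L x
  obtain ⟨a, su, rfl⟩ := IsLocalization.exists_mk'_eq P.primeCompl u
  obtain ⟨b, sw, rfl⟩ := IsLocalization.exists_mk'_eq P.primeCompl w
  let φ : A →+* FractionRing L := (algebraMap L (FractionRing L)).comp (algebraMap A L)
  have hφ : ∀ z, φ z = algebraMap A (FractionRing L) z := fun z =>
    (IsScalarTower.algebraMap_apply A L (FractionRing L) z).symm
  have hb : φ (b * su) ≠ 0 := by
    intro h
    have hb0 : algebraMap A L (b * su) = 0 :=
      IsFractionRing.injective L (FractionRing L) (by rw [map_zero]; exact h)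
    rw [map_mul, (IsLocalization.map_units L su).mul_left_eq_zero] at hb0
    exact nonZeroDivisors.ne_zero hw (by rw [IsLocalization.mk'_eq_mul_mk'_one, hb0, zero_mul])
  have hspec : ∀ (z : A) (y : P.primeCompl),
      φ y * algebraMap L (FractionRing L) (IsLocalization.mk' L z y) = φ z := fun z y => by
    rw [hφ, hφ, IsScalarTower.algebraMap_apply A L (FractionRing L),
      IsScalarTower.algebraMap_apply A L (FractionRing L) z, ← map_mul, IsLocalization.mk'_spec']
  let a' : A := (s : A) * (a * sw)
  let b' : A := b * su
  have hrel : φ b' * ((s : A) • x) = φ a' := by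
    have h1 : φ a = φ su * algebraMap L (FractionRing L) (IsLocalization.mk' L a su) :=
      (hspec a su).symm
    have h2 : φ b = φ sw * algebraMap L (FractionRing L) (IsLocalization.mk' L b sw) :=
      (hspec b sw).symm
    have hw0 : algebraMap L (FractionRing L) (IsLocalization.mk' L b sw) ≠ 0 := by
      intro h
      exact nonZeroDivisors.ne_zero hw (IsFractionRing.injective L (FractionRing L) (by rw [h, map_zero]))
    rw [← hxy, Algebra.smul_def, ← hφ]
    simp only [a', b', map_mul, h1, h2]
    field_simp
  have hroot : φ ((p.scaleRoots b').eval a') = 0 := by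
    rw [← Polynomial.eval₂_at_apply, ← hrel]
    refine Polynomial.scaleRoots_eval₂_eq_zero φ ?_
    have hφe : φ = algebraMap A (FractionRing L) := RingHom.ext hφ
    rw [hφe]
    exact hp
  have hL : algebraMap A L ((p.scaleRoots b').eval a') = 0 :=
    IsFractionRing.injective L (FractionRing L) (by rw [map_zero]; exact hroot)
  obtain ⟨t, ht⟩ := (IsLocalization.map_eq_zero_iff P.primeCompl L _).1 hL
  have hcomp : ∀ i, ∃ c : R i, (t : A) i * (b' i * c) = (t : A) i * a' i := fun i => by
    by_cases hti : (t : A) i = 0
    · exact ⟨0, by simp [hti]⟩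
    let K := FractionRing (R i)
    let pi := p.map (Pi.evalRingHom R i)
    have hev : (pi.scaleRoots (b' i)).eval (a' i) = 0 := by
      have h := congrFun ht i
      rw [Pi.mul_apply, Pi.zero_apply, mul_eq_zero] at h
      have h' := h.resolve_left hti
      rw [← Pi.evalRingHom_apply R i ((p.scaleRoots b').eval a'), ← Polynomial.eval_map_apply,
        Polynomial.map_scaleRoots _ _ _ (by rw [hpm.leadingCoeff, map_one]; exact one_ne_zero)] at h'
      exact h'
    by_cases hbi : b' i = 0
    · refine ⟨0, ?_⟩
      rw [hbi, Polynomial.scaleRoots_zero] at hev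
      simp only [(hpm.map _).leadingCoeff, one_smul, Polynomial.eval_pow, Polynomial.eval_X, pi] at hev
      rw [eq_zero_of_pow_eq_zero hev]
      simp
    · have hb0 : algebraMap (R i) K (b' i) ≠ 0 := by
        simpa using hbi
      have hint : IsIntegral (R i) (algebraMap (R i) K (a' i) / algebraMap (R i) K (b' i)) := by
        refine ⟨pi, hpm.map _, ?_⟩
        have h3 := Polynomial.scaleRoots_eval₂_mul (p := pi) (algebraMap (R i) K)
          (algebraMap (R i) K (a' i) / algebraMap (R i) K (b' i)) (b' i)
        rw [mul_div_cancel₀ _ hb0, Polynomial.eval₂_at_apply, hev, map_zero] at h3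
        exact (mul_eq_zero.1 h3.symm).resolve_left (pow_ne_zero _ hb0)
      obtain ⟨c, hc⟩ := IsIntegrallyClosed.isIntegral_iff.1 hint
      refine ⟨c, ?_⟩
      congr 1
      apply IsFractionRing.injective (R i) K
      rw [map_mul, hc, mul_div_cancel₀ _ hb0]
  choose c hc using hcomp
  refine ⟨IsLocalization.mk' L (c : A) s, ?_⟩
  have heq : φ (b' * c) = φ a' := by
    show algebraMap L (FractionRing L) _ = algebraMap L (FractionRing L) _
    congr 1
    exact (IsLocalization.eq_iff_exists P.primeCompl L).2 ⟨t, funext fun i => hc i⟩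
  rw [← hrel, map_mul] at heq
  have heq' := mul_left_cancel₀ hb heq
  have hs0 : φ (s : A) ≠ 0 := fun h => (IsLocalization.map_units L s).ne_zero
    (IsFractionRing.injective L (FractionRing L) (by rw [map_zero]; exact h))
  apply mul_left_cancel₀ hs0
  rw [Algebra.smul_def, ← hφ] at heq'
  rw [← heq']
  exact hspec c s

end Groth.Agent.S13359
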