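import Groth.Statements.S1336
import Groth.Agent.GeomComp5.NonNoeth
-- import your own Groth.Agent.* helpers here

set_option autoImplicit false
universe u
open FlatMor

namespace Groth.Agent.S1336

set_option backward.isDefEq.respectTransparency false
set_option backward.isDefEq.respectTransparency.types false

open AlgebraicGeometry CategoryTheory Limits in
/-- Let f be of finite type and let y be a point of the target. Then the function counting the
irreducible components of the geometric fibres of f is constant on some subset of the closure of y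
which is open in that closure and contains y. -/
theorem result {X Y : Scheme.{u}} (f : X ⟶ Y) [LocallyOfFiniteType f] [QuasiCompact f] (y : Y) :
    ∃ V : Set ↑Y, V ⊆ closure {y} ∧ y ∈ V ∧ IsOpen (Subtype.val ⁻¹' V : Set ↑(closure ({y} : Set ↑Y))) ∧
      ∀ y' ∈ V, MoreMor.nGeomIrredComp f y' = MoreMor.nGeomIrredComp f y := by
  obtain ⟨T, j, _, _, hr, hg⟩ := ConsPropLib.exists_integral_closure y
  haveI : LocallyOfFiniteType (pullback.snd f j) := MorphismProperty.pullback_snd (P := @LocallyOfFiniteType) _ _ inferInstance
  haveI : QuasiCompact (pullback.snd f j) := MorphismProperty.pullback_snd (P := @QuasiCompact) _ _ inferInstance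
  obtain ⟨U, hU, hηU, hUc⟩ := GeomComp5.near_generic_irreducible (pullback.snd f j)
  obtain ⟨O, hO, hOU⟩ := j.isEmbedding.isInducing.isOpen_iff.1 hU
  refine ⟨j.base '' U, ?_, ⟨_, hηU, hg⟩, ?_, ?_⟩
  · rintro _ ⟨t, -, rfl⟩
    exact hr.le ⟨t, rfl⟩
  · rw [← hOU, Set.image_preimage_eq_inter_range, hr]
    exact isOpen_induced_iff.2 ⟨O, hO, Set.ext fun z => ⟨fun h => ⟨h, z.2⟩, fun h => h.1⟩⟩
  · rintro _ ⟨t, ht, rfl⟩
    rw [← hg]
    exact ((GeomComp5.sameCounts_pullback (IsPullback.of_hasPullback f j) t _).1 (hUc t ht)).1

end Groth.Agent.S1336
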