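import Groth.Statements.S13361
import Mathlib.GroupTheory.FiniteAbelian.Basic

set_option autoImplicit false
universe u
open ProCompl

namespace Groth.Agent.S13361

/-- A finite abelian group with a nonzero element contained in every nonzero subgroup is isomorphic to a
cyclic group of prime-power order Z/p^n. -/
theorem result {A : Type u} [AddCommGroup A] [Finite A]
    (a : A) (ha : a ≠ 0) (h : ∀ B : AddSubgroup A, B ≠ ⊥ → a ∈ B) :
    ∃ p n : ℕ, p.Prime ∧ Nonempty (A ≃+ ZMod (p ^ n)) := by
  classical
  obtain ⟨ι, _, p, hp, e, ⟨φ⟩⟩ := AddCommGroup.equiv_directSum_zmod_of_finite A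
  have hsup : ∀ i, e i ≠ 0 → ∀ j, j ≠ i → (φ a) j = 0 := by
    intro i hi j hji
    let emb : ZMod (p i ^ e i) →+ A := φ.symm.toAddMonoidHom.comp (DirectSum.of (fun i => ZMod (p i ^ e i)) i)
    have hne : emb.range ≠ ⊥ := by
      intro hb
      have h1 : emb 1 = 0 := (AddSubgroup.eq_bot_iff_forall _).1 hb _ ⟨1, rfl⟩
      have h2 : DirectSum.of (fun i => ZMod (p i ^ e i)) i 1 = 0 := φ.symm.injective (h1.trans (map_zero _).symm)
      have h3 : (1 : ZMod (p i ^ e i)) = 0 := DirectSum.of_injective i (h2.trans (map_zero _).symm)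
      have : p i ^ e i = 1 := (ZMod.one_eq_zero_iff).1 h3
      exact (Nat.one_lt_pow hi (hp i).one_lt).ne' this
    obtain ⟨z, hz⟩ := h _ hne
    rw [← hz]
    simp [emb, DirectSum.of_eq_of_ne _ _ _ hji]
  have hnz : ∃ i, e i ≠ 0 := by
    by_contra hall
    push Not at hall
    apply ha
    apply φ.injective
    rw [map_zero]
    ext i
    haveI : Subsingleton (ZMod (p i ^ e i)) := by rw [hall i, pow_zero]; exact inferInstance
    exact Subsingleton.elim _ _
  obtain ⟨i, hi⟩ := hnz
  have honly : ∀ j, j ≠ i → e j = 0 := by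
    intro j hji
    by_contra hj
    apply ha
    apply φ.injective
    rw [map_zero]
    ext k
    by_cases hk : k = i
    · subst hk; exact hsup j hj k hji.symm
    · exact hsup i hi k hk
  refine ⟨p i, e i, hp i, ⟨φ.trans ?_⟩⟩
  have hsub : ∀ j, j ≠ i → Subsingleton (ZMod (p j ^ e j)) := fun j hj => by
    rw [honly j hj, pow_zero]; exact inferInstance
  exact
    { toFun := fun x => x i
      invFun := fun z => DirectSum.of (fun i => ZMod (p i ^ e i)) i z
      left_inv := fun x => by
        refine DFinsupp.ext fun j => ?_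
        by_cases hj : j = i
        · subst hj; exact DirectSum.of_eq_same _ _
        · haveI := hsub j hj; exact Subsingleton.elim _ _
      right_inv := fun z => DirectSum.of_eq_same _ _
      map_add' := fun x y => DirectSum.add_apply x y i }

end Groth.Agent.S13361
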