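import Groth.Statements.S13362
import Mathlib.Data.Nat.Factorization.Induction
import Mathlib.Data.Int.Interval
import Mathlib.RingTheory.Int.Basic

set_option autoImplicit false
universe u
open ProCompl

namespace Groth.Agent.S13362

/-- An abelian group of finite exponent having a nonzero element contained in every nonzero subgroup is
finite. -/
theorem result {A : Type u} [AddCommGroup A]
    (hA : AddMonoid.exponent A ≠ 0) (a : A) (ha : a ≠ 0) (h : ∀ B : AddSubgroup A, B ≠ ⊥ → a ∈ B) :
    Finite A := by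
  obtain ⟨N, hN0, hN⟩ : ∃ N, N ≠ 0 ∧ ∀ x : A, N • x = 0 :=
    ⟨AddMonoid.exponent A, hA, fun x => AddMonoid.exponent_nsmul_eq_zero x⟩
  have hfin : ∀ x : A, IsOfFinAddOrder x := fun x => isOfFinAddOrder_iff_nsmul_eq_zero.2 ⟨N, Nat.pos_of_ne_zero hN0, hN x⟩
  have mem : ∀ x : A, x ≠ 0 → a ∈ AddSubgroup.zmultiples x := fun x hx => h _ (by simpa using hx)
  have step : ∀ q : ℕ, q.Prime → {x : A | q • x = 0}.Finite := by
    intro q hq
    by_cases ha' : q • a = 0
    · have hq0 : (q : ℤ) ≠ 0 := by exact_mod_cast hq.ne_zero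
      refine ((Set.finite_Ico (0 : ℤ) q).image (fun t : ℤ => t • a)).subset fun x hx => ?_
      rcases eq_or_ne x 0 with rfl | hx0
      · exact ⟨0, ⟨le_rfl, by exact_mod_cast hq.pos⟩, zero_zsmul _⟩
      obtain ⟨m, hm⟩ := AddSubgroup.mem_zmultiples_iff.1 (mem x hx0)
      have hx' : (q : ℤ) • x = 0 := by rw [natCast_zsmul]; exact hx
      have hndvd : ¬ (q : ℤ) ∣ m := by
        rintro ⟨c, rfl⟩
        exact ha (by rw [← hm, mul_comm, mul_smul, hx', smul_zero])
      obtain ⟨s, t, hst⟩ := (Nat.prime_iff_prime_int.1 hq).coprime_iff_not_dvd.2 hndvd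
      refine ⟨t % q, ⟨Int.emod_nonneg _ hq0, Int.emod_lt_of_pos _ (by exact_mod_cast hq.pos)⟩, ?_⟩
      show (t % q) • a = x
      have h1 : t • a = x := by
        conv_rhs => rw [← one_zsmul x, ← hst, add_zsmul, mul_smul, mul_smul, hx', hm, smul_zero, zero_add]
      rw [← h1, Int.emod_def, sub_zsmul, mul_zsmul, natCast_zsmul, smul_comm, ← natCast_zsmul]
      simp [natCast_zsmul, ha']
    · refine (Set.finite_singleton 0).subset fun x hx => ?_
      by_contra hx0
      obtain ⟨m, hm⟩ := AddSubgroup.mem_zmultiples_iff.1 (mem x hx0)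
      exact ha' (by rw [← hm, smul_comm, show q • x = 0 from hx, smul_zero])
  have gen : ∀ M : ℕ, M ≠ 0 → {x : A | M • x = 0}.Finite := by
    intro M
    induction M using Nat.recOnMul with
    | zero => intro h; exact absurd rfl h
    | one => intro _; refine (Set.finite_singleton 0).subset fun x hx => ?_; simpa using hx
    | prime q hq => intro _; exact step q hq
    | mul x y ihx ihy =>
      intro hxy
      have hx := ihx (left_ne_zero_of_mul hxy)
      have hy := ihy (right_ne_zero_of_mul hxy)
      have : {z : A | (x * y) • z = 0} = (fun z => y • z) ⁻¹' {z | x • z = 0} := by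
        ext z; simp [mul_smul]
      rw [this]
      refine Set.Finite.preimage' hx fun b _ => ?_
      by_cases hb : ∃ z₀, y • z₀ = b
      · obtain ⟨z₀, hz₀⟩ := hb
        refine (hy.image (fun z => z + z₀)).subset fun z hz => ⟨z - z₀, ?_, sub_add_cancel z z₀⟩
        show y • (z - z₀) = 0
        rw [smul_sub, hz₀, show y • z = b from hz, sub_self]
      · refine Set.finite_empty.subset fun z hz => (hb ⟨z, hz⟩).elim
  exact Set.finite_univ_iff.1 ((gen N hN0).subset fun x _ => hN x)

end Groth.Agent.S13362
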