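import Groth.Statements.S13363
import Groth.Agent.S13362
import Mathlib.Topology.Algebra.OpenSubgroup

set_option autoImplicit false
universe u
open ProCompl

namespace Groth.Agent.S13363

/-- Let A be a topological abelian group such that the subgroup n·A is open for each n > 0, and a ∈ A.
Then A has an open subgroup of finite index not containing a if and only if a does not lie in the
subgroup of divisible elements ∩_n nA. -/
theorem result {A : Type u} [AddCommGroup A]
    [TopologicalSpace A] [IsTopologicalAddGroup A]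
    (hn : ∀ n : ℕ, 0 < n → IsOpen (Set.range (fun x : A => n • x))) (a : A) :
    (∃ B : AddSubgroup A, IsOpen (B : Set A) ∧ B.FiniteIndex ∧ a ∉ B) ↔
      ¬ (∀ n : ℕ, 0 < n → ∃ b : A, n • b = a) := by
  classical
  constructor
  · rintro ⟨B, -, hB, haB⟩ hdiv
    obtain ⟨b, hb⟩ := hdiv B.index (Nat.pos_of_ne_zero hB.index_ne_zero)
    exact haB (hb ▸ B.nsmul_index_mem b)
  · intro h
    push Not at h
    obtain ⟨n, hn0, hna⟩ := h
    let nA : AddSubgroup A := (nsmulAddMonoidHom n : A →+ A).range
    have hanA : a ∉ nA := fun ⟨b, hb⟩ => hna b hb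
    obtain ⟨M, hM⟩ := zorn_le₀ {H : AddSubgroup A | nA ≤ H ∧ a ∉ H} (by
      intro c hc hchain
      rcases c.eq_empty_or_nonempty with rfl | hne
      · exact ⟨nA, ⟨le_rfl, hanA⟩, by simp⟩
      · refine ⟨sSup c, ⟨?_, ?_⟩, fun H hH => le_sSup hH⟩
        · obtain ⟨H, hH⟩ := hne; exact (hc hH).1.trans (le_sSup hH)
        · rw [AddSubgroup.mem_sSup_of_directedOn hne hchain.directedOn]
          rintro ⟨H, hH, haH⟩; exact (hc hH).2 haH)
    have hfin : Finite (A ⧸ M) := by
      refine Groth.Agent.S13362.result ?_ (a : A ⧸ M) (fun h0 => hM.1.2 ((QuotientAddGroup.eq_zero_iff a).1 h0)) fun B hB => ?_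
      · rw [AddMonoid.exponent_ne_zero]
        refine ⟨n, hn0, fun x => ?_⟩
        induction x using QuotientAddGroup.induction_on with
        | H x => rw [← QuotientAddGroup.mk_nsmul, QuotientAddGroup.eq_zero_iff]; exact hM.1.1 ⟨x, rfl⟩
      · by_contra haB
        apply hB
        rw [eq_bot_iff]
        intro q hq
        induction q using QuotientAddGroup.induction_on with
        | H x =>
          have hle : B.comap (QuotientAddGroup.mk' M) ≤ M := by
            refine hM.2 ⟨hM.1.1.trans ?_, haB⟩ ?_ <;>
            · intro y hy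
              show (y : A ⧸ M) ∈ B
              rw [(QuotientAddGroup.eq_zero_iff y).2 hy]; exact zero_mem B
          exact (QuotientAddGroup.eq_zero_iff x).2 (hle hq)
    exact ⟨M, AddSubgroup.isOpen_mono hM.1.1 (hn n hn0), AddSubgroup.finiteIndex_of_finite_quotient, hM.1.2⟩

end Groth.Agent.S13363
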