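import Groth.Statements.S13365
import Groth.Agent.ProComplHelper.Basic

set_option autoImplicit false
universe u
open ProCompl

namespace Groth.Agent.S13365

/-- The quotient of a profinite (compact, Hausdorff, totally disconnected) abelian topological group by
a compact subgroup is profinite. -/
theorem result {A : Type u} [AddCommGroup A] [TopologicalSpace A]
    [IsTopologicalAddGroup A] [CompactSpace A] [T2Space A] [TotallyDisconnectedSpace A]
    (B : AddSubgroup A) (hB : IsCompact (B : Set A)) :
    CompactSpace (A ⧸ B) ∧ T2Space (A ⧸ B) ∧ TotallyDisconnectedSpace (A ⧸ B) := by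
  haveI : IsClosed (B : Set A) := hB.isClosed
  haveI : T2Space (A ⧸ B) := inferInstance
  refine ⟨inferInstance, inferInstance, ?_⟩
  haveI : TotallySeparatedSpace (A ⧸ B) := by
    refine ⟨fun x _ y _ hxy => ?_⟩
    obtain ⟨z, hz⟩ := QuotientAddGroup.mk_surjective (x - y)
    have hzB : z ∉ B := fun h => hxy (sub_eq_zero.1 (hz ▸ (QuotientAddGroup.eq_zero_iff z).2 h))
    have hop : IsOpen ((fun b : A => z + b) ⁻¹' (B : Set A)ᶜ) :=
      hB.isClosed.isOpen_compl.preimage (by fun_prop)
    obtain ⟨U, hUo, -, hU⟩ := Groth.Agent.ProComplHelper.exists_compact_open_subgroup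
      (hop.mem_nhds (show z + 0 ∉ (B : Set A) by simpa using hzB))
    let V : AddSubgroup (A ⧸ B) := U.map (QuotientAddGroup.mk' B)
    have hVo : IsOpen (V : Set (A ⧸ B)) := QuotientAddGroup.isOpenMap_coe _ hUo
    have hVc : IsClosed (V : Set (A ⧸ B)) := OpenAddSubgroup.isClosed ⟨V, hVo⟩
    refine ⟨(fun t => x - t) ⁻¹' (V : Set (A ⧸ B)), (fun t => x - t) ⁻¹' (V : Set (A ⧸ B))ᶜ,
      hVo.preimage (by fun_prop), hVc.isOpen_compl.preimage (by fun_prop), by simp, ?_, ?_, ?_⟩
    · show x - y ∉ (V : Set (A ⧸ B))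
      rintro ⟨u, hu, he⟩
      rw [← hz] at he
      have := QuotientAddGroup.eq.1 he.symm
      exact hU (U.neg_mem hu) (by simpa [add_comm] using B.neg_mem this)
    · intro t _; exact em _
    · exact disjoint_compl_right.preimage _
  infer_instance

end Groth.Agent.S13365
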