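import Groth.Statements.S13366
import Groth.Agent.Hensel.StrictPoints
import Groth.Agent.SigmaLinLib.Basic
import Groth.Agent.SigmaLinLib.AlgPow
import Mathlib.FieldTheory.IsAlgClosed.AlgebraicClosure
import Mathlib.FieldTheory.Finite.Basic
import Mathlib.RingTheory.Smooth.StandardSmoothOfFree
import Mathlib.RingTheory.Extension.Presentation.Submersive

set_option autoImplicit false
universe u v
open FrobMod

namespace Groth.Agent.S13366

open MvPolynomial IsLocalRing

variable (p : ℕ) [hp : Fact p.Prime] {R : Type u} [CommRing R] {n : ℕ}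

/-- The system `A x^(p) - x = c`. -/
noncomputable def sys (A : Matrix (Fin n) (Fin n) R) (c : Fin n → R) (i : Fin n) : MvPolynomial (Fin n) R :=
  (∑ j, C (A i j) * X j ^ p) - X i - C (c i)

omit hp in
theorem eval_sys (A : Matrix (Fin n) (Fin n) R) (c x : Fin n → R) (i : Fin n) :
    eval x (sys p A c i) = (∑ j, A i j * x j ^ p) - x i - c i := by
  simp [sys]

omit hp in
theorem eval_map_sys {S : Type*} [CommRing S] (φ : R →+* S) (A : Matrix (Fin n) (Fin n) R)
    (c : Fin n → R) (y : Fin n → S) (i : Fin n) :
    eval y (map φ (sys p A c i)) = (∑ j, φ (A i j) * y j ^ p) - y i - φ (c i) := by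
  simp [sys]

omit hp in
theorem etale_sys [CharP R p] (A : Matrix (Fin n) (Fin n) R) (c : Fin n → R) :
    Algebra.Etale R (MvPolynomial (Fin n) R ⧸ Ideal.span (Set.range (sys p A c))) := by
  classical
  let P : Algebra.PreSubmersivePresentation R
      (MvPolynomial (Fin n) R ⧸ Ideal.span (Set.range (sys p A c))) (Fin n) (Fin n) :=
    Algebra.PreSubmersivePresentation.naive (v := sys p A c) id Function.injective_id
  have hj : P.jacobiMatrix = -1 := by
    ext i j
    rw [Algebra.PreSubmersivePresentation.jacobiMatrix_naive]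
    simp [sys, Pi.single_apply, Matrix.one_apply, eq_comm]
  let Q : Algebra.SubmersivePresentation R
      (MvPolynomial (Fin n) R ⧸ Ideal.span (Set.range (sys p A c))) (Fin n) (Fin n) :=
    { toPreSubmersivePresentation := P
      jacobian_isUnit := by
        rw [P.jacobian_eq_jacobiMatrix_det, hj, Matrix.det_neg]
        simp only [map_mul, map_pow, map_neg, map_one, Matrix.det_one, mul_one]
        exact IsUnit.pow _ (isUnit_iff_exists_inv.2 ⟨-1, by ring⟩) }
  rw [Algebra.Etale.iff_isStandardSmoothOfRelativeDimension_zero]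
  exact Q.isStandardSmoothOfRelativeDimension (by simp [Algebra.Presentation.dimension])

end Groth.Agent.S13366

namespace Groth.Agent.S13366

open MvPolynomial IsLocalRing


/-- Over a strictly Henselian local ring R of prime characteristic p (Henselian, separably closed
residue field), let M be a free module of finite rank n and T an additive Frobenius-semilinear
self-map of M (T(rm) = r^p T(m)) whose values generate M as an R-module; for a basis (e_i) this says
that the matrix of coefficients of the elements T(e_i) is invertible. Then the map T − 1 is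
surjective and its kernel has cardinality p^n. (The published statement calls T a
Frobenius-semilinear isomorphism; this row asks only that the values of T generate M over R, which
is the property of T the published proof uses. Requiring T itself to be bijective would, for M ≠ 0,
force the Frobenius of R to be surjective.) -/
theorem result (p : ℕ) [Fact p.Prime] {R : Type u} [CommRing R]
    [HenselianLocalRing R] [IsSepClosed (IsLocalRing.ResidueField R)] [CharP R p]
    {M : Type v} [AddCommGroup M] [Module R M] [Module.Free R M] [Module.Finite R M]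
    (T : M →+ M) (hT : ∀ (r : R) (m : M), T (r • m) = r ^ p • T m)
    (hspan : Submodule.span R (Set.range T) = ⊤) :
    Function.Surjective (fun m => T m - m) ∧ Nat.card {m : M // T m = m} = p ^ Module.finrank R M := by
  classical
  set n := Module.finrank R M with hn
  let e : Module.Basis (Fin n) R M := Module.finBasis R M
  let A : Matrix (Fin n) (Fin n) R := fun i j => e.repr (T (e j)) i
  have hTsum : ∀ m : M, T m = ∑ j, e.repr m j ^ p • T (e j) := fun m => by
    conv_lhs => rw [← e.sum_repr m, map_sum]
    simp only [hT]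
  have hTrepr : ∀ m i, e.repr (T m) i = ∑ j, A i j * e.repr m j ^ p := fun m i => by
    rw [hTsum m, map_sum, Finsupp.finsetSum_apply]
    simp [A, mul_comm]
  have hsp : Submodule.span R (Set.range fun j => T (e j)) = ⊤ := by
    refine eq_top_iff.2 (hspan.ge.trans (Submodule.span_le.2 ?_))
    rintro _ ⟨m, rfl⟩
    rw [hTsum m]
    exact Submodule.sum_mem _ fun j _ => Submodule.smul_mem _ _ (Submodule.subset_span ⟨j, rfl⟩)
  have hB : ∀ k : Fin n, ∃ b : Fin n → R, ∀ i, ∑ j, A i j * b j = if i = k then 1 else 0 := by
    intro k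
    obtain ⟨b, hb⟩ := (Submodule.mem_span_range_iff_exists_fun R).1
      (hsp ▸ Submodule.mem_top : e k ∈ Submodule.span R (Set.range fun j => T (e j)))
    refine ⟨b, fun i => ?_⟩
    have h := congrArg (fun m => e.repr m i) hb
    simpa [A, mul_comm, Finsupp.single_apply, eq_comm] using h
  choose B hB using hB
  have hp1 : 1 < p := (Fact.out : p.Prime).one_lt
  let Ω := AlgebraicClosure (IsLocalRing.ResidueField R)
  let φ : R →+* Ω := (algebraMap (IsLocalRing.ResidueField R) Ω).comp (IsLocalRing.residue R)
  have : IsLocalHom φ := ⟨fun r hr => by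
    by_contra h
    have h0 : residue R r = 0 := (residue_eq_zero_iff r).2 h
    simp [φ, h0] at hr⟩
  have : CharP Ω p := by
    rw [CharP.charP_iff_prime_eq_zero (Fact.out : p.Prime), ← map_natCast φ, CharP.cast_eq_zero,
      map_zero]
  let Tb : (Fin n → Ω) →ₛₗ[frobenius Ω p] (Fin n → Ω) :=
    { toFun := fun x i => ∑ j, φ (A i j) * x j ^ p
      map_add' := fun x y => by
        ext i
        simp [add_pow_char, mul_add, Finset.sum_add_distrib]
      map_smul' := fun a x => by
        ext i
        simp only [frobenius_def, Pi.smul_apply, smul_eq_mul, mul_pow]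
        rw [Finset.mul_sum]
        exact Finset.sum_congr rfl fun j _ => mul_left_comm _ _ _ }
  have hTb1 : Submodule.span Ω (Set.range Tb) = ⊤ := by
    refine eq_top_iff.2 ((Pi.basisFun Ω (Fin n)).span_eq.ge.trans (Submodule.span_le.2 ?_))
    rintro _ ⟨k, rfl⟩
    have : Pi.basisFun Ω (Fin n) k = ∑ j, φ (B k j) • Tb (Pi.single j 1) := by
      ext i
      have h := congrArg φ (hB k i)
      simp only [map_sum, map_mul] at h
      rw [Finset.sum_apply, Pi.basisFun_apply, Pi.single_apply]
      simp [Tb, Pi.single_apply, zero_pow (Fact.out : p.Prime).ne_zero]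
      rw [show (∑ x, φ (B k x) * φ (A i x)) = ∑ x, φ (A i x) * φ (B k x) from
        Finset.sum_congr rfl fun _ _ => mul_comm _ _, h]
      split_ifs <;> simp
    rw [this]
    exact Submodule.sum_mem _ fun j _ => Submodule.smul_mem _ _ (Submodule.subset_span ⟨_, rfl⟩)
  have hσ : ∀ x, frobenius Ω p x = x ^ p := fun x => frobenius_def p x
  have h2 := SigmaLinLib.pow_fixed_eq hp1 (frobenius Ω p) hσ
  have h3 : ∀ c : Ω, ∃ y : Ω, frobenius Ω p y - y + c = 0 := fun c =>
    SigmaLinLib.exists_pow_sub_eq hp1 c
  have hbij : ∀ c : Fin n → R, Set.BijOn (fun r : Fin n → R => φ ∘ r)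
      {r | ∀ i, eval r (sys p A c i) = 0}
      {s | ∀ i, eval s (map φ (sys p A c i)) = 0} := fun c =>
    haveI := etale_sys p A c
    Hensel.bijOn_solutions R Ω φ n (sys p A c)
  have hsolR : ∀ c m, (∀ i, eval (fun i => e.repr m i) (sys p A c i) = 0) ↔
      T m - m = ∑ i, c i • e i := by
    intro c m
    rw [← e.repr.injective.eq_iff, Finsupp.ext_iff]
    refine forall_congr' fun i => ?_
    rw [eval_sys, map_sub, Finsupp.sub_apply, hTrepr, e.repr_sum_self, sub_eq_zero]
  refine ⟨fun m => ?_, ?_⟩
  · obtain ⟨y, hy⟩ := SigmaLinLib.sub_surjective_of_span_range Tb hTb1 h2 h3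
      (fun i => -φ (e.repr m i))
    have hy' : y ∈ {s | ∀ i, eval s (map φ (sys p A (fun i => e.repr m i) i)) = 0} := fun i => by
      have := congrFun hy i
      simp only [Pi.sub_apply] at this
      rw [eval_map_sys]
      change (Tb y) i - y i - _ = 0
      linear_combination -this
    obtain ⟨r, hr, -⟩ := (hbij _).surjOn hy'
    refine ⟨∑ i, r i • e i, ?_⟩
    have : (fun i => e.repr (∑ i, r i • e i) i) = r := funext fun i => by rw [e.repr_sum_self]
    have h := (hsolR (fun i => e.repr m i) (∑ i, r i • e i)).1 (by rw [this]; exact hr)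
    exact h.trans (e.sum_repr m)
  · have hF : {m : M // T m = m} ≃ ({r : Fin n → R | ∀ i, eval r (sys p A 0 i) = 0} : Set _) :=
      e.equivFun.toEquiv.subtypeEquiv fun m => by
        rw [Set.mem_ofPred_eq]
        exact ((hsolR 0 m).trans (by simp [sub_eq_zero])).symm
    obtain ⟨b, hb⟩ := SigmaLinLib.exists_basis_fixed Tb
      (SigmaLinLib.span_fixed_eq_top Tb hTb1 h2 h3)
    have hdim : Module.finrank Ω (Fin n → Ω) = n := Module.finrank_fin_fun Ω
    have hG : ({s : Fin n → Ω | ∀ i, eval s (map φ (sys p A 0 i)) = 0} : Set _) ≃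
        (Fin (Module.finrank Ω (Fin n → Ω)) → (⊥ : Subfield Ω)) :=
      (b.equivFun.toEquiv.subtypeEquiv (q := fun v => ∀ i, v i ∈ (⊥ : Subfield Ω)) fun y => by
        simp only [Set.mem_ofPred_eq, Subfield.mem_bot_iff_pow_eq_self (F := Ω) (p := p)]
        have h1 : (∀ i, eval y (map φ (sys p A 0 i)) = 0) ↔ Tb y = y := by
          rw [funext_iff]
          refine forall_congr' fun i => ?_
          rw [eval_map_sys]
          simp [Tb, sub_eq_zero]
        have h2 : Tb y = ∑ i, b.repr y i ^ p • b i := by
          conv_lhs => rw [← b.sum_repr y, map_sum]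
          simp only [map_smulₛₗ, hb, hσ]
        rw [h1, ← b.repr.injective.eq_iff, Finsupp.ext_iff, h2]
        refine forall_congr' fun i => ?_
        rw [b.repr_sum_self]
        rfl).trans (Equiv.subtypePiEquivPi)
    rw [Nat.card_congr ((hF.trans (hbij 0).equiv).trans hG), Nat.card_pi, Finset.prod_const,
      Finset.card_univ, Fintype.card_fin, hdim, Subfield.card_bot Ω p]

end Groth.Agent.S13366
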