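import Groth.Statements.S13367
import Groth.Agent.S13366
import Groth.Agent.Hensel.Henselization
import Mathlib.RingTheory.LocalRing.Module
import Mathlib.RingTheory.Filtration
import Mathlib.RingTheory.Henselian

set_option autoImplicit false
universe u v
open FrobMod

namespace Groth.Agent.S13367

open IsLocalRing TensorProduct

/-- The semilinear map with given images of the basis vectors. -/
def lift (p : ℕ) [Fact p.Prime] {R : Type u} [CommRing R] [CharP R p] {n : ℕ}
    (a : Fin n → Fin n → R) : (Fin n → R) →+ (Fin n → R) where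
  toFun x := ∑ j, x j ^ p • a j
  map_zero' := by simp [zero_pow (Fact.out : p.Prime).ne_zero]
  map_add' x y := by simp [add_pow_char, add_smul, Finset.sum_add_distrib]

theorem lift_smul (p : ℕ) [Fact p.Prime] {R : Type u} [CommRing R] [CharP R p] {n : ℕ}
    (a : Fin n → Fin n → R) (r : R) (x : Fin n → R) :
    lift p a (r • x) = r ^ p • lift p a x := by
  simp [lift, Finset.smul_sum, mul_pow, smul_smul]

theorem lift_single (p : ℕ) [Fact p.Prime] {R : Type u} [CommRing R] [CharP R p] {n : ℕ}
    (a : Fin n → Fin n → R) (k : Fin n) : lift p a (Pi.single k 1) = a k := by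
  change ∑ j, (Pi.single k (1 : R) : Fin n → R) j ^ p • a j = a k
  rw [Finset.sum_eq_single k]
  · simp
  · intro j _ hj
    simp [hj, zero_pow (Fact.out : p.Prime).ne_zero]
  · simp

theorem span_lift (p : ℕ) [Fact p.Prime] {R : Type u} [CommRing R] [CharP R p] {n : ℕ}
    (a : Fin n → Fin n → R) (h : Submodule.span R (Set.range a) = ⊤) :
    Submodule.span R (Set.range (lift p a)) = ⊤ :=
  eq_top_iff.2 (h.ge.trans (Submodule.span_mono (by
    rintro _ ⟨k, rfl⟩; exact ⟨_, lift_single p a k⟩)))

theorem lift_iterate_mem (p : ℕ) [Fact p.Prime] {R : Type u} [CommRing R] [CharP R p] {n : ℕ}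
    (a : Fin n → Fin n → R) (I : Ideal R) (x : Fin n → R) (hx : ∀ i, x i ∈ I) (N : ℕ) :
    ∀ i, (⇑(lift p a))^[N] x i ∈ I ^ (N + 1) := by
  induction N with
  | zero => simpa using hx
  | succ N ih =>
    intro i
    rw [Function.iterate_succ_apply']
    simp only [lift, AddMonoidHom.coe_mk, ZeroHom.coe_mk, Finset.sum_apply, Pi.smul_apply,
      smul_eq_mul]
    refine Ideal.sum_mem _ fun j _ => Ideal.mul_mem_right _ _ ?_
    have h := Ideal.pow_mem_pow (ih j) p
    rw [← pow_mul] at h
    refine Ideal.pow_le_pow_right ?_ h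
    have := (Fact.out : p.Prime).two_le
    nlinarith

theorem main (p : ℕ) [Fact p.Prime] {R : Type u} [CommRing R] [HenselianLocalRing R]
    [IsNoetherianRing R] [IsSepClosed (ResidueField R)] [CharP R p]
    {M : Type v} [AddCommGroup M] [Module R M] [Module.Finite R M]
    (T : M →+ M) (hT : ∀ (r : R) (m : M), T (r • m) = r ^ p • T m)
    (hspan : Submodule.span R (Set.range T) = ⊤) :
    Function.Surjective (fun m => T m - m) ∧
      Nat.card {m : M // T m = m} =
        p ^ Module.finrank (ResidueField R) (TensorProduct R (ResidueField R) M) := by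
  classical
  set κ := ResidueField R
  set n := Module.finrank κ (κ ⊗[R] M)
  let b : Module.Basis (Fin n) κ (κ ⊗[R] M) := Module.finBasis κ (κ ⊗[R] M)
  choose g hg using fun i => TensorProduct.mk_surjective R M κ Ideal.Quotient.mk_surjective (b i)
  have hgs : Submodule.span R (Set.range g) = ⊤ := span_eq_top_of_tmul_eq_basis g b hg
  let π : (Fin n → R) →ₗ[R] M := Fintype.linearCombination R g
  have hπ : Function.Surjective π := by
    rw [← LinearMap.range_eq_top, Fintype.range_linearCombination, hgs]
  have hker : ∀ x, π x = 0 → ∀ i, x i ∈ maximalIdeal R := by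
    intro x hx i
    have h0 : ∑ j, residue R (x j) • b j = 0 := by
      have := congrArg (TensorProduct.mk R κ M 1) hx
      rw [map_zero, Fintype.linearCombination_apply, map_sum] at this
      simp only [map_smul, hg] at this
      refine Eq.trans (Finset.sum_congr rfl fun j _ => ?_) this
      exact algebraMap_smul κ (x j) (b j)
    exact (residue_eq_zero_iff _).1 (Fintype.linearIndependent_iff.1 b.linearIndependent _ h0 i)
  choose a ha using fun j => hπ (T (g j))
  let T' := lift p a
  have hTπ : ∀ x, π (T' x) = T (π x) := by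
    intro x
    change π (∑ j, x j ^ p • a j) = T (π x)
    rw [map_sum, Fintype.linearCombination_apply, map_sum]
    exact Finset.sum_congr rfl fun j _ => by rw [map_smul, hT, ha]
  have hTπN : ∀ N x, π ((⇑T')^[N] x) = (⇑T)^[N] (π x) := fun N =>
    Function.Semiconj.iterate_right (f := π) hTπ N
  have has : Submodule.span R (Set.range a) = ⊤ := by
    refine eq_top_iff.2 (Submodule.le_of_le_smul_of_le_jacobson_bot (I := maximalIdeal R)
      Module.Finite.fg_top (maximalIdeal_le_jacobson ⊥) fun x _ => ?_)
    have h1 : π x ∈ (Submodule.span R (Set.range a)).map π := by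
      have hle : Submodule.span R (Set.range T) ≤ (Submodule.span R (Set.range a)).map π := by
        rw [Submodule.span_le]
        rintro _ ⟨m, rfl⟩
        obtain ⟨y, rfl⟩ := hπ m
        refine ⟨T' y, ?_, hTπ y⟩
        change ∑ j, y j ^ p • a j ∈ Submodule.span R (Set.range a)
        exact Submodule.sum_mem _ fun j _ => Submodule.smul_mem _ _
          (Submodule.subset_span (Set.mem_range_self j))
      exact hle (hspan ▸ Submodule.mem_top)
    obtain ⟨y, hy, hyx⟩ := h1
    rw [Submodule.mem_sup]
    refine ⟨y, hy, x - y, ?_, add_sub_cancel _ _⟩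
    have := hker (x - y) (by rw [map_sub, hyx, sub_self])
    rw [pi_eq_sum_univ (x - y)]
    exact Submodule.sum_mem _ fun i _ => Submodule.smul_mem_smul (this i) Submodule.mem_top
  obtain ⟨hsur, hcard⟩ := S13366.result p T' (lift_smul p a) (span_lift p a has)
  rw [Module.finrank_fin_fun] at hcard
  have hkr : ⨅ i : ℕ, maximalIdeal R ^ i = ⊥ :=
    Ideal.iInf_pow_eq_bot_of_isLocalRing _ (Ideal.IsPrime.ne_top inferInstance)
  have hzero : ∀ x, T' x = x → (∀ i, x i ∈ maximalIdeal R) → x = 0 := by
    intro x hx hm
    funext i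
    rw [Pi.zero_apply, ← Ideal.mem_bot, ← hkr, Ideal.mem_iInf]
    intro N
    have := lift_iterate_mem p a _ x hm N i
    rw [Function.iterate_fixed hx] at this
    exact Ideal.pow_le_pow_right (Nat.le_succ N) this
  -- fixed points reduce bijectively modulo the maximal ideal
  have : IsSepClosed (ResidueField κ) := Hensel.isSepClosed_of_ringEquiv
    (RingEquiv.ofBijective (residue κ) ⟨(residue κ).injective, residue_surjective⟩)
  have : CharP κ p := by
    rw [CharP.charP_iff_prime_eq_zero (Fact.out : p.Prime), ← map_natCast (residue R),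
      CharP.cast_eq_zero, map_zero]
  let red : (Fin n → R) → (Fin n → κ) := fun x i => residue R (x i)
  have hred : ∀ x, red (T' x) = lift p (fun j => red (a j)) (red x) := fun x => by
    funext i; simp [red, T', lift]
  have has' : Submodule.span κ (Set.range fun j => red (a j)) = ⊤ := by
    refine eq_top_iff.2 fun y _ => ?_
    choose x hx using fun i => residue_surjective (y i)
    obtain ⟨c, hc⟩ := (Submodule.mem_span_range_iff_exists_fun R).1
      (has ▸ Submodule.mem_top : x ∈ Submodule.span R (Set.range a))
    rw [Submodule.mem_span_range_iff_exists_fun]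
    exact ⟨fun j => residue R (c j), funext fun i => by
      rw [← hx i, ← hc]; simp [red]⟩
  obtain ⟨-, hcard'⟩ := S13366.result p (lift p fun j => red (a j)) (lift_smul p _) (span_lift p _ has')
  rw [Module.finrank_fin_fun] at hcard'
  have : Finite {y : Fin n → κ // lift p (fun j => red (a j)) y = y} := by
    refine Nat.finite_of_card_ne_zero ?_
    rw [hcard']; exact pow_ne_zero _ (Fact.out : p.Prime).ne_zero
  let r : {x // T' x = x} → {y : Fin n → κ // lift p (fun j => red (a j)) y = y} :=
    fun x => ⟨red x.1, by rw [← hred, x.2]⟩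
  have hr : Function.Bijective r := by
    refine Function.Injective.bijective_of_nat_card_le (fun x y hxy => ?_) (hcard'.trans hcard.symm).le
    refine Subtype.ext (sub_eq_zero.1 (hzero (x.1 - y.1) (by rw [map_sub, x.2, y.2]) fun i => ?_))
    have h := congrFun (congrArg Subtype.val hxy) i
    rw [← residue_eq_zero_iff, Pi.sub_apply, map_sub, sub_eq_zero]
    exact h
  have hkr' : ⨅ i : ℕ, maximalIdeal R ^ i • (⊤ : Submodule R M) = ⊥ :=
    Ideal.iInf_pow_smul_eq_bot_of_isLocalRing _ (Ideal.IsPrime.ne_top inferInstance)
  refine ⟨fun m => ?_, ?_⟩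
  · obtain ⟨x, rfl⟩ := hπ m
    obtain ⟨y, hy⟩ := hsur x
    exact ⟨π y, by simp only [← hy, map_sub, hTπ]⟩
  · refine (Nat.card_congr (Equiv.ofBijective (fun x : {x // T' x = x} =>
      (⟨π x.1, by rw [← hTπ, x.2]⟩ : {m : M // T m = m})) ⟨fun x y hxy => ?_, ?_⟩)).symm.trans hcard
    · refine Subtype.ext (sub_eq_zero.1 (hzero (x.1 - y.1) (by rw [map_sub, x.2, y.2]) (hker _ ?_)))
      rw [map_sub, sub_eq_zero]
      exact congrArg Subtype.val hxy
    · rintro ⟨m, hm⟩
      obtain ⟨x, rfl⟩ := hπ m
      obtain ⟨z₀, hz₀⟩ := hsur (T' x - x)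
      simp only at hz₀
      have hdK : π (T' x - x) = 0 := by rw [map_sub, hTπ, hm, sub_self]
      obtain ⟨w, hw⟩ := hr.2 ⟨red z₀, by
        rw [← hred]
        funext i
        have h := (residue_eq_zero_iff _).2 (hker _ hdK i)
        rw [← congrFun hz₀ i, Pi.sub_apply, map_sub, sub_eq_zero] at h
        exact h⟩
      have hz : ∀ i, (z₀ - w.1) i ∈ maximalIdeal R := fun i => by
        rw [← residue_eq_zero_iff, Pi.sub_apply, map_sub, sub_eq_zero]
        exact (congrFun (congrArg Subtype.val hw) i).symm
      have hfz : T' (z₀ - w.1) - (z₀ - w.1) = T' x - x := by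
        rw [map_sub, w.2, ← hz₀]; abel
      have hTz : T (π (z₀ - w.1)) = π (z₀ - w.1) := by
        rw [← hTπ, ← sub_eq_zero, ← map_sub, hfz, hdK]
      have hz0 : π (z₀ - w.1) = 0 := by
        rw [← Submodule.mem_bot R, ← hkr', Submodule.mem_iInf]
        intro N
        have h1 := hTπN N (z₀ - w.1)
        rw [Function.iterate_fixed hTz] at h1
        rw [← h1, pi_eq_sum_univ ((⇑T')^[N] _), map_sum]
        exact Submodule.sum_mem _ fun i _ => by
          rw [map_smul]
          exact Submodule.smul_mem_smul
            (Ideal.pow_le_pow_right (Nat.le_succ N) (lift_iterate_mem p a _ _ hz N i))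
            Submodule.mem_top
      refine ⟨⟨x - (z₀ - w.1), ?_⟩, Subtype.ext ?_⟩
      · rw [map_sub, ← sub_eq_zero, sub_sub_sub_comm, hfz, sub_self]
      · simp only [map_sub] at hz0 ⊢
        rw [hz0, sub_zero]

end Groth.Agent.S13367

namespace Groth.Agent.S13367


/-- Over a strictly Henselian discrete valuation ring R of prime characteristic p with residue field κ,
for a finitely generated module M with n = dim_κ(κ ⊗ M) and a Frobenius-semilinear additive
bijection T of M (T(rm) = r^p T(m)), the map T − 1 is surjective and its kernel has cardinality p^n. -/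
theorem result (p : ℕ) [Fact p.Prime] {R : Type u} [CommRing R] [IsDomain R]
    [IsDiscreteValuationRing R] [HenselianLocalRing R] [IsSepClosed (IsLocalRing.ResidueField R)] [CharP R p]
    {M : Type v} [AddCommGroup M] [Module R M] [Module.Finite R M]
    (T : M →+ M) (hT : ∀ (r : R) (m : M), T (r • m) = r ^ p • T m) (hbij : Function.Bijective T) :
    Function.Surjective (fun m => T m - m) ∧
      Nat.card {m : M // T m = m} =
        p ^ Module.finrank (IsLocalRing.ResidueField R) (TensorProduct R (IsLocalRing.ResidueField R) M) := main p T hT (by rw [Set.range_eq_univ.2 hbij.2, Submodule.span_univ])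

end Groth.Agent.S13367
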