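import Groth.Statements.S13369
import Groth.Agent.GaChar.PthRoot

set_option autoImplicit false
open Groth.Agent
universe u
open GaDual

namespace Groth.Agent.S13369

/-- For a normal Noetherian domain A of prime characteristic p, an element whose differential vanishes
in the absolute Kähler differentials of A is a p-th power; that is, the sequence F : A → A, d : A →
Ω_A (F the Frobenius) is exact at the middle term. (The published statement is for normal locally
Noetherian schemes of characteristic p; this row is the case of the spectrum of a normal Noetherian
domain.) -/
theorem result (p : ℕ) [Fact p.Prime] {A : Type u} [CommRing A] [IsDomain A]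
    [IsNoetherianRing A] [IsIntegrallyClosed A] [CharP A p] (s : A) (hs : KaehlerDifferential.D ℤ A s = 0) :
    ∃ f : A, f ^ p = s := by
  exact GaChar.exists_pow_eq p hs

end Groth.Agent.S13369
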