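import Groth.Statements.S13371
import Groth.Agent.GaChar.Units
import Groth.Agent.GrpSchLib.GaPts

set_option autoImplicit false
open Groth.Agent
universe u
open GaDual

namespace Groth.Agent.S13371

open CategoryTheory AlgebraicGeometry MonObj CartesianMonoidalCategory in
/-- If S is a reduced scheme, every homomorphism of S-group schemes from the additive group to the
multiplicative group over S is the trivial homomorphism. -/
theorem result (S : Scheme.{u}) [IsReduced S] (φ : Red.Ga S ⟶ Red.Gm S)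
    [IsMonHom φ] : φ = 1 := by
  let A₁ : Scheme.{u} := 𝔸(PUnit.{u + 1}; S)
  let T : Over S := Over.mk (𝔸(PUnit.{u + 1}; S) ↘ S)
  let c : Γ(T.left, ⊤) := AffineSpace.coord S PUnit.unit
  let x : T ⟶ Red.Ga S := GrpSchLib.GaPts.ptOfFn c
  let r : T ⟶ T := Over.homMk (GaChar.retr PUnit.{u + 1} S) (GaChar.retr_over _ _)
  -- the composite with the retraction is trivial
  have hr : r ≫ x = 1 := by
    apply GrpSchLib.GaPts.gaFn_injective
    show Red.gaFn (r ≫ x) = Red.gaFn (1 : T ⟶ Red.Ga S)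
    rw [GrpSchLib.GaPts.gaFn_comp, GrpSchLib.GaPts.gaFn_ptOfFn, GrpSchLib.GaPts.gaFn_one]
    exact GaChar.retr_coord _ _ _
  have hu : Red.gmFn (x ≫ φ) = Red.gmFn (r ≫ (x ≫ φ)) := by
    rw [← GmPts.val_unitOfPt (r ≫ (x ≫ φ)), GmPts.unitOfPt_comp]
    exact (GaChar.retr_unit _ S _ (GmPts.unitOfPt (x ≫ φ)).isUnit).symm
  have hx : x ≫ φ = 1 := by
    have h1 : r ≫ (x ≫ φ) = 1 := by
      rw [← Category.assoc, hr]
      exact MonObj.one_comp φ
    rw [h1, ← GmPts.val_unitOfPt, ← GmPts.val_unitOfPt] at hu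
    rw [← GmPts.ptOfUnit_unitOfPt (x ≫ φ), Units.ext hu, GmPts.ptOfUnit_unitOfPt]
  let g : Red.Ga S ⟶ T := Over.homMk
    (AffineSpace.homOfVector (Red.Ga S).hom (fun _ => Red.gaFn (𝟙 (Red.Ga S)))) (AffineSpace.homOfVector_over _ _)
  have hg : g ≫ x = 𝟙 (Red.Ga S) := by
    apply GrpSchLib.GaPts.gaFn_injective
    show Red.gaFn (g ≫ x) = Red.gaFn (𝟙 (Red.Ga S))
    rw [GrpSchLib.GaPts.gaFn_comp, GrpSchLib.GaPts.gaFn_ptOfFn]
    exact AffineSpace.homOfVector_appTop_coord _ _ _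
  calc φ = g ≫ (x ≫ φ) := by rw [← Category.assoc, hg, Category.id_comp]
    _ = 1 := by rw [hx]; exact MonObj.comp_one g

end Groth.Agent.S13371
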