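import Groth.Statements.S13373
import Groth.Agent.GaChar.Basic

set_option autoImplicit false
open Groth.Agent
universe u
open GaDual

namespace Groth.Agent.S13373

/-- Over a commutative algebra A of prime characteristic p, the formal characters (power series χ with
constant term 1 and χ(X+Y) = χ(X)χ(Y)) are exactly the infinite products ∏_n exp_p(a_n X^(p^n)) with
a_n^p = 0, where exp_p(Y) = Σ_{j<p} Y^j/j!; the infinite product is expressed through its
truncations: χ mod X^(p^m) equals the finite product over n < m. -/
theorem result (p : ℕ) [Fact p.Prime] (A : Type u) [CommRing A] [CharP A p]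
    (χ : PowerSeries A) :
    (PowerSeries.constantCoeff χ = 1 ∧
      PowerSeries.subst (MvPowerSeries.X 0 + MvPowerSeries.X 1 : MvPowerSeries (Fin 2) A) χ =
        PowerSeries.subst (MvPowerSeries.X 0 : MvPowerSeries (Fin 2) A) χ *
          PowerSeries.subst (MvPowerSeries.X 1 : MvPowerSeries (Fin 2) A) χ) ↔
      ∃ a : ℕ → A, (∀ n, a n ^ p = 0) ∧ ∀ m : ℕ,
        PowerSeries.trunc (p ^ m) χ = ∏ n ∈ Finset.range m, ∑ j ∈ Finset.range p,
          Polynomial.C (Ring.inverse (j.factorial : A) * a n ^ j) * Polynomial.X ^ (j * p ^ n) := by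
  constructor
  · rintro ⟨h0, h⟩
    exact GaChar.IsChar.exists_prod p h0 h
  · rintro ⟨a, ha, h⟩
    exact GaChar.isChar_of_trunc p ha h

end Groth.Agent.S13373
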