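import Groth.Statements.S13374
import Groth.Agent.GaChar.Basic

set_option autoImplicit false
open Groth.Agent
universe u
open GaDual

namespace Groth.Agent.S13374

/-- Over a commutative algebra A of prime characteristic p, every character of the kernel α_(p^n) of the
n-th Frobenius of the additive group — i.e. every polynomial f of degree < p^n with f(0) = 1 and
f(X+Y) ≡ f(X)f(Y) modulo (X^(p^n), Y^(p^n)) — is the product ∏_{i<n} exp_p(a_i X^(p^i)) for some a_i
with a_i^p = 0, exp_p(Y) = Σ_{j<p} Y^j/j!. -/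
theorem result (p : ℕ) [Fact p.Prime] (A : Type u) [CommRing A] [CharP A p]
    (n : ℕ) (f : Polynomial A) (hdeg : f.natDegree < p ^ n) (h0 : f.eval 0 = 1)
    (hmul : Ideal.Quotient.mk
        (Ideal.span {(MvPolynomial.X 0 ^ p ^ n : MvPolynomial (Fin 2) A), MvPolynomial.X 1 ^ p ^ n})
        (Polynomial.aeval (MvPolynomial.X 0 + MvPolynomial.X 1 : MvPolynomial (Fin 2) A) f) =
      Ideal.Quotient.mk
        (Ideal.span {(MvPolynomial.X 0 ^ p ^ n : MvPolynomial (Fin 2) A), MvPolynomial.X 1 ^ p ^ n})
        (Polynomial.aeval (MvPolynomial.X 0 : MvPolynomial (Fin 2) A) f *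
          Polynomial.aeval (MvPolynomial.X 1 : MvPolynomial (Fin 2) A) f)) :
    ∃ a : ℕ → A, (∀ i, a i ^ p = 0) ∧
      f = ∏ i ∈ Finset.range n, ∑ j ∈ Finset.range p,
          Polynomial.C (Ring.inverse (j.factorial : A) * a i ^ j) * Polynomial.X ^ (j * p ^ i) := by
  refine GaChar.eq_prod_of_isChar p h0 (GaChar.isChar_iff.mpr fun i j => ?_) hdeg
  simp only [Polynomial.coeff_coe]
  by_cases hij : i < p ^ n ∧ j < p ^ n
  · rw [Ideal.Quotient.eq, Ideal.mem_span_pair] at hmul
    obtain ⟨r, s, hrs⟩ := hmul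
    have h := congrArg (MvPolynomial.coeff (GaChar.pr i j)) hrs
    rw [MvPolynomial.coeff_sub, GaChar.coeff_aeval_sum, GaChar.coeff_aeval_mul, MvPolynomial.coeff_add,
      MvPolynomial.X_pow_eq_monomial, MvPolynomial.X_pow_eq_monomial, MvPolynomial.coeff_mul_monomial',
      MvPolynomial.coeff_mul_monomial', if_neg ?_, if_neg ?_, add_zero] at h
    · exact sub_eq_zero.mp h.symm
    · intro hle
      have := hle 1
      simp at this
      omega
    · intro hle
      have := hle 0
      simp at this
      omega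
  · have hz : ∀ k, p ^ n ≤ k → f.coeff k = 0 := fun k hk => Polynomial.coeff_eq_zero_of_natDegree_lt (by omega)
    rw [hz (i + j) (by omega), mul_zero]
    rcases not_and_or.mp hij with h | h
    · rw [hz i (by omega), zero_mul]
    · rw [hz j (by omega), mul_zero]

end Groth.Agent.S13374
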