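import Groth.Statements.S13375
import Groth.Agent.LadderLift.Basic
-- import your own Groth.Agent.* helpers here

set_option autoImplicit false
universe u v
open CechDer

namespace Groth.Agent.S13375

open CategoryTheory CategoryTheory.Limits in
/-- In an abelian category, given two degreewise left exact sequences of nonnegatively graded cochain
complexes 0 → C' → C → C'' and 0 → I' → I → I'', each complex exact in positive degrees and the I's
termwise injective, every commutative ladder of maps g', g, g'' between their degree-zero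
cohomologies is induced by chain maps f' : C' → I', f : C → I, f'' : C'' → I'' commuting with the
given maps of complexes. -/
theorem result {V : Type u} [Category.{v} V]
    [Abelian V] (C' C C'' I' I I'' : CochainComplex V ℕ)
    (jC : C' ⟶ C) (πC : C ⟶ C'') (jI : I' ⟶ I) (πI : I ⟶ I'')
    (mC : ∀ n, Mono (jC.f n)) (wC : ∀ n, jC.f n ≫ πC.f n = 0)
    (exC : ∀ n, (ShortComplex.mk (jC.f n) (πC.f n) (wC n)).Exact)
    (mI : ∀ n, Mono (jI.f n)) (wI : ∀ n, jI.f n ≫ πI.f n = 0)
    (exI : ∀ n, (ShortComplex.mk (jI.f n) (πI.f n) (wI n)).Exact)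
    (hC' : ∀ n, 0 < n → C'.ExactAt n) (hC : ∀ n, 0 < n → C.ExactAt n) (hC'' : ∀ n, 0 < n → C''.ExactAt n)
    (hI' : ∀ n, 0 < n → I'.ExactAt n) (hI : ∀ n, 0 < n → I.ExactAt n) (hI'' : ∀ n, 0 < n → I''.ExactAt n)
    (injI' : ∀ n, Injective (I'.X n)) (injI : ∀ n, Injective (I.X n)) (injI'' : ∀ n, Injective (I''.X n))
    (g' : C'.homology 0 ⟶ I'.homology 0) (g : C.homology 0 ⟶ I.homology 0)
    (g'' : C''.homology 0 ⟶ I''.homology 0)
    (hg1 : HomologicalComplex.homologyMap jC 0 ≫ g = g' ≫ HomologicalComplex.homologyMap jI 0)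
    (hg2 : HomologicalComplex.homologyMap πC 0 ≫ g'' = g ≫ HomologicalComplex.homologyMap πI 0) :
    ∃ (f' : C' ⟶ I') (f : C ⟶ I) (f'' : C'' ⟶ I''),
      jC ≫ f = f' ≫ jI ∧ πC ≫ f'' = f ≫ πI ∧
      HomologicalComplex.homologyMap f' 0 = g' ∧ HomologicalComplex.homologyMap f 0 = g ∧
      HomologicalComplex.homologyMap f'' 0 = g'' := by
  classical
  let O : CochainComplex V ℕ := HomologicalComplex.zero
  have hO : CategoryTheory.Limits.IsZero O := HomologicalComplex.isZero_zero
  have hOX : ∀ n, CategoryTheory.Limits.IsZero (O.X n) := fun n => CategoryTheory.Limits.isZero_zero V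
  have hOex : ∀ n, 0 < n → O.ExactAt n := fun n _ => by
    rw [HomologicalComplex.exactAt_iff]
    exact CategoryTheory.ShortComplex.exact_of_isZero_X₂ _ (hOX n)
  have hOh : CategoryTheory.Limits.IsZero (O.homology 0) := by
    rw [CategoryTheory.Limits.IsZero.iff_id_eq_zero, ← HomologicalComplex.homologyMap_id, hO.eq_of_src (𝟙 O) 0,
      HomologicalComplex.homologyMap_zero]
  -- `f'`
  obtain ⟨f', -, hf'⟩ := LadderLift.exists_extend (𝟙 O) (hO.to_ C') (fun n => by infer_instance)
    (fun n => (hOX n).eq_of_src _ _) (fun n W a _ => ⟨W, 𝟙 W, inferInstance, 0, (hOX n).eq_of_tgt _ _⟩)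
    hOex hOex hC' injI' (hO.to_ I') (hO.eq_of_src _ _) g' (hOh.eq_of_src _ _)
  -- `f`
  obtain ⟨f, hf1, hf2⟩ := LadderLift.exists_extend (hO.to_ C') jC
    (fun n => ⟨fun {W} a b _ => (hOX n).eq_of_tgt _ _⟩)
    (fun n => (hOX n).eq_of_src _ _)
    (fun n W a ha => ⟨W, 𝟙 W, inferInstance, 0, by
      haveI := mC n
      rw [Category.id_comp, CategoryTheory.Limits.zero_comp]
      exact zero_of_comp_mono (jC.f n) ha⟩)
    hOex hC' hC injI (f' ≫ jI) (hO.eq_of_src _ _) g (by
      rw [hg1, HomologicalComplex.homologyMap_comp, hf'])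
  -- `f''`
  obtain ⟨f'', hf''1, hf''2⟩ := LadderLift.exists_extend jC πC mC wC
    (fun n W a ha => (exC n).exact_up_to_refinements a ha)
    hC' hC hC'' injI'' (f ≫ πI) (by
      rw [← Category.assoc, hf1, Category.assoc]
      have : jI ≫ πI = 0 := by ext n; exact wI n
      rw [this, CategoryTheory.Limits.comp_zero]) g'' (by
      rw [hg2, HomologicalComplex.homologyMap_comp, hf2])
  exact ⟨f', f, f'', hf1, hf''1, hf', hf2, hf''2⟩

end Groth.Agent.S13375
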