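import Groth.Statements.S13378
import Groth.Agent.ProComplHelper.Profinite
import Groth.Agent.S13363

set_option autoImplicit false
universe u
open ProCompl

namespace Groth.Agent.S13378

/-- For an abelian group A (written multiplicatively, discrete) and a subgroup A' such that the quotient
A/A' has no nontrivial divisible element and its torsion elements are killed by one positive
integer, the map induced on profinite completions by the inclusion of A' in A is injective. (The
published statement is for topological abelian groups in which every nA is open, with completions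
formed from open subgroups of finite index; this row is the case of the discrete topology.) -/
theorem result (A : Type u) [CommGroup A] (A' : Subgroup A)
    (hdiv : ∀ x : A ⧸ A', (∀ n : ℕ, 0 < n → ∃ y : A ⧸ A', y ^ n = x) → x = 1)
    (htors : ∃ N : ℕ, 0 < N ∧ ∀ x : A ⧸ A', IsOfFinOrder x → x ^ N = 1) :
    Function.Injective (ProfiniteGrp.profiniteCompletion.map (GrpCat.ofHom A'.subtype)).hom := by
  classical
  rw [injective_iff_map_eq_one]
  intro x hx
  refine Subtype.ext (funext fun U => ?_)
  show x.1 U = 1
  obtain ⟨N, hN0, hN⟩ := htors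
  let H : Subgroup A := U.toSubgroup.map A'.subtype
  have hrep : ∀ c : A' ⧸ U.toSubgroup, ∃ M : Subgroup A, M.FiniteIndex ∧ H ≤ M ∧
      ((c.out : A) ∈ M → c = 1) := by
    intro c
    by_cases hc : c = 1
    · exact ⟨⊤, inferInstance, le_top, fun _ => hc⟩
    let G := Additive (A ⧸ H)
    let a : G := Additive.ofMul ((c.out : A) : A ⧸ H)
    letI : TopologicalSpace G := ⊥
    haveI : DiscreteTopology G := ⟨rfl⟩
    haveI : IsTopologicalAddGroup G := {}
    obtain ⟨B, -, hB, haB⟩ := (Groth.Agent.S13363.result (A := G) (fun n _ => isOpen_discrete _) a).2 (by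
      intro hdivis
      apply hc
      have hpos : 0 < U.toSubgroup.index := Nat.pos_of_ne_zero U.isFiniteIndex'.index_ne_zero
      obtain ⟨b, hb⟩ := hdivis (N * U.toSubgroup.index) (Nat.mul_pos hN0 hpos)
      obtain ⟨y, hy⟩ := QuotientGroup.mk_surjective (Additive.toMul b)
      replace hb : (y : A ⧸ H) ^ (N * U.toSubgroup.index) = ((c.out : A) : A ⧸ H) := by
        rw [hy]; exact hb
      rw [← QuotientGroup.mk_pow, QuotientGroup.eq] at hb
      obtain ⟨w, hw, hwe⟩ := hb
      have hy' : (y : A ⧸ A') ^ (N * U.toSubgroup.index) = 1 := by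
        rw [← QuotientGroup.mk_pow, QuotientGroup.eq_one_iff,
          show y ^ (N * U.toSubgroup.index) = (c.out : A) * (w : A)⁻¹ by
            rw [show (w : A) = (y ^ (N * U.toSubgroup.index))⁻¹ * (c.out : A) from hwe]; group]
        exact A'.mul_mem c.out.2 (A'.inv_mem w.2)
      have hyN : y ^ N ∈ A' := by
        rw [← QuotientGroup.eq_one_iff, QuotientGroup.mk_pow]
        exact hN _ (isOfFinOrder_iff_pow_eq_one.2 ⟨_, Nat.mul_pos hN0 hpos, hy'⟩)
      have hyU : (⟨y ^ N, hyN⟩ : A') ^ U.toSubgroup.index ∈ U.toSubgroup := Subgroup.pow_index_mem _ _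
      have hcU : c.out ∈ U.toSubgroup := by
        have : c.out = (⟨y ^ N, hyN⟩ : A') ^ U.toSubgroup.index * w := by
          apply Subtype.ext
          show (c.out : A) = (y ^ N) ^ U.toSubgroup.index * (w : A)
          rw [show (w : A) = (y ^ (N * U.toSubgroup.index))⁻¹ * (c.out : A) from hwe, ← pow_mul]; group
        rw [this]; exact U.toSubgroup.mul_mem hyU hw
      rw [← QuotientGroup.out_eq' c]
      exact (QuotientGroup.eq_one_iff _).2 hcU)
    refine ⟨B.toSubgroup'.comap (QuotientGroup.mk' H), ⟨?_⟩, fun z hz => ?_, fun hmem => absurd hmem haB⟩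
    · rw [Subgroup.index_comap_of_surjective _ (QuotientGroup.mk'_surjective H)]
      exact hB.index_ne_zero
    · show Additive.ofMul (z : A ⧸ H) ∈ B
      rw [(QuotientGroup.eq_one_iff z).2 hz]
      exact zero_mem B
  choose M hM1 hM2 hM3 using hrep
  haveI : (⨅ c, M c).FiniteIndex := Subgroup.finiteIndex_iInf hM1
  haveI : (⨅ c, M c).Normal := inferInstance
  let V : FiniteIndexNormalSubgroup (GrpCat.of A) := FiniteIndexNormalSubgroup.ofSubgroup (⨅ c, M c)
  have key : FiniteIndexNormalSubgroup.comap A'.subtype V ≤ U := by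
    intro a ha
    set c : A' ⧸ U.toSubgroup := QuotientGroup.mk a
    have h1 : (a : A) ∈ M c := (Subgroup.mem_iInf.1 ha) c
    have hd : a⁻¹ * c.out ∈ U.toSubgroup := QuotientGroup.eq.1 (QuotientGroup.out_eq' c).symm
    have h2 : (c.out : A) ∈ M c := by
      have := (M c).mul_mem h1 (hM2 c ⟨_, hd, rfl⟩)
      simpa using this
    exact (QuotientGroup.eq_one_iff a).1 (hM3 c h2)
  have h1 := Groth.Agent.ProComplHelper.Profinite.map_val A'.subtype x V
  rw [hx] at h1
  obtain ⟨a, ha⟩ := QuotientGroup.mk_surjective (x.1 (FiniteIndexNormalSubgroup.comap A'.subtype V))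
  rw [← ha] at h1
  change (1 : A ⧸ V.toSubgroup) = ((a : A) : A ⧸ V.toSubgroup) at h1
  rw [← x.2 key.hom, ← ha]
  show ((a : A') : A' ⧸ U.toSubgroup) = 1
  exact (QuotientGroup.eq_one_iff a).2 (key (show (a : A) ∈ V.toSubgroup from (QuotientGroup.eq_one_iff (a : A)).1 h1.symm))

end Groth.Agent.S13378
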