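import Groth.Statements.S13379
import Groth.Agent.ProComplHelper.Profinite

set_option autoImplicit false
universe u
open ProCompl

namespace Groth.Agent.S13379

/-- Profinite completion is right exact: for an abelian group A (written multiplicatively, discrete) and
a subgroup A', the map on profinite completions induced by A → A/A' is surjective and its kernel is
the image of the completion of A'. (The published statement is right-exactness for topological
abelian groups with completions formed from open subgroups of finite index; this row is the case of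
the discrete topology.) -/
theorem result (A : Type u) [CommGroup A] (A' : Subgroup A) :
    Function.Surjective (ProfiniteGrp.profiniteCompletion.map (GrpCat.ofHom (QuotientGroup.mk' A'))).hom ∧
      (ProfiniteGrp.profiniteCompletion.map (GrpCat.ofHom (QuotientGroup.mk' A'))).hom.toMonoidHom.ker =
        (ProfiniteGrp.profiniteCompletion.map (GrpCat.ofHom A'.subtype)).hom.toMonoidHom.range := by
  refine ⟨fun y => ?_, ?_⟩
  · refine Groth.Agent.ProComplHelper.Profinite.exists_map_eq (QuotientGroup.mk' A') y fun V => ?_
    obtain ⟨c, hc⟩ := QuotientGroup.mk_surjective (y.1 V)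
    obtain ⟨a, rfl⟩ := QuotientGroup.mk'_surjective A' c
    exact ⟨a, hc⟩
  · ext x
    constructor
    · intro hx
      refine Groth.Agent.ProComplHelper.Profinite.exists_map_eq A'.subtype x fun U => ?_
      obtain ⟨b, hb⟩ := QuotientGroup.mk_surjective (x.1 U)
      haveI : (U.toSubgroup.map (QuotientGroup.mk' A')).FiniteIndex :=
        ⟨fun h => U.isFiniteIndex'.index_ne_zero (Nat.eq_zero_of_zero_dvd
          (h ▸ Subgroup.index_map_dvd U.toSubgroup (QuotientGroup.mk'_surjective A')))⟩
      haveI : (U.toSubgroup.map (QuotientGroup.mk' A')).Normal :=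
        U.isNormal'.map _ (QuotientGroup.mk'_surjective A')
      let V : FiniteIndexNormalSubgroup (GrpCat.of (A ⧸ A')) :=
        FiniteIndexNormalSubgroup.ofSubgroup (U.toSubgroup.map (QuotientGroup.mk' A'))
      have hle : U ≤ FiniteIndexNormalSubgroup.comap (QuotientGroup.mk' A') V := fun a ha => ⟨a, ha, rfl⟩
      have h1 := Groth.Agent.ProComplHelper.Profinite.map_val (QuotientGroup.mk' A') x V
      rw [← x.2 hle.hom, ← hb,
        show (ProfiniteGrp.profiniteCompletion.map (GrpCat.ofHom (QuotientGroup.mk' A'))).hom x = 1 from hx] at h1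
      change (1 : (A ⧸ A') ⧸ V.toSubgroup) = ((QuotientGroup.mk' A' b : A ⧸ A') : (A ⧸ A') ⧸ V.toSubgroup) at h1
      obtain ⟨u, hu, he⟩ := (QuotientGroup.eq_one_iff _).1 h1.symm
      have hA : u⁻¹ * b ∈ A' := QuotientGroup.eq.1 he
      refine ⟨⟨u⁻¹ * b, hA⟩, ?_⟩
      rw [← hb]
      show ((u⁻¹ * b : A) : A ⧸ U.toSubgroup) = _
      rw [QuotientGroup.eq]
      simpa using hu
    · rintro ⟨z, rfl⟩
      apply Subtype.ext
      funext V
      show ((ProfiniteGrp.profiniteCompletion.map (GrpCat.ofHom (QuotientGroup.mk' A'))).hom
        ((ProfiniteGrp.profiniteCompletion.map (GrpCat.ofHom A'.subtype)).hom z)).1 V = 1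
      obtain ⟨a, ha⟩ := QuotientGroup.mk_surjective
        (z.1 (FiniteIndexNormalSubgroup.comap A'.subtype (FiniteIndexNormalSubgroup.comap (QuotientGroup.mk' A') V)))
      refine (Groth.Agent.ProComplHelper.Profinite.map_val (QuotientGroup.mk' A') _ V).trans ?_
      refine (congrArg _ (Groth.Agent.ProComplHelper.Profinite.map_val A'.subtype z _)).trans ?_
      rw [← ha]
      show ((QuotientGroup.mk' A' (A'.subtype a) : A ⧸ A') : (A ⧸ A') ⧸ V.toSubgroup) = 1
      rw [show QuotientGroup.mk' A' (A'.subtype a) = 1 from (QuotientGroup.eq_one_iff _).2 a.2]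
      rfl

end Groth.Agent.S13379
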