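import Groth.Statements.S13386
import Groth.Agent.ZeroCycLib.Small
import Mathlib
-- import your own Groth.Agent.* helpers here

set_option autoImplicit false
universe u
open scoped TensorProduct
open ZeroCyc

namespace Groth.Agent.S13386

/-- Let A' = T⁻¹A be a localization of the ring A, M an A-module and M' = A' ⊗_A M. In the divided power
algebra Γ_{A'}(M') the A'-span of the d-th divided powers γ_d(1 ⊗ m), m ∈ M, is the A'-span of
γ_d(M'). (The published statement phrases this as the surjectivity of the natural map from (γ_d(M))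
⊗_A A' onto (γ_d(M')); its further clause through the base-change isomorphism Γ_A(M) ⊗_A A' ≅
Γ_{A'}(M') is not restated here.) -/
theorem result {A A' M : Type u} [CommRing A] [CommRing A']
    [Algebra A A'] (T : Submonoid A) [IsLocalization T A'] [AddCommGroup M] [Module A M] (d : ℕ) :
    Submodule.span A' (Set.range fun m : M => DividedPowerAlgebra.dp A' d ((1 : A') ⊗ₜ[A] m)) =
      Submodule.span A' (Set.range (DividedPowerAlgebra.dp A' d (M := A' ⊗[A] M))) := by
  refine le_antisymm (Submodule.span_mono (Set.range_subset_iff.mpr fun m => ⟨_, rfl⟩))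
    (Submodule.span_le.mpr ?_)
  rintro _ ⟨z, rfl⟩
  obtain ⟨⟨m, t⟩, hz⟩ := IsLocalizedModule.surj T (TensorProduct.mk A A' M 1) z
  obtain ⟨c, hc⟩ := IsLocalization.map_units A' t
  have h2 : z = (↑c⁻¹ : A') • ((1 : A') ⊗ₜ[A] m) := by
    have h3 : (c : A') • z = (1 : A') ⊗ₜ[A] m := by
      rw [hc, algebraMap_smul]
      exact hz
    rw [← h3, smul_smul, c.inv_mul, one_smul]
  rw [h2, DividedPowerAlgebra.dp_smul]
  exact Submodule.smul_mem _ _ (Submodule.subset_span ⟨m, rfl⟩)

end Groth.Agent.S13386
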