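import Groth.Statements.S13388
import Groth.Agent.PolLib.DpConverse
-- import your own Groth.Agent.* helpers here

set_option autoImplicit false
universe u
open ZeroCyc

namespace Groth.Agent.S13388

/-- Let A be a commutative ring, M a finitely generated A-module and d ≥ 0. If the degree-d piece
Γ^d_A(M) of Γ_A(M) is spanned over A by the divided powers γ_d(m), m ∈ M, then at each prime p of A
either k(p) has d or more elements, or the localisation M_p is a cyclic A_p-module. -/
theorem result {A M : Type u} [CommRing A] [AddCommGroup M]
    [Module A M] [Module.Finite A M] (d : ℕ)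
    (h : Submodule.span A (Set.range (DividedPowerAlgebra.dp A d : M → DividedPowerAlgebra A M)) =
      PolLaw.gammaPiece A M d)
    (p : PrimeSpectrum A) :
    (d : Cardinal) ≤ Cardinal.mk p.asIdeal.ResidueField ∨
      ∃ x : LocalizedModule p.asIdeal.primeCompl M, Submodule.span (Localization.AtPrime p.asIdeal) {x} = ⊤ := by
  exact Groth.Agent.PolLib.residue_card_or_cyclic d h p

end Groth.Agent.S13388
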