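import Groth.Statements.S13389
import Groth.Agent.PolLib.DpSpan
-- import your own Groth.Agent.* helpers here

set_option autoImplicit false
universe u
open ZeroCyc

namespace Groth.Agent.S13389

open Polynomial in
/-- Let P_d(T) = ∏_{0 ≤ i < j ≤ d} (T^i − T^j) − 1 ∈ ℤ[T]. If A is an algebra over ℤ[T]/(P_d), i.e.
receives a ring homomorphism from it, then for every A-module M the degree-d piece Γ^d_A(M) of the
divided power algebra Γ_A(M) is spanned over A by the d-th divided powers γ_d(m), m ∈ M. (The
published statement adds that consequently every ring has a finite faithfully flat extension,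
independent of M, over which this holds; that clause is not restated.) -/
theorem result {A M : Type u} [CommRing A] [AddCommGroup M]
    [Module A M] (d : ℕ)
    (φ : (ℤ[X] ⧸ Ideal.span {(∏ j ∈ Finset.range (d + 1), ∏ i ∈ Finset.range j,
        ((X : ℤ[X]) ^ i - X ^ j)) - 1}) →+* A) :
    Submodule.span A (Set.range (DividedPowerAlgebra.dp A d : M → DividedPowerAlgebra A M)) =
      PolLaw.gammaPiece A M d := by
  set t : A := φ (Ideal.Quotient.mk _ Polynomial.X) with ht
  have h1 : (∏ j ∈ Finset.range (d + 1), ∏ i ∈ Finset.range j, (t ^ i - t ^ j)) = 1 := by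
    have h := congrArg φ (Ideal.Quotient.eq.mpr (Ideal.subset_span (Set.mem_singleton
      ((∏ j ∈ Finset.range (d + 1), ∏ i ∈ Finset.range j,
        ((Polynomial.X : Polynomial ℤ) ^ i - Polynomial.X ^ j)) - 1))))
    simpa only [map_prod, map_sub, map_pow, map_one] using h
  refine Groth.Agent.PolLib.dpSpan_eq_gammaPiece_of_units (fun i : Fin d => t ^ (i : ℕ))
    (fun i j hij => ?_)
  have h2 : IsUnit (∏ j ∈ Finset.range (d + 1), ∏ i ∈ Finset.range j, (t ^ i - t ^ j)) :=
    h1 ▸ isUnit_one
  have h3 : IsUnit (∏ a ∈ Finset.range (j : ℕ), (t ^ a - t ^ (j : ℕ))) :=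
    isUnit_of_dvd_unit (Finset.dvd_prod_of_mem (fun j => ∏ i ∈ Finset.range j, (t ^ i - t ^ j))
      (Finset.mem_range.mpr (show (j : ℕ) < d + 1 by omega))) h2
  have h4 : IsUnit (t ^ (i : ℕ) - t ^ (j : ℕ)) :=
    isUnit_of_dvd_unit (Finset.dvd_prod_of_mem (fun a => t ^ a - t ^ (j : ℕ))
      (Finset.mem_range.mpr (show (i : ℕ) < j from hij))) h3
  have := h4.neg
  rwa [neg_sub] at this

end Groth.Agent.S13389
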