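import Groth.Statements.S13392
import Groth.Agent.H23.SymCover
-- import your own Groth.Agent.* helpers here

set_option autoImplicit false
universe u
open scoped TensorProduct
open ZeroCyc

namespace Groth.Agent.S13392

/-- Let A be a commutative ring, B a graded A-algebra generated by its degree-one part B_1 with B_1 a
finitely generated A-module, and d ≥ 0. Inside the d-fold tensor power T^d_A(B) let C_k be the
A-span of the pure tensors b_1 ⊗ ⋯ ⊗ b_d with all b_i ∈ B_k, let C = Σ_k C_k (the A-subalgebra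
generated by these pure tensors; Proj C is the d-fold fibre product of X = Proj B over S = Spec A)
and let D = C ∩ TS^d_A(B) be its subring of symmetric tensors, graded by D_k = C_k ∩ TS^d_A(B), so
that Proj D is the symmetric product Sym^d(X/S). Provided each residue field of A has d or more
elements, Sym^d(X/S) is covered by the affine opens Sym^d(X_f/S) = D_+(f ⊗ ⋯ ⊗ f) with f ∈ B_1:
every t ∈ D_k with k ≥ 1 has some power t^m, m ≥ 1, in the ideal of D generated by the tensors f ⊗ ⋯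
⊗ f, f ∈ B_1. -/
theorem result {A B : Type u} [CommRing A] [CommRing B] [Algebra A B]
    (𝒜 : ℕ → Submodule A B) [GradedAlgebra 𝒜] (hgen : Algebra.adjoin A (𝒜 1 : Set B) = ⊤) (hfg : (𝒜 1).FG) (d : ℕ)
    (hres : ∀ p : PrimeSpectrum A, (d : Cardinal) ≤ Cardinal.mk p.asIdeal.ResidueField)
    (D : Subalgebra A (⨂[A] _ : Fin d, B))
    (hD : D = Algebra.adjoin A {t | ∃ (k : ℕ) (b : Fin d → B), (∀ i, b i ∈ 𝒜 k) ∧ t = PiTensorProduct.tprod A b}
      ⊓ SymTen.TS A B d)
    (k : ℕ) (hk : 0 < k) (t : ⨂[A] _ : Fin d, B) (htD : t ∈ D)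
    (htk : t ∈ Submodule.span A {s | ∃ b : Fin d → B, (∀ i, b i ∈ 𝒜 k) ∧ s = PiTensorProduct.tprod A b}) :
    ∃ m : ℕ, 0 < m ∧ (⟨t, htD⟩ : D) ^ m ∈
      Ideal.span {x : D | ∃ f : B, f ∈ 𝒜 1 ∧
        (x : ⨂[A] _ : Fin d, B) = PiTensorProduct.tprod A (fun _ : Fin d => f)} := by
  
  refine H23.SymCover.exists_pow_mem_of_diag 𝒜 d D hD hgen (fun n => n = 1) {x : D | ∃ f : B, f ∈ 𝒜 1 ∧ (x : ⨂[A] _ : Fin d, B) = PiTensorProduct.tprod A (fun _ : Fin d => f)}
    (fun n f hn hf hfD => ⟨f, by subst hn; exact hf, rfl⟩) (fun Q _ e he => ?_) k hk t htD htk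
  let p : Ideal A := Q.comap (algebraMap A (H23.SymCover.equi 𝒜 d))
  let ι := Ideal.ResidueField.map p Q (algebraMap A (H23.SymCover.equi 𝒜 d)) rfl
  obtain ⟨f, hf, hfi⟩ := H23.SymCover.exists_good_one 𝒜 _ e he ι
    (fun a => (Ideal.ResidueField.map_algebraMap p Q _ rfl a).trans (IsScalarTower.algebraMap_apply A _ _ a).symm)
    (fun c => by
      obtain ⟨a, s, hs, rfl⟩ := IsFractionRing.div_surjective (A := A ⧸ p) c
      obtain ⟨a, rfl⟩ := Ideal.Quotient.mk_surjective a
      obtain ⟨s, rfl⟩ := Ideal.Quotient.mk_surjective s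
      refine ⟨a, s, fun h => nonZeroDivisors.ne_zero hs
        (Ideal.Quotient.eq_zero_iff_mem.mpr (Ideal.algebraMap_residueField_eq_zero.mp h)), ?_⟩
      rw [IsScalarTower.algebraMap_apply A (A ⧸ p) p.ResidueField a,
        IsScalarTower.algebraMap_apply A (A ⧸ p) p.ResidueField s]
      rfl)
    (hres ⟨p, inferInstance⟩) Finset.univ
  exact ⟨1, f, rfl, hf, fun i => hfi i (Finset.mem_univ i)⟩

end Groth.Agent.S13392
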