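import Groth.Statements.S13394
import Groth.Agent.H23.SymClosed
-- import your own Groth.Agent.* helpers here

set_option autoImplicit false
universe u
open CategoryTheory CategoryTheory.Limits AlgebraicGeometry
open ZeroCyc

namespace Groth.Agent.S13394

/-- Scheme case. Let f : X → S be separated, let (Y, q, g) be a d-th symmetric product of X over S (q :
(X/S)^d → Y a quotient of the d-fold fibre product by the symmetric group, g : Y → S), let i : Z → X
be a closed immersion and (W, r, g_W) a d-th symmetric product of Z over S, let q((Z/S)^d) ⊆ Y be
the scheme-theoretic image of the composite (Z/S)^d → (X/S)^d → Y, and let m : W → q((Z/S)^d) be the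
morphism through which that composite factors via r. Then m induces an isomorphism on residue fields
at every point of W (trivial residue field extensions); if every positive integer is invertible in
Γ(S, O_S) then m is an isomorphism; and if Z → S is flat then m is a closed immersion. (The
published statement is for X a separated algebraic space over S; this row is the case of schemes in
which both symmetric products exist as schemes, taken as hypotheses, and leaves the
universal-homeomorphism clause to the general finite-group statement.) -/
theorem result {X Z S Y W : Scheme.{u}} (f : X ⟶ S) [IsSeparated f] (d : ℕ)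
    (q : SymProd.fibPow f d ⟶ Y) (g : Y ⟶ S) (hq : SymProd.IsSymProd f d q g)
    (i : Z ⟶ X) [IsClosedImmersion i]
    (r : SymProd.fibPow (i ≫ f) d ⟶ W) (gW : W ⟶ S) (hr : SymProd.IsSymProd (i ≫ f) d r gW)
    (m : W ⟶ (SymProd.fibPowMap (i ≫ f) d f i rfl ≫ q).ker.subscheme)
    (hm : r ≫ m ≫ (SymProd.fibPowMap (i ≫ f) d f i rfl ≫ q).ker.subschemeι =
      SymProd.fibPowMap (i ≫ f) d f i rfl ≫ q) :
    (∀ w : W, IsIso (m.residueFieldMap w)) ∧
    ((∀ n : ℕ, 0 < n → IsUnit ((n : ℕ) : Γ(S, ⊤))) → IsIso m) ∧
    (Flat (i ≫ f) → IsClosedImmersion m) := by
  
  exact H23.SymClosed.main f d q g hq i r gW hr m hm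

end Groth.Agent.S13394
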