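import Groth.Statements.S13398
import Groth.Agent.PolLib.InducedLaw
-- import your own Groth.Agent.* helpers here

set_option autoImplicit false
universe u
open scoped TensorProduct
open ZeroCyc

namespace Groth.Agent.S13398

/-- Let A be a commutative ring, B an A-algebra, d ≥ 0, and let (C, γ) be the degree-d divided power
algebra Γ^d_A(B) with its universal multiplicative law γ : B → C of degree d (every multiplicative
law of degree d out of B factors uniquely through γ). Let φ : Γ^d_A(B) → TS^d_A(B) be the canonical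
homomorphism to the symmetric tensors, taken here as data characterised by: after any base change S,
φ ∘ γ sends Σ_j s_j ⊗ b_j to Σ_{c : [d] → [n]} (∏_i s_{c(i)}) ⊗ (b_{c(1)} ⊗ ⋯ ⊗ b_{c(d)}), i.e. φ
corresponds to the law x ↦ x ⊗ ⋯ ⊗ x. Then x^{d!} = 0 for every x in the kernel of φ, and y^{d!}
lies in the image of φ for every symmetric tensor y ∈ TS^d_A(B). -/
theorem result {A B C : Type u} [CommRing A] [CommRing B] [Algebra A B] [CommRing C] [Algebra A C] (d : ℕ)
    (γ : PolLaw.MulLaw A B C d) (hγ : PolLaw.IsGammaD γ) (φ : C →ₐ[A] SymTen.TS A B d)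
    (hφ : ∀ (S : Type u) [CommSemiring S] [Algebra A S] (n : ℕ) (s : Fin n → S) (b : Fin n → B),
      ((SymTen.TS A B d).val.comp φ).toLinearMap.lTensor S (γ.law.toFun' S (∑ j, s j ⊗ₜ[A] b j)) =
        ∑ c : Fin d → Fin n, (∏ i, s (c i)) ⊗ₜ[A] PiTensorProduct.tprod A (fun i => b (c i))) :
    (∀ x : C, φ x = 0 → x ^ d.factorial = 0) ∧
      (∀ y : SymTen.TS A B d, y ^ d.factorial ∈ φ.range) := by
  obtain ⟨F, h1, h2⟩ := Groth.Agent.PolLib.exists_induced_TS hγ φ hφ
  constructor
  · intro x hx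
    have e := congrArg (fun G : PolLaw.MulLaw A C C d.factorial =>
      Groth.Agent.PolLib.ev G A (1 ⊗ₜ[A] x)) h2
    simp only [Groth.Agent.PolLib.ev_precomp, Groth.Agent.PolLib.bc_tmul, hx,
      TensorProduct.tmul_zero] at e
    have z0 := Groth.Agent.PolLib.ev_smul F (0 : A) (0 : A ⊗[A] SymTen.TS A B d)
    simp only [zero_smul, zero_pow d.factorial_ne_zero] at z0
    have e' : (0 : A ⊗[A] C) = (1 ⊗ₜ[A] x) ^ d.factorial := z0.symm.trans e
    rw [Algebra.TensorProduct.tmul_pow, one_pow] at e'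
    simpa using (congrArg (TensorProduct.lid A C) e').symm
  · intro y
    refine ⟨F.law.ground y, ?_⟩
    have e := congrArg (fun G : PolLaw.MulLaw A (SymTen.TS A B d) (SymTen.TS A B d) d.factorial =>
      Groth.Agent.PolLib.ev G A (1 ⊗ₜ[A] y)) h1
    simp only [Groth.Agent.PolLib.ev_postcomp] at e
    rw [show Groth.Agent.PolLib.ev F A ((1 : A) ⊗ₜ[A] y) = (1 : A) ⊗ₜ[A] F.law.ground y from
      (PolynomialLaw.one_tmul_ground_apply' (f := F.law) y).symm,
      Groth.Agent.PolLib.bc_tmul] at e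
    have e' : (1 : A) ⊗ₜ[A] φ (F.law.ground y) = (1 ⊗ₜ[A] y) ^ d.factorial := e
    rw [Algebra.TensorProduct.tmul_pow, one_pow] at e'
    simpa using congrArg (TensorProduct.lid A (SymTen.TS A B d)) e'

end Groth.Agent.S13398
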