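import Groth.Statements.S13402
import Mathlib.RingTheory.HopfAlgebra.Convolution
import Mathlib.Algebra.Algebra.Epi


set_option autoImplicit false
universe u v w
open Hopf

namespace Groth.Agent.S13402

/-- Let k be a field and let A and B be finite-dimensional commutative and cocommutative Hopf algebras
over k (finite commutative k-group schemes G = Spec A and H = Spec B). Let f : B → A be a bialgebra
map (a homomorphism G → H) which is injective and such that the ideal of A generated by the image of
the augmentation ideal of B is the augmentation ideal of A (the homomorphism G → H has trivial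
kernel). Then f is bijective, so G → H is an isomorphism; this is what makes the category of finite
commutative k-group schemes abelian. -/
theorem result (k : Type u) [Field k] (A : Type v) (B : Type w)
    [CommRing A] [HopfAlgebra k A] [Module.Finite k A] [Coalgebra.IsCocomm k A]
    [CommRing B] [HopfAlgebra k B] [Module.Finite k B] [Coalgebra.IsCocomm k B]
    (f : B →ₐc[k] A) (hinj : Function.Injective f)
    (hker : Ideal.map f (RingHom.ker (Bialgebra.counitAlgHom k B)) = RingHom.ker (Bialgebra.counitAlgHom k A)) :
    Function.Bijective f := by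
  letI : Algebra B A := (f : B →ₐ[k] A).toRingHom.toAlgebra
  haveI : IsScalarTower k B A := IsScalarTower.of_algebraMap_eq fun r => ((f : B →ₐ[k] A).commutes r).symm
  haveI : Module.Finite B A := Module.Finite.of_restrictScalars_finite k B A
  have hfa : ∀ b : B, algebraMap B A b = f b := fun _ => rfl
  let i₁ : A →ₐ[k] TensorProduct B A A := Algebra.TensorProduct.includeLeft
  let i₂ : A →ₐ[k] TensorProduct B A A :=
    (Algebra.TensorProduct.includeRight : A →ₐ[B] TensorProduct B A A).restrictScalars k
  have hi : ∀ b : B, i₂ (f b) = i₁ (f b) := fun b => by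
    show (1 : A) ⊗ₜ[B] f b = f b ⊗ₜ[B] 1
    rw [← hfa, Algebra.algebraMap_eq_smul_one, TensorProduct.smul_tmul]
  let S : A →ₐ[k] A := HopfAlgebra.antipodeAlgHom k A
  have hinv : WithConv.toConv (i₁.comp S) * WithConv.toConv i₁ = 1 := by
    apply WithConv.ext
    apply AlgHom.toLinearMap_injective
    apply WithConv.toConv_injective
    rw [AlgHom.toLinearMap_convMul]
    simp only [WithConv.ofConv_toConv, AlgHom.comp_toLinearMap, S, HopfAlgebra.toLinearMap_antipodeAlgHom,
      AlgHom.toLinearMap_convOne]
    have h := LinearMap.algHom_comp_convMul_distrib i₁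
      (WithConv.toConv (HopfAlgebra.antipode k (A := A))) (WithConv.toConv LinearMap.id)
    simp only [WithConv.ofConv_toConv, LinearMap.comp_id, LinearMap.antipode_mul_id] at h
    rw [← WithConv.toConv_ofConv (WithConv.toConv (i₁.toLinearMap ∘ₗ HopfAlgebra.antipode k) *
      WithConv.toConv i₁.toLinearMap), ← h]
    apply WithConv.ext
    apply LinearMap.ext
    intro a
    simp
  set r := WithConv.toConv (i₁.comp S) * WithConv.toConv i₂ with hr
  have hrf : r.ofConv.comp (f : B →ₐ[k] A) =
      (Algebra.ofId k _).comp (Bialgebra.counitAlgHom k B) := by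
    rw [hr, AlgHom.convMul_comp_bialgHom_distrib]
    simp only [WithConv.ofConv_toConv]
    have e : i₂.comp (f : B →ₐ[k] A) = i₁.comp (f : B →ₐ[k] A) := AlgHom.ext hi
    rw [e]
    have h' := AlgHom.convMul_comp_bialgHom_distrib (WithConv.toConv (i₁.comp S)) (WithConv.toConv i₁) f
    simp only [WithConv.ofConv_toConv] at h'
    rw [← h', hinv]
    apply AlgHom.ext
    intro b
    simp
  have hr1 : r = 1 := by
    apply WithConv.ext
    apply AlgHom.ext
    intro a
    have hle : RingHom.ker (Bialgebra.counitAlgHom k A) ≤ RingHom.ker r.ofConv := by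
      rw [← hker, Ideal.map_le_iff_le_comap]
      intro b hb
      have hb' : Bialgebra.counitAlgHom k B b = 0 := hb
      show r.ofConv (f b) = 0
      rw [show r.ofConv (f b) = r.ofConv.comp (f : B →ₐ[k] A) b from rfl, hrf]
      simp [AlgHom.comp_apply, hb']
    have h0 := hle (show a - algebraMap k A (Bialgebra.counitAlgHom k A a) ∈
      RingHom.ker (Bialgebra.counitAlgHom k A) by simp [RingHom.mem_ker])
    rw [RingHom.mem_ker, map_sub, AlgHom.commutes, sub_eq_zero] at h0
    exact h0
  have h12 : WithConv.toConv i₂ = WithConv.toConv i₁ := by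
    calc WithConv.toConv i₂ = (WithConv.toConv i₁ * WithConv.toConv (i₁.comp S)) * WithConv.toConv i₂ := by
          rw [mul_comm (WithConv.toConv i₁), hinv, one_mul]
      _ = WithConv.toConv i₁ * r := by rw [hr, mul_assoc]
      _ = WithConv.toConv i₁ := by rw [hr1, mul_one]
  haveI : Algebra.IsEpi B A := (Algebra.isEpi_iff_forall_one_tmul_eq B A).mpr fun a =>
    AlgHom.congr_fun (congrArg WithConv.ofConv h12) a
  exact ⟨hinj, Algebra.isEpi_iff_surjective_algebraMap_of_finite.mp this⟩

end Groth.Agent.S13402
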