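import Groth.Statements.S13404
import Mathlib.RingTheory.HopfAlgebra.Quotient
import Mathlib.RingTheory.Ideal.GoingUp
import Mathlib.RingTheory.TensorProduct.Finite
import Mathlib.RingTheory.Flat.Basic
import Mathlib.LinearAlgebra.TensorProduct.Basic
import Groth.Agent.Hensel.Local
import Groth.Agent.Hensel.HenselizationProps
import Mathlib.Logic.Small.Basic


set_option autoImplicit false
universe u v
open Hopf

namespace Groth.Agent.S13404


open TensorProduct

variable {R : Type u} [CommRing R] [IsLocalRing R] {B : Type v} [CommRing B] [IsLocalRing B] [Algebra R B] [Module.Finite R B]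

theorem eq_one_of_idem {C : Type*} [CommRing C] [Nontrivial C] {T : Type*} [CommRing T] [IsLocalRing T] {E : T} (hE : IsIdempotentElem E)
    (f : T →+* C) (h : f E = 1) : E = 1 := by
  have h1 : E * (1 - E) = 0 := by rw [mul_sub, _root_.mul_one, hE.eq, sub_self]
  rcases IsLocalRing.isUnit_or_isUnit_one_sub_self E with hu | hu
  · exact (sub_eq_zero.1 ((hu.mul_right_eq_zero).1 h1)).symm
  · have h0 : E = 0 := (hu.mul_left_eq_zero).1 h1
    rw [h0, map_zero] at h
    exact absurd h zero_ne_one

theorem isLocalRing_tensor_self (εB : B →ₐ[R] R) : IsLocalRing (B ⊗[R] B) := by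
  let ee : B ⊗[R] B →ₐ[R] R := Algebra.TensorProduct.lift εB εB fun _ _ => Commute.all _ _
  haveI : Nontrivial (B ⊗[R] B) := ee.toRingHom.domain_nontrivial
  haveI : Algebra.IsIntegral R (B ⊗[R] B) := Algebra.IsIntegral.of_finite R (B ⊗[R] B)
  have hM : ∀ (M : Ideal (B ⊗[R] B)), M.IsMaximal → ∀ b : B,
      b ⊗ₜ[R] (1 : B) - algebraMap R _ (εB b) ∈ M ∧ (1 : B) ⊗ₜ[R] b - algebraMap R _ (εB b) ∈ M := by
    intro M hM b
    haveI := hM
    have hne : RingHom.ker εB ≠ ⊤ := RingHom.ker_ne_top εB
    have hb : b - algebraMap R B (εB b) ∈ IsLocalRing.maximalIdeal B :=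
      IsLocalRing.le_maximalIdeal hne (by simp [RingHom.mem_ker])
    have hR : (M.comap (algebraMap R (B ⊗[R] B))).IsMaximal := Ideal.isMaximal_comap_of_isIntegral_of_isMaximal M
    have hcm : ∀ φ : B →ₐ[R] B ⊗[R] B, φ (b - algebraMap R B (εB b)) ∈ M := by
      intro φ
      have hmax : (M.comap φ).IsMaximal := by
        refine Ideal.isMaximal_of_isIntegral_of_isMaximal_comap (R := R) _ ?_
        rw [show (M.comap φ).comap (algebraMap R B) = M.comap (algebraMap R (B ⊗[R] B)) from
          Ideal.ext fun r => by simp [Ideal.mem_comap]]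
        exact hR
      rw [← Ideal.mem_comap, IsLocalRing.eq_maximalIdeal hmax]
      exact hb
    refine ⟨?_, ?_⟩
    · have := hcm (Algebra.TensorProduct.includeLeft)
      simpa [map_sub, AlgHom.commutes] using this
    · have := hcm Algebra.TensorProduct.includeRight
      rwa [map_sub, AlgHom.commutes, Algebra.TensorProduct.includeRight_apply] at this
  have hx : ∀ x : B ⊗[R] B, ∃ r : R, ∀ M : Ideal (B ⊗[R] B), M.IsMaximal → x - algebraMap R _ r ∈ M := by
    intro x
    induction x using TensorProduct.induction_on with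
    | zero => exact ⟨0, fun M _ => by simp⟩
    | add a b ha hb =>
      obtain ⟨r, hr⟩ := ha
      obtain ⟨s, hs⟩ := hb
      refine ⟨r + s, fun M hm => ?_⟩
      rw [map_add, add_sub_add_comm]
      exact M.add_mem (hr M hm) (hs M hm)
    | tmul a b =>
      refine ⟨εB a * εB b, fun M hm => ?_⟩
      have h1 := M.mul_mem_right ((1 : B) ⊗ₜ[R] b) ((hM M hm a).1)
      have h2 := M.mul_mem_left (algebraMap R (B ⊗[R] B) (εB a)) ((hM M hm b).2)
      have := M.add_mem h1 h2
      rw [sub_mul, Algebra.TensorProduct.tmul_mul_tmul, _root_.mul_one, _root_.one_mul, mul_sub, ← map_mul] at this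
      convert this using 1
      abel
  obtain ⟨M₀, hM₀⟩ := Ideal.exists_maximal (B ⊗[R] B)
  refine IsLocalRing.of_unique_max_ideal ⟨M₀, hM₀, fun M hM' => ?_⟩
  have key : ∀ M₁ M₂ : Ideal (B ⊗[R] B), M₁.IsMaximal → M₂.IsMaximal → M₁ ≤ M₂ := by
    intro M₁ M₂ h₁ h₂ x hxm
    obtain ⟨r, hr⟩ := hx x
    have hr1 : algebraMap R (B ⊗[R] B) r ∈ M₁ := by
      have := M₁.sub_mem hxm (hr M₁ h₁)
      rwa [sub_sub_cancel] at this
    haveI := h₁
    haveI := h₂
    have e1 := IsLocalRing.eq_maximalIdeal (Ideal.isMaximal_comap_of_isIntegral_of_isMaximal (R := R) M₁)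
    have e2 := IsLocalRing.eq_maximalIdeal (Ideal.isMaximal_comap_of_isIntegral_of_isMaximal (R := R) M₂)
    have hr2 : algebraMap R (B ⊗[R] B) r ∈ M₂ := by
      have h : r ∈ M₁.comap (algebraMap R (B ⊗[R] B)) := hr1
      rw [e1, ← e2] at h
      exact h
    have := M₂.add_mem (hr M₂ h₂) hr2
    rwa [sub_add_cancel] at this
  exact le_antisymm (key M M₀ hM' hM₀) (key M₀ M hM₀ hM')


/-- Let R be a henselian local ring and G = Spec A a finite flat group scheme over R (A a commutative
Hopf algebra over R, finite and flat as an R-module; G need not be commutative). Let e be an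
idempotent of A on which the counit takes the value 1 and such that A/(1 - e) is a local ring, so
that Spec A/(1 - e) is the connected component G⁰ of G containing the unit section. Then the ideal
(1 - e) is a Hopf ideal (G⁰ is a closed subgroup scheme of G), A/(1 - e) is a henselian local ring
with the same residue field as R (the composite R → A/(1 - e) → residue field is surjective), and
A/(1 - e) is flat over R. (The published statement also asserts that G⁰ is normal in G; this row
does not state normality.) -/
theorem result (R : Type u) [CommRing R] [HenselianLocalRing R]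
    (A : Type v) [CommRing A] [HopfAlgebra R A] [Module.Finite R A] [Module.Flat R A]
    (e : A) (he : IsIdempotentElem e) (hε : Bialgebra.counitAlgHom R A e = 1)
    [IsLocalRing (A ⧸ Ideal.span ({1 - e} : Set A))] :
    (Ideal.span ({1 - e} : Set A)).IsHopfIdeal R ∧ HenselianLocalRing (A ⧸ Ideal.span ({1 - e} : Set A)) ∧
      Function.Surjective (⇑(IsLocalRing.residue (A ⧸ Ideal.span ({1 - e} : Set A))) ∘ ⇑(algebraMap R (A ⧸ Ideal.span ({1 - e} : Set A)))) ∧
      Module.Flat R (A ⧸ Ideal.span ({1 - e} : Set A)) := by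
  set I : Ideal A := Ideal.span ({1 - e} : Set A) with hI
  let εB : (A ⧸ I) →ₐ[R] R := Ideal.Quotient.liftₐ I (Bialgebra.counitAlgHom R A) fun x hx => by
    obtain ⟨a, rfl⟩ := Ideal.mem_span_singleton'.1 hx
    rw [map_mul, map_sub, map_one, hε, sub_self, mul_zero]
  have hεmk : ∀ a, εB (Ideal.Quotient.mk I a) = Bialgebra.counitAlgHom R A a := fun a => rfl
  haveI : Module.Finite R (A ⧸ I) := Module.Finite.of_surjective (Ideal.Quotient.mkₐ R I).toLinearMap Ideal.Quotient.mk_surjective
  haveI := isLocalRing_tensor_self εB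
  refine ⟨{ counit_eq_zero := ?_, map_mkQ_comul_eq_zero := ?_, antipode_mem := ?_ }, ?_, ?_, ?_⟩
  · intro x hx
    obtain ⟨a, rfl⟩ := Ideal.mem_span_singleton'.1 hx
    show Bialgebra.counitAlgHom R A (a * (1 - e)) = 0
    rw [map_mul, map_sub, map_one, hε, sub_self, mul_zero]
  · intro x hx
    let q := Ideal.Quotient.mkₐ R I
    let F := (Algebra.TensorProduct.map q q).comp (Bialgebra.comulAlgHom R A)
    let ee : (A ⧸ I) ⊗[R] (A ⧸ I) →ₐ[R] R := Algebra.TensorProduct.lift εB εB fun _ _ => Commute.all _ _
    have hF : ∀ a, ee (F a) = Bialgebra.counitAlgHom R A a := by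
      intro a
      have h1 : ∀ z : A ⊗[R] A, ee (Algebra.TensorProduct.map q q z) =
          Bialgebra.counitAlgHom R A ((TensorProduct.lid R A) (LinearMap.rTensor A (Coalgebra.counit (R := R)) z)) := by
        intro z
        induction z using TensorProduct.induction_on with
        | zero => simp only [map_zero]
        | add a b ha hb => simp only [map_add, ha, hb]
        | tmul a b =>
          simp only [Algebra.TensorProduct.map_tmul, LinearMap.rTensor_tmul, TensorProduct.lid_tmul, map_smul]
          simp [ee, q, hεmk]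
      show ee (Algebra.TensorProduct.map q q (Coalgebra.comul a)) = _
      rw [h1, Coalgebra.rTensor_counit_comul, TensorProduct.lid_tmul, one_smul]
    have h1 : F e = 1 := eq_one_of_idem (he.map F) ee.toRingHom ((hF e).trans hε)
    obtain ⟨a, rfl⟩ := Ideal.mem_span_singleton'.1 hx
    show F (a * (1 - e)) = 0
    rw [map_mul, map_sub, map_one, h1, sub_self, mul_zero]
  · intro x hx
    let S : A →ₐ[R] A ⧸ I := (Ideal.Quotient.mkₐ R I).comp (HopfAlgebra.antipodeAlgHom R A)
    have h1 : S e = 1 := by
      refine eq_one_of_idem (he.map S) εB.toRingHom ?_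
      show Bialgebra.counitAlgHom R A (HopfAlgebra.antipode R e) = 1
      rw [← hε]
      exact HopfAlgebra.counit_antipode e
    obtain ⟨a, rfl⟩ := Ideal.mem_span_singleton'.1 hx
    refine Ideal.Quotient.eq_zero_iff_mem.1 ?_
    show S (a * (1 - e)) = 0
    rw [map_mul, map_sub, map_one, h1, sub_self, mul_zero]
  · obtain ⟨n, g, hg⟩ := Module.Finite.exists_fin' R (A ⧸ I)
    haveI : Small.{u} (A ⧸ I) := small_of_surjective hg
    let eS := Shrink.algEquiv R (A ⧸ I)
    haveI : IsLocalRing (Shrink.{u} (A ⧸ I)) := eS.symm.toRingEquiv.isLocalRing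
    haveI : Module.Finite R (Shrink.{u} (A ⧸ I)) := Module.Finite.equiv eS.symm.toLinearEquiv
    haveI := Hensel.henselianLocalRing_of_finite R (Shrink.{u} (A ⧸ I))
    exact { is_henselian := fun f hf a₀ h₁ h₂ => by
              let e' := eS.symm.toRingEquiv
              obtain ⟨a, ha, ha'⟩ := HenselianLocalRing.is_henselian (f.map e'.toRingHom) (hf.map _) (e'.toRingHom a₀)
                (by
                  rw [Polynomial.eval_map, Polynomial.eval₂_hom]
                  exact fun hu => h₁ (by simpa using hu.map e'.symm))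
                (by
                  rw [Polynomial.derivative_map, Polynomial.eval_map, Polynomial.eval₂_hom]
                  exact h₂.map _)
              refine ⟨e'.symm a, ?_, ?_⟩
              · refine e'.injective ?_
                have h := ha
                rw [Polynomial.IsRoot.def, Polynomial.eval_map, show a = e'.toRingHom (e'.symm a) from (e'.apply_symm_apply a).symm,
                  Polynomial.eval₂_hom] at h
                rw [map_zero]
                exact h
              · intro hu
                exact ha' (by simpa using hu.map e') }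
  · intro y
    obtain ⟨x, rfl⟩ := IsLocalRing.residue_surjective y
    refine ⟨εB x, ?_⟩
    refine (Ideal.Quotient.eq).2 (IsLocalRing.le_maximalIdeal (RingHom.ker_ne_top εB) ?_)
    rw [RingHom.mem_ker, map_sub]
    exact sub_eq_zero.2 (εB.commutes _)
  · let m : A →ₗ[R] A := LinearMap.mulLeft R e
    let i : (A ⧸ I) →ₗ[R] A := Submodule.liftQ (I.restrictScalars R) m fun x hx => by
      obtain ⟨a, rfl⟩ := Ideal.mem_span_singleton'.1 hx
      show e * (a * (1 - e)) = 0
      rw [mul_left_comm, mul_sub, _root_.mul_one, he.eq, sub_self, mul_zero]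
    refine Module.Flat.of_retract i (Ideal.Quotient.mkₐ R I).toLinearMap ?_
    refine LinearMap.ext fun x => ?_
    obtain ⟨a, rfl⟩ := Ideal.Quotient.mk_surjective x
    show Ideal.Quotient.mk I (e * a) = Ideal.Quotient.mk I a
    rw [Ideal.Quotient.eq]
    exact Ideal.mem_span_singleton'.2 ⟨-a, by ring⟩

end Groth.Agent.S13404
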