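import Groth.Statements.S13407
import Mathlib.RingTheory.HopfAlgebra.TensorProduct
import Mathlib.RingTheory.HopfAlgebra.Quotient
import Mathlib.RingTheory.Flat.TorsionFree
import Mathlib.RingTheory.Localization.BaseChange
import Mathlib.RingTheory.Flat.Localization
import Mathlib.RingTheory.Flat.Stability


set_option autoImplicit false
universe u
open TensorProduct
open Hopf

namespace Groth.Agent.S13407


open TensorProduct

variable {R : Type u} [CommRing R] (K : Type u) [Field K] [Algebra R K] {A : Type u} [CommRing A] [HopfAlgebra R A]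

noncomputable def ω : A ⊗[R] A →ₐ[R] (K ⊗[R] A) ⊗[K] (K ⊗[R] A) :=
  Algebra.TensorProduct.lift
    (((Algebra.TensorProduct.includeLeft : K ⊗[R] A →ₐ[K] _).restrictScalars R).comp Algebra.TensorProduct.includeRight)
    (((Algebra.TensorProduct.includeRight : K ⊗[R] A →ₐ[K] _).restrictScalars R).comp Algebra.TensorProduct.includeRight)
    fun _ _ => Commute.all _ _

theorem ω_tmul (a b : A) : ω K (a ⊗ₜ[R] b) = ((1 : K) ⊗ₜ[R] a) ⊗ₜ[K] ((1 : K) ⊗ₜ[R] b) := by
  simp [ω]

theorem comul_one_tmul (a : A) :
    Coalgebra.comul (R := K) ((1 : K) ⊗ₜ[R] a) = ω K (Coalgebra.comul a) := by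
  rw [TensorProduct.comul_tmul, Bialgebra.comul_one (R := K) (A := K)]
  generalize Coalgebra.comul (R := R) a = z
  induction z using TensorProduct.induction_on with
  | zero => simp
  | add x y hx hy => simp only [TensorProduct.tmul_add, map_add, hx, hy]
  | tmul x y =>
    rw [ω_tmul]
    rfl

variable [IsDomain R] [IsFractionRing R K]

theorem exists_smul_mem (I : Ideal A) (z : K ⊗[R] A)
    (hz : z ∈ I.map (Algebra.TensorProduct.includeRight : A →ₐ[R] K ⊗[R] A)) :
    ∃ s : R, s ≠ 0 ∧ ∃ x ∈ I, s • z = (1 : K) ⊗ₜ[R] x := by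
  have cl : ∀ w : K ⊗[R] A, ∃ s : R, s ≠ 0 ∧ ∃ x : A, s • w = (1 : K) ⊗ₜ[R] x := by
    intro w
    induction w using TensorProduct.induction_on with
    | zero => exact ⟨1, one_ne_zero, 0, by simp⟩
    | tmul c x =>
      obtain ⟨r, s, hs, rfl⟩ := IsFractionRing.div_surjective (A := R) c
      refine ⟨s, nonZeroDivisors.ne_zero hs, r • x, ?_⟩
      rw [TensorProduct.smul_tmul', TensorProduct.tmul_smul, TensorProduct.smul_tmul', Algebra.smul_def,
        Algebra.smul_def, mul_div_cancel₀ _ (IsFractionRing.to_map_ne_zero_of_mem_nonZeroDivisors hs), _root_.mul_one]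
    | add x y hx hy =>
      obtain ⟨s, hs, a, ha⟩ := hx
      obtain ⟨t, ht, b, hb⟩ := hy
      refine ⟨s * t, mul_ne_zero hs ht, t • a + s • b, ?_⟩
      rw [smul_add, TensorProduct.tmul_add, TensorProduct.tmul_smul, TensorProduct.tmul_smul, ← ha, ← hb,
        smul_smul, smul_smul, mul_comm t s]
  refine Submodule.span_induction ?_ ?_ ?_ ?_ hz
  · rintro _ ⟨x, hx, rfl⟩
    exact ⟨1, one_ne_zero, x, hx, one_smul _ _⟩
  · exact ⟨1, one_ne_zero, 0, I.zero_mem, by simp⟩
  · rintro x y - - ⟨s, hs, a, haI, ha⟩ ⟨t, ht, b, hbI, hb⟩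
    refine ⟨s * t, mul_ne_zero hs ht, t • a + s • b,
      I.add_mem (by rw [Algebra.smul_def]; exact I.mul_mem_left _ haI) (by rw [Algebra.smul_def]; exact I.mul_mem_left _ hbI), ?_⟩
    rw [smul_add, TensorProduct.tmul_add, TensorProduct.tmul_smul, TensorProduct.tmul_smul, ← ha, ← hb,
      smul_smul, smul_smul, mul_comm t s]
  · rintro w y - ⟨t, ht, b, hbI, hb⟩
    obtain ⟨s, hs, a, ha⟩ := cl w
    refine ⟨s * t, mul_ne_zero hs ht, a * b, I.mul_mem_left _ hbI, ?_⟩
    rw [smul_eq_mul, ← smul_mul_smul_comm, ha, hb, Algebra.TensorProduct.tmul_mul_tmul, _root_.mul_one]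


/-- Let R be a Dedekind domain with fraction field K and let G = Spec A be a finite flat group scheme
over R (A a commutative Hopf algebra over R, finite and flat as an R-module). Closed flat R-subgroup
schemes of G correspond one-to-one to closed K-subgroup schemes of the generic fibre G_K under H ↦
H_K: the map sending a Hopf ideal J' of A with A/J' flat over R to the ideal it generates in K ⊗_R A
is a bijection onto the set of Hopf ideals of the Hopf algebra K ⊗_R A over K (its inverse takes a
Hopf ideal of K ⊗_R A to its preimage in A). -/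
theorem result (R : Type u) [CommRing R] [IsDedekindDomain R]
    (K : Type u) [Field K] [Algebra R K] [IsFractionRing R K]
    (A : Type u) [CommRing A] [HopfAlgebra R A] [Module.Finite R A] [Module.Flat R A] :
    Set.BijOn (fun J' : Ideal A => Ideal.map (Algebra.TensorProduct.includeRight : A →ₐ[R] K ⊗[R] A) J')
      {J' : Ideal A | J'.IsHopfIdeal R ∧ Module.Flat R (A ⧸ J')}
      {J : Ideal (K ⊗[R] A) | J.IsHopfIdeal K} := by
  let inc : A →ₐ[R] K ⊗[R] A := Algebra.TensorProduct.includeRight
  haveI : Module.IsTorsionFree R A := inferInstance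
  refine ⟨?_, ?_, ?_⟩
  · rintro J ⟨hJ, -⟩
    haveI := hJ
    let πK := Ideal.Quotient.mkₐ K (J.map inc)
    let C := (K ⊗[R] A) ⧸ J.map inc
    let θ : A ⧸ J →ₐ[R] C := Ideal.Quotient.liftₐ J ((πK.restrictScalars R).comp inc) fun x hx =>
      Ideal.Quotient.eq_zero_iff_mem.2 (Ideal.mem_map_of_mem _ hx)
    show (J.map inc).IsHopfIdeal K
    refine { counit_eq_zero := ?_, map_mkQ_comul_eq_zero := ?_, antipode_mem := ?_ }
    · intro z hz
      have : J.map inc ≤ RingHom.ker (Bialgebra.counitAlgHom K (K ⊗[R] A)) := Ideal.map_le_iff_le_comap.2 fun x hx => by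
        show Coalgebra.counit (R := K) ((1 : K) ⊗ₜ[R] x) = 0
        rw [TensorProduct.counit_tmul, show Coalgebra.counit (R := R) x = 0 from
          Submodule.IsCoideal.counit_eq_zero (I := J.restrictScalars R) hx, zero_smul]
      exact this hz
    · intro z hz
      have : J.map inc ≤ RingHom.ker ((Algebra.TensorProduct.map πK πK).comp (Bialgebra.comulAlgHom K (K ⊗[R] A))) := by
        refine Ideal.map_le_iff_le_comap.2 fun x hx => ?_
        show Algebra.TensorProduct.map πK πK (Coalgebra.comul (R := K) ((1 : K) ⊗ₜ[R] x)) = 0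
        rw [comul_one_tmul]
        let e := IsLocalization.moduleTensorEquiv (nonZeroDivisors R) K C C
        let q := (Ideal.Quotient.mkₐ R J).toLinearMap
        let θ₂ : (A ⧸ J) ⊗[R] (A ⧸ J) →ₗ[R] C ⊗[K] C :=
          (e.symm.toLinearMap.restrictScalars R).comp (TensorProduct.map θ.toLinearMap θ.toLinearMap)
        have key : ∀ w : A ⊗[R] A, Algebra.TensorProduct.map πK πK (ω K w) = θ₂ (TensorProduct.map q q w) := by
          intro w
          induction w using TensorProduct.induction_on with
          | zero => rw [map_zero, map_zero, map_zero, map_zero]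
          | add a b ha hb => rw [map_add, map_add, map_add, map_add, ha, hb]
          | tmul a b =>
            rw [ω_tmul]
            rfl
        have h1 : TensorProduct.map q q (Coalgebra.comul x) = 0 :=
          Submodule.IsCoideal.map_mkQ_comul_eq_zero (I := J.restrictScalars R) hx
        rw [key, h1, map_zero]
      exact this hz
    · intro z hz
      have : J.map inc ≤ (J.map inc).comap (HopfAlgebra.antipodeAlgHom K (K ⊗[R] A)) := Ideal.map_le_iff_le_comap.2 fun x hx => by
        show HopfAlgebra.antipode K ((1 : K) ⊗ₜ[R] x) ∈ J.map inc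
        rw [show HopfAlgebra.antipode K ((1 : K) ⊗ₜ[R] x) = (HopfAlgebra.antipode K (1 : K)) ⊗ₜ[R] (HopfAlgebra.antipode R x) from rfl,
          HopfAlgebra.antipode_one]
        exact Ideal.mem_map_of_mem inc (Ideal.IsHopfIdeal.antipode_mem hx)
      exact this hz
  · rintro J₁ ⟨-, hf₁⟩ J₂ ⟨-, hf₂⟩ h
    have key : ∀ (J : Ideal A), Module.Flat R (A ⧸ J) → (J.map inc).comap inc = J := by
      intro J hf
      refine le_antisymm (fun x hx => ?_) Ideal.le_comap_map
      obtain ⟨s, hs, y, hy, hsy⟩ := exists_smul_mem K J _ hx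
      have hinj : Function.Injective inc :=
        Algebra.TensorProduct.includeRight_injective (FaithfulSMul.algebraMap_injective R K)
      have hxy : s • x = y := hinj (by rw [map_smul]; exact hsy)
      haveI := hf
      haveI : Module.IsTorsionFree R (A ⧸ J) := inferInstance
      have h0 : s • Ideal.Quotient.mkₐ R J x = 0 := by
        rw [← map_smul, hxy]
        exact Ideal.Quotient.eq_zero_iff_mem.2 hy
      exact Ideal.Quotient.eq_zero_iff_mem.1 ((smul_eq_zero.1 h0).resolve_left hs)
    rw [← key J₁ hf₁, ← key J₂ hf₂]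
    exact congrArg (Ideal.comap inc) h
  · intro J hJ
    haveI : J.IsHopfIdeal K := hJ
    let J' := J.comap inc
    let C := (K ⊗[R] A) ⧸ J
    let πK := Ideal.Quotient.mkₐ K J
    let θ : A ⧸ J' →ₐ[R] C := Ideal.quotientMapₐ J inc le_rfl
    have hθ : Function.Injective θ := Ideal.quotientMap_injective
    haveI : Module.Flat R C := Module.Flat.trans R K C
    haveI : Module.IsTorsionFree R C := inferInstance
    haveI : Module.IsTorsionFree R (A ⧸ J') := Function.Injective.moduleIsTorsionFree _ hθ (fun r x => map_smul θ r x)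
    haveI hfl : Module.Flat R (A ⧸ J') := IsDedekindDomain.flat_iff_torsion_eq_bot.2 (Submodule.isTorsionFree_iff_torsion_eq_bot.1 inferInstance)
    refine ⟨J', ⟨{ counit_eq_zero := ?_, map_mkQ_comul_eq_zero := ?_, antipode_mem := ?_ }, hfl⟩, ?_⟩
    · intro x hx
      have h0 : Coalgebra.counit (R := K) ((1 : K) ⊗ₜ[R] x) = 0 :=
        Submodule.IsCoideal.counit_eq_zero (I := J.restrictScalars K) hx
      rw [TensorProduct.counit_tmul, Bialgebra.counit_one, Algebra.smul_def, _root_.mul_one] at h0
      exact FaithfulSMul.algebraMap_injective R K (by rw [h0, map_zero])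
    · intro x hx
      have h0 : Algebra.TensorProduct.map πK πK (Coalgebra.comul (R := K) ((1 : K) ⊗ₜ[R] x)) = 0 :=
        Submodule.IsCoideal.map_mkQ_comul_eq_zero (I := J.restrictScalars K) hx
      rw [comul_one_tmul] at h0
      let e := IsLocalization.moduleTensorEquiv (nonZeroDivisors R) K C C
      let q := (Ideal.Quotient.mkₐ R J').toLinearMap
      let e' : C ⊗[K] C →ₗ[R] C ⊗[R] C := e.toLinearMap.restrictScalars R
      have key : ∀ w : A ⊗[R] A, TensorProduct.map θ.toLinearMap θ.toLinearMap (TensorProduct.map q q w) =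
          e' (Algebra.TensorProduct.map πK πK (ω K w)) := by
        intro w
        induction w using TensorProduct.induction_on with
        | zero => rw [map_zero, map_zero, map_zero, map_zero, map_zero]
        | add a b ha hb => rw [map_add, map_add, map_add, map_add, map_add, ha, hb]
        | tmul a b =>
          rw [ω_tmul]
          rfl
      have hinj : Function.Injective (TensorProduct.map θ.toLinearMap θ.toLinearMap) := by
        rw [← LinearMap.lTensor_comp_rTensor]
        exact (Module.Flat.lTensor_preserves_injective_linearMap _ hθ).comp (Module.Flat.rTensor_preserves_injective_linearMap _ hθ)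
      refine hinj ((key _).trans ?_)
      rw [h0, map_zero]
      exact (map_zero (TensorProduct.map θ.toLinearMap θ.toLinearMap)).symm
    · intro x hx
      have h0 : HopfAlgebra.antipode K ((1 : K) ⊗ₜ[R] x) ∈ J := Ideal.IsHopfIdeal.antipode_mem (R := K) hx
      rw [show HopfAlgebra.antipode K ((1 : K) ⊗ₜ[R] x) = (HopfAlgebra.antipode K (1 : K)) ⊗ₜ[R] (HopfAlgebra.antipode R x) from rfl,
        HopfAlgebra.antipode_one] at h0
      exact h0
    · refine le_antisymm Ideal.map_comap_le fun z hz => ?_
      obtain ⟨s, hs, x, hx⟩ : ∃ s : R, s ≠ 0 ∧ ∃ x : A, s • z = (1 : K) ⊗ₜ[R] x := by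
        obtain ⟨s, hs, x, -, hx⟩ := exists_smul_mem K (⊤ : Ideal A) z (by rw [Ideal.map_top]; trivial)
        exact ⟨s, hs, x, hx⟩
      have hxJ : x ∈ J' := by
        show (1 : K) ⊗ₜ[R] x ∈ J
        rw [← hx]
        exact J.smul_of_tower_mem s hz
      have hu : IsUnit (algebraMap R K s) := IsUnit.mk0 _ (by simpa using hs)
      have hu' : IsUnit (algebraMap R (K ⊗[R] A) s) := by
        rw [IsScalarTower.algebraMap_apply R K]; exact hu.map _
      rw [← Ideal.unit_mul_mem_iff_mem _ hu', ← Algebra.smul_def, hx]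
      exact Ideal.mem_map_of_mem _ hxJ

end Groth.Agent.S13407
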