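import Groth.Statements.S13409
import Groth.Agent.GraphCycle.Basic

set_option autoImplicit false
universe u v
open CombGraph

namespace Groth.Agent.S13409

/-- Let `A` be an abelian group and `G` a finite connected simple graph on `V` that is bipartite for a
two-colouring `c : V → Bool` (adjacent vertices get different colours). If `a : V → A` has the same
sum over the vertices of each colour, then some labelling `x` of the edges by elements of `A` has,
at every vertex `v`, the sum of `x` over the edges incident to `v` equal to `a v`. (The published
statement concerns finite bipartite graphs in general; this row treats simple graphs.) -/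
theorem result {V : Type u} [Fintype V] [DecidableEq V]
    (G : SimpleGraph V) [DecidableRel G.Adj] (hconn : G.Connected) (c : V → Bool)
    (hbip : ∀ v w : V, G.Adj v w → c v ≠ c w) (A : Type v) [AddCommGroup A] (a : V → A)
    (hsum : ∑ v ∈ Finset.univ.filter (fun v => c v = true), a v =
      ∑ v ∈ Finset.univ.filter (fun v => c v = false), a v) :
    ∃ x : Sym2 V → A, ∀ v : V, ∑ e ∈ G.incidenceFinset v, x e = a v := by
  classical
  open Groth.Agent.GraphCycle in
  obtain ⟨r⟩ := hconn.nonempty
  choose φ h1 h2 using fun v => walk_chain (A := A) G hbip ((hconn.preconnected v r).some)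
  have hb : ∑ v, eps c v • a v = 0 := by
    rw [← Finset.sum_filter_add_sum_filter_not Finset.univ (fun v => c v = true)]
    have e1 : ∀ v ∈ Finset.univ.filter (fun v => c v = true), eps c v • a v = a v := fun v hv => by
      simp only [Finset.mem_filter] at hv; simp [eps, hv.2]
    have e2 : ∀ v ∈ Finset.univ.filter (fun v => ¬ c v = true), eps c v • a v = - a v := fun v hv => by
      simp only [Finset.mem_filter] at hv; simp [eps, hv.2]
    rw [Finset.sum_congr rfl e1, Finset.sum_congr rfl e2, Finset.sum_neg_distrib, hsum]
    simp only [Bool.not_eq_true, add_neg_cancel]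
  refine ⟨∑ v, φ v (eps c v • a v), fun w => ?_⟩
  rw [sum_incidence_eq G c]
  · have : bd c (∑ v, φ v (eps c v • a v)) = fun w => eps c w • a w := by
      rw [map_sum]
      simp only [h2, Finset.sum_sub_distrib]
      funext w
      have hz : ∑ v, (Pi.single r (eps c v • a v) : V → A) = 0 := by
        change ∑ v, AddMonoidHom.single (fun _ : V => A) r (eps c v • a v) = 0
        rw [← map_sum, hb, map_zero]
      rw [hz, sub_zero, Finset.sum_apply]
      simp [Pi.single_apply]
    rw [this, smul_smul, eps_mul_self, one_smul]
  · intro e he
    rw [Finset.sum_apply]
    exact Finset.sum_eq_zero fun v _ => h1 v _ e fun h => he (SimpleGraph.Walk.edges_subset_edgeSet _ h)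


end Groth.Agent.S13409
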