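import Groth.Statements.S1341
import Groth.Agent.CMOpen5.Open

set_option autoImplicit false
set_option backward.isDefEq.respectTransparency false
set_option backward.isDefEq.respectTransparency.types false
universe u
open FlatMor

namespace Groth.Agent.S1341

open AlgebraicGeometry CategoryTheory Limits in
/-- Let f : X ⟶ S be flat and locally of finite presentation. Then the set of points of X at which f is
Cohen–Macaulay is open in X, and its intersection with every fibre of f is dense in that fibre. -/
theorem result {X S : Scheme.{u}} (f : X ⟶ S) [Flat f] [LocallyOfFinitePresentation f] :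
    IsOpen {x : ↑X | MoreMor.IsCMAt f x} ∧ ∀ s : S, Dense ((f.fiberι s) ⁻¹' {x : ↑X | MoreMor.IsCMAt f x}) := by
  refine ⟨Groth.Agent.CMOpen5.isOpen_isCMAt f, fun s => ?_⟩
  intro z
  rw [mem_closure_iff]
  intro O hO hzO
  haveI : IsLocallyNoetherian (f.fiber s) :=
    LocallyOfFiniteType.isLocallyNoetherian (f.fiberToSpecResidueField s)
  have hC : IsIrreducible (irreducibleComponent z) := isIrreducible_irreducibleComponent
  obtain ⟨η, hη⟩ : ∃ η, IsGenericPoint η (irreducibleComponent z) :=
    ⟨hC.genericPoint, hC.isGenericPoint_genericPoint isClosed_irreducibleComponent⟩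
  have hηz : η ⤳ z := hη.specializes mem_irreducibleComponent
  have hmax : ∀ a, a ⤳ η → a = η := fun a ha => by
    have hsub : irreducibleComponent z ⊆ closure {a} := by
      rw [← hη.def]
      exact closure_minimal (Set.singleton_subset_iff.2 ha.mem_closure) isClosed_closure
    have : closure {a} = irreducibleComponent z :=
      eq_irreducibleComponent isIrreducible_singleton.closure.isPreirreducible hsub
    exact (show IsGenericPoint a (irreducibleComponent z) from this).eq hη
  have hsub : Subsingleton (PrimeSpectrum ((f.fiber s).presheaf.stalk η)) := by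
    let j := (f.fiber s).fromSpecStalk η
    refine ⟨fun a b => j.isEmbedding.injective ?_⟩
    have key : ∀ a, j a = η := fun a => hmax _ (by
      have := Set.mem_range_self (f := j) a
      rwa [Scheme.range_fromSpecStalk] at this)
    exact (key a).trans (key b).symm
  have hcm : LocCoh.IsCohenMacaulayLocalRing ((f.fiber s).presheaf.stalk η) :=
    Groth.Agent.LC.Canon.isCMLocal_of_dim_zero
      (le_antisymm Order.krullDim_nonpos_of_subsingleton ringKrullDim_nonneg_of_nontrivial)
  refine ⟨η, hηz.mem_open hO hzO, ?_⟩
  suffices h : ∀ (x : X) (hxs : f x = s) (η : f.fiber s), f.fiberι s η = x →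
      LocCoh.IsCohenMacaulayLocalRing ((f.fiber s).presheaf.stalk η) → MoreMor.IsCMAt f x from
    h _ (by have h1 : f.fiberι s η ∈ f ⁻¹' {s} := f.range_fiberι s ▸ ⟨η, rfl⟩; exact h1) η rfl hcm
  intro x hxs η hx hcm
  subst hxs
  obtain rfl : η = f.asFiber x := (f.fiberι (f x)).isEmbedding.injective (hx.trans (f.fiberι_asFiber x).symm)
  exact ⟨Flat.stalkMap f x, hcm⟩

end Groth.Agent.S1341
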