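import Groth.Statements.S13410
import Groth.Agent.GraphCycle.Basic

set_option autoImplicit false
universe u v
open CombGraph

namespace Groth.Agent.S13410

/-- Let `A` be an abelian group and `G` a finite connected simple graph on `V`, bipartite for a
two-colouring `c`. Consider the additive group of labellings `x : Sym2 V → A` vanishing off the edge
set and with `∑_{e ∋ v} x e = 0` at every vertex `v`. If `e₀` is an edge whose deletion leaves `G`
connected, then evaluation at `e₀` restricted to this group is surjective and split: there is an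
additive map `φ : A → (Sym2 V → A)` with values in this group and with `φ a e₀ = a` for all `a`.
(The published statement concerns finite bipartite graphs in general; this row treats simple
graphs.) -/
theorem result {V : Type u} [Fintype V]
    [DecidableEq V] (G : SimpleGraph V) [DecidableRel G.Adj] (hconn : G.Connected) (c : V → Bool)
    (hbip : ∀ v w : V, G.Adj v w → c v ≠ c w) (A : Type v) [AddCommGroup A] (e₀ : Sym2 V)
    (he₀ : e₀ ∈ G.edgeSet) (hdel : (G.deleteEdges {e₀}).Connected) :
    ∃ φ : A →+ (Sym2 V → A),
      (∀ a : A, (∀ e : Sym2 V, e ∉ G.edgeSet → φ a e = 0) ∧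
        ∀ v : V, ∑ e ∈ G.incidenceFinset v, φ a e = 0) ∧
      ∀ a : A, φ a e₀ = a := by
  classical
  open Groth.Agent.GraphCycle in
  induction e₀ using Sym2.ind with
  | h u w =>
    have hadj : G.Adj u w := he₀
    have hbip' : ∀ v v' : V, (G.deleteEdges {s(u, w)}).Adj v v' → c v ≠ c v' := fun v v' h =>
      hbip v v' (SimpleGraph.deleteEdges_adj.1 h).1
    obtain ⟨φ, h1, h2⟩ := walk_chain (A := A) (G.deleteEdges {s(u, w)}) hbip' ((hdel.preconnected w u).some)
    have hnot : ∀ a : A, φ a s(u, w) = 0 := fun a => h1 a _ fun h => by
      have := SimpleGraph.Walk.edges_subset_edgeSet _ h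
      simp [SimpleGraph.edgeSet_deleteEdges] at this
    have hsupp : ∀ (a : A) e, e ∉ G.edgeSet → φ a e = 0 := fun a e he => h1 a e fun h => by
      have := SimpleGraph.Walk.edges_subset_edgeSet _ h
      rw [SimpleGraph.edgeSet_deleteEdges] at this
      exact he this.1
    refine ⟨AddMonoidHom.single (fun _ : Sym2 V => A) s(u, w) +
      φ.comp (DistribSMul.toAddMonoidHom A (eps c u)), fun a => ?_, fun a => by simp [hnot]⟩
    have hs : ∀ e, e ∉ G.edgeSet →
        (AddMonoidHom.single (fun _ : Sym2 V => A) s(u, w) +
          φ.comp (DistribSMul.toAddMonoidHom A (eps c u))) a e = 0 := by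
      intro e he
      have hne : e ≠ s(u, w) := fun h => he (h ▸ he₀)
      simp [Pi.single_eq_of_ne hne, hsupp _ e he]
    refine ⟨hs, fun v => ?_⟩
    rw [sum_incidence_eq G c _ hs]
    have h0 : bd c ((AddMonoidHom.single (fun _ : Sym2 V => A) s(u, w) +
        φ.comp (DistribSMul.toAddMonoidHom A (eps c u))) a) = 0 := by
      simp only [AddMonoidHom.add_apply, AddMonoidHom.coe_comp, Function.comp_apply,
        DistribSMul.toAddMonoidHom_apply, AddMonoidHom.single_apply, map_add, h2,
        bd_single c u w hadj.ne, eps_adj (hbip u w hadj), neg_smul, Pi.single_neg]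
      abel
    rw [h0, Pi.zero_apply, smul_zero]


end Groth.Agent.S13410
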