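import Groth.Statements.S13411
import Groth.Agent.GraphCycle.Basic

set_option autoImplicit false
universe u v
open CombGraph

namespace Groth.Agent.S13411

/-- Let `A` be an abelian group and `G` a finite connected simple graph on `V`, bipartite for a
two-colouring `c`, with cyclomatic number `n` (number of edges minus number of vertices plus one).
Then the additive group of labellings `x : Sym2 V → A` vanishing off the edge set and with `∑_{e ∋
v} x e = 0` at every vertex `v` is isomorphic to `A^n`: it is the range of an injective additive map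
`(Fin n → A) → (Sym2 V → A)`. (The published statement concerns finite bipartite graphs in general;
this row treats simple graphs.) -/
theorem result {V : Type u} [Fintype V]
    [DecidableEq V] (G : SimpleGraph V) [DecidableRel G.Adj] (hconn : G.Connected) (c : V → Bool)
    (hbip : ∀ v w : V, G.Adj v w → c v ≠ c w) (A : Type v) [AddCommGroup A] (n : ℕ)
    (hn : G.edgeFinset.card + 1 = Fintype.card V + n) :
    ∃ f : (Fin n → A) →+ (Sym2 V → A), Function.Injective f ∧
      Set.range f = {x : Sym2 V → A | (∀ e : Sym2 V, e ∉ G.edgeSet → x e = 0) ∧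
        ∀ v : V, ∑ e ∈ G.incidenceFinset v, x e = 0} := by
  classical
  open Groth.Agent.GraphCycle in
  obtain ⟨T, hTG, hT⟩ := hconn.exists_isTree_le
  have hbT : ∀ v w : V, T.Adj v w → c v ≠ c w := fun v w h => hbip v w (hTG h)
  have hcard : T.edgeFinset.card + 1 = Fintype.card V := hT.card_edgeFinset
  have hsub : T.edgeFinset ⊆ G.edgeFinset := SimpleGraph.edgeFinset_mono hTG
  have hD : (G.edgeFinset \ T.edgeFinset).card = n := by
    rw [Finset.card_sdiff_of_subset hsub]; omega
  let ι := (G.edgeFinset \ T.edgeFinset).equivFinOfCardEq hD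
  have hD' : ∀ i : Fin n, (ι.symm i : Sym2 V) ∈ G.edgeSet ∧ (ι.symm i : Sym2 V) ∉ T.edgeSet := fun i => by
    simpa only [Finset.mem_sdiff, SimpleGraph.mem_edgeFinset] using (ι.symm i).2
  have hφ : ∀ i : Fin n, ∃ φ : A →+ (Sym2 V → A),
      (∀ a e, e ∉ T.edgeSet → e ≠ (ι.symm i : Sym2 V) → φ a e = 0) ∧ (∀ a, bd c (φ a) = 0) ∧
      ∀ a, φ a (ι.symm i : Sym2 V) = a := by
    intro i
    have hi := hD' i
    generalize (ι.symm i : Sym2 V) = e₀ at hi
    induction e₀ using Sym2.ind with
    | h u w =>
      have hadj : G.Adj u w := hi.1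
      obtain ⟨φ, h1, h2⟩ := walk_chain (A := A) T hbT ((hT.1.preconnected w u).some)
      have hsupp : ∀ (a : A) e, e ∉ T.edgeSet → φ a e = 0 := fun a e he => h1 a e fun h =>
        he (SimpleGraph.Walk.edges_subset_edgeSet _ h)
      refine ⟨AddMonoidHom.single (fun _ : Sym2 V => A) s(u, w) +
        φ.comp (DistribSMul.toAddMonoidHom A (eps c u)), ?_, ?_, ?_⟩
      · intro a e he hne; simp [Pi.single_eq_of_ne hne, hsupp _ e he]
      · intro a
        simp only [AddMonoidHom.add_apply, AddMonoidHom.coe_comp, Function.comp_apply,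
        DistribSMul.toAddMonoidHom_apply, AddMonoidHom.single_apply, map_add, h2,
        bd_single c u w hadj.ne, eps_adj (hbip u w hadj), neg_smul, Pi.single_neg]
        abel
      · intro a; simp [hsupp _ _ hi.2]
  choose φ h1 h2 h3 using hφ
  let f : (Fin n → A) →+ (Sym2 V → A) := ∑ i, (φ i).comp (Pi.evalAddMonoidHom (fun _ : Fin n => A) i)
  have hfv : ∀ (y : Fin n → A) (e : Sym2 V), f y e = ∑ i, φ i (y i) e := fun y e => by
    simp [f, AddMonoidHom.finsetSum_apply, Finset.sum_apply]
  have hval : ∀ (y : Fin n → A) (j : Fin n), f y (ι.symm j : Sym2 V) = y j := by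
    intro y j
    rw [hfv, Finset.sum_eq_single j]
    · exact h3 j _
    · intro i _ hne
      exact h1 i _ _ (hD' j).2 fun h => hne (ι.symm.injective (Subtype.ext h.symm))
    · simp
  have hbd : ∀ y, bd c (f y) = 0 := fun y => by
    simp [f, AddMonoidHom.finsetSum_apply, map_sum, h2]
  refine ⟨f, fun y z h => funext fun j => ?_, ?_⟩
  · have := congrFun h (ι.symm j : Sym2 V)
    rwa [hval, hval] at this
  · ext x
    constructor
    · rintro ⟨y, rfl⟩
      have hs : ∀ e, e ∉ G.edgeSet → f y e = 0 := by
        intro e he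
        rw [hfv]
        exact Finset.sum_eq_zero fun i _ => h1 i _ e (fun h => he (SimpleGraph.edgeSet_mono hTG h))
          fun h => he (h ▸ (hD' i).1)
      exact ⟨hs, fun v => by rw [sum_incidence_eq G c _ hs, hbd, Pi.zero_apply, smul_zero]⟩
    · rintro ⟨hs, hx⟩
      refine ⟨fun i => x (ι.symm i : Sym2 V), ?_⟩
      have hxb : bd c x = 0 := funext fun v => by rw [← sum_incidence G c x hs v, hx v, smul_zero, Pi.zero_apply]
      refine (sub_eq_zero.1 (eq_zero_of_acyclic T hbT hT.2 _ ?_ ?_)).symm
      · intro e he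
        by_cases heG : e ∈ G.edgeSet
        · have hmem : e ∈ G.edgeFinset \ T.edgeFinset := by simp [heG, he]
          obtain ⟨i, hi⟩ : ∃ i, (ι.symm i : Sym2 V) = e := ⟨ι ⟨e, hmem⟩, by simp⟩
          rw [← hi, Pi.sub_apply, hval, sub_self]
        · rw [Pi.sub_apply, hs e heG, hfv]
          rw [Finset.sum_eq_zero fun i _ => h1 i _ e (fun h => heG (SimpleGraph.edgeSet_mono hTG h))
            fun h => heG (h ▸ (hD' i).1), sub_zero]
      · rw [map_sub, hxb, hbd, sub_zero]


end Groth.Agent.S13411
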