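import Groth.Statements.S13417
import Groth.Agent.Hensel.Local
import Groth.Agent.EGA41Lib.IntDim
import Mathlib

set_option autoImplicit false
set_option backward.isDefEq.respectTransparency false
set_option backward.isDefEq.respectTransparency.types false
universe u
open scoped TensorProduct
open HLoc2

namespace Groth.Agent.S13417

open Polynomial

section

variable {k : Type u} [Field k] {R : Type u} [CommRing R] [IsDomain R] [IsIntegrallyClosed R] [Algebra k R]
  {F : Type u} [Field F] [Algebra (FractionRing R) F] [Algebra R F] [IsScalarTower R (FractionRing R) F]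
  [Algebra k F] [IsScalarTower k R F]

/-- An element of a simple separable extension which is integral over `R` lies in `R[α]`. -/
theorem mem_adjoin_of_isSeparable {α : F} (hsep : IsSeparable k α) (z : F) (hz : IsIntegral R z)
    (hmem : z ∈ IntermediateField.adjoin (FractionRing R) {α}) : z ∈ Algebra.adjoin R {α} := by
  let K := FractionRing R
  haveI : Module.IsTorsionFree R F := Module.isTorsionFree_iff_algebraMap_injective.2 (by
    rw [IsScalarTower.algebraMap_eq R K F]; exact (algebraMap K F).injective.comp (IsFractionRing.injective R K))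
  have hαk : IsIntegral k α := hsep.isIntegral
  have hαR : IsIntegral R α := hαk.tower_top
  have hαK : IsIntegral K α := hαR.tower_top
  have hg : minpoly K α = (minpoly R α).map (algebraMap R K) :=
    minpoly.isIntegrallyClosed_eq_field_fractions' K hαR
  have hsepR : (minpoly R α).Separable := by
    have hsep' : (minpoly k α).Separable := hsep
    refine Polynomial.Separable.of_dvd (hsep'.map (f := algebraMap k R)) ?_
    refine minpoly.isIntegrallyClosed_dvd hαR ?_
    rw [aeval_map_algebraMap, minpoly.aeval]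
  obtain ⟨a, b, hab⟩ := hsepR
  let L := IntermediateField.adjoin K {α}
  haveI : FiniteDimensional K L := IntermediateField.adjoin.finiteDimensional hαK
  haveI : Algebra.IsSeparable K L := by
    refine (IntermediateField.isSeparable_adjoin_simple_iff_isSeparable K F).2 ?_
    show (minpoly K α).Separable
    rw [hg]
    exact Polynomial.Separable.map ⟨a, b, hab⟩
  let B := IntermediateField.adjoin.powerBasis hαK
  have hgen : (B.gen : F) = α := by
    rw [IntermediateField.adjoin.powerBasis_gen]; rfl
  have hinj : Function.Injective (algebraMap L F) := (algebraMap L F).injective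
  have hBint : IsIntegral R B.gen := by
    rw [← isIntegral_algHom_iff ((L.val).restrictScalars R) L.val.injective]
    exact (hgen.symm ▸ hαR :)
  have hzL : IsIntegral R (⟨z, hmem⟩ : L) := by
    rw [← isIntegral_algHom_iff ((L.val).restrictScalars R) L.val.injective]
    exact hz
  have hd := Algebra.discr_mul_isIntegral_mem_adjoin K hBint hzL
  have hmp : minpoly K B.gen = (minpoly R α).map (algebraMap R K) := by
    refine Eq.trans ?_ hg
    rw [← minpoly.algebraMap_eq hinj B.gen]
    exact congrArg (minpoly K) hgen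
  have hbd : IsIntegral R (aeval B.gen b) := (Algebra.adjoin_le (S := integralClosure R L) (Set.singleton_subset_iff.2 hBint)) (aeval_mem_adjoin_singleton R B.gen)
  have hu : aeval B.gen b * aeval B.gen (minpoly K B.gen).derivative = 1 := by
    have h := congrArg (aeval B.gen) hab
    rw [map_add, map_mul, map_mul, map_one] at h
    rw [hmp, derivative_map, aeval_map_algebraMap]
    have h0 : aeval B.gen (minpoly R α) = 0 := by
      rw [← aeval_map_algebraMap K, ← hmp, minpoly.aeval]
    rwa [h0, mul_zero, zero_add] at h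
  have hN := congrArg (Algebra.norm K) hu
  rw [map_mul, map_one] at hN
  obtain ⟨r, hr⟩ := IsIntegrallyClosed.isIntegral_iff.1 (Algebra.isIntegral_norm K hbd)
  rw [← hr] at hN
  rw [Algebra.discr_powerBasis_eq_norm] at hd
  have hfr : Module.finrank K L = B.dim := B.finrank
  rw [hfr] at hd
  have hd' := Subalgebra.smul_mem _ hd ((-1 : R) ^ (B.dim * (B.dim - 1) / 2) * r)
  rw [← IsScalarTower.algebraMap_smul K ((-1 : R) ^ (B.dim * (B.dim - 1) / 2) * r), smul_smul, map_mul, map_pow,
    map_neg, map_one] at hd'
  rw [show (-1 : K) ^ (B.dim * (B.dim - 1) / 2) * algebraMap R K r *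
      ((-1) ^ (B.dim * (B.dim - 1) / 2) * Algebra.norm K (aeval B.gen (minpoly K B.gen).derivative)) = 1 from by
        rw [mul_mul_mul_comm, hN, mul_one, ← mul_pow, neg_one_mul, neg_neg, one_pow], one_smul] at hd'
  have hmap : Algebra.adjoin R {α} = (Algebra.adjoin R {B.gen}).map (L.val.restrictScalars R) := by
    rw [AlgHom.map_adjoin_singleton]
    exact congrArg (fun t => Algebra.adjoin R {t}) hgen.symm
  rw [hmap]
  exact ⟨⟨z, hmem⟩, hd', rfl⟩

end

theorem algebraMap_tensor_injective (k R A : Type u) [Field k] [CommRing R] [Algebra k R] [Field A]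
    [Algebra k A] : Function.Injective (algebraMap R (R ⊗[k] A)) := fun x y h =>
  Algebra.TensorProduct.includeLeft_injective (S := k) (algebraMap k A).injective h

theorem main
    (k : Type u) [Field k] (R₀ : Type u) [CommRing R₀] [IsDomain R₀] [HenselianLocalRing R₀] [Algebra k R₀]
    [IsIntegrallyClosed R₀] (ks : Type u) [Field ks] [Algebra k ks] [Algebra.IsSeparable k ks]
    (hdim : ringKrullDim R₀ = 2)
    (hres : Function.Surjective (fun a : k => IsLocalRing.residue R₀ (algebraMap k R₀ a)))
    [IsDomain (R₀ ⊗[k] ks)] :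
    ∃ _ : HenselianLocalRing (R₀ ⊗[k] ks),
      IsIntegrallyClosed (R₀ ⊗[k] ks) ∧
      ringKrullDim (R₀ ⊗[k] ks) = 2 ∧
      Function.Surjective (fun a : ks =>
        IsLocalRing.residue (R₀ ⊗[k] ks)
          ((Algebra.TensorProduct.includeRight : ks →ₐ[k] R₀ ⊗[k] ks) a)) := by
    classical
    let inR : ks →ₐ[k] (R₀ ⊗[k] ks) := Algebra.TensorProduct.includeRight
    haveI : Algebra.IsIntegral R₀ (R₀ ⊗[k] ks) := Algebra.IsIntegral.tensorProduct k R₀ ks
    have hinjT : Function.Injective (algebraMap R₀ (R₀ ⊗[k] ks)) :=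
      algebraMap_tensor_injective k R₀ ks
    let m := IsLocalRing.maximalIdeal R₀
    let ι : R₀ →+* R₀ ⊗[k] ks := algebraMap R₀ (R₀ ⊗[k] ks)
    have hdec : ∀ t : (R₀ ⊗[k] ks), ∃ s : ks, t - inR s ∈ m.map (algebraMap R₀ (R₀ ⊗[k] ks)) := fun t => by
      induction t using TensorProduct.induction_on with
      | zero => exact ⟨0, by rw [map_zero, sub_zero]; exact Ideal.zero_mem _⟩
      | tmul r s =>
        obtain ⟨a, ha⟩ := hres (IsLocalRing.residue R₀ r)
        refine ⟨a • s, ?_⟩
        have hm : r - algebraMap k R₀ a ∈ m := by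
          rw [← Ideal.Quotient.eq]
          exact ha.symm
        have : r ⊗ₜ[k] s - inR (a • s) = ι (r - algebraMap k R₀ a) * inR s := by
          simp only [ι, inR, Algebra.TensorProduct.includeRight_apply, Algebra.TensorProduct.algebraMap_apply,
            Algebra.algebraMap_self, RingHom.id_apply, Algebra.TensorProduct.tmul_mul_tmul, mul_one, one_mul,
            TensorProduct.sub_tmul]
          rw [sub_mul, Algebra.TensorProduct.tmul_mul_tmul, Algebra.TensorProduct.tmul_mul_tmul, mul_one, one_mul,
            ← TensorProduct.smul_tmul, Algebra.smul_def, mul_one]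
        rw [this]
        exact Ideal.mul_mem_right _ _ (Ideal.mem_map_of_mem _ hm)
      | add x y hx hy =>
        obtain ⟨s, hs⟩ := hx
        obtain ⟨s', hs'⟩ := hy
        exact ⟨s + s', by rw [map_add, add_sub_add_comm]; exact Ideal.add_mem _ hs hs'⟩
    have hmT : ∀ M : Ideal (R₀ ⊗[k] ks), M.IsMaximal → m.map (algebraMap R₀ (R₀ ⊗[k] ks)) ≤ M := fun M _ => by
      rw [Ideal.map_le_iff_le_comap]
      exact (IsLocalRing.eq_maximalIdeal (Ideal.isMaximal_comap_of_isIntegral_of_isMaximal M)).ge
    obtain ⟨M₀, hM₀⟩ := Ideal.exists_maximal (R₀ ⊗[k] ks)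
    have hmax : ∀ M : Ideal (R₀ ⊗[k] ks), M.IsMaximal → M = m.map (algebraMap R₀ (R₀ ⊗[k] ks)) := fun M hM => by
      refine le_antisymm (fun t ht => ?_) (hmT M hM)
      obtain ⟨s, hs⟩ := hdec t
      by_cases h0 : s = 0
      · rwa [h0, map_zero, sub_zero] at hs
      · exfalso
        refine hM.ne_top (Ideal.eq_top_of_isUnit_mem _ ?_ ((isUnit_iff_ne_zero.2 h0).map inR))
        have := M.sub_mem ht (hmT M hM hs)
        rwa [sub_sub_cancel] at this
    haveI hloc : IsLocalRing (R₀ ⊗[k] ks) := IsLocalRing.of_unique_max_ideal ⟨M₀, hM₀, fun M hM => (hmax M hM).trans (hmax M₀ hM₀).symm⟩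
    have hmeq : IsLocalRing.maximalIdeal (R₀ ⊗[k] ks) = m.map (algebraMap R₀ (R₀ ⊗[k] ks)) := hmax _ inferInstance
    haveI : HenselianRing (R₀ ⊗[k] ks) (m.map (algebraMap R₀ (R₀ ⊗[k] ks))) := Groth.Agent.Hensel.henselianRing_of_isIntegral' _ (R₀ ⊗[k] ks)
    have hH : HenselianLocalRing (R₀ ⊗[k] ks) := Groth.Agent.Hensel.henselianLocalRing_of_radical_eq (R₀ ⊗[k] ks) (m.map (algebraMap R₀ (R₀ ⊗[k] ks)))
      (by rw [← hmeq]; exact (Ideal.IsPrime.radical inferInstance))
    refine ⟨hH, ?_, (Groth.Agent.EGA41Lib.ringKrullDim_eq_of_integral hinjT).trans hdim, ?_⟩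
    · let F := FractionRing (R₀ ⊗[k] ks)
      let K := FractionRing R₀
      have hinjF : Function.Injective (algebraMap R₀ F) := by
        rw [IsScalarTower.algebraMap_eq R₀ (R₀ ⊗[k] ks) F]; exact (IsFractionRing.injective (R₀ ⊗[k] ks) F).comp hinjT
      haveI : Module.IsTorsionFree R₀ F := Module.isTorsionFree_iff_algebraMap_injective.2 hinjF
      letI : Algebra K F := FractionRing.liftAlgebra R₀ F
      rw [isIntegrallyClosed_iff F]
      intro x hx
      replace hx : IsIntegral R₀ x := isIntegral_trans x hx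
      obtain ⟨a, b, hb, rfl⟩ := IsFractionRing.div_surjective (R₀ ⊗[k] ks) x
      have hb0 : b ≠ 0 := nonZeroDivisors.ne_zero hb
      have hne : (Ideal.span {b}).comap (algebraMap R₀ (R₀ ⊗[k] ks)) ≠ ⊥ :=
        Ideal.comap_ne_bot_of_integral_mem hb0 (Ideal.mem_span_singleton_self b) (Algebra.IsIntegral.isIntegral b)
      obtain ⟨r, hr, hr0⟩ := Submodule.exists_mem_ne_zero_of_ne_bot hne
      obtain ⟨c, hc⟩ := Ideal.mem_span_singleton.1 hr
      obtain ⟨S, hS⟩ := TensorProduct.exists_finset (a * c)
      let E := IntermediateField.adjoin k ((S.image Prod.snd : Finset ks) : Set ks)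
      haveI : FiniteDimensional k E := IntermediateField.finiteDimensional_adjoin fun y _ => Algebra.IsIntegral.isIntegral y
      obtain ⟨α, hα⟩ := Field.exists_primitive_element k E
      let φ : ks →ₐ[k] F := (IsScalarTower.toAlgHom k (R₀ ⊗[k] ks) F).comp inR
      have hpoly : ∀ y ∈ S, ∃ p : k[X], aeval (α : ks) p = y.2 := fun y hy => by
        have hyE : y.2 ∈ E := IntermediateField.subset_adjoin _ _ (Finset.mem_image_of_mem _ hy)
        have h2 : (⟨y.2, hyE⟩ : E) ∈ Algebra.adjoin k {α} := by
          rw [← IntermediateField.adjoin_simple_toSubalgebra_of_isAlgebraic (Algebra.IsAlgebraic.isAlgebraic α), hα]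
          trivial
        obtain ⟨p, hp⟩ := Algebra.adjoin_singleton_eq_range_aeval k α ▸ h2
        exact ⟨p, (aeval_algHom_apply E.val α p).trans (congrArg E.val hp)⟩
      let L := IntermediateField.adjoin K {φ α}
      have hsum : algebraMap (R₀ ⊗[k] ks) F (a * c) ∈ L := by
        rw [hS, map_sum]
        refine sum_mem fun y hy => ?_
        obtain ⟨p, hp⟩ := hpoly y hy
        rw [show y.1 ⊗ₜ[k] y.2 = algebraMap R₀ (R₀ ⊗[k] ks) y.1 * inR y.2 by
          simp [inR, Algebra.TensorProduct.tmul_mul_tmul], map_mul, ← IsScalarTower.algebraMap_apply R₀ (R₀ ⊗[k] ks) F,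
          IsScalarTower.algebraMap_apply R₀ K F]
        refine mul_mem (IntermediateField.algebraMap_mem L _) ?_
        show φ y.2 ∈ L
        rw [← hp, ← aeval_algHom_apply, aeval_eq_sum_range]
        refine sum_mem fun i _ => ?_
        rw [Algebra.smul_def, IsScalarTower.algebraMap_apply k R₀ F, IsScalarTower.algebraMap_apply R₀ K F]
        exact mul_mem (IntermediateField.algebraMap_mem L _) (pow_mem (IntermediateField.mem_adjoin_simple_self K _) i)
      have hxL : algebraMap (R₀ ⊗[k] ks) F a / algebraMap (R₀ ⊗[k] ks) F b ∈ L := by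
        have hr' : algebraMap (R₀ ⊗[k] ks) F (algebraMap R₀ (R₀ ⊗[k] ks) r) ≠ 0 := by
          rw [← IsScalarTower.algebraMap_apply]
          exact fun h => hr0 ((map_eq_zero_iff _ hinjF).1 h)
        have : algebraMap (R₀ ⊗[k] ks) F a / algebraMap (R₀ ⊗[k] ks) F b = algebraMap (R₀ ⊗[k] ks) F (a * c) / algebraMap (R₀ ⊗[k] ks) F (algebraMap R₀ (R₀ ⊗[k] ks) r) := by
          rw [div_eq_div_iff (IsFractionRing.to_map_ne_zero_of_mem_nonZeroDivisors hb) hr', hc, ← map_mul, ← map_mul]
          exact congrArg _ (by ring)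
        rw [this, ← IsScalarTower.algebraMap_apply R₀ (R₀ ⊗[k] ks) F, IsScalarTower.algebraMap_apply R₀ K F]
        exact div_mem hsum (IntermediateField.algebraMap_mem L _)
      have hsepα : IsSeparable k (φ α) := by
        show (minpoly k (φ α)).Separable
        rw [minpoly.algHom_eq φ φ.toRingHom.injective]
        exact Algebra.IsSeparable.isSeparable k (α : ks)
      have hle : Algebra.adjoin R₀ {φ α} ≤ (IsScalarTower.toAlgHom R₀ (R₀ ⊗[k] ks) F).range :=
        Algebra.adjoin_le (Set.singleton_subset_iff.2 ⟨inR α, rfl⟩)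
      exact hle (mem_adjoin_of_isSeparable hsepα _ hx hxL)
    · intro z
      obtain ⟨t, rfl⟩ := IsLocalRing.residue_surjective z
      obtain ⟨s, hs⟩ := hdec t
      refine ⟨s, ?_⟩
      refine (Ideal.Quotient.eq.2 ?_).symm
      rw [hmeq]
      exact hs


/-- Let `k` be a field with separable closure `kˢ` and `R₀` a commutative local `k`-algebra which is
excellent, henselian, integrally closed, of Krull dimension two, with residue field `k`, and
geometrically integral (`R₀ ⊗_k kˢ` is a domain). Then `R₀ ⊗_k kˢ` is a henselian local ring which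
is integrally closed, of Krull dimension two, and whose residue field is `kˢ` (the composite `kˢ →
R₀ ⊗_k kˢ →` residue field is surjective). (The published statement also asserts that `R₀ ⊗_k kˢ` is
excellent; that assertion is not restated here.) -/
theorem result
    (k : Type u) [Field k] (R₀ : Type u) [CommRing R₀] [IsDomain R₀] [HenselianLocalRing R₀] [Algebra k R₀]
    [IsIntegrallyClosed R₀] (hexc : EGA4.IsExcellent R₀) (hdim : ringKrullDim R₀ = 2)
    (hres : Function.Surjective (fun a : k => IsLocalRing.residue R₀ (algebraMap k R₀ a)))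
    [IsDomain (R₀ ⊗[k] SeparableClosure k)] :
    ∃ _ : HenselianLocalRing (R₀ ⊗[k] SeparableClosure k),
      IsIntegrallyClosed (R₀ ⊗[k] SeparableClosure k) ∧
      ringKrullDim (R₀ ⊗[k] SeparableClosure k) = 2 ∧
      Function.Surjective (fun a : SeparableClosure k =>
        IsLocalRing.residue (R₀ ⊗[k] SeparableClosure k)
          ((Algebra.TensorProduct.includeRight : SeparableClosure k →ₐ[k] R₀ ⊗[k] SeparableClosure k) a)) :=
  main k R₀ (SeparableClosure k) hdim hres

end Groth.Agent.S13417
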