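import Groth.Statements.S13418
import Groth.Agent.Neron6.Over

set_option autoImplicit false
universe u
open CategoryTheory AlgebraicGeometry
open NeronHD

namespace Groth.Agent.S13418

/-- Let S be a locally Noetherian scheme over a field of characteristic 0 and S₀ ⊆ S a
scheme-theoretically dense open. If N and M are smooth S-schemes having the Néron mapping property
for S₀ ⊆ S (for every smooth S-scheme Z, restriction to S₀ is a bijection from S-morphisms Z → N
onto S₀-morphisms Z|S₀ → N|S₀), then the fibre product N ×_S M has the Néron mapping property for S₀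
⊆ S (its smoothness over S being automatic). (This row is the case of schemes, with smooth test
schemes, of a statement about algebraic spaces.) -/
theorem result {k : Type u} [Field k] [CharZero k] {S : Scheme.{u}} (σ : S ⟶ Spec (CommRingCat.of k)) [IsLocallyNoetherian S] (S₀ : S.Opens) (hS₀ : CInt.IsSchematicallyDense S₀)
    (N M : Over S) [Smooth N.hom] [Smooth M.hom]
    (hN : ∀ Z : Over S, Smooth Z.hom → Function.Bijective (fun g : Z ⟶ N => (Over.pullback S₀.ι).map g))
    (hM : ∀ Z : Over S, Smooth Z.hom → Function.Bijective (fun g : Z ⟶ M => (Over.pullback S₀.ι).map g)) :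
    ∀ Z : Over S, Smooth Z.hom → Function.Bijective (fun g : Z ⟶ Over.mk (Limits.pullback.fst N.hom M.hom ≫ N.hom) => (Over.pullback S₀.ι).map g) := by
  intro Z hZ
  let P : Over S := Over.mk (Limits.pullback.fst N.hom M.hom ≫ N.hom)
  let p₁ : P ⟶ N := Over.homMk (Limits.pullback.fst N.hom M.hom) rfl
  let p₂ : P ⟶ M := Over.homMk (Limits.pullback.snd N.hom M.hom) Limits.pullback.condition.symm
  have hext : ∀ g g' : Z ⟶ P, g ≫ p₁ = g' ≫ p₁ → g ≫ p₂ = g' ≫ p₂ → g = g' := by
    intro g g' h₁ h₂
    ext
    exact Limits.pullback.hom_ext (congrArg CommaMorphism.left h₁) (congrArg CommaMorphism.left h₂)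
  refine ⟨fun g g' hg => hext g g' ((hN Z hZ).1 ?_) ((hM Z hZ).1 ?_), fun h => ?_⟩
  · simp only [Functor.map_comp]; exact congrArg (· ≫ _) hg
  · simp only [Functor.map_comp]; exact congrArg (· ≫ _) hg
  obtain ⟨a, ha⟩ := (hN Z hZ).2 (h ≫ (Over.pullback S₀.ι).map p₁)
  obtain ⟨b, hb⟩ := (hM Z hZ).2 (h ≫ (Over.pullback S₀.ι).map p₂)
  let g : Z ⟶ P := Over.homMk (Limits.pullback.lift a.left b.left (by rw [Over.w a, Over.w b]))
    ((Category.assoc _ _ _).symm.trans ((congrArg (· ≫ N.hom) (Limits.pullback.lift_fst _ _ _)).trans (Over.w a)))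
  have hg₁ : g ≫ p₁ = a := by ext; exact Limits.pullback.lift_fst _ _ _
  have hg₂ : g ≫ p₂ = b := by ext; exact Limits.pullback.lift_snd _ _ _
  refine ⟨g, ?_⟩
  have e₁ : (Over.pullback S₀.ι).map g ≫ (Over.pullback S₀.ι).map p₁ = h ≫ (Over.pullback S₀.ι).map p₁ := by
    rw [← Functor.map_comp, hg₁]; exact ha
  have e₂ : (Over.pullback S₀.ι).map g ≫ (Over.pullback S₀.ι).map p₂ = h ≫ (Over.pullback S₀.ι).map p₂ := by
    rw [← Functor.map_comp, hg₂]; exact hb
  refine Groth.Agent.Neron6.pullback_hom_ext _ _ _ (Limits.pullback.hom_ext ?_ ?_)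
  · have := congrArg (fun q => q.left ≫ Limits.pullback.fst N.hom S₀.ι) e₁
    simp only [Over.comp_left, Category.assoc, Groth.Agent.Neron6.pullback_map_fst] at this
    simpa [p₁, P] using this
  · have := congrArg (fun q => q.left ≫ Limits.pullback.fst M.hom S₀.ι) e₂
    simp only [Over.comp_left, Category.assoc, Groth.Agent.Neron6.pullback_map_fst] at this
    simpa [p₂, P] using this

end Groth.Agent.S13418
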