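import Groth.Statements.S13419
import Groth.Agent.Neron6.Over

set_option autoImplicit false
universe u
open CategoryTheory AlgebraicGeometry
open NeronHD

namespace Groth.Agent.S13419

/-- Let S be a locally Noetherian scheme over a field of characteristic 0, S₀ ⊆ S₁ ⊆ S opens with S₀
scheme-theoretically dense in S, and N a smooth S-scheme. If N has the Néron mapping property for S₁
⊆ S and the restriction N|S₁ has the Néron mapping property for S₀ ⊆ S₁ (in both cases: restriction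
of morphisms from smooth schemes over the base is bijective), then N has the Néron mapping property
for S₀ ⊆ S. (Case of schemes, with smooth test schemes, of a statement about algebraic spaces.) -/
theorem result {k : Type u} [Field k] [CharZero k] {S : Scheme.{u}} (σ : S ⟶ Spec (CommRingCat.of k)) [IsLocallyNoetherian S] (S₀ S₁ : S.Opens) (h01 : S₀ ≤ S₁) (hS₀ : CInt.IsSchematicallyDense S₀)
    (N : Over S) [Smooth N.hom]
    (hN1 : ∀ Z : Over S, Smooth Z.hom → Function.Bijective (fun g : Z ⟶ N => (Over.pullback S₁.ι).map g))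
    (hN10 : ∀ Z : Over (S₁ : Scheme.{u}), Smooth Z.hom → Function.Bijective (fun g : Z ⟶ (Over.pullback S₁.ι).obj N => (Over.pullback (S₁.ι ⁻¹ᵁ S₀).ι).map g)) :
    ∀ Z : Over S, Smooth Z.hom → Function.Bijective (fun g : Z ⟶ N => (Over.pullback S₀.ι).map g) := by
  intro Z hZ
  haveI := hZ
  let j := (S₁.ι ⁻¹ᵁ S₀).ι
  let r := S₁.ι ∣_ S₀
  have hr : j ≫ S₁.ι = r ≫ S₀.ι := (morphismRestrict_ι S₁.ι S₀).symm
  have hsm : Smooth ((Over.pullback S₁.ι).obj Z).hom :=
    MorphismProperty.pullback_snd (P := @Smooth) _ _ hZ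
  refine ⟨fun g g' hg => (hN1 Z hZ).1 ((hN10 _ hsm).1
    (Groth.Agent.Neron6.map_map_eq_of_direct S₁.ι j r S₀.ι hr g g' hg)), fun h => ?_⟩
  let Z₁ := (Over.pullback S₁.ι).obj Z
  let m := Groth.Agent.Neron6.toDirect S₁.ι Z j r S₀.ι hr
  -- the inverse of `m`
  let l : (S₀ : Scheme.{u}) ⟶ ((S₁.ι ⁻¹ᵁ S₀ : (S₁ : Scheme.{u}).Opens) : Scheme.{u}) := (isPullback_morphismRestrict S₁.ι S₀).lift (𝟙 _) (S.homOfLE h01)
    (by rw [Category.id_comp, Scheme.homOfLE_ι])
  have hl : l ≫ j = S.homOfLE h01 := (isPullback_morphismRestrict S₁.ι S₀).lift_snd _ _ _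
  let m₁ : Limits.pullback Z.hom S₀.ι ⟶ Z₁.left := Limits.pullback.lift (Limits.pullback.fst _ _)
    (Limits.pullback.snd _ _ ≫ S.homOfLE h01)
    (Limits.pullback.condition.trans ((congrArg (_ ≫ ·) (Scheme.homOfLE_ι _ h01).symm).trans
      (Category.assoc _ _ _).symm))
  let m' : Limits.pullback Z.hom S₀.ι ⟶ Limits.pullback Z₁.hom j :=
    Limits.pullback.lift m₁ (Limits.pullback.snd _ _ ≫ l)
      ((Limits.pullback.lift_snd _ _ _).trans ((congrArg (_ ≫ ·) hl).symm.trans (Category.assoc _ _ _).symm))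
  have hm' : m' ≫ Limits.pullback.fst Z₁.hom j ≫ Limits.pullback.fst Z.hom S₁.ι =
      Limits.pullback.fst Z.hom S₀.ι :=
    (Category.assoc _ _ _).symm.trans ((congrArg (· ≫ Limits.pullback.fst Z.hom S₁.ι)
      (Limits.pullback.lift_fst _ _ _ : m' ≫ Limits.pullback.fst Z₁.hom j = m₁)).trans
      (Limits.pullback.lift_fst _ _ _))
  have hmm : m' ≫ m = 𝟙 _ := by
    refine Limits.pullback.hom_ext ?_ ?_
    · rw [Category.assoc, Groth.Agent.Neron6.toDirect_fst, Category.id_comp]
      exact hm'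
    · have hmf : (m' ≫ m) ≫ Limits.pullback.fst Z.hom S₀.ι = Limits.pullback.fst Z.hom S₀.ι := by
        rw [Category.assoc, Groth.Agent.Neron6.toDirect_fst]; exact hm'
      rw [← cancel_mono S₀.ι]
      simp only [Category.assoc, Category.id_comp, ← Limits.pullback.condition]
      exact ((congrArg (m' ≫ ·) (Category.assoc _ _ _).symm).trans ((Category.assoc _ _ _).symm.trans
        ((congrArg (· ≫ Z.hom) ((Category.assoc _ _ _).symm.trans hmf))))) 
  have hmw : (m ≫ h.left ≫ Limits.pullback.fst N.hom S₀.ι) ≫ N.hom =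
      (Limits.pullback.snd Z₁.hom j ≫ j) ≫ S₁.ι := by
    rw [Category.assoc, Category.assoc, Limits.pullback.condition, Category.assoc]
    refine (congrArg (m ≫ ·) ((Category.assoc _ _ _).symm.trans (congrArg (· ≫ S₀.ι) (Over.w h)))).trans ?_
    exact (Category.assoc _ _ _).symm.trans ((congrArg (· ≫ S₀.ι) (Limits.pullback.lift_snd _ _ _)).trans
      ((Category.assoc _ _ _).trans (congrArg (_ ≫ ·) hr.symm)))
  let h₁ : (Over.pullback j).obj Z₁ ⟶ (Over.pullback j).obj ((Over.pullback S₁.ι).obj N) :=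
    Over.homMk (Limits.pullback.lift (Limits.pullback.lift _ _ hmw) (Limits.pullback.snd _ _)
      (Limits.pullback.lift_snd _ _ _)) (Limits.pullback.lift_snd _ _ _)
  obtain ⟨q, hq⟩ := (hN10 _ hsm).2 h₁
  obtain ⟨g, hg⟩ := (hN1 Z hZ).2 q
  refine ⟨g, Groth.Agent.Neron6.pullback_hom_ext _ _ _ ?_⟩
  rw [Groth.Agent.Neron6.pullback_map_fst]
  have e1 := congrArg (fun t => (t.left ≫ Limits.pullback.fst _ j) ≫ Limits.pullback.fst N.hom S₁.ι) hq
  have e1' : (Limits.pullback.fst Z₁.hom j ≫ q.left) ≫ Limits.pullback.fst N.hom S₁.ι =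
      m ≫ h.left ≫ Limits.pullback.fst N.hom S₀.ι :=
    (congrArg (· ≫ _) (Groth.Agent.Neron6.pullback_map_fst j q).symm).trans
      (e1.trans ((congrArg (· ≫ _) (Limits.pullback.lift_fst _ _ _)).trans (Limits.pullback.lift_fst _ _ _)))
  rw [← hg, Category.assoc, Groth.Agent.Neron6.pullback_map_fst] at e1'
  have e2 := congrArg (m' ≫ ·) e1'
  simp only [reassoc_of% hm', reassoc_of% hmm] at e2
  exact e2

end Groth.Agent.S13419
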