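import Groth.Statements.S13420
import Groth.Agent.Neron6.Over

set_option autoImplicit false
universe u
open CategoryTheory AlgebraicGeometry
open NeronHD

namespace Groth.Agent.S13420

/-- Let S be a locally Noetherian scheme over a field of characteristic 0, S₀ ⊆ S₁ ⊆ S opens with S₀
scheme-theoretically dense in S, and N a smooth S-scheme. If N has the Néron mapping property for S₀
⊆ S and N|S₁ has the Néron mapping property for S₀ ⊆ S₁ (restriction of morphisms from smooth
schemes over the base is bijective), then N has the Néron mapping property for S₁ ⊆ S. (Case of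
schemes, with smooth test schemes, of a statement about algebraic spaces.) -/
theorem result {k : Type u} [Field k] [CharZero k] {S : Scheme.{u}} (σ : S ⟶ Spec (CommRingCat.of k)) [IsLocallyNoetherian S] (S₀ S₁ : S.Opens) (h01 : S₀ ≤ S₁) (hS₀ : CInt.IsSchematicallyDense S₀)
    (N : Over S) [Smooth N.hom]
    (hN0 : ∀ Z : Over S, Smooth Z.hom → Function.Bijective (fun g : Z ⟶ N => (Over.pullback S₀.ι).map g))
    (hN10 : ∀ Z : Over (S₁ : Scheme.{u}), Smooth Z.hom → Function.Bijective (fun g : Z ⟶ (Over.pullback S₁.ι).obj N => (Over.pullback (S₁.ι ⁻¹ᵁ S₀).ι).map g)) :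
    ∀ Z : Over S, Smooth Z.hom → Function.Bijective (fun g : Z ⟶ N => (Over.pullback S₁.ι).map g) := by
  intro Z hZ
  have hfac : S.homOfLE h01 ≫ S₁.ι = S₀.ι := Scheme.homOfLE_ι _ _
  refine ⟨fun g g' hg => (hN0 Z hZ).1
    (Groth.Agent.Neron6.pullback_map_eq_of_fac S₁.ι (S.homOfLE h01) _ hfac g g' hg), fun h => ?_⟩
  let h₀ : (Over.pullback S₀.ι).obj Z ⟶ (Over.pullback S₀.ι).obj N :=
    Over.homMk (Limits.pullback.lift
      (Limits.pullback.lift (Limits.pullback.fst Z.hom S₀.ι) (Limits.pullback.snd Z.hom S₀.ι ≫ S.homOfLE h01)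
        (by rw [Category.assoc, hfac, Limits.pullback.condition]) ≫ h.left ≫ Limits.pullback.fst N.hom S₁.ι)
      (Limits.pullback.snd Z.hom S₀.ι)
      ((Category.assoc _ _ _).trans ((congrArg (_ ≫ ·) ((Category.assoc _ _ _).trans
        ((congrArg (h.left ≫ ·) Limits.pullback.condition).trans
          ((Category.assoc _ _ _).symm.trans (congrArg (· ≫ S₁.ι) (Over.w h)))))).trans
        ((Category.assoc _ _ _).symm.trans ((congrArg (· ≫ S₁.ι) (Limits.pullback.lift_snd _ _ _)).trans
          ((Category.assoc _ _ _).trans (congrArg (_ ≫ ·) hfac)))))))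
      (Limits.pullback.lift_snd _ _ _)
  obtain ⟨g, hg⟩ := (hN0 Z hZ).2 h₀
  refine ⟨g, ?_⟩
  haveI := hZ
  have hsm : Smooth ((Over.pullback S₁.ι).obj Z).hom :=
    MorphismProperty.pullback_snd (P := @Smooth) _ _ hZ
  refine (hN10 _ hsm).1 ?_
  rw [Groth.Agent.Neron6.pullback_map_eq_iff]
  refine Limits.pullback.hom_ext ?_ ?_
  · let j := (S₁.ι ⁻¹ᵁ S₀).ι
    let m := Groth.Agent.Neron6.toDirect S₁.ι Z j (S₁.ι ∣_ S₀) S₀.ι (morphismRestrict_ι S₁.ι S₀).symm
    have h1 := congrArg (fun q => q.left ≫ Limits.pullback.fst N.hom S₀.ι) hg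
    simp only [Groth.Agent.Neron6.pullback_map_fst] at h1
    simp only [Category.assoc]
    rw [Groth.Agent.Neron6.pullback_map_fst, ← Category.assoc,
      ← Groth.Agent.Neron6.toDirect_fst S₁.ι Z j (S₁.ι ∣_ S₀) S₀.ι (morphismRestrict_ι S₁.ι S₀).symm,
      Category.assoc, h1]
    simp only [h₀, Over.homMk_left, Limits.pullback.lift_fst, ← Category.assoc]
    congr 2
    refine Limits.pullback.hom_ext ?_ ?_
    · simp only [Category.assoc, Limits.pullback.lift_fst]
      exact Groth.Agent.Neron6.toDirect_fst _ _ _ _ _ _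
    · rw [← cancel_mono S₁.ι]
      simp only [Category.assoc, ← Limits.pullback.condition, Limits.pullback.lift_fst_assoc]
      rw [← Category.assoc, Groth.Agent.Neron6.toDirect_fst, Category.assoc]
  · simp only [Category.assoc]
    exact (congrArg (Limits.pullback.fst _ _ ≫ ·) (Over.w ((Over.pullback S₁.ι).map g))).trans
      (congrArg (Limits.pullback.fst _ _ ≫ ·) (Over.w h)).symm

end Groth.Agent.S13420
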