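import Groth.Statements.S13421
import Groth.Agent.Neron6.Over
import Mathlib.AlgebraicGeometry.Morphisms.Etale

set_option autoImplicit false
universe u
open CategoryTheory AlgebraicGeometry
open NeronHD

namespace Groth.Agent.S13421

/-- Let T be a locally Noetherian scheme over a field of characteristic 0 and T₀ ⊆ T a
scheme-theoretically dense open. Let f : S → T be étale and such that S, viewed as a T-scheme, has
the Néron mapping property for T₀ ⊆ T, and let g : N → S be smooth and such that N, viewed as an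
S-scheme, has the Néron mapping property for f⁻¹(T₀) ⊆ S (restriction of morphisms from smooth
schemes over the base is bijective). Then N → T, the composite g ≫ f, has the Néron mapping property
for T₀ ⊆ T. (Case of schemes, with smooth test schemes, of a statement about algebraic spaces.) -/
theorem result {k : Type u} [Field k] [CharZero k] {T : Scheme.{u}} (τ : T ⟶ Spec (CommRingCat.of k)) [IsLocallyNoetherian T] (T₀ : T.Opens) (hT₀ : CInt.IsSchematicallyDense T₀)
    {S N : Scheme.{u}} (f : S ⟶ T) [Etale f] (g : N ⟶ S) [Smooth g]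
    (hS : ∀ Z : Over T, Smooth Z.hom → Function.Bijective (fun g : Z ⟶ Over.mk f => (Over.pullback T₀.ι).map g))
    (hN : ∀ Z : Over S, Smooth Z.hom → Function.Bijective (fun g : Z ⟶ Over.mk g => (Over.pullback (f ⁻¹ᵁ T₀).ι).map g)) :
    ∀ Z : Over T, Smooth Z.hom → Function.Bijective (fun g : Z ⟶ Over.mk (g ≫ f) => (Over.pullback T₀.ι).map g) := by
  intro Z hZ
  haveI := hZ
  let S' : Over T := Over.mk f
  let p : Over.mk (g ≫ f) ⟶ S' := Over.homMk g rfl
  have hsmooth : ∀ a : Z ⟶ S', Smooth a.left := fun a => by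
    let γ : Z.left ⟶ Limits.pullback Z.hom f :=
      Limits.pullback.lift (𝟙 _) a.left ((Category.id_comp _).trans (Over.w a).symm)
    have hγ : Etale γ := by
      haveI : Etale (γ ≫ Limits.pullback.fst Z.hom f) := by rw [Limits.pullback.lift_fst]; infer_instance
      exact MorphismProperty.of_postcomp @Etale (W' := @Etale) γ (Limits.pullback.fst Z.hom f)
        inferInstance inferInstance
    haveI := hγ
    have h2 : Smooth (Limits.pullback.snd Z.hom f) := MorphismProperty.pullback_snd (P := @Smooth) _ _ hZ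
    haveI := h2
    rw [show a.left = γ ≫ Limits.pullback.snd Z.hom f from (Limits.pullback.lift_snd _ _ _).symm]
    infer_instance
  let jS := (f ⁻¹ᵁ T₀).ι
  have hsq : jS ≫ f = (f ∣_ T₀) ≫ T₀.ι := (morphismRestrict_ι f T₀).symm
  -- the iso between the two restrictions of `Z` along a map `a` to `S`
  let φ : ∀ a : Z ⟶ S', Limits.pullback a.left jS ⟶ Limits.pullback Z.hom T₀.ι := fun a =>
    Limits.pullback.lift (Limits.pullback.fst _ _) (Limits.pullback.snd _ _ ≫ (f ∣_ T₀))
      ((congrArg (_ ≫ ·) (Over.w a).symm).trans ((Category.assoc _ _ _).symm.trans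
        ((congrArg (· ≫ f) Limits.pullback.condition).trans ((Category.assoc _ _ _).trans
          ((congrArg (_ ≫ ·) hsq).trans (Category.assoc _ _ _).symm)))))
  refine ⟨fun g₁ g₂ hg => ?_, fun h => ?_⟩
  · have ha : g₁ ≫ p = g₂ ≫ p := by
      refine (hS Z hZ).1 ?_
      simp only [Functor.map_comp]; exact congrArg (· ≫ _) hg
    let a := g₁ ≫ p
    let Z' : Over S := Over.mk a.left
    let b₁ : Z' ⟶ Over.mk g := Over.homMk g₁.left rfl
    let b₂ : Z' ⟶ Over.mk g := Over.homMk g₂.left (congrArg CommaMorphism.left ha).symm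
    have hb : b₁ = b₂ := by
      refine (hN Z' (hsmooth a)).1 ?_
      show (Over.pullback jS).map b₁ = (Over.pullback jS).map b₂
      rw [Groth.Agent.Neron6.pullback_map_eq_iff]
      have h' := (Groth.Agent.Neron6.pullback_map_eq_iff _ g₁ g₂).mp hg
      have e : φ a ≫ Limits.pullback.fst Z.hom T₀.ι = Limits.pullback.fst Z'.hom jS :=
        Limits.pullback.lift_fst _ _ _
      show Limits.pullback.fst Z'.hom jS ≫ g₁.left = Limits.pullback.fst Z'.hom jS ≫ g₂.left
      rw [← e]
      exact (Category.assoc _ _ _).trans ((congrArg (φ a ≫ ·) h').trans (Category.assoc _ _ _).symm)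
    ext
    exact (congrArg CommaMorphism.left hb :)
  obtain ⟨a, ha⟩ := (hS Z hZ).2 (h ≫ (Over.pullback T₀.ι).map p)
  let Z' : Over S := Over.mk a.left
  have ha' : Limits.pullback.fst Z.hom T₀.ι ≫ a.left = h.left ≫ Limits.pullback.fst (g ≫ f) T₀.ι ≫ g := by
    have := congrArg (fun q => q.left ≫ Limits.pullback.fst f T₀.ι) ha
    simp only [Over.comp_left, Category.assoc] at this
    exact (Groth.Agent.Neron6.pullback_map_fst T₀.ι a).symm.trans
      (this.trans (congrArg (h.left ≫ ·) (Groth.Agent.Neron6.pullback_map_fst T₀.ι p)))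
  let w : Limits.pullback a.left jS ⟶ N := φ a ≫ h.left ≫ Limits.pullback.fst (g ≫ f) T₀.ι
  have hw : w ≫ g = Limits.pullback.snd a.left jS ≫ jS :=
    (Category.assoc _ _ _).trans ((congrArg (φ a ≫ ·) ((Category.assoc _ _ _).trans ha'.symm)).trans
      ((Category.assoc _ _ _).symm.trans ((congrArg (· ≫ a.left) (Limits.pullback.lift_fst _ _ _)).trans
        Limits.pullback.condition)))
  let h' : (Over.pullback jS).obj Z' ⟶ (Over.pullback jS).obj (Over.mk g) :=
    Over.homMk (Limits.pullback.lift w (Limits.pullback.snd _ _) hw) (Limits.pullback.lift_snd _ _ _)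
  obtain ⟨b, hb⟩ := (hN Z' (hsmooth a)).2 h'
  let c : Z ⟶ Over.mk (g ≫ f) := Over.homMk b.left
    ((Category.assoc _ _ _).symm.trans ((congrArg (· ≫ f) (Over.w b)).trans (Over.w a)))
  refine ⟨c, Groth.Agent.Neron6.pullback_hom_ext _ _ _ ?_⟩
  rw [Groth.Agent.Neron6.pullback_map_fst]
  let l : Limits.pullback Z.hom T₀.ι ⟶ ((f ⁻¹ᵁ T₀ : S.Opens) : Scheme.{u}) :=
    (isPullback_morphismRestrict f T₀).lift (Limits.pullback.snd _ _) (Limits.pullback.fst _ _ ≫ a.left)
      (Limits.pullback.condition.symm.trans ((congrArg (_ ≫ ·) (Over.w a).symm).trans (Category.assoc _ _ _).symm))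
  let ψ : Limits.pullback Z.hom T₀.ι ⟶ Limits.pullback a.left jS :=
    Limits.pullback.lift (Limits.pullback.fst _ _) l
      ((isPullback_morphismRestrict f T₀).lift_snd _ _ _).symm
  have hψ : ψ ≫ φ a = 𝟙 _ := by
    refine Limits.pullback.hom_ext ?_ ?_
    · exact (Category.assoc _ _ _).trans ((congrArg (ψ ≫ ·) (Limits.pullback.lift_fst _ _ _)).trans
        ((Limits.pullback.lift_fst _ _ _).trans (Category.id_comp _).symm))
    · exact (Category.assoc _ _ _).trans ((congrArg (ψ ≫ ·) (Limits.pullback.lift_snd _ _ _)).trans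
        ((Category.assoc _ _ _).symm.trans ((congrArg (· ≫ (f ∣_ T₀)) (Limits.pullback.lift_snd _ _ _)).trans
          (((isPullback_morphismRestrict f T₀).lift_fst _ _ _).trans (Category.id_comp _).symm))))
  have e1 : Limits.pullback.fst Z'.hom jS ≫ b.left = w :=
    (Groth.Agent.Neron6.pullback_map_fst jS b).symm.trans
      ((congrArg (fun q => q.left ≫ Limits.pullback.fst g jS) hb).trans (Limits.pullback.lift_fst _ _ _))
  have e2 := congrArg (ψ ≫ ·) e1
  exact ((congrArg (· ≫ b.left) (Limits.pullback.lift_fst _ _ _ : ψ ≫ Limits.pullback.fst a.left jS = _)).symm.trans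
    ((Category.assoc _ _ _).trans e2)).trans
    ((Category.assoc _ _ _).symm.trans ((congrArg (· ≫ _) hψ).trans (Category.id_comp _)))

end Groth.Agent.S13421
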