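import Groth.Statements.S13422
import Groth.Agent.Neron6.QuasiSec
import Groth.Agent.Neron6.DenseFac
import Groth.Agent.Neron6.Compactify
import Groth.Agent.S9734
import Groth.Agent.S3844

set_option autoImplicit false
set_option backward.isDefEq.respectTransparency false
set_option backward.isDefEq.respectTransparency.types false
universe u
open CategoryTheory AlgebraicGeometry
open NeronHD

namespace Groth.Agent.S13422

/-- Let S be a locally Noetherian scheme over a field of characteristic 0, S₀ ⊆ S a scheme-theoretically
dense open, and N a smooth S-scheme with the weak Néron mapping property for S₀ ⊆ S: for every étale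
S-scheme U, restriction to S₀ is a bijection from S-morphisms U → N onto S₀-morphisms U|S₀ → N|S₀.
Then N has the uniqueness half of the Néron mapping property: for every smooth S-scheme Z,
restriction of S-morphisms Z → N to S₀ is injective. (Case of schemes of a statement about algebraic
spaces.) -/
theorem result {k : Type u} [Field k] [CharZero k] {S : Scheme.{u}} (σ : S ⟶ Spec (CommRingCat.of k)) [IsLocallyNoetherian S] (S₀ : S.Opens) (hS₀ : CInt.IsSchematicallyDense S₀)
    (N : Over S) [Smooth N.hom]
    (hN : ∀ U : Over S, Etale U.hom → Function.Bijective (fun g : U ⟶ N => (Over.pullback S₀.ι).map g))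
    (Z : Over S) [Smooth Z.hom] :
    Function.Injective (fun g : Z ⟶ N => (Over.pullback S₀.ι).map g) := by
    intro g g' he
    have h0 := (Neron6.pullback_map_eq_iff S₀.ι g g').1 he
    let G : Z.left ⟶ Limits.pullback N.hom N.hom :=
      Limits.pullback.lift g.left g'.left ((Over.w g).trans (Over.w g').symm)
    let D := Limits.pullback.diagonal N.hom
    let E := Limits.pullback D G
    let e : E ⟶ Z.left := Limits.pullback.snd D G
    haveI : IsImmersion e := MorphismProperty.pullback_snd _ _ inferInstance
    have heq : e ≫ g.left = e ≫ g'.left := by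
      have h := Limits.pullback.condition (f := D) (g := G)
      have h1 := congrArg (· ≫ Limits.pullback.fst N.hom N.hom) h
      have h2 := congrArg (· ≫ Limits.pullback.snd N.hom N.hom) h
      simp only [Category.assoc, G, D, Limits.pullback.diagonal_fst, Limits.pullback.diagonal_snd,
        Limits.pullback.lift_fst, Limits.pullback.lift_snd] at h1 h2
      exact h1.symm.trans h2
    have fac : ∀ {Y : Scheme.{u}} (m : Y ⟶ Z.left), m ≫ g.left = m ≫ g'.left → ∃ l : Y ⟶ E, l ≫ e = m := by
      intro Y m hm
      refine ⟨Limits.pullback.lift (m ≫ g.left) m ?_, Limits.pullback.lift_snd _ _ _⟩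
      refine Limits.pullback.hom_ext ?_ ?_
      · simp [G, D]
      · simp [G, D, hm]
    let f := Z.hom
    let W : Z.left.Opens := f ⁻¹ᵁ S₀
    have hW : CInt.IsSchematicallyDense W := S3844.result f S₀ hS₀
    let a : Limits.pullback Z.hom S₀.ι ⟶ Z.left := Limits.pullback.fst Z.hom S₀.ι
    obtain ⟨lW, hlW⟩ : ∃ l : (W : Scheme.{u}) ⟶ E, l ≫ e = W.ι := by
      have hr : Set.range W.ι ⊆ Set.range a := by
        rw [Scheme.Opens.range_ι, Scheme.Pullback.range_fst, Scheme.Opens.range_ι]
        exact le_rfl
      refine fac W.ι ?_
      rw [← IsOpenImmersion.lift_fac a W.ι hr, Category.assoc, Category.assoc, h0]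
    have hclosedpt : ∀ z : Z.left, IsClosed ({f.asFiber z} : Set (f.fiber (f z))) → z ∈ Set.range e := by
      intro z hz
      let s := f z
      letI : Algebra (S.residueField s) (Z.left.residueField z) := (f.residueFieldMap z).hom.toAlgebra
      haveI : Module.Finite (S.residueField s) (Z.left.residueField z) := by
        let ℓ : Spec (Z.left.residueField z) ⟶ f.fiber s :=
          Limits.pullback.lift (Z.left.fromSpecResidueField z) (Spec.map (f.residueFieldMap z))
            (Scheme.Hom.SpecMap_residueFieldMap_fromSpecResidueField f z).symm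
        have hℓ : ℓ ≫ f.fiberι s = Z.left.fromSpecResidueField z := Limits.pullback.lift_fst _ _ _
        haveI : IsPreimmersion (f.fiberι s) := MorphismProperty.pullback_fst _ _ inferInstance
        haveI : IsPreimmersion ℓ := by
          haveI : IsPreimmersion (ℓ ≫ f.fiberι s) := by rw [hℓ]; infer_instance
          exact IsPreimmersion.of_comp ℓ (f.fiberι s)
        haveI : IsClosedImmersion ℓ := IsClosedImmersion.of_isPreimmersion ℓ (by
          have hr : Set.range ℓ = {f.asFiber z} := by
            refine Set.eq_singleton_iff_unique_mem.2 ⟨⟨IsLocalRing.closedPoint _, ?_⟩, ?_⟩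
            · apply (f.fiberι s).isEmbedding.injective
              rw [← Scheme.Hom.comp_apply, hℓ, Scheme.fromSpecResidueField_apply, f.fiberι_asFiber]
            · rintro _ ⟨y, rfl⟩
              apply (f.fiberι s).isEmbedding.injective
              rw [← Scheme.Hom.comp_apply, hℓ, Scheme.fromSpecResidueField_apply, f.fiberι_asFiber]
          rw [hr]; exact hz)
        haveI : LocallyOfFiniteType (f.fiberToSpecResidueField s) := MorphismProperty.pullback_snd _ _ inferInstance
        haveI : LocallyOfFiniteType (Spec.map (f.residueFieldMap z)) := by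
          rw [show Spec.map (f.residueFieldMap z) = ℓ ≫ f.fiberToSpecResidueField s from
            (Limits.pullback.lift_snd _ _ _).symm]
          infer_instance
        have hfin : IsFinite (Spec.map (f.residueFieldMap z)) :=
          isFinite_iff_locallyOfFiniteType_of_jacobsonSpace.2 inferInstance
        exact RingHom.finite_algebraMap.1 ((IsFinite.SpecMap_iff _).1 hfin)
      haveI : CharZero (S.residueField s) := by
        haveI := Neron6.charZero_stalk σ s
        exact charZero_of_injective_ringHom (((Scheme.ΓSpecIso (CommRingCat.of k)).inv ≫ σ.appTop ≫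
          S.presheaf.germ ⊤ s trivial ≫ S.residue s).hom : k →+* _).injective
      obtain ⟨W', b, w, hw, hb, ⟨ε⟩⟩ := S9734.result S s (Z.left.residueField z)
      letI := ((S.residueFieldCongr hw).inv ≫ b.residueFieldMap w).hom.toAlgebra
      let εm : Z.left.residueField z ⟶ W'.residueField w :=
        CommRingCat.ofHom (R := Z.left.residueField z) (S := W'.residueField w) ε.toRingEquiv.toRingHom
      let q₀ : Spec (W'.residueField w) ⟶ Z.left :=
        Spec.map εm ≫ Z.left.fromSpecResidueField z
      have hq₀ : q₀ ≫ f = W'.fromSpecResidueField w ≫ b := by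
        have e1 : f.residueFieldMap z ≫ εm =
            (S.residueFieldCongr hw).inv ≫ b.residueFieldMap w := by
          ext x
          exact ε.commutes x
        rw [Category.assoc, ← Scheme.Hom.SpecMap_residueFieldMap_fromSpecResidueField, ← Category.assoc,
          ← Spec.map_comp, e1, Spec.map_comp, Category.assoc, ← Scheme.Hom.SpecMap_residueFieldMap_fromSpecResidueField]
        have e3 : ∀ {s₁ s₂ : S} (e₂ : s₁ = s₂), Spec.map (S.residueFieldCongr e₂).inv ≫ S.fromSpecResidueField s₂ =
            S.fromSpecResidueField s₁ := by
          rintro s₁ _ rfl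
          simp
        rw [e3 hw]
      let p := Limits.pullback.snd f b
      obtain ⟨U, h, hU, hx⟩ := Neron6.exists_etale_through_rational p w
        (Limits.pullback.lift q₀ (W'.fromSpecResidueField w) hq₀) (Limits.pullback.lift_snd _ _ _)
      haveI : Etale (h ≫ p) := hU
      let i : U ⟶ Z.left := h ≫ Limits.pullback.fst f b
      have hi : i ≫ f = (h ≫ p) ≫ b := by
        rw [Category.assoc, Limits.pullback.condition, ← Category.assoc]
      let Uo : Over S := Over.mk (i ≫ f)
      have hUo : Etale Uo.hom := by
        show Etale (i ≫ f)
        rw [hi]; infer_instance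
      let io : Uo ⟶ Z := Over.homMk i rfl
      have hio : io ≫ g = io ≫ g' := (hN Uo hUo).1 (by
        show (Over.pullback S₀.ι).map (io ≫ g) = (Over.pullback S₀.ι).map (io ≫ g')
        rw [Functor.map_comp, Functor.map_comp]
        exact congrArg (_ ≫ ·) he)
      obtain ⟨l, hl⟩ := fac i (congrArg CommaMorphism.left hio)
      obtain ⟨u₀, hu₀⟩ := hx
      refine ⟨l u₀, ?_⟩
      rw [← Scheme.Hom.comp_apply, hl, Scheme.Hom.comp_apply, hu₀, ← Scheme.Hom.comp_apply,
        Limits.pullback.lift_fst, Scheme.Hom.comp_apply, Scheme.fromSpecResidueField_apply]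
    haveI : Surjective e := ⟨fun z => by
      let F := f.fiber (f z)
      haveI : JacobsonSpace F := inferInstance
      let A : Set F := f.fiberι (f z) ⁻¹' Set.range e
      have hA : IsLocallyClosed A := e.isLocallyClosed_range.preimage (f.fiberι (f z)).continuous
      have hcp : closedPoints F ⊆ A := by
        intro y hy
        obtain ⟨z', hz'⟩ : ∃ z', f.fiberι (f z) y = z' := ⟨_, rfl⟩
        have hfz : f z' = f z := by
          rw [← hz', ← Scheme.Hom.comp_apply]
          have h : f.fiberι (f z) ≫ f = f.fiberToSpecResidueField (f z) ≫ S.fromSpecResidueField (f z) :=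
            Limits.pullback.condition
          rw [h, Scheme.Hom.comp_apply, Scheme.fromSpecResidueField_apply]
        show f.fiberι (f z) y ∈ Set.range e
        rw [hz']
        refine hclosedpt z' ?_
        have key : ∀ (t : S) (h : f z' = t) (y : f.fiber t), f.fiberι t y = z' → IsClosed ({y} : Set (f.fiber t)) →
            IsClosed ({f.asFiber z'} : Set (f.fiber (f z'))) := by
          rintro _ rfl y hy hc
          have : y = f.asFiber z' := (f.fiberι _).isEmbedding.injective (hy.trans (f.fiberι_asFiber z').symm)
          rwa [this] at hc
        exact key (f z) hfz y hz' hy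
      obtain ⟨O, C, hO, hC, hAOC⟩ := hA
      have hCu : C = Set.univ := by
        rw [Set.eq_univ_iff_forall]
        intro y
        have h := JacobsonSpace.closure_inter_closedPoints_eq_closure (X := F) (S := Set.univ) isClosed_univ.isLocallyClosed
        rw [Set.univ_inter, closure_univ] at h
        exact closure_minimal (fun x hx => (hAOC.le (hcp hx)).2) hC (h.ge trivial)
      have hOu : O = Set.univ := by
        by_contra hne
        obtain ⟨y, hy⟩ := (Set.nonempty_compl.2 hne)
        have h := JacobsonSpace.closure_inter_closedPoints_eq_closure (X := F) (S := Oᶜ) hO.isClosed_compl.isLocallyClosed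
        have hne' : (Oᶜ ∩ closedPoints F).Nonempty := by
          rw [← closure_nonempty_iff, h]
          exact ⟨y, subset_closure hy⟩
        obtain ⟨x, hx1, hx2⟩ := hne'
        exact hx1 (hAOC.le (hcp hx2)).1
      have : f.asFiber z ∈ A := by rw [hAOC, hCu, hOu]; exact ⟨trivial, trivial⟩
      have h2 : f.fiberι (f z) (f.asFiber z) ∈ Set.range e := this
      rwa [f.fiberι_asFiber] at h2⟩
    haveI : IsClosedImmersion e := IsClosedImmersion.of_isPreimmersion e (by
      rw [e.surjective.range_eq]; exact isClosed_univ)
    haveI : IsIso e := Neron6.isIso_of_isSchematicallyDense e W hW lW hlW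
    ext
    exact (cancel_epi e).1 heq

end Groth.Agent.S13422
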