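import Groth.Statements.S13423
import Groth.Agent.S2755
import Groth.Agent.S2260
import Groth.Agent.GrpSchLib.UnramifiedFibre
import Groth.Agent.UnramMisc.QFSmooth
import Groth.Agent.ConsPropLib.FibreFinite

set_option autoImplicit false
universe u
open CategoryTheory AlgebraicGeometry
open NeronHD

namespace Groth.Agent.S13423

/-- Let S be a reduced, locally Noetherian scheme over a field of characteristic 0 whose local rings are
all geometrically unibranch, and let f : X → S be quasi-finite (locally of finite type,
quasi-compact, with finite discrete fibres), separated and dominant, with X connected and nonempty,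
such that every fibre X_s over the residue field k(s) is smooth. Then f is étale. (Case of schemes
of a statement about algebraic spaces.) -/
theorem result {k : Type u} [Field k] [CharZero k] {S : Scheme.{u}} (σ : S ⟶ Spec (CommRingCat.of k)) [IsLocallyNoetherian S] [IsReduced S]
    (hS : ∀ s : S, CAlg2.IsGeomUnibranch (S.presheaf.stalk s))
    {X : Scheme.{u}} (f : X ⟶ S) [LocallyOfFiniteType f] [QuasiCompact f] [LocallyQuasiFinite f] [IsSeparated f] [IsDominant f]
    [ConnectedSpace X]
    (hfib : ∀ s : S, Smooth (Limits.pullback.snd f (S.fromSpecResidueField s))) :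
    Etale f := by
    haveI : ∀ s : S, IsDomain (S.presheaf.stalk s) := fun s => by
      haveI := (hS s).1.1
      have h0 : nilradical (S.presheaf.stalk s) = ⊥ := nilradical_eq_zero _
      exact ((RingEquiv.quotientBot (S.presheaf.stalk s)).symm.trans
        (Ideal.quotEquivOfEq h0.symm)).toMulEquiv.isDomain (CAlg2.red (S.presheaf.stalk s))
    haveI : Nonempty S := ⟨f (Classical.arbitrary X)⟩
    haveI : PreconnectedSpace S := ⟨by
      have := ((isPreconnected_univ (α := X)).image f f.continuous.continuousOn).closure
      rwa [Set.image_univ, (Scheme.Hom.denseRange f).closure_range] at this⟩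
    haveI : IrreducibleSpace S := by
      choose C hC hCi using fun s : S => S2260.result S s
      have hp : ∀ s, IsPreirreducible ((C s : S.Opens) : Set S) := fun s => by
        haveI := hCi s
        have h2 := (PreirreducibleSpace.isPreirreducible_univ (X := (C s : Scheme.{u}))).image (C s).ι (C s).ι.continuous.continuousOn
        rwa [Set.image_univ, Scheme.Opens.range_ι] at h2
      let s₀ : S := Classical.arbitrary S
      have hop : IsOpen (closure ((C s₀ : S.Opens) : Set S)) := by
        refine isOpen_iff_forall_mem_open.2 fun y hy => ⟨C y, fun z hz => ?_, (C y).isOpen, hC y⟩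
        obtain ⟨w, hwy, hw0⟩ := mem_closure_iff.1 hy _ (C y).isOpen (hC y)
        refine mem_closure_iff.2 fun o ho hzo => ?_
        obtain ⟨v, -, hv⟩ := hp y o (C s₀) ho (C s₀).isOpen ⟨z, hz, hzo⟩ ⟨w, hwy, hw0⟩
        exact ⟨v, hv⟩
      have hu : closure ((C s₀ : S.Opens) : Set S) = Set.univ :=
        IsClopen.eq_univ ⟨isClosed_closure, hop⟩ ⟨s₀, subset_closure (hC s₀)⟩
      exact { isPreirreducible_univ := hu ▸ (hp s₀).closure, toNonempty := ⟨s₀⟩ }
    haveI : IsIntegral S := isIntegral_of_irreducibleSpace_of_isReduced S
    haveI hu : FormallyUnramified f := GrpSchLib.formallyUnramified_of_fibres f fun s => by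
      haveI : Smooth (f.fiberToSpecResidueField s) := hfib s
      haveI : LocallyQuasiFinite (f.fiberToSpecResidueField s) :=
        MorphismProperty.pullback_snd (P := @LocallyQuasiFinite) _ _ inferInstance
      haveI := UnramMisc.etale_of_smooth_of_locallyQuasiFinite (f.fiberToSpecResidueField s)
      infer_instance
    haveI : LocallyOfFinitePresentation f := LocallyOfFinitePresentation.iff_locallyOfFiniteType.2 inferInstance
    refine (S2755.result f hS ?_).1
    by_contra hne
    have hlc : Topology.IsLocallyConstructible ((Set.range f)ᶜ) := by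
      rw [← Set.image_univ]
      exact fun y => let ⟨U, h1, h2, h3⟩ := f.isLocallyConstructible_image Topology.IsConstructible.univ.isLocallyConstructible y; ⟨U, h1, h2, by rw [Set.preimage_compl]; exact Topology.isConstructible_compl.2 h3⟩
    have hn := FibDim.mem_nhds_of_generizations hlc (y := genericPoint S) fun t ht =>
      (ht.antisymm ((genericPoint_spec S).specializes (Set.mem_univ _))).eq.symm ▸ (fun ⟨x, hx⟩ => hne ⟨x, hx⟩)
    obtain ⟨O, hO, hOo, hmem⟩ := mem_nhds_iff.1 hn
    obtain ⟨x, hx⟩ := (Scheme.Hom.denseRange f).exists_mem_open hOo ⟨_, hmem⟩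
    exact hO hx ⟨x, rfl⟩

end Groth.Agent.S13423
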