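import Groth.Statements.S13424
import Groth.Agent.H23.FinCondSch
import Groth.Agent.Neron6.BirOpen
import Groth.Agent.EtFound.SectionUnr
import Groth.Agent.CurveRes.Blow
-- import your own Groth.Agent.* helpers here

set_option autoImplicit false
set_option linter.style.haveILetI false
set_option backward.isDefEq.respectTransparency.types false
set_option maxHeartbeats 1000000
universe u
open CategoryTheory AlgebraicGeometry
open GrpSch

namespace Groth.Agent.S13424

/-- Let S be a normal, locally Noetherian scheme over a field of characteristic 0. Let p : G → S and q :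
H → S be smooth morphisms with sections e_G and e_H, and f : G → H an étale morphism over S with f ∘
e_G = e_H (the case in view: an étale homomorphism of smooth group schemes and their unit sections).
Call such a pointed S-scheme aligned when the scheme-theoretic image of its section is étale over S.
If H is aligned then G is aligned. (The published statement has an arbitrary locally Noetherian
base; over the reducible curve xy = 0 the étale group scheme obtained from two copies of the base
glued along the complement of one branch maps to the trivial group by an étale homomorphism and is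
not aligned, so the base is taken normal here, where the closure of the section is a union of
connected components of the preimage of the image of e_H. Schemes only.) -/
theorem result {k : Type u} [Field k] [CharZero k] {S : Scheme.{u}} (σ : S ⟶ Spec (CommRingCat.of k)) [IsLocallyNoetherian S] (hS : Pi1.IsNormalScheme S)
    {G H : Scheme.{u}} (p : G ⟶ S) (q : H ⟶ S) [Smooth p] [Smooth q]
    (eG : S ⟶ G) (eH : S ⟶ H) (heG : eG ≫ p = 𝟙 S) (heH : eH ≫ q = 𝟙 S)
    (f : G ⟶ H) [Etale f] (hf : f ≫ q = p) (hfe : eG ≫ f = eH)
    (hH : Etale (eH.ker.subschemeι ≫ q)) :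
    Etale (eG.ker.subschemeι ≫ p) := by
  haveI := hH
  haveI : IsLocallyNoetherian G := LocallyOfFiniteType.isLocallyNoetherian p
  haveI : IsLocallyNoetherian H := LocallyOfFiniteType.isLocallyNoetherian q
  let Wsq := Limits.pullback f eH.ker.subschemeι
  let w : Wsq ⟶ G := Limits.pullback.fst _ _
  let f' : Wsq ⟶ eH.ker.subscheme := Limits.pullback.snd _ _
  haveI : IsClosedImmersion w := inferInstanceAs (IsClosedImmersion (Limits.pullback.fst f eH.ker.subschemeι))
  haveI : IsLocallyNoetherian Wsq := LocallyOfFiniteType.isLocallyNoetherian w
  have hwp : w ≫ p = f' ≫ (eH.ker.subschemeι ≫ q) := by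
    rw [← hf, ← Category.assoc, ← Category.assoc]
    exact congrArg (· ≫ q) Limits.pullback.condition
  haveI : Etale (w ≫ p) := by
    rw [hwp]
    haveI : Etale f' := inferInstanceAs (Etale (Limits.pullback.snd f eH.ker.subschemeι))
    infer_instance
  let sW : S ⟶ Wsq := Limits.pullback.lift eG eH.toImage (by rw [hfe]; exact (Scheme.Hom.toImage_imageι eH).symm)
  have hsw : sW ≫ w = eG := Limits.pullback.lift_fst _ _ _
  haveI : IsOpenImmersion sW := EtFound.isOpenImmersion_section (w ≫ p) sW (by rw [← Category.assoc, hsw, heG])
  have hWn : Pi1.IsNormalScheme Wsq := Neron6.isNormalScheme_of_smooth (w ≫ p) hS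
  haveI : IsReduced Wsq := by
    haveI : ∀ x, _root_.IsReduced (Wsq.presheaf.stalk x) := fun x => by
      haveI := (hWn x).1; infer_instance
    exact isReduced_of_isReduced_stalk _
  have hopen : IsOpen (closure (Set.range sW)) := by
    refine isOpen_iff_forall_mem_open.2 fun x hx => ?_
    haveI := (hWn x).1
    obtain ⟨V, hxV, hV⟩ := H23.FinCondSch.exists_irreducible_nhd x (by rw [nilradical_eq_zero]; exact Ideal.isPrime_bot)
    refine ⟨V, fun y hy => ?_, V.2, hxV⟩
    have hne : ((V : Set Wsq) ∩ Set.range sW).Nonempty :=
      mem_closure_iff.1 hx _ V.2 hxV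
    have := subset_closure_inter_of_isPreirreducible_of_isOpen hV.2 sW.isOpenEmbedding.isOpen_range hne hy
    exact closure_mono Set.inter_subset_right this
  let U : Wsq.Opens := ⟨closure (Set.range sW), hopen⟩
  haveI : IsClosedImmersion U.ι := IsClosedImmersion.of_isPreimmersion _ (by
    rw [Scheme.Opens.range_ι]; exact isClosed_closure)
  let sU : S ⟶ U := IsOpenImmersion.lift U.ι sW (by rw [Scheme.Opens.range_ι]; exact subset_closure)
  have hsU : sU ≫ U.ι = sW := IsOpenImmersion.lift_fac _ _ _
  haveI : IsOpenImmersion sU := by
    haveI : IsOpenImmersion (sU ≫ U.ι) := by rw [hsU]; infer_instance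
    exact IsOpenImmersion.of_comp sU U.ι
  haveI : IsDominant sU := ⟨fun y => by
    refine (closure_subtype (x := y)).2 ?_
    have : Subtype.val '' Set.range sU = Set.range sW := by
      rw [← Set.range_comp]
      exact congrArg (fun φ : S ⟶ Wsq => Set.range φ) hsU
    exact (Set.ext_iff.1 (congrArg closure this) y.1).2 y.2⟩
  haveI : IsLocallyNoetherian (U : Scheme.{u}) := inferInstance
  haveI : QuasiCompact sU := inferInstance
  have hbot : sU.ker = ⊥ := CurveRes.ker_eq_bot sU
  let j : (U : Scheme.{u}) ⟶ G := U.ι ≫ w
  have hj : eG.ker = j.ker := by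
    rw [← hsw, ← hsU, Category.assoc, Scheme.Hom.ker_comp, hbot, ← Scheme.IdealSheafData.map_bot]
  rw [hj]
  haveI : Etale (j ≫ p) := by
    show Etale ((U.ι ≫ w) ≫ p)
    rw [Category.assoc]; infer_instance
  haveI : IsIso j.toImage := inferInstance
  have : j.ker.subschemeι ≫ p = inv j.toImage ≫ j ≫ p := by
    rw [← Category.assoc]
    exact congrArg (· ≫ p) ((IsIso.eq_inv_comp _).2 (Scheme.Hom.toImage_imageι j))
  rw [this]
  infer_instance

end Groth.Agent.S13424
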