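import Groth.Statements.S13425
import Groth.Agent.S4809
import Mathlib.AlgebraicGeometry.AlgClosed.Basic
import Mathlib.FieldTheory.PurelyInseparable.Basic
import Mathlib.AlgebraicGeometry.FunctionField

set_option autoImplicit false
universe u
open CategoryTheory AlgebraicGeometry
open NeronHD

namespace Groth.Agent.S13425

/-- Let k be a characteristic-zero algebraically closed field and X, Y integral schemes, separated and
of finite type over k, with Y normal, and let f : X → Y be a dominant k-morphism which is injective
on k-rational points. Then f is an open immersion. (Case of schemes of a statement about algebraic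
spaces.) -/
theorem result {k : Type u} [Field k] [IsAlgClosed k] [CharZero k]
    {X Y : Scheme.{u}} (sX : X ⟶ Spec (CommRingCat.of k)) (sY : Y ⟶ Spec (CommRingCat.of k))
    [IsIntegral X] [IsIntegral Y] [IsSeparated sX] [IsSeparated sY]
    [LocallyOfFiniteType sX] [QuasiCompact sX] [LocallyOfFiniteType sY] [QuasiCompact sY]
    (hY : Pi1.IsNormalScheme Y)
    (f : X ⟶ Y) (hf : f ≫ sY = sX) [IsDominant f]
    (hinj : ∀ a b : Spec (CommRingCat.of k) ⟶ X, a ≫ sX = 𝟙 _ → b ≫ sX = 𝟙 _ → a ≫ f = b ≫ f → a = b) :
    IsOpenImmersion f := by
    haveI : IsSeparated (f ≫ sY) := by rw [hf]; infer_instance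
    haveI : IsSeparated f := IsSeparated.of_comp f sY
    haveI : QuasiCompact (f ≫ sY) := by rw [hf]; infer_instance
    haveI : QuasiCompact f := QuasiCompact.of_comp f sY
    haveI : LocallyOfFiniteType (f ≫ sY) := by rw [hf]; infer_instance
    haveI : LocallyOfFiniteType f := locallyOfFiniteType_of_comp f sY
    haveI hUI : UniversallyInjective f := by
      rw [UniversallyInjective.iff_diagonal]
      refine ⟨fun w => ?_⟩
      by_contra hw
      have hopen : IsOpen (Set.range (Limits.pullback.diagonal f))ᶜ :=
        (Limits.pullback.diagonal f).isClosedEmbedding.isClosed_range.isOpen_compl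
      let π := Limits.pullback.fst f f ≫ sX
      haveI : JacobsonSpace ↥(Limits.pullback f f) := LocallyOfFiniteType.jacobsonSpace π
      obtain ⟨z, hz, hzc⟩ := nonempty_inter_closedPoints (Z := (Set.range (Limits.pullback.diagonal f))ᶜ)
        ⟨w, hw⟩ hopen.isLocallyClosed
      let p := pointOfClosedPoint π z hzc
      have hp : p ≫ π = 𝟙 _ := pointOfClosedPoint_comp π z hzc
      have hab : p ≫ Limits.pullback.fst f f = p ≫ Limits.pullback.snd f f := by
        refine hinj _ _ (by rw [Category.assoc]; exact hp) ?_ ?_
        · rw [Category.assoc, ← hf, ← Limits.pullback.condition_assoc, hf]; exact hp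
        · rw [Category.assoc, Category.assoc, Limits.pullback.condition]
      have hpd : p = (p ≫ Limits.pullback.fst f f) ≫ Limits.pullback.diagonal f := by
        apply Limits.pullback.hom_ext <;> simp [hab]
      refine hz ⟨(p ≫ Limits.pullback.fst f f) (IsLocalRing.closedPoint k), ?_⟩
      rw [← Scheme.Hom.comp_apply, ← hpd]
      exact pointOfClosedPoint_apply π z hzc _
    haveI : LocallyQuasiFinite f := LocallyQuasiFinite.of_injective f.injective
    let ξ := genericPoint X
    have hgen : f ξ = genericPoint Y := by
      refine IsGenericPoint.eq ?_ (genericPoint_spec Y)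
      refine Set.univ_subset_iff.1 ?_
      rw [← (Scheme.Hom.denseRange f).closure_range]
      refine closure_minimal ?_ isClosed_closure
      rintro _ ⟨z, rfl⟩
      exact specializes_iff_mem_closure.1 (((genericPoint_spec X).specializes trivial).map f.continuous)
    have hfield : ∀ (Z : Scheme.{u}) [IsIntegral Z] (z : Z), z = genericPoint Z → IsField (Z.presheaf.stalk z) := by
      rintro Z _ z rfl
      exact Field.toIsField Z.functionField
    have hi := ((tfae_universallyInjective f).out 0 2).1 hUI
    have hbir : IsIso (f.stalkMap ξ) := by
      letI := hfield X ξ rfl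
      have hY0 := hfield Y (f ξ) hgen
      rw [ConcreteCategory.isIso_iff_bijective]
      refine ⟨?_, ?_⟩
      · letI := hY0.toField
        exact (f.stalkMap ξ).hom.injective
      · haveI : CharZero (Y.residueField (f ξ)) := charZero_of_injective_ringHom
          (R := k) (f := ((Scheme.ΓSpecIso (CommRingCat.of k)).inv ≫ sY.appTop ≫
            Y.presheaf.germ ⊤ (f ξ) trivial ≫ Y.residue (f ξ)).hom) (RingHom.injective _)
        letI := (f.residueFieldMap ξ).hom.toAlgebra
        haveI : IsPurelyInseparable (Y.residueField (f ξ)) (X.residueField ξ) := hi.2 ξ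
        haveI : Algebra.IsAlgebraic (Y.residueField (f ξ)) (X.residueField ξ) := inferInstance
        haveI : Algebra.IsSeparable (Y.residueField (f ξ)) (X.residueField ξ) :=
          Algebra.IsAlgebraic.isSeparable_of_perfectField
        intro a
        obtain ⟨c, hc⟩ := IsPurelyInseparable.surjective_algebraMap_of_isSeparable
          (Y.residueField (f ξ)) (X.residueField ξ) (X.residue ξ a)
        obtain ⟨b, rfl⟩ := Y.residue_surjective (f ξ) c
        refine ⟨b, ?_⟩
        letI := (hfield X ξ rfl).toField
        refine (X.residue ξ).hom.injective ?_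
        rw [← hc]
        exact congr($(Scheme.residue_residueFieldMap f ξ) b).symm
    exact (S4809.result (fun y => (hY y).2) f hgen hbir).2 inferInstance

end Groth.Agent.S13425
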