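import Groth.Statements.S13426
import Groth.Agent.AlgStLib.QuasiCompactImm
import Groth.Agent.Triage.SchDense
import Groth.Agent.GrpSchLib.Shear
import Groth.Agent.Approx.Basic
-- import your own Groth.Agent.* helpers here

set_option autoImplicit false
set_option linter.style.haveILetI false
set_option backward.isDefEq.respectTransparency.types false
set_option maxHeartbeats 1000000
universe u
open CategoryTheory MonoidalCategory CartesianMonoidalCategory MonObj GrpObj AlgebraicGeometry
open GrpSch

namespace Groth.Agent.S13426

/-- Let S be a locally Noetherian scheme over a field of characteristic 0, S₀ ⊆ S a scheme-theoretically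
dense open, and G a smooth S-scheme with the weak Néron mapping property for S₀ ⊆ S: for every étale
S-scheme U, restriction to S₀ is a bijection from S-morphisms U → G onto S₀-morphisms. Let H be a
smooth group scheme over S together with a monomorphism H → G of S-schemes (the case in view: G a
group scheme and H a subgroup scheme), and assume that H is aligned, i.e. the scheme-theoretic image
of its unit section is étale over S, and that H ×_S S₀ → S₀ is separated. Then H → S is separated.
(Case of schemes of a statement about group algebraic spaces; only the injectivity of H → G on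
morphisms is used of the subgroup condition.) -/
theorem result {k : Type u} [Field k] [CharZero k] {S : Scheme.{u}} (σ : S ⟶ Spec (CommRingCat.of k)) [IsLocallyNoetherian S] (S₀ : S.Opens) (hS₀ : CInt.IsSchematicallyDense S₀)
    (G : Over S) [Smooth G.hom]
    (hG : ∀ U : Over S, Etale U.hom → Function.Bijective (fun g : U ⟶ G => (Over.pullback S₀.ι).map g))
    (H : Over S) [GrpObj H] [Smooth H.hom] (j : H ⟶ G) [Mono j.left]
    (hal : Etale (η[H].left.ker.subschemeι ≫ H.hom))
    (h0 : IsSeparated (Limits.pullback.snd H.hom S₀.ι)) :
    IsSeparated H.hom := by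
  haveI := hal
  haveI : IsLocallyNoetherian H.left := LocallyOfFiniteType.isLocallyNoetherian H.hom
  let e : S ⟶ H.left := η[H].left
  change Etale (e.ker.subschemeι ≫ H.hom) at hal
  have heH : e ≫ H.hom = 𝟙 S := Over.w η[H]
  haveI : Mono e := mono_of_mono_fac heH
  haveI : IsImmersion e := by
    haveI : IsImmersion (e ≫ H.hom) := by rw [heH]; infer_instance
    exact IsImmersion.of_comp e H.hom
  haveI : QuasiCompact e := AlgStLib.quasiCompact_of_isImmersion e
  let π : e.ker.subscheme ⟶ S := e.ker.subschemeι ≫ H.hom
  let U : Over S := Over.mk π
  let g₁ : U ⟶ G := Over.homMk e.ker.subschemeι (show _ ≫ H.hom = π from rfl) ≫ j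
  let g₂ : U ⟶ G := Over.homMk (π ≫ e) (show _ ≫ H.hom = π by rw [Category.assoc, heH, Category.comp_id]) ≫ j
  have hg : g₁ = g₂ := by
    refine (hG U hal).1 ?_
    show (Over.pullback S₀.ι).map g₁ = (Over.pullback S₀.ι).map g₂
    simp only [g₁, g₂, Functor.map_comp]
    congr 1
    -- the two maps agree over `S₀`
    let s : Limits.pullback π S₀.ι ⟶ e.ker.subscheme := Limits.pullback.fst _ _
    haveI : IsOpenImmersion s := inferInstanceAs (IsOpenImmersion (Limits.pullback.fst π S₀.ι))
    haveI : IsSchemeTheoreticallyDominant e.toImage := Triage.SchDense.isSchemeTheoreticallyDominant_toImage e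
    haveI : QuasiCompact e.toImage := by
      haveI : QuasiCompact (e.toImage ≫ e.imageι) := by rw [Scheme.Hom.toImage_imageι]; infer_instance
      exact QuasiCompact.of_comp e.toImage e.imageι
    refine Over.OverMorphism.ext ?_
    refine Approx.ext_of_schDom (Limits.pullback.snd e.toImage s) (Limits.pullback.snd H.hom S₀.ι) _ _ ?_ ?_
    · exact ((Over.w _).trans (Over.w _).symm)
    · refine Limits.pullback.hom_ext ?_ ?_
      · simp only [Category.assoc, Over.pullback_map_left, Limits.pullback.lift_fst, Over.homMk_left]
        have hc : Limits.pullback.fst e.toImage s ≫ e.toImage = Limits.pullback.snd e.toImage s ≫ s :=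
          Limits.pullback.condition
        change Limits.pullback.snd e.toImage s ≫ s ≫ e.ker.subschemeι = Limits.pullback.snd e.toImage s ≫ s ≫ π ≫ e
        rw [← Category.assoc, ← hc, ← Category.assoc (Limits.pullback.snd e.toImage s) s (π ≫ e), ← hc,
          Category.assoc, Category.assoc]
        have h1 : e.toImage ≫ e.ker.subschemeι = e := Scheme.Hom.toImage_imageι e
        rw [h1, show e.toImage ≫ π ≫ e = (e.toImage ≫ e.ker.subschemeι) ≫ H.hom ≫ e by
          simp only [π, Category.assoc], h1, ← Category.assoc e, heH, Category.id_comp]
      · simp only [Category.assoc, Over.pullback_map_left, Limits.pullback.lift_snd]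
  have hj : e.ker.subschemeι = π ≫ e := by
    rw [← cancel_mono j.left]
    exact congrArg (fun φ : U ⟶ G => φ.left) hg
  have hcl : IsClosedImmersion e := by
    have hsub : Set.range e.ker.subschemeι ⊆ Set.range e := by
      rintro _ ⟨z, rfl⟩
      exact ⟨π z, (congrArg (fun φ : e.ker.subscheme ⟶ H.left => φ z) hj).symm⟩
    have hle : Set.range e ⊆ Set.range e.ker.subschemeι := by
      rw [Scheme.IdealSheafData.range_subschemeι]; exact Scheme.Hom.range_subset_ker_support e
    refine IsClosedImmersion.of_isPreimmersion e ?_
    rw [subset_antisymm hle hsub, Scheme.IdealSheafData.range_subschemeι]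
    exact e.ker.support.isClosed
  exact (isSeparated_iff H.hom).mpr ((GrpSchLib.diagonal_iff_unit @IsClosedImmersion).mpr hcl)

end Groth.Agent.S13426
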