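import Groth.Statements.S13427
import Groth.Agent.Neron6.Over

set_option autoImplicit false
universe u
open CategoryTheory AlgebraicGeometry
open NeronHD

namespace Groth.Agent.S13427

/-- Let S be a locally Noetherian scheme over a field of characteristic 0, S₀ ⊆ S a scheme-theoretically
dense open, and G, H smooth S-schemes with the Néron mapping property for S₀ ⊆ S (restriction to S₀
of S-morphisms from smooth S-schemes is bijective). Let f : G → H be an S-morphism and e : S → H a
section of H → S, and let K = G ×_H S be the fibre of f over e (the case in view: f a homomorphism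
of smooth group schemes, e the unit, K the kernel, so that 1 → K → G → H is left exact). If K → S is
smooth, then K has the Néron mapping property for S₀ ⊆ S. (Case of schemes, with smooth test
schemes, of a statement about group algebraic spaces.) -/
theorem result {k : Type u} [Field k] [CharZero k] {S : Scheme.{u}} (σ : S ⟶ Spec (CommRingCat.of k)) [IsLocallyNoetherian S] (S₀ : S.Opens) (hS₀ : CInt.IsSchematicallyDense S₀)
    (G H : Over S) [Smooth G.hom] [Smooth H.hom]
    (hG : ∀ Z : Over S, Smooth Z.hom → Function.Bijective (fun g : Z ⟶ G => (Over.pullback S₀.ι).map g))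
    (hH : ∀ Z : Over S, Smooth Z.hom → Function.Bijective (fun g : Z ⟶ H => (Over.pullback S₀.ι).map g))
    (f : G ⟶ H) (e : S ⟶ H.left) (he : e ≫ H.hom = 𝟙 S)
    [Smooth (Limits.pullback.snd f.left e)] :
    ∀ Z : Over S, Smooth Z.hom → Function.Bijective (fun g : Z ⟶ Over.mk (Limits.pullback.snd f.left e) => (Over.pullback S₀.ι).map g) := by
  intro Z hZ
  let P : Over S := Over.mk (Limits.pullback.snd f.left e)
  have hp : Limits.pullback.fst f.left e ≫ G.hom = Limits.pullback.snd f.left e := by
    rw [← Over.w f, ← Category.assoc, Limits.pullback.condition, Category.assoc, he, Category.comp_id]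
  let p : P ⟶ G := Over.homMk (Limits.pullback.fst f.left e) hp
  have hext : ∀ g g' : Z ⟶ P, g ≫ p = g' ≫ p → g = g' := by
    intro g g' h
    ext
    exact Limits.pullback.hom_ext (congrArg CommaMorphism.left h) ((Over.w g).trans (Over.w g').symm)
  refine ⟨fun g g' hg => hext g g' ((hG Z hZ).1 ?_), fun h => ?_⟩
  · simp only [Functor.map_comp]; exact congrArg (· ≫ _) hg
  have key : ∀ ψ : (Over.pullback S₀.ι).obj Z ⟶ (Over.pullback S₀.ι).obj P,
      ψ.left ≫ Limits.pullback.fst P.hom S₀.ι ≫ P.hom = Limits.pullback.snd Z.hom S₀.ι ≫ S₀.ι :=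
    fun ψ => (congrArg (ψ.left ≫ ·) Limits.pullback.condition).trans
      ((Category.assoc _ _ _).symm.trans (congrArg (· ≫ S₀.ι) (Over.w ψ)))
  obtain ⟨a, ha⟩ := (hG Z hZ).2 (h ≫ (Over.pullback S₀.ι).map p)
  let c : Z ⟶ H := Over.homMk (Z.hom ≫ e) (by rw [Category.assoc, he, Category.comp_id])
  let cP : P ⟶ H := Over.homMk (Limits.pullback.snd f.left e ≫ e)
    (by rw [Category.assoc, he, Category.comp_id]; rfl)
  have hpf : p ≫ f = cP := by ext; exact Limits.pullback.condition
  have hac : a ≫ f = c := by
    refine (hH Z hZ).1 ?_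
    simp only [Functor.map_comp]
    refine (congrArg (· ≫ (Over.pullback S₀.ι).map f) ha).trans ?_
    rw [Category.assoc, ← Functor.map_comp, hpf]
    refine Groth.Agent.Neron6.pullback_hom_ext _ _ _ ?_
    rw [Groth.Agent.Neron6.pullback_map_fst, Over.comp_left, Category.assoc,
      Groth.Agent.Neron6.pullback_map_fst]
    refine (congrArg (h.left ≫ ·) (Category.assoc _ _ _).symm).trans ?_
    refine (Category.assoc _ _ _).symm.trans ?_
    exact (congrArg (· ≫ e) (key h)).trans
      ((congrArg (· ≫ e) Limits.pullback.condition.symm).trans (Category.assoc _ _ _))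
  let g : Z ⟶ P := Over.homMk (Limits.pullback.lift a.left Z.hom (congrArg CommaMorphism.left hac))
    (Limits.pullback.lift_snd _ _ _)
  have hg : g ≫ p = a := by ext; exact Limits.pullback.lift_fst _ _ _
  refine ⟨g, Groth.Agent.Neron6.pullback_hom_ext _ _ _ (Limits.pullback.hom_ext ?_ ?_)⟩
  · have e₁ : (Over.pullback S₀.ι).map g ≫ (Over.pullback S₀.ι).map p = h ≫ (Over.pullback S₀.ι).map p := by
      rw [← Functor.map_comp, hg]; exact ha
    have := congrArg (fun q => q.left ≫ Limits.pullback.fst G.hom S₀.ι) e₁
    simp only [Over.comp_left, Category.assoc, Groth.Agent.Neron6.pullback_map_fst] at this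
    simpa [p, P] using this
  · exact (Category.assoc _ _ _).trans (((key _).trans (key h).symm).trans (Category.assoc _ _ _).symm)

end Groth.Agent.S13427
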