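import Groth.Statements.S13428
import Groth.Agent.Neron6.BirOpen
import Groth.Agent.AlgSpLib.EtLocalInst

set_option autoImplicit false
universe u
open CategoryTheory AlgebraicGeometry
open NeronHD

namespace Groth.Agent.S13428

/-- Let S be a normal Noetherian scheme over a field of characteristic 0 and S₀ ⊆ S a
scheme-theoretically dense open. Let N be a smooth, separated and quasi-compact S-scheme with the
Néron mapping property for S₀ ⊆ S (restriction to S₀ of S-morphisms from smooth S-schemes is
bijective) such that N|S₀ → S₀ is étale, so that N is a quasi-projective Néron model of the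
quasi-projective étale S₀-scheme N|S₀. If M is a separated, quasi-compact, étale S-scheme and φ : M
→ N is an S-morphism restricting to an isomorphism over S₀ (so M is another quasi-projective étale
extension of N|S₀, and φ is its canonical map to the Néron model), then φ is an open immersion.
(Case of schemes of the published statement.) -/
theorem result {k : Type u} [Field k] [CharZero k] {S : Scheme.{u}} (σ : S ⟶ Spec (CommRingCat.of k)) [IsNoetherian S] (hS : Pi1.IsNormalScheme S) (S₀ : S.Opens) (hS₀ : CInt.IsSchematicallyDense S₀)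
    (N : Over S) [Smooth N.hom] [IsSeparated N.hom] [QuasiCompact N.hom]
    (hN : ∀ Z : Over S, Smooth Z.hom → Function.Bijective (fun g : Z ⟶ N => (Over.pullback S₀.ι).map g))
    [Etale ((Over.pullback S₀.ι).obj N).hom]
    (M : Over S) [Etale M.hom] [IsSeparated M.hom] [QuasiCompact M.hom]
    (φ : M ⟶ N) [IsIso ((Over.pullback S₀.ι).map φ)] :
    IsOpenImmersion φ.left := by
    haveI : IsLocallyNoetherian N.left := LocallyOfFiniteType.isLocallyNoetherian N.hom
    have hMn := Neron6.isNormalScheme_of_smooth M.hom hS
    have hNn := Neron6.isNormalScheme_of_smooth N.hom hS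
    have hw : φ.left ≫ N.hom = M.hom := Over.w φ
    haveI : LocallyQuasiFinite (φ.left ≫ N.hom) := by rw [hw]; infer_instance
    haveI : LocallyQuasiFinite φ.left := LocallyQuasiFinite.of_comp φ.left N.hom
    haveI : LocallyOfFiniteType (φ.left ≫ N.hom) := by rw [hw]; infer_instance
    haveI : LocallyOfFiniteType φ.left := locallyOfFiniteType_of_comp φ.left N.hom
    haveI : IsSeparated (φ.left ≫ N.hom) := by rw [hw]; infer_instance
    haveI : IsSeparated φ.left := IsSeparated.of_comp φ.left N.hom
    haveI : QuasiCompact (φ.left ≫ N.hom) := by rw [hw]; infer_instance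
    haveI : QuasiCompact φ.left := QuasiCompact.of_comp φ.left N.hom
    have hpre : φ.left ⁻¹ᵁ (N.hom ⁻¹ᵁ S₀) = M.hom ⁻¹ᵁ S₀ := by
      rw [← hw]
      rfl
    haveI : IsIso ((Over.pullback S₀.ι).map φ).left :=
      inferInstanceAs (IsIso ((Over.forget _).map ((Over.pullback S₀.ι).map φ)))
    haveI : IsOpenImmersion ((M.hom ⁻¹ᵁ S₀).ι ≫ φ.left) := by
      rw [← pullbackRestrictIsoRestrict_inv_fst, Category.assoc, ← Neron6.pullback_map_fst]
      infer_instance
    haveI : IsOpenImmersion ((φ.left ⁻¹ᵁ (N.hom ⁻¹ᵁ S₀)).ι ≫ φ.left) := by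
      rw [hpre]; infer_instance
    refine Neron6.isOpenImmersion_of_dense_iso hMn hNn φ.left (N.hom ⁻¹ᵁ S₀) ?_
    rw [hpre]
    exact Neron6.dense_of_isSchematicallyDense (S3844.result M.hom S₀ hS₀)

end Groth.Agent.S13428
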