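import Groth.Statements.S13432
import Groth.Agent.Neron6.FiniteExt
import Groth.Agent.Neron6.Over

set_option autoImplicit false
universe u
open CategoryTheory AlgebraicGeometry
open NeronHD

namespace Groth.Agent.S13432

/-- Let S be a normal Noetherian scheme over a field of characteristic 0 and S₀ ⊆ S a
scheme-theoretically dense open. Let π : T → S be finite with T normal, and let N ⊆ T be the open
subscheme where π is smooth (equivalently étale, π being finite). Then N → S has the Néron mapping
property for S₀ ⊆ S: for every smooth S-scheme Z, restriction to S₀ is a bijection from S-morphisms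
Z → N onto S₀-morphisms Z|S₀ → N|S₀. (In the published statement T is the normal finite S-scheme
compactifying a given quasi-projective étale S-scheme and N is the maximal quasi-projective étale
scheme containing it; that origin of T plays no role in this part of the proof, so any finite T → S
with T normal is allowed here. Case of schemes, with smooth test schemes, of a statement about
algebraic spaces.) -/
theorem result {k : Type u} [Field k] [CharZero k] {S : Scheme.{u}} (σ : S ⟶ Spec (CommRingCat.of k)) [IsNoetherian S] (hS : Pi1.IsNormalScheme S) (S₀ : S.Opens) (hS₀ : CInt.IsSchematicallyDense S₀)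
    {T : Scheme.{u}} (π : T ⟶ S) [IsFinite π] [LocallyOfFinitePresentation π] (hT : Pi1.IsNormalScheme T) :
    ∀ Z : Over S, Smooth Z.hom → Function.Bijective (fun g : Z ⟶ Over.mk (π.smoothLocus.ι ≫ π) => (Over.pullback S₀.ι).map g) := by
    intro Z hZ
    haveI : Smooth Z.hom := hZ
    let a : Limits.pullback Z.hom S₀.ι ⟶ Z.left := Limits.pullback.fst Z.hom S₀.ι
    haveI : IsLocallyNoetherian Z.left := LocallyOfFiniteType.isLocallyNoetherian Z.hom
    haveI : IsDominant a := by
      refine ⟨?_⟩
      have hr : Set.range a = ((Z.hom ⁻¹ᵁ S₀ : Z.left.Opens) : Set Z.left) := by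
        rw [Scheme.Pullback.range_fst, Scheme.Opens.range_ι]
        rfl
      show Dense (Set.range a)
      rw [hr]
      exact Neron6.dense_of_isSchematicallyDense (S3844.result Z.hom S₀ hS₀)
    refine ⟨fun g g' he => ?_, fun ψ => ?_⟩
    · haveI : ∀ z : Z.left, _root_.IsReduced (Z.left.presheaf.stalk z) := fun z => by
        haveI := (Neron6.isNormalScheme_of_smooth Z.hom hS z).1
        infer_instance
      haveI : IsReduced Z.left := isReduced_of_isReduced_stalk _
      have h := (Neron6.pullback_map_eq_iff S₀.ι g g').1 he
      haveI : IsSeparated (π.smoothLocus.ι ≫ π) := inferInstance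
      ext
      exact ext_of_isDominant_of_isSeparated (π.smoothLocus.ι ≫ π) ((Over.w g).trans (Over.w g').symm) a h
    · let u : Limits.pullback Z.hom S₀.ι ⟶ (π.smoothLocus : Scheme.{u}) :=
        ψ.left ≫ Limits.pullback.fst (π.smoothLocus.ι ≫ π) S₀.ι
      have hu : u ≫ π.smoothLocus.ι ≫ π = a ≫ Z.hom :=
        (Category.assoc _ _ _).trans ((congrArg (ψ.left ≫ ·) Limits.pullback.condition).trans
          ((Category.assoc _ _ _).symm.trans ((congrArg (· ≫ S₀.ι) (Over.w ψ)).trans Limits.pullback.condition.symm)))
      obtain ⟨g, hg, hag⟩ := Neron6.exists_extension hS π hT Z.hom a u hu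
      refine ⟨Over.homMk g hg, Neron6.pullback_hom_ext S₀.ι _ _ ?_⟩
      exact (Neron6.pullback_map_fst S₀.ι _).trans hag

end Groth.Agent.S13432
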