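import Groth.Statements.S13429
import Groth.Agent.Neron6.Compactify
import Groth.Agent.S13432
import Groth.Agent.S4997

set_option autoImplicit false
universe u
open CategoryTheory AlgebraicGeometry
open NeronHD

namespace Groth.Agent.S13429

/-- Let S be a normal Noetherian scheme over a field of characteristic 0, S₀ ⊆ S a scheme-theoretically
dense open, and N₀ → S₀ separated, quasi-compact and étale (a quasi-projective étale S₀-scheme).
Then N₀ has a quasi-projective Néron model: there exist a separated, quasi-compact, étale S-scheme N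
and an isomorphism of S₀-schemes N|S₀ ≅ N₀ such that N has the Néron mapping property for S₀ ⊆ S,
i.e. for every smooth S-scheme Z restriction to S₀ is a bijection from S-morphisms Z → N onto
S₀-morphisms Z|S₀ → N|S₀ (this determines N up to unique isomorphism). (Case of schemes, with smooth
test schemes, of the published statement.) -/
theorem result {k : Type u} [Field k] [CharZero k] {S : Scheme.{u}} (σ : S ⟶ Spec (CommRingCat.of k)) [IsNoetherian S] (hS : Pi1.IsNormalScheme S) (S₀ : S.Opens) (hS₀ : CInt.IsSchematicallyDense S₀)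
    (N₀ : Over (S₀ : Scheme.{u})) [Etale N₀.hom] [IsSeparated N₀.hom] [QuasiCompact N₀.hom] :
    ∃ (N : Over S) (e : (Over.pullback S₀.ι).obj N ≅ N₀), Etale N.hom ∧ IsSeparated N.hom ∧ QuasiCompact N.hom ∧
      ∀ Z : Over S, Smooth Z.hom → Function.Bijective (fun g : Z ⟶ N => (Over.pullback S₀.ι).map g) := by
    obtain ⟨T, π, j, hπ, hT, hj, hjπ⟩ := Neron6.exists_compactification σ hS (N₀.hom ≫ S₀.ι)
    haveI : IsNoetherian T := by
      haveI : IsLocallyNoetherian T := LocallyOfFiniteType.isLocallyNoetherian π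
      haveI : CompactSpace T := QuasiCompact.compactSpace_of_compactSpace π
      exact {}
    haveI : LocallyOfFinitePresentation π := inferInstance
    haveI hsm : Smooth (π.smoothLocus.ι ≫ π) := Neron6.smooth_smoothLocus_ι π
    have hjsm : Set.range j ⊆ (π.smoothLocus : Set T) := by
      rintro _ ⟨x, rfl⟩
      have h : x ∈ j ⁻¹ᵁ π.smoothLocus := by
        rw [Scheme.Hom.preimage_smoothLocus_eq]
        haveI : Smooth (j ≫ π) := by rw [hjπ]; infer_instance
        rw [Scheme.Hom.smoothLocus_eq_top]; trivial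
      exact h
    let D : Set T := {t | π t ∈ S₀ ∧ t ∉ Set.range j}
    let V : T.Opens := π.smoothLocus ⊓ ⟨(closure D)ᶜ, isClosed_closure.isOpen_compl⟩
    have hjV : Set.range j ⊆ (V : Set T) := fun t ht =>
      ⟨hjsm ht, fun hc => by
        obtain ⟨t', ht', hD⟩ := mem_closure_iff.1 hc _ j.isOpenEmbedding.isOpen_range ht
        exact hD.2 ht'⟩
    haveI : Smooth (V.ι ≫ π) := by
      rw [← T.homOfLE_ι (inf_le_left : V ≤ π.smoothLocus), Category.assoc]; infer_instance
    haveI : Etale (V.ι ≫ π) := (S4997.result _).2 ⟨inferInstance, inferInstance⟩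
    let l : N₀.left ⟶ (V : Scheme.{u}) := IsOpenImmersion.lift V.ι j (by rw [Scheme.Opens.range_ι]; exact hjV)
    have hl : l ≫ V.ι = j := IsOpenImmersion.lift_fac _ _ _
    have hlS : l ≫ V.ι ≫ π = N₀.hom ≫ S₀.ι := by rw [← Category.assoc, hl, hjπ]
    let c : N₀.left ⟶ Limits.pullback (V.ι ≫ π) S₀.ι := Limits.pullback.lift l N₀.hom hlS
    have hcl : c ≫ Limits.pullback.fst (V.ι ≫ π) S₀.ι = l := Limits.pullback.lift_fst _ _ _
    haveI : IsIso c := by
      haveI : IsOpenImmersion l := by
        haveI : IsOpenImmersion (l ≫ V.ι) := by rw [hl]; infer_instance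
        exact IsOpenImmersion.of_comp l V.ι
      haveI : IsOpenImmersion c := by
        haveI : IsOpenImmersion (c ≫ Limits.pullback.fst (V.ι ≫ π) S₀.ι) := by rw [hcl]; infer_instance
        exact IsOpenImmersion.of_comp c (Limits.pullback.fst (V.ι ≫ π) S₀.ι)
      refine (isIso_iff_isOpenImmersion_and_surjective c).2 ⟨inferInstance, ⟨fun p => ?_⟩⟩
      let v : (V : Scheme.{u}) := Limits.pullback.fst (V.ι ≫ π) S₀.ι p
      have hv0 : π (V.ι v) ∈ S₀ := by
        show (Limits.pullback.fst (V.ι ≫ π) S₀.ι ≫ V.ι ≫ π) p ∈ S₀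
        rw [Limits.pullback.condition]
        exact (Limits.pullback.snd (V.ι ≫ π) S₀.ι p).2
      obtain ⟨x, hx⟩ : V.ι v ∈ Set.range j := by
        by_contra h
        exact v.2.2 (subset_closure ⟨hv0, h⟩)
      refine ⟨x, (Limits.pullback.fst (V.ι ≫ π) S₀.ι).isOpenEmbedding.injective (V.ι.isOpenEmbedding.injective ?_)⟩
      show (c ≫ Limits.pullback.fst (V.ι ≫ π) S₀.ι ≫ V.ι) x = _
      rw [← Category.assoc, hcl, hl]
      exact hx
    refine ⟨Over.mk (V.ι ≫ π), (Over.isoMk (asIso c) (Limits.pullback.lift_snd _ _ _)).symm,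
      inferInstanceAs (Etale (V.ι ≫ π)), inferInstanceAs (IsSeparated (V.ι ≫ π)),
      inferInstanceAs (QuasiCompact (V.ι ≫ π)), fun Z hZ => ?_⟩
    haveI : Smooth Z.hom := hZ
    let m : Over.mk (V.ι ≫ π) ⟶ Over.mk (π.smoothLocus.ι ≫ π) :=
      Over.homMk (T.homOfLE inf_le_left) (by
        show T.homOfLE inf_le_left ≫ π.smoothLocus.ι ≫ π = V.ι ≫ π
        rw [← Category.assoc, T.homOfLE_ι])
    haveI : Mono m.left := inferInstanceAs (Mono (T.homOfLE (inf_le_left : V ≤ π.smoothLocus)))
    have hN := S13432.result σ hS S₀ hS₀ π hT Z hZ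
    refine ⟨fun g g' he => ?_, fun ψ => ?_⟩
    · have h : g ≫ m = g' ≫ m := hN.1 (by
        show (Over.pullback S₀.ι).map (g ≫ m) = (Over.pullback S₀.ι).map (g' ≫ m)
        rw [Functor.map_comp, Functor.map_comp]
        exact congrArg (· ≫ _) he)
      ext
      rw [← cancel_mono m.left, ← Over.comp_left, h, Over.comp_left]
    · obtain ⟨g, hg⟩ := hN.2 (ψ ≫ (Over.pullback S₀.ι).map m)
      have hga : Limits.pullback.fst Z.hom S₀.ι ≫ g.left =
          ψ.left ≫ Limits.pullback.fst (V.ι ≫ π) S₀.ι ≫ m.left := by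
        have h : ((Over.pullback S₀.ι).map g).left ≫ Limits.pullback.fst (π.smoothLocus.ι ≫ π) S₀.ι =
            (ψ ≫ (Over.pullback S₀.ι).map m).left ≫ Limits.pullback.fst (π.smoothLocus.ι ≫ π) S₀.ι :=
          congrArg (fun f : (Over.pullback S₀.ι).obj Z ⟶ _ => f.left ≫ _) hg
        exact (Neron6.pullback_map_fst S₀.ι g).symm.trans (h.trans ((Category.assoc _ _ _).trans
          (congrArg (ψ.left ≫ ·) (Neron6.pullback_map_fst S₀.ι m))))
      have hgopen : IsOpenMap g.left := by
        haveI : Etale (π.smoothLocus.ι ≫ π) := (S4997.result _).2 ⟨inferInstance, inferInstance⟩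
        let b := π.smoothLocus.ι ≫ π
        let Γg : Z.left ⟶ Limits.pullback Z.hom b :=
          Limits.pullback.lift (𝟙 _) g.left ((Category.id_comp _).trans (Over.w g).symm)
        haveI : Etale Γg := by
          haveI : Etale (Γg ≫ Limits.pullback.fst Z.hom b) := by
            rw [Limits.pullback.lift_fst]; infer_instance
          exact Etale.of_comp Γg (Limits.pullback.fst Z.hom b)
        have : g.left = Γg ≫ Limits.pullback.snd Z.hom b := (Limits.pullback.lift_snd _ _ _).symm
        rw [this]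
        exact Scheme.Hom.isOpenMap _
      have hrange : Set.range g.left ⊆ Set.range m.left := by
        have hrm : ∀ y : (π.smoothLocus : Scheme.{u}), π.smoothLocus.ι y ∉ closure D → y ∈ Set.range m.left :=
          fun y hy => ⟨⟨π.smoothLocus.ι y, y.2, hy⟩, π.smoothLocus.ι.isOpenEmbedding.injective (by
            show (T.homOfLE inf_le_left ≫ π.smoothLocus.ι) _ = _
            rw [T.homOfLE_ι]; rfl)⟩
        refine Set.Subset.trans ?_ (fun y hy => hrm y hy)
        rintro y ⟨z, rfl⟩ hc
        obtain ⟨_, ⟨y', ⟨z', rfl⟩, rfl⟩, hD⟩ := mem_closure_iff.1 hc _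
          (π.smoothLocus.ι.isOpenEmbedding.isOpenMap _ hgopen.isOpen_range) ⟨_, ⟨z, rfl⟩, rfl⟩
        have hz' : Z.hom z' ∈ S₀ := by
          have e : Z.hom z' = π (π.smoothLocus.ι (g.left z')) :=
            (congrArg (fun φ : Z.left ⟶ S => φ z') (Over.w g)).symm
          rw [e]; exact hD.1
        obtain ⟨p, rfl⟩ : z' ∈ Set.range (Limits.pullback.fst Z.hom S₀.ι) := by
          rw [Scheme.Pullback.range_fst, Scheme.Opens.range_ι]; exact hz'
        apply hD.2
        let v : (V : Scheme.{u}) := Limits.pullback.fst (V.ι ≫ π) S₀.ι (ψ.left p)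
        have hv : π.smoothLocus.ι (g.left (Limits.pullback.fst Z.hom S₀.ι p)) = V.ι v := by
          have e1 := congrArg (fun φ : _ ⟶ (π.smoothLocus : Scheme.{u}) => π.smoothLocus.ι (φ p)) hga
          refine e1.trans ?_
          show (T.homOfLE inf_le_left ≫ π.smoothLocus.ι) v = _
          rw [T.homOfLE_ι]
        rw [hv]
        by_contra h
        refine v.2.2 (subset_closure ⟨?_, h⟩)
        show (Limits.pullback.fst (V.ι ≫ π) S₀.ι ≫ V.ι ≫ π) (ψ.left p) ∈ S₀
        rw [Limits.pullback.condition]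
        exact (Limits.pullback.snd (V.ι ≫ π) S₀.ι (ψ.left p)).2
      haveI : IsOpenImmersion m.left := inferInstanceAs (IsOpenImmersion (T.homOfLE (inf_le_left : V ≤ π.smoothLocus)))
      let gV : Z ⟶ Over.mk (V.ι ≫ π) := Over.homMk (IsOpenImmersion.lift m.left g.left hrange)
        ((congrArg (_ ≫ ·) (Over.w m).symm).trans ((Category.assoc _ _ _).symm.trans
          ((congrArg (· ≫ _) (IsOpenImmersion.lift_fac _ _ _)).trans (Over.w g))))
      refine ⟨gV, Neron6.pullback_hom_ext S₀.ι _ _ ?_⟩
      refine (Neron6.pullback_map_fst S₀.ι gV).trans ((cancel_mono m.left).1 ?_)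
      exact ((Category.assoc _ _ _).trans (congrArg (_ ≫ ·) (IsOpenImmersion.lift_fac _ _ _))).trans
        (hga.trans (Category.assoc _ _ _).symm)

end Groth.Agent.S13429
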