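import Groth.Statements.S1343
import Groth.Agent.CMOpen5.Affine
import Groth.Agent.FibDim.RelDim
import Groth.Agent.FibDim.LocDim
import Groth.Agent.AlgSpDec.FibreDimEtale
import Groth.Agent.H23.GrassRep
import Groth.Agent.S2768
import Groth.Agent.Approx.AffDim
import Groth.Agent.AlgSpPts.Sep

set_option autoImplicit false
set_option backward.isDefEq.respectTransparency false
set_option backward.isDefEq.respectTransparency.types false
universe u
open FlatMor

namespace Groth.Agent.S1343

open AlgebraicGeometry CategoryTheory Limits in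
/-- (1) ⇔ (3): let f be flat and locally of finite presentation and let x be a point whose fibre has
local dimension d at x. Then f is Cohen–Macaulay at x if and only if some open neighbourhood of x
admits a flat, locally quasi-finite morphism to affine d-space over the base, compatible with the
structure morphisms. -/
theorem result {X S : Scheme.{u}} (f : X ⟶ S) [Flat f] [LocallyOfFinitePresentation f]
    (x : X) (d : ℕ) (hd : FlatMor.fibreDimAt f x = d) :
    MoreMor.IsCMAt f x ↔ ∃ (U : X.Opens) (g : (U : Scheme.{u}) ⟶ 𝔸(ULift.{u} (Fin d); S)), x ∈ U ∧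
      g ≫ (𝔸(ULift.{u} (Fin d); S) ↘ S) = U.ι ≫ f ∧ Flat g ∧ LocallyQuasiFinite g := by
  constructor
  · intro h
    obtain ⟨n, U, hxU, g, hg, hqf, hfl⟩ := (Groth.Agent.CMOpen5.isCMAt_iff f x).1 h
    haveI : LocallyOfFinitePresentation (g ≫ (𝔸(ULift.{u} (Fin n); S) ↘ S)) := by rw [hg]; infer_instance
    haveI : LocallyOfFinitePresentation g :=
      Groth.Agent.AlgSpPts.locallyOfFinitePresentation_of_comp g (𝔸(ULift.{u} (Fin n); S) ↘ S)
    have hn : n = d := by
      have h1 := (Groth.Agent.Approx.AffDim.fibreDimAt_eq_of_lqf_affineSpace f U g hg hxU hfl).symm.trans hd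
      exact_mod_cast h1
    subst hn
    let W : (U : Scheme.{u}).Opens := ⟨_, Groth.Agent.FlatLocus.isOpen_flat_locus g⟩
    let U' : X.Opens := U.ι ''ᵁ W
    have hle : U' ≤ U := U.ι_image_le W
    refine ⟨U', X.homOfLE hle ≫ g, ⟨⟨x, hxU⟩, hfl, rfl⟩, ?_, ?_, inferInstance⟩
    · rw [Category.assoc, hg, Scheme.homOfLE_ι_assoc]
    · refine Flat.of_stalkMap _ fun z => ?_
      obtain ⟨w, hw, hwz⟩ := z.2
      have hz : X.homOfLE hle z = w := U.ι.isOpenEmbedding.injective (by
        rw [← Scheme.Hom.comp_apply, Scheme.homOfLE_ι]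
        exact hwz.symm)
      have hflat : ∀ v, v = w → (g.stalkMap v).hom.Flat := by
        rintro v rfl
        exact hw
      rw [Scheme.Hom.stalkMap_comp]
      exact RingHom.Flat.comp (hflat _ hz) (Flat.stalkMap (X.homOfLE hle) z)
  · rintro ⟨U, g, hxU, hg, _, _⟩
    exact (Groth.Agent.CMOpen5.isCMAt_iff f x).2 ⟨d, U, hxU, g, hg, ‹_›, Flat.stalkMap g _⟩

end Groth.Agent.S1343
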