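import Groth.Statements.S13434
import Groth.Agent.Hilb6.Comp

set_option autoImplicit false
universe u
open W4c1hilbpn

namespace Groth.Agent.S13434

open W4c1hilbpn in
/-- Let k be an infinite field, n ≥ 2, S the polynomial ring over k in n variables, I a monomial ideal
of S of finite colength and T(I) = Hom_S(I, S/I) with its grading by integer vectors. The graded
piece of T(I) in every multidegree all of whose entries are nonnegative, or all of whose entries are
negative, vanishes, and T(I) is spanned by its pieces of non-constant sign pattern (the spans, over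
the sets N of variable indices that are neither empty nor all indices, of the graded pieces whose
multidegree is negative exactly at N). -/
theorem result (k : Type u) [Field k] [Infinite k]
    (n : ℕ) (hn : 2 ≤ n) (I : Ideal (MvPolynomial (Fin n) k)) (hI : IsMonomial I)
    [Module.Finite k (MvPolynomial (Fin n) k ⧸ I)] :
    (∀ α : Fin n → ℤ, ((∀ i, 0 ≤ α i) ∨ (∀ i, α i < 0)) → tPiece I α = ⊥) ∧
      (⨆ N : {N : Set (Fin n) // N.Nonempty ∧ N ≠ Set.univ}, sigPiece I N.1) = ⊤ := by
  haveI : Nontrivial (Fin n) := Fin.nontrivial_iff_two_le.mpr hn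
  refine ⟨fun α h => ?_, ?_⟩
  · rw [Hilb6.tPiece_eq_bot_iff hI]
    rcases h with h | h
    · exact Hilb6.CSp_eq_bot_of_nonneg h
    · exact Hilb6.CSp_eq_bot_of_neg hI h
  · refine eq_top_iff.mpr (le_trans (Hilb6.iSup_tPiece_eq_top hI
      (fun α => (∃ i, α i < 0) ∧ ∃ i, 0 ≤ α i) fun α hα => ?_).ge (iSup_le fun α => ?_))
    · rcases not_and_or.mp hα with h | h <;> push Not at h
      · exact Hilb6.CSp_eq_bot_of_nonneg h
      · exact Hilb6.CSp_eq_bot_of_neg hI h
    · obtain ⟨⟨i, hi⟩, ⟨j, hj⟩⟩ := α.2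
      have hN : {l | α.1 l < 0}.Nonempty ∧ {l | α.1 l < 0} ≠ Set.univ :=
        ⟨⟨i, hi⟩, fun h => absurd (h.ge (Set.mem_univ j) : α.1 j < 0) (not_lt.mpr hj)⟩
      refine le_trans ?_ (le_iSup _ (⟨_, hN⟩ : {N : Set (Fin n) // N.Nonempty ∧ N ≠ Set.univ}))
      exact le_iSup_of_le ⟨α.1, fun l => Iff.rfl⟩ le_rfl

end Groth.Agent.S13434
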