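import Groth.Statements.S13437
import Groth.Agent.Hilb6.Dual

set_option autoImplicit false
universe u
open W4c1hilbpn

namespace Groth.Agent.S13437

open W4c1hilbpn in
/-- Let k be an infinite field, S = k[x,y,z] and I a monomial ideal of S of finite colength d. Then the
dimension of Hom_S(I, S/I) is congruent to d modulo 2. -/
theorem result (k : Type u) [Field k] [Infinite k]
    (I : Ideal (MvPolynomial (Fin 3) k)) (hI : IsMonomial I) [Module.Finite k (MvPolynomial (Fin 3) k ⧸ I)] :
    Module.finrank k (Tgt I) % 2 = Module.finrank k (MvPolynomial (Fin 3) k ⧸ I) % 2 := by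
  exact Hilb6.finrank_tgt_mod_two hI

end Groth.Agent.S13437
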