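import Groth.Statements.S13438
import Groth.Agent.Hilb6.Stair

set_option autoImplicit false
universe u
open W4c1hilbpn

namespace Groth.Agent.S13438

open W4c1hilbpn in
/-- Let k be an infinite field, S = k[x,y,z], and T(I) = Hom_S(I, S/I) graded by triples of integers (a
graded piece is indexed by its multidegree; its sign pattern records which of the three entries are
negative); let I be a monomial ideal of finite colength whose minimal monomial generators include
x^a1 y^a2, x^b1 z^b3 and y^c2 z^c3 with all six exponents positive, and assume a1 ≥ b1 and a2 ≥ c2,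
or b1 ≥ a1 and b3 ≥ c3, or c2 ≥ a2 and c3 ≥ b3. Then T(I) has a nonzero graded piece whose sign
pattern is negative at exactly two of the three variables. (The published statement draws the
conclusion that the corresponding point of the Hilbert scheme of points of affine 3-space is
singular; this row records the nonvanishing of a tangent piece of forbidden sign pattern, from which
singularity follows by the smoothness criterion for monomial points.) -/
theorem result (k : Type u) [Field k] [Infinite k]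
    (I : Ideal (MvPolynomial (Fin 3) k)) (hI : IsMonomial I) [Module.Finite k (MvPolynomial (Fin 3) k ⧸ I)]
    (a1 a2 b1 b3 c2 c3 : ℕ) (ha1 : 0 < a1) (ha2 : 0 < a2) (hb1 : 0 < b1) (hb3 : 0 < b3)
    (hc2 : 0 < c2) (hc3 : 0 < c3)
    (hA : e3 a1 a2 0 ∈ exps I ∧ e3 (a1 - 1) a2 0 ∉ exps I ∧ e3 a1 (a2 - 1) 0 ∉ exps I)
    (hB : e3 b1 0 b3 ∈ exps I ∧ e3 (b1 - 1) 0 b3 ∉ exps I ∧ e3 b1 0 (b3 - 1) ∉ exps I)
    (hC : e3 0 c2 c3 ∈ exps I ∧ e3 0 (c2 - 1) c3 ∉ exps I ∧ e3 0 c2 (c3 - 1) ∉ exps I)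
    (hcase : (b1 ≤ a1 ∧ c2 ≤ a2) ∨ (a1 ≤ b1 ∧ c3 ≤ b3) ∨ (a2 ≤ c2 ∧ b3 ≤ c3)) :
    sigPiece I ({0, 1} : Set (Fin 3)) ≠ ⊥ ∨ sigPiece I ({0, 2} : Set (Fin 3)) ≠ ⊥ ∨
      sigPiece I ({1, 2} : Set (Fin 3)) ≠ ⊥ := by
  obtain ⟨hA1, hA2, hA3⟩ := hA
  obtain ⟨hB1, hB2, hB3⟩ := hB
  obtain ⟨hC1, hC2, hC3⟩ := hC
  have key : ∀ u : Fin 3 →₀ ℕ, u ∉ exps I → ∀ P : (Fin 3 →₀ ℕ) → Prop,
      (∀ s, u ≤ s → s ∉ exps I → P s) → ∃ s, (s ∉ exps I ∧ ∀ i, s + Finsupp.single i 1 ∈ exps I) ∧ P s :=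
    fun u hu P hP => by
      obtain ⟨s, hle, hs, hsoc⟩ := Hilb6.exists_socle_ge hI hu
      exact ⟨s, ⟨hs, hsoc⟩, hP s hle hs⟩
  rcases hcase with ⟨h1, h2⟩ | ⟨h1, h2⟩ | ⟨h1, h2⟩
  · left
    obtain ⟨s, ⟨hs, hsoc⟩, hsx, hsy⟩ : ∃ s : Fin 3 →₀ ℕ, (s ∉ exps I ∧ ∀ i, s + Finsupp.single i 1 ∈ exps I) ∧ s 0 < a1 ∧ s 1 < a2 := by
      by_cases h : c3 ≤ b3
      · refine key _ hB2 _ fun s hle hs => ?_
        have := hle 0; have := hle 2; have := Hilb6.not_both hs hB1; have := Hilb6.not_both hs hC1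
        simp [e3] at *
        omega
      · refine key _ hC2 _ fun s hle hs => ?_
        have := hle 1; have := hle 2; have := Hilb6.not_both hs hB1; have := Hilb6.not_both hs hC1
        simp [e3] at *
        omega
    refine Hilb6.sigPiece_ne_bot hI (fun i => ?_) (Hilb6.CSp_ne_bot_of_socle hA1
      (Hilb6.min_of_corner (Or.inr hA2) (Or.inr hA3) (Or.inl rfl)) hs hsoc)
    fin_cases i <;> simp [e3] <;> omega
  · right; left
    obtain ⟨s, ⟨hs, hsoc⟩, hsx, hsy⟩ : ∃ s : Fin 3 →₀ ℕ, (s ∉ exps I ∧ ∀ i, s + Finsupp.single i 1 ∈ exps I) ∧ s 0 < b1 ∧ s 2 < b3 := by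
      by_cases h : c2 ≤ a2
      · refine key _ hA2 _ fun s hle hs => ?_
        have := hle 0; have := hle 1; have := Hilb6.not_both hs hA1; have := Hilb6.not_both hs hC1
        simp [e3] at *
        omega
      · refine key _ hC3 _ fun s hle hs => ?_
        have := hle 1; have := hle 2; have := Hilb6.not_both hs hA1; have := Hilb6.not_both hs hC1
        simp [e3] at *
        omega
    refine Hilb6.sigPiece_ne_bot hI (fun i => ?_) (Hilb6.CSp_ne_bot_of_socle hB1
      (Hilb6.min_of_corner (Or.inr hB2) (Or.inl rfl) (Or.inr hB3)) hs hsoc)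
    fin_cases i <;> simp [e3] <;> omega
  · right; right
    obtain ⟨s, ⟨hs, hsoc⟩, hsx, hsy⟩ : ∃ s : Fin 3 →₀ ℕ, (s ∉ exps I ∧ ∀ i, s + Finsupp.single i 1 ∈ exps I) ∧ s 1 < c2 ∧ s 2 < c3 := by
      by_cases h : b1 ≤ a1
      · refine key _ hA3 _ fun s hle hs => ?_
        have := hle 0; have := hle 1; have := Hilb6.not_both hs hA1; have := Hilb6.not_both hs hB1
        simp [e3] at *
        omega
      · refine key _ hB3 _ fun s hle hs => ?_
        have := hle 0; have := hle 2; have := Hilb6.not_both hs hA1; have := Hilb6.not_both hs hB1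
        simp [e3] at *
        omega
    refine Hilb6.sigPiece_ne_bot hI (fun i => ?_) (Hilb6.CSp_ne_bot_of_socle hC1
      (Hilb6.min_of_corner (Or.inl rfl) (Or.inr hC2) (Or.inr hC3)) hs hsoc)
    fin_cases i <;> simp [e3] <;> omega

end Groth.Agent.S13438
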