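import Groth.Statements.S13439
import Groth.Agent.Hilb6.Stair

set_option autoImplicit false
universe u
open W4c1hilbpn

namespace Groth.Agent.S13439

open W4c1hilbpn in
/-- Let k be an infinite field, S = k[x,y,z], and T(I) = Hom_S(I, S/I) graded by triples of integers (a
graded piece is indexed by its multidegree; its sign pattern records which of the three entries are
negative); let I be a strongly stable ideal of finite colength (variables ordered x > y > z). Then x
lies in I if and only if the three graded pieces of T(I) whose sign pattern is negative at exactly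
two of the three variables all vanish. (The published statement phrases the right-hand side as
smoothness of the corresponding point of the Hilbert scheme of points of affine 3-space, which for a
monomial point is equivalent to this vanishing; the row records the vanishing condition, which is
what the argument establishes.) -/
theorem result (k : Type u) [Field k] [Infinite k]
    (I : Ideal (MvPolynomial (Fin 3) k)) (hI : IsStronglyStable I) [Module.Finite k (MvPolynomial (Fin 3) k ⧸ I)] :
    (MvPolynomial.X 0 : MvPolynomial (Fin 3) k) ∈ I ↔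
      (sigPiece I ({1, 2} : Set (Fin 3)) = ⊥ ∧ sigPiece I ({0, 2} : Set (Fin 3)) = ⊥ ∧
        sigPiece I ({0, 1} : Set (Fin 3)) = ⊥) := by
  have hm := hI.1
  have hX : (MvPolynomial.X 0 : MvPolynomial (Fin 3) k) ∈ I ↔ e3 1 0 0 ∈ exps I := by
    have : (Finsupp.single 0 1 : Fin 3 →₀ ℕ) = e3 1 0 0 := by ext l; fin_cases l <;> simp [e3]
    rw [← this]; exact Iff.rfl
  rw [hX]
  constructor
  · intro hx
    have hb : ∀ N : Set (Fin 3), (∀ α : Fin 3 → ℤ, (∀ i, α i < 0 ↔ i ∈ N) → Hilb6.CSp I α = ⊥) → sigPiece I N = ⊥ :=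
      fun N h => iSup_eq_bot.mpr fun α => (Hilb6.tPiece_eq_bot_iff hm α.1).mpr (h α.1 α.2)
    have hneg : ∀ α : Fin 3 → ℤ, α 0 < 0 → (α 1 < 0 ∨ α 2 < 0) → Hilb6.CSp I α = ⊥ := by
      intro α h0 h12
      refine (Submodule.eq_bot_iff _).mpr fun c hc => Hilb6.CSp.eq_zero_of_mins hc fun b hb => by_contra fun hn => ?_
      obtain ⟨hb1, hp, -⟩ := Hilb6.CSp.supp hc hn
      have p0 := hp 0
      have hle : e3 1 0 0 ≤ b := fun l => by fin_cases l <;> simp [e3]; omega
      have he := le_antisymm (hb.2 hx hle) hle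
      have p1 := hp 1
      have p2 := hp 2
      rw [he] at p1 p2
      simp [e3] at p1 p2
      omega
    refine ⟨hb _ fun α hN => ?_, hb _ fun α hN => ?_, hb _ fun α hN => ?_⟩
    · have h0 : ¬ α 0 < 0 := by simpa using (hN 0)
      have h1 : α 1 < 0 := (hN 1).mpr (by simp)
      have h2 : α 2 < 0 := (hN 2).mpr (by simp)
      refine (Submodule.eq_bot_iff _).mpr fun c hc => by_contra fun hne => ?_
      obtain ⟨β₀, hβ₀⟩ := Function.ne_iff.mp hne
      have hfin := Hilb6.supp_finite hm hc
      obtain ⟨β₁, hβ₁, hmin⟩ := hfin.exists_minimalFor (fun β : Fin 3 →₀ ℕ => β 1) _ ⟨β₀, hβ₀⟩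
      obtain ⟨β, ⟨hβ, hβj⟩, hmax⟩ := (hfin.inter_of_left {β | β 1 = β₁ 1}).exists_maximalFor
        (fun β : Fin 3 →₀ ℕ => β 2) _ ⟨β₁, hβ₁, rfl⟩
      obtain ⟨he, hp, hs⟩ := Hilb6.CSp.supp hc (hβ : c β ≠ 0)
      have p0 := hp 0; have p1 := hp 1; have p2 := hp 2
      have s0 := Hilb6.cast_shift hp 0; have s1 := Hilb6.cast_shift hp 1; have s2 := Hilb6.cast_shift hp 2
      have hs' := Hilb6.not_both hs hx
      simp at hs'
      have hup : shift β α + Finsupp.single 2 1 ∈ exps I := by
        by_contra hn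
        have he' : c (β + Finsupp.single 2 1) = c β := hc.2 β he 2 (by rwa [Hilb6.shift_add hp])
        have hmem : β + Finsupp.single 2 1 ∈ {β | c β ≠ 0} ∩ {β | β 1 = β₁ 1} :=
          ⟨by show c _ ≠ 0; rw [he']; exact hβ, by simpa using hβj⟩
        have hlt : β 2 < (β + Finsupp.single 2 1 : Fin 3 →₀ ℕ) 2 := by simp
        exact absurd (hmax hmem hlt.le) (not_le.mpr hlt)
      have hj : Finsupp.single 1 1 ≤ β := Finsupp.single_le_iff.mpr (by omega)
      set β' := β - Finsupp.single 1 1
      have hβ' : β' + Finsupp.single 1 1 = β := tsub_add_cancel_of_le hj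
      have hmem' : β' ∈ exps I := Hilb6.exps_upper hup fun l => by
        have e0 := congrArg (fun v : Fin 3 →₀ ℕ => v 0) hβ'
        have e1 := congrArg (fun v : Fin 3 →₀ ℕ => v 1) hβ'
        have e2 := congrArg (fun v : Fin 3 →₀ ℕ => v 2) hβ'
        fin_cases l <;> simp at e0 e1 e2 ⊢ <;> omega
      have hne' : c β' ≠ 0 := by
        have := hc.2 β' hmem' 1 (by rwa [hβ'])
        rw [hβ'] at this
        exact this ▸ hβ
      have hlt : β' 1 < β₁ 1 := by
        rw [← (hβj : β 1 = β₁ 1), ← hβ']; simp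
      exact absurd (hmin hne' hlt.le) (not_le.mpr hlt)
    · exact hneg α ((hN 0).mpr (by simp)) (Or.inr ((hN 2).mpr (by simp)))
    · exact hneg α ((hN 0).mpr (by simp)) (Or.inl ((hN 1).mpr (by simp)))
  · rintro ⟨h, -, -⟩
    by_contra hx
    have hfin := Hilb6.line_finite hm (f := fun a => e3 a 0 0) fun a a' h => by
      simpa [Hilb6.e3_apply0] using congrArg (fun β : Fin 3 →₀ ℕ => β 0) h
    obtain ⟨u, hu, humax⟩ := hfin.exists_maximalFor id _ ⟨1, hx⟩
    have hu1 : 1 ≤ u := by
      by_contra hlt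
      have := humax (show (1 : ℕ) ∈ {c | e3 c 0 0 ∉ exps I} from hx) (by simp; omega)
      simp at this; omega
    have htop : e3 (u + 1) 0 0 ∈ exps I := by
      by_contra hn
      have := humax (show u + 1 ∈ {c | e3 c 0 0 ∉ exps I} from hn) (by simp)
      simp at this
    have M := Hilb6.e3_mem_iff_stairZ_le hm
    have hw0 : 0 < stairZ I u 0 := by
      by_contra hn
      exact hu ((M u 0 0).mpr (by omega))
    have hy : e3 0 1 0 ∉ exps I := fun h => hx (Hilb6.stable10 hI h)
    have hc0 : 0 < stairZ I 0 1 := by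
      by_contra hn
      exact hy ((M 0 1 0).mpr (by omega))
    have hu_le : stairZ I u 0 ≤ stairZ I 0 1 := (M u 0 _).mp (Hilb6.exps_e3_mono
      (Hilb6.stable10 hI (Hilb6.e3_stairZ_mem hm 0 1)) hu1 le_rfl le_rfl)
    obtain ⟨w, hw⟩ : ∃ w, stairZ I u 0 = w + 1 := ⟨stairZ I u 0 - 1, by omega⟩
    obtain ⟨c1, hc1⟩ : ∃ c1, stairZ I 0 1 = c1 + 1 := ⟨stairZ I 0 1 - 1, by omega⟩
    have hg0 : e3 0 0 (c1 + 1) ∉ exps I := fun h => by
      have := (M 0 1 c1).mp (Hilb6.stable21 hI h)
      omega
    have hg2 : e3 0 1 (c1 + 1 - 1) ∉ exps I := fun h => by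
      have := (M 0 1 _).mp h
      omega
    have hs : e3 u 0 w ∉ exps I := fun h => by
      have := (M u 0 w).mp h
      omega
    have hsoc : ∀ i, e3 u 0 w + Finsupp.single i 1 ∈ exps I := by
      intro i
      fin_cases i
      · show e3 u 0 w + Finsupp.single 0 1 ∈ exps I
        rw [Hilb6.e3_add_single0]; exact Hilb6.exps_e3_mono htop le_rfl le_rfl (Nat.zero_le _)
      · show e3 u 0 w + Finsupp.single 1 1 ∈ exps I
        rw [Hilb6.e3_add_single1]; exact Hilb6.stable21 hI ((M u 0 _).mpr hw.le)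
      · show e3 u 0 w + Finsupp.single 2 1 ∈ exps I
        rw [Hilb6.e3_add_single2]; exact (M u 0 _).mpr hw.le
    refine Hilb6.sigPiece_ne_bot hm (N := {1, 2}) (fun i => ?_) (Hilb6.CSp_ne_bot_of_socle ((M 0 1 (c1+1)).mpr hc1.le)
      (Hilb6.min_of_corner (Or.inl rfl) (Or.inr hg0) (Or.inr hg2)) hs hsoc) h
    fin_cases i <;> simp [e3] <;> omega

end Groth.Agent.S13439
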