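import Groth.Statements.S1344
import Groth.Agent.Approx.AffDim
import Groth.Agent.CMOpen5.Affine
import Groth.Agent.AlgSpPts.Sep
import Groth.Agent.FibDim.LocDim
import Groth.Agent.CycLib.Flat

set_option autoImplicit false
set_option backward.isDefEq.respectTransparency false
set_option backward.isDefEq.respectTransparency.types false
universe u
open FlatMor

namespace Groth.Agent.S1344

open AlgebraicGeometry CategoryTheory Limits in
/-- Let f be locally of finite type between locally Noetherian schemes and Cohen–Macaulay at every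
point. Then for every point x of the source with image y, the local dimension of the source at x
equals the local dimension of the target at y plus the local dimension at x of the fibre over y. -/
theorem result {X Y : Scheme.{u}} (f : X ⟶ Y) [IsLocallyNoetherian X] [IsLocallyNoetherian Y] [LocallyOfFiniteType f]
    (hf : ∀ x : X, MoreMor.IsCMAt f x) (x : X) :
    FlatMor.localDim ↑X x = FlatMor.localDim ↑Y (f x) + FlatMor.fibreDimAt f x := by
  haveI : LocallyOfFinitePresentation f := LocallyOfFinitePresentation.iff_locallyOfFiniteType.2 ‹_›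
  obtain ⟨n, U, hxU, g, hg, hqf, hfl⟩ := (Groth.Agent.CMOpen5.isCMAt_iff f x).1 (hf x)
  haveI : LocallyOfFinitePresentation (g ≫ (𝔸(ULift.{u} (Fin n); Y) ↘ Y)) := by rw [hg]; infer_instance
  haveI : LocallyOfFinitePresentation g :=
    Groth.Agent.AlgSpPts.locallyOfFinitePresentation_of_comp g (𝔸(ULift.{u} (Fin n); Y) ↘ Y)
  let W₀ : (U : Scheme.{u}).Opens := ⟨_, Groth.Agent.FlatLocus.isOpen_flat_locus g⟩
  let W : X.Opens := U.ι ''ᵁ W₀
  have hdim : ∀ z ∈ W, FlatMor.fibreDimAt f z = (n : WithBot ℕ∞) := by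
    rintro z ⟨w, hw, rfl⟩
    exact Groth.Agent.Approx.AffDim.fibreDimAt_eq_of_lqf_affineSpace f U g hg w.2 hw
  have hxW : x ∈ W := ⟨⟨x, hxU⟩, hfl, rfl⟩
  haveI : Flat (W.ι ≫ f) := Flat.of_stalkMap _ fun z => by
    rw [Scheme.Hom.stalkMap_comp]
    exact RingHom.Flat.comp (hf (W.ι z)).1 (Flat.stalkMap W.ι z)
  have hrel : Cyc.HasRelDim (W.ι ≫ f) n := by
    refine (Groth.Agent.CycLib.hasRelDim_iff _).2 fun z hz => ?_
    have h1 := Groth.Agent.FibDim.fibreDimAt_eq_rd (W.ι ≫ f) hz
    rw [Groth.Agent.FibDim.fibreDimAt_openImmersion_comp, hdim _ (show W.ι z ∈ W from z.2)] at h1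
    exact_mod_cast h1.symm
  haveI : IsLocallyNoetherian (W : Scheme.{u}) := inferInstance
  have h := Groth.Agent.FibDim.localDim_eq_add (W.ι ≫ f) hrel (⟨x, hxW⟩ : W)
  rw [hdim x hxW]
  have hloc : FlatMor.localDim (W : Scheme.{u}) ⟨x, hxW⟩ = FlatMor.localDim X x := by
    refine le_antisymm (le_iInf fun V => ?_) (le_iInf fun V => ?_)
    · refine iInf_le_of_le ⟨(W.ι ⁻¹ᵁ V.1), V.2⟩ ?_
      exact Topology.IsInducing.topologicalKrullDim_le
        (f := fun v : ((W.ι ⁻¹ᵁ V.1 : (W : Scheme.{u}).Opens) : Set (W : Scheme.{u})) => (⟨W.ι v.1, v.2⟩ : (V.1 : Set X)))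
        (Topology.IsInducing.of_comp_iff Topology.IsInducing.subtypeVal |>.1
          (W.ι.isEmbedding.isInducing.comp Topology.IsInducing.subtypeVal))
    · refine iInf_le_of_le ⟨W.ι ''ᵁ V.1, ⟨_, V.2, rfl⟩⟩ ?_
      exact ((W.ι.isEmbedding.homeomorphImage (V.1 : Set (W : Scheme.{u}))).symm.isHomeomorph.topologicalKrullDim_eq).le
  rw [hloc, Scheme.Hom.comp_apply] at h
  exact h

end Groth.Agent.S1344
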