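import Groth.Statements.S13440
import Groth.Agent.Hilb6.Bound

set_option autoImplicit false
universe u
open W4c1hilbpn

namespace Groth.Agent.S13440

open W4c1hilbpn in
/-- Let k be an infinite field, S = k[x,y,z], and T(I) = Hom_S(I, S/I) graded by triples of integers (a
graded piece is indexed by its multidegree; its sign pattern records which of the three entries are
negative); let I be a monomial ideal of finite colength with staircase numbers b_{i,j} = the number
of c with x^i y^j z^c outside I. For all natural numbers a1, a2, the span of the graded pieces of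
T(I) of multidegrees (a1, a2, c) with c < 0 has dimension at most the sum, over all i ≥ a1 and j ≥
a2, of b_{i,j} - max(b_{i+1,j}, b_{i,j+1}) (a sum with finitely many nonzero terms). -/
theorem result (k : Type u) [Field k] [Infinite k]
    (I : Ideal (MvPolynomial (Fin 3) k)) (hI : IsMonomial I) [Module.Finite k (MvPolynomial (Fin 3) k ⧸ I)] (a1 a2 : ℕ) :
    Module.finrank k ↥(⨆ α : {α : Fin 3 → ℤ // α 0 = (a1 : ℤ) ∧ α 1 = (a2 : ℤ) ∧ α 2 < 0}, tPiece I α.1) ≤
      ∑ᶠ p : ℕ × ℕ, (if a1 ≤ p.1 ∧ a2 ≤ p.2
        then stairZ I p.1 p.2 - max (stairZ I (p.1 + 1) p.2) (stairZ I p.1 (p.2 + 1)) else 0) := by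
  exact Hilb6.finrank_ppn_le hI a1 a2

end Groth.Agent.S13440
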