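import Groth.Statements.S13442
import Groth.Agent.Hilb6.Pow3

set_option autoImplicit false
universe u
open W4c1hilbpn

namespace Groth.Agent.S13442

open W4c1hilbpn in
/-- Let k be an infinite field, S = k[x,y,z], and T(I) = Hom_S(I, S/I) graded by triples of integers (a
graded piece is indexed by its multidegree; its sign pattern records which of the three entries are
negative); let m = (x,y,z) and r a natural number. For each variable index i, the span of the graded
pieces of T(m^r) negative exactly at i has dimension C(r+3, 4), the span of those negative exactly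
at the other two indices has dimension C(r+2, 4), and T(m^r) itself has dimension C(r+2, 2) · C(r+1,
2). -/
theorem result (k : Type u) [Field k] [Infinite k] (r : ℕ)
    (i : Fin 3) :
    Module.finrank k ↥(sigPiece ((Ideal.span (Set.range (MvPolynomial.X : Fin 3 → MvPolynomial (Fin 3) k))) ^ r) {i}) = Nat.choose (r + 3) 4 ∧
      Module.finrank k ↥(sigPiece ((Ideal.span (Set.range (MvPolynomial.X : Fin 3 → MvPolynomial (Fin 3) k))) ^ r) ({i}ᶜ : Set (Fin 3))) = Nat.choose (r + 2) 4 ∧
        Module.finrank k (Tgt ((Ideal.span (Set.range (MvPolynomial.X : Fin 3 → MvPolynomial (Fin 3) k))) ^ r)) = Nat.choose (r + 2) 2 * Nat.choose (r + 1) 2 := by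
  classical
  have hI := Hilb6.isMonomial_pow (σ := Fin 3) (k := k) r
  have hE := Hilb6.mem_exps_pow (σ := Fin 3) (k := k) r
  have hs := fun α (h : Hilb6.CSp ((Ideal.span (Set.range (MvPolynomial.X : Fin 3 → MvPolynomial (Fin 3) k))) ^ r) α ≠ ⊥) =>
    Hilb6.mem_box (Hilb6.CSp_pow_ne_bot hE h)
  refine ⟨?_, ?_, ?_⟩
  · rw [sigPiece, Hilb6.finrank_iSup hI _ (Hilb6.box r) fun α _ => hs α,
      Finset.sum_congr rfl fun α _ => Hilb6.finrank_CSp_pow3 hE α]
    convert Hilb6.sum_wt_single r i using 3
  · rw [sigPiece, Hilb6.finrank_iSup hI _ (Hilb6.box r) fun α _ => hs α,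
      Finset.sum_congr rfl fun α _ => Hilb6.finrank_CSp_pow3 hE α]
    convert Hilb6.sum_wt_pair r i using 3
  · rw [Hilb6.finrank_tgt hI (Hilb6.box r) hs,
      Finset.sum_congr rfl fun α _ => Hilb6.finrank_CSp_pow3 hE α]
    exact Hilb6.sum_wt_box r

end Groth.Agent.S13442
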