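import Groth.Statements.S13443
import Groth.Agent.Hilb6.SigBound
import Groth.Agent.S13442

set_option autoImplicit false
universe u
open W4c1hilbpn

namespace Groth.Agent.S13443

open W4c1hilbpn in
/-- Let k be an infinite field, S = k[x,y,z], and T(I) = Hom_S(I, S/I) graded by triples of integers (a
graded piece is indexed by its multidegree; its sign pattern records which of the three entries are
negative), variables ordered x > y > z; let m = (x,y,z), r a natural number and I a strongly stable
ideal of colength C(r+2, 3) = dim S/m^r. Then the spans of the graded pieces of T(I) negative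
exactly at z, resp. exactly at y, have dimension at most C(r+3, 4), the spans of those negative
exactly at x and y, resp. exactly at x and z, have dimension at most C(r+2, 4) (these are the
corresponding dimensions for m^r), and in each of the four cases equality holds if and only if I =
m^r. (The published statement assumes the ideal Borel-fixed over a field of characteristic zero,
which for monomial ideals means strongly stable; the argument uses only strong stability, and the
row is stated in that form.) -/
theorem result (k : Type u) [Field k] [Infinite k] (r : ℕ)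
    (I : Ideal (MvPolynomial (Fin 3) k)) (hI : IsStronglyStable I) [Module.Finite k (MvPolynomial (Fin 3) k ⧸ I)]
    (hd : Module.finrank k (MvPolynomial (Fin 3) k ⧸ I) = Nat.choose (r + 2) 3) :
    (Module.finrank k ↥(sigPiece I ({2} : Set (Fin 3))) ≤ Nat.choose (r + 3) 4 ∧
      (Module.finrank k ↥(sigPiece I ({2} : Set (Fin 3))) = Nat.choose (r + 3) 4 ↔ I = (Ideal.span (Set.range (MvPolynomial.X : Fin 3 → MvPolynomial (Fin 3) k))) ^ r)) ∧
    (Module.finrank k ↥(sigPiece I ({1} : Set (Fin 3))) ≤ Nat.choose (r + 3) 4 ∧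
      (Module.finrank k ↥(sigPiece I ({1} : Set (Fin 3))) = Nat.choose (r + 3) 4 ↔ I = (Ideal.span (Set.range (MvPolynomial.X : Fin 3 → MvPolynomial (Fin 3) k))) ^ r)) ∧
    (Module.finrank k ↥(sigPiece I ({0, 1} : Set (Fin 3))) ≤ Nat.choose (r + 2) 4 ∧
      (Module.finrank k ↥(sigPiece I ({0, 1} : Set (Fin 3))) = Nat.choose (r + 2) 4 ↔ I = (Ideal.span (Set.range (MvPolynomial.X : Fin 3 → MvPolynomial (Fin 3) k))) ^ r)) ∧
    (Module.finrank k ↥(sigPiece I ({0, 2} : Set (Fin 3))) ≤ Nat.choose (r + 2) 4 ∧
      (Module.finrank k ↥(sigPiece I ({0, 2} : Set (Fin 3))) = Nat.choose (r + 2) 4 ↔ I = (Ideal.span (Set.range (MvPolynomial.X : Fin 3 → MvPolynomial (Fin 3) k))) ^ r)) := by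
  obtain ⟨z1, z2⟩ := Hilb6.sig_bound hI hd.le (Hilb6.viewZ hI)
  obtain ⟨y1, y2⟩ := Hilb6.sig_bound hI hd.le (Hilb6.viewY hI)
  have hc01 : ({2}ᶜ : Set (Fin 3)) = {0, 1} := by ext l; fin_cases l <;> simp
  have hc02 : ({1}ᶜ : Set (Fin 3)) = {0, 2} := by ext l; fin_cases l <;> simp
  have d2 := Hilb6.finrank_sigPiece_singleton hI.1 2
  have d1 := Hilb6.finrank_sigPiece_singleton hI.1 1
  rw [hc01, hd] at d2
  rw [hc02, hd] at d1
  have hp : (r + 3).choose 4 = (r + 2).choose 3 + (r + 2).choose 4 := Nat.choose_succ_succ' (r + 2) 3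
  have m2 := fun h : I = (Ideal.span (Set.range (MvPolynomial.X : Fin 3 → MvPolynomial (Fin 3) k))) ^ r => show Module.finrank k ↥(sigPiece I ({2} : Set (Fin 3))) = (r + 3).choose 4 by rw [h]; exact (S13442.result k r 2).1
  have m1 := fun h : I = (Ideal.span (Set.range (MvPolynomial.X : Fin 3 → MvPolynomial (Fin 3) k))) ^ r => show Module.finrank k ↥(sigPiece I ({1} : Set (Fin 3))) = (r + 3).choose 4 by rw [h]; exact (S13442.result k r 1).1
  refine ⟨⟨z1, z2, m2⟩, ⟨y1, y2, m1⟩, ⟨?_, fun h => z2 ?_, fun h => ?_⟩, ⟨?_, fun h => y2 ?_, fun h => ?_⟩⟩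
  · change Module.finrank k ↥(sigPiece I ({2} : Set (Fin 3))) ≤ _ at z1; omega
  · change Module.finrank k ↥(sigPiece I ({2} : Set (Fin 3))) = _; omega
  · have := m2 h; omega
  · change Module.finrank k ↥(sigPiece I ({1} : Set (Fin 3))) ≤ _ at y1; omega
  · change Module.finrank k ↥(sigPiece I ({1} : Set (Fin 3))) = _; omega
  · have := m1 h; omega

end Groth.Agent.S13443
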