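import Groth.Statements.S13450
import Groth.Agent.Hilb6.BorelG

set_option autoImplicit false
universe u
open W4c1hilbpn

namespace Groth.Agent.S13450

open Groth.Agent.Hilb6

open W4c1hilbpn in
/-- Let k be a field and S = k[x_0, ..., x_n] with its standard grading; for an ideal I write Hom_S(I,
S/I)_0 for the degree-0 homomorphisms (for a monomial ideal: the span of the multigraded pieces
whose multidegree has entry sum 0). Let n and q satisfy n = 3 and q ≥ 4, or n ≥ 4 and q ≥ 2, and let
I = x_0·(x_0, ..., x_{n-1}) + (x_1^q). Then Hom_S(I, S/I)_0 has dimension 2n - 1 + C(n+q-1, n-1).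
(The published statement gives this as the dimension of the tangent space to the Hilbert scheme at
the point I; the row records the dimension count.) -/
theorem result (k : Type u) [Field k] (n q : ℕ)
    (hcase : (n = 3 ∧ 4 ≤ q) ∨ (4 ≤ n ∧ 2 ≤ q)) :
    Module.finrank k ↥(⨆ α : {α : Fin (n + 1) → ℤ // ∑ i, α i = 0},
      tPiece (Ideal.span ({f : MvPolynomial (Fin (n + 1)) k | ∃ i : Fin (n + 1), i.val + 1 ≤ n ∧ f = MvPolynomial.X 0 * MvPolynomial.X i} ∪ {MvPolynomial.X 1 ^ q})) α.1) =
      2 * n - 1 + Nat.choose (n + q - 1) (n - 1) := by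
    obtain ⟨q, rfl⟩ : ∃ q', q = q' + 1 := ⟨q - 1, by omega⟩
    have hn : 3 ≤ n := by omega
    have h1 : (1 : Fin (n + 1)).val = 1 := by simp [Fin.val_one']; omega
    rw [Borel.span_eq_bI (q := q) (m := 1) _ (fun f => by
        constructor
        · intro hf
          exact ⟨1, h1.ge, h1.le, (Set.mem_singleton_iff.1 hf).trans (pow_succ _ _)⟩
        · rintro ⟨j, hj1, hj2, rfl⟩
          rw [show j = 1 from Fin.ext (by omega), ← pow_succ]
          rfl),
      Borel.finrank_deg_zero (Borel.gSpec_A hn le_rfl (by omega) (by omega) (by omega))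
        (Borel.hSpec_one hn rfl (by omega)),
      Borel.card_G hn le_rfl, Borel.card_one (by omega) rfl, Finset.card_empty,
      show n + (q + 1) - 1 = n + q by omega]
    have h2 : 2 ≤ (n + q).choose (n - 1) := by
      calc 2 ≤ n := by omega
        _ = n.choose (n - 1) := by
          rw [← Nat.choose_symm_of_eq_add (show n = 1 + (n - 1) by omega), Nat.choose_one_right]
        _ ≤ _ := Nat.choose_le_choose _ (by omega)
    omega

end Groth.Agent.S13450
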