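import Groth.Statements.S13451
import Groth.Agent.Hilb6.HomCount

set_option autoImplicit false
universe u
open W4c1hilbpn

namespace Groth.Agent.S13451

open MvPolynomial W4c1hilbpn Hilb6 Finsupp

variable {σ : Type*} [Fintype σ] [DecidableEq σ] {k : Type*} [Field k]

/-- The ideal of products of one variable of `A` and one of `B`. -/
noncomputable def prodIdeal (k : Type*) [Field k] (A B : Finset σ) : Ideal (MvPolynomial σ k) :=
  Ideal.span ((fun b => monomial b (1 : k)) '' ((fun p : σ × σ => single p.1 1 + single p.2 1) '' ↑(A ×ˢ B)))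

theorem mem_exps {A B : Finset σ} (hAB : Disjoint A B) (β : σ →₀ ℕ) :
    β ∈ exps (prodIdeal k A B) ↔ ∃ i ∈ A, ∃ j ∈ B, 1 ≤ β i ∧ 1 ≤ β j := by
  rw [prodIdeal, mem_exps_span_monomial]
  constructor
  · rintro ⟨_, ⟨⟨i, j⟩, hij, rfl⟩, hle⟩
    rw [Finset.mem_coe, Finset.mem_product] at hij
    exact ⟨i, hij.1, j, hij.2, le_trans (by simp) (hle i), le_trans (by simp) (hle j)⟩
  · rintro ⟨i, hi, j, hj, h1, h2⟩
    have hne : i ≠ j := fun h => Finset.disjoint_left.1 hAB hi (h ▸ hj)
    refine ⟨_, ⟨(i, j), Finset.mem_product.2 ⟨hi, hj⟩, rfl⟩, fun x => ?_⟩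
    simp only [Finsupp.add_apply, Finsupp.single_apply]
    split_ifs <;> subst_vars <;> first | exact absurd rfl hne | omega

/-- The multidegree of the first-order motion of `i` towards `l`. -/
def mv (i l : σ) : σ → ℤ := fun x => (if x = l then 1 else 0) - (if x = i then 1 else 0)

theorem sum_mv (i l : σ) : ∑ x, mv i l x = 0 := by
  simp [mv, Finset.sum_sub_distrib]

theorem mv_injective {i l i' l' : σ} (h : i ≠ l) (h' : i' ≠ l') (he : mv i l = mv i' l') : i = i' ∧ l = l' := by
  have hi := congrFun he i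
  have hl := congrFun he l
  simp only [mv, if_pos rfl, if_neg h, if_neg h.symm] at hi hl
  constructor
  · by_contra hn
    rw [if_neg hn] at hi
    split_ifs at hi <;> omega
  · by_contra hn
    rw [if_neg hn] at hl
    split_ifs at hl <;> omega

/-- The one-class lemma for a generator whose image avoids `A`. -/
theorem eq_mv {A B : Finset σ} (hAB : Disjoint A B) (hB : 1 < B.card) {α : σ → ℤ} (hα : ∑ x, α x = 0)
    {c : (σ →₀ ℕ) → k} (hc : c ∈ CSp (prodIdeal k A B) α) {i j : σ} (hi : i ∈ A) (hj : j ∈ B)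
    (hne : c (single i 1 + single j 1) ≠ 0)
    (hA : ∀ a ∈ A, shift (single i 1 + single j 1) α a = 0) :
    ∃ l ∉ A, α = mv i l ∧ ∀ j' ∈ B, c (single i 1 + single j' 1) = c (single i 1 + single j 1) := by
  obtain ⟨hmem, hpos, -⟩ := CSp.supp hc hne
  have hij : i ≠ j := fun h => Finset.disjoint_left.1 hAB hi (h ▸ hj)
  have hmemj : ∀ j' ∈ B, single i 1 + single j' 1 ∈ exps (prodIdeal k A B) := fun j' hj' =>
    (mem_exps hAB _).2 ⟨i, hi, j', hj', by simp, by simp⟩
  have hall : ∀ j' ∈ B, c (single i 1 + single j' 1) = c (single i 1 + single j 1) := fun j' hj' => by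
    have hns : shift (single i 1 + single j 1 + single j' 1) α ∉ exps (prodIdeal k A B) := by
      rw [shift_add hpos, mem_exps hAB]
      rintro ⟨a, ha, b, -, h1, -⟩
      rw [Finsupp.add_apply, hA a ha, single_eq_of_ne (fun h : a = j' => Finset.disjoint_left.1 hAB ha (h ▸ hj'))] at h1
      omega
    rw [← CSp.eq_of_le hc (hmemj j' hj') (fun x => by simp only [Finsupp.add_apply]; omega) hns,
      ← CSp.eq_of_le hc (hmemj j hj) (fun x => by simp only [Finsupp.add_apply]; omega) hns]
  obtain ⟨j', hj', hjj'⟩ := Finset.exists_mem_ne hB j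
  have hij' : i ≠ j' := fun h => Finset.disjoint_left.1 hAB hi (h ▸ hj')
  obtain ⟨-, hpos', -⟩ := CSp.supp hc (by rw [hall j' hj']; exact hne)
  have hαi : α i = -1 := by
    have h1 := cast_shift hpos i
    rw [hA i hi] at h1
    simp [single_eq_of_ne hij] at h1
    omega
  have hnn : ∀ x, x ≠ i → 0 ≤ α x := fun x hx => by
    have h1 := hpos x
    have h2 := hpos' x
    simp only [Finsupp.add_apply, single_eq_of_ne hx, zero_add] at h1 h2
    by_cases hxj : x = j
    · rw [single_eq_of_ne (hxj ▸ hjj'.symm : x ≠ j')] at h2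
      simpa using h2
    · rw [single_eq_of_ne hxj] at h1
      simpa using h1
  rw [← Finset.add_sum_erase _ _ (Finset.mem_univ i), hαi] at hα
  have hsum : ∑ x ∈ Finset.univ.erase i, α x = 1 := by omega
  obtain ⟨l, hl, hl0⟩ := Finset.exists_ne_zero_of_sum_ne_zero (by rw [hsum]; exact one_ne_zero)
  have hli : l ≠ i := Finset.ne_of_mem_erase hl
  have hge : 1 ≤ α l := by have := hnn l hli; omega
  have hrest : ∀ x ∈ (Finset.univ.erase i).erase l, 0 ≤ α x := fun x hx =>
    hnn x (Finset.ne_of_mem_erase (Finset.mem_of_mem_erase hx))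
  rw [← Finset.add_sum_erase _ _ hl] at hsum
  have h0 := Finset.sum_nonneg hrest
  have hz := (Finset.sum_eq_zero_iff_of_nonneg hrest).1 (by omega)
  refine ⟨l, fun hlA => ?_, funext fun x => ?_, hall⟩
  · have h1 := cast_shift hpos l
    rw [hA l hlA] at h1
    simp [single_eq_of_ne hli] at h1
    omega
  · rcases eq_or_ne x i with rfl | hxi
    · simp [mv, hαi, hli.symm]
    · rcases eq_or_ne x l with rfl | hxl
      · simp [mv, hxi]; omega
      · simp [mv, hxi, hxl, hz x (by simp [hxi, hxl])]

/-- The motion of `i` towards `l` gives a homomorphism. -/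
theorem exists_hom {A B : Finset σ} (hAB : Disjoint A B) {i l j : σ} (hi : i ∈ A) (hl : l ∉ A) (hj : j ∈ B) :
    ∃ c ∈ CSp (prodIdeal k A B) (mv i l), c (single i 1 + single j 1) = 1 := by
  classical
  refine ⟨_, indicator_mem_CSp (mv i l) (fun _ => True) fun β hβ x hx => ?_, if_pos ⟨?_, ?_, ?_, trivial⟩⟩
  · simp only [true_and]
    refine ⟨fun hp => ?_, fun hp => hp.mono (le_add_of_nonneg_right (zero_le (α := σ →₀ ℕ)))⟩
    intro y
    rcases eq_or_ne y i with rfl | hyi
    · by_contra hn
      obtain ⟨a, ha, b, hb, h1, h2⟩ := (mem_exps hAB _).1 hβ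
      have hli : l ≠ y := fun h => hl (h ▸ hi)
      have hβy : β y = 0 := by simp [mv, hli.symm] at hn; omega
      refine hx ((mem_exps hAB _).2 ⟨a, ha, b, hb, ?_, ?_⟩)
      · have := cast_shift hp a
        simp [mv, show a ≠ l from fun h => hl (h ▸ ha), show a ≠ y from fun h => by subst h; omega] at this
        omega
      · have := cast_shift hp b
        simp [mv, show b ≠ y from fun h => by subst h; omega] at this
        split_ifs at this <;> omega
    · simp [mv, hyi]; split_ifs <;> omega
  · exact (mem_exps hAB _).2 ⟨i, hi, j, hj, by simp, by simp⟩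
  · intro y
    have hli : i ≠ l := fun h => hl (h ▸ hi)
    rcases eq_or_ne y i with rfl | hyi
    · simp [mv, hli]
    · simp [mv, hyi]; split_ifs <;> omega
  · rw [mem_exps hAB]
    rintro ⟨a, ha, b, -, h1, -⟩
    rw [shift_apply] at h1
    have hal : a ≠ l := fun h => hl (h ▸ ha)
    have haj : a ≠ j := fun h => Finset.disjoint_left.1 hAB ha (h ▸ hj)
    rcases eq_or_ne a i with rfl | hai
    · simp [mv, hal, single_eq_of_ne haj] at h1
    · simp [mv, hal, hai, single_eq_of_ne hai, single_eq_of_ne haj] at h1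

theorem prodIdeal_comm (A B : Finset σ) : prodIdeal k A B = prodIdeal k B A := by
  refine congrArg (fun s => Ideal.span ((fun b => monomial b (1 : k)) '' s)) (Set.ext fun b => ?_)
  constructor <;> rintro ⟨⟨i, j⟩, hij, rfl⟩ <;>
    exact ⟨(j, i), by simpa [and_comm] using hij, add_comm _ _⟩

theorem finrank_deg_zero (A B : Finset σ) (hAB : Disjoint A B) (hA : 1 < A.card) (hB : 1 < B.card) :
    Module.finrank k ↥(⨆ α : {α : σ → ℤ // ∑ x, α x = 0}, tPiece (prodIdeal k A B) α.1) =
      A.card * Aᶜ.card + B.card * Bᶜ.card := by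
  classical
  obtain ⟨i₀, hi₀⟩ : A.Nonempty := Finset.card_pos.1 (by omega)
  obtain ⟨j₀, hj₀⟩ : B.Nonempty := Finset.card_pos.1 (by omega)
  let T₁ := (A ×ˢ Aᶜ).image fun p => (mv p.1 p.2, (single p.1 1 + single j₀ 1 : σ →₀ ℕ))
  let T₂ := (B ×ˢ Bᶜ).image fun p => (mv p.1 p.2, (single i₀ 1 + single p.1 1 : σ →₀ ℕ))
  have hne : ∀ {S : Finset σ} {p : σ × σ}, p ∈ S ×ˢ Sᶜ → p.1 ≠ p.2 := fun hp h => by
    rw [Finset.mem_product, Finset.mem_compl, ← h] at hp; exact hp.2 hp.1
  have hcard : (T₁ ∪ T₂).card = A.card * Aᶜ.card + B.card * Bᶜ.card := by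
    rw [Finset.card_union_of_disjoint, Finset.card_image_of_injOn, Finset.card_image_of_injOn,
      Finset.card_product, Finset.card_product]
    · intro p hp q hq h
      obtain ⟨h1, h2⟩ := mv_injective (hne hp) (hne hq) (Prod.ext_iff.1 h).1
      exact Prod.ext h1 h2
    · intro p hp q hq h
      obtain ⟨h1, h2⟩ := mv_injective (hne hp) (hne hq) (Prod.ext_iff.1 h).1
      exact Prod.ext h1 h2
    · rw [Finset.disjoint_left]
      rintro t ht ht'
      obtain ⟨p, hp, rfl⟩ := Finset.mem_image.1 ht
      obtain ⟨q, hq, h⟩ := Finset.mem_image.1 ht'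
      obtain ⟨h1, -⟩ := mv_injective (hne hq) (hne hp) (Prod.ext_iff.1 h).1
      exact Finset.disjoint_left.1 hAB (h1 ▸ (Finset.mem_product.1 hp).1) (Finset.mem_product.1 hq).1
  rw [← hcard]
  refine finrank_iSup_eq_card (isMonomial_span_monomial _) (fun α => ∑ x, α x = 0) _ ?_ ?_ ?_
  · intro t ht
    rcases Finset.mem_union.1 ht with h | h <;> obtain ⟨p, -, rfl⟩ := Finset.mem_image.1 h <;> exact sum_mv _ _
  · intro α hα c hc h0
    refine CSp.eq_zero_of_mins hc fun b hb => by_contra fun hn => ?_
    obtain ⟨i, hi, j, hj, h1, h2⟩ := (mem_exps hAB b).1 hb.1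
    have hij : i ≠ j := fun h => Finset.disjoint_left.1 hAB hi (h ▸ hj)
    have hbe : b = single i 1 + single j 1 := by
      have hle : single i 1 + single j 1 ≤ b := fun x => by
        simp only [Finsupp.add_apply, Finsupp.single_apply]
        split_ifs <;> subst_vars <;> first | exact absurd rfl hij | omega
      exact le_antisymm (hb.2 ((mem_exps hAB _).2 ⟨i, hi, j, hj, by simp, by simp⟩) hle) hle
    subst hbe
    by_cases hγ : ∀ a ∈ A, shift (single i 1 + single j 1) α a = 0
    · obtain ⟨l, hl, rfl, hall⟩ := eq_mv hAB hB hα hc hi hj hn hγ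
      refine hn ((hall j₀ hj₀).symm.trans (h0 _ (Finset.mem_union_left _ (Finset.mem_image.2 ⟨(i, l), ?_, rfl⟩))))
      simp [hi, hl]
    · have hγB : ∀ b ∈ B, shift (single i 1 + single j 1) α b = 0 := fun b hb' => by
        by_contra hne'
        push Not at hγ
        obtain ⟨a, ha, hane⟩ := hγ
        exact (CSp.supp hc hn).2.2 ((mem_exps hAB _).2 ⟨a, ha, b, hb', Nat.one_le_iff_ne_zero.2 hane,
          Nat.one_le_iff_ne_zero.2 hne'⟩)
      obtain ⟨l, hl, rfl, hall⟩ := eq_mv hAB.symm hA hα (show c ∈ CSp (prodIdeal k B A) α by rw [prodIdeal_comm]; exact hc) hj hi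
        (by rwa [add_comm]) (fun x hx => by rw [add_comm]; exact hγB x hx)
      refine hn ?_
      rw [add_comm, ← hall i₀ hi₀, add_comm]
      exact h0 _ (Finset.mem_union_right _ (Finset.mem_image.2 ⟨(j, l), by simp [hj, hl], rfl⟩))
  · intro t ht
    have huniq : ∀ b, (t.1, b) ∈ T₁ ∪ T₂ → b = t.2 := fun b hb => by
      rcases Finset.mem_union.1 ht with h | h <;> rcases Finset.mem_union.1 hb with h' | h' <;>
        obtain ⟨p, hp, rfl⟩ := Finset.mem_image.1 h <;> obtain ⟨q, hq, hh⟩ := Finset.mem_image.1 h' <;>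
        obtain ⟨e1, e2⟩ := Prod.ext_iff.1 hh <;> obtain ⟨h1, -⟩ := mv_injective (hne hq) (hne hp) e1
      · exact (e2.symm.trans (by rw [h1]) :)
      · exact (Finset.disjoint_left.1 hAB (h1 ▸ (Finset.mem_product.1 hp).1) (Finset.mem_product.1 hq).1).elim
      · exact (Finset.disjoint_left.1 hAB (Finset.mem_product.1 hq).1 (h1 ▸ (Finset.mem_product.1 hp).1)).elim
      · exact (e2.symm.trans (by rw [h1]) :)
    obtain ⟨c, hc, hc1⟩ : ∃ c ∈ CSp (prodIdeal k A B) t.1, c t.2 = 1 := by
      rcases Finset.mem_union.1 ht with h | h <;> obtain ⟨p, hp, rfl⟩ := Finset.mem_image.1 h <;>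
        rw [Finset.mem_product, Finset.mem_compl] at hp
      · exact exists_hom hAB hp.1 hp.2 hj₀
      · obtain ⟨c, hc, h1⟩ := exists_hom (k := k) hAB.symm hp.1 hp.2 hi₀
        exact ⟨c, by rw [prodIdeal_comm]; exact hc, (congrArg c (add_comm _ _)).trans h1⟩
    exact ⟨c, hc, hc1, fun b hne' hb => absurd (huniq b hb) hne'⟩

open W4c1hilbpn in
/-- Let k be an algebraically closed field of characteristic different from 2, S = k[x_0, ..., x_n] with
its standard grading, 2 ≤ c ≤ d with n ≥ c + d, and I = (x_0, ..., x_{c-1})·(x_{n-d+1}, ..., x_n),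
the ideal of the union of two coordinate linear spaces of codimensions c and d meeting transversely
and not spanning the ambient space. Then the degree-0 homomorphisms Hom_S(I, S/I)_0 form a space of
dimension c(n-c+1) + d(n-d+1). (The published statement gives this number as the dimension of the
tangent space to the Hilbert scheme at the pair of planes, for every n; the row records the count of
degree-0 homomorphisms in the non-spanning range n ≥ c + d, where that tangent space is Hom_S(I,
S/I)_0.) -/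
theorem result (k : Type u) [Field k] [IsAlgClosed k] (hchar : ringChar k ≠ 2)
    (n c d : ℕ) (hc : 2 ≤ c) (hcd : c ≤ d) (hn : c + d ≤ n) :
    Module.finrank k ↥(⨆ α : {α : Fin (n + 1) → ℤ // ∑ i, α i = 0},
      tPiece (Ideal.span {f : MvPolynomial (Fin (n + 1)) k | ∃ i j : Fin (n + 1), i.val + 1 ≤ c ∧ n + 1 ≤ j.val + d ∧
        f = MvPolynomial.X i * MvPolynomial.X j}) α.1) = c * (n - c + 1) + d * (n - d + 1) := by
    classical
    let A : Finset (Fin (n + 1)) := Finset.univ.filter fun i => i.val + 1 ≤ c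
    let B : Finset (Fin (n + 1)) := Finset.univ.filter fun j => n + 1 ≤ j.val + d
    have hAB : Disjoint A B := Finset.disjoint_filter.2 fun i _ h h' => by omega
    have hAc : A.card = c := by
      refine Eq.trans (congrArg Finset.card (show A = (Finset.univ : Finset (Fin c)).image (Fin.castLE (by omega)) from ?_))
        ((Finset.card_image_of_injective _ (Fin.castLE_injective _)).trans (Finset.card_fin c))
      ext i
      simp only [A, Finset.mem_filter, Finset.mem_univ, true_and, Finset.mem_image]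
      exact ⟨fun h => ⟨⟨i.val, by omega⟩, rfl⟩, by rintro ⟨x, rfl⟩; simp only [Fin.val_castLE]; omega⟩
    have hBc : B.card = d := by
      refine Eq.trans (congrArg Finset.card (show B = (Finset.univ : Finset (Fin d)).image
        (fun x => (⟨n + 1 - d + x.val, by omega⟩ : Fin (n + 1))) from ?_))
        ((Finset.card_image_of_injective _ fun x y h => Fin.ext (by simpa using h)).trans (Finset.card_fin d))
      ext i
      simp only [B, Finset.mem_filter, Finset.mem_univ, true_and, Finset.mem_image]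
      exact ⟨fun h => ⟨⟨i.val + d - (n + 1), by omega⟩, Fin.ext (by simp; omega)⟩, by rintro ⟨x, rfl⟩; simp; omega⟩
    have hI : Ideal.span {f : MvPolynomial (Fin (n + 1)) k | ∃ i j : Fin (n + 1), i.val + 1 ≤ c ∧ n + 1 ≤ j.val + d ∧
        f = MvPolynomial.X i * MvPolynomial.X j} = prodIdeal k A B := by
      refine congrArg Ideal.span (Set.ext fun f => ?_)
      rw [Set.image_image]
      simp only [Set.mem_setOf_eq, Set.mem_image, Finset.mem_coe, Finset.mem_product, Prod.exists, A, B,
        Finset.mem_filter, Finset.mem_univ, true_and, MvPolynomial.X, MvPolynomial.monomial_mul, one_mul,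
        and_assoc, eq_comm (a := f)]
    rw [hI, finrank_deg_zero A B hAB (by omega) (by omega), Finset.card_compl, Finset.card_compl, hAc, hBc,
      Fintype.card_fin, show n + 1 - c = n - c + 1 by omega, show n + 1 - d = n - d + 1 by omega]

end Groth.Agent.S13451
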