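import Groth.Statements.S13455
import Mathlib

set_option autoImplicit false
universe u
open W4c1hilbpn

namespace Groth.Agent.S13455

/-- Let k be an algebraically closed field of characteristic different from 2, k0 ≥ 1 and n ≥ 2k0 - 1
natural numbers, S = k[x_0, ..., x_n], and e1 ≤ e2 ≤ k0 - 1. The ideal generated by all products x_p
x_q with e1 ≤ p, q ≤ e2 together with the products x_p x_{n-k0+1+q} for e1 ≤ p < q ≤ e2 is the
intersection, over j from e1 to e2, of the ideals generated by the variables x_i with e1 ≤ i ≤ e2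
and i ≠ j, the square x_j^2, and the variables x_{n-k0+1+q} for j < q ≤ e2 (a primary decomposition
of this monomial ideal). -/
theorem result (k : Type u) [Field k] [IsAlgClosed k] (hchar : ringChar k ≠ 2)
    (n k0 e1 e2 : ℕ) (hk : 1 ≤ k0) (hn : 2 * k0 ≤ n + 1) (he : e1 ≤ e2) (he2 : e2 + 1 ≤ k0) :
    Ideal.span ({f : MvPolynomial (Fin (n + 1)) k | ∃ p q : Fin (n + 1), e1 ≤ p.val ∧ p.val ≤ e2 ∧ e1 ≤ q.val ∧ q.val ≤ e2 ∧
        f = MvPolynomial.X p * MvPolynomial.X q} ∪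
      {f : MvPolynomial (Fin (n + 1)) k | ∃ p q m : Fin (n + 1), e1 ≤ p.val ∧ p.val < q.val ∧ q.val ≤ e2 ∧
        m.val + k0 = n + 1 + q.val ∧ f = MvPolynomial.X p * MvPolynomial.X m}) =
    ⨅ j : Fin (n + 1), ⨅ (_ : e1 ≤ j.val ∧ j.val ≤ e2),
      Ideal.span ({f : MvPolynomial (Fin (n + 1)) k | ∃ i : Fin (n + 1), e1 ≤ i.val ∧ i.val ≤ e2 ∧ i ≠ j ∧ f = MvPolynomial.X i} ∪
        {MvPolynomial.X j ^ 2} ∪
        {f : MvPolynomial (Fin (n + 1)) k | ∃ q m : Fin (n + 1), j.val < q.val ∧ q.val ≤ e2 ∧ m.val + k0 = n + 1 + q.val ∧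
          f = MvPolynomial.X m}) := by
  classical
  have h2 : ∀ (p q : Fin (n + 1)) (β : Fin (n + 1) →₀ ℕ),
      Finsupp.single p 1 + Finsupp.single q 1 ≤ β ↔ (if p = q then 2 ≤ β p else 1 ≤ β p ∧ 1 ≤ β q) := by
    intro p q β
    split_ifs with h
    · subst h
      rw [← Finsupp.single_add, Finsupp.single_le_iff]
    · constructor
      · intro hle
        have h1 := hle p; have h2 := hle q
        simp [Finsupp.single_apply, h, Ne.symm h] at h1 h2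
        omega
      · intro ⟨h1, h2⟩ l
        simp only [Finsupp.add_apply, Finsupp.single_apply]
        split_ifs with a b b
        · exact absurd (a.trans b.symm) h
        · subst a; simpa using h1
        · subst b; simpa using h2
        · exact Nat.zero_le _
  set S : Set (Fin (n + 1) →₀ ℕ) :=
    {s | ∃ p q : Fin (n + 1), e1 ≤ p.val ∧ p.val ≤ e2 ∧ e1 ≤ q.val ∧ q.val ≤ e2 ∧ s = Finsupp.single p 1 + Finsupp.single q 1} ∪
    {s | ∃ p q m : Fin (n + 1), e1 ≤ p.val ∧ p.val < q.val ∧ q.val ≤ e2 ∧ m.val + k0 = n + 1 + q.val ∧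
      s = Finsupp.single p 1 + Finsupp.single m 1} with hS
  set R : Fin (n + 1) → Set (Fin (n + 1) →₀ ℕ) := fun j =>
    {s | ∃ i : Fin (n + 1), e1 ≤ i.val ∧ i.val ≤ e2 ∧ i ≠ j ∧ s = Finsupp.single i 1} ∪
    {Finsupp.single j 2} ∪
    {s | ∃ q m : Fin (n + 1), j.val < q.val ∧ q.val ≤ e2 ∧ m.val + k0 = n + 1 + q.val ∧ s = Finsupp.single m 1} with hR
  have hmul : ∀ p q : Fin (n + 1), (MvPolynomial.X p * MvPolynomial.X q : MvPolynomial (Fin (n + 1)) k) =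
      MvPolynomial.monomial (Finsupp.single p 1 + Finsupp.single q 1) 1 := fun p q => by
    simp [MvPolynomial.X, MvPolynomial.monomial_mul]
  have hXsq : ∀ j : Fin (n + 1), (MvPolynomial.X j ^ 2 : MvPolynomial (Fin (n + 1)) k) =
      MvPolynomial.monomial (Finsupp.single j 2) 1 := fun j => MvPolynomial.X_pow_eq_monomial
  have hl : Ideal.span ((fun s => MvPolynomial.monomial s (1 : k)) '' S) = Ideal.span
      ({f : MvPolynomial (Fin (n + 1)) k | ∃ p q : Fin (n + 1), e1 ≤ p.val ∧ p.val ≤ e2 ∧ e1 ≤ q.val ∧ q.val ≤ e2 ∧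
          f = MvPolynomial.X p * MvPolynomial.X q} ∪
        {f : MvPolynomial (Fin (n + 1)) k | ∃ p q m : Fin (n + 1), e1 ≤ p.val ∧ p.val < q.val ∧ q.val ≤ e2 ∧
          m.val + k0 = n + 1 + q.val ∧ f = MvPolynomial.X p * MvPolynomial.X m}) := by
    congr 1
    ext f
    simp only [hS, Set.image_union, Set.mem_union, Set.mem_image, Set.mem_setOf_eq, hmul]
    constructor
    · rintro (⟨s, ⟨p, q, a, b, c, d, rfl⟩, rfl⟩ | ⟨s, ⟨p, q, m, a, b, c, d, rfl⟩, rfl⟩)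
      · exact Or.inl ⟨p, q, a, b, c, d, rfl⟩
      · exact Or.inr ⟨p, q, m, a, b, c, d, rfl⟩
    · rintro (⟨p, q, a, b, c, d, rfl⟩ | ⟨p, q, m, a, b, c, d, rfl⟩)
      · exact Or.inl ⟨_, ⟨p, q, a, b, c, d, rfl⟩, rfl⟩
      · exact Or.inr ⟨_, ⟨p, q, m, a, b, c, d, rfl⟩, rfl⟩
  have hr : ∀ j, Ideal.span ((fun s => MvPolynomial.monomial s (1 : k)) '' R j) = Ideal.span
      ({f : MvPolynomial (Fin (n + 1)) k | ∃ i : Fin (n + 1), e1 ≤ i.val ∧ i.val ≤ e2 ∧ i ≠ j ∧ f = MvPolynomial.X i} ∪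
        {MvPolynomial.X j ^ 2} ∪
        {f : MvPolynomial (Fin (n + 1)) k | ∃ q m : Fin (n + 1), j.val < q.val ∧ q.val ≤ e2 ∧ m.val + k0 = n + 1 + q.val ∧
          f = MvPolynomial.X m}) := by
    intro j
    congr 1
    ext f
    simp only [hR, Set.image_union, Set.image_singleton, Set.mem_union, Set.mem_image, Set.mem_setOf_eq,
      Set.mem_singleton_iff, hXsq]
    constructor
    · rintro ((⟨s, ⟨i, a, b, c, rfl⟩, rfl⟩ | h) | ⟨s, ⟨q, m, a, b, c, rfl⟩, rfl⟩)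
      · exact Or.inl (Or.inl ⟨i, a, b, c, rfl⟩)
      · exact Or.inl (Or.inr h)
      · exact Or.inr ⟨q, m, a, b, c, rfl⟩
    · rintro ((⟨i, a, b, c, rfl⟩ | h) | ⟨q, m, a, b, c, rfl⟩)
      · exact Or.inl (Or.inl ⟨_, ⟨i, a, b, c, rfl⟩, rfl⟩)
      · exact Or.inl (Or.inr h)
      · exact Or.inr ⟨_, ⟨q, m, a, b, c, rfl⟩, rfl⟩
  rw [← hl]
  simp_rw [← hr]
  ext f
  simp only [Ideal.mem_iInf, MvPolynomial.mem_ideal_span_monomial_image]
  constructor
  · intro hf j hj β hβ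
    obtain ⟨s, hs, hle⟩ := hf β hβ
    rcases hs with ⟨p, q, a1, a2, b1, b2, rfl⟩ | ⟨p, q, m, a1, a2, a3, a4, rfl⟩
    · by_cases hp : p = j
      · by_cases hq : q = j
        · refine ⟨_, Or.inl (Or.inr rfl), ?_⟩
          subst hp hq
          rwa [← Finsupp.single_add] at hle
        · exact ⟨_, Or.inl (Or.inl ⟨q, b1, b2, hq, rfl⟩), le_trans (le_add_of_nonneg_left (zero_le (α := Fin (n + 1) →₀ ℕ))) hle⟩
      · exact ⟨_, Or.inl (Or.inl ⟨p, a1, a2, hp, rfl⟩), le_trans (le_add_of_nonneg_right (zero_le (α := Fin (n + 1) →₀ ℕ))) hle⟩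
    · by_cases hp : p = j
      · subst hp
        exact ⟨_, Or.inr ⟨q, m, a2, a3, a4, rfl⟩, le_trans (le_add_of_nonneg_left (zero_le (α := Fin (n + 1) →₀ ℕ))) hle⟩
      · exact ⟨_, Or.inl (Or.inl ⟨p, a1, by omega, hp, rfl⟩), le_trans (le_add_of_nonneg_right (zero_le (α := Fin (n + 1) →₀ ℕ))) hle⟩
  · intro hf β hβ
    have hlast : e2 < n + 1 := by omega
    have key := fun (j : Fin (n + 1)) hj => hf j hj β hβ
    obtain ⟨p, hp1, hp2, hpβ⟩ : ∃ p : Fin (n + 1), e1 ≤ p.val ∧ p.val ≤ e2 ∧ 1 ≤ β p := by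
      obtain ⟨s, hs, hle⟩ := key ⟨e2, hlast⟩ ⟨he, le_rfl⟩
      rcases hs with (⟨i, a, b, -, rfl⟩ | rfl) | ⟨q, m, a, b, -, rfl⟩
      · exact ⟨i, a, b, Finsupp.single_le_iff.mp hle⟩
      · exact ⟨_, he, le_rfl, le_trans (by omega) (Finsupp.single_le_iff.mp hle)⟩
      · simp at a; omega
    obtain ⟨s, hs, hle⟩ := key p ⟨hp1, hp2⟩
    rcases hs with (⟨i, a, b, hne, rfl⟩ | rfl) | ⟨q, m, a, b, c, rfl⟩
    · refine ⟨_, Or.inl ⟨p, i, hp1, hp2, a, b, rfl⟩, (h2 p i β).mpr ?_⟩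
      rw [if_neg (Ne.symm hne)]
      exact ⟨hpβ, Finsupp.single_le_iff.mp hle⟩
    · refine ⟨_, Or.inl ⟨p, p, hp1, hp2, hp1, hp2, rfl⟩, (h2 p p β).mpr ?_⟩
      rw [if_pos rfl]
      exact Finsupp.single_le_iff.mp hle
    · refine ⟨_, Or.inr ⟨p, q, m, hp1, a, b, c, rfl⟩, (h2 p m β).mpr ?_⟩
      rw [if_neg (fun h => by subst h; omega)]
      exact ⟨hpβ, Finsupp.single_le_iff.mp hle⟩

end Groth.Agent.S13455
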