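import Groth.Statements.S13458
import Groth.Agent.GenDiff29.Final
import Mathlib.RingTheory.Etale.Field

set_option autoImplicit false
universe u
open CategoryTheory CategoryTheory.Limits AlgebraicGeometry TopologicalSpace
open SmVar

namespace Groth.Agent.S13458

/-- Let k be a field, X and Y integral schemes each smooth over Spec k and of the same dimension, and φ
: X → Y a morphism over k which is dominant and separable: the residue field of X at its generic
point is a separable algebraic extension of the residue field of Y at the image point (the function
field of Y, as φ is dominant). Let Ω_Y and Ω_X be sheaves of differentials of Y and of X over k,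
given as universal derivations, and c : φ^*Ω_Y → Ω_X the compatible map (it sends the pullback of
d_Y s to d_X(φ^♯ s)). Then c is a monomorphism of O_X-modules, so the relative cotangent sequence of
φ is exact on the left as well. (The injectivity is what is stated here; the identification of the
cokernel with Ω_{X/Y} is the general cotangent sequence.) -/
theorem result (k : Type u) [Field k] {X Y : Scheme.{u}}
    (pX : X ⟶ Spec (CommRingCat.of k)) (pY : Y ⟶ Spec (CommRingCat.of k)) (φ : X ⟶ Y) (w : φ ≫ pY = pX)
    [IsIntegral X] [IsIntegral Y] [Smooth pX] [Smooth pY]
    (hdim : topologicalKrullDim X = topologicalKrullDim Y) (hdom : DenseRange φ.base)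
    (hsep : letI := (φ.residueFieldMap (genericPoint X)).hom.toAlgebra
      Algebra.IsSeparable (Y.residueField (φ.base (genericPoint X))) (X.residueField (genericPoint X)))
    (ΩY : Y.Modules) (dY : OmegaSh.Der pY ΩY) (hY : OmegaSh.IsUniversal dY)
    (ΩX : X.Modules) (dX : OmegaSh.Der pX ΩX) (hX : OmegaSh.IsUniversal dX)
    (c : (Scheme.Modules.pullback φ).obj ΩY ⟶ ΩX) (hc : OmegaSh.IsDiffCompat φ dY dX c) :
    Mono c := by
  subst w
  haveI : IsLocallyNoetherian Y := LocallyOfFiniteType.isLocallyNoetherian pY
  haveI : LocallyOfFiniteType φ := locallyOfFiniteType_of_comp φ pY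
  haveI : LocallyOfFinitePresentation φ := inferInstance
  haveI : IsDominant φ := ⟨hdom⟩
  have hη := GenDiff29.genericPoint_eq_of_isDominant φ
  have hs : genericPoint X ∈ φ.smoothLocus := by
    rw [Scheme.Hom.mem_smoothLocus]
    let eY : Y.presheaf.stalk (φ (genericPoint X)) ≃+* Y.residueField (φ (genericPoint X)) :=
      RingEquiv.ofBijective (Y.residue _).hom
        ⟨by
          letI := (GenDiff29.isField_stalk_of_eq hη).toField
          exact RingHom.injective _, Scheme.residue_surjective _ _⟩
    let eX : X.presheaf.stalk (genericPoint X) ≃+* X.residueField (genericPoint X) :=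
      RingEquiv.ofBijective (X.residue _).hom
        ⟨by
          letI := (GenDiff29.isField_stalk_of_eq (rfl : genericPoint X = genericPoint X)).toField
          exact RingHom.injective _, Scheme.residue_surjective _ _⟩
    letI := (φ.residueFieldMap (genericPoint X)).hom.toAlgebra
    haveI : Algebra.IsSeparable (Y.residueField (φ (genericPoint X))) (X.residueField (genericPoint X)) := hsep
    haveI := Algebra.FormallyEtale.of_isSeparable (Y.residueField (φ (genericPoint X))) (X.residueField (genericPoint X))
    have h1 : (φ.residueFieldMap (genericPoint X)).hom.FormallySmooth :=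
      (inferInstance : Algebra.FormallySmooth (Y.residueField (φ (genericPoint X))) (X.residueField (genericPoint X)))
    have e : (φ.stalkMap (genericPoint X)).hom =
        eX.symm.toRingHom.comp ((φ.residueFieldMap (genericPoint X)).hom.comp eY.toRingHom) := by
      refine RingHom.ext fun a => ?_
      refine eX.injective ?_
      simp only [RingHom.comp_apply, RingEquiv.toRingHom_eq_coe, RingHom.coe_coe, RingEquiv.apply_symm_apply]
      exact (DFunLike.congr_fun (congrArg CommRingCat.Hom.hom (Scheme.residue_residueFieldMap φ (genericPoint X))) a).symm
    rw [e]
    exact RingHom.FormallySmooth.respectsIso.1 _ eX.symm (RingHom.FormallySmooth.respectsIso.2 _ eY h1)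
  have hF : FlatMod.IsFinLocFree ΩY := S5018.result pY ((S1488.result pY).1 inferInstance).2 ΩY dY hY
  exact GenDiff29.mono_of_generic (KFlatLib.isFinLocFree_pullback φ hF) c
    (GenDiff29.injective_stalk φ pY hY hX hc _ hs)

end Groth.Agent.S13458
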