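import Groth.Statements.S13460
import Groth.Agent.DivX.CodimOne

set_option autoImplicit false
universe u
open CategoryTheory CategoryTheory.Limits AlgebraicGeometry TopologicalSpace
open WDiv

namespace Groth.Agent.S13460

/-- Let A be a Noetherian integral domain which is a unique factorization domain, and X = Spec A. Then
the divisor class group of X vanishes: every Weil divisor D on X, an integer-valued function on the
points of X with finite support inside the points of coheight 1 (codimension one), is the divisor of
a nonzero rational function f on X, i.e. the order of vanishing of f at every point x of coheight 1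
is D(x). (The published statement assumes only that A is a unique factorization domain; this row
also assumes A Noetherian.) -/
theorem result (A : Type u) [CommRing A] [IsDomain A] [IsNoetherianRing A]
    [UniqueFactorizationMonoid A]
    (D : ↥(Spec (CommRingCat.of A)) → ℤ) (hD : ∀ x, Order.coheight x ≠ 1 → D x = 0) (hfin : {x | D x ≠ 0}.Finite) :
    ∃ f : ↑(Spec (CommRingCat.of A)).functionField, f ≠ 0 ∧
      ∀ x : ↥(Spec (CommRingCat.of A)), Order.coheight x = 1 → Scheme.ord f x = D x := by
  classical
  let R := CommRingCat.of A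
  haveI : IsNoetherianRing R := ‹IsNoetherianRing A›
  haveI : IsDomain R := ‹IsDomain A›
  haveI : Nonempty ((⊤ : (Spec R).Opens) : Scheme) := ⟨⟨(inferInstance : Nonempty (Spec R)).some, trivial⟩⟩
  letI algS : ∀ x : Spec R, Algebra A ((Spec R).presheaf.stalk x) := fun x =>
    (inferInstance : Algebra R ((Spec.structureSheaf R).presheaf.stalk x))
  haveI locS : ∀ x : Spec R, @IsLocalization.AtPrime A _ ((Spec R).presheaf.stalk x) _ (algS x) x.asIdeal _ := fun x =>
    inferInstanceAs (IsLocalization.AtPrime ((Spec.structureSheaf R).presheaf.stalk x) x.asIdeal)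
  let g : A →+* (Spec R).functionField :=
    ((Spec R).germToFunctionField ⊤).hom.comp (Scheme.ΓSpecIso R).inv.hom
  have hg : ∀ a : A, a ≠ 0 → g a ≠ 0 := fun a ha h => ha
    ((Scheme.ΓSpecIso R).commRingCatIsoToRingEquiv.symm.injective
      (Scheme.germToFunctionField_injective (Spec R) ⊤ (h.trans (map_zero _).symm) |>.trans (map_zero _).symm))
  have hst : ∀ (x : Spec R) (a : A), algebraMap ((Spec R).presheaf.stalk x) (Spec R).functionField
      (algebraMap A ((Spec R).presheaf.stalk x) a) = g a := fun x a =>
    (Scheme.algebraMap_germ_eq_germToFunctionField (X := Spec R) (U := ⊤) trivial _)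
  have hht : ∀ x : Spec R, Order.coheight x = 1 → x.asIdeal.height = 1 := fun x hx => by
    have h1 := ringKrullDim_stalk_eq_coheight (X := Spec R) x
    rw [IsLocalization.AtPrime.ringKrullDim_eq_height x.asIdeal ((Spec R).presheaf.stalk x), hx] at h1
    exact_mod_cast h1
  have hp : ∀ x : Spec R, ∃ π : A, π ≠ 0 ∧ (Order.coheight x = 1 → x.asIdeal = Ideal.span {π}) := fun x => by
    by_cases hx : Order.coheight x = 1
    · obtain ⟨π, hπ, e⟩ := Groth.Agent.DivX.exists_prime_span_of_height_one (A := A) x.asIdeal (hht x hx)
      exact ⟨π, hπ.ne_zero, fun _ => e⟩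
    · exact ⟨1, one_ne_zero, fun h => absurd h hx⟩
  choose π hπ0 hπ using hp
  have key : ∀ x y : Spec R, Order.coheight x = 1 → Order.coheight y = 1 →
      Scheme.ord (g (π x)) y = if x = y then 1 else 0 := by
    intro x y hx hy
    rw [Scheme.ord_eq_iff hy (hg _ (hπ0 x)), ← hst y]
    haveI : Ring.KrullDimLE 1 ((Spec R).presheaf.stalk y) := krullDimLE_of_coheight_le hy.le
    have hne : algebraMap A ((Spec R).presheaf.stalk y) (π x) ≠ 0 := fun h => hg _ (hπ0 x) (by
      rw [← hst y]; exact (congrArg _ h).trans (map_zero _))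
    change Ring.ordFrac ((Spec R).presheaf.stalk y) _ = _
    refine (Ring.ordFrac_eq_ord (R := (Spec R).presheaf.stalk y) hne).trans ?_
    refine (Ring.ordMonoidWithZeroHom_eq_coe _ (mem_nonZeroDivisors_of_ne_zero hne)
      (n := if x = y then 1 else 0) ?_).trans (by split_ifs <;> rfl)
    split_ifs with hxy
    · subst hxy
      rw [Ring.ord, Nat.cast_one, Module.length_eq_one_iff]
      haveI hmax : (Ideal.span {algebraMap A ((Spec R).presheaf.stalk x) (π x)}).IsMaximal := by
        rw [← Set.image_singleton, ← Ideal.map_span, ← hπ x hx,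
          IsLocalization.AtPrime.map_eq_maximalIdeal x.asIdeal ((Spec R).presheaf.stalk x)]
        exact IsLocalRing.maximalIdeal.isMaximal _
      rw [isSimpleModule_iff_isSimpleModule_of_algebraMap_surjective
        (S := ((Spec R).presheaf.stalk x) ⧸ Ideal.span {algebraMap A ((Spec R).presheaf.stalk x) (π x)})
        Ideal.Quotient.mk_surjective]
      letI := Ideal.Quotient.field (Ideal.span {algebraMap A ((Spec R).presheaf.stalk x) (π x)})
      exact instIsSimpleModule _
    · rw [Nat.cast_zero]
      refine Ring.ord_of_isUnit (IsLocalization.map_units _ (⟨π x, fun hmem => hxy ?_⟩ : y.asIdeal.primeCompl))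
      refine PrimeSpectrum.ext (le_antisymm ?_ fun a ha => ?_)
      · rw [hπ x hx, Ideal.span_singleton_le_iff_mem]; exact hmem
      · by_contra hax
        have hle : x.asIdeal ≤ y.asIdeal := by rw [hπ x hx, Ideal.span_singleton_le_iff_mem]; exact hmem
        have hlt : x.asIdeal < y.asIdeal := lt_of_le_of_ne hle fun e => hax (e ▸ ha)
        haveI : x.asIdeal.FiniteHeight := ⟨Or.inr (by rw [hht x hx]; simp)⟩
        haveI : y.asIdeal.FiniteHeight := ⟨Or.inr (by rw [hht y hy]; simp)⟩
        have h := Ideal.height_strict_mono_of_isPrime hlt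
        rw [hht x hx, hht y hy] at h
        exact lt_irrefl _ h
  have hz : ∀ (a : (Spec R).functionField), a ≠ 0 → ∀ (n : ℤ) (y : Spec R),
      Scheme.ord (a ^ n) y = n * Scheme.ord a y := fun a ha n y => by
    have hone : Scheme.ord (1 : (Spec R).functionField) y = 0 := by
      have := Scheme.ord_mul (x := y) (one_ne_zero (α := (Spec R).functionField)) one_ne_zero
      rw [one_mul] at this
      omega
    induction n using Int.induction_on with
    | zero => rw [zpow_zero, hone, zero_mul]
    | succ n ih => rw [zpow_add_one₀ ha, Scheme.ord_mul (zpow_ne_zero _ ha) ha, ih]; ring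
    | pred n ih =>
      have := Scheme.ord_mul (x := y) (zpow_ne_zero (-(n : ℤ) - 1) ha) ha
      rw [← zpow_add_one₀ ha, sub_add_cancel, ih] at this
      linarith
  have hfne : ∀ s : Finset (Spec R), ∏ x ∈ s, g (π x) ^ D x ≠ 0 := fun s =>
    Finset.prod_ne_zero_iff.2 fun x _ => zpow_ne_zero _ (hg _ (hπ0 x))
  refine ⟨∏ x ∈ hfin.toFinset, g (π x) ^ D x, hfne _, fun y hy => ?_⟩
  have hsum : ∀ s : Finset (Spec R), (∀ x ∈ s, Order.coheight x = 1) →
      Scheme.ord (∏ x ∈ s, g (π x) ^ D x) y = if y ∈ s then D y else 0 := by
    intro s hs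
    induction s using Finset.induction with
    | empty => simpa using (hz 1 one_ne_zero 0 y)
    | insert a t hat ih =>
      rw [Finset.prod_insert hat, Scheme.ord_mul (zpow_ne_zero _ (hg _ (hπ0 a))) (hfne t), hz _ (hg _ (hπ0 a)),
        key a y (hs a (Finset.mem_insert_self a t)) hy, ih fun x hx => hs x (Finset.mem_insert_of_mem hx)]
      by_cases hay : a = y
      · subst hay; simp [hat]
      · simp [hay, Ne.symm hay]
  rw [hsum _ fun x hx => by_contra fun h => (hfin.mem_toFinset.1 hx) (hD x h)]
  split_ifs with h
  · rfl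
  · exact (not_not.1 (fun h' => h (hfin.mem_toFinset.2 h'))).symm

end Groth.Agent.S13460
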