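import Groth.Statements.S13461
import Groth.Agent.CurveVA.Vanish
import Groth.Agent.CurveBC.Main
import Groth.Agent.H28.KPn
import Groth.Agent.H9Misc.HypCoh
import Groth.Agent.PnCoh.PushNat

set_option autoImplicit false
set_option backward.isDefEq.respectTransparency false
set_option backward.isDefEq.respectTransparency.types false
set_option linter.style.haveILetI false
set_option maxHeartbeats 1000000
universe u
open CategoryTheory CategoryTheory.Limits AlgebraicGeometry TopologicalSpace
open Curves

namespace Groth.Agent.S13461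

/-- Let k be a field and X a smooth proper geometrically connected curve over k (proper, smooth and
geometrically connected over k, of dimension one) of genus dim_k H^1(X, O_X) = 4, and let i : X →
P^3_k be a closed immersion over k whose pullback of O(1) is isomorphic to the sheaf of
differentials Ω_{X/k} (X is canonically embedded, hence not hyperelliptic). Then X lies on a quadric
surface: there is a nonzero global section Q of O_{P^3_k}(2) whose pullback along i is the zero
section of i^*O(2). (The published statement goes on to assert that X is the complete intersection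
of such a quadric with a cubic surface; this row states only the existence of the quadric.) -/
theorem result (k : Type u) [Field k] (X : Scheme.{u}) [X.Over (Spec (CommRingCat.of k))]
    [IsProper (X ↘ (Spec (CommRingCat.of k)))] [Smooth (X ↘ (Spec (CommRingCat.of k)))] [GeometricallyConnected (X ↘ (Spec (CommRingCat.of k)))]
    (hdim : topologicalKrullDim X = 1) (hg : Curv2.genus k X = 4)
    (i : X ⟶ CohB1.ProjSpace 3 k) [IsClosedImmersion i] (hi : i ≫ CohB1.ProjSpace.toSpec 3 k = X ↘ (Spec (CommRingCat.of k)))
    (hcan : Nonempty ((Scheme.Modules.pullback i).obj (Twist.twistProjSpace 3 k 1) ≅ Omega.sheaf (X ↘ (Spec (CommRingCat.of k))))) :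
    ∃ Q : Γ(Twist.twistProjSpace 3 k 2, ⊤), Q ≠ 0 ∧
      OmegaSh.pullSect i (Twist.twistProjSpace 3 k 2) ⊤ Q = 0 := by
  obtain ⟨c⟩ := hcan
  have h0 := Groth.Agent.CurveBC.finrank_h0_of_geometricallyConnected k X
  haveI := Groth.Agent.CurveBC.isIntegral_of_h0 k X h0
  haveI := Groth.Agent.CurveCohLib.isNoetherian_of_proper (k := k) (X := X)
  let P := CohB1.ProjSpace 3 k
  let O1 := Twist.twistProjSpace 3 k 1
  let O2 := Twist.twistProjSpace 3 k 2
  have hΩ := Groth.Agent.CurveBC.isInvertible_omega k X hdim h0
  have hL : PicF.IsInvertible ((Scheme.Modules.pullback i).obj O2) :=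
    Groth.Agent.PicClLib.isInvertible_pullback i (Groth.Agent.H28.KPn.inv_tw k 3 2)
  -- the degree of the pullback of `O(2)`
  have hd : Curv2.deg k X ((Scheme.Modules.pullback i).obj O2) 1 = 12 := by
    obtain ⟨t⟩ := Groth.Agent.H28.KPn.tw_add k 3 1 1
    obtain ⟨e⟩ := Groth.Agent.H23.PicMul.pull i O1 O1
    let ψ := (Scheme.Modules.pullback i).mapIso
      (t ≪≫ eqToIso (congrArg (Twist.twistProjSpace 3 k) (show (1 : ℤ) + 1 = 2 by norm_num)))
    have h1 := Groth.Agent.CurveRR.deg_congr k (ψ.symm ≪≫ e) 1
    have h2 := Groth.Agent.CurveRR.deg_tensor k hdim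
      (Groth.Agent.H23.PicMul.isInvertible_of_iso c.symm hΩ) (Groth.Agent.H23.PicMul.isInvertible_of_iso c.symm hΩ)
    have h3 := (Groth.Agent.CurveRR.deg_congr k c 1).trans
      (Groth.Agent.CurveBC.canonical_invariants k X hdim h0).2
    rw [hg] at h3
    refine h1.trans (h2.trans ?_)
    rw [h3]; norm_num
  -- nine sections on the curve
  have h9 : Module.finrank k (Coh.HH X ((Scheme.Modules.pullback i).obj O2) 0) = 9 := by
    haveI := Groth.Agent.CurveVA.subsingleton_h1_of_deg k hdim h0 hL (by rw [hd, hg]; norm_num)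
    have e1 := Groth.Agent.CurveRR.euler_eq_h0_sub_h1 k hdim.le (Groth.Agent.ProjUPX.isQCoh_of_isInvertible hL)
    have e2 := Groth.Agent.CurveRR.euler_eq_h0_sub_h1 k hdim.le (Groth.Agent.QCoh.isQCoh_structureModule (X := X))
    unfold Curv2.deg at hd
    rw [e1, e2, h0, Module.finrank_zero_of_subsingleton (M := Coh.HH X ((Scheme.Modules.pullback i).obj O2) 1),
      show Module.finrank k (Coh.HH X (Coh.structureModule X) 1) = 4 from hg] at hd
    omega
  have h10 : Module.finrank k (Coh.HH P O2 0) = 10 :=
    (Groth.Agent.H9Misc.HypCoh.finrank_H0 (F := k) (N := 3) 2 (by norm_num)).trans rfl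
  -- the kernel of the restriction
  let η := (Scheme.Modules.pullbackPushforwardAdjunction i).unit.app O2
  obtain ⟨el⟩ := Groth.Agent.PnCoh.exists_linearEquiv_push k i hi
    (Groth.Agent.ProjUPX.isQCoh_of_isInvertible hL) 0
  let ρ : Coh.HH P O2 0 →ₗ[k] Coh.HH X ((Scheme.Modules.pullback i).obj O2) 0 :=
    el.symm.toLinearMap.comp (Groth.Agent.PnCoh.Finite.mapLin k η 0)
  haveI : Module.Finite k (Coh.HH P O2 0) := Module.finite_of_finrank_eq_succ h10
  haveI : Module.Finite k (Coh.HH X ((Scheme.Modules.pullback i).obj O2) 0) :=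
    Groth.Agent.CurveCohLib.finite_HH (k := k) (Groth.Agent.CurveDeg.isCoh_of_isInvertible hL) 0
  have hni : ¬ Function.Injective ρ := fun hinj => by
    have := LinearMap.finrank_le_finrank_of_injective hinj
    omega
  obtain ⟨t, ht, hne⟩ : ∃ t, ρ t = 0 ∧ t ≠ 0 := by
    by_contra hcon
    push Not at hcon
    exact hni ((injective_iff_map_eq_zero ρ).2 hcon)
  have hη : Groth.Agent.PnCoh.Finite.mapLin k η 0 t = 0 :=
    el.symm.injective (ht.trans (map_zero el.symm).symm)
  refine ⟨Sheaf.H.equiv₀ (Coh.toAb O2) Limits.isTerminalTop t, fun h => hne ?_, ?_⟩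
  · exact (Sheaf.H.equiv₀ (Coh.toAb O2) Limits.isTerminalTop).injective (h.trans (map_zero _).symm)
  · refine (Sheaf.H.equiv₀_naturality Limits.isTerminalTop
      ((Groth.Agent.QCoh.toAbFunctor P).map η) t).trans ?_
    exact (congrArg _ hη).trans (map_zero _)

end Groth.Agent.S13461
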