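import Groth.Statements.S13469
import Groth.Agent.CharExtLib.Bridge

set_option autoImplicit false
universe u
open GmDual

namespace Groth.Agent.S13469

open Groth.Agent

open CategoryTheory AlgebraicGeometry MonObj in
/-- Let k be a field and i : H → G a homomorphism of affine commutative k-group schemes of finite type
which is a closed immersion. Then the restriction map Ĝ(k) → Ĥ(k) on characters defined over k
(morphisms of abelian sheaves on the big fppf site of Spec k from the sheaf of points to the
multiplicative group, restricted along i) has finite cokernel: its image is a subgroup of finite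
index. -/
theorem result (k : Type u) [Field k]
    (H G : Over (Spec (CommRingCat.of k))) [GrpObj H] [IsCommMonObj H] [GrpObj G] [IsCommMonObj G]
    [IsAffine H.left] [LocallyOfFiniteType H.hom] [IsAffine G.left] [LocallyOfFiniteType G.hom]
    (i : H ⟶ G) [IsMonHom i] [IsClosedImmersion i.left] :
    (Preadditive.leftComp (CGrpSh2.Gm Scheme.fppfPrecoverage (Spec (CommRingCat.of k)))
      (CGrpSh.ptsMap Scheme.fppfPrecoverage i)).range.FiniteIndex := by

  classical
  obtain ⟨A, B, _, _, _, _, _, _, f, v, hf, hv, hadd, hzero, hgl, hlift⟩ :=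
    CharExtLib.exists_restrict_setup i
  have hnsmul : ∀ (n : ℕ) φ, v (n • φ) = v φ ^ n := fun n φ => by
    induction n with
    | zero => rw [zero_nsmul, hzero, pow_zero]
    | succ n ih => rw [succ_nsmul, hadd, ih, pow_succ]
  haveI : AddGroup.FG (CGrpSh.pts Scheme.fppfPrecoverage H ⟶
      CGrpSh2.Gm Scheme.fppfPrecoverage (Spec (CommRingCat.of k))) := CharExtLib.fg_characters
  haveI : Module.Finite ℤ (CGrpSh.pts Scheme.fppfPrecoverage H ⟶
      CGrpSh2.Gm Scheme.fppfPrecoverage (Spec (CommRingCat.of k))) :=
    Module.Finite.iff_addGroup_fg.2 inferInstance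
  set R := (Preadditive.leftComp (CGrpSh2.Gm Scheme.fppfPrecoverage (Spec (CommRingCat.of k)))
      (CGrpSh.ptsMap Scheme.fppfPrecoverage i)).range
  haveI : Module.Finite ℤ (_ ⧸ R) :=
    Module.Finite.of_surjective (QuotientAddGroup.mk' R).toIntLinearMap (QuotientAddGroup.mk'_surjective R)
  have htor : AddMonoid.IsTorsion (_ ⧸ R) := fun x => by
    induction x using QuotientAddGroup.induction_on with
    | _ φ =>
      obtain ⟨n, a, hn, ha, hfa⟩ := CharExtLib.exists_pow_lift f hf (hgl φ)
      obtain ⟨ψ, hψ⟩ := hlift a ha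
      refine isOfFinAddOrder_iff_nsmul_eq_zero.2 ⟨n, hn, ?_⟩
      rw [← QuotientAddGroup.mk_nsmul, QuotientAddGroup.eq_zero_iff]
      exact ⟨ψ, hv (hψ.trans (hfa.trans (hnsmul n φ).symm))⟩
  haveI : Finite (_ ⧸ R) := AddCommGroup.finite_of_fg_torsion _ htor
  exact AddSubgroup.finiteIndex_of_finite_quotient

end Groth.Agent.S13469
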