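import Groth.Statements.S1347
import Groth.Agent.Triage.CMBC

set_option autoImplicit false
universe u
open FlatMor

set_option backward.isDefEq.respectTransparency false
set_option backward.isDefEq.respectTransparency.types false

namespace Groth.Agent.S1347

open AlgebraicGeometry CategoryTheory Limits in
/-- Let f have locally Noetherian fibres and let f' be its base change along a morphism g locally of
finite type. Given a point x' at which f' is Cohen–Macaulay, with g flat at f'(x'), the morphism f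
is Cohen–Macaulay at the image g'(x') of x'. -/
theorem result {X Y X' Y' : Scheme.{u}} (f : X ⟶ Y) (hN : ∀ y : Y, IsLocallyNoetherian (f.fiber y))
    (f' : X' ⟶ Y') (g' : X' ⟶ X) (g : Y' ⟶ Y) [LocallyOfFiniteType g] (hc : IsPullback g' f' f g) (x' : X')
    (hflat : (g.stalkMap (f' x')).hom.Flat) (h : MoreMor.IsCMAt f' x') : MoreMor.IsCMAt f (g' x') := by
  rw [Triage.CMMor.isCMAt_iff_sm f' x' (f' x') rfl] at h
  rw [Triage.CMMor.isCMAt_iff_sm f (g' x') (f (g' x')) rfl]
  refine ⟨?_, (Triage.CMBC.isCM_fibre_iff hc x' (hN _)).1 h.2⟩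
  have hg' : (g'.stalkMap x').hom.Flat := Triage.CMBC.flat_stalk_of_isPullback hc.flip x' hflat
  have hy : (g' ≫ f) x' = f (g' x') := Scheme.Hom.comp_apply g' f x'
  have h1 : (FibFlat.sm (g' ≫ f) x' (f (g' x')) hy).Flat := by
    rw [FibFlat.sm_congr hc.w x' (f (g' x')) hy]
    rw [FibFlat.sm_flat_iff]
    rw [Scheme.Hom.stalkMap_comp, CommRingCat.hom_comp]
    exact RingHom.Flat.comp hflat ((FibFlat.sm_flat_iff f' x' (f' x') rfl).1 h.1)
  rw [FibFlat.sm_comp g' f x' (g' x') (f (g' x')) rfl rfl] at h1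
  exact Triage.CMMor.flat_of_comp _ _ ((FibFlat.sm_flat_iff g' x' (g' x') rfl).2 hg') h1

end Groth.Agent.S1347
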