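import Groth.Statements.S13470
import Groth.Agent.CharExtLib.Bridge

set_option autoImplicit false
universe u
open GmDual

namespace Groth.Agent.S13470

open Groth.Agent

open CategoryTheory AlgebraicGeometry MonObj in
/-- Let k be an algebraically closed field and i : H → G a homomorphism of affine commutative k-group
schemes of finite type which is a closed immersion. Then the restriction map Ĝ(k) → Ĥ(k) on
characters defined over k (morphisms of abelian sheaves on the big fppf site of Spec k from the
sheaf of points to the multiplicative group, restricted along i) is surjective. -/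
theorem result (k : Type u) [Field k] [IsAlgClosed k]
    (H G : Over (Spec (CommRingCat.of k))) [GrpObj H] [IsCommMonObj H] [GrpObj G] [IsCommMonObj G]
    [IsAffine H.left] [LocallyOfFiniteType H.hom] [IsAffine G.left] [LocallyOfFiniteType G.hom]
    (i : H ⟶ G) [IsMonHom i] [IsClosedImmersion i.left] :
    Function.Surjective (Preadditive.leftComp (CGrpSh2.Gm Scheme.fppfPrecoverage (Spec (CommRingCat.of k)))
      (CGrpSh.ptsMap Scheme.fppfPrecoverage i)) := by

  intro φ
  obtain ⟨A, B, _, _, _, _, _, _, f, v, hf, hv, -, -, hgl, hlift⟩ :=
    CharExtLib.exists_restrict_setup i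
  obtain ⟨a, ha, hfa⟩ := CharExtLib.exists_lift_isAlgClosed f hf (hgl φ)
  obtain ⟨ψ, hψ⟩ := hlift a ha
  exact ⟨ψ, hv (hψ.trans hfa)⟩

end Groth.Agent.S13470
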