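import Groth.Statements.S13475
import Groth.Agent.GaVanish.Main

set_option autoImplicit false
universe u
open GaDual

namespace Groth.Agent.S13475

open Groth.Agent

open CategoryTheory AlgebraicGeometry MonObj CategoryTheory.Limits in
/-- Let k be a field and U a split commutative unipotent k-group, given with a finite filtration by
commutative k-group schemes U₀, …, Uₙ = U with U₀ the trivial sheaf and each Uⱼ → Uⱼ₊₁ → G_a short
exact as abelian sheaves on the big fppf site of Spec k. Then H^i(k, U) = 0 for every i > 0
(cohomology of the sheaf of points of U on the big fppf site). -/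
theorem result (k : Type u) [Field k]
    (n : ℕ) (U : Fin (n + 1) → Over (Spec (CommRingCat.of k))) [∀ j, GrpObj (U j)] [∀ j, IsCommMonObj (U j)]
    (incl : ∀ j : Fin n, U j.castSucc ⟶ U j.succ) (proj : ∀ j : Fin n, U j.succ ⟶ Red.Ga (Spec (CommRingCat.of k)))
    [∀ j, IsMonHom (incl j)] [∀ j, IsMonHom (proj j)] (w : ∀ j, incl j ≫ proj j = 1)
    (hex : ∀ j, (CGrpSh.seq Scheme.fppfPrecoverage (incl j) (proj j) (w j)).ShortExact)
    (h0 : IsZero (CGrpSh.pts Scheme.fppfPrecoverage (U 0)))
    (i : ℕ) (hi : 0 < i) :
    Subsingleton (BigSite.H Scheme.fppfPrecoverage (Spec (CommRingCat.of k)) (CGrpSh.pts Scheme.fppfPrecoverage (U (Fin.last n))) i) := by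

  exact Groth.Agent.GaVanish.subsingleton_H_tower (CommRingCat.of k) n U incl proj w hex h0 i hi (Fin.last n)

end Groth.Agent.S13475
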