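import Groth.Statements.S13482
import Groth.Agent.H9Misc.DerCompPush

set_option autoImplicit false
universe u
open CategoryTheory CategoryTheory.Limits Opposite
attribute [local instance] HasDerivedCategory.standard
open DerComp

namespace Groth.Agent.S13482

/-- Let f be a morphism of ringed sites from (C, O_C) to (D, O_D) whose ring map sends the sheaf of
ideals I of O_D into the sheaf of ideals I' of O_C. If M in D(O_C) is derived complete with respect
to I', then Rf_*M is derived complete with respect to I. (The published statement is for a morphism
of ringed topoi; this row takes a morphism of ringed sites, which induces one.) -/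
theorem result {C D : Type u} [SmallCategory C] [SmallCategory D] {J : GrothendieckTopology C} {K : GrothendieckTopology D} {O_C : Sheaf J CommRingCat.{u}} {O_D : Sheaf K CommRingCat.{u}} (f : ModSite.RMor O_C O_D) [SiteCmp.HasRpushD f] (I : DerComp.IdealSh O_D) (I' : DerComp.IdealSh O_C) (hf : DerComp.RMapsIdealInto f I I') (M : DerivedCategory (ModSite.Mod O_C)) (hM : DerComp.IsDerComp O_C I' M) : DerComp.IsDerComp O_D I ((SiteCmp.RpushD f).obj M) := by
  refine (Groth.Agent.H9Misc.DerCompTel.isDerComp_iff I _).2 fun V a ha => ?_
  exact Groth.Agent.H9Misc.DerCompPush.tbOn_RpushD f M V a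
    ((Groth.Agent.H9Misc.DerCompTel.isDerComp_iff I' M).1 hM _ _ (hf V a ha))

end Groth.Agent.S13482
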