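import Groth.Statements.S13487
import Groth.Agent.H9Misc.DerCompIdeal

set_option autoImplicit false
universe u
open CategoryTheory CategoryTheory.Limits Opposite
attribute [local instance] HasDerivedCategory.standard
open DerComp

namespace Groth.Agent.S13487

/-- On a ringed site (C, O), for K in D(O) the rule sending an object U to the set of sections f of O
over U with T(K|_U, f) = 0 is a sheaf of ideals of O. Here the vanishing of T(K|_U, f) is expressed
as the vanishing of all morphisms from the extension by zero of O_{V, f|_V} to K[n], for every arrow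
V -> U and every integer n. -/
theorem result {C : Type u} [SmallCategory C] {J : GrothendieckTopology C} (O : Sheaf J CommRingCat.{u}) (K : DerivedCategory (ModSite.Mod O)) : ∃ I : DerComp.IdealSh O, ∀ (U : C) (f : O.obj.obj (op U)), f ∈ I.ideal U ↔ ∀ (V : C) (g : V ⟶ U) (n : ℤ), Subsingleton (SiteCmp.inD O ((ModSite.extZero O V).obj (DerComp.awayOver O V ((O.obj.map g.op).hom f))) ⟶ K⟦n⟧) := by
  refine ⟨Groth.Agent.H9Misc.DerCompIdeal.telIdeal O K, fun U f =>
    Groth.Agent.H9Misc.DerCompIdeal.mem_telIdeal.trans ?_⟩
  exact ⟨fun h V g => (Groth.Agent.H9Misc.DerCompTel.subsingleton_iff K V _).2 (h g),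
    fun h V g => (Groth.Agent.H9Misc.DerCompTel.subsingleton_iff K V _).1 (h V g)⟩

end Groth.Agent.S13487
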