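import Groth.Statements.S1349
import Groth.Agent.Triage.SliceCM
import Mathlib.AlgebraicGeometry.ZariskisMainTheorem

set_option autoImplicit false
universe u
open FlatMor

set_option backward.isDefEq.respectTransparency false
set_option backward.isDefEq.respectTransparency.types false
set_option maxHeartbeats 800000

namespace Groth.Agent.S1349

open AlgebraicGeometry CategoryTheory Limits in
/-- Let f be locally of finite presentation and Cohen–Macaulay at a point x which is closed in its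
fibre. Then there are an open neighbourhood V of x and a regular closed immersion i into V whose
image contains x, such that the composite Z ⟶ V ⟶ X ⟶ S is flat, locally of finite presentation and
locally quasi-finite, and x is the only point of (the image of) Z lying over the image of x. -/
theorem result {X S : Scheme.{u}} (f : X ⟶ S) [LocallyOfFinitePresentation f] (x : X)
    (hcm : MoreMor.IsCMAt f x) (hcl : IsClosed ({f.asFiber x} : Set ↑(f.fiber (f x)))) :
    ∃ (V : X.Opens) (Z : Scheme.{u}) (i : Z ⟶ (V : Scheme.{u})), Mor2.IsRegularClosedImmersion i ∧ x ∈ Set.range ⇑(i ≫ V.ι) ∧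
      Flat (i ≫ V.ι ≫ f) ∧ LocallyOfFinitePresentation (i ≫ V.ι ≫ f) ∧ LocallyQuasiFinite (i ≫ V.ι ≫ f) ∧
      ∀ z : Z, f (V.ι (i z)) = f x → V.ι (i z) = x := by
  obtain ⟨hflat, hCM⟩ := hcm
  let φ := FibFlat.sm (f.fiberι (f x)) (f.asFiber x) x (f.fiberι_asFiber x)
  have hφ : Function.Surjective φ := FibFlat.surjective_sm (f := f.fiberι (f x)) (f.asFiber x) x (f.fiberι_asFiber x)
  have hker : RingHom.ker φ = Ideal.map (f.stalkMap x).hom (IsLocalRing.maximalIdeal (S.presheaf.stalk (f x))) := by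
    rw [← FibFlat.sm_self f x]
    exact FibFlat.ker_sm_fiberι f (f x) (f.asFiber x) x (f.fiberι_asFiber x)
  obtain ⟨rs, hrs, hrm, hrP⟩ := @Triage.SliceCM.exists_seq _ _ hCM
  obtain ⟨hs, hsmap⟩ : ∃ hs : List ↑(X.presheaf.stalk x), hs.map φ = rs := ⟨rs.map (Function.surjInv hφ), by
    rw [List.map_map]
    exact (List.map_congr_left fun r _ => Function.surjInv_eq hφ r).trans (List.map_id _)⟩
  have hm : ∀ h ∈ hs, h ∈ IsLocalRing.maximalIdeal (X.presheaf.stalk x) := fun h hh hu =>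
    hrm (φ h) (hsmap ▸ List.mem_map.2 ⟨h, hh, rfl⟩) (hu.map φ)
  have hcomap : ∀ i, Ideal.ofList (hs.take i) ⊔ RingHom.ker φ = (Ideal.ofList (rs.take i)).comap φ := fun i => by
    conv_rhs => rw [← hsmap]
    rw [← List.map_take, ← Ideal.map_ofList, Ideal.comap_map_of_surjective _ hφ, ← RingHom.ker_eq_comap_bot]
  have hP : ∀ P : Ideal ↑(X.presheaf.stalk x), P.IsPrime → (∀ h ∈ hs, h ∈ P) →
      Ideal.map (f.stalkMap x).hom (IsLocalRing.maximalIdeal (S.presheaf.stalk (f x))) ≤ P →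
      P = IsLocalRing.maximalIdeal _ := by
    intro P hP hPm hJ
    rw [← hker] at hJ
    haveI := Ideal.map_isPrime_of_surjective hφ hJ
    have h1 := hrP (P.map φ) inferInstance fun r hr => by
      rw [← hsmap] at hr
      obtain ⟨h, hh, rfl⟩ := List.mem_map.1 hr
      exact Ideal.mem_map_of_mem _ (hPm h hh)
    have h2 := congrArg (Ideal.comap φ) h1
    rw [Ideal.comap_map_of_surjective _ hφ, ← RingHom.ker_eq_comap_bot, sup_eq_left.2 hJ] at h2
    rw [h2]
    exact IsLocalRing.eq_maximalIdeal (Ideal.comap_isMaximal_of_surjective φ hφ)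
  obtain ⟨B, hB, U, hU, hx, -, e, hs', hgerm, hfp, hwr, hfl⟩ :=
    Triage.SliceFlat.exists_slice_sch f x hflat hs hm (fun i hi z hz => by
      rw [← hker, hcomap, Ideal.mem_comap] at hz ⊢
      rw [map_mul] at hz
      have h0 := hrs.regular_mod_prev i (by subst hsmap; simpa using hi)
      have hI : (Ideal.ofList (rs.take i) • ⊤ : Submodule _ ↑((f.fiber (f x)).presheaf.stalk (f.asFiber x))) =
          Ideal.ofList (rs.take i) := by
        rw [Ideal.smul_eq_mul, Ideal.mul_top]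
      have he : φ hs[i] = rs[i]'(by subst hsmap; simpa using hi) := by
        subst hsmap
        rw [List.getElem_map]
      rw [he] at hz
      rw [← hI, ← Submodule.Quotient.mk_eq_zero]
      refine h0.right_eq_zero_of_smul ?_
      rw [← Submodule.Quotient.mk_smul, Submodule.Quotient.mk_eq_zero, hI, smul_eq_mul]
      exact hz) ⊤ trivial
  haveI : IsClosedImmersion (Spec.map (CommRingCat.ofHom (Ideal.Quotient.mk (Ideal.ofList hs')))) :=
    IsClosedImmersion.spec_of_surjective _ Ideal.Quotient.mk_surjective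
  obtain ⟨hg1, hg2⟩ := Triage.SliceFlat.flat_and_lfp_spec f hB hU e hs' hfp
    (by have h := hfl hs'.length; rw [List.take_length] at h; exact h)
  obtain ⟨z₀, hz₀⟩ := Triage.SliceFlat.mem_range_of_germ_mem hU x hx hs' fun a ha =>
    hm _ (hgerm ▸ List.mem_map.2 ⟨a, ha, rfl⟩)
  let i₀ := Spec.map (CommRingCat.ofHom (Ideal.Quotient.mk (Ideal.ofList hs'))) ≫ hU.fromSpec
  let g := i₀ ≫ f
  haveI : LocallyOfFinitePresentation g := by
    rw [show g = Spec.map (CommRingCat.ofHom (Ideal.Quotient.mk (Ideal.ofList hs'))) ≫ hU.fromSpec ≫ f from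
      Category.assoc _ _ _]
    exact hg2
  have hz₀' : i₀ z₀ = x := hz₀
  have hinj : Function.Injective i₀ := i₀.isEmbedding.injective
  have hgen : ∀ w, i₀ w ⤳ x → f (i₀ w) = f x → i₀ w = x := by
    intro w hw hfw
    refine Triage.SliceCM.eq_of_specializes f x (i₀ w) hw hfw hs hP fun h hh => ?_
    rw [← hgerm] at hh
    obtain ⟨a, ha, rfl⟩ := List.mem_map.1 hh
    have hwU : i₀ w ∈ U := hU.range_fromSpec.le ⟨_, rfl⟩
    rw [TopCat.Presheaf.germ_stalkSpecializes_apply]
    letI := X.presheaf.algebra_section_stalk ⟨i₀ w, hwU⟩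
    haveI := hU.isLocalization_stalk ⟨i₀ w, hwU⟩
    refine (IsLocalization.AtPrime.to_map_mem_maximal_iff (X.presheaf.stalk (i₀ w)) (hU.primeIdealOf ⟨i₀ w, hwU⟩).asIdeal a).2 ?_
    rw [show hU.primeIdealOf ⟨i₀ w, hwU⟩ = Spec.map (CommRingCat.ofHom (Ideal.Quotient.mk (Ideal.ofList hs'))) w from
      hU.fromSpec.isOpenEmbedding.injective (hU.fromSpec_primeIdealOf _)]
    change Ideal.Quotient.mk (Ideal.ofList hs') a ∈ w.asIdeal
    rw [Ideal.Quotient.eq_zero_iff_mem.2 (Ideal.subset_span (s := {r | r ∈ hs'}) ha)]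
    exact zero_mem _
  haveI : IsLocallyNoetherian (g.fiber (g z₀)) :=
    LocallyOfFiniteType.isLocallyNoetherian (g.fiberToSpecResidueField (g z₀))
  let w₀ := g.asFiber z₀
  have hw₀ : g.fiberι (g z₀) w₀ = z₀ := g.fiberι_asFiber z₀
  have hfw : ∀ w, f (i₀ (g.fiberι (g z₀) w)) = f x := fun w => by
    have h : g.fiberι (g z₀) w ∈ Set.range (g.fiberι (g z₀)) := ⟨w, rfl⟩
    rw [Scheme.Hom.range_fiberι] at h
    rw [← hz₀']
    exact h
  have huniq : ∀ w, i₀ (g.fiberι (g z₀) w) = x → w = w₀ := fun w h =>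
    (g.fiberι (g z₀)).isEmbedding.injective (hinj (h.trans (by rw [hw₀, hz₀'])))
  have hopen : IsOpen ({w₀} : Set (g.fiber (g z₀))) := by
    refine Triage.SliceCM.isOpen_singleton_of_minimal_scheme w₀ (closure_subset_iff_isClosed.1 fun w hw => ?_)
      fun w hw => huniq w (hgen _ ?_ (hfw w))
    · refine huniq w ?_
      have h1 : i₀ (g.fiberι (g z₀) w₀) ⤳ i₀ (g.fiberι (g z₀) w) :=
        ((specializes_iff_mem_closure.2 hw).map (g.fiberι (g z₀)).continuous).map i₀.continuous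
      rw [hw₀, hz₀'] at h1
      obtain ⟨t, ht⟩ : i₀ (g.fiberι (g z₀) w) ∈ Set.range (f.fiberι (f x)) := by
        rw [Scheme.Hom.range_fiberι]; exact hfw w
      have h2 : f.asFiber x ⤳ t := (f.fiberι (f x)).isEmbedding.isInducing.specializes_iff.1
        (by rw [f.fiberι_asFiber, ht]; exact h1)
      have ht' : t = f.asFiber x := by
        have := h2.mem_closure
        rwa [hcl.closure_eq] at this
      rw [← ht, ht', f.fiberι_asFiber]
    · have h1 := (hw.map (g.fiberι (g z₀)).continuous).map i₀.continuous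
      rwa [hw₀, hz₀'] at h1
  obtain ⟨O, hO, hOeq⟩ := (g.fiberι (g z₀)).isEmbedding.isInducing.isOpen_iff.1 hopen
  have hz₀O : z₀ ∈ O := by
    rw [← hw₀]
    exact hOeq.ge rfl
  have hqf : g.QuasiFiniteAt z₀ := Scheme.Hom.quasiFiniteAt_iff_isOpen_singleton_asFiber.2 hopen
  obtain ⟨O', hO', hO'eq⟩ := i₀.isEmbedding.isInducing.isOpen_iff.1 (hO.inter g.quasiFiniteLocus.isOpen)
  have hxO' : x ∈ O' := by
    rw [← hz₀']
    exact hO'eq.ge ⟨hz₀O, hqf⟩
  obtain ⟨r, hr, hxr⟩ := hU.exists_basicOpen_le (V := U ⊓ ⟨O', hO'⟩) ⟨x, hx, hxO'⟩ hx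
  let U' := X.basicOpen r
  have hU' : IsAffineOpen U' := hU.basicOpen r
  have hle : U' ≤ U := X.basicOpen_le r
  let ρ := X.presheaf.map (homOfLE hle).op
  letI : Algebra Γ(X, U) Γ(X, U') := ρ.hom.toAlgebra
  haveI : IsLocalization.Away r Γ(X, U') := hU.isLocalization_basicOpen r
  haveI : Module.Flat Γ(X, U) Γ(X, U') := IsLocalization.flat _ (Submonoid.powers r)
  let hs'' := hs'.map ρ
  have hI : Ideal.ofList hs'' = (Ideal.ofList hs').map ρ.hom := (Ideal.map_ofList ρ.hom hs').symm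
  have hwr' : RingTheory.Sequence.IsWeaklyRegular Γ(X, U') hs'' :=
    RingTheory.Sequence.IsWeaklyRegular.of_flat hwr
  let χ : Γ(X, U) ⧸ Ideal.ofList hs' →+* Γ(X, U') ⧸ Ideal.ofList hs'' :=
    Ideal.quotientMap _ ρ.hom (Ideal.map_le_iff_le_comap.1 hI.ge)
  have hρe : f.appLE B U e ≫ ρ = f.appLE B U' (hle.trans e) := f.appLE_map _ _
  have hfl' : ((Ideal.Quotient.mk (Ideal.ofList hs'')).comp (f.appLE B U' (hle.trans e)).hom).Flat := by
    have h1 : ((Ideal.Quotient.mk (Ideal.ofList hs'')).comp (f.appLE B U' (hle.trans e)).hom) =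
        χ.comp ((Ideal.Quotient.mk (Ideal.ofList hs')).comp (f.appLE B U e).hom) := by
      rw [← hρe]
      rfl
    rw [h1]
    refine RingHom.Flat.comp (by have h := hfl hs'.length; rw [List.take_length] at h; exact h) ?_
    letI := χ.toAlgebra
    have h2 := Triage.SliceFlat.flat_quotient_map (T := Γ(X, U')) (Ideal.ofList hs')
    let eq := Ideal.quotEquivOfEq hI.symm
    have h3 : χ = (eq : _ →+* _).comp (algebraMap (Γ(X, U) ⧸ Ideal.ofList hs') (Γ(X, U') ⧸ (Ideal.ofList hs').map (algebraMap Γ(X, U) Γ(X, U')))) :=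
      Ideal.Quotient.ringHom_ext (RingHom.ext fun _ => rfl)
    rw [h3]
    exact (RingHom.flat_algebraMap_iff.2 h2).comp (RingHom.Flat.of_bijective eq.bijective)
  obtain ⟨hF, hP'⟩ := Triage.SliceFlat.flat_and_lfp_spec f hB hU' (hle.trans e) hs''
    (HasRingHomProperty.appLE @LocallyOfFinitePresentation f ‹_› ⟨B, hB⟩ ⟨U', hU'⟩ _) hfl'
  let i := Spec.map (CommRingCat.ofHom (Ideal.Quotient.mk (Ideal.ofList hs''))) ≫ hU'.isoSpec.inv
  have hi : i ≫ U'.ι = Spec.map (CommRingCat.ofHom (Ideal.Quotient.mk (Ideal.ofList hs''))) ≫ hU'.fromSpec := by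
    rw [Category.assoc, hU'.isoSpec_inv_ι]
  have hi' : i ≫ U'.ι ≫ f =
      Spec.map (CommRingCat.ofHom (Ideal.Quotient.mk (Ideal.ofList hs''))) ≫ hU'.fromSpec ≫ f := by
    rw [← Category.assoc, hi, Category.assoc]
  rw [← hi'] at hF hP'
  let j := Spec.map (CommRingCat.ofHom χ)
  have hj : j ≫ i₀ = i ≫ U'.ι := by
    rw [hi, ← Category.assoc, ← Spec.map_comp,
      show CommRingCat.ofHom (Ideal.Quotient.mk (Ideal.ofList hs')) ≫ CommRingCat.ofHom χ =
        ρ ≫ CommRingCat.ofHom (Ideal.Quotient.mk (Ideal.ofList hs'')) from rfl,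
      Spec.map_comp, Category.assoc]
    exact congrArg (Spec.map (CommRingCat.ofHom (Ideal.Quotient.mk (Ideal.ofList hs''))) ≫ ·) (hU.map_fromSpec hU' (homOfLE hle).op)
  have hrc : Mor2.IsRegularClosedImmersion i := Triage.SliceFlat.isRegularClosedImmersion_spec hU'.isoSpec.symm hs'' hwr'
  haveI : IsClosedImmersion i := hrc.1
  haveI : IsImmersion j := by
    haveI : IsImmersion (j ≫ i₀) := by rw [hj]; infer_instance
    exact IsImmersion.of_comp j i₀
  have hmem : ∀ z, j z ∈ O ∩ (g.quasiFiniteLocus : Set _) := fun z => by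
    rw [← hO'eq]
    show i₀ (j z) ∈ O'
    rw [← Scheme.Hom.comp_apply, hj, Scheme.Hom.comp_apply]
    exact (hr (i z).2).2
  refine ⟨U', _, i, hrc, ?_, hF, hP', ?_, fun z hz => ?_⟩
  · rw [hi]
    refine Triage.SliceFlat.mem_range_of_germ_mem hU' x hxr hs'' fun a ha => ?_
    obtain ⟨b, hb, rfl⟩ := List.mem_map.1 ha
    rw [TopCat.Presheaf.germ_res_apply]
    exact hm _ (hgerm ▸ List.mem_map.2 ⟨b, hb, rfl⟩)
  · haveI : LocallyOfFinitePresentation (i ≫ U'.ι ≫ f) := hP'
    rw [← Scheme.Hom.quasiFiniteLocus_eq_top_iff]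
    refine top_le_iff.1 fun z _ => ?_
    show (i ≫ U'.ι ≫ f).QuasiFiniteAt z
    rw [show i ≫ U'.ι ≫ f = j ≫ g by rw [← Category.assoc, ← hj, Category.assoc],
      Scheme.Hom.QuasiFiniteAt, Scheme.Hom.stalkMap_comp, CommRingCat.hom_comp]
    exact RingHom.QuasiFinite.comp (j.quasiFiniteAt z) (hmem z).2
  · have h1 : U'.ι (i z) = i₀ (j z) := by
      rw [← Scheme.Hom.comp_apply, ← hj, Scheme.Hom.comp_apply]
    rw [h1] at hz ⊢
    obtain ⟨w, hw⟩ : j z ∈ Set.range (g.fiberι (g z₀)) := by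
      rw [Scheme.Hom.range_fiberι]
      show f (i₀ (j z)) = f (i₀ z₀)
      rw [hz, hz₀']
    have h2 : w = w₀ := hOeq.le (show g.fiberι (g z₀) w ∈ O from hw ▸ (hmem z).1)
    rw [← hw, h2, hw₀, hz₀']

end Groth.Agent.S1349
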