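import Groth.Statements.S13490
import Groth.Agent.H9Misc.KosPush

set_option autoImplicit false
universe u
open CategoryTheory CategoryTheory.Limits Opposite
attribute [local instance] HasDerivedCategory.standard
open DerComp

namespace Groth.Agent.S13490

/-- Let f be a morphism of ringed sites from (C, O_C) to (D, O_D), let I be a finite type sheaf of
ideals of O_D and let I' be the sheaf of ideals of O_C generated by the image of I under the ring
map of f. Then Rf_* commutes with derived completion: for K in D(O_C) the canonical map from the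
I-completion of Rf_*K to Rf_* of the I'-completion of K, obtained from the universal property of
derived completion and the fact (taken as a hypothesis) that the target is derived complete, is an
isomorphism. (The published statement is for a morphism of ringed topoi; this row takes a morphism
of ringed sites.) -/
theorem result {C D : Type u} [SmallCategory C] [SmallCategory D] {J : GrothendieckTopology C} {K : GrothendieckTopology D} {O_C : Sheaf J CommRingCat.{u}} {O_D : Sheaf K CommRingCat.{u}} (f : ModSite.RMor O_C O_D) [SiteCmp.HasRpushD f] (I : DerComp.IdealSh O_D) (hI : I.IsFiniteType) (I' : DerComp.IdealSh O_C) (hI' : DerComp.RIsIdealExt f I I') [DerComp.HasDerCompletion O_D I] [DerComp.HasDerCompletion O_C I'] (M : DerivedCategory (ModSite.Mod O_C)) (h : DerComp.IsDerComp O_D I ((SiteCmp.RpushD f).obj ((DerComp.derCompletion O_C I').obj M).obj)) : IsIso (((DerComp.derCompletionAdj O_D I).homEquiv ((SiteCmp.RpushD f).obj M) ⟨(SiteCmp.RpushD f).obj ((DerComp.derCompletion O_C I').obj M).obj, h⟩).symm ((SiteCmp.RpushD f).map (DerComp.toDerCompletion I' M))) := by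
  obtain ⟨D', g, c, hT⟩ := CategoryTheory.Pretriangulated.distinguished_cocone_triangle (DerComp.toDerCompletion I' M)
  obtain ⟨c', hT'⟩ := Groth.Agent.SiteBase.RpushD.exists_triangle (A := ModSite.Mod O_C) (B := ModSite.Mod O_D) f.push _ hT
  have hD : Groth.Agent.H9Misc.Kos.LOrth O_D I ((SiteCmp.RpushD f).obj D') :=
    Groth.Agent.H9Misc.Kos.lOrth_of_kosOrth hI
      (Groth.Agent.H9Misc.Kos.kosOrth_RpushD f hI' (Groth.Agent.H9Misc.Kos.kosOrth_cone M g c hT))
  refine Groth.Agent.H9Misc.DerCompRestrict.isIso_symm_homEquiv I _ _ fun N hN => ?_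
  have hb := (Groth.Agent.H9Misc.TelOrth.forall_subsingleton_iff _ hT' N).1 (hD N hN) 0
  let e := (shiftFunctorZero (DerivedCategory (ModSite.Mod O_D)) ℤ).app N
  have h2 := (e.homToEquiv (Z := (SiteCmp.RpushD f).obj M)).bijective.comp
    (hb.comp (e.symm.homToEquiv).bijective)
  refine (congrArg Function.Bijective (funext fun x => ?_)).mp h2
  show ((SiteCmp.RpushD f).map (DerComp.toDerCompletion I' M) ≫ x ≫ e.inv) ≫ e.hom = _
  simp

end Groth.Agent.S13490
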