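import Groth.Statements.S13499
import Groth.Agent.S7744
-- import your own Groth.Agent.* helpers here

set_option autoImplicit false
set_option backward.isDefEq.respectTransparency false
set_option backward.isDefEq.respectTransparency.types false
set_option linter.style.haveILetI false
universe u
open CategoryTheory CategoryTheory.Limits AlgebraicGeometry Opposite
open GalCoh

open CategoryTheory CategoryTheory.Limits CategoryTheory.Abelian AlgebraicGeometry Groth.Agent.EtTrace

namespace Groth.Agent.S13499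

/-- For a field k and i ≥ 2 there is an isomorphism between H^i(Spec k, Z) and H^{i-1}(Spec k, Q/Z),
étale cohomology of Spec k with coefficients in the constant sheaves Z and Q/Z (existence of an
additive isomorphism only; the published statement is for an arbitrary profinite group with trivial
action and identifies the two groups through the boundary map of 0 → Z → Q → Q/Z → 0). -/
theorem result (k : Type u) [Field k] (i : ℕ) (hi : 2 ≤ i) :
    Nonempty (EtCoh.H (Spec (CommRingCat.of k)) (EtCoh.const (Spec (CommRingCat.of k)) ℤ) i ≃+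
      EtCoh.H (Spec (CommRingCat.of k))
        (EtCoh.const (Spec (CommRingCat.of k)) (ℚ ⧸ AddSubgroup.zmultiples (1 : ℚ))) (i - 1)) := by
  let J := (Spec (CommRingCat.of k)).smallEtaleTopology
  let X := Spec (CommRingCat.of k)
  let C := constantSheaf J AddCommGrpCat.{u + 1}
  haveI : PreservesFiniteLimits C := by
    show PreservesFiniteLimits (Functor.const _ ⋙ presheafToSheaf J _)
    infer_instance
  haveI : PreservesFiniteColimits C := by
    haveI : PreservesColimitsOfSize.{0, 0} C := (EtCore.constAdj X).leftAdjoint_preservesColimits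
    exact PreservesColimitsOfSize.preservesFiniteColimits _
  haveI : C.Additive := Functor.additive_of_preserves_binary_products C
  let Q := ℚ ⧸ AddSubgroup.zmultiples (1 : ℚ)
  let f : ULift.{u + 1} ℤ →+ ULift.{u + 1} ℚ :=
    (AddEquiv.ulift.symm : ℚ ≃+ ULift.{u + 1} ℚ).toAddMonoidHom.comp ((Int.castAddHom ℚ).comp
      (AddEquiv.ulift : ULift.{u + 1} ℤ ≃+ ℤ).toAddMonoidHom)
  let g : ULift.{u + 1} ℚ →+ ULift.{u + 1} Q :=
    (AddEquiv.ulift.symm : Q ≃+ ULift.{u + 1} Q).toAddMonoidHom.comp ((QuotientAddGroup.mk' _).comp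
      (AddEquiv.ulift : ULift.{u + 1} ℚ ≃+ ℚ).toAddMonoidHom)
  let S₀ := ShortComplex.mk (AddCommGrpCat.ofHom f) (AddCommGrpCat.ofHom g) (AddCommGrpCat.ext fun a => by
    apply ULift.ext
    show ((a.down : ℚ) : Q) = 0
    rw [QuotientAddGroup.eq_zero_iff]
    exact ⟨a.down, by simp⟩)
  have hS₀ : S₀.ShortExact := by
    refine { exact := ?_, mono_f := ?_, epi_g := ?_ }
    · rw [ShortComplex.ab_exact_iff]
      intro x hx
      have hx' : ((x.down : ℚ) : Q) = 0 := congrArg ULift.down hx
      rw [QuotientAddGroup.eq_zero_iff] at hx'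
      obtain ⟨m, hm⟩ := hx'
      exact ⟨ULift.up m, ULift.ext _ _ ((zsmul_one m).symm.trans hm)⟩
    · exact (AddCommGrpCat.mono_iff_injective _).2 fun a b h => ULift.ext _ _ (Int.cast_injective (congrArg ULift.down h :))
    · exact (AddCommGrpCat.epi_iff_surjective _).2 fun b => by
        obtain ⟨r, hr⟩ := QuotientAddGroup.mk'_surjective _ b.down
        exact ⟨ULift.up r, ULift.ext _ _ hr⟩
  have hS : (S₀.map C).ShortExact := hS₀.map_of_exact C
  have hQ : ∀ j : ℕ, 0 < j → Subsingleton (EtCoh.H X (C.obj S₀.X₂) j) := fun j hj => by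
    refine Groth.Agent.S7744.result k _ (fun n hn => ?_) j hj
    have e : n • 𝟙 (C.obj S₀.X₂) = C.map (n • 𝟙 S₀.X₂) := by
      rw [Functor.map_nsmul, CategoryTheory.Functor.map_id]
    rw [e]
    haveI : IsIso (n • 𝟙 S₀.X₂) := by
      refine (ConcreteCategory.isIso_iff_bijective _).2 ?_
      have hn' : (n : ℚ) ≠ 0 := Nat.cast_ne_zero.2 hn.ne'
      have key : ∀ a : ULift.{u + 1} ℚ, ((n • 𝟙 S₀.X₂) a : ULift.{u + 1} ℚ).down = (n : ℚ) * a.down := by
        intro a
        rw [← nsmul_eq_mul]
        exact (congrArg ULift.down (by simp : ((n • 𝟙 S₀.X₂) a : ULift.{u + 1} ℚ) = n • a)).trans rfl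
      refine ⟨fun a b h => ULift.ext _ _ (mul_left_cancel₀ hn' ?_), fun b => ⟨ULift.up (b.down / n), ?_⟩⟩
      · exact (key a).symm.trans ((congrArg ULift.down h).trans (key b))
      · exact ULift.ext _ _ ((key _).trans (mul_div_cancel₀ _ hn'))
    infer_instance
  obtain ⟨j, rfl⟩ : ∃ j, i = j + 2 := ⟨i - 2, by omega⟩
  let δ : EtCoh.H X (C.obj S₀.X₃) (j + 1) →+ EtCoh.H X (C.obj S₀.X₁) (j + 2) :=
    hS.extClass.postcomp (EtCoh.const X ℤ) rfl
  refine ⟨(AddEquiv.ofBijective δ ⟨(injective_iff_map_eq_zero δ).2 fun z hz => ?_, fun x => ?_⟩).symm⟩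
  · haveI := hQ (j + 1) (Nat.succ_pos j)
    obtain ⟨w, rfl⟩ := Ext.covariant_sequence_exact₃ _ hS z rfl hz
    rw [show w = 0 from Subsingleton.elim (α := EtCoh.H X (C.obj S₀.X₂) (j + 1)) _ _, Ext.zero_comp]
  · haveI := hQ (j + 2) (Nat.succ_pos _)
    exact Ext.covariant_sequence_exact₁ _ hS x (Subsingleton.elim (α := EtCoh.H X (C.obj S₀.X₂) (j + 2)) _ _) rfl

end Groth.Agent.S13499
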