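import Groth.Statements.S13501
import Groth.Agent.EtFound.ConstrColim
-- import your own Groth.Agent.* helpers here

set_option autoImplicit false
universe u
open CategoryTheory CategoryTheory.Limits AlgebraicGeometry Opposite
open EtPBC

namespace Groth.Agent.S13501

/-- Let X be a quasi-compact and quasi-separated scheme and F a torsion abelian sheaf on X_et. If Hom(F,
-) commutes with filtered colimits (of shape any small filtered category in the universe of the
sheaf category's morphisms), then F is constructible. This is the converse of the compactness of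
constructible sheaves. -/
theorem result (X : Scheme.{u}) [CompactSpace X]
    [QuasiSeparatedSpace X] (F : EtCoh.Ab X) (hF : EtCoh.IsTorsion F)
    (hc : ∀ (J : Type (u + 1)) [SmallCategory J] [IsFiltered J],
      PreservesColimitsOfShape J (coyoneda.obj (op F))) :
    EtPBC.IsConstructible F := by
  obtain ⟨hcol⟩ := EtFound.nonempty_isColimit_stageCocone hF
  haveI := hc (EtFound.TorsStage F)
  obtain ⟨i, s, hs⟩ := Types.jointly_surjective _ (isColimitOfPreserves (coyoneda.obj (op F)) hcol) (𝟙 F)
  let D := EtFound.stageFunctor F
  let p : D.obj i ⟶ F := (EtFound.stageCocone F).ι.app i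
  let s' : F ⟶ D.obj i := s
  have h1 : s' ≫ p = 𝟙 F := hs
  have h2 : (𝟙 (D.obj i) - p ≫ s') ≫ p = 0 := by
    rw [Preadditive.sub_comp, Category.id_comp, Category.assoc, h1, Category.comp_id, sub_self]
  let e : cokernel (𝟙 (D.obj i) - p ≫ s') ≅ F :=
    { hom := cokernel.desc _ p h2
      inv := s' ≫ cokernel.π _
      hom_inv_id := by
        rw [← cancel_epi (cokernel.π (𝟙 (D.obj i) - p ≫ s')), cokernel.π_desc_assoc, Category.comp_id]
        have h := cokernel.condition (𝟙 (D.obj i) - p ≫ s')
        rw [Preadditive.sub_comp, Category.id_comp, sub_eq_zero, Category.assoc] at h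
        exact h.symm
      inv_hom_id := by rw [Category.assoc, cokernel.π_desc, h1] }
  exact EtFound.isConstructible_of_iso e (EtFound.isConstructible_cokernel _
    (EtFound.isConstructible_stage i) (EtFound.isConstructible_stage i))

end Groth.Agent.S13501
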