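import Groth.Statements.S13502
import Groth.Agent.P1Sym.Finite
-- import your own Groth.Agent.* helpers here

set_option autoImplicit false
universe u
open CategoryTheory CategoryTheory.Limits AlgebraicGeometry Opposite
open Constr

namespace Groth.Agent.S13502

/-- For a scheme S and n ≥ 0 there exists a finite surjective S-morphism from the n-fold fibre product
P^1_S ×_S ⋯ ×_S P^1_S to P^n_S (existence of such a morphism only; the published statement names the
morphism sending ((x_1 : y_1), …, (x_n : y_n)) to the coefficients (F_0 : ⋯ : F_n) of the product of
the x_i t + y_i). (The published statement is over an affine base Spec A; this row allows any base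
scheme S: the morphism is defined over the integers and base-changed, and finiteness and
surjectivity are stable under base change.) -/
theorem result (S : Scheme.{u}) (n : ℕ) :
    ∃ φ : widePullback S (fun _ : Fin n => CohB1.ProjSpaceOver 1 S) (fun _ => CohB1.ProjSpaceOver.toBase 1 S) ⟶
        CohB1.ProjSpaceOver n S,
      IsFinite φ ∧ Surjective φ ∧
        φ ≫ CohB1.ProjSpaceOver.toBase n S = WidePullback.base (fun _ => CohB1.ProjSpaceOver.toBase 1 S) := by
  exact P1Sym.exists_finite_surjective S n

end Groth.Agent.S13502
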