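import Groth.Statements.S13509
import Groth.Agent.FibSiteLib.Total

set_option autoImplicit false
set_option backward.isDefEq.respectTransparency false
set_option backward.isDefEq.respectTransparency.types false
universe v₁ u₁ v₂ u₂ v₃ u₃
open CategoryTheory Opposite Pseudofunctor.CoGrothendieck
open FibSite

namespace Groth.Agent.S13509

/-- For a fibred category `F` over `𝒮` with topologies `J` on its fibres all of whose inverse-image
functors are continuous, the topology induced on the fibre over `S` by the total topology (the
finest topology on `F(S)` for which the fibre inclusion is continuous towards the topology generated
by the coverings of the fibres) is `J S` itself. (The published statement is for fibred sites; its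
proof uses only the continuity of the inverse-image functors.) -/
theorem result {𝒮 : Type u₁} [Category.{v₁} 𝒮]
    (F : Pseudofunctor (LocallyDiscrete 𝒮ᵒᵖ) Cat.{v₂, u₂}) (J : FibSite.Topologies F)
    (hF : FibSite.IsPreFibSite F J) (S : 𝒮) :
    (ι F S).inducedTopology (FibSite.totalTopology F J) = J S := by
  exact Groth.Agent.FibSiteLib.inducedTopology_ι hF S

end Groth.Agent.S13509
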