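import Groth.Statements.S1351
import Mathlib
import Groth.Agent.FlatModel.ValuationCrit

set_option autoImplicit false
universe u
open FlatMor

namespace Groth.Agent.S1351

/-- Let A be a valuation ring, A → B a local homomorphism of local rings essentially of finite type, and
u : N → M a B-linear map of finite B-modules with M flat over A. If u is injective after tensoring
with the residue field of A (that is, modulo the maximal ideal of A), then u is injective and its
cokernel is flat over A. -/
theorem result {A B : Type u} [CommRing A] [IsDomain A] [ValuationRing A] [CommRing B] [IsLocalRing B]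
    [Algebra A B] [IsLocalHom (algebraMap A B)] [Algebra.EssFiniteType A B]
    {N M : Type u} [AddCommGroup N] [Module B N] [Module A N] [IsScalarTower A B N] [Module.Finite B N]
    [AddCommGroup M] [Module B M] [Module A M] [IsScalarTower A B M] [Module.Finite B M] [Module.Flat A M]
    (u : N →ₗ[B] M)
    (hu : Function.Injective (Submodule.mapQ (IsLocalRing.maximalIdeal A • ⊤ : Submodule A N) (IsLocalRing.maximalIdeal A • ⊤ : Submodule A M) (u.restrictScalars A)
      (fun n hn => Submodule.smul_top_le_comap_smul_top _ _ hn))) :
    Function.Injective u ∧ Module.Flat A (M ⧸ LinearMap.range u) := by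
  classical
  let B₀ := Algebra.EssFiniteType.subalgebra A B
  obtain ⟨n, π, hπ⟩ := Algebra.FiniteType.iff_quotient_mvPolynomial''.mp (inferInstance : Algebra.FiniteType A B₀)
  let ι : MvPolynomial (Fin n) A →ₐ[A] B := B₀.val.comp π
  let Q : Ideal (MvPolynomial (Fin n) A) := (IsLocalRing.maximalIdeal B).comap ι
  have : Q.IsPrime := Ideal.IsPrime.comap _
  let φ : Localization.AtPrime Q →ₐ[A] B := IsLocalization.liftAlgHom (M := Q.primeCompl) (f := ι)
    (fun w => IsLocalRing.notMem_maximalIdeal.1 w.2)
  have hφι : ∀ p, φ (algebraMap _ _ p) = ι p := fun p => IsLocalization.lift_eq _ p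
  have hφ : Function.Surjective φ := by
    intro b
    obtain ⟨⟨t, ht⟩, hb⟩ := IsLocalization.exist_integer_multiples (Algebra.EssFiniteType.submonoid A B)
      ({0} : Finset (Fin 1)) (fun _ => b)
    obtain ⟨b', hb'⟩ := hb 0 (Finset.mem_singleton_self 0)
    obtain ⟨p, rfl⟩ := hπ b'
    obtain ⟨q, rfl⟩ := hπ t
    have hq : q ∈ Q.primeCompl := fun h => h (show IsUnit (ι q) from ht)
    refine ⟨IsLocalization.mk' _ p ⟨q, hq⟩, (IsUnit.mul_right_inj (show IsUnit (ι q) from ht)).1 ?_⟩
    rw [← hφι q, ← map_mul, IsLocalization.mk'_spec'_mk, hφι, hφι]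
    exact hb'.trans (Algebra.smul_def _ b)
  let S := Localization.AtPrime Q
  let := φ.toRingHom.toAlgebra
  have : IsScalarTower A S B := IsScalarTower.of_algebraMap_eq fun a => (φ.commutes a).symm
  have hφloc : ∀ z, z ∈ IsLocalRing.maximalIdeal S → φ z ∈ IsLocalRing.maximalIdeal B := by
    intro z hz
    obtain ⟨p, s, rfl⟩ := IsLocalization.exists_mk'_eq Q.primeCompl z
    intro hu
    have hp : p ∈ Q := by
      by_contra hp
      exact hz ((IsLocalization.AtPrime.isUnit_mk'_iff _ Q p s).2 hp)
    have h1 := hu.mul (show IsUnit (ι s) from IsLocalRing.notMem_maximalIdeal.1 s.2)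
    rw [← hφι s, ← map_mul, IsLocalization.mk'_spec, hφι] at h1
    exact hp h1
  have : IsLocalHom (algebraMap A S) := ⟨fun a ha => by
    have := ha.map φ
    rw [AlgHom.commutes] at this
    exact isUnit_of_map_unit (algebraMap A B) a this⟩
  have hS : CAlgX.IsEssFinitePresentation A S :=
    ⟨MvPolynomial (Fin n) A, inferInstance, inferInstance, inferInstance, inferInstance, Q.primeCompl,
      inferInstance, inferInstance⟩
  have : Algebra.EssFiniteType A S :=
    have : Algebra.EssFiniteType (MvPolynomial (Fin n) A) S := Algebra.EssFiniteType.of_isLocalization _ Q.primeCompl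
    Algebra.EssFiniteType.comp A (MvPolynomial (Fin n) A) _
  let := Module.compHom M φ.toRingHom
  let := Module.compHom N φ.toRingHom
  have : IsScalarTower S B M := ⟨fun p s m => mul_smul (φ p) s m⟩
  have : IsScalarTower S B N := ⟨fun p s m => mul_smul (φ p) s m⟩
  have : IsScalarTower A S M := ⟨fun r p m => by
    show φ (r • p) • m = r • φ p • m
    rw [map_smul, smul_assoc]⟩
  have : IsScalarTower A S N := ⟨fun r p m => by
    show φ (r • p) • m = r • φ p • m
    rw [map_smul, smul_assoc]⟩
  have : Module.Finite S B := Module.Finite.of_surjective (Algebra.linearMap S B) hφ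
  have : Module.Finite S M := Module.Finite.trans B M
  have : Module.Finite S N := Module.Finite.trans B N
  obtain ⟨hinj, hflat⟩ := Groth.Agent.FlatModel.injective_flat_of_valuationRing hS (u.restrictScalars S) (fun x hx =>
    (Submodule.Quotient.mk_eq_zero _).1 (hu (by
      rw [map_zero, Submodule.mapQ_apply]
      exact (Submodule.Quotient.mk_eq_zero _).2 hx)))
  refine ⟨hinj, Module.Flat.of_linearEquiv (M := M ⧸ LinearMap.range (u.restrictScalars S)) ?_⟩
  exact (((Submodule.quotEquivOfEq _ _ (LinearMap.range_restrictScalars (R := S) u)).trans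
    (Submodule.Quotient.restrictScalarsEquiv S (LinearMap.range u))).restrictScalars A).symm

end Groth.Agent.S1351
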