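import Groth.Statements.S13513
import Groth.Agent.FibSiteLib.Values
import Groth.Agent.FibSiteLib.BeckChevalley
import Mathlib.CategoryTheory.Monad.Adjunction

set_option autoImplicit false
set_option backward.isDefEq.respectTransparency false
set_option backward.isDefEq.respectTransparency.types false
universe u
open CategoryTheory CategoryTheory.Limits Opposite Pseudofunctor.CoGrothendieck
open FibSite

namespace Groth.Agent.S13513

/-- Let `F` be a fibred site over a small category `𝒮` with small fibres (every inverse-image functor is
a morphism of sites) and let `i` be a final object of `𝒮`. Then the left adjoint `α_{i!}` of the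
restriction of sheaves of sets from the total site to the fibre over `i` is full and faithful;
equivalently the composite "extend from the fibre over `i`, then restrict back" is isomorphic to the
identity through the unit of the adjunction. The continuity of the fibre inclusion and the existence
of the left adjoint are carried as instance hypotheses. -/
theorem result {𝒮 : Type u} [SmallCategory 𝒮]
    (F : Pseudofunctor (LocallyDiscrete 𝒮ᵒᵖ) Cat.{u, u}) (J : FibSite.Topologies F)
    (hF : FibSite.IsFibSite F J) (i : 𝒮) (hi : IsTerminal i)
    [(ι F i).IsContinuous (J i) (FibSite.totalTopology F J)]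
    [((ι F i).sheafPushforwardContinuous (Type u) (J i) (FibSite.totalTopology F J)).IsRightAdjoint] :
    (FibSite.extend F J (Type u) i).Full ∧ (FibSite.extend F J (Type u) i).Faithful := by
  open Groth.Agent.FibSiteLib in
  have hF' := hF.isPreFibSite
  haveI := isCocontinuous_ι hF' i
  haveI := ι_full (F := F) i fun g => hi.hom_ext g (𝟙 i)
  haveI := ι_faithful (F := F) (i := i)
  let G := ι F i
  let e : Functor.sheafPullbackConstruction.sheafPullback G (Type u) (J i) (FibSite.totalTopology F J) ⋙
      FibSite.restr F J (Type u) i ≅ 𝟭 (Sheaf (J i) (Type u)) :=
    Functor.isoWhiskerLeft (sheafToPresheaf (J i) (Type u)) (Functor.isoWhiskerLeft G.op.lan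
        (G.pushforwardContinuousSheafificationCompatibility (Type u) (J i) (FibSite.totalTopology F J)).symm ≪≫
      (Functor.associator _ _ _).symm ≪≫
      Functor.isoWhiskerRight (asIso G.op.lanUnit).symm (presheafToSheaf (J i) (Type u)) ≪≫
      Functor.leftUnitor _) ≪≫
    asIso (sheafificationAdjunction (J i) (Type u)).counit
  haveI := (G.sheafAdjunctionContinuous (Type u) (J i) (FibSite.totalTopology F J)).isIso_unit_of_iso
    (Functor.isoWhiskerRight (Functor.sheafPullbackConstruction.sheafPullbackIso G (Type u) (J i)
      (FibSite.totalTopology F J)) _ ≪≫ e)
  have h := (G.sheafAdjunctionContinuous (Type u) (J i) (FibSite.totalTopology F J)).fullyFaithfulLOfIsIsoUnit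
  exact ⟨h.full, h.faithful⟩

end Groth.Agent.S13513
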