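import Groth.Statements.S13514
import Groth.Agent.FibSiteLib.Values
import Groth.Agent.FibSiteLib.BeckChevalley

set_option autoImplicit false
set_option backward.isDefEq.respectTransparency false
set_option backward.isDefEq.respectTransparency.types false
universe u
open CategoryTheory CategoryTheory.Limits Opposite Pseudofunctor.CoGrothendieck
open FibSite

namespace Groth.Agent.S13514

/-- Let `F` be a fibred site over a small category `𝒮` with small fibres (every inverse-image functor is
a morphism of sites) and let `i` be a final object of `𝒮`. Then the left adjoint `α_{i!}` of the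
restriction of sheaves of sets from the total site to the fibre over `i` is left exact (it preserves
finite limits), so that the pair (`α_{i!}`, restriction) is a morphism of topoi from the total topos
to the topos of the fibre. The continuity of the fibre inclusion and the existence of the left
adjoint are carried as instance hypotheses. -/
theorem result {𝒮 : Type u} [SmallCategory 𝒮]
    (F : Pseudofunctor (LocallyDiscrete 𝒮ᵒᵖ) Cat.{u, u}) (J : FibSite.Topologies F)
    (hF : FibSite.IsFibSite F J) (i : 𝒮) (hi : IsTerminal i)
    [(ι F i).IsContinuous (J i) (FibSite.totalTopology F J)]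
    [((ι F i).sheafPushforwardContinuous (Type u) (J i) (FibSite.totalTopology F J)).IsRightAdjoint] :
    PreservesFiniteLimits (FibSite.extend F J (Type u) i) := by
  open Groth.Agent.FibSiteLib in
  have hF' := hF.isPreFibSite
  have : PreservesFiniteLimits (Functor.sheafPullbackConstruction.sheafPullback (ι F i)
      (Type u) (J i) (FibSite.totalTopology F J)) :=
    ⟨fun I _ _ => ⟨fun {D} => preservesLimit_of_restr hF' _ fun S => by
      obtain ⟨hc, hr, hlex⟩ := hF (hi.from S)
      haveI := hc
      haveI := hr
      haveI := hlex
      haveI := isContinuous_ι hF' S
      haveI := isCocontinuous_ι hF' S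
      haveI := guitartExact_liftSquare (F := F) (hi.from S) fun g => hi.hom_ext g _
      let e₁ : (ι F i).op.lan ⋙ presheafToSheaf (FibSite.totalTopology F J) (Type u) ⋙
          FibSite.restr F J (Type u) S ≅
            (FibSite.invImage F (hi.from S)).op.lan ⋙ presheafToSheaf (J S) (Type u) :=
        Functor.isoWhiskerLeft _
          ((ι F S).pushforwardContinuousSheafificationCompatibility (Type u) (J S) (FibSite.totalTopology F J)).symm ≪≫
        (Functor.associator _ _ _).symm ≪≫
        Functor.isoWhiskerRight ((asIso ((liftSquare (F := F) (hi.from S)).op.lanBaseChange (D := Type u))).symm ≪≫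
          Functor.isoWhiskerRight (NatIso.ofComponents (fun P => Functor.leftUnitor P) :
            (Functor.whiskeringLeft _ _ (Type u)).obj (𝟭 (F.obj ⟨op i⟩)).op ≅ 𝟭 _) _ ≪≫ Functor.leftUnitor _) _
      haveI : PreservesFiniteLimits (Functor.sheafPullbackConstruction.sheafPullback (ι F i)
          (Type u) (J i) (FibSite.totalTopology F J) ⋙ FibSite.restr F J (Type u) S) := by
        refine preservesFiniteLimits_of_natIso
          (F := (FibSite.invImage F (hi.from S)).sheafPullback (Type u) (J i) (J S)) ?_
        exact Functor.sheafPullbackConstruction.sheafPullbackIso (FibSite.invImage F (hi.from S)) (Type u) (J i) (J S)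
          ≪≫ (Functor.isoWhiskerLeft (sheafToPresheaf _ _) e₁).symm
      infer_instance⟩⟩
  exact preservesFiniteLimits_of_natIso (Functor.sheafPullbackConstruction.sheafPullbackIso
    (ι F i) (Type u) (J i) (FibSite.totalTopology F J)).symm

end Groth.Agent.S13514
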