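import Groth.Statements.S13515
import Groth.Agent.FibSiteLib.BeckChevalley

set_option autoImplicit false
set_option backward.isDefEq.respectTransparency false
set_option backward.isDefEq.respectTransparency.types false
universe u
open CategoryTheory CategoryTheory.Limits Opposite Pseudofunctor.CoGrothendieck
open scoped CategoryTheory.Pseudofunctor.StrongTrans
open FibSite

namespace Groth.Agent.S13515

/-- Let `F` and `G` be fibred sites over a small category `𝒮` with small fibres and let `α : G ⟶ F` be a
strong transformation of pseudofunctors, i.e. a cartesian functor `∫ᶜ G ⥤ ∫ᶜ F` over `𝒮`, which is a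
morphism of fibred sites: on each fibre the functor `α_S : G(S) ⥤ F(S)` is a morphism of sites from
`(F(S), J S)` to `(G(S), K S)` (continuous, with left exact inverse image on sheaves of sets). Then
the induced functor between the total categories is a morphism of sites from the total site of `F`
to the total site of `G`: it is continuous for the total topologies and the inverse image of sheaves
of sets along it exists and is left exact. -/
theorem result {𝒮 : Type u} [SmallCategory 𝒮]
    (F G : Pseudofunctor (LocallyDiscrete 𝒮ᵒᵖ) Cat.{u, u}) (J : FibSite.Topologies F) (K : FibSite.Topologies G)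
    (hF : FibSite.IsFibSite F J) (hG : FibSite.IsFibSite G K) (α : G ⟶ F)
    (hα : ∀ S : 𝒮, ∃ (_ : (α.app ⟨op S⟩).toFunctor.IsContinuous (K S) (J S))
      (_ : ((α.app ⟨op S⟩).toFunctor.sheafPushforwardContinuous (Type u) (K S) (J S)).IsRightAdjoint),
      PreservesFiniteLimits ((α.app ⟨op S⟩).toFunctor.sheafPullback (Type u) (K S) (J S))) :
    ∃ (_ : (Pseudofunctor.CoGrothendieck.map α).IsContinuous
        (FibSite.totalTopology G K) (FibSite.totalTopology F J))
      (_ : ((Pseudofunctor.CoGrothendieck.map α).sheafPushforwardContinuous (Type u)
        (FibSite.totalTopology G K) (FibSite.totalTopology F J)).IsRightAdjoint),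
      PreservesFiniteLimits ((Pseudofunctor.CoGrothendieck.map α).sheafPullback (Type u)
        (FibSite.totalTopology G K) (FibSite.totalTopology F J)) := by
  open Groth.Agent.FibSiteLib in
  have hF' := hF.isPreFibSite
  have hcont := isContinuous_map α J K hF' hG.isPreFibSite fun S => (hα S).1
  refine ⟨hcont, inferInstance, ?_⟩
  have : PreservesFiniteLimits (Functor.sheafPullbackConstruction.sheafPullback (Pseudofunctor.CoGrothendieck.map α)
      (Type u) (FibSite.totalTopology G K) (FibSite.totalTopology F J)) :=
    ⟨fun I _ _ => ⟨fun {D} => preservesLimit_of_restr hF' _ fun S => by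
      obtain ⟨hc, hr, hlex⟩ := hα S
      haveI := hc
      haveI := hr
      haveI := hlex
      haveI := isContinuous_ι hG.isPreFibSite S
      haveI := isContinuous_ι hF' S
      haveI := isCocontinuous_ι hG.isPreFibSite S
      haveI : PreservesFiniteLimits (FibSite.restr G K (Type u) S ⋙
          (comp α S).sheafPullback (Type u) (K S) (J S)) := comp_preservesFiniteLimits _ _
      haveI : PreservesFiniteLimits (Functor.sheafPullbackConstruction.sheafPullback
          (Pseudofunctor.CoGrothendieck.map α) (Type u) (FibSite.totalTopology G K) (FibSite.totalTopology F J) ⋙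
          FibSite.restr F J (Type u) S) := by
        refine preservesFiniteLimits_of_natIso (F := FibSite.restr G K (Type u) S ⋙
          (comp α S).sheafPullback (Type u) (K S) (J S)) ?_
        exact Functor.isoWhiskerLeft _ (Functor.sheafPullbackConstruction.sheafPullbackIso (comp α S) (Type u) (K S) (J S))
          ≪≫ (Functor.isoWhiskerLeft (sheafToPresheaf _ _) (pullbackRestrIso α hF' S)).symm
      infer_instance⟩⟩
  exact preservesFiniteLimits_of_natIso (Functor.sheafPullbackConstruction.sheafPullbackIso
    (Pseudofunctor.CoGrothendieck.map α) (Type u) (FibSite.totalTopology G K) (FibSite.totalTopology F J)).symm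

end Groth.Agent.S13515
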