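import Groth.Statements.S13523
import Groth.Agent.CohDescTop.LocalSections
-- import your own Groth.Agent.* helpers here

set_option autoImplicit false
set_option linter.style.haveILetI false
set_option backward.isDefEq.respectTransparency false
set_option backward.isDefEq.respectTransparency.types false
universe u
open CategoryTheory CategoryTheory.Limits Opposite TopologicalSpace
open FibDesc

namespace Groth.Agent.S13523

/-- A surjective local homeomorphism `f : X ⟶ S` of topological spaces is universally of cohomological
1-descent for abelian sheaves. -/
theorem result {X S : TopCat.{u}} (f : X ⟶ S)
    (hf : IsLocalHomeomorph f) (hsurj : Function.Surjective f) : FibDesc.IsUnivCohDescentMap f :=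
  Groth.Agent.CohDescTop.isUnivCohDescentMap_of_localSections f
    (Groth.Agent.CohDescTop.localSections_of_isLocalHomeomorph f hf hsurj)

end Groth.Agent.S13523
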