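import Groth.Statements.S13532
import Groth.Agent.Lib.ZMTCodimDim
import Groth.Agent.FlatDense.Basic

set_option autoImplicit false
universe u
open CategoryTheory CategoryTheory.Limits AlgebraicGeometry
open ResProp Groth.Agent
set_option backward.isDefEq.respectTransparency false

namespace Groth.Agent.S13532

/-- A morphism of finite type between locally Noetherian schemes which is birational (an isomorphism
over a dense open of the target whose preimage is dense in the source) has finite fibres over all
points of the target of codimension at most 1, i.e. whose local ring has Krull dimension at most 1. -/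
theorem result {X Y : Scheme.{u}}
    [IsLocallyNoetherian X] [IsLocallyNoetherian Y] (f : Y ⟶ X) [LocallyOfFiniteType f] [QuasiCompact f]
    (U : X.Opens) (hU : Dense (U : Set X)) (hU' : Dense ((f ⁻¹ᵁ U : Y.Opens) : Set Y)) (hiso : IsIso (f ∣_ U))
    (x : X) (hx : ringKrullDim (X.presheaf.stalk x) ≤ 1) :
    (f.base ⁻¹' {x}).Finite := by
  have := hiso
  have := LocallyOfFiniteType.isLocallyNoetherian f
  have inj : ∀ a b : Y, f a = f b → f a ∈ U → a = b := fun a b hab ha => by
    have ha' : a ∈ f ⁻¹ᵁ U := ha
    have hb' : b ∈ f ⁻¹ᵁ U := show f b ∈ U from hab ▸ ha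
    exact congrArg Subtype.val ((f ∣_ U).homeomorph.injective (a₁ := ⟨a, ha'⟩) (a₂ := ⟨b, hb'⟩) (by
      apply U.ι.isOpenEmbedding.injective
      show ((f ∣_ U) ≫ U.ι).base _ = ((f ∣_ U) ≫ U.ι).base _
      rw [morphismRestrict_ι]
      exact hab))
  by_cases hxU : x ∈ U
  · exact Set.Subsingleton.finite fun a (ha : f a = x) b (hb : f b = x) =>
      inj a b (ha.trans hb.symm) (ha ▸ hxU)
  have hrd : ∀ y : Y, f y = x → FibDim.rd f y = 0 := fun y hy => by
    let Z := irreducibleComponent y
    have hZ : IsIrreducible Z := isIrreducible_irreducibleComponent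
    let η := hZ.genericPoint
    have hη : IsGenericPoint η Z := by
      have := hZ.isGenericPoint_genericPoint_closure
      rwa [isClosed_irreducibleComponent.closure_eq] at this
    have hηy : η ⤳ y := hη.specializes mem_irreducibleComponent
    have hmax : ∀ z, z ⤳ η → z = η := fun z h => by
      have hsub : Z ⊆ closure {z} :=
        hη.def ▸ closure_minimal (Set.singleton_subset_iff.2 (specializes_iff_mem_closure.1 h)) isClosed_closure
      have heq : closure {z} = Z := eq_irreducibleComponent isIrreducible_singleton.closure.isPreirreducible hsub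
      exact IsGenericPoint.eq (show IsGenericPoint z Z from heq) hη
    have hηU : f η ∈ U := Groth.Agent.FlatDense.mem_of_dense_of_max_scheme (f ⁻¹ᵁ U) hU' hmax
    have hη0 : FibDim.rd f η = 0 :=
      DimFormula.rd_eq_zero_of_closed f fun x' hx' _ => (inj η x' hx'.symm hηU).symm
    obtain ⟨h1, -⟩ := DimFormula.cd_formula f hηy
    have h2 : DimFormula.cd η y ≠ 0 := fun h0 =>
      hxU (hy ▸ (DimFormula.cd_eq_zero_iff hηy).mp h0 ▸ hηU)
    have h3 := DimFormula.cd_le_codim (hηy.map f.continuous)
    have h4 : DimFormula.codim (f y) ≤ 1 := by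
      rw [hy]
      rw [DimFormula.ringKrullDim_stalk] at hx
      exact_mod_cast hx
    rw [hη0] at h1
    omega
  have hcl : ∀ p : f.fiber x, IsClosed ({p} : Set (f.fiber x)) := fun p => by
    have hf : ∀ q : f.fiber x, f (f.fiberι x q) = x := fun q => by
      have : f.fiberι x q ∈ Set.range (f.fiberι x) := ⟨q, rfl⟩
      rwa [Scheme.Hom.range_fiberι] at this
    refine closure_eq_iff_isClosed.1 (Set.Subset.antisymm (fun q hq => ?_) subset_closure)
    have h : f.fiberι x p ⤳ f.fiberι x q :=
      (specializes_iff_mem_closure.2 hq).map (f.fiberι x).continuous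
    obtain ⟨h1, -⟩ := DimFormula.cd_formula f h
    rw [hrd _ (hf p), hf p, hf q, DimFormula.cd_self] at h1
    exact ((f.fiberι x).isEmbedding.injective
      ((DimFormula.cd_eq_zero_iff h).mp (by omega))).symm
  have : LocallyOfFiniteType (f.fiberToSpecResidueField x) :=
    MorphismProperty.pullback_snd _ _ inferInstance
  have : IsLocallyNoetherian (f.fiber x) :=
    LocallyOfFiniteType.isLocallyNoetherian (f.fiberToSpecResidueField x)
  have : IsNoetherian (f.fiber x) := { }
  have : Finite (f.fiber x) := Set.finite_univ_iff.mp
    (CurveCohLib.finite_of_closedPoints isClosed_univ fun p _ => hcl p)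
  rw [← Scheme.Hom.range_fiberι]
  exact Set.finite_range _

end Groth.Agent.S13532
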