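import Groth.Statements.S13536
import Groth.Agent.Snapper.IsoOn
import Groth.Agent.QCoh.DevissageP
import Groth.Agent.PnCoh.PushNat
import Groth.Agent.CurveCohLib.Euler
import Groth.Agent.H23.RedSub

set_option autoImplicit false
set_option backward.isDefEq.respectTransparency false
set_option backward.isDefEq.respectTransparency.types false
set_option linter.style.haveILetI false
universe u
open CategoryTheory CategoryTheory.Limits AlgebraicGeometry
open ResProp

namespace Groth.Agent.S13536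

open Groth.Agent.PnCoh.Finite (mapLin deltaLin)

/-- The integers in the universe, without the lifted module structures. -/
def Zu : Type u := ULift.{u} ℤ

noncomputable instance : CommRing Zu.{u} := inferInstanceAs (CommRing (ULift.{u} ℤ))

noncomputable def fromX (X : Scheme.{u}) : X ⟶ Spec (CommRingCat.of Zu.{u}) := specULiftZIsTerminal.from X

open TopologicalSpace in
theorem subsingleton_of_supported {X Z : Scheme.{u}} [IsNoetherian X] (ι : Z ⟶ X) [IsClosedImmersion ι] (k : ℕ)
    (hcd : ∀ G : Z.Modules, Coh.IsQCoh G → ∀ i : ℕ, k + 1 ≤ i → Subsingleton (Coh.HH Z G i))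
    {M : X.Modules} (hM : Coh.IsCoh M) (hs : CohB1.support M ⊆ Set.range ι.base) (j : ℕ) (hj : k + 1 ≤ j) :
    Subsingleton (Coh.HH X M j) := by
  revert hs
  induction QCoh.filt_of_isCoh hM with
  | zero h => exact fun _ => Euler.subsingleton_HH_of_isZero h j
  | @step N M φ _ _ hN hMc hex ih =>
    intro hs
    have hc := QCoh.isCoh_cokernel hN.1 hMc φ
    refine QCoh.subsingleton_HH_X₂ (S := ShortComplex.mk φ (cokernel.π φ) (cokernel.condition φ))
      (.mk' (ShortComplex.exact_of_g_is_cokernel _ (cokernelIsCokernel φ)) inferInstance inferInstance) j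
      (ih hN ((QCoh.mem_support_of_mono hN.1 hMc.1 φ).trans hs)) ?_
    obtain ⟨W, i, hi, hW, I, w, hw, hI, hI0, ⟨e⟩⟩ := hex
    haveI := hi; haveI := hW; haveI := hw
    have hr : Set.range i ⊆ Set.range ι.base := by
      rw [QCoh.range_eq_closure i, ← QCoh.support_push_ideal i w hI hI0, ← QCoh.support_iso e hc.1]
      exact (QCoh.support_of_epi hMc.1 hc.1 (cokernel.π φ)).trans hs
    obtain ⟨g, hg⟩ := H23.RedSub.exists_lift_closed i ι hr
    haveI : IsClosedImmersion (g ≫ ι) := hg.symm ▸ hi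
    haveI : IsClosedImmersion g := IsClosedImmersion.of_comp g ι
    let G := (Scheme.Modules.pushforward g).obj I
    have hG : Coh.IsQCoh G := QCoh.isQCoh_pushforward g hI
    let A := Zu.{u}
    letI : X.Over (Spec (CommRingCat.of A)) := ⟨fromX X⟩
    letI : Z.Over (Spec (CommRingCat.of A)) := ⟨ι ≫ fromX X⟩
    obtain ⟨l⟩ := PnCoh.exists_linearEquiv_push A ι rfl hG j
    haveI := hcd G hG j hj
    have h1 : Subsingleton (Coh.HH X ((Coh.push ι).obj G) j) := l.toEquiv.subsingleton_congr.1 ‹_›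
    exact QCoh.subsingleton_HH_of_iso
      (e ≪≫ (Scheme.Modules.pushforwardCongr hg.symm).app I ≪≫ ((Scheme.Modules.pushforwardComp g ι).app I).symm).symm j h1

theorem bijective_g {X : Scheme.{u}} [X.Over (Spec (CommRingCat.of Zu.{u}))] {S : ShortComplex X.Modules}
    (hS : S.ShortExact) (q : ℕ) (h : Subsingleton (Coh.HH X S.X₁ q)) (h' : Subsingleton (Coh.HH X S.X₁ (q + 1))) :
    Function.Bijective (mapLin Zu.{u} S.g q) := by
  refine ⟨(injective_iff_map_eq_zero _).2 fun x hx => ?_, fun y => ?_⟩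
  · have hx' : x ∈ LinearMap.ker (mapLin Zu.{u} S.g q) := hx
    rw [CurveCohLib.ker_mapLin_g Zu.{u} hS q] at hx'
    obtain ⟨z, rfl⟩ := hx'
    rw [h.elim z 0, map_zero]
  · have hy : y ∈ LinearMap.ker (deltaLin Zu.{u} hS q) := h'.elim _ _
    rw [CurveCohLib.ker_deltaLin Zu.{u} hS q] at hy
    exact hy

theorem bijective_f {X : Scheme.{u}} [X.Over (Spec (CommRingCat.of Zu.{u}))] {S : ShortComplex X.Modules}
    (hS : S.ShortExact) (q : ℕ) (h : Subsingleton (Coh.HH X S.X₃ q)) (h' : Subsingleton (Coh.HH X S.X₃ (q + 1))) :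
    Function.Bijective (mapLin Zu.{u} S.f (q + 1)) := by
  refine ⟨(injective_iff_map_eq_zero _).2 fun x hx => ?_, fun y => ?_⟩
  · have hx' : x ∈ LinearMap.ker (mapLin Zu.{u} S.f (q + 1)) := hx
    rw [CurveCohLib.ker_mapLin_f_succ Zu.{u} hS q] at hx'
    obtain ⟨z, rfl⟩ := hx'
    rw [h.elim z 0, map_zero]
  · have hy : y ∈ LinearMap.ker (mapLin Zu.{u} S.g (q + 1)) := h'.elim _ _
    rw [CurveCohLib.ker_mapLin_g Zu.{u} hS (q + 1)] at hy
    exact hy

variable {X : Scheme.{u}} [IsNoetherian X] [X.Over (Spec (CommRingCat.of Zu.{u}))] {U : X.Opens} {k : ℕ}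

/-- A morphism of coherent modules iso over `U` induces isomorphisms in high degrees. -/
theorem bijective_of_isoOn
    (key : ∀ M : X.Modules, Coh.IsCoh M → CohB1.support M ⊆ (U : Set X)ᶜ → ∀ j, k + 1 ≤ j →
      Subsingleton (Coh.HH X M j))
    {A B : X.Modules} (hA : Coh.IsCoh A) (hB : Coh.IsCoh B) {g : A ⟶ B} (hg : Snapper.IsoOn U g)
    (i : ℕ) (hi : k + 2 ≤ i) :
    Nonempty (Coh.HH X A i ≃+ Coh.HH X B i) := by
  obtain ⟨p, rfl⟩ : ∃ p, i = p + 1 := ⟨i - 1, by omega⟩
  let R := Zu.{u}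
  have hI : Coh.IsCoh (Abelian.image g) := QCoh.isCoh_kernel hB (QCoh.isCoh_cokernel hA.1 hB g) _
  have hS₁ : (ShortComplex.mk (kernel.ι g) (Abelian.factorThruImage g) (by
      rw [← cancel_mono (Abelian.image.ι g), Category.assoc, Abelian.image.fac, kernel.condition, zero_comp])).ShortExact :=
    .mk' (ShortComplex.exact_of_f_is_kernel _
      (KernelFork.IsLimit.ofι _ _ (fun t ht => kernel.lift g t (by
          rw [← Abelian.image.fac g, ← Category.assoc, ht, zero_comp]))
        (fun t ht => kernel.lift_ι _ _ _)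
        (fun t ht m hm => by
          rw [← cancel_mono (kernel.ι g), kernel.lift_ι]
          exact hm))) inferInstance inferInstance
  have hS₂ : (ShortComplex.mk (Abelian.image.ι g) (cokernel.π g) (kernel.condition _)).ShortExact :=
    .mk' (ShortComplex.exact_of_f_is_kernel _ (kernelIsKernel _)) inferInstance inferInstance
  have hk := Snapper.support_subset_compl hg
  have hkc : Coh.IsCoh (kernel g) := QCoh.isCoh_kernel hA hB g
  have hcc : Coh.IsCoh (cokernel g) := QCoh.isCoh_cokernel hA.1 hB g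
  have v1 := key _ hkc hk.1
  have v2 := key _ hcc hk.2
  have b1 := bijective_g hS₁ (p + 1) (v1 (p + 1) (by omega)) (v1 (p + 1 + 1) (by omega))
  have b2 := bijective_f hS₂ p (v2 p (by omega)) (v2 (p + 1) (by omega))
  exact ⟨((LinearEquiv.ofBijective _ b1).trans (LinearEquiv.ofBijective _ b2)).toAddEquiv⟩

noncomputable def hhEquiv_of_isoOn
    (key : ∀ M : X.Modules, Coh.IsCoh M → CohB1.support M ⊆ (U : Set X)ᶜ → ∀ j, k + 1 ≤ j →
      Subsingleton (Coh.HH X M j))
    {A B : X.Modules} (hA : Coh.IsCoh A) (hB : Coh.IsCoh B) {g : A ⟶ B} (hg : Snapper.IsoOn U g)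
    (i : ℕ) (hi : k + 2 ≤ i) : Coh.HH X A i ≃+ Coh.HH X B i :=
  (bijective_of_isoOn key hA hB hg i hi).some

/-- On a Noetherian scheme X let Z be a closed subscheme of cohomological dimension at most k (every
quasi-coherent module on Z has zero cohomology in degrees ≥ k + 1) and let F, F' be coherent modules
which are isomorphic on the open complement of Z. Then H^i(X, F) and H^i(X, F') are isomorphic for
all i ≥ k + 2 (existence of an additive isomorphism only; the identification depends on choices). -/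
theorem result (X : Scheme.{u}) [IsNoetherian X]
    {Z : Scheme.{u}} (ι : Z ⟶ X) [IsClosedImmersion ι] (k : ℕ)
    (hcd : ∀ G : Z.Modules, Coh.IsQCoh G → ∀ i : ℕ, k + 1 ≤ i → Subsingleton (Coh.HH Z G i))
    (U : X.Opens) (hU : (U : Set X) = (Set.range ι.base)ᶜ)
    (F F' : X.Modules) (hF : Coh.IsCoh F) (hF' : Coh.IsCoh F')
    (hiso : Nonempty (F.restrict U.ι ≅ F'.restrict U.ι)) (i : ℕ) (hi : k + 2 ≤ i) :
    Nonempty (Coh.HH X F i ≃+ Coh.HH X F' i) := by
  letI : X.Over (Spec (CommRingCat.of Zu.{u})) := ⟨fromX X⟩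
  obtain ⟨θ⟩ := hiso
  haveI : QuasiCompact U.ι := inferInstance
  let Q := (Scheme.Modules.pushforward U.ι).obj (F.restrict U.ι)
  have hQ : Coh.IsQCoh Q := Groth.Agent.QCoh.isQCoh_pushforward U.ι (Groth.Agent.QCoh.isQCoh_restrict U.ι hF.1)
  let φ : F' ⟶ Q := Groth.Agent.Snapper.resMap U F' ≫ (Scheme.Modules.pushforward U.ι).map θ.inv
  have hφ : Groth.Agent.Snapper.IsoOn U φ := fun x hx => by
    haveI := Groth.Agent.Snapper.isoOn_resMap U F' x hx
    show IsIso ((DerSch.stalkFunctor X x).map (_ ≫ _))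
    rw [Functor.map_comp]
    infer_instance
  obtain ⟨K, I, a, b, c, hK, hI, ha, hb, hc⟩ := Groth.Agent.Snapper.exists_link hF' hF hQ φ
    (Groth.Agent.Snapper.resMap U F) hφ (Groth.Agent.Snapper.isoOn_resMap U F)
  have key : ∀ M : X.Modules, Coh.IsCoh M → CohB1.support M ⊆ (U : Set X)ᶜ → ∀ j, k + 1 ≤ j →
      Subsingleton (Coh.HH X M j) := fun M hM hs j hj => by
    rw [hU, compl_compl] at hs
    exact subsingleton_of_supported ι k hcd hM hs j hj
  exact ⟨(hhEquiv_of_isoOn key hF hI hc i hi).trans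
    ((hhEquiv_of_isoOn key hK hI hb i hi).symm.trans (hhEquiv_of_isoOn key hK hF' ha i hi))⟩

end Groth.Agent.S13536
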