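import Groth.Statements.S13547
import Groth.Agent.H9Misc.PhiEquiv

set_option autoImplicit false
universe u
open CategoryTheory AlgebraicGeometry
attribute [local instance] HasDerivedCategory.standard
open DEquiv

namespace Groth.Agent.S13547

/-- Let X → S and Y → S be smooth proper morphisms and let K, a complex of modules on X ×_S Y, be a
Fourier–Mukai kernel giving a relative equivalence over S from X to Y. The derived functors involved
are assumed to exist (instance binders), and the Fourier–Mukai functor Φ_K = Rpr_{2,*}(Lpr_1^*(−)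
⊗^L K) is assumed to send perfect objects to perfect objects (hypothesis h). Then Φ_K : D_perf(O_X)
⥤ D_perf(O_Y) is an equivalence of categories. -/
theorem result {S X Y : Scheme.{u}} (a : X ⟶ S) (b : Y ⟶ S)
    [Smooth a] [IsProper a] [Smooth b] [IsProper b]
    (K : CochainComplex (Limits.pullback a b).Modules ℤ)
    [DCoh.HasLpull (Limits.pullback.fst a b)] [DCoh.HasLTensorCx K] [DCoh.HasRpush (Limits.pullback.snd a b)]
    [DCoh.HasLpull (FMK.p12 a b a)] [DCoh.HasRpush (FMK.p13 a b a)]
    [∀ L : CochainComplex (FMK.T a b a).Modules ℤ, DCoh.HasLTensorCx L]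
    [DCoh.HasLpull (FMK.p12 b a b)] [DCoh.HasRpush (FMK.p13 b a b)]
    [∀ L : CochainComplex (FMK.T b a b).Modules ℤ, DCoh.HasLTensorCx L]
    (hK : FMK.IsRelEquivKernel a b K)
    (h : ∀ M : DCoh.D X, SGA6.perfP X M → SGA6.perfP Y ((FMK.phi a b K).obj M)) :
    (FMK.phiOn a b K (SGA6.perfP X) (SGA6.perfP Y) h).IsEquivalence := by
  exact Groth.Agent.H9Misc.isEquivalence_phiOn a b K hK (SGA6.perfP X) (SGA6.perfP Y)
    (fun M h => Groth.Agent.H9Misc.isQCohD_of_isPerfect h) (fun M h => Groth.Agent.H9Misc.isQCohD_of_isPerfect h)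
    (fun M hM _ _ _ E hE => Groth.Agent.H9Misc.isPerfect_phi b a M hM hE) h

end Groth.Agent.S13547
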