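import Groth.Statements.S1355
import Mathlib
import Groth.Agent.S7591
import Groth.Agent.S9734

set_option autoImplicit false
universe u
open FlatMor

namespace Groth.Agent.S1355

open AlgebraicGeometry CategoryTheory Limits in
/-- Let f : X → S and s a point of S. The fibre of f over s is geometrically connected if and only if
for every étale morphism U → S and every point u over s, the fibre over u of the base change of f to
U is connected. -/
theorem result {X S : Scheme.{u}} (f : X ⟶ S) (s : S) :
    GeometricallyConnected (f.fiberToSpecResidueField s) ↔
      ∀ (U : Scheme.{u}) (g : U ⟶ S) (u : U), Etale g → g u = s → ConnectedSpace ↑((pullback.snd f g).fiber u) := by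
  constructor
  · intro h U g u _ hgu
    subst hgu
    have hP := isPullback_fiberToSpecResidueField_of_isPullback (IsPullback.of_hasPullback f g) u
    have : GeometricallyConnected ((pullback.snd f g).fiberToSpecResidueField u) :=
      MorphismProperty.of_isPullback hP h
    exact GeometricallyConnected.connectedSpace_of_subsingleton
      (f := (pullback.snd f g).fiberToSpecResidueField u)
  · intro h
    letI : (f.fiber s).Over (Spec (CommRingCat.of (S.residueField s))) := ⟨f.fiberToSpecResidueField s⟩
    refine (Groth.Agent.S7591.result (S.residueField s) (f.fiber s)).mpr fun k' _ _ _ _ ↦ ?_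
    obtain ⟨U, g, u, hu, hg, ⟨e⟩⟩ := Groth.Agent.S9734.result S s k'
    subst hu
    letI := ((S.residueFieldCongr (rfl : g u = g u)).inv ≫ g.residueFieldMap u).hom.toAlgebra
    have hP := isPullback_fiberToSpecResidueField_of_isPullback (IsPullback.of_hasPullback f g) u
    haveI := h U g u hg rfl
    let φ : CommRingCat.of k' ⟶ U.residueField u := CommRingCat.ofHom e.toRingEquiv.toRingHom
    have : IsIso φ := (RingEquiv.toCommRingCatIso (R := CommRingCat.of k') e.toRingEquiv).isIso_hom
    have hφ : CommRingCat.ofHom (algebraMap (S.residueField (g u)) k') ≫ φ = g.residueFieldMap u := by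
      ext a
      refine (e.commutes a).trans ?_
      simp [RingHom.algebraMap_toAlgebra]
    let m : pullback (f.fiberToSpecResidueField (g u)) (Spec.map (g.residueFieldMap u)) ⟶
        pullback (f.fiberToSpecResidueField (g u))
          (Spec.map (CommRingCat.ofHom (algebraMap (S.residueField (g u)) k'))) :=
      pullback.map _ _ _ _ (𝟙 _) (Spec.map φ) (𝟙 _) (by simp)
        ((Category.comp_id _).trans ((congrArg Spec.map hφ).symm.trans (Spec.map_comp _ _)))
    have hiso : IsPullback m (pullback.snd _ _) (pullback.snd _ _) (Spec.map φ) := by
      refine IsPullback.of_right ?_ (pullback.lift_snd _ _ _) (IsPullback.of_hasPullback _ _)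
      rw [pullback.lift_fst, Category.comp_id]
      exact IsPullback.of_iso (IsPullback.of_hasPullback _ _) (Iso.refl _) (Iso.refl _) (Iso.refl _)
        (Iso.refl _) (by simp) (by simp) (by simp)
        (by rw [Iso.refl_hom, Iso.refl_hom, Category.comp_id, Category.id_comp]
            exact (congrArg Spec.map hφ).symm.trans (Spec.map_comp _ _))
    have hm : IsIso m := hiso.isIso_fst_of_isIso
    exact (hP.isoPullback ≪≫ @asIso _ _ _ _ m hm).hom.homeomorph.connectedSpace_iff.mp
      (h U g u hg rfl)

end Groth.Agent.S1355
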