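import Groth.Statements.S13558
import Groth.Agent.H9Misc.PhiEquiv

set_option autoImplicit false
universe u
open CategoryTheory AlgebraicGeometry
attribute [local instance] HasDerivedCategory.standard
open DEquiv

namespace Groth.Agent.S13558

/-- Let S be a Noetherian scheme, X, Y, Z schemes proper and flat over S, and K on X ×_S Y, K' on Y ×_S
Z complexes of modules defining perfect objects. The derived functors involved are assumed to exist
(instance binders). Then the convolution K'' = Rpr_{13,*}(Lpr_{12}^* K ⊗^L pr_{23}^* K') on X ×_S Z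
(pr_{23} is flat here, so the termwise inverse image is the derived one) is a perfect object, and
for every complex N on X ×_S Z whose image in the derived category is isomorphic to K'' the
Fourier–Mukai functor Φ_N = Rpr_{2,*}(Lpr_1^*(−) ⊗^L N), restricted to perfect objects of D(O_X), is
isomorphic to Φ_K followed by Φ_{K'} (existence of an isomorphism of functors). -/
theorem result {S X Y Z : Scheme.{u}}
    [IsNoetherian S] (a : X ⟶ S) (b : Y ⟶ S) (c : Z ⟶ S)
    [IsProper a] [Flat a] [IsProper b] [Flat b] [IsProper c] [Flat c]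
    (K : CochainComplex (Limits.pullback a b).Modules ℤ) (K' : CochainComplex (Limits.pullback b c).Modules ℤ)
    (hK : DCoh.IsPerfect (DCoh.toD _ K)) (hK' : DCoh.IsPerfect (DCoh.toD _ K'))
    [DCoh.HasLpull (Limits.pullback.fst a b)] [DCoh.HasLTensorCx K] [DCoh.HasRpush (Limits.pullback.snd a b)]
    [DCoh.HasLpull (Limits.pullback.fst b c)] [DCoh.HasLTensorCx K'] [DCoh.HasRpush (Limits.pullback.snd b c)]
    [DCoh.HasLpull (FMK.p12 a b c)] [DCoh.HasLTensorCx ((FMK.cxPull (FMK.p23 a b c)).obj K')] [DCoh.HasRpush (FMK.p13 a b c)]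
    [DCoh.HasLpull (Limits.pullback.fst a c)] [DCoh.HasRpush (Limits.pullback.snd a c)] :
    DCoh.IsPerfect (FMK.conv a b c K ((FMK.cxPull (FMK.p23 a b c)).obj K')) ∧
      ∀ (N : CochainComplex (Limits.pullback a c).Modules ℤ) [DCoh.HasLTensorCx N],
        Nonempty (DCoh.toD _ N ≅ FMK.conv a b c K ((FMK.cxPull (FMK.p23 a b c)).obj K')) →
        Nonempty (ObjectProperty.ι (SGA6.perfP X) ⋙ FMK.phi a c N ≅
          ObjectProperty.ι (SGA6.perfP X) ⋙ FMK.phi a b K ⋙ FMK.phi b c K') := by
  haveI := Groth.Agent.KFlatLib.hasLpull (FMK.p23 a b c)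
  haveI : Flat (FMK.p23 a b c) := inferInstanceAs (Flat (Limits.pullback.snd (Limits.pullback.snd a b) (Limits.pullback.fst b c)))
  haveI : LocallyOfFinitePresentation b := inferInstance
  haveI : Flat (FMK.p13 a b c) := Groth.Agent.H9Misc.flat_p13 a b c
  haveI : IsProper (FMK.p13 a b c) :=
    MorphismProperty.of_isPullback (P := @IsProper) (Groth.Agent.H9Misc.isPullback_p13 a b c) inferInstance
  haveI : LocallyOfFinitePresentation (FMK.p13 a b c) :=
    MorphismProperty.of_isPullback (P := @LocallyOfFinitePresentation) (Groth.Agent.H9Misc.isPullback_p13 a b c) inferInstance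
  obtain ⟨eL⟩ := Groth.Agent.H9Misc.nonempty_cxPull_iso_lpull (FMK.p23 a b c) K'
  have hL := Groth.Agent.H9Misc.isPerfect_congr eL.symm (Groth.Agent.KFlatLib.isPerfect_lpull _ hK')
  refine ⟨(Groth.Agent.KFlatLib.isPerfect_iff _).2 (Groth.Agent.KFlatLib.TorBC.locSP_rpush_properFlat _
    ((Groth.Agent.KFlatLib.isPerfect_iff _).1 (Groth.Agent.H9Misc.isPerfect_ltensor' _ hL
      (Groth.Agent.KFlatLib.isPerfect_lpull _ hK)))), ?_⟩
  intro N _ hN
  obtain ⟨eN⟩ := hN
  obtain ⟨i⟩ := Groth.Agent.H9Misc.nonempty_phi_conv a b c (Or.inl inferInstance) K K'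
    (Groth.Agent.H9Misc.isQCohD_of_isPerfect hK) (Groth.Agent.H9Misc.isQCohD_of_isPerfect hK') _ eL N eN
  exact ⟨Groth.Agent.H9Misc.restrictIso (fun M h => Groth.Agent.H9Misc.isQCohD_of_isPerfect h) i⟩

end Groth.Agent.S13558
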