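import Groth.Statements.S13559
import Groth.Agent.H9Misc.GorenAdjoint

set_option autoImplicit false
set_option linter.style.haveILetI false
universe u
open CategoryTheory AlgebraicGeometry
attribute [local instance] HasDerivedCategory.standard
open DEquiv Groth.Agent.H9Misc Groth.Agent.KFlatLib

namespace Groth.Agent.S13559

/-- Let S be a Noetherian scheme, X → S and Y → S proper flat morphisms with X → S a Gorenstein
morphism, and K a complex of modules on X ×_S Y defining a perfect object, with dual K^∨ = RHom(K,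
O). Let ω_{X/S} = a(O_S) be the relative dualizing complex of X over S, a being the right adjoint of
R(X → S)_* on D_QCoh (assumed to exist) and O_S the structure sheaf in degree 0. The derived
functors involved are assumed to exist (instance binders). Then for every complex W on X ×_S Y
representing Lpr_1^* ω_{X/S} and every complex K' on Y ×_S X whose image in the derived category is
isomorphic to the derived pullback, along the symmetry Y ×_S X → X ×_S Y, of K^∨ ⊗^L W: K' defines a
perfect object, and, assuming the two Fourier–Mukai functors preserve perfect objects (hypotheses h,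
h'), Φ_{K'} : D_perf(O_Y) ⥤ D_perf(O_X) is right adjoint to Φ_K : D_perf(O_X) ⥤ D_perf(O_Y)
(existence of an adjunction). -/
theorem result {S X Y : Scheme.{u}} [IsNoetherian S] (a : X ⟶ S) (b : Y ⟶ S)
    [IsProper a] [Flat a] [IsProper b] [Flat b]
    (K : CochainComplex (Limits.pullback a b).Modules ℤ) (hK : DCoh.IsPerfect (DCoh.toD _ K))
    [DCoh.HasLpull (Limits.pullback.fst a b)] [DCoh.HasLTensorCx K] [DCoh.HasRpush (Limits.pullback.snd a b)]
    [DCoh.HasRSheafHom K]
    (hG : Dual3.IsGorensteinMor a)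
    [DCoh.HasRpush a] (hRa : DCoh.RpushPreservesQCoh a) [DCoh.HasShriek a hRa]
    (OS : DCoh.DQCoh S) (hOS : OS.obj ≅ DCoh.inD S (Coh.structureModule S))
    (W : CochainComplex (Limits.pullback a b).Modules ℤ) [DCoh.HasLTensorCx W]
    (hW : Nonempty (DCoh.toD _ W ≅ (DCoh.Lpull (Limits.pullback.fst a b)).obj (DCoh.dualizingCx a hRa OS)))
    [DCoh.HasLpull (Limits.pullbackSymmetry b a).hom]
    (K' : CochainComplex (Limits.pullback b a).Modules ℤ)
    (hK' : Nonempty (DCoh.toD _ K' ≅ (DCoh.Lpull (Limits.pullbackSymmetry b a).hom).obj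
      ((DCoh.LTensorCx W).obj ((DCoh.RSheafHom K).obj (DCoh.inD _ (Coh.structureModule (Limits.pullback a b)))))))
    [DCoh.HasLpull (Limits.pullback.fst b a)] [DCoh.HasLTensorCx K'] [DCoh.HasRpush (Limits.pullback.snd b a)]
    (h : ∀ M : DCoh.D X, SGA6.perfP X M → SGA6.perfP Y ((FMK.phi a b K).obj M))
    (h' : ∀ N : DCoh.D Y, SGA6.perfP Y N → SGA6.perfP X ((FMK.phi b a K').obj N)) :
    DCoh.IsPerfect (DCoh.toD _ K') ∧
      Nonempty (FMK.phiOn a b K (SGA6.perfP X) (SGA6.perfP Y) h ⊣ FMK.phiOn b a K' (SGA6.perfP Y) (SGA6.perfP X) h') := by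
  haveI := hasLpull b
  haveI := hasLpull (Limits.pullback.snd a b)
  haveI := hasRpush_scheme (Limits.pullback.fst a b)
  haveI : IsNoetherian X := Groth.Agent.KExact.BCNat.isNoetherian_of_ft a
  haveI : IsNoetherian Y := Groth.Agent.KExact.BCNat.isNoetherian_of_ft b
  haveI : LocallyOfFinitePresentation a := inferInstance
  haveI : IsNoetherian (Limits.pullback a b) := Groth.Agent.KExact.BCNat.isNoetherian_of_ft (Limits.pullback.fst a b ≫ a)
  have hR : DCoh.RpushPreservesQCoh (Limits.pullback.snd a b) := fun M hM => isQCohD_rpush _ hM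
  haveI : DCoh.HasShriek (Limits.pullback.snd a b) hR :=
    Groth.Agent.S1766.result (Limits.pullback a b) Y (Limits.pullback.snd a b) hR
  obtain ⟨eW⟩ := hW
  obtain ⟨eK'⟩ := hK'
  obtain ⟨eO⟩ := exists_structureQ b OS hOS
  let OY : DCoh.DQCoh Y := ⟨(DCoh.Lpull b).obj OS.obj, isQCohD_lpull b OS.property⟩
  obtain ⟨bc⟩ := nonempty_dualizingCx_baseChange a b (Limits.pullback.fst a b) (Limits.pullback.snd a b)
    (IsPullback.of_hasPullback a b) hRa hR OS
  obtain ⟨eG⟩ := Groth.Agent.S3658.result (Limits.pullback a b) Y (Limits.pullback.snd a b) hR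
    (DCoh.shriek (Limits.pullback.snd a b) hR) (DCoh.shriekAdj (Limits.pullback.snd a b) hR) OY ⟨eO⟩ W ⟨eW ≪≫ bc⟩
  obtain ⟨N, ⟨eN⟩⟩ : ∃ N : CochainComplex (Limits.pullback a b).Modules ℤ, Nonempty (DCoh.toD _ N ≅
      (DCoh.LTensorCx W).obj ((DCoh.RSheafHom K).obj (DCoh.inD _ (Coh.structureModule (Limits.pullback a b))))) :=
    ⟨_, ⟨DerivedCategory.Q.objObjPreimageIso _⟩⟩
  haveI := hasLTensorCx N
  have hWp : DCoh.IsPerfect (DCoh.toD _ W) :=
    isPerfect_congr eW.symm (isPerfect_lpull _ (isPerfect_dualizingCx a hG hRa OS hOS))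
  have hWq : DCoh.IsQCohD (DCoh.toD _ W) := isQCohD_of_isPerfect hWp
  have hKp' : DCoh.IsPerfect (DCoh.toD _ K') :=
    isPerfect_congr eK'.symm (isPerfect_lpull _ (isPerfect_congr eN (isPerfect_twist K W N hK hWp eN)))
  have hq : ∀ M : DCoh.D X, DCoh.IsQCohD M → DCoh.IsQCohD ((FMK.phi a b K).obj M) :=
    fun M hM => isQCohD_phi a b K (isQCohD_of_isPerfect hK) hM
  have hq' : ∀ M : DCoh.D Y, DCoh.IsQCohD M → DCoh.IsQCohD ((FMK.phi b a K').obj M) :=
    fun M hM => isQCohD_phi b a K' (isQCohD_of_isPerfect hKp') hM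
  obtain ⟨r⟩ := nonempty_twist_iso_RHom K W N hK eN
  obtain ⟨adj⟩ := nonempty_phiOn_adj a b K hK hR _ (DCoh.shriekAdj (Limits.pullback.snd a b) hR) W hWq eG K'
    (eK' ≪≫ (DCoh.Lpull _).mapIso (eN.symm ≪≫ r)) hq hq'
  exact ⟨hKp', nonempty_restrict_adj (fun M h => isQCohD_of_isPerfect h) (fun M h => isQCohD_of_isPerfect h)
    hq hq' h h' adj⟩

end Groth.Agent.S13559
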