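import Groth.Statements.S13568
import Groth.Agent.AlgStLib.Charts

set_option backward.isDefEq.respectTransparency false
set_option backward.isDefEq.respectTransparency.types false
-- import your own Groth.Agent.* helpers here

set_option autoImplicit false
universe u
open CategoryTheory AlgebraicGeometry
open AlgSt

namespace Groth.Agent.S13568

/-- The composition of two universally injective morphisms of algebraic stacks is universally injective
(universally injective: every base change to an algebraic stack is injective on points). -/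
theorem result {S : Scheme.{u}} {𝒳 𝒴 𝒵 : AlgSt.Cat S}
    (h𝒳 : AlgSt.IsAlgStack Scheme.fppfPrecoverage 𝒳) (h𝒴 : AlgSt.IsAlgStack Scheme.fppfPrecoverage 𝒴)
    (h𝒵 : AlgSt.IsAlgStack Scheme.fppfPrecoverage 𝒵)
    (f : 𝒳 ⥤ᵇ 𝒴) (g : 𝒴 ⥤ᵇ 𝒵) (hf : AlgSt.IsUnivInjective Scheme.fppfPrecoverage f)
    (hg : AlgSt.IsUnivInjective Scheme.fppfPrecoverage g) :
    AlgSt.IsUnivInjective Scheme.fppfPrecoverage (BasedFunctor.comp f g) := Groth.Agent.AlgStLib.isUnivInjective_comp h𝒴 h𝒵 hf hg
end Groth.Agent.S13568
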