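import Groth.Statements.S13577
import Groth.Agent.KFlatLib.Ring.LTen3
-- import your own Groth.Agent.* helpers here

set_option autoImplicit false
universe u
open CategoryTheory CategoryTheory.Limits MonoidalCategory
attribute [local instance] HasDerivedCategory.standard
open DTen

namespace Groth.Agent.S13577

/-- For a commutative ring `A` and objects `a`, `b`, `c` of `D(A)`, the two canonical morphisms from the
iterated derived tensor products `(a ⊗^L b) ⊗^L c` and `a ⊗^L (b ⊗^L c)` to the jointly derived
triple tensor product are both isomorphisms, so that the composite of the first with the inverse of
the second is the associativity isomorphism `(a ⊗^L b) ⊗^L c ≅ a ⊗^L (b ⊗^L c)`, functorial in the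
triple. (The published statement asserts only the existence of the functorial associativity
isomorphism; this row also says that each iterate agrees with the jointly derived triple product,
which is slightly stronger.) -/
theorem result (A : Type u) [CommRing A] [DTen.HasLTen A] [DTen.HasLTen₃ A]
    (a b c : Dual.D A) :
    IsIso ((DTen.assocL A).app (a, (b, c))) ∧ IsIso ((DTen.assocR A).app (a, (b, c))) := KFlatLib.isIso_assoc_app a b c

end Groth.Agent.S13577
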