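import Groth.Statements.S13579
import Groth.Agent.KFlatLib.Ring.ProTensor
import Groth.Agent.KFlatLib.Ring.FiniteTorDimDuality
-- import your own Groth.Agent.* helpers here

set_option autoImplicit false
universe u
open CategoryTheory CategoryTheory.Limits MonoidalCategory
attribute [local instance] HasDerivedCategory.standard
open DTen

namespace Groth.Agent.S13579

/-- Let `A` be a Noetherian commutative ring (the derived tensor product on `D(A)` being assumed to
exist and to be computed by K-flat complexes), `I` an ideal and `K` a bounded cochain complex of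
finite `A`-modules. Then the inverse system of canonical morphisms `K ⊗^L_A A/I^{n+1} ⟶ K/I^{n+1}K`
in `D(A)` is an isomorphism of pro-objects. Here `K/I^{n+1}K` is written as the plain tensor product
complex `K ⊗_A (A/I^{n+1})[0]`, to which it is canonically isomorphic, and the morphisms are the
canonical maps from the derived to the plain tensor product. -/
theorem result (A : Type u) [CommRing A] [IsNoetherianRing A]
    [DTen.HasLTen A] [DTen.KFlatComputes A] (I : Ideal A) (K : DRing.Cx A) (a b : ℤ) (hK : DRing.VanishesOutside K a b)
    (hKf : ∀ i : ℤ, Module.Finite A (K.X i)) :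
    DerCA.IsProIso (Functor.whiskerLeft
      (CohIII.adicSystem I (ModuleCat.of A A) ⋙ HomologicalComplex.single (ModuleCat.{u} A) (ComplexShape.up ℤ) 0)
      (DTen.εLeft A K)) := by
  haveI := Groth.Agent.KFlatLib.hasRHom (A := A)
  haveI : CochainComplex.IsStrictlyLE K b := (CochainComplex.isStrictlyLE_iff _ _).2 fun i hi => hK i (Or.inr hi)
  haveI : (DRing.toD K).IsLE b := (DerivedCategory.isLE_Q_obj_iff _ _).2 inferInstance
  have hfin : ∀ i : ℤ, Module.Finite A (Dual.HD A (DRing.toD K) i) := fun i => by
    haveI := hKf i
    haveI : Module.Finite A (K.cycles i) := Module.Finite.of_injective (K.iCycles i).hom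
      ((ModuleCat.mono_iff_injective _).1 inferInstance)
    haveI : Module.Finite A (K.homology i) := Module.Finite.of_surjective (K.homologyπ i).hom
      ((ModuleCat.epi_iff_surjective _).1 inferInstance)
    haveI : Module.Finite A ((HomologicalComplex.homologyFunctor (ModuleCat.{u} A) (ComplexShape.up ℤ) i).obj K) :=
      inferInstanceAs (Module.Finite A (K.homology i))
    exact Module.Finite.equiv ((DerivedCategory.homologyFunctorFactors (ModuleCat.{u} A) i).app K).symm.toLinearEquiv
  obtain ⟨P, c, hPc, hPf, ⟨e⟩⟩ := Groth.Agent.KFlatLib.pc'_of_finite_hd (DRing.toD K) b hfin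
  obtain ⟨ψ, hψ⟩ := Groth.Agent.KFlatLib.exists_Q_map_proj
    (Groth.Agent.H9Misc.DRingProjAmp.isKProjective
      (fun i => haveI := (hPf i).2; Module.Projective.of_free) hPc) e.hom
  haveI : QuasiIso ψ := (DerivedCategory.isIso_Q_map_iff_quasiIso _ _).1 (hψ ▸ inferInstance)
  exact Groth.Agent.KFlatLib.ProTensor.isProIso_εLeft_adic I K hK hKf ψ (fun i => (hPf i).2) hPc

end Groth.Agent.S13579
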