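import Groth.Statements.S1629
import Groth.Agent.RedComap5.Basic
import Groth.Agent.InsepRed12.Level
import Mathlib

set_option autoImplicit false
universe u
open CategoryTheory CategoryTheory.Limits AlgebraicGeometry
open Variety

namespace Groth.Agent.S1629

set_option backward.isDefEq.respectTransparency false
set_option backward.isDefEq.respectTransparency.types false
open TensorProduct

theorem geometricallyReduced_spec {k : Type u} [Field k] (Q : Type u) [CommRing Q] [Algebra k Q]
    [Algebra.IsGeometricallyReduced k Q] :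
    GeometricallyReduced (Spec.map (CommRingCat.ofHom (algebraMap k Q))) := by
  refine ⟨geometrically_iff_of_commRing_of_isClosedUnderIsomorphisms.mpr fun L _ _ => ?_⟩
  haveI : _root_.IsReduced (Q ⊗[k] L) := GeomField.isReduced_tensor_field Q L
  haveI : AlgebraicGeometry.IsReduced (Spec (CommRingCat.of (Q ⊗[k] L))) :=
    (affine_isReduced_iff _).2 inferInstance
  exact isReduced_of_isOpenImmersion (pullbackSpecIso k Q L).hom

/-- An affine scheme of finite type over `k` whose image is dense in `X`. -/
theorem exists_affine_dense {k : Type u} [Field k] {X : Scheme.{u}} (p : X ⟶ Spec (CommRingCat.of k))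
    [LocallyOfFiniteType p] (hirr : (irreducibleComponents (X : Type u)).Finite) :
    ∃ (A : Type u) (_ : CommRing A) (_ : Algebra k A) (_ : Algebra.FiniteType k A)
      (u : Spec (CommRingCat.of A) ⟶ X),
      u ≫ p = Spec.map (CommRingCat.ofHom (algebraMap k A)) ∧ DenseRange u := by
  classical
  haveI : Finite (genericPoints (X : Type u)) := (genericPoints.finite hirr).to_subtype
  have hex : ∀ η : genericPoints (X : Type u), ∃ V : X.Opens, IsAffineOpen V ∧ η.1 ∈ V := fun η => by
    obtain ⟨V, hV, hη, -⟩ := exists_isAffineOpen_mem_and_subset (U := (⊤ : X.Opens)) (x := η.1) trivial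
    exact ⟨V, hV, hη⟩
  choose V hV hη using hex
  let R : genericPoints (X : Type u) → CommRingCat.{u} := fun η => Γ(X, V η)
  let u : Spec (CommRingCat.of (Π η, R η)) ⟶ X := inv (sigmaSpec R) ≫ Sigma.desc fun η => (hV η).fromSpec
  obtain ⟨φ, hφ⟩ : ∃ φ, Spec.map φ = u ≫ p := ⟨_, Spec.map_preimage _⟩
  letI : Algebra k (Π η, R η) := φ.hom.toAlgebra
  haveI : LocallyOfFiniteType (Sigma.desc fun η => (hV η).fromSpec) :=
    IsZariskiLocalAtSource.sigmaDesc fun η => inferInstance
  haveI : LocallyOfFiniteType (Spec.map φ) := hφ ▸ inferInstance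
  refine ⟨Π η, R η, inferInstance, inferInstance,
    (HasRingHomProperty.Spec_iff (P := @LocallyOfFiniteType) (φ := φ)).1 ‹_›, u, hφ.symm, ?_⟩
  refine Dense.mono (fun x hx => ?_) (dense_iff_closure_eq.2 (genericPoints.closure (α := (X : Type u))))
  obtain ⟨z, hz⟩ : x ∈ Set.range (hV ⟨x, hx⟩).fromSpec := by
    rw [(hV ⟨x, hx⟩).range_fromSpec]; exact hη _
  refine ⟨(Sigma.ι (fun η => Spec (R η)) ⟨x, hx⟩ ≫ sigmaSpec R) z, ?_⟩
  rw [← Scheme.Hom.comp_apply]
  simp only [u, Category.assoc, IsIso.hom_inv_id_assoc, Sigma.ι_desc]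
  exact hz

/-- Let X be a k-scheme locally of finite type, having only finitely many irreducible components. There
is then a finite purely inseparable extension k' of k for which the reduction of X_{k'} (the closed
subscheme defined by the nilradical) is geometrically reduced over k'. -/
theorem result (k : Type u) [Field k] (X : Scheme.{u}) [X.Over (Spec (CommRingCat.of k))] [LocallyOfFiniteType (X ↘ (Spec (CommRingCat.of k)))]
    (hirr : (irreducibleComponents (X : Type u)).Finite) :
    ∃ (k' : Type u) (_ : Field k') (_ : Algebra k k'), FiniteDimensional k k' ∧ IsPurelyInseparable k k' ∧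
      GeometricallyReduced ((Curv2.bc k X k').nilradical.subschemeι ≫ Curv2.bcSnd k X k') := by
  let p := X ↘ Spec (CommRingCat.of k)
  obtain ⟨A, _, _, _, u, hu, hd⟩ := exists_affine_dense p hirr
  obtain ⟨k', _, _, hfd, hpi, hgr⟩ := InsepRed12.exists_level k A
  refine ⟨k', inferInstance, inferInstance, hfd, hpi, ?_⟩
  let g := Spec.map (CommRingCat.ofHom (algebraMap k k'))
  let Q := (k' ⊗[k] A) ⧸ nilradical (k' ⊗[k] A)
  let c : Spec (CommRingCat.of Q) ⟶ Spec (CommRingCat.of (k' ⊗[k] A)) :=
    Spec.map (CommRingCat.ofHom (Ideal.Quotient.mk _))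
  let E : Spec (CommRingCat.of (k' ⊗[k] A)) ≅ pullback u (pullback.fst p g) :=
    (pullbackSpecIso k k' A).symm ≪≫ pullbackSymmetry _ _ ≪≫ (pullback.congrHom hu rfl).symm ≪≫
      (pullbackRightPullbackFstIso p g u).symm
  let u' : Spec (CommRingCat.of (k' ⊗[k] A)) ⟶ Curv2.bc k X k' := E.hom ≫ pullback.snd u (pullback.fst p g)
  have hu' : u' ≫ Curv2.bcSnd k X k' = Spec.map (CommRingCat.ofHom (algebraMap k' (k' ⊗[k] A))) := by
    simp only [u', E, Curv2.bcSnd, Iso.trans_hom, Iso.symm_hom, Category.assoc]
    erw [pullbackRightPullbackFstIso_inv_snd_snd]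
    simp only [pullback.congrHom_inv]
    erw [pullback.lift_snd]
    rw [Category.comp_id]
    erw [pullbackSymmetry_hom_comp_snd]
    exact pullbackSpecIso_inv_fst' k k' A
  have hgr' : GeometricallyReduced ((c ≫ u') ≫ Curv2.bcSnd k X k') := by
    rw [Category.assoc, hu', ← Spec.map_comp]
    exact geometricallyReduced_spec (k := k') Q
  haveI : UniversallyOpen g := by
    haveI : Flat g := (HasRingHomProperty.Spec_iff (P := @Flat)).2
      (RingHom.flat_algebraMap_iff.2 (@Module.Flat.of_free k k' _ _ _ (Module.Free.of_divisionRing k k')))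
    have hfp : Algebra.FinitePresentation k k' := Algebra.FinitePresentation.of_finiteType.1 inferInstance
    haveI : LocallyOfFinitePresentation g := (HasRingHomProperty.Spec_iff (P := @LocallyOfFinitePresentation)).2
      (RingHom.finitePresentation_algebraMap.2 hfp)
    exact UniversallyOpen.of_flat g
  have hsurj : Function.Surjective c := by
    intro P
    have hker : RingHom.ker (Ideal.Quotient.mk (nilradical (k' ⊗[k] A))) ≤ P.asIdeal := by
      rw [Ideal.mk_ker]; exact nilradical_le_prime _
    obtain ⟨Q', hQ'⟩ : P ∈ Set.range (PrimeSpectrum.comap (Ideal.Quotient.mk (nilradical (k' ⊗[k] A)))) := by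
      rw [range_comap_of_surjective _ _ Ideal.Quotient.mk_surjective]
      exact hker
    exact ⟨Q', hQ'⟩
  have hrange : Set.range (c ≫ u') = pullback.fst p g ⁻¹' Set.range u := by
    rw [Scheme.Hom.comp_base, TopCat.coe_comp, hsurj.range_comp]
    have hE : Function.Surjective E.hom := E.hom.homeomorph.surjective
    show Set.range (E.hom ≫ pullback.snd u (pullback.fst p g)) = _
    rw [Scheme.Hom.comp_base, TopCat.coe_comp, hE.range_comp]
    exact Scheme.Pullback.range_snd _ _
  have key := RedComap5.geometricallyReduced_closure (Curv2.bcSnd k X k')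
    (fun _ : PUnit.{u + 1} => Spec (CommRingCat.of Q)) (fun _ => c ≫ u') (fun _ => hgr')
  have hC : TopologicalSpace.Closeds.closure (⋃ _ : PUnit.{u + 1}, Set.range (c ≫ u')) = ⊤ := by
    refine TopologicalSpace.Closeds.ext ?_
    rw [TopologicalSpace.Closeds.coe_closure, Set.iUnion_const, hrange, TopologicalSpace.Closeds.coe_top]
    exact dense_iff_closure_eq.1 (hd.preimage (pullback.fst p g).isOpenMap)
  rw [hC, Scheme.IdealSheafData.vanishingIdeal_top] at key
  exact key


end Groth.Agent.S1629
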