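import Groth.Statements.S1358
import Groth.Agent.FlatMisc.QsShrink
import Groth.Agent.FlatMisc.GenericRed
import Groth.Agent.FlatMisc.PurelyInsepModel
import Groth.Agent.S1629
import Groth.Agent.QCoh.Support

set_option linter.style.haveILetI false
set_option backward.isDefEq.respectTransparency false
set_option backward.isDefEq.respectTransparency.types false
set_option maxHeartbeats 1000000

set_option autoImplicit false
universe u
open FlatMor

namespace Groth.Agent.S1358

open AlgebraicGeometry CategoryTheory CategoryTheory.Limits TopologicalSpace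

/-- The ring of an affine neighbourhood of the generic point and its residue field. -/
theorem evaluation_generic {Y : Scheme.{u}} [IrreducibleSpace Y] {V : Y.Opens} (hV : IsAffineOpen V)
    (hη : genericPoint Y ∈ V) :
    let φ := Y.evaluation V (genericPoint Y) hη
    Spec.map φ ≫ hV.fromSpec = Y.fromSpecResidueField (genericPoint Y) ∧
      (∀ z, ∃ a s, φ s ≠ 0 ∧ z = φ a / φ s) ∧ ∀ P : Ideal Γ(Y, V), P.IsPrime → RingHom.ker φ.hom ≤ P := by
  intro φ
  have hmem : ∀ a, φ a ≠ 0 ↔ a ∉ (hV.primeIdealOf ⟨_, hη⟩).asIdeal := fun a =>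
    (Y.evaluation_ne_zero_iff_mem_basicOpen _ hη a).trans (QCoh.mem_basicOpen_iff_notMem hV hη a)
  refine ⟨?_, fun z => ?_, fun P hP a ha => ?_⟩
  · show Spec.map (Y.presheaf.germ V _ hη ≫ Y.residue _) ≫ _ = _
    rw [Spec.map_comp, Category.assoc, Scheme.fromSpecResidueField]
    exact congrArg (Spec.map (Y.residue _) ≫ ·) (hV.fromSpecStalk_eq_fromSpecStalk hη)
  · letI := Y.presheaf.algebra_section_stalk ⟨_, hη⟩
    haveI := hV.isLocalization_stalk ⟨_, hη⟩
    obtain ⟨w, rfl⟩ := IsLocalRing.residue_surjective (R := Y.presheaf.stalk (genericPoint Y)) z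
    obtain ⟨⟨a, s⟩, h⟩ := IsLocalization.surj (hV.primeIdealOf ⟨_, hη⟩).asIdeal.primeCompl w
    refine ⟨a, s, (hmem _).2 s.2, ?_⟩
    rw [eq_div_iff ((hmem _).2 s.2)]
    exact (map_mul (IsLocalRing.residue _) w _).symm.trans (congrArg (IsLocalRing.residue _) h)
  · by_contra h
    have hle : (hV.primeIdealOf ⟨_, hη⟩).asIdeal ≤ P := by
      refine (PrimeSpectrum.le_iff_specializes (hV.primeIdealOf ⟨_, hη⟩) ⟨P, hP⟩).2 ?_
      rw [← hV.fromSpec.isOpenEmbedding.isInducing.specializes_iff, hV.fromSpec_primeIdealOf]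
      exact (genericPoint_spec Y).specializes trivial
    exact (hmem a).2 (fun h' => h (hle h')) ha

end Groth.Agent.S1358

namespace Groth.Agent.S1358

open AlgebraicGeometry CategoryTheory CategoryTheory.Limits TopologicalSpace

open AlgebraicGeometry CategoryTheory Limits in
/-- Let f be of finite type with irreducible target Y. Then there are a nonempty open V of Y, a finite
universal homeomorphism g from an integral affine scheme Y' to V, and a reduced scheme X' with a
surjective closed immersion into the base change of X to Y' (so X' is the reduction of that base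
change), such that X' → Y' is flat and of finite presentation and its generic fibre is geometrically
reduced. -/
theorem result {X Y : Scheme.{u}} (f : X ⟶ Y) [IrreducibleSpace ↑Y] [LocallyOfFiniteType f] [QuasiCompact f] :
    ∃ (V : Y.Opens) (Y' : Scheme.{u}) (g : Y' ⟶ (V : Scheme.{u})) (X' : Scheme.{u}) (r : X' ⟶ pullback f (g ≫ V.ι)) (hY' : IsIntegral Y'),
      (V : Set ↑Y).Nonempty ∧ IsAffine Y' ∧ IsFinite g ∧ FlatMor.IsUnivHomeo g ∧ IsClosedImmersion r ∧ Surjective r ∧ IsReduced X' ∧
      Flat (r ≫ pullback.snd f (g ≫ V.ι)) ∧ LocallyOfFinitePresentation (r ≫ pullback.snd f (g ≫ V.ι)) ∧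
      QuasiCompact (r ≫ pullback.snd f (g ≫ V.ι)) ∧ QuasiSeparated (r ≫ pullback.snd f (g ≫ V.ι)) ∧
      GeometricallyReduced ((r ≫ pullback.snd f (g ≫ V.ι)).fiberToSpecResidueField (genericPoint ↑Y')) := by
  let η := genericPoint Y
  obtain ⟨V₀, hV₀, hη, -⟩ := exists_isAffineOpen_mem_and_subset (U := (⊤ : Y.Opens)) (x := η) trivial
  obtain ⟨hφfs, hfrac, hker⟩ := evaluation_generic hV₀ hη
  let R := Γ(Y, V₀)
  let K := Y.residueField η
  let φ : Γ(Y, V₀) →+* Y.residueField η := (Y.evaluation V₀ η hη).hom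
  let fs : Spec Γ(Y, V₀) ⟶ Y := hV₀.fromSpec
  -- the generic fibre after a purely inseparable extension
  let XK := pullback f (Y.fromSpecResidueField η)
  letI : XK.Over (Spec (CommRingCat.of (Y.residueField η))) := ⟨pullback.snd f (Y.fromSpecResidueField η)⟩
  haveI hft : LocallyOfFiniteType (XK ↘ Spec (CommRingCat.of (Y.residueField η))) :=
    inferInstanceAs (LocallyOfFiniteType (pullback.snd f (Y.fromSpecResidueField η)))
  haveI : IsLocallyNoetherian XK :=
    LocallyOfFiniteType.isLocallyNoetherian (pullback.snd f (Y.fromSpecResidueField η))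
  haveI : CompactSpace XK := QuasiCompact.compactSpace_of_compactSpace (pullback.snd f (Y.fromSpecResidueField η))
  haveI : AlgebraicGeometry.IsNoetherian XK := {}
  obtain ⟨k', _, _, _, _, hgr⟩ := Groth.Agent.S1629.result (Y.residueField η) XK
    TopologicalSpace.NoetherianSpace.finite_irreducibleComponents
  obtain ⟨A, _, _, _, θ, hA, hθfin, hθuh, hθ⟩ :=
    FlatMisc.exists_purelyInseparable_model φ hfrac hker k'
  -- the reduced base change
  let g₀ : Spec (CommRingCat.of A) ⟶ Spec Γ(Y, V₀) := Spec.map (CommRingCat.ofHom θ)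
  haveI : IsFinite g₀ := (IsFinite.SpecMap_iff (f := CommRingCat.ofHom θ)).2 hθfin
  let q : Spec (CommRingCat.of A) ⟶ Y := g₀ ≫ fs
  let Z₀ := pullback f q
  let ι₀ := Z₀.nilradical.subschemeι
  let h₀ : Z₀.nilradical.subscheme ⟶ Spec (CommRingCat.of A) := ι₀ ≫ pullback.snd f q
  haveI : IsReduced Z₀.nilradical.subscheme := H23.RedSub.isReduced_nilradical Z₀
  haveI : Surjective ι₀ := ⟨by
    rw [← Set.range_eq_univ, Scheme.IdealSheafData.range_subschemeι]
    rfl⟩
  obtain ⟨U₁, hU₁, hflat, hlfp⟩ := _root_.FlatMisc.exists_dense_flat h₀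
  obtain ⟨U₂, hU₂, hqs⟩ := FlatMisc.exists_dense_quasiSeparated h₀
  let U := U₁ ⊓ U₂
  have hU : Dense (U : Set (Spec (CommRingCat.of A))) := hU₁.inter_of_isOpen_left hU₂ U₁.2
  have hhomeo := MorLib.isHomeomorph_of_isUnivHomeo hθuh
  obtain ⟨u, hu⟩ := hU.nonempty
  obtain ⟨W, hW, huW, hWU⟩ := exists_isAffineOpen_mem_and_subset
    (U := (⟨g₀ '' (U : Set (Spec (CommRingCat.of A))), hhomeo.isOpenMap _ U.2⟩ : (Spec Γ(Y, V₀)).Opens))
    (x := g₀ u) ⟨u, hu, rfl⟩
  let W' : (Spec (CommRingCat.of A)).Opens := g₀ ⁻¹ᵁ W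
  have hW'U : W' ≤ U := fun x hx => by
    obtain ⟨y, hy, e⟩ := hWU hx
    exact hhomeo.injective e ▸ hy
  have hW' : IsAffineOpen W' := hW.preimage g₀
  haveI : Nonempty (W' : Scheme.{u}) := ⟨⟨u, huW⟩⟩
  haveI : IsIntegral (W' : Scheme.{u}) := isIntegral_of_isOpenImmersion W'.ι
  let V : Y.Opens := fs ''ᵁ W
  let e : (W : Scheme.{u}) ≅ (V : Scheme.{u}) := fs.isoImage W
  let g : (W' : Scheme.{u}) ⟶ (V : Scheme.{u}) := (g₀ ∣_ W) ≫ e.hom
  have hgq : g ≫ V.ι = W'.ι ≫ q := by
    show ((g₀ ∣_ W) ≫ e.hom) ≫ V.ι = _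
    rw [Category.assoc, Scheme.Hom.isoImage_hom_ι, morphismRestrict_ι_assoc]
  -- the new family
  let N' := h₀ ⁻¹ᵁ W'
  have hbig : IsPullback (pullback.map f (g ≫ V.ι) f q (𝟙 X) W'.ι (𝟙 Y) (by simp) (by simp [hgq]))
      (pullback.snd f (g ≫ V.ι)) (pullback.snd f q) W'.ι := by
    refine IsPullback.of_right ?_ (pullback.lift_snd _ _ _) (IsPullback.of_hasPullback f q)
    rw [pullback.lift_fst, Category.comp_id, ← hgq]
    exact IsPullback.of_hasPullback _ _
  have hr₀ : (N'.ι ≫ ι₀) ≫ pullback.snd f q = (h₀ ∣_ W') ≫ W'.ι := by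
    rw [Category.assoc, morphismRestrict_ι]
  let r : (N' : Scheme.{u}) ⟶ pullback f (g ≫ V.ι) := hbig.lift (N'.ι ≫ ι₀) (h₀ ∣_ W') hr₀
  have hrs : r ≫ pullback.snd f (g ≫ V.ι) = h₀ ∣_ W' := hbig.lift_snd _ _ _
  have hrpb : IsPullback N'.ι r ι₀
      (pullback.map f (g ≫ V.ι) f q (𝟙 X) W'.ι (𝟙 Y) (by simp) (by simp [hgq])) := by
    refine IsPullback.of_bot ?_ (hbig.lift_fst _ _ _).symm hbig
    rw [hrs]
    exact (isPullback_morphismRestrict h₀ W').flip
  have hle₁ : W' ≤ U₁ := hW'U.trans inf_le_left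
  have hrestr : ∀ {P : MorphismProperty Scheme.{u}} [IsZariskiLocalAtTarget P], P (h₀ ∣_ U₁) → P (h₀ ∣_ W') := by
    intro P _ hP
    refine (MorphismProperty.arrow_mk_iso_iff _ (morphismRestrictRestrict _ _ _ ≪≫
      morphismRestrictEq _ ?_)).1 (IsZariskiLocalAtTarget.restrict (P := P) hP (U₁.ι ⁻¹ᵁ W'))
    rw [Scheme.Hom.image_preimage_eq_opensRange_inf, Scheme.Opens.opensRange_ι, inf_eq_right.2 hle₁]
  haveI : FlatMor.IsUnivHomeo.{u}.RespectsIso := inferInstanceAs (MorphismProperty.universally _).RespectsIso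
  haveI : FlatMor.IsUnivHomeo.{u}.IsStableUnderBaseChange :=
    inferInstanceAs (MorphismProperty.universally _).IsStableUnderBaseChange
  refine ⟨V, W', g, N', r, inferInstance, ⟨fs (g₀ u), ⟨g₀ u, huW, rfl⟩⟩, hW', inferInstance, ?_,
    MorphismProperty.of_isPullback hrpb inferInstance, MorphismProperty.of_isPullback hrpb inferInstance,
    isReduced_of_isOpenImmersion N'.ι, ?_, ?_, ?_, ?_, ?_⟩
  · exact (MorphismProperty.cancel_right_of_respectsIso FlatMor.IsUnivHomeo (g₀ ∣_ W) e.hom).2
      (MorphismProperty.of_isPullback (isPullback_morphismRestrict g₀ W).flip hθuh)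
  · rw [hrs]; exact hrestr (P := @Flat) hflat
  · rw [hrs]; exact hrestr (P := @LocallyOfFinitePresentation) hlfp
  · rw [hrs]; infer_instance
  · rw [hrs]
    haveI : QuasiSeparatedSpace (N' : Scheme.{u}) := hqs W' hW' (hW'U.trans inf_le_right)
    haveI : IsAffine (W' : Scheme.{u}) := hW'
    exact QuasiSeparated.of_quasiSeparatedSpace _
  -- the generic fibre
  · haveI hfr : IsFractionRing A k' := hA
    let l : Spec (CommRingCat.of k') ⟶ Spec (CommRingCat.of A) :=
      Spec.map (CommRingCat.ofHom (algebraMap A k'))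
    let x : Spec (CommRingCat.of A) := W'.ι (genericPoint (W' : Scheme.{u}))
    have hx : x = (⊥ : PrimeSpectrum A) :=
      (genericPoint_eq_of_isOpenImmersion W'.ι).trans (genericPoint_eq_bot_of_affine (CommRingCat.of A))
    have hl : l (IsLocalRing.closedPoint k') = x := by
      rw [hx]
      refine PrimeSpectrum.ext ?_
      show Ideal.comap (algebraMap A k') (IsLocalRing.maximalIdeal k') = ⊥
      rw [IsLocalRing.maximalIdeal_eq_bot, Ideal.comap_bot_of_injective _ (IsFractionRing.injective A k')]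
    obtain ⟨ψ, hψ⟩ : ∃ ψ : (Spec (CommRingCat.of A)).residueField x ⟶ CommRingCat.of k',
        Spec.map ψ ≫ (Spec (CommRingCat.of A)).fromSpecResidueField x = l := by
      obtain ⟨⟨y, ψ⟩, hy⟩ := (Scheme.SpecToEquivOfField k' (Spec (CommRingCat.of A))).symm.surjective l
      have : y = x := by
        rw [← hl, ← hy]
        exact (Scheme.fromSpecResidueField_apply y _).symm
      subst this
      exact ⟨ψ, hy⟩
    haveI : IsIso ψ := by
      refine (ConcreteCategory.isIso_iff_bijective ψ).2 ⟨ψ.hom.injective, fun z => ?_⟩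
      have hev : MorLib.RUH.ev x ≫ ψ = CommRingCat.ofHom (algebraMap A k') := Spec.map_injective (by
        rw [Spec.map_comp, MorLib.RUH.SpecMap_ev, hψ])
      obtain ⟨a, b, hb, rfl⟩ := IsFractionRing.div_surjective (A := A) z
      refine ⟨MorLib.RUH.ev x a / MorLib.RUH.ev x b, ?_⟩
      rw [map_div₀]
      exact congrArg₂ (· / ·) congr($hev a) congr($hev b)
    -- compare with the fibre over `Spec k'`
    let l' : Spec ((W' : Scheme.{u}).residueField (genericPoint (W' : Scheme.{u}))) ⟶ Spec (CommRingCat.of k') :=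
      Spec.map (W'.ι.residueFieldMap (genericPoint (W' : Scheme.{u}))) ≫ inv (Spec.map ψ)
    have hl' : (W' : Scheme.{u}).fromSpecResidueField (genericPoint (W' : Scheme.{u})) ≫ W'.ι = l' ≫ l := by
      rw [Category.assoc, ← hψ, IsIso.inv_hom_id_assoc, Scheme.Hom.SpecMap_residueFieldMap_fromSpecResidueField]
    let B := Curv2.bc (Y.residueField η) XK k'
    have hB : l ≫ q = Spec.map (CommRingCat.ofHom (algebraMap (Y.residueField η) k')) ≫ Y.fromSpecResidueField η := by
      rw [← hφfs]
      show l ≫ Spec.map (CommRingCat.ofHom θ) ≫ fs = _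
      rw [← Spec.map_comp_assoc, ← Spec.map_comp_assoc, ← CommRingCat.ofHom_comp, hθ]
      rfl
    haveI : IsReduced (pullback h₀ l) :=
      FlatMisc.isReduced_pullback_localization (nonZeroDivisors A) h₀
    have hBpb : IsPullback (pullback.fst _ _ ≫ pullback.fst f (Y.fromSpecResidueField η))
        (Curv2.bcSnd (Y.residueField η) XK k') f (l ≫ q) := by
      rw [hB]
      exact IsPullback.paste_horiz (IsPullback.of_hasPullback _ _) (IsPullback.of_hasPullback _ _)
    have hZpb : IsPullback (pullback.fst (pullback.snd f q) l ≫ pullback.fst f q) (pullback.snd (pullback.snd f q) l)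
        f (l ≫ q) := IsPullback.paste_horiz (IsPullback.of_hasPullback _ _) (IsPullback.of_hasPullback _ _)
    let eB := hZpb.isoIsPullback _ _ hBpb
    let i₁ : pullback h₀ l ⟶ pullback (pullback.snd f q) l :=
      pullback.map _ _ _ _ ι₀ (𝟙 _) (𝟙 _) (by simp [h₀]) (by simp)
    have hi₁ : IsPullback (pullback.fst h₀ l) i₁ ι₀ (pullback.fst (pullback.snd f q) l) := by
      refine IsPullback.of_bot ?_ (pullback.lift_fst _ _ _).symm (IsPullback.of_hasPullback (pullback.snd f q) l)
      rw [pullback.lift_snd, Category.comp_id]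
      exact IsPullback.of_hasPullback h₀ l
    haveI : IsClosedImmersion i₁ := MorphismProperty.of_isPullback hi₁ inferInstance
    haveI : Surjective i₁ := MorphismProperty.of_isPullback hi₁ inferInstance
    haveI := hgr
    haveI hG : GeometricallyReduced (pullback.snd h₀ l) := by
      have := FlatMisc.geometricallyReduced_of_surjective_closedImmersion (i₁ ≫ eB.hom)
        (Curv2.bcSnd (Y.residueField η) XK k')
      rw [Category.assoc, IsPullback.isoIsPullback_hom_snd, pullback.lift_snd, Category.comp_id] at this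
      exact this
    rw [hrs]
    have hfib : IsPullback (pullback.fst _ _ ≫ N'.ι)
        ((h₀ ∣_ W').fiberToSpecResidueField (genericPoint (W' : Scheme.{u}))) h₀ (l' ≫ l) := by
      rw [← hl']
      exact IsPullback.paste_horiz (IsPullback.of_hasPullback _ _) (isPullback_morphismRestrict h₀ W').flip
    let m := pullback.lift (pullback.fst (h₀ ∣_ W') _ ≫ N'.ι)
      ((h₀ ∣_ W').fiberToSpecResidueField (genericPoint (W' : Scheme.{u})) ≫ l')
      (by rw [Category.assoc, Category.assoc]; exact (Category.assoc _ _ _).symm.trans hfib.w)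
    have hm : IsPullback m ((h₀ ∣_ W').fiberToSpecResidueField (genericPoint (W' : Scheme.{u})))
        (pullback.snd h₀ l) l' := by
      refine IsPullback.of_right ?_ (pullback.lift_snd _ _ _) (IsPullback.of_hasPullback h₀ l)
      rw [pullback.lift_fst]
      exact hfib
    exact MorphismProperty.of_isPullback hm hG

end Groth.Agent.S1358
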