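import Groth.Statements.S13581
import Groth.Agent.H9Misc.RestrExt

set_option autoImplicit false
universe w' w u
open CategoryTheory CategoryTheory.Limits
open ExtSupp

namespace Groth.Agent.S13581

/-- On a ringed site, for an object `U` and sheaves of modules `M`, `N`, the group `Ext^i(M_U, N)`,
where `M_U = j_!(M|_U)` is the extension by zero of the restriction, is isomorphic to
`Ext^i_{O|_U}(M|_U, N|_U)` computed on the localised site over `U`; hence the long exact sequence
`Ext^i_Z(M, N) → Ext^i(M, N) → Ext^i(M_U, N) → Ext^{i+1}_Z(M, N)` for the closed complement `Z` of
`U` has the Ext groups of the restrictions as its third terms. Existence of an isomorphism of groups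
in each degree only. (The published statements give the long exact sequence itself, on a ringed
space resp. a ringed topos; its exactness over these definitions is formal and is not part of this
row.) -/
theorem result {C : Type u} [SmallCategory C]
    {J : GrothendieckTopology C} {O : Sheaf J CommRingCat.{u}} [HasExt.{w} (ModSite.Mod O)]
    (U : C) [HasExt.{w'} (ModSite.Mod (O.over U))] (M N : ModSite.Mod O) (i : ℕ) :
    Nonempty (Abelian.Ext.{w} (ExtSupp.openMod U M) N i ≃+
      Abelian.Ext.{w'} ((ModSite.restr O U).obj M) ((ModSite.restr O U).obj N) i) := by
  exact SuppCore.nonempty_ext_openMod_addEquiv U M N i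

end Groth.Agent.S13581
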