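import Groth.Statements.S19003
import Groth.Agent.Lib.CanonVia
import Groth.Agent.Lib.CanonBC
import Groth.Agent.S8656
import Groth.Agent.S8652
import Groth.Agent.S5003
import Groth.Agent.S8905
import Groth.Agent.RegConormal.Basic
import Groth.Agent.KRegLib.Mor
import Groth.Agent.KRegLib.Kinds
import Groth.Agent.CurvLocusLib.LocP
import Groth.Agent.KRegLib.Descend
import Groth.Agent.H23.TrivBasic
import Groth.Agent.InvX.Tensor
import Groth.Agent.S4366
import Groth.Agent.H28.PBAtlas
import Groth.Agent.PnLight.Chart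
import Groth.Agent.AlgStLib.QuasiCompactImm
-- import your own Groth.Agent.* helpers here

set_option autoImplicit false
set_option backward.isDefEq.respectTransparency false
set_option backward.isDefEq.respectTransparency.types false
set_option maxHeartbeats 1000000
universe u
open CategoryTheory CategoryTheory.Limits AlgebraicGeometry
open Canon

namespace Groth.Agent.S19003

open Groth.Agent TopologicalSpace Groth.Agent.H23 Groth.Agent.H28
open scoped Groth.Agent.H23.PicMul

/-- The conormal sheaf has a frame of the length of an `H_1`-regular chart. -/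
theorem frameAt_chart {Z P : Scheme.{u}} (i : Z ⟶ P) [IsImmersion i] [QuasiCompact i] (z : Z) (U : P.affineOpens)
    (hz : i z ∈ U.1) (hcl : IsClosedImmersion (i ∣_ U.1)) (rs : List Γ(P, U.1)) (h1 : CAlgX.IsH1Regular rs.get)
    (hker : RingHom.ker (i.app U.1).hom = Ideal.ofList rs) :
    KvbModel.FrameAt (Omega.conormal i) rs.length z := by
  obtain ⟨g, hg⟩ := RegConormal.exists_freeIso_conormal i U hcl rs hker fun y hy a ha l => by
    letI : Algebra Γ(P, U.1) (P.presheaf.stalk (i y)) := (P.presheaf.germ U.1 (i y) hy).hom.toAlgebra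
    haveI : IsLocalization.AtPrime (P.presheaf.stalk (i y)) (U.2.primeIdealOf ⟨i y, hy⟩).asIdeal :=
      U.2.isLocalization_stalk ⟨i y, hy⟩
    have hf := RegConormal.isH1Regular_localization (B := P.presheaf.stalk (i y))
      (U.2.primeIdealOf ⟨i y, hy⟩).asIdeal.primeCompl rs.get h1
    rw [CanonBC.ker_stalk i y U hy hcl rs hker] at ha ⊢
    exact RegConormal.coeff_mem_of_h1 _ hf a ha l
  obtain ⟨s, hs⟩ := H23.Frame.exists_frame ((asIso g).symm ≪≫ QCoh.freeModRestrict _ _)
  exact ⟨i ⁻¹ᵁ U.1, s, hz, hs⟩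

theorem lf_conormal {Z P : Scheme.{u}} (i : Z ⟶ P) [IsImmersion i] [QuasiCompact i]
    (hi : RegImm.IsRegularImmersion .koszul i) : FlatMod.IsFinLocFree (Omega.conormal i) := fun z => by
  obtain ⟨U, hz, hcl, rs, hrs, hker⟩ := hi.2 z
  obtain ⟨V, s, hV, hs⟩ := frameAt_chart i z U hz hcl rs (KRegLib.h1_of_koszul rs hrs) hker
  exact ⟨V, _, hV, H23.Frame.exists_iso_of_frame s hs⟩

/-- A Koszul regular immersion with conormal sheaf of rank `c` is regular of codimension `c`. -/
theorem regular_of_koszul {Z P : Scheme.{u}} [IsLocallyNoetherian P] (i : Z ⟶ P) [QuasiCompact i] (c : ℕ)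
    (hi : RegImm.IsRegularImmersion .koszul i) (hr : FlatMod.IsFinLocFreeOfRank c (Omega.conormal i)) :
    RegImm.IsRegularImmersionOfCodim .regular c i := by
  haveI : IsImmersion i := hi.1
  have h := (S5003.result i).2 ((S8905.result i).2.2 ((S8905.result i).2.1 hi))
  refine ⟨hi.1, fun z => ?_⟩
  obtain ⟨U, hz, hcl, rs, hrs, hker⟩ := h.2 z
  exact ⟨U, hz, hcl, rs, KvbModel.frameAt_unique
    (frameAt_chart i z U hz hcl rs (KRegLib.seq_of_isRegular .h1 rs hrs) hker)
    (KvbModel.frameAt_of_rank hr z), hrs, hker⟩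

theorem open_chart {Z P : Scheme.{u}} (i : Z ⟶ P) [IsOpenImmersion i] (z : Z) :
    ∃ U : P.affineOpens, i z ∈ U.1 ∧ IsClosedImmersion (i ∣_ U.1) ∧
      RingHom.ker (i.app U.1).hom = Ideal.ofList ([] : List Γ(P, U.1)) := by
  obtain ⟨U, hU, hzU, hle⟩ := exists_isAffineOpen_mem_and_subset (U := i.opensRange) (x := i z) ⟨z, rfl⟩
  have hle' : U ≤ i.opensRange := hle
  haveI : IsIso (i.app U) := i.isIso_app U hle'
  haveI : IsIso (i ∣_ U) := by
    haveI : IsOpenImmersion (i ∣_ U) := inferInstance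
    haveI : Surjective (i ∣_ U) := ⟨fun y => by
      obtain ⟨w, hw⟩ := hle' y.2
      exact ⟨⟨w, show i w ∈ U from hw ▸ y.2⟩, Subtype.ext (by rw [morphismRestrict_base]; exact hw)⟩⟩
    exact (isIso_iff_isOpenImmersion_and_surjective _).2 ⟨inferInstance, inferInstance⟩
  refine ⟨⟨U, hU⟩, hzU, inferInstance, ?_⟩
  rw [Ideal.ofList_nil, RingHom.ker_eq_bot_iff_eq_zero]
  exact fun x hx => (ConcreteCategory.bijective_of_isIso (i.app U)).1 (hx.trans (map_zero _).symm)

/-- The conormal sheaf of an immersion restricted to an open subscheme. -/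
theorem conormal_open {X P : Scheme.{u}} (i : X ⟶ P) [IsImmersion i] [QuasiCompact i] (V : X.Opens)
    [QuasiCompact V.ι] :
    Nonempty ((Scheme.Modules.pullback V.ι).obj (Omega.conormal i) ≅ Omega.conormal (V.ι ≫ i)) := by
  obtain ⟨φ₁, hφ₁, -⟩ := S9371.result (V.ι ≫ i) i (𝟙 _) V.ι (by rw [Category.comp_id])
  obtain ⟨φ₂, hφ₂, -⟩ := S9371.result V.ι (V.ι ≫ i) i (𝟙 _) (by rw [Category.id_comp])
  have h0 : CAlgX.IsH1Regular (R := Γ(X, ⊤)) (Fin.elim0 : Fin 0 → Γ(X, ⊤)) := fun a _ => by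
    rw [Subsingleton.elim a 0]
    exact Submodule.zero_mem _
  obtain ⟨w, hS⟩ := RegConormal.shortExact i V.ι φ₁ hφ₁ φ₂ hφ₂ fun x => ⟨0, Fin.elim0, fun a _ => by
    rw [Subsingleton.elim a 0]
    exact Submodule.zero_mem _, by
    rw [Set.range_eq_empty, Ideal.span_empty]
    exact ((RingHom.injective_iff_ker_eq_bot _).1
      (ConcreteCategory.bijective_of_isIso (V.ι.stalkMap x)).1).symm⟩
  have hz : IsZero (Omega.conormal V.ι) := PBAtlas.isZero_of_frames fun x => by
    obtain ⟨U, hx, hcl, hker⟩ := open_chart V.ι x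
    exact frameAt_chart V.ι x U hx hcl [] (fun a _ => by
      rw [show a = 0 from funext fun l => Fin.elim0 l]
      exact Submodule.zero_mem _) hker
  haveI := hS.mono_f
  haveI : Epi φ₁ := hS.exact.epi_f (hz.eq_of_tgt _ _)
  haveI : IsIso φ₁ := isIso_of_mono_of_epi φ₁
  exact ⟨asIso φ₁⟩

/-- An affine open of a scheme of finite type over a field sits in an affine space. -/
theorem exists_affine_embedding {F : Type u} [Field F] {B : Scheme.{u}} (pB : B ⟶ Spec (CommRingCat.of F))
    [LocallyOfFiniteType pB] {U : B.Opens} (hU : IsAffineOpen U) :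
    ∃ (N : ℕ) (A : Scheme.{u}) (a : A ⟶ Spec (CommRingCat.of F)) (k : (U : Scheme.{u}) ⟶ A),
      IsClosedImmersion k ∧ SmoothOfRelativeDimension N a ∧ IsAffine A ∧ k ≫ a = U.ι ≫ pB := by
  let θ := (Scheme.ΓSpecIso (CommRingCat.of F)).inv ≫ pB.appLE ⊤ U le_top
  have hθ : θ.hom.FiniteType :=
    RingHom.FiniteType.comp (HasRingHomProperty.appLE @LocallyOfFiniteType pB inferInstance ⟨⊤, isAffineOpen_top _⟩ ⟨U, hU⟩ le_top)
      (RingHom.FiniteType.of_surjective _ (ConcreteCategory.bijective_of_isIso (Scheme.ΓSpecIso (CommRingCat.of F)).inv).2)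
  letI : Algebra F Γ(B, U) := θ.hom.toAlgebra
  haveI : Algebra.FiniteType F Γ(B, U) := hθ
  obtain ⟨N, ψ, hψ⟩ := Algebra.FiniteType.iff_quotient_mvPolynomial''.1 ‹Algebra.FiniteType F Γ(B, U)›
  let R := CommRingCat.of (MvPolynomial (Fin N) F)
  let a : Spec R ⟶ Spec (CommRingCat.of F) := Spec.map (CommRingCat.ofHom (algebraMap F (MvPolynomial (Fin N) F)))
  haveI : IsClosedImmersion (Spec.map (CommRingCat.ofHom ψ.toRingHom)) := IsClosedImmersion.spec_of_surjective _ hψ
  refine ⟨N, Spec R, a, hU.isoSpec.hom ≫ Spec.map (CommRingCat.ofHom ψ.toRingHom), inferInstance, ?_, inferInstance, ?_⟩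
  · rw [HasRingHomProperty.Spec_iff (P := @SmoothOfRelativeDimension N)]
    refine RingHom.locally_of RingHom.isStandardSmoothOfRelativeDimension_respectsIso _ ?_
    have h := PnLight.isStandardSmooth_mvPolynomial F (Fin N)
    rw [Nat.card_fin] at h
    exact (RingHom.isStandardSmoothOfRelativeDimension_algebraMap N).2 h
  · have hc : CommRingCat.ofHom (algebraMap F (MvPolynomial (Fin N) F)) ≫ CommRingCat.ofHom ψ.toRingHom = θ :=
      CommRingCat.hom_ext ψ.comp_algebraMap
    rw [Category.assoc, ← Spec.map_comp, hc]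
    have h := IsAffineOpen.SpecMap_appLE_fromSpec pB (isAffineOpen_top (Spec (CommRingCat.of F))) hU le_top
    rw [IsAffineOpen.fromSpec_top, Scheme.isoSpec_Spec_inv] at h
    rw [Spec.map_comp, h, ← Category.assoc, IsAffineOpen.isoSpec_hom_fromSpec]

theorem rank_of_ses {X : Scheme.{u}} {S : ShortComplex X.Modules} (hS : S.ShortExact) {h d : ℕ}
    (h₁ : FlatMod.IsFinLocFreeOfRank h S.X₁) (h₂ : FlatMod.IsFinLocFreeOfRank d S.X₂)
    (h₃ : FlatMod.IsFinLocFree S.X₃) : FlatMod.IsFinLocFreeOfRank (d - h) S.X₃ :=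
  KvbModel.rank_of_frameAt fun x => by
    obtain ⟨r, hr⟩ := KvbModel.exists_frameAt h₃ x
    have := KvbModel.frameAt_unique (KvbModel.frameAt_ses hS (KvbModel.frameAt_of_rank h₁ x) hr)
      (KvbModel.frameAt_of_rank h₂ x)
    obtain rfl : r = d - h := by omega
    exact hr

theorem cl_pull {X Y : Scheme.{u}} (f : X ⟶ Y) (M : Y.Modules) :
    PicF.cl ((Scheme.Modules.pullback f).obj M) = PicF.pullCl f (PicF.cl M) := rfl

/-- Invertible modules pulled back through a point are trivial. -/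
theorem cl_pull_point {X P : Scheme.{u}} [Subsingleton P] [Nonempty P] (f : X ⟶ P) {M : P.Modules}
    (hM : PicF.IsInvertible M) : PicF.cl ((Scheme.Modules.pullback f).obj M) = (1 : PicF.Cl X) := by
  obtain ⟨p⟩ := (inferInstance : Nonempty P)
  obtain ⟨U, hp, e, he⟩ := InvX.exists_frame hM p
  obtain rfl : U = ⊤ := top_le_iff.1 fun q _ => by rw [Subsingleton.elim q p]; exact hp
  rw [cl_pull, show PicF.cl M = (1 : PicF.Cl P) from
    (PicMul.cl_eq_iff.2 (TrivBasic.triv_of_frame he)).trans PicMul.one_def.symm]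
  exact PicMul.pullCl_one f

theorem cl_L {X : Scheme.{u}} {E W : X.Modules} {c : ℕ} (hE : FlatMod.IsFinLocFreeOfRank c E)
    (hW : ExtPow.IsExtPow c E W) : PicF.cl (ExtBase.L E c) = PicF.cl W :=
  PicMul.cl_eq_iff.2 (ExtSh.nonempty_iso_L (KvbModel.lf_of_rank hE) hW)

theorem cl_pull_iso {X Y Z : Scheme.{u}} (f : X ⟶ Y) (g : Y ⟶ Z) (h : X ⟶ Z) (w : f ≫ g = h) (M : Z.Modules) :
    PicF.cl ((Scheme.Modules.pullback f).obj ((Scheme.Modules.pullback g).obj M)) =
      PicF.cl ((Scheme.Modules.pullback h).obj M) :=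
  PicMul.cl_eq_iff.2 ⟨(Scheme.Modules.pullbackComp _ _).app _ ≪≫ (Scheme.Modules.pullbackCongr w).app _⟩

/-- Let π : X → B be a local complete intersection morphism between integral schemes of finite type over
a field F whose structure morphisms to Spec F are local complete intersection morphisms, and let k =
F(B) be the function field of B. If ω is a canonical sheaf of X over F — for some factorisation of X
→ Spec F into a quasi-compact regular immersion of constant codimension followed by a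
quasi-separated smooth morphism of constant relative dimension, ω is isomorphic to the dual of the
top exterior power of the conormal sheaf tensor the pulled-back top differentials — then the
restriction of ω to the generic fibre X_η = X ×_B Spec k is a canonical sheaf of X_η over k in the
same sense. (Canonical sheaves are pinned only up to isomorphism here, so the statement is the
existence of a suitable factorisation of X_η → Spec k and of an isomorphism.) -/
theorem result (F : Type u) [Field F] (X B : Scheme.{u})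
    [IsIntegral X] [IsIntegral B]
    (pX : X ⟶ Spec (CommRingCat.of F)) (pB : B ⟶ Spec (CommRingCat.of F))
    [LocallyOfFiniteType pX] [QuasiCompact pX] [LocallyOfFiniteType pB] [QuasiCompact pB]
    (π : X ⟶ B) (hπ : π ≫ pB = pX)
    (hπlci : Dual3.IsLCIMor π) (hXlci : Dual3.IsLCIMor pX) (hBlci : Dual3.IsLCIMor pB)
    (ω : X.Modules) (hω : Canon.IsCanonical pX ω) :
    Canon.IsCanonical (pullback.snd π (B.fromSpecStalk (genericPoint B)))
      ((Scheme.Modules.pullback (pullback.fst π (B.fromSpecStalk (genericPoint B)))).obj ω) := by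
  obtain ⟨P, i, g, c, n, hig, hireg, hg, hqci, hqsg, DC, DP, hDC, hDP, ⟨eω⟩⟩ := hω
  haveI := hg
  haveI := hqci
  haveI := hqsg
  haveI : IsImmersion i := hireg.1
  haveI : Smooth g := SmoothOfRelativeDimension.smooth n g
  haveI : IsLocallyNoetherian P := LocallyOfFiniteType.isLocallyNoetherian g
  haveI : IsLocallyNoetherian B := LocallyOfFiniteType.isLocallyNoetherian pB
  haveI : IsLocallyNoetherian X := LocallyOfFiniteType.isLocallyNoetherian pX
  have kos : ∀ {X' Y' : Scheme.{u}} (h : X' ⟶ Y'), Dual3.IsLCIMor h → ∀ x, Synt.IsKoszulAt h x :=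
    fun h hh x => by
      obtain ⟨U, V, e, hx, hl⟩ := hh x
      exact KRegLib.isKoszulAt_of_chart h x U.1 U.2 V.1 V.2 e hx hl
  -- the immersion over `B`
  let gB := pullback.snd g pB
  haveI : SmoothOfRelativeDimension n gB :=
    haveI := smoothOfRelativeDimension_isStableUnderBaseChange n
    MorphismProperty.pullback_snd _ _ hg
  haveI : Smooth gB := SmoothOfRelativeDimension.smooth n gB
  let jB : X ⟶ pullback g pB := pullback.lift i π (hig.trans hπ.symm)
  have hjB₁ : jB ≫ pullback.fst g pB = i := pullback.lift_fst _ _ _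
  have hjB₂ : jB ≫ gB = π := pullback.lift_snd _ _ _
  haveI : IsImmersion (jB ≫ pullback.fst g pB) := by rw [hjB₁]; infer_instance
  haveI : IsImmersion jB := IsImmersion.of_comp jB (pullback.fst g pB)
  have hjBK := S8656.result π (kos π hπlci) gB jB hjB₂
  -- an affine open of the base, embedded in an affine space
  let ξ := genericPoint B
  obtain ⟨B0, hB0, hξ, -⟩ := exists_isAffineOpen_mem_and_subset (X := B) (x := ξ) (U := ⊤) trivial
  obtain ⟨N, A, a, k, hk, ha, hA, hka⟩ := exists_affine_embedding pB hB0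
  haveI := hk
  haveI := ha
  haveI := hA
  haveI : Smooth a := SmoothOfRelativeDimension.smooth N a
  haveI : IsLocallyNoetherian A := LocallyOfFiniteType.isLocallyNoetherian a
  haveI : IsLocallyNoetherian (B0 : Scheme.{u}) := LocallyOfFiniteType.isLocallyNoetherian B0.ι
  let X0 : X.Opens := π ⁻¹ᵁ B0
  let π0 : (X0 : Scheme.{u}) ⟶ B0 := π ∣_ B0
  have hkK : RegImm.IsRegularImmersion .koszul k := by
    refine S8656.result (B0.ι ≫ pB) (fun x => ?_) a k hka
    exact (KRegLib.forall_isKoszulAt_iff (B0.ι ≫ pB)).2 (MorphismProperty.comp_mem _ B0.ι pB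
      ((KRegLib.forall_isKoszulAt_iff B0.ι).1 fun y => CurvLocusLib.isKoszulAt_of_smooth B0.ι y)
      ((KRegLib.forall_isKoszulAt_iff pB).1 (kos pB hBlci))) x
  haveI : Nonempty (B0 : Scheme.{u}) := ⟨⟨ξ, hξ⟩⟩
  haveI : IsIntegral (B0 : Scheme.{u}) := isIntegral_of_isOpenImmersion B0.ι
  obtain ⟨h, hRk⟩ := KvbModel.exists_rank (lf_conormal k hkK)
  -- the projection over the open
  let P0 := pullback gB B0.ι
  let g0 : P0 ⟶ B0 := pullback.snd gB B0.ι
  haveI : SmoothOfRelativeDimension n g0 :=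
    haveI := smoothOfRelativeDimension_isStableUnderBaseChange n
    MorphismProperty.pullback_snd _ _ inferInstance
  haveI : Smooth g0 := SmoothOfRelativeDimension.smooth n g0
  haveI : IsLocallyNoetherian P0 := LocallyOfFiniteType.isLocallyNoetherian g0
  let j0 : (X0 : Scheme.{u}) ⟶ P0 := pullback.lift (X0.ι ≫ jB) π0
    (by rw [Category.assoc, hjB₂]; exact (morphismRestrict_ι π B0).symm)
  have hj0₁ : j0 ≫ pullback.fst gB B0.ι = X0.ι ≫ jB := pullback.lift_fst _ _ _
  have hj0₂ : j0 ≫ g0 = π0 := pullback.lift_snd _ _ _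
  have hsq0 : IsPullback X0.ι j0 jB (pullback.fst gB B0.ι) := by
    refine IsPullback.of_bot ?_ hj0₁.symm (IsPullback.of_hasPullback gB B0.ι)
    rw [hj0₂, hjB₂]
    exact (isPullback_morphismRestrict π B0).flip
  have hj0K := S8652.result jB (pullback.fst gB B0.ι) j0 X0.ι hsq0 hjBK
  haveI : IsImmersion j0 := hj0K.1
  haveI : QuasiCompact j0 := AlgStLib.quasiCompact_of_isImmersion j0
  -- into the product with the affine space
  let sA := pullback.snd g a
  let p := pullback.fst g a
  haveI : SmoothOfRelativeDimension N p :=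
    haveI := smoothOfRelativeDimension_isStableUnderBaseChange N
    MorphismProperty.pullback_fst _ _ ha
  haveI : SmoothOfRelativeDimension n sA :=
    haveI := smoothOfRelativeDimension_isStableUnderBaseChange n
    MorphismProperty.pullback_snd _ _ hg
  haveI : Smooth p := SmoothOfRelativeDimension.smooth N p
  haveI : Smooth sA := SmoothOfRelativeDimension.smooth n sA
  haveI : IsLocallyNoetherian (pullback g a) := LocallyOfFiniteType.isLocallyNoetherian p
  let toP : P0 ⟶ P := pullback.fst gB B0.ι ≫ pullback.fst g pB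
  have hP0 : IsPullback toP g0 g (B0.ι ≫ pB) :=
    (IsPullback.of_hasPullback gB B0.ι).paste_horiz (IsPullback.of_hasPullback g pB)
  let φ : P0 ⟶ pullback g a := pullback.lift toP (g0 ≫ k) (by rw [hP0.w, Category.assoc, hka])
  have hφ₁ : φ ≫ p = toP := pullback.lift_fst _ _ _
  have hφ₂ : φ ≫ sA = g0 ≫ k := pullback.lift_snd _ _ _
  have hPk : IsPullback φ g0 sA k := by
    refine IsPullback.of_right ?_ hφ₂ (IsPullback.of_hasPullback g a)
    rw [hφ₁, hka]
    exact hP0
  haveI : IsImmersion φ := MorphismProperty.of_isPullback (P := @IsImmersion) hPk.flip inferInstance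
  haveI : QuasiCompact φ := AlgStLib.quasiCompact_of_isImmersion φ
  obtain ⟨ψ, hψ, -⟩ := S9371.result φ k sA g0 hPk.w.symm
  haveI : IsIso ψ := (S9372.result φ k sA g0 hPk ψ hψ).2 inferInstance
  have hRφ : FlatMod.IsFinLocFreeOfRank h (Omega.conormal φ) :=
    CanonVia.rank_of_iso (asIso ψ) (LineTwist.rank_pull g0 hRk)
  let j2 := j0 ≫ φ
  have hj2p : j2 ≫ p = X0.ι ≫ i := by
    show (j0 ≫ φ) ≫ p = _
    rw [Category.assoc, hφ₁, reassoc_of% hj0₁, hjB₁]
  haveI : QuasiCompact X0.ι := AlgStLib.quasiCompact_of_isImmersion X0.ι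
  obtain ⟨eo⟩ := conormal_open i X0
  have hDC0 := Synt29.ExtPowPull.isExtPow_of_iso eo
    (Synt29.ExtPowPull.isExtPow_pullback X0.ι (QCoh.isQCoh_pullback i (PPSheaf.isQCoh_idealMod _)) hDC)
  have hRi0 : FlatMod.IsFinLocFreeOfRank c (Omega.conormal (X0.ι ≫ i)) :=
    CanonVia.rank_of_iso eo (LineTwist.rank_pull X0.ι (CanonVia.rank_conormal i c hireg))
  have hΩA : ExtPow.IsExtPow N (Omega.sheaf a) (ExtBase.L (Omega.sheaf a) N) :=
    ExtSh.isExtPow_L N (KvbModel.lf_of_rank (KExact.DiagCodim.rank_omega a N))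
  set DA := ExtBase.L (Omega.sheaf a) N
  have hΩp := S15539.result A (Spec (CommRingCat.of F)) (pullback g a) P a p sA g
    (IsPullback.of_hasPullback g a).flip N DA hΩA
  obtain ⟨hR2, ⟨e2⟩⟩ := CanonVia.det_side p j2 (X0.ι ≫ i) hj2p hRi0 _ hDC0 _ hΩp
  -- the conormal sequence
  obtain ⟨φ₁, hφ₁', -⟩ := S9371.result (j0 ≫ φ) φ (𝟙 _) j0 (by rw [Category.comp_id])
  obtain ⟨φ₂, hφ₂', -⟩ := S9371.result j0 (j0 ≫ φ) φ (𝟙 _) (by rw [Category.id_comp])
  obtain ⟨w, hS⟩ := RegConormal.shortExact φ j0 φ₁ hφ₁' φ₂ hφ₂' (RegConormal.exists_stalk_h1_koszul j0 hj0K)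
  have hA1 := LineTwist.rank_pull j0 hRφ
  set cj := c + N - h
  have hR0 : FlatMod.IsFinLocFreeOfRank cj (Omega.conormal j0) :=
    rank_of_ses hS hA1 hR2 (lf_conormal j0 hj0K)
  obtain ⟨e0⟩ := DetExt.det_mul hS hA1 hR0
  -- the generic fibre
  let K := B.presheaf.stalk ξ
  let q := B.fromSpecStalk ξ
  have hqr : Set.range q ⊆ Set.range B0.ι := by
    rw [Scheme.Opens.range_ι, Scheme.range_fromSpecStalk]
    exact fun y hy => hy.mem_open B0.2 hξ
  let q0 : Spec K ⟶ B0 := IsOpenImmersion.lift B0.ι q hqr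
  have hq0 : q0 ≫ B0.ι = q := IsOpenImmersion.lift_fac _ _ _
  have hq0sq : IsPullback (𝟙 (Spec K)) q0 q B0.ι := IsPullback.of_horiz_isIso_mono ⟨by rw [Category.id_comp, hq0]⟩
  haveI : Flat q := S4366.flat_fromSpecStalk ξ
  haveI : Flat q0 := MorphismProperty.of_isPullback (P := @Flat) hq0sq inferInstance
  have hKf : IsField K := (inferInstance : Field B.functionField).toIsField
  haveI : Subsingleton ↥(Spec K) := by
    letI := hKf.toField
    exact inferInstanceAs (Subsingleton (PrimeSpectrum K))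
  haveI : IsNoetherianRing K := by
    letI := hKf.toField
    infer_instance
  let Xη := pullback π q
  let fη : Xη ⟶ Spec K := pullback.snd π q
  let pη : Xη ⟶ (X0 : Scheme.{u}) := (isPullback_morphismRestrict π B0).lift (fη ≫ q0) (pullback.fst π q)
    (by rw [Category.assoc, hq0]; exact pullback.condition.symm)
  have hpη₁ : pη ≫ X0.ι = pullback.fst π q := IsPullback.lift_snd _ _ _ _
  have hpη₂ : pη ≫ π0 = fη ≫ q0 := IsPullback.lift_fst _ _ _ _
  have hXη : IsPullback pη fη π0 q0 := by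
    refine IsPullback.of_right ?_ hpη₂ (isPullback_morphismRestrict π B0).flip
    rw [hpη₁, hq0]
    exact IsPullback.of_hasPullback π q
  let Pη := pullback g0 q0
  let gη : Pη ⟶ Spec K := pullback.snd g0 q0
  haveI hgη : SmoothOfRelativeDimension n gη :=
    haveI := smoothOfRelativeDimension_isStableUnderBaseChange n
    MorphismProperty.pullback_snd _ _ inferInstance
  haveI : Smooth gη := SmoothOfRelativeDimension.smooth n gη
  haveI : IsLocallyNoetherian Pη := LocallyOfFiniteType.isLocallyNoetherian gη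
  let jη : Xη ⟶ Pη := pullback.lift (pη ≫ j0) fη (by rw [Category.assoc, hj0₂, hpη₂])
  have hjη₁ : jη ≫ pullback.fst g0 q0 = pη ≫ j0 := pullback.lift_fst _ _ _
  have hjη₂ : jη ≫ gη = fη := pullback.lift_snd _ _ _
  have hsqη : IsPullback pη jη j0 (pullback.fst g0 q0) := by
    refine IsPullback.of_bot ?_ hjη₁.symm (IsPullback.of_hasPullback g0 q0)
    rw [hjη₂, hj0₂]
    exact hXη
  have hjηK := S8652.result j0 (pullback.fst g0 q0) jη pη hsqη hj0K
  haveI : IsImmersion jη := hjηK.1
  haveI : QuasiCompact jη := AlgStLib.quasiCompact_of_isImmersion jη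
  obtain ⟨ψη, hψη, -⟩ := S9371.result jη j0 (pullback.fst g0 q0) pη hsqη.w
  haveI : IsIso ψη := (S9372.result jη j0 (pullback.fst g0 q0) pη hsqη.flip ψη hψη).2 inferInstance
  have hRη : FlatMod.IsFinLocFreeOfRank cj (Omega.conormal jη) :=
    CanonVia.rank_of_iso (asIso ψη) (LineTwist.rank_pull pη hR0)
  have hLj := ExtSh.isExtPow_L cj (KvbModel.lf_of_rank hR0)
  set Lj := ExtBase.L (Omega.conormal j0) cj
  have hDη := Synt29.ExtPowPull.isExtPow_of_iso (asIso ψη)
    (Synt29.ExtPowPull.isExtPow_pullback pη (QCoh.isQCoh_pullback j0 (PPSheaf.isQCoh_idealMod _)) hLj)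
  have hPη : IsPullback (pullback.fst g0 q0 ≫ toP) gη g (q0 ≫ B0.ι ≫ pB) :=
    (IsPullback.of_hasPullback g0 q0).paste_horiz hP0
  have hΩη := S15539.result P (Spec (CommRingCat.of F)) Pη (Spec K) g gη _ _ hPη n DP hDP
  refine ⟨Pη, jη, gη, cj, n, hjη₂, regular_of_koszul jη cj hjηK hRη, hgη, inferInstance, inferInstance, _, _,
    hDη, hΩη, ?_⟩
  rcases isEmpty_or_nonempty Xη with hE | ⟨⟨x⟩⟩
  · haveI := hE
    have hz : ∀ M : Xη.Modules, IsZero M := fun M => by
      rw [IsZero.iff_id_eq_zero]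
      refine QCoh.hom_eq_zero_of_affine (𝟙 M) fun V _ s => ?_
      exact AModX.eq_of_locally _ _ fun x _ => (IsEmpty.false x).elim
    exact ⟨(hz _).iso (hz _)⟩
  have hcm : c + N = h + cj := by
    refine KvbModel.frameAt_unique (KvbModel.frameAt_of_rank hR2 (pη x)) ?_
    exact KvbModel.frameAt_ses hS (KvbModel.frameAt_of_rank hA1 _) (KvbModel.frameAt_of_rank hR0 _)
  haveI : Nonempty ↥(Spec K) := ⟨fη x⟩
  -- the two descriptions of the determinant over the open
  have hLk := ExtSh.isExtPow_L h (KvbModel.lf_of_rank hRk)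
  set DK := ExtBase.L (Omega.conormal k) h
  have hA1e := Synt29.ExtPowPull.isExtPow_pullback j0 (QCoh.isQCoh_pullback φ (PPSheaf.isQCoh_idealMod _))
    (Synt29.ExtPowPull.isExtPow_of_iso (asIso ψ)
      (Synt29.ExtPowPull.isExtPow_pullback g0 (QCoh.isQCoh_pullback k (PPSheaf.isQCoh_idealMod _)) hLk))
  have key : PicF.cl ((Scheme.Modules.pullback X0.ι).obj DC) *
      PicF.cl ((Scheme.Modules.pullback π0).obj ((Scheme.Modules.pullback k).obj DA)) =
      PicF.cl ((Scheme.Modules.pullback π0).obj DK) * PicF.cl Lj := by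
    have h1 : PicF.cl ((Scheme.Modules.pullback π0).obj ((Scheme.Modules.pullback k).obj DA)) =
        PicF.cl ((Scheme.Modules.pullback j2).obj ((Scheme.Modules.pullback sA).obj DA)) :=
      (cl_pull_iso π0 k (π0 ≫ k) rfl DA).trans (cl_pull_iso j2 sA (π0 ≫ k)
        (by show (j0 ≫ φ) ≫ sA = _; rw [Category.assoc, hφ₂, reassoc_of% hj0₂]) DA).symm
    have h2 : PicF.cl ((Scheme.Modules.pullback π0).obj DK) =
        PicF.cl (ExtBase.L ((Scheme.Modules.pullback j0).obj (Omega.conormal φ)) h) :=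
      ((cl_pull_iso j0 g0 π0 hj0₂ DK).symm).trans (cl_L hA1 hA1e).symm
    rw [h1, h2, ← PicMul.cl_tensor, ← PicMul.cl_tensor, PicMul.cl_eq_iff.2 ⟨e2⟩, PicMul.cl_eq_iff.2 ⟨e0⟩, hcm]
  have hT : ∀ M : (B0 : Scheme.{u}).Modules, PicF.IsInvertible M →
      PicF.pullCl pη (PicF.cl ((Scheme.Modules.pullback π0).obj M)) = 1 := fun M hM => by
    rw [← cl_pull, cl_pull_iso pη π0 (fη ≫ q0) hpη₂, ← cl_pull_iso fη q0 (fη ≫ q0) rfl]
    exact cl_pull_point fη (PBCores.isInvertible_iff_rank.2
      (LineTwist.rank_pull q0 (PBCores.isInvertible_iff_rank.1 hM)))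
  have hDKinv : PicF.IsInvertible DK := PBCores.isInvertible_iff_rank.2 (PBCores.rank_top hRk)
  have hDAinv : PicF.IsInvertible ((Scheme.Modules.pullback k).obj DA) := PBCores.isInvertible_iff_rank.2
    (LineTwist.rank_pull k (PBCores.rank_top (KExact.DiagCodim.rank_omega a N)))
  have keyη := congrArg (PicF.pullCl pη) key
  rw [PicMul.pullCl_mul, PicMul.pullCl_mul, hT _ hDAinv, hT _ hDKinv, _root_.mul_one, _root_.one_mul] at keyη
  refine PicMul.cl_eq_iff.1 ?_
  rw [PicMul.cl_tensor]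
  have hωDC : PicF.cl ((Scheme.Modules.pullback i).obj DP) = PicF.cl ω * PicF.cl DC := by
    rw [← PicMul.cl_eq_iff.2 ⟨eω⟩, PicMul.cl_tensor]
  have hr : PicF.cl ((Scheme.Modules.pullback jη).obj
        ((Scheme.Modules.pullback (pullback.fst g0 q0 ≫ toP)).obj DP)) =
      PicF.pullCl pη (PicF.pullCl X0.ι (PicF.cl ((Scheme.Modules.pullback i).obj DP))) := by
    rw [← cl_pull, ← cl_pull, cl_pull_iso pη X0.ι _ hpη₁, cl_pull_iso (pullback.fst π q) i _ rfl,
      cl_pull_iso jη (pullback.fst g0 q0 ≫ toP) (pullback.fst π q ≫ i) ?_]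
    show jη ≫ pullback.fst g0 q0 ≫ pullback.fst gB B0.ι ≫ pullback.fst g pB = _
    rw [reassoc_of% hjη₁, reassoc_of% hj0₁, hjB₁, reassoc_of% hpη₁]
  rw [hr, hωDC, PicMul.pullCl_mul, PicMul.pullCl_mul, cl_pull pη Lj, ← keyη, ← cl_pull X0.ι DC]
  congr 1
  rw [← cl_pull, ← cl_pull, cl_pull_iso pη X0.ι _ hpη₁]

end Groth.Agent.S19003
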