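import Groth.Statements.S13585
import Groth.Agent.S19003
import Groth.Agent.S8657
import Groth.Agent.Synt29.SectionSmooth
import Groth.Agent.Synt29.ExtPowPull
import Groth.Agent.GrpOmega.Section
import Groth.Agent.GrpOmega.Shear
import Groth.Agent.KExact.DiagCodim
import Groth.Agent.TFOneX.Beta
import Groth.Agent.ConsPropLib.FibreLocFreeRank
import Groth.Agent.OmegaUniv.Unram
-- import your own Groth.Agent.* helpers here

set_option autoImplicit false
universe u
open CategoryTheory CategoryTheory.Limits AlgebraicGeometry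
open Canon

set_option linter.style.haveILetI false

namespace Groth.Agent.S13585

open Groth.Agent

/-- Let `f : X ⟶ Y` and `g : Y ⟶ Z` be morphisms of schemes with `g` smooth of relative dimension `n`,
and let `Γ : X ⟶ X ×_Z Y` be the graph of `f`. Then `Γ` is a regular immersion of codimension `n`,
and the top exterior power of its conormal sheaf is `f^* ω_{Y/Z}`, where `ω_{Y/Z} = Λ^n Ω_{Y/Z}`;
that is, the canonical sheaf of the immersion `Γ` is the dual of `f^* ω_{Y/Z}`. (This row takes `X`
locally Noetherian and `g` separated, so that the graph is a closed immersion and the criterion for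
sections of smooth morphisms over a locally Noetherian base, through which the published proof goes,
applies; the published statement has arbitrary preschemes.) -/
theorem result {X Y Z : Scheme.{u}} [IsLocallyNoetherian X]
    (f : X ⟶ Y) (g : Y ⟶ Z) (n : ℕ) [SmoothOfRelativeDimension n g] [IsSeparated g]
    (ωY : Y.Modules) (hω : Canon.IsTopDiff g n ωY) :
    RegImm.IsRegularImmersionOfCodim .regular n (pullback.lift (𝟙 X) f (Category.id_comp (f ≫ g))) ∧
      ExtPow.IsExtPow n (Omega.conormal (pullback.lift (𝟙 X) f (Category.id_comp (f ≫ g))))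
        ((Scheme.Modules.pullback f).obj ωY) := by
  let p := pullback.fst (f ≫ g) g
  let q := pullback.snd (f ≫ g) g
  let Γ := pullback.lift (𝟙 X) f (Category.id_comp (f ≫ g))
  show RegImm.IsRegularImmersionOfCodim .regular n Γ ∧
    ExtPow.IsExtPow n (Omega.conormal Γ) ((Scheme.Modules.pullback f).obj ωY)
  haveI : Smooth g := SmoothOfRelativeDimension.smooth n g
  have hp : Γ ≫ p = 𝟙 X := pullback.lift_fst _ _ _
  have hq : Γ ≫ q = f := pullback.lift_snd _ _ _
  haveI : IsClosedImmersion (Γ ≫ p) := hp ▸ inferInstance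
  haveI : IsClosedImmersion Γ := IsClosedImmersion.of_comp Γ p
  haveI : IsLocallyNoetherian (pullback (f ≫ g) g) := LocallyOfFiniteType.isLocallyNoetherian p
  obtain ⟨a⟩ := GrpOmega.nonempty_conormalIso p Γ (𝟙 X) (by rw [hp, Category.comp_id])
    (by rw [hp, Category.id_comp])
  obtain ⟨b⟩ := GrpOmega.nonempty_omega_baseChange (IsPullback.of_hasPullback (f ≫ g) g).flip
  let e : (Scheme.Modules.pullback f).obj (Omega.sheaf g) ≅ Omega.conormal Γ :=
    (Scheme.Modules.pullbackCongr hq).symm.app _ ≪≫ ((Scheme.Modules.pullbackComp Γ q).symm.app _) ≪≫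
      (Scheme.Modules.pullback Γ).mapIso b ≪≫ a.symm
  refine ⟨S19003.regular_of_koszul Γ n ?_ ((ConsPropLib.isFinLocFreeOfRank_iso e).1
      (TFOneX.isFinLocFreeOfRank_pullback f (KExact.DiagCodim.rank_omega g n))),
    Synt29.ExtPowPull.isExtPow_of_iso e
      (Synt29.ExtPowPull.isExtPow_pullback f (OmegaUniv.isQCoh_omega g) hω)⟩
  exact (S8657.result (𝟙 X) Γ p hp).1 ⟨inferInstance, fun z =>
    (RegImmLib.isRegularImmersionAt_iff _ z).2 ⟨0, Synt29.SectionSmooth.isKoszulAtLength_zero _ z⟩⟩

end Groth.Agent.S13585
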