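import Groth.Statements.S13589
import Groth.Agent.KFlatLib.Ring.DbCohEquivalence
-- import your own Groth.Agent.* helpers here

set_option autoImplicit false
universe u
open CategoryTheory CategoryTheory.Limits MonoidalCategory
attribute [local instance] HasDerivedCategory.standard
open DTen

namespace Groth.Agent.S13589

/-- Let `A` be a Noetherian commutative ring and `F` an `A`-linear triangulated equivalence from
`D^b_{Coh}(A)` (the full subcategory of `D(A)` of objects with bounded cohomology consisting of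
finite `A`-modules, a triangulated subcategory) to itself. Then `F(A)` is an invertible object of
`D(A)`: there is an object `L` with `F(A) ⊗^L L ≅ A` and `L ⊗^L F(A) ≅ A`. The membership of `A[0]`
in `D^b_{Coh}(A)` and the fact that this subcategory is triangulated are taken as (true) hypotheses.
(The published statement asks only for an `A`-linear equivalence of categories; this row takes the
equivalence compatible with shifts and distinguished triangles, which is what the published proof
uses and how the result is applied.) -/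
theorem result (A : Type u) [CommRing A]
    [IsNoetherianRing A] [DTen.HasLTen A] [DTen.KFlatComputes A]
    (P : ObjectProperty (Dual.D A))
    (hP : ∀ K : Dual.D A, P K ↔
      ((∀ i : ℤ, Module.Finite A (Dual.HD A K i)) ∧ ∃ a b : ℤ, ∀ i : ℤ, (i < a ∨ b < i) → Subsingleton (Dual.HD A K i)))
    [P.IsTriangulated]
    (F : P.FullSubcategory ⥤ P.FullSubcategory) [F.CommShift ℤ] [F.IsTriangulated] [F.IsEquivalence]
    [F.Additive] [F.Linear A]
    (hA : P (DTen.unit A)) :
    DTen.IsInvertible A (F.obj ⟨DTen.unit A, hA⟩).obj := by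
  let K : Dual.D A := (F.obj ⟨DTen.unit A, hA⟩).obj
  let U : P.FullSubcategory := ⟨DTen.unit A, hA⟩
  let FU := F.obj U
  -- maps between images
  have hF : ∀ (X Y : P.FullSubcategory) (i : ℤ),
      Nonempty (((F.obj X).obj ⟶ (F.obj Y).obj⟦i⟧) ≃ (X.obj ⟶ Y.obj⟦i⟧)) := fun X Y i =>
    ⟨(Iso.homCongr (Iso.refl _) ((P.ι.commShiftIso i).app (F.obj Y)).symm).trans
      ((P.fullyFaithfulι.homEquiv (X := F.obj X) (Y := (F.obj Y)⟦i⟧)).symm.trans
        ((Iso.homCongr (Iso.refl _) ((F.commShiftIso i).app Y).symm).trans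
          ((Functor.FullyFaithful.ofFullyFaithful F).homEquiv.symm.trans
            (P.fullyFaithfulι.homEquiv.trans
              (Iso.homCongr (Iso.refl _) ((P.ι.commShiftIso i).app Y))))))⟩
  obtain ⟨hKfin, lo, hi, hKb⟩ := (hP K).1 (F.obj U).property
  haveI : DerivedCategory.IsLE K hi := (DerivedCategory.isLE_iff _ _).2 fun i h =>
    @ModuleCat.isZero_of_subsingleton _ _ _ (hKb i (Or.inr h))
  haveI : DerivedCategory.IsGE K lo := (DerivedCategory.isGE_iff _ _).2 fun i h =>
    @ModuleCat.isZero_of_subsingleton _ _ _ (hKb i (Or.inl h))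
  have hunit : ∀ (Y : Dual.D A) (i : ℤ),
      Nonempty ((DTen.unit A ⟶ Y⟦i⟧) ≃ Dual.HD A Y i) := fun Y i => by
    obtain ⟨e⟩ := Groth.Agent.KFlatLib.exists_homUnitLEquiv (Y⟦i⟧) 0 0 rfl
    obtain ⟨es⟩ := Groth.Agent.KFlatLib.exists_hdShiftLEquiv Y i 0 i (by omega)
    exact ⟨(Iso.homCongr ((shiftFunctorZero (Dual.D A) ℤ).app (DTen.unit A)).symm (Iso.refl _)).trans
      (e.trans es).toEquiv⟩
  have hU : ∀ n : ℤ, n ≠ 0 → Subsingleton (Dual.HD A (DTen.unit A) n) := fun n hn => by
    haveI : DerivedCategory.IsGE (DTen.unit A) 0 := DerivedCategory.TStructure.t.isGE_of_iso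
      ((DerivedCategory.singleFunctorIsoCompQ (ModuleCat.{u} A) 0).app (ModuleCat.of A A)) 0
    haveI : DerivedCategory.IsLE (DTen.unit A) 0 := DerivedCategory.TStructure.t.isLE_of_iso
      ((DerivedCategory.singleFunctorIsoCompQ (ModuleCat.{u} A) 0).app (ModuleCat.of A A)) 0
    rcases lt_or_gt_of_ne hn with h | h
    · exact ModuleCat.subsingleton_of_isZero (DerivedCategory.isZero_of_isGE _ 0 n h)
    · exact ModuleCat.subsingleton_of_isZero (DerivedCategory.isZero_of_isLE _ 0 n h)
  refine Groth.Agent.KFlatLib.isInvertible_of_isPerfect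
    (Groth.Agent.KFlatLib.isPerfect_of_points K lo hi hKfin fun m hm => ?_) ?_ fun i hi' => ?_
  · -- the preimage of a closed point
    haveI := hm
    have hk : P (Dual.inD A (A ⧸ m)) := (hP _).2 ⟨fun i => by
      rcases eq_or_ne i 0 with rfl | h
      · obtain ⟨e⟩ := Groth.Agent.KFlatLib.exists_hdSingleLEquiv (ModuleCat.of A (A ⧸ m)) 0
        exact Module.Finite.equiv e.symm
      · haveI : Subsingleton (Dual.HD A (Dual.inD A (A ⧸ m)) i) := by
          rcases lt_or_gt_of_ne h with h | h
          · exact ModuleCat.subsingleton_of_isZero (DerivedCategory.isZero_of_isGE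
              ((DerivedCategory.singleFunctor (ModuleCat.{u} A) 0).obj (ModuleCat.of A (A ⧸ m))) 0 i h)
          · exact ModuleCat.subsingleton_of_isZero (DerivedCategory.isZero_of_isLE
              ((DerivedCategory.singleFunctor (ModuleCat.{u} A) 0).obj (ModuleCat.of A (A ⧸ m))) 0 i h)
        exact Module.Finite.of_finite, 0, 0, fun i h => by
      rcases h with h | h
      · exact ModuleCat.subsingleton_of_isZero (DerivedCategory.isZero_of_isGE
          ((DerivedCategory.singleFunctor (ModuleCat.{u} A) 0).obj (ModuleCat.of A (A ⧸ m))) 0 i h)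
      · exact ModuleCat.subsingleton_of_isZero (DerivedCategory.isZero_of_isLE
          ((DerivedCategory.singleFunctor (ModuleCat.{u} A) 0).obj (ModuleCat.of A (A ⧸ m))) 0 i h)⟩
    let k : P.FullSubcategory := ⟨Dual.inD A (A ⧸ m), hk⟩
    let Z := F.objPreimage k
    let e : F.obj Z ≅ k := F.objObjPreimageIso k
    let e' : (F.obj Z).obj ≅ Dual.inD A (A ⧸ m) := P.ι.mapIso e
    obtain ⟨-, a, b, hZb⟩ := (hP Z.obj).1 Z.property
    obtain ⟨c, hc⟩ := Groth.Agent.KFlatLib.exists_subsingleton_hd_of_point m Z.obj a b hZb (fun r hr => by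
      have h0 : (r • 𝟙 k : k ⟶ k) = 0 := by
        refine P.ι.map_injective ?_
        rw [Functor.map_smul, P.ι.map_id, P.ι.map_zero]
        obtain ⟨eh⟩ := Groth.Agent.KFlatLib.exists_homologyMapLEquiv 0
          ((DerivedCategory.singleFunctor (ModuleCat.{u} A) 0).obj (ModuleCat.of A (A ⧸ m)))
          ((DerivedCategory.singleFunctor (ModuleCat.{u} A) 0).obj (ModuleCat.of A (A ⧸ m)))
        obtain ⟨e1⟩ := Groth.Agent.KFlatLib.exists_hdSingleLEquiv (ModuleCat.of A (A ⧸ m)) 0
        refine eh.injective (LinearMap.ext fun z => e1.injective ?_)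
        rw [map_smul, LinearMap.smul_apply, map_smul, map_zero, LinearMap.zero_apply, map_zero]
        obtain ⟨t, ht⟩ := Ideal.Quotient.mk_surjective (e1 (eh (𝟙 (P.ι.obj k)) z))
        rw [← ht]
        exact Ideal.Quotient.eq_zero_iff_mem.2 (m.mul_mem_right t hr)
      have h1 : (r • 𝟙 (F.obj Z) : F.obj Z ⟶ F.obj Z) = 0 := by
        have := congrArg (fun f => e.hom ≫ f ≫ e.inv) h0
        simpa using this
      have h2 : (r • 𝟙 Z : Z ⟶ Z) = 0 := by
        refine F.map_injective ?_
        rw [Functor.map_smul, F.map_id, F.map_zero, h1]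
      have h3 := congrArg P.ι.map h2
      rwa [Functor.map_smul, P.ι.map_id, P.ι.map_zero] at h3) (fun i hi' => by
      obtain ⟨eq⟩ := hF Z Z i
      haveI : Subsingleton ((F.obj Z).obj ⟶ (F.obj Z).obj⟦i⟧) := by
        let S := (DerivedCategory.singleFunctor (ModuleCat.{u} A) 0).obj (ModuleCat.of A (A ⧸ m))
        haveI : DerivedCategory.IsGE (S⟦i⟧) (-i) :=
          DerivedCategory.TStructure.t.isGE_shift S 0 i (-i) (by omega)
        haveI : Subsingleton (S ⟶ S⟦i⟧) := ⟨fun f g => by
          rw [DerivedCategory.TStructure.t.zero f 0 (-i) (by omega),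
            DerivedCategory.TStructure.t.zero g 0 (-i) (by omega)]⟩
        exact (Iso.homCongr e' ((shiftFunctor (Dual.D A) i).mapIso e')).subsingleton (β := S ⟶ S⟦i⟧)
      exact eq.symm.subsingleton)
    refine ⟨c, fun j hj => ?_⟩
    obtain ⟨eq⟩ := hF U Z j
    obtain ⟨eu⟩ := hunit Z.obj j
    haveI := hc j hj
    exact (((Iso.homCongr (Iso.refl K) ((shiftFunctor (Dual.D A) j).mapIso e')).symm.trans eq).trans eu).subsingleton
  · -- endomorphisms
    have hb : Function.Bijective fun r : A => r • 𝟙 (DTen.unit A) := by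
      obtain ⟨e⟩ := Groth.Agent.KFlatLib.exists_homUnitLEquiv (DTen.unit A) 0 0 rfl
      obtain ⟨e1⟩ := Groth.Agent.KFlatLib.exists_hdSingleLEquiv (ModuleCat.of A A) 0
      let eE : (DTen.unit A ⟶ DTen.unit A) ≃ₗ[A] A :=
        ((Linear.homCongr A ((shiftFunctorZero (Dual.D A) ℤ).app (DTen.unit A)).symm (Iso.refl _)).trans e).trans
          (((DerivedCategory.homologyFunctor (ModuleCat.{u} A) 0).mapIso
            ((DerivedCategory.singleFunctorIsoCompQ (ModuleCat.{u} A) 0).app (ModuleCat.of A A)).symm).toLinearEquiv.trans e1)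
      exact Groth.Agent.KFlatLib.toEnd_bijective_of_linearEquiv _ eE
    let eh : (DTen.unit A ⟶ DTen.unit A) ≃ (K ⟶ K) :=
      (P.fullyFaithfulι.homEquiv (X := U) (Y := U)).symm.trans
        ((Functor.FullyFaithful.ofFullyFaithful F).homEquiv.trans P.fullyFaithfulι.homEquiv)
    have : (fun r : A => r • 𝟙 K) = eh ∘ fun r : A => r • 𝟙 (DTen.unit A) := funext fun r => by
      obtain ⟨g, hg⟩ := P.ι.map_surjective (X := U) (Y := U) (r • 𝟙 (DTen.unit A))
      have hg' : g = r • 𝟙 U := P.ι.map_injective (by rw [hg, Functor.map_smul, P.ι.map_id]; rfl)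
      show _ = P.ι.map (F.map ((P.fullyFaithfulι.homEquiv (X := U) (Y := U)).symm _))
      rw [show (P.fullyFaithfulι.homEquiv (X := U) (Y := U)).symm (r • 𝟙 (DTen.unit A)) = g from
        (Equiv.symm_apply_eq _).2 hg.symm, hg', Functor.map_smul, Functor.map_smul, F.map_id, P.ι.map_id]
      rfl
    exact this ▸ eh.bijective.comp hb
  · obtain ⟨eq⟩ := hF U U i
    obtain ⟨eu⟩ := hunit (DTen.unit A) i
    haveI := hU i hi'
    exact (eq.trans eu).subsingleton

end Groth.Agent.S13589
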