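import Groth.Statements.S9738
import Mathlib
import Groth.Agent.FlatMisc.PowLocal

set_option autoImplicit false
universe u
open FlatMor

namespace Groth.Agent.S9738

open AlgebraicGeometry CategoryTheory Limits in
/-- For a morphism f : X ⟶ S between locally Noetherian schemes, an ideal sheaf I on S with closed
subscheme Z, and Z_n the closed subscheme cut out by I^(n+1): if each base change X ×_S Z_n ⟶ Z_n is
flat, then f is flat at each point of X lying over Z. -/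
theorem result {X S : Scheme.{u}} (f : X ⟶ S) [IsLocallyNoetherian X] [IsLocallyNoetherian S]
    (I : S.IdealSheafData) (h : ∀ n : ℕ, Flat (pullback.snd f (I ^ (n + 1)).subschemeι)) (x : X) (hx : f x ∈ I.support) :
    (f.stalkMap x).hom.Flat := by
  open TensorProduct in
  obtain ⟨_, ⟨U, hU, rfl⟩, hxU, -⟩ :=
    S.isBasis_affineOpens.exists_subset_of_mem_open (Set.mem_univ (f x)) isOpen_univ
  obtain ⟨_, ⟨V, hV, rfl⟩, hxV, hVU⟩ :=
    X.isBasis_affineOpens.exists_subset_of_mem_open (show x ∈ (f ⁻¹ᵁ U : Set X) from hxU) (f ⁻¹ᵁ U).isOpen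
  have hVU' : V ≤ f ⁻¹ᵁ U := hVU
  replace hU : IsAffineOpen U := hU
  replace hV : IsAffineOpen V := hV
  haveI : IsNoetherianRing Γ(S, U) := IsLocallyNoetherian.component_noetherian ⟨U, hU⟩
  haveI : IsNoetherianRing Γ(X, V) := IsLocallyNoetherian.component_noetherian ⟨V, hV⟩
  letI := (f.appLE U V hVU').hom.toAlgebra
  let J : Ideal Γ(S, U) := I.ideal ⟨U, hU⟩
  have hflat : ∀ n : ℕ, 0 < n → Module.Flat (Γ(S, U) ⧸ J ^ n) ((Γ(S, U) ⧸ J ^ n) ⊗[Γ(S, U)] Γ(X, V)) := by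
    intro n hn
    obtain ⟨m, rfl⟩ := Nat.exists_eq_succ_of_ne_zero hn.ne'
    haveI := h m
    have hid : (I ^ (m + 1)).ideal ⟨U, hU⟩ = J ^ (m + 1) := by rw [Scheme.IdealSheafData.ideal_pow]; rfl
    rw [show J ^ (m.succ) = (I ^ (m + 1)).ideal ⟨U, hU⟩ from hid.symm]
    set K := (I ^ (m + 1)).ideal ⟨U, hU⟩
    let i₁ : Spec (CommRingCat.of (Γ(S, U) ⧸ K)) ⟶ (I ^ (m + 1)).subscheme := (I ^ (m + 1)).subschemeCover.f ⟨U, hU⟩
    haveI : IsOpenImmersion i₁ := (I ^ (m + 1)).subschemeCover.map_prop ⟨U, hU⟩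
    have e₁ : Spec.map (CommRingCat.ofHom (algebraMap Γ(S, U) (Γ(S, U) ⧸ K))) ≫ hU.fromSpec = i₁ ≫ (I ^ (m + 1)).subschemeι := by
      refine (((I ^ (m + 1)).subschemeCover_map_subschemeι ⟨U, hU⟩).trans ?_).symm
      exact (I ^ (m + 1)).glueDataObjι_ι ⟨U, hU⟩
    have e₂ : Spec.map (CommRingCat.ofHom (algebraMap Γ(S, U) Γ(X, V))) ≫ hU.fromSpec = hV.fromSpec ≫ f :=
      hU.SpecMap_appLE_fromSpec f hV hVU'
    let a := pullback.map _ _ _ _ i₁ hV.fromSpec hU.fromSpec e₁ e₂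
    haveI : IsOpenImmersion a := Scheme.pullback_map_isOpenImmersion _ _ _ _ _ _ _ e₁ e₂
    haveI : Flat (pullback.fst (I ^ (m + 1)).subschemeι f) := by
      rw [← pullbackSymmetry_hom_comp_snd]; infer_instance
    haveI hcomp : Flat (pullback.fst (Spec.map (CommRingCat.ofHom (algebraMap Γ(S, U) (Γ(S, U) ⧸ K))))
        (Spec.map (CommRingCat.ofHom (algebraMap Γ(S, U) Γ(X, V)))) ≫ i₁) := by
      have : a ≫ pullback.fst (I ^ (m + 1)).subschemeι f = pullback.fst _ _ ≫ i₁ := pullback.lift_fst _ _ _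
      rw [← this]; infer_instance
    have h1 := Flat.of_stalkMap (pullback.fst (Spec.map (CommRingCat.ofHom (algebraMap Γ(S, U) (Γ(S, U) ⧸ K))))
        (Spec.map (CommRingCat.ofHom (algebraMap Γ(S, U) Γ(X, V))))) (fun z => by
      have h2 := Flat.stalkMap (pullback.fst (Spec.map (CommRingCat.ofHom (algebraMap Γ(S, U) (Γ(S, U) ⧸ K))))
        (Spec.map (CommRingCat.ofHom (algebraMap Γ(S, U) Γ(X, V)))) ≫ i₁) z
      rw [Scheme.Hom.stalkMap_comp] at h2
      erw [CommRingCat.hom_comp] at h2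
      have h3 := RingHom.Flat.comp (RingHom.Flat.of_bijective (ConcreteCategory.bijective_of_isIso
        (inv (i₁.stalkMap (pullback.fst (Spec.map (CommRingCat.ofHom (algebraMap Γ(S, U) (Γ(S, U) ⧸ K))))
          (Spec.map (CommRingCat.ofHom (algebraMap Γ(S, U) Γ(X, V)))) z))))) h2
      convert h3 using 1
      refine RingHom.ext fun y => ?_
      simp only [RingHom.comp_apply]
      refine congrArg _ ?_
      haveI hiso : IsIso (i₁.stalkMap ((pullback.fst (Spec.map (CommRingCat.ofHom (algebraMap Γ(S, U) (Γ(S, U) ⧸ K))))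
          (Spec.map (CommRingCat.ofHom (algebraMap Γ(S, U) Γ(X, V))))).base z)) := inferInstance
      exact (RingHom.congr_fun (congrArg CommRingCat.Hom.hom (@IsIso.inv_hom_id _ _ _ _ _ hiso)) y).symm)
    haveI := h1
    have h4 : Flat (Spec.map (CommRingCat.ofHom (Algebra.TensorProduct.includeLeftRingHom :
        (Γ(S, U) ⧸ K) →+* (Γ(S, U) ⧸ K) ⊗[Γ(S, U)] Γ(X, V)))) := by
      rw [← pullbackSpecIso_inv_fst]; infer_instance
    have h5 := (HasRingHomProperty.Spec_iff (P := @Flat)).mp h4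
    have h6 : RingHom.Flat (algebraMap (Γ(S, U) ⧸ K) ((Γ(S, U) ⧸ K) ⊗[Γ(S, U)] Γ(X, V))) := h5
    exact RingHom.flat_algebraMap_iff.mp h6
  haveI := (hU.primeIdealOf ⟨f x, hxU⟩).isPrime
  haveI := (hV.primeIdealOf ⟨x, hxV⟩).isPrime
  set p := (hU.primeIdealOf ⟨f x, hxU⟩).asIdeal with hp
  set q := (hV.primeIdealOf ⟨x, hxV⟩).asIdeal with hq
  have hJp : J ≤ p := by
    intro g hg
    by_contra hgp
    have h1 := (Scheme.mem_zeroLocus_iff _ _ _).mp ((I.mem_support_iff_of_mem (U := ⟨U, hU⟩) hxU).mp hx) g hg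
    refine h1 ?_
    have h2 : hU.primeIdealOf ⟨f x, hxU⟩ ∈ hU.fromSpec ⁻¹ᵁ S.basicOpen g := by
      rw [hU.fromSpec_preimage_basicOpen]; exact hgp
    have h3 : hU.fromSpec (hU.primeIdealOf ⟨f x, hxU⟩) = f x := hU.fromSpec_primeIdealOf ⟨f x, hxU⟩
    rw [← h3]; exact h2
  have hcomap : p = q.comap (algebraMap Γ(S, U) Γ(X, V)) :=
    (congrArg PrimeSpectrum.asIdeal (IsAffineOpen.comap_primeIdealOf_appLE U hU V hV hVU' hxV)).symm
  haveI : q.LiesOver p := ⟨hcomap⟩
  have h7 : Module.Flat Γ(S, U) (LocalizedModule q.primeCompl Γ(X, V)) :=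
    FlatMisc.flat_localizedModule_of_flat_pow J hflat q
      (Ideal.map_le_iff_le_comap.mpr (hJp.trans hcomap.le))
  letI := Localization.AtPrime.algebraOfLiesOver p q
  haveI h8 : Module.Flat Γ(S, U) (Localization.AtPrime q) := h7
  have h9 : Module.Flat (Localization.AtPrime p) (Localization.AtPrime q) :=
    (Module.flat_iff_of_isLocalization (Localization.AtPrime p) p.primeCompl (Localization.AtPrime q)).mpr h8
  rw [RingHom.Flat.respectsIso.arrow_mk_iso_iff (IsAffineOpen.arrowStalkMapIso f U hU V hV hVU' hxV)]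
  exact h9

end Groth.Agent.S9738
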