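import Groth.Statements.S1359
import Mathlib
import Groth.Agent.S2156
import Groth.Agent.S9738
import Groth.Agent.FlatMisc.InfNbhd

set_option autoImplicit false
universe u
open FlatMor

namespace Groth.Agent.S1359

open AlgebraicGeometry CategoryTheory Limits in
/-- Let S be locally Noetherian, f : X → S of finite type, and Z the closed subscheme of S cut out by an
ideal sheaf I, with infinitesimal neighbourhoods cut out by the powers of I. If the base change of f
to every infinitesimal neighbourhood is smooth, then every point of X lying over Z is in the smooth
locus of f. -/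
theorem result {X S : Scheme.{u}} (f : X ⟶ S) [IsLocallyNoetherian S] [LocallyOfFinitePresentation f] [QuasiCompact f]
    (I : S.IdealSheafData) (h : ∀ n : ℕ, Smooth (pullback.snd f (I ^ (n + 1)).subschemeι)) (x : X) (hx : f x ∈ I.support) :
    x ∈ f.smoothLocus := by
  haveI : IsLocallyNoetherian X := LocallyOfFiniteType.isLocallyNoetherian f
  have hr : f x ∈ Set.range (I ^ (0 + 1)).subschemeι.base := by
    rw [Scheme.IdealSheafData.range_subschemeι, Scheme.IdealSheafData.support_pow_succ]
    exact hx
  have hfib : Smooth (f.fiberToSpecResidueField (f.base x)) :=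
    FlatMisc.fiberToSpecResidueField_of_baseChange @Smooth f _ (h 0) (f.base x) hr
  haveI := hfib
  rw [Groth.Agent.S2156.result f x]
  refine ⟨Groth.Agent.S9738.result f I (fun n => ?_) x hx, ?_⟩
  · haveI := h n
    infer_instance
  · rw [(f.fiberToSpecResidueField (f.base x)).smoothLocus_eq_top]
    trivial

end Groth.Agent.S1359
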