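import Groth.Statements.S13590
import Groth.Agent.SiteBase.Top
import Groth.Agent.SiteBase.SuppInj
import Groth.Agent.SiteBase.ExtByZero

set_option autoImplicit false
universe u
open CategoryTheory TopologicalSpace
open SuppFam

namespace Groth.Agent.S13590

theorem injective_sectSupp {Y : TopCat.{u}} (U : Opens Y) (I : CohTop.Ab Y) [Injective I] :
    Injective (CohCx.sectSupp U I) := by
  have hi := ClosedEmb.isClosedEmbedding_inclCompl U
  haveI : Injective (CohCx.HZ U I) := ClosedEmb.injective_HZ U I
  let adj := TopCat.Sheaf.pullbackPushforwardAdjunction AddCommGrpCat.{u} (CohCx.inclCompl U)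
  haveI : IsIso (adj.unit.app (CohCx.sectSupp U I)) :=
    ClosedEmb.isIso_unit hi _ fun x hx => ClosedEmb.isZero_stalk_sectSupp U I x ((ClosedEmb.not_range_inclCompl_iff U x).1 hx)
  have h : Injective ((CohTop.pull (CohCx.inclCompl U) ⋙ CohTop.push (CohCx.inclCompl U)).obj (CohCx.sectSupp U I)) :=
    SiteBase.injective_push (CohCx.inclCompl U) (CohCx.HZ U I)
  exact Injective.of_iso (asIso (adj.unit.app (CohCx.sectSupp U I))).symm h



/-- For an abelian sheaf `F` on a topological space `X` and a locally closed `Z = V ∖ W` (`W ≤ V`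
opens), if `F` is injective then the sheaf `Γ_Z(F) = i_* i^!(F)` of sections of `F` with supports in
`Z` is injective. -/
theorem result {X : TopCat.{u}} (F : CohTop.Ab X) {W V : Opens X} (h : W ≤ V)
    (hF : Injective F) : Injective ((SuppFam.sectSuppLC h).obj F) := by
  haveI := ExtByZero.preservesFiniteLimits_ext0 V
  haveI := hF
  haveI : Injective ((CohTop.restrFunctor V).obj F) := (ExtByZero.adj V).map_injective F hF
  haveI := injective_sectSupp (SuppFam.inOpen V W) ((CohTop.restrFunctor V).obj F)
  exact @SiteBase.injective_push _ _ (CohCx.incl V) _ (injective_sectSupp (SuppFam.inOpen V W) ((CohTop.restrFunctor V).obj F))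

end Groth.Agent.S13590
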