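import Groth.Statements.S13594
import Groth.Agent.FCov14.QuotDiag

set_option backward.isDefEq.respectTransparency false
set_option backward.isDefEq.respectTransparency.types false
-- import your own Groth.Agent.* helpers here

set_option autoImplicit false
universe u
open CategoryTheory AlgebraicGeometry MonoidalCategory
open AlgSt

namespace Groth.Agent.S13594

/-- For a group action: let `B` be an algebraic space over `S`, `G` a group algebraic space over `B`
with `G ⟶ B` flat and locally of finite presentation, and `X` an algebraic space over `B` with a
`G`-action. Then the quotient stack `[X/G]` (objects over `T`: `b : T ⟶ B`, an fppf `G_T`-torsor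
given as a sheaf, and a `G`-equivariant map to `X`) is an algebraic stack over `S`. (The published
statement is for a groupoid in algebraic spaces with flat, locally finitely presented source and
target; this row is the action groupoid, with no affineness hypothesis.) -/
theorem result (S : Scheme.{u}) (B : AlgSp.Sp S)
    (hB : AlgSp.IsAlgSpace B) (G : Over B) [GrpObj G] (hG : AlgSp.IsAlgSpace G.left)
    (hf : AlgSp.LocP (@Flat ⊓ @LocallyOfFinitePresentation) G.hom)
    (X : Over B) (hX : AlgSp.IsAlgSpace X.left) (aX : AlgSp.GAction G X) :
    AlgSt.IsAlgStack Scheme.fppfPrecoverage (AlgSt.SpQuotSt Scheme.fppfPrecoverage G aX) := Groth.Agent.FCov14.isAlgStack_spQuot hB hG hf hX aX (Groth.Agent.FCov14.QuotDiag.repByAlgSp1_diag hB hG hX)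
end Groth.Agent.S13594
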