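import Groth.Statements.S13595
import Groth.Agent.AlgStLib.SpQuotCover
import Groth.Agent.GerbFlat.Section
import Groth.Agent.AlgSpLib.SmoothLocalInst

set_option backward.isDefEq.respectTransparency false
set_option backward.isDefEq.respectTransparency.types false
-- import your own Groth.Agent.* helpers here

set_option autoImplicit false
universe u
open CategoryTheory AlgebraicGeometry MonoidalCategory
open AlgSt

namespace Groth.Agent.S13595

/-- For a group action: let `B` be an algebraic space over `S`, `G` a group algebraic space over `B`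
with `G ⟶ B` smooth, and `X` an algebraic space over `B` with a `G`-action. Then the canonical
morphism `X ⟶ [X/G]` (a `T`-point `x` of `X` goes to the trivial torsor `G ×_B T` with the
equivariant map `(g, t) ↦ g · x(t)`; torsors given as sheaves) is representable by algebraic spaces,
smooth, and surjective. (The published statement is for a smooth groupoid in algebraic spaces; this
row is the action groupoid.) -/
theorem result (S : Scheme.{u}) (B : AlgSp.Sp S)
    (hB : AlgSp.IsAlgSpace B) (G : Over B) [GrpObj G] (hG : AlgSp.IsAlgSpace G.left)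
    (hs : AlgSp.LocP @Smooth G.hom)
    (X : Over B) (hX : AlgSp.IsAlgSpace X.left) (aX : AlgSp.GAction G X) :
    AlgSt.RepByAlgSpWith (AlgSp.LocP @Smooth) (AlgSt.spQuotMap Scheme.fppfPrecoverage G aX) ∧
      AlgSt.RepByAlgSpWith AlgSp.IsSurjectiveMor (AlgSt.spQuotMap Scheme.fppfPrecoverage G aX) :=  ⟨Groth.Agent.AlgStLib.SpQuot.repByAlgSpWith_spQuotMap hB hG Groth.Agent.AlgStLib.stableBC_locP
      (Groth.Agent.AlgSpLib.isLocalOnBase_fppf_locP @Smooth) hs,
    Groth.Agent.AlgStLib.SpQuot.repByAlgSpWith_spQuotMap hB hG Groth.Agent.AlgStLib.stableBC_isSurjectiveMor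
      Groth.Agent.GerbFlat.isLocalOnBase_isSurjectiveMor (fun x => ⟨AlgSp.Points.map (MonObj.one (X := G)).left x, by
        rw [← AlgSp.Points.map_comp]
        have h : (MonObj.one (X := G)).left ≫ G.hom = 𝟙 B := Over.w (MonObj.one (X := G))
        rw [h]
        exact AlgSp.Points.map_id x⟩)⟩
end Groth.Agent.S13595
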