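import Groth.Statements.S13599
import Groth.Agent.H28.GaloisDesc
-- import your own Groth.Agent.* helpers here

set_option autoImplicit false
set_option backward.isDefEq.respectTransparency false
set_option backward.isDefEq.respectTransparency.types false
set_option linter.style.haveILetI false
universe u
open CategoryTheory AlgebraicGeometry
open CategoryTheory.Limits
open Cyc

namespace Groth.Agent.S13599

/-- Let k be a field, X a separated k-scheme of finite type, and k' a finite normal extension field of
k, with G the group of k-automorphisms of k'; put X' = X ×_k Spec k' with first projection p. The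
group G acts on X' over X (σ acts through Spec σ on the second factor). If Z' is a cycle on X' (an
integer-valued function on the points of X' with locally finite support) invariant under every σ ∈
G, then there is exactly one cycle Z on X with [k' : k]_insep · Z' = p^*Z, where [k' : k]_insep is
the inseparable degree and p^*Z is the flat pullback of cycles along p: its coefficient at x' is Z(p
x') times the length of the Artinian local ring O_{X',x'}/𝔪_{p x'}O_{X',x'} (p has discrete fibres,
so there is no dimension condition; the two auxiliary dimension functions are taken to be zero). -/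
theorem result
    {k : Type u} [Field k] {k' : Type u} [Field k'] [Algebra k k'] [FiniteDimensional k k'] [Normal k k']
    {X : Scheme.{u}} (f : X ⟶ Spec (CommRingCat.of k)) [LocallyOfFiniteType f] [QuasiCompact f]
    [IsSeparated f]
    (Z' : AlgebraicCycle (pullback f (Spec.map (CommRingCat.ofHom (algebraMap k k')))) ℤ)
    (hZ' : ∀ (σ : k' ≃ₐ[k] k')
      (t : pullback f (Spec.map (CommRingCat.ofHom (algebraMap k k'))) ⟶
        pullback f (Spec.map (CommRingCat.ofHom (algebraMap k k')))),
      t ≫ pullback.fst f _ = pullback.fst f _ →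
      t ≫ pullback.snd f _ = pullback.snd f _ ≫ Spec.map (CommRingCat.ofHom σ.toAlgHom.toRingHom) →
      ∀ x', Z' (t.base x') = Z' x') :
    ∃! Z : AlgebraicCycle X ℤ, ∀ x' : ↥(pullback f (Spec.map (CommRingCat.ofHom (algebraMap k k')))),
      (Field.finInsepDegree k k' : ℤ) * Z' x' =
        Cyc.pullFun (pullback.fst f (Spec.map (CommRingCat.ofHom (algebraMap k k'))))
          (fun _ => 0) (fun _ => 0) 0 ⇑Z x' := by
  classical
  open Groth.Agent in
  open Groth.Agent.H28.GaloisDesc in
  let S := Spec.map (CommRingCat.ofHom (algebraMap k k'))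
  let p := pullback.fst f S
  haveI : IsFinite p := MorphismProperty.pullback_fst _ _ inferInstance
  haveI : Flat p := MorphismProperty.pullback_fst _ _ inferInstance
  haveI : Surjective S := ⟨fun y => ⟨IsLocalRing.closedPoint k', Subsingleton.elim (α := PrimeSpectrum k) _ _⟩⟩
  haveI : Surjective p := MorphismProperty.pullback_fst _ _ inferInstance
  let L : ↥(pullback f S) → ℕ := fun x => (H23.FiniteFibreSum.fibreLen (pr (k' := k') f) x).toNat
  have hLdvd : ∀ x, L x ∣ Field.finInsepDegree k k' := fun x => dvd_insep f x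
  have hd0 : Field.finInsepDegree k k' ≠ 0 := fun h => by
    have := Field.finSepDegree_mul_finInsepDegree k k'
    rw [h, mul_zero] at this
    exact absurd this.symm Module.finrank_pos.ne'
  have hL0 : ∀ x, L x ≠ 0 := fun x h => hd0 (by simpa [h] using hLdvd x)
  have hpull : ∀ (Z : AlgebraicCycle X ℤ) x, Cyc.pullFun p (fun _ => 0) (fun _ => 0) 0 ⇑Z x = Z (p x) * (L x : ℤ) :=
    fun Z x => by rw [Cyc.pullFun, if_pos (by simp)]; rfl
  have hinv : ∀ x₁ x₂, p x₁ = p x₂ → Z' x₁ = Z' x₂ ∧ L x₁ = L x₂ := fun x₁ x₂ h => by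
    obtain ⟨σ, rfl⟩ := exists_tau_eq f x₁ x₂ h
    exact ⟨(hZ' σ (tau f σ) (tau_fst f σ) (tau_snd f σ) x₁).symm, (congrArg ENat.toNat (fibreLen_tau f σ x₁)).symm⟩
  let g : X → ↥(pullback f S) := Function.surjInv p.surjective
  have hg : ∀ y, p (g y) = y := Function.surjInv_eq p.surjective
  let F : X → ℤ := fun y => ((Field.finInsepDegree k k' / L (g y) : ℕ) : ℤ) * Z' (g y)
  have hfin : ∀ y : X, ∃ U : Set X, IsOpen U ∧ y ∈ U ∧ (U ∩ Function.support F).Finite := fun y => by
    obtain ⟨U, hU, hy, -⟩ := exists_isAffineOpen_mem_and_subset (x := y) (U := ⊤) trivial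
    have hc : IsCompact (p ⁻¹' (U : Set X)) := (quasiCompact_iff p).1 inferInstance U U.isOpen hU.isCompact
    refine ⟨U, U.isOpen, hy, ((Z'.locallyFiniteSupport.finite_inter_support_of_isCompact hc).image p).subset ?_⟩
    rintro z ⟨hz, hF⟩
    refine ⟨g z, ⟨?_, fun h => hF ?_⟩, hg z⟩
    · show p (g z) ∈ (U : Set X)
      rw [hg z]
      exact hz
    · have h' : Z' (g z) = 0 := h
      show F z = 0
      simp [F, h']
  let Z : AlgebraicCycle X ℤ :=
    { toFun := F
      supportWithinDomain' := Set.subset_univ _
      supportLocallyFiniteWithinDomain' := fun y _ => by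
        obtain ⟨U, hUo, hy, hf⟩ := hfin y
        exact ⟨U, hUo.mem_nhds hy, hf⟩ }
  refine ⟨Z, fun x => ?_, fun Z₂ hZ₂ => ?_⟩
  · show (Field.finInsepDegree k k' : ℤ) * Z' x = Cyc.pullFun p (fun _ => 0) (fun _ => 0) 0 ⇑Z x
    rw [hpull]
    obtain ⟨hz, hl⟩ := hinv (g (p x)) x (hg (p x))
    show _ = F (p x) * _
    simp only [F, hz, hl]
    rw [mul_right_comm, ← Nat.cast_mul, Nat.div_mul_cancel (hLdvd x)]
  · ext y
    have h := hZ₂ (g y)
    change _ = Cyc.pullFun p (fun _ => 0) (fun _ => 0) 0 ⇑Z₂ (g y) at h
    rw [hpull, hg] at h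
    show Z₂ y = F y
    have h2 : (L (g y) : ℤ) ≠ 0 := by exact_mod_cast hL0 _
    refine mul_right_cancel₀ h2 (h.symm.trans ?_)
    simp only [F]
    rw [mul_right_comm, ← Nat.cast_mul, Nat.div_mul_cancel (hLdvd _)]

end Groth.Agent.S13599
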