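import Groth.Statements.S1360
import Mathlib
import Groth.Agent.S1359
import Groth.Agent.FlatMisc.InfNbhd

set_option autoImplicit false
universe u
open FlatMor

namespace Groth.Agent.S1360

open AlgebraicGeometry CategoryTheory Limits in
/-- Let S be locally Noetherian, f : X → S of finite type, and Z the closed subscheme of S cut out by an
ideal sheaf I. If the base change of f to every infinitesimal neighbourhood of Z is étale, then
every point of X over Z has an open neighbourhood on which f is étale. -/
theorem result {X S : Scheme.{u}} (f : X ⟶ S) [IsLocallyNoetherian S] [LocallyOfFinitePresentation f] [QuasiCompact f]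
    (I : S.IdealSheafData) (h : ∀ n : ℕ, Etale (pullback.snd f (I ^ (n + 1)).subschemeι)) (x : X) (hx : f x ∈ I.support) :
    ∃ U : X.Opens, x ∈ U ∧ Etale (U.ι ≫ f) := by
  have hsm : x ∈ f.smoothLocus := Groth.Agent.S1359.result f I (fun n => by
    haveI := h n
    infer_instance) x hx
  have hr : f x ∈ Set.range (I ^ (0 + 1)).subschemeι.base := by
    rw [Scheme.IdealSheafData.range_subschemeι, Scheme.IdealSheafData.support_pow_succ]
    exact hx
  haveI : Etale (f.fiberToSpecResidueField (f x)) :=
    FlatMisc.fiberToSpecResidueField_of_baseChange @Etale f _ (h 0) (f x) hr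
  exact FlatMisc.exists_etale_open_of_mem_smoothLocus f x hsm inferInstance

end Groth.Agent.S1360
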