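import Groth.Statements.S13600
import Groth.Agent.CartExt.CycleSub

set_option autoImplicit false
universe u
open CategoryTheory AlgebraicGeometry
open Cyc

namespace Groth.Agent.S13600

/-- Let X be a separated Noetherian scheme and W = Σ a_i z_i an effective cycle on X (a function from
the points of X to the integers, non-negative and with finite support) whose points z_i (those with
a_i ≠ 0) have codimension 1 with X regular there, i.e. O_{X,z_i} is a discrete valuation ring. Then
X has a unique closed subscheme Z (a quasi-coherent ideal sheaf) such that (1) Z has no embedded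
components (every point of Z at which the maximal ideal of the local ring of Z is an associated
prime is a maximal point of Z) and (2) the cycle of Z is W: every maximal point z of Z has O_{Z,z}
of length W(z), and every point with W ≠ 0 is a maximal point of Z. -/
theorem result (X : Scheme.{u}) [IsNoetherian X]
    [X.IsSeparated] (W : X → ℤ) (hfin : {x | W x ≠ 0}.Finite) (hpos : ∀ x, 0 ≤ W x)
    (hreg : ∀ x, W x ≠ 0 → ∃ _ : IsDomain ↑(X.presheaf.stalk x), IsDiscreteValuationRing ↑(X.presheaf.stalk x)) :
    ∃! 𝓘 : X.IdealSheafData,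
      (∀ z : ↥𝓘.subscheme,
        IsAssociatedPrime (IsLocalRing.maximalIdeal ↑(𝓘.subscheme.presheaf.stalk z))
          ↑(𝓘.subscheme.presheaf.stalk z) → ∀ z' : ↥𝓘.subscheme, z' ⤳ z → z' = z) ∧
      (∀ z : ↥𝓘.subscheme, (∀ z' : ↥𝓘.subscheme, z' ⤳ z → z' = z) →
        Module.length ↑(𝓘.subscheme.presheaf.stalk z) ↑(𝓘.subscheme.presheaf.stalk z) =
          ((W (𝓘.subschemeι.base z)).toNat : ℕ∞)) ∧
      (∀ x : X, W x ≠ 0 → ∃ z : ↥𝓘.subscheme, 𝓘.subschemeι.base z = x ∧
        ∀ z' : ↥𝓘.subscheme, z' ⤳ z → z' = z) := by
  exact Groth.Agent.CartExt.existsUnique_cycleSub W hfin hpos hreg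


end Groth.Agent.S13600
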