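import Groth.Statements.S13601
import Groth.Agent.H23.SymFlat
-- import your own Groth.Agent.* helpers here

set_option autoImplicit false
universe u
open CategoryTheory AlgebraicGeometry
open SymProd

namespace Groth.Agent.S13601

/-- Let f : X ⟶ S be a flat morphism of schemes such that every finite set of points of X lying over a
single point of S is contained in an affine open of X, let n ≥ 0, and let (Y, q, g) be an n-th
symmetric power of X over S: q : X ×_S ⋯ ×_S X ⟶ Y (n factors) is a quotient by the symmetric group
on n letters permuting the factors (affine, invariant, identifying sections of O_Y with invariant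
sections) and g : Y ⟶ S satisfies q ≫ g = the structure map of the fibre power. Then g is flat. -/
theorem result {X S Y : Scheme.{u}} (f : X ⟶ S) [Flat f]
    (hAF : SymProd.IsAF f) (n : ℕ) (q : SymProd.fibPow f n ⟶ Y) (g : Y ⟶ S)
    (hq : SymProd.IsSymProd f n q g) : Flat g := by
  
  exact H23.SymFlat.flat f hq hAF

end Groth.Agent.S13601
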