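import Groth.Statements.S13603
import Mathlib.RingTheory.Localization.Basic
import Mathlib.GroupTheory.GroupAction.Defs
import Mathlib.GroupTheory.GroupAction.Basic
import Mathlib.Algebra.Ring.Action.Basic
import Mathlib.Algebra.BigOperators.Ring.Finset

set_option autoImplicit false
universe u v
open CAlg

namespace Groth.Agent.S13603

/-- Let a group G act on a commutative ring B by ring automorphisms so that every element of B has a
finite orbit, and let S ⊆ B be a multiplicative set of G-fixed elements (so each g ∈ G induces an
endomorphism of the localization S⁻¹B; the hypothesis that g maps S into S is implied by the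
previous one and is only carried to name that endomorphism). Then an element of S⁻¹B is fixed by all
of G if and only if it is a fraction b/s with b fixed by G and s ∈ S: the canonical map S⁻¹(B^G) →
(S⁻¹B)^G is onto. -/
theorem result {B : Type u} [CommRing B]
    {G : Type v} [Group G] [MulSemiringAction G B] (hfin : ∀ b : B, (MulAction.orbit G b).Finite)
    (S : Submonoid B) (hS : ∀ (g : G) (s : B), s ∈ S → g • s = s)
    (hS' : ∀ g : G, S ≤ S.comap (MulSemiringAction.toRingHom G B g)) (x : Localization S) :
    (∀ g : G, IsLocalization.map (Localization S) (MulSemiringAction.toRingHom G B g) (hS' g) x = x) ↔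
      ∃ (b : B) (s : S), (∀ g : G, g • b = b) ∧ x = IsLocalization.mk' (Localization S) b s := by
  classical
  constructor
  · intro hx
    obtain ⟨b, s, rfl⟩ := IsLocalization.exists_mk'_eq S x
    have ht : ∀ c ∈ (hfin b).toFinset, ∃ t : S, (t : B) * c = t * b := by
      intro c hc
      obtain ⟨g, rfl⟩ := (hfin b).mem_toFinset.1 hc
      have h := hx g
      rw [IsLocalization.map_mk'] at h
      obtain ⟨t, ht⟩ := IsLocalization.eq.1 h
      simp only [MulSemiringAction.toRingHom_apply, hS g s s.2] at ht
      obtain ⟨t, ht'⟩ : ∃ t : S, (t : B) * ((s : B) * (g • b)) = t * (s * b) := ⟨t, ht⟩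
      exact ⟨t * s, by simpa [mul_assoc] using ht'⟩
    choose! t ht using ht
    let T : S := ∏ c ∈ (hfin b).toFinset, t c
    refine ⟨T * b, T * s, fun g => ?_, ?_⟩
    · rw [smul_mul', hS g T T.2]
      have hmem : g • b ∈ (hfin b).toFinset := (hfin b).mem_toFinset.2 (MulAction.mem_orbit b g)
      have h1 : (T : B) = (t (g • b) : B) * ∏ c ∈ ((hfin b).toFinset.erase (g • b)), (t c : B) := by
        simp only [T, Submonoid.coe_finset_prod]
        exact (Finset.mul_prod_erase _ (fun c => (t c : B)) hmem).symm
      rw [h1, mul_right_comm, ht _ hmem, mul_right_comm]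
    · exact IsLocalization.mk'_eq_of_eq (by simp only [Submonoid.coe_mul]; ring)
  · rintro ⟨b, s, hb, rfl⟩ g
    rw [IsLocalization.map_mk']
    congr 1
    · exact hb g
    · exact Subtype.ext (hS g s s.2)

end Groth.Agent.S13603
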