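import Groth.Statements.S13604
import Groth.Agent.H23.CartierFlatDesc
-- import your own Groth.Agent.* helpers here

set_option autoImplicit false
universe u
open CategoryTheory AlgebraicGeometry
open CategoryTheory.Limits
open Cyc

namespace Groth.Agent.S13604

/-- Let k be a field, X a separated k-scheme of finite type, smooth of relative dimension r, and Z ⊆ X a
closed subscheme (a quasi-coherent ideal sheaf) of pure dimension r − 1, i.e. the local ring of X at
every maximal point of Z has dimension 1. If for some field extension K/k the base change Z_K ⊆ X_K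
= X ×_k Spec K (the inverse image ideal sheaf along the first projection) is an effective Cartier
divisor, then the ideal of Z is locally generated by a single non-zero-divisor, i.e. Z too is
effective Cartier. -/
theorem result {k : Type u} [Field k] {K : Type u} [Field K]
    [Algebra k K] {X : Scheme.{u}} (f : X ⟶ Spec (CommRingCat.of k)) (r : ℕ) [SmoothOfRelativeDimension r f]
    [QuasiCompact f] [IsSeparated f] (𝓘 : X.IdealSheafData)
    (hpure : ∀ z : ↥𝓘.subscheme, (∀ z' : ↥𝓘.subscheme, z' ⤳ z → z' = z) →
      ringKrullDim ↑(X.presheaf.stalk (𝓘.subschemeι.base z)) = 1)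
    (hK : BlowUp.IsEffCartierIdeal
      (𝓘.comap (pullback.fst f (Spec.map (CommRingCat.ofHom (algebraMap k K)))))) :
    BlowUp.IsEffCartierIdeal 𝓘 := by
  set φ := Spec.map (CommRingCat.ofHom (algebraMap k K))
  haveI : Smooth f := SmoothOfRelativeDimension.smooth r f
  haveI : LocallyOfFiniteType f := inferInstance
  haveI : IsLocallyNoetherian X := LocallyOfFiniteType.isLocallyNoetherian f
  haveI : Flat φ := Flat.SpecMap_iff.2 (RingHom.flat_algebraMap_iff.2 inferInstance)
  haveI : Surjective φ := ⟨fun p => ⟨Classical.arbitrary _, Subsingleton.elim _ _⟩⟩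
  haveI : Flat (pullback.fst f φ) := MorphismProperty.pullback_fst _ _ inferInstance
  haveI : Surjective (pullback.fst f φ) := MorphismProperty.pullback_fst _ _ inferInstance
  haveI : QuasiCompact (pullback.fst f φ) := MorphismProperty.pullback_fst _ _ inferInstance
  haveI : LocallyOfFiniteType (pullback.snd f φ) := inferInstance
  haveI : IsLocallyNoetherian (pullback f φ) := LocallyOfFiniteType.isLocallyNoetherian (pullback.snd f φ)
  obtain ⟨𝓘', h', he⟩ := Groth.Agent.H23.CartierFlatDesc.exists_descent hK
    (fun y _ => ⟨Groth.Agent.H23.StalkIdeal.sI 𝓘 y, fun x h => by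
      rw [Groth.Agent.H23.StalkIdeal.sI_comap, Groth.Agent.H23.StalkIdeal.sI_spec 𝓘 h]⟩) (.inl inferInstance)
  suffices 𝓘 = 𝓘' from this ▸ h'
  refine Groth.Agent.H23.StalkIdeal.ext_sI fun y => ?_
  obtain ⟨x, rfl⟩ := (pullback.fst f φ).surjective y
  have h1 := congrArg (fun I => (Groth.Agent.H23.StalkIdeal.sI I x).comap ((pullback.fst f φ).stalkMap x).hom) he
  simp only [Groth.Agent.H23.StalkIdeal.sI_comap, Groth.Agent.H23.CartierFlatDesc.comap_map_stalkMap] at h1
  exact h1.symm

end Groth.Agent.S13604
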