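import Groth.Statements.S13608
import Mathlib

set_option autoImplicit false
universe u v
open CAlg

namespace Groth.Agent.S13608

/-- Let A be a commutative ring, I a finitely generated ideal of A and (M_n) an inverse system of
A-modules with transition maps f_n : M_(n+1) → M_n such that I^(n+1) M_n = 0 for every n. If L is an
inverse limit of the system (projections π_n compatible with the f_n, jointly injective, and such
that every compatible family of elements lifts to L), then L is complete and separated for the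
I-adic topology. No surjectivity of the transition maps is assumed. -/
theorem result
    (A : Type u) [CommRing A] (I : Ideal A) (hI : I.FG)
    (M : ℕ → Type v) [∀ n, AddCommGroup (M n)] [∀ n, Module A (M n)]
    (f : ∀ n, M (n + 1) →ₗ[A] M n)
    (hkill : ∀ n, I ^ (n + 1) • (⊤ : Submodule A (M n)) = ⊥)
    (L : Type v) [AddCommGroup L] [Module A L] (π : ∀ n, L →ₗ[A] M n)
    (hπ : ∀ n, f n ∘ₗ π (n + 1) = π n)
    (hinj : ∀ x : L, (∀ n, π n x = 0) → x = 0)
    (hlift : ∀ y : (∀ n, M n), (∀ n, f n (y (n + 1)) = y n) → ∃ x : L, ∀ n, π n x = y n) :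
    IsAdicComplete I L := by
  classical
  have hz : ∀ n z, z ∈ I ^ (n + 1) • (⊤ : Submodule A L) → π n z = 0 := fun n z hzm => by
    have := Submodule.mem_map_of_mem (f := π n) hzm
    rw [Submodule.map_smul''] at this
    exact (Submodule.mem_bot A).1 ((hkill n).le (Submodule.smul_mono le_rfl le_top this))
  refine { haus' := fun x hx => hinj x fun n => hz n x (SModEq.zero.1 (hx (n + 1))), prec' := fun x hx => ?_ }
  have hsub : ∀ {m n}, m ≤ n → x m - x n ∈ I ^ m • (⊤ : Submodule A L) := fun h => SModEq.sub_mem.1 (hx h)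
  have hπ' : ∀ n z, f n (π (n + 1) z) = π n z := fun n z => LinearMap.congr_fun (hπ n) z
  -- a sequence with small steps converges
  have conv : ∀ S : ℕ → L, (∀ j, S (j + 1) - S j ∈ I ^ j • (⊤ : Submodule A L)) →
      ∃ Z, ∀ n, π n Z = π n (S (n + 1)) := by
    intro S hS
    refine hlift (fun n => π n (S (n + 1))) fun n => ?_
    rw [hπ', ← sub_eq_zero, ← map_sub]
    exact hz n _ (hS (n + 1))
  obtain ⟨X, hX⟩ := conv x fun j => by rw [← neg_sub]; exact neg_mem (hsub j.le_succ)
  refine ⟨X, fun k => SModEq.sub_mem.2 ?_⟩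
  obtain ⟨r, a, ha⟩ := Submodule.fg_iff_exists_fin_generating_family.1 (hI.pow (n := k))
  have hdec : ∀ j, x (k + (j + 1)) - x (k + j) ∈ I ^ k • (I ^ j • (⊤ : Submodule A L)) := fun j => by
    rw [← Submodule.mul_smul, ← pow_add, ← neg_sub]
    exact neg_mem (hsub (by omega))
  have hco : ∀ j, ∃ c : Fin r → L, (∀ i, c i ∈ I ^ j • (⊤ : Submodule A L)) ∧
      ∑ i, a i • c i = x (k + (j + 1)) - x (k + j) := by
    intro j
    have hz' := hdec j
    generalize x (k + (j + 1)) - x (k + j) = z at hz' ⊢
    induction hz' using Submodule.smul_induction_on' with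
    | smul b hb w hw =>
      rw [← ha, Submodule.mem_span_range_iff_exists_fun] at hb
      obtain ⟨c, rfl⟩ := hb
      exact ⟨fun i => c i • w, fun i => Submodule.smul_mem _ _ hw, by
        simp only [Finset.sum_smul, smul_eq_mul, mul_smul]
        exact Finset.sum_congr rfl fun i _ => smul_comm _ _ _⟩
    | add b _ c _ hb hc =>
      obtain ⟨u, hu, rfl⟩ := hb
      obtain ⟨v, hv, rfl⟩ := hc
      exact ⟨u + v, fun i => add_mem (hu i) (hv i), by simp [smul_add, Finset.sum_add_distrib]⟩
  choose c hc hcs using hco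
  have hZ : ∀ i, ∃ Z, ∀ n, π n Z = π n (∑ j ∈ Finset.range (n + 1), c j i) := fun i =>
    conv (fun N => ∑ j ∈ Finset.range N, c j i) fun j => by
      rw [Finset.sum_range_succ, add_sub_cancel_left]; exact hc j i
  choose Z hZ using hZ
  have key : X - x k = ∑ i, a i • Z i := sub_eq_zero.1 (hinj _ fun n => by
    have h2 : ∑ i, π n (a i • Z i) = π n (x (k + (n + 1)) - x k) := by
      have htel : ∑ j ∈ Finset.range (n + 1), (x (k + (j + 1)) - x (k + j)) = x (k + (n + 1)) - x k :=
        Finset.sum_range_sub (fun j => x (k + j)) (n + 1)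
      rw [← htel, map_sum]
      simp only [← hcs, map_sum, map_smul, hZ, Finset.smul_sum]
      exact Finset.sum_comm
    rw [map_sub, map_sum, h2, ← map_sub, show X - x k - (x (k + (n + 1)) - x k) = X - x (k + (n + 1)) by abel,
      map_sub, hX, ← map_sub]
    exact hz n _ (hsub (Nat.le_add_left _ _)))
  rw [← neg_sub, key]
  exact neg_mem (Submodule.sum_mem _ fun i _ => Submodule.smul_mem_smul
    (ha ▸ Submodule.subset_span ⟨i, rfl⟩) Submodule.mem_top)

end Groth.Agent.S13608
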