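import Groth.Statements.S13612
import Groth.Agent.EtModWLib.Uniform.Strata

set_option autoImplicit false
open CategoryTheory CategoryTheory.Limits AlgebraicGeometry Opposite
universe u
open EtModW

namespace Groth.Agent.S13612

/-- For a Noetherian scheme X, a Noetherian coefficient ring Λ and an ideal I of Λ, let F = (F_n) be an
I-adic inverse system of constructible sheaves of Λ-modules on the small etale site of X. Then there
is a dense open subscheme U of X on which every F_n is locally constant of finite type (the system
is lisse on U). -/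
theorem result
    (Λ : Type (u + 1)) [CommRing Λ] [IsNoetherianRing Λ] (I : Ideal Λ)
    (X : Scheme.{u}) [IsNoetherian X]
    (F : ARSys.PS (EtModW.Mod Λ X)) (hF : ARSys.IsAdic I F)
    (hc : ∀ n : ℕ, EtModW.IsConstructible Λ (F.obj (op n))) :
    ∃ U : X.Opens, Dense (U : Set X) ∧
      ∀ n : ℕ, EtModW.IsFTLocConst Λ ((EtModW.pull Λ U.ι).obj (F.obj (op n))) := by
  obtain ⟨U, hU, h⟩ := EtModWLib.exists_uniform_dense_open hF (hc 0)
  exact ⟨U, hU, h⟩


end Groth.Agent.S13612
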