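import Groth.Statements.S13618
import Groth.Agent.EtModWLib.Noeth.Systems

set_option autoImplicit false
open CategoryTheory CategoryTheory.Limits AlgebraicGeometry Opposite
universe u
open EtModW

namespace Groth.Agent.S13618

/-- For a Noetherian scheme X, a Noetherian coefficient ring Λ and an ideal I of Λ, let w : F → G be a
morphism between I-adic inverse systems of constructible sheaves of Λ-modules on the small etale
site of X. Then the kernel and the cokernel of w in the abelian category of inverse systems
(computed termwise) are AR I-adic: I^(n+1) kills their n-th terms and each receives a morphism with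
kernel and cokernel null up to translation from an I-adic system of constructible sheaves.
Consequently AR I-adic systems form an abelian subcategory of the category of systems up to
translation. (The published statement is for objects isomorphic up to translation to I-adic systems
and morphisms up to translation; its argument first reduces to I-adic systems and a genuine morphism
of systems, the case stated here.) -/
theorem result
    (Λ : Type (u + 1)) [CommRing Λ] [IsNoetherianRing Λ] (I : Ideal Λ)
    {X : Scheme.{u}} [IsNoetherian X]
    (F G : ARSys.PS (EtModW.Mod Λ X)) (hF : ARSys.IsAdic I F) (hG : ARSys.IsAdic I G)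
    (hFc : ∀ n : ℕ, EtModW.IsConstructible Λ (F.obj (op n)))
    (hGc : ∀ n : ℕ, EtModW.IsConstructible Λ (G.obj (op n))) (w : F ⟶ G) :
    (ARSys.TermKilled I (kernel w) ∧ ∃ (Y : ARSys.PS (EtModW.Mod Λ X)) (v : Y ⟶ (kernel w)), ARSys.IsAdic I Y ∧ (∀ n : ℕ, EtModW.IsConstructible Λ (Y.obj (op n))) ∧ ARSys.IsARIso v) ∧ (ARSys.TermKilled I (cokernel w) ∧ ∃ (Y : ARSys.PS (EtModW.Mod Λ X)) (v : Y ⟶ (cokernel w)), ARSys.IsAdic I Y ∧ (∀ n : ℕ, EtModW.IsConstructible Λ (Y.obj (op n))) ∧ ARSys.IsARIso v) := by
  exact EtModWLib.isARAdicC_kernel_cokernel hF hG hFc hGc w


end Groth.Agent.S13618
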