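import Groth.Statements.S13620
import Groth.Agent.EtModWLib.Noeth.Jointly
import Groth.Agent.EtModWLib.Noeth.ModSys

set_option autoImplicit false
open CategoryTheory CategoryTheory.Limits AlgebraicGeometry Opposite
universe u
open EtModW

namespace Groth.Agent.S13620

/-- For a Noetherian scheme X, a Noetherian coefficient ring Λ and an ideal I of Λ, let F = (F_n) be an
inverse system of sheaves of Λ-modules on the small etale site of X which is AR I-adic (I^(n+1) F_n
= 0 for all n, and F receives a morphism with kernel and cokernel null up to translation from an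
I-adic system of constructible sheaves). Then F is null up to translation if and only if for every
geometric point x of X the limit of the stalk system, lim_n F_n,x, is the zero module. (The
published lemma assumes Λ I-adically complete, which only its first assertion uses; this row states
the second assertion without it.) -/
theorem result
    (Λ : Type (u + 1)) [CommRing Λ] [IsNoetherianRing Λ] (I : Ideal Λ)
    {X : Scheme.{u}} [IsNoetherian X]
    (F : ARSys.PS (EtModW.Mod Λ X))
    (hF : (ARSys.TermKilled I F ∧ ∃ (Y : ARSys.PS (EtModW.Mod Λ X)) (v : Y ⟶ F), ARSys.IsAdic I Y ∧ (∀ n : ℕ, EtModW.IsConstructible Λ (Y.obj (op n))) ∧ ARSys.IsARIso v)) :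
    ARSys.IsARNull F ↔
      ∀ (Ω : Type u) [Field Ω] [IsSepClosed Ω] (x : Spec (CommRingCat.of Ω) ⟶ X),
        IsZero (limit (F ⋙ EtModW.stalk Λ x)) := by
  obtain ⟨-, Y, v, hY, -, hv⟩ := hF
  obtain ⟨r, ⟨inv⟩⟩ := ARLib.exists_inv hv
  constructor
  · intro h Ω _ _ x
    obtain ⟨r, hr⟩ := EtModWLib.isARNull_map (EtModW.stalk Λ x) h
    refine (IsZero.iff_id_eq_zero _).2 (limit.hom_ext fun n => ?_)
    rw [zero_comp, Category.id_comp, ← limit.w (F ⋙ EtModW.stalk Λ x)
      (homOfLE (Nat.le_add_right n.unop r)).op]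
    exact (congrArg (limit.π (F ⋙ EtModW.stalk Λ x) (op (n.unop + r)) ≫ ·) (hr n.unop)).trans comp_zero
  · intro h
    suffices hz : ∀ n, IsZero (Y.obj (op n)) by
      refine ⟨r, fun n => ?_⟩
      show ARSys.tr F (Nat.le_add_right n r) = 0
      rw [← inv.ψ_u n (n + r) le_rfl, (hz n).eq_of_tgt (inv.ψ n (n + r) le_rfl) 0, zero_comp]
    intro n
    refine (IsZero.iff_id_eq_zero _).2 (EtFound.eq_of_stalks _ _ fun Ω _ _ x => ?_)
    have hAd := EtModWLib.isAdic_map_of_fg (EtModW.stalk Λ x) (fun k => IsNoetherian.noetherian (I ^ k)) hY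
    have := ARLib.isIso_limMap (Y ⋙ EtModW.stalk Λ x) (Functor.whiskerRight v (EtModW.stalk Λ x))
      (EtModWLib.isARIso_map (EtModW.stalk Λ x) v hv)
    have hl0 : IsZero (limit (Y ⋙ EtModW.stalk Λ x)) :=
      (h Ω x).of_iso (asIso (limMap (Functor.whiskerRight v (EtModW.stalk Λ x))))
    refine ModuleCat.hom_ext (LinearMap.ext fun y => ?_)
    obtain ⟨z, rfl⟩ := EtModWLib.surjective_π _ (ARLib.isStrict_of_isAdic hAd) n y
    rw [show z = 0 from (ModuleCat.subsingleton_of_isZero hl0).elim z 0, map_zero, map_zero, map_zero]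


end Groth.Agent.S13620
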