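import Groth.Statements.S13622
import Mathlib.RingTheory.AdicCompletion.Completeness
import Mathlib.RingTheory.AdicCompletion.Algebra
import Mathlib.RingTheory.Nakayama

set_option autoImplicit false
universe u v
open CAlg

namespace Groth.Agent.S13622

/-- Let A be a commutative ring, I a finitely generated ideal and (M_n) an inverse system of finitely
generated A-modules whose transition maps f_n : M_(n+1) → M_n are surjective with kernel I^(n+1)
M_(n+1), and with I^(n+1) M_n = 0 for all n. If L is an inverse limit of the system (projections π_n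
compatible with the f_n, jointly injective, every compatible family lifting to L), endowed with a
module structure over the I-adic completion A^ of A that is compatible with its A-module structure,
then L is finitely generated as an A^-module. No completeness of A is assumed. -/
theorem result
    (A : Type u) [CommRing A] (I : Ideal A) (hI : I.FG)
    (M : ℕ → Type v) [∀ n, AddCommGroup (M n)] [∀ n, Module A (M n)] [∀ n, Module.Finite A (M n)]
    (f : ∀ n, M (n + 1) →ₗ[A] M n) (hf : ∀ n, Function.Surjective (f n))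
    (hker : ∀ n, LinearMap.ker (f n) = I ^ (n + 1) • (⊤ : Submodule A (M (n + 1))))
    (hkill : ∀ n, I ^ (n + 1) • (⊤ : Submodule A (M n)) = ⊥)
    (L : Type v) [AddCommGroup L] [Module A L] (π : ∀ n, L →ₗ[A] M n)
    (hπ : ∀ n, f n ∘ₗ π (n + 1) = π n)
    (hinj : ∀ x : L, (∀ n, π n x = 0) → x = 0)
    (hlift : ∀ y : (∀ n, M n), (∀ n, f n (y (n + 1)) = y n) → ∃ x : L, ∀ n, π n x = y n)
    [Module (AdicCompletion I A) L] [IsScalarTower A (AdicCompletion I A) L] :
    Module.Finite (AdicCompletion I A) L := by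
  classical
  obtain ⟨r, m₀, hm₀⟩ := Submodule.fg_iff_exists_fin_generating_family.1 (Module.Finite.fg_top (R := A) (M := M 0))
  have hπ' : ∀ n z, f n (π (n + 1) z) = π n z := fun n z => LinearMap.congr_fun (hπ n) z
  have hsurj : ∀ z : M 0, ∃ x : L, π 0 x = z := by
    intro z
    let y : ∀ n, M n := fun n => Nat.rec (motive := M) z (fun k w => Function.surjInv (hf k) w) n
    obtain ⟨x, hx⟩ := hlift y fun n => Function.surjInv_eq (hf n) _
    exact ⟨x, hx 0⟩
  choose x₀ hx₀ using fun i => hsurj (m₀ i)
  let Φ : ∀ n, (Fin r → A) →ₗ[A] M n := fun n => Fintype.linearCombination A fun i => π n (x₀ i)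
  have hΦ : ∀ n a, Φ n a = ∑ i, a i • π n (x₀ i) := fun n a => Fintype.linearCombination_apply A _ a
  have hΦf : ∀ n a, f n (Φ (n + 1) a) = Φ n a := fun n a => by simp [hΦ, hπ']
  have hgen : ∀ n, Function.Surjective (Φ n) := by
    intro n
    induction n with
    | zero =>
      rw [← LinearMap.range_eq_top, Fintype.range_linearCombination, ← hm₀]
      congr 2
      exact funext hx₀
    | succ n ih =>
      intro z
      obtain ⟨a, ha⟩ := ih (f n z)
      -- the error lies in `I ^ (n+1)` times the image
      have hle : I ^ (n + 1) • (⊤ : Submodule A (M (n + 1))) ≤ LinearMap.range (Φ (n + 1)) := by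
        have htop : (⊤ : Submodule A (M (n + 1))) ≤ LinearMap.range (Φ (n + 1)) ⊔ I ^ (n + 1) • ⊤ := by
          intro w _
          obtain ⟨b, hb⟩ := ih (f n w)
          refine Submodule.mem_sup.2 ⟨_, ⟨b, rfl⟩, w - Φ (n + 1) b, ?_, add_sub_cancel _ _⟩
          rw [← hker, LinearMap.mem_ker, map_sub, hΦf, hb, sub_self]
        refine (Submodule.smul_mono le_rfl htop).trans ?_
        rw [Submodule.smul_sup, ← Submodule.mul_smul, ← pow_add]
        refine sup_le Submodule.smul_le_right ?_
        refine (Submodule.smul_mono (Ideal.pow_le_pow_right (by omega : n + 1 + 1 ≤ n + 1 + (n + 1))) le_rfl).trans ?_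
        rw [hkill (n + 1)]
        exact bot_le
      obtain ⟨b, hb⟩ := hle (show z - Φ (n + 1) a ∈ _ by rw [← hker, LinearMap.mem_ker, map_sub, hΦf, ha, sub_self])
      exact ⟨b + a, by rw [map_add, hb, sub_add_cancel]⟩
  have hcorr : ∀ n (w : M (n + 1)), f n w = 0 → ∃ d : Fin r → A, (∀ i, d i ∈ I ^ (n + 1)) ∧ Φ (n + 1) d = w := by
    intro n w hw
    rw [← LinearMap.mem_ker, hker] at hw
    induction hw using Submodule.smul_induction_on' with
    | smul c hc v _ =>
      obtain ⟨d, rfl⟩ := hgen (n + 1) v
      exact ⟨c • d, fun i => Ideal.mul_mem_right _ _ hc, map_smul _ _ _⟩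
    | add u _ v _ hu hv =>
      obtain ⟨d, hd, rfl⟩ := hu
      obtain ⟨e, he, rfl⟩ := hv
      exact ⟨d + e, fun i => add_mem (hd i) (he i), map_add _ _ _⟩
  rw [Module.finite_def, Submodule.fg_iff_exists_fin_generating_family]
  refine ⟨r, x₀, eq_top_iff.2 fun y _ => ?_⟩
  -- successive approximations of the coefficients
  have hstep : ∀ n (a : {a : Fin r → A // Φ n a = π n y}), ∃ b : {b : Fin r → A // Φ (n + 1) b = π (n + 1) y},
      ∀ i, b.1 i - a.1 i ∈ I ^ (n + 1) := by
    intro n a
    obtain ⟨d, hd, hd'⟩ := hcorr n (π (n + 1) y - Φ (n + 1) a.1) (by rw [map_sub, hΦf, hπ', a.2, sub_self])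
    exact ⟨⟨a.1 + d, by rw [map_add, hd', add_sub_cancel]⟩, fun i => by simpa using hd i⟩
  choose next hnext using hstep
  obtain ⟨a₀, ha₀⟩ := hgen 0 (π 0 y)
  let a : ∀ n, {a : Fin r → A // Φ n a = π n y} :=
    fun n => Nat.rec (motive := fun n => {a : Fin r → A // Φ n a = π n y}) ⟨a₀, ha₀⟩ next n
  have ha : ∀ i n, (a (n + 1)).1 i - (a n).1 i ∈ I ^ (n + 1) := fun i n => hnext n (a n) i
  let α : Fin r → AdicCompletion I A := fun i => AdicCompletion.mk I A
    (AdicCompletion.AdicCauchySequence.mk I A (fun n => (a n).1 i) fun n => by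
      rw [SModEq.sub_mem, smul_eq_mul, Ideal.mul_top, ← neg_sub, neg_mem_iff]
      exact Ideal.pow_le_pow_right n.le_succ (ha i n))
  refine (Submodule.mem_span_range_iff_exists_fun _).2 ⟨α, sub_eq_zero.1 (hinj _ fun n => ?_)⟩
  have hy : π n y = Φ n (a (n + 1)).1 := by rw [← hΦf, (a (n + 1)).2, hπ']
  rw [map_sub, map_sum, hy, hΦ, ← Finset.sum_sub_distrib]
  refine Finset.sum_eq_zero fun i _ => ?_
  let δ : AdicCompletion I A := α i - algebraMap A _ ((a (n + 1)).1 i)
  have hδ : δ ∈ (I ^ (n + 1) • ⊤ : Submodule A (AdicCompletion I A)) := by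
    rw [AdicCompletion.pow_smul_top_eq_ker_eval hI, LinearMap.mem_ker, map_sub]
    simp [α, AdicCompletion.algebraMap_apply, AdicCompletion.eval]
  have hker' : ∀ d ∈ (I ^ (n + 1) • ⊤ : Submodule A (AdicCompletion I A)), π n (d • x₀ i) = 0 := by
    intro d hd
    induction hd using Submodule.smul_induction_on' with
    | smul c hc v _ =>
      rw [smul_assoc, map_smul]
      exact (Submodule.mem_bot A).1 ((hkill n).le (Submodule.smul_mem_smul hc Submodule.mem_top))
    | add u _ v _ hu hv => rw [add_smul, map_add, hu, hv, add_zero]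
  have := hker' δ hδ
  simpa [δ, sub_smul] using this

end Groth.Agent.S13622
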