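import Groth.Statements.S13623
import Mathlib.RingTheory.GradedAlgebra.Basic
import Mathlib.RingTheory.LocalRing.Module
import Mathlib.RingTheory.Flat.FaithfullyFlat.Basic
import Mathlib.FieldTheory.IsAlgClosed.AlgebraicClosure

set_option autoImplicit false
universe u
open TensorProduct
open CAlg

namespace Groth.Agent.S13623
open TensorProduct DirectSum

/-- Let A be a commutative ring and B a commutative A-algebra, graded by A-submodules B_m (m ≥ 0)
forming a graded-algebra structure, such that every B_m is a finitely generated A-module. If for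
every algebraically closed field k and every A-algebra structure on k the k-algebra k ⊗_A B is
generated by the image of B_1 under b ↦ 1 ⊗ b, then its degree-one part B_1 generates the A-algebra
B. (Algebraically closed fields are taken in the universe of A.) -/
theorem result
    (A : Type u) [CommRing A] (B : Type u) [CommRing B] [Algebra A B]
    (𝒜 : ℕ → Submodule A B) [GradedAlgebra 𝒜]
    (hfin : ∀ m : ℕ, Module.Finite A (𝒜 m))
    (hgen : ∀ (k : Type u) [Field k] [IsAlgClosed k] [Algebra A k],
      Algebra.adjoin k ((Algebra.TensorProduct.includeRight : B →ₐ[A] k ⊗[A] B) '' (𝒜 1 : Set B)) = ⊤) :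
    Algebra.adjoin A (𝒜 1 : Set B) = ⊤ := by
  let S := Algebra.adjoin A (𝒜 1 : Set B)
  have hmono : ∀ x ∈ Submonoid.closure (𝒜 1 : Set B), ∃ d, x ∈ 𝒜 d := by
    intro x hx
    induction hx using Submonoid.closure_induction with
    | mem x hx => exact ⟨1, hx⟩
    | one => exact ⟨0, SetLike.one_mem_graded 𝒜⟩
    | mul x y _ _ hx hy =>
      obtain ⟨a, ha⟩ := hx
      obtain ⟨b, hb⟩ := hy
      exact ⟨a + b, SetLike.mul_mem_graded ha hb⟩
  have key : ∀ m, ∀ x ∈ 𝒜 m, x ∈ S := by
    intro m
    let N : Submodule A (𝒜 m) := (Subalgebra.toSubmodule S).comap (𝒜 m).subtype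
    let π : B →ₗ[A] (𝒜 m) ⧸ N := N.mkQ ∘ₗ (DirectSum.component A ℕ (fun i => 𝒜 i) m) ∘ₗ (DirectSum.decomposeLinearEquiv 𝒜).toLinearMap
    have hπdef : ∀ x, π x = N.mkQ (DirectSum.decompose 𝒜 x m) := fun x => rfl
    have hπ0 : ∀ x ∈ Submonoid.closure (𝒜 1 : Set B), π x = 0 := by
      intro x hx
      obtain ⟨d, hd⟩ := hmono x hx
      rw [hπdef, Submodule.mkQ_apply, Submodule.Quotient.mk_eq_zero]
      show (DirectSum.decompose 𝒜 x m : B) ∈ Subalgebra.toSubmodule S
      by_cases h : d = m
      · subst h
        rw [DirectSum.decompose_of_mem_same 𝒜 hd]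
        exact (Submonoid.closure_le.2 (Algebra.subset_adjoin (R := A) (s := (𝒜 1 : Set B))) : Submonoid.closure (𝒜 1 : Set B) ≤ S.toSubsemiring.toSubmonoid) hx
      · rw [DirectSum.decompose_of_mem_ne 𝒜 hd h]
        exact zero_mem _
    have hπs : Function.Surjective π := by
      intro q
      obtain ⟨⟨y, hy⟩, rfl⟩ := N.mkQ_surjective q
      exact ⟨y, by rw [hπdef]; congr 1; exact Subtype.ext (DirectSum.decompose_of_mem_same 𝒜 hy)⟩
    haveI := hfin m
    have hQ : Subsingleton ((𝒜 m) ⧸ N) := by
      rw [← Module.support_eq_empty_iff (R := A), Set.eq_empty_iff_forall_notMem]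
      intro p hp
      rw [Module.mem_support_iff_nontrivial_residueField_tensorProduct] at hp
      let k := AlgebraicClosure p.asIdeal.ResidueField
      have hsub : Subsingleton (k ⊗[A] ((𝒜 m) ⧸ N)) := by
        refine subsingleton_of_forall_eq 0 fun q => ?_
        obtain ⟨z, rfl⟩ := LinearMap.lTensor_surjective k hπs q
        have hz : z ∈ Subalgebra.toSubmodule (Algebra.adjoin k ((Algebra.TensorProduct.includeRight : B →ₐ[A] k ⊗[A] B) '' (𝒜 1 : Set B))) := by
          rw [hgen k]; trivial
        rw [Algebra.adjoin_eq_span] at hz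
        induction hz using Submodule.span_induction with
        | mem w hw =>
          have : w ∈ (Submonoid.closure (𝒜 1 : Set B)).map (Algebra.TensorProduct.includeRight : B →ₐ[A] k ⊗[A] B).toRingHom.toMonoidHom := by
            rw [MonoidHom.map_mclosure]; exact hw
          obtain ⟨x, hx, rfl⟩ := this
          show (LinearMap.lTensor k π) ((1 : k) ⊗ₜ[A] x) = 0
          rw [LinearMap.lTensor_tmul, hπ0 x hx, TensorProduct.tmul_zero]
        | zero => rw [map_zero]
        | add u v _ _ hu hv => rw [map_add, hu, hv, add_zero]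
        | smul c u _ hu =>
          show (TensorProduct.AlgebraTensorModule.lTensor (R := A) k k π) (c • u) = 0
          rw [map_smul]
          show c • (LinearMap.lTensor k π) u = 0
          rw [hu, smul_zero]
      haveI := (TensorProduct.AlgebraTensorModule.cancelBaseChange A p.asIdeal.ResidueField p.asIdeal.ResidueField k ((𝒜 m) ⧸ N)).toEquiv.subsingleton
      exact not_subsingleton_iff_nontrivial.2 hp (Module.FaithfullyFlat.lTensor_reflects_triviality p.asIdeal.ResidueField k _)
    intro x hx
    exact (Submodule.Quotient.mk_eq_zero N).1 (Subsingleton.elim (N.mkQ ⟨x, hx⟩) 0)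
  classical
  rw [eq_top_iff]
  intro b _
  rw [← DirectSum.sum_support_decompose 𝒜 b]
  exact Subalgebra.sum_mem _ fun i _ => key i _ (SetLike.coe_mem _)

end Groth.Agent.S13623
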