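import Groth.Statements.S13626
import Groth.Agent.S0927
import Groth.Agent.CohPullX.Edge
import Groth.Agent.Lib.InvEnd
import Groth.Agent.H23.PicMul
import Groth.Agent.QCoh.RpushModel

set_option autoImplicit false
universe u
open CategoryTheory CategoryTheory.Limits AlgebraicGeometry
open Coh

namespace Groth.Agent.S13626
namespace Aux
open CategoryTheory CategoryTheory.Limits AlgebraicGeometry

theorem isZero_tensor {X : Scheme.{u}} (E : X.Modules) {Z : X.Modules} (h : IsZero Z) :
    IsZero (CohB1.tensorMod E Z) := by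
  haveI : PreservesColimitsOfSize.{u, u} (DCoh.tensorBi.obj E) := ⟨fun {K} _ => inferInstance⟩
  haveI : PreservesColimitsOfSize.{0, 0} (DCoh.tensorBi.obj E) := preservesColimitsOfSize_shrink.{0, u, 0, u} _
  haveI : PreservesBinaryBiproducts (DCoh.tensorBi.obj E) :=
    preservesBinaryBiproducts_of_preservesBinaryCoproducts _
  haveI : (DCoh.tensorBi.obj E).Additive := Functor.additive_of_preservesBinaryBiproducts _
  exact (DCoh.tensorBi.obj E).map_isZero h

noncomputable def hhIso {Y : Scheme.{u}} {M N : Y.Modules} (e : M ≅ N) (n : ℕ) :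
    Coh.HH Y M n ≃+ Coh.HH Y N n :=
  ((Sheaf.functorH.{u, u} (Opens.grothendieckTopology Y) n).mapIso
    ((QCoh.toAbFunctor Y).mapIso e)).addCommGroupIsoToAddEquiv

end Aux


/-- Let f : X → Y be a morphism of schemes with R^i f_* O_X = 0 for every i ≥ 1 and f_* O_X ≅ O_Y. Then
for every invertible O_Y-module L and every p ≥ 0 the groups H^p(X, f^* L) and H^p(Y, L) are
isomorphic (existence of a group isomorphism; the higher direct images are the right derived
functors of f_* on O_X-modules, under the instance argument recording that O_X-modules have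
injective resolutions). -/
theorem result
    {X Y : Scheme.{u}} (f : X ⟶ Y) [HasInjectiveResolutions X.Modules]
    (hR : ∀ i : ℕ, IsZero ((Coh.Rpush f (i + 1)).obj (Coh.structureModule X)))
    (h0 : Nonempty ((Coh.push f).obj (Coh.structureModule X) ≅ Coh.structureModule Y))
    (L : Y.Modules) (hL : PicF.IsInvertible L) (p : ℕ) :
    Nonempty (Coh.HH X ((Scheme.Modules.pullback f).obj L) p ≃+ Coh.HH Y L p) := by

    obtain ⟨e0⟩ := h0
    haveI : EnoughInjectives X.Modules := SpObjSS.enoughInjectives_of_hasInjectiveResolutions (C := X.Modules)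
    have hLf : FlatMod.IsFinLocFree L := fun y =>
      let ⟨W, hy, he⟩ := InvEnd.isFinLocFreeOfRank_one hL y; ⟨W, 1, hy, he⟩
    let P := (Scheme.Modules.pullback f).obj L
    have u : CohB1.tensorMod P (Coh.structureModule X) ≅ P := KFlatLib.tensorUnitIso P
    have hv : ∀ q : ℕ, 0 < q → IsZero ((Coh.Rpush f q).obj P) := fun q hq => by
      obtain ⟨i, rfl⟩ : ∃ i, q = i + 1 := ⟨q - 1, by omega⟩
      obtain ⟨φ⟩ := S0927.result f (Coh.structureModule X) L hLf (i + 1)
      exact (Aux.isZero_tensor L (hR i)).of_iso (φ ≪≫ (Coh.Rpush f (i + 1)).mapIso u).symm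
    obtain ⟨φ⟩ := S0927.result f (Coh.structureModule X) L hLf 0
    let ψ := (Scheme.Modules.pushforward f).rightDerivedZeroIsoSelf
    have hb := CohPullX.bijective_pushEdge f p P hv
    let b : (Scheme.Modules.pushforward f).obj P ≅ L :=
      (Scheme.Modules.pushforward f).mapIso u.symm ≪≫ (ψ.app _).symm ≪≫ φ.symm ≪≫
        (DCoh.tensorBi.obj L).mapIso (ψ.app _ ≪≫ e0) ≪≫ KFlatLib.tensorUnitIso L
    exact ⟨(AddEquiv.ofBijective _ hb).symm.trans (Aux.hhIso b p)⟩

end Groth.Agent.S13626
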