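import Groth.Statements.S13628
import Mathlib.AlgebraicGeometry.PullbackCarrier
import Mathlib.AlgebraicGeometry.ResidueField
import Mathlib.FieldTheory.IsAlgClosed.AlgebraicClosure

set_option autoImplicit false
universe u
open CategoryTheory CategoryTheory.Limits AlgebraicGeometry Opposite
open FBase

namespace Groth.Agent.S13628

/-- Let P be a property of schemes over fields, invariant under isomorphisms of schemes over the base
field and invariant in both directions under every field extension k → K (Z over k has P if and only
if Z ×_k Spec K over K has P). Let f : X → T be a morphism of schemes, h : T' → T a surjective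
morphism of schemes and f' : X' → T' a base change of f along h. If for every algebraically closed
field k and every Spec k → T' the fibre X' ×_{T'} Spec k has P, then for every algebraically closed
field k and every Spec k → T the fibre X ×_T Spec k has P. (Fields are taken in the universe of the
schemes. The published statement is that families of del Pezzo surfaces form a stack for the étale
topology; this row is the step of its proof that descends the condition on geometric fibres along a
surjective base change, stated for any fibre property with the invariance above.) -/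
theorem result
    (P : ∀ (k : Type u) [Field k] (Z : Scheme.{u}), (Z ⟶ Spec (CommRingCat.of k)) → Prop)
    (hiso : ∀ (k : Type u) [Field k] (Z Z' : Scheme.{u}) (e : Z ≅ Z') (g : Z' ⟶ Spec (CommRingCat.of k)),
      P k Z' g → P k Z (e.hom ≫ g))
    (hext : ∀ (k K : Type u) [Field k] [Field K] (i : k →+* K) (Z : Scheme.{u}) (g : Z ⟶ Spec (CommRingCat.of k)),
      P k Z g ↔ P K (pullback g (Spec.map (CommRingCat.ofHom i))) (pullback.snd g (Spec.map (CommRingCat.ofHom i))))
    {X T X' T' : Scheme.{u}} (f : X ⟶ T) (h : T' ⟶ T) [Surjective h] (f' : X' ⟶ T') (h' : X' ⟶ X)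
    (sq : IsPullback h' f' f h)
    (H : ∀ (k : Type u) [Field k] [IsAlgClosed k] (σ' : Spec (CommRingCat.of k) ⟶ T'),
        P k (pullback f' σ') (pullback.snd f' σ'))
    (k : Type u) [Field k] [IsAlgClosed k] (σ : Spec (CommRingCat.of k) ⟶ T) :
    P k (pullback f σ) (pullback.snd f σ) := by
  obtain ⟨p⟩ : Nonempty ↥(Limits.pullback σ h) := by
    obtain ⟨t', ht'⟩ := h.surjective (σ.base (IsLocalRing.closedPoint k))
    obtain ⟨p, -⟩ := Scheme.Pullback.exists_preimage_pullback (f := σ) (g := h) (IsLocalRing.closedPoint k) t' ht'.symm
    exact ⟨p⟩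
  let Ω := AlgebraicClosure ((Limits.pullback σ h).residueField p)
  let τ : Spec (CommRingCat.of Ω) ⟶ Limits.pullback σ h :=
    Spec.map (CommRingCat.ofHom (algebraMap ((Limits.pullback σ h).residueField p) Ω)) ≫ (Limits.pullback σ h).fromSpecResidueField p
  obtain ⟨i, hi⟩ := Spec.map_surjective (τ ≫ Limits.pullback.fst σ h)
  have h1 := H Ω (τ ≫ Limits.pullback.snd σ h)
  have hcomm : Spec.map i ≫ σ = (τ ≫ Limits.pullback.snd σ h) ≫ h := by
    rw [hi]; simp only [τ, Category.assoc, Limits.pullback.condition]
  have sqA := (IsPullback.of_hasPullback f' (τ ≫ Limits.pullback.snd σ h)).paste_horiz sq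
  rw [← hcomm] at sqA
  have sqB := (IsPullback.of_hasPullback (Limits.pullback.snd f σ) (Spec.map i)).paste_horiz
    (IsPullback.of_hasPullback f σ)
  refine (hext k Ω i.hom _ _).mpr ?_
  have h2 := hiso Ω _ _ (sqB.isoPullback ≪≫ sqA.isoPullback.symm) _ h1
  rwa [Iso.trans_hom, Iso.symm_hom, Category.assoc, IsPullback.isoPullback_inv_snd,
    IsPullback.isoPullback_hom_snd] at h2

end Groth.Agent.S13628
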