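import Groth.Statements.S13629
import Groth.Agent.Pic13Lib.IntNum
import Groth.Agent.Lib.CurveOnSurf
import Groth.Agent.H26.FibModel
import Groth.Agent.QCoh.LocFree

set_option autoImplicit false
universe u
open CategoryTheory CategoryTheory.Limits AlgebraicGeometry Opposite
open FGA

namespace Groth.Agent.S13629
open Groth.Agent Groth.Agent.H23 Groth.Agent.H23.PicMul
attribute [local instance] PicMul.clMonoid

theorem isInvertible_tensorList {X : Scheme.{u}} : ∀ l : List X.Modules, (∀ A ∈ l, PicF.IsInvertible A) →
    PicF.IsInvertible (FGA.tensorList l)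
  | [], _ => InvX.isInvertible_structureModule
  | A :: l, h => PicMul.isInvertible_tensor (h A (List.mem_cons_self ..))
      (isInvertible_tensorList l fun B hB => h B (List.mem_cons_of_mem _ hB))

theorem pullCl_list {X Y : Scheme.{u}} (g : Y ⟶ X) : ∀ l : List X.Modules,
    PicF.pullCl g (PicF.cl (FGA.tensorList l)) = PicF.cl (FGA.tensorList (l.map (Scheme.Modules.pullback g).obj))
  | [] => by
    show PicF.pullCl g (PicF.cl (Coh.structureModule X)) = PicF.cl (Coh.structureModule Y)
    rw [← PicMul.one_def, PicMul.pullCl_one, PicMul.one_def]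
  | A :: l => by
    show PicF.pullCl g (PicF.cl (CohB1.tensorMod A (FGA.tensorList l))) = PicF.cl (CohB1.tensorMod _ _)
    rw [cl_tensor, cl_tensor, PicMul.pullCl_mul, pullCl_list g l]
    rfl


/-- Let f : X → Y be a proper, flat morphism of schemes, locally of finite presentation, whose
scheme-theoretic fibres X_y all have Krull dimension at most 2, and let L be an invertible
O_X-module with a tensor inverse M (M ⊗ L ≅ O_X). Then the self-intersection number (L_y · L_y) of
the restriction of L to the fibre X_y over κ(y), namely the alternating sum χ(O_{X_y}) − 2χ(M_y) +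
χ(M_y ⊗ M_y) of Euler characteristics in degrees ≤ 2, is a locally constant function of y: every
point y₀ of Y has an open neighbourhood on which it equals its value at y₀. (The published statement
is the case where the fibres are integral normal Gorenstein surfaces and L is the relative dualizing
sheaf, so that the number is the self-intersection K² of the canonical class of the fibre; the fibre
X_y is regarded as a scheme over Spec κ(y) through the second projection.) -/
theorem result
    {X Y : Scheme.{u}} (f : X ⟶ Y) [IsProper f] [Flat f] [LocallyOfFinitePresentation f]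
    (hdim : ∀ y : Y, topologicalKrullDim ↥(f.fiber y) ≤ 2)
    (L M : X.Modules) (hL : PicF.IsInvertible L) (hM : ClSub.IsInverseOf M L) (y₀ : Y) :
    ∃ U : Y.Opens, y₀ ∈ U ∧ ∀ y : Y, y ∈ U →
      @FGA.intNum ↥(Y.residueField y) _ (f.fiber y) ⟨f.fiberToSpecResidueField y⟩ 2 2
            ![(Scheme.Modules.pullback (f.fiberι y)).obj M, (Scheme.Modules.pullback (f.fiberι y)).obj M]
            (Coh.structureModule (f.fiber y)) =
        @FGA.intNum ↥(Y.residueField y₀) _ (f.fiber y₀) ⟨f.fiberToSpecResidueField y₀⟩ 2 2
            ![(Scheme.Modules.pullback (f.fiberι y₀)).obj M, (Scheme.Modules.pullback (f.fiberι y₀)).obj M]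
            (Coh.structureModule (f.fiber y₀)) := by
  haveI : QuasiCompact f := inferInstance
  have hM' : PicF.IsInvertible M := (CurveOnSurf.isInvertible_of_inverse hL hM).1
  let l : Finset (Fin 2) → List X.Modules := fun I => (I.sort (· ≤ ·)).map ![M, M]
  have hl : ∀ I, PicF.IsInvertible (FGA.tensorList (l I)) := fun I => isInvertible_tensorList _ fun A hA => by
    obtain ⟨i, -, rfl⟩ := List.mem_map.1 hA
    fin_cases i <;> exact hM'
  let G : Finset (Fin 2) → X.Modules := fun I => CohB1.tensorMod (FGA.tensorList (l I)) (Coh.structureModule X)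
  have hG : ∀ I, PicF.IsInvertible (G I) := fun I => PicMul.isInvertible_tensor (hl I) InvX.isInvertible_structureModule
  have hfp : ∀ I, CohB1.IsFP (G I) := fun I =>
    QCoh.isFP_of_isFinLocFree (H23.PullPush.isFinLocFree_of_isInvertible (hG I))
  have hfl : ∀ I, FlatMod.IsFlatOver f (G I) := fun I => by
    have hP : FlatMod.IsFlat (FGA.tensorList (l I)) :=
      KFlatLib.isFlat_of_isFinLocFree (H23.PullPush.isFinLocFree_of_isInvertible (hl I))
    have hO : FlatMod.IsFlatOver f (Coh.structureModule X) := H26.FibModel.isFlatOver_structureModule f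
    exact KFlatLib.isFlatOver_tensor (P := FGA.tensorList (l I)) (G := Coh.structureModule X) f hP hO
  have hlc : ∀ I, IsLocallyConstant (fun s : Y => PerfAux.eulerChar f (G I) s) := fun I =>
    S1026.result f (G I) (hfp I) (hfl I)
  have key : ∀ y : Y, @FGA.intNum ↥(Y.residueField y) _ (f.fiber y) ⟨f.fiberToSpecResidueField y⟩ 2 2
        ![(Scheme.Modules.pullback (f.fiberι y)).obj M, (Scheme.Modules.pullback (f.fiberι y)).obj M]
        (Coh.structureModule (f.fiber y)) =
      ∑ I : Finset (Fin 2), (-1 : ℤ) ^ I.card * PerfAux.eulerChar f (G I) y := by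
    intro y
    letI : (f.fiber y).Over (Spec (CommRingCat.of ↥(Y.residueField y))) := ⟨f.fiberToSpecResidueField y⟩
    haveI : IsProper ((f.fiber y) ↘ Spec (CommRingCat.of ↥(Y.residueField y))) :=
      (inferInstance : IsProper (pullback.snd f (Y.fromSpecResidueField y)))
    haveI := CurveCohLib.isNoetherian_of_proper (k := ↥(Y.residueField y)) (X := f.fiber y)
    unfold FGA.intNum
    refine Finset.sum_congr rfl fun I _ => ?_
    congr 1
    let A := (Scheme.Modules.pullback (f.fiberι y)).obj (G I)
    have hA : PicF.IsInvertible A := PicClLib.isInvertible_pullback _ (hG I)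
    have hcl : PicF.cl (CohB1.tensorMod (FGA.tensorList ((I.sort (· ≤ ·)).map
        ![(Scheme.Modules.pullback (f.fiberι y)).obj M, (Scheme.Modules.pullback (f.fiberι y)).obj M]))
        (Coh.structureModule (f.fiber y))) = PicF.cl A := by
      show _ = PicF.pullCl (f.fiberι y) (PicF.cl (CohB1.tensorMod (FGA.tensorList (l I)) (Coh.structureModule X)))
      rw [cl_tensor, cl_tensor, ← PicMul.one_def, ← PicMul.one_def, mul_one, mul_one, pullCl_list, List.map_map]
      congr 3
      funext i
      fin_cases i <;> rfl
    obtain ⟨e⟩ := cl_eq_iff.1 hcl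
    show FGA.eulerCharLE ↥(Y.residueField y) (f.fiber y) _ 2 = _
    refine (Finset.sum_congr rfl fun q _ => ?_).trans
      ((Pic13Lib.eulerCharLE_eq (k := ↥(Y.residueField y)) (hdim y) (AmpleVan.isCoh_invertible hA).1).trans rfl)
    rw [(CurveCohLib.hhEquiv (k := ↥(Y.residueField y)) e q).finrank_eq]
  have hall : IsLocallyConstant (fun y : Y => fun I => PerfAux.eulerChar f (G I) y) :=
    (IsLocallyConstant.iff_eventually_eq _).2 fun y => by
      filter_upwards [Filter.eventually_all.2 fun I => (IsLocallyConstant.iff_eventually_eq _).1 (hlc I) y] with z hz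
      exact funext hz
  obtain ⟨U, hU, hy₀, hc⟩ := hall.exists_open y₀
  refine ⟨⟨U, hU⟩, hy₀, fun y hy => ?_⟩
  rw [key, key]
  exact Finset.sum_congr rfl fun I _ => by rw [show PerfAux.eulerChar f (G I) y = PerfAux.eulerChar f (G I) y₀ from congrFun (hc y hy) I]

end Groth.Agent.S13629
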