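import Groth.Statements.S13631
import Mathlib.LinearAlgebra.FreeModule.StrongRankCondition
import Mathlib.LinearAlgebra.Dimension.Localization
import Mathlib.Algebra.Module.Torsion.Basic

set_option autoImplicit false
universe u v w
open CAlg

namespace Groth.Agent.S13631

/-- Let k be a field, R an integral domain which is a k-algebra of infinite dimension over k, M a finite
free R-module, σ a ring automorphism of R mapping the image of k onto itself, and φ : M → M a
σ-semilinear map. If the cokernel of φ is finite-dimensional over k, in the sense that some finitely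
generated k-subspace N of M satisfies M = N + φ(M), then φ is injective. -/
theorem result
    {k : Type u} {R : Type v} {M : Type w} [Field k] [CommRing R] [IsDomain R] [Algebra k R]
    (hR : ¬ Module.Finite k R)
    [AddCommGroup M] [Module R M] [Module k M] [IsScalarTower k R M]
    [Module.Finite R M] [Module.Free R M]
    (σ : R ≃+* R)
    (hσ : ∀ x : k, ∃ y : k, σ (algebraMap k R x) = algebraMap k R y)
    (hσ' : ∀ y : k, ∃ x : k, σ (algebraMap k R x) = algebraMap k R y)
    (φ : M →ₛₗ[(σ : R →+* R)] M)
    (hcoker : ∃ N : Submodule k M, N.FG ∧ ∀ m : M, ∃ n ∈ N, ∃ m' : M, m = n + φ m') :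
    Function.Injective φ := by
  classical
  obtain ⟨N, hN, hcov⟩ := hcoker
  let φ' : M →ₛₗ[(σ : R →+* R)] M := φ
  let Q : Submodule R M :=
    { carrier := Set.range φ
      add_mem' := by rintro _ _ ⟨a, rfl⟩ ⟨b, rfl⟩; exact ⟨a + b, map_add φ a b⟩
      zero_mem' := ⟨0, map_zero φ⟩
      smul_mem' := by rintro r _ ⟨a, rfl⟩; exact ⟨σ.symm r • a, by rw [φ.map_smulₛₗ]; simp⟩ }
  haveI : Module.Finite k (M ⧸ Q) := by
    haveI : Module.Finite k N := Module.Finite.iff_fg.2 hN
    refine Module.Finite.of_surjective ((Q.mkQ.restrictScalars k).comp N.subtype) fun z => ?_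
    obtain ⟨m, rfl⟩ := Submodule.Quotient.mk_surjective Q z
    obtain ⟨n, hn, m', rfl⟩ := hcov m
    refine ⟨⟨n, hn⟩, ?_⟩
    show Submodule.Quotient.mk n = Submodule.Quotient.mk (n + φ m')
    rw [eq_comm, Submodule.Quotient.eq]
    exact ⟨m', by simp⟩
  -- every element of the cokernel is torsion
  have htor : ∀ m : M, ∃ a : R, a ≠ 0 ∧ a • m ∈ Q := by
    intro m
    by_contra! h
    let ψ : R →ₗ[R] M ⧸ Q := LinearMap.toSpanSingleton R _ (Submodule.Quotient.mk m)
    have hψ : Function.Injective (ψ.restrictScalars k) := by
      rw [injective_iff_map_eq_zero]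
      intro a ha
      by_contra ha'
      refine h a ha' ((Submodule.Quotient.mk_eq_zero Q).1 ?_)
      rw [Submodule.Quotient.mk_smul]
      exact ha
    exact hR (Module.Finite.of_injective (ψ.restrictScalars k) hψ)
  -- lift a basis up to scalars
  obtain ⟨n, ⟨b⟩⟩ : ∃ n, Nonempty (Module.Basis (Fin n) R M) :=
    ⟨_, ⟨Module.finBasis R M⟩⟩
  choose a ha hmem using fun i => htor (b i)
  choose y hy using hmem
  -- the lifts are linearly independent
  have hy' : ∀ i, φ (y i) = a i • b i := hy
  have hli : LinearIndependent R y := by
    rw [Fintype.linearIndependent_iff]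
    intro g hg i
    have h0 : ∑ j, (σ (g j) * a j) • b j = 0 := by
      rw [← map_zero φ, ← hg, map_sum]
      exact Finset.sum_congr rfl fun j _ => by rw [φ.map_smulₛₗ, hy', smul_smul]; rfl
    have := (Fintype.linearIndependent_iff.1 b.linearIndependent) _ h0 i
    simpa [ha i] using this
  rw [injective_iff_map_eq_zero]
  intro x hx
  by_contra hx0
  -- x together with the lifts is linearly independent, contradicting the rank
  have hli' : LinearIndependent R (Option.elim' x y) := by
    rw [Fintype.linearIndependent_iff]
    intro g hg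
    rw [Fintype.sum_option] at hg
    simp only [Option.elim'_none, Option.elim'_some] at hg
    have h0 : ∑ j, (σ (g (some j)) * a j) • b j = 0 := by
      have := congrArg φ hg
      rw [map_add, φ.map_smulₛₗ, hx, smul_zero, zero_add, map_sum, map_zero] at this
      rw [← this]
      exact Finset.sum_congr rfl fun j _ => by rw [φ.map_smulₛₗ, hy', smul_smul]; rfl
    have hsome : ∀ j, g (some j) = 0 := fun j => by
      simpa [ha j] using (Fintype.linearIndependent_iff.1 b.linearIndependent) _ h0 j
    rintro (_ | j)
    · simp [hsome] at hg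
      exact hg.resolve_right hx0
    · exact hsome j
  have := hli'.fintype_card_le_finrank
  rw [Fintype.card_option, Module.finrank_eq_card_basis b] at this
  omega

end Groth.Agent.S13631
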