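import Mathlib
import Groth.Agent.ArtFlat.Regular
import Groth.Statements.S13632
-- import your own Groth.Agent.* helpers here

set_option autoImplicit false
universe u
open TensorProduct
open CAlg

noncomputable section

namespace Groth.Agent.S13632

open scoped TensorProduct

section helpers

variable {R : Type u} [CommRing R]

/-- Tensoring a short exact sequence with flat quotient keeps it exact on the left. -/
lemma lTensor_ker_injective_of_flat (k : Type u) [AddCommGroup k] [Module R k]
    {L N : Type u} [AddCommGroup L] [Module R L] [AddCommGroup N] [Module R N] [Module.Flat R N]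
    (q : L →ₗ[R] N) (hq : Function.Surjective q) :
    Function.Injective ((LinearMap.ker q).subtype.lTensor k) := by
  rw [LinearMap.lTensor_inj_iff_rTensor_inj]
  refine Groth.Agent.ArtFlat.balance_rTensor_injective_of_lTensor_injective
    (Finsupp.linearCombination R (id : k → k)) (fun x => ⟨Finsupp.single x 1, by simp⟩) q hq ?_
  exact Module.Flat.lTensor_preserves_injective_linearMap (M := N) _ (Submodule.injective_subtype _)

lemma subsingleton_ker (k : Type u) [AddCommGroup k] [Module R k]
    {L N : Type u} [AddCommGroup L] [Module R L] [AddCommGroup N] [Module R N] [Module.Flat R N]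
    (q : L →ₗ[R] N) (hq : Function.Surjective q) (h : Function.Injective (q.lTensor k)) :
    Subsingleton (k ⊗[R] LinearMap.ker q) := by
  refine subsingleton_of_forall_eq 0 fun z => lTensor_ker_injective_of_flat k q hq (h ?_)
  rw [map_zero, map_zero, ← LinearMap.comp_apply, ← LinearMap.lTensor_comp,
    LinearMap.comp_ker_subtype, LinearMap.lTensor_zero, LinearMap.zero_apply]

lemma injective_of_flat_quotient {L N : Type u} [AddCommGroup L] [Module R L] [AddCommGroup N]
    [Module R N] [Module.Flat R N] [Module.Finite R N] [Module.Finite R L]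
    (g : L →ₗ[R] N) (hg : Function.Surjective g)
    (H : ∀ p : PrimeSpectrum R, Function.Injective (g.lTensor p.asIdeal.ResidueField)) :
    Function.Injective g := by
  rw [injective_iff_map_eq_zero]
  intro x hx
  by_contra hne
  have hann : (Submodule.span R {x}).annihilator ≠ ⊤ := by
    intro h
    rw [Submodule.annihilator_eq_top_iff, Submodule.span_singleton_eq_bot] at h
    exact hne h
  obtain ⟨m, hm, hle⟩ := Ideal.exists_le_maximal _ hann
  let Rp := Localization.AtPrime m
  let k := IsLocalRing.ResidueField Rp
  let g' := g.baseChange Rp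
  have hg' : Function.Surjective g' := LinearMap.lTensor_surjective Rp hg
  haveI : Module.Free Rp (Rp ⊗[R] N) := Module.free_of_flat_of_isLocalRing
  obtain ⟨σ, hσ⟩ := g'.exists_rightInverse_of_surjective (LinearMap.range_eq_top.mpr hg')
  haveI : Module.Finite Rp (LinearMap.ker g') := by
    refine Module.Finite.of_surjective (LinearMap.codRestrict (LinearMap.ker g') (LinearMap.id - σ ∘ₗ g')
      fun z => ?_) (fun z => ⟨z.1, Subtype.ext ?_⟩)
    · have := LinearMap.congr_fun hσ (g' z)
      simp only [LinearMap.comp_apply, LinearMap.id_apply] at this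
      simp [this]
    · have := LinearMap.mem_ker.mp z.2
      simp [this]
  have hinj : Function.Injective (g'.lTensor k) := by
    rw [injective_iff_map_eq_zero]
    intro z hz
    have hnat : ∀ w : k ⊗[Rp] (Rp ⊗[R] L),
        TensorProduct.AlgebraTensorModule.cancelBaseChange R Rp k k N (g'.lTensor k w) =
          g.lTensor k (TensorProduct.AlgebraTensorModule.cancelBaseChange R Rp k k L w) := by
      intro w
      induction w with
      | zero => simp
      | add a b ha hb => simp only [map_add, ha, hb]
      | tmul a b =>
          induction b with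
          | zero => simp
          | add b c hb hc => simp only [TensorProduct.tmul_add, map_add, hb, hc]
          | tmul r l => simp [g']
    have h1 := hnat z
    rw [hz, map_zero] at h1
    refine (TensorProduct.AlgebraTensorModule.cancelBaseChange R Rp k k L).injective ?_
    rw [map_zero]
    refine H ⟨m, hm.isPrime⟩ ?_
    rw [map_zero]
    exact h1.symm
  haveI := subsingleton_ker k g' hg' hinj
  haveI : Subsingleton (LinearMap.ker g') := (IsLocalRing.subsingleton_tensorProduct (R := Rp)).mp this
  have hmem : (1 : Rp) ⊗ₜ[R] x ∈ LinearMap.ker g' := by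
    simp [g', hx]
  have h0 : (TensorProduct.mk R Rp L 1) x = 0 :=
    congrArg Subtype.val (Subsingleton.elim (⟨_, hmem⟩ : LinearMap.ker g') 0)
  obtain ⟨s, hs⟩ := (IsLocalizedModule.eq_zero_iff m.primeCompl (TensorProduct.mk R Rp L 1)).mp h0
  exact s.2 (hle ((Submodule.mem_annihilator_span_singleton _ _).mpr hs))

variable {B : Type u} [CommRing B] [Algebra R B]

lemma eq_bot_of_residueField (K : Ideal B) (hfg : K.FG)
    (H : ∀ p : PrimeSpectrum R, Subsingleton (p.asIdeal.ResidueField ⊗[R] K)) : K = ⊥ := by
  haveI : Module.Finite B K := Module.Finite.iff_fg.mpr hfg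
  have hsupp : Module.support B K = ∅ := by
    refine Set.eq_empty_iff_forall_notMem.mpr fun P hP => ?_
    rw [Module.mem_support_iff_nontrivial_residueField_tensorProduct] at hP
    let p : PrimeSpectrum R := ⟨P.asIdeal.comap (algebraMap R B), inferInstance⟩
    let h : p.asIdeal.ResidueField →+* P.asIdeal.ResidueField :=
      Ideal.ResidueField.map p.asIdeal P.asIdeal (algebraMap R B) rfl
    have h1 : ∀ x : K, (1 : P.asIdeal.ResidueField) ⊗ₜ[B] x = 0 := by
      intro x
      let φ : p.asIdeal.ResidueField ⊗[R] K →+ P.asIdeal.ResidueField ⊗[B] K :=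
        TensorProduct.liftAddHom
          { toFun := fun a => (TensorProduct.mk B P.asIdeal.ResidueField K (h a)).toAddMonoidHom
            map_zero' := by ext; simp
            map_add' := fun a b => by ext; simp [TensorProduct.add_tmul] }
          (fun r a m => by
            change h (r • a) ⊗ₜ[B] m = h a ⊗ₜ[B] (r • m)
            rw [← algebraMap_smul B r m, ← TensorProduct.smul_tmul, Algebra.smul_def, map_mul,
              Algebra.smul_def]
            congr 2
            exact IsLocalRing.ResidueField.map_residue _ _ |>.trans (congrArg _ (Localization.localRingHom_to_map _ _ _ _ r)))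
      have h2 := congrArg φ (Subsingleton.elim (h := H p) ((1 : p.asIdeal.ResidueField) ⊗ₜ[R] x) 0)
      have h3 : φ ((1 : p.asIdeal.ResidueField) ⊗ₜ[R] x) = h 1 ⊗ₜ[B] x := rfl
      rw [h3, map_one, map_zero] at h2
      exact h2
    refine not_subsingleton (P.asIdeal.ResidueField ⊗[B] K) (subsingleton_of_forall_eq 0 fun z => ?_)
    induction z with
    | zero => rfl
    | add a b ha hb => rw [ha, hb, add_zero]
    | tmul a x => rw [← mul_one a, ← smul_eq_mul, ← TensorProduct.smul_tmul', h1, smul_zero]
  rw [Module.support_eq_empty_iff] at hsupp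
  exact (Submodule.subsingleton_iff_eq_bot).mp hsupp

end helpers

/-- Let S = Spec R, X = Spec A finite and flat over S, Y = Spec B of finite type over S, and φ : X → Y
an S-morphism given by f : B → A. If for every point s of S the fibres X_s and Y_s have the same
order (the κ(s)-dimension of their rings of global sections κ(s) ⊗ A and κ(s) ⊗ B; equivalently at
every geometric point) and φ is an isomorphism over every closed point of S (κ(m) ⊗ f bijective for
every maximal ideal m), then φ is an isomorphism, i.e. f is bijective. (The published statement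
allows an arbitrary base scheme S and Y separated of finite type over S; this row is the case of an
affine base with X and Y affine, the case its proof treats directly. Over a base with no closed
points the general statement fails: the hypothesis at closed points is then empty.) -/
theorem result
    {R A B : Type u} [CommRing R] [CommRing A] [CommRing B] [Algebra R A] [Algebra R B]
    [Module.Finite R A] [Module.Flat R A] [Algebra.FiniteType R B]
    (f : B →ₐ[R] A)
    (hrank : ∀ p : PrimeSpectrum R,
      Module.rank p.asIdeal.ResidueField (p.asIdeal.ResidueField ⊗[R] B) =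
        Module.rank p.asIdeal.ResidueField (p.asIdeal.ResidueField ⊗[R] A))
    (hmax : ∀ (m : Ideal R) [m.IsMaximal],
      Function.Bijective (LinearMap.lTensor m.ResidueField f.toLinearMap)) :
    Function.Bijective f := by
  classical
  -- surjectivity
  have hsurj : Function.Surjective f := by
    have hbot : Subsingleton (A ⧸ LinearMap.range f.toLinearMap) := by
      rw [← Module.support_eq_empty_iff (R := R)]
      refine Set.eq_empty_iff_forall_notMem.mpr fun p hp => ?_
      obtain ⟨m, hm, hle⟩ := Ideal.exists_le_maximal p.asIdeal p.2.ne_top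
      have hp' : (⟨m, hm.isPrime⟩ : PrimeSpectrum R) ∈ Module.support R (A ⧸ LinearMap.range f.toLinearMap) :=
        Module.mem_support_mono hle hp
      rw [Module.mem_support_iff_nontrivial_residueField_tensorProduct] at hp'
      refine not_subsingleton (m.ResidueField ⊗[R] (A ⧸ LinearMap.range f.toLinearMap))
        (subsingleton_of_forall_eq 0 fun z => ?_)
      obtain ⟨w, rfl⟩ := LinearMap.lTensor_surjective m.ResidueField
        (LinearMap.range f.toLinearMap).mkQ_surjective z
      obtain ⟨v, rfl⟩ := (hmax m).2 w
      rw [← LinearMap.comp_apply, ← LinearMap.lTensor_comp, LinearMap.range_mkQ_comp,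
        LinearMap.lTensor_zero, LinearMap.zero_apply]
    exact LinearMap.range_eq_top.mp (Submodule.Quotient.subsingleton_iff.mp hbot)
  -- every fibre map is bijective
  have hfib : ∀ p : PrimeSpectrum R, Function.Injective (f.toLinearMap.lTensor p.asIdeal.ResidueField) := by
    intro p
    set k := p.asIdeal.ResidueField
    have hfin : Module.Finite k (k ⊗[R] B) := by
      rw [← Module.rank_lt_aleph0_iff, hrank p]
      exact Module.rank_lt_aleph0 _ _
    have hs : Function.Surjective (f.toLinearMap.baseChange k) :=
      LinearMap.lTensor_surjective k hsurj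
    exact (LinearMap.injective_iff_surjective_of_finrank_eq_finrank
      (congrArg Cardinal.toNat (hrank p))).mpr hs
  -- a finitely generated ideal cutting out a finite module
  obtain ⟨S, hS⟩ := (inferInstance : Algebra.FiniteType R B).out
  obtain ⟨T, hT⟩ := (inferInstance : Module.Finite R A).fg_top
  choose β hβ using hsurj
  let W₀ : Finset B := T.image β
  let c : B → B := fun b => b - β (f b)
  have hlin : ∀ a : A, ∃ w ∈ Submodule.span R (W₀ : Set B), f w = a := by
    intro a
    have ha : a ∈ (Submodule.span R (W₀ : Set B)).map f.toLinearMap := by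
      rw [Submodule.map_span, show (f.toLinearMap '' (W₀ : Set B)) = (T : Set A) from ?_, hT]
      · trivial
      · rw [Finset.coe_image, ← Set.image_comp]
        simp [Function.comp_def, hβ]
    obtain ⟨w, hw, rfl⟩ := ha
    exact ⟨w, hw, rfl⟩
  choose γ hγ hfγ using hlin
  let gens : Set B := ((fun b => b - γ (f b)) '' (S : Set B)) ∪ {(1 : B) - γ 1} ∪
    Set.image2 (fun a b => a * b - γ (f (a * b))) (W₀ : Set B) (W₀ : Set B)
  have hgfin : gens.Finite :=
    ((S.finite_toSet.image _).union (Set.finite_singleton _)).union
      (W₀.finite_toSet.image2 _ W₀.finite_toSet)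
  let K₀ : Ideal B := Ideal.span gens
  have hK₀le : K₀ ≤ RingHom.ker f.toRingHom := by
    rw [Ideal.span_le]
    rintro _ ((⟨b, -, rfl⟩ | rfl) | ⟨a, -, b, -, rfl⟩) <;> simp [RingHom.mem_ker, hfγ]
  let M : Submodule R (B ⧸ K₀) :=
    (Submodule.span R (W₀ : Set B)).map (Ideal.Quotient.mkₐ R K₀).toLinearMap
  have hone : (1 : B ⧸ K₀) ∈ M := ⟨γ 1, hγ 1, by
    symm
    exact (Ideal.Quotient.eq.mpr (Ideal.subset_span (Or.inl (Or.inr rfl))))⟩
  have hmul : ∀ x ∈ M, ∀ y ∈ M, x * y ∈ M := by
    rintro _ ⟨x, hx, rfl⟩ _ ⟨y, hy, rfl⟩
    simp only [AlgHom.toLinearMap_apply, ← map_mul]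
    change Ideal.Quotient.mkₐ R K₀ (x * y) ∈ M
    induction hx, hy using Submodule.span_induction₂ with
    | mem_mem a b ha hb =>
        refine ⟨γ (f (a * b)), hγ _, Eq.symm ?_⟩
        exact Ideal.Quotient.eq.mpr (Ideal.subset_span (Or.inr ⟨a, ha, b, hb, rfl⟩))
    | zero_left y hy => simp
    | zero_right x hx => simp
    | add_left x y z _ _ _ h1 h2 => rw [add_mul, map_add]; exact add_mem h1 h2
    | add_right x y z _ _ _ h1 h2 => rw [mul_add, map_add]; exact add_mem h1 h2
    | smul_left r x y _ _ h => rw [smul_mul_assoc, map_smul]; exact M.smul_mem r h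
    | smul_right r x y _ _ h => rw [mul_smul_comm, map_smul]; exact M.smul_mem r h
  haveI : Module.Finite R (B ⧸ K₀) := by
    refine ⟨?_⟩
    suffices h : (⊤ : Submodule R (B ⧸ K₀)) = M by
      rw [h]
      exact Submodule.FG.map _ (Submodule.fg_span W₀.finite_toSet)
    refine (top_le_iff.mp fun z _ => ?_).symm
    obtain ⟨b, rfl⟩ := Ideal.Quotient.mk_surjective z
    let Msub : Subalgebra R (B ⧸ K₀) := M.toSubalgebra hone fun x y hx hy => hmul x hx y hy
    have hle : Algebra.adjoin R (S : Set B) ≤ Msub.comap (Ideal.Quotient.mkₐ R K₀) := by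
      rw [Algebra.adjoin_le_iff]
      intro s hs
      refine ⟨γ (f s), hγ _, Eq.symm ?_⟩
      exact Ideal.Quotient.eq.mpr (Ideal.subset_span (Or.inl (Or.inl ⟨s, hs, rfl⟩)))
    exact hle (hS ▸ Algebra.mem_top (R := R) (x := b))
  -- the finite quotient maps isomorphically
  let g : (B ⧸ K₀) →ₐ[R] A := Ideal.Quotient.liftₐ K₀ f fun b hb => hK₀le hb
  have hg : Function.Surjective g.toLinearMap := fun a => ⟨Ideal.Quotient.mk K₀ (β a), hβ a⟩
  have hginj : Function.Injective g.toLinearMap := by
    refine injective_of_flat_quotient _ hg fun p => ?_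
    rw [injective_iff_map_eq_zero]
    intro z hz
    obtain ⟨w, rfl⟩ := LinearMap.lTensor_surjective p.asIdeal.ResidueField
      (show Function.Surjective (Ideal.Quotient.mkₐ R K₀).toLinearMap from Ideal.Quotient.mk_surjective) z
    rw [← LinearMap.comp_apply, ← LinearMap.lTensor_comp,
      show g.toLinearMap ∘ₗ (Ideal.Quotient.mkₐ R K₀).toLinearMap = f.toLinearMap from rfl] at hz
    rw [hfib p (hz.trans (map_zero _).symm), map_zero]
  have hkereq : RingHom.ker f.toRingHom = K₀ := by
    refine le_antisymm (fun b hb => ?_) hK₀le
    rw [← Ideal.Quotient.eq_zero_iff_mem]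
    refine hginj ?_
    rw [map_zero]
    exact hb
  have hker : RingHom.ker f.toRingHom = ⊥ := by
    refine eq_bot_of_residueField (R := R) _ (hkereq ▸ Submodule.fg_span hgfin) fun p => ?_
    haveI := subsingleton_ker p.asIdeal.ResidueField f.toLinearMap (fun a => ⟨β a, hβ a⟩) (hfib p)
    exact (TensorProduct.congr (LinearEquiv.refl R p.asIdeal.ResidueField)
      (LinearEquiv.refl R (LinearMap.ker f.toLinearMap) :
        (RingHom.ker f.toRingHom : Ideal B) ≃ₗ[R] LinearMap.ker f.toLinearMap)).injective.subsingleton
  exact ⟨(RingHom.injective_iff_ker_eq_bot f.toRingHom).mpr hker, fun a => ⟨β a, hβ a⟩⟩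

end Groth.Agent.S13632
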