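import Groth.Statements.S13633
import Groth.Agent.GrpSchLib.AntiAffineSmooth
import Groth.Agent.GrpSchLib.KernelGrp
import Groth.Agent.GrpSchLib.AntiAffineHom
import Groth.Agent.GrpSchLib.FieldReduced
import Groth.Agent.S3036
import Groth.Agent.AlgSpPts.Sep
import Groth.Agent.S0353
import Groth.Agent.S5336
import Mathlib.AlgebraicGeometry.Morphisms.FlatMono
-- import your own Groth.Agent.* helpers here

set_option autoImplicit false
set_option backward.isDefEq.respectTransparency false
set_option backward.isDefEq.respectTransparency.types false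
set_option linter.style.haveILetI false
universe u
open CategoryTheory CategoryTheory.Limits MonoidalCategory CartesianMonoidalCategory MonObj AlgebraicGeometry
open GrpSch

namespace Groth.Agent.S13633

open Groth.Agent Groth.Agent.GrpSchLib Groth.Agent.GrpSchLib.Kunneth Groth.Agent.GrpSchLib.Adjoint

/-- A subgroup of a commutative group is commutative. -/
theorem isComm_of_mono {S : Scheme.{u}} {A B : Over S} [GrpObj A] [GrpObj B] [IsCommMonObj B] (f : A ⟶ B) [IsMonHom f]
    [Mono f] : IsCommMonObj A where
  mul_comm := by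
    rw [← cancel_mono f, Category.assoc, IsMonHom.mul_hom f, ← BraidedCategory.braiding_naturality_assoc,
      IsCommMonObj.mul_comm]

/-- An affine scheme of finite type with one point is finite. -/
theorem isFinite_of_subsingleton {k : Type u} [Field k] {X : Scheme.{u}} (f : X ⟶ Spec (CommRingCat.of k))
    [IsAffine X] [LocallyOfFiniteType f] [Subsingleton X] : IsFinite f := by
  haveI : LocallyQuasiFinite f := LocallyQuasiFinite.of_injective fun a b _ => Subsingleton.elim a b
  exact IsFinite.of_locallyQuasiFinite f

/-- A closed point carries a point over an algebraic closure. -/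
theorem exists_geomPt {k K : Type u} [Field k] [Field K] [Algebra k K] [IsAlgClosure k K]
    (X : Over (Spec (CommRingCat.of k))) [LocallyOfFiniteType X.hom] {x : X.left} (hx : IsClosed {x}) :
    ∃ z : Over.mk (Spec.map (CommRingCat.ofHom (algebraMap k K))) ⟶ X, x ∈ Set.range z.left := by
  haveI : IsAlgClosed K := IsAlgClosure.isAlgClosed k
  let g := X.left.fromSpecResidueField x ≫ X.hom
  haveI : IsClosedImmersion (X.left.fromSpecResidueField x) :=
    IsClosedImmersion.of_isPreimmersion _ (by rw [Scheme.range_fromSpecResidueField]; exact hx)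
  haveI : IsFinite g := by
    haveI : LocallyQuasiFinite g := LocallyQuasiFinite.of_injective fun a b _ => Subsingleton.elim a b
    exact IsFinite.of_locallyQuasiFinite g
  letI : Algebra k (X.left.residueField x) := (Spec.preimage g).hom.toAlgebra
  have hg : g = Spec.map (CommRingCat.ofHom (algebraMap k (X.left.residueField x))) := by
    rw [RingHom.algebraMap_toAlgebra, CommRingCat.ofHom_hom, Spec.map_preimage]
  haveI : Module.Finite k (X.left.residueField x) := by
    have := (IsFinite.SpecMap_iff (CommRingCat.ofHom (algebraMap k (X.left.residueField x)))).1 (hg ▸ ‹IsFinite g›)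
    exact RingHom.finite_algebraMap.1 this
  let φ : X.left.residueField x →ₐ[k] K := IsAlgClosed.lift
  refine ⟨Over.homMk (Spec.map (CommRingCat.ofHom φ.toRingHom) ≫ X.left.fromSpecResidueField x) ?_,
    IsLocalRing.closedPoint K, ?_⟩
  · show (_ ≫ _) ≫ X.hom = _
    rw [Category.assoc]
    show _ ≫ g = _
    rw [hg, ← Spec.map_comp]
    congr 1
    exact CommRingCat.hom_ext (RingHom.ext φ.commutes)
  · exact X.left.fromSpecResidueField_apply x _

/-- Let k be a field, K an algebraic closure of k, and ψ : G → H a homomorphism of commutative affine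
group schemes of finite type over k. Assume that for every finite commutative group scheme I over k
the map Hom(I, G) → Hom(I, H), f ↦ f ≫ ψ, on group-scheme homomorphisms is bijective, and that ψ
induces a bijection G(K) → H(K) on K-valued points. Then ψ is an isomorphism. (All group schemes are
commutative by the standing convention.) -/
theorem result
    {k : Type u} [Field k] (K : Type u) [Field K] [Algebra k K] [IsAlgClosure k K]
    (G H : Over (Spec (CommRingCat.of k)))
    [GrpObj G] [IsCommMonObj G] [GrpObj H] [IsCommMonObj H]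
    [IsAffine G.left] [IsAffine H.left] [LocallyOfFiniteType G.hom] [LocallyOfFiniteType H.hom]
    (ψ : G ⟶ H) [IsMonHom ψ]
    (hinj : ∀ (I : Over (Spec (CommRingCat.of k))) [GrpObj I] [IsCommMonObj I] [IsFinite I.hom]
      (f g : I ⟶ G) [IsMonHom f] [IsMonHom g], f ≫ ψ = g ≫ ψ → f = g)
    (hsurj : ∀ (I : Over (Spec (CommRingCat.of k))) [GrpObj I] [IsCommMonObj I] [IsFinite I.hom]
      (h : I ⟶ H) [IsMonHom h], ∃ f : I ⟶ G, IsMonHom f ∧ f ≫ ψ = h)
    (hpts : Function.Bijective fun x : Over.mk (Spec.map (CommRingCat.ofHom (algebraMap k K))) ⟶ G => x ≫ ψ) :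
    IsIso ψ := by
  haveI := AntiAffine.isSeparated_grp H
  haveI := AntiAffine.isSeparated_grp G
  haveI : QuasiCompact G.hom := inferInstance
  haveI : QuasiCompact H.hom := inferInstance
  let P : Over (Spec (CommRingCat.of k)) := Over.mk (Spec.map (CommRingCat.ofHom (algebraMap k K)))
  haveI : Subsingleton P.left := inferInstanceAs (Subsingleton (PrimeSpectrum K))
  -- the kernel is trivial
  obtain ⟨N, _, κ, hκ, hκc, -, hN⟩ := GrpSchLib.exists_kernel ψ
  haveI := hκ; haveI := hκc
  haveI : Mono κ := (Over.forget _).mono_of_mono_map (inferInstanceAs (Mono κ.left))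
  haveI : IsAffine N.left := isAffine_of_isAffineHom κ.left
  haveI : LocallyOfFiniteType N.hom := by rw [← Over.w κ]; infer_instance
  haveI : IsCommMonObj N := isComm_of_mono κ
  have hclosed : ∀ x : N.left, IsClosed {x} → x = η[N].left (IsLocalRing.closedPoint k) := fun x hx => by
    obtain ⟨z, t, rfl⟩ := exists_geomPt (K := K) N hx
    have h1 : z ≫ κ ≫ ψ = 1 := by rw [hN.w, ← Category.assoc, comp_toUnit]; rfl
    have h2 : (z ≫ κ) ≫ ψ = (1 : P ⟶ G) ≫ ψ := by rw [Category.assoc, h1, MonObj.one_comp]
    have h3 : z = 1 := by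
      rw [← cancel_mono κ, hpts.1 h2, MonObj.one_comp]
    rw [h3, Hom.one_def, Over.comp_left, Scheme.Hom.comp_apply]
    congr 1
    exact Subsingleton.elim (α := Spec (CommRingCat.of k)) _ _
  haveI : Subsingleton N.left := by
    haveI : JacobsonSpace N.left := LocallyOfFiniteType.jacobsonSpace N.hom
    haveI : IsSeparated N.hom := by rw [← Over.w κ]; infer_instance
    haveI : IsClosedImmersion η[N].left := by
      haveI : IsClosedImmersion (η[N].left ≫ N.hom) := by
        rw [Over.w η[N]]; exact inferInstanceAs (IsClosedImmersion (𝟙 _))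
      exact IsClosedImmersion.of_comp η[N].left N.hom
    have hall : Set.range η[N].left = Set.univ := by
      refine Set.univ_subset_iff.1 ?_
      rw [← closure_closedPoints]
      exact (η[N].left.isClosedEmbedding.isClosed_range.closure_subset_iff).2 fun x hx => ⟨_, (hclosed x hx).symm⟩
    refine ⟨fun a b => ?_⟩
    obtain ⟨a', rfl⟩ := hall.ge (Set.mem_univ a)
    obtain ⟨b', rfl⟩ := hall.ge (Set.mem_univ b)
    exact congrArg _ (Subsingleton.elim (α := Spec (CommRingCat.of k)) _ _)
  haveI : IsFinite N.hom := isFinite_of_subsingleton N.hom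
  have hN1 : κ = 1 := hinj N κ 1 (by rw [hN.w, MonObj.one_comp]; rfl)
  haveI : Mono ψ := ⟨fun {Z} x y hxy => by
    have h : (x * y⁻¹) ≫ ψ = toUnit _ ≫ η[H] := by
      rw [MonObj.mul_comp, GrpObj.inv_comp, hxy, mul_inv_cancel]; rfl
    rw [← mul_inv_eq_one]
    exact (hN.lift_fst (x * y⁻¹) (toUnit _) h).symm.trans ((congrArg (_ ≫ ·) hN1).trans (MonObj.comp_one _))⟩
  haveI : QuasiCompact ψ.left := by
    haveI : QuasiCompact (ψ.left ≫ H.hom) := by rw [Over.w ψ]; infer_instance
    exact QuasiCompact.of_comp ψ.left H.hom
  haveI : IsArtinianRing k := inferInstance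
  haveI : IsClosedImmersion ψ.left := S3036.result k G H ψ
  haveI : Surjective ψ.left := ⟨fun y => by
    haveI : JacobsonSpace H.left := LocallyOfFiniteType.jacobsonSpace H.hom
    have h : (Set.univ : Set H.left) ⊆ Set.range ψ.left := by
      rw [← closure_closedPoints]
      refine (ψ.left.isClosedEmbedding.isClosed_range.closure_subset_iff).2 fun x hx => ?_
      obtain ⟨z, t, rfl⟩ := exists_geomPt (K := K) H hx
      obtain ⟨g, hg⟩ := hpts.2 z
      exact ⟨g.left t, by rw [← hg]; rfl⟩
    exact h (Set.mem_univ y)⟩
  suffices IsIso ψ.left by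
    haveI : IsIso ((Over.forget _).map ψ) := this
    exact isIso_of_reflects_iso ψ (Over.forget _)
  obtain ⟨p, hp⟩ := ExpChar.exists k
  cases hp with
  | zero =>
    haveI := S0353.result k H
    haveI : IsReduced H.left := GrpSchLib.isReduced_of_smooth_field H.hom
    exact isIso_of_isClosedImmersion_of_surjective ψ.left
  | prime hprime =>
    haveI : ExpChar k p := ExpChar.prime hprime
    obtain ⟨D⟩ := exists_nbhds H η[H]
    have hnb : ∀ n, ∃ g : D.N n ⟶ G, g ≫ ψ = D.j n ≫ D.uι := fun n => by
      obtain ⟨I, _, c, hc, hcm, hIa, hIl, hIs, -, -, hI⟩ := FrobKernel.exists_kernel p (n + 1) H D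
      haveI := hc; haveI := hcm; haveI := hIa; haveI := hIl; haveI := hIs
      haveI : IsFinite I.hom := isFinite_of_subsingleton I.hom
      haveI : IsCommMonObj I := isComm_of_mono c
      obtain ⟨f, -, hf⟩ := hsurj I c
      obtain ⟨g, hg⟩ := hI n (Nat.lt_pow_self hprime.one_lt).le
      exact ⟨g ≫ f, by rw [Category.assoc, hf, hg]⟩
    -- isomorphism near the unit
    let W : Over (Spec (CommRingCat.of k)) := Over.mk (pullback.fst D.uι.left ψ.left ≫ D.U.hom)
    let w : W ⟶ D.U := Over.homMk (pullback.fst D.uι.left ψ.left) rfl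
    haveI : IsClosedImmersion w.left := inferInstanceAs (IsClosedImmersion (pullback.fst D.uι.left ψ.left))
    haveI : IsIso w.left := by
      refine IsClosedImmersion.isIso_of_injective_of_isAffine ((injective_iff_map_eq_zero _).mpr fun a ha => ?_)
      refine D.dense a fun n => ?_
      obtain ⟨g, hg⟩ := hnb n
      let l : D.N n ⟶ W := Over.homMk (pullback.lift (D.j n).left g.left (congrArg CommaMorphism.left hg.symm)) (by
        show pullback.lift (D.j n).left g.left _ ≫ pullback.fst D.uι.left ψ.left ≫ D.U.hom = _
        rw [pullback.lift_fst_assoc, Over.w (D.j n)])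
      have hl : l ≫ w = D.j n := Over.OverMorphism.ext (pullback.lift_fst _ _ _)
      rw [← hl, ← ev_ev, show ev w a = 0 from ha, map_zero]
    haveI : Flat ψ.left := by
      let s : pullback D.uι.left ψ.left ⟶ G.left := pullback.snd D.uι.left ψ.left
      haveI : Flat (s ≫ ψ.left) := by
        rw [show s ≫ ψ.left = pullback.fst D.uι.left ψ.left ≫ D.uι.left from pullback.condition.symm]
        haveI : IsIso (pullback.fst D.uι.left ψ.left) := ‹IsIso w.left›
        infer_instance
      haveI : IsOpenImmersion s := inferInstanceAs (IsOpenImmersion (pullback.snd _ _))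
      obtain ⟨z, -⟩ := w.left.surjective (D.u₀.left (IsLocalRing.closedPoint k))
      refine S5336.result k G H ψ ⟨s z, ?_⟩
      have h1 : ((s ≫ ψ.left).stalkMap z).hom.Flat := Flat.stalkMap (s ≫ ψ.left) z
      rw [Scheme.Hom.stalkMap_comp, CommRingCat.hom_comp] at h1
      have h2 := h1.comp (RingHom.Flat.of_bijective (ConcreteCategory.bijective_of_isIso (inv (s.stalkMap z))))
      rwa [← RingHom.comp_assoc, ← CommRingCat.hom_comp, IsIso.hom_inv_id, CommRingCat.hom_id, RingHom.id_comp] at h2
    haveI : LocallyOfFinitePresentation ψ.left := by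
      haveI : LocallyOfFinitePresentation H.hom := LocallyOfFinitePresentation.iff_locallyOfFiniteType.2 ‹_›
      haveI : LocallyOfFinitePresentation (ψ.left ≫ H.hom) := by
        rw [Over.w ψ]; exact LocallyOfFinitePresentation.iff_locallyOfFiniteType.2 ‹_›
      exact AlgSpPts.locallyOfFinitePresentation_of_comp ψ.left H.hom
    haveI : IsOpenImmersion ψ.left := IsOpenImmersion.of_flat_of_mono ψ.left
    exact (isIso_iff_isOpenImmersion_and_surjective ψ.left).mpr ⟨inferInstance, inferInstance⟩

end Groth.Agent.S13633
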