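import Groth.Statements.S13635
import Groth.Agent.MultSchFac.Factor

set_option autoImplicit false
universe u w
open CategoryTheory CategoryTheory.Limits MonoidalCategory CartesianMonoidalCategory MonObj AlgebraicGeometry
open MultSch
open Groth.Agent

namespace Groth.Agent.S13635

/-- Let M₁ → M₂ → M₃ → 0 be a sequence of R-module schemes over a scheme S, with R-linear homomorphisms
j : M₁ → M₂ and π : M₂ → M₃, exact as a sequence of fppf sheaves. For n ≥ 1 and an R-module scheme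
N, the sequence 0 → Alt(M₃^n, N) → Alt(M₂^n, N) → Alt(M₁ × M₂^(n-1), N) of R-multilinear alternating
morphisms is exact: an R-multilinear alternating φ : M₂^n → N which is trivial on all points with
first coordinate in the image of j is of the form φ' ∘ π^n for a unique morphism φ' : M₃^n → N
(unique among all morphisms), and this φ' is R-multilinear and alternating. -/
theorem result
    {S : Scheme.{u}} {R : Type w} [CommRing R] {M₁ M₂ M₃ N : Over S}
    [GrpObj M₁] [IsCommMonObj M₁] [GrpObj M₂] [IsCommMonObj M₂] [GrpObj M₃] [IsCommMonObj M₃]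
    [GrpObj N] [IsCommMonObj N]
    (ρ₁ : MultSch.RMod R M₁) (ρ₂ : MultSch.RMod R M₂) (ρ₃ : MultSch.RMod R M₃) (ρN : MultSch.RMod R N)
    (j : M₁ ⟶ M₂) (π : M₂ ⟶ M₃) [IsMonHom j] [IsMonHom π]
    (hj : ∀ a : R, j ≫ ρ₂.act a = ρ₁.act a ≫ j) (hπ : ∀ a : R, π ≫ ρ₃.act a = ρ₂.act a ≫ π)
    (w : j ≫ π = 1) (hex : (CGrpSh.seq Scheme.fppfPrecoverage j π w).Exact)
    (hepi : Epi (CGrpSh.ptsMap Scheme.fppfPrecoverage π))
    {n : ℕ} (hn : 1 ≤ n) (φ : MultSch.pow M₂ n ⟶ N)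
    (hmult : MultSch.IsMultilinear φ) (hlin : MultSch.IsRLinear ρ₂ ρN φ) (halt : MultSch.IsAlternating φ)
    (hvan : ∀ (T : Over S) (y : T ⟶ M₁) (x : Fin n → (T ⟶ M₂)), x ⟨0, hn⟩ = y ≫ j →
      MultSch.tuple x ≫ φ = 1) :
    ∃ φ' : MultSch.pow M₃ n ⟶ N,
      (∀ (T : Over S) (x : Fin n → (T ⟶ M₂)), MultSch.tuple x ≫ φ = MultSch.tuple (fun l => x l ≫ π) ≫ φ') ∧
      MultSch.IsMultilinear φ' ∧ MultSch.IsRLinear ρ₃ ρN φ' ∧ MultSch.IsAlternating φ' ∧
      ∀ φ'' : MultSch.pow M₃ n ⟶ N,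
        (∀ (T : Over S) (x : Fin n → (T ⟶ M₂)), MultSch.tuple x ≫ φ = MultSch.tuple (fun l => x l ≫ π) ≫ φ'') →
          φ'' = φ' := by
  exact MultSchFac.exists_factor_alt ρ₂ ρ₃ ρN j π hπ w hex hepi hn φ hmult hlin halt hvan

end Groth.Agent.S13635
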