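import Groth.Statements.S13636
import Groth.Agent.MultSchFac.Factor

set_option autoImplicit false
universe u w
open CategoryTheory CategoryTheory.Limits MonoidalCategory CartesianMonoidalCategory MonObj AlgebraicGeometry
open MultSch
open Groth.Agent

namespace Groth.Agent.S13636

/-- Let M' → M → M'' → 0 be a sequence of R-module schemes over a scheme S, with R-linear homomorphisms
j and π, exact as fppf sheaves, and let ψ : P × M × Q → N be a morphism to an R-module scheme N
which is additive and R-linear in the coordinate M (on T-valued points) and trivial on all points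
whose M-coordinate lies in the image of j. Then ψ = ψ' ∘ (id × π × id) for a unique morphism ψ' : P
× M'' × Q → N, and ψ' is additive and R-linear in the coordinate M''. (The published statement has a
product M₁ × ⋯ × M_r of R-module schemes with the exact sequence in the i-th factor and ψ
R-multilinear; here the factors before and after the i-th are collected into single S-schemes P and
Q, and only linearity in the i-th coordinate, the one the statement is about, is carried; linearity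
in the other coordinates passes between ψ and ψ' formally.) -/
theorem result
    {S : Scheme.{u}} {R : Type w} [CommRing R] {P Q M' M M'' N : Over S}
    [GrpObj M'] [IsCommMonObj M'] [GrpObj M] [IsCommMonObj M] [GrpObj M''] [IsCommMonObj M'']
    [GrpObj N] [IsCommMonObj N]
    (ρ' : MultSch.RMod R M') (ρ : MultSch.RMod R M) (ρ'' : MultSch.RMod R M'') (ρN : MultSch.RMod R N)
    (j : M' ⟶ M) (π : M ⟶ M'') [IsMonHom j] [IsMonHom π]
    (hj : ∀ a : R, j ≫ ρ.act a = ρ'.act a ≫ j) (hπ : ∀ a : R, π ≫ ρ''.act a = ρ.act a ≫ π)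
    (w : j ≫ π = 1) (hex : (CGrpSh.seq Scheme.fppfPrecoverage j π w).Exact)
    (hepi : Epi (CGrpSh.ptsMap Scheme.fppfPrecoverage π))
    (ψ : P ⊗ (M ⊗ Q) ⟶ N)
    (hadd : ∀ (T : Over S) (p : T ⟶ P) (q : T ⟶ Q) (y z : T ⟶ M),
      lift p (lift (y * z) q) ≫ ψ = (lift p (lift y q) ≫ ψ) * (lift p (lift z q) ≫ ψ))
    (hlin : ∀ (T : Over S) (p : T ⟶ P) (q : T ⟶ Q) (y : T ⟶ M) (a : R),
      lift p (lift (y ≫ ρ.act a) q) ≫ ψ = (lift p (lift y q) ≫ ψ) ≫ ρN.act a)
    (hvan : ∀ (T : Over S) (p : T ⟶ P) (q : T ⟶ Q) (y' : T ⟶ M'), lift p (lift (y' ≫ j) q) ≫ ψ = 1) :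
    ∃ ψ' : P ⊗ (M'' ⊗ Q) ⟶ N,
      (P ◁ (π ▷ Q)) ≫ ψ' = ψ ∧
      (∀ (T : Over S) (p : T ⟶ P) (q : T ⟶ Q) (y z : T ⟶ M''),
        lift p (lift (y * z) q) ≫ ψ' = (lift p (lift y q) ≫ ψ') * (lift p (lift z q) ≫ ψ')) ∧
      (∀ (T : Over S) (p : T ⟶ P) (q : T ⟶ Q) (y : T ⟶ M'') (a : R),
        lift p (lift (y ≫ ρ''.act a) q) ≫ ψ' = (lift p (lift y q) ≫ ψ') ≫ ρN.act a) ∧
      ∀ ψ'' : P ⊗ (M'' ⊗ Q) ⟶ N, (P ◁ (π ▷ Q)) ≫ ψ'' = ψ → ψ'' = ψ' := by
  exact MultSchFac.exists_factor_slot ρ ρ'' ρN j π hπ w hex hepi ψ hadd hlin hvan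

end Groth.Agent.S13636
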