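import Groth.Statements.S13639
import Groth.Agent.H26.FMod.RpushML

set_option autoImplicit false
open CategoryTheory CategoryTheory.Limits Opposite
universe u
open FSch

namespace Groth.Agent.S13639

/-- Let 𝔛, 𝔜 be locally Noetherian formal schemes with 𝔜 Noetherian (quasi-compact underlying space), f
: 𝔛 ⟶ 𝔜 a proper morphism, 𝔉 a coherent O_𝔛-module and 𝔉_k = (u_k)_* u_k^* 𝔉 = 𝔉 ⊗ O_{X_k} for the
levels u_k : X_k ⟶ 𝔛. Then for every q the inverse system (R^q f_* 𝔉_k)_{k ≥ 0} of O_𝔜-modules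
satisfies the Mittag-Leffler condition: for each k, the images of R^q f_* 𝔉_{k+s} ⟶ R^q f_* 𝔉_k (as
subobjects in the abelian category of O_𝔜-modules) are the same for all large s. -/
theorem result (𝔛 𝔜 : FSch.Sys.{u}) (h𝔛 : 𝔛.IsLocNoethFormal)
    (h𝔜 : 𝔜.IsLocNoethFormal) [CompactSpace (𝔜.X 0)] (f : 𝔛 ⟶ 𝔜) (hf : FSch.IsProperHom f)
    [HasInjectiveResolutions (FSch.ModF 𝔛 h𝔛.1)] (𝔉 : FSch.ModF 𝔛 h𝔛.1) (h𝔉 : FSch.IsCohF 𝔛 h𝔛.1 𝔉) (q : ℕ) :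
    ARSys.IsML (Functor.ofOpSequence
        (X := fun k => (FSch.RpushF f h𝔛.1 h𝔜.1 q).obj
          ((FSch.levelMor 𝔛 h𝔛.1 k).push.obj ((FSch.levelMor 𝔛 h𝔛.1 k).pull.obj 𝔉)))
        (fun k => (FSch.RpushF f h𝔛.1 h𝔜.1 q).map (FSch.levelTrans 𝔛 h𝔛.1 𝔉 k))) := by
  exact Groth.Agent.H26.FMod.RpushLim.isML_levels h𝔛 h𝔜 f hf 𝔉 h𝔉 q

end Groth.Agent.S13639
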