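import Groth.Statements.S13642
import Groth.Agent.FComplLib.Restrict
-- import your own Groth.Agent.* helpers here

set_option autoImplicit false
open CategoryTheory
universe u
open FSch

namespace Groth.Agent.S13642

/-- Let f : 𝔛 ⟶ 𝔜 be a finite morphism of locally Noetherian formal schemes (adic, with finite morphism
of smallest levels). Then for every open U of 𝔜 the restriction f⁻¹(U) ⟶ U of f to the induced
formal schemes on U and on its inverse image is a finite morphism. -/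
theorem result (𝔛 𝔜 : FSch.Sys.{u}) (h𝔛 : 𝔛.IsLocNoethFormal) (h𝔜 : 𝔜.IsLocNoethFormal)
    (f : 𝔛 ⟶ 𝔜) (hf : FSch.IsFiniteHom f) (U : (𝔜.X 0).Opens) :
    FSch.IsFiniteHom (FSch.Hom.restrictOpen f h𝔛.1 h𝔜.1 U) := by
    refine ⟨fun n => ?_, ?_⟩
    · let V := (TopologicalSpace.Opens.map ((f : FSch.Hom 𝔛 𝔜).app 0).base).obj U
      have hc1 := congrArg (fun t : 𝔛.restrictOpen h𝔛.1 V ⟶ 𝔜 => (t : FSch.Hom _ _).app n)
        (FSch.Hom.restrictOpen_ι f h𝔛.1 h𝔜.1 U)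
      have hc2 := congrArg (fun t : 𝔛.restrictOpen h𝔛.1 V ⟶ 𝔜 => (t : FSch.Hom _ _).app (n + 1))
        (FSch.Hom.restrictOpen_ι f h𝔛.1 h𝔜.1 U)
      refine IsPullback.of_bot ?_ ((FSch.Hom.restrictOpen f h𝔛.1 h𝔜.1 U : FSch.Hom _ _).comm n).symm
        (FComplLib.isAdicHom_restrictOpenι 𝔜 h𝔜.1 U n)
      change (FSch.Hom.restrictOpen f h𝔛.1 h𝔜.1 U : FSch.Hom _ _).app n ≫ _ = (𝔛.restrictOpenι h𝔛.1 V : FSch.Hom _ _).app n ≫ _ at hc1
      change (FSch.Hom.restrictOpen f h𝔛.1 h𝔜.1 U : FSch.Hom _ _).app (n + 1) ≫ _ = (𝔛.restrictOpenι h𝔛.1 V : FSch.Hom _ _).app (n + 1) ≫ _ at hc2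
      rw [hc1, hc2]
      exact (FComplLib.isAdicHom_restrictOpenι 𝔛 h𝔛.1 V n).paste_vert (hf.1 n)
    · have := hf.2
      exact MorphismProperty.of_isPullback
        (FComplLib.isPullback_resLE ((f : FSch.Hom 𝔛 𝔜).app 0) (𝔜.lvU h𝔜.1 0 U)
          (𝔛.lvU h𝔛.1 0 ((TopologicalSpace.Opens.map ((f : FSch.Hom 𝔛 𝔜).app 0).base).obj U)) (FSch.Hom.lvU_preimage f h𝔛.1 h𝔜.1 0 U).ge
          (FSch.Hom.lvU_preimage f h𝔛.1 h𝔜.1 0 U).symm).flip hf.2

end Groth.Agent.S13642
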