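import Groth.Statements.S13645
import Groth.Agent.H26.FMod.AlgExt

set_option autoImplicit false
open CategoryTheory CategoryTheory.Limits AlgebraicGeometry
universe u
open FSch

namespace Groth.Agent.S13645

/-- Suppose A is a Noetherian adic ring whose ideal of definition is J, put Y = Spec A, take f : X ⟶ Y
separated and of finite type, and write X̂ for the completion of X along f⁻¹(V(J)). Say that an
O_X̂-module is algebraizable if it is isomorphic to the completion of some coherent O_X-module with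
support proper over Y. Given a short exact sequence 0 ⟶ ℋ ⟶ 𝔉 ⟶ 𝔊 ⟶ 0 of coherent O_X̂-modules where
both ℋ and 𝔊 are algebraizable, the middle term 𝔉 is algebraizable as well. -/
theorem result (A : Type u) [CommRing A] [IsNoetherianRing A] (J : Ideal A) [IsAdicComplete J A]
    {X : Scheme.{u}} (f : X ⟶ Spec (CommRingCat.of A)) [IsSeparated f] [LocallyOfFiniteType f] [QuasiCompact f]
    (𝓘 : X.IdealSheafData) (h𝓘 : 𝓘 = (FSch.idealSpec A J).comap f)
    (hX : (FSch.completionAlong X 𝓘).IsFormal)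
    (S : ShortComplex (FSch.ModF (FSch.completionAlong X 𝓘) hX)) (hS : S.ShortExact)
    (h₁ : FSch.IsCohF _ hX S.X₁) (h₂ : FSch.IsCohF _ hX S.X₂) (h₃ : FSch.IsCohF _ hX S.X₃)
    (a₁ : (∃ G : X.Modules, Coh.IsCoh G ∧ ClSub.IsProperOver f (CohB1.support G) ∧
        Nonempty (S.X₁ ≅ (FSch.complMod 𝓘 G).realMod hX)))
    (a₃ : (∃ G : X.Modules, Coh.IsCoh G ∧ ClSub.IsProperOver f (CohB1.support G) ∧
        Nonempty (S.X₃ ≅ (FSch.complMod 𝓘 G).realMod hX))) :
    (∃ G : X.Modules, Coh.IsCoh G ∧ ClSub.IsProperOver f (CohB1.support G) ∧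
        Nonempty (S.X₂ ≅ (FSch.complMod 𝓘 G).realMod hX)) := by
  letI : X.Over (Spec (CommRingCat.of A)) := ⟨f⟩
  haveI : LocallyOfFiniteType (X ↘ Spec (CommRingCat.of A)) := ‹LocallyOfFiniteType f›
  haveI : IsLocallyNoetherian X := LocallyOfFiniteType.isLocallyNoetherian f
  haveI : CompactSpace X := QuasiCompact.compactSpace_of_compactSpace f
  haveI : AlgebraicGeometry.IsNoetherian X := { __ := ‹IsLocallyNoetherian X›, __ := ‹CompactSpace X› }
  exact Groth.Agent.H26.FMod.alg_of_shortExact 𝓘 hX J h𝓘 S hS h₁ h₂ h₃ a₁ a₃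

end Groth.Agent.S13645
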