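import Groth.Statements.S13646
import Groth.Agent.H26.FMod.AlgExt

set_option autoImplicit false
open CategoryTheory CategoryTheory.Limits AlgebraicGeometry
universe u
open FSch

namespace Groth.Agent.S13646

/-- Suppose A is a Noetherian adic ring whose ideal of definition is J, put Y = Spec A, take f : X ⟶ Y
separated and of finite type, and write X̂ for the completion of X along f⁻¹(V(J)). An O_X̂-module
is said to be algebraizable if it is isomorphic to the completion of some coherent O_X-module having
support proper over Y. Given a morphism u : 𝔉 ⟶ 𝔊 of coherent O_X̂-modules for which 𝔊, Ker(u) and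
Coker(u) are all algebraizable, the module 𝔉 is algebraizable as well. (In the published version X
is only assumed of finite type over A; here X is kept separated of finite type over A, since that is
the setting where algebraizable modules are defined.) -/
theorem result (A : Type u) [CommRing A] [IsNoetherianRing A] (J : Ideal A) [IsAdicComplete J A]
    {X : Scheme.{u}} (f : X ⟶ Spec (CommRingCat.of A)) [IsSeparated f] [LocallyOfFiniteType f] [QuasiCompact f]
    (𝓘 : X.IdealSheafData) (h𝓘 : 𝓘 = (FSch.idealSpec A J).comap f)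
    (hX : (FSch.completionAlong X 𝓘).IsFormal)
    (𝔉 𝔊 : FSch.ModF (FSch.completionAlong X 𝓘) hX) (h𝔉 : FSch.IsCohF _ hX 𝔉) (h𝔊 : FSch.IsCohF _ hX 𝔊)
    (u : 𝔉 ⟶ 𝔊)
    (a𝔊 : (∃ G : X.Modules, Coh.IsCoh G ∧ ClSub.IsProperOver f (CohB1.support G) ∧
        Nonempty (𝔊 ≅ (FSch.complMod 𝓘 G).realMod hX)))
    (ak : (∃ G : X.Modules, Coh.IsCoh G ∧ ClSub.IsProperOver f (CohB1.support G) ∧
        Nonempty (kernel u ≅ (FSch.complMod 𝓘 G).realMod hX)))
    (ac : (∃ G : X.Modules, Coh.IsCoh G ∧ ClSub.IsProperOver f (CohB1.support G) ∧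
        Nonempty (cokernel u ≅ (FSch.complMod 𝓘 G).realMod hX))) :
    (∃ G : X.Modules, Coh.IsCoh G ∧ ClSub.IsProperOver f (CohB1.support G) ∧
        Nonempty (𝔉 ≅ (FSch.complMod 𝓘 G).realMod hX)) := by
  letI : X.Over (Spec (CommRingCat.of A)) := ⟨f⟩
  haveI : LocallyOfFiniteType (X ↘ Spec (CommRingCat.of A)) := ‹LocallyOfFiniteType f›
  haveI : IsLocallyNoetherian X := LocallyOfFiniteType.isLocallyNoetherian f
  haveI : CompactSpace X := QuasiCompact.compactSpace_of_compactSpace f
  haveI : AlgebraicGeometry.IsNoetherian X := { __ := ‹IsLocallyNoetherian X›, __ := ‹CompactSpace X› }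
  exact Groth.Agent.H26.FMod.alg_of_kernel_cokernel 𝓘 hX J h𝓘 𝔉 𝔊 h𝔉 u a𝔊 ak ac

end Groth.Agent.S13646
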