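import Groth.Statements.S1365
import Groth.Agent.SteinConn.Basic
import Groth.Agent.CycCov7.Scheme
import Groth.Agent.FlatMisc.SteinUC

set_option autoImplicit false
set_option linter.style.haveILetI false
set_option backward.isDefEq.respectTransparency false
set_option backward.isDefEq.respectTransparency.types false
universe u
open FlatMor

namespace Groth.Agent.S1365

open AlgebraicGeometry CategoryTheory Limits in
/-- Bijectivity on affine opens. -/
theorem bijective_affine {X S : Scheme.{u}} (f : X ⟶ S) [IsProper f] [IsIntegral S] (hS : Pi1.IsNormalScheme S)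
    [IsReduced X] (hgen : ∀ Z ∈ irreducibleComponents ↑X, ∀ x : X, IsGenericPoint x Z → f x = genericPoint ↑S)
    (h0 : Function.Bijective ((f.fiberToSpecResidueField (genericPoint ↑S)).appTop))
    {U : S.Opens} (hU : IsAffineOpen U) : Function.Bijective (f.app U) := by
  have hdense : ∀ O : X.Opens, (∀ z : X, f z = genericPoint S → z ∉ O) → O = ⊥ := by
    intro O hO
    refine TopologicalSpace.Opens.ext (Set.eq_empty_iff_forall_notMem.2 fun x hx => ?_)
    have hZ := irreducibleComponent_mem_irreducibleComponents x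
    let z := isIrreducible_irreducibleComponent (x := x) |>.genericPoint
    have hz : IsGenericPoint z (irreducibleComponent x) := by
      exact isIrreducible_irreducibleComponent.isGenericPoint_genericPoint isClosed_irreducibleComponent
    exact hO z (hgen _ hZ z hz) ((hz.specializes mem_irreducibleComponent).mem_open O.2 hx)
  rcases (U : Set S).eq_empty_or_nonempty with he | hne
  · have hU0 : U = ⊥ := TopologicalSpace.Opens.ext (by simpa using he)
    have hV0 : f ⁻¹ᵁ U = ⊥ := by rw [hU0]; rfl
    haveI : Subsingleton Γ(S, U) := hU0 ▸ inferInstanceAs (Subsingleton Γ(S, ⊥))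
    haveI : Subsingleton Γ(X, f ⁻¹ᵁ U) := hV0 ▸ inferInstanceAs (Subsingleton Γ(X, ⊥))
    exact ⟨fun a b _ => Subsingleton.elim a b, fun b => ⟨0, Subsingleton.elim _ _⟩⟩
  let η := genericPoint S
  have hη : η ∈ U := (genericPoint_spec S).mem_open_set_iff U.2 |>.2 (by simpa using hne)
  haveI : Nonempty U := ⟨⟨η, hη⟩⟩
  haveI := functionField_isFractionRing_of_isAffineOpen S U hU
  haveI : IsIntegrallyClosed Γ(S, U) :=
    IsIntegrallyClosed.of_localization_maximal fun m _ _ => (Groth.Agent.CycCov7.isNormal_Γ hS hU m).2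
  let i := f.fiberι η
  let t := f.fiberToSpecResidueField η
  have hle : (⊤ : (f.fiber η).Opens) ≤ i ⁻¹ᵁ (f ⁻¹ᵁ U) := fun z _ => by
    show f (i z) ∈ U
    have : i z ∈ Set.range (f.fiberι η) := ⟨z, rfl⟩
    rw [Scheme.Hom.range_fiberι] at this
    rw [show f (i z) = η from this]
    exact hη
  let σ := i.appLE (f ⁻¹ᵁ U) ⊤ hle
  let g := S.presheaf.germ U η hη
  let Φ := S.residue η ≫ (Scheme.ΓSpecIso (S.residueField η)).inv ≫ t.appTop
  have hsq : f.app U ≫ σ = g ≫ Φ := by
    have h1 : f.app U ≫ σ = (i ≫ f).appLE U ⊤ hle := by simp [σ, Scheme.Hom.comp_appLE]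
    have hw : i ≫ f = t ≫ S.fromSpecResidueField η := pullback.condition
    have hle' : (⊤ : (f.fiber η).Opens) ≤ (t ≫ S.fromSpecResidueField η) ⁻¹ᵁ U := hw ▸ hle
    have h2 : (i ≫ f).appLE U ⊤ hle = (t ≫ S.fromSpecResidueField η).appLE U ⊤ hle' := by congr 1
    have h3 : ⊤ ≤ (S.fromSpecResidueField η) ⁻¹ᵁ U := fun z _ => by
      show S.fromSpecResidueField η z ∈ U
      rw [Scheme.fromSpecResidueField_apply]; exact hη
    have h4 : (S.fromSpecResidueField η).appLE U ⊤ h3 = g ≫ S.residue η ≫ (Scheme.ΓSpecIso _).inv := by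
      simp only [Scheme.fromSpecResidueField, Scheme.Hom.comp_appLE, Scheme.fromSpecStalk_app hη, Category.assoc,
        Scheme.Hom.map_appLE]
      rw [Scheme.ΓSpecIso_inv_naturality]
      rfl
    rw [h1, h2, ← Scheme.Hom.appLE_comp_appLE t (S.fromSpecResidueField η) U ⊤ ⊤ h3 le_top, h4]
    simp only [Φ, Category.assoc]
    congr 3
    simp [Scheme.Hom.appLE]
  letI : Field (S.presheaf.stalk η) := inferInstanceAs (Field S.functionField)
  have hres : Function.Bijective (S.residue η) :=
    ⟨(S.residue η).hom.injective, IsLocalRing.residue_surjective⟩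
  have hΦ : Function.Bijective Φ :=
    (h0.comp (ConcreteCategory.bijective_of_isIso (Scheme.ΓSpecIso (S.residueField η)).inv)).comp hres
  have hσ : Function.Injective σ := by
    rw [injective_iff_map_eq_zero]
    intro b hb
    refine AlgebraicGeometry.eq_zero_of_basicOpen_eq_bot b (hdense _ fun z hz hzb => ?_)
    have : z ∈ Set.range (f.fiberι η) := by rw [Scheme.Hom.range_fiberι]; exact hz
    obtain ⟨w, rfl⟩ := this
    have hw : w ∈ (f.fiber η).basicOpen (σ b) := by
      rw [show σ = i.appLE (f ⁻¹ᵁ U) ⊤ hle from rfl, Scheme.basicOpen_appLE]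
      exact ⟨trivial, hzb⟩
    rw [hb, Scheme.basicOpen_zero] at hw
    exact hw
  have hginj : Function.Injective g := IsFractionRing.injective Γ(S, U) S.functionField
  have key : ∀ a, σ (f.app U a) = Φ (g a) := fun a => congr($(hsq) a)
  refine ⟨fun a a' h => hginj (hΦ.1 (by rw [← key, ← key, h])), fun b => ?_⟩
  obtain ⟨c, hc⟩ := hΦ.2 (σ b)
  haveI : IsAffine (U : Scheme.{u}) := hU
  have hint : (f.app U).hom.IsIntegral := by
    haveI : UniversallyClosed (f ∣_ U) := IsZariskiLocalAtTarget.restrict (P := @UniversallyClosed) ‹IsProper f›.toUniversallyClosed U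
    have h := isIntegral_appTop_of_universallyClosed (f ∣_ U)
    have e : f.app U = U.topIso.inv ≫ (f ∣_ U).appTop ≫ (f ⁻¹ᵁ U).topIso.hom := by
      simp [Scheme.Hom.appTop, Scheme.Hom.app_eq_appLE]
    rw [e, CommRingCat.hom_comp, CommRingCat.hom_comp]
    exact RingHom.IsIntegral.trans _ _ (RingHom.isIntegral_of_surjective _
        (ConcreteCategory.bijective_of_isIso U.topIso.inv).2) (RingHom.IsIntegral.trans _ _ h
      (RingHom.isIntegral_of_surjective _ (ConcreteCategory.bijective_of_isIso (f ⁻¹ᵁ U).topIso.hom).2))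
  obtain ⟨P, hP, hPb⟩ := hint b
  obtain ⟨a, ha⟩ := IsIntegrallyClosed.isIntegral_iff.1 (show IsIntegral Γ(S, U) (c : S.functionField) from
    ⟨P, hP, hΦ.1 (by
      show Φ.hom (P.eval₂ g.hom c) = Φ.hom 0
      rw [map_zero, Polynomial.hom_eval₂, show Φ.hom c = σ.hom b from hc,
        show Φ.hom.comp g.hom = σ.hom.comp (f.app U).hom from RingHom.ext fun a => (key a).symm,
        ← Polynomial.hom_eval₂, hPb, map_zero])⟩)
  exact ⟨a, hσ (by rw [key]; exact (congrArg _ ha).trans hc)⟩

open AlgebraicGeometry CategoryTheory Limits in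
/-- Let f : X → S be proper with S integral and normal and X reduced, such that the generic points of
the irreducible components of X all lie over the generic point ξ of S, and such that the global
functions of the generic fibre are just the residue field of ξ. Then the structure sheaf of S is the
pushforward of that of X (all components of f on opens are isomorphisms) and f has geometrically
connected fibres. -/
theorem result {X S : Scheme.{u}} (f : X ⟶ S) [IsProper f] [IsIntegral S] (hS : Pi1.IsNormalScheme S) [IsReduced X]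
    (hgen : ∀ Z ∈ irreducibleComponents ↑X, ∀ x : X, IsGenericPoint x Z → f x = genericPoint ↑S)
    (h0 : Function.Bijective ((f.fiberToSpecResidueField (genericPoint ↑S)).appTop)) :
    (∀ U : S.Opens, IsIso (f.app U)) ∧ GeometricallyConnected f := by
  refine ⟨fun U => ?_, SteinConn.geometricallyConnected_of_bijective_app f
    fun W hW => bijective_affine f hS hgen h0 hW⟩
  exact FlatMisc.isIso_app_of_bijective_affine f (fun z => by
    obtain ⟨_, ⟨A, hA, rfl⟩, hz, -⟩ := S.isBasis_affineOpens.exists_subset_of_mem_open (Set.mem_univ z) isOpen_univ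
    exact ⟨A, hA, hz, bijective_affine f hS hgen h0 hA⟩) U

end Groth.Agent.S1365
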