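import Groth.Statements.S1366
import Mathlib
import Groth.Agent.HensClopen.Main

set_option autoImplicit false
universe u
open FlatMor

namespace Groth.Agent.S1366

open AlgebraicGeometry CategoryTheory Limits in
/-- Let (A, I) be a henselian pair and X a separated scheme of finite type over Spec A, with X_0 its
base change to Spec (A/I). If Y is an open and closed subset of X_0 which (as an open subscheme) is
proper over Spec (A/I), then there is an open and closed subset W of X, proper over Spec A as an
open subscheme, whose preimage in X_0 is exactly Y. -/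
theorem result {A : Type u} [CommRing A] (I : Ideal A) [HenselianRing A I]
    {X : Scheme.{u}} (f : X ⟶ Spec (CommRingCat.of A)) [IsSeparated f] [LocallyOfFiniteType f] [QuasiCompact f]
    (Y : (pullback f (Spec.map (CommRingCat.ofHom (Ideal.Quotient.mk I)))).Opens) (hYc : IsClosed (Y : Set ↑(pullback f (Spec.map (CommRingCat.ofHom (Ideal.Quotient.mk I))))))
    (hYp : IsProper (Y.ι ≫ pullback.snd f (Spec.map (CommRingCat.ofHom (Ideal.Quotient.mk I))))) :
    ∃ W : X.Opens, IsClosed (W : Set ↑X) ∧ IsProper (W.ι ≫ f) ∧
      pullback.fst f (Spec.map (CommRingCat.ofHom (Ideal.Quotient.mk I))) ⁻¹ᵁ W = Y := by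
  exact Groth.Agent.HensClopen.exists_lift I f Y hYc hYp

end Groth.Agent.S1366
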