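import Groth.Statements.S13663
import Mathlib

set_option autoImplicit false
universe u
open GrRing

namespace Groth.Agent.S13663

/-- Let A be a commutative ring graded by the integers whose ideal generated by the homogeneous elements
of positive degree has homogeneous generators f_1, …, f_p, of positive degrees d_1, …, d_p, and let
d be a positive integer divisible by each d_i. Then A_N = A_d · A_{N-d} for every integer N > dp -
(d_1 + ⋯ + d_p). -/
theorem result {R A : Type u} [CommRing R] [CommRing A] [Algebra R A]
    (𝒜 : ℤ → Submodule R A) [GradedAlgebra 𝒜]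
    {p : ℕ} (f : Fin p → A) (deg : Fin p → ℤ) (hdeg : ∀ i, 0 < deg i) (hf : ∀ i, f i ∈ 𝒜 (deg i))
    (hgen : Ideal.span {a : A | ∃ n : ℤ, 0 < n ∧ a ∈ 𝒜 n} = Ideal.span (Set.range f))
    (d : ℤ) (hd : 0 < d) (hdvd : ∀ i, deg i ∣ d) (N : ℤ) (hN : d * p - ∑ i, deg i < N) :
    𝒜 N = 𝒜 d * 𝒜 (N - d) := by
  classical
  have hdec : ∀ M : ℤ, 0 < M → ∀ a ∈ 𝒜 M, ∃ c : Fin p → A, (∀ i, c i ∈ 𝒜 (M - deg i)) ∧ a = ∑ i, c i * f i := by
    intro M hM a ha
    have : a ∈ Ideal.span (Set.range f) := hgen ▸ Ideal.subset_span ⟨M, hM, ha⟩
    obtain ⟨c, hc⟩ := Ideal.mem_span_range_iff_exists_fun.1 this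
    refine ⟨fun i => (DirectSum.decompose 𝒜 (c i) (M - deg i) : A), fun i => SetLike.coe_mem _, ?_⟩
    have h1 := congrArg (GradedRing.proj 𝒜 M) hc
    rw [map_sum, GradedRing.proj_apply, DirectSum.decompose_of_mem_same 𝒜 ha] at h1
    rw [← h1]
    refine Finset.sum_congr rfl fun i _ => ?_
    rw [GradedRing.proj_apply]
    conv_lhs => rw [show M = (M - deg i) + deg i by ring]
    exact DirectSum.coe_decompose_mul_add_of_right_mem 𝒜 (hf i)
  have hmon : ∀ e : Fin p → ℕ, ∏ i, f i ^ e i ∈ 𝒜 (∑ i, (e i : ℤ) * deg i) := fun e => by
    convert SetLike.prod_mem_graded 𝒜 (fun i => e i • deg i) (fun i => f i ^ e i) (F := Finset.univ)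
      (fun i _ => SetLike.pow_mem_graded _ (hf i)) using 2
    simp
  have key : ∀ (k : ℕ) (e : Fin p → ℕ), ∑ i, ((d - (e i : ℤ) * deg i).toNat) ≤ k →
      ∀ a ∈ 𝒜 (N - ∑ i, (e i : ℤ) * deg i), a * ∏ i, f i ^ e i ∈ 𝒜 d * 𝒜 (N - d) := by
    intro k
    induction k using Nat.strong_induction_on with
    | _ k ih =>
      intro e hk a ha
      by_cases hbig : ∃ i, d ≤ (e i : ℤ) * deg i
      · obtain ⟨i, hi⟩ := hbig
        obtain ⟨q, hq⟩ := hdvd i
        have hq0 : 0 ≤ q := by nlinarith [hdeg i]
        have hqe : q.toNat ≤ e i := by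
          have : q ≤ (e i : ℤ) := by nlinarith [hdeg i]
          omega
        let e' : Fin p → ℕ := Function.update e i (e i - q.toNat)
        have he : (fun j => f j ^ e j) = fun j => (if j = i then f i ^ q.toNat else 1) * f j ^ e' j := by
          funext j
          by_cases hji : j = i
          · subst hji; simp [e', ← pow_add, Nat.add_sub_cancel' hqe]
          · simp [e', hji]
        have hsum : ∑ j, (e j : ℤ) * deg j = d + ∑ j, (e' j : ℤ) * deg j := by
          rw [← Finset.add_sum_erase _ _ (Finset.mem_univ i), ← Finset.add_sum_erase _ _ (Finset.mem_univ i),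
            ← add_assoc]
          congr 1
          · simp only [e', Function.update_self, Nat.cast_sub hqe, Int.toNat_of_nonneg hq0, hq]
            ring
          · refine Finset.sum_congr rfl fun j hj => ?_
            simp [e', Finset.ne_of_mem_erase hj]
        rw [he, Finset.prod_mul_distrib, Finset.prod_ite_eq' Finset.univ i fun _ => f i ^ q.toNat,
          if_pos (Finset.mem_univ i), mul_left_comm]
        refine Submodule.mul_mem_mul ?_ ?_
        · convert SetLike.pow_mem_graded q.toNat (hf i) using 2
          rw [nsmul_eq_mul, Int.toNat_of_nonneg hq0, hq, mul_comm]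
        · convert SetLike.mul_mem_graded ha (hmon e') using 2
          omega
      · push Not at hbig
        have hlt : ∀ i, (e i : ℤ) * deg i ≤ d - deg i := fun i => by
          obtain ⟨q, hq⟩ := hdvd i
          have : (e i : ℤ) < q := by nlinarith [hdeg i, hbig i]
          nlinarith [hdeg i]
        have hpos : 0 < N - ∑ i, (e i : ℤ) * deg i := by
          have := Finset.sum_le_sum fun i (_ : i ∈ Finset.univ) => hlt i
          simp only [Finset.sum_sub_distrib, Finset.sum_const, Finset.card_univ, Fintype.card_fin, nsmul_eq_mul] at this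
          linarith
        obtain ⟨c, hc, rfl⟩ := hdec _ hpos a ha
        rw [Finset.sum_mul]
        refine Submodule.sum_mem _ fun i _ => ?_
        let e' : Fin p → ℕ := Function.update e i (e i + 1)
        have hprod : ∏ j, f j ^ e' j = f i * ∏ j, f j ^ e j := by
          rw [← Finset.mul_prod_erase _ _ (Finset.mem_univ i),
            ← Finset.mul_prod_erase _ (fun j => f j ^ e j) (Finset.mem_univ i), ← mul_assoc]
          congr 1
          · simp [e', pow_succ']
          · refine Finset.prod_congr rfl fun j hj => ?_
            simp [e', Finset.ne_of_mem_erase hj]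
        have hsum : ∑ j, (e' j : ℤ) * deg j = deg i + ∑ j, (e j : ℤ) * deg j := by
          rw [← Finset.add_sum_erase _ _ (Finset.mem_univ i),
            ← Finset.add_sum_erase _ (fun j => (e j : ℤ) * deg j) (Finset.mem_univ i), ← add_assoc]
          congr 1
          · simp [e']; ring
          · refine Finset.sum_congr rfl fun j hj => ?_
            simp [e', Finset.ne_of_mem_erase hj]
        rw [mul_assoc, ← hprod]
        have hdec' : ∑ j, ((d - (e' j : ℤ) * deg j).toNat) < k := by
          refine lt_of_lt_of_le (Finset.sum_lt_sum (fun j _ => ?_) ⟨i, Finset.mem_univ i, ?_⟩) hk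
          · by_cases hji : j = i
            · subst hji
              refine Int.toNat_le_toNat ?_
              simp [e']
              nlinarith [hdeg j]
            · simp [e', hji]
          · have h1 := hbig i
            have h2 := hdeg i
            have h3 : (e' i : ℤ) * deg i = (e i : ℤ) * deg i + deg i := by simp [e']; ring
            rw [h3]
            omega
        refine ih _ hdec' e' le_rfl (c i) ?_
        convert hc i using 2
        rw [hsum]; ring
  refine le_antisymm (fun x hx => ?_) (Submodule.mul_le.2 fun a ha b hb => ?_)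
  · have := key _ (fun _ => 0) le_rfl x (by simpa using hx)
    simpa using this
  · have := SetLike.mul_mem_graded (A := 𝒜) ha hb
    rwa [show d + (N - d) = N by ring] at this


end Groth.Agent.S13663
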