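import Groth.Statements.S13664
import Groth.Agent.S13663
import Mathlib

set_option autoImplicit false
universe u
open GrRing

namespace Groth.Agent.S13664

/-- Let A be a commutative ring graded by the integers whose ideal I generated by the homogeneous
elements of positive degree has homogeneous generators f_1, …, f_p, of positive degrees d_1, …, d_p,
let d be a positive integer divisible by each d_i, and let x be an element of an A-module M. The
following are equivalent: x is annihilated by some power of I; x is annihilated by (A_d)^n for all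
sufficiently large n; there is an integer s such that A_n x = 0 for all n ≥ s. (The published
statement is for a homogeneous element of a graded module; this row drops both the grading of M and
the homogeneity of x, which play no role.) -/
theorem result {R A : Type u} [CommRing R] [CommRing A] [Algebra R A]
    (𝒜 : ℤ → Submodule R A) [GradedAlgebra 𝒜]
    {p : ℕ} (f : Fin p → A) (deg : Fin p → ℤ) (hdeg : ∀ i, 0 < deg i) (hf : ∀ i, f i ∈ 𝒜 (deg i))
    (hgen : Ideal.span {a : A | ∃ n : ℤ, 0 < n ∧ a ∈ 𝒜 n} = Ideal.span (Set.range f))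
    (d : ℤ) (hd : 0 < d) (hdvd : ∀ i, deg i ∣ d)
    {M : Type u} [AddCommGroup M] [Module A M] (x : M) :
    [x ∈ GrLC.gam (Ideal.span (Set.range f)) M,
     ∃ n₀ : ℕ, ∀ n : ℕ, n₀ ≤ n → ∀ r ∈ (𝒜 d) ^ n, r • x = 0,
     ∃ s : ℤ, ∀ n : ℤ, s ≤ n → ∀ r ∈ 𝒜 n, r • x = 0].TFAE := by
  classical
  let I := Ideal.span (Set.range f)
  have hA : ∀ n : ℤ, 0 < n → ∀ a ∈ 𝒜 n, a ∈ I := fun n hn a ha => by
    show a ∈ Ideal.span (Set.range f)
    rw [← hgen]; exact Ideal.subset_span ⟨n, hn, ha⟩
  have hbig : ∀ (m : ℕ) (N : ℤ), d * p - ∑ i, deg i + m * d < N → 𝒜 N ≤ (I ^ m).restrictScalars R := by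
    intro m
    induction m with
    | zero => intro N _ a _; simp
    | succ m ih =>
      intro N hN
      rw [Groth.Agent.S13663.result 𝒜 f deg hdeg hf hgen d hd hdvd N (by push_cast at hN; nlinarith)]
      refine Submodule.mul_le.2 fun a ha b hb => ?_
      rw [Submodule.restrictScalars_mem, pow_succ']
      exact Ideal.mul_mem_mul (hA d hd a ha) (ih (N - d) (by push_cast at hN; linarith) hb)
  tfae_have 1 → 3 := by
    rintro ⟨m, hm⟩
    exact ⟨d * p - ∑ i, deg i + m * d + 1, fun n hn r hr => hm r (hbig m n (by omega) hr)⟩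
  tfae_have 3 → 2 := by
    rintro ⟨s, hs⟩
    refine ⟨s.toNat, fun n hn r hr => hs (n * d) ?_ r ?_⟩
    · have : (n : ℤ) ≤ n * d := by nlinarith
      omega
    · have hpow : ∀ j : ℕ, (𝒜 d) ^ j ≤ 𝒜 ((j : ℤ) * d) := fun j => by
        induction j with
        | zero =>
          rw [pow_zero, Submodule.one_le]
          simpa using SetLike.GradedOne.one_mem (A := 𝒜)
        | succ j ih =>
          rw [pow_succ]
          refine Submodule.mul_le.2 fun a ha b hb => ?_
          convert SetLike.mul_mem_graded (ih ha) hb using 2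
          push_cast; ring
      exact hpow n hr
  tfae_have 2 → 1 := by
    rintro ⟨n₀, h⟩
    let K : Ideal A := LinearMap.ker (LinearMap.toSpanSingleton A M x)
    have hrad : I ≤ K.radical := Ideal.span_le.2 (Set.range_subset_iff.2 fun i => by
      obtain ⟨q, hq⟩ := hdvd i
      have hq0 : 0 ≤ q := by nlinarith [hdeg i]
      refine ⟨q.toNat * n₀, ?_⟩
      rw [pow_mul]
      show (f i ^ q.toNat) ^ n₀ • x = 0
      refine h n₀ le_rfl _ (Submodule.pow_mem_pow _ ?_ n₀)
      convert SetLike.pow_mem_graded q.toNat (hf i) using 2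
      rw [nsmul_eq_mul, Int.toNat_of_nonneg hq0, hq, mul_comm])
    obtain ⟨m, hm⟩ := Ideal.exists_pow_le_of_le_radical_of_fg hrad ⟨Finset.univ.image f, by simp [I]⟩
    exact ⟨m, fun r hr => hm hr⟩
  tfae_finish


end Groth.Agent.S13664
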