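import Groth.Statements.S13665
import Mathlib

set_option autoImplicit false
universe u
open GrRing

namespace Groth.Agent.S13665
theorem exists_fin_span {R A : Type u} [CommRing R] [CommRing A] [Algebra R A]
    (𝒜 : ℤ → Submodule R A) [GradedAlgebra 𝒜]
    (h2 : ∀ I : Ideal A, I.IsHomogeneous 𝒜 → I.FG) (S : Set A) (hS : ∀ a ∈ S, ∃ n, a ∈ 𝒜 n) :
    ∃ F : Finset A, (F : Set A) ⊆ S ∧ Ideal.span (F : Set A) = Ideal.span S := by
  obtain ⟨F, hF, hFe⟩ := (Submodule.fg_span_iff_fg_span_finset_subset S).1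
    (h2 _ (Ideal.homogeneous_span 𝒜 S hS))
  exact ⟨F, hF, hFe.symm⟩

theorem decompose_sum {R A : Type u} [CommRing R] [CommRing A] [Algebra R A]
    (𝒜 : ℤ → Submodule R A) [GradedAlgebra 𝒜] (F : Finset A) (a : A) (n : ℤ) (ha : a ∈ 𝒜 n)
    (haF : a ∈ Ideal.span (F : Set A)) (d : A → ℤ) (hd : ∀ f ∈ F, f ∈ 𝒜 (d f)) :
    ∃ c : A → A, (∀ f ∈ F, c f ∈ 𝒜 (n - d f)) ∧ a = ∑ f ∈ F, c f * f := by
  classical
  obtain ⟨c, -, hc⟩ := Submodule.mem_span_finset.1 haF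
  refine ⟨fun f => DirectSum.decompose 𝒜 (c f) (n - d f), fun f _ => Subtype.prop _, ?_⟩
  calc a = (DirectSum.decompose 𝒜 a n : A) := (DirectSum.decompose_of_mem_same 𝒜 ha).symm
    _ = ∑ f ∈ F, (DirectSum.decompose 𝒜 (c f * f) n : A) := by
      rw [← hc, DirectSum.decompose_sum, DFinsupp.finsetSum_apply, AddSubmonoidClass.coe_finsetSum]
      simp only [smul_eq_mul]
    _ = _ := Finset.sum_congr rfl fun f hf => by
      conv_lhs => rw [show n = (n - d f) + d f by omega]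
      exact DirectSum.coe_decompose_mul_add_of_right_mem 𝒜 (hd f hf)

theorem fg_half {R A : Type u} [CommRing R] [CommRing A] [Algebra R A]
    (𝒜 : ℤ → Submodule R A) [GradedAlgebra 𝒜]
    (h2 : ∀ I : Ideal A, I.IsHomogeneous 𝒜 → I.FG) (ε : ℤ) (hε : ε = 1 ∨ ε = -1) :
    (Algebra.adjoin (𝒜 0) {a : A | ∃ j : ℕ, a ∈ 𝒜 (ε * j)}).FG := by
  classical
  obtain ⟨F, hF, hFe⟩ := exists_fin_span 𝒜 h2 {a : A | ∃ j : ℕ, 0 < j ∧ a ∈ 𝒜 (ε * j)}
    (by rintro a ⟨j, _, ha⟩; exact ⟨_, ha⟩)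
  have hF' : ∀ f ∈ F, ∃ j : ℕ, 0 < j ∧ f ∈ 𝒜 (ε * j) := fun f hf => hF (Finset.mem_coe.2 hf)
  choose! dF hdF0 hdF using hF'
  let D := F.sup dF
  have hG : ∀ j : ℕ, ∃ G : Finset A, (G : Set A) ⊆ 𝒜 (ε * j) ∧ Ideal.span (G : Set A) = Ideal.span (𝒜 (ε * j) : Set A) :=
    fun j => exists_fin_span 𝒜 h2 _ fun a ha => ⟨_, ha⟩
  choose G hG hGe using hG
  let T : Finset A := (Finset.range (D + 1)).biUnion G
  refine ⟨T, le_antisymm (Algebra.adjoin_le fun t ht => ?_) (Algebra.adjoin_le ?_)⟩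
  · obtain ⟨j, -, hj⟩ := Finset.mem_biUnion.1 (Finset.mem_coe.1 ht)
    exact Algebra.subset_adjoin ⟨j, hG j (Finset.mem_coe.2 hj)⟩
  have h0 : ∀ x ∈ 𝒜 0, x ∈ Algebra.adjoin (𝒜 0) (T : Set A) := fun x hx =>
    Subalgebra.algebraMap_mem (Algebra.adjoin (𝒜 0) (T : Set A)) (⟨x, hx⟩ : 𝒜 0)
  have small : ∀ j ≤ D, ∀ a ∈ 𝒜 (ε * j), a ∈ Algebra.adjoin (𝒜 0) (T : Set A) := by
    intro j hj a ha
    obtain ⟨c, hc, hac⟩ := decompose_sum 𝒜 (G j) a (ε * j) ha (hGe j ▸ Ideal.subset_span ha)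
      (fun _ => ε * j) fun f hf => hG j (Finset.mem_coe.2 hf)
    rw [hac]
    refine Subalgebra.sum_mem _ fun f hf => Subalgebra.mul_mem _ ?_ ?_
    · exact h0 _ (by simpa using hc f hf)
    · exact Algebra.subset_adjoin (Finset.mem_coe.2 (Finset.mem_biUnion.2 ⟨j, Finset.mem_range.2 (by omega), hf⟩))
  rintro a ⟨n, ha⟩
  induction n using Nat.strong_induction_on generalizing a with
  | _ n ih =>
    by_cases hn : n ≤ D
    · exact small n hn a ha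
    obtain ⟨c, hc, hac⟩ := decompose_sum 𝒜 F a (ε * n) ha
      (hFe ▸ Ideal.subset_span ⟨n, by omega, ha⟩) (fun f => ε * dF f) hdF
    rw [hac]
    refine Subalgebra.sum_mem _ fun f hf => ?_
    have hle : dF f ≤ D := Finset.le_sup hf
    refine Subalgebra.mul_mem _ (ih (n - dF f) (by have := hdF0 f hf; omega) ?_) (small _ hle f (hdF f hf))
    have := hc f hf
    rwa [show ε * ((n - dF f : ℕ) : ℤ) = ε * n - ε * dF f by rw [Nat.cast_sub (by omega)]; ring]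


/-- For a commutative ring A graded by the integers, with degree-zero subring A_0, the following are
equivalent: A is Noetherian; each homogeneous ideal of A has a finite generating set; A_0 is
Noetherian and the subalgebras A_{≥0}, A_{≤0} are each of finite type over A_0; A_0 is Noetherian
and A is an A_0-algebra of finite type. -/
theorem result {R A : Type u} [CommRing R] [CommRing A] [Algebra R A]
    (𝒜 : ℤ → Submodule R A) [GradedAlgebra 𝒜] :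
    [IsNoetherianRing A,
     ∀ I : Ideal A, I.IsHomogeneous 𝒜 → I.FG,
     IsNoetherianRing (𝒜 0) ∧ (Algebra.adjoin (𝒜 0) {a : A | ∃ n : ℤ, 0 ≤ n ∧ a ∈ 𝒜 n}).FG ∧
       (Algebra.adjoin (𝒜 0) {a : A | ∃ n : ℤ, n ≤ 0 ∧ a ∈ 𝒜 n}).FG,
     IsNoetherianRing (𝒜 0) ∧ Algebra.FiniteType (𝒜 0) A].TFAE := by
  classical
  tfae_have 1 → 2 := fun h I _ => IsNoetherian.noetherian I
  tfae_have 4 → 1 := fun ⟨h0, hft⟩ => Algebra.FiniteType.isNoetherianRing (𝒜 0) A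
  tfae_have 3 → 4 := by
    rintro ⟨h0, ⟨P, hP⟩, ⟨Q, hQ⟩⟩
    refine ⟨h0, ⟨⟨P ∪ Q, ?_⟩⟩⟩
    rw [eq_top_iff]
    intro a _
    rw [← DirectSum.sum_support_decompose 𝒜 a]
    refine Subalgebra.sum_mem _ fun n _ => ?_
    rw [Finset.coe_union]
    rcases le_total 0 n with hn | hn
    · exact Algebra.adjoin_mono Set.subset_union_left (hP ▸ Algebra.subset_adjoin ⟨n, hn, Subtype.prop _⟩)
    · exact Algebra.adjoin_mono Set.subset_union_right (hQ ▸ Algebra.subset_adjoin ⟨n, hn, Subtype.prop _⟩)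
  tfae_have 2 → 3 := by
    intro h2
    have e1 : {a : A | ∃ n : ℤ, 0 ≤ n ∧ a ∈ 𝒜 n} = {a : A | ∃ j : ℕ, a ∈ 𝒜 (1 * (j : ℤ))} := by
      ext a
      constructor
      · rintro ⟨n, hn, ha⟩
        refine ⟨n.toNat, ?_⟩
        rwa [one_mul, Int.toNat_of_nonneg hn]
      · rintro ⟨j, ha⟩
        exact ⟨j, Int.natCast_nonneg j, by simpa using ha⟩
    have e2 : {a : A | ∃ n : ℤ, n ≤ 0 ∧ a ∈ 𝒜 n} = {a : A | ∃ j : ℕ, a ∈ 𝒜 ((-1) * (j : ℤ))} := by
      ext a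
      constructor
      · rintro ⟨n, hn, ha⟩
        refine ⟨(-n).toNat, ?_⟩
        rwa [Int.toNat_of_nonneg (by omega : 0 ≤ -n), neg_one_mul, neg_neg]
      · rintro ⟨j, ha⟩
        exact ⟨_, by omega, ha⟩
    refine ⟨isNoetherianRing_iff_ideal_fg _ |>.2 fun I => ?_, ?_, ?_⟩
    · obtain ⟨F, hF, hFe⟩ := exists_fin_span 𝒜 h2 ((fun x : 𝒜 0 => (x : A)) '' (I : Set (𝒜 0)))
        (by rintro _ ⟨x, _, rfl⟩; exact ⟨0, x.2⟩)
      have hF' : ∀ f ∈ F, ∃ x : 𝒜 0, x ∈ I ∧ (x : A) = f := fun f hf => hF (Finset.mem_coe.2 hf)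
      choose! g hg hgf using hF'
      refine ⟨F.image g, le_antisymm ?_ fun x hx => ?_⟩
      · rw [Submodule.span_le]
        intro y hy
        obtain ⟨f, hf, rfl⟩ := Finset.mem_image.1 (Finset.mem_coe.1 hy)
        exact hg f hf
      obtain ⟨c, hc, hxc⟩ := decompose_sum 𝒜 F x 0 x.2
        (hFe ▸ Ideal.subset_span ⟨x, hx, rfl⟩) (fun _ => 0) (fun f hf => hgf f hf ▸ (g f).2)
      have hx' : x = ∑ f ∈ F.attach, (⟨c f, by simpa using hc f f.2⟩ : 𝒜 0) * g f := by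
        apply Subtype.ext
        rw [AddSubmonoidClass.coe_finsetSum, hxc, ← Finset.sum_attach F (fun f => c f * f)]
        refine Finset.sum_congr rfl fun f _ => ?_
        rw [SetLike.GradeZero.coe_mul, hgf f f.2]
      rw [hx']
      exact Submodule.sum_mem _ fun f _ => Submodule.smul_mem _ _
        (Submodule.subset_span (Finset.mem_coe.2 (Finset.mem_image_of_mem g f.2)))
    · rw [e1]; exact fg_half 𝒜 h2 1 (Or.inl rfl)
    · rw [e2]; exact fg_half 𝒜 h2 (-1) (Or.inr rfl)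
  tfae_finish


end Groth.Agent.S13665
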