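import Groth.Statements.S1368
import Groth.Agent.RelAssGen.SchemeInj

set_option autoImplicit false
set_option linter.style.haveILetI false
universe u
open FlatMor

namespace Groth.Agent.S1368

open AlgebraicGeometry CategoryTheory Limits in
/-- Let f be of finite type with irreducible target, F a quasi-coherent module of finite type on the
source and U an open of the source. If the associated points of F restricted to the generic fibre
all lie in U, then over some nonempty open of the target the associated points of F restricted to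
every fibre lie in U. -/
theorem result {X Y : Scheme.{u}} (f : X ⟶ Y) [IrreducibleSpace ↑Y] [LocallyOfFiniteType f] [QuasiCompact f]
    (F : X.Modules) (hF : Coh.IsCoh F) (U : X.Opens)
    (h : ∀ x ∈ MoreMor.relAss f F, f x = genericPoint ↑Y → x ∈ U) :
    ∃ V : Y.Opens, (V : Set ↑Y).Nonempty ∧ ∀ x ∈ MoreMor.relAss f F, f x ∈ V → x ∈ U := by
  classical
  let η := genericPoint ↑Y
  obtain ⟨_, ⟨V, hV, rfl⟩, hηV, -⟩ := Y.isBasis_affineOpens.exists_subset_of_mem_open (Set.mem_univ η) isOpen_univ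
  replace hV : IsAffineOpen V := hV
  obtain ⟨t, htaff, htf, htc⟩ := X.isBasis_affineOpens.exists_finite_of_isCompact
    (f.isCompact_preimage hV.isCompact : IsCompact ((f ⁻¹ᵁ V : X.Opens) : Set X))
  haveI : Finite t := htf.to_subtype
  have hle : ∀ W : t, (W : X.Opens) ≤ f ⁻¹ᵁ V := fun W => by rw [htc]; exact le_sSup W.2
  haveI : LocallyOfFiniteType (f.fiberToSpecResidueField η) := inferInstanceAs (LocallyOfFiniteType (pullback.snd f (Y.fromSpecResidueField η)))
  haveI : IsLocallyNoetherian (f.fiber η) :=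
    LocallyOfFiniteType.isLocallyNoetherian (f.fiberToSpecResidueField η)
  haveI : IsNoetherian (f.fiber η) := { }
  have key : ∀ W : t, ∃ b : Γ(Y, V), η ∈ Y.basicOpen b ∧
      ∀ x ∈ (W : X.Opens), f x ∈ Y.basicOpen b → x ∈ MoreMor.relAss f F → x ∈ U := by
    intro W
    letI : Algebra Γ(Y, V) Γ(X, (W : X.Opens)) := (f.appLE V W (hle W)).hom.toAlgebra
    letI : Module Γ(Y, V) Γ(F, (W : X.Opens)) := Module.compHom _ (f.appLE V W (hle W)).hom
    haveI : IsScalarTower Γ(Y, V) Γ(X, (W : X.Opens)) Γ(F, (W : X.Opens)) := IsScalarTower.of_algebraMap_smul fun _ _ => rfl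
    haveI : Algebra.FiniteType Γ(Y, V) Γ(X, (W : X.Opens)) := f.finiteType_appLE hV (htaff W.2) (hle W)
    haveI : Module.Finite Γ(X, (W : X.Opens)) Γ(F, (W : X.Opens)) := Groth.Agent.QCoh.finite_of_isFT hF.1 hF.2 (htaff W.2)
    have hcov : ∀ x : ↥((W : X.Opens) ⊓ U), ∃ g : Γ(X, (W : X.Opens)), X.basicOpen g ≤ U ∧ (x : X) ∈ X.basicOpen g :=
      fun x => (htaff W.2).exists_basicOpen_le ⟨x, x.2.2⟩ x.2.1
    choose g hgle hxg using hcov
    obtain ⟨s, hs⟩ := (TopologicalSpace.NoetherianSpace.isCompact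
      (f.fiberι η ⁻¹' (((W : X.Opens) ⊓ U : X.Opens) : Set X))).elim_finite_subcover
      (fun x : ↥((W : X.Opens) ⊓ U) => f.fiberι η ⁻¹' (X.basicOpen (g x) : Set X))
      (fun x => (X.basicOpen (g x)).2.preimage (f.fiberι η).continuous)
      (fun z hz => Set.mem_iUnion.2 ⟨⟨_, hz⟩, hxg ⟨_, hz⟩⟩)
    let e := s.equivFin
    let gg : Fin s.card → Γ(X, (W : X.Opens)) := fun i => g (e.symm i).1
    let p₀ := (hV.primeIdealOf ⟨η, hηV⟩).asIdeal
    obtain ⟨b, hb, hd⟩ := Groth.Agent.RelAssGen.injP_dichotomy (Groth.Agent.RelAssGen.mulMap gg Γ(F, (W : X.Opens))) p₀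
    have h0 : Groth.Agent.RelAssGen.InjP
        ((Groth.Agent.RelAssGen.mulMap gg Γ(F, (W : X.Opens))).restrictScalars Γ(Y, V)) p₀ := by
      refine (Groth.Agent.RelAssGen.injP_iff_relAss f F hF.1 hV (htaff W.2) (hle W) gg η hηV).2 fun x hx hxη hass => ?_
      obtain ⟨z, rfl⟩ : x ∈ Set.range (f.fiberι η) := by rw [Scheme.Hom.range_fiberι]; exact hxη
      obtain ⟨y, hy, hzy⟩ := Set.mem_iUnion₂.1 (hs (show f.fiberι η z ∈ (W : X.Opens) ⊓ U from ⟨hx, h _ hass hxη⟩))
      exact ⟨e ⟨y, hy⟩, by simpa [gg] using hzy⟩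
    refine ⟨b, (Groth.Agent.QCoh.mem_basicOpen_iff_notMem hV hηV b).2 hb, fun x hx hxb hass => ?_⟩
    rcases hd with hd | hd
    · have hxV : f x ∈ V := hle W hx
      have hp : p₀ ≤ (hV.primeIdealOf ⟨f x, hxV⟩).asIdeal :=
        (Groth.Agent.RelAssGen.specializes_iff_prime_le hV hxV hηV).1 (genericPoint_specializes _)
      obtain ⟨i, hi⟩ := (Groth.Agent.RelAssGen.injP_iff_relAss f F hF.1 hV (htaff W.2) (hle W) gg (f x) hxV).1
        (hd _ (hV.primeIdealOf ⟨f x, hxV⟩).2 hp ((Groth.Agent.QCoh.mem_basicOpen_iff_notMem hV hxV b).1 hxb)) x hx rfl hass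
      exact hgle _ hi
    · exact absurd h0 (hd p₀ (hV.primeIdealOf ⟨η, hηV⟩).2 le_rfl hb)
  choose b hηb hb using key
  haveI := Fintype.ofFinite t
  refine ⟨V ⊓ Finset.univ.inf fun W : t => Y.basicOpen (b W), ⟨η, hηV, ?_⟩, fun x hass hx => ?_⟩
  · suffices h' : ∀ s : Finset t, η ∈ s.inf fun W : t => Y.basicOpen (b W) from h' _
    intro s
    induction s using Finset.induction with
    | empty => rw [Finset.inf_empty]; trivial
    | insert W s _ ih => rw [Finset.inf_insert]; exact ⟨hηb W, ih⟩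
  · have hxV : x ∈ f ⁻¹ᵁ V := hx.1
    rw [htc] at hxV
    obtain ⟨W, hW, hxW⟩ := TopologicalSpace.Opens.mem_sSup.1 hxV
    exact hb ⟨W, hW⟩ x hxW (Finset.inf_le (f := fun W : t => Y.basicOpen (b W)) (Finset.mem_univ ⟨W, hW⟩) hx.2) hass

end Groth.Agent.S1368
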