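import Groth.Statements.S13682
import Mathlib

set_option autoImplicit false
universe u v w
open scoped BigOperators
open BTGrp

namespace Groth.Agent.S13682

/-- `Σ_i φ(c_{<i}, u_i, a_{>i})`. -/
def D {A : Type u} [CommRing A] {r : ℕ} {M : Fin r → Type v} {N : Type w} [∀ i, AddCommGroup (M i)]
    [∀ i, Module A (M i)] [AddCommGroup N] [Module A N] (φ : MultilinearMap A M N) (a c u : ∀ i, M i) : N :=
  ∑ i, φ fun k => if k < i then c k else if k = i then u k else a k

lemma D_succ {A : Type u} [CommRing A] {r : ℕ} {M : Fin (r + 1) → Type v} {N : Type w} [∀ i, AddCommGroup (M i)]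
    [∀ i, Module A (M i)] [AddCommGroup N] [Module A N] (φ : MultilinearMap A M N) (a c u : ∀ i, M i) :
    D φ a c u = φ.curryLeft (u 0) (Fin.tail a) + D (φ.curryLeft (c 0)) (Fin.tail a) (Fin.tail c) (Fin.tail u) := by
  rw [D, Fin.sum_univ_succ]
  congr 1
  · rw [MultilinearMap.curryLeft_apply]
    congr 1
    funext k
    cases k using Fin.cases with
    | zero => simp
    | succ k => simp [Fin.tail, Fin.succ_ne_zero]
  · refine Finset.sum_congr rfl fun i _ => ?_
    rw [MultilinearMap.curryLeft_apply]
    congr 1
    funext k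
    cases k using Fin.cases with
    | zero => simp
    | succ k => simp [Fin.tail, Fin.succ_lt_succ_iff, Fin.succ_inj]

lemma D_map_add {A : Type u} [CommRing A] {N : Type w} [AddCommGroup N] [Module A N] : ∀ {r : ℕ}
    {M : Fin r → Type v} [∀ i, AddCommGroup (M i)] [∀ i, Module A (M i)] (φ ψ : MultilinearMap A M N)
    (a c u : ∀ i, M i) (t : A), D (φ + t • ψ) a c u = D φ a c u + t • D ψ a c u := by
  intros
  simp [D, Finset.sum_add_distrib, Finset.smul_sum]

/-- Telescoping. -/
lemma D_tele {A : Type u} [CommRing A] {N : Type w} [AddCommGroup N] [Module A N] (α : A) : ∀ {r : ℕ}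
    {M : Fin r → Type v} [∀ i, AddCommGroup (M i)] [∀ i, Module A (M i)] (φ : MultilinearMap A M N)
    (a b u : ∀ i, M i), (∀ i, b i = a i + α • u i) → φ b = φ a + α • D φ a b u := by
  intro r
  induction r with
  | zero =>
    intro M _ _ φ a b u _
    rw [show b = a from funext fun i => i.elim0]
    simp [D]
  | succ r ih =>
    intro M _ _ φ a b u h
    rw [D_succ]
    have hb := ih (φ.curryLeft (b 0)) (Fin.tail a) (Fin.tail b) (Fin.tail u) (fun i => h i.succ)
    have h1 : φ.curryLeft (b 0) (Fin.tail b) = φ b := by
      rw [MultilinearMap.curryLeft_apply, Fin.cons_self_tail]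
    have h2 : φ.curryLeft (b 0) (Fin.tail a) = φ a + α • φ.curryLeft (u 0) (Fin.tail a) := by
      rw [h 0, map_add, map_smul, MultilinearMap.add_apply, MultilinearMap.smul_apply,
        show φ.curryLeft (a 0) (Fin.tail a) = φ a by rw [MultilinearMap.curryLeft_apply, Fin.cons_self_tail]]
    rw [← h1, hb, h2, smul_add, add_assoc]

/-- Concatenation. -/
lemma D_trans {A : Type u} [CommRing A] {N : Type w} [AddCommGroup N] [Module A N] (α : A) : ∀ {r : ℕ}
    {M : Fin r → Type v} [∀ i, AddCommGroup (M i)] [∀ i, Module A (M i)] (φ : MultilinearMap A M N)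
    (a b c u v : ∀ i, M i), (∀ i, b i = a i + α • u i) → (∀ i, c i = b i + α • v i) →
      D φ a c (u + v) = D φ a b u + D φ b c v := by
  intro r
  induction r with
  | zero => intro M _ _ φ a b c u v _ _; simp [D]
  | succ r ih =>
    intro M _ _ φ a b c u v hu hv
    rw [D_succ, D_succ, D_succ]
    have e := ih (φ.curryLeft (c 0)) (Fin.tail a) (Fin.tail b) (Fin.tail c) (Fin.tail u) (Fin.tail v)
      (fun i => hu i.succ) (fun i => hv i.succ)
    have t := D_tele α (φ.curryLeft (v 0)) (Fin.tail a) (Fin.tail b) (Fin.tail u) (fun i => hu i.succ)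
    have e2 : D (φ.curryLeft (c 0)) (Fin.tail a) (Fin.tail b) (Fin.tail u) =
        D (φ.curryLeft (b 0)) (Fin.tail a) (Fin.tail b) (Fin.tail u) +
          α • D (φ.curryLeft (v 0)) (Fin.tail a) (Fin.tail b) (Fin.tail u) := by
      rw [hv 0, map_add, map_smul, D_map_add]
    show φ.curryLeft (u 0 + v 0) (Fin.tail a) + D (φ.curryLeft (c 0)) (Fin.tail a) (Fin.tail c) (Fin.tail u + Fin.tail v) = _
    rw [e, e2, map_add, MultilinearMap.add_apply, t]
    abel

/-- Let A be a commutative ring, α ∈ A a non-zero-divisor, M_1, …, M_r and N modules over A and φ : M_1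
× ⋯ × M_r → N an A-multilinear map. Let n be a natural number and let y_{i,j} (j < n) and w_{i,j} (j
≤ n) be elements of M_i with w_{i,j+1} = w_{i,j} + α y_{i,j} for all i and all j < n. Then Σ_i
Σ_{j<n} φ(w_{1,j+1}, …, w_{i-1,j+1}, y_{i,j}, w_{i+1,j}, …, w_{r,j}) = Σ_i Σ_{j<n} φ(w_{1,n}, …,
w_{i-1,n}, y_{i,j}, w_{i+1,0}, …, w_{r,0}). (The published statement takes n ≥ 1; for n = 0 both
sides are empty sums. The families y, w are indexed by all natural numbers here and only the indices
named above enter.) -/
theorem result {A : Type u} [CommRing A] (α : A) (hα : α ∈ nonZeroDivisors A)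
    {r : ℕ} (M : Fin r → Type v) (N : Type w) [∀ i, AddCommGroup (M i)] [∀ i, Module A (M i)]
    [AddCommGroup N] [Module A N] (φ : MultilinearMap A M N) (n : ℕ)
    (y w : ∀ i, ℕ → M i) (hw : ∀ i, ∀ j < n, w i (j + 1) = w i j + α • y i j) :
    (∑ i : Fin r, ∑ j ∈ Finset.range n,
        φ (fun k => if k < i then w k (j + 1) else if k = i then y k j else w k j)) =
      ∑ i : Fin r, ∑ j ∈ Finset.range n,
        φ (fun k => if k < i then w k n else if k = i then y k j else w k 0) := by
  have hR : ∀ (a c : ∀ i, M i) (m : ℕ), ∑ i : Fin r, ∑ j ∈ Finset.range m,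
      φ (fun k => if k < i then c k else if k = i then y k j else a k) =
      D φ a c (fun k => ∑ j ∈ Finset.range m, y k j) := by
    intro a c m
    refine Finset.sum_congr rfl fun i _ => ?_
    have e : ∀ v : M i, (fun k => if k < i then c k else if h : k = i then h ▸ v else a k) =
        Function.update (fun k => if k < i then c k else a k) i v := fun v => by
      funext k
      by_cases hk : k = i
      · subst hk; simp
      · simp [hk, Function.update_of_ne hk]
    have e' : ∀ z : ∀ k, M k, (fun k => if k < i then c k else if k = i then z k else a k) =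
        Function.update (fun k => if k < i then c k else a k) i (z i) := fun z => by
      funext k
      by_cases hk : k = i
      · subst hk; simp
      · simp [hk, Function.update_of_ne hk]
    rw [e' fun k => ∑ j ∈ Finset.range m, y k j, MultilinearMap.map_update_sum]
    exact Finset.sum_congr rfl fun j _ => by rw [e' fun k => y k j]
  rw [hR]
  induction n with
  | zero =>
    simp only [Finset.range_zero, Finset.sum_empty, Finset.sum_const_zero]
    exact (Finset.sum_eq_zero fun i _ => φ.map_coord_zero i (by simp)).symm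
  | succ n ih =>
    have hsum : ∀ k, w k n = w k 0 + α • ∑ j ∈ Finset.range n, y k j := by
      intro k
      have : ∀ m ≤ n, w k m = w k 0 + α • ∑ j ∈ Finset.range m, y k j := by
        intro m
        induction m with
        | zero => simp
        | succ m ihm =>
          intro hm
          rw [hw k m (by omega), ihm (by omega), Finset.sum_range_succ, smul_add, add_assoc]
      exact this n le_rfl
    have ih' := ih fun i j hj => hw i j (Nat.lt_succ_of_lt hj)
    simp only [Finset.sum_range_succ, Finset.sum_add_distrib]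
    rw [ih', show (fun k => ∑ j ∈ Finset.range n, y k j + y k n) =
        (fun k => ∑ j ∈ Finset.range n, y k j) + fun k => y k n from rfl,
      D_trans α φ (fun k => w k 0) (fun k => w k n) (fun k => w k (n + 1)) _ _ hsum
        (fun k => hw k n (Nat.lt_succ_self n))]
    rfl

end Groth.Agent.S13682
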