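import Groth.Statements.S13684
import Groth.Agent.DispLib.ExtPow
-- import your own Groth.Agent.* helpers here

set_option autoImplicit false
universe u v
open Disp

namespace Groth.Agent.S13684

/-- Let p be a prime, R a commutative ring, W its ring of p-typical Witt vectors and D = (P, Q, F, V⁻¹)
a 3n-display over R whose tangent module has rank one, in the sense that some normal decomposition P
= L ⊕ T, Q = L + I_R T has T free of rank one over W. Then for every natural number r the exterior
power ⋀^r P carries exactly one 3n-display structure whose distinguished submodule is spanned by the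
wedges q_1 ∧ ⋯ ∧ q_r of elements of Q and whose V⁻¹ sends each such wedge to V⁻¹q_1 ∧ ⋯ ∧ V⁻¹q_r.
(The published statement allows T projective of rank one and also records the height and rank of the
new 3n-display, that it is a display when D is, and compatibility with base change; this row takes T
free of rank one and keeps only the existence and uniqueness of the structure.) -/
theorem result (p : ℕ) [Fact p.Prime] (R : Type u) [CommRing R]
    (P : Type v) [AddCommGroup P] [Module (WittVector p R) P] (D : W4c1extbt610.Display3n p R P)
    (hT : ∃ L T : Submodule (WittVector p R) P, IsCompl L T ∧ D.Q = L ⊔ W4c1extbt610.IV p R • T ∧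
      Nonempty (T ≃ₗ[WittVector p R] WittVector p R))
    (r : ℕ) :
    ∃ E : W4c1extbt610.Display3n p R (⋀[WittVector p R]^r P), W4c1extbt610.IsExtPow D r E ∧
      ∀ E' : W4c1extbt610.Display3n p R (⋀[WittVector p R]^r P), W4c1extbt610.IsExtPow D r E' → E' = E := by
    obtain ⟨L, T, hLT, hQ, hT'⟩ := hT
    exact DispLib.ExtPow.exists_isExtPow D hLT hQ r hT'

end Groth.Agent.S13684
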