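import Groth.Statements.S13685
import Groth.Agent.DispLib.Basic
-- import your own Groth.Agent.* helpers here

set_option autoImplicit false
universe u v w
open Disp

namespace Groth.Agent.S13685

/-- Let p be a prime, R a commutative ring, W its ring of p-typical Witt vectors, D = (P, Q, F, V⁻¹) a
3n-display over R with a normal decomposition P = L ⊕ T, Q = L + I_R T in which T is free of rank
one over W, and E the 3n-display structure on ⋀^r P whose distinguished submodule is spanned by the
wedges of elements of Q and whose V⁻¹ sends q_1 ∧ ⋯ ∧ q_r to V⁻¹q_1 ∧ ⋯ ∧ V⁻¹q_r. Then the wedge map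
λ : P^r → ⋀^r P is an alternating multilinear morphism of 3n-displays from D to E, and for every
3n-display D' = (P', Q', F', V'⁻¹) and every alternating multilinear morphism of 3n-displays φ : P^r
→ P' (W-multilinear alternating, φ(Q^r) ⊆ Q', V'⁻¹(φ(q)) = φ(V⁻¹q_1, …, V⁻¹q_r), F'(φ(q_1, …, x_i,
…, q_r)) = φ(V⁻¹q_1, …, F x_i, …, V⁻¹q_r)) there is a unique W-linear ψ : ⋀^r P → P' that is a
morphism of 3n-displays from E to D' (ψ maps E's submodule into Q' and commutes with F and V⁻¹) with
ψ ∘ λ = φ. (The published statement has T projective of rank one; this row takes T free of rank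
one.) -/
theorem result (p : ℕ) [Fact p.Prime] (R : Type u) [CommRing R]
    (P : Type v) [AddCommGroup P] [Module (WittVector p R) P] (D : W4c1extbt610.Display3n p R P)
    (hT : ∃ L T : Submodule (WittVector p R) P, IsCompl L T ∧ D.Q = L ⊔ W4c1extbt610.IV p R • T ∧
      Nonempty (T ≃ₗ[WittVector p R] WittVector p R))
    (r : ℕ) (E : W4c1extbt610.Display3n p R (⋀[WittVector p R]^r P)) (hE : W4c1extbt610.IsExtPow D r E) :
    W4c1extbt610.IsAltMult D E (exteriorPower.ιMulti (WittVector p R) r) ∧
      ∀ (P' : Type w) [AddCommGroup P'] [Module (WittVector p R) P'] (D' : W4c1extbt610.Display3n p R P')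
        (φ : P [⋀^Fin r]→ₗ[WittVector p R] P'), W4c1extbt610.IsAltMult D D' φ →
        ∃! ψ : ⋀[WittVector p R]^r P →ₗ[WittVector p R] P',
          W4c1extbt610.IsHom E D' ψ ∧ ψ.compAlternatingMap (exteriorPower.ιMulti (WittVector p R) r) = φ := by
    classical
    obtain ⟨hEQ, hEV⟩ := hE
    set ι := exteriorPower.ιMulti (WittVector p R) r (M := P) with hι
    have hmem : ∀ q : Fin r → D.Q, ι (fun i => (q i : P)) ∈ E.Q := fun q => by
      rw [hEQ]; exact Submodule.subset_span ⟨q, rfl⟩
    refine ⟨⟨hmem, fun q => hEV q _, fun i x q => ?_⟩, fun P' _ _ D' φ hφ => ?_⟩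
    · set v := WittVector.verschiebung (1 : WittVector p R) with hv
      have hvx : v • x ∈ D.Q := D.IV_smul_le (Submodule.smul_mem_smul (W4c1extbt610.verschiebung_mem_IV p R 1) Submodule.mem_top)
      let q' : Fin r → D.Q := Function.update q i ⟨v • x, hvx⟩
      have h1 : v • ι (Function.update (fun j => (q j : P)) i x) = ι (fun j => (q' j : P)) := by
        rw [← AlternatingMap.map_update_smul]
        congr 1
        funext j
        by_cases h : j = i
        · subst h; simp [q']
        · simp [q', h]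
      rw [DispLib.F_eq_Vinv E]
      have h2 : E.Vinv ⟨v • ι (Function.update (fun j => (q j : P)) i x), h1 ▸ hmem q'⟩ = E.Vinv ⟨_, hmem q'⟩ :=
        congrArg E.Vinv (Subtype.ext h1)
      refine h2.trans ((hEV q' (hmem q')).trans (congrArg ι (funext fun j => ?_)))
      by_cases h : j = i
      · subst h
        simp only [q', Function.update_self]
        exact (D.Vinv_verschiebung_smul 1 x).trans (one_smul _ _)
      · simp [q', h]
    · let ψ := exteriorPower.alternatingMapLinearEquiv φ
      have hψ : ∀ a, ψ (ι a) = φ a := fun a => exteriorPower.alternatingMapLinearEquiv_apply_ιMulti φ a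
      have hall : ∀ z ∈ E.Q, ∃ h : ψ z ∈ D'.Q, ∀ hz : z ∈ E.Q, ψ (E.Vinv ⟨z, hz⟩) = D'.Vinv ⟨ψ z, h⟩ := by
        intro z hz
        rw [hEQ] at hz
        induction hz using Submodule.span_induction with
        | mem z hz =>
          obtain ⟨q, rfl⟩ := hz
          refine ⟨(hψ _).symm ▸ hφ.mapsTo q, fun hz => ?_⟩
          rw [hEV q hz, hψ, ← hφ.vCond q]
          exact congrArg D'.Vinv (Subtype.ext (hψ _).symm)
        | zero =>
          refine ⟨by rw [map_zero]; exact zero_mem _, fun hz => ?_⟩
          rw [show (⟨0, hz⟩ : E.Q) = 0 from rfl, map_zero E.Vinv]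
          refine (map_zero ψ).trans ?_
          exact ((map_zero D'.Vinv).symm.trans (congrArg D'.Vinv (Subtype.ext (map_zero ψ).symm)))
        | add a b hsa hsb ha hb =>
          obtain ⟨ha, ha'⟩ := ha
          obtain ⟨hb, hb'⟩ := hb
          have hab : ψ (a + b) ∈ D'.Q := by rw [map_add]; exact add_mem ha hb
          refine ⟨hab, fun hz => ?_⟩
          have haQ : a ∈ E.Q := hEQ ▸ hsa
          have hbQ : b ∈ E.Q := hEQ ▸ hsb
          rw [show (⟨a + b, hz⟩ : E.Q) = ⟨a, haQ⟩ + ⟨b, hbQ⟩ from rfl, map_add, map_add, ha', hb', ← map_add D'.Vinv]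
          exact congrArg D'.Vinv (Subtype.ext (map_add ψ a b).symm)
        | smul c a hsa ha =>
          obtain ⟨ha, ha'⟩ := ha
          have hca : ψ (c • a) ∈ D'.Q := by rw [map_smul]; exact Submodule.smul_mem _ c ha
          refine ⟨hca, fun hz => ?_⟩
          have haQ : a ∈ E.Q := hEQ ▸ hsa
          rw [show (⟨c • a, hz⟩ : E.Q) = c • ⟨a, haQ⟩ from rfl, LinearMap.map_smulₛₗ, map_smul, ha',
            ← LinearMap.map_smulₛₗ D'.Vinv]
          exact congrArg D'.Vinv (Subtype.ext (map_smul ψ c a).symm)
      refine ⟨ψ, ⟨⟨fun z hz => (hall z hz).choose, fun z => ?_, fun z => (hall z z.2).choose_spec z.2⟩,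
        exteriorPower.alternatingMapLinearEquiv_comp_ιMulti φ⟩, fun ψ' hψ' => ?_⟩
      · rw [DispLib.F_eq_Vinv E, DispLib.F_eq_Vinv D']
        have hz : WittVector.verschiebung 1 • z ∈ E.Q :=
          E.IV_smul_le (Submodule.smul_mem_smul (W4c1extbt610.verschiebung_mem_IV p R 1) Submodule.mem_top)
        exact ((hall _ hz).choose_spec hz).trans (congrArg D'.Vinv (Subtype.ext (map_smul ψ _ z)))
      · exact exteriorPower.linearMap_ext (hψ'.2.trans (exteriorPower.alternatingMapLinearEquiv_comp_ιMulti φ).symm)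

end Groth.Agent.S13685
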