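import Groth.Statements.S13686
import Groth.Agent.DispLib.ExtPow
-- import your own Groth.Agent.* helpers here

set_option autoImplicit false
universe u v
open Disp

namespace Groth.Agent.S13686

/-- Let p be a prime, R a nontrivial commutative ring, W its ring of p-typical Witt vectors and D = (P,
Q, F, V⁻¹) a 3n-display over R with a normal decomposition P = L ⊕ T, Q = L + I_R T in which L is
free of rank m and T is free of rank one over W (so P is free of rank m + 1, the height). For r ≥ 1
let E be the 3n-display structure on ⋀^r P whose distinguished submodule is spanned by the wedges of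
elements of Q and whose V⁻¹ acts factorwise on them. Then E admits a normal decomposition ⋀^r P = L'
⊕ T', with distinguished submodule L' + I_R T', in which T' is free of rank (m choose r−1) over W:
with h = m + 1 the height, the tangent module of the exterior power has rank (h−1 choose r−1). (The
published statement has T projective of rank one and P of height h; this row takes L and T free, R
nontrivial and r ≥ 1.) -/
theorem result (p : ℕ) [Fact p.Prime] (R : Type u) [CommRing R] [Nontrivial R]
    (P : Type v) [AddCommGroup P] [Module (WittVector p R) P] (D : W4c1extbt610.Display3n p R P) (m : ℕ)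
    (L T : Submodule (WittVector p R) P) (hLT : IsCompl L T) (hQ : D.Q = L ⊔ W4c1extbt610.IV p R • T)
    (hL : Module.Free (WittVector p R) L) (hLr : Module.finrank (WittVector p R) L = m)
    (hT : Nonempty (T ≃ₗ[WittVector p R] WittVector p R))
    (r : ℕ) (hr : 1 ≤ r) (E : W4c1extbt610.Display3n p R (⋀[WittVector p R]^r P)) (hE : W4c1extbt610.IsExtPow D r E) :
    ∃ L' T' : Submodule (WittVector p R) (⋀[WittVector p R]^r P), IsCompl L' T' ∧
      E.Q = L' ⊔ W4c1extbt610.IV p R • T' ∧ Module.Free (WittVector p R) T' ∧
      Module.finrank (WittVector p R) T' = m.choose (r - 1) := by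
    classical
    haveI := D.finite
    obtain ⟨e0⟩ := hT
    let t₀ : P := (e0.symm 1 : T)
    have ht₀T : t₀ ∈ T := (e0.symm 1).2
    have ht₀ : ∀ x ∈ T, ∃ c : WittVector p R, x = c • t₀ := fun x hx => ⟨e0 ⟨x, hx⟩, by
      rw [show (e0 ⟨x, hx⟩) • t₀ = ((e0 ⟨x, hx⟩ • e0.symm 1 : T) : P) from rfl, ← map_smul, smul_eq_mul, mul_one,
        LinearEquiv.symm_apply_apply]⟩
    refine ⟨LinearMap.range (DispLib.ExtPow.PiL hLT r), LinearMap.range (DispLib.ExtPow.PiT hLT r), ⟨?_, ?_⟩,
      hE.1.trans (DispLib.ExtPow.Q_eq D hLT t₀ ht₀ ht₀T hQ r), ?_⟩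
    · rw [Submodule.disjoint_def]
      rintro _ ⟨x, rfl⟩ ⟨y, hy⟩
      have h1 : DispLib.ExtPow.PiL hLT r (DispLib.ExtPow.PiT hLT r y) = 0 := by
        rw [LinearMap.sub_apply, LinearMap.id_apply, map_sub, DispLib.ExtPow.PiL_idem hLT, sub_self]
      rw [hy, DispLib.ExtPow.PiL_idem hLT] at h1
      exact h1
    · rw [codisjoint_iff, eq_top_iff]
      intro z _
      rw [show z = DispLib.ExtPow.PiL hLT r z + DispLib.ExtPow.PiT hLT r z by
        rw [LinearMap.sub_apply, LinearMap.id_apply, add_sub_cancel]]
      exact Submodule.add_mem_sup ⟨z, rfl⟩ ⟨z, rfl⟩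
    haveI : Module.Finite (WittVector p R) L :=
      Module.Finite.of_surjective (L.projectionOnto T hLT) (Submodule.projectionOnto_surjective hLT)
    haveI := hL
    let bL := Module.finBasisOfFinrankEq (WittVector p R) L hLr
    let bT : Module.Basis (Fin 1) (WittVector p R) T := (Module.Basis.singleton (Fin 1) (WittVector p R)).map e0.symm
    let bP : Module.Basis (Fin (1 + m)) (WittVector p R) P :=
      ((bT.prod bL).map (Submodule.prodEquivOfIsCompl T L hLT.symm)).reindex finSumFinEquiv
    let i0 : Fin (1 + m) := finSumFinEquiv (Sum.inl 0)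
    have hcases : ∀ i, (i = i0 ∧ bP i ∈ T) ∨ (i ≠ i0 ∧ bP i ∈ L) := by
      intro i
      obtain ⟨j, rfl⟩ := finSumFinEquiv.surjective i
      rcases j with a | a
      · refine Or.inl ⟨by rw [Subsingleton.elim a 0], ?_⟩
        simp [bP]
      · refine Or.inr ⟨fun h => Sum.inr_ne_inl (finSumFinEquiv.injective h), ?_⟩
        simp [bP]
    let B := bP.exteriorPower r
    let A : Set (Set.powersetCard (Fin (1 + m)) r) := {s | i0 ∈ (s : Finset (Fin (1 + m)))}
    have hPT : ∀ s, DispLib.ExtPow.PiT hLT r (B s) = if s ∈ A then B s else 0 := by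
      intro s
      rw [LinearMap.sub_apply, LinearMap.id_apply, exteriorPower.basis_apply]
      split_ifs with hs
      · obtain ⟨j, hj⟩ := (Set.powersetCard.mem_range_ofFinEmbEquiv_symm_iff_mem s i0).2 hs
        have hjT : bP ((Set.powersetCard.ofFinEmbEquiv.symm s) j) ∈ T := by
          rw [hj]
          rcases hcases i0 with ⟨-, h⟩ | ⟨h, -⟩
          exacts [h, absurd rfl h]
        rw [sub_eq_self]
        exact DispLib.ExtPow.PiL_T hLT _ (i := j) hjT
      · have hv : ∀ j, bP ((Set.powersetCard.ofFinEmbEquiv.symm s) j) ∈ L := fun j => by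
          rcases hcases ((Set.powersetCard.ofFinEmbEquiv.symm s) j) with ⟨h, -⟩ | ⟨-, h⟩
          · exact absurd ((Set.powersetCard.mem_range_ofFinEmbEquiv_symm_iff_mem s i0).1 ⟨j, h⟩) hs
          · exact h
        rw [sub_eq_zero]
        exact (DispLib.ExtPow.PiL_L hLT _ hv).symm
    have hrange : LinearMap.range (DispLib.ExtPow.PiT hLT r) = Submodule.span (WittVector p R) (Set.range fun s : A => B s) := by
      rw [LinearMap.range_eq_map, ← B.span_eq, LinearMap.map_span, ← Set.range_comp]
      refine le_antisymm (Submodule.span_le.2 ?_) (Submodule.span_le.2 ?_)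
      · rintro _ ⟨s, rfl⟩
        rw [Function.comp_apply, hPT]
        split_ifs with hs
        · exact Submodule.subset_span ⟨⟨s, hs⟩, rfl⟩
        · exact zero_mem _
      · rintro _ ⟨⟨s, hs⟩, rfl⟩
        exact Submodule.subset_span ⟨s, by rw [Function.comp_apply, hPT, if_pos hs]⟩
    have hli : LinearIndependent (WittVector p R) fun s : A => B s := B.linearIndependent.comp _ Subtype.coe_injective
    haveI : Nontrivial (WittVector p R) := (WittVector.constantCoeff : WittVector p R →+* R).domain_nontrivial
    rw [hrange]
    refine ⟨Module.Free.of_basis (Module.Basis.span hli), ?_⟩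
    rw [Module.finrank_eq_card_basis (Module.Basis.span hli), Fintype.card_eq_nat_card]
    have hc : Nat.card A + Nat.card (Aᶜ : Set _) = Nat.card (Set.powersetCard (Fin (1 + m)) r) := by
      rw [Nat.card_coe_set_eq, Nat.card_coe_set_eq, Set.ncard_add_ncard_compl]
    have hsub : Nat.card (Aᶜ : Set (Set.powersetCard (Fin (1 + m)) r)) = m.choose r := by
      let e : (Aᶜ : Set (Set.powersetCard (Fin (1 + m)) r)) ≃ Set.powersetCard {i : Fin (1 + m) // i ≠ i0} r :=
        { toFun := fun s => ⟨(s.1 : Finset (Fin (1 + m))).subtype fun i => i ≠ i0, by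
            rw [Set.powersetCard.mem_iff, Finset.card_subtype, Finset.filter_true_of_mem (p := fun i => i ≠ i0) (fun i hi h => s.2 (by subst h; exact hi))]
            exact s.1.2⟩
          invFun := fun t => ⟨⟨(t : Finset {i : Fin (1 + m) // i ≠ i0}).map (Function.Embedding.subtype _), by
            rw [Set.powersetCard.mem_iff, Finset.card_map]; exact t.2⟩, fun h => by
              obtain ⟨x, -, hx⟩ := Finset.mem_map.1 h
              exact x.2 hx⟩
          left_inv := fun s => by
            apply Subtype.ext
            apply Subtype.ext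
            exact (Finset.subtype_map _).trans (Finset.filter_true_of_mem fun i hi h => s.2 (by subst h; exact hi))
          right_inv := fun t => by
            apply Subtype.ext
            ext x
            simpa using fun _ => x.2 }
      rw [Nat.card_congr e, Set.powersetCard.card, Nat.card_eq_fintype_card, Fintype.card_subtype_compl, Fintype.card_subtype_eq,
        Fintype.card_fin, Nat.add_sub_cancel_left]
    rw [hsub, Set.powersetCard.card, Nat.card_eq_fintype_card (α := Fin (1 + m)), Fintype.card_fin] at hc
    obtain ⟨r, rfl⟩ : ∃ r', r = r' + 1 := ⟨r - 1, by omega⟩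
    have hpascal : (1 + m).choose (r + 1) = m.choose r + m.choose (r + 1) := by
      rw [Nat.add_comm 1 m, Nat.choose_succ_succ]
    rw [Nat.add_sub_cancel]
    omega

end Groth.Agent.S13686
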