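import Groth.Statements.S13689
import Groth.Agent.ASB24.Isotypical
-- import your own Groth.Agent.* helpers here

set_option autoImplicit false
set_option backward.isDefEq.respectTransparency false
set_option backward.isDefEq.respectTransparency.types false
set_option linter.style.haveILetI false
universe u
open CategoryTheory CategoryTheory.Limits AlgebraicGeometry
open ASBun

namespace Groth.Agent.S13689

open W4c1astiltbs12 in
/-- Let X be proper over a field k, K an algebraic closure of k with projection π : X_K → X, and E a
nonzero finite locally free O_X-module which is absolutely rank-one-isotypical: π^*E ≅ L^{⊕r} for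
some r and some invertible O_{X_K}-module L that is indecomposable (nonzero, and in any
decomposition as a direct sum one summand is zero; for an invertible module this says X_K is
connected). Then E ≅ G^{⊕n} for some n and some indecomposable finite locally free O_X-module G, and
G is unique: any indecomposable G and G' with E ≅ G^{⊕n} and E ≅ G'^{⊕m} are isomorphic. (The
published statement assumes k infinite and X projective, and its extension in the text X proper and
geometrically integral; the argument uses only properness of X and indecomposability of the type L,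
without which the structure sheaf of two points is a counterexample.) -/
theorem result (k : Type u) [Field k] {X : Scheme.{u}}
    (p : X ⟶ Spec (CommRingCat.of k)) [IsProper p] (K : Type u) [Field K] [Algebra k K]
    [IsAlgClosure k K] (E : X.Modules) (hE : FlatMod.IsFinLocFree E) (hE0 : ¬ IsZero E)
    (L : (W4bk4gw11416.baseChange p K).Modules) (hL : PicF.IsInvertible L)
    (hLi : (¬ IsZero L ∧ ∀ A B : (W4bk4gw11416.baseChange p K).Modules, Nonempty (L ≅ A ⊞ B) → IsZero A ∨ IsZero B))
    (r : ℕ) (e : Nonempty (bcMod p K E ≅ pow L r)) :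
    (∃ (G : X.Modules) (n : ℕ), FlatMod.IsFinLocFree G ∧
      (¬ IsZero G ∧ ∀ A B : X.Modules, Nonempty (G ≅ A ⊞ B) → IsZero A ∨ IsZero B) ∧
      Nonempty (E ≅ pow G n)) ∧
    (∀ (G G' : X.Modules) (n m : ℕ),
      (¬ IsZero G ∧ ∀ A B : X.Modules, Nonempty (G ≅ A ⊞ B) → IsZero A ∨ IsZero B) →
      (¬ IsZero G' ∧ ∀ A B : X.Modules, Nonempty (G' ≅ A ⊞ B) → IsZero A ∨ IsZero B) →
      Nonempty (E ≅ pow G n) → Nonempty (E ≅ pow G' m) → Nonempty (G ≅ G')) := by
  refine ⟨?_, ?_⟩
  · obtain ⟨G, n, f, g, hG, hfg, hiso⟩ := Groth.Agent.ASB24.exists_eq_pow p K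
      (Groth.Agent.H28.PushLocFree.isCoh_of_isFinLocFree hE) hE0 hLi e.some
    exact ⟨G, n, Groth.Agent.UnivThick.isFinLocFree_of_retract f g hfg hE, hG, hiso⟩
  · rintro G G' n m hG hG' ⟨α⟩ ⟨β⟩
    haveI := Abelian.hasFiniteBiproducts (C := X.Modules)
    rcases n with _ | n
    · exact absurd (IsZero.of_iso (Groth.Agent.ASB24.isZero_pow_zero G) α) hE0
    have hc := Groth.Agent.ASB24.isCoh_component (fun _ : Fin (n + 1) => G)
      (Groth.Agent.SheafHomX.isCoh_of_iso (α ≪≫ (biproduct.isoCoproduct _).symm) (Groth.Agent.H28.PushLocFree.isCoh_of_isFinLocFree hE))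
    obtain ⟨σ, hσ⟩ := Groth.Agent.ASB24.indec_unique p (fun _ : Fin (n + 1) => hG) (fun _ : Fin m => hG') hc
      (biproduct.isoCoproduct _ ≪≫ α.symm ≪≫ β ≪≫ (biproduct.isoCoproduct _).symm)
    exact hσ 0

end Groth.Agent.S13689
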