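import Groth.Statements.S1369
import Groth.Agent.RelAssGen.Scheme

set_option autoImplicit false
universe u
open FlatMor

namespace Groth.Agent.S1369

open AlgebraicGeometry CategoryTheory Limits in
/-- Let f be of finite type with irreducible target, F a quasi-coherent module of finite type on the
source and U an open of the source. If some associated point of F restricted to the generic fibre is
not in U, then over some nonempty open of the target every fibre carries an associated point of F
(restricted to that fibre) outside U. -/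
theorem result {X Y : Scheme.{u}} (f : X ⟶ Y) [IrreducibleSpace ↑Y] [LocallyOfFiniteType f] [QuasiCompact f]
    (F : X.Modules) (hF : Coh.IsCoh F) (U : X.Opens)
    (h : ∃ x ∈ MoreMor.relAss f F, f x = genericPoint ↑Y ∧ x ∉ U) :
    ∃ V : Y.Opens, (V : Set ↑Y).Nonempty ∧ ∀ y ∈ V, ∃ x ∈ MoreMor.relAss f F, f x = y ∧ x ∉ U := by
  obtain ⟨x, hx, hfx, hxU⟩ := h
  obtain ⟨D, W, -, hW, hass, hfib⟩ := Groth.Agent.RelAssGen.exists_nhd f F hF x hx
  refine ⟨W, ⟨_, hW⟩, fun y hy => ?_⟩
  obtain ⟨x', hc, hD, hfx', hmin⟩ := hfib y (by rw [hfx, (genericPoint_spec ↑Y).def]; trivial) hy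
  refine ⟨x', hass x' hc hD hmin, hfx', fun hU => hxU ?_⟩
  exact (specializes_iff_mem_closure.2 hc).mem_open U.2 hU

end Groth.Agent.S1369
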