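import Groth.Statements.S13693
import Groth.Agent.KSLib.Basic
import Groth.Agent.ASB24.FiniteHom
-- import your own Groth.Agent.* helpers here

set_option autoImplicit false
set_option backward.isDefEq.respectTransparency false
set_option backward.isDefEq.respectTransparency.types false
set_option linter.style.haveILetI false
universe u
open CategoryTheory CategoryTheory.Limits AlgebraicGeometry
open ASBun

namespace Groth.Agent.S13693

open W4c1astiltbs12 in
/-- Let X be a scheme proper over a field k. Every coherent O_X-module F (quasi-coherent of finite type;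
X is Noetherian) is isomorphic to a finite direct sum of indecomposable O_X-modules (nonzero, and in
any decomposition as a direct sum one summand is zero; the zero module is the empty sum), and such a
decomposition is unique: if F ≅ F_1 ⊕ ⋯ ⊕ F_n ≅ G_1 ⊕ ⋯ ⊕ G_m with all F_i and G_j indecomposable,
then there is a bijection e between the index sets with F_i ≅ G_{e(i)} for every i. -/
theorem result (k : Type u) [Field k] {X : Scheme.{u}}
    (p : X ⟶ Spec (CommRingCat.of k)) [IsProper p] (F : X.Modules) (hF : Coh.IsCoh F) :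
    (∃ (n : ℕ) (Fs : Fin n → X.Modules),
      (∀ i, (¬ IsZero (Fs i) ∧ ∀ A B : X.Modules, Nonempty ((Fs i) ≅ A ⊞ B) → IsZero A ∨ IsZero B)) ∧
      Nonempty (F ≅ ∐ Fs)) ∧
    (∀ (n m : ℕ) (Fs : Fin n → X.Modules) (Gs : Fin m → X.Modules),
      (∀ i, (¬ IsZero (Fs i) ∧ ∀ A B : X.Modules, Nonempty ((Fs i) ≅ A ⊞ B) → IsZero A ∨ IsZero B)) →
      (∀ j, (¬ IsZero (Gs j) ∧ ∀ A B : X.Modules, Nonempty ((Gs j) ≅ A ⊞ B) → IsZero A ∨ IsZero B)) →
      Nonempty (F ≅ ∐ Fs) → Nonempty (F ≅ ∐ Gs) →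
      ∃ e : Fin n ≃ Fin m, ∀ i, Nonempty (Fs i ≅ Gs (e i))) := by
  letI : X.Over (Spec (CommRingCat.of k)) := ⟨p⟩
  haveI : IsProper (X ↘ Spec (CommRingCat.of k)) := ‹IsProper p›
  haveI := Abelian.hasFiniteBiproducts (C := X.Modules)
  have hfin : ∀ A : X.Modules, Coh.IsCoh A → Module.Finite k (A ⟶ A) := fun A hA => Groth.Agent.ASB24.finite_hom hA hA
  have hiso : ∀ {A B : X.Modules}, (A ≅ B) → Coh.IsCoh A → Coh.IsCoh B := fun e h => Groth.Agent.SheafHomX.isCoh_of_iso e h
  refine ⟨?_, ?_⟩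
  · obtain ⟨n, Fs, h1, ⟨h2⟩⟩ := Groth.Agent.KSLib.exists_decomposition k (fun A : X.Modules => Coh.IsCoh A)
      (fun h => Groth.Agent.ASB24.isCoh_of_biprod h) hiso hfin _ F hF le_rfl
    exact ⟨n, Fs, h1, ⟨h2 ≪≫ biproduct.isoCoproduct Fs⟩⟩
  · rintro n m Fs Gs hFs hGs ⟨e1⟩ ⟨e2⟩
    refine Groth.Agent.KSLib.unique k n m Fs Gs hFs hGs (fun i => hfin _ ?_)
      ((biproduct.isoCoproduct Fs) ≪≫ e1.symm ≪≫ e2 ≪≫ (biproduct.isoCoproduct Gs).symm)
    haveI : IsSplitEpi (biproduct.π Fs i) := inferInstance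
    exact Groth.Agent.QCoh.isCoh_of_epi (biproduct.π Fs i) (hiso (e1 ≪≫ (biproduct.isoCoproduct Fs).symm) hF)
      (Groth.Agent.PnCoh.Finite.isQCoh_of_retract ((hiso (e1 ≪≫ (biproduct.isoCoproduct Fs).symm) hF).1)
        (biproduct.ι Fs i) (biproduct.π Fs i) (biproduct.ι_π_self Fs i))

end Groth.Agent.S13693
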