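import Groth.Statements.S13697
import Groth.Agent.PolLib.Fibres

set_option autoImplicit false
universe u
open scoped TensorProduct
open ZeroCyc

namespace Groth.Agent.S13697

/-- Let F : B → A be a multiplicative polynomial law homogeneous of degree d over the commutative ring
A, and let A' be any commutative A-algebra. The kernel of the base change of F to A' (an ideal of A'
⊗_A B) and the extension to A' ⊗_A B of the kernel of F have the same radical. In other words the
support (reduced image) of a family of zero-cycles of degree d on Spec B over Spec A commutes with
every base change Spec A' → Spec A. (The published statement is for X affine over an algebraic space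
S; this row is the case of an affine base, to which the general case reduces.) -/
theorem result {A : Type u} [CommRing A] {B : Type u} [CommRing B] [Algebra A B]
    {d : ℕ} (F : PolLaw.MulLaw A B A d) (A' : Type u) [CommRing A'] [Algebra A A'] :
    (PolLaw.kerBC F.law A').radical =
      ((PolLaw.ker F.law).map (Algebra.TensorProduct.includeRight : B →ₐ[A] A' ⊗[A] B)).radical := by
  exact PolLib.radical_kerBC F A'

end Groth.Agent.S13697
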