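import Groth.Statements.S13698
import Groth.Agent.PolLib.FiniteCrit
-- import your own Groth.Agent.* helpers here

set_option autoImplicit false
universe u
open scoped TensorProduct
open ZeroCyc

namespace Groth.Agent.S13698

/-- Let F : B → A be a multiplicative polynomial law homogeneous of degree d over the commutative ring
A, on a commutative A-algebra B which is finite as an A-module, and let A' be a localization of A at
a submonoid M. Then the kernel of the base change of F to A' is the ideal of A' ⊗_A B generated by
the kernel of F: the kernel (hence the image of a family of zero-cycles) commutes with localization.
(The published statement has no finiteness hypothesis on B and is false without one: for a suitable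
algebra B that is not finitely generated the conditions cutting out the kernel at an element are
infinitely many elements of A annihilated by elements of M but by no single one, and the kernel of
the localised law is then strictly larger than the localised kernel; the published proof's reduction
to finite B does not go through. This row assumes B finite over A, the case that proof establishes.) -/
theorem result {A : Type u} [CommRing A] {B : Type u} [CommRing B] [Algebra A B]
    [Module.Finite A B] {d : ℕ} (F : PolLaw.MulLaw A B A d) (M : Submonoid A) (A' : Type u) [CommRing A'] [Algebra A A']
    [IsLocalization M A'] :
    (PolLaw.ker F.law).map (Algebra.TensorProduct.includeRight : B →ₐ[A] A' ⊗[A] B) =
      PolLaw.kerBC F.law A' := by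
  exact Groth.Agent.PolLib.map_ker_eq_kerBC_localization F M A'

end Groth.Agent.S13698
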