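import Groth.Statements.S1370
import Groth.Agent.RelAssGen.SchemeInj

set_option autoImplicit false
set_option linter.style.haveILetI false
universe u
open FlatMor

namespace Groth.Agent.S1370

open AlgebraicGeometry CategoryTheory Limits TopologicalSpace in
theorem isCompact_inter_of_quasiSeparated {X : Scheme.{u}} (Ω : X.Opens) (P Q : Set X) [QuasiSeparatedSpace ↑↑Ω]
    (hP : IsOpen P) (hQ : IsOpen Q) (hPΩ : P ⊆ Ω) (hQΩ : Q ⊆ Ω) (hPc : IsCompact P) (hQc : IsCompact Q) :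
    IsCompact (P ∩ Q) :=
  (isQuasiSeparated_iff_quasiSeparatedSpace (Ω : Set X) Ω.2).2 ‹_› P Q hPΩ hP hPc hQΩ hQ hQc

open AlgebraicGeometry CategoryTheory Limits TopologicalSpace in
theorem exists_gens {X : Scheme.{u}} {U : X.Opens} (hU : IsAffineOpen U) (O : X.Opens) (hO : IsCompact ((U ⊓ O : X.Opens) : Set X)) :
    ∃ (n : ℕ) (g : Fin n → Γ(X, U)), ∀ x ∈ U, (x ∈ O ↔ ∃ i, x ∈ X.basicOpen (g i)) := by
  classical
  have hcov : ∀ x : ↥(U ⊓ O), ∃ g : Γ(X, U), X.basicOpen g ≤ O ∧ (x : X) ∈ X.basicOpen g := fun x =>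
    hU.exists_basicOpen_le ⟨x, x.2.2⟩ x.2.1
  choose g hgle hxg using hcov
  obtain ⟨t, ht⟩ := hO.elim_finite_subcover (fun x : ↥(U ⊓ O) => (X.basicOpen (g x) : Set X))
    (fun x => (X.basicOpen (g x)).2) (fun x hx => Set.mem_iUnion.2 ⟨⟨x, hx⟩, hxg _⟩)
  let e := t.equivFin
  refine ⟨t.card, fun i => g (e.symm i).1, fun x hx => ⟨fun hxO => ?_, fun ⟨i, hi⟩ => hgle _ hi⟩⟩
  obtain ⟨y, hy, hxy⟩ := Set.mem_iUnion₂.1 (ht ⟨hx, hxO⟩)
  exact ⟨e ⟨y, hy⟩, by simpa using hxy⟩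

open AlgebraicGeometry CategoryTheory Limits in
/-- Let f be of finite presentation, F a quasi-coherent module of finite presentation on the source, and
U an open of the source which is quasi-compact over the target. Then the set of points y of the
target such that all associated points of F restricted to the fibre over y lie in U is locally
constructible. -/
theorem result {X Y : Scheme.{u}} (f : X ⟶ Y) [LocallyOfFinitePresentation f] [QuasiCompact f] [QuasiSeparated f]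
    (F : X.Modules) (hFq : Coh.IsQCoh F) (hFp : CohB1.IsFP F) (U : X.Opens) [QuasiCompact (U.ι ≫ f)] :
    Topology.IsLocallyConstructible {y : ↑Y | ∀ x ∈ MoreMor.relAss f F, f x = y → x ∈ U} := by
  classical
  intro y
  obtain ⟨_, ⟨V, hV, rfl⟩, hyV, -⟩ := Y.isBasis_affineOpens.exists_subset_of_mem_open (Set.mem_univ y) isOpen_univ
  replace hV : IsAffineOpen V := hV
  refine ⟨V, V.2.mem_nhds hyV, V.2, ?_⟩
  have hc : IsCompact ((f ⁻¹ᵁ V : X.Opens) : Set X) := f.isCompact_preimage hV.isCompact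
  obtain ⟨t, htaff, htf, htc⟩ := X.isBasis_affineOpens.exists_finite_of_isCompact hc
  haveI : Finite t := htf.to_subtype
  have hle : ∀ W : t, (W : X.Opens) ≤ f ⁻¹ᵁ V := fun W => by rw [htc]; exact le_sSup W.2
  haveI : QuasiSeparatedSpace ↑↑(f ⁻¹ᵁ V) := by
    haveI : IsAffine V := hV
    exact quasiSeparatedSpace_of_quasiSeparated (f ∣_ V)
  have hqc : ∀ W : t, IsCompact (((W : X.Opens) ⊓ U : X.Opens) : Set X) := fun W => by
    have h2 : IsCompact (U.ι '' ((U.ι ≫ f) ⁻¹' (V : Set Y))) :=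
      ((U.ι ≫ f).isCompact_preimage hV.isCompact).image U.ι.continuous
    have e2 : U.ι '' ((U.ι ≫ f) ⁻¹' (V : Set Y)) = (U : Set X) ∩ f ⁻¹' (V : Set Y) := by
      ext x
      constructor
      · rintro ⟨z, hz, rfl⟩; exact ⟨z.2, hz⟩
      · rintro ⟨hx, hxV⟩; exact ⟨⟨x, hx⟩, hxV, rfl⟩
    rw [e2] at h2
    exact Groth.Agent.S1370.isCompact_inter_of_quasiSeparated (f ⁻¹ᵁ V) ((W : X.Opens) : Set X) ((U : Set X) ∩ f ⁻¹' (V : Set Y))
      (W : X.Opens).2 (U.2.inter (V.2.preimage f.continuous)) (hle W) Set.inter_subset_right (IsAffineOpen.isCompact (htaff W.2)) h2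
      |> fun h => by
        have e3 : (((W : X.Opens) ⊓ U : X.Opens) : Set X) = ((W : X.Opens) : Set X) ∩ ((U : Set X) ∩ f ⁻¹' (V : Set Y)) :=
          Set.ext fun x => ⟨fun hx => ⟨hx.1, hx.2, hle W hx.1⟩, fun hx => ⟨hx.1, hx.2.1⟩⟩
        rw [e3]; exact h
  choose n g hg using fun W : t => exists_gens (htaff W.2) U (hqc W)
  let C : t → Set (PrimeSpectrum Γ(Y, V)) := fun W =>
    letI : Algebra Γ(Y, V) Γ(X, (W : X.Opens)) := (f.appLE V W (hle W)).hom.toAlgebra
    letI : Module Γ(Y, V) Γ(F, (W : X.Opens)) := Module.compHom _ (f.appLE V W (hle W)).hom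
    haveI : IsScalarTower Γ(Y, V) Γ(X, (W : X.Opens)) Γ(F, (W : X.Opens)) := IsScalarTower.of_algebraMap_smul fun _ _ => rfl
    {p | Groth.Agent.RelAssGen.InjP ((Groth.Agent.RelAssGen.mulMap (g W) Γ(F, (W : X.Opens))).restrictScalars Γ(Y, V)) p.asIdeal}
  have hC : ∀ W, Topology.IsConstructible (C W) := fun W => by
    letI : Algebra Γ(Y, V) Γ(X, (W : X.Opens)) := (f.appLE V W (hle W)).hom.toAlgebra
    letI : Module Γ(Y, V) Γ(F, (W : X.Opens)) := Module.compHom _ (f.appLE V W (hle W)).hom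
    haveI : IsScalarTower Γ(Y, V) Γ(X, (W : X.Opens)) Γ(F, (W : X.Opens)) := IsScalarTower.of_algebraMap_smul fun _ _ => rfl
    haveI : Algebra.FinitePresentation Γ(Y, V) Γ(X, (W : X.Opens)) :=
      f.finitePresentation_appLE hV (htaff W.2) (hle W)
    haveI : Module.FinitePresentation Γ(X, (W : X.Opens)) Γ(F, (W : X.Opens)) :=
      Groth.Agent.QCoh.finitePresentation_of_isFP hFp (htaff W.2)
    exact Groth.Agent.RelAssGen.isConstructible_injP_fp (g W)
  have e : (Subtype.val ⁻¹' {y : ↑Y | ∀ x ∈ MoreMor.relAss f F, f x = y → x ∈ U} : Set ↥(V : Set ↑Y)) =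
      (hV.primeIdealOf : ↥V → _) ⁻¹' ⋂ W, C W := by
    ext ⟨z, hz⟩
    simp only [Set.mem_preimage, Set.mem_iInter, Set.mem_setOf_eq]
    constructor
    · intro h W
      refine (Groth.Agent.RelAssGen.injP_iff_relAss f F hFq hV (htaff W.2) (hle W) (g W) z hz).2 fun x hx hxz hass => ?_
      exact (hg W x hx).1 (h x hass hxz)
    · intro h x hass hxz
      have hxV : x ∈ f ⁻¹ᵁ V := by show f x ∈ V; rw [hxz]; exact hz
      rw [htc] at hxV
      obtain ⟨W, hW, hxW⟩ := TopologicalSpace.Opens.mem_sSup.1 hxV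
      obtain ⟨i, hi⟩ := (Groth.Agent.RelAssGen.injP_iff_relAss f F hFq hV (htaff hW) (hle ⟨W, hW⟩) (g ⟨W, hW⟩) z hz).1
        (h ⟨W, hW⟩) x hxW hxz hass
      exact (hg ⟨W, hW⟩ x hxW).2 ⟨i, hi⟩
  change Topology.IsConstructible (Subtype.val ⁻¹' _)
  rw [e]
  exact (Topology.IsConstructible.iInter hC).preimage_of_isOpenEmbedding hV.isoSpec.hom.homeomorph.isOpenEmbedding

end Groth.Agent.S1370
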