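import Groth.Statements.S13702
import Mathlib.RingTheory.AdjoinRoot
import Mathlib.LinearAlgebra.Vandermonde
import Mathlib.LinearAlgebra.Determinant
import Mathlib.FieldTheory.Separable
import Mathlib.FieldTheory.IsAlgClosed.AlgebraicClosure
-- import your own Groth.Agent.* helpers here

set_option autoImplicit false
universe u
open ZeroCyc

namespace Groth.Agent.S13702

/-- Let A be a local ring with residue field of characteristic p > 0, let g ∈ A[X] be monic and
separable of degree n, so that A' = A[X]/(g) is an étale A-algebra, and let q = p^s with s ≥ 0. Then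
the powers 1, t^q, t^{2q}, …, t^{(n-1)q} of the class t of X form a basis of A' as an A-module. -/
theorem result {A : Type u} [CommRing A] [IsLocalRing A] (p : ℕ) [Fact p.Prime]
    [CharP (IsLocalRing.ResidueField A) p] (g : Polynomial A) (hg : g.Monic) (hsep : g.Separable) (s : ℕ) :
    ∃ b : Module.Basis (Fin g.natDegree) A (AdjoinRoot g),
      ∀ i : Fin g.natDegree, b i = AdjoinRoot.root g ^ (p ^ s * (i : ℕ)) := by
  classical
  haveI : ExpChar (AlgebraicClosure (IsLocalRing.ResidueField A)) p := .prime (Fact.out)
  haveI : CharP (AlgebraicClosure (IsLocalRing.ResidueField A)) p :=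
    charP_of_injective_algebraMap (algebraMap (IsLocalRing.ResidueField A) _).injective p
  let K := AlgebraicClosure (IsLocalRing.ResidueField A)
  let π : A →+* K := (algebraMap (IsLocalRing.ResidueField A) K).comp (IsLocalRing.residue A)
  let n := g.natDegree
  let e : Module.Basis (Fin g.natDegree) A (AdjoinRoot g) := (AdjoinRoot.powerBasis' hg).basis
  let v : Fin g.natDegree → AdjoinRoot g := fun i => AdjoinRoot.root g ^ (p ^ s * (i : ℕ))
  suffices hu : IsUnit (e.det v) by
    obtain ⟨hli, hsp⟩ := e.is_basis_iff_det.mpr hu
    exact ⟨Module.Basis.mk hli hsp.ge, fun i => Module.Basis.mk_apply hli hsp.ge i⟩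
  rw [Module.Basis.det_apply]
  by_contra hnu
  have hm : π (e.toMatrix v).det = 0 := by
    show algebraMap _ _ (IsLocalRing.residue A _) = 0
    rw [show IsLocalRing.residue A (e.toMatrix v).det = 0 from Ideal.Quotient.eq_zero_iff_mem.mpr hnu, map_zero]
  have hgK : (g.map π).Monic := hg.map π
  have hsK : (g.map π).Separable := hsep.map
  have hcard : Fintype.card {r // r ∈ (g.map π).roots.toFinset} = n := by
    rw [Fintype.card_coe, Multiset.toFinset_card_of_nodup (Polynomial.nodup_roots hsK),
      ← (IsAlgClosed.splits (g.map π)).natDegree_eq_card_roots, hg.natDegree_map]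
  let r : Fin g.natDegree → K := fun j => ((Fintype.equivFinOfCardEq hcard).symm j).1
  have hr : Function.Injective r := Subtype.val_injective.comp (Equiv.injective _)
  have hroot : ∀ j, g.eval₂ π (r j) = 0 := fun j => by
    rw [← Polynomial.eval_map]
    exact ((Polynomial.mem_roots hgK.ne_zero).mp (Multiset.mem_toFinset.mp ((Fintype.equivFinOfCardEq hcard).symm j).2))
  have hfr : Function.Injective fun j => r j ^ p ^ s := fun a b h =>
    hr ((iterateFrobenius_inj K p s) (by simpa [iterateFrobenius_def] using h))
  have key : Matrix.vandermonde (fun j => r j ^ p ^ s) = Matrix.vandermonde r * (e.toMatrix v).map π := by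
    ext a i
    have h := congrArg (AdjoinRoot.lift π (r a) (hroot a)) (e.sum_toMatrix_smul_self v i)
    simp only [map_sum, Algebra.smul_def, map_mul, AdjoinRoot.algebraMap_eq, AdjoinRoot.lift_of, v, map_pow,
      AdjoinRoot.lift_root] at h
    rw [Matrix.vandermonde_apply, ← pow_mul, ← h, Matrix.mul_apply]
    refine Finset.sum_congr rfl fun j _ => ?_
    rw [Matrix.vandermonde_apply, Matrix.map_apply, mul_comm]
    congr 1
    have he : e j = AdjoinRoot.root g ^ (j : ℕ) := by
      show ((AdjoinRoot.powerBasis' hg).basis : Fin (AdjoinRoot.powerBasis' hg).dim → _) j = _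
      rw [PowerBasis.coe_basis]
      simp only [AdjoinRoot.powerBasis'_gen]
    rw [he, map_pow, AdjoinRoot.lift_root]
  have hdet := congrArg Matrix.det key
  rw [Matrix.det_mul, ← RingHom.mapMatrix_apply, ← RingHom.map_det, hm, mul_zero] at hdet
  exact (Matrix.det_vandermonde_ne_zero_iff.mpr hfr) hdet

end Groth.Agent.S13702
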