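import Groth.Statements.S13708
import Mathlib.AlgebraicGeometry.Morphisms.Immersion
-- import your own Groth.Agent.* helpers here

set_option autoImplicit false
universe u
open CategoryTheory CategoryTheory.Limits AlgebraicGeometry
open ZeroCyc

namespace Groth.Agent.S13708

/-- Let X be a scheme over S such that every finite set of points of X over a common point of S lies in
some affine open subscheme of X (the condition (AF)). Then X is separated over S. (The published
condition (AF) asks for an open U with U → S quasi-affine rather than U affine; with U affine, as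
here, the same argument applies verbatim, and the two conditions agree over a quasi-separated base.) -/
theorem result {X S : Scheme.{u}} (f : X ⟶ S) (hX : SymProd.IsAF f) :
    IsSeparated f := by
  refine ⟨.of_isPreimmersion _ ?_⟩
  rw [← isOpen_compl_iff, isOpen_iff_forall_mem_open]
  intro z hz
  classical
  obtain ⟨U, hU, hmem⟩ := hX (f (pullback.fst f f z)) {pullback.fst f f z, pullback.snd f f z} (by
    intro a ha
    simp only [Finset.mem_insert, Finset.mem_singleton] at ha
    rcases ha with rfl | rfl
    · rfl
    · rw [← Scheme.Hom.comp_apply, ← Scheme.Hom.comp_apply, pullback.condition])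
  haveI : IsAffine U := hU
  haveI : IsSeparated (U.ι ≫ f) := inferInstance
  let m : pullback (U.ι ≫ f) (U.ι ≫ f) ⟶ pullback f f :=
    pullback.map _ _ _ _ U.ι U.ι (𝟙 S) (by simp) (by simp)
  let W : (pullback f f).Opens := pullback.fst f f ⁻¹ᵁ U ⊓ pullback.snd f f ⁻¹ᵁ U
  have hW : z ∈ W := ⟨hmem _ (by simp), hmem _ (by simp)⟩
  let k : W.toScheme ⟶ pullback (U.ι ≫ f) (U.ι ≫ f) := pullback.lift
    (IsOpenImmersion.lift U.ι (W.ι ≫ pullback.fst f f) (by rintro _ ⟨w, rfl⟩; simpa using w.2.1))
    (IsOpenImmersion.lift U.ι (W.ι ≫ pullback.snd f f) (by rintro _ ⟨w, rfl⟩; simpa using w.2.2))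
    (by simp [pullback.condition])
  have hk : k ≫ m = W.ι := by
    apply pullback.hom_ext
    · erw [Category.assoc, pullback.lift_fst, pullback.lift_fst_assoc, IsOpenImmersion.lift_fac]
    · erw [Category.assoc, pullback.lift_snd, pullback.lift_snd_assoc, IsOpenImmersion.lift_fac]
  have hdm : pullback.diagonal (U.ι ≫ f) ≫ m = U.ι ≫ pullback.diagonal f := by
    apply pullback.hom_ext
    · erw [Category.assoc, pullback.lift_fst, pullback.diagonal_fst_assoc, Category.assoc, pullback.diagonal_fst, Category.comp_id]
    · erw [Category.assoc, pullback.lift_snd, pullback.diagonal_snd_assoc, Category.assoc, pullback.diagonal_snd, Category.comp_id]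
  refine ⟨W.ι '' (k ⁻¹' (Set.range (pullback.diagonal (U.ι ≫ f)))ᶜ), ?_, ?_, ⟨z, hW⟩, ?_, rfl⟩
  · rintro _ ⟨w, hw, rfl⟩ ⟨x, hx⟩
    have hxU : x ∈ U := by
      have := congr(pullback.fst f f $hx)
      rw [← Scheme.Hom.comp_apply, pullback.diagonal_fst] at this
      simp only [Scheme.Hom.id_base, TopCat.id_app] at this
      rw [this]
      exact w.2.1
    refine hw ⟨⟨x, hxU⟩, ?_⟩
    let d : U.toScheme ⟶ W.toScheme := IsOpenImmersion.lift W.ι (U.ι ≫ pullback.diagonal f) (by
      rintro _ ⟨y, rfl⟩
      simp only [Scheme.Opens.range_ι, SetLike.mem_coe]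
      refine ⟨?_, ?_⟩ <;>
        simp only [SetLike.mem_coe, Scheme.Hom.mem_preimage, ← Scheme.Hom.comp_apply, Category.assoc,
          pullback.diagonal_fst, pullback.diagonal_snd, Category.comp_id] <;> exact y.2)
    have hd : d ≫ k = pullback.diagonal (U.ι ≫ f) := by
      apply pullback.hom_ext
      · rw [← cancel_mono U.ι, pullback.diagonal_fst]
        erw [Category.assoc, Category.assoc, pullback.lift_fst_assoc, IsOpenImmersion.lift_fac, IsOpenImmersion.lift_fac_assoc, Category.assoc, pullback.diagonal_fst, Category.comp_id]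
      · rw [← cancel_mono U.ι, pullback.diagonal_snd]
        erw [Category.assoc, Category.assoc, pullback.lift_snd_assoc, IsOpenImmersion.lift_fac, IsOpenImmersion.lift_fac_assoc, Category.assoc, pullback.diagonal_snd, Category.comp_id]
    rw [← hd, Scheme.Hom.comp_apply]
    congr 1
    apply W.ι.isOpenEmbedding.injective
    rw [← Scheme.Hom.comp_apply, IsOpenImmersion.lift_fac]
    exact hx
  · exact W.ι.isOpenEmbedding.isOpenMap _
      (((pullback.diagonal (U.ι ≫ f)).isClosedEmbedding.isClosed_range.preimage k.continuous).isOpen_compl)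
  · rintro ⟨u, hu⟩
    refine hz ⟨U.ι u, ?_⟩
    have := congr(m $hu)
    rw [← Scheme.Hom.comp_apply, ← Scheme.Hom.comp_apply, hdm, hk] at this
    simpa using this

end Groth.Agent.S13708
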