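import Groth.Statements.S13710
import Groth.Agent.H23.FFDescent
-- import your own Groth.Agent.* helpers here

set_option autoImplicit false
universe u
open CategoryTheory CategoryTheory.Limits AlgebraicGeometry
open ZeroCyc

namespace Groth.Agent.S13710

/-- Let f : X → Y be a morphism of schemes and g : Y' → Y a faithfully flat morphism (flat and
surjective, not assumed quasi-compact). Then f is an isomorphism exactly when it is quasi-compact
and its base change X ×_Y Y' → Y' along g is an isomorphism. -/
theorem result {X Y Y' : Scheme.{u}} (f : X ⟶ Y) (g : Y' ⟶ Y)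
    [Flat g] [Surjective g] :
    IsIso f ↔ QuasiCompact f ∧ IsIso (pullback.snd f g) := by
  exact ⟨fun _ => ⟨inferInstance, inferInstance⟩, fun ⟨_, _⟩ => Groth.Agent.H23.FFDescent.isIso_of_baseChange f g⟩

end Groth.Agent.S13710
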