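import Groth.Statements.S13712
import Groth.Agent.H23.ImageIntegral
-- import your own Groth.Agent.* helpers here

set_option autoImplicit false
universe u
open CategoryTheory CategoryTheory.Limits AlgebraicGeometry
open ZeroCyc

namespace Groth.Agent.S13712

/-- Let f : X → Y and g : Y → S be morphisms of schemes with g separated, such that the composite X → S
is integral with topologically finite fibres (every fibre is a finite set). Then the
scheme-theoretic image Y' of f, with its closed immersion Y' → Y, is integral over S, and Y' → S
again has topologically finite fibres. (The published statement is for algebraic spaces; this row is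
the case of schemes.) -/
theorem result {X Y S : Scheme.{u}} (f : X ⟶ Y) (g : Y ⟶ S)
    [IsSeparated g] [IsIntegralHom (f ≫ g)] (hfin : ∀ s : S, Set.Finite ((f ≫ g).base ⁻¹' {s})) :
    IsIntegralHom (f.imageι ≫ g) ∧ ∀ s : S, Set.Finite ((f.imageι ≫ g).base ⁻¹' {s}) := by
  
  exact H23.ImageIntegral.image_integral f g hfin

end Groth.Agent.S13712
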