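import Groth.Statements.S13720
import Groth.Agent.PolLib.Basic
-- import your own Groth.Agent.* helpers here

set_option autoImplicit false
universe u
open scoped TensorProduct
open ZeroCyc

namespace Groth.Agent.S13720

/-- Let B be the filtered direct limit of a directed system (B_i, t_ij : B_i → B_j) of commutative
algebras over the commutative ring A, with structure maps φ_i : B_i → B (jointly surjective, and an
element of B_i vanishing in B already vanishes in some B_j), and let F : B → C be a multiplicative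
polynomial law homogeneous of degree d, with restrictions F_i = F ∘ φ_i. Then an element b of B lies
in the kernel of F if and only if it is the image of some x ∈ B_i whose images in B_j lie in the
kernel of F_j for every j ≥ i; that is, the kernel of F is the direct limit of the kernels of the
F_i. -/
theorem result {A : Type u} [CommRing A] {B : Type u} [CommRing B] [Algebra A B]
    {C : Type u} [CommRing C] [Algebra A C] {ι : Type u} [Preorder ι] [IsDirected ι (fun i j => i ≤ j)] [Nonempty ι]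
    (Bi : ι → Type u) [∀ i, CommRing (Bi i)] [∀ i, Algebra A (Bi i)]
    (t : ∀ i j : ι, i ≤ j → (Bi i →ₐ[A] Bi j)) (φ : ∀ i : ι, Bi i →ₐ[A] B)
    (hcomp : ∀ (i j : ι) (h : i ≤ j), (φ j).comp (t i j h) = φ i)
    (hsurj : ∀ b : B, ∃ (i : ι) (x : Bi i), φ i x = b)
    (hzero : ∀ (i : ι) (x : Bi i), φ i x = 0 → ∃ (j : ι) (h : i ≤ j), t i j h x = 0)
    {d : ℕ} (F : PolLaw.MulLaw A B C d) (b : B) :
    b ∈ PolLaw.ker F.law ↔ ∃ (i : ι) (x : Bi i), φ i x = b ∧
      ∀ (j : ι) (h : i ≤ j), t i j h x ∈ PolLaw.ker (F.precomp (φ j)).law := by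
  classical
  constructor
  · intro hb
    obtain ⟨i, x, hx⟩ := hsurj b
    refine ⟨i, x, hx, fun j h => ?_⟩
    intro S _ _ u w
    have e : φ j (t i j h x) = b := by
      rw [← AlgHom.comp_apply, hcomp i j h, hx]
    show Groth.Agent.PolLib.ev (F.precomp (φ j)) S _ = Groth.Agent.PolLib.ev (F.precomp (φ j)) S _
    rw [Groth.Agent.PolLib.ev_precomp, Groth.Agent.PolLib.ev_precomp, map_add, map_mul,
      Groth.Agent.PolLib.bc_tmul, e]
    exact hb S _ _
  · rintro ⟨i, x, hx, hker⟩
    have lift : ∀ (S : Type u) [CommSemiring S] [Algebra A S] (z : S ⊗[A] B),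
        ∃ j, i ≤ j ∧ ∀ k, j ≤ k → ∃ z', Groth.Agent.PolLib.bc (φ k) S z' = z := by
      intro S _ _ z
      induction z using TensorProduct.induction_on with
      | zero => exact ⟨i, le_rfl, fun k _ => ⟨0, map_zero _⟩⟩
      | tmul s c =>
        obtain ⟨l, y, hy⟩ := hsurj c
        obtain ⟨j, hij, hlj⟩ := directed_of (fun a b => a ≤ b) i l
        refine ⟨j, hij, fun k hk => ⟨s ⊗ₜ[A] t l k (hlj.trans hk) y, ?_⟩⟩
        rw [Groth.Agent.PolLib.bc_tmul, ← AlgHom.comp_apply, hcomp l k _, hy]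
      | add z₁ z₂ h₁ h₂ =>
        obtain ⟨j₁, hi₁, hz₁⟩ := h₁
        obtain ⟨j₂, -, hz₂⟩ := h₂
        obtain ⟨j, ha, hb⟩ := directed_of (fun a b => a ≤ b) j₁ j₂
        refine ⟨j, hi₁.trans ha, fun k hk => ?_⟩
        obtain ⟨a, rfl⟩ := hz₁ k (ha.trans hk)
        obtain ⟨c, rfl⟩ := hz₂ k (hb.trans hk)
        exact ⟨a + c, map_add _ _ _⟩
    intro S _ _ u w
    obtain ⟨j₁, hi₁, hu⟩ := lift S u
    obtain ⟨j₂, -, hw⟩ := lift S w
    obtain ⟨j, ha, hb⟩ := directed_of (fun a b => a ≤ b) j₁ j₂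
    obtain ⟨u', rfl⟩ := hu j ha
    obtain ⟨w', rfl⟩ := hw j hb
    have e : φ j (t i j (hi₁.trans ha) x) = b := by
      rw [← AlgHom.comp_apply, hcomp i j _, hx]
    have h := hker j (hi₁.trans ha) S u' w'
    change Groth.Agent.PolLib.ev (F.precomp (φ j)) S _ = Groth.Agent.PolLib.ev (F.precomp (φ j)) S _ at h
    rw [Groth.Agent.PolLib.ev_precomp, Groth.Agent.PolLib.ev_precomp, map_add, map_mul,
      Groth.Agent.PolLib.bc_tmul, e] at h
    exact h

end Groth.Agent.S13720
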