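import Groth.Statements.S13722
import Groth.Agent.PolLib.Reduced
-- import your own Groth.Agent.* helpers here

set_option autoImplicit false
universe u
open scoped TensorProduct
open ZeroCyc

namespace Groth.Agent.S13722

/-- Let B and C be commutative algebras over the commutative ring A and F : B → C a multiplicative
polynomial law homogeneous of degree d. If C is reduced, then the quotient of B by the kernel of F
is reduced. In particular the image of a family of zero-cycles parametrised by a reduced base is
reduced. -/
theorem result {A : Type u} [CommRing A] {B : Type u} [CommRing B] [Algebra A B]
    {C : Type u} [CommRing C] [Algebra A C] [IsReduced C] {d : ℕ} (F : PolLaw.MulLaw A B C d) :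
    IsReduced (PolLaw.image F.law) := by
  exact Groth.Agent.PolLib.isReduced_image F

end Groth.Agent.S13722
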