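import Groth.Statements.S13725
import Groth.Agent.PolLib.Frob
-- import your own Groth.Agent.* helpers here

set_option autoImplicit false
universe u
open scoped TensorProduct
open ZeroCyc

namespace Groth.Agent.S13725

/-- Let k be a field of characteristic p > 0 and let F : k → k be the law x ↦ x^p, multiplicative and
homogeneous of degree p over k. The kernel of F is the zero ideal, but after the flat base change k
→ A' = k[X]/(X^p) the kernel of the base-changed law on A' ⊗_k k is not zero (the class of X lies in
it). So in characteristic p, forming the kernel of a multiplicative law is not compatible with flat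
base change. -/
theorem result {k : Type u} [Field k] (p : ℕ) [Fact p.Prime] [CharP k p] :
    PolLaw.ker (PolLaw.MulLaw.pow k k p).law = ⊥ ∧
      PolLaw.kerBC (PolLaw.MulLaw.pow k k p).law (AdjoinRoot ((Polynomial.X : Polynomial k) ^ p)) ≠ ⊥ := by
  exact Groth.Agent.PolLib.pow_ker_field k p

end Groth.Agent.S13725
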