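import Groth.Statements.S13726
import Groth.Agent.PolLib.Frob
-- import your own Groth.Agent.* helpers here

set_option autoImplicit false
universe u
open scoped TensorProduct
open ZeroCyc

namespace Groth.Agent.S13726

/-- Let k be a field of characteristic p > 0 and A = k[t_i : i ∈ ℕ]/(t_i^p : i ∈ ℕ). The law x ↦ x^p
from A to A is multiplicative and homogeneous of degree p over A; its kernel is the ideal generated
by the classes of the variables t_i, and this ideal is not finitely generated. Hence the image of a
family of zero-cycles need not be of finite presentation over the base even when X → S is. -/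
theorem result {k : Type u} [Field k] (p : ℕ) [Fact p.Prime] [CharP k p] :
    PolLaw.ker (PolLaw.MulLaw.pow
        (MvPolynomial ℕ k ⧸ Ideal.span (Set.range fun i : ℕ => (MvPolynomial.X i : MvPolynomial ℕ k) ^ p))
        (MvPolynomial ℕ k ⧸ Ideal.span (Set.range fun i : ℕ => (MvPolynomial.X i : MvPolynomial ℕ k) ^ p)) p).law =
      (Ideal.span (Set.range fun i : ℕ => (MvPolynomial.X i : MvPolynomial ℕ k))).map
        (Ideal.Quotient.mk (Ideal.span (Set.range fun i : ℕ => (MvPolynomial.X i : MvPolynomial ℕ k) ^ p))) ∧
    ¬ (PolLaw.ker (PolLaw.MulLaw.pow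
        (MvPolynomial ℕ k ⧸ Ideal.span (Set.range fun i : ℕ => (MvPolynomial.X i : MvPolynomial ℕ k) ^ p))
        (MvPolynomial ℕ k ⧸ Ideal.span (Set.range fun i : ℕ => (MvPolynomial.X i : MvPolynomial ℕ k) ^ p)) p).law).FG := by
  exact Groth.Agent.PolLib.pow_ker_truncated k p

end Groth.Agent.S13726
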