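import Groth.Statements.S13728
import Groth.Agent.H23.TSDirLim
-- import your own Groth.Agent.* helpers here

set_option autoImplicit false
universe u
open scoped TensorProduct
open ZeroCyc

namespace Groth.Agent.S13728

/-- The functor B ↦ TS^d_A(B) (symmetric tensors of degree d, the invariants of the symmetric group in
the d-fold tensor power) commutes with filtered direct limits. Concretely, let B be the direct limit
of a directed system (B_i, t_ij : B_i → B_j) of commutative algebras over the commutative ring A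
(t_ii the identity, t_jk ∘ t_ij = t_ik) with structure maps φ_i : B_i → B (compatible with the t_ij,
jointly surjective, and an element of B_i vanishing in B vanishes in some B_j). Then every element
of TS^d_A(B) is the image of an element of some TS^d_A(B_i), and an element of TS^d_A(B_i) whose
image in TS^d_A(B) is zero has image zero in TS^d_A(B_j) for some j ≥ i. -/
theorem result {A : Type u} [CommRing A] {B : Type u} [CommRing B] [Algebra A B]
    {ι : Type u} [Preorder ι] [IsDirected ι (fun i j => i ≤ j)] [Nonempty ι]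
    (Bi : ι → Type u) [∀ i, CommRing (Bi i)] [∀ i, Algebra A (Bi i)]
    (t : ∀ i j : ι, i ≤ j → (Bi i →ₐ[A] Bi j)) (φ : ∀ i : ι, Bi i →ₐ[A] B)
    (hcomp : ∀ (i j : ι) (h : i ≤ j), (φ j).comp (t i j h) = φ i)
    (hsurj : ∀ b : B, ∃ (i : ι) (x : Bi i), φ i x = b)
    (hzero : ∀ (i : ι) (x : Bi i), φ i x = 0 → ∃ (j : ι) (h : i ≤ j), t i j h x = 0)
    (hid : ∀ (i : ι) (h : i ≤ i), t i i h = AlgHom.id A (Bi i))
    (htrans : ∀ (i j k : ι) (hij : i ≤ j) (hjk : j ≤ k), (t j k hjk).comp (t i j hij) = t i k (hij.trans hjk)) (d : ℕ) :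
    (∀ z : SymTen.TS A B d, ∃ (i : ι) (y : SymTen.TS A (Bi i) d), SymTen.TSmap A d (φ i) y = z) ∧
      ∀ (i : ι) (y : SymTen.TS A (Bi i) d), SymTen.TSmap A d (φ i) y = 0 →
        ∃ (j : ι) (h : i ≤ j), SymTen.TSmap A d (t i j h) y = 0 := by
  
  exact H23.TSDirLim.isDirectLimit t φ hcomp hsurj hzero hid htrans d

end Groth.Agent.S13728
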