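import Groth.Statements.S1373
import Mathlib
import Groth.Agent.FlatMisc.UnivOpenTest

set_option autoImplicit false
universe u
open FlatMor

namespace Groth.Agent.S1373

open AlgebraicGeometry CategoryTheory Limits in
/-- (1) ⇔ (3): a morphism f : X → S is universally open if and only if for every n the induced morphism
from affine n-space over X to affine n-space over S is open. -/
theorem result {X S : Scheme.{u}} (f : X ⟶ S) :
    UniversallyOpen f ↔ ∀ n : ℕ, IsOpenMap ⇑(AffineSpace.map (ULift.{u} (Fin n)) f) := by
  constructor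
  · intro h n
    have : UniversallyOpen (AffineSpace.map (ULift.{u} (Fin n)) f) :=
      MorphismProperty.of_isPullback (P := @UniversallyOpen) (AffineSpace.isPullback_map f).flip h
    exact Scheme.Hom.isOpenMap _
  · intro h
    have himm : ∀ (n : ℕ) {X' Y' : Scheme.{u}} (j : X' ⟶ Y') [IsOpenImmersion j],
        Topology.IsOpenEmbedding ⇑(AffineSpace.map (ULift.{u} (Fin n)) j) := fun n X' Y' j _ =>
      have : IsOpenImmersion (AffineSpace.map (ULift.{u} (Fin n)) j) :=
        MorphismProperty.of_isPullback (P := @IsOpenImmersion) (AffineSpace.isPullback_map j).flip inferInstance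
      Scheme.Hom.isOpenEmbedding _
    have hloc : ∀ x : X, ∃ (U : X.Opens), x ∈ U ∧ IsAffineOpen U ∧ UniversallyOpen (U.ι ≫ f) := by
      intro x
      obtain ⟨V, hV, hxV, -⟩ := exists_isAffineOpen_mem_and_subset (U := (⊤ : S.Opens)) (x := f x) trivial
      obtain ⟨U, hU, hxU, hUV⟩ := exists_isAffineOpen_mem_and_subset (U := f ⁻¹ᵁ V) (x := x) hxV
      let φ := f.appLE V U hUV
      have e : Spec.map φ ≫ hV.fromSpec = hU.fromSpec ≫ f := hV.SpecMap_appLE_fromSpec f hU hUV
      let := φ.hom.toAlgebra
      have h1 : UniversallyOpen (Spec.map (CommRingCat.ofHom (algebraMap Γ(S, V) Γ(X, U)))) := by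
        refine FlatMisc.UnivOpenTest.universallyOpen_of_forall fun n b => ?_
        have hopen : IsOpenMap ⇑(AffineSpace.map (ULift.{u} (Fin n)) (Spec.map φ)) := by
          intro O hO
          have h2 : IsOpen (⇑(AffineSpace.map (ULift.{u} (Fin n)) (hU.fromSpec ≫ f)) '' O) := by
            rw [AffineSpace.map_comp]
            exact ((h n).comp (himm n hU.fromSpec).isOpenMap) O hO
          rw [← e, AffineSpace.map_comp] at h2
          have h3 : ⇑(AffineSpace.map (ULift.{u} (Fin n)) (Spec.map φ) ≫ AffineSpace.map (ULift.{u} (Fin n)) hV.fromSpec) '' O =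
              ⇑(AffineSpace.map (ULift.{u} (Fin n)) hV.fromSpec) '' (⇑(AffineSpace.map (ULift.{u} (Fin n)) (Spec.map φ)) '' O) := by
            rw [Set.image_image]
            rfl
          rw [h3] at h2
          exact (himm n hV.fromSpec).isOpen_iff_image_isOpen.2 h2
        rw [AffineSpace.map_SpecMap] at hopen
        have h4 : IsOpenMap ⇑(Spec.map (CommRingCat.ofHom (MvPolynomial.map (σ := ULift.{u} (Fin n)) φ.hom))) := by
          intro O hO
          have h5 := hopen _ (hO.preimage (AffineSpace.SpecIso (ULift.{u} (Fin n)) Γ(X, U)).hom.continuous)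
          have h6 := h5.preimage (AffineSpace.SpecIso (ULift.{u} (Fin n)) Γ(S, V)).inv.continuous
          convert h6 using 1
          ext z
          simp only [Set.mem_preimage, Set.mem_image, Scheme.Hom.comp_apply]
          constructor
          · rintro ⟨w, hw, rfl⟩
            refine ⟨(AffineSpace.SpecIso (ULift.{u} (Fin n)) Γ(X, U)).inv w, ?_, ?_⟩
            · rw [Scheme.inv_hom_apply]; exact hw
            · rw [Scheme.inv_hom_apply]
          · rintro ⟨w, hw, e'⟩
            exact ⟨_, hw, (Scheme.Hom.injective _) e'⟩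
        exact h4 _ PrimeSpectrum.isOpen_basicOpen
      refine ⟨U, hxU, hU, ?_⟩
      have h2 : UniversallyOpen (hU.fromSpec ≫ f) := by
        rw [← e]
        have : UniversallyOpen (Spec.map φ) := h1
        infer_instance
      have h3 : U.ι = hU.isoSpec.hom ≫ hU.fromSpec := by rw [IsAffineOpen.fromSpec, Iso.hom_inv_id_assoc]
      rw [h3, Category.assoc]
      infer_instance
    choose U hxU hU hUo using hloc
    rw [IsZariskiLocalAtSource.iff_of_iSup_eq_top (P := @UniversallyOpen) U
      (TopologicalSpace.Opens.ext (Set.eq_univ_of_forall fun x => by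
        simp only [TopologicalSpace.Opens.coe_iSup, Set.mem_iUnion, SetLike.mem_coe]
        exact ⟨x, hxU x⟩))]
    exact hUo

end Groth.Agent.S1373
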