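import Groth.Statements.S13730
import Groth.Agent.H23.GammaReduced
-- import your own Groth.Agent.* helpers here

set_option autoImplicit false
universe u
open scoped TensorProduct
open ZeroCyc

namespace Groth.Agent.S13730

/-- Let (C, γ) be the algebra of divided powers Γ^d_A(B) of a commutative A-algebra B with its universal
multiplicative law γ : B → C homogeneous of degree d (every multiplicative law B → C' homogeneous of
degree d factors uniquely through γ by an algebra map C → C'). If B is flat over A and K ⊗_A B is
reduced for every field K receiving a ring map from A (X = Spec B → S = Spec A is flat with
geometrically reduced fibres), then K ⊗_A C is reduced for every such K: Γ^d_A(B) again has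
geometrically reduced fibres over A. (The published statement is for a flat morphism of algebraic
spaces X → S with geometrically reduced fibres and also records that Γ^d(X/S) → S is flat; this row
is the affine case and states only the reducedness of the fibres, flatness of Γ^d_A(B) for flat B
being a separate statement.) -/
theorem result {A : Type u} [CommRing A] {B : Type u} [CommRing B] [Algebra A B] {C : Type u} [CommRing C] [Algebra A C]
    {d : ℕ} (γ : PolLaw.MulLaw A B C d) (hγ : PolLaw.IsGammaD γ) [Module.Flat A B]
    (hred : ∀ (K : Type u) [Field K] [Algebra A K], IsReduced (K ⊗[A] B)) :
    ∀ (K : Type u) [Field K] [Algebra A K], IsReduced (K ⊗[A] C) := by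
  
  intro K _ _
  exact H23.GammaReduced.isReduced_tensor_gammaD γ hγ hred K

end Groth.Agent.S13730
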