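import Groth.Statements.S8977
import Groth.Agent.HTopCov.Misc
import Groth.Agent.HTopCov.Spec
import Groth.Agent.S14770

set_option autoImplicit false
universe u
open HTop

namespace Groth.Agent.S8977

open CategoryTheory CategoryTheory.Limits AlgebraicGeometry in
/-- For a Noetherian scheme X and a finite family of finite type morphisms X_i → X, the induced morphism
from the coproduct of the X_i to X is universally submersive if and only if the family is an h
covering. -/
theorem result {X : Scheme.{u}} [IsNoetherian X] (E : PreZeroHypercover.{u} X) [Finite E.I₀] [∀ i, LocallyOfFiniteType (E.f i)] [∀ i, QuasiCompact (E.f i)] : SGA1.UnivSubmersive (Sigma.desc E.f) ↔ HTop.IsHCover E := by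
  haveI : CompactSpace (↑(∐ E.X) : Type u) := by
    haveI : ∀ i, CompactSpace (E.X i) := fun i => QuasiCompact.compactSpace_of_compactSpace (E.f i)
    refine ⟨?_⟩
    have e : (Set.univ : Set (∐ E.X : Scheme.{u})) = ⋃ i, Set.range (Sigma.ι E.X i) :=
      (Set.eq_univ_of_forall fun x => Set.mem_iUnion.mpr ((sigmaOpenCover E.X).exists_eq x)).symm
    rw [e]
    exact isCompact_iUnion fun i => isCompact_range (Sigma.ι E.X i).continuous
  haveI : QuasiCompact (Sigma.desc E.f) := quasiCompact_of_compactSpace _
  refine ⟨fun h => ⟨fun i => ?_, (Groth.Agent.HTopCov.isVCover_singleton_sigmaDesc_iff E).mp ?_⟩,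
    fun h => Groth.Agent.HTopCov.univSubmersive_sigmaDesc E h.2⟩
  · infer_instance
  refine Groth.Agent.HTopCov.isVCover_of_hasValLift _ ((Groth.Agent.HTopCov.hasValLift_iff_specializes _).mpr
    fun Z g z' z hz => ?_)
  obtain ⟨x, x', hx, e, e'⟩ := ((Groth.Agent.S14770.result _).mp h) _ _ _
    (IsPullback.of_hasPullback g (Sigma.desc E.f)) hz
  exact ⟨x', x, hx, e', e⟩

end Groth.Agent.S8977
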