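import Groth.Statements.S13732
import Groth.Agent.S8977
import Groth.Agent.HTopCov.QfhRefine

set_option autoImplicit false
universe u
open HTop

namespace Groth.Agent.S13732

open CategoryTheory CategoryTheory.Limits AlgebraicGeometry in
/-- Let Y be a separated Noetherian scheme and {p_j : Y_j → Y} a finite family of separated quasi-finite
morphisms of finite type whose induced morphism from the disjoint union of the Y_j to Y is
universally submersive (a qfh-covering). Then there are a finite surjective morphism p : Y' → Y and
finitely many open subschemes V_1, …, V_n covering Y' such that every composite V_i → Y' → Y factors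
through some member of the family. -/
theorem result {Y : Scheme.{u}} [IsNoetherian Y] [Y.IsSeparated] (E : PreZeroHypercover.{u} Y) [Finite E.I₀] [∀ j, LocallyOfFiniteType (E.f j)] [∀ j, QuasiCompact (E.f j)] [∀ j, LocallyQuasiFinite (E.f j)] [∀ j, IsSeparated (E.f j)] (hE : SGA1.UnivSubmersive (Sigma.desc E.f)) : ∃ (Y' : Scheme.{u}) (p : Y' ⟶ Y) (n : ℕ) (V : Fin n → Y'.Opens), IsFinite p ∧ Surjective p ∧ ⨆ i, V i = ⊤ ∧ ∀ i, ∃ (j : E.I₀) (h : (↑(V i) : Scheme.{u}) ⟶ E.X j), h ≫ E.f j = (V i).ι ≫ p := by
  exact Groth.Agent.HTopCov.exists_finite_surjective_refine E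
    (Groth.Agent.HTopCov.hasValLift_of_isVCover ((Groth.Agent.S8977.result E).1 hE).2)

end Groth.Agent.S13732
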