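import Groth.Statements.S13735
import Groth.Agent.FlatDvrVC5.SchemePoint
import Groth.Agent.SchTorsor.Props
import Groth.Agent.S13734
import Mathlib.RingTheory.Flat.TorsionFree

set_option autoImplicit false
set_option backward.isDefEq.respectTransparency false
set_option backward.isDefEq.respectTransparency.types false
universe u
open HTop

namespace Groth.Agent.S13735

open CategoryTheory CategoryTheory.Limits AlgebraicGeometry in
/-- Let S be a separated reduced Noetherian scheme, f : X → S a separated morphism locally of finite
type and g : S' → S a separated morphism of finite type which is universally submersive (an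
h-covering). If the base change of f along g is flat, then f is flat. -/
theorem result {X S S' : Scheme.{u}} [IsNoetherian S] [IsReduced S] [S.IsSeparated] (f : X ⟶ S) [LocallyOfFiniteType f] [IsSeparated f] (g : S' ⟶ S) [LocallyOfFiniteType g] [QuasiCompact g] [IsSeparated g] (hg : SGA1.UnivSubmersive g) (hflat : Flat (pullback.snd f g)) : Flat f := by
  haveI : Flat (pullback.snd f g) := hflat
  refine Flat.of_stalkMap f fun x => ?_
  refine Groth.Agent.FlatDvrVC5.flat_stalkMap_of_dvr f x fun A' _ _ _ φ _ x' _ _ => ?_
  let g₀ := Spec.map (CommRingCat.ofHom φ) ≫ S.fromSpecStalk (f.base x)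
  obtain ⟨R', _, _, _, ψ, h, hψ, he⟩ := (Groth.Agent.S13734.result g).1 hg A' g₀
  obtain ⟨χ, rfl⟩ : ∃ χ, Spec.map χ = ψ := ⟨Spec.preimage ψ, Spec.map_preimage ψ⟩
  have hinj : Function.Injective χ.hom := by
    rw [RingHom.injective_iff_ker_eq_bot, eq_bot_iff]
    obtain ⟨q, hq⟩ := hψ.surj (⊥ : PrimeSpectrum A')
    intro a ha
    have h' : q.asIdeal.comap χ.hom = ⊥ := congrArg PrimeSpectrum.asIdeal hq
    rw [← h']
    show χ.hom a ∈ q.asIdeal
    rw [RingHom.mem_ker.1 ha]
    exact zero_mem _
  haveI : Flat (Spec.map χ) := by
    rw [HasRingHomProperty.Spec_iff (P := @Flat)]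
    letI := χ.hom.toAlgebra
    haveI : Module.IsTorsionFree A' R' := Module.isTorsionFree_iff_algebraMap_injective.2 hinj
    show Module.Flat A' R'
    infer_instance
  have sq : IsPullback (pullback.snd (pullback.snd f g) h) (pullback.lift (pullback.fst (pullback.snd f g) h ≫ pullback.fst f g)
      (pullback.snd (pullback.snd f g) h ≫ Spec.map χ) (by
        rw [Category.assoc, pullback.condition, reassoc_of% (pullback.condition (f := pullback.snd f g) (g := h)), he,
          Category.assoc]))
      (Spec.map χ) (pullback.snd f g₀) := by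
    refine (IsPullback.of_right ?_ (pullback.lift_snd _ _ _) (IsPullback.of_hasPullback f g₀)).flip
    rw [pullback.lift_fst, ← he]
    exact (IsPullback.of_hasPullback (pullback.snd f g) h).paste_horiz (IsPullback.of_hasPullback f g)
  haveI : Flat (pullback.snd (pullback.snd f g) h) := MorphismProperty.pullback_snd _ _ hflat
  haveI : Flat (pullback.snd f g₀) := by
    refine MorphismProperty.of_isPullback_of_descendsAlong (P := @Flat)
      (Q := (@Surjective ⊓ @Flat ⊓ @QuasiCompact : MorphismProperty Scheme.{u})) sq ⟨⟨hψ, inferInstance⟩, inferInstance⟩ inferInstance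
  exact Flat.stalkMap (pullback.snd f g₀) x'

end Groth.Agent.S13735
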