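import Groth.Statements.S13736
import Groth.Agent.HTopCov.QfhUnibranch

set_option autoImplicit false
universe u
open HTop

namespace Groth.Agent.S13736

open CategoryTheory CategoryTheory.Limits AlgebraicGeometry in
/-- Let X be a separated irreducible Noetherian scheme whose local rings are all geometrically
unibranch, and {p_i : U_i → X} a finite family of separated quasi-finite morphisms of finite type
with every U_i irreducible. Then the induced morphism from the disjoint union of the U_i to X is
universally submersive (a qfh-covering) if and only if the dominant members p_i are jointly
surjective onto X; in that case the induced morphism from the disjoint union of the dominant members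
alone is already universally submersive. (The published statement does not require the U_i
irreducible; for the affine line X over a field and the single member U = (X minus a closed point) ⊔
(that point) → X, which is dominant and surjective, the quotient property fails, and the published
proof uses that every irreducible component of a dominant member dominates X, so the members are
taken irreducible here.) -/
theorem result {X : Scheme.{u}} [IsNoetherian X] [X.IsSeparated] [IrreducibleSpace ↥X] (hX : ∀ x : X, CAlg2.IsGeomUnibranch (X.presheaf.stalk x)) (E : PreZeroHypercover.{u} X) [Finite E.I₀] [∀ i, LocallyOfFiniteType (E.f i)] [∀ i, QuasiCompact (E.f i)] [∀ i, LocallyQuasiFinite (E.f i)] [∀ i, IsSeparated (E.f i)] [∀ i, IrreducibleSpace ↥(E.X i)] : (SGA1.UnivSubmersive (Sigma.desc E.f) ↔ ∀ x : X, ∃ (i : E.I₀) (u : E.X i), IsDominant (E.f i) ∧ E.f i u = x) ∧ ((∀ x : X, ∃ (i : E.I₀) (u : E.X i), IsDominant (E.f i) ∧ E.f i u = x) → SGA1.UnivSubmersive (Sigma.desc fun j : {i : E.I₀ // IsDominant (E.f i)} => E.f j.1)) := by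
  exact Groth.Agent.HTopCov.univSubmersive_iff_dominant hX E

end Groth.Agent.S13736
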