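import Groth.Statements.S13737
import Groth.Agent.HTopCov.DVR
-- import your own Groth.Agent.* helpers here

set_option autoImplicit false
universe u
open HTop

namespace Groth.Agent.S13737

open CategoryTheory CategoryTheory.Limits AlgebraicGeometry in
/-- Let X be a separated integral Noetherian scheme, b : X' → X a blow-up of X in a quasi-coherent sheaf
of ideals (characterised by the universal property of blowing up), with X' separated and b of finite
type, and let U be an open subscheme of X' whose composite U → X' → X is universally submersive (an
h-covering). Then U = X'. (The published statement takes X only integral; its proof applies the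
surjectivity of dominating components for Noetherian schemes, so this row takes X Noetherian.) -/
theorem result {X X' : Scheme.{u}} [IsNoetherian X] [X.IsSeparated] [IsIntegral X] [X'.IsSeparated] (𝓘 : X.IdealSheafData) (b : X' ⟶ X) [LocallyOfFiniteType b] [QuasiCompact b] (hb : BlowUp.IsBlowUp b 𝓘) (U : X'.Opens) (hU : SGA1.UnivSubmersive (U.ι ≫ b)) : U = ⊤ := haveI := LocallyOfFiniteType.isLocallyNoetherian b; Groth.Agent.HTopCov.eq_top_of_blowUp hb U hU

end Groth.Agent.S13737
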