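import Groth.Statements.S13738
import Groth.Agent.SGA1Q.GeomTrans
import Mathlib.AlgebraicGeometry.Properties

set_option autoImplicit false
universe u
open SGA1

namespace Groth.Agent.S13738

open CategoryTheory CategoryTheory.Limits AlgebraicGeometry in
/-- Let S be a separated irreducible Noetherian scheme, q : X → S finite and surjective with X
separated, and G a finite group acting on X by S-automorphisms, transitively on the geometric points
of X over every geometric point of S. Then every irreducible component of X maps onto S and G acts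
transitively on the set of irreducible components of X. -/
theorem result {X S : Scheme.{u}} [IsNoetherian S] [S.IsSeparated] [X.IsSeparated] [IrreducibleSpace ↥S] (q : X ⟶ S) [IsFinite q] [Surjective q] {G : Type u} [Group G] [Finite G] (ρ : G →* Aut X) (hρ : ∀ g : G, (ρ g).hom ≫ q = q) (htrans : ∀ (Ω : Type u) [Field Ω] [IsAlgClosed Ω] (τ₁ τ₂ : Spec (CommRingCat.of Ω) ⟶ X), τ₁ ≫ q = τ₂ ≫ q → ∃ g : G, τ₁ ≫ (ρ g).hom = τ₂) : (∀ T ∈ irreducibleComponents ↥X, Set.image (fun x => q x) T = Set.univ) ∧ ∀ T₁ ∈ irreducibleComponents ↥X, ∀ T₂ ∈ irreducibleComponents ↥X, ∃ g : G, Set.image (fun x => (ρ g).hom x) T₁ = T₂ := by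
  obtain ⟨x₀, hx₀⟩ := q.surjective (genericPoint ↥S)
  set T₀ := irreducibleComponent x₀ with hT₀
  have hcl₀ : IsClosed T₀ := isClosed_irreducibleComponent
  have himg₀ : (fun x => q x) '' T₀ = Set.univ := by
    have hc : IsClosed ((fun x => q x) '' T₀) := q.isClosedMap _ hcl₀
    refine Set.eq_univ_of_univ_subset ?_
    rw [← genericPoint_spec ↥S, hc.closure_subset_iff, Set.singleton_subset_iff]
    exact ⟨x₀, mem_irreducibleComponent, hx₀⟩
  have hmul : ∀ (g h : G) (z : X), (ρ (g * h)).hom z = (ρ g).hom ((ρ h).hom z) := by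
    intro g h z
    rw [map_mul, Aut.Aut_mul_def]
    rfl
  have hone : ∀ z : X, (ρ 1).hom z = z := by
    intro z
    rw [map_one]
    rfl
  have key : ∀ T ∈ irreducibleComponents ↥X, ∃ g : G, (fun x => (ρ g).hom x) '' T₀ = T := by
    intro T hT
    have hTcl := isClosed_of_mem_irreducibleComponents T hT
    obtain ⟨t, ht⟩ : ∃ t, IsGenericPoint t T :=
      ⟨_, hTcl.closure_eq ▸ hT.1.isGenericPoint_genericPoint_closure⟩
    obtain ⟨x, hx, hqx⟩ : q t ∈ (fun x => q x) '' T₀ := himg₀ ▸ trivial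
    obtain ⟨g, hg⟩ := SGA1Q.exists_smul_eq_of_geomTransitive q ρ htrans x t hqx
    have hirr : IsIrreducible ((fun x => (ρ g).hom x) '' T₀) :=
      isIrreducible_irreducibleComponent.image _ (ρ g).hom.continuous.continuousOn
    have hcl : IsClosed ((fun x => (ρ g).hom x) '' T₀) := (ρ g).hom.isClosedMap _ hcl₀
    have hle : T ⊆ (fun x => (ρ g).hom x) '' T₀ := by
      rw [← isGenericPoint_def.1 ht, hcl.closure_subset_iff, Set.singleton_subset_iff]
      exact ⟨x, hx, hg⟩
    exact ⟨g, Set.Subset.antisymm (hT.2 hirr hle) hle⟩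
  refine ⟨fun T hT => ?_, fun T₁ hT₁ T₂ hT₂ => ?_⟩
  · obtain ⟨g, rfl⟩ := key T hT
    rw [← himg₀]
    ext s
    simp only [Set.mem_image, exists_exists_and_eq_and]
    have : ∀ x, q ((ρ g).hom x) = q x := fun x => congr(($(hρ g)).base x)
    simp [this]
  · obtain ⟨g₁, rfl⟩ := key T₁ hT₁
    obtain ⟨g₂, rfl⟩ := key T₂ hT₂
    refine ⟨g₂ * g₁⁻¹, ?_⟩
    show (fun x => (ρ (g₂ * g₁⁻¹)).hom x) '' ((fun x => (ρ g₁).hom x) '' T₀) = _
    rw [Set.image_image]
    refine Set.image_congr' fun x => ?_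
    rw [hmul, ← hmul g₁⁻¹ g₁, inv_mul_cancel, hone]

end Groth.Agent.S13738
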