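import Groth.Statements.S13739
import Groth.Agent.SGA1Q.SigmaFinite
import Groth.Agent.SGA1Q.GeomTrans
import Mathlib.AlgebraicGeometry.Morphisms.Separated

set_option autoImplicit false
universe u
open SGA1

namespace Groth.Agent.S13739

open CategoryTheory CategoryTheory.Limits AlgebraicGeometry in
/-- Let S be a separated Noetherian scheme, q : X → S finite surjective with X separated, G a finite
group acting on X by S-automorphisms and transitively on the geometric points of X over every
geometric point of S, and r : Y → X a morphism with Y separated. If υ is the morphism from the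
disjoint union of G copies of Y to Y ×_S X (Y over S through r ≫ q) whose σ-th component is (id_Y, r
≫ σ), then υ is finite and surjective. -/
theorem result {X S Y : Scheme.{u}} [IsNoetherian S] [S.IsSeparated] [X.IsSeparated] [Y.IsSeparated] (q : X ⟶ S) [IsFinite q] [Surjective q] {G : Type u} [Group G] [Finite G] (ρ : G →* Aut X) (hρ : ∀ g : G, (ρ g).hom ≫ q = q) (htrans : ∀ (Ω : Type u) [Field Ω] [IsAlgClosed Ω] (τ₁ τ₂ : Spec (CommRingCat.of Ω) ⟶ X), τ₁ ≫ q = τ₂ ≫ q → ∃ g : G, τ₁ ≫ (ρ g).hom = τ₂) (r : Y ⟶ X) (υ : (∐ fun _ : G => Y) ⟶ pullback (r ≫ q) q) (hυ₁ : ∀ σ : G, Sigma.ι (fun _ : G => Y) σ ≫ υ ≫ pullback.fst (r ≫ q) q = 𝟙 Y) (hυ₂ : ∀ σ : G, Sigma.ι (fun _ : G => Y) σ ≫ υ ≫ pullback.snd (r ≫ q) q = r ≫ (ρ σ).hom) : IsFinite υ ∧ Surjective υ := by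
  constructor
  · have h : υ ≫ pullback.fst (r ≫ q) q = Sigma.desc fun _ : G => 𝟙 Y := by
      refine Sigma.hom_ext _ _ fun σ => ?_
      rw [Sigma.ι_desc]
      exact hυ₁ σ
    haveI : IsFinite (υ ≫ pullback.fst (r ≫ q) q) := by
      rw [h]
      exact SGA1Q.isFinite_sigmaDesc _ fun _ => inferInstance
    have h2 := (IsFinite.iff_isIntegralHom_and_locallyOfFiniteType
      (υ ≫ pullback.fst (r ≫ q) q)).1 inferInstance
    haveI := h2.1
    haveI := h2.2
    exact (IsFinite.iff_isIntegralHom_and_locallyOfFiniteType υ).2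
      ⟨IsIntegralHom.of_comp υ (pullback.fst (r ≫ q) q),
        locallyOfFiniteType_of_comp υ (pullback.fst (r ≫ q) q)⟩
  · refine ⟨fun z => ?_⟩
    let Ω := AlgebraicClosure ((pullback (r ≫ q) q).residueField z)
    let τ : Spec (CommRingCat.of Ω) ⟶ pullback (r ≫ q) q :=
      Spec.map (CommRingCat.ofHom (algebraMap ((pullback (r ≫ q) q).residueField z) Ω)) ≫
        (pullback (r ≫ q) q).fromSpecResidueField z
    obtain ⟨g, hg⟩ := htrans Ω (τ ≫ pullback.fst (r ≫ q) q ≫ r) (τ ≫ pullback.snd (r ≫ q) q)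
      (by simp only [Category.assoc, pullback.condition])
    have e : τ ≫ pullback.fst (r ≫ q) q ≫ Sigma.ι (fun _ : G => Y) g ≫ υ = τ := by
      apply pullback.hom_ext
      · simp only [Category.assoc, hυ₁, Category.comp_id]
      · simp only [Category.assoc, hυ₂]
        simpa only [Category.assoc] using hg
    refine ⟨(τ ≫ pullback.fst (r ≫ q) q ≫ Sigma.ι (fun _ : G => Y) g)
      (IsLocalRing.closedPoint Ω), ?_⟩
    have e' := congr(($e).base (IsLocalRing.closedPoint Ω))
    exact e'.trans (Scheme.fromSpecResidueField_apply z _)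

end Groth.Agent.S13739
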