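import Groth.Statements.S13741
import Groth.Agent.SGA1Q.GeomTrans

set_option autoImplicit false
universe u
open SGA1

namespace Groth.Agent.S13741

open CategoryTheory CategoryTheory.Limits AlgebraicGeometry in
/-- Let S be a separated Noetherian scheme, q : X → S finite and surjective with X separated, and G a
finite group acting on X by S-automorphisms. Assume that G acts transitively on every fibre of q,
that each residue field extension k(x)/k(q x) is normal, and that for each x every k(q
x)-automorphism of k(x) is induced by an element of G fixing x. Then for every algebraically closed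
field Ω, any two Ω-points of X with the same composite to S are conjugate under G. -/
theorem result {X S : Scheme.{u}} [IsNoetherian S] [S.IsSeparated] [X.IsSeparated] (q : X ⟶ S) [IsFinite q] [Surjective q] {G : Type u} [Group G] [Finite G] (ρ : G →* Aut X) (hρ : ∀ g : G, (ρ g).hom ≫ q = q) (h1 : ∀ x y : X, q x = q y → ∃ g : G, (ρ g).hom x = y) (h2 : ∀ x : X, @Normal (S.residueField (q x)) (X.residueField x) _ _ (q.residueFieldMap x).hom.toAlgebra) (h3 : ∀ (x : X) (σ : X.residueField x ≅ X.residueField x), q.residueFieldMap x ≫ σ.hom = q.residueFieldMap x → ∃ g : G, X.fromSpecResidueField x ≫ (ρ g).hom = Spec.map σ.hom ≫ X.fromSpecResidueField x) (Ω : Type u) [Field Ω] [IsAlgClosed Ω] (τ₁ τ₂ : Spec (CommRingCat.of Ω) ⟶ X) (hτ : τ₁ ≫ q = τ₂ ≫ q) : ∃ g : G, τ₁ ≫ (ρ g).hom = τ₂ := by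
  exact SGA1Q.geomTransitive q ρ hρ h1 h2 h3 Ω τ₁ τ₂ hτ

end Groth.Agent.S13741
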