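import Groth.Statements.S13742
import Groth.Agent.H23.FibreClosure
-- import your own Groth.Agent.* helpers here

set_option autoImplicit false
universe u
open Cyc

namespace Groth.Agent.S13742

open CategoryTheory CategoryTheory.Limits AlgebraicGeometry in
/-- Let S be a separated Noetherian scheme, f : X → S separated of finite type, z a point of X mapping
to a generic point of an irreducible component of S, and ι : Z → X a closed immersion from a reduced
scheme with image the closure of z (the closure of z with its reduced structure). Then Z ×_S Spec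
k(f z) is an integral scheme, and its image in the fibre X ×_S Spec k(f z) is the closure of the
unique point w of that fibre lying over z: Z ×_S Spec k(f z) is the closure of z in its fibre, with
reduced structure. -/
theorem result {X S Z : Scheme.{u}} [IsNoetherian S] [S.IsSeparated] [X.IsSeparated] (f : X ⟶ S) [LocallyOfFiniteType f] [QuasiCompact f] (z : X) (hz : closure {f z} ∈ irreducibleComponents ↥S) (ι : Z ⟶ X) [IsClosedImmersion ι] [IsReduced Z] (hZ : Set.range ι = closure {z}) : IsIntegral (pullback (ι ≫ f) (S.fromSpecResidueField (f z))) ∧ ∃ w : ↥(pullback f (S.fromSpecResidueField (f z))), pullback.fst f (S.fromSpecResidueField (f z)) w = z ∧ Set.range (pullback.map (ι ≫ f) (S.fromSpecResidueField (f z)) f (S.fromSpecResidueField (f z)) ι (𝟙 _) (𝟙 S) (Category.comp_id _) ((Category.comp_id _).trans (Category.id_comp _).symm)) = closure {w} := by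
  haveI := H23.FibreClosure.isReduced_fibre (ι ≫ f) hz
  set s := S.fromSpecResidueField (f z)
  obtain ⟨w, hw⟩ : ∃ w : ↥(pullback f s), pullback.fst f s w = z := H23.FibreClosure.exists_point f z
  set m : pullback (ι ≫ f) s ⟶ pullback f s :=
    pullback.map (ι ≫ f) s f s ι (𝟙 _) (𝟙 S) (Category.comp_id _) ((Category.comp_id _).trans (Category.id_comp _).symm)
  have sq : IsPullback m (pullback.fst (ι ≫ f) s) (pullback.fst f s) ι := by
    refine IsPullback.of_right ?_ (pullback.lift_fst _ _ _) (IsPullback.of_hasPullback f s).flip
    rw [show m ≫ pullback.snd f s = pullback.snd (ι ≫ f) s from (pullback.lift_snd _ _ _).trans (Category.comp_id _)]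
    exact (IsPullback.of_hasPullback (ι ≫ f) s).flip
  haveI : IsClosedImmersion m := MorphismProperty.of_isPullback sq.flip inferInstance
  have hfst : ∀ t, pullback.fst f s (m t) = ι (pullback.fst (ι ≫ f) s t) := fun t => by
    rw [← Scheme.Hom.comp_apply, ← Scheme.Hom.comp_apply, sq.w]
  have hemb := (pullback.fst f s).isEmbedding
  have hw_mem : w ∈ Set.range m := by
    obtain ⟨a, ha⟩ : z ∈ Set.range ι := hZ.ge (subset_closure rfl)
    obtain ⟨b, hb⟩ : a ∈ Set.range (pullback.fst (ι ≫ f) s) := by
      rw [Scheme.Pullback.range_fst, Scheme.range_fromSpecResidueField]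
      show f (ι a) = f z
      rw [ha]
    refine ⟨b, hemb.injective ?_⟩
    rw [hfst, hb, ha, hw]
  have hrange : Set.range m = closure {w} := by
    refine subset_antisymm ?_ (closure_minimal (Set.singleton_subset_iff.2 hw_mem) m.isClosedEmbedding.isClosed_range)
    rintro _ ⟨t, rfl⟩
    rw [hemb.closure_eq_preimage_closure_image, Set.image_singleton, hw]
    show pullback.fst f s (m t) ∈ closure {z}
    rw [hfst, ← hZ]
    exact ⟨_, rfl⟩
  haveI : IrreducibleSpace ↥(pullback (ι ≫ f) s) := by
    have h1 : IsIrreducible (Set.range m) := hrange ▸ isIrreducible_singleton.closure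
    haveI : IrreducibleSpace ↥(Set.range m) :=
      { toPreirreducibleSpace := Subtype.preirreducibleSpace h1.2
        toNonempty := h1.1.to_subtype }
    exact m.isClosedEmbedding.isEmbedding.toHomeomorph.symm.surjective.irreducibleSpace m.isClosedEmbedding.isEmbedding.toHomeomorph.symm.continuous
  exact ⟨isIntegral_of_irreducibleSpace_of_isReduced _, w, hw, hrange⟩

end Groth.Agent.S13742
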