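import Groth.Statements.S13744
import Groth.Agent.H23.FundCycle
import Groth.Agent.H23.FiniteFibreSum
import Groth.Agent.FDescent.QuasiFlat
import Groth.Agent.RelPC17.TruncFree

set_option autoImplicit false
universe u
open Cyc

namespace Groth.Agent.S13744

open CategoryTheory CategoryTheory.Limits AlgebraicGeometry

theorem length_toImage {A B : Scheme.{u}} (v : A ⟶ B) [IsOpenImmersion v] [QuasiCompact v] (a : A) :
    Module.length (v.image.presheaf.stalk (v.toImage a)) (v.image.presheaf.stalk (v.toImage a)) =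
      Module.length (A.presheaf.stalk a) (A.presheaf.stalk a) := by
  let e := (asIso (v.toImage.stalkMap a)).commRingCatIsoToRingEquiv
  exact H23.FiniteFibreSum.length_self_of_bijective e.toRingHom e.bijective

theorem length_eq_top_of_not_range {A B : Scheme.{u}} (v : A ⟶ B) [QuasiCompact v] {z : ↥v.image}
    (hz : z ∉ Set.range v.toImage) :
    Module.length (v.image.presheaf.stalk z) (v.image.presheaf.stalk z) = ⊤ := by
  by_contra hne
  haveI : IsArtinianRing (v.image.presheaf.stalk z) :=
    (isFiniteLength_iff_isNoetherian_isArtinian.1 (Module.length_ne_top_iff.1 hne)).2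
  obtain ⟨a, ha⟩ := FDescent.exists_specializes_of_mem_closure_range v.toImage (y := z)
    (by rw [v.toImage.denseRange.closure_range]; trivial)
  refine hz ⟨a, ?_⟩
  haveI := (CDiv6.primeOf ha).2
  exact H23.StalkPrimes.primeOf_inj ha (specializes_refl z)
      ((IsLocalRing.eq_maximalIdeal (IsArtinianRing.isMaximal_of_isPrime _)).trans (H23.ZeroSec.primeOf_refl' z).symm)

theorem subschemeFun_image {A B T U : Scheme.{u}} (v : A ⟶ B) [IsOpenImmersion v] [QuasiCompact v]
    (b : B ⟶ T) (u' : U ⟶ T) (hu : Function.Injective u') (i : A ⟶ U) (h : i ≫ u' = v ≫ b) (t : T) :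
    Cyc.subschemeFun (fun _ => (0 : ℤ)) 0 (v.ker.subschemeι ≫ b) t =
      ∑ᶠ t' ∈ {t' : U | u' t' = t}, Cyc.subschemeFun (fun _ => (0 : ℤ)) 0 i t' := by
  classical
  have hval : ∀ a, (v.ker.subschemeι ≫ b) (v.toImage a) = u' (i a) := fun a => by
    have : v.toImage ≫ v.ker.subschemeι ≫ b = i ≫ u' := by rw [h]; exact v.toImage_imageι_assoc b
    exact congr($(this).base a)
  have hL : Cyc.subschemeFun (fun _ => (0 : ℤ)) 0 (v.ker.subschemeι ≫ b) t =
      ∑ᶠ a ∈ {a : A | u' (i a) = t}, ((Module.length (A.presheaf.stalk a) (A.presheaf.stalk a)).toNat : ℤ) := by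
    rw [Cyc.subschemeFun, if_pos rfl]
    have hinj : Function.Injective v.toImage := v.toImage.isOpenEmbedding.injective
    rw [show {a : A | u' (i a) = t} = v.toImage ⁻¹' {z | (v.ker.subschemeι ≫ b) z = t} from
      Set.ext fun a => by show u' (i a) = t ↔ (v.ker.subschemeι ≫ b) (v.toImage a) = t; rw [hval]]
    rw [← finsum_mem_inter_support_eq' (fun z : ↥v.image => ((Module.length (v.image.presheaf.stalk z) (v.image.presheaf.stalk z)).toNat : ℤ))
      (v.toImage '' (v.toImage ⁻¹' {z | (v.ker.subschemeι ≫ b) z = t})) {z | (v.ker.subschemeι ≫ b) z = t}]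
    · rw [finsum_mem_image hinj.injOn]
      exact finsum_mem_congr rfl fun a _ => by rw [length_toImage]
    · intro z hz
      refine ⟨fun ⟨a, ha, e⟩ => e ▸ ha, fun hzt => ?_⟩
      by_cases hr : z ∈ Set.range v.toImage
      · obtain ⟨a, rfl⟩ := hr
        exact ⟨a, hzt, rfl⟩
      · exfalso
        refine hz ?_
        show ((Module.length _ _).toNat : ℤ) = 0
        rw [length_eq_top_of_not_range v hr]; rfl
  rw [hL]
  by_cases ht : t ∈ Set.range u'
  · obtain ⟨t0, rfl⟩ := ht
    rw [show {t' : U | u' t' = u' t0} = {t0} from Set.ext fun z => hu.eq_iff, finsum_mem_singleton,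
      Cyc.subschemeFun, if_pos rfl, show {a : A | u' (i a) = u' t0} = {a : A | i a = t0} from
        Set.ext fun a => hu.eq_iff]
  · rw [show {t' : U | u' t' = t} = ∅ from Set.eq_empty_of_forall_notMem fun z hz => ht ⟨z, hz⟩,
      show {a : A | u' (i a) = t} = ∅ from Set.eq_empty_of_forall_notMem fun z hz => ht ⟨i z, hz⟩,
      finsum_mem_empty, finsum_mem_empty]

open CategoryTheory CategoryTheory.Limits AlgebraicGeometry in
/-- Let S be a separated Noetherian scheme, p : X → S separated of finite type, ι : Z → X a closed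
immersion with Z integral, R a discrete valuation ring with fraction field K and x : Spec R → S. Let
φ be the scheme-theoretic image in Z ×_S Spec R of Z ×_S Spec K (the flat closure of the generic
fibre), regarded as a closed subscheme of X ×_S Spec R. Then the cycle of φ (coefficient at t =
length of the local ring of φ above t, an infinite length read as 0) equals the cycle of Z ×_S Spec
K pushed forward along the inclusion X ×_S Spec K → X ×_S Spec R. -/
theorem result {X S Z : Scheme.{u}} [IsNoetherian S] [S.IsSeparated] [X.IsSeparated] (p : X ⟶ S) [LocallyOfFiniteType p] [QuasiCompact p] (ι : Z ⟶ X) [IsClosedImmersion ι] [IsIntegral Z] (R : Type u) [CommRing R] [IsDomain R] [IsDiscreteValuationRing R] (x : Spec (CommRingCat.of R) ⟶ S) (t : ↥(pullback p x)) : Cyc.subschemeFun (fun _ => (0 : ℤ)) 0 ((pullback.map (ι ≫ p) (Spec.map (CommRingCat.ofHom (algebraMap R (FractionRing R))) ≫ x) (ι ≫ p) x (𝟙 Z) (Spec.map (CommRingCat.ofHom (algebraMap R (FractionRing R)))) (𝟙 S) ((Category.comp_id _).trans (Category.id_comp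 _).symm) (Category.comp_id _)).ker.subschemeι ≫ pullback.map (ι ≫ p) x p x ι (𝟙 _) (𝟙 S) (Category.comp_id _) ((Category.comp_id _).trans (Category.id_comp _).symm)) t = ∑ᶠ t' ∈ {t' : ↥(pullback p (Spec.map (CommRingCat.ofHom (algebraMap R (FractionRing R))) ≫ x)) | (pullback.map p (Spec.map (CommRingCat.ofHom (algebraMap R (FractionRing R))) ≫ x) p x (𝟙 X) (Spec.map (CommRingCat.ofHom (algebraMap R (FractionRing R)))) (𝟙 S) ((Category.comp_id _).trans (Category.id_comp _).symm) (Category.comp_id _)) t' = t}, Cyc.subschemeFun (fun _ => (0 : ℤ)) 0 (pullback.map (ι ≫ p) (Spec.map (CommRingCat.ofHom (algebraMap R (FractionRing R))) ≫ x) p (Spec.map (CommRingCat.ofHom (algebraMap R (FractionRing R))) ≫ x) ι (𝟙 _) (𝟙 S) (Category.comp_id _) ((Category.comp_id _).trans (Category.id_comp _).symm)) t' := by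
  classical
  obtain ⟨ϖ, hϖ⟩ := IsDiscreteValuationRing.exists_irreducible R
  haveI := Groth.Agent.RelPC17.TruncFree.isAway_fractionRing hϖ
  haveI : IsOpenImmersion (Spec.map (CommRingCat.ofHom (algebraMap R (FractionRing R)))) :=
    IsOpenImmersion.of_isLocalization ϖ
  set g := Spec.map (CommRingCat.ofHom (algebraMap R (FractionRing R))) with hg
  set v := pullback.map (ι ≫ p) (g ≫ x) (ι ≫ p) x (𝟙 Z) g (𝟙 S) ((Category.comp_id _).trans (Category.id_comp _).symm) (Category.comp_id _) with hv
  haveI : IsOpenImmersion v := inferInstance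
  haveI : IsLocallyNoetherian (pullback (ι ≫ p) x) := LocallyOfFiniteType.isLocallyNoetherian (pullback.snd (ι ≫ p) x)
  haveI : QuasiCompact v := inferInstance
  refine subschemeFun_image v _ _ ?_ _ ?_ t
  · exact (Scheme.Hom.isOpenEmbedding _).injective
  · rw [hv, pullback.map_comp, pullback.map_comp]
    congr 1 <;> simp

end Groth.Agent.S13744
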