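import Groth.Statements.S13746
import Groth.Agent.NQF.PushIso

set_option autoImplicit false
universe u
open CategoryTheory AlgebraicGeometry
open SemiFact

namespace Groth.Agent.S13746

/-- Let R be a discrete valuation ring with fraction field K, let X and Y be schemes flat over Spec R
and let π : Y → X be a proper morphism over Spec R whose base change along Spec K → Spec R is an
isomorphism. If the fibre of X over the closed point of Spec R is reduced, then the canonical map
O_X → π_* O_Y is an isomorphism: for every open V ⊆ X the ring map O_X(V) → O_Y(π⁻¹ V) is bijective. -/
theorem result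
    (R : Type u) [CommRing R] [IsDomain R] [IsDiscreteValuationRing R]
    (X Y : Over (Spec (CommRingCat.of R))) [Flat X.hom] [Flat Y.hom]
    (π : Y ⟶ X) [IsProper π.left]
    (hgen : IsIso ((Neron.genericFibre R).map π))
    [IsReduced (X.hom.fiber (IsLocalRing.closedPoint R))] :
    ∀ V : X.left.Opens, IsIso (π.left.app V) := by
  exact fun V => Groth.Agent.PushIso.isIso_app X Y π hgen V

end Groth.Agent.S13746
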