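import Groth.Statements.S13749
import Groth.Agent.H26.NeronCrit
import Groth.Agent.H26.DescentExt
import Mathlib.AlgebraicGeometry.Morphisms.Smooth

set_option autoImplicit false
universe u
open CategoryTheory AlgebraicGeometry
open CategoryTheory.Limits Neron

namespace Groth.Agent.S13749

/-- Let S be a locally Noetherian scheme, U ⊆ S a schematically dense open subscheme, N → S a smooth
separated morphism of finite type and g : S' → S a flat surjective morphism, and put U' = g⁻¹(U).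
Suppose the base change N ×_S S' → S' has the Néron mapping property with respect to U': for every
smooth S'-scheme Y', sending an S'-morphism Y' → N ×_S S' to its restriction over U' is a bijection
onto the U'-morphisms Y' ×_{S'} U' → (N ×_S S') ×_{S'} U'. Then N → S has the Néron mapping property
with respect to U: for every smooth S-scheme Y, restriction to U is a bijection from S-morphisms Y →
N onto U-morphisms Y ×_S U → N ×_S U. (The published statement is for an arbitrary base S and open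
U, with N an algebraic space which is a model of an abelian scheme over U, tested against smooth
schemes; this row takes N a scheme, drops the abelian-scheme hypothesis, and assumes S locally
Noetherian with U schematically dense, the setting in which schematic closures of U-sections commute
with flat base change and fill S'.) -/
theorem result
    {S S' : Scheme.{u}} [IsLocallyNoetherian S] (g : S' ⟶ S) [Flat g] [Surjective g]
    (U : S.Opens) (hU : CInt.IsSchematicallyDense U)
    (N : Over S) [Smooth N.hom] [IsSeparated N.hom] [QuasiCompact N.hom]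
    (hN' : ∀ Y' : Over S', Smooth Y'.hom →
      Function.Bijective (fun f : Y' ⟶ (Over.pullback g).obj N => (Over.pullback (g ⁻¹ᵁ U).ι).map f))
    (Y : Over S) [Smooth Y.hom] :
    Function.Bijective (fun f : Y ⟶ N => (Over.pullback U.ι).map f) := by
  haveI : IsLocallyNoetherian Y.left := LocallyOfFiniteType.isLocallyNoetherian Y.hom
  let W : Y.left.Opens := Y.hom ⁻¹ᵁ U
  have hW : CInt.IsSchematicallyDense W :=
    Groth.Agent.SchDenseLib.preimage_of_isLocallyNoetherian Y.hom U hU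
  refine (Groth.Agent.H26.bijective_pullback_map_iff U N.hom Y).2 fun h hh => ?_
  let Y₁ : Over S' := Over.mk (pullback.snd Y.hom g)
  haveI : Smooth Y₁.hom := inferInstanceAs (Smooth (pullback.snd Y.hom g))
  let π := pullback.fst Y.hom g
  haveI : Flat π := inferInstanceAs (Flat (pullback.fst Y.hom g))
  haveI : Surjective π := inferInstanceAs (Surjective (pullback.fst Y.hom g))
  have hle : Y₁.hom ⁻¹ᵁ (g ⁻¹ᵁ U) ≤ π ⁻¹ᵁ W := by
    show (pullback.snd Y.hom g ≫ g) ⁻¹ᵁ U ≤ (π ≫ Y.hom) ⁻¹ᵁ U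
    rw [pullback.condition]
  let r := π.resLE W (Y₁.hom ⁻¹ᵁ (g ⁻¹ᵁ U)) hle
  have hr : r ≫ W.ι = (Y₁.hom ⁻¹ᵁ (g ⁻¹ᵁ U)).ι ≫ π := Scheme.Hom.resLE_comp_ι _ _
  let h₁ : (Y₁.hom ⁻¹ᵁ (g ⁻¹ᵁ U)).toScheme ⟶ pullback N.hom g :=
    pullback.lift (r ≫ h) ((Y₁.hom ⁻¹ᵁ (g ⁻¹ᵁ U)).ι ≫ Y₁.hom) (by
      rw [Category.assoc, hh, reassoc_of% hr, pullback.condition, Category.assoc]
      rfl)
  have h₁f : h₁ ≫ pullback.fst N.hom g = r ≫ h := pullback.lift_fst _ _ _
  obtain ⟨g₁, ⟨hg₁, hg₁W⟩, -⟩ := (Groth.Agent.H26.bijective_pullback_map_iff (g ⁻¹ᵁ U) (pullback.snd N.hom g) Y₁).1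
    (hN' Y₁ inferInstance) h₁ (pullback.lift_snd _ _ _)
  change pullback Y.hom g ⟶ pullback N.hom g at g₁
  have hS : (g₁ ≫ pullback.fst N.hom g) ≫ N.hom = π ≫ Y.hom := by
    rw [Category.assoc, pullback.condition, reassoc_of% hg₁, pullback.condition]
    rfl
  have hge : π ⁻¹ᵁ W ≤ Y₁.hom ⁻¹ᵁ (g ⁻¹ᵁ U) := by
    show (π ≫ Y.hom) ⁻¹ᵁ U ≤ (pullback.snd Y.hom g ≫ g) ⁻¹ᵁ U
    rw [pullback.condition]
  have hgW : (π ⁻¹ᵁ W).ι ≫ g₁ ≫ pullback.fst N.hom g = (π ∣_ W) ≫ h := by
    have e1 : (pullback Y.hom g).homOfLE hge ≫ (Y₁.hom ⁻¹ᵁ (g ⁻¹ᵁ U)).ι = (π ⁻¹ᵁ W).ι := Scheme.homOfLE_ι _ _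
    rw [← e1, Category.assoc, reassoc_of% hg₁W, h₁f, ← Category.assoc]
    congr 1
    rw [← cancel_mono W.ι, Category.assoc, hr, morphismRestrict_ι, reassoc_of% e1]
  obtain ⟨k, hk, hkW⟩ := Groth.Agent.H26.DescentExt.exists_ext π Y.hom N.hom W h _ hW hS hgW
  exact ⟨k, ⟨hk, hkW⟩, fun k' hk' => Groth.Agent.SchDenseLib.hom_ext hW N.hom k' k
    (hk'.1.trans hk.symm) (hk'.2.trans hkW.symm)⟩

end Groth.Agent.S13749
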