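import Groth.Statements.S13750
import Groth.Agent.H26.NeronLocal

set_option autoImplicit false
universe u
open CategoryTheory AlgebraicGeometry
open CategoryTheory.Limits Neron

namespace Groth.Agent.S13750

/-- Let S be a locally Noetherian scheme, U ⊆ S an open subscheme and N → S a smooth separated morphism
of finite type having the Néron mapping property with respect to U: for every smooth S-scheme Y,
restriction to U is a bijection from S-morphisms Y → N onto U-morphisms Y ×_S U → N ×_S U. Let s be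
a point of S and S̃ = Spec O_{S,s} → S the canonical morphism. Then N ×_S S̃ → S̃ has the Néron
mapping property with respect to the preimage Ũ of U: for every smooth S̃-scheme Ỹ, restriction to Ũ
is a bijection from S̃-morphisms Ỹ → N ×_S S̃ onto Ũ-morphisms. (The published statement is for N an
algebraic space which is a Néron model of an abelian scheme over U and also covers the strict
henselisation at a geometric point; this row is the localisation case for a scheme N, with no
abelian-scheme hypothesis.) -/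
theorem result
    {S : Scheme.{u}} [IsLocallyNoetherian S] (U : S.Opens)
    (N : Over S) [Smooth N.hom] [IsSeparated N.hom] [QuasiCompact N.hom]
    (hN : ∀ Y : Over S, Smooth Y.hom →
      Function.Bijective (fun f : Y ⟶ N => (Over.pullback U.ι).map f))
    (s : S) (Y' : Over (Spec (S.presheaf.stalk s))) [Smooth Y'.hom] :
    Function.Bijective (fun f : Y' ⟶ (Over.pullback (S.fromSpecStalk s)).obj N =>
      (Over.pullback ((S.fromSpecStalk s) ⁻¹ᵁ U).ι).map f) := by
  haveI : IsLocallyNoetherian Y'.left := LocallyOfFiniteType.isLocallyNoetherian Y'.hom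
  let W : Y'.left.Opens := Y'.hom ⁻¹ᵁ (S.fromSpecStalk s ⁻¹ᵁ U)
  refine (Groth.Agent.H26.bijective_pullback_map_iff (S.fromSpecStalk s ⁻¹ᵁ U) (pullback.snd N.hom (S.fromSpecStalk s)) Y').2
    fun h hh => ?_
  have hN' : ∀ (Y : Over S), Smooth Y.hom → ∀ h : (Y.hom ⁻¹ᵁ U).toScheme ⟶ N.left,
      h ≫ N.hom = (Y.hom ⁻¹ᵁ U).ι ≫ Y.hom →
      ∃ g : Y.left ⟶ N.left, g ≫ N.hom = Y.hom ∧ (Y.hom ⁻¹ᵁ U).ι ≫ g = h := fun Y hY h hh =>
    ((Groth.Agent.H26.bijective_pullback_map_iff U N.hom Y).1 (hN Y hY) h hh).exists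
  have hh' : (h ≫ pullback.fst N.hom (S.fromSpecStalk s)) ≫ N.hom = W.ι ≫ Y'.hom ≫ S.fromSpecStalk s := by
    rw [Category.assoc, pullback.condition, reassoc_of% hh]
  choose gy hgyW hgyS using Groth.Agent.H26.NeronLocal.exists_stalk_ext U N.hom hN' s Y'.hom
    (h ≫ pullback.fst N.hom (S.fromSpecStalk s)) hh'
  have huN : ∀ (Y : Over S), Smooth Y.hom → ∀ a b : Y.left ⟶ N.left, a ≫ N.hom = Y.hom → b ≫ N.hom = Y.hom →
      (Y.hom ⁻¹ᵁ U).ι ≫ a = (Y.hom ⁻¹ᵁ U).ι ≫ b → a = b := fun Y hY a b ha hb hab =>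
    ((Groth.Agent.H26.bijective_pullback_map_iff U N.hom Y).1 (hN Y hY) ((Y.hom ⁻¹ᵁ U).ι ≫ a)
      (by rw [Category.assoc, ha])).unique ⟨ha, rfl⟩ ⟨hb, hab.symm⟩
  obtain ⟨g, hg, hgW⟩ := Groth.Agent.H26.DescentExt.exists_ext_of_stalks (Y'.hom ≫ S.fromSpecStalk s) N.hom W
    (h ≫ pullback.fst N.hom (S.fromSpecStalk s))
    (fun P p _ a b ha hb hab => by
      haveI : Smooth (p ≫ Y'.hom) := inferInstance
      exact Groth.Agent.H26.NeronLocal.unique_ext U N.hom huN s (p ≫ Y'.hom) a b
        (ha.trans (Category.assoc _ _ _).symm) (hb.trans (Category.assoc _ _ _).symm) hab)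
    gy hgyW hgyS
  refine ⟨pullback.lift g Y'.hom hg, ⟨pullback.lift_snd _ _ _, ?_⟩, fun g' hg' => ?_⟩
  · apply pullback.hom_ext
    · rw [Category.assoc, pullback.lift_fst]
      exact hgW
    · rw [Category.assoc, pullback.lift_snd]
      exact hh.symm
  · apply pullback.hom_ext
    · rw [pullback.lift_fst]
      refine Groth.Agent.H26.NeronLocal.unique_ext U N.hom huN s Y'.hom _ _ ?_ hg ?_
      · rw [Category.assoc, pullback.condition, reassoc_of% hg'.1]
      · show W.ι ≫ g' ≫ pullback.fst _ _ = W.ι ≫ g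
        rw [hgW]
        exact (Category.assoc _ _ _).symm.trans (congrArg (· ≫ pullback.fst _ _) hg'.2)
    · rw [pullback.lift_snd]
      exact hg'.1

end Groth.Agent.S13750
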