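import Groth.Statements.S13751
import Groth.Agent.H26.AbExt.Global

set_option autoImplicit false
universe u
open CategoryTheory CategoryTheory.Limits AlgebraicGeometry MonObj
open Neron

namespace Groth.Agent.S13751

/-- Let S be a locally Noetherian scheme all of whose local rings are regular, let U ⊆ S be a dense open
subscheme and let A → S be an abelian scheme: a proper smooth group scheme over S whose geometric
fibres are connected. Then A is a Néron model of its restriction A ×_S U over S, in the sense that
for every smooth S-scheme Y the restriction map from S-morphisms Y → A to U-morphisms Y ×_S U → A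
×_S U is a bijection. (The published statement is for an abelian algebraic space over a regular base
and does not ask U to be dense; for U empty and A of positive relative dimension the identity and
the zero map of A both restrict to the empty morphism, so uniqueness fails, and the published
uniqueness argument uses density — this row takes A a scheme and U dense.) -/
theorem result
    {S : Scheme.{u}} [IsLocallyNoetherian S] (hreg : ∀ s : S, IsRegularLocalRing (S.presheaf.stalk s))
    (U : S.Opens) (hU : Dense (U : Set S))
    (A : Over S) [GrpObj A] [IsProper A.hom] [Smooth A.hom]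
    (hconn : ∀ (L : Type u) [Field L] (t : Spec (CommRingCat.of L) ⟶ S), ConnectedSpace ↑(pullback A.hom t))
    (Y : Over S) [Smooth Y.hom] :
    Function.Bijective (fun f : Y ⟶ A => (Over.pullback U.ι).map f) := by
  haveI : GeometricallyConnected A.hom := ⟨fun L _ t Z fst snd sq => by
    haveI := hconn L t
    exact (Scheme.Hom.homeomorph sq.isoPullback.inv).surjective.connectedSpace
      (Scheme.Hom.homeomorph sq.isoPullback.inv).continuous⟩
  haveI : IsLocallyNoetherian Y.left := LocallyOfFiniteType.isLocallyNoetherian Y.hom
  have hY := fun y => Groth.Agent.WeilExt.isRegularLocalRing_stalk hreg Y.hom y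
  let P := pullback Y.hom U.ι
  let j : P ⟶ Y.left := pullback.fst Y.hom U.ι
  have hjr : Set.range j = Y.hom ⁻¹' (U : Set S) := by
    rw [Scheme.Pullback.range_fst, Scheme.Opens.range_ι]
  have hW : Dense (j.opensRange : Set Y.left) := by
    rw [Scheme.Hom.coe_opensRange, hjr]
    exact hU.preimage Y.hom.isOpenMap
  let i : P ≅ j.opensRange.toScheme := j.isoOpensRange
  have hi : i.hom ≫ j.opensRange.ι = j := j.isoOpensRange_hom_ι
  have hij : ∀ {Z : Scheme.{u}} (k : Y.left ⟶ Z), i.inv ≫ j ≫ k = j.opensRange.ι ≫ k := fun k =>
    (Iso.inv_comp_eq _).2 (((Category.assoc _ _ _).symm.trans (congrArg (· ≫ k) hi)).symm)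
  haveI : IsDominant j := ⟨by rw [DenseRange]; simpa using hW⟩
  constructor
  · intro f g hfg
    apply Over.OverMorphism.ext
    have h1 := congrArg (fun k => CommaMorphism.left k ≫ pullback.fst A.hom U.ι) hfg
    simp only [Over.pullback_map_left, pullback.lift_fst] at h1
    obtain ⟨k, -, hk⟩ := Groth.Agent.H26.AbExt.existsUnique_ext A hY Y.hom j.opensRange hW
      (i.inv ≫ j ≫ f.left) (by rw [Category.assoc, Category.assoc, Over.w f, hij])
    refine (hk f.left ⟨Over.w f, ?_⟩).trans (hk g.left ⟨Over.w g, ?_⟩).symm
    · rw [← cancel_epi i.hom, reassoc_of% hi, i.hom_inv_id_assoc]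
    · rw [← cancel_epi i.hom, reassoc_of% hi, i.hom_inv_id_assoc]
      exact h1.symm
  · intro h
    let hl : P ⟶ pullback A.hom U.ι := h.left
    have hw : hl ≫ pullback.snd A.hom U.ι = pullback.snd Y.hom U.ι := Over.w h
    obtain ⟨g, ⟨hg, hgW⟩, -⟩ := Groth.Agent.H26.AbExt.existsUnique_ext A hY Y.hom j.opensRange hW
      (i.inv ≫ hl ≫ pullback.fst A.hom U.ι) (by
        rw [Category.assoc, Category.assoc, pullback.condition, reassoc_of% hw, ← pullback.condition]
        exact hij Y.hom)
    refine ⟨Over.homMk g hg, Over.OverMorphism.ext ?_⟩
    simp only [Over.pullback_map_left, Over.homMk_left]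
    refine pullback.hom_ext ?_ ?_
    · rw [pullback.lift_fst]
      show j ≫ g = hl ≫ _
      rw [← reassoc_of% hi, hgW, i.hom_inv_id_assoc]
    · rw [pullback.lift_snd]
      exact hw.symm

end Groth.Agent.S13751
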