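import Groth.Statements.S13758
import Groth.Agent.LabGraph6.Cartier

set_option autoImplicit false
universe u
open LabGraph

namespace Groth.Agent.S13758

/-- Let G be a finite connected multigraph with vertex set V, edge set E, endpoint map E → V × V (whose
component order fixes an orientation) and positive integer edge labels l. Then the labels along
every circuit of G have greatest common divisor 1 (G is circuit-coprime) if and only if, for every
integer edge vector x, there is an integer edge vector y such that x − l·y is orthogonal to every
integer cycle: Σ_e γ(e) (x(e) − l(e) y(e)) = 0 for all γ : E → ℤ with zero boundary. (The published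
statement says that the r nonzero diagonal entries of the Smith normal form of the labelled circuit
matrix, r the first Betti number, are all equal to 1; since the fundamental circuits of a spanning
tree form a basis of the lattice of integer cycles, this is the surjectivity of x ↦ (γ ↦ Σ_e γ(e)
l(e) x(e)) from ℤ^E onto the dual of the cycle lattice, which is the condition stated here.) -/
theorem result
    {V E : Type u} [Fintype V] [Fintype E] [DecidableEq V] [DecidableEq E]
    (ends : E → V × V) (l : E → ℕ) (hl : ∀ e, 0 < l e) (hconn : LabGraph.Connected ends) :
    LabGraph.IsCircuitCoprime ends l ↔
      ∀ x : E → ℤ, ∃ y : E → ℤ, ∀ γ : E → ℤ, (∀ v : V, LabGraph.boundary ends γ v = 0) →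
        ∑ e : E, γ e * (x e - (l e : ℤ) * y e) = 0 := by
  exact Groth.Agent.LabGraph6.isCircuitCoprime_iff_orthogonal hconn

end Groth.Agent.S13758
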