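import Groth.Statements.S13771
import Groth.Agent.PLieLib.Exists
-- import your own Groth.Agent.* helpers here

set_option autoImplicit false
universe u v w
open PLie

namespace Groth.Agent.S13771

/-- Let R be a commutative ring of prime characteristic p, L₁ and L₂ Lie algebras over R, φ a p-mapping
on L₁ and f : L₁ → L₂ a morphism of Lie algebras whose kernel is stable under φ (a p-ideal). Then
the image f(L₁), a Lie subalgebra of L₂, carries exactly one p-mapping ψ for which the corestriction
of f to its image is a morphism of p-Lie algebras, i.e. ψ (f x) = f (φ x) for all x. -/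
theorem result (R : Type u) [CommRing R] (p : ℕ) [Fact p.Prime] [CharP R p]
    (L₁ : Type v) [LieRing L₁] [LieAlgebra R L₁] (L₂ : Type w) [LieRing L₂] [LieAlgebra R L₂]
    (φ : PLie.PMap R p L₁) (f : L₁ →ₗ⁅R⁆ L₂) (hker : ∀ x : L₁, f x = 0 → f (φ x) = 0) :
    ∃! ψ : PLie.PMap R p f.range, PLie.IsPHom φ ψ f.rangeRestrict := by
  classical
  let F := f.rangeRestrict
  have hword : ∀ (n : List Bool) (x y : L₁), F (PLie.bracketWord (PLie.pair x y) y n) =
      PLie.bracketWord (PLie.pair (F x) (F y)) (F y) n := by
    intro n x y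
    induction n with
    | nil => rfl
    | cons i n ih =>
      rw [PLie.bracketWord_cons, PLie.bracketWord_cons, LieHom.map_lie, ih]
      cases i <;> rfl
  have hJ : ∀ x y : L₁, F (PLie.jacobson R p x y) = PLie.jacobson R p (F x) (F y) := by
    intro x y
    show (F : L₁ →ₗ[R] f.range) (PLie.jacobson R p x y) = _
    simp only [PLie.jacobson, map_sum, map_smul]
    exact Finset.sum_congr rfl fun t _ => congrArg _ (hword _ x y)
  have hJ0 : ∀ a : f.range, PLie.jacobson R p a 0 = 0 := fun a => by
    refine Finset.sum_eq_zero fun t _ => ?_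
    rw [show PLie.bracketWord (PLie.pair a 0) 0 (List.ofFn t) = 0 from ?_, smul_zero]
    induction List.ofFn t with
    | nil => rfl
    | cons i n ih => rw [PLie.bracketWord_cons, ih, lie_zero]
  have hF0 : ∀ z, F z = 0 ↔ f z = 0 := fun z => Subtype.ext_iff
  have hwd : ∀ x x' : L₁, F x = F x' → F (φ x) = F (φ x') := by
    intro x x' h
    have hk : F (x' - x) = 0 := by rw [map_sub, h, sub_self]
    have h2 : F (φ (x' - x)) = 0 := (hF0 _).mpr (hker _ ((hF0 _).mp hk))
    conv_rhs => rw [← add_sub_cancel x x', φ.map_add, map_sub, map_add, hJ, hk, hJ0, h2, add_zero, sub_zero]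
  have hsurj : Function.Surjective F := f.surjective_rangeRestrict
  let s := Function.surjInv hsurj
  have hs : ∀ a, F (s a) = a := Function.surjInv_eq hsurj
  have hψ : ∀ x, F (φ (s (F x))) = F (φ x) := fun x => hwd _ _ (hs _)
  refine ⟨{ toFun := fun a => F (φ (s a)), map_smul := fun c a => ?_, ad_map := fun a => ?_, map_add := fun a c => ?_ },
    fun x => (hψ x).symm, fun ψ hψ' => ?_⟩
  · obtain ⟨x, rfl⟩ := hsurj a
    rw [← map_smul, hψ, hψ, φ.map_smul, map_smul]
  · obtain ⟨x, rfl⟩ := hsurj a
    refine LinearMap.ext fun b => ?_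
    obtain ⟨z, rfl⟩ := hsurj b
    rw [hψ, LieAlgebra.ad_apply, ← LieHom.map_lie, ← LieAlgebra.ad_apply R, φ.ad_map]
    generalize p = n
    induction n generalizing z with
    | zero => rfl
    | succ n ih =>
      rw [pow_succ, pow_succ, Module.End.mul_apply, Module.End.mul_apply, ih]
      simp only [LieAlgebra.ad_apply, LieHom.map_lie]
  · obtain ⟨x, rfl⟩ := hsurj a
    obtain ⟨z, rfl⟩ := hsurj c
    rw [← map_add, hψ, hψ, hψ, φ.map_add, map_sub, map_add, hJ]
  · cases ψ with
    | mk g _ _ _ =>
      congr
      refine funext fun a => ?_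
      obtain ⟨x, rfl⟩ := hsurj a
      exact (hψ' x).symm.trans (hψ x).symm

end Groth.Agent.S13771
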