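import Groth.Statements.S13775
import Groth.Agent.PLieLib.Exists
-- import your own Groth.Agent.* helpers here

set_option autoImplicit false
universe u v
open PLie

namespace Groth.Agent.S13775

/-- Let R be a commutative ring of prime characteristic p and L a Lie algebra over R, free as a module
with basis x = bs 0, y = bs 1, z = bs 2 and brackets [x,y] = y, [x,z] = y + z, [y,z] = 0. Then L
carries no p-mapping. (The published statement is the corresponding entry of the classification
table of three-dimensional Lie algebras over an algebraically closed field of characteristic p; this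
row states it over every commutative ring of characteristic p.) -/
theorem result (R : Type u) [CommRing R] (p : ℕ) [Fact p.Prime] [CharP R p]
    (L : Type v) [LieRing L] [LieAlgebra R L] (bs : Module.Basis (Fin 3) R L)
    (hxy : ⁅bs 0, bs 1⁆ = bs 1) (hxz : ⁅bs 0, bs 2⁆ = bs 1 + bs 2) (hyz : ⁅bs 1, bs 2⁆ = 0) :
    IsEmpty (PLie.PMap R p L) := by
  have s01 : ⁅bs 1, bs 0⁆ = -⁅bs 0, bs 1⁆ := (lie_skew _ _).symm
  have s02 : ⁅bs 2, bs 0⁆ = -⁅bs 0, bs 2⁆ := (lie_skew _ _).symm
  have s12 : ⁅bs 2, bs 1⁆ = -⁅bs 1, bs 2⁆ := (lie_skew _ _).symm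
  constructor
  intro φ
  have hx : ∀ m : ℕ, (LieAlgebra.ad R L (bs 0) ^ m) (bs 2) = (m : R) • bs 1 + bs 2 ∧
      (LieAlgebra.ad R L (bs 0) ^ m) (bs 1) = bs 1 := by
    intro m
    induction m with
    | zero => simp
    | succ m ih =>
      simp only [pow_succ', Module.End.mul_apply, ih.1, ih.2, LieAlgebra.ad_apply, lie_add, lie_smul, hxy, hxz]
      exact ⟨by rw [Nat.cast_succ, add_smul, one_smul]; abel, trivial⟩
  have h := LinearMap.congr_fun (φ.ad_map (bs 0)) (bs 2)
  rw [(hx p).1, CharP.cast_eq_zero, zero_smul, zero_add] at h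
  obtain ⟨c, hc⟩ : ∃ c : Fin 3 → R, φ.toFun (bs 0) = ∑ i, c i • bs i := ⟨_, (bs.sum_repr _).symm⟩
  rw [hc] at h
  have h1 := congrArg (fun z => bs.repr z 1) h
  have h2 := congrArg (fun z => bs.repr z 2) h
  simp [Fin.sum_univ_three, hxz, hyz] at h1 h2
  have := CharP.nontrivial_of_char_ne_one (R := R) (Fact.out : p.Prime).ne_one
  exact one_ne_zero (h2.symm.trans h1)

end Groth.Agent.S13775
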