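import Groth.Statements.S13776
import Groth.Agent.PLieLib.Exists
-- import your own Groth.Agent.* helpers here

set_option autoImplicit false
universe u v
open PLie

namespace Groth.Agent.S13776

/-- Let R be a commutative ring of prime characteristic p, t ∈ R, and L a Lie algebra over R, free as a
module with basis x = bs 0, y = bs 1, z = bs 2 and brackets [x,y] = y, [x,z] = t • z, [y,z] = 0.
Then L carries a p-mapping if and only if t ^ p = t. (The published statement is the corresponding
entry of the classification table over an algebraically closed field of characteristic p, where the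
condition reads: t lies in the prime field; this row states it over every commutative ring of
characteristic p.) -/
theorem result (R : Type u) [CommRing R] (p : ℕ) [Fact p.Prime] [CharP R p] (t : R)
    (L : Type v) [LieRing L] [LieAlgebra R L] (bs : Module.Basis (Fin 3) R L)
    (hxy : ⁅bs 0, bs 1⁆ = bs 1) (hxz : ⁅bs 0, bs 2⁆ = t • bs 2) (hyz : ⁅bs 1, bs 2⁆ = 0) :
    Nonempty (PLie.PMap R p L) ↔ t ^ p = t := by
  obtain ⟨n, hn⟩ : ∃ n, p = n + 2 := ⟨p - 2, by have := (Fact.out : p.Prime).two_le; omega⟩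
  have s01 : ⁅bs 1, bs 0⁆ = -⁅bs 0, bs 1⁆ := (lie_skew _ _).symm
  have s02 : ⁅bs 2, bs 0⁆ = -⁅bs 0, bs 2⁆ := (lie_skew _ _).symm
  have s12 : ⁅bs 2, bs 1⁆ = -⁅bs 1, bs 2⁆ := (lie_skew _ _).symm
  have hx : ∀ m : ℕ, (LieAlgebra.ad R L (bs 0) ^ m) (bs 1) = bs 1 ∧
      (LieAlgebra.ad R L (bs 0) ^ m) (bs 2) = t ^ m • bs 2 := by
    intro m
    induction m with
    | zero => simp
    | succ m ih =>
      simp only [pow_succ', Module.End.mul_apply, ih.1, ih.2, LieAlgebra.ad_apply, lie_smul, hxy, hxz, smul_smul]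
      simp [mul_comm]
  rw [Groth.Agent.PLieLib.nonempty_pmap_iff bs]
  constructor
  · intro h
    obtain ⟨w, hw⟩ := h 0
    obtain ⟨c, rfl⟩ : ∃ c : Fin 3 → R, w = ∑ i, c i • bs i := ⟨_, (bs.sum_repr w).symm⟩
    have h1 := congrArg (fun z => bs.repr z 1) (LinearMap.congr_fun hw (bs 1))
    have h2 := congrArg (fun z => bs.repr z 2) (LinearMap.congr_fun hw (bs 2))
    simp [(hx p).1, (hx p).2, Fin.sum_univ_three, s12, hxy, hxz, hyz, smul_smul] at h1 h2
    rw [h2, ← h1, one_mul]
  · intro ht i
    fin_cases i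
    · refine ⟨bs 0, bs.ext fun j => ?_⟩
      fin_cases j
      · rw [hn, pow_succ, Module.End.mul_apply]; simp
      · simp [(hx p).1, hxy]
      · simp [(hx p).2, hxz, ht]
    · refine ⟨0, bs.ext fun j => ?_⟩
      rw [hn, show n + 2 = n + 1 + 1 from rfl, pow_succ, pow_succ, mul_assoc, Module.End.mul_apply,
        Module.End.mul_apply]
      fin_cases j <;> simp [s01, s02, s12, hxy, hxz, hyz]
    · refine ⟨0, bs.ext fun j => ?_⟩
      rw [hn, show n + 2 = n + 1 + 1 from rfl, pow_succ, pow_succ, mul_assoc, Module.End.mul_apply,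
        Module.End.mul_apply]
      fin_cases j <;> simp [s01, s02, s12, hxy, hxz, hyz]

end Groth.Agent.S13776
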