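import Groth.Statements.S13777
import Groth.Agent.PLieLib.Exists
-- import your own Groth.Agent.* helpers here

set_option autoImplicit false
universe u v
open PLie

namespace Groth.Agent.S13777

/-- Let R be a commutative ring of characteristic 2 and L a Lie algebra over R, free as a module with
basis x = bs 0, y = bs 1, z = bs 2 and brackets [x,y] = z, [x,z] = −x, [y,z] = y. Then L carries no
2-mapping. (The published statement is the corresponding entry of the classification table over an
algebraically closed field of characteristic 2; this row states it over every commutative ring of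
characteristic 2.) -/
theorem result (R : Type u) [CommRing R] [CharP R 2]
    (L : Type v) [LieRing L] [LieAlgebra R L] (bs : Module.Basis (Fin 3) R L)
    (hxy : ⁅bs 0, bs 1⁆ = bs 2) (hxz : ⁅bs 0, bs 2⁆ = -bs 0) (hyz : ⁅bs 1, bs 2⁆ = bs 1) :
    IsEmpty (PLie.PMap R 2 L) := by
  have s01 : ⁅bs 1, bs 0⁆ = -⁅bs 0, bs 1⁆ := (lie_skew _ _).symm
  have s02 : ⁅bs 2, bs 0⁆ = -⁅bs 0, bs 2⁆ := (lie_skew _ _).symm
  have s12 : ⁅bs 2, bs 1⁆ = -⁅bs 1, bs 2⁆ := (lie_skew _ _).symm
  constructor
  intro φ
  have : Fact (Nat.Prime 2) := ⟨Nat.prime_two⟩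
  have h := LinearMap.congr_fun (φ.ad_map (bs 0)) (bs 1)
  rw [pow_two, Module.End.mul_apply] at h
  obtain ⟨c, hc⟩ : ∃ c : Fin 3 → R, φ.toFun (bs 0) = ∑ i, c i • bs i := ⟨_, (bs.sum_repr _).symm⟩
  rw [hc] at h
  have h0 := congrArg (fun z => bs.repr z 0) h
  simp [Fin.sum_univ_three, s12, hxy, hxz, hyz] at h0
  have := CharP.nontrivial_of_char_ne_one (R := R) (v := 2) (by norm_num)
  exact one_ne_zero h0

end Groth.Agent.S13777
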