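import Groth.Statements.S13778
import Groth.Agent.PLieLib.Rank3
-- import your own Groth.Agent.* helpers here

set_option autoImplicit false
universe u v
open PLie

namespace Groth.Agent.S13778

set_option maxHeartbeats 4000000

open DualNumber in
/-- Let K be a field of prime characteristic p, K[ε] the ring of dual numbers (taken with its
characteristic-p structure), t ∈ K with t ^ p = t (an element of the prime field), and a, …, i ∈ K.
Let L be a Lie algebra over K[ε], free as a module with basis x = bs 0, y = bs 1, z = bs 2 and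
brackets [x,y] = aε x + (1 + bε) y + cε z, [x,z] = dε x + eε y + (t + fε) z, [y,z] = gε x + hε y +
iε z. Then L carries a p-mapping over K[ε] if and only if b t = f, c = e = 0 when t = 1, and g = 0
when p = 2. (The published statement determines the singular locus of the restrictable locus in the
centreless stratum of the moduli scheme of based three-dimensional Lie algebras, for t non-zero, and
the rank-one-centre stratum treats t = 0; this row states the restrictability criterion for the
first-order deformations of l_t that the proofs compute, over any field of characteristic p in place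
of the prime field and for every t in the prime field.) -/
theorem result (K : Type u) [Field K] (p : ℕ) [Fact p.Prime] [CharP K p]
    [CharP (DualNumber K) p] (t a b c d e f g h i : K) (ht : t ^ p = t)
    (L : Type v) [LieRing L] [LieAlgebra (DualNumber K) L] (bs : Module.Basis (Fin 3) (DualNumber K) L)
    (hxy : ⁅bs 0, bs 1⁆ = (a • ε : DualNumber K) • bs 0 + (1 + b • ε : DualNumber K) • bs 1 + (c • ε : DualNumber K) • bs 2)
    (hxz : ⁅bs 0, bs 2⁆ = (d • ε : DualNumber K) • bs 0 + (e • ε : DualNumber K) • bs 1 +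
      (algebraMap K (DualNumber K) t + f • ε) • bs 2)
    (hyz : ⁅bs 1, bs 2⁆ = (g • ε : DualNumber K) • bs 0 + (h • ε : DualNumber K) • bs 1 + (i • ε : DualNumber K) • bs 2) :
    Nonempty (PLie.PMap (DualNumber K) p L) ↔ (b * t = f ∧ (t = 1 → c = 0 ∧ e = 0) ∧ (p = 2 → g = 0)) := by
  classical
  have hp : p.Prime := Fact.out
  let M := Groth.Agent.PLieLib.mk2 (K := K)
  let A : Fin 3 → DualNumber K := ![M 0 a, M 1 b, M 0 c]
  let B : Fin 3 → DualNumber K := ![M 0 d, M 0 e, M t f]
  let C : Fin 3 → DualNumber K := ![M 0 g, M 0 h, M 0 i]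
  have sm : ∀ u : K, (u • ε : DualNumber K) = M 0 u := fun u => by
    apply Groth.Agent.PLieLib.dual_ext <;> simp [M]
  have hA : ⁅bs 0, bs 1⁆ = Groth.Agent.PLieLib.el bs A := by
    have e1 : (1 + b • ε : DualNumber K) = M 1 b := by
      apply Groth.Agent.PLieLib.dual_ext <;> simp [M]
    rw [hxy, Groth.Agent.PLieLib.el, sm a, sm c, e1]; rfl
  have hB : ⁅bs 0, bs 2⁆ = Groth.Agent.PLieLib.el bs B := by
    have e1 : (algebraMap K (DualNumber K) t + f • ε : DualNumber K) = M t f := by
      apply Groth.Agent.PLieLib.dual_ext <;> simp [M, TrivSqZeroExt.algebraMap_eq_inl]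
    rw [hxz, Groth.Agent.PLieLib.el, sm d, sm e, e1]; rfl
  have hC : ⁅bs 1, bs 2⁆ = Groth.Agent.PLieLib.el bs C := by
    have e1 : (1 : DualNumber K) = M 1 0 := by apply Groth.Agent.PLieLib.dual_ext <;> simp [M]
    rw [hyz, Groth.Agent.PLieLib.el, sm g, sm h, sm i]; rfl
  let s : Fin 3 → Fin 3 → DualNumber K := fun m => Pi.single m 1
  let F := Groth.Agent.PLieLib.br A B C
  rw [Groth.Agent.PLieLib.nonempty_pmap_iff_coords bs p hA hB hC]
  -- the Jacobi identity
  have hjac := Groth.Agent.PLieLib.jacobi_coords bs hA hB hC (s 0) (s 1) (s 2)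
  have hjd : d = t * h := by
    have h1 := congrArg TrivSqZeroExt.snd (congrFun hjac 1)
    simp [s, A, B, C, M, Groth.Agent.PLieLib.br] at h1
    linear_combination -h1
  let S : ℕ → K := fun n => ∑ j ∈ Finset.range n, t ^ j
  have hS : ∀ n, S (n + 1) = S n + t ^ n := fun n => Finset.sum_range_succ _ n
  have hS' : ∀ n, S (n + 1) = t * S n + 1 := fun n => geom_sum_succ
  -- powers of the first generator
  have hx1 : ∀ n : ℕ, (F (s 0))^[n + 1] (s 1) = ![M 0 a, M 1 ((n + 1 : ℕ) * b), M 0 (c * S (n + 1))] ∧
      (F (s 0))^[n + 1] (s 2) = ![M 0 (d * t ^ n), M 0 (e * S (n + 1)), M (t ^ (n + 1)) ((n + 1 : ℕ) * t ^ n * f)] ∧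
      (F (s 0))^[n + 1] (s 0) = 0 := by
    intro n
    induction n with
    | zero =>
      refine ⟨?_, ?_, ?_⟩ <;> (funext m; fin_cases m) <;> apply Groth.Agent.PLieLib.dual_ext <;>
        simp [F, s, A, B, C, M, S, Groth.Agent.PLieLib.br]
    | succ n ih =>
      simp only [Function.iterate_succ_apply' _ (n + 1), ih.1, ih.2.1, ih.2.2]
      refine ⟨?_, ?_, ?_⟩ <;> (funext m; fin_cases m) <;> apply Groth.Agent.PLieLib.dual_ext <;>
        simp [F, s, A, B, C, M, pow_succ, Groth.Agent.PLieLib.br] <;>
        first | ring1 | linear_combination -c * hS' (n + 1) | linear_combination c * hS' (n + 1) |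
          linear_combination -e * hS (n + 1) | linear_combination e * hS (n + 1)
  obtain ⟨q, hq⟩ : ∃ q, p = q + 1 + 1 := ⟨p - 2, by have := hp.two_le; omega⟩
  have hSp : if t = 1 then S p = 0 else S p = 1 := by
    have hg : S p * (t - 1) = t ^ p - 1 := geom_sum_mul t p
    split_ifs with h1
    · subst h1; simp [S, CharP.cast_eq_zero K p]
    · rw [ht] at hg
      exact mul_right_cancel₀ (sub_ne_zero.mpr h1) (hg.trans (one_mul _).symm)
  have hpK : ((p : ℕ) : K) = 0 := CharP.cast_eq_zero K p
  have e0 : q + 1 + 1 = p := hq.symm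
  have hpx := hx1 (q + 1)
  rw [e0, hpK] at hpx
  simp only [zero_mul] at hpx
  have hdq : d * t ^ (q + 1) = d := by
    by_cases h0 : t = 0
    · rw [hjd, h0]; ring
    · have hh : t ^ (q + 1) = 1 := by
        apply mul_right_cancel₀ h0
        rw [← pow_succ, e0, ht, one_mul]
      rw [hh, mul_one]
  rw [hdq] at hpx
  have hbig : p ≠ 2 → ∀ U : Fin 3 → DualNumber K, U = s 1 ∨ U = s 2 → ∃ W, ∀ j,
      (Groth.Agent.PLieLib.br A B C U)^[p] (Pi.single j 1) = Groth.Agent.PLieLib.br A B C W (Pi.single j 1) := by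
    intro h2 U hU
    refine ⟨0, fun j => ?_⟩
    obtain ⟨r, hr⟩ : ∃ r, p = r + 3 := ⟨p - 3, by have := hp.two_le; omega⟩
    rw [hr, Function.iterate_add_apply]
    have hz0 : (Groth.Agent.PLieLib.br A B C U)^[r] 0 = 0 :=
      Function.iterate_fixed (funext fun l => by simp [Groth.Agent.PLieLib.br]) r
    refine (congrArg _ ?_).trans (hz0.trans ?_)
    · show Groth.Agent.PLieLib.br A B C U (Groth.Agent.PLieLib.br A B C U (Groth.Agent.PLieLib.br A B C U _)) = 0
      rcases hU with rfl | rfl <;> fin_cases j <;> (funext l; fin_cases l) <;> apply Groth.Agent.PLieLib.dual_ext <;>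
        simp [s, A, B, C, M, Groth.Agent.PLieLib.br] <;> ring
    · funext l; simp [Groth.Agent.PLieLib.br]
  constructor
  · intro hall
    obtain ⟨W, hW⟩ := hall 0
    have hy := hW 1
    have hz := hW 2
    rw [show (Pi.single 1 1 : Fin 3 → DualNumber K) = s 1 from rfl] at hy
    rw [show (Pi.single 2 1 : Fin 3 → DualNumber K) = s 2 from rfl] at hz
    rw [show Groth.Agent.PLieLib.br A B C (Pi.single 0 1) = F (s 0) from rfl, hpx.1] at hy
    rw [show Groth.Agent.PLieLib.br A B C (Pi.single 0 1) = F (s 0) from rfl, hpx.2.1] at hz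
    have y1f := congrArg TrivSqZeroExt.fst (congrFun hy 1)
    have y1s := congrArg TrivSqZeroExt.snd (congrFun hy 1)
    have y2f := congrArg TrivSqZeroExt.fst (congrFun hy 2)
    have y2s := congrArg TrivSqZeroExt.snd (congrFun hy 2)
    have z2f := congrArg TrivSqZeroExt.fst (congrFun hz 2)
    have z2s := congrArg TrivSqZeroExt.snd (congrFun hz 2)
    have z1f := congrArg TrivSqZeroExt.fst (congrFun hz 1)
    have z1s := congrArg TrivSqZeroExt.snd (congrFun hz 1)
    obtain ⟨Wx, hWx⟩ : ∃ X, W = X := ⟨W, rfl⟩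
    have x2f := congrArg TrivSqZeroExt.fst (congrFun (hW 0) 2)
    have x1f := congrArg TrivSqZeroExt.fst (congrFun (hW 0) 1)
    rw [show Groth.Agent.PLieLib.br A B C (Pi.single 0 1) = F (s 0) from rfl,
      show (Pi.single 0 1 : Fin 3 → DualNumber K) = s 0 from rfl, hpx.2.2] at x2f x1f
    simp [s, A, B, C, M, Groth.Agent.PLieLib.br] at y1f y1s y2f y2s z2f z2s z1f z1s x2f x1f
    refine ⟨?_, fun h1 => ?_, fun h2 => ?_⟩
    · rw [← y1f, one_mul, x1f, zero_mul, add_zero] at z2s
      rw [← y1f, one_mul] at y1s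
      rcases x2f with h3 | h3
      · rw [h3] at y1s; linear_combination z2s - t * y1s
      · rw [h3] at z2s ⊢; linear_combination z2s
    · have hw2 := x2f.resolve_right (by rw [h1]; exact one_ne_zero)
      rw [if_pos h1] at hSp
      rw [hSp, ← y1f, hw2] at y2s
      rw [hSp, ← y1f, x1f] at z1s
      exact ⟨by linear_combination -y2s, by linear_combination -z1s⟩
    · subst h2
      obtain ⟨V, hV⟩ := hall 1
      have v := congrArg TrivSqZeroExt.snd (congrFun (hV 2) 1)
      have v' := congrArg TrivSqZeroExt.fst (congrFun (hV 1) 1)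
      have v2 := congrArg TrivSqZeroExt.fst (congrFun (hV 0) 1)
      simp [s, A, B, C, M, Groth.Agent.PLieLib.br, Function.iterate_succ_apply'] at v v' v2
      rw [← v', v2] at v
      linear_combination -v
  · rintro ⟨hbt, htc, hg⟩
    have hce : c * S p = c ∧ e * S p = e := by
      by_cases h1 : t = 1
      · rw [if_pos h1] at hSp; simp [hSp, htc h1]
      · rw [if_neg h1] at hSp; simp [hSp]
    rw [hce.1, hce.2, ht] at hpx
    intro m
    fin_cases m
    · refine ⟨![M 1 (-b), M 0 0, M 0 0], fun j => ?_⟩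
      fin_cases j
      · refine hpx.2.2.trans ?_
        funext l; fin_cases l <;> apply Groth.Agent.PLieLib.dual_ext <;> simp [A, B, C, M, Groth.Agent.PLieLib.br]
      · refine hpx.1.trans ?_
        funext l; fin_cases l <;> apply Groth.Agent.PLieLib.dual_ext <;> simp [A, B, C, M, Groth.Agent.PLieLib.br]
      · refine hpx.2.1.trans ?_
        funext l; fin_cases l <;> apply Groth.Agent.PLieLib.dual_ext <;>
          simp [A, B, C, M, Groth.Agent.PLieLib.br, ← hbt] <;> ring
    all_goals
      rcases eq_or_ne p 2 with h2 | h2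
    · subst h2
      have hg0 := hg rfl
      refine ⟨![M 0 0, M 0 (-a), M 0 0], fun j => ?_⟩
      show Groth.Agent.PLieLib.br A B C _ (Groth.Agent.PLieLib.br A B C _ _) = _
      fin_cases j <;> (funext l; fin_cases l) <;> apply Groth.Agent.PLieLib.dual_ext <;>
        simp [A, B, C, M, Groth.Agent.PLieLib.br, hg0]
    · exact hbig h2 _ (Or.inl rfl)
    · subst h2
      have hg0 := hg rfl
      refine ⟨![M 0 0, M 0 0, M 0 (-d)], fun j => ?_⟩
      show Groth.Agent.PLieLib.br A B C _ (Groth.Agent.PLieLib.br A B C _ _) = _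
      fin_cases j <;> (funext l; fin_cases l) <;> apply Groth.Agent.PLieLib.dual_ext <;>
        simp [A, B, C, M, Groth.Agent.PLieLib.br, hg0] <;> ring
    · exact hbig h2 _ (Or.inr rfl)

end Groth.Agent.S13778
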