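import Groth.Statements.S13779
import Groth.Agent.PLieLib.Exists
-- import your own Groth.Agent.* helpers here

set_option autoImplicit false
universe u v
open PLie

namespace Groth.Agent.S13779

/-- Let p be an odd prime, R a commutative ring of characteristic p, t ∈ R, and L a Lie algebra over R,
free as a module with basis x = bs 0, y = bs 1, z = bs 2 and brackets [x,y] = z, [x,z] = t • y,
[y,z] = 0. Then L carries a p-mapping φ with φ x = t ^ ((p - 1) / 2) • x, φ y = 0 and φ z = 0. (The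
published statement concerns the Lie algebra with these brackets over a field of Laurent series
k((t)), k algebraically closed of odd characteristic, t the variable; this row states its
restrictability over every commutative ring of odd prime characteristic and every t.) -/
theorem result (R : Type u) [CommRing R] (p : ℕ) [Fact p.Prime] [CharP R p] (hp : p ≠ 2)
    (t : R) (L : Type v) [LieRing L] [LieAlgebra R L] (bs : Module.Basis (Fin 3) R L)
    (hxy : ⁅bs 0, bs 1⁆ = bs 2) (hxz : ⁅bs 0, bs 2⁆ = t • bs 1) (hyz : ⁅bs 1, bs 2⁆ = 0) :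
    ∃ φ : PLie.PMap R p L, φ (bs 0) = t ^ ((p - 1) / 2) • bs 0 ∧ φ (bs 1) = 0 ∧ φ (bs 2) = 0 := by
  obtain ⟨m, hm⟩ := (Fact.out : p.Prime).odd_of_ne_two hp
  have s01 : ⁅bs 1, bs 0⁆ = -⁅bs 0, bs 1⁆ := (lie_skew _ _).symm
  have s02 : ⁅bs 2, bs 0⁆ = -⁅bs 0, bs 2⁆ := (lie_skew _ _).symm
  have s12 : ⁅bs 2, bs 1⁆ = -⁅bs 1, bs 2⁆ := (lie_skew _ _).symm
  have hm2 : (p - 1) / 2 = m := by omega
  have hx : ∀ j : ℕ, (LieAlgebra.ad R L (bs 0) ^ (2 * j + 1)) (bs 1) = t ^ j • bs 2 ∧
      (LieAlgebra.ad R L (bs 0) ^ (2 * j + 1)) (bs 2) = t ^ (j + 1) • bs 1 := by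
    intro j
    induction j with
    | zero => simp [hxy, hxz]
    | succ j ih =>
      rw [show 2 * (j + 1) + 1 = (2 * j + 1) + 1 + 1 from rfl, pow_succ', pow_succ']
      simp only [Module.End.mul_apply, ih.1, ih.2, LieAlgebra.ad_apply, lie_smul, hxy, hxz, smul_smul]
      exact ⟨by rw [← pow_succ], by rw [← pow_succ]⟩
  obtain ⟨φ, hφ⟩ := Groth.Agent.PLieLib.exists_pmap (p := p) bs ![t ^ m • bs 0, 0, 0] fun i => by
    fin_cases i
    · refine bs.ext fun j => ?_
      fin_cases j
      · rw [hm, pow_succ, Module.End.mul_apply]; simp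
      · simp [hm, (hx m).1, hxy]
      · rw [hm]
        simp [(hx m).2, hxz, smul_smul]
        rw [← pow_succ]
    all_goals
      refine bs.ext fun j => ?_
      obtain ⟨q, hq⟩ : ∃ q, p = q + 1 + 1 := ⟨p - 2, by have := (Fact.out : p.Prime).two_le; omega⟩
      rw [hq, pow_succ, pow_succ, mul_assoc, Module.End.mul_apply, Module.End.mul_apply]
      fin_cases j <;> simp [s01, s02, s12, hxy, hxz, hyz]
  exact ⟨φ, by rw [hφ, hm2]; rfl, hφ 1, hφ 2⟩

end Groth.Agent.S13779
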