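import Groth.Statements.S13780
import Groth.Agent.PLieLib.Exists
-- import your own Groth.Agent.* helpers here

set_option autoImplicit false
universe u v w
open PLie

namespace Groth.Agent.S13780

/-- Let R be a commutative ring of prime characteristic p, L and L' Lie algebras over R with p-mappings
γ and γ', the centre of L' being zero, and φ : L ≃ L' an isomorphism of Lie algebras over R. Then φ
(γ x) = γ' (φ x) for every x: φ is an isomorphism of p-Lie algebras. (The published statement is the
case L' = L of a centreless restrictable Lie algebra over a field with its unique p-mapping and a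
Lie algebra automorphism; this row allows two algebras and any commutative base ring of
characteristic p.) -/
theorem result (R : Type u) [CommRing R] (p : ℕ) [Fact p.Prime] [CharP R p]
    (L : Type v) [LieRing L] [LieAlgebra R L] (L' : Type w) [LieRing L'] [LieAlgebra R L']
    (γ : PLie.PMap R p L) (γ' : PLie.PMap R p L') (hZ : LieAlgebra.center R L' = ⊥) (φ : L ≃ₗ⁅R⁆ L') :
    PLie.IsPHom γ γ' φ.toLieHom := by
  intro x
  have key : ∀ (n : ℕ) (z : L), φ ((LieAlgebra.ad R L x ^ n) z) = (LieAlgebra.ad R L' (φ x) ^ n) (φ z) := by
    intro n
    induction n with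
    | zero => intro z; rfl
    | succ n ih =>
      intro z
      simp only [pow_succ', Module.End.mul_apply, LieAlgebra.ad_apply, LieEquiv.map_lie, ih]
  refine sub_eq_zero.mp ((LieSubmodule.eq_bot_iff _).mp hZ _ ((LieModule.mem_maxTrivSubmodule _ _ _ _).mpr fun a => ?_))
  obtain ⟨z, rfl⟩ := φ.surjective a
  rw [← lie_skew, neg_eq_zero, sub_lie, sub_eq_zero, LieEquiv.coe_toLieHom, ← LieEquiv.map_lie,
    ← LieAlgebra.ad_apply R, ← LieAlgebra.ad_apply R, γ.ad_map, γ'.ad_map, key]

end Groth.Agent.S13780
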